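import Groth.Statements.S15875
import Groth.Agent.AGF.K500.QcDesc
import Groth.Agent.Localalg.GrpSchComp2
import Groth.Agent.Sga3C.KerSquare
import Groth.Agent.AGF.K500.BcBasic

set_option autoImplicit false
universe u
open CategoryTheory MonoidalCategory CartesianMonoidalCategory MonObj GrpObj AlgebraicGeometry
open AGF

namespace Groth.Agent.S15875

/-- Let k'/k be a finite purely inseparable field extension, G a k-group locally of finite type, q :
G_{k'} → Ḡ a faithfully flat homomorphism onto a k'-group Ḡ locally of finite type with
quasi-compact kernel N, and (R, q_R) a Weil restriction of Ḡ to k carrying a group structure for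
which q_R is a homomorphism. Then the comparison morphism i : G → R corresponding to q is
quasi-compact. (The published statement allows any finite extension k'/k and adds that the kernel of
i is quasi-compact as well; the published proof goes through the purely inseparable case of the
kernel of the counit of Weil restriction, so k'/k is taken purely inseparable here.) -/
theorem result (k k' : Type u) [Field k] [Field k'] [Algebra k k']
    [Module.Finite k k'] [IsPurelyInseparable k k']
    (G : Over (Spec (CommRingCat.of k))) [GrpObj G] [LocallyOfFiniteType G.hom]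
    (Gbar : Over (Spec (CommRingCat.of k'))) [GrpObj Gbar] [LocallyOfFiniteType Gbar.hom]
    (q : Red.bc (Spec.map (CommRingCat.ofHom (algebraMap k k'))) G ⟶ Gbar) [IsMonHom q] [Surjective q.left] [Flat q.left]
    (N : Over (Spec (CommRingCat.of k'))) (iN : N ⟶ Red.bc (Spec.map (CommRingCat.ofHom (algebraMap k k'))) G) (hN : AlgGrp.IsKernel iN q) [CompactSpace N.left]
    (R : Over (Spec (CommRingCat.of k))) [GrpObj R] (qR : Red.bc (Spec.map (CommRingCat.ofHom (algebraMap k k'))) R ⟶ Gbar) [IsMonHom qR]
    (hR : WeilRes.IsWeilRes (Spec.map (CommRingCat.ofHom (algebraMap k k'))) Gbar R qR) :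
    QuasiCompact (hR.lift G q).left := by
  -- q is quasi-compact
  have hGl : LocallyOfFiniteType (Red.bc (Spec.map (CommRingCat.ofHom (algebraMap k k'))) G).hom := by
    dsimp; infer_instance
  have hlft : LocallyOfFiniteType q.left := by
    have : LocallyOfFiniteType (q.left ≫ Gbar.hom) := by rw [Over.w]; exact hGl
    exact locallyOfFiniteType_of_comp q.left Gbar.hom
  have hln : IsLocallyNoetherian Gbar.left := LocallyOfFiniteType.isLocallyNoetherian Gbar.hom
  have hlfp : LocallyOfFinitePresentation q.left := inferInstance
  have hq : QuasiCompact q.left := by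
    obtain ⟨d, hd⟩ := Sga3C.KerSquare.isPullback_fst_ker q
    have h1 : QuasiCompact (Limits.pullback.snd q.left (η[Gbar] : 𝟙_ (Over (Spec (CommRingCat.of k'))) ⟶ Gbar).left) := by
      have h3 := hN.map (Over.forget _)
      have h4 : (toUnit N).left = N.hom := by
        simp
      have h5 : (Over.forget _).map (toUnit N) = N.hom := h4
      rw [h5] at h3
      have h6 : IsPullback iN.left N.hom q.left (η[Gbar] : 𝟙_ (Over (Spec (CommRingCat.of k'))) ⟶ Gbar).left := h3
      have h7 : h6.isoPullback.inv ≫ N.hom =
          Limits.pullback.snd q.left (η[Gbar] : 𝟙_ (Over (Spec (CommRingCat.of k'))) ⟶ Gbar).left := h6.isoPullback_inv_snd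
      rw [← h7]
      have h8 : QuasiCompact N.hom :=
        HasAffineProperty.iff_of_isAffine (P := @QuasiCompact) (Y := Spec (CommRingCat.of k')).2 ‹CompactSpace N.left›
      exact MorphismProperty.comp_mem @QuasiCompact _ _ inferInstance h8
    have h2 : QuasiCompact (Limits.pullback.fst q.left q.left) := MorphismProperty.of_isPullback hd.flip h1
    exact K500.QcDesc.quasiCompact_of_isPullback_open (IsPullback.of_hasPullback q.left q.left).flip
      q.left.isOpenMap
  -- base change of i
  let i := hR.lift G q
  have hi : (Over.pullback (Spec.map (CommRingCat.ofHom (algebraMap k k')))).map i ≫ qR = q := hR.restr_lift G q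
  have hiq : QuasiCompact ((Over.pullback (Spec.map (CommRingCat.ofHom (algebraMap k k')))).map i).left := by
    have h1 : ((Over.pullback (Spec.map (CommRingCat.ofHom (algebraMap k k')))).map i).left ≫ qR.left = q.left := by
      rw [← Over.comp_left, hi]
    have h2 : QuasiCompact (((Over.pullback (Spec.map (CommRingCat.ofHom (algebraMap k k')))).map i).left ≫ qR.left) := by
      rw [h1]; exact hq
    have h3 : IsSeparated (Red.bc (Spec.map (CommRingCat.ofHom (algebraMap k k'))) R).hom :=
      Groth.Agent.Localalg.GrpSchComp2.isSeparated_hom _
    have h4 : IsSeparated qR.left := by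
      have : IsSeparated (qR.left ≫ Gbar.hom) := by rw [Over.w]; exact h3
      exact IsSeparated.of_comp qR.left Gbar.hom
    exact QuasiCompact.of_comp _ qR.left
  obtain ⟨h1, h2, h3⟩ := K500.BcBasic.specMap_props k k'
  have h4 : Surjective (Limits.pullback.fst R.hom (Spec.map (CommRingCat.ofHom (algebraMap k k')))) := inferInstance
  have h5 : QuasiCompact (Limits.pullback.fst R.hom (Spec.map (CommRingCat.ofHom (algebraMap k k')))) := inferInstance
  have h6 := (K500.BcBasic.isPullback_map_left (Spec.map (CommRingCat.ofHom (algebraMap k k'))) i)
  exact K500.QcDesc.quasiCompact_of_isPullback h6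

end Groth.Agent.S15875
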