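import Groth.Statements.S15876
import Groth.Agent.AGF.K500.WKerSm
import Groth.Agent.AGF.K500.WKerPow
import Groth.Agent.AGF.K500.TorTriv

set_option autoImplicit false
universe u
open CategoryTheory MonoidalCategory CartesianMonoidalCategory MonObj GrpObj AlgebraicGeometry
open AGF

namespace Groth.Agent.S15876

/-- Let k'/k be a finite purely inseparable extension, G' a k'-group locally of finite type, (R, q) a
Weil restriction of G' to k with a group structure making q : R_{k'} → G' a homomorphism, and K the
kernel of q. Then K is affine and quasi-compact with no non-trivial subtorus in its geometric fibre,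
and when G' is smooth K is moreover smooth and connected. (The published statement says that K is
unipotent, and split unipotent when G' is smooth; unipotent k'-groups are affine of finite type with
no geometric subtori and split ones are in addition smooth and connected, which is what this row
records, a weaker conclusion.) -/
theorem result (k k' : Type u) [Field k] [Field k']
    [Algebra k k'] [Module.Finite k k'] [IsPurelyInseparable k k']
    (G' : Over (Spec (CommRingCat.of k'))) [GrpObj G'] [LocallyOfFiniteType G'.hom]
    (R : Over (Spec (CommRingCat.of k))) [GrpObj R] (q : Red.bc (Spec.map (CommRingCat.ofHom (algebraMap k k'))) R ⟶ G') [IsMonHom q]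
    (hR : WeilRes.IsWeilRes (Spec.map (CommRingCat.ofHom (algebraMap k k'))) G' R q)
    (K : Over (Spec (CommRingCat.of k'))) [GrpObj K] (iK : K ⟶ Red.bc (Spec.map (CommRingCat.ofHom (algebraMap k k'))) R) [IsMonHom iK]
    (hK : AlgGrp.IsKernel iK q) :
    (IsAffine K.left ∧ CompactSpace ↥K.left ∧ (∀ s : ↥(Spec (CommRingCat.of k')), Red.HasNoSubtorus (AlgebraicClosure ((Spec (CommRingCat.of k')).residueField s)) (Red.geomFibre s K))) ∧
    (Smooth G'.hom → Smooth K.hom ∧ ConnectedSpace ↥K.left) := by
  have haff : IsAffine K.left := by
    obtain ⟨P, _, _, _, ⟨e⟩⟩ := K500.WKerSm.exists_iso_sp hR hK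
    have h0 : IsAffine ((Over.forget (Spec (CommRingCat.of k'))).obj (K500.WKerCorr.sp k' P)) :=
      inferInstanceAs (IsAffine (Spec (CommRingCat.of P)))
    exact IsAffine.of_isIso ((Over.forget _).mapIso e).inv
  refine ⟨⟨haff, inferInstance, fun s => ?_⟩, fun hsm => ?_⟩
  · obtain ⟨m, hm, h⟩ := K500.WKerPow.exists_pow_eq_one hR hK
    exact K500.TorTriv.hasNoSubtorus_of_pow K (Red.geomPt s) m hm h
  · obtain ⟨m, _, ⟨e⟩⟩ := K500.WKerSm.exists_iso_poly hR hK
    have h1 : Smooth (Spec.map (CommRingCat.ofHom (algebraMap k' (MvPolynomial m k')))) := by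
      rw [HasRingHomProperty.Spec_iff (P := @Smooth)]
      have h4 : Algebra.Smooth k' (MvPolynomial m k') := ⟨inferInstance, inferInstance⟩
      exact RingHom.smooth_algebraMap.2 h4
    have h2 : K.hom = e.inv.left ≫ Spec.map (CommRingCat.ofHom (algebraMap k' (MvPolynomial m k'))) :=
      (Over.w e.inv).symm
    constructor
    · rw [h2]
      have : IsIso e.inv.left := inferInstanceAs (IsIso ((Over.forget _).map e.inv))
      infer_instance
    · have h3 : ConnectedSpace (Spec (CommRingCat.of (MvPolynomial m k'))) :=
        inferInstanceAs (ConnectedSpace (PrimeSpectrum (MvPolynomial m k')))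
      have h5 : ConnectedSpace ↥((Over.forget (Spec (CommRingCat.of k'))).obj
          (K500.WKerCorr.sp k' (MvPolynomial m k'))) := h3
      exact (Scheme.homeoOfIso ((Over.forget _).mapIso e)).surjective.connectedSpace
        (Scheme.homeoOfIso ((Over.forget _).mapIso e)).continuous

end Groth.Agent.S15876
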