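import Groth.Statements.S15877
import Groth.Agent.AGF.K500.WKerAff
import Groth.Agent.AGF.K500.HomogAff
import Groth.Agent.Grpsch.KerMul
-- import your own Groth.Agent.* helpers here

set_option autoImplicit false
universe u
open CategoryTheory MonoidalCategory CartesianMonoidalCategory MonObj GrpObj AlgebraicGeometry
open AGF

namespace Groth.Agent.S15877

/-- Let k'/k be finite purely inseparable, G a k-group locally of finite type, q : G_{k'} → Ḡ a
faithfully flat homomorphism onto a k'-group locally of finite type with quasi-compact kernel, (R,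
q_R) a Weil restriction of Ḡ to k with a group structure making q_R a homomorphism, i : G → R the
comparison homomorphism corresponding to q, H the closed subgroup of R through which i factors by a
faithfully flat homomorphism, and (Q, q₀) the fppf homogeneous space R/H. Then Q is an affine
scheme. -/
theorem result (k k' : Type u) [Field k] [Field k']
    [Algebra k k'] [Module.Finite k k'] [IsPurelyInseparable k k']
    (G : Over (Spec (CommRingCat.of k))) [GrpObj G] [LocallyOfFiniteType G.hom]
    (Gbar : Over (Spec (CommRingCat.of k'))) [GrpObj Gbar] [LocallyOfFiniteType Gbar.hom]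
    (q : Red.bc (Spec.map (CommRingCat.ofHom (algebraMap k k'))) G ⟶ Gbar) [IsMonHom q] [Surjective q.left] [Flat q.left]
    (N : Over (Spec (CommRingCat.of k'))) (iN : N ⟶ Red.bc (Spec.map (CommRingCat.ofHom (algebraMap k k'))) G) (hN : AlgGrp.IsKernel iN q) [CompactSpace N.left]
    (R : Over (Spec (CommRingCat.of k))) [GrpObj R] (qR : Red.bc (Spec.map (CommRingCat.ofHom (algebraMap k k'))) R ⟶ Gbar) [IsMonHom qR]
    (hR : WeilRes.IsWeilRes (Spec.map (CommRingCat.ofHom (algebraMap k k'))) Gbar R qR)
    (H : Over (Spec (CommRingCat.of k))) [GrpObj H] (j : H ⟶ R) [IsMonHom j] [IsClosedImmersion j.left]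
    (p : G ⟶ H) [IsMonHom p] [Surjective p.left] [Flat p.left] (hfac : p ≫ j = hR.lift G q)
    (Q : Over (Spec (CommRingCat.of k))) (aQ : AlgGrp.Action R Q) (q₀ : 𝟙_ (Over (Spec (CommRingCat.of k))) ⟶ Q)
    (hQ : ChGrp.IsHomog Scheme.fppfPrecoverage j aQ q₀) :
    IsAffine Q.left := by
  obtain ⟨hj, hcart, htriv⟩ := hQ
  obtain ⟨K, _, iK, hiK, hK⟩ := Groth.Agent.Grpsch.KerMul.exists_kernel qR
  have hK' : AlgGrp.IsKernel iK qR := hK
  obtain ⟨hKaff, hKlft⟩ := K500.WKerAff.isAffine_lft hR hK'
  have hKQ := K500.WKerAff.affQuot hR hK'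
  obtain ⟨U, c, s, hc1, hc2, hc3, hsc⟩ := K500.HomogCov.exists_cover _ htriv
  let f : Spec (CommRingCat.of k') ⟶ Spec (CommRingCat.of k) := Spec.map (CommRingCat.ofHom (algebraMap k k'))
  let Uo : Over (Spec (CommRingCat.of k)) := Over.mk (c ≫ Q.hom)
  let co : Uo ⟶ Q := Over.homMk c rfl
  let so : Uo ⟶ R := Over.homMk s (by
    change s ≫ R.hom = c ≫ Q.hom
    rw [← hsc, Category.assoc]
    congr 1
    exact (Over.w (aQ.orbitMap q₀)).symm)
  have hso : so ≫ aQ.orbitMap q₀ = co := by
    ext1
    exact hsc
  have hπ : ∀ {T : Over (Spec (CommRingCat.of k))} (g g' : T ⟶ R), g ≫ aQ.orbitMap q₀ = g' ≫ aQ.orbitMap q₀ ↔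
      ∃ h : T ⟶ H, g' = g * (h ≫ j) := fun g g' =>
    Groth.Agent.Agf.H584.QBasic.eq_iff_of_isPullback hcart g g'
  have : IsLocallyNoetherian Gbar.left := LocallyOfFiniteType.isLocallyNoetherian Gbar.hom
  have hqlft : LocallyOfFiniteType q.left := by
    have h1 : LocallyOfFiniteType (Red.bc f G).hom := inferInstanceAs (LocallyOfFiniteType (Limits.pullback.snd G.hom f))
    have h2 : LocallyOfFiniteType (q.left ≫ Gbar.hom) := by
      rw [Over.w]
      exact h1
    exact locallyOfFiniteType_of_comp q.left Gbar.hom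
  have hqlfp : LocallyOfFinitePresentation q.left := by
    rw [LocallyOfFinitePresentation.iff_locallyOfFiniteType]
    exact hqlft
  have hjc : IsClosedImmersion ((Over.pullback f).map j).left :=
    Groth.Agent.Agf.H584.QBc.prop_bc (P := @IsClosedImmersion) f j inferInstance
  have hc1' : Flat ((Over.pullback f).map co).left := Groth.Agent.Agf.H584.QBc.prop_bc (P := @Flat) f co hc1
  have hc2' : Surjective ((Over.pullback f).map co).left := Groth.Agent.Agf.H584.QBc.prop_bc (P := @Surjective) f co hc2
  have hc3' : LocallyOfFinitePresentation ((Over.pullback f).map co).left :=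
    Groth.Agent.Agf.H584.QBc.prop_bc (P := @LocallyOfFinitePresentation) f co hc3
  have hp : (Over.pullback f).map p ≫ (Over.pullback f).map j ≫ qR = q := by
    rw [← Category.assoc, ← Functor.map_comp, hfac]
    exact hR.restr_lift G q
  have h7 : IsAffine (Red.bc f Q).left := K500.HomogAff.isAffine_of_kernel hKQ ((Over.pullback f).map j)
    ((Over.pullback f).map (aQ.orbitMap q₀)) (fun g g' => K500.HomogAff.eq_iff_bc f hπ g g') qR iK hK' q
    ((Over.pullback f).map p) hp ((Over.pullback f).map co) ((Over.pullback f).map so)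
    (by rw [← Functor.map_comp, hso])
  have h8 : IsAffine (Limits.pullback Q.hom f) := h7
  have h9 : IsAffineHom (Limits.pullback.snd Q.hom f) := inferInstance
  have h10 : Surjective f := ⟨fun x => ⟨Classical.arbitrary _, Subsingleton.elim (α := Spec (CommRingCat.of k)) _ _⟩⟩
  have := Groth.Agent.S0082.result.{u}
  have h11 : IsAffineHom Q.hom := MorphismProperty.of_isPullback_of_descendsAlong (P := @IsAffineHom)
    (Q := @Surjective ⊓ @Flat ⊓ @QuasiCompact) (IsPullback.of_hasPullback Q.hom f).flip
    ⟨⟨h10, inferInstance⟩, inferInstance⟩ h9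
  exact isAffine_of_isAffineHom Q.hom

end Groth.Agent.S15877
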