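import Groth.Statements.S15878
import Groth.Agent.AGF.K500.WKerAff
import Groth.Agent.S0082
import Groth.Agent.AGF.K500.HomogAff
import Groth.Agent.Grpsch.KerMul
import Groth.Agent.AGF.K500.WKerPow
import Groth.Agent.AGF.K500.TorTriv

set_option autoImplicit false
universe u
open CategoryTheory MonoidalCategory CartesianMonoidalCategory MonObj GrpObj AlgebraicGeometry
open AGF

namespace Groth.Agent.S15878

/-- With k'/k finite purely inseparable, G a k-group locally of finite type, q : G_{k'} → Ḡ a faithfully
flat homomorphism with quasi-compact kernel onto a commutative k'-group locally of finite type, (R,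
q_R) a Weil restriction of Ḡ to k with q_R a homomorphism, H the image of the comparison
homomorphism i : G → R (H a closed subgroup of R through which i factors by a faithfully flat
homomorphism), and π : R → Q the fppf quotient group of R by H: Q is affine and its geometric fibre
has no non-trivial subtorus. (The published statement says that Q is a commutative unipotent
k-group; the absence of geometric subtori is the weaker property recorded here, and commutativity is
inherited from R.) -/
theorem result (k k' : Type u) [Field k] [Field k']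
    [Algebra k k'] [Module.Finite k k'] [IsPurelyInseparable k k']
    (G : Over (Spec (CommRingCat.of k))) [GrpObj G] [LocallyOfFiniteType G.hom]
    (Gbar : Over (Spec (CommRingCat.of k'))) [GrpObj Gbar] [LocallyOfFiniteType Gbar.hom]
    (q : Red.bc (Spec.map (CommRingCat.ofHom (algebraMap k k'))) G ⟶ Gbar) [IsMonHom q] [Surjective q.left] [Flat q.left]
    (N : Over (Spec (CommRingCat.of k'))) (iN : N ⟶ Red.bc (Spec.map (CommRingCat.ofHom (algebraMap k k'))) G) (hN : AlgGrp.IsKernel iN q) [CompactSpace N.left]
    (R : Over (Spec (CommRingCat.of k))) [GrpObj R] (qR : Red.bc (Spec.map (CommRingCat.ofHom (algebraMap k k'))) R ⟶ Gbar) [IsMonHom qR]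
    (hR : WeilRes.IsWeilRes (Spec.map (CommRingCat.ofHom (algebraMap k k'))) Gbar R qR)
    (H : Over (Spec (CommRingCat.of k))) [GrpObj H] (j : H ⟶ R) [IsMonHom j] [IsClosedImmersion j.left]
    (p : G ⟶ H) [IsMonHom p] [Surjective p.left] [Flat p.left] (hfac : p ≫ j = hR.lift G q)
    [IsCommMonObj Gbar]
    (Q : Over (Spec (CommRingCat.of k))) [GrpObj Q] (π : R ⟶ Q) [IsMonHom π] (hQ : RedSub.IsQuotient j π) :
    IsAffine Q.left ∧ (∀ s : ↥(Spec (CommRingCat.of k)), Red.HasNoSubtorus (AlgebraicClosure ((Spec (CommRingCat.of k)).residueField s)) (Red.geomFibre s Q)) := by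
  obtain ⟨hπs, hπf, hπl, hπp⟩ := hQ
  obtain ⟨K, _, iK, hiK, hK⟩ := Groth.Agent.Grpsch.KerMul.exists_kernel qR
  have hK' : AlgGrp.IsKernel iK qR := hK
  have hπ : ∀ {T : Over (Spec (CommRingCat.of k))} (g g' : T ⟶ R), g ≫ π = g' ≫ π ↔
      ∃ h : T ⟶ H, g' = g * (h ≫ j) := fun g g' =>
    Groth.Agent.Agf.H584.QBasic.eq_iff_of_isPullback hπp g g'
  let f : Spec (CommRingCat.of k') ⟶ Spec (CommRingCat.of k) := Spec.map (CommRingCat.ofHom (algebraMap k k'))
  have h10 : Surjective f := ⟨fun x => ⟨Classical.arbitrary _, Subsingleton.elim (α := Spec (CommRingCat.of k)) _ _⟩⟩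
  have hp : (Over.pullback f).map p ≫ (Over.pullback f).map j ≫ qR = q := by
    rw [← Category.assoc, ← Functor.map_comp, hfac]
    exact hR.restr_lift G q
  constructor
  · obtain ⟨hKaff, hKlft⟩ := K500.WKerAff.isAffine_lft hR hK'
    have hKQ := K500.WKerAff.affQuot hR hK'
    have : IsLocallyNoetherian Gbar.left := LocallyOfFiniteType.isLocallyNoetherian Gbar.hom
    have hqlft : LocallyOfFiniteType q.left := by
      have h1 : LocallyOfFiniteType (Red.bc f G).hom := inferInstanceAs (LocallyOfFiniteType (Limits.pullback.snd G.hom f))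
      have h2 : LocallyOfFiniteType (q.left ≫ Gbar.hom) := by
        rw [Over.w]
        exact h1
      exact locallyOfFiniteType_of_comp q.left Gbar.hom
    have hqlfp : LocallyOfFinitePresentation q.left := by
      rw [LocallyOfFinitePresentation.iff_locallyOfFiniteType]
      exact hqlft
    have hjc : IsClosedImmersion ((Over.pullback f).map j).left :=
      Groth.Agent.Agf.H584.QBc.prop_bc (P := @IsClosedImmersion) f j inferInstance
    have hc1' : Flat ((Over.pullback f).map π).left := Groth.Agent.Agf.H584.QBc.prop_bc (P := @Flat) f π hπf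
    have hc2' : Surjective ((Over.pullback f).map π).left := Groth.Agent.Agf.H584.QBc.prop_bc (P := @Surjective) f π hπs
    have hc3' : LocallyOfFinitePresentation ((Over.pullback f).map π).left :=
      Groth.Agent.Agf.H584.QBc.prop_bc (P := @LocallyOfFinitePresentation) f π hπl
    have h7 : IsAffine (Red.bc f Q).left := K500.HomogAff.isAffine_of_kernel hKQ ((Over.pullback f).map j)
      ((Over.pullback f).map π) (fun g g' => K500.HomogAff.eq_iff_bc f hπ g g') qR iK hK' q
      ((Over.pullback f).map p) hp ((Over.pullback f).map π) (𝟙 _)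
      (Category.id_comp _)
    have h8 : IsAffine (Limits.pullback Q.hom f) := h7
    have h9 : IsAffineHom (Limits.pullback.snd Q.hom f) := inferInstance
    have := Groth.Agent.S0082.result.{u}
    have h11 : IsAffineHom Q.hom := MorphismProperty.of_isPullback_of_descendsAlong (P := @IsAffineHom)
      (Q := @Surjective ⊓ @Flat ⊓ @QuasiCompact) (IsPullback.of_hasPullback Q.hom f).flip
      ⟨⟨h10, inferInstance⟩, inferInstance⟩ h9
    exact isAffine_of_isAffineHom Q.hom
  · obtain ⟨m, hm, hpow⟩ := K500.WKerPow.exists_pow_eq_one hR hK'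
    have hflatf : Flat f := inferInstance
    -- epimorphisms
    have hepi : ∀ {S : Scheme.{u}} {X Y : Over S} (a : X ⟶ Y), Flat a.left → Surjective a.left → Epi a := by
      intro S X Y a h1 h2
      have : Epi a.left := Flat.epi_of_flat_of_surjective _
      exact Over.epi_of_epi_left a
    have hkone : ∀ {T : Over (Spec (CommRingCat.of k'))} (x : T ⟶ K), x ≫ iK ≫ qR = 1 := fun x => by
      rw [hK'.w, ← Category.assoc, Hom.one_def]
      congr 1
      exact toUnit_unique _ _
    -- points of `R` over `k'`
    have h1 : ∀ (U : Over (Spec (CommRingCat.of k'))) (r : U ⟶ Red.bc f R),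
        (r ≫ (Over.pullback f).map π) ^ m = 1 := by
      intro U r
      have hw : Limits.pullback.fst (r ≫ qR) q ≫ r ≫ qR = Limits.pullback.snd (r ≫ qR) q ≫ q :=
        Limits.pullback.condition
      have e1 : Epi (Limits.pullback.fst (r ≫ qR) q) := hepi _
        (Groth.Agent.Agf.H584.QExt.of_isPullback' (P := @Flat) (IsPullback.of_hasPullback (r ≫ qR) q).flip inferInstance)
        (Groth.Agent.Agf.H584.QExt.of_isPullback' (P := @Surjective) (IsPullback.of_hasPullback (r ≫ qR) q).flip inferInstance)
      rw [← cancel_epi (Limits.pullback.fst (r ≫ qR) q), MonObj.comp_pow, MonObj.comp_one]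
      let r' : Limits.pullback (r ≫ qR) q ⟶ Red.bc f R := Limits.pullback.fst (r ≫ qR) q ≫ r
      let h : Limits.pullback (r ≫ qR) q ⟶ Red.bc f H := Limits.pullback.snd (r ≫ qR) q ≫ (Over.pullback f).map p
      have h1 : (r' * (h ≫ (Over.pullback f).map j)⁻¹) ≫ qR = 1 := by
        rw [MonObj.mul_comp, GrpObj.inv_comp, mul_inv_eq_one]
        simp only [r', h, Category.assoc]
        rw [hw, hp]
      have h1' : (r' * (h ≫ (Over.pullback f).map j)⁻¹) ≫ qR = toUnit _ ≫ η[Gbar] := h1
      let κ := hK'.lift (r' * (h ≫ (Over.pullback f).map j)⁻¹) (toUnit _) h1'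
      have hκ : κ ≫ iK = r' * (h ≫ (Over.pullback f).map j)⁻¹ := hK'.lift_fst _ _ h1'
      have h2 : κ ≫ iK ≫ (Over.pullback f).map π = r' ≫ (Over.pullback f).map π := by
        rw [← Category.assoc, hκ]
        exact (K500.HomogAff.eq_iff_bc f hπ (r' * (h ≫ (Over.pullback f).map j)⁻¹) r').2
          ⟨h, by rw [inv_mul_cancel_right]⟩
      rw [← Category.assoc]
      change (r' ≫ (Over.pullback f).map π) ^ m = 1
      rw [← h2, ← MonObj.pow_comp, hpow, MonObj.one_comp]
    have h2 : ∀ (U : Over (Spec (CommRingCat.of k'))) (x : U ⟶ Red.bc f Q), x ^ m = 1 := by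
      intro U x
      have hfl : Flat ((Over.pullback f).map π).left := Groth.Agent.Agf.H584.QBc.prop_bc (P := @Flat) f π hπf
      have hsu : Surjective ((Over.pullback f).map π).left := Groth.Agent.Agf.H584.QBc.prop_bc (P := @Surjective) f π hπs
      have e1 : Epi (Limits.pullback.fst x ((Over.pullback f).map π)) := hepi _
        (Groth.Agent.Agf.H584.QExt.of_isPullback' (P := @Flat) (IsPullback.of_hasPullback x ((Over.pullback f).map π)).flip hfl)
        (Groth.Agent.Agf.H584.QExt.of_isPullback' (P := @Surjective) (IsPullback.of_hasPullback x ((Over.pullback f).map π)).flip hsu)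
      rw [← cancel_epi (Limits.pullback.fst x ((Over.pullback f).map π)), MonObj.comp_pow, MonObj.comp_one,
        Limits.pullback.condition]
      exact h1 _ _
    intro s
    refine K500.TorTriv.hasNoSubtorus_of_pow Q (Red.geomPt s) m hm fun T x => ?_
    let c : (Over.map f).obj (Red.bc f T) ⟶ T := (Over.mapPullbackAdj f).counit.app T
    have hcl : c.left = Limits.pullback.fst T.hom f := by
      simp [c]
    have hc : Epi c := hepi _ (by rw [hcl]; infer_instance) (by rw [hcl]; infer_instance)
    rw [← cancel_epi c, MonObj.comp_pow, MonObj.comp_one]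
    apply (Groth.Agent.Sga3B.BcPts.bcMulEquiv f _ Q).injective
    rw [map_pow, map_one]
    exact h2 _ _

end Groth.Agent.S15878
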