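import Groth.Statements.S15879
import Groth.Agent.NonAbH1.K551.OrbFin
import Groth.Agent.NonAbH1.K551.OrbNil

set_option autoImplicit false
universe u
open CategoryTheory MonoidalCategory CartesianMonoidalCategory MonObj GrpObj AlgebraicGeometry
open NonAbH1

namespace Groth.Agent.S15879

open K551.OrbSch K551.OrbNil K551.Tors

/-- The case of a bijective extension. -/
theorem of_isIso {S S' : Scheme.{u}} (π : S' ⟶ S) [IsIso π] {X : Over S'}
    (h : NonAbH1.IsLocallyTrivialFor Scheme.fppfPrecoverage X) :
    ∃ RS ∈ Scheme.fppfPrecoverage S, ∀ ⦃V : Scheme.{u}⦄ (g : V ⟶ S), RS g →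
      NonAbH1.HasSectionOver X (Limits.pullback.snd g π) := by
  obtain ⟨W, c, hc1, hc2, hc3, σ, hσ⟩ := exists_cover_of_isLocallyTrivial h
  refine ⟨_, Scheme.Hom.singleton_mem_fppfPrecoverage (c ≫ π), ?_⟩
  rintro Y g ⟨⟩
  refine ⟨Limits.pullback.fst (c ≫ π) π ≫ σ, ?_⟩
  rw [Category.assoc, hσ, ← cancel_mono π, Category.assoc]
  exact Limits.pullback.condition

/-- Finite group, direction if: let k'/k be finite purely inseparable, G a finite k'-group scheme, S a
locally Noetherian k-scheme, U ⊆ S open with the local rings of S at the points outside U of depth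
at least 2, S' = S ×_k k' with projection π to S, and E an fppf torsor over S' under G. If the
restriction of E to π⁻¹(U) trivializes fppf locally on U (sections over V ×_U π⁻¹(U) for the members
V → U of an fppf covering of U), then E trivializes fppf locally on S (sections over V ×_S S' for
the members of an fppf covering of S). (The published statement is an equivalence, also covers
unipotent k'-groups, and assumes only that S is a k-scheme of depth at least 2 along the closed
complement; this row is the non-trivial implication for finite G over a locally Noetherian S.) -/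
theorem result (k k' : Type u) [Field k] [Field k']
    [Algebra k k'] [Module.Finite k k'] [IsPurelyInseparable k k']
    (G : Over (Spec (CommRingCat.of k'))) [GrpObj G] [IsFinite G.hom]
    (S : Scheme.{u}) [IsLocallyNoetherian S] (s : S ⟶ Spec (CommRingCat.of k)) (U : S.Opens)
    (hdepth : ∀ z : S, z ∉ (U : Set S) → (2 : ℕ∞) ≤ LocCoh.depth (S.presheaf.stalk z) (S.presheaf.stalk z))
    (E : NonAbH1.TorsorSch (Red.bc (Limits.pullback.snd s (Spec.map (CommRingCat.ofHom (algebraMap k k')))) G) Scheme.fppfPrecoverage)
    (hU : ∃ RU ∈ Scheme.fppfPrecoverage (U : Scheme.{u}), ∀ ⦃V : Scheme.{u}⦄ (g : V ⟶ (U : Scheme.{u})), RU g →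
      NonAbH1.HasSectionOver E.X
        (Limits.pullback.snd g (Limits.pullback.fst s (Spec.map (CommRingCat.ofHom (algebraMap k k'))) ∣_ U) ≫ (Limits.pullback.fst s (Spec.map (CommRingCat.ofHom (algebraMap k k'))) ⁻¹ᵁ U).ι)) :
    ∃ RS ∈ Scheme.fppfPrecoverage S, ∀ ⦃V : Scheme.{u}⦄ (g : V ⟶ S), RS g →
      NonAbH1.HasSectionOver E.X (Limits.pullback.snd g (Limits.pullback.fst s (Spec.map (CommRingCat.ofHom (algebraMap k k'))))) := by
  rcases finite_or_infinite k' with hk | hk
  · have h1 : IsIso (CommRingCat.ofHom (algebraMap k k')) :=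
      (ConcreteCategory.isIso_iff_bijective (CommRingCat.ofHom (algebraMap k k'))).2 (bijective_of_finite k k')
    exact of_isIso _ E.isTorsor.2
  · have hUd : CInt.IsSchematicallyDense U := by
      rw [Groth.Agent.S5091.result]
      intro x hx
      exact le_trans (by norm_num) (hdepth x hx)
    exact exists_cover (K := k') (mu k k') (isNilpotent_ker_mu k k') G S s U hUd E.X E.act E.isTorsor hU

end Groth.Agent.S15879
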