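import Groth.Statements.S15880
import Groth.Agent.CohB1.K924.FreePush
-- import your own Groth.Agent.* helpers here

set_option autoImplicit false
universe u
open CategoryTheory CategoryTheory.Limits AlgebraicGeometry
open CohB1

namespace Groth.Agent.S15880


/-- Let k be a field, s a k-point of P^n_k and f : F → P^n_k a finite morphism whose direct image of the
structure sheaf is isomorphic to the free module O^{⊕d} on P^n_k. Then F is, over P^n_k, isomorphic
to the base change F_s ×_k P^n_k of its fibre at s (existence of an isomorphism over P^n_k). (The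
published statement is the equivalence of categories between finite k-schemes and finite flat
P^n_k-schemes with free direct image of the structure sheaf, with inverse F ↦ s^*F; this row states
its essential surjectivity in the pinned form F ≅ (s^*F) ×_k P^n_k.) -/
theorem result (k : Type u) [Field k] (n d : ℕ)
    (s : Spec (CommRingCat.of k) ⟶ CohB1.ProjSpace n k) (hs : s ≫ CohB1.ProjSpace.toSpec n k = 𝟙 _)
    (F : Scheme.{u}) (f : F ⟶ CohB1.ProjSpace n k) [IsFinite f]
    (e : (Scheme.Modules.pushforward f).obj (SheafOfModules.unit F.ringCatSheaf) ≅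
      ∐ fun _ : ULift.{u} (Fin d) => (SheafOfModules.unit (CohB1.ProjSpace n k).ringCatSheaf :
        (CohB1.ProjSpace n k).Modules)) :
    Nonempty (Over.mk f ≅ Over.mk (pullback.snd (pullback.snd f s) (CohB1.ProjSpace.toSpec n k))) := by
  let e₁ : FlatMod.freeMod (CohB1.ProjSpace n k) d ≅
      (Scheme.Modules.pushforward f).obj (Coh.structureModule F) :=
    Sigma.whiskerEquiv (f := fun _ : Fin d => Coh.structureModule (CohB1.ProjSpace n k))
      (g := fun _ : ULift.{u} (Fin d) => (SheafOfModules.unit (CohB1.ProjSpace n k).ringCatSheaf :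
        (CohB1.ProjSpace n k).Modules)) Equiv.ulift.symm (fun _ => Iso.refl _) ≪≫ e.symm
  have hb := (Groth.Agent.Sga67.LocBasis.free_isLocBasis (CohB1.ProjSpace n k) d).of_iso e₁
  have hq := Groth.Agent.S0024.result n k
  have hpb := K924.FreePush.isPullback_of_free (CohB1.ProjSpace.toSpec n k) f hb hq
  set φ := (Scheme.ΓSpecIso (CommRingCat.of k)).inv ≫ (CohB1.ProjSpace.toSpec n k).appTop ≫ f.appTop
  have h1 : IsPullback (pullback.fst f s ≫ F.toSpecΓ) (pullback.snd f s) (Spec.map φ)
      (s ≫ CohB1.ProjSpace.toSpec n k) :=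
    (IsPullback.of_hasPullback f s).paste_horiz hpb.flip
  have h2 : IsIso (pullback.fst f s ≫ F.toSpecΓ) := by
    rw [hs] at h1
    exact h1.isIso_fst_of_isIso
  let i := asIso (pullback.fst f s ≫ F.toSpecΓ)
  have h3 : IsPullback (F.toSpecΓ ≫ i.inv) f (pullback.snd f s) (CohB1.ProjSpace.toSpec n k) := by
    refine IsPullback.of_iso hpb.flip (Iso.refl _) i.symm (Iso.refl _) (Iso.refl _) (by simp) (by simp) ?_ (by simp)
    rw [Iso.refl_hom, Category.comp_id, Iso.symm_hom, Iso.eq_inv_comp]
    have h4 := h1.w
    rw [hs, Category.comp_id] at h4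
    exact h4
  exact ⟨Over.isoMk h3.isoPullback (by simp)⟩

end Groth.Agent.S15880
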