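import Groth.Statements.S15881
import Groth.Agent.NonAbH1.K551.FlatGlueTors
import Groth.Agent.NonAbH1.K551.AdicSquare

set_option autoImplicit false
universe u
open CategoryTheory MonoidalCategory CartesianMonoidalCategory MonObj GrpObj AlgebraicGeometry
open NonAbH1

namespace Groth.Agent.S15881

/-- With φ : A → A' and t as in the glueing set-up (A/t^m → A'/t^m bijective for all m, φ bijective on
t-power torsion), G a flat A-group scheme with quasi-affine underlying scheme, and P, P' fppf
G-torsors over A: an equivariant isomorphism of the base changes to A[1/t] and one of the base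
changes to A', which agree over A'[1/t] under the canonical identifications of iterated base
changes, are the base changes of a unique equivariant isomorphism P ≅ P' over A. (The hypothesis h
is the evident commutativity of the square of base rings.) -/
theorem result (A A' : Type u) [CommRing A] [CommRing A']
    (φ : A →+* A') (t : A)
    (hq : ∀ m : ℕ, Function.Bijective (Ideal.quotientMap (Ideal.map φ (Ideal.span {t} ^ m)) φ Ideal.le_comap_map))
    (htor : ∀ a' : A', (∃ m : ℕ, φ t ^ m * a' = 0) → ∃! a : A, (∃ m : ℕ, t ^ m * a = 0) ∧ φ a = a')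
    (h : Spec.map (CommRingCat.ofHom (Localization.awayMap φ t)) ≫
        Spec.map (CommRingCat.ofHom (algebraMap A (Localization.Away t))) =
      Spec.map (CommRingCat.ofHom (algebraMap A' (Localization.Away (φ t)))) ≫ Spec.map (CommRingCat.ofHom φ))
    (G : Over (Spec (CommRingCat.of A))) [GrpObj G] [Flat G.hom] [G.left.IsQuasiAffine]
    (P P' : NonAbH1.TorsorSch G Scheme.fppfPrecoverage)
    (αU : NonAbH1.EquivIso (P.act.bc (Spec.map (CommRingCat.ofHom (algebraMap A (Localization.Away t))))) (P'.act.bc (Spec.map (CommRingCat.ofHom (algebraMap A (Localization.Away t))))))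
    (α' : NonAbH1.EquivIso (P.act.bc (Spec.map (CommRingCat.ofHom φ))) (P'.act.bc (Spec.map (CommRingCat.ofHom φ))))
    (hagree : (NonAbH1.EquivIso.bc (Spec.map (CommRingCat.ofHom (Localization.awayMap φ t))) αU).iso.hom ≫ (ActBC.bcCompIso (Spec.map (CommRingCat.ofHom (Localization.awayMap φ t))) (Spec.map (CommRingCat.ofHom (algebraMap A (Localization.Away t)))) P'.X h).hom =
      (ActBC.bcCompIso (Spec.map (CommRingCat.ofHom (Localization.awayMap φ t))) (Spec.map (CommRingCat.ofHom (algebraMap A (Localization.Away t)))) P.X h).hom ≫ (ActBC.bcCompIso (Spec.map (CommRingCat.ofHom (algebraMap A' (Localization.Away (φ t))))) (Spec.map (CommRingCat.ofHom φ)) P.X rfl).inv ≫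
        (NonAbH1.EquivIso.bc (Spec.map (CommRingCat.ofHom (algebraMap A' (Localization.Away (φ t))))) α').iso.hom ≫ (ActBC.bcCompIso (Spec.map (CommRingCat.ofHom (algebraMap A' (Localization.Away (φ t))))) (Spec.map (CommRingCat.ofHom φ)) P'.X rfl).hom) :
    ∃! α : NonAbH1.EquivIso P.act P'.act,
      (NonAbH1.EquivIso.bc (Spec.map (CommRingCat.ofHom (algebraMap A (Localization.Away t)))) α).iso = αU.iso ∧ (NonAbH1.EquivIso.bc (Spec.map (CommRingCat.ofHom φ)) α).iso = α'.iso := by
  let _ : Algebra A A' := φ.toAlgebra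
  have hq' : K551.AdicSquare.QuotBij (algebraMap A A') t := hq
  have ht' : K551.AdicSquare.TorBij (algebraMap A A') t := htor
  have hex := K551.AdicSquare.exact₂ t hq' ht'
  have hs := K551.AdicSquare.surj t hq'
  have hP1 : Flat P.X.hom := K551.Tors.flat_of_torsor P.isTorsor
  have hP2 : P'.X.left.IsQuasiAffine := K551.FlatGlueTors.isQuasiAffine_of_torsor P'.isTorsor
  obtain ⟨F, hF1, hF2⟩ := K551.FlatGlueTors.exists_hom hex hs αU.iso.hom α'.iso.hom h hagree
  have hfl : Flat (G ⊗ P.X).hom := by
    have : (G ⊗ P.X).hom = Limits.pullback.fst G.hom P.X.hom ≫ G.hom := Over.tensorObj_hom _ _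
    rw [this]
    infer_instance
  have hcomm : ∀ {S' : Scheme.{u}} (j : S' ⟶ Spec (CommRingCat.of A)) (β : NonAbH1.EquivIso (P.act.bc j) (P'.act.bc j)),
      (Over.pullback j).map F = β.iso.hom →
      (Over.pullback j).map (P.act.act ≫ F) = (Over.pullback j).map ((G ◁ F) ≫ P'.act.act) := by
    intro S' j β hβ
    have h1 := β.comm
    rw [AlgGrp.Action.bc_act, AlgGrp.Action.bc_act, Category.assoc, ← hβ, ← Functor.map_comp] at h1
    have h2 := Functor.LaxMonoidal.μ_natural_right (Over.pullback j) G F
    have h3 : Functor.LaxMonoidal.μ (Over.pullback j) G P.X ≫ (Over.pullback j).map (P.act.act ≫ F) =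
        Functor.LaxMonoidal.μ (Over.pullback j) G P.X ≫ (Over.pullback j).map ((G ◁ F) ≫ P'.act.act) := by
      rw [h1, Functor.map_comp (Over.pullback j) (G ◁ F) P'.act.act, ← reassoc_of% h2]
    exact (cancel_epi (Functor.LaxMonoidal.μ (Over.pullback j) G P.X)).1 h3
  have heq : P.act.act ≫ F = (G ◁ F) ≫ P'.act.act :=
    K551.FlatGlueTors.hom_ext hex _ _ (hcomm _ αU hF1) (hcomm _ α' hF2)
  have hiso : IsIso F := K551.Tors.isIso_of_equivariant P.isTorsor P'.isTorsor.1 F heq
  refine ⟨⟨asIso F, heq⟩, ⟨?_, ?_⟩, ?_⟩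
  · ext1
    exact hF1
  · ext1
    exact hF2
  · rintro ⟨β, hβ⟩ ⟨h1, h2⟩
    have h3 : β.hom = F := by
      refine K551.FlatGlueTors.hom_ext hex _ _ ?_ ?_
      · rw [hF1, ← h1]; rfl
      · rw [hF2, ← h2]; rfl
    have h4 : β = asIso F := by
      ext1
      exact h3
    subst h4
    rfl

end Groth.Agent.S15881
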