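import Groth.Statements.S15882
import Groth.Agent.NonAbH1.K153.LaurRes
import Groth.Agent.S15763

set_option autoImplicit false
universe u
open CategoryTheory CategoryTheory.Limits MonoidalCategory CartesianMonoidalCategory MonObj GrpObj AlgebraicGeometry
open NonAbH1

namespace Groth.Agent.S15882

/-- Let R be a strictly Henselian local ring with residue field k, let d > 0 be invertible in R, and let
G be a finite étale R((t))-group scheme whose underlying scheme splits into n copies of the base
after the substitution t ↦ t^d, with n invertible in R. Then base change along the coefficientwise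
residue map ρ : R((t)) → k((t)) (pinned on power series) is a bijection H¹(R((t)), G) ≅ H¹(k((t)),
G) on classes of fppf torsors that are schemes. (The published statement is for a finite étale G of
order invertible in R that becomes constant over some finite étale cover of R((t)) tamely ramified
relative to R; the covers t ↦ t^d with d invertible in R are cofinal among those, and a finite étale
group with split underlying scheme over the connected base R((t^{1/d})) is constant, so this row's
hypothesis is the same class of groups.) -/
theorem result (R : Type u) [CommRing R]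
    [HenselianLocalRing R] [IsSepClosed (IsLocalRing.ResidueField R)]
    (d : ℕ) (hd : 0 < d) (hdu : IsUnit (d : R))
    (hinj : Function.Injective (AddMonoidHom.mulLeft (d : ℤ)))
    (hmono : ∀ g g' : ℤ, AddMonoidHom.mulLeft (d : ℤ) g ≤ AddMonoidHom.mulLeft (d : ℤ) g' ↔ g ≤ g')
    (ρ : LaurentSeries R →+* LaurentSeries (IsLocalRing.ResidueField R))
    (hρ : ρ.comp (HahnSeries.ofPowerSeries ℤ R) =
      (HahnSeries.ofPowerSeries ℤ (IsLocalRing.ResidueField R)).comp (PowerSeries.map (IsLocalRing.residue R)))
    (G : Over (Spec (CommRingCat.of (LaurentSeries R)))) [GrpObj G] [IsFinite G.hom] [Etale G.hom]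
    (hsplit : ∃ (n : ℕ) (e : pullback G.hom (Spec.map (CommRingCat.ofHom
        (HahnSeries.embDomainRingHom (R := R) (AddMonoidHom.mulLeft (d : ℤ)) hinj hmono))) ≅
        (∐ fun _ : Fin n => Spec (CommRingCat.of (LaurentSeries R)))),
      IsUnit (n : R) ∧
      e.hom ≫ Sigma.desc (fun _ : Fin n => 𝟙 (Spec (CommRingCat.of (LaurentSeries R)))) =
        pullback.snd G.hom (Spec.map (CommRingCat.ofHom
        (HahnSeries.embDomainRingHom (R := R) (AddMonoidHom.mulLeft (d : ℤ)) hinj hmono)))) :
    Function.Bijective
      (NonAbH1.H1Sch.bcMap (Spec.map (CommRingCat.ofHom ρ)) G Scheme.fppfPrecoverage) := by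
  obtain ⟨n, e, hn, he⟩ := hsplit
  have hG : FEt.prop G.hom := ⟨inferInstance, inferInstance⟩
  obtain ⟨e', he'⟩ := K153.CopSec.exists_ulift (K153.LaurSch.SL R) n
    (pullback.snd G.hom (K153.LaurSch.spw R hd)) e he
  have dG : K153.DomSch.Dm (K153.LaurSch.spw R hd) G :=
    K153.LaurTors.dm_of_split (K153.LaurSch.spw R hd) G e' he'
  have cG : IsUnit ((Nat.card (Over.mk (K153.LaurSch.spw R hd) ⟶ G) : ℕ) : R) := by
    rw [K153.LaurTors.card_eq_of_split (K153.LaurSch.spw R hd) G e' he', Nat.card_ulift,
      Nat.card_fin]
    exact hn
  exact K153.LaurRes.bijective ρ hρ (@Groth.Agent.S15763.result) hd hdu G hG dG cG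

end Groth.Agent.S15882
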