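import Groth.Statements.S15883
import Groth.Agent.BMCoh.K876.Gysin

set_option autoImplicit false
universe u
open CategoryTheory AlgebraicGeometry Opposite
open BMCoh

namespace Groth.Agent.S15883

open K876.Geom K876.Colim K876.Gysin

/-- Let T be a twisted Borel–Moore cohomology theory with coefficients in A (a full subcategory of
R-modules containing R) on a constructible class V of Noetherian schemes, and let i_X : X → W and
i_Y : Y → W be morphisms of V — open immersions with dim X = dim W = dim Y — whose images are
complementary in W, so that W is the disjoint union of X and Y. Then for every coefficient module M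
and all integers i, n the map H^i(W, M(n)) → H^i(X, M(n)) × H^i(Y, M(n)) whose components are the
restriction maps along i_X and i_Y is bijective. -/
theorem result (V : ObjectProperty Scheme.{u}) [BMCoh.IsConstructible V] (R : Type u) [CommRing R] (A : BMCoh.Coefs R) (T : BMCoh.TheoryOn V R A) {X Y W : BMCoh.Obj V} (iX : X ⟶ W) (iY : Y ⟶ W) (h : Set.range iX.hom = (Set.range iY.hom)ᶜ) (M : A.Cat) (i n : ℤ) : Function.Bijective (fun a : T.gp W M i n => ((T.pull iX M i n).hom a, (T.pull iY M i n).hom a)) := by
  have h' : Set.range iY.hom = (Set.range iX.hom)ᶜ := by rw [h, compl_compl]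
  have hX0 : relCodim X.scheme W.scheme = 0 := relCodim_hom iX
  have hY0 : relCodim Y.scheme W.scheme = 0 := relCodim_hom iY
  have hiX : i = i + 2 * relCodim X.scheme W.scheme := by rw [hX0]; ring
  have hnX : n = n + relCodim X.scheme W.scheme := by rw [hX0]; ring
  have hiY : i = i + 2 * relCodim Y.scheme W.scheme := by rw [hY0]; ring
  have hnY : n = n + relCodim Y.scheme W.scheme := by rw [hY0]; ring
  have hcX : IsClosedImmersion iX.hom := (decTwo iX iY h).closedImm
  have hcY : IsClosedImmersion iY.hom := (decTwo iY iX h').closedImm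
  constructor
  · intro a b hab
    have h1 : rs T.toPreTheory iX a = rs T.toPreTheory iX b := congrArg Prod.fst hab
    have h2 : rs T.toPreTheory iY a = rs T.toPreTheory iY b := congrArg Prod.snd hab
    rw [← sub_eq_zero]
    refine eq_zero_of_two T.toPreTheory iX iY h _ ?_ ?_
    · unfold rs at h1 ⊢
      rw [map_sub, h1, sub_self]
    · unfold rs at h2 ⊢
      rw [map_sub, h2, sub_self]
  · rintro ⟨b, c⟩
    refine ⟨ps T.toPreTheory iX.hom hiX hnX b + ps T.toPreTheory iY.hom hiY hnY c, ?_⟩
    have h1 : rs T.toPreTheory iX (ps T.toPreTheory iX.hom hiX hnX b) = b :=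
      rs_ps_self T.toPreTheory iX _ _ b
    have h2 : rs T.toPreTheory iY (ps T.toPreTheory iY.hom hiY hnY c) = c :=
      rs_ps_self T.toPreTheory iY _ _ c
    have h3 : rs T.toPreTheory iY (ps T.toPreTheory iX.hom hiX hnX b) = 0 :=
      rs_j_ps T.toPreTheory (decTwo iX iY h) hiX hnX b
    have h4 : rs T.toPreTheory iX (ps T.toPreTheory iY.hom hiY hnY c) = 0 :=
      rs_j_ps T.toPreTheory (decTwo iY iX h') hiY hnY c
    refine Prod.ext ?_ ?_
    · change (T.pull iX M i n).hom _ = b
      rw [map_add]
      exact (congrArg₂ (· + ·) h1 h4).trans (add_zero b)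
    · change (T.pull iY M i n).hom _ = c
      rw [map_add]
      exact (congrArg₂ (· + ·) h3 h2).trans (zero_add c)

end Groth.Agent.S15883
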