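import Groth.Statements.S15884
import Groth.Agent.BMCoh.K876.NegVan

set_option autoImplicit false
universe u
open CategoryTheory AlgebraicGeometry Opposite
open BMCoh

namespace Groth.Agent.S15884

open K876.Geom K876.Colim K876.Gysin K876.Points K876.PushUniq K876.ResComp K876.Ext K876.PtVan
  K876.Restr K876.NegVan

/-- Let T be a twisted Borel–Moore cohomology theory with coefficients in A on a constructible class V
of Noetherian schemes, X an object of V, M a coefficient module, i and n integers and j a natural
number with i ≤ 2j (that is, j is at least the ceiling of i/2). Then the canonical map H^i(X, M(n))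
→ H^i(F_jX, M(n)), to the colimit of H^i(U, M(n)) over the open subschemes U of X that contain every
point of codimension at most j (codimension of a point = dim X minus the dimension of its closure),
is bijective. -/
theorem result (V : ObjectProperty Scheme.{u}) [BMCoh.IsConstructible V] (R : Type u) [CommRing R] (A : BMCoh.Coefs R) (T : BMCoh.TheoryOn V R A) (X : BMCoh.Obj V) (M : A.Cat) (j : ℕ) (i n : ℤ) (hj : i ≤ 2 * (j : ℤ)) : Function.Bijective ((T.toFj X j i n).app M).hom := by
  have hid : ContainsFj X j (𝟙 X : X ⟶ X).hom.opensRange := fun y _ => ⟨y, rfl⟩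
  have key : ∀ a : T.gp X M i n, ((T.toFj X j i n).app M).hom a =
      fj T.toPreTheory j (𝟙 X) hid a := by
    intro a
    have h1 : fj T.toPreTheory j (X.resι ⊤ (dim_top X.scheme))
        (containsFj_range X ⊤ (fun _ _ => trivial) _) (rs T.toPreTheory X.resTop a) =
        fj T.toPreTheory j (𝟙 X) hid a :=
      fj_rs T.toPreTheory X.resTop (𝟙 X) _ (Category.comp_id _) hid _ a
    rw [← h1]
    exact (oc_ι T.toPreTheory (ContainsFj X j) ⟨⊤, fun _ _ => trivial, dim_top X.scheme⟩ _ _).symm
  constructor
  · refine (injective_iff_map_eq_zero _).2 fun a ha => ?_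
    rw [key] at ha
    obtain ⟨U, hU, k, hk, h0⟩ := fj_eq_zero T.toPreTheory (𝟙 X) hid a ha
    refine pull_injective T k (j + 1) (fun x hx => ?_) M i n (by push_cast; omega) a h0
    by_contra hlt
    refine hx ?_
    have h2 : k.hom = U.ι := by
      have h3 := congrArg BMCoh.Hom.hom hk
      rw [Category.comp_id] at h3
      exact h3
    rw [h2]
    exact ⟨lp X U x (hU x (by omega)), rfl⟩
  · intro ξ
    obtain ⟨U, hU, a, rfl⟩ := fj_rep T.toPreTheory ξ
    obtain ⟨b, hb⟩ := pull_surjective T (X.resι U (dim_res_eq_of_containsFj X j U hU)) (j + 1)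
      (fun x hx => by
        by_contra hlt
        exact hx ⟨lp X U x (hU x (by omega)), rfl⟩) M i n (by push_cast; omega) a
    refine ⟨b, ?_⟩
    rw [key, ← hb]
    exact (fj_rs T.toPreTheory _ (𝟙 X) _ (Category.comp_id _) hid _ b).symm

end Groth.Agent.S15884
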