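import Groth.Statements.S15890
import Groth.Agent.Versch.K875.VBasis
import Groth.Agent.Versch.K875.EtaleSpan
-- import your own Groth.Agent.* helpers here

set_option autoImplicit false
universe u v
open Versch
open scoped TensorProduct

namespace Groth.Agent.S15890

/-- Let p be a prime, k a field of characteristic p and A a finite-dimensional commutative and
cocommutative Hopf algebra over k (a finite commutative k-group scheme G = Spec A), and let v : A →
A ⊗_k k^(Frob) be the comorphism of the Verschiebung V : G^(p) → G (the ring map whose transpose
under the canonical pairing is the relative Frobenius of the dual Hopf algebra). Then G is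
multiplicative, i.e. the dual Hopf algebra Hom_k(A, k) of the Cartier dual G^D is étale over k, if
and only if v is bijective, i.e. V is an isomorphism. -/
theorem result (p : ℕ) [Fact p.Prime] (k : Type u) [Field k] [CharP k p]
    (A : Type v) [CommRing A] [HopfAlgebra k A] [Coalgebra.IsCocomm k A] [FiniteDimensional k A]
    (v : A →+* FrobAlg.BaseChange p k A) (hv : Versch.IsVerschiebung p k A v) :
    Algebra.Etale k (CartDual.D k A) ↔ Function.Bijective v := by
  have hchar : CharP (CartDual.D k A) p := inferInstance
  rw [K875.EtaleSpan.etale_iff_span p k (CartDual.D k A) (CharP.cast_eq_zero _ p)]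
  let B := Module.finBasis k A
  have h := K875.VBasis.isDB_basis (R := k) B
  set f : Fin (Module.finrank k A) → CartDual.D k A := fun i => WithConv.toConv (B.coord i) with hf
  -- the span of the `p`-th powers is the span of the `p`-th powers of the dual basis
  have hspan : Submodule.span k (Set.range fun x : CartDual.D k A => x ^ p) =
      Submodule.span k (Set.range fun i => f i ^ p) := by
    apply le_antisymm
    · rw [Submodule.span_le]
      rintro _ ⟨x, rfl⟩
      change x ^ p ∈ Submodule.span k (Set.range fun i => f i ^ p)
      rw [h.dual x, sum_pow_char]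
      refine Submodule.sum_mem _ fun i _ => ?_
      rw [smul_pow]
      exact Submodule.smul_mem _ _ (Submodule.subset_span ⟨i, rfl⟩)
    · rw [Submodule.span_le]
      rintro _ ⟨i, rfl⟩
      exact Submodule.subset_span ⟨f i, rfl⟩
  -- the coordinates of the Verschiebung
  let Φ : A →ₗ[k] (Fin (Module.finrank k A) → k) := LinearMap.pi fun i => (f i ^ p).ofConv
  have hΦ : ∀ a i, Φ a i = (f i ^ p) a := fun a i => rfl
  -- the coordinates of `A^(p)`
  have hcoord : Function.Bijective (fun c : Fin (Module.finrank k A) → k =>
      ∑ i, B i ⊗ₜ[k] FrobAlg.toTwist p k (c i)) := by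
    have hfB : ∀ i j, f i (B j) = if j = i then 1 else 0 := by
      intro i j
      change B.coord i (B j) = _
      rw [Module.Basis.coord_apply, Module.Basis.repr_self, Finsupp.single_apply]
    constructor
    · intro c c' hcc
      funext j
      have h1 := congrArg (Versch.evTw p k A (f j)) hcc
      simp only [map_sum, Versch.evTw_tmul', hfB] at h1
      have h2 : ∀ c : Fin (Module.finrank k A) → k, ∑ i, FrobAlg.toTwist p k ((if i = j then 1 else 0) ^ p) *
          FrobAlg.toTwist p k (c i) = FrobAlg.toTwist p k (c j) := by
        intro c
        rw [Finset.sum_eq_single j]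
        · rw [if_pos rfl, one_pow, map_one, one_mul]
        · intro i _ hi
          rw [if_neg hi, zero_pow (Fact.out : p.Prime).ne_zero, map_zero, zero_mul]
        · intro hh; exact (hh (Finset.mem_univ _)).elim
      rw [h2, h2] at h1
      exact (FrobAlg.toTwist p k).injective h1
    · intro z
      refine ⟨fun i => (FrobAlg.toTwist p k).symm (Versch.evTw p k A (f i) z), ?_⟩
      simp only [RingEquiv.apply_symm_apply]
      induction z using TensorProduct.induction_on with
      | zero => simp
      | tmul a s =>
        conv_rhs => rw [← h a, TensorProduct.sum_tmul]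
        refine Finset.sum_congr rfl fun i _ => ?_
        rw [Versch.evTw_tmul, TensorProduct.smul_tmul, Algebra.smul_def]
      | add x y hx hy =>
        simp only [map_add, TensorProduct.tmul_add, Finset.sum_add_distrib, hx, hy]
  have hv' : (v : A → FrobAlg.BaseChange p k A) = (fun c : Fin (Module.finrank k A) → k =>
      ∑ i, B i ⊗ₜ[k] FrobAlg.toTwist p k (c i)) ∘ Φ := by
    funext a
    exact K875.VBase.verschiebung_apply p hv h a
  rw [hspan, hv', hcoord.of_comp_iff']
  have hfin : Module.finrank k A = Module.finrank k (Fin (Module.finrank k A) → k) := by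
    rw [Module.finrank_fin_fun]
  have hbij : Function.Bijective Φ ↔ Function.Injective Φ :=
    ⟨fun h => h.1, fun h => ⟨h, (LinearMap.injective_iff_surjective_of_finrank_eq_finrank hfin).mp h⟩⟩
  rw [hbij]
  constructor
  · intro htop
    rw [injective_iff_map_eq_zero]
    intro a ha
    -- every form vanishes at `a`
    have h1 : ∀ x : CartDual.D k A, x a = 0 := by
      intro x
      have hx : x ∈ Submodule.span k (Set.range fun i => f i ^ p) := by rw [htop]; exact Submodule.mem_top
      induction hx using Submodule.span_induction with
      | mem y hy =>
        obtain ⟨i, rfl⟩ := hy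
        exact congrFun ha i
      | zero => rfl
      | add y z _ _ hy hz =>
        change y a + z a = 0
        rw [hy, hz, add_zero]
      | smul c y _ hy =>
        change c • (y a) = 0
        rw [hy, smul_zero]
    rw [← h a]
    exact Finset.sum_eq_zero fun i _ => by rw [h1, zero_smul]
  · intro hinj
    by_contra hne
    -- a nonzero element of the double dual killing the span
    obtain ⟨φ, hφ0, hφ⟩ := Submodule.exists_le_ker_of_lt_top _ (lt_top_iff_ne_top.mpr hne)
    obtain ⟨a, ha⟩ : ∃ a : A, ∀ x : CartDual.D k A, φ x = x a := by
      refine ⟨∑ i, φ (f i) • B i, fun x => ?_⟩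
      conv_lhs => rw [h.dual x, map_sum]
      conv_rhs => rw [map_sum]
      refine Finset.sum_congr rfl fun i _ => ?_
      rw [map_smul, map_smul, smul_eq_mul, smul_eq_mul, mul_comm]
    have h1 : Φ a = 0 := by
      funext i
      rw [hΦ, ← ha]
      exact hφ (Submodule.subset_span ⟨i, rfl⟩)
    have h2 : a = 0 := hinj (by rw [h1, map_zero])
    apply hφ0
    refine LinearMap.ext fun x => ?_
    rw [ha, h2, map_zero]
    rfl

end Groth.Agent.S15890
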