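import Groth.Statements.S15891
import Groth.Agent.Versch.K875.VBase
import Groth.Agent.Versch.K875.Frob
-- import your own Groth.Agent.* helpers here

set_option autoImplicit false
universe u
open scoped TensorProduct
open Versch

namespace Groth.Agent.S15891

/-- Let p be a prime, R a commutative ring of characteristic p and A a commutative and cocommutative
Hopf algebra over R which is finitely generated and projective as an R-module, of characteristic p
(a finite locally free commutative group scheme G = Spec A over S = Spec R), and let v : A → A^(p) =
A ⊗_R R^(Frob) be the comorphism of the Verschiebung V : G^(p) → G (the ring map whose transpose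
under the canonical pairing is the relative Frobenius of the dual Hopf algebra). Then F ∘ V = [p] is
multiplication by p on the S-group G^(p): the ring endomorphism v ∘ F* of A^(p), where F* : A^(p) →
A is the relative Frobenius comorphism, transported along the symmetry A ⊗_R R^(Frob) ≅ R^(Frob) ⊗_R
A, is the p-th convolution power of the identity of the Hopf algebra R^(Frob) ⊗_R A over R^(Frob)
(the base change of A along the Frobenius of R). (The published notes work over a Noetherian base
ring; the row allows any commutative base ring of characteristic p.) -/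
theorem result (p : ℕ) [Fact p.Prime] (R : Type u) [CommRing R] [CharP R p]
    (A : Type u) [CommRing A] [HopfAlgebra R A] [Coalgebra.IsCocomm R A] [Module.Finite R A] [Module.Projective R A]
    [CharP A p] (v : A →+* FrobAlg.BaseChange p R A) (hv : Versch.IsVerschiebung p R A v) :
    ((Algebra.TensorProduct.comm R A (FrobAlg.Twist p R)).toRingEquiv.toRingHom.comp
        ((v.comp (FrobAlg.relFrob p R A)).comp
          (Algebra.TensorProduct.comm R A (FrobAlg.Twist p R)).symm.toRingEquiv.toRingHom)) =
      (SGA3b.powConv (FrobAlg.Twist p R) (FrobAlg.Twist p R ⊗[R] A) p).toRingHom := by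
  obtain ⟨n, e, f, h⟩ := K875.VBase.exists_isDB R A
  have hv1 := fun a => K875.VBase.verschiebung_apply p hv h a
  have hp1 := fun a => K875.VBase.powConv_prime_apply p h a
  -- the value of `v` on scalars
  have hsm : ∀ (r : R) (a : A), v (r • a) = ((1 : A) ⊗ₜ[R] FrobAlg.toTwist p R r) * v a := by
    intro r a
    rw [hv1, hv1, Finset.mul_sum]
    refine Finset.sum_congr rfl fun i _ => ?_
    rw [Algebra.TensorProduct.tmul_mul_tmul, one_mul, ← map_mul]
    congr 2
    exact (f i ^ p).ofConv.map_smul r a
  have hpow : ∀ a : A, v a ^ p = SGA3b.powConv R A p a ⊗ₜ[R] (1 : FrobAlg.Twist p R) := by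
    intro a
    have hchar : CharP (FrobAlg.BaseChange p R A) p := by
      refine charP_of_injective_ringHom (f := (Algebra.TensorProduct.includeRight (R := R) (A := A)
        (B := FrobAlg.Twist p R)).toRingHom) ?_ p
      intro s t hst
      have h1 := congrArg (Versch.evTw p R A 1) hst
      change Versch.evTw p R A 1 (1 ⊗ₜ s) = Versch.evTw p R A 1 (1 ⊗ₜ t) at h1
      rw [Versch.evTw_tmul', Versch.evTw_tmul'] at h1
      have h2 : (1 : CartDual.D R A) (1 : A) = 1 := by
        change algebraMap R R (Coalgebra.counit (R := R) (1 : A)) = 1
        rw [Bialgebra.counit_one, map_one]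
      rwa [h2, one_pow, map_one, one_mul, one_mul] at h1
    rw [hv1, sum_pow_char, hp1, TensorProduct.sum_tmul]
    refine Finset.sum_congr rfl fun i _ => ?_
    rw [Algebra.TensorProduct.tmul_pow, TensorProduct.smul_tmul, Algebra.smul_def, mul_one]
    rfl
  refine RingHom.ext fun x => ?_
  induction x using TensorProduct.induction_on with
  | zero => rw [map_zero, map_zero]
  | add x y hx hy => rw [map_add, map_add, hx, hy]
  | tmul s a =>
    change Algebra.TensorProduct.comm R A (FrobAlg.Twist p R) (v (FrobAlg.relFrob p R A (a ⊗ₜ s))) =
      SGA3b.powConv (FrobAlg.Twist p R) (FrobAlg.Twist p R ⊗[R] A) p (s ⊗ₜ a)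
    rw [Groth.Agent.Sga3A.PowConv.powConv_tmul', K875.Frob.relFrob_tmul, map_mul, map_pow, hpow,
      Algebra.algebraMap_eq_smul_one, hsm, map_one, mul_one, RingEquiv.apply_symm_apply,
      Algebra.TensorProduct.tmul_mul_tmul, mul_one, one_mul]
    rfl

end Groth.Agent.S15891
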