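import Groth.Statements.S15892
import Groth.Agent.CartDual.K789.Exact

set_option autoImplicit false
universe u
open CartDual

namespace Groth.Agent.S15892

/-- Let R be a Noetherian ring and A', A, A'' commutative and cocommutative Hopf algebras over R, each
finitely generated and projective as an R-module (finite flat commutative R-groups G' = Spec A', G =
Spec A, G'' = Spec A''). Let f : A'' → A be a bialgebra homomorphism which is faithfully flat as a
ring map (the comorphism of a faithfully flat homomorphism π : G → G'') and g : A → A' a surjective
bialgebra homomorphism whose kernel is the ideal of A generated by the image under f of the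
augmentation ideal of A'' (the comorphism of a closed immersion ι : G' → G identifying G' with the
kernel of π), so that 1 → G' → G → G'' → 1 is a short exact sequence of finite flat R-groups. Then
the Cartier dual sequence 1 → G''^D → G^D → G'^D → 1 is again short exact: the transpose Hom_R(A',
R) → Hom_R(A, R) of g is a faithfully flat ring map between the dual Hopf algebras, and the
transpose Hom_R(A, R) → Hom_R(A'', R) of f is surjective with kernel the ideal generated by the
image, under the transpose of g, of the augmentation ideal of Hom_R(A', R). -/
theorem result (R : Type u) [CommRing R] [IsNoetherianRing R]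
    (A' A A'' : Type u) [CommRing A'] [HopfAlgebra R A'] [Coalgebra.IsCocomm R A'] [Module.Finite R A']
    [Module.Projective R A'] [CommRing A] [HopfAlgebra R A] [Coalgebra.IsCocomm R A] [Module.Finite R A]
    [Module.Projective R A] [CommRing A''] [HopfAlgebra R A''] [Coalgebra.IsCocomm R A''] [Module.Finite R A'']
    [Module.Projective R A''] (f : A'' →ₐc[R] A) (hf : (f : A'' →ₐ[R] A).toRingHom.FaithfullyFlat)
    (g : A →ₐc[R] A') (hg : Function.Surjective g)
    (hker : RingHom.ker (g : A →ₐ[R] A') = Ideal.map (f : A'' →ₐ[R] A) (RingHom.ker (Bialgebra.counitAlgHom R A''))) :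
    (CartDual.transpose R g : CartDual.D R A' →ₐ[R] CartDual.D R A).toRingHom.FaithfullyFlat ∧
      Function.Surjective (CartDual.transpose R f) ∧
      RingHom.ker (CartDual.transpose R f : CartDual.D R A →ₐ[R] CartDual.D R A'') =
        Ideal.map (CartDual.transpose R g : CartDual.D R A' →ₐ[R] CartDual.D R A)
          (RingHom.ker (Bialgebra.counitAlgHom R (CartDual.D R A'))) := by
  letI alg : Algebra A'' A := (f : A'' →ₐ[R] A).toRingHom.toAlgebra
  have hsmul : ∀ (x : A'') (y : A), x • y = f x * y := fun x y => rfl
  haveI : IsScalarTower R A'' A := IsScalarTower.of_algebraMap_eq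
    (fun r => ((f : A'' →ₐ[R] A).commutes r).symm)
  haveI : IsNoetherianRing A'' := IsNoetherianRing.of_finite R A''
  haveI : Module.Finite A'' A := Module.Finite.of_restrictScalars_finite R _ _
  haveI : Module.FaithfullyFlat A'' A := hf
  obtain ⟨r, hr⟩ := K789.Retract.exists_retraction (A := A'') (B := A)
  have hrc : ∀ c, r (f c) = c := hr
  let rr : A →ₗ[R] A'' := r.restrictScalars R
  have hrl : ∀ (c : A'') (a : A), rr (f c * a) = c * rr a := fun c a => r.map_smul c a
  have hr1 : rr 1 = 1 := by
    have := hr 1
    rwa [map_one] at this
  obtain ⟨t, ht⟩ := K789.CartExact.exists_t f g rr hrl hg hker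
  have hgf := K789.CartExact.gf_eq f g hker
  exact ⟨K789.CartExact.faithfullyFlat_transpose f g rr t hg hgf ht hrl hr1,
    K789.CartExact.surjective_transpose f rr hrc,
    K789.CartExact.ker_transpose f g rr t hgf ht hrl hr1⟩

end Groth.Agent.S15892
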