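import Groth.Statements.S15894
import Groth.Agent.Versch.K875.VBasis
-- import your own Groth.Agent.* helpers here

set_option autoImplicit false
universe u
open scoped TensorProduct
open Versch

namespace Groth.Agent.S15894

/-- Let p be a prime, R a commutative ring of characteristic p and A = R[ℤ/p] the group algebra of the
cyclic group of order p, the Hopf algebra of the group scheme μ_p of p-th roots of unity over Spec
R. Let v : A → A ⊗_R R^(Frob) be the comorphism of the Verschiebung V : μ_p^(p) → μ_p (the ring map
whose transpose under the canonical pairing is the relative Frobenius of the dual Hopf algebra).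
Then v(c·g) = g ⊗ c for every group element g and every scalar c ∈ R, the scalar being moved into
the Frobenius-twisted factor through the identity of underlying rings: under the identification
μ_p^(p) = μ_p the Verschiebung of μ_p is the identity. -/
theorem result (p : ℕ) [Fact p.Prime] (R : Type u) [CommRing R] [CharP R p]
    (v : MonoidAlgebra R (Multiplicative (ZMod p)) →+* FrobAlg.BaseChange p R (MonoidAlgebra R (Multiplicative (ZMod p))))
    (hv : Versch.IsVerschiebung p R (MonoidAlgebra R (Multiplicative (ZMod p))) v)
    (g : Multiplicative (ZMod p)) (c : R) :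
    v (MonoidAlgebra.single g c) = MonoidAlgebra.single g (1 : R) ⊗ₜ[R] FrobAlg.toTwist p R c := by
  classical
  have : NeZero p := ⟨(Fact.out : p.Prime).ne_zero⟩
  let _ : Fintype (Multiplicative (ZMod p)) := inferInstanceAs (Fintype (ZMod p))
  let B := MonoidAlgebra.basis (Multiplicative (ZMod p)) R
  have h := K875.VBasis.isDB_basis (R := R) (A := MonoidAlgebra R (Multiplicative (ZMod p))) B
  have h1 : IsGroupLikeElem R (MonoidAlgebra.single g (1 : R)) := by
    refine ⟨?_, ?_⟩
    · simp
    · simp
  have h2 : (MonoidAlgebra.single g c : MonoidAlgebra R (Multiplicative (ZMod p))) =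
      c • MonoidAlgebra.single g (1 : R) := by simp
  have h3 : ∀ g' : Multiplicative (ZMod p),
      ((WithConv.toConv (B.coord g') : CartDual.D R (MonoidAlgebra R (Multiplicative (ZMod p)))) ^ p)
      (MonoidAlgebra.single g c) = c • (B.coord g' (MonoidAlgebra.single g 1)) ^ p := by
    intro g'
    rw [h2]
    refine (LinearMap.map_smul (WithConv.ofConv (_ ^ p)) c _).trans ?_
    exact congrArg (c • ·) (K875.VBasis.conv_pow_groupLike h1 _ p)
  rw [K875.VBase.verschiebung_apply p hv h, Finset.sum_eq_single g]
  · rw [h3, MonoidAlgebra.basis_apply]
    rw [← MonoidAlgebra.basis_apply, Module.Basis.coord_apply, Module.Basis.repr_self,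
      Finsupp.single_eq_same, one_pow, smul_eq_mul, mul_one]
  · intro g' _ hg'
    rw [h3, ← MonoidAlgebra.basis_apply, Module.Basis.coord_apply, Module.Basis.repr_self,
      Finsupp.single_eq_of_ne hg', zero_pow (Fact.out : p.Prime).ne_zero, smul_zero, map_zero,
      TensorProduct.tmul_zero]
  · intro hh
    exact (hh (Finset.mem_univ _)).elim

end Groth.Agent.S15894
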