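import Groth.Statements.S15895
import Groth.Agent.Versch.K875.VBasis
import Groth.Prelude.Def_CartDual2
-- import your own Groth.Agent.* helpers here

set_option autoImplicit false
universe u
open scoped TensorProduct
open Versch

namespace Groth.Agent.S15895

/-- Let p be a prime, R a commutative ring of characteristic p and B = Hom_R(R[ℤ/p], R) the dual Hopf
algebra of the group algebra of the cyclic group of order p: the Hopf algebra of the constant group
scheme ℤ/p over Spec R (the Cartier dual of μ_p). Let v : B → B ⊗_R R^(Frob) be the comorphism of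
the Verschiebung V : (ℤ/p)^(p) → ℤ/p (the ring map whose transpose under the canonical pairing is
the relative Frobenius of the dual Hopf algebra of B). Then V is the trivial homomorphism: v is the
composite of the counit ε : B → R, the identity of underlying rings R → R^(Frob) and the inclusion
of the twisted factor R^(Frob) → B ⊗_R R^(Frob), i.e. v(b) = 1 ⊗ ε(b). -/
theorem result (p : ℕ) [Fact p.Prime] (R : Type u) [CommRing R]
    [CharP R p] (v : CartDual.D R (MonoidAlgebra R (Multiplicative (ZMod p))) →+* FrobAlg.BaseChange p R (CartDual.D R (MonoidAlgebra R (Multiplicative (ZMod p)))))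
    (hv : Versch.IsVerschiebung p R (CartDual.D R (MonoidAlgebra R (Multiplicative (ZMod p)))) v) :
    v = ((Algebra.TensorProduct.includeRight (R := R) (A := CartDual.D R (MonoidAlgebra R (Multiplicative (ZMod p))))
            (B := FrobAlg.Twist p R)).toRingHom.comp (FrobAlg.toTwist p R).toRingHom).comp
          (Bialgebra.counitAlgHom R (CartDual.D R (MonoidAlgebra R (Multiplicative (ZMod p))))).toRingHom := by
  classical
  have : NeZero p := ⟨(Fact.out : p.Prime).ne_zero⟩
  let _ : Fintype (Multiplicative (ZMod p)) := inferInstanceAs (Fintype (ZMod p))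
  let B := MonoidAlgebra.basis (Multiplicative (ZMod p)) R
  have h := K875.VBasis.isDB_basis (R := R) (A := MonoidAlgebra R (Multiplicative (ZMod p))) B
  -- the dual basis of the dual
  have hD : K875.VBase.IsDB R (CartDual.D R (MonoidAlgebra R (Multiplicative (ZMod p))))
      (fun g => WithConv.toConv (B.coord g))
      (fun g => CartDual.eval R (MonoidAlgebra R (Multiplicative (ZMod p))) (B g)) := by
    intro b
    exact (h.dual b).symm
  have hpow : ∀ g : Multiplicative (ZMod p),
      (CartDual.eval R (MonoidAlgebra R (Multiplicative (ZMod p))) (B g)) ^ p = 1 := by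
    intro g
    rw [← map_pow, MonoidAlgebra.basis_apply, MonoidAlgebra.single_pow, one_pow]
    have : g ^ p = 1 := by
      change Multiplicative.ofAdd (p • (Multiplicative.toAdd g)) = 1
      rw [nsmul_eq_mul, CharP.cast_eq_zero, zero_mul]
      rfl
    rw [this]
    exact map_one _
  refine RingHom.ext fun b => ?_
  rw [K875.VBase.verschiebung_apply p hv hD]
  have h1 : ∀ g ∈ (Finset.univ : Finset (Multiplicative (ZMod p))),
      (WithConv.toConv (B.coord g) : CartDual.D R (MonoidAlgebra R (Multiplicative (ZMod p)))) ⊗ₜ[R]
        FrobAlg.toTwist p R (((CartDual.eval R (MonoidAlgebra R (Multiplicative (ZMod p))) (B g)) ^ p) b) =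
      (WithConv.toConv (B.coord g) : CartDual.D R (MonoidAlgebra R (Multiplicative (ZMod p)))) ⊗ₜ[R]
        FrobAlg.toTwist p R (Coalgebra.counit (R := R) b) := by
    intro g _
    rw [hpow, LinearMap.convOne_apply]
    rfl
  rw [Finset.sum_congr rfl h1, ← TensorProduct.sum_tmul]
  have h2 : (∑ g, WithConv.toConv (B.coord g) : CartDual.D R (MonoidAlgebra R (Multiplicative (ZMod p)))) = 1 := by
    rw [h.dual 1]
    refine Finset.sum_congr rfl fun g _ => ?_
    have : (1 : CartDual.D R (MonoidAlgebra R (Multiplicative (ZMod p)))) (B g) = 1 := by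
      rw [LinearMap.convOne_apply, MonoidAlgebra.basis_apply]
      simp
    rw [this, one_smul]
  rw [h2]
  rfl

end Groth.Agent.S15895
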