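import Groth.Statements.S15906
import Groth.Agent.Surf.K460.LatBase
import Mathlib.Data.Fin.Tuple.Sort

set_option autoImplicit false
open Surf

namespace Groth.Agent.S15906

open W4c3severiratdp in
/-- Work in the lattice of vectors (a; b_1, …, b_δ), standing for divisor classes a ℓ − Σ b_i e_i on the
blow-up of the projective plane at δ points written in a standard basis, with intersection form a a'
− Σ b_i b_i' and canonical class K = (−3; −1, …, −1); a conic class is a class Q with Q·Q = 0 and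
K·Q = −2, an exceptional class (the class of a (−1)-curve) is a class E with E·E = −1 and K·E = −1,
and the Weyl group W_δ is the group of additive automorphisms of the lattice preserving the form and
fixing K. For δ = 8, a class (a; b_1, …, b_8) is a conic class if and only if, up to a permutation
of b_1, …, b_8, it is one of the fifteen vectors (1; 1, 0, 0, 0, 0, 0, 0, 0), (2; 1, 1, 1, 1, 0, 0,
0, 0), (3; 2, 1, 1, 1, 1, 1, 0, 0), (4; 2, 2, 2, 1, 1, 1, 1, 0), (4; 3, 1, 1, 1, 1, 1, 1, 1), (5; 2,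
2, 2, 2, 2, 2, 1, 0), (5; 3, 2, 2, 2, 1, 1, 1, 1), (6; 3, 3, 2, 2, 2, 2, 1, 1), (7; 3, 3, 3, 3, 2,
2, 2, 1), (7; 4, 3, 2, 2, 2, 2, 2, 2), (8; 4, 3, 3, 3, 3, 2, 2, 2), (8; 3, 3, 3, 3, 3, 3, 3, 1), (9;
4, 4, 3, 3, 3, 3, 3, 2), (10; 4, 4, 4, 4, 3, 3, 3, 3), (11; 4, 4, 4, 4, 4, 4, 4, 3). (One line of
the published table is illegible in the available copy; the fifteen vectors here are the complete
solution set of the two defining equations a² = Σ b_i², 3a − Σ b_i = 2.) -/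
theorem result (v : DP 8) :
    IsConic v ↔
      ∃ t ∈ ({![1, 1, 0, 0, 0, 0, 0, 0, 0],
        ![2, 1, 1, 1, 1, 0, 0, 0, 0],
        ![3, 2, 1, 1, 1, 1, 1, 0, 0],
        ![4, 2, 2, 2, 1, 1, 1, 1, 0],
        ![4, 3, 1, 1, 1, 1, 1, 1, 1],
        ![5, 2, 2, 2, 2, 2, 2, 1, 0],
        ![5, 3, 2, 2, 2, 1, 1, 1, 1],
        ![6, 3, 3, 2, 2, 2, 2, 1, 1],
        ![7, 3, 3, 3, 3, 2, 2, 2, 1],
        ![7, 4, 3, 2, 2, 2, 2, 2, 2],
        ![8, 4, 3, 3, 3, 3, 2, 2, 2],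
        ![8, 3, 3, 3, 3, 3, 3, 3, 1],
        ![9, 4, 4, 3, 3, 3, 3, 3, 2],
        ![10, 4, 4, 4, 4, 3, 3, 3, 3],
        ![11, 4, 4, 4, 4, 4, 4, 4, 3]} : Set (DP 8)),
        ∃ σ : Equiv.Perm (Fin 8), v 0 = t 0 ∧ ∀ i : Fin 8, v (σ i).succ = t i.succ := by
  have key : ∀ (u w : DP 8) (σ : Equiv.Perm (Fin 8)), u 0 = w 0 → (∀ i : Fin 8, u (σ i).succ = w i.succ) →
      (IsConic u ↔ IsConic w) := by
    intro u w σ h0 h
    rw [K460.LatBase.isConic_iff, K460.LatBase.isConic_iff, h0,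
      ← Equiv.sum_comp σ (fun i => u i.succ), ← Equiv.sum_comp σ (fun i => u i.succ * u i.succ)]
    simp only [h]
  constructor
  · intro hv
    set σ : Equiv.Perm (Fin 8) := Tuple.sort (fun i : Fin 8 => - v i.succ) with hσ
    have hmono := Tuple.monotone_sort (fun i : Fin 8 => - v i.succ)
    set w : DP 8 := Fin.cons (v 0) (fun i => v (σ i).succ) with hw
    have hw0 : v 0 = w 0 := rfl
    have hws : ∀ i : Fin 8, v (σ i).succ = w i.succ := fun i => rfl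
    have hwc : IsConic w := (key v w σ hw0 hws).mp hv
    have hmem := (K460.LatBase.mem_conics (le_refl 8)).mpr hwc
    have hsort : ∀ i j : Fin 8, i ≤ j → w j.succ ≤ w i.succ := by
      intro i j hij
      have := hmono hij
      simp only [Function.comp] at this
      rw [← hws, ← hws]
      linarith
    have chk : ∀ u ∈ K460.LatBase.conics 8, (u 2 ≤ u 1 ∧ u 3 ≤ u 2 ∧ u 4 ≤ u 3 ∧ u 5 ≤ u 4 ∧
        u 6 ≤ u 5 ∧ u 7 ≤ u 6 ∧ u 8 ≤ u 7) → u ∈ ([![1, 1, 0, 0, 0, 0, 0, 0, 0],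
        ![2, 1, 1, 1, 1, 0, 0, 0, 0],
        ![3, 2, 1, 1, 1, 1, 1, 0, 0],
        ![4, 2, 2, 2, 1, 1, 1, 1, 0],
        ![4, 3, 1, 1, 1, 1, 1, 1, 1],
        ![5, 2, 2, 2, 2, 2, 2, 1, 0],
        ![5, 3, 2, 2, 2, 1, 1, 1, 1],
        ![6, 3, 3, 2, 2, 2, 2, 1, 1],
        ![7, 3, 3, 3, 3, 2, 2, 2, 1],
        ![7, 4, 3, 2, 2, 2, 2, 2, 2],
        ![8, 4, 3, 3, 3, 3, 2, 2, 2],
        ![8, 3, 3, 3, 3, 3, 3, 3, 1],
        ![9, 4, 4, 3, 3, 3, 3, 3, 2],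
        ![10, 4, 4, 4, 4, 3, 3, 3, 3],
        ![11, 4, 4, 4, 4, 4, 4, 4, 3]] : List (DP 8)) := by
      decide +kernel
    have := chk w hmem ⟨hsort 0 1 (by decide), hsort 1 2 (by decide), hsort 2 3 (by decide),
      hsort 3 4 (by decide), hsort 4 5 (by decide), hsort 5 6 (by decide), hsort 6 7 (by decide)⟩
    refine ⟨w, ?_, σ, hw0, hws⟩
    simpa only [List.mem_cons, List.not_mem_nil, or_false, Set.mem_insert_iff,
      Set.mem_singleton_iff] using this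
  · rintro ⟨t, ht, σ, h0, hs⟩
    rw [key v t σ h0 hs, ← K460.LatBase.mem_conics (le_refl 8)]
    have chk : ∀ u ∈ ([![1, 1, 0, 0, 0, 0, 0, 0, 0],
        ![2, 1, 1, 1, 1, 0, 0, 0, 0],
        ![3, 2, 1, 1, 1, 1, 1, 0, 0],
        ![4, 2, 2, 2, 1, 1, 1, 1, 0],
        ![4, 3, 1, 1, 1, 1, 1, 1, 1],
        ![5, 2, 2, 2, 2, 2, 2, 1, 0],
        ![5, 3, 2, 2, 2, 1, 1, 1, 1],
        ![6, 3, 3, 2, 2, 2, 2, 1, 1],
        ![7, 3, 3, 3, 3, 2, 2, 2, 1],
        ![7, 4, 3, 2, 2, 2, 2, 2, 2],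
        ![8, 4, 3, 3, 3, 3, 2, 2, 2],
        ![8, 3, 3, 3, 3, 3, 3, 3, 1],
        ![9, 4, 4, 3, 3, 3, 3, 3, 2],
        ![10, 4, 4, 4, 4, 3, 3, 3, 3],
        ![11, 4, 4, 4, 4, 4, 4, 4, 3]] : List (DP 8)), form u u = 0 ∧ form (canon 8) u = -2 := by
      decide +kernel
    rw [K460.LatBase.mem_conics (le_refl 8)]
    refine chk t ?_
    simpa only [List.mem_cons, List.not_mem_nil, or_false, Set.mem_insert_iff,
      Set.mem_singleton_iff] using ht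

end Groth.Agent.S15906
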