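import Groth.Statements.S15908
import Groth.Agent.Surf.K460.LatWeyl

set_option autoImplicit false
open Surf

namespace Groth.Agent.S15908

open W4c3severiratdp in
/-- Work in the lattice of vectors (a; b_1, …, b_δ), standing for divisor classes a ℓ − Σ b_i e_i on the
blow-up of the projective plane at δ points written in a standard basis, with intersection form a a'
− Σ b_i b_i' and canonical class K = (−3; −1, …, −1); a conic class is a class Q with Q·Q = 0 and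
K·Q = −2, an exceptional class (the class of a (−1)-curve) is a class E with E·E = −1 and K·E = −1,
and the Weyl group W_δ is the group of additive automorphisms of the lattice preserving the form and
fixing K. For δ = 8 the ordered pairs (Q_1, Q_2) of conic classes with Q_1·Q_2 = 4 form exactly two
W_8-orbits: there are two such pairs that no element of W_8 carries one to the other, and every such
pair is carried by an element of W_8 to one of these two. -/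
theorem result :
    ∃ p₁ p₂ q₁ q₂ : DP 8, IsConic p₁ ∧ IsConic p₂ ∧ IsConic q₁ ∧ IsConic q₂ ∧ form p₁ p₂ = 4 ∧ form q₁ q₂ = 4 ∧
      (¬ ∃ g : DP 8 ≃ₗ[ℤ] DP 8, IsWeyl g ∧ g p₁ = q₁ ∧ g p₂ = q₂) ∧
      ∀ v₁ v₂ : DP 8, IsConic v₁ → IsConic v₂ → form v₁ v₂ = 4 →
        ∃ g : DP 8 ≃ₗ[ℤ] DP 8, IsWeyl g ∧ ((g v₁ = p₁ ∧ g v₂ = p₂) ∨ (g v₁ = q₁ ∧ g v₂ = q₂)) := by
  have nf := K460.LatWeyl.conic_pair_normal (le_refl 8) K460.LatWeyl.L8 (by decide +kernel)
    K460.LatWeyl.pairs8 (by decide +kernel) K460.LatWeyl.pairs8'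
  have hF : IsConic (K460.LatWeyl.FF 8) := by
    refine ⟨?_, ?_⟩
    · rw [← K460.LatWeyl.fform_eq]; decide +kernel
    · rw [← K460.LatWeyl.fform_eq]; decide +kernel
  refine ⟨K460.LatWeyl.FF 8, ![4, 0, 2, 2, 2, 1, 1, 1, 1], K460.LatWeyl.FF 8,
    ![5, 1, 2, 2, 2, 2, 2, 2, 0], hF, ?_, hF, ?_, ?_, ?_, ?_, ?_⟩
  · refine ⟨?_, ?_⟩
    · rw [← K460.LatWeyl.fform_eq]; decide +kernel
    · rw [← K460.LatWeyl.fform_eq]; decide +kernel
  · refine ⟨?_, ?_⟩
    · rw [← K460.LatWeyl.fform_eq]; decide +kernel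
    · rw [← K460.LatWeyl.fform_eq]; decide +kernel
  · rw [← K460.LatWeyl.fform_eq]; decide +kernel
  · rw [← K460.LatWeyl.fform_eq]; decide +kernel
  · rintro ⟨g, hg, h1, h2⟩
    have e1 : K460.LatWeyl.FF 8 + ![5, 1, 2, 2, 2, 2, 2, 2, 0] =
        (2 : ℤ) • (![3, 1, 1, 1, 1, 1, 1, 1, 0] : DP 8) := by
      decide +kernel
    have e2 : g (K460.LatWeyl.FF 8 + ![4, 0, 2, 2, 2, 1, 1, 1, 1]) =
        (2 : ℤ) • (![3, 1, 1, 1, 1, 1, 1, 1, 0] : DP 8) := by
      rw [map_add, h1, h2, e1]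
    rw [← LinearEquiv.eq_symm_apply, map_smul] at e2
    have e3 := congrFun e2 0
    rw [Pi.smul_apply, smul_eq_mul] at e3
    have e4 : (K460.LatWeyl.FF 8 + ![4, 0, 2, 2, 2, 1, 1, 1, 1] : DP 8) 0 = 5 := by
      decide +kernel
    rw [e4] at e3
    omega
  · intro v₁ v₂ hv₁ hv₂ h4
    obtain ⟨g, hg, hg1, hg2⟩ := nf v₁ v₂ hv₁ hv₂
    refine ⟨g, hg, ?_⟩
    have hk : ∀ u ∈ K460.LatWeyl.L8, K460.LatWeyl.fform (K460.LatWeyl.FF 8) u = 4 →
        u = ![4, 0, 2, 2, 2, 1, 1, 1, 1] ∨ u = ![5, 1, 2, 2, 2, 2, 2, 2, 0] := by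
      decide +kernel
    have h5 : K460.LatWeyl.fform (K460.LatWeyl.FF 8) (g v₂) = 4 := by
      rw [K460.LatWeyl.fform_eq, ← hg1, hg.1, h4]
    rcases hk _ hg2 h5 with h | h
    · exact Or.inl ⟨hg1, h⟩
    · exact Or.inr ⟨hg1, h⟩

end Groth.Agent.S15908
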