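import Groth.Statements.S16506
import Groth.Agent.Curves.K330.GenSec
import Groth.Agent.Curves.K251.GenFib
import Groth.Agent.Picfga.CurvePts

set_option autoImplicit false
universe u
open CategoryTheory AlgebraicGeometry
open Curves

namespace Groth.Agent.S16506

/-- Over an algebraically closed field k, let X be a projective surface, B a smooth proper curve and π :
X → B a surjective k-morphism whose generic fibre is geometrically integral of arithmetic genus 0.
Then π has a section. -/
theorem result
    (k : Type u) [Field k] [IsAlgClosed k]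
    (X : Scheme.{u}) [X.Over (Spec (CommRingCat.of k))] [IsIntegral X] (hX2 : topologicalKrullDim X = 2)
    (hX : ∃ (N : ℕ) (ι : X ⟶ CohB1.ProjSpace N k), IsClosedImmersion ι ∧
      ι ≫ CohB1.ProjSpace.toSpec N k = X ↘ Spec (CommRingCat.of k))
    (B : Scheme.{u}) [B.Over (Spec (CommRingCat.of k))] [IsIntegral B]
    (hB : Curve.IsSmoothProperCurve k B (B ↘ Spec (CommRingCat.of k)))
    (π : X ⟶ B) (hπ : π ≫ (B ↘ Spec (CommRingCat.of k)) = X ↘ Spec (CommRingCat.of k))
    (hsurj : Function.Surjective π.base)
    [GeometricallyIntegral (π.fiberToSpecResidueField (genericPoint B))]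
    (hgen : letI : (π.fiber (genericPoint B)).Over (Spec (B.residueField (genericPoint B))) :=
        ⟨π.fiberToSpecResidueField (genericPoint B)⟩
      Curv2.genus (B.residueField (genericPoint B)) (π.fiber (genericPoint B)) = 0) :
    ∃ σ : B ⟶ X, σ ≫ π = 𝟙 B := by
  have hBp : IsProper (B ↘ Spec (CommRingCat.of k)) := hB.1
  have hBs : Smooth (B ↘ Spec (CommRingCat.of k)) := hB.2.1
  have hXp : IsProper (X ↘ Spec (CommRingCat.of k)) := by
    obtain ⟨N, ι, hι, e⟩ := hX
    rw [← e]; infer_instance
  have hπp : IsProper π := by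
    have : IsProper (π ≫ (B ↘ Spec (CommRingCat.of k))) := by rw [hπ]; exact hXp
    exact IsProper.of_comp π (B ↘ Spec (CommRingCat.of k))
  let _ : (π.fiber (genericPoint B)).Over (Spec (CommRingCat.of (B.residueField (genericPoint B)))) :=
    ⟨π.fiberToSpecResidueField (genericPoint B)⟩
  obtain ⟨s, hs⟩ := K330.GenSec.exists_point_of_smooth
    (K330.GenSec.isCi_residueField k (B ↘ Spec (CommRingCat.of k)) hB.2.2.2)
    (X := π.fiber (genericPoint B))
    (K251.GenFib.isSmoothProperCurve (B ↘ Spec (CommRingCat.of k)) π hB.2.2.2 hX2 hsurj hgen)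
    (K251.GenFib.finrank_H0 π) hgen
  exact K330.GenSec.exists_section_of_generic π
    (fun b => Groth.Agent.Picfga.CurvePts.valuationRing_stalk (B ↘ Spec (CommRingCat.of k)) hB.2.2.2.le b) s hs

end Groth.Agent.S16506
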