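import Groth.Statements.S15911
import Groth.Agent.Surf.K102.CBun
import Groth.Agent.Surf.K460.KodZero
import Groth.Agent.Surf.K463.PicZ
import Groth.Agent.Surf.K465.NakSurf

set_option autoImplicit false
universe u
open CategoryTheory CategoryTheory.Limits AlgebraicGeometry TopologicalSpace
open Surf

namespace Groth.Agent.S15911

/-- The criteria on classes. -/
theorem main {k : Type u} [Field k] [IsAlgClosed k] [CharZero k] {X : Scheme.{u}}
    [X.Over (Spec (CommRingCat.of k))] [IsIntegral X] [IsProper (X ↘ (Spec (CommRingCat.of k)))]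
    [Smooth (X ↘ (Spec (CommRingCat.of k)))] {W D : X.Modules} (P : Surf.K460.DelPezzo.DP k X W D)
    (hd7 : K464.Base.dot k X (Grpsch.PicGrp.mk W P.hWi) (Grpsch.PicGrp.mk W P.hWi) ≤ 7)
    (l : Grpsch.PicGrp.Pic X) :
    ((∀ E : X.IdealSheafData, K464.Curves.IsCurve E → ∀ hE : BlowUp.IsEffCartierIdeal E,
      Subsingleton (Coh.HH E.subscheme (Coh.structureModule E.subscheme) 1) →
      K464.Curves.degOn k X E (K464.Base.ic E hE)⁻¹ = -1 → 0 ≤ K464.Curves.degOn k X E l) →
      ∀ C : X.IdealSheafData, K464.Curves.IsCurve C → 0 ≤ K464.Curves.degOn k X C l) ∧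
    ((∀ E : X.IdealSheafData, K464.Curves.IsCurve E → ∀ hE : BlowUp.IsEffCartierIdeal E,
      Subsingleton (Coh.HH E.subscheme (Coh.structureModule E.subscheme) 1) →
      K464.Curves.degOn k X E (K464.Base.ic E hE)⁻¹ = -1 → 0 < K464.Curves.degOn k X E l) →
      0 < K464.Base.dot k X l l ∧ ∀ C : X.IdealSheafData, K464.Curves.IsCurve C → 0 < K464.Curves.degOn k X C l) := by
  have hK := Surf.K460.KodZero.kod k X P.hdim
  have hd7' : (K102.LatX.latX k P hK).B (K102.LatX.latX k P hK).δ (K102.LatX.latX k P hK).δ ≤ 7 := by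
    change K464.Base.dot k X (Grpsch.PicGrp.mk W P.hWi)⁻¹ (Grpsch.PicGrp.mk W P.hWi)⁻¹ ≤ 7
    rw [K464.Base.dot_inv_inv k X P.hdim.le]
    exact hd7
  have hcb := K102.CBun.exists_m1 P hK hd7
  have hex : ∃ i, (K102.LatX.latX k P hK).M1 i := by
    by_contra hno
    push Not at hno
    refine Surf.K460.PicZ.false_of_pic_eq_zpow P (fun c => ?_) hd7
    obtain ⟨n, hn⟩ := (K102.LatX.latX k P hK).exists_zsmul hd7' hno hcb (Additive.ofMul c)
    refine ⟨-n, ?_⟩
    have h1 : c = (Grpsch.PicGrp.mk W P.hWi)⁻¹ ^ n := hn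
    rw [h1, inv_zpow, zpow_neg]
  refine ⟨fun h => ?_, fun h => ?_⟩
  · have h1 := (K102.LatX.latX k P hK).nef_of hd7' hex hcb (l := Additive.ofMul l) fun i hi => by
      rw [K102.LatX.B_cls]
      obtain ⟨h2, h3⟩ := (K102.LatX.m1_iff P hK i).1 hi
      exact h i.1 i.2 _ h2 h3
    exact (K102.LatX.nef_iff P hK _).1 h1
  · have h1 := (K102.LatX.latX k P hK).pos_of hd7' hex hcb (l := Additive.ofMul l) fun i hi => by
      rw [K102.LatX.B_cls]
      obtain ⟨h2, h3⟩ := (K102.LatX.m1_iff P hK i).1 hi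
      exact h i.1 i.2 _ h2 h3
    refine ⟨h1.1, fun C hC => ?_⟩
    have h2 := h1.2 ⟨C, hC⟩
    rwa [K102.LatX.B_cls] at h2

/-- Let k be an algebraically closed field of characteristic zero and X a del Pezzo surface over k: an
integral scheme, proper and smooth over k of dimension 2, with canonical module W (a second exterior
power of Ω_{X/k}) whose tensor inverse D is ample; its degree is d = (W·W), intersection numbers of
invertible modules being (L·M) = χ(O_X) − χ(L) − χ(M) + χ(L ⊗ M). For an invertible module L and an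
integral closed one-dimensional subscheme C ⊆ X write (L·C) = χ(O_C ⊗ L) − χ(O_C), and call a
(−1)-curve an integral closed one-dimensional subscheme E ⊆ X with H¹(E, O_E) = 0 and (O_X(E)·E) =
−1, O_X(E) being a tensor inverse of the ideal of E. Suppose d ≤ 7. Then L is nef, i.e. (L·C) ≥ 0
for every integral curve C ⊆ X, if and only if (L·E) ≥ 0 for every (−1)-curve E; and L is ample if
and only if (L·E) > 0 for every (−1)-curve E. -/
theorem result (k : Type u) [Field k] [IsAlgClosed k] [CharZero k] (X : Scheme.{u})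
    [X.Over (Spec (CommRingCat.of k))] [IsIntegral X] [IsProper (X ↘ (Spec (CommRingCat.of k)))] [Smooth (X ↘ (Spec (CommRingCat.of k)))]
    (hdim : topologicalKrullDim X = 2)
    (W : X.Modules) (hW : ExtPow.IsExtPow 2 (Omega.sheaf (X ↘ (Spec (CommRingCat.of k)))) W)
    (D : X.Modules) (hD : ClSub.IsInverseOf D W) (hample : CohB1.IsAmple D)
    (hd : FGA.intNum k X 2 ![W, W] (Coh.structureModule X) ≤ 7)
    (L : X.Modules) (hL : PicF.IsInvertible L) :
    ((∀ C : X.IdealSheafData, IsIntegral C.subscheme → topologicalKrullDim (C.support : Set X) = 1 → 0 ≤ (Curv2.euler k X (CohB1.tensorMod (ClSub.quotMod C) L) - Curv2.euler k X (ClSub.quotMod C))) ↔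
      (∀ (E : X.IdealSheafData) (N : X.Modules), IsIntegral E.subscheme → topologicalKrullDim (E.support : Set X) = 1 →
        Subsingleton (Coh.HH E.subscheme (Coh.structureModule E.subscheme) 1) →
        ClSub.IsInverseOf N (ClSub.idealMod E) → (Curv2.euler k X (CohB1.tensorMod (ClSub.quotMod E) N) - Curv2.euler k X (ClSub.quotMod E)) = -1 → 0 ≤ (Curv2.euler k X (CohB1.tensorMod (ClSub.quotMod E) L) - Curv2.euler k X (ClSub.quotMod E)))) ∧
    (CohB1.IsAmple L ↔
      (∀ (E : X.IdealSheafData) (N : X.Modules), IsIntegral E.subscheme → topologicalKrullDim (E.support : Set X) = 1 →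
        Subsingleton (Coh.HH E.subscheme (Coh.structureModule E.subscheme) 1) →
        ClSub.IsInverseOf N (ClSub.idealMod E) → (Curv2.euler k X (CohB1.tensorMod (ClSub.quotMod E) N) - Curv2.euler k X (ClSub.quotMod E)) = -1 → 0 < (Curv2.euler k X (CohB1.tensorMod (ClSub.quotMod E) L) - Curv2.euler k X (ClSub.quotMod E)))) := by
  have P := Surf.K460.DelPezzo.DP.of k X hdim hW hD hample
  have hd' := hd
  rw [K464.Base.intNum_eq_dot k X hdim.le P.hWi P.hWi] at hd'
  have hm := main P hd' (Grpsch.PicGrp.mk L hL)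
  have hdeg : ∀ C : X.IdealSheafData, K464.Curves.degOn k X C (Grpsch.PicGrp.mk L hL) =
      Curv2.euler k X (CohB1.tensorMod (ClSub.quotMod C) L) - Curv2.euler k X (ClSub.quotMod C) :=
    fun C => K464.Curves.degOn_mk k X C hL
  have hN : ∀ (E : X.IdealSheafData) (hE : BlowUp.IsEffCartierIdeal E), ∃ N : X.Modules,
      ClSub.IsInverseOf N (ClSub.idealMod E) ∧ (K464.Curves.degOn k X E (K464.Base.ic E hE)⁻¹ =
        Curv2.euler k X (CohB1.tensorMod (ClSub.quotMod E) N) - Curv2.euler k X (ClSub.quotMod E)) := by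
    intro E hE
    obtain ⟨N, hN, e⟩ := Grpsch.PicGrp.exists_inverse (Dix.IdealModCartier.isInvertible_idealMod hE)
    have h1 : ClSub.IsInverseOf N (ClSub.idealMod E) := by
      obtain ⟨e⟩ := e
      exact ⟨Ega2.Tens.swap _ _ ≪≫ e⟩
    refine ⟨N, h1, ?_⟩
    rw [← K464.Base.mk_eq_ic_inv h1 hN hE, K464.Curves.degOn_mk]
  refine ⟨⟨fun h E N h1 h2 _ _ _ => h E h1 h2, fun h C h1 h2 => ?_⟩, ⟨fun h E N h1 h2 _ _ _ => ?_, fun h => ?_⟩⟩
  · rw [← hdeg]
    refine hm.1 (fun E hEc hE hH hEE => ?_) C ⟨h1, h2⟩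
    obtain ⟨N, hN1, hN2⟩ := hN E hE
    rw [hdeg]
    exact h E N hEc.integral hEc.dim hH hN1 (by rw [← hN2]; exact hEE)
  · rw [← hdeg]
    exact K464.Curves.degOn_pos_of_ample k ⟨h1, h2⟩ hL h
  · have h1 := hm.2 (fun E hEc hE hH hEE => by
      obtain ⟨N, hN1, hN2⟩ := hN E hE
      rw [hdeg]
      exact h E N hEc.integral hEc.dim hH hN1 (by rw [← hN2]; exact hEE))
    exact K465.NakSurf.nak k hdim L hL h1.1 h1.2

end Groth.Agent.S15911
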