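import Groth.Statements.S15912
import Groth.Agent.Surf.K460.KodZero

set_option autoImplicit false
universe u
open CategoryTheory CategoryTheory.Limits AlgebraicGeometry TopologicalSpace
open Surf

namespace Groth.Agent.S15912

/-- Let k be an algebraically closed field of characteristic zero and X a del Pezzo surface over k: an
integral scheme, proper and smooth over k of dimension 2, with canonical module W (a second exterior
power of Ω_{X/k}) whose tensor inverse D is ample; its degree is d = (W·W), intersection numbers of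
invertible modules being (L·M) = χ(O_X) − χ(L) − χ(M) + χ(L ⊗ M). Then the anticanonical system has
dimension d: dim_k H⁰(X, D) = d + 1, and H¹(X, D) = H²(X, D) = 0. -/
theorem result (k : Type u) [Field k] [IsAlgClosed k] [CharZero k] (X : Scheme.{u})
    [X.Over (Spec (CommRingCat.of k))] [IsIntegral X] [IsProper (X ↘ (Spec (CommRingCat.of k)))] [Smooth (X ↘ (Spec (CommRingCat.of k)))]
    (hdim : topologicalKrullDim X = 2)
    (W : X.Modules) (hW : ExtPow.IsExtPow 2 (Omega.sheaf (X ↘ (Spec (CommRingCat.of k)))) W)
    (D : X.Modules) (hD : ClSub.IsInverseOf D W) (hample : CohB1.IsAmple D) :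
    (Module.finrank k (Coh.HH X D 0) : ℤ) = FGA.intNum k X 2 ![W, W] (Coh.structureModule X) + 1 ∧
      Subsingleton (Coh.HH X D 1) ∧ Subsingleton (Coh.HH X D 2) := by
  have hK := Groth.Agent.Surf.K460.KodZero.kod k X hdim
  have P := Groth.Agent.Surf.K460.DelPezzo.DP.of k X hdim hW hD hample
  obtain ⟨h0, h1, h2⟩ := P.h0_anticanonical hK
  rw [← P.mk_D] at h0 h1 h2
  refine ⟨?_, Groth.Agent.Surf.K460.SurfKit.subsingleton_of_h_eq_zero k X hample.1 h1,
    Groth.Agent.Surf.K460.SurfKit.subsingleton_of_h_eq_zero k X hample.1 h2⟩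
  rw [K464.Base.intNum_eq_dot k X hdim.le P.hWi P.hWi]
  exact h0

end Groth.Agent.S15912
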