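import Groth.Statements.S15913
import Groth.Agent.Surf.K460.KodZero

set_option autoImplicit false
universe u
open CategoryTheory CategoryTheory.Limits AlgebraicGeometry TopologicalSpace
open Surf

namespace Groth.Agent.S15913

/-- Let k be an algebraically closed field of characteristic zero and X a del Pezzo surface over k: an
integral scheme, proper and smooth over k of dimension 2, with canonical module W (a second exterior
power of Ω_{X/k}) whose tensor inverse D is ample; its degree is d = (W·W), intersection numbers of
invertible modules being (L·M) = χ(O_X) − χ(L) − χ(M) + χ(L ⊗ M); for a closed subscheme C with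
ideal I_C one has C·C = (I_C·I_C) and K·C = −(I_C·W) by bilinearity. Let C ⊆ X be an integral closed
one-dimensional subscheme of canonical degree K·C = −1, that is (I_C·W) = 1. Then either C is a
(−1)-curve, that is C·C = −1 and H¹(C, O_C) = 0, or d = 1 and the class of C is −K, that is I_C ≅ W
(existence of an isomorphism). (A curve of canonical degree −1 on X is automatically integral, −K
being ample; this row takes C integral.) -/
theorem result (k : Type u) [Field k] [IsAlgClosed k] [CharZero k] (X : Scheme.{u})
    [X.Over (Spec (CommRingCat.of k))] [IsIntegral X] [IsProper (X ↘ (Spec (CommRingCat.of k)))] [Smooth (X ↘ (Spec (CommRingCat.of k)))]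
    (hdim : topologicalKrullDim X = 2)
    (W : X.Modules) (hW : ExtPow.IsExtPow 2 (Omega.sheaf (X ↘ (Spec (CommRingCat.of k)))) W)
    (D : X.Modules) (hD : ClSub.IsInverseOf D W) (hample : CohB1.IsAmple D)
    (C : X.IdealSheafData) (hC : IsIntegral C.subscheme) (hC1 : topologicalKrullDim (C.support : Set X) = 1)
    (hdeg : FGA.intNum k X 2 ![ClSub.idealMod C, W] (Coh.structureModule X) = 1) :
    (FGA.intNum k X 2 ![ClSub.idealMod C, ClSub.idealMod C] (Coh.structureModule X) = -1 ∧
        Subsingleton (Coh.HH C.subscheme (Coh.structureModule C.subscheme) 1)) ∨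
      (FGA.intNum k X 2 ![W, W] (Coh.structureModule X) = 1 ∧ Nonempty (ClSub.idealMod C ≅ W)) := by
  have hK := Groth.Agent.Surf.K460.KodZero.kod k X hdim
  have P := Groth.Agent.Surf.K460.DelPezzo.DP.of k X hdim hW hD hample
  exact P.curve_degree_one hK C hC hC1 hdeg

end Groth.Agent.S15913
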