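import Groth.Statements.S15914
import Groth.Agent.S7861
import Groth.Agent.Surf.K460.Basic

set_option autoImplicit false
universe u
open CategoryTheory CategoryTheory.Limits AlgebraicGeometry TopologicalSpace
open Surf

namespace Groth.Agent.S15914

/-- Let k be an algebraically closed field of characteristic zero and X a smooth surface over k
(integral, proper and smooth over k of dimension 2) with canonical module W, a second exterior power
of Ω_{X/k}; intersection numbers of invertible modules are (L·M) = χ(O_X) − χ(L) − χ(M) + χ(L ⊗ M),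
so that for a closed subscheme C with ideal I_C one has C·C = (I_C·I_C) and K·C = −(I_C·W). If C ⊆ X
is an integral closed one-dimensional subscheme with K·C = −1, that is (I_C·W) = 1, then C·C is odd
and C·C ≥ −1. -/
theorem result (k : Type u) [Field k] [IsAlgClosed k]
    [CharZero k] (X : Scheme.{u}) [X.Over (Spec (CommRingCat.of k))] [IsIntegral X] [IsProper (X ↘ (Spec (CommRingCat.of k)))] [Smooth (X ↘ (Spec (CommRingCat.of k)))]
    (hdim : topologicalKrullDim X = 2)
    (W : X.Modules) (hW : ExtPow.IsExtPow 2 (Omega.sheaf (X ↘ (Spec (CommRingCat.of k)))) W)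
    (C : X.IdealSheafData) (hC : IsIntegral C.subscheme) (hC1 : topologicalKrullDim (C.support : Set X) = 1)
    (hdeg : FGA.intNum k X 2 ![ClSub.idealMod C, W] (Coh.structureModule X) = 1) :
    Odd (FGA.intNum k X 2 ![ClSub.idealMod C, ClSub.idealMod C] (Coh.structureModule X)) ∧
      -1 ≤ FGA.intNum k X 2 ![ClSub.idealMod C, ClSub.idealMod C] (Coh.structureModule X) := by
  have hC1' : topologicalKrullDim C.subscheme = 1 := by
    rw [Groth.Agent.Surf.K460.Basic.dim_subscheme, hC1]
  have hcar := Groth.Agent.Surf.K460.Basic.isEffCartier_of_curve k hdim C hC hC1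
  have hinv : PicF.IsInvertible (ClSub.idealMod C) := Groth.Agent.Dix.IdealModCartier.isInvertible_idealMod hcar
  have hker : C.subschemeι.ker = C := C.ker_subschemeι
  have hadj := Groth.Agent.S7861.result k X hdim W hW C.subscheme C.subschemeι (by rw [hker]; exact hinv)
  rw [hker, hdeg] at hadj
  letI : C.subscheme.Over (Spec (CommRingCat.of k)) := ⟨C.subschemeι ≫ (X ↘ (Spec (CommRingCat.of k)))⟩
  have : IsProper (C.subscheme ↘ (Spec (CommRingCat.of k))) :=
    inferInstanceAs (IsProper (C.subschemeι ≫ (X ↘ (Spec (CommRingCat.of k)))))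
  have he := Groth.Agent.Surf.K460.Basic.euler_structure k C.subscheme hC1'.le
  rw [he] at hadj
  set h : ℕ := Module.finrank k (Coh.HH C.subscheme (Coh.structureModule C.subscheme) 1)
  constructor
  · exact ⟨(h : ℤ) - 1, by linarith⟩
  · have := Int.natCast_nonneg h
    linarith

end Groth.Agent.S15914
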