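import Groth.Statements.S15915
import Groth.Agent.Surf.K460.DPGlob
import Groth.Agent.Surf.K460.KodZero

set_option autoImplicit false
universe u
open CategoryTheory CategoryTheory.Limits AlgebraicGeometry TopologicalSpace
open Surf

namespace Groth.Agent.S15915

/-- Let k be an algebraically closed field of characteristic zero and X a del Pezzo surface over k: an
integral scheme, proper and smooth over k of dimension 2, with canonical module W (a second exterior
power of Ω_{X/k}) whose tensor inverse D is ample; its degree is d = (W·W), intersection numbers of
invertible modules being (L·M) = χ(O_X) − χ(L) − χ(M) + χ(L ⊗ M). If d = 2 then D is generated by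
its global sections: the anticanonical system is base-point free. (The published statement also
asserts base-point freeness for every degree d ≥ 2 and very ampleness for d ≥ 3, proving the case d
= 2 and citing the literature for d ≥ 3; this row is the case d = 2, the one proved there.) -/
theorem result (k : Type u) [Field k] [IsAlgClosed k] [CharZero k] (X : Scheme.{u})
    [X.Over (Spec (CommRingCat.of k))] [IsIntegral X] [IsProper (X ↘ (Spec (CommRingCat.of k)))] [Smooth (X ↘ (Spec (CommRingCat.of k)))]
    (hdim : topologicalKrullDim X = 2)
    (W : X.Modules) (hW : ExtPow.IsExtPow 2 (Omega.sheaf (X ↘ (Spec (CommRingCat.of k)))) W)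
    (D : X.Modules) (hD : ClSub.IsInverseOf D W) (hample : CohB1.IsAmple D)
    (hd : FGA.intNum k X 2 ![W, W] (Coh.structureModule X) = 2) :
    Curv2.IsGloballyGenerated D := by
  have hK := Groth.Agent.Surf.K460.KodZero.kod k X hdim
  have P := Groth.Agent.Surf.K460.DelPezzo.DP.of k X hdim hW hD hample
  rw [K464.Base.intNum_eq_dot k X hdim.le P.hWi P.hWi] at hd
  exact Groth.Agent.Surf.K460.DPGlob.isGloballyGenerated P hK hd

end Groth.Agent.S15915
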