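import Groth.Statements.S15917
import Groth.Agent.Curves.K325.Tree
import Groth.Agent.CurvesC.TailUnion

set_option autoImplicit false
universe u
open CategoryTheory CategoryTheory.Limits AlgebraicGeometry TopologicalSpace
open Curves

namespace Groth.Agent.S15917

/-- Let k be an algebraically closed field of characteristic zero and C a rational tree over k: a
connected, reduced scheme, proper over k of dimension one, with at-worst-nodal singularities and
H¹(C, O_C) = 0 (equivalently, all components are smooth rational curves and the dual graph is a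
tree). Let F be a finite locally free O_C-module and R ⊆ C a closed subscheme that is reduced and
connected and whose support is a union of irreducible components of C. If for every irreducible
component Z of C not contained in R (taken with its reduced structure, i.e. every integral closed
one-dimensional subscheme Z whose support is not inside R) the restriction F|_Z is generated by
global sections, then h¹(C, F) = h¹(R, F|_R). -/
theorem result (k : Type u) [Field k] [IsAlgClosed k] [CharZero k]
    (C : Scheme.{u}) [C.Over (Spec (CommRingCat.of k))] [IsProper (C ↘ (Spec (CommRingCat.of k)))] [IsReduced C] [ConnectedSpace C]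
    (hdim : topologicalKrullDim C = 1) (hnodal : Curv2.AtWorstNodal k C)
    (hg : Subsingleton (Coh.HH C (Coh.structureModule C) 1))
    (F : C.Modules) (hF : FlatMod.IsFinLocFree F)
    (R : C.IdealSheafData) [IsReduced R.subscheme] [ConnectedSpace R.subscheme]
    (hRunion : ∀ x ∈ (R.support : Set C), ∃ Z : C.IdealSheafData, IsIntegral Z.subscheme ∧
      topologicalKrullDim (Z.support : Set C) = 1 ∧ (Z.support : Set C) ⊆ R.support ∧ x ∈ (Z.support : Set C))
    (hgg : ∀ Z : C.IdealSheafData, IsIntegral Z.subscheme → topologicalKrullDim (Z.support : Set C) = 1 →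
      ¬ ((Z.support : Set C) ⊆ R.support) → Curv2.IsGloballyGenerated ((Scheme.Modules.pullback Z.subschemeι).obj F)) :
    letI : R.subscheme.Over (Spec (CommRingCat.of k)) := ⟨R.subschemeι ≫ (C ↘ (Spec (CommRingCat.of k)))⟩
    Module.finrank k (Coh.HH C F 1) =
      Module.finrank k (Coh.HH R.subscheme ((Scheme.Modules.pullback R.subschemeι).obj F) 1) := by
  have hN := CurvesC.CurveCoh.noetherianSpace k C
  have hN1 : IsLocallyNoetherian C := LocallyOfFiniteType.isLocallyNoetherian (C ↘ (Spec (CommRingCat.of k)))
  have hCS : CompactSpace C := QuasiCompact.compactSpace_of_compactSpace (C ↘ (Spec (CommRingCat.of k)))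
  have hN2 : IsNoetherian C := { }
  have hv : ∀ (M : C.Modules), Subsingleton (Coh.HH C M 2) := fun M =>
    S0458.result 1 hdim.le (Coh.toAb M) 2 (by norm_num)
  refine K325.GlueCoh.finrank_eq R k hF 1 ?_ (hv _)
  let I₀ : Set (Set C) := {Z | Z ∈ irreducibleComponents (C : Type u) ∧ Z ⊆ R.support}
  have hI₀ : ⋃₀ I₀ = R.support := by
    apply Set.Subset.antisymm
    · rintro x ⟨Z, hZ, hx⟩
      exact hZ.2 hx
    · intro x hx
      obtain ⟨Z, hZi, hZ1, hZR, hxZ⟩ := hRunion x hx
      refine ⟨Z.support, ⟨?_, hZR⟩, hxZ⟩
      have hirr : IsIrreducible (Z.support : Set C) := by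
        rw [← Scheme.IdealSheafData.range_subschemeι, ← Set.image_univ]
        exact (IrreducibleSpace.isIrreducible_univ _).image _ Z.subschemeι.continuous.continuousOn
      rcases VarietyB.DegComp.mem_irreducibleComponents_of_dim hdim.le _ hirr Z.support.isClosed with h | h
      · rw [hZ1] at h
        exact absurd h (by decide)
      · exact h.1
  have hconn : _root_.IsConnected (⋃₀ I₀) := by
    rw [hI₀, ← Scheme.IdealSheafData.range_subschemeι]
    exact isConnected_range R.subschemeι.continuous
  have hcl : IsClosed (⋃₀ I₀) := by rw [hI₀]; exact R.support.isClosed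
  have h := K325.Tree.main k hdim hg hF I₀ ?_ _ I₀ (fun Z hZ => hZ.1) (le_refl I₀) hconn rfl hcl
  · have heq : (⟨⋃₀ I₀, hcl⟩ : TopologicalSpace.Closeds C) = R.support := by
      ext1
      exact hI₀
    rw [heq, ← CurvesC.TailUnion.eq_vanishingIdeal R] at h
    exact h
  · intro Z hZ hZ0
    have hsupp : ((CurvesC.TailGeom.compIdeal Z hZ).support : Set C) = Z := by
      rw [CurvesC.TailGeom.coe_support_compIdeal]
      rfl
    have h1 := CurvesC.TailGeom.irreducible_comp Z hZ
    have h2 : IsReduced (CurvesC.TailGeom.compIdeal Z hZ).subscheme :=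
      Ega1.ReducedSub.isReduced_subscheme_vanishingIdeal _
    refine hgg _ (isIntegral_of_irreducibleSpace_of_isReduced _) ?_ ?_
    · rw [hsupp]
      exact CurvesC.TailMain.pure_of_connected C hdim Z hZ
    · rw [hsupp]
      exact fun h => hZ0 ⟨hZ, h⟩

end Groth.Agent.S15917
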