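import Groth.Statements.S15919
import Groth.Agent.Surf.K461.DPone
import Groth.Agent.Surf.K460.KodZero

set_option autoImplicit false
universe u
open CategoryTheory CategoryTheory.Limits AlgebraicGeometry TopologicalSpace
open Surf

namespace Groth.Agent.S15919

/-- Let k be an algebraically closed field of characteristic zero and X a del Pezzo surface over k: an
integral scheme, proper and smooth over k of dimension 2, with canonical module W (a second exterior
power of Ω_{X/k}) whose tensor inverse D is ample; its degree is d = (W·W), intersection numbers of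
invertible modules being (L·M) = χ(O_X) − χ(L) − χ(M) + χ(L ⊗ M). If d = 1 then the anticanonical
system has a unique base point: there is exactly one closed point p of X at which all global
sections of D vanish, vanishing of all sections at p being expressed as dim_k H⁰(X, D ⊗ I_p) = dim_k
H⁰(X, D) for the ideal I_p of the reduced point p. (The printed proof also shows that the base locus
is a single reduced point; this row records existence and uniqueness of the point.) -/
theorem result (k : Type u) [Field k] [IsAlgClosed k] [CharZero k] (X : Scheme.{u})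
    [X.Over (Spec (CommRingCat.of k))] [IsIntegral X] [IsProper (X ↘ (Spec (CommRingCat.of k)))] [Smooth (X ↘ (Spec (CommRingCat.of k)))]
    (hdim : topologicalKrullDim X = 2)
    (W : X.Modules) (hW : ExtPow.IsExtPow 2 (Omega.sheaf (X ↘ (Spec (CommRingCat.of k)))) W)
    (D : X.Modules) (hD : ClSub.IsInverseOf D W) (hample : CohB1.IsAmple D)
    (hd : FGA.intNum k X 2 ![W, W] (Coh.structureModule X) = 1) :
    ∃! p : {x : X // IsClosed ({x} : Set X)},
      Module.finrank k (Coh.HH X (CohB1.tensorMod D (ClSub.idealMod (Scheme.IdealSheafData.vanishingIdeal ⟨{p.1}, p.2⟩))) 0) = Module.finrank k (Coh.HH X D 0) := by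
  have hK := Groth.Agent.Surf.K460.KodZero.kod k X hdim
  have P := Groth.Agent.Surf.K460.DelPezzo.DP.of k X hdim hW hD hample
  rw [K464.Base.intNum_eq_dot k X hdim.le P.hWi P.hWi] at hd
  obtain ⟨x₀, hx₀, h1, h2⟩ := K461.DPone.exists_base P hK hd
  refine ⟨⟨x₀, hx₀⟩, ?_, ?_⟩
  · refine (K461.BasePt.finrank_eq_iff k hample.1 ⟨{x₀}, hx₀⟩).2 fun t y hy => ?_
    obtain rfl : y = x₀ := hy
    exact h1 t
  · rintro ⟨y, hy⟩ h
    apply Subtype.ext
    by_contra hne
    obtain ⟨t, ht⟩ := h2 y hne
    exact (K461.BasePt.finrank_eq_iff k hample.1 ⟨{y}, hy⟩).1 h t y rfl ht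

end Groth.Agent.S15919
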