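import Groth.Statements.S15920
import Groth.Agent.Curves.K325.Contract
import Groth.Agent.PerfA.H0AlgClosed
import Groth.Agent.CurvesC.CurveCoh

set_option autoImplicit false
universe u
open CategoryTheory CategoryTheory.Limits AlgebraicGeometry TopologicalSpace
open Curves

namespace Groth.Agent.S15920

/-- Let k be an algebraically closed field of characteristic zero; a rational tree over k is a
connected, reduced scheme, proper over k of dimension one, with at-worst-nodal singularities and
H¹(O) = 0. Let C be a rational tree, p ∈ C a node, and π : C' → C the total transform of C at p: C'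
is a rational tree, π is a morphism over k restricting to an isomorphism over C ∖ {p}, and the fibre
π⁻¹(p) is, as a set, a closed subscheme E of C' isomorphic to P¹_k over k (the exceptional
component). Then for every finite locally free O_C-module F and i = 0, 1 one has h^i(C, F) = h^i(C',
π^*F). -/
theorem result (k : Type u) [Field k] [IsAlgClosed k] [CharZero k]
    (C : Scheme.{u}) [C.Over (Spec (CommRingCat.of k))] [IsProper (C ↘ (Spec (CommRingCat.of k)))] [IsReduced C] [ConnectedSpace C] (hdim : topologicalKrullDim C = 1) (hnodal : Curv2.AtWorstNodal k C)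
    (hg : Subsingleton (Coh.HH C (Coh.structureModule C) 1))
    (C' : Scheme.{u}) [C'.Over (Spec (CommRingCat.of k))] [IsProper (C' ↘ (Spec (CommRingCat.of k)))] [IsReduced C'] [ConnectedSpace C'] (hdim' : topologicalKrullDim C' = 1) (hnodal' : Curv2.AtWorstNodal k C')
    (hg' : Subsingleton (Coh.HH C' (Coh.structureModule C') 1))
    (p : C) (hp : Curv2.IsNode k C p) (hpc : IsClosed ({p} : Set C))
    (π : C' ⟶ C) (hπ : π ≫ (C ↘ (Spec (CommRingCat.of k))) = C' ↘ (Spec (CommRingCat.of k)))
    (hiso : IsIso (π ∣_ (⟨({p} : Set C)ᶜ, hpc.isOpen_compl⟩ : C.Opens)))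
    (E : C'.IdealSheafData) (e : E.subscheme ≅ CohB1.ProjSpace 1 k)
    (he : e.hom ≫ CohB1.ProjSpace.toSpec 1 k = E.subschemeι ≫ (C' ↘ (Spec (CommRingCat.of k))))
    (hfib : ∀ x : C', π x = p ↔ x ∈ (E.support : Set C'))
    (F : C.Modules) (hF : FlatMod.IsFinLocFree F) :
    Module.finrank k (Coh.HH C F 0) = Module.finrank k (Coh.HH C' ((Scheme.Modules.pullback π).obj F) 0) ∧
      Module.finrank k (Coh.HH C F 1) = Module.finrank k (Coh.HH C' ((Scheme.Modules.pullback π).obj F) 1) := by
  have hN1 : IsLocallyNoetherian C := LocallyOfFiniteType.isLocallyNoetherian (C ↘ (Spec (CommRingCat.of k)))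
  have hCS : CompactSpace C := QuasiCompact.compactSpace_of_compactSpace (C ↘ (Spec (CommRingCat.of k)))
  have hN2 : IsNoetherian C := { }
  have hN1' : IsLocallyNoetherian C' := LocallyOfFiniteType.isLocallyNoetherian (C' ↘ (Spec (CommRingCat.of k)))
  have hCS' : CompactSpace C' := QuasiCompact.compactSpace_of_compactSpace (C' ↘ (Spec (CommRingCat.of k)))
  have hN2' : IsNoetherian C' := { }
  have hP : IsProper (π ≫ (C ↘ (Spec (CommRingCat.of k)))) := by rw [hπ]; infer_instance
  have hPπ : IsProper π := IsProper.of_comp π (C ↘ (Spec (CommRingCat.of k)))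
  have h0 : Function.Surjective (π.app ⊤) := by
    intro s
    obtain ⟨c, hc⟩ := (PerfA.H0AlgClosed.bijective_str_of_isAlgClosed
      (π ≫ (C ↘ (Spec (CommRingCat.of k))))).2 s
    refine ⟨PerfA.CechH0.str (C ↘ (Spec (CommRingCat.of k))) ⊤ c, ?_⟩
    refine Eq.trans ?_ hc
    simp only [PerfA.CechH0.str, RingHom.comp_apply]
    rw [← Scheme.Hom.appLE_eq_app]
    have h1 := Scheme.Hom.appLE_comp_appLE π (C ↘ (Spec (CommRingCat.of k))) ⊤ ⊤ ⊤
      (PerfA.CechH0.le_preimage_top (C ↘ (Spec (CommRingCat.of k))) ⊤) le_rfl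
    exact congr($(h1) _)
  have hdense : closure (({p} : Set C)ᶜ) = Set.univ := by
    rw [← dense_iff_closure_eq, ← interior_eq_empty_iff_dense_compl]
    by_contra hcon
    obtain ⟨x, hx⟩ := Set.nonempty_iff_ne_empty.2 hcon
    have hxp : x ∈ ({p} : Set C) := interior_subset hx
    rw [Set.mem_singleton_iff] at hxp
    have hopen : IsOpen ({p} : Set C) := by
      have h1 : interior ({p} : Set C) = {p} :=
        Set.Subset.antisymm interior_subset (by rintro y (rfl : y = p); exact hxp ▸ hx)
      rw [← h1]
      exact isOpen_interior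
    have hclopen : IsClopen ({p} : Set C) := ⟨hpc, hopen⟩
    have huniv := hclopen.eq_univ (Set.singleton_nonempty p)
    have : Subsingleton C := by
      refine ⟨fun a b => ?_⟩
      have ha : a ∈ ({p} : Set C) := huniv ▸ Set.mem_univ a
      have hb : b ∈ ({p} : Set C) := huniv ▸ Set.mem_univ b
      rw [Set.mem_singleton_iff.1 ha, Set.mem_singleton_iff.1 hb]
    have h0 : topologicalKrullDim C ≤ 0 := topologicalKrullDim_zero_of_discreteTopology C
    rw [hdim] at h0
    exact absurd h0 (by decide)
  exact ⟨K325.Contract.finrank_eq π hpc k hπ hdense hdim.le hdim'.le hg h0 hg' hF 0,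
    K325.Contract.finrank_eq π hpc k hπ hdense hdim.le hdim'.le hg h0 hg' hF 1⟩

end Groth.Agent.S15920
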