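import Groth.Statements.S15922
import Groth.Agent.Curves.K326.PtIdeal
-- import your own Groth.Agent.* helpers here

set_option autoImplicit false
universe u
open CategoryTheory CategoryTheory.Limits AlgebraicGeometry
open Curves

namespace Groth.Agent.S15922

/-- Let k be an algebraically closed field, X a curve over k (proper over k, reduced, connected, every
irreducible component of dimension one) and P a closed point of X, with m_P the ideal sheaf of the
reduced point P viewed as an O_X-module. Then m_P is a torsion-free sheaf of rank one and degree -1: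
regular elements of each local ring O_{X,x} act injectively on the stalk of m_P at x, the stalk at
every generic point of an irreducible component has dimension one over the local ring there, and
χ(X, m_P) - χ(X, O_X) = -1. -/
theorem result (k : Type u) [Field k] [IsAlgClosed k] (X : Scheme.{u}) [X.Over (Spec (CommRingCat.of k))] [IsProper (X ↘ (Spec (CommRingCat.of k)))] [IsReduced X] [ConnectedSpace X]
    (hequi : ∀ Z ∈ irreducibleComponents (X : Type u), topologicalKrullDim Z = 1)
    (P : X) (hP : IsClosed ({P} : Set X)) :
    TorSh.IsTorsionFree (ClSub.idealMod (Scheme.IdealSheafData.vanishingIdeal ⟨{P}, hP⟩)) ∧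
    (∀ η : X, closure ({η} : Set X) ∈ irreducibleComponents (X : Type u) →
      Module.finrank (X.presheaf.stalk η) ((ClSub.idealMod (Scheme.IdealSheafData.vanishingIdeal ⟨{P}, hP⟩)).presheaf.stalk η) = 1) ∧
    Curv2.deg k X (ClSub.idealMod (Scheme.IdealSheafData.vanishingIdeal ⟨{P}, hP⟩)) 1 = -1 := by
  refine ⟨K326.PtIdeal.isTorsionFree_idealMod _, fun η hη => ?_, ?_⟩
  · refine K326.PtIdeal.finrank_stalk_eq_one fun h => ?_
    obtain rfl := (K326.PtIdeal.mem_support_iff P hP η).mp h
    exact K326.PtIdeal.not_isClosed_of_generic (hequi _ hη) hP
  · have hs : ((Scheme.IdealSheafData.vanishingIdeal ⟨{P}, hP⟩ : X.IdealSheafData).support : Set X) = {P} :=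
      Scheme.IdealSheafData.coe_support_vanishingIdeal _
    have h1 := K326.PtIdeal.euler_idealMod X k (Scheme.IdealSheafData.vanishingIdeal ⟨{P}, hP⟩)
      (by rw [hs]; exact Set.finite_singleton P)
      (fun x hx => by rw [(K326.PtIdeal.mem_support_iff P hP x).mp hx]; exact hP)
      (fun x hx => by
        obtain rfl := (K326.PtIdeal.mem_support_iff P hP x).mp hx
        exact K326.PtIdeal.stalkIdeal_point x hP)
    rw [hs, Set.ncard_singleton] at h1
    unfold Curv2.deg
    rw [h1]
    push_cast
    ring

end Groth.Agent.S15922
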