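import Groth.Statements.S15932
import Groth.Agent.BMCoh.K876.PtVan

set_option autoImplicit false
universe u
open CategoryTheory AlgebraicGeometry Opposite
open BMCoh

namespace Groth.Agent.S15932

open K876.Geom K876.Colim K876.Gysin K876.Points K876.PushUniq K876.ResComp K876.Ext K876.PtVan
  K876.Restr

/-- Let T be a twisted Borel–Moore cohomology theory with coefficients in A (a full subcategory of
R-modules containing R) on a constructible class V of Noetherian schemes, X an object of V and j a
natural number; H^i(F_kX, M(n)) denotes the colimit of H^i(U, M(n)) over the open subschemes U of X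
containing every point of codimension at most k (codimension of a point = dim X minus the dimension
of its closure), and H^i(x, M(n)) the group of a point x (colimit over the nonempty opens of its
reduced closure). A residue datum for X at level j consists of maps ∂_x : H^i(F_jX, M(n)) →
H^{i'}(x, M(n')), (i', n') = (i + 1 − 2(j+1), n − (j+1)), for every point x of codimension j + 1,
every coefficient module M and all i, n, each class having only finitely many nonzero ∂_x, such
that: for every object Y with a morphism of V into X, every decomposition of Y into a closed part Z
and an open complement U' of the dimension of Y, every nonempty open W of the reduced closure of x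
(of its dimension) with a morphism of V into Z over X, and every open U of X containing the points
of codimension at most j (of the dimension of X) with a morphism of V into U' over X, the composite
H^i(U') → H^i(U) → H^i(F_jX) → H^{i'}(x) equals the residue map of the decomposition followed by
restriction to W and the canonical map H^{i'}(W) → H^{i'}(x). There is at most one such datum. -/
theorem result (V : ObjectProperty Scheme.{u}) [BMCoh.IsConstructible V] (R : Type u) [CommRing R] (A : BMCoh.Coefs R) (T : BMCoh.TheoryOn V R A) (X : BMCoh.Obj V) (j : ℕ) : Subsingleton (T.ResData X j) := by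
  refine ⟨fun Q Q' => ?_⟩
  have h : Q.cpt = Q'.cpt := by
    funext x M i n i' n' hi hn
    apply ModuleCat.hom_ext
    apply LinearMap.ext
    intro ξ
    obtain ⟨U, hU, a, rfl⟩ := fj_rep T.toPreTheory ξ
    by_cases hx : x.1 ∈ U
    · rw [res_zero T.toPreTheory Q x U hU hx, res_zero T.toPreTheory Q' x U hU hx]
    · let g := X.resι U (dim_res_eq_of_containsFj X j U hU)
      have hg := containsFj_range X U hU (dim_res_eq_of_containsFj X j U hU)
      have hxg : x.1 ∉ Set.range g.hom := by
        change x.1 ∉ Set.range U.ι
        rw [Scheme.Opens.range_ι]
        exact hx
      have hd := dim_decOf g hg x.1 x.2 hxg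
      have hc : (decOf g).codim = (j : ℤ) + 1 := (codim_eq_of_dim hd).trans (by push_cast; rfl)
      obtain ⟨z, hz⟩ := (not_mem_range_j (decOf g) x.1).1 hxg
      obtain ⟨x, hx'⟩ := x
      subst hz
      have hz0 : WeilCoh.codim (decOf g).Z.scheme z = 0 := by
        have := codim_add (decOf g).i (j + 1) hd z
        omega
      obtain ⟨w, hw⟩ := exists_piece (decOf g).i z (nb (decOf g).Z z) le_rfl (mem_nb _ z hz0)
      have key : ∀ Q : T.ResData X j, (Q.cpt ⟨(decOf g).i z, hx'⟩ M i n i' n' hi hn).hom
          (fj T.toPreTheory j g hg a) = _ := fun Q =>
        res_spec T.toPreTheory Q ⟨(decOf g).i z, hx'⟩ (𝟙 X) (decOf g) w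
          (nonempty_range_of_mem (mem_nb (decOf g).Z z hz0) w)
          ((decOf g).Z.resι (nb (decOf g).Z z) (dim_res_eq _ _ z hz0 (mem_nb (decOf g).Z z hz0)))
          (by rw [id_hom, Category.comp_id]; exact hw.symm) g (Category.comp_id _) hg hi hn
          (by rw [hc]; exact hi) (by rw [hc]; exact hn) a
      exact (key Q).trans (key Q').symm
  cases Q
  cases Q'
  cases h
  rfl

end Groth.Agent.S15932
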