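import Groth.Statements.S15934
-- import your own Groth.Agent.* helpers here
import Groth.Agent.IntTh.K712.DefoFlat

set_option autoImplicit false
universe u
open CategoryTheory CategoryTheory.Limits AlgebraicGeometry
open IntTh

namespace Groth.Agent.S15934

/-- Let f : X ⟶ S be locally projective, flat, surjective and locally of finite presentation, with every
fibre of local dimension n at each of its points, and let i : Y ⟶ X be a closed immersion that is
regular of constant codimension c ≤ n (locally cut out by a regular sequence of length c) such that
Y ⟶ S is again locally projective, flat, surjective and locally of finite presentation with fibres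
of local dimension n − c everywhere. Let b : M ⟶ P¹_X be a blowing-up of P¹_X in the closed
subscheme Y × {∞} (the image of Y under the section at infinity), given through its universal
property. Then the composite M ⟶ P¹_X ⟶ P¹_S (the deformation to the normal cone, viewed over the
projective line of the base) is locally projective, flat, surjective and locally of finite
presentation, and every one of its fibres has local dimension n at each point. -/
theorem result
    {S X Y M : Scheme.{u}} (f : X ⟶ S) (n c : ℕ) (hc : c ≤ n)
    (hfproj : RedSub.IsLocallyProjective (Over.mk f))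
    [Flat f] [Surjective f] [LocallyOfFinitePresentation f]
    (hfdim : ∀ x : ↥X, FlatMor.fibreDimAt f x = n)
    (i : Y ⟶ X) [IsClosedImmersion i]
    (hi : RegImm.IsRegularImmersionOfCodim RegImm.Kind.regular c i)
    (hgproj : RedSub.IsLocallyProjective (Over.mk (i ≫ f)))
    [Flat (i ≫ f)] [Surjective (i ≫ f)] [LocallyOfFinitePresentation (i ≫ f)]
    (hgdim : ∀ y : ↥Y, FlatMor.fibreDimAt (i ≫ f) y = ((n - c : ℕ) : WithBot ℕ∞))
    (b : M ⟶ CohB1.ProjSpaceOver 1 X)
    (hb : BlowUp.IsBlowUp b (i ≫ P1.sect X 1).ker) :
    RedSub.IsLocallyProjective (Over.mk (b ≫ P1.toP1 f)) ∧ Flat (b ≫ P1.toP1 f) ∧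
      Surjective (b ≫ P1.toP1 f) ∧ LocallyOfFinitePresentation (b ≫ P1.toP1 f) ∧
      ∀ m : ↥M, FlatMor.fibreDimAt (b ≫ P1.toP1 f) m = n := by
  rw [K712.SectSec.sect_eq] at hb
  exact K712.DefoFlat.main f n c hfproj hfdim i (K712.DefoBase.regAtLen_of_regImm hi) b hb

end Groth.Agent.S15934
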