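import Groth.Statements.S15939
import Mathlib.RingTheory.Artinian.Ring
import Mathlib.RingTheory.Artinian.Algebra
import Mathlib.FieldTheory.PurelyInseparable.Basic
import Mathlib.FieldTheory.PurelyInseparable.PerfectClosure
import Mathlib.FieldTheory.KummerPolynomial
import Mathlib.RingTheory.AdjoinRoot
import Mathlib.RingTheory.Adjoin.PowerBasis

set_option autoImplicit false
universe u
open CAlg

namespace Groth.Agent.S15939

open Polynomial

section

variable {κ A : Type u} [Field κ] [CommRing A] [Algebra κ A]

lemma adjoin_eq_top (h : IsSimpleOrder (Subalgebra κ A)) {x : A} (hx : x ∉ (⊥ : Subalgebra κ A)) :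
    Algebra.adjoin κ {x} = ⊤ := by
  rcases h.eq_bot_or_eq_top (Algebra.adjoin κ {x}) with h1 | h1
  · exact absurd (h1 ▸ Algebra.self_mem_adjoin_singleton κ x) hx
  · exact h1

lemma exists_notMem (h : IsSimpleOrder (Subalgebra κ A)) : ∃ x : A, x ∉ (⊥ : Subalgebra κ A) := by
  by_contra hc
  push Not at hc
  have : (⊥ : Subalgebra κ A) = ⊤ := by
    rw [eq_top_iff]
    exact fun x _ => hc x
  exact bot_ne_top this

lemma isIntegral_of_isSimpleOrder (h : IsSimpleOrder (Subalgebra κ A)) (x : A) :
    IsIntegral κ x := by
  rw [← isAlgebraic_iff_isIntegral]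
  by_cases hx2 : x ^ 2 ∈ (⊥ : Subalgebra κ A)
  · obtain ⟨c, hc⟩ := Algebra.mem_bot.mp hx2
    refine ⟨X ^ 2 - C c, ?_, ?_⟩
    · exact (monic_X_pow_sub_C c two_ne_zero).ne_zero
    · simp [hc]
  · have h1 := adjoin_eq_top h hx2
    have h2 : x ∈ Algebra.adjoin κ {x ^ 2} := h1 ▸ Algebra.mem_top
    rw [Algebra.adjoin_singleton_eq_range_aeval] at h2
    obtain ⟨g, hg⟩ := h2
    refine ⟨X - g.comp (X ^ 2), ?_, ?_⟩
    · intro h3
      have h4 := congrArg natDegree (sub_eq_zero.mp h3)
      rw [natDegree_X, natDegree_comp, natDegree_X_pow] at h4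
      omega
    · rw [map_sub, aeval_X, aeval_comp, map_pow, aeval_X]
      exact sub_eq_zero.mpr hg.symm

lemma finiteDimensional (h : IsSimpleOrder (Subalgebra κ A)) : FiniteDimensional κ A := by
  obtain ⟨x, hx⟩ := exists_notMem h
  have h1 := (isIntegral_of_isSimpleOrder h x).fg_adjoin_singleton
  rw [adjoin_eq_top h hx] at h1
  exact ⟨h1⟩

/-- if `x ∉ κ` and `x² = 0` then `A` is the dual numbers. -/
lemma dual (h : IsSimpleOrder (Subalgebra κ A)) {x : A} (hx : x ∉ (⊥ : Subalgebra κ A))
    (hx2 : x * x = 0) : Nonempty (A ≃ₐ[κ] DualNumber κ) := by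
  have h1 := adjoin_eq_top h hx
  let φ : DualNumber κ →ₐ[κ] A := DualNumber.lift ⟨(Algebra.ofId κ A, x), hx2, fun r => by
    simp [Commute, SemiconjBy, mul_comm]⟩
  have hφ : φ DualNumber.eps = x := by
    simp [φ]
  refine ⟨(AlgEquiv.ofBijective φ ⟨?_, ?_⟩).symm⟩
  · rw [injective_iff_map_eq_zero]
    intro d hd
    have h2 : algebraMap κ A d.fst + d.snd • x = 0 := by
      rw [← hd]
      simp [φ, DualNumber.lift_apply_apply, Algebra.smul_def, Algebra.ofId_apply]
    by_cases h3 : d.snd = 0
    · rw [h3, zero_smul, add_zero] at h2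
      have h4 : d.fst = 0 := by
        have : Nontrivial A := by
          by_contra hn
          rw [not_nontrivial_iff_subsingleton] at hn
          exact hx (by rw [Subsingleton.elim x 0]; exact zero_mem _)
        exact (algebraMap κ A).injective (by rw [h2, map_zero])
      exact TrivSqZeroExt.ext h4 h3
    · exfalso
      apply hx
      have h4 : x = (-(d.snd)⁻¹ * d.fst) • (1 : A) := by
        have : d.snd • x = - algebraMap κ A d.fst := by
          rw [eq_neg_iff_add_eq_zero, add_comm]; exact h2
        have h5 : x = (d.snd)⁻¹ • (d.snd • x) := by rw [smul_smul, inv_mul_cancel₀ h3, one_smul]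
        rw [h5, this, ← Algebra.algebraMap_eq_smul_one, map_mul, map_neg, Algebra.smul_def]
        ring
      rw [h4, ← Algebra.algebraMap_eq_smul_one]
      exact Subalgebra.algebraMap_mem _ _
  · rw [← AlgHom.range_eq_top, eq_top_iff, ← h1, Algebra.adjoin_le_iff, Set.singleton_subset_iff]
    exact ⟨DualNumber.eps, hφ⟩

/-- if `e ∉ κ` is idempotent then `A` is `κ × κ`. -/
lemma prod (h : IsSimpleOrder (Subalgebra κ A)) {e : A} (he : e ∉ (⊥ : Subalgebra κ A))
    (he2 : e * e = e) : Nonempty (A ≃ₐ[κ] (κ × κ)) := by
  have h1 := adjoin_eq_top h he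
  have hnt : Nontrivial A := by
    by_contra hn
    rw [not_nontrivial_iff_subsingleton] at hn
    exact he (by rw [Subsingleton.elim e 0]; exact zero_mem _)
  have hinj := (algebraMap κ A).injective
  let φ : κ × κ →ₐ[κ] A :=
    { toFun := fun p => algebraMap κ A p.1 * e + algebraMap κ A p.2 * (1 - e)
      map_one' := by simp
      map_mul' := fun p q => by
        simp only [Prod.fst_mul, Prod.snd_mul, map_mul]
        have : (1 - e) * (1 - e) = 1 - e := by
          rw [mul_sub, mul_one, sub_mul, one_mul, he2, sub_self, sub_zero]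
        have h0 : e * (1 - e) = 0 := by rw [mul_sub, mul_one, he2, sub_self]
        linear_combination
          (- (algebraMap κ A p.1 * algebraMap κ A q.1)) * he2
          - (algebraMap κ A p.2 * algebraMap κ A q.2) * this
          - (algebraMap κ A p.1 * algebraMap κ A q.2 + algebraMap κ A p.2 * algebraMap κ A q.1) * h0
      map_zero' := by simp
      map_add' := fun p q => by
        simp only [Prod.fst_add, Prod.snd_add, map_add]; ring
      commutes' := fun r => by
        simp only [Prod.algebraMap_apply, Algebra.algebraMap_self, RingHom.id_apply]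
        ring }
  have hφ : ∀ p : κ × κ, φ p = algebraMap κ A p.1 * e + algebraMap κ A p.2 * (1 - e) := fun _ => rfl
  refine ⟨(AlgEquiv.ofBijective φ ⟨?_, ?_⟩).symm⟩
  · rw [injective_iff_map_eq_zero]
    rintro ⟨a, b⟩ hd
    rw [hφ] at hd
    simp only at hd
    have h2 : algebraMap κ A (a - b) * e = - algebraMap κ A b := by
      rw [map_sub]; linear_combination hd
    by_cases h3 : a - b = 0
    · rw [h3, map_zero, zero_mul] at h2
      have hb : b = 0 := hinj (by rw [map_zero, ← neg_eq_zero, ← h2])
      rw [hb, sub_zero] at h3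
      rw [h3, hb]; rfl
    · exfalso
      apply he
      have : e = algebraMap κ A ((a - b)⁻¹ * (-b)) := by
        rw [map_mul, map_neg, ← h2, ← mul_assoc, ← map_mul, inv_mul_cancel₀ h3, map_one, one_mul]
      rw [this]
      exact Subalgebra.algebraMap_mem _ _
  · rw [← AlgHom.range_eq_top, eq_top_iff, ← h1, Algebra.adjoin_le_iff, Set.singleton_subset_iff]
    exact ⟨(1, 0), by simp [hφ]⟩

end

/-- Let κ be a field and A a commutative κ-algebra whose only κ-subalgebras are the image of κ and A
itself, these two being different. Then A is finite-dimensional over κ, and A is isomorphic as a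
κ-algebra to the dual numbers over κ, or to κ × κ, or A is a field which is either separable over κ
or isomorphic to κ[X]/(X^p - a) with p the (positive) characteristic of κ and a an element of κ that
is not a p-th power. (The published statement also records that these four cases exclude one
another; that part is not restated.) -/
theorem result (κ A : Type u) [Field κ] [CommRing A] [Algebra κ A]
    (h : IsSimpleOrder (Subalgebra κ A)) :
    FiniteDimensional κ A ∧
    (Nonempty (A ≃ₐ[κ] DualNumber κ) ∨ Nonempty (A ≃ₐ[κ] (κ × κ)) ∨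
      (IsField A ∧ (Algebra.IsSeparable κ A ∨
        ∃ (p : ℕ) (a : κ), p.Prime ∧ CharP κ p ∧ (∀ b : κ, b ^ p ≠ a) ∧
          Nonempty (A ≃ₐ[κ] AdjoinRoot (X ^ p - C a))))) := by
  have hfd := finiteDimensional h
  refine ⟨hfd, ?_⟩
  have hnt : Nontrivial A := by
    obtain ⟨x, hx⟩ := exists_notMem h
    by_contra hn
    rw [not_nontrivial_iff_subsingleton] at hn
    exact hx (by rw [Subsingleton.elim x 0]; exact zero_mem _)
  have hart : IsArtinianRing A := IsArtinianRing.of_finite κ A
  by_cases hred : IsReduced A
  · right
    by_cases hfield : IsField A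
    · right
      refine ⟨hfield, ?_⟩
      let _ := hfield.toField
      by_cases hsep : Algebra.IsSeparable κ A
      · exact Or.inl hsep
      right
      have halg : Algebra.IsAlgebraic κ A := inferInstance
      have hpi : IsPurelyInseparable κ A := by
        rw [← separableClosure.eq_bot_iff]
        rcases h.eq_bot_or_eq_top (separableClosure κ A).toSubalgebra with h1 | h1
        · exact IntermediateField.toSubalgebra_injective (by rw [h1]; simp)
        · exfalso
          apply hsep
          rw [← separableClosure.eq_top_iff]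
          exact IntermediateField.toSubalgebra_injective (by rw [h1]; simp)
      obtain ⟨x, hx⟩ := exists_notMem h
      obtain ⟨p, hp⟩ := ExpChar.exists κ
      have hp' := hp
      rcases hp with _ | hpp
      · exact absurd (inferInstance : Algebra.IsSeparable κ A) hsep
      · refine ⟨p, ?_⟩
        classical
        have hex : ∃ n : ℕ, x ^ p ^ n ∈ (algebraMap κ A).range :=
          (isPurelyInseparable_iff_pow_mem κ p).mp hpi x
        have hn := Nat.find_spec hex
        set n := Nat.find hex with hndef
        have hn0 : n ≠ 0 := by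
          intro h0
          rw [h0, pow_zero, pow_one] at hn
          exact hx (Algebra.mem_bot.mpr hn)
        obtain ⟨m, hm⟩ := Nat.exists_eq_succ_of_ne_zero hn0
        have hmin := Nat.find_min hex (m := m) (by omega)
        rw [hm, Nat.succ_eq_add_one, pow_succ, pow_mul] at hn
        obtain ⟨a, ha⟩ := hn
        have hna : ∀ b : κ, b ^ p ≠ a := by
          rintro b rfl
          apply hmin
          have : CharP A p := charP_of_injective_algebraMap (algebraMap κ A).injective p
          have : Fact p.Prime := ⟨hpp⟩
          refine ⟨b, ?_⟩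
          rw [map_pow] at ha
          exact frobenius_inj A p ha
        refine ⟨a, hpp, inferInstance, hna, ?_⟩
        have hirr := X_pow_sub_C_irreducible_of_prime hpp hna
        have hmp : minpoly κ (x ^ p ^ m) = X ^ p - C a := by
          symm
          apply minpoly.eq_of_irreducible_of_monic hirr
          · simp [ha]
          · exact monic_X_pow_sub_C a hpp.ne_zero
        have htop : Algebra.adjoin κ {x ^ p ^ m} = ⊤ := adjoin_eq_top h (fun h1 => hmin (Algebra.mem_bot.mp h1))
        rw [← hmp]
        exact ⟨((Subalgebra.topEquiv (R := κ) (A := A)).symm.trans (Subalgebra.equivOfEq _ _ htop.symm)).trans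
          (AlgEquiv.adjoinSingletonEquivAdjoinRootMinpoly κ (x ^ p ^ m))⟩
    · left
      -- a nonzero nonunit
      have : ∃ x : A, x ≠ 0 ∧ ¬ IsUnit x := by
        by_contra hc
        push Not at hc
        exact hfield ⟨⟨0, 1, zero_ne_one⟩, mul_comm, fun {a} ha => (hc a ha).exists_right_inv⟩
      obtain ⟨x, hx0, hxu⟩ := this
      obtain ⟨n, y, hy⟩ := IsArtinian.exists_pow_succ_smul_dvd (R := A) (M := A) x 1
      replace hy : x ^ n * (1 - x * y) = 0 := by
        rw [smul_eq_mul, smul_eq_mul, mul_one, Nat.succ_eq_add_one, pow_succ] at hy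
        linear_combination -hy
      have hxy : x * (1 - x * y) = 0 := by
        rcases Nat.eq_zero_or_pos n with rfl | hn
        · rw [pow_zero, one_mul] at hy
          rw [hy, mul_zero]
        · apply eq_zero_of_pow_eq_zero (n := n)
          obtain ⟨m, rfl⟩ := Nat.exists_eq_succ_of_ne_zero hn.ne'
          rw [mul_pow, Nat.succ_eq_add_one, pow_succ (1 - x * y), mul_comm ((1 - x * y) ^ m), ← mul_assoc, hy,
            zero_mul]
      refine prod h (e := x * y) ?_ (by linear_combination (-y) * hxy)
      intro hmem
      obtain ⟨c, hc⟩ := Algebra.mem_bot.mp hmem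
      have hcc : c * c = c := by
        apply (algebraMap κ A).injective
        rw [map_mul, hc]
        linear_combination (-y) * hxy
      rcases eq_or_ne c 0 with h0 | h0'
      · rw [h0, map_zero] at hc
        rw [← hc, sub_zero, mul_one] at hxy
        exact hx0 hxy
      · have h0 : c = 1 := mul_left_cancel₀ h0' (by rw [hcc, mul_one])
        rw [h0, map_one] at hc
        exact hxu (IsUnit.of_mul_eq_one _ hc.symm)
  · left
    rw [isReduced_iff] at hred
    push Not at hred
    obtain ⟨x, hx, hx0⟩ := hred
    obtain ⟨y, hy0, hy2⟩ : ∃ y : A, y ≠ 0 ∧ y * y = 0 := by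
      classical
      have hex : ∃ n, x ^ n = 0 := hx
      have hn := Nat.find_spec hex
      set n := Nat.find hex with hndef
      have hn2 : 2 ≤ n := by
        by_contra hlt
        have : n = 0 ∨ n = 1 := by omega
        rcases this with h0 | h0
        · rw [h0, pow_zero] at hn; exact one_ne_zero hn
        · rw [h0, pow_one] at hn; exact hx0 hn
      refine ⟨x ^ (n - 1), Nat.find_min hex (by omega), ?_⟩
      rw [← pow_add]
      exact pow_eq_zero_of_le (by omega) hn
    refine dual h (x := y) ?_ hy2
    intro hmem
    obtain ⟨c, hc⟩ := Algebra.mem_bot.mp hmem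
    rw [← hc, ← map_mul, map_eq_zero_iff _ (algebraMap κ A).injective, mul_self_eq_zero] at hy2
    rw [← hc, hy2, map_zero] at hy0
    exact hy0 rfl

end Groth.Agent.S15939
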