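import Groth.Statements.S15947
import Groth.Agent.Curves.K577.DualStep
import Groth.Agent.Curves.K577.SnLocus
import Groth.Agent.HTop.K344.SemiScheme
import Mathlib.AlgebraicGeometry.Morphisms.FiniteType

set_option autoImplicit false
universe u
open Curves

namespace Groth.Agent.S15947

open CategoryTheory AlgebraicGeometry in
/-- Let κ be a field, C a reduced scheme of finite type over κ whose irreducible components all have
dimension one, and ς : C' → C a seminormalization of C: C' is seminormal and ς is a universal
homeomorphism inducing isomorphisms on residue fields, initial among such morphisms to C. If C is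
not seminormal, then ς is a finite composite C' = C_0 → C_1 → ⋯ → C_n = C in which each step C_i →
C_{i+1} is the push-out, in the category of schemes, of C_i and Spec κ(x) along a closed immersion
of the dual numbers Spec κ(x)[ε]/(ε²) into C_i, for some closed point x of C_{i+1}. -/
theorem result {κ : Type u} [Field κ] {C C' : Scheme.{u}}
    (g : C ⟶ Spec (CommRingCat.of κ)) [LocallyOfFiniteType g] [QuasiCompact g] [IsReduced C]
    (hdimC : ∀ W ∈ irreducibleComponents (C : Type u), topologicalKrullDim W = 1)
    (hC : ¬ HTop.IsSeminormal C) (ς : C' ⟶ C) (hς : HTop.IsSeminormalization ς) (hC' : HTop.IsSeminormal C') :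
    ∃ (n : ℕ) (F : ComposableArrows Scheme.{u} n) (e : F.left ≅ C') (e' : F.right ≅ C),
      e.inv ≫ F.hom ≫ e'.hom = ς ∧
      ∀ i : Fin n, ∃ (x : F.obj i.succ) (_ : IsClosed ({x} : Set (F.obj i.succ)))
        (j : Spec (CommRingCat.of (DualNumber ((F.obj i.succ).residueField x))) ⟶ F.obj i.castSucc),
        IsClosedImmersion j ∧
        IsPushout j (Spec.map (CommRingCat.ofHom (algebraMap ((F.obj i.succ).residueField x) (DualNumber ((F.obj i.succ).residueField x)))))
          (F.map (homOfLE (Fin.castSucc_lt_succ (i := i)).le)) ((F.obj i.succ).fromSpecResidueField x) := by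
  have hN : IsLocallyNoetherian C := LocallyOfFiniteType.isLocallyNoetherian g
  have hJ : JacobsonSpace C := LocallyOfFiniteType.jacobsonSpace g
  have hCc : CompactSpace C := QuasiCompact.compactSpace_of_compactSpace g
  have hred : IsReduced C' := K344.SemiScheme.isReduced_of_isSeminormal C' hC'
  obtain ⟨i1, i2, i3⟩ := (Groth.Agent.FlatA.UnivHomeo.isUnivHomeo_iff ς).1 hς.1.1
  have hk : K348.RFI.KBij ς := K348.RFI.kbij_of_isUnivHomeo hς.1.1 hς.1.2
  have hbij : Function.Bijective ς := ⟨ς.injective, ς.surjective⟩
  have hdom : IsSchemeTheoreticallyDominant ς := .of_isDominant ς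
  have hfin : IsFinite ς := by
    refine { toIsAffineHom := inferInstance, finite_app := fun U hU => ?_ }
    have h1 := K577.SnLocus.comap_bijective ς hU hbij
    let _ := (ς.app U).hom.toAlgebra
    have h2 : IsNoetherianRing Γ(C, U) := IsLocallyNoetherian.component_noetherian ⟨U, hU⟩
    have h3 : Algebra.IsIntegral Γ(C, U) Γ(C', ς ⁻¹ᵁ U) :=
      ⟨IsIntegralHom.isIntegral_app (f := ς) U hU⟩
    exact K577.FinNag.finite_of_isReduced (K577.SnLocus.isNagata g hU)
      (K577.SnLocus.finite_minimalPrimes h1)
      (fun q hq b => by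
        have := hq.1.1
        exact K577.SnLocus.residue_cond ς hU hς.1.2 q b)
  have hinj : ∀ O, Function.Injective (ς.app O) := fun O => ς.app_injective O
  obtain ⟨U, hU, hUi⟩ := K577.SnLocus.exists_isoLocus ς hinj
    (fun U hU p hp b => by
      let _ := (ς.app U).hom.toAlgebra
      exact K577.SnFin.gen_of_inj (K577.SnLocus.comap_bijective ς hU hbij)
        (fun q _ b => K577.SnLocus.residue_cond ς hU hς.1.2 q b) p hp b)
    (fun U hU => K577.DimComp.ringKrullDim_le C 1 (fun W hW => (hdimC W hW).le)
      (A := Γ(C, U)) hU.fromSpec)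
  let 𝒰 := C.affineCover.finiteSubcover
  let W : 𝒰.I₀ → C.Opens := fun k => (𝒰.f k).opensRange
  have hW : ∀ k, IsAffineOpen (W k) := fun k => isAffineOpen_opensRange (𝒰.f k)
  have hcov : ⨆ k, W k = ⊤ := 𝒰.iSup_opensRange
  have hstep := K577.StepMeas.comp_of_len U hU W hW hcov K577.DualStep.StepD
    (fun f => K348.RFI.KBij f)
    (fun a φ _ _ ha h1 _ h3 => K577.DualStep.props_of_comp a φ ha h1 h3) _ ς hinj
    (fun O _ hOU => K577.BirSch.app_bijective ς U O hOU) hk rfl
  exact K577.Chain.exists_composable hstep

end Groth.Agent.S15947
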