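import Groth.Statements.S15950
import Groth.Agent.Models.K381.DisjModel

set_option autoImplicit false
universe u
open Models

namespace Groth.Agent.S15950

open CategoryTheory AlgebraicGeometry in
/-- Let S be an excellent Dedekind scheme (integral, Noetherian, separated, of dimension one, with
regular local rings, every affine open having an excellent coordinate ring), K its function field
with generic point η : Spec K → S, and C a proper scheme over K all of whose irreducible components
have dimension one and all of whose local rings are regular. Then there are a proper flat morphism f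
: 𝒞 → S with 𝒞 regular (all local rings regular) and a morphism i : C → 𝒞 exhibiting C as the fibre
product of 𝒞 and Spec K over S, that is, a proper flat regular model of C over S. -/
theorem result
    {S : Scheme.{u}} [IsIntegral S] [IsNoetherian S] [S.IsSeparated]
    (hreg : ∀ s : S, IsRegularLocalRing (S.presheaf.stalk s)) (hdimS : topologicalKrullDim S = 1)
    (hexc : ∀ U : S.affineOpens, EGA4.IsExcellent Γ(S, U))
    {C : Scheme.{u}} (g : C ⟶ Spec S.functionField) [IsProper g]
    (hC : ∀ x : C, IsRegularLocalRing (C.presheaf.stalk x))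
    (hdimC : ∀ W ∈ irreducibleComponents (C : Type u), topologicalKrullDim W = 1) :
    ∃ (M : Scheme.{u}) (f : M ⟶ S) (i : C ⟶ M), IsProper f ∧ Flat f ∧
      (∀ m : M, IsRegularLocalRing (M.presheaf.stalk m)) ∧
      IsPullback i g f (S.fromSpecStalk (genericPoint S)) := by
  have hCN : IsLocallyNoetherian C := LocallyOfFiniteType.isLocallyNoetherian g
  have hCc : CompactSpace C := QuasiCompact.compactSpace_of_compactSpace g
  have hCn : IsNoetherian C := {}
  obtain ⟨ι, hι, Z, h1, h2, h3, h4, h5⟩ := K381.DisjModel.exists_decomp C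
    (fun x => (K381.RegModel.isNormalScheme_of_regular hC x).1)
  have hE := K381.ExcSch.IsExc.of_forall hexc
  have key : ∀ j : ι, ∃ (M : Scheme.{u}) (f : M ⟶ S) (i : (Z j : Scheme.{u}) ⟶ M), IsProper f ∧ Flat f ∧
      IsIntegral M ∧ (∀ m : M, IsRegularLocalRing (M.presheaf.stalk m)) ∧
      IsPullback i ((Z j).ι ≫ g) f (S.fromSpecStalk (genericPoint S)) := fun j => by
    have := h2 j
    have := h3 j
    refine K381.RegModel.exists_model_integral hreg hdimS.le hE ((Z j).ι ≫ g) (fun c => ?_) (hdimC _ (h1 j)).le
    have := hC ((Z j).ι c)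
    exact IsRegularLocalRing.of_ringEquiv (asIso ((Z j).ι.stalkMap c)).commRingCatIsoToRingEquiv
  choose M f i k1 k2 k3 k4 k5 using key
  obtain ⟨i', hi'⟩ := K381.DisjModel.exists_disjUnion _ g Z h4 h5 M f i k5
  refine ⟨∐ M, Limits.Sigma.desc f, i', K381.DisjModel.isProper_sigmaDesc f k1,
    IsZariskiLocalAtSource.sigmaDesc (P := @Flat) k2, fun m => ?_, hi'⟩
  obtain ⟨j, m', rfl⟩ : ∃ (j : ι) (m' : M j), Limits.Sigma.ι M j m' = m :=
    ⟨(sigmaOpenCover M).idx m, (sigmaOpenCover M).covers m⟩
  have := k4 j m'
  exact IsRegularLocalRing.of_ringEquiv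
    (asIso ((Limits.Sigma.ι M j).stalkMap m')).symm.commRingCatIsoToRingEquiv

end Groth.Agent.S15950
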