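import Groth.Statements.S15951
import Groth.Agent.Models.K381.SemiFac
import Groth.Agent.Sga4h.UlaDvr
import Groth.Agent.Models.DVRGeneric

set_option autoImplicit false
universe u
open Models

namespace Groth.Agent.S15951

open CategoryTheory AlgebraicGeometry Limits in
/-- The spectrum of the fraction field and the generic stalk. -/
theorem exists_iso (R : CommRingCat.{u}) [IsDomain R] (K : Type u) [Field K] [Algebra R K] [IsFractionRing R K] :
    ∃ ψ : Spec (Spec R).functionField ⟶ Spec (CommRingCat.of K), IsIso ψ ∧
      (Spec R).fromSpecStalk (genericPoint (Spec R)) =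
        ψ ≫ Spec.map (CommRingCat.ofHom (algebraMap R K)) := by
  let ηR : Spec R := genericPoint (Spec R)
  let L := (Spec R).functionField
  let e : L ≃ₐ[R] K := IsLocalization.algEquiv (nonZeroDivisors R) L K
  let ψ : Spec L ⟶ Spec (CommRingCat.of K) := Spec.map (CommRingCat.ofHom e.symm.toRingEquiv.toRingHom)
  have hiso : IsIso ψ := by
    have : IsIso (CommRingCat.ofHom e.symm.toRingEquiv.toRingHom) :=
      (ConcreteCategory.isIso_iff_bijective _).mpr e.symm.bijective
    exact inferInstanceAs (IsIso (Spec.map (CommRingCat.ofHom e.symm.toRingEquiv.toRingHom)))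
  refine ⟨ψ, hiso, ?_⟩
  refine (Spec.fromSpecStalk_eq' _ ηR).trans ?_
  change _ = Spec.map (CommRingCat.ofHom e.symm.toRingEquiv.toRingHom) ≫
    Spec.map (CommRingCat.ofHom (algebraMap R K))
  rw [← Spec.map_comp]
  congr 1
  apply CommRingCat.hom_ext
  apply RingHom.ext
  intro r
  exact (e.symm.commutes r).symm

open CategoryTheory AlgebraicGeometry in
/-- Let R be an excellent discrete valuation ring with field of fractions K and C a proper integral
seminormal curve over K (proper over K, integral, seminormal, every irreducible component of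
dimension one). Then C has a proper flat semi-factorial model over R: a proper flat morphism f : 𝒞 →
Spec R together with a morphism i : C → 𝒞 exhibiting C as the generic fibre of f, such that every
invertible module on C is, up to isomorphism, the pullback along i of an invertible module on 𝒞 (𝒞
is semi-factorial). -/
theorem result
    (R : Type u) [CommRing R] [IsDomain R] [IsDiscreteValuationRing R] (hR : EGA4.IsExcellent R)
    {C : Scheme.{u}} (g : C ⟶ Spec (CommRingCat.of (FractionRing R))) [IsProper g] [IsIntegral C]
    (hsn : HTop.IsSeminormal C)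
    (hdimC : ∀ W ∈ irreducibleComponents (C : Type u), topologicalKrullDim W = 1) :
    ∃ (M : Scheme.{u}) (f : M ⟶ Spec (CommRingCat.of R)) (i : C ⟶ M), IsProper f ∧ Flat f ∧
      IsPullback i g f (Spec.map (CommRingCat.ofHom (algebraMap R (FractionRing R)))) ∧
      Formal2.PicPullbackSurjective i := by
  let S : Scheme.{u} := Spec (CommRingCat.of R)
  obtain ⟨ψ, hψ, hst⟩ := exists_iso (CommRingCat.of R) (FractionRing R)
  have hreg : ∀ s : S, IsRegularLocalRing (S.presheaf.stalk s) := fun s =>
    (Groth.Agent.Sga4h.UlaDvr.regular_spec_pid R s).1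
  have hdimS : topologicalKrullDim S ≤ 1 := by
    rw [K381.DedFlat.topologicalKrullDim_eq_iSup_stalk]
    exact iSup_le fun s => (Groth.Agent.Sga4h.UlaDvr.regular_spec_pid R s).2
  have hexc : K381.ExcSch.IsExc S := fun _ =>
    ⟨⟨⊤, isAffineOpen_top _⟩, trivial, Groth.Agent.Sga2lef.H338.StalkDepth.isExcellent_of_ringEquiv
      (Scheme.ΓSpecIso (CommRingCat.of R)).symm.commRingCatIsoToRingEquiv hR⟩
  have hfin : Finite S := by
    have h1 : (Set.univ : Set (PrimeSpectrum R)) ⊆ {IsLocalRing.closedPoint R, ⟨⊥, Ideal.isPrime_bot⟩} := by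
      intro x _
      rcases Groth.Agent.Models.DVRGeneric.eq_closedPoint_or_eq_bot R x with h | h
      · exact Or.inl h
      · exact Or.inr (PrimeSpectrum.ext h)
    have h2 : ({IsLocalRing.closedPoint R, ⟨⊥, Ideal.isPrime_bot⟩} : Set (PrimeSpectrum R)).Finite :=
      (Set.finite_singleton _).insert _
    exact Set.finite_univ_iff.mp (h2.subset h1)
  have hoi : IsOpenImmersion (S.fromSpecStalk (genericPoint S)) := by
    have h1 := Groth.Agent.Models.DVRGeneric.isOpenImmersion_generic R (FractionRing R)
    change IsOpenImmersion ((Spec (CommRingCat.of R)).fromSpecStalk (genericPoint (Spec (CommRingCat.of R))))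
    rw [hst]
    infer_instance
  obtain ⟨M, f, i, h1, h2, h3, h4⟩ := K381.SemiFac.exists_model hreg hdimS hexc (g ≫ inv ψ) hsn hdimC
  refine ⟨M, f, i, h1, h2, ?_, h4⟩
  exact IsPullback.of_iso h3 (Iso.refl _) (Iso.refl _) (asIso ψ) (Iso.refl _) (by simp) (by simp) (by simp)
    (by simp; exact hst)

end Groth.Agent.S15951
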