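import Groth.Statements.S15952
import Groth.Agent.Neron.K131.Asm
import Groth.Agent.Neron.K531.PG
import Groth.Agent.Neron.K488.JS
import Groth.Agent.Neron.K488.NormSq

set_option autoImplicit false
universe u
open Neron

namespace Groth.Agent.S15952

open CategoryTheory AlgebraicGeometry in
/-- Let S be an excellent Dedekind scheme (integral, Noetherian, separated, of dimension one, with
regular local rings and excellent affine coordinate rings), K its function field with generic point
η : Spec K → S, and C a proper geometrically reduced scheme over K with regular local rings, all of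
whose irreducible components have dimension one. Let (J, φ) be the Jacobian Pic⁰_{C/K} of C with its
group law, rendered as: J is a commutative group scheme over K and φ exhibits J as representing the
fppf sheafification of the functor of invertible modules on C ×_K T that are algebraically
equivalent to zero on every geometric fibre, compatibly with tensor products (for a proper curve
these are the classes in the identity component of the Picard scheme). Then J admits a Néron model
over S: a smooth, separated, quasi-compact S-scheme N together with an isomorphism of its fibre over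
η with J such that for every smooth S-scheme Y restriction to η is a bijection from S-morphisms Y →
N onto K-morphisms Y_η → J. -/
theorem result
    {S : Scheme.{u}} [IsIntegral S] [IsNoetherian S] [S.IsSeparated]
    (hreg : ∀ s : S, IsRegularLocalRing (S.presheaf.stalk s)) (hdimS : topologicalKrullDim S = 1)
    (hexc : ∀ U : S.affineOpens, EGA4.IsExcellent Γ(S, U))
    {C : Scheme.{u}} (g : C ⟶ Spec S.functionField) [IsProper g] [GeometricallyReduced g]
    (hC : ∀ x : C, IsRegularLocalRing (C.presheaf.stalk x))
    (hdimC : ∀ W ∈ irreducibleComponents (C : Type u), topologicalKrullDim W = 1)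
    (J : Over (Spec S.functionField)) [GrpObj J] [IsCommMonObj J]
    (φ : ∀ T : Over (Spec S.functionField), PicF.Cl (PicF.XT g T) → (T ⟶ J))
    (hJ : AbDual.IsDualAV Scheme.fppfPrecoverage (Over.mk g) J φ) :
    ∃ (N : Over S) (e : (Over.pullback (S.fromSpecStalk (genericPoint S))).obj N ≅ J),
      Smooth N.hom ∧ IsSeparated N.hom ∧ QuasiCompact N.hom ∧ 
      ∀ Y : Over S, Smooth Y.hom →
        Function.Bijective (fun h : Y ⟶ N => (Over.pullback (S.fromSpecStalk (genericPoint S))).map h ≫ e.hom) := by
  obtain ⟨h1, h2, h3, h4⟩ := K488.JS.picZero_props (K := S.functionField) g (K488.NormSq.dim_le hdimC) J φ hJ.relPic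
  obtain ⟨L, _, _, hfd, hsep, N, Z, c, hc, W, h, hw, hmem, hsurj⟩ :=
    K531.PD.main (K := S.functionField) g hC hdimC J φ hJ.relPic
  refine K131.Asm.exists_neron hreg hdimS hexc J (K131.SHBdd.ofOver J.hom L c W h hw ?_ ?_) ?_
  · rintro F _ _ _ z hz _ ⟨p, rfl⟩
    exact hmem F z hz p
  · intro F _ _ _ ht _ y hy
    obtain ⟨z, hz1, hz2⟩ := hsurj F y (by
      rw [hy, ← Spec.map_comp, ← CommRingCat.ofHom_comp, ← IsScalarTower.algebraMap_eq])
    exact ⟨z, hz2, hz1⟩
  · intro G γ _ _ _ κ hκ e he
    exact K531.PG.main hreg hdimS hexc g hC hdimC J φ hJ.relPic γ κ hκ e he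

end Groth.Agent.S15952
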