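import Groth.Statements.S15953
import Groth.Agent.Neron.K488.NormMain
import Groth.Agent.Neron.K488.Reg52

set_option autoImplicit false
universe u
open Neron

namespace Groth.Agent.S15953

open CategoryTheory AlgebraicGeometry in
/-- Let S be an excellent Dedekind scheme (integral, Noetherian, separated, of dimension one, with
regular local rings and excellent affine coordinate rings), K its function field with generic point
η : Spec K → S, and C a proper geometrically reduced scheme over K all of whose irreducible
components have dimension one. Let (J, φ) be the Jacobian Pic⁰_{C/K} of C with its group law,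
rendered as: J is a commutative group scheme over K and φ exhibits J as representing the fppf
sheafification of the functor of invertible modules on C ×_K T that are algebraically equivalent to
zero on every geometric fibre, compatibly with tensor products (for a proper curve these are the
classes in the identity component of the Picard scheme). Assume that J has no non-trivial
unirational subgroup: every smooth closed subgroup scheme H of J admitting a dominant K-morphism
from a nonempty open subscheme of an affine space over K is the trivial group. Then J admits a Néron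
model over S: a smooth, separated, quasi-compact S-scheme N with an isomorphism of its fibre over η
with J such that for every smooth S-scheme Y restriction to η is a bijection from S-morphisms Y → N
onto K-morphisms Y_η → J. -/
theorem result
    {S : Scheme.{u}} [IsIntegral S] [IsNoetherian S] [S.IsSeparated]
    (hreg : ∀ s : S, IsRegularLocalRing (S.presheaf.stalk s)) (hdimS : topologicalKrullDim S = 1)
    (hexc : ∀ U : S.affineOpens, EGA4.IsExcellent Γ(S, U))
    {C : Scheme.{u}} (g : C ⟶ Spec S.functionField) [IsProper g] [GeometricallyReduced g]
    (hdimC : ∀ W ∈ irreducibleComponents (C : Type u), topologicalKrullDim W = 1)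
    (J : Over (Spec S.functionField)) [GrpObj J] [IsCommMonObj J]
    (φ : ∀ T : Over (Spec S.functionField), PicF.Cl (PicF.XT g T) → (T ⟶ J))
    (hJ : AbDual.IsDualAV Scheme.fppfPrecoverage (Over.mk g) J φ)
    (huni : ∀ (H : Over (Spec S.functionField)) [GrpObj H] (i : H ⟶ J) [IsMonHom i],
      IsClosedImmersion i.left → Smooth H.hom →
      (∃ (n : ℕ) (V : (AffineSpace (ULift.{u} (Fin n)) (Spec S.functionField)).Opens)
          (ψ : (V : Scheme.{u}) ⟶ H.left),
        (V : Set (AffineSpace (ULift.{u} (Fin n)) (Spec S.functionField))).Nonempty ∧ DenseRange ψ.base ∧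
        ψ ≫ H.hom = V.ι ≫ (AffineSpace (ULift.{u} (Fin n)) (Spec S.functionField) ↘ Spec S.functionField)) →
      IsIso H.hom) :
    ∃ (N : Over S) (e : (Over.pullback (S.fromSpecStalk (genericPoint S))).obj N ≅ J),
      Smooth N.hom ∧ IsSeparated N.hom ∧ QuasiCompact N.hom ∧ 
      ∀ Y : Over S, Smooth Y.hom →
        Function.Bijective (fun h : Y ⟶ N => (Over.pullback (S.fromSpecStalk (genericPoint S))).map h ≫ e.hom) := by
  obtain ⟨Cn, gn, Jn, hg, hc, φn, h4, h5, h6, h7, h8, ⟨e⟩⟩ :=
    K488.NormMain.exists_regular (κ := S.functionField) g hdimC J φ hJ huni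
  obtain ⟨N, e', h1, h2, h3, h9⟩ := K488.Reg52.main hreg hdimS hexc gn h6 h7 Jn φn h8.relPic
  refine ⟨N, e' ≪≫ e.symm, h1, h2, h3, fun Y hY => ?_⟩
  have h10 : Function.Bijective (fun a : (Over.pullback (S.fromSpecStalk (genericPoint S))).obj Y ⟶ Jn => a ≫ e.inv) :=
    ⟨fun a b hab => by
      have h11 : a ≫ e.inv = b ≫ e.inv := hab
      rw [← cancel_mono e.inv]
      exact h11, fun a => ⟨a ≫ e.hom, by
      change (a ≫ e.hom) ≫ e.inv = a
      rw [Category.assoc, e.hom_inv_id, Category.comp_id]⟩⟩
  have h12 := h10.comp (h9 Y hY)
  convert h12 using 1
  funext h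
  change _ ≫ (e'.hom ≫ e.inv) = (_ ≫ e'.hom) ≫ e.inv
  rw [Category.assoc]

end Groth.Agent.S15953
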