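import Groth.Statements.S15954
import Groth.Agent.Pinch.K838.Coker
import Groth.Agent.Pinch.K838.OverPull

set_option autoImplicit false
universe u
open Pinch

namespace Groth.Agent.S15954

open CategoryTheory AlgebraicGeometry in
/-- Let Y be a scheme, f : X → Y a morphism, t : T → Y a scheme affine over Y, ξ : Z → T a morphism with
Z affine over Y via ξ followed by t, and ι : Z → X a closed immersion over Y; assume every point of
Y has an affine open neighbourhood U together with an affine open V of X inside the preimage of U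
containing the image under ι of the part of Z over U; assume moreover that Y is locally Noetherian,
f and t are of finite type and ξ is finite, and let X → P ← T be a push-out of ι and ξ in the
category of schemes; assume finally that ξ is faithfully flat and that over every affine open U of Y
the cokernel of the map from functions on t⁻¹(U) to functions on the part of Z over U is a
projective module over the functions on U. Let p : P → Y be the induced morphism. Then the push-out
commutes with every base change: for every morphism Y' → Y the square obtained by pulling back Z →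
X, Z → T, X → P and T → P along Y' → Y is a push-out square in the category of schemes. -/
theorem result {X Y T Z : Scheme.{u}} (f : X ⟶ Y) (t : T ⟶ Y) (ξ : Z ⟶ T) (ι : Z ⟶ X)
    [IsAffineHom t] [IsAffineHom (ξ ≫ t)] [IsClosedImmersion ι] (hsq : ι ≫ f = ξ ≫ t)
    (hstd : ∀ y : Y, ∃ U : Y.Opens, IsAffineOpen U ∧ y ∈ U ∧ ∃ V : X.Opens, IsAffineOpen V ∧
      V ≤ f ⁻¹ᵁ U ∧ ∀ z : Z, (ξ ≫ t).base z ∈ U → ι.base z ∈ V)
    [IsLocallyNoetherian Y] [LocallyOfFiniteType f] [QuasiCompact f] [LocallyOfFiniteType t] [QuasiCompact t]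
    [IsFinite ξ] {P : Scheme.{u}} (a : X ⟶ P) (b : T ⟶ P) (hP : IsPushout ι ξ a b)
    [Flat ξ] [Surjective ξ]
    (hv : ∀ U : Y.affineOpens, @Pinch.CokerProjective Γ(Y, U) Γ(Z, (ξ ≫ t) ⁻¹ᵁ U) Γ(T, t ⁻¹ᵁ U) _ _ _
      ((ξ ≫ t).app U).hom.toAlgebra (ξ.app (t ⁻¹ᵁ U)).hom)
    (p : P ⟶ Y) (hap : a ≫ p = f) (hbp : b ≫ p = t) {Y' : Scheme.{u}} (g : Y' ⟶ Y) :
    IsPushout ((Over.pullback g).map (Over.homMk ι hsq : Over.mk (ξ ≫ t) ⟶ Over.mk f)).left
      ((Over.pullback g).map (Over.homMk ξ rfl : Over.mk (ξ ≫ t) ⟶ Over.mk t)).left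
      ((Over.pullback g).map (Over.homMk a hap : Over.mk f ⟶ Over.mk p)).left
      ((Over.pullback g).map (Over.homMk b hbp : Over.mk t ⟶ Over.mk p)).left := by
  have hA : K838.Ferr.Adapted ι ξ := fun y => by
    obtain ⟨U, V, hU, hV, hy, h, -⟩ := K838.Pairs.exists_pair f t ξ ι hsq hstd y
    exact ⟨U, V, hU, hV, hy, h⟩
  obtain ⟨h1, -, -, -, -, -⟩ := K838.Ferr.props_of_isPushout hA hP
  have hW : IsPullback (Limits.pullback.fst p g) (Limits.pullback.snd p g) p g :=
    IsPullback.of_hasPullback _ _
  have hX := K838.OverPull.isPullback_map g (Over.homMk a hap : Over.mk f ⟶ Over.mk p)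
  have hY := K838.OverPull.isPullback_map g (Over.homMk b hbp : Over.mk t ⟶ Over.mk p)
  have hZ := K838.OverPull.isPullback_map g (Over.homMk ι hsq : Over.mk (ξ ≫ t) ⟶ Over.mk f)
  refine K838.FerrBC.isPushout_baseChange h1 hW hX hY hZ ?_ ?_ ?_
  · exact K838.OverPull.fst_map g (Over.homMk ξ rfl : Over.mk (ξ ≫ t) ⟶ Over.mk t)
  · rw [← Over.comp_left, ← Over.comp_left, ← Functor.map_comp, ← Functor.map_comp]
    congr 2
    ext
    exact hP.w
  · intro w
    obtain ⟨U, O, hOU, hU, hO, hwO, hinj⟩ := K838.Coker.exists_univInj f t ξ ι hsq hstd a b hP hv p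
      hap hbp (Limits.pullback.fst p g w)
    have hg : g (Limits.pullback.snd p g w) ∈ U := by
      rw [← Scheme.Hom.comp_apply, ← Limits.pullback.condition, Scheme.Hom.comp_apply]
      exact hOU hwO
    obtain ⟨U', hU', hwU', hUU'⟩ :=
      exists_isAffineOpen_mem_and_subset (U := g ⁻¹ᵁ U) (x := Limits.pullback.snd p g w) hg
    exact ⟨U, U', O, hUU', hOU, hU, hU', hO, ⟨hwO, hwU'⟩, hinj _ _⟩

end Groth.Agent.S15954
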