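import Groth.Statements.S15956
import Groth.Agent.Neron.K488.Pt

set_option autoImplicit false
universe u
open Neron

namespace Groth.Agent.S15956

open CategoryTheory AlgebraicGeometry in
/-- Let κ be an arbitrary field and C a proper geometrically reduced scheme over κ with regular local
rings, all of whose irreducible components have dimension one (a regular proper geometrically
reduced curve). Let (J, φ) be the Jacobian Pic⁰_{C/κ} with its group law, rendered as: J is a
commutative group scheme over κ and φ exhibits J as representing the fppf sheafification of the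
functor of invertible modules on C ×_κ T algebraically equivalent to zero on every geometric fibre,
compatibly with tensor products. Then the maximal unirational subgroup of J is trivial: every smooth
closed subgroup scheme H of J that admits a dominant κ-morphism from a nonempty open subscheme of an
affine space over κ is the trivial group. -/
theorem result
    (κ : Type u) [Field κ] {C : Scheme.{u}} (g : C ⟶ Spec (CommRingCat.of κ)) [IsProper g] [GeometricallyReduced g]
    (hC : ∀ x : C, IsRegularLocalRing (C.presheaf.stalk x))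
    (hdimC : ∀ W ∈ irreducibleComponents (C : Type u), topologicalKrullDim W = 1)
    (J : Over (Spec (CommRingCat.of κ))) [GrpObj J] [IsCommMonObj J]
    (φ : ∀ T : Over (Spec (CommRingCat.of κ)), PicF.Cl (PicF.XT g T) → (T ⟶ J))
    (hJ : AbDual.IsDualAV Scheme.fppfPrecoverage (Over.mk g) J φ)
    (H : Over (Spec (CommRingCat.of κ))) [GrpObj H] (i : H ⟶ J) [IsMonHom i]
    (hi : IsClosedImmersion i.left) [Smooth H.hom]
    (huni : ∃ (n : ℕ) (V : (AffineSpace (ULift.{u} (Fin n)) (Spec (CommRingCat.of κ))).Opens)
        (ψ : (V : Scheme.{u}) ⟶ H.left),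
      (V : Set (AffineSpace (ULift.{u} (Fin n)) (Spec (CommRingCat.of κ)))).Nonempty ∧ DenseRange ψ.base ∧
      ψ ≫ H.hom = V.ι ≫ (AffineSpace (ULift.{u} (Fin n)) (Spec (CommRingCat.of κ)) ↘ Spec (CommRingCat.of κ))) :
    IsIso H.hom := by
  obtain ⟨n, V, ψ, hV, hψ, hψκ⟩ := huni
  let k := SeparableClosure κ
  let v := V.ι ≫ (AffineSpace (ULift.{u} (Fin n)) (Spec (CommRingCat.of κ)) ↘ Spec (CommRingCat.of κ))
  let σ : Spec (CommRingCat.of k) ⟶ Spec (CommRingCat.of κ) := Spec.map (CommRingCat.ofHom (algebraMap κ k))
  obtain ⟨c, hc, hcV⟩ := K488.Const.exists_const (k := k) g hC J φ hJ.relPic (ULift.{u} (Fin n)) V hV (ψ ≫ i.left) (by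
    rw [Category.assoc, Over.w i, hψκ])
  have hσ : IsIntegralHom σ := by
    change IsIntegralHom (Spec.map (CommRingCat.ofHom (algebraMap κ k)))
    rw [IsIntegralHom.SpecMap_iff]
    exact algebraMap_isIntegral_iff.mpr inferInstance
  have hint : IsIntegralHom (c ≫ J.hom) := by
    rw [hc]
    exact hσ
  have hred : IsReduced H.left := K488.Pt.isReduced_of_smooth H.hom
  -- the image of `V` in `J` is one closed point
  let p0 := c (IsLocalRing.closedPoint k)
  have hp0 : IsClosed ({p0} : Set J.left) := K488.Pt.isClosed_singleton_of_integral c J.hom _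
  have h1 : ∀ y : V, i.left (ψ y) = p0 := by
    intro y
    obtain ⟨z, hz⟩ := (Limits.pullback.fst v σ).surjective y
    have h2 := congr($hcV z)
    change i.left (ψ ((Limits.pullback.fst v σ) z)) = c ((Limits.pullback.snd v σ) z) at h2
    rw [hz] at h2
    rw [h2]
    exact congrArg c (Subsingleton.elim _ _)
  have hinj : Function.Injective i.left := i.left.isClosedEmbedding.injective
  have h3 : IsClosed (i.left ⁻¹' {p0}) := hp0.preimage i.left.continuous
  have h4 : (i.left ⁻¹' {p0}) = Set.univ := by
    rw [← Set.univ_subset_iff, ← hψ.closure_range]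
    refine closure_minimal ?_ h3
    rintro _ ⟨y, rfl⟩
    exact h1 y
  have h5 : Subsingleton H.left := ⟨fun a b => hinj (by
    have ha : a ∈ (i.left ⁻¹' {p0}) := by rw [h4]; trivial
    have hb : b ∈ (i.left ⁻¹' {p0}) := by rw [h4]; trivial
    rw [Set.mem_singleton_iff.1 ha, Set.mem_singleton_iff.1 hb])⟩
  exact K488.Pt.isIso_of_subsingleton H h5

end Groth.Agent.S15956
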