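import Groth.Statements.S15957
import Groth.Agent.Neron.K488.StalkSH
import Groth.Agent.S3250

set_option autoImplicit false
universe u
open Neron

namespace Groth.Agent.S15957

open CategoryTheory AlgebraicGeometry in
/-- (ii) ⇒ (i): let R be a discrete valuation ring with field of fractions K and G a smooth separated
group scheme over Spec R. Suppose that for every local extension R ⊆ R' of discrete valuation rings
of ramification index one (the maximal ideal of R generates that of R' and the residue field
extension is separable, i.e. geometrically reduced) with R' strictly Henselian, and K' the fraction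
field of R', every K'-valued point of G over R extends to an R'-valued point. Then G is a Néron
lft-model of its generic fibre: for every smooth scheme Y over Spec R, restriction to generic fibres
is a bijection from morphisms Y → G over R onto morphisms Y_K → G_K over K. (The published statement
is the equivalence of this criterion, of the Néron lft property, and of a third intermediate
criterion; only this implication is stated.) -/
theorem result
    (R : Type u) [CommRing R] [IsDomain R] [IsDiscreteValuationRing R]
    (G : Over (Spec (CommRingCat.of R))) [GrpObj G] [Smooth G.hom] [IsSeparated G.hom]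
    (h : ∀ (R' : Type u) [CommRing R'] [IsDomain R'] [IsDiscreteValuationRing R'] [Algebra R R']
        [IsLocalHom (algebraMap R R')] [HenselianLocalRing R'] [IsSepClosed (IsLocalRing.ResidueField R')],
      (IsLocalRing.maximalIdeal R).map (algebraMap R R') = IsLocalRing.maximalIdeal R' →
      Algebra.IsGeometricallyReduced (IsLocalRing.ResidueField R) (IsLocalRing.ResidueField R') →
      ∀ x : Spec (CommRingCat.of (FractionRing R')) ⟶ G.left,
        x ≫ G.hom = Spec.map (CommRingCat.ofHom ((algebraMap R' (FractionRing R')).comp (algebraMap R R'))) →
        ∃ y : Spec (CommRingCat.of R') ⟶ G.left, y ≫ G.hom = Spec.map (CommRingCat.ofHom (algebraMap R R')) ∧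
          Spec.map (CommRingCat.ofHom (algebraMap R' (FractionRing R'))) ≫ y = x) :
    ∀ Y : Over (Spec (CommRingCat.of R)), Smooth Y.hom →
      Function.Bijective (fun g : Y ⟶ G => (Neron.genericFibre R).map g) := by
  intro Y hY
  have hG : GrpObj (Over.mk G.hom) := inferInstanceAs (GrpObj G)
  have hL : K488.WeilCore.StalkLift G.hom := K488.StalkSH.stalkLift G.hom (fun R' _ _ _ _ _ _ _ hm hgr x hx =>
    h R' hm hgr x hx)
  obtain ⟨e, e', he, he', hee⟩ := Groth.Agent.S3250.exists_compare Y
  constructor
  · intro g g' hgg
    have h1 : (Neron.genericFibre R).map g = (Neron.genericFibre R).map g' := hgg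
    apply Over.OverMorphism.ext
    refine Groth.Agent.Dix.GenOpen.ext_of_genOpen Y.hom G.hom g.left g'.left (Over.w g) (Over.w g') ?_
    rw [← he, Category.assoc, Category.assoc, ← Groth.Agent.S3250.map_left_fst g,
      ← Groth.Agent.S3250.map_left_fst g', h1]
  · intro v
    let f₀ := e ≫ v.left ≫ Limits.pullback.fst G.hom (Neron.genPt R)
    have hv : v.left ≫ Limits.pullback.snd G.hom (Neron.genPt R) = Limits.pullback.snd Y.hom (Neron.genPt R) :=
      Over.w v
    have hf₀ : f₀ ≫ G.hom = (Y.hom ⁻¹ᵁ Groth.Agent.Dix.GenOpen.genOpen R).ι ≫ Y.hom := by
      change (e ≫ v.left ≫ Limits.pullback.fst G.hom (Neron.genPt R)) ≫ G.hom = _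
      rw [Category.assoc, Category.assoc, Limits.pullback.condition, ← he, Category.assoc,
        Limits.pullback.condition, ← hv, Category.assoc]
    obtain ⟨g, hg1, hg2⟩ := K488.WeilCore.exists_extension G.hom hL Y.hom f₀ hf₀
    refine ⟨Over.homMk g hg1, ?_⟩
    change (Neron.genericFibre R).map (Over.homMk g hg1) = v
    apply Over.OverMorphism.ext
    apply Limits.pullback.hom_ext
    · rw [Groth.Agent.S3250.map_left_fst]
      change Limits.pullback.fst Y.hom (Neron.genPt R) ≫ g = _
      rw [← he', Category.assoc, hg2]
      change e' ≫ e ≫ v.left ≫ Limits.pullback.fst G.hom (Neron.genPt R) = _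
      rw [← Category.assoc, hee, Category.id_comp]
    · rw [hv]
      exact Over.w ((Neron.genericFibre R).map (Over.homMk g hg1))

end Groth.Agent.S15957
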