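import Groth.Statements.S15959
import Groth.Agent.Neron.K488.KerSm
import Groth.Agent.Neron.K488.NormSq

set_option autoImplicit false
universe u
open Neron

namespace Groth.Agent.S15959

open CategoryTheory AlgebraicGeometry MonObj in
/-- Let κ be an arbitrary field, C a proper geometrically reduced scheme over κ all of whose irreducible
components have dimension one, and ν : C̃ → C its normalisation (C̃ has integrally closed local
domains, ν is finite and an isomorphism over a dense open subset of C with dense preimage). Let (J,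
φ) and (J̃, φ̃) be the Jacobians of C and C̃ with their group laws, rendered as commutative group
schemes over κ representing, compatibly with tensor products, the fppf sheafifications of the
functors of invertible modules algebraically equivalent to zero on all geometric fibres; let ν^* : J
→ J̃ be the homomorphism through which pulling back such classes along ν corresponds, and let j : N
→ J be its kernel. Then: (1) ν^* is surjective in the étale topology: every point of J̃ with values
in a κ-scheme T comes from J on the members of some étale covering of T; (2) N is smooth over κ,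
connected, and unirational: some nonempty open subscheme of an affine space over κ maps dominantly
to N over κ; (3) every smooth closed subgroup scheme of J which is unirational in this sense factors
through j. (The published statement also identifies the kernel of ς^* : Pic⁰_C → Pic⁰_{C^sn}, for
the seminormalisation, with the maximal smooth connected split unipotent subgroup; that part is not
restated.) -/
theorem result
    (κ : Type u) [Field κ] {C Cn : Scheme.{u}} (g : C ⟶ Spec (CommRingCat.of κ)) [IsProper g] [GeometricallyReduced g]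
    (hdimC : ∀ W ∈ irreducibleComponents (C : Type u), topologicalKrullDim W = 1)
    (ν : Cn ⟶ C) [IsFinite ν] (hn : Pi1.IsNormalScheme Cn)
    (hbir : ∃ U : C.Opens, Dense (U : Set C) ∧ Dense ((ν ⁻¹ᵁ U : Cn.Opens) : Set Cn) ∧ IsIso (ν ∣_ U))
    (J Jn : Over (Spec (CommRingCat.of κ))) [GrpObj J] [IsCommMonObj J] [GrpObj Jn] [IsCommMonObj Jn]
    (φ : ∀ T : Over (Spec (CommRingCat.of κ)), PicF.Cl (PicF.XT g T) → (T ⟶ J))
    (φn : ∀ T : Over (Spec (CommRingCat.of κ)), PicF.Cl (PicF.XT (ν ≫ g) T) → (T ⟶ Jn))
    (hJ : AbDual.IsDualAV Scheme.fppfPrecoverage (Over.mk g) J φ)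
    (hJn : AbDual.IsDualAV Scheme.fppfPrecoverage (Over.mk (ν ≫ g)) Jn φn)
    (νt : J ⟶ Jn) [IsMonHom νt]
    (hνt : AbDual.IsTranspose (Over.homMk ν rfl : Over.mk (ν ≫ g) ⟶ Over.mk g) φn φ νt)
    (N : Over (Spec (CommRingCat.of κ))) [GrpObj N] (j : N ⟶ J) [IsMonHom j] (hN : AlgGrp.IsKernel j νt) :
    (∀ (T : Over (Spec (CommRingCat.of κ))) (y : T ⟶ Jn), ∃ (I : Type u) (U : I → T.left.Etale), EtCoh.Covers U ∧
        ∀ i, ∃ x : PicRel.ovr T (U i) ⟶ J, x ≫ νt = PicRel.ovrHom T (U i) ≫ y) ∧
    (Smooth N.hom ∧ ConnectedSpace N.left ∧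
      (∃ (n : ℕ) (V : (AffineSpace (ULift.{u} (Fin n)) (Spec (CommRingCat.of κ))).Opens)
          (ψ : (V : Scheme.{u}) ⟶ N.left),
        (V : Set (AffineSpace (ULift.{u} (Fin n)) (Spec (CommRingCat.of κ)))).Nonempty ∧ DenseRange ψ.base ∧
        ψ ≫ N.hom = V.ι ≫ (AffineSpace (ULift.{u} (Fin n)) (Spec (CommRingCat.of κ)) ↘ Spec (CommRingCat.of κ)))) ∧
    (∀ (H : Over (Spec (CommRingCat.of κ))) [GrpObj H] (i : H ⟶ J) [IsMonHom i],
      IsClosedImmersion i.left → Smooth H.hom →
      (∃ (n : ℕ) (V : (AffineSpace (ULift.{u} (Fin n)) (Spec (CommRingCat.of κ))).Opens)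
          (ψ : (V : Scheme.{u}) ⟶ H.left),
        (V : Set (AffineSpace (ULift.{u} (Fin n)) (Spec (CommRingCat.of κ)))).Nonempty ∧ DenseRange ψ.base ∧
        ψ ≫ H.hom = V.ι ≫ (AffineSpace (ULift.{u} (Fin n)) (Spec (CommRingCat.of κ)) ↘ Spec (CommRingCat.of κ))) →
      ∃ k : H ⟶ N, k ≫ j = i) := by
  obtain ⟨U, hU, hU', hiso⟩ := hbir
  have hdim := K488.NormSq.dim_le hdimC
  have hred : IsReduced C := GeometricallyReduced.isReduced_of_flat_of_isLocallyNoetherian g
  obtain ⟨Y, Y', i, i', π', D⟩ := K488.NormSq.exists_data g ν hdim U hU hiso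
  have h1 := K488.KerSm.pullback_smooth D hJ hJn hνt hN
  have h2 := h1.1
  have h3 := h1.2
  have hreg := K488.NormSq.isRegular g ν hdim hn
  have hgr := K488.NormSq.geometricallyReduced g ν hn U hU hU' hiso
  refine ⟨fun T y => K488.KerSm.exists_etale_lift νt T y, K488.KerSm.ker_smooth D hJ hJn hνt hN, ?_⟩
  intro H _ i _ _ hH hex
  obtain ⟨n, V, ψ, hV, hψ, hψH⟩ := hex
  have h4 : i ≫ νt = 1 := K488.KerSm.eq_one_of_unirational (ν ≫ g) hreg Jn φn hJn.relPic H (i ≫ νt) n V ψ hV hψ hψH
  exact K488.KerSm.exists_ker νt j hN i h4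

end Groth.Agent.S15959
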