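import Groth.Statements.S15960
import Groth.Agent.Models.K381.CohFlat

set_option autoImplicit false
universe u
open Models

namespace Groth.Agent.S15960

open CategoryTheory AlgebraicGeometry Limits in
/-- Let S be an excellent Dedekind scheme (integral, Noetherian, separated, of dimension one, with
regular local rings and excellent affine coordinate rings), K its function field with generic point
η : Spec K → S, and C a proper, connected, geometrically reduced, seminormal scheme over K all of
whose irreducible components have dimension one, such that every irreducible component of C contains
a K-rational point at which C is smooth over K. Then C has a proper flat model over S which is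
cohomologically flat in dimension zero: there are a proper flat f : 𝒞 → S and i : C → 𝒞 exhibiting C
as the fibre of f over η such that for every ring A and every morphism Spec A → S the induced map A
→ Γ(𝒞 ×_S Spec A, O) is an isomorphism (the published proof shows f_* O_𝒞 = O_S and cohomological
flatness, which together amount to this universal statement). -/
theorem result
    {S : Scheme.{u}} [IsIntegral S] [IsNoetherian S] [S.IsSeparated]
    (hreg : ∀ s : S, IsRegularLocalRing (S.presheaf.stalk s)) (hdimS : topologicalKrullDim S = 1)
    (hexc : ∀ U : S.affineOpens, EGA4.IsExcellent Γ(S, U))
    {C : Scheme.{u}} (g : C ⟶ Spec S.functionField) [IsProper g] [LocallyOfFinitePresentation g]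
    [GeometricallyReduced g] [ConnectedSpace C] (hsn : HTop.IsSeminormal C)
    (hdimC : ∀ W ∈ irreducibleComponents (C : Type u), topologicalKrullDim W = 1)
    (hpt : ∀ W ∈ irreducibleComponents (C : Type u), ∃ y ∈ W, y ∈ g.smoothLocus ∧ IsIso (g.residueFieldMap y)) :
    ∃ (M : Scheme.{u}) (f : M ⟶ S) (i : C ⟶ M), IsProper f ∧ Flat f ∧
      IsPullback i g f (S.fromSpecStalk (genericPoint S)) ∧
      ∀ (A : CommRingCat.{u}) (a : Spec A ⟶ S), IsIso (pullback.snd f a).appTop := by
  exact K381.CohFlat.exists_model hreg hdimS.le (K381.ExcSch.IsExc.of_forall hexc) g hsn hdimC hpt

end Groth.Agent.S15960
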