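import Groth.Statements.S15961
import Groth.Agent.HTop.K348.SemiSect
import Groth.Agent.HTop.K348.SemiOpen

set_option autoImplicit false
universe u
open HTop

namespace Groth.Agent.S15961

open CategoryTheory AlgebraicGeometry in
/-- Let ν : X' → X be a seminormalization of the scheme X (X' seminormal, ν a universal homeomorphism
inducing isomorphisms on residue fields and initial among such morphisms to X) and let U be an open
subscheme of X. Then the restriction of ν over U, ν⁻¹(U) → U, is a seminormalization of U. (The
published lemma also treats U → X a localisation; that case is not restated.) -/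
theorem result {X' X : Scheme.{u}} (ν : X' ⟶ X)
    (hν : HTop.IsSeminormalization ν) (hX' : HTop.IsSeminormal X') (U : X.Opens) :
    HTop.IsSeminormalization (ν ∣_ U) := by
  have hp := isPullback_morphismRestrict ν U
  have hK := K348.RFI.kbij_of_isUnivHomeo hν.1.1 hν.1.2
  exact ⟨⟨Groth.Agent.FlatA.UnivHomeo.isUnivHomeo_of_isPullback hp.flip hν.1.1,
    (K348.RFI.KBij.of_isPullback hp.flip hK).residueFieldsIso⟩, fun Y π h1 h2 =>
    K348.SemiSect.existsUnique_lift (K348.SemiOpen.isSeminormal_opens hX' _) π h1 h2 (ν ∣_ U)⟩

end Groth.Agent.S15961
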