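import Groth.Statements.S15963
import Groth.Agent.HTop.K348.SemiSect
import Groth.Agent.HTop.K348.SemiStalk
import Mathlib.AlgebraicGeometry.Morphisms.SchemeTheoreticallyDominant
import Groth.Agent.HTop.K348.FinInj

set_option autoImplicit false
universe u
open HTop

namespace Groth.Agent.S15963

open CategoryTheory AlgebraicGeometry in
/-- Let S be a reduced Noetherian scheme, π : S̃ → S its normalisation (S̃ has integrally closed local
domains, π is integral and an isomorphism over a dense open subset of S with dense preimage), ν : X'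
→ S a seminormalization of S (X' seminormal, ν a universal homeomorphism with residue-field
isomorphisms, initial among such) and g : S̃ → X' a morphism with g followed by ν equal to π. Then ν
and g are scheme-theoretically dominant (the structure sheaf maps injectively into the direct
image), and if π is finite then so are ν and g. -/
theorem result {S Sn X' : Scheme.{u}}
    [IsNoetherian S] [IsReduced S]
    (π : Sn ⟶ S) [IsIntegralHom π] (hn : Pi1.IsNormalScheme Sn)
    (hbir : ∃ U : S.Opens, Dense (U : Set S) ∧ Dense ((π ⁻¹ᵁ U : Sn.Opens) : Set Sn) ∧ IsIso (π ∣_ U))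
    (ν : X' ⟶ S) (hν : HTop.IsSeminormalization ν) (hX' : HTop.IsSeminormal X')
    (g : Sn ⟶ X') (hg : g ≫ ν = π) :
    (IsSchemeTheoreticallyDominant ν ∧ IsSchemeTheoreticallyDominant g) ∧
      (IsFinite π → IsFinite ν ∧ IsFinite g) := by
  have hν1 := (Groth.Agent.FlatA.UnivHomeo.isUnivHomeo_iff ν).mp hν.1.1
  obtain ⟨i1, i2, i3⟩ := hν1
  have hX'r : IsReduced X' := Groth.Agent.S7421.result.2 X' hX'
  -- `π` is surjective
  have hπs : Surjective π := by
    obtain ⟨U, hU, -, hiso⟩ := hbir
    have hcl : IsClosed (Set.range π) := π.isClosedMap.isClosed_range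
    refine ⟨fun s => ?_⟩
    have hUr : (U : Set S) ⊆ Set.range π := by
      intro x hx
      obtain ⟨y, hy⟩ := (π ∣_ U).surjective ⟨x, hx⟩
      refine ⟨(π ⁻¹ᵁ U).ι y, ?_⟩
      rw [← Scheme.Hom.comp_apply, ← morphismRestrict_ι, Scheme.Hom.comp_apply, hy]
      rfl
    have : s ∈ closure (Set.range π) := closure_mono hUr (hU s)
    rwa [hcl.closure_eq] at this
  have hgs : Surjective g := by
    refine ⟨fun x => ?_⟩
    obtain ⟨y, hy⟩ := π.surjective (ν x)
    refine ⟨y, ν.injective ?_⟩
    rw [← Scheme.Hom.comp_apply, hg, hy]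
  have hqg : IsIntegralHom g := by
    have : IsIntegralHom (g ≫ ν) := hg ▸ inferInstance
    exact .of_comp g ν
  have hd1 : IsSchemeTheoreticallyDominant ν := .of_isDominant ν
  have hd2 : IsSchemeTheoreticallyDominant g := .of_isDominant g
  refine ⟨⟨hd1, hd2⟩, fun hfin => ?_⟩
  have hνf : IsFinite ν := by
    rw [isFinite_iff]
    refine ⟨inferInstance, fun U hU => ?_⟩
    have h1 : (π.app U).hom.Finite := IsFinite.finite_app π U hU
    have h2 : Function.Injective (g.app (ν ⁻¹ᵁ U)).hom := g.app_injective _
    have h3 : IsNoetherianRing Γ(S, U) := IsLocallyNoetherian.component_noetherian ⟨U, hU⟩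
    subst hg
    rw [Scheme.Hom.comp_app] at h1
    exact K348.FinInj.finite_of_comp_injective (ν.app U).hom (g.app (ν ⁻¹ᵁ U)).hom h1 h2
  have : IsFinite (g ≫ ν) := by rw [hg]; exact hfin
  exact ⟨hνf, .of_comp g ν⟩

end Groth.Agent.S15963
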