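import Groth.Statements.S15964
import Groth.Agent.Neron.K487.Main64
import Groth.Agent.Neron.K488.NormMain
import Groth.Agent.Sga3B.KerGrp
import Groth.Agent.S15959
import Groth.Agent.S15952

set_option autoImplicit false
attribute [-instance] CategoryTheory.catToReflQuiver
universe u
open Neron

namespace Groth.Agent.S15964

open CategoryTheory AlgebraicGeometry MonObj in
theorem isReduced_of_geometricallyReduced {κ : Type u} [Field κ] {C : Scheme.{u}} (g : C ⟶ Spec (CommRingCat.of κ))
    [IsProper g] [GeometricallyReduced g] : IsReduced C :=
  GeometricallyReduced.isReduced_of_flat_of_isLocallyNoetherian g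

open CategoryTheory AlgebraicGeometry MonObj in
/-- Let S be an excellent Dedekind scheme (integral, Noetherian, separated, of dimension one, with
regular local rings and excellent affine coordinate rings), K its function field with generic point
η : Spec K → S, and C a proper, connected, geometrically reduced scheme over K all of whose
irreducible components have dimension one, such that every irreducible component of C contains a
K-rational point at which C is smooth over K. Let (J, φ) be the Jacobian Pic⁰_{C/K} of C with its
group law, rendered as: J is a commutative group scheme over K and φ exhibits J as representing the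
fppf sheafification of the functor of invertible modules on C ×_K T that are algebraically
equivalent to zero on every geometric fibre, compatibly with tensor products (for a proper curve
these are the classes in the identity component of the Picard scheme). Let j : N → J be the maximal
unirational subgroup: a smooth closed subgroup scheme admitting a dominant K-morphism from a
nonempty open subscheme of an affine space, through which every smooth closed subgroup with that
property factors. Assume that J contains no closed subgroup scheme isomorphic to the additive group,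
and that N admits a Néron lft-model over S (a smooth separated S-scheme with fibre N over η
satisfying the Néron mapping property). Then J admits a Néron lft-model over S: a smooth separated
S-scheme M with an isomorphism of its fibre over η with J such that for every smooth S-scheme Y
restriction to η is a bijection from S-morphisms Y → M onto K-morphisms Y_η → J. (The published
statement assumes neither that C is connected, nor the rational points, nor anything about N: it
passes to a finite separable extension of K over which every irreducible component acquires such a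
point and obtains the Néron lft-model of the unirational part there; this row states the case in
which no extension is needed and takes that lft-model as given.) -/
theorem result
    {S : Scheme.{u}} [IsIntegral S] [IsNoetherian S] [S.IsSeparated]
    (hreg : ∀ s : S, IsRegularLocalRing (S.presheaf.stalk s)) (hdimS : topologicalKrullDim S = 1)
    (hexc : ∀ U : S.affineOpens, EGA4.IsExcellent Γ(S, U))
    {C : Scheme.{u}} (g : C ⟶ Spec S.functionField) [IsProper g] [GeometricallyReduced g]
    [ConnectedSpace C]
    (hdimC : ∀ W ∈ irreducibleComponents (C : Type u), topologicalKrullDim W = 1)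
    (hpt : ∀ W ∈ irreducibleComponents (C : Type u), ∃ y ∈ W, y ∈ g.smoothLocus ∧ IsIso (g.residueFieldMap y))
    (J : Over (Spec S.functionField)) [GrpObj J] [IsCommMonObj J]
    (φ : ∀ T : Over (Spec S.functionField), PicF.Cl (PicF.XT g T) → (T ⟶ J))
    (hJ : AbDual.IsDualAV Scheme.fppfPrecoverage (Over.mk g) J φ)
    (N : Over (Spec S.functionField)) [GrpObj N] (j : N ⟶ J) [IsMonHom j]
    (hj : IsClosedImmersion j.left) [Smooth N.hom]
    (hNuni : (∃ (n : ℕ) (V : (AffineSpace (ULift.{u} (Fin n)) (Spec S.functionField)).Opens)
          (ψ : (V : Scheme.{u}) ⟶ N.left),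
        (V : Set (AffineSpace (ULift.{u} (Fin n)) (Spec S.functionField))).Nonempty ∧ DenseRange ψ.base ∧
        ψ ≫ N.hom = V.ι ≫ (AffineSpace (ULift.{u} (Fin n)) (Spec S.functionField) ↘ Spec S.functionField)))
    (hNmax : ∀ (H : Over (Spec S.functionField)) [GrpObj H] (i : H ⟶ J) [IsMonHom i],
      IsClosedImmersion i.left → Smooth H.hom →
      (∃ (n : ℕ) (V : (AffineSpace (ULift.{u} (Fin n)) (Spec S.functionField)).Opens)
          (ψ : (V : Scheme.{u}) ⟶ H.left),
        (V : Set (AffineSpace (ULift.{u} (Fin n)) (Spec S.functionField))).Nonempty ∧ DenseRange ψ.base ∧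
        ψ ≫ H.hom = V.ι ≫ (AffineSpace (ULift.{u} (Fin n)) (Spec S.functionField) ↘ Spec S.functionField)) →
      ∃ k : H ⟶ N, k ≫ j = i)
    (hGa : ∀ (a : Red.Ga (Spec S.functionField) ⟶ J), IsMonHom a → ¬ IsClosedImmersion a.left)
    (hNlft : ∃ (U : Over S) (eU : (Over.pullback (S.fromSpecStalk (genericPoint S))).obj U ≅ N),
      Smooth U.hom ∧ IsSeparated U.hom ∧
      ∀ Y : Over S, Smooth Y.hom →
        Function.Bijective (fun h : Y ⟶ U => (Over.pullback (S.fromSpecStalk (genericPoint S))).map h ≫ eU.hom)) :
    ∃ (M : Over S) (e : (Over.pullback (S.fromSpecStalk (genericPoint S))).obj M ≅ J),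
      Smooth M.hom ∧ IsSeparated M.hom ∧
      ∀ Y : Over S, Smooth Y.hom →
        Function.Bijective (fun h : Y ⟶ M => (Over.pullback (S.fromSpecStalk (genericPoint S))).map h ≫ e.hom) := by
  obtain ⟨Cn, ν, Jn, gJn, cJn, φn, νt, hfin, hn, ⟨U, hU, hU', hiso⟩, hprop, hgr, hregn, hdimn, hJn, hmon, hνt⟩ :=
    K488.NormMain.exists_norm_jacobian (κ := S.functionField) g hdimC J φ hJ
  obtain ⟨X, eX, hX1, hX2, -, hX4⟩ := Groth.Agent.S15952.result
    hreg hdimS hexc (ν ≫ g) hregn hdimn Jn φn hJn
  have hJs : IsSeparated Jn.hom := by
    have h1 : Jn.hom = eX.inv.left ≫ Limits.pullback.snd X.hom (S.fromSpecStalk (genericPoint S)) := (Over.w eX.inv).symm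
    have h2 : IsIso eX.inv.left := ⟨eX.hom.left, congrArg (fun f => f.left) eX.inv_hom_id,
      congrArg (fun f => f.left) eX.hom_inv_id⟩
    rw [h1]; infer_instance
  obtain ⟨gK, mK⟩ := Groth.Agent.Sga3B.KerGrp.exists_grpObj νt
  obtain ⟨-, ⟨h2, -, h4⟩, h5⟩ := Groth.Agent.S15959.result
    S.functionField g hdimC ν hn ⟨U, hU, hU', hiso⟩ J Jn φ φn hJ hJn νt hνt
    (Groth.Agent.Sga3B.KerGrp.kerObj νt) (Groth.Agent.Sga3B.KerGrp.kerι νt)
    (Groth.Agent.Sga3B.KerGrp.isPullback_ker νt)
  obtain ⟨a, ha⟩ := hNmax (Groth.Agent.Sga3B.KerGrp.kerObj νt) (Groth.Agent.Sga3B.KerGrp.kerι νt) inferInstance h2 h4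
  obtain ⟨b, hb⟩ := h5 N j hj ‹Smooth N.hom› hNuni
  have hjm : Mono j := (Over.forget _).mono_of_mono_map (inferInstanceAs (Mono j.left))
  have hker : AlgGrp.IsKernel j νt := by
    let e : Groth.Agent.Sga3B.KerGrp.kerObj νt ≅ N :=
      { hom := a
        inv := b
        hom_inv_id := by
          rw [← cancel_mono (Groth.Agent.Sga3B.KerGrp.kerι νt), Category.assoc, hb, ha, Category.id_comp]
        inv_hom_id := by rw [← cancel_mono j, Category.assoc, ha, hb, Category.id_comp] }
    exact (Groth.Agent.Sga3B.KerGrp.isPullback_ker νt).of_iso e (Iso.refl _) (Iso.refl _) (Iso.refl _)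
      (by rw [Iso.refl_hom, Category.comp_id]; exact ha.symm) (CartesianMonoidalCategory.toUnit_unique _ _) (by simp) (by simp)
  obtain ⟨A, eA, hA1, hA2, hA3⟩ := hNlft
  have hdim1 := K488.NormSq.dim_le hdimC
  have hCr : IsReduced C := isReduced_of_geometricallyReduced (κ := S.functionField) g
  exact K487.Main64.main hreg hdimS hexc g hdim1 hpt ν hn U hU hU' hiso J Jn φ φn hJn νt hνt N j hker A eA hA3 X eX hX4

end Groth.Agent.S15964
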