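import Groth.Statements.S15975
import Groth.Agent.IntSh.K129.Step
import Groth.Agent.S1639
import Groth.Agent.S1496
import Groth.Agent.Ega2.AmpleUnit
import Groth.Prelude.Def_RelProj

set_option autoImplicit false
universe u
open IntSh

namespace Groth.Agent.S15975

section Aux

open CategoryTheory CategoryTheory.Limits AlgebraicGeometry Topology CohB1
open Groth.Agent Groth.Agent.VarietyB Groth.Agent.CohqB.ProjBC
open K129


theorem exists_isAmple_spec (k : Type u) [CommRing k] :
    ∃ N : (Spec (CommRingCat.of k)).Modules, CohB1.IsAmple N :=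
  ⟨_, Ega2.Weight.isAmple_structureModule (Spec (CommRingCat.of k))⟩

/-- A scheme with a finite surjective morphism to `Y` and an ample invertible sheaf. -/
theorem exists_finite : ∀ (d : ℕ) {k : Type u} [Field k] {n : ℕ} {X Y : Scheme.{u}}
    (i : X ⟶ ProjSpace n k) [IsClosedImmersion i] (sY : Y ⟶ Spec (CommRingCat.of k)) [IsSeparated sY]
    [LocallyOfFiniteType sY] (π : X ⟶ Y) (_ : π ≫ sY = i ≫ ProjSpace.toSpec n k)
    (_ : ∀ y, topologicalKrullDim (π.fiber y) = (d : WithBot ℕ∞)),
    ∃ (W : Scheme.{u}) (g : W ⟶ Y) (L : W.Modules), IsFinite g ∧ Surjective g ∧ CohB1.IsAmple L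
  | 0, k, _, n, X, Y, i, _, sY, _, _, π, hπ, hd => by
    have h1 := Step.isProper_π i sY π hπ
    have h2 := Step.isFinite_of_dim_zero π fun y => (hd y).le
    have h3 := Step.surjective_of_dim π 0 hd
    have h4 := ((CalgB.ProjImm.closedImmersion_iff (exists_isAmple_spec k)
      (i ≫ ProjSpace.toSpec n k)).mp ⟨n, i ≫ (projSpaceOverIso n k).inv, inferInstance, by simp⟩).2
    obtain ⟨L, hL⟩ := h4
    exact ⟨X, π, L, h2, h3, hL⟩
  | d + 1, k, _, n, X, Y, i, _, sY, _, _, π, hπ, hd => by
    obtain ⟨k', _, X', Y', i', _, sY', _, _, π', hπ', hd', g, hg1, hg2⟩ := Step.step i sY π hπ hd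
    obtain ⟨W, g', L, h1, h2, h3⟩ := exists_finite d i' sY' π' hπ' hd'
    exact ⟨W, g' ≫ g, L, inferInstance, inferInstance, h3⟩

theorem isHProjective {k : Type u} [Field k] {X Y : Scheme.{u}}
    (sX : X ⟶ Spec (CommRingCat.of k)) (sY : Y ⟶ Spec (CommRingCat.of k))
    (π : X ⟶ Y) (hπ : π ≫ sY = sX) (hX : RelProj.IsHProjective sX)
    [IsIntegral Y] [IsSeparated sY] [LocallyOfFiniteType sY] [QuasiCompact sY]
    (hN : Pi1.IsNormalScheme Y) (d : ℕ) (hd : ∀ y : Y, topologicalKrullDim (π.fiber y) = d) :
    RelProj.IsHProjective sY := by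
  obtain ⟨n, i, hi, hi'⟩ := hX
  obtain ⟨W, g, L, h1, h2, h3⟩ := exists_finite d (i ≫ (projSpaceOverIso n k).hom) sY π
    (by rw [hπ, ← hi', Category.assoc, projSpaceOverIso_hom_toSpec]) hd
  obtain ⟨M, hM⟩ := S1639.result g hN L h3
  have h4 := Step.surjective_of_dim π d hd
  have h5 : IsProper (π ≫ sY) := by
    rw [hπ, ← hi']
    have : IsProper (ProjSpaceOver.toBase n (Spec (CommRingCat.of k))) := by
      rw [← projSpaceOverIso_hom_toSpec]
      have := ProjSpaceProper.isProper_toSpec n k
      infer_instance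
    infer_instance
  have h6 : UniversallyClosed sY := UniversallyClosed.of_comp_surjective π sY
  have h7 : IsProper sY := {}
  exact (CalgB.ProjImm.closedImmersion_iff (exists_isAmple_spec k) sY).mpr ⟨h7, M, hM⟩

end Aux

open CategoryTheory CategoryTheory.Limits AlgebraicGeometry in
/-- Let k be a field, X a scheme over k admitting a closed immersion into a projective space over k, Y
an integral normal scheme separated and of finite type over k, and π : X → Y a proper surjective
k-morphism which is equidimensional in the sense that all fibres π⁻¹(y), y ∈ Y, have the same Krull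
dimension d. Then Y admits a closed immersion into a projective space over k. -/
theorem result
    {k : Type u} [Field k] {X Y : Scheme.{u}}
    (sX : X ⟶ Spec (CommRingCat.of k)) (sY : Y ⟶ Spec (CommRingCat.of k))
    (π : X ⟶ Y) (hπ : π ≫ sY = sX)
    (hX : RelProj.IsHProjective sX)
    [IsIntegral Y] [IsSeparated sY] [LocallyOfFiniteType sY] [QuasiCompact sY]
    (hN : Pi1.IsNormalScheme Y)
    [IsProper π] [Surjective π]
    (d : ℕ) (hd : ∀ y : Y, topologicalKrullDim (↥(π.fiber y) : Type u) = d) :
    RelProj.IsHProjective sY :=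
  isHProjective sX sY π hπ hX hN d hd

end Groth.Agent.S15975
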