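import Groth.Statements.S15976
import Groth.Agent.IntSh.K877.TensBi
import Groth.Agent.IntSh.K877.Avoid
import Groth.Agent.Fdesc.SubFilt

set_option autoImplicit false
universe u
open IntSh

namespace Groth.Agent.S15976

open CategoryTheory CategoryTheory.Limits AlgebraicGeometry Opposite
open Groth.Agent.Fdesc Groth.Agent.Fdesc.LocGen Groth.Agent.IntSh.K877

section Vanish

variable {A : Type u} [CommRing A] {V : Scheme.{u}} (f : V ⟶ Spec (CommRingCat.of A))
  {L : V.Modules} {N : ℕ} (σ : Fin (N + 1) → (Coh.structureModule V ⟶ L))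

/-- the coefficient ring homomorphism -/
noncomputable def coef : A →+* Γ(V, ⊤) :=
  f.appTop.hom.comp (Scheme.ΓSpecIso (CommRingCat.of A)).inv.hom

/-- the linear combination of sections -/
noncomputable def comb (a : Fin (N + 1) → A) : Γ(L, ⊤) := ∑ i, coef f (a i) • sec (σ i) ⊤

/-- the values of the linear combinations at a point where `L` is generated by `e` -/
noncomputable def evalAt {U : V.Opens} {v : V} (hv : v ∈ U) (c : Fin (N + 1) → Γ(V, U)) :
    (Fin (N + 1) → A) →+ V.residueField v where
  toFun a := ∑ i, V.evaluation U v hv (ores le_top (coef f (a i)) * c i)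
  map_zero' := by simp
  map_add' a b := by simp [add_mul, Finset.sum_add_distrib]

theorem evalAt_smul {U : V.Opens} {v : V} (hv : v ∈ U) (c : Fin (N + 1) → Γ(V, U)) (r : A)
    (a : Fin (N + 1) → A) : evalAt f hv c (r • a) =
      V.evaluation U v hv (ores le_top (coef f r)) * evalAt f hv c a := by
  simp only [evalAt, AddMonoidHom.coe_mk, ZeroHom.coe_mk, Finset.mul_sum]
  refine Finset.sum_congr rfl fun i _ => ?_
  rw [Pi.smul_apply, smul_eq_mul, map_mul, map_mul, map_mul, map_mul, map_mul, mul_assoc]

/-- the submodule of combinations vanishing at a point -/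
noncomputable def vanish {U : V.Opens} {v : V} (hv : v ∈ U) (c : Fin (N + 1) → Γ(V, U)) :
    Submodule A (Fin (N + 1) → A) where
  carrier := {a | evalAt f hv c a = 0}
  add_mem' ha hb := by
    rw [Set.mem_ofPred_eq] at *
    rw [map_add, ha, hb, add_zero]
  zero_mem' := map_zero _
  smul_mem' r a ha := by
    rw [Set.mem_ofPred_eq] at *
    rw [evalAt_smul, ha, mul_zero]

theorem mem_genLocus_comb_iff {U : V.Opens} {v : V} (hv : v ∈ U) {e : Γ(L, U)} (he : IsGen e)
    (c : Fin (N + 1) → Γ(V, U)) (hc : ∀ i, sec (σ i) U = c i • e) (a : Fin (N + 1) → A) :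
    v ∈ CohB1.genLocus L (homOf (comb f σ a)) ↔ a ∉ vanish f hv c := by
  have h1 : sec (homOf (comb f σ a)) U = (∑ i, ores le_top (coef f (a i)) * c i) • e := by
    rw [sec_homOf, comb, map_sum, Finset.sum_smul]
    refine Finset.sum_congr rfl fun i _ => ?_
    rw [res_smul, res_sec, hc, smul_smul]
  have h2 := genLocus_inf_eq (homOf (comb f σ a)) he h1
  have h3 : v ∈ CohB1.genLocus L (homOf (comb f σ a)) ↔
      v ∈ V.basicOpen (∑ i, ores le_top (coef f (a i)) * c i) := by
    rw [← h2]
    exact ⟨fun h => ⟨h, hv⟩, fun h => h.1⟩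
  rw [h3]
  change _ ↔ ¬ (evalAt f hv c a = 0)
  rw [← not_iff_not, not_not, ← Scheme.evaluation_eq_zero_iff_notMem_basicOpen (x := v) (hx := hv)]
  simp only [evalAt, AddMonoidHom.coe_mk, ZeroHom.coe_mk, map_sum]

end Vanish

open CategoryTheory CategoryTheory.Limits AlgebraicGeometry Opposite in
/-- Let A be a Noetherian local ring with infinite residue field, V a Noetherian scheme over Spec A, L
an invertible O_V-module generated by finitely many global sections σ_0, …, σ_N (at every point some
σ_i generates L), and F_1, …, F_m coherent O_V-modules. Then some A-linear combination σ of the σ_i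
is F_j-regular for every j, regularity of a global section σ of L with respect to F meaning that the
map F ⊗ O_V → F ⊗ L induced by σ is injective. The combination is expressed through the global
sections σ(1), σ_i(1) ∈ Γ(V, L) and the images in Γ(V, O_V) of the coefficients from A. -/
theorem result
    {A : Type u} [CommRing A] [IsNoetherianRing A] [IsLocalRing A]
    (hA : Infinite (IsLocalRing.ResidueField A))
    {V : Scheme.{u}} [IsNoetherian V] (f : V ⟶ Spec (CommRingCat.of A))
    (L : V.Modules) (hL : PicF.IsInvertible L)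
    {N : ℕ} (σ : Fin (N + 1) → (Coh.structureModule V ⟶ L))
    (hgen : ∀ x : V, ∃ i, x ∈ CohB1.genLocus L (σ i))
    {m : ℕ} (F : Fin m → V.Modules) (hF : ∀ j, Coh.IsCoh (F j)) :
    ∃ (τ : Coh.structureModule V ⟶ L) (a : Fin (N + 1) → A),
      τ.val.app (op ⊤) (1 : V.ringCatSheaf.obj.obj (op ⊤)) =
        ∑ i, f.appTop ((Scheme.ΓSpecIso (CommRingCat.of A)).inv (a i)) •
          (σ i).val.app (op ⊤) (1 : V.ringCatSheaf.obj.obj (op ⊤)) ∧
      ∀ j, Mono (((DCoh.tensorBi (X := V)).obj (F j)).map τ) := by
  classical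
  -- the associated points
  have hfin : (⋃ j, AssSch.Ass (F j)).Finite := Set.finite_iUnion fun j => SubFilt.finite_ass (hF j)
  have hfin' : Finite (⋃ j, AssSch.Ass (F j) : Set V) := hfin.to_subtype
  -- local data
  have hloc : ∀ v : V, ∃ (U : V.Opens) (hv : v ∈ U) (e : Γ(L, U)) (_ : IsGen e)
      (c : Fin (N + 1) → Γ(V, U)), ∀ i, sec (σ i) U = c i • e := by
    intro v
    obtain ⟨U, e, hv, he⟩ := (isInvertible_iff L).1 hL v
    choose c hc using fun i => he.exists_eq (sec (σ i) U)
    exact ⟨U, hv, e, he, c, hc⟩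
  choose U hv e he c hc using hloc
  obtain ⟨a, ha⟩ := Avoid.exists_notMem (A := A)
    (fun v : (⋃ j, AssSch.Ass (F j) : Set V) => vanish f (hv v.1) (c v.1)) (by
      intro ⟨v, _⟩ htop
      obtain ⟨i, hi⟩ := hgen v
      have h1 : (Pi.single i (1 : A) : Fin (N + 1) → A) ∈ vanish f (hv v) (c v) := by
        rw [htop]; trivial
      have h2 : homOf (comb f σ (Pi.single i (1 : A))) = σ i := by
        rw [← homOf_sec (σ i)]
        congr 1
        rw [comb, Finset.sum_eq_single i]
        · simp
        · intro j _ hj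
          rw [Pi.single_eq_of_ne hj, map_zero, zero_smul]
        · simp
      have h3 := (mem_genLocus_comb_iff f σ (hv v) (he v) (c v) (hc v) (Pi.single i 1)).1
        (by rw [h2]; exact hi)
      exact h3 h1)
  refine ⟨homOf (comb f σ a), a, ?_, fun j => ?_⟩
  · have h1 := sec_homOf (comb f σ a) ⊤
    rw [res_refl] at h1
    exact h1
  · refine TensBi.mono_obj_map _ (F j) (hF j) hL fun v hvj => ?_
    rw [SetLike.mem_coe, mem_genLocus_comb_iff f σ (hv v) (he v) (c v) (hc v)]
    exact ha ⟨v, Set.mem_iUnion.2 ⟨j, hvj⟩⟩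

end Groth.Agent.S15976
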