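import Groth.Statements.S15978
import Groth.Agent.IntSh.K110.Cyc
import Groth.Agent.Dix.ProjProper

set_option autoImplicit false
universe u
open IntSh

namespace Groth.Agent.S15978

open CategoryTheory CategoryTheory.Limits AlgebraicGeometry in
/-- Let k be an algebraically closed field, X an integral scheme admitting a closed immersion into a
projective space over k, Y an integral normal scheme proper over k, and Z_1, …, Z_n closed
irreducible subsets of X ×_k Y each mapping onto Y under the second projection with all fibres of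
the same Krull dimension d (a family of effective d-cycles of X parametrised by Y). Let B ⊆ Y be a
connected closed subset and F ⊆ X the image under the first projection of S ∩ p_2⁻¹(B), where S = ⋃
Z_i. If F has Krull dimension d, then S ∩ p_2⁻¹(B) = p_1⁻¹(F) ∩ p_2⁻¹(B). (The published statement
is over an arbitrary field with Y a normal variety; for k = ℝ and X = Y = Spec ℂ one point of X ×_k
Y is such a family with d = 0 and B = Y, while p_1⁻¹(F) ∩ p_2⁻¹(B) has two points, and the published
proof uses irreducibility of products of irreducible closed subsets and a proper birational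
flattening of Y; so k is taken algebraically closed and Y proper over k here.) -/
theorem result
    {k : Type u} [Field k] [IsAlgClosed k] {X Y : Scheme.{u}}
    (sX : X ⟶ Spec (CommRingCat.of k)) (sY : Y ⟶ Spec (CommRingCat.of k))
    [IsIntegral X] (hX : RelProj.IsHProjective sX)
    [IsIntegral Y] [IsProper sY] (hN : Pi1.IsNormalScheme Y)
    (d : ℕ) {n : ℕ} (Z : Fin n → Set ↥(pullback sX sY))
    (hZc : ∀ i, IsClosed (Z i)) (hZi : ∀ i, IsIrreducible (Z i))
    (hZs : ∀ i, (pullback.snd sX sY).base '' Z i = Set.univ)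
    (hZd : ∀ i (y : Y), topologicalKrullDim ↥(Z i ∩ (pullback.snd sX sY).base ⁻¹' {y}) = d)
    (B : Set Y) (hB : IsClosed B) (hBc : _root_.IsPreconnected B)
    (hFd : topologicalKrullDim
        ↥((pullback.fst sX sY).base '' ((⋃ i, Z i) ∩ (pullback.snd sX sY).base ⁻¹' B)) = d) :
    (⋃ i, Z i) ∩ (pullback.snd sX sY).base ⁻¹' B =
      (pullback.fst sX sY).base ⁻¹'
          ((pullback.fst sX sY).base '' ((⋃ i, Z i) ∩ (pullback.snd sX sY).base ⁻¹' B)) ∩
        (pullback.snd sX sY).base ⁻¹' B := by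
  obtain ⟨m, e, he, hes⟩ := hX
  have hpr : IsProper sX := by
    have h1 : IsProper (CohB1.ProjSpaceOver.toBase m (Spec (CommRingCat.of k))) :=
      Groth.Agent.Dix.ProjProper.isProper_toBase m _
    rw [← hes]
    infer_instance
  have hXn : IsLocallyNoetherian X := LocallyOfFiniteType.isLocallyNoetherian sX
  have hXc : CompactSpace X := QuasiCompact.compactSpace_of_compactSpace sX
  have hXN : IsNoetherian X := {}
  set p := pullback.fst sX sY with hp
  set q := pullback.snd sX sY with hq
  have H : IsPullback p q sX sY := IsPullback.of_hasPullback sX sY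
  set A : Set ↥(pullback sX sY) := ⋃ i, Z i with hA
  have hAc : IsClosed A := isClosed_iUnion_of_finite hZc
  have hFc : IsClosed (p '' (A ∩ q ⁻¹' B)) :=
    p.isClosedMap _ (hAc.inter (hB.preimage q.continuous))
  have hFd' : ∀ x ∈ p '' (A ∩ q ⁻¹' B), Groth.Agent.CycB.RelDim.rtd sX x ≤ d :=
    fun x hx => K110.Cyc.rtd_le_of_mem sX _ hFc d hFd x hx
  have hgen : ∀ i, ∃ ζ : ↥(pullback sX sY), closure {ζ} = Z i ∧ q ζ = genericPoint Y ∧
      Groth.Agent.CycB.RelDim.rtd q ζ = d := by
    intro i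
    obtain ⟨ζ, hζ⟩ := QuasiSober.sober (hZi i) (hZc i)
    have h1 : q ζ = genericPoint Y := by
      have h2 : genericPoint Y ∈ q '' Z i := by
        change genericPoint Y ∈ q.base '' Z i
        rw [hZs i]; trivial
      obtain ⟨w, hw, hwq⟩ := h2
      have h3 : q ζ ⤳ genericPoint Y := by
        rw [← hwq]
        exact (hζ.specializes hw).map q.continuous
      exact (h3.antisymm (genericPoint_specializes _)).eq
    exact ⟨ζ, hζ.def, h1, K110.Cyc.rtd_generic q (Z i) ζ hζ.def d (hZd i (q ζ))⟩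
  have hle : ∀ i, ∀ z ∈ Z i, Groth.Agent.CycB.RelDim.rtd q z ≤ d := by
    intro i z hz
    obtain ⟨ζ, hζ, -, -⟩ := hgen i
    exact K110.Cyc.rtd_le_of_dim q (Z i) ζ hζ (q z) d (hZd i (q z)) z hz rfl
  have hAd : ∀ z ∈ A, ∃ z₀ ∈ A, z₀ ⤳ z ∧ q z₀ = q z ∧
      (d : Cardinal.{u}) ≤ Groth.Agent.CycB.RelDim.rtd q z₀ := by
    intro z hz
    obtain ⟨i, hi⟩ := Set.mem_iUnion.mp hz
    obtain ⟨ζ, hζ, -, hd⟩ := hgen i
    obtain ⟨z₀, h1, h2, h3, h4⟩ := K127.RtdChev.exists_rtd_ge q
      (ξ := ζ) (x := z) (by rw [specializes_iff_mem_closure, hζ]; exact hi)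
    refine ⟨z₀, Set.mem_iUnion.mpr ⟨i, ?_⟩, h2, h3, hd ▸ h4⟩
    rw [← hζ]
    exact specializes_iff_mem_closure.mp h1
  have hAo : ∀ U : (pullback sX sY).Opens, IsOpen (q '' (A ∩ (U : Set ↥(pullback sX sY)))) := by
    intro U
    rw [hA, Set.iUnion_inter, Set.image_iUnion]
    refine isOpen_iUnion fun i => ?_
    obtain ⟨ζ, hζ, h1, h2⟩ := hgen i
    rw [← hζ]
    refine K110.Cyc.isOpenMap_comp q hN ζ d h1 h2 (fun z hz => hle i z ?_) U
    rw [← hζ]
    exact specializes_iff_mem_closure.mp hz
  apply Set.Subset.antisymm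
  · rintro z ⟨hzA, hzB⟩
    exact ⟨⟨z, ⟨hzA, hzB⟩, rfl⟩, hzB⟩
  · rintro z ⟨hzF, hzB⟩
    exact ⟨K110.Cyc.mem_of_mem H d A hAc B hBc _ hFc rfl hFd' hAd hAo z hzF hzB, hzB⟩

end Groth.Agent.S15978
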