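import Groth.Statements.S15981
import Groth.Agent.IntSh.K877.Dev
import Groth.Agent.IntSh.K877.Pts

set_option autoImplicit false
universe u
open IntSh

namespace Groth.Agent.S15981

open CategoryTheory CategoryTheory.Limits AlgebraicGeometry
open Groth.Agent.IntSh.K877.Dev Groth.Agent.CycB.StalkExact

variable {X : Scheme.{u}}

theorem length_ne_top [IsNoetherian X] {M : X.Modules} (hM : Coh.IsCoh M) {x : X}
    (hx : ringKrullDim (X.presheaf.stalk x) = 0) :
    Module.length (X.presheaf.stalk x) (M.presheaf.stalk x) ≠ ⊤ := by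
  have h1 : Module.Finite (X.presheaf.stalk x) (M.presheaf.stalk x) :=
    CycB.CohStalk.finite_stalk M hM x
  have h2 : IsNoetherianRing (X.presheaf.stalk x) := inferInstance
  have h3 : Ring.KrullDimLE 0 (X.presheaf.stalk x) :=
    Ring.krullDimLE_iff.2 hx.le
  have h4 : IsArtinianRing (X.presheaf.stalk x) :=
    isArtinianRing_iff_isNoetherianRing_krullDimLE_zero.2 ⟨h2, h3⟩
  rw [Module.length_ne_top_iff, isFiniteLength_iff_isNoetherian_isArtinian]
  exact ⟨inferInstance, inferInstance⟩

theorem hom_eq [IsNoetherian X] (rk : SGA6.Kcoh X →+ ({x : X // ringKrullDim (X.presheaf.stalk x) = 0} → ℤ))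
    (h : ∀ F : X.Modules, Coh.IsCoh F →
      rk (KZero.clSub (fun M : X.Modules => Coh.IsCoh M) F) =
        fun x => ((Module.length (X.presheaf.stalk x.1) (F.presheaf.stalk x.1)).toNat : ℤ)) :
    Function.Surjective rk ∧
          rk.ker = AddSubgroup.closure {c : SGA6.Kcoh X | ∃ F : X.Modules, Coh.IsCoh F ∧
            (∀ x ∈ CohB1.support F, (1 : WithBot ℕ∞) ≤ ringKrullDim (X.presheaf.stalk x)) ∧
            c = KZero.clSub (fun M : X.Modules => Coh.IsCoh M) F} := by
  classical
  have hfin : Finite {x : X // ringKrullDim (X.presheaf.stalk x) = 0} :=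
    (IntSh.K877.Pts.finite_dim_zero (X := X)).to_subtype
  have hfin' := Fintype.ofFinite {x : X // ringKrullDim (X.presheaf.stalk x) = 0}
  -- values on the structure sheaves of the components
  have hcomp : ∀ ζ : {x : X // ringKrullDim (X.presheaf.stalk x) = 0},
      rk (cl (Cyc.closureStructureSheaf ζ.1)) = Pi.single ζ 1 := by
    intro ζ
    rw [h _ (CycB.ClosSheaf.isCoh_closureStructureSheaf ζ.1)]
    funext x
    by_cases hx : x = ζ
    · subst hx
      rw [CycB.ClosSheaf.length_stalk_self, Pi.single_eq_same]
      rfl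
    · rw [Pi.single_eq_of_ne hx]
      have h1 : ¬ ζ.1 ⤳ x.1 := fun hs =>
        hx (Subtype.ext (((IntSh.K877.Pts.dim_eq_zero_iff x.1).1 x.2 _ hs).symm))
      have := CycB.ClosSheaf.subsingleton_stalk h1
      rw [Module.length_eq_zero]
      rfl
  set S : Set X := {x | (1 : WithBot ℕ∞) ≤ ringKrullDim (X.presheaf.stalk x)} with hSdef
  have hS0 : ∀ x : X, x ∉ S ↔ ringKrullDim (X.presheaf.stalk x) = 0 := by
    intro x
    rw [hSdef, Set.mem_ofPred_eq, IntSh.K877.Pts.one_le_dim_iff, not_not]
  have hG : ∀ c ∈ G X S, rk c = 0 := by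
    intro c hc
    refine AddSubgroup.closure_induction (p := fun c _ => rk c = 0) ?_ (map_zero _) ?_ ?_ hc
    · rintro c ⟨F, hF, hFS, rfl⟩
      rw [cl, h F hF]
      funext x
      have h1 : x.1 ∉ CohB1.support F := fun hx => (hS0 x.1).2 x.2 (hFS _ hx)
      have h2 : Subsingleton (F.presheaf.stalk x.1) :=
        (CohqB.DevSupport.not_mem_support_iff _ _).1 h1
      rw [Module.length_eq_zero]
      rfl
    · intro a b _ _ ha hb
      rw [map_add, ha, hb, add_zero]
    · intro a _ ha
      rw [map_neg, ha, neg_zero]
  -- the class of a module modulo `G X S`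
  have hdev : ∀ c : SGA6.Kcoh X,
      c - ∑ ζ : {x : X // ringKrullDim (X.presheaf.stalk x) = 0},
        rk c ζ • cl (Cyc.closureStructureSheaf ζ.1) ∈ G X S := by
    let ψ : SGA6.Kcoh X →+ SGA6.Kcoh X := AddMonoidHom.id _ -
      ∑ ζ : {x : X // ringKrullDim (X.presheaf.stalk x) = 0},
        (zmultiplesHom _ (cl (Cyc.closureStructureSheaf ζ.1))).comp ((Pi.evalAddMonoidHom _ ζ).comp rk)
    have hψ : ∀ c, ψ c = c - ∑ ζ : {x : X // ringKrullDim (X.presheaf.stalk x) = 0},
        rk c ζ • cl (Cyc.closureStructureSheaf ζ.1) := by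
      intro c
      simp [ψ]
    have htop : (G X S).comap ψ = ⊤ := by
      refine Sga67.K0Loc.eq_top_of_mk_mem (P := cohP X) _ fun M hM => ?_
      rw [← Sga67.K0Loc.clSub_eq_mk (cohP X) hM, AddSubgroup.mem_comap, hψ]
      obtain ⟨m, h1, h2, h3⟩ := exists_devissage S Set.univ
        (fun x hx y hxy => le_trans hx (IntSh.K877.Pts.dim_mono hxy))
        (fun x _ hxS y hxy hne => by
          by_contra hy
          exact hne (((IntSh.K877.Pts.dim_eq_zero_iff y).1 ((hS0 y).1 hy) x hxy).symm)) M hM
        (Set.subset_univ _)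
      have hm : ∀ x, m x ≠ 0 → ringKrullDim (X.presheaf.stalk x) = 0 :=
        fun x hx => (hS0 x).1 (h1 x hx).2
      have hsum : (m.sum fun x n => n • cl (Cyc.closureStructureSheaf x)) =
          ∑ ζ : {x : X // ringKrullDim (X.presheaf.stalk x) = 0},
            rk (cl M) ζ • cl (Cyc.closureStructureSheaf ζ.1) := by
        rw [Finsupp.sum]
        have hr : ∀ ζ : {x : X // ringKrullDim (X.presheaf.stalk x) = 0},
            rk (cl M) ζ • cl (Cyc.closureStructureSheaf ζ.1) =
              (fun x : X => m x • cl (Cyc.closureStructureSheaf x)) ζ.1 := by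
          intro ζ
          rw [cl, h M hM]
          beta_reduce
          rw [h3 ζ.1 trivial ((hS0 _).2 ζ.2)]
          simp
        rw [Finset.sum_congr rfl fun ζ _ => hr ζ]
        rw [← Finset.sum_subtype (Finset.univ.image (Subtype.val :
          {x : X // ringKrullDim (X.presheaf.stalk x) = 0} → X)) (by simp)
          (fun x : X => m x • cl (Cyc.closureStructureSheaf x))]
        refine Finset.sum_subset ?_ ?_
        · intro x hx
          rw [Finsupp.mem_support_iff] at hx
          simpa using hm x hx
        · intro x _ hx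
          rw [Finsupp.notMem_support_iff] at hx
          rw [hx, zero_smul]
      rw [← hsum]
      exact h2
    intro c
    have : c ∈ (G X S).comap ψ := by
      rw [htop]; trivial
    rw [AddSubgroup.mem_comap, hψ] at this
    exact this
  refine ⟨fun v => ⟨∑ ζ, v ζ • cl (Cyc.closureStructureSheaf ζ.1), ?_⟩, ?_⟩
  · rw [map_sum]
    simp_rw [map_zsmul, hcomp]
    funext x
    rw [Finset.sum_apply]
    simp [Pi.single_apply]
  · change _ = G X S
    apply le_antisymm
    · intro c hc
      have h1 := hdev c
      rw [AddMonoidHom.mem_ker] at hc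
      rw [hc] at h1
      simpa using h1
    · intro c hc
      exact hG c hc

/-- The rank homomorphism. -/
noncomputable def rkHom [IsNoetherian X] :
    SGA6.Kcoh X →+ ({x : X // ringKrullDim (X.presheaf.stalk x) = 0} → ℤ) :=
  Sga67.K0Loc.lift (P := cohP X)
    (fun F _ x => ((Module.length (X.presheaf.stalk x.1) (F.presheaf.stalk x.1)).toNat : ℤ))
    (by
      intro S hS h₁ h₂ h₃
      funext x
      have h := length_stalk_shortExact S hS x.1
      have n₁ := length_ne_top h₁ x.2
      have n₃ := length_ne_top h₃ x.2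
      simp only [Pi.add_apply]
      rw [h, ENat.toNat_add n₁ n₃]
      push_cast
      rfl)

theorem rkHom_cl [IsNoetherian X] {F : X.Modules} (hF : Coh.IsCoh F) :
    rkHom (KZero.clSub (fun M : X.Modules => Coh.IsCoh M) F) =
      fun x => ((Module.length (X.presheaf.stalk x.1) (F.presheaf.stalk x.1)).toNat : ℤ) := by
  have h : KZero.clSub (fun M : X.Modules => Coh.IsCoh M) F = Sga67.K0Loc.mk (cohP X) F hF :=
    Sga67.K0Loc.clSub_eq_mk (cohP X) hF
  rw [h]
  exact Sga67.K0Loc.lift_mk _ _ _ _

open CategoryTheory CategoryTheory.Limits AlgebraicGeometry in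
/-- Let X be a reduced Noetherian scheme and η_i the generic points of its irreducible components (the
points with zero-dimensional local ring). Sending the class of a coherent O_X-module F to the family
of lengths of its stalks F_{η_i} over O_{X,η_i} is a well defined homomorphism rk from the
Grothendieck group of coherent O_X-modules to the group of integer-valued functions on the η_i;
every such rk is surjective and its kernel is the subgroup generated by the classes of coherent
modules whose support contains no η_i (the first step of the coniveau filtration), so that rk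
identifies the zeroth graded piece of that filtration with the free abelian group on the irreducible
components. -/
theorem result
    {X : Scheme.{u}} [IsNoetherian X] [IsReduced X] :
    (∃ rk : SGA6.Kcoh X →+ ({x : X // ringKrullDim (X.presheaf.stalk x) = 0} → ℤ),
        ∀ F : X.Modules, Coh.IsCoh F →
          rk (KZero.clSub (fun M : X.Modules => Coh.IsCoh M) F) =
            fun x => ((Module.length (X.presheaf.stalk x.1) (F.presheaf.stalk x.1)).toNat : ℤ)) ∧
    ∀ rk : SGA6.Kcoh X →+ ({x : X // ringKrullDim (X.presheaf.stalk x) = 0} → ℤ),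
      (∀ F : X.Modules, Coh.IsCoh F →
          rk (KZero.clSub (fun M : X.Modules => Coh.IsCoh M) F) =
            fun x => ((Module.length (X.presheaf.stalk x.1) (F.presheaf.stalk x.1)).toNat : ℤ)) →
        Function.Surjective rk ∧
          rk.ker = AddSubgroup.closure {c : SGA6.Kcoh X | ∃ F : X.Modules, Coh.IsCoh F ∧
            (∀ x ∈ CohB1.support F, (1 : WithBot ℕ∞) ≤ ringKrullDim (X.presheaf.stalk x)) ∧
            c = KZero.clSub (fun M : X.Modules => Coh.IsCoh M) F} :=
  ⟨⟨rkHom, fun F hF => rkHom_cl hF⟩, fun rk hrk => hom_eq rk hrk⟩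

end Groth.Agent.S15981
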