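import Groth.Statements.S15982
import Groth.Agent.IntSh.K877.ChowMain

set_option autoImplicit false
universe u
open IntSh

namespace Groth.Agent.S15982

open CategoryTheory CategoryTheory.Limits AlgebraicGeometry in
/-- Let k be an algebraically closed field, X an integral projective k-scheme, Y an integral normal
projective k-scheme and π : X ⇢ Y a dominant rational map, given by a k-morphism f : U → Y with
dense image on a non-empty open U of X. Then there are an integral normal projective k-scheme T and
a birational map μ : Y ⇢ T, given by an open immersion g : V → T over k on a non-empty open V of Y,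
such that (1) the closed graph Γ_T ⊆ X ×_k T of μ ∘ π — the closure of the points (u, g(f(u))), u a
closed point of f⁻¹(V) — is equidimensional over T: all its fibres over points of T have the same
Krull dimension; and (2) for every integral normal projective k-scheme T' and birational map μ' : Y
⇢ T' (an open immersion g' : V' → T' over k, V' non-empty open) whose graph Γ_{T'} is
equidimensional over T' in the same sense, there is a k-morphism ν : T' → T with μ = ν ∘ μ' as
rational maps, i.e. g' followed by ν agrees with g on some non-empty open of V ∩ V'. (The published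
statement is over an arbitrary field; this row takes k algebraically closed.) -/
theorem result
    {k : Type u} [Field k] [IsAlgClosed k] {X Y : Scheme.{u}}
    (sX : X ⟶ Spec (CommRingCat.of k)) (sY : Y ⟶ Spec (CommRingCat.of k))
    [IsIntegral X] (hX : RelProj.IsHProjective sX)
    [IsIntegral Y] (hY : RelProj.IsHProjective sY) (hYn : Pi1.IsNormalScheme Y)
    (U : X.Opens) (hU : (U : Set X).Nonempty) (f : (U : Scheme.{u}) ⟶ Y)
    (hf : f ≫ sY = U.ι ≫ sX) (hfd : DenseRange f.base) :
    ∃ (T : Scheme.{u}) (sT : T ⟶ Spec (CommRingCat.of k)) (_ : IsIntegral T)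
      (_ : RelProj.IsHProjective sT) (_ : Pi1.IsNormalScheme T)
      (V : Y.Opens) (_ : (V : Set Y).Nonempty) (g : (V : Scheme.{u}) ⟶ T) (_ : IsOpenImmersion g)
      (_ : g ≫ sT = V.ι ≫ sY),
      (∃ e : ℕ, ∀ t : T, topologicalKrullDim
          ↥(closure {z : ↥(pullback sX sT) | ∃ u : ↥(f ⁻¹ᵁ V), IsClosed ({U.ι.base u.1} : Set X) ∧
              (pullback.fst sX sT).base z = U.ι.base u.1 ∧ (pullback.snd sX sT).base z = g.base ⟨f.base u.1, u.2⟩} ∩
            (pullback.snd sX sT).base ⁻¹' {t}) = e) ∧
      ∀ (T' : Scheme.{u}) (sT' : T' ⟶ Spec (CommRingCat.of k)) [IsIntegral T'],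
        RelProj.IsHProjective sT' → Pi1.IsNormalScheme T' →
        ∀ (V' : Y.Opens), (V' : Set Y).Nonempty → ∀ (g' : (V' : Scheme.{u}) ⟶ T') [IsOpenImmersion g'],
          g' ≫ sT' = V'.ι ≫ sY →
          (∃ e' : ℕ, ∀ t' : T', topologicalKrullDim
              ↥(closure {z : ↥(pullback sX sT') | ∃ u : ↥(f ⁻¹ᵁ V'), IsClosed ({U.ι.base u.1} : Set X) ∧
              (pullback.fst sX sT').base z = U.ι.base u.1 ∧ (pullback.snd sX sT').base z = g'.base ⟨f.base u.1, u.2⟩} ∩
                (pullback.snd sX sT').base ⁻¹' {t'}) = e') →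
          ∃ ν : T' ⟶ T, ν ≫ sT = sT' ∧
            ∃ (W : Y.Opens) (hW : W ≤ V ⊓ V'), (W : Set Y).Nonempty ∧
              Y.homOfLE (le_trans hW inf_le_right) ≫ g' ≫ ν = Y.homOfLE (le_trans hW inf_le_left) ≫ g := by
  exact Groth.Agent.IntSh.K877.ChowMain.main sX sY hX hY hYn U hU f hf hfd

end Groth.Agent.S15982
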