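import Groth.Statements.S15987
-- import your own Groth.Agent.* helpers here

set_option autoImplicit false
universe u v
open Deform

namespace Groth.Agent.S15987

open TrivSqZeroExt in
/-- Let k be a field, A a commutative k-algebra and q_i : A → k (i ∈ ι) k-algebra maps (marked k-points
of Spec A). The k-algebra automorphisms φ of the ring of dual numbers A[ε] that fix ε (so are
k[ε]-linear), are the identity modulo ε, and satisfy q_i((φ x)_ε) = q_i(x_ε) for all i and x
(compatibility with the trivial lifts A[ε] → k[ε] of the marked points) are in bijection with the
k-derivations D : A → A such that q_i ∘ D = 0 for every i, the bijection sending φ to a ↦ (φ(a))_ε.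
(The source identifies the right-hand side with the global vector fields vanishing at the marked
points; the condition the computation yields is q_i ∘ D = 0, which is the same for Spec A smooth
over k but is weaker in general, e.g. for A = k[x]/(x^2) with 2 invertible in k.) -/
theorem result
    (k : Type u) [Field k] (A : Type u) [CommRing A] [Algebra k A] {ι : Type v} (q : ι → (A →ₐ[k] k)) :
    ∃ e : {φ : DualNumber A ≃ₐ[k] DualNumber A //
            φ DualNumber.eps = DualNumber.eps ∧ (∀ x, (φ x).fst = x.fst) ∧
              ∀ i x, q i (φ x).snd = q i x.snd} ≃
          {D : Derivation k A A // ∀ i a, q i (D a) = 0},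
      ∀ φ (a : A), (e φ).1 a = (φ.1 (inl a : DualNumber A)).snd := by
  have hinr : ∀ (φ : DualNumber A ≃ₐ[k] DualNumber A), φ DualNumber.eps = DualNumber.eps →
      (∀ x, (φ x).fst = x.fst) → ∀ b : A, φ (inr b : DualNumber A) = inr b := by
    intro φ h1 h2 b
    have : (inr b : DualNumber A) = inl b * DualNumber.eps := by
      ext <;> simp
    rw [this, map_mul, h1]
    ext
    · simp
    · simp [h2]
  refine ⟨{ toFun := fun φ => ⟨
              { toFun := fun a => (φ.1 (inl a : DualNumber A)).snd
                map_add' := ?_
                map_smul' := ?_
                map_one_eq_zero' := ?_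
                leibniz' := ?_ }, ?_⟩
            invFun := fun D => ⟨
              { toFun := fun x => (inl x.fst + inr (x.snd + D.1 x.fst) : DualNumber A)
                invFun := fun x => (inl x.fst + inr (x.snd - D.1 x.fst) : DualNumber A)
                left_inv := ?_
                right_inv := ?_
                map_mul' := ?_
                map_add' := ?_
                commutes' := ?_ }, ?_, ?_, ?_⟩
            left_inv := ?_
            right_inv := ?_ }, fun φ a => rfl⟩
  · intro a b
    simp
  · intro r a
    have : (inl (r • a) : DualNumber A) = r • (inl a : DualNumber A) := by simp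
    simp only [this, map_smul]
    simp
  · have : (inl (1 : A) : DualNumber A) = 1 := rfl
    change (φ.1 (inl (1 : A) : DualNumber A)).snd = 0
    rw [this, map_one]
    rfl
  · intro a b
    change (φ.1 (inl (a * b) : DualNumber A)).snd = a • (φ.1 (inl b : DualNumber A)).snd + b • (φ.1 (inl a : DualNumber A)).snd
    have : (inl (a * b) : DualNumber A) = inl a * inl b := by simp
    rw [this, map_mul, snd_mul, φ.2.2.1, φ.2.2.1]
    simp [mul_comm]
  · intro i a
    change q i (φ.1 (inl a : DualNumber A)).snd = 0
    rw [φ.2.2.2]
    simp
  · intro x
    ext <;> simp
  · intro x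
    ext <;> simp
  · intro x y
    ext
    · simp
    · simp
      ring
  · intro x y
    ext
    · simp
    · simp
      ring
  · intro r
    ext
    · simp [TrivSqZeroExt.algebraMap_eq_inl']
    · simp [TrivSqZeroExt.algebraMap_eq_inl']
  · ext <;> simp
  · intro x
    simp
  · intro i x
    simp [D.2]
  · intro φ
    apply Subtype.ext
    apply AlgEquiv.ext
    intro x
    have hx : φ.1 x = φ.1 (inl x.fst) + φ.1 (inr x.snd) := by
      rw [← map_add, inl_fst_add_inr_snd_eq]
    rw [hx, hinr φ.1 φ.2.1 φ.2.2.1]
    ext
    · simp [φ.2.2.1]
    · simp [add_comm]
  · intro D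
    apply Subtype.ext
    ext a
    simp

end Groth.Agent.S15987
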