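import Groth.Statements.S15988
import Mathlib.RingTheory.Smooth.Kaehler

set_option autoImplicit false
universe u v
open Deform

namespace Groth.Agent.S15988

theorem joint_surj {k : Type u} [Field k] {A : Type u} [CommRing A] [Algebra k A]
    {ι : Type v} [Finite ι] (q : ι → (A →ₐ[k] k)) (hq : Function.Injective q) (x : ι → k) :
    ∃ a : A, ∀ i, q i a = x i := by
  classical
  cases nonempty_fintype ι
  have h1 : ∀ i j : ι, i ≠ j → ∃ u : A, q i u = 1 ∧ q j u = 0 := by
    intro i j hij
    obtain ⟨a, ha⟩ : ∃ a, q i a ≠ q j a := by
      by_contra hcon
      push Not at hcon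
      exact hij (hq (AlgHom.ext hcon))
    refine ⟨(q i a - q j a)⁻¹ • (a - algebraMap k A (q j a)), ?_, ?_⟩
    · rw [map_smul, map_sub, AlgHom.commutes]
      simp only [smul_eq_mul]
      exact inv_mul_cancel₀ (sub_ne_zero.2 ha)
    · rw [map_smul, map_sub, AlgHom.commutes]
      simp
  choose! u hu using h1
  refine ⟨∑ i, x i • ∏ j ∈ Finset.univ.erase i, u i j, fun l => ?_⟩
  rw [map_sum, Finset.sum_eq_single l]
  · rw [map_smul, map_prod, Finset.prod_eq_one, smul_eq_mul, mul_one]
    intro j hj
    exact (hu l j (Finset.ne_of_mem_erase hj).symm).1
  · intro i _ hil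
    rw [map_smul, map_prod, Finset.prod_eq_zero (i := l), smul_zero]
    · exact Finset.mem_erase.2 ⟨hil.symm, Finset.mem_univ _⟩
    · exact (hu i l hil).2
  · intro h
    exact absurd (Finset.mem_univ _) h

/-- Derivations into the residue fields of finitely many distinct rational points lift. -/
theorem exists_derivation {k : Type u} [Field k] {A : Type u} [CommRing A] [Algebra k A]
    [Algebra.FormallySmooth k A]
    {ι : Type v} [Finite ι] (q : ι → (A →ₐ[k] k)) (hq : Function.Injective q)
    (d : ι → (A →ₗ[k] k)) (hd : ∀ i a b, d i (a * b) = q i a * d i b + q i b * d i a) :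
    ∃ D : Derivation k A A, ∀ i a, q i (D a) = d i a := by
  letI mod : Module A (ι → k) := Module.compHom (ι → k) (Pi.ringHom fun i => (q i : A →+* k))
  have hsm : ∀ (a : A) (f : ι → k) (i : ι), (a • f) i = q i a * f i := fun _ _ _ => rfl
  haveI : IsScalarTower k A (ι → k) := ⟨fun r a f => by
    ext i
    rw [hsm]
    simp only [map_smul, Pi.smul_apply, hsm, smul_eq_mul, mul_assoc]⟩
  let δ : Derivation k A (ι → k) := Derivation.mk' (LinearMap.pi d) (fun a b => by
    ext i
    simp only [LinearMap.pi_apply, Pi.add_apply, hsm, hd])
  let f : A →ₗ[A] (ι → k) := LinearMap.toSpanSingleton A (ι → k) (fun _ => 1)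
  have hf : Function.Surjective f := by
    intro x
    obtain ⟨a, ha⟩ := joint_surj q hq x
    refine ⟨a, ?_⟩
    ext i
    change (a • (fun _ => (1 : k))) i = x i
    rw [hsm, ha, mul_one]
  obtain ⟨h, hh⟩ := Module.projective_lifting_property f δ.liftKaehlerDifferential hf
  refine ⟨h.compDer (KaehlerDifferential.D k A), fun i a => ?_⟩
  have := congrFun (LinearMap.congr_fun hh (KaehlerDifferential.D k A a)) i
  rw [LinearMap.comp_apply, Derivation.liftKaehlerDifferential_comp_D] at this
  change (h (KaehlerDifferential.D k A a) • (fun _ => (1 : k))) i = d i a at this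
  rw [hsm, mul_one] at this
  exact this

open TrivSqZeroExt in
/-- Let k be a field, A a smooth commutative k-algebra, q_i : A → k (i ∈ ι, ι finite) pairwise distinct
k-algebra maps, and q'_i : A[ε] → k[ε] k-algebra maps with q'_i(ε) = ε which reduce to q_i modulo ε
(marked points of a first-order deformation with underlying trivial deformation). Then some
k-algebra automorphism φ of A[ε] with φ(ε) = ε and φ = id modulo ε carries every q'_i to the trivial
lift of q_i: q'_i(φ x) = (q_i(x_0), q_i(x_ε)) for all i and x. Together with the triviality of
first-order deformations of a smooth affine scheme this gives the source's statement that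
first-order deformations of a smooth affine scheme with marked points are trivial. (The published
statement does not say that the finitely many marked points are distinct; for two coincident points
with different lifts no such automorphism exists, so the points are taken pairwise distinct here,
and the source's non-singular is read as smooth over k.) -/
theorem result
    (k : Type u) [Field k] (A : Type u) [CommRing A] [Algebra k A] [Algebra.Smooth k A]
    {ι : Type v} [Finite ι] (q : ι → (A →ₐ[k] k)) (hq : Function.Injective q)
    (q' : ι → (DualNumber A →ₐ[k] DualNumber k))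
    (hε : ∀ i, q' i DualNumber.eps = DualNumber.eps) (hq' : ∀ i x, (q' i x).fst = q i x.fst) :
    ∃ φ : DualNumber A ≃ₐ[k] DualNumber A,
      φ DualNumber.eps = DualNumber.eps ∧ (∀ x, (φ x).fst = x.fst) ∧
        ∀ i x, (q' i (φ x)).fst = q i x.fst ∧ (q' i (φ x)).snd = q i x.snd := by
  let d : ι → (A →ₗ[k] k) := fun i =>
    { toFun := fun a => - (q' i (inl a : DualNumber A)).snd
      map_add' := fun a b => by
        simp only [inl_add, map_add, snd_add, neg_add]
      map_smul' := fun r a => by
        simp only [inl_smul, map_smul, snd_smul, smul_neg, RingHom.id_apply] }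
  have hd : ∀ i a b, d i (a * b) = q i a * d i b + q i b * d i a := by
    intro i a b
    change - (q' i (inl (a * b) : DualNumber A)).snd = q i a * (- (q' i (inl b : DualNumber A)).snd) +
      q i b * (- (q' i (inl a : DualNumber A)).snd)
    rw [inl_mul, map_mul, snd_mul, hq', hq']
    simp
    ring
  obtain ⟨D, hD⟩ := exists_derivation q hq d hd
  refine ⟨{ toFun := fun x => (inl x.fst + inr (x.snd + D x.fst) : DualNumber A)
            invFun := fun x => (inl x.fst + inr (x.snd - D x.fst) : DualNumber A)
            left_inv := ?_
            right_inv := ?_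
            map_mul' := ?_
            map_add' := ?_
            commutes' := ?_ }, ?_, ?_, ?_⟩
  · intro x
    ext <;> simp
  · intro x
    ext <;> simp
  · intro x y
    ext
    · simp
    · simp
      ring
  · intro x y
    ext
    · simp
    · simp
      ring
  · intro r
    ext
    · simp [TrivSqZeroExt.algebraMap_eq_inl']
    · simp [TrivSqZeroExt.algebraMap_eq_inl']
  · ext <;> simp
  · intro x
    simp
  · intro i x
    have hinr : ∀ b : A, q' i (inr b : DualNumber A) = inr (q i b) := by
      intro b
      have : (inr b : DualNumber A) = inl b * DualNumber.eps := by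
        ext <;> simp
      rw [this, map_mul, hε]
      ext
      · simp
      · simp [hq']
    refine ⟨by simp [hq'], ?_⟩
    have h1 : (q' i (inl x.fst : DualNumber A)).snd = - q i (D x.fst) := by
      rw [hD]
      exact (neg_neg _).symm
    change (q' i (inl x.fst + inr (x.snd + D x.fst) : DualNumber A)).snd = _
    rw [map_add, hinr, snd_add, h1]
    simp

end Groth.Agent.S15988
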