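import Groth.Statements.S15991
import Groth.Agent.Deform.K682.DualRing
import Groth.Agent.Deform.K682.DualAff
import Groth.Agent.S0440

set_option autoImplicit false
universe u v
open Deform

namespace Groth.Agent.S15991

open AlgebraicGeometry CategoryTheory in
theorem surjective_specMap_fst (k : Type u) [Field k] :
    Surjective (Spec.map (CommRingCat.ofHom (TrivSqZeroExt.fstHom k k k).toRingHom)) := by
  refine ⟨fun x => ?_⟩
  refine ⟨(⊥ : PrimeSpectrum k), ?_⟩
  apply PrimeSpectrum.ext
  change Ideal.comap _ ⊥ = x.asIdeal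
  have heps : (DualNumber.eps : DualNumber k) ∈ x.asIdeal := by
    have : (DualNumber.eps : DualNumber k) * DualNumber.eps ∈ x.asIdeal := by
      rw [DualNumber.eps_mul_eps]; exact x.asIdeal.zero_mem
    rcases x.2.mem_or_mem this with h | h <;> exact h
  have hle : Ideal.comap (TrivSqZeroExt.fstHom k k k).toRingHom ⊥ ≤ x.asIdeal := by
    intro z hz
    have hz' : z.fst = 0 := hz
    have : z = algebraMap k _ z.snd * DualNumber.eps := by
      ext <;> simp [hz', TrivSqZeroExt.algebraMap_eq_inl]
    rw [this]
    exact x.asIdeal.mul_mem_left _ heps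
  have hmax : (Ideal.comap (TrivSqZeroExt.fstHom k k k).toRingHom ⊥).IsMaximal := by
    have : (RingHom.ker (TrivSqZeroExt.fstHom k k k).toRingHom).IsMaximal :=
      RingHom.ker_isMaximal_of_surjective _ (fun c => ⟨TrivSqZeroExt.inl c, rfl⟩)
    exact this
  exact hmax.eq_of_le x.2.ne_top hle

open AlgebraicGeometry CategoryTheory in
/-- Let k be a field and X an affine scheme smooth over k, with finitely many pairwise distinct
k-rational points p_j (j ∈ ι). Let X' → Spec k[ε] be flat, i : X → X' a morphism making X the fibre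
over the closed point Spec k → Spec k[ε] (cartesian square), and p'_j : Spec k[ε] → X' sections
restricting to the p_j. Then there is an isomorphism φ : X' ≅ X ×_{Spec k} Spec k[ε] over Spec k[ε]
such that i followed by φ is the inclusion of X at the closed point (its first component is the
identity of X) and each p'_j followed by φ is the constant section through p_j: every first-order
deformation of a smooth affine scheme with marked points is trivial. (The source says non-singular;
smooth over k is assumed here, and the marked points are taken pairwise distinct and finite in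
number.) -/
theorem result
    (k : Type u) [Field k] (X : Scheme.{u}) (hX : X ⟶ Spec (CommRingCat.of k)) [IsAffine X] [Smooth hX]
    {ι : Type v} [Finite ι] (p : ι → (Spec (CommRingCat.of k) ⟶ X)) (hp : ∀ j, p j ≫ hX = 𝟙 _)
    (hinj : Function.Injective p)
    (X' : Scheme.{u}) (g : X' ⟶ Spec (CommRingCat.of (DualNumber k))) [Flat g] (i : X ⟶ X')
    (hsq : IsPullback i hX g
      (Spec.map (CommRingCat.ofHom (TrivSqZeroExt.fstHom k k k).toRingHom)))
    (p' : ι → (Spec (CommRingCat.of (DualNumber k)) ⟶ X')) (hp' : ∀ j, p' j ≫ g = 𝟙 _)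
    (hpp' : ∀ j, p j ≫ i = Spec.map (CommRingCat.ofHom (TrivSqZeroExt.fstHom k k k).toRingHom) ≫ p' j) :
    ∃ φ : X' ≅ Limits.pullback hX (Spec.map (CommRingCat.ofHom (algebraMap k (DualNumber k)))),
      φ.hom ≫ Limits.pullback.snd hX (Spec.map (CommRingCat.ofHom (algebraMap k (DualNumber k)))) = g ∧
        i ≫ φ.hom ≫ Limits.pullback.fst hX (Spec.map (CommRingCat.ofHom (algebraMap k (DualNumber k)))) = 𝟙 X ∧
          ∀ j, p' j ≫ φ.hom ≫
              Limits.pullback.fst hX (Spec.map (CommRingCat.ofHom (algebraMap k (DualNumber k)))) =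
            Spec.map (CommRingCat.ofHom (algebraMap k (DualNumber k))) ≫ p j := by
  have hsurjS := surjective_specMap_fst k
  have hclS : IsClosedImmersion (Spec.map (CommRingCat.ofHom (TrivSqZeroExt.fstHom k k k).toRingHom)) :=
    IsClosedImmersion.spec_of_surjective _ (fun c => ⟨TrivSqZeroExt.inl c, rfl⟩)
  have hcl : IsClosedImmersion i := MorphismProperty.of_isPullback hsq.flip hclS
  have hsurj : Surjective i := MorphismProperty.of_isPullback hsq.flip hsurjS
  have haff : IsAffine X' := Groth.Agent.S0440.result i hsurj.1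
  have hπ : Function.Surjective i.appTop := (IsClosedImmersion.isAffine_surjective_of_isAffine i).2
  have po := isPushout_appTop_of_isPullback hsq
  let fk : CommRingCat.of k ⟶ Γ(X, ⊤) := (Scheme.ΓSpecIso (CommRingCat.of k)).inv ≫ hX.appTop
  let inr : CommRingCat.of (DualNumber k) ⟶ Γ(X', ⊤) :=
    (Scheme.ΓSpecIso (CommRingCat.of (DualNumber k))).inv ≫ g.appTop
  have po2 : IsPushout inr (CommRingCat.ofHom (TrivSqZeroExt.fstHom k k k).toRingHom) i.appTop fk := by
    refine IsPushout.of_iso po (Scheme.ΓSpecIso (CommRingCat.of (DualNumber k))) (Iso.refl _)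
      (Scheme.ΓSpecIso (CommRingCat.of k)) (Iso.refl _) ?_ ?_ ?_ ?_
    · simp [inr]
    · exact (Scheme.ΓSpecIso_naturality _)
    · simp
    · simp [fk]
  let algB : Algebra k Γ(X, ⊤) := fk.hom.toAlgebra
  let algC : Algebra (DualNumber k) Γ(X', ⊤) := inr.hom.toAlgebra
  have hsm : Algebra.Smooth k Γ(X, ⊤) := by
    have h1 : hX.appTop.hom.Smooth := HasRingHomProperty.appTop @Smooth hX inferInstance
    have h2 : fk.hom.Smooth := by
      have h3 : ((Scheme.ΓSpecIso (CommRingCat.of k)).inv.hom).Smooth :=
        RingHom.Smooth.of_bijective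
          (ConcreteCategory.bijective_of_isIso (Scheme.ΓSpecIso (CommRingCat.of k)).inv)
      exact RingHom.Smooth.comp h3 h1
    exact h2
  have hfl : Module.Flat (DualNumber k) Γ(X', ⊤) := by
    have h1 : g.appTop.hom.Flat := HasRingHomProperty.appTop @Flat g inferInstance
    have h3 : ((Scheme.ΓSpecIso (CommRingCat.of (DualNumber k))).inv.hom).Flat :=
      RingHom.Flat.of_bijective
        (ConcreteCategory.bijective_of_isIso (Scheme.ΓSpecIso (CommRingCat.of (DualNumber k))).inv)
    exact RingHom.Flat.comp h3 h1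
  have hpk : ∀ j, fk ≫ (p j).appTop ≫ (Scheme.ΓSpecIso (CommRingCat.of k)).hom = 𝟙 _ := by
    intro j
    have := congrArg Scheme.Hom.appTop (hp j)
    rw [Scheme.Hom.comp_appTop, Scheme.Hom.id_appTop] at this
    simp only [fk, Category.assoc]
    rw [reassoc_of% this]
    simp
  have hpk' : ∀ j, inr ≫ (p' j).appTop ≫ (Scheme.ΓSpecIso (CommRingCat.of (DualNumber k))).hom = 𝟙 _ := by
    intro j
    have := congrArg Scheme.Hom.appTop (hp' j)
    rw [Scheme.Hom.comp_appTop, Scheme.Hom.id_appTop] at this
    simp only [inr, Category.assoc]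
    rw [reassoc_of% this]
    simp
  let q : ι → (Γ(X, ⊤) →ₐ[k] k) := fun j =>
    { ((p j).appTop ≫ (Scheme.ΓSpecIso (CommRingCat.of k)).hom).hom with
      commutes' := fun a => congr(($(hpk j)).hom a) }
  let q' : ι → (Γ(X', ⊤) →ₐ[DualNumber k] DualNumber k) := fun j =>
    { ((p' j).appTop ≫ (Scheme.ΓSpecIso (CommRingCat.of (DualNumber k))).hom).hom with
      commutes' := fun a => congr(($(hpk' j)).hom a) }
  have hq : Function.Injective q := by
    intro j l hjl
    apply hinj
    apply ext_of_isAffine
    rw [← cancel_mono (Scheme.ΓSpecIso (CommRingCat.of k)).hom]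
    apply CommRingCat.hom_ext
    apply RingHom.ext
    intro b
    exact DFunLike.congr_fun hjl b
  have hqq : ∀ j c, (q' j c).fst = q j (i.appTop.hom c) := by
    intro j c
    have h1 := congrArg Scheme.Hom.appTop (hpp' j)
    rw [Scheme.Hom.comp_appTop, Scheme.Hom.comp_appTop] at h1
    have h2 : i.appTop ≫ (p j).appTop ≫ (Scheme.ΓSpecIso (CommRingCat.of k)).hom =
        ((p' j).appTop ≫ (Scheme.ΓSpecIso (CommRingCat.of (DualNumber k))).hom) ≫
          CommRingCat.ofHom (TrivSqZeroExt.fstHom k k k).toRingHom := by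
      rw [reassoc_of% h1, Category.assoc, ← Scheme.ΓSpecIso_naturality]
    exact (congr(($h2).hom c)).symm
  have hcomm : ∀ z : DualNumber k, i.appTop.hom (algebraMap (DualNumber k) Γ(X', ⊤) z) =
      algebraMap k Γ(X, ⊤) z.fst := fun z => congr(($(po2.w)).hom z)
  obtain ⟨r, hr1, hr2, hr3, hr4⟩ := K682.DualRing.exists_ringHom i.appTop.hom hπ
    (K682.DualAff.ker_of_isPushout k fk i.appTop inr po2) hcomm q hq q' hqq
  obtain ⟨ρ, hρ⟩ := Groth.Agent.Sga3C.Affinization.exists_appTop_eq (X := X') (Z := X)
    (CommRingCat.ofHom r)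
  have po3 : IsPushout fk (CommRingCat.ofHom (algebraMap k (DualNumber k))) ρ.appTop inr := by
    rw [hρ]
    refine K682.DualAff.isPushout_of_bijective k fk (CommRingCat.ofHom r) inr ?_ hr4
    apply CommRingCat.hom_ext
    apply RingHom.ext
    intro a
    exact hr1 a
  have po4 : IsPushout hX.appTop (Spec.map (CommRingCat.ofHom (algebraMap k (DualNumber k)))).appTop
      ρ.appTop g.appTop := by
    refine IsPushout.of_iso po3 (Scheme.ΓSpecIso (CommRingCat.of k)).symm (Iso.refl _)
      (Scheme.ΓSpecIso (CommRingCat.of (DualNumber k))).symm (Iso.refl _) ?_ ?_ ?_ ?_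
    · simp [fk]
    · exact (Scheme.ΓSpecIso_inv_naturality _)
    · simp
    · simp [inr]
  have hpb := K682.DualAff.isPullback_of_isPushout_appTop ρ g hX _ po4
  refine ⟨hpb.isoPullback, hpb.isoPullback_hom_snd, ?_, fun j => ?_⟩
  · rw [hpb.isoPullback_hom_fst]
    apply ext_of_isAffine
    rw [Scheme.Hom.comp_appTop, Scheme.Hom.id_appTop, hρ]
    apply CommRingCat.hom_ext
    apply RingHom.ext
    intro b
    exact hr2 b
  · rw [hpb.isoPullback_hom_fst]
    apply ext_of_isAffine
    rw [Scheme.Hom.comp_appTop, Scheme.Hom.comp_appTop, hρ,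
      ← cancel_mono (Scheme.ΓSpecIso (CommRingCat.of (DualNumber k))).hom, Category.assoc,
      Category.assoc, Scheme.ΓSpecIso_naturality]
    apply CommRingCat.hom_ext
    apply RingHom.ext
    intro b
    exact hr3 j b

end Groth.Agent.S15991
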