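import Groth.Statements.S15992
import Groth.Agent.Curves.K709.StratFam
import Groth.Agent.CurvesB.OmegaInv

set_option autoImplicit false
universe u
open Curves

namespace Groth.Agent.S15992

open AlgebraicGeometry CategoryTheory Opposite in
/-- Let X be a smooth proper integral curve of genus g ≥ 2 over an algebraically closed field k, Ω =
Ω_{X/k}, V = Γ(X, Ω) (a vector space of dimension g over Γ(X, O_X) = k), and μ_1, …, μ_n positive
integers with Σ μ_i = 2g - 2. Write ord_x(ω) for the order of vanishing of a global differential ω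
at a point x (the length of O_{X,x}/(f) where ω_x = f · t for a generator t of Ω_x). Then the
stratum of nonzero ω ∈ V having exactly n zeros, with orders μ_1, …, μ_n up to reordering, is
locally closed in V for the Zariski topology: there are two families F, G of polynomial functions on
V (elements of the subring of all functions V → Γ(X, O_X) generated by the linear forms and the
constants) such that the stratum is the set where all members of F vanish and some member of G does
not. -/
theorem result
    (k : Type u) [Field k] [IsAlgClosed k] (X : Scheme.{u}) [X.Over (Spec (CommRingCat.of k))]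
    (hX : Curve.IsSmoothProperCurve k X (X ↘ (Spec (CommRingCat.of k)))) (hg : 2 ≤ Curv2.genus k X)
    {n : ℕ} (μ : Fin n → ℕ) (hμ : ∀ i, 0 < μ i)
    (hsum : (∑ i, (μ i : ℤ)) = 2 * (Curv2.genus k X : ℤ) - 2) :
    ∃ F G : Set (↑((Omega.sheaf (X ↘ (Spec (CommRingCat.of k)))).val.obj (op ⊤)) → Coh.Γtop X),
      F ∪ G ⊆ ↑(Subring.closure
        (Set.range (fun φ : ↑((Omega.sheaf (X ↘ (Spec (CommRingCat.of k)))).val.obj (op ⊤)) →ₗ[Coh.Γtop X]
            Coh.Γtop X => (φ : _ → Coh.Γtop X)) ∪
          Set.range (fun c : Coh.Γtop X =>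
            Function.const (↑((Omega.sheaf (X ↘ (Spec (CommRingCat.of k)))).val.obj (op ⊤))) c))) ∧
      {ω : ↑((Omega.sheaf (X ↘ (Spec (CommRingCat.of k)))).val.obj (op ⊤)) |
          ω ≠ 0 ∧ ∃ e : Fin n → X, Function.Injective e ∧
            (∀ i, Cyc.zeroSectionFun (fun _ => (0 : ℤ)) 0 (Omega.sheaf (X ↘ (Spec (CommRingCat.of k)))) ω (e i)
                = (μ i : ℤ)) ∧
            ∀ x : X, x ∉ Set.range e →
              Cyc.zeroSectionFun (fun _ => (0 : ℤ)) 0 (Omega.sheaf (X ↘ (Spec (CommRingCat.of k)))) ω x = 0} =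
        {ω | (∀ f ∈ F, f ω = 0) ∧ ∃ g ∈ G, g ω ≠ 0} := by
  obtain ⟨hp, hs, hint, hdim⟩ := hX
  have hL : PicF.IsInvertible (Omega.sheaf (X ↘ (Spec (CommRingCat.of k)))) :=
    Groth.Agent.CurvesB.OmegaInv.isInvertible_omega _ hdim
  exact K709.StratFam.exists_family hdim (X ↘ (Spec (CommRingCat.of k))) hL μ hμ

end Groth.Agent.S15992
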