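import Groth.Statements.S15993
import Groth.Agent.Ega4dB.SchDense
import Mathlib.AlgebraicGeometry.Morphisms.FlatMono

set_option autoImplicit false
open CategoryTheory AlgebraicGeometry
universe u
open EtHull

namespace Groth.Agent.S15993

/-- Let f : X → S be a morphism of schemes which is faithfully flat (flat and surjective), quasi-compact
and separated, and schematically birational in the following sense: there are schematically dense
opens U of S and V of X, with the inclusion V → X quasi-compact, such that f maps V into U and the
induced morphism V → U is an isomorphism. Then f is an isomorphism. (The source states this for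
algebraic spaces and puts no quasi-compactness condition on the dense opens. Its proof base-changes
along f and uses that the inverse image of V in X ×_S X is again schematically dense, which holds
when V → X is quasi-compact, for instance when X is locally Noetherian, and fails in general: over
the Boolean ring of eventually constant sequences of elements of the field with two elements, the
spectrum of the ring of eventually two-periodic sequences is faithfully flat and affine, and it is
an isomorphism above the open set of principal points, which is schematically dense on both sides,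
yet it is not an isomorphism, the point at infinity being doubled. So V is taken retrocompact in X
here, and X, S are schemes.) -/
theorem result {X S : Scheme.{u}} (f : X ⟶ S)
    [Flat f] [Surjective f] [QuasiCompact f] [IsSeparated f]
    (U : S.Opens) (V : X.Opens) [QuasiCompact V.ι]
    (hU : CInt.IsSchematicallyDense U) (hV : CInt.IsSchematicallyDense V)
    (hle : V ≤ f ⁻¹ᵁ U) (hiso : IsIso (f.resLE U V hle)) : IsIso f := by
  have hVd := Groth.Agent.Ega4dB.SchDense.isSchemeTheoreticallyDominant_ι V hV
  -- the inverse image of `U` is `V`
  have h1 : f ⁻¹ᵁ U ≤ V := by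
    have hcomp : X.homOfLE hle ≫ (f ∣_ U) = f.resLE U V hle := by
      rw [← cancel_mono U.ι]
      simp
    have : IsClosedImmersion (X.homOfLE hle ≫ (f ∣_ U)) := by
      rw [hcomp]; infer_instance
    have hcl : IsClosedImmersion (X.homOfLE hle) :=
      IsClosedImmersion.of_comp (X.homOfLE hle) (f ∣_ U)
    intro x hx
    by_contra hxV
    have hop : IsOpen ((f ⁻¹ᵁ U).ι '' (Set.range (X.homOfLE hle))ᶜ) :=
      (f ⁻¹ᵁ U).ι.isOpenEmbedding.isOpenMap _
        (X.homOfLE hle).isClosedEmbedding.isClosed_range.isOpen_compl
    have hne : ((f ⁻¹ᵁ U).ι '' (Set.range (X.homOfLE hle))ᶜ).Nonempty := by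
      refine ⟨x, ⟨x, hx⟩, ?_, rfl⟩
      rintro ⟨y, hy⟩
      apply hxV
      have h2 := congrArg (f ⁻¹ᵁ U).ι hy
      rw [← Scheme.Hom.comp_apply, Scheme.homOfLE_ι] at h2
      have h3 : V.ι y = x := h2
      rw [← h3]
      exact y.2
    obtain ⟨z, w, hw, hw'⟩ := V.ι.denseRange.exists_mem_open hop hne
    apply hw
    refine ⟨z, ?_⟩
    apply (f ⁻¹ᵁ U).ι.isOpenEmbedding.injective
    rw [hw', ← Scheme.Hom.comp_apply, Scheme.homOfLE_ι]
  -- the diagonal is an isomorphism over the dense open `V`
  have hmono : Mono f := by
    refine IsKernelPair.mono_of_eq_fst_snd (IsPullback.of_hasPullback f f) ?_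
    have hp := isPullback_morphismRestrict (Limits.pullback.fst f f) V
    have hW : IsSchemeTheoreticallyDominant ((Limits.pullback.fst f f) ⁻¹ᵁ V).ι :=
      IsSchemeTheoreticallyDominant.of_isPullback hp
    refine Groth.Agent.Ega4dB.SchDense.ext_of_isSchemeTheoreticallyDominant f
      Limits.pullback.condition ((Limits.pullback.fst f f) ⁻¹ᵁ V).ι ?_
    have hr : Set.range (((Limits.pullback.fst f f) ⁻¹ᵁ V).ι ≫ Limits.pullback.snd f f) ⊆
        Set.range V.ι := by
      rintro _ ⟨w, rfl⟩
      rw [Scheme.Opens.range_ι]
      apply h1
      change f ((((Limits.pullback.fst f f) ⁻¹ᵁ V).ι ≫ Limits.pullback.snd f f) w) ∈ U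
      rw [← Scheme.Hom.comp_apply, Category.assoc, ← Limits.pullback.condition,
        Scheme.Hom.comp_apply, Scheme.Hom.comp_apply]
      exact hle w.2
    have ha : (Limits.pullback.fst f f ∣_ V) ≫ V.ι =
      ((Limits.pullback.fst f f) ⁻¹ᵁ V).ι ≫ Limits.pullback.fst f f := morphismRestrict_ι _ _
    have hb : IsOpenImmersion.lift V.ι _ hr ≫ V.ι = _ := IsOpenImmersion.lift_fac V.ι _ hr
    rw [← ha, ← hb]
    congr 1
    have hm : Mono (V.ι ≫ f) := by
      have : V.ι ≫ f = f.resLE U V hle ≫ U.ι := by simp
      rw [this]
      infer_instance
    rw [← cancel_mono (V.ι ≫ f), ← Category.assoc, ← Category.assoc, ha, hb, Category.assoc,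
      Category.assoc, Limits.pullback.condition]
  exact Flat.isIso_of_surjective_of_mono f

end Groth.Agent.S15993
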