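import Groth.Statements.S15994
import Groth.Agent.EtHull.K991.MaxLemma

set_option autoImplicit false
open CategoryTheory AlgebraicGeometry
universe u
open EtHull

namespace Groth.Agent.S15994

/-- Let S be a Noetherian scheme all of whose local rings are geometrically unibranch and whose
structure sheaf has no embedded associated points, and let f : X → S be flat, surjective and of
finite presentation. Then there is a factorization X → E₀ → S of f with E₀ → S étale and affine and
X → E₀ schematically dominant (the étale affine hull of X over S), and it is initial among all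
factorizations of f through étale affine S-schemes: for every factorization X → E → S of f with E →
S étale and affine there is a unique morphism E₀ → E compatible with the maps from X and to S. In
particular it is the largest factorization with X → E schematically dominant. (The source allows X
to be an algebraic space; X is a scheme here.) -/
theorem result {X S : Scheme.{u}} [IsNoetherian S]
    (hS : ∀ s : S, CAlg2.IsGeomUnibranch (S.presheaf.stalk s))
    (hemb : AssSch.NoEmbedded (Coh.structureModule S))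
    (f : X ⟶ S) [Flat f] [Surjective f] [LocallyOfFinitePresentation f] [QuasiCompact f]
    [QuasiSeparated f] :
    ∃ (E₀ : Scheme.{u}) (g₀ : E₀ ⟶ S) (u₀ : X ⟶ E₀), Etale g₀ ∧ IsAffineHom g₀ ∧
      IsSchemeTheoreticallyDominant u₀ ∧ u₀ ≫ g₀ = f ∧
      ∀ (E : Scheme.{u}) (g : E ⟶ S) (u : X ⟶ E), Etale g → IsAffineHom g → u ≫ g = f →
        ∃! v : E₀ ⟶ E, u₀ ≫ v = u ∧ v ≫ g = g₀ := by

  have hbase : K991.Fact.Adm f S (𝟙 S) f :=
    ⟨inferInstance, inferInstance,
      K991.DomCrit.dominant_of_assPt_subset f (fun e _ => f.surjective e), by simp⟩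
  obtain ⟨F₀, -, hF₀⟩ := K991.MaxLemma.exists_max (f := f) Set.univ ⟨⟨S, 𝟙 S, f, hbase⟩, trivial⟩ (by
    rintro F - G -
    obtain ⟨E, g, u, v₁, v₂, ha, e₁, e₂, k₁, k₂, -⟩ := K991.Fact.exists_sup hS hemb f F.adm G.adm
    exact ⟨⟨E, g, u, ha⟩, trivial, ⟨v₁, e₁, k₁⟩, ⟨v₂, e₂, k₂⟩⟩)
  refine ⟨F₀.E, F₀.g, F₀.u, F₀.adm.etale, F₀.adm.affine, F₀.adm.dom, F₀.adm.w, ?_⟩
  intro E g u hg hga hug
  obtain ⟨E', j, u', -, -, -, huj, hadm⟩ := K991.Fact.exists_adm_closure hS hemb f g u hug
  obtain ⟨v, hv1, hv2⟩ := hF₀ ⟨E', j ≫ g, u', hadm⟩ trivial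
  refine ⟨v ≫ j, ⟨?_, ?_⟩, ?_⟩
  · rw [← Category.assoc, hv1, huj]
  · rw [Category.assoc, hv2]
  · rintro w ⟨hw1, hw2⟩
    have h1 := F₀.adm.dom
    refine Groth.Agent.Ega4dB.SchDense.ext_of_isSchemeTheoreticallyDominant g ?_ F₀.u ?_
    · rw [hw2, Category.assoc, hv2]
    · rw [hw1, ← Category.assoc, hv1, huj]

end Groth.Agent.S15994
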