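import Groth.Statements.S15995
import Groth.Agent.FrobSch.K865.RelFrob

set_option autoImplicit false
open CategoryTheory AlgebraicGeometry
universe u
open FrobSch

namespace Groth.Agent.S15995

/-- Coperfection commutes with base restriction. Let S and T be schemes of characteristic p and f : T →
S a relatively perfect morphism (its relative Frobenius T → T^(p/S) is an isomorphism). Let g : X →
T and let c : X → X' be a T-morphism to a relatively perfect T-scheme π : X' → T which is a
coperfection of X over T: for every relatively perfect T-scheme Y, every T-morphism X → Y factors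
uniquely through c. Then X' with structure map π ≫ f is relatively perfect over S and c is a
coperfection of X over S: every S-morphism from X to a relatively perfect S-scheme factors uniquely
through c. (The source works with algebraic spaces; schemes here.) -/
theorem result (p : ℕ) [Fact p.Prime] {X X' T S : Scheme.{u}}
    [FrobSch.IsCharP S p] [FrobSch.IsCharP T p] (f : T ⟶ S) (hf : IsIso (FrobSch.relFrob f p))
    (g : X ⟶ T) (π : X' ⟶ T) (hπ : IsIso (FrobSch.relFrob π p)) (c : X ⟶ X') (hc : c ≫ π = g)
    (huniv : ∀ (Y : Scheme.{u}) (q : Y ⟶ T), IsIso (FrobSch.relFrob q p) →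
      ∀ k : X ⟶ Y, k ≫ q = g → ∃! h : X' ⟶ Y, h ≫ q = π ∧ c ≫ h = k) :
    IsIso (FrobSch.relFrob (π ≫ f) p) ∧
      ∀ (Y : Scheme.{u}) (r : Y ⟶ S), IsIso (FrobSch.relFrob r p) →
        ∀ k : X ⟶ Y, k ≫ r = g ≫ f → ∃! h : X' ⟶ Y, h ≫ r = π ≫ f ∧ c ≫ h = k := by
  refine ⟨K865.RelFrob.isIso_relFrob_comp π f hπ hf, ?_⟩
  intro Y r hr k hk
  have hsq := IsPullback.of_hasPullback r f
  obtain ⟨h, ⟨h1, h2⟩, h3⟩ := huniv (Limits.pullback r f) (Limits.pullback.snd r f)
    (K865.RelFrob.isIso_relFrob_of_isPullback hsq hr) (Limits.pullback.lift k g hk)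
    (Limits.pullback.lift_snd _ _ _)
  refine ⟨h ≫ Limits.pullback.fst r f, ⟨?_, ?_⟩, ?_⟩
  · rw [Category.assoc, Limits.pullback.condition, reassoc_of% h1]
  · rw [reassoc_of% h2, Limits.pullback.lift_fst]
  · rintro h' ⟨h1', h2'⟩
    rw [← h3 (Limits.pullback.lift h' π h1') ⟨Limits.pullback.lift_snd _ _ _, ?_⟩,
      Limits.pullback.lift_fst]
    apply Limits.pullback.hom_ext
    · rw [Category.assoc, Limits.pullback.lift_fst, Limits.pullback.lift_fst, h2']
    · rw [Category.assoc, Limits.pullback.lift_snd, Limits.pullback.lift_snd, hc]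

end Groth.Agent.S15995
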