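import Groth.Statements.S15996
import Groth.Agent.EtHull.K991.RegHull
import Groth.Agent.S0065
import Mathlib.AlgebraicGeometry.ZariskisMainTheorem
import Mathlib.AlgebraicGeometry.QuasiAffine
import Mathlib.AlgebraicGeometry.Morphisms.QuasiFinite
import Mathlib.RingTheory.Unramified.LocalStructure

set_option autoImplicit false
open CategoryTheory AlgebraicGeometry
universe u
open EtHull

namespace Groth.Agent.S15996

theorem lqf {X Y : Scheme.{u}} (f : X ⟶ Y) [AlgebraicGeometry.Etale f] :
    LocallyQuasiFinite f where
  quasiFinite_appLE {U} hU {V} hV e := by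
    have h := HasRingHomProperty.appLE @AlgebraicGeometry.Etale f ‹_› ⟨U, hU⟩ ⟨V, hV⟩ e
    algebraize [(f.appLE U V e).hom]
    change Algebra.QuasiFinite Γ(Y, U) Γ(X, V)
    infer_instance

theorem aux {R : Type u} [CommRing R] [IsNoetherianRing R]
    (hreg : ∀ y : Spec (CommRingCat.of R),
      IsRegularLocalRing ((Spec (CommRingCat.of R)).presheaf.stalk y))
    {B : Type u} [CommRing B]
    {U : Scheme.{u}} {q : U ⟶ Spec (CommRingCat.of R)}
    (j : U ⟶ Spec (.of B)) (g : Spec (.of B) ⟶ Spec (.of R)) [IsOpenImmersion j] [Etale g]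
    (hq : j ≫ g = q) :
    Etale (Spec.map q.appTop ≫ (Spec (CommRingCat.of R)).isoSpec.inv) := by
  subst hq
  have hN : IsLocallyNoetherian (Spec (.of B)) := LocallyOfFiniteType.isLocallyNoetherian g
  have hB : IsNoetherianRing B := isLocallyNoetherian_Spec.mp hN
  have hregE : ∀ x : Spec (.of B), IsRegularLocalRing ((Spec (.of B)).presheaf.stalk x) :=
    fun x => (Groth.Agent.S0065.result g x).mpr (hreg _)
  have h1 := K991.RegHull.etale_SpecMap_appTop hregE j
  have h2 : Spec.map (j ≫ g).appTop ≫ (Spec (CommRingCat.of R)).isoSpec.inv =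
      Spec.map j.appTop ≫ (Spec (.of B)).isoSpec.inv ≫ g := by
    rw [Scheme.Hom.comp_appTop, Spec.map_comp, Category.assoc, Scheme.isoSpec_inv_naturality]
  rw [h2]
  infer_instance

/-- Let R be a Noetherian ring whose localizations at all prime ideals are regular local rings, S = Spec
R, and q : U → S an étale, separated and quasi-compact morphism of schemes. The following are
equivalent: (1) there is an open immersion of U into a scheme E which is étale and affine over S,
compatible with q; (2) the affine hull Spec Γ(U, O_U) → S of U over S is étale. (The source states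
this for a locally Noetherian algebraic space S all of whose étale atlases are locally ℚ-factorial;
this row is the case of an affine regular Noetherian base, a regular scheme being locally
ℚ-factorial.) -/
theorem result {R : Type u} [CommRing R]
    [IsNoetherianRing R] (hreg : ∀ (P : Ideal R) [P.IsPrime], IsRegularLocalRing (Localization.AtPrime P))
    {U : Scheme.{u}} (q : U ⟶ Spec (CommRingCat.of R)) [Etale q] [IsSeparated q] [QuasiCompact q] :
    (∃ (E : Scheme.{u}) (j : U ⟶ E) (g : E ⟶ Spec (CommRingCat.of R)),
        IsOpenImmersion j ∧ Etale g ∧ IsAffineHom g ∧ j ≫ g = q) ↔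
      Etale (Spec.map q.appTop ≫ (Spec (CommRingCat.of R)).isoSpec.inv) := by
  have hregS : ∀ y : Spec (CommRingCat.of R),
      IsRegularLocalRing ((Spec (CommRingCat.of R)).presheaf.stalk y) := by
    intro y
    let k : Algebra R ↑((Spec (.of R)).presheaf.stalk y) := StructureSheaf.stalkAlgebra R y
    have : IsLocalization.AtPrime (↑((Spec (.of R)).presheaf.stalk y)) (PrimeSpectrum.asIdeal y) :=
      StructureSheaf.IsLocalization.to_stalk R y
    have := hreg (PrimeSpectrum.asIdeal y)
    exact .of_ringEquiv (IsLocalization.algEquiv (PrimeSpectrum.asIdeal y).primeCompl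
      (Localization.AtPrime (PrimeSpectrum.asIdeal y)) ((Spec (.of R)).presheaf.stalk y)).toRingEquiv
  constructor
  · rintro ⟨E, j, g, hj, hg, hga, rfl⟩
    have hE : IsAffine E := isAffine_of_isAffineHom g
    exact aux hregS (j ≫ E.isoSpec.hom) (E.isoSpec.inv ≫ g) (by simp)
  · intro h
    have hn : IsAffine q.normalization := isAffine_of_isAffineHom q.fromNormalization
    have hc : CompactSpace U := (quasiCompact_iff_compactSpace (f := q)).mp inferInstance
    have hlqf : LocallyQuasiFinite q := lqf q
    have hqa : U.IsQuasiAffine := .of_isImmersion q.toNormalization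
    refine ⟨Spec Γ(U, ⊤), U.toSpecΓ, _, inferInstance, h, inferInstance, ?_⟩
    rw [← Category.assoc, ← Scheme.toSpecΓ_naturality, Category.assoc, ← Scheme.isoSpec_hom,
      Iso.hom_inv_id, Category.comp_id]

end Groth.Agent.S15996
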