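import Groth.Statements.S16001
import Groth.Agent.Sga5.RelFrobEtale

set_option autoImplicit false
universe u
open FrobAlg

namespace Groth.Agent.S16001

/-- Let A be a commutative ring of prime characteristic p and B a commutative A-algebra of
characteristic p such that the relative Frobenius B ⊗_{A,Frob} A → B, b ⊗ a ↦ b^p a, is bijective
(that is, Spec B → Spec A is relatively perfect; no finiteness condition is imposed). Then B is
formally étale over A. (The source proves that every perfect algebraic stack over an algebraic space
of characteristic p is formally étale over it; this is the case of an affine scheme over an affine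
base.) -/
theorem result (p : ℕ) [Fact p.Prime] (A : Type u) [CommRing A] [CharP A p]
    (B : Type u) [CommRing B] [Algebra A B] [CharP B p]
    (h : Function.Bijective (FrobAlg.relFrob p A B)) : Algebra.FormallyEtale A B := by
  haveI := Groth.Agent.Sga5.RelFrobEtale.formallySmooth_of_bijective p A B h
  haveI : Algebra.FormallyUnramified A B := by
    apply Groth.Agent.Sga5.RelFrob.formallyUnramified_of_relFrob p A B
    letI : Algebra (BaseChange p A B) B := (relFrob p A B).toAlgebra
    exact Algebra.FormallyUnramified.of_surjective (Algebra.ofId (BaseChange p A B) B) h.2
  exact Algebra.FormallyEtale.of_formallyUnramified_and_formallySmooth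

end Groth.Agent.S16001
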