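import Groth.Statements.S16002
import Groth.Agent.VBCurve.K707.Pair

set_option autoImplicit false
open CategoryTheory AlgebraicGeometry CategoryTheory.Limits
open VBCurve

namespace Groth.Agent.S16002

/-- Let X be a smooth proper integral curve over the complex numbers and (L_i)_{i ∈ ι} a family of
invertible O_X-modules. A tuple is a finite locally free O_X-module E of rank r ≥ 1 with maps φ_i :
E → E ⊗ L_i; a submodule j : G → E (a monomorphism) is invariant when for every i some χ : G → G ⊗
L_i followed by j ⊗ L_i equals j followed by φ_i; the tuple is semistable when deg G · r ≤ deg E · n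
for every invariant finite locally free submodule G of rank n ≥ 1, degrees being χ − rank · χ(O_X).
If (E, φ) and (F, ψ) are semistable tuples of ranks r ≥ 1 and s ≥ 1 over the same family (L_i) and f
: E → F is a nonzero module map with f followed by ψ_i equal to φ_i followed by f ⊗ L_i for every i,
then the slope of E is at most that of F: deg E · s ≤ deg F · r. (The published lemma has finitely
many pairwise commuting twisting maps and morphisms compatible up to one nonzero scalar; the
commutation is not used, the index set is arbitrary here, and the scalar case reduces to this one by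
rescaling the ψ_i.) -/
theorem result
    (X : Scheme.{0}) [X.Over (Spec (CommRingCat.of ℂ))] [IsIntegral X]
    [IsProper (X ↘ Spec (CommRingCat.of ℂ))] [Smooth (X ↘ Spec (CommRingCat.of ℂ))]
    (hdim : topologicalKrullDim X = 1)
    (ι : Type) (L : ι → X.Modules) (hL : ∀ i, PicF.IsInvertible (L i))
    (r s : ℕ) (hr : 0 < r) (hs : 0 < s)
    (E F : X.Modules) (hE : FlatMod.IsFinLocFreeOfRank r E) (hF : FlatMod.IsFinLocFreeOfRank s F)
    (φ : ∀ i, E ⟶ CohB1.tensorMod E (L i)) (ψ : ∀ i, F ⟶ CohB1.tensorMod F (L i))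
    (hEss : (∀ (G : X.Modules) (n : ℕ) (j : G ⟶ E), Mono j → 0 < n → FlatMod.IsFinLocFreeOfRank n G →
      (∀ i, ∃ χ : G ⟶ CohB1.tensorMod G (L i), χ ≫ (CohB1.sheafifyMod X).map (MonoidalCategoryStruct.whiskerRight (C := CohB1.PMod X) j.val (CohB1.toPMod (L i))) = j ≫ φ i) →
      Curv2.deg ℂ X G n * (r : ℤ) ≤ Curv2.deg ℂ X E r * (n : ℤ)))
    (hFss : (∀ (G : X.Modules) (n : ℕ) (j : G ⟶ F), Mono j → 0 < n → FlatMod.IsFinLocFreeOfRank n G →
      (∀ i, ∃ χ : G ⟶ CohB1.tensorMod G (L i), χ ≫ (CohB1.sheafifyMod X).map (MonoidalCategoryStruct.whiskerRight (C := CohB1.PMod X) j.val (CohB1.toPMod (L i))) = j ≫ ψ i) →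
      Curv2.deg ℂ X G n * (s : ℤ) ≤ Curv2.deg ℂ X F s * (n : ℤ)))
    (f : E ⟶ F) (hf : ∀ i, f ≫ ψ i = φ i ≫ (CohB1.sheafifyMod X).map (MonoidalCategoryStruct.whiskerRight (C := CohB1.PMod X) f.val (CohB1.toPMod (L i)))) (hne : f ≠ 0) :
    Curv2.deg ℂ X E r * (s : ℤ) ≤ Curv2.deg ℂ X F s * (r : ℤ) := by
  have C : K707.Base.Crv ℂ X := K707.Base.Crv.of_smooth hdim
  have hEv := K707.Base.isFinLocFree_of_rank hE
  have hFv := K707.Base.isFinLocFree_of_rank hF
  have eE := K707.Deg.dg_of_rank ℂ hE
  have eF := K707.Deg.dg_of_rank ℂ hF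
  have rE := K707.Base.rk_of_rank hE
  have rF := K707.Base.rk_of_rank hF
  have key := K707.Pair.slope_le C f hne hEv hFv ?_ ?_
  · rwa [eE, eF, rE, rF] at key
  · intro h0 hK
    have h1 := hEss (kernel f) _ (kernel.ι f) inferInstance h0 hK (fun i => by
      have := K707.TensL.preservesFiniteLimits (K707.TensL.vb_of_inv (hL i))
      exact K707.Inv.inv_kernel (K707.TensL.T (L i)) (φ i) (ψ i) f (hf i))
    rwa [← K707.Deg.dg_of_rank ℂ hK, ← eE, ← rE] at h1
  · intro I p i hp hi hpi h0 hI
    have h1 := hFss I _ i hi h0 hI (fun l => by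
      have := K707.TensL.preservesFiniteLimits (K707.TensL.vb_of_inv (hL l))
      exact K707.Inv.inv_image (K707.TensL.T (L l)) (φ l) (ψ l) f (hf l) p i hpi)
    rwa [← K707.Deg.dg_of_rank ℂ hI, ← eF, ← rF] at h1

end Groth.Agent.S16002
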