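import Groth.Statements.S16007
import Groth.Agent.VBCurve.K707.TensHN
import Groth.Agent.VBCurve.K706.TensSS
import Mathlib.Analysis.Complex.Polynomial.Basic

set_option autoImplicit false
open CategoryTheory AlgebraicGeometry CategoryTheory.Limits
open VBCurve

namespace Groth.Agent.S16007

/-- On a smooth proper integral curve X over the complex numbers, let M be a finite locally free
O_X-module of rank m ≥ 1 which is slope-semistable of degree 0, and let E be finite locally free of
rank r ≥ 1 with a map φ : E → E ⊗ M; a submodule j : G → E (a monomorphism) is φ-invariant when some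
χ : G → G ⊗ M followed by j ⊗ M equals j followed by φ. If deg G · r ≤ deg E · n for every
φ-invariant finite locally free submodule G of rank n ≥ 1 (degrees being χ − rank · χ(O_X)), then E
is slope-semistable as a module of rank r: deg G · r ≤ deg E · n for every finite locally free
submodule G of rank n ≥ 1, φ-invariant or not. (The published statement is for a smooth projective
variety of any dimension polarised by an ample class H, with slopes c₁ · H^(dim − 1) / rank; the row
states the case of a curve.) -/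
theorem result
    (X : Scheme.{0}) [X.Over (Spec (CommRingCat.of ℂ))] [IsIntegral X]
    [IsProper (X ↘ Spec (CommRingCat.of ℂ))] [Smooth (X ↘ Spec (CommRingCat.of ℂ))]
    (hdim : topologicalKrullDim X = 1)
    (M : X.Modules) (m : ℕ) (hm : 0 < m) (hM : FlatMod.IsFinLocFreeOfRank m M)
    (hMss : ModFun.IsSlopeSemistable ℂ X M m) (hM0 : Curv2.deg ℂ X M m = 0)
    (r : ℕ) (hr : 0 < r) (E : X.Modules) (hE : FlatMod.IsFinLocFreeOfRank r E)
    (φ : E ⟶ CohB1.tensorMod E M)
    (hss : (∀ (G : X.Modules) (n : ℕ) (j : G ⟶ E) (χ : G ⟶ CohB1.tensorMod G M), Mono j → 0 < n →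
      FlatMod.IsFinLocFreeOfRank n G →
      χ ≫ (CohB1.sheafifyMod X).map (MonoidalCategoryStruct.whiskerRight (C := CohB1.PMod X) j.val (CohB1.toPMod M)) = j ≫ φ →
      Curv2.deg ℂ X G n * (r : ℤ) ≤ Curv2.deg ℂ X E r * (n : ℤ))) :
    ∀ (G : X.Modules) (n : ℕ) (j : G ⟶ E), Mono j → 0 < n → FlatMod.IsFinLocFreeOfRank n G →
      Curv2.deg ℂ X G n * (r : ℤ) ≤ Curv2.deg ℂ X E r * (n : ℤ) := by
  have C : K707.Base.Crv ℂ X := K707.Base.Crv.of_smooth hdim
  have hEv := K707.Base.isFinLocFree_of_rank hE
  have hMv := K707.Base.isFinLocFree_of_rank hM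
  have eE := K707.Deg.dg_of_rank ℂ hE
  have rE := K707.Base.rk_of_rank hE
  have hMs : K707.Semi.SS ℂ M := (K707.Semi.ss_iff C hM).mpr hMss
  have hM0' : K707.Deg.dg ℂ M = 0 := by rw [K707.Deg.dg_of_rank ℂ hM, hM0]
  have hMpos : 0 < Groth.Agent.VarietyA.DegRank.rk M := by rwa [K707.Base.rk_of_rank hM]
  have key : K707.Semi.SS ℂ E := by
    refine K707.TensHN.ss_of_pair C
      (fun A B hA hB sA sB => K706.TensSS.ss_tensor hdim hA hB sA sB) hMv hMs hM0' hMpos hEv φ ?_
    rintro G j hj h0 hG ⟨χ, hχ⟩
    have h1 := hss G _ j χ hj h0 hG hχ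
    rwa [← K707.Deg.dg_of_rank ℂ hG, ← eE, ← rE] at h1
  intro G n j hj hn hG
  exact (K707.Semi.ss_iff C hE).mp key G n j hj hn hG

end Groth.Agent.S16007
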