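import Groth.Statements.S16008
import Mathlib.Analysis.Complex.Polynomial.Basic
import Groth.Agent.VBCurve.K707.PairInv
import Groth.Agent.VBCurve.K703.Duality

set_option autoImplicit false
open CategoryTheory AlgebraicGeometry CategoryTheory.Limits
open VBCurve

namespace Groth.Agent.S16008

/-- Let X be a smooth proper integral curve over the complex numbers, of genus g = dim H¹(O_X), E a
finite locally free O_X-module of rank r ≥ 1 and C an integer such that every finite locally free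
submodule G of E of rank n ≥ 1 satisfies deg G · r ≤ (deg E + r·C) · n, that is, μ(G) ≤ μ(E) + C
(degrees being χ − rank · χ(O_X)). Then H¹(X, E ⊗ N) vanishes for every invertible module N with deg
E + r · deg N > r(r − 1)·C + r(2g − 2), that is, whenever μ(E) + deg N > (r − 1)C + 2g − 2. (Only
the degree of the twisting line bundle enters, so any invertible N replaces the twist O_X(m). The
published argument, written for the twists E(m) by a degree-one polarisation, prints the threshold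
as m ≥ μ(E) + (r − 1)C + 2g − 1; for E = O(−1) on the projective line and m = −2 that threshold is
met while H¹(O(−3)) ≠ 0. The degree count in the argument gives the threshold −μ(E) + (r − 1)C + 2g
− 2 < m stated here.) -/
theorem result
    (X : Scheme.{0}) [X.Over (Spec (CommRingCat.of ℂ))] [IsIntegral X]
    [IsProper (X ↘ Spec (CommRingCat.of ℂ))] [Smooth (X ↘ Spec (CommRingCat.of ℂ))]
    (hdim : topologicalKrullDim X = 1)
    (r : ℕ) (hr : 0 < r) (E : X.Modules) (hE : FlatMod.IsFinLocFreeOfRank r E) (C : ℤ)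
    (hC : ∀ (G : X.Modules) (n : ℕ) (j : G ⟶ E), Mono j → 0 < n → FlatMod.IsFinLocFreeOfRank n G →
      Curv2.deg ℂ X G n * (r : ℤ) ≤ (Curv2.deg ℂ X E r + (r : ℤ) * C) * (n : ℤ))
    (N : X.Modules) (hN : PicF.IsInvertible N)
    (hbig : (r : ℤ) * ((r : ℤ) - 1) * C + (r : ℤ) * (2 * (Curv2.genus ℂ X : ℤ) - 2) <
      Curv2.deg ℂ X E r + (r : ℤ) * Curv2.deg ℂ X N 1) :
    Subsingleton (Coh.HH X (CohB1.tensorMod E N) 1) := by
  have C' : K707.Base.Crv ℂ X := K707.Base.Crv.of_smooth hdim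
  have hX := K707.Slope.isLocNoeth C'
  obtain ⟨D⟩ := K703.Duality.nonempty_dualizing ℂ X hdim
  have hEv := K707.Base.isFinLocFree_of_rank hE
  have eE := K707.Deg.dg_of_rank ℂ hE
  have rE := K707.Base.rk_of_rank hE
  have hN1 := K707.TensL.rank_one_iff.mpr hN
  have hw1 := K707.TensL.rank_one_iff.mpr D.inv
  have rw1 := K707.Base.rk_of_rank hw1
  have eN := K707.Deg.dg_of_rank ℂ hN1
  have ew := K707.Deg.dg_of_rank ℂ hw1
  have hwdeg := D.deg_w_of_isAlgClosed hdim
  have hwv := K707.TensL.vb_of_inv D.inv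
  have hMv : FlatMod.IsFinLocFree ((K707.TensL.T N).obj E) :=
    K707.TensL.vb_tensor hEv (K707.TensL.vb_of_inv hN)
  have hMc := K707.Slope.coh_of_vb hMv
  by_contra hne
  obtain ⟨f, hf⟩ := D.exists_ne_zero hMc.1 hne
  obtain ⟨I, p, i, hp, hi, hpi, hI, hpos, e1, e2, e3, e4⟩ :=
    K707.Semi.exists_factor_pos C' f hf hMc hwv
  have hIle : K707.Deg.dg ℂ I ≤ K707.Deg.dg ℂ D.w :=
    K707.Semi.dg_le_of_mono C' i (K707.Slope.coh_of_vb hI) (K707.Slope.coh_of_vb hwv) (by omega)
  have hKc : Coh.IsCoh (kernel f) := K707.Slope.coh_kernel C' f hMc (K707.Slope.coh_of_vb hwv)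
  obtain ⟨J, j, e, hj, hJ, -, hrk, hdg⟩ := K707.PairInv.exists_untwist C' hN hEv hKc (kernel.ι f)
  have rM : Groth.Agent.VarietyA.DegRank.rk ((K707.TensL.T N).obj E) = r := by
    have := K707.TensL.rk_tensor hN1 (K707.Slope.coh_of_vb hEv)
    rw [one_mul, rE] at this
    exact this
  have dM : K707.Deg.dg ℂ ((K707.TensL.T N).obj E) =
      K707.Deg.dg ℂ E + r * K707.Deg.dg ℂ N := by
    have := K707.TensL.dg_tensor ℂ hdim hN1 (K707.Slope.coh_of_vb hEv)
    rw [rE] at this
    push_cast at this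
    rw [one_mul] at this
    exact this
  have rJ : Groth.Agent.VarietyA.DegRank.rk J + 1 = r := by omega
  have hJ1 : K707.Deg.dg ℂ J * (r : ℤ) ≤ (K707.Deg.dg ℂ E + (r : ℤ) * C) * ((r : ℤ) - 1) := by
    rcases Nat.eq_zero_or_pos (Groth.Agent.VarietyA.DegRank.rk J) with h0 | h0
    · rw [K707.Semi.dg_of_vb_of_rk_eq_zero C' hJ h0]
      have : r = 1 := by omega
      subst this
      simp
    · have h1 := hC J _ j hj h0 (K707.Base.isFinLocFreeOfRank_rk hJ)
      rw [← K707.Deg.dg_of_rank ℂ (K707.Base.isFinLocFreeOfRank_rk hJ), ← eE] at h1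
      have h2 : (Groth.Agent.VarietyA.DegRank.rk J : ℤ) = (r : ℤ) - 1 := by
        have : ((Groth.Agent.VarietyA.DegRank.rk J + 1 : ℕ) : ℤ) = r := by rw [rJ]
        push_cast at this
        omega
      rwa [h2] at h1
  rw [← eN, ← eE] at hbig
  rw [← ew] at hwdeg
  have h2 : (Groth.Agent.VarietyA.DegRank.rk J : ℤ) = (r : ℤ) - 1 := by
    have : ((Groth.Agent.VarietyA.DegRank.rk J + 1 : ℕ) : ℤ) = r := by rw [rJ]
    push_cast at this
    omega
  rw [h2] at hdg
  have hrpos : (0 : ℤ) < r := by exact_mod_cast hr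
  have h3 : K707.Deg.dg ℂ E + r * K707.Deg.dg ℂ N ≤
      K707.Deg.dg ℂ J + ((r : ℤ) - 1) * K707.Deg.dg ℂ N + (2 * (Curv2.genus ℂ X : ℤ) - 2) := by
    rw [← dM, e2, hdg, ← hwdeg]
    linarith
  have h4 : K707.Deg.dg ℂ E + K707.Deg.dg ℂ N - (2 * (Curv2.genus ℂ X : ℤ) - 2) ≤ K707.Deg.dg ℂ J := by
    linarith
  have h5 := mul_le_mul_of_nonneg_right h4 hrpos.le
  nlinarith

end Groth.Agent.S16008
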