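import Groth.Statements.S16009
import Groth.Agent.VBPn.K439.EndMat
import Groth.Agent.VBPn.K439.P1Sum
import Groth.Agent.CurvSt.K903.HomIso
import Groth.Agent.Grass.K652.LfRank
import Groth.Agent.CohqB.HomSheafMap
import Groth.Agent.Ega2.QCohLocal
import Mathlib.Analysis.Complex.Polynomial.Basic

set_option autoImplicit false
open CategoryTheory AlgebraicGeometry CategoryTheory.Limits
open VBPn

namespace Groth.Agent.S16009

open Groth.Agent.CohqB.HomSheaf in
/-- The internal endomorphisms of isomorphic modules. -/
noncomputable def endIso {X : Scheme.{0}} {E F : X.Modules} (e : E ≅ F) : homSheaf E E ≅ homSheaf F F :=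
  K903.HomIso.homPreIso e.symm E ≪≫
    { hom := homMap F e.hom
      inv := homMap F e.inv
      hom_inv_id := by rw [← homMap_comp, e.hom_inv_id, homMap_id]
      inv_hom_id := by rw [← homMap_comp, e.inv_hom_id, homMap_id] }

/-- Let X be a proper integral scheme over the complex numbers such that, for every n, a finite locally
free O_X-module of rank n whose pull-back along every morphism of complex schemes from the
projective line to X is free of rank n is itself free of rank n. Let E be finite locally free of
rank r ≥ 1 such that its pull-back along every such morphism from the projective line is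
slope-semistable of rank r (degrees on the line being χ − rank · χ(O)). Then E is isomorphic to the
direct sum of r copies of one invertible module L. (The published statement assumes X rationally
connected and takes the triviality criterion for bundles trivial on all rational curves from the
literature; the row carries that criterion as the hypothesis on X instead, and asks X to be proper
rather than projective, since the argument uses only that the global functions of X are the
constants.) -/
theorem result
    (X : Scheme.{0}) [X.Over (Spec (CommRingCat.of ℂ))] [IsIntegral X]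
    [IsProper (X ↘ Spec (CommRingCat.of ℂ))]
    (htriv : ∀ (n : ℕ) (F : X.Modules), FlatMod.IsFinLocFreeOfRank n F →
      (∀ (f : CohB1.ProjSpace 1 ℂ ⟶ X), f ≫ (X ↘ Spec (CommRingCat.of ℂ)) = CohB1.ProjSpace.toSpec 1 ℂ →
        Nonempty ((Scheme.Modules.pullback f).obj F ≅ FlatMod.freeMod (CohB1.ProjSpace 1 ℂ) n)) →
      Nonempty (F ≅ FlatMod.freeMod X n))
    (r : ℕ) (hr : 0 < r) (E : X.Modules) (hE : FlatMod.IsFinLocFreeOfRank r E)
    (hss : ∀ (f : CohB1.ProjSpace 1 ℂ ⟶ X), f ≫ (X ↘ Spec (CommRingCat.of ℂ)) = CohB1.ProjSpace.toSpec 1 ℂ →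
      ModFun.IsSlopeSemistable ℂ (CohB1.ProjSpace 1 ℂ) ((Scheme.Modules.pullback f).obj E) r) :
    ∃ L : X.Modules, PicF.IsInvertible L ∧ Nonempty (E ≅ ∐ fun _ : Fin r => L) := by
  have hE' : FlatMod.IsFinLocFree E := fun x => by
    obtain ⟨U, hx, e⟩ := hE x
    exact ⟨U, r, hx, e⟩
  have H : Nonempty (Groth.Agent.CohqB.HomSheaf.homSheaf E E ≅ FlatMod.freeMod X (r * r)) := by
    refine htriv (r * r) _ (K439.HomLoc.isFinLocFreeOfRank_homSheaf hE hE) fun f hf => ?_
    obtain ⟨m, ⟨e⟩⟩ := K439.P1Sum.exists_const ℂ hr (K652.LfRank.pullback f hE) (hss f hf)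
    obtain ⟨i⟩ := K439.HomLoc.nonempty_pull f hE' hE'
    obtain ⟨j⟩ := K439.HomLoc.nonempty_homSheaf_sum r (K439.P1Sum.rank_twist ℂ m)
    exact ⟨i ≪≫ endIso e ≪≫ j⟩
  have : CompactSpace X := QuasiCompact.compactSpace_of_compactSpace (X ↘ Spec (CommRingCat.of ℂ))
  obtain ⟨x, -, hx⟩ := (isClosed_univ (X := X)).exists_closed_singleton Set.univ_nonempty
  obtain ⟨L, hL, e⟩ := K439.EndMat.exists_iso_sum_rank_one hr hE x
    (K439.EndMat.bijective_residue (X ↘ Spec (CommRingCat.of ℂ)) x hx) H
  exact ⟨L, Groth.Agent.Ega2.QCohLocal.isFinLocFreeOfRank_one_iff.1 hL, e⟩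

end Groth.Agent.S16009
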