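import Groth.Statements.S16014
import Mathlib.Tactic.Ring
import Mathlib.Algebra.BigOperators.Ring.Finset
import Mathlib.Algebra.BigOperators.Group.Finset.Sigma

set_option autoImplicit false
universe u
open W4c3ghconstell

namespace Groth.Agent.S16014

/-- Let B = ⊕_{n ∈ ℤ} ⊕_τ B^n_τ be a bigraded finite-dimensional vector space, τ running over a finite
index set, with B^n = 0 for n < −N and for n > M (N, M integers); put d(n, τ) = dim B^n_τ. For
rational numbers φ_τ write φ(C) = Σ_τ φ_τ dim C_τ for a τ-graded piece C, and let B^{≥n} = ⊕_{m ≥ n}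
B^m, so that dim B^{≥n}_τ = Σ_{n ≤ m ≤ M} d(m, τ). Then Σ_{−N ≤ n ≤ M} n · φ(B^n) = Σ_{−N+1 ≤ n ≤ M}
φ(B^{≥n}) − N · φ(B). (Stated directly on the dimension function d.) -/
theorem result {τ : Type u} [Fintype τ] (d : ℤ → τ → ℕ) (φ : τ → ℚ) (N M : ℤ)
    (hN : ∀ n, n < -N → d n = 0) (hM : ∀ n, M < n → d n = 0) :
    ∑ n ∈ Finset.Icc (-N) M, (n : ℚ) * (∑ t, φ t * (d n t : ℚ)) =
      ∑ n ∈ Finset.Icc (-N + 1) M, (∑ t, φ t * (∑ m ∈ Finset.Icc n M, (d m t : ℚ))) -
        (N : ℚ) * (∑ t, φ t * (∑ m ∈ Finset.Icc (-N) M, (d m t : ℚ))) := by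
  have key : ∀ t : τ, ∀ K : ℕ, ∀ M : ℤ, M = -N + K →
      ∑ n ∈ Finset.Icc (-N) M, (n : ℚ) * (d n t : ℚ) =
        ∑ n ∈ Finset.Icc (-N + 1) M, (∑ m ∈ Finset.Icc n M, (d m t : ℚ)) -
          (N : ℚ) * (∑ m ∈ Finset.Icc (-N) M, (d m t : ℚ)) := by
    intro t K
    induction K with
    | zero =>
      intro M hM
      subst hM
      simp
    | succ K ih =>
      intro M' hM'
      have hM0 : M' = (-N + K) + 1 := by push_cast at hM'; omega
      have e1 : Finset.Icc (-N) M' = insert M' (Finset.Icc (-N) (-N + K)) := by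
        ext x; simp only [Finset.mem_Icc, Finset.mem_insert]; omega
      have e1' : M' ∉ Finset.Icc (-N) (-N + (K : ℤ)) := by
        simp only [Finset.mem_Icc]; omega
      have e2 : Finset.Icc (-N + 1) M' = insert M' (Finset.Icc (-N + 1) (-N + K)) := by
        ext x; simp only [Finset.mem_Icc, Finset.mem_insert]; omega
      have e2' : M' ∉ Finset.Icc (-N + 1) (-N + (K : ℤ)) := by
        simp only [Finset.mem_Icc]; omega
      have e3 : ∀ n ∈ Finset.Icc (-N + 1) (-N + (K : ℤ)),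
          ∑ m ∈ Finset.Icc n M', (d m t : ℚ) =
            (d M' t : ℚ) + ∑ m ∈ Finset.Icc n (-N + K), (d m t : ℚ) := by
        intro n hn
        rw [Finset.mem_Icc] at hn
        have : Finset.Icc n M' = insert M' (Finset.Icc n (-N + K)) := by
          ext x; simp only [Finset.mem_Icc, Finset.mem_insert]; omega
        rw [this, Finset.sum_insert (by simp only [Finset.mem_Icc]; omega)]
      rw [e1, Finset.sum_insert e1', Finset.sum_insert e1', e2, Finset.sum_insert e2',
        Finset.sum_congr rfl e3, Finset.sum_add_distrib, ih _ rfl]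
      simp only [Finset.Icc_self, Finset.sum_singleton, Finset.sum_const, Int.card_Icc,
        nsmul_eq_mul]
      have hc : ((-N + (K : ℤ) + 1 - (-N + 1)).toNat : ℚ) = (K : ℚ) := by
        congr 1
        omega
      rw [hc, hM0]
      push_cast
      ring
  have key2 : ∀ t : τ,
      ∑ n ∈ Finset.Icc (-N) M, (n : ℚ) * (d n t : ℚ) =
        ∑ n ∈ Finset.Icc (-N + 1) M, (∑ m ∈ Finset.Icc n M, (d m t : ℚ)) -
          (N : ℚ) * (∑ m ∈ Finset.Icc (-N) M, (d m t : ℚ)) := by
    intro t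
    by_cases hM' : -N ≤ M
    · exact key t (M + N).toNat M (by omega)
    · rw [Finset.Icc_eq_empty (by omega), Finset.Icc_eq_empty (by omega)]
      simp
  have swap1 : ∑ n ∈ Finset.Icc (-N) M, (n : ℚ) * (∑ t, φ t * (d n t : ℚ)) =
      ∑ t, φ t * ∑ n ∈ Finset.Icc (-N) M, (n : ℚ) * (d n t : ℚ) := by
    simp only [Finset.mul_sum]
    rw [Finset.sum_comm]
    refine Finset.sum_congr rfl fun t _ => Finset.sum_congr rfl fun n _ => by ring
  have swap2 : ∑ n ∈ Finset.Icc (-N + 1) M, (∑ t, φ t * (∑ m ∈ Finset.Icc n M, (d m t : ℚ))) =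
      ∑ t, φ t * ∑ n ∈ Finset.Icc (-N + 1) M, (∑ m ∈ Finset.Icc n M, (d m t : ℚ)) := by
    rw [Finset.sum_comm]
    refine Finset.sum_congr rfl fun t _ => by rw [Finset.mul_sum]
  rw [swap1, swap2, Finset.mul_sum, ← Finset.sum_sub_distrib]
  refine Finset.sum_congr rfl fun t _ => ?_
  rw [key2 t]
  ring

end Groth.Agent.S16014
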