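import Groth.Statements.S16015
import Mathlib.LinearAlgebra.TensorProduct.Tower
import Mathlib.RingTheory.Ideal.Quotient.Operations
import Mathlib.Algebra.Module.Projective

set_option autoImplicit false
universe u v w
open W4c3ghconstell

namespace Groth.Agent.S16015

/-- Let B be a commutative ring, E a B-module, F a finitely generated projective B-module and β : E → F
a B-linear map. Then there is a unique ideal I of B such that for every commutative B-algebra C the
base change β_C : C ⊗ E → C ⊗ F is zero if and only if the structure map B → C kills I. (The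
published statement is for a homomorphism of modules on a scheme T into a locally free module and
produces a closed subscheme T₀ through which a morphism factors exactly when the pulled-back
homomorphism vanishes; this row is the case of an affine T with affine test schemes and F of finite
rank, to which it reduces.) -/
theorem result {B : Type u} [CommRing B]
    {E : Type v} [AddCommGroup E] [Module B E]
    {F : Type w} [AddCommGroup F] [Module B F] [Module.Finite B F] [Module.Projective B F]
    (β : E →ₗ[B] F) :
    ∃! I : Ideal B, ∀ (C : Type u) [CommRing C] [Algebra B C],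
      LinearMap.baseChange C β = 0 ↔ I ≤ RingHom.ker (algebraMap B C) := by
  obtain ⟨s, hs⟩ := Module.projective_def.mp (inferInstance : Module.Projective B F)
  let I : Ideal B := Ideal.span (Set.range fun p : E × F => s (β p.1) p.2)
  have hI : ∀ (C : Type u) [CommRing C] [Algebra B C],
      LinearMap.baseChange C β = 0 ↔ I ≤ RingHom.ker (algebraMap B C) := by
    intro C _ _
    constructor
    · intro h0
      rw [Ideal.span_le]
      rintro _ ⟨⟨e, y⟩, rfl⟩
      have h1 : (1 : C) ⊗ₜ[B] (β e) = 0 := by
        have := LinearMap.congr_fun h0 ((1 : C) ⊗ₜ[B] e)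
        simpa using this
      have h2 := congrArg (LinearMap.lTensor C ((Finsupp.lapply y : (F →₀ B) →ₗ[B] B) ∘ₗ s)) h1
      have h3 := congrArg (TensorProduct.rid B C) h2
      simp only [LinearMap.lTensor_tmul, LinearMap.comp_apply, Finsupp.lapply_apply, map_zero,
        TensorProduct.rid_tmul] at h3
      rw [Algebra.smul_def, mul_one] at h3
      exact h3
    · intro hle
      apply TensorProduct.AlgebraTensorModule.ext
      intro c e
      have hz : (1 : C) ⊗ₜ[B] (β e) = 0 := by
        have hx := hs (β e)
        rw [Finsupp.linearCombination_apply] at hx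
        rw [← hx, Finsupp.sum, TensorProduct.tmul_sum]
        refine Finset.sum_eq_zero fun y _ => ?_
        have hm : s (β e) y ∈ RingHom.ker (algebraMap B C) := hle (Ideal.subset_span ⟨(e, y), rfl⟩)
        rw [RingHom.mem_ker] at hm
        rw [TensorProduct.tmul_smul, TensorProduct.smul_tmul', Algebra.smul_def, hm]
        simp
      have : c ⊗ₜ[B] (β e) = c • ((1 : C) ⊗ₜ[B] (β e)) := by
        rw [TensorProduct.smul_tmul', smul_eq_mul, mul_one]
      simp [this, hz]
  refine ⟨I, hI, ?_⟩
  intro J hJ
  have h1 : LinearMap.baseChange (B ⧸ J) β = 0 := (hJ (B ⧸ J)).mpr (by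
    rw [Ideal.Quotient.algebraMap_eq, Ideal.mk_ker])
  have h2 : LinearMap.baseChange (B ⧸ I) β = 0 := (hI (B ⧸ I)).mpr (by
    rw [Ideal.Quotient.algebraMap_eq, Ideal.mk_ker])
  have h3 := (hI (B ⧸ J)).mp h1
  have h4 := (hJ (B ⧸ I)).mp h2
  rw [Ideal.Quotient.algebraMap_eq, Ideal.mk_ker] at h3 h4
  exact le_antisymm h4 h3

end Groth.Agent.S16015
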