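import Groth.Statements.S16016
import Mathlib.Tactic.FinCases
import Mathlib.Tactic.Ring
import Mathlib.Tactic.LinearCombination

set_option autoImplicit false
universe u
open W4c3ghconstell

namespace Groth.Agent.S16016

/-- Let k be a field with 2 ≠ 0, index k⁶ by two copies of {0,1,2} (basis vectors p₁, p₂, p₃ in the
first copy and p₄, p₅, p₆ in the second), let Q be the symmetric matrix with blocks ((0, 1), (1,
0)), so that the form it defines pairs pᵢ with pᵢ₊₃, and let W₀ be the span of p₁ and p₂. Then a 6 ×
6 matrix A satisfies AᵀQ + QA = 0 (A lies in the orthogonal Lie algebra of Q) and has the image of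
Aᵀ contained in W₀ if and only if A = a · (E₄₂ − E₅₁) for some scalar a, where Eᵢⱼ is the matrix
unit. (The lemma in the source concludes that the set of such A inside a certain nilpotent orbit
closure of this Lie algebra is one-dimensional; this row is the computation its proof performs,
which determines all such A in the Lie algebra. Characteristic 2 is excluded: there E₁₄ᵀ also
qualifies.) -/
theorem result (k : Type u) [Field k] (h2 : (2 : k) ≠ 0)
    (A : Matrix (Fin 3 ⊕ Fin 3) (Fin 3 ⊕ Fin 3) k) :
    (A.transpose * Matrix.fromBlocks (0 : Matrix (Fin 3) (Fin 3) k) 1 1 0 +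
        Matrix.fromBlocks (0 : Matrix (Fin 3) (Fin 3) k) 1 1 0 * A = 0 ∧
      LinearMap.range (Matrix.mulVecLin A.transpose) ≤
        Submodule.span k {Pi.single (Sum.inl 0 : Fin 3 ⊕ Fin 3) (1 : k), Pi.single (Sum.inl 1 : Fin 3 ⊕ Fin 3) (1 : k)}) ↔
    ∃ a : k, A = a • (Matrix.single (Sum.inr 0) (Sum.inl 1) (1 : k) - Matrix.single (Sum.inr 1) (Sum.inl 0) (1 : k)) := by
  constructor
  · rintro ⟨h1, hr⟩
    -- the entries outside the first two columns vanish
    have hcol : ∀ i j : Fin 3 ⊕ Fin 3, j ≠ Sum.inl 0 → j ≠ Sum.inl 1 → A i j = 0 := by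
      intro i j hj0 hj1
      have hm : Matrix.mulVecLin A.transpose (Pi.single i 1) ∈
          Submodule.span k {(Pi.single (Sum.inl 0 : Fin 3 ⊕ Fin 3) (1 : k) : Fin 3 ⊕ Fin 3 → k),
            Pi.single (Sum.inl 1 : Fin 3 ⊕ Fin 3) (1 : k)} := hr ⟨_, rfl⟩
      rw [Submodule.mem_span_pair] at hm
      obtain ⟨a, b, hab⟩ := hm
      have := congrFun hab j
      rw [Matrix.mulVecLin_apply, Matrix.mulVec_single_one] at this
      simp only [Pi.add_apply, Pi.smul_apply, Pi.single_eq_of_ne hj0, Pi.single_eq_of_ne hj1,
        smul_zero, add_zero, Matrix.col_apply, Matrix.transpose_apply] at this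
      exact this.symm
    have hent : ∀ i j : Fin 3 ⊕ Fin 3,
        (A.transpose * Matrix.fromBlocks (0 : Matrix (Fin 3) (Fin 3) k) 1 1 0 +
        Matrix.fromBlocks (0 : Matrix (Fin 3) (Fin 3) k) 1 1 0 * A :
          Matrix (Fin 3 ⊕ Fin 3) (Fin 3 ⊕ Fin 3) k) i j = 0 := by
      intro i j; rw [h1]; rfl
    have hR : ∀ i j : Fin 3, A (Sum.inr j) (Sum.inl i) + A (Sum.inr i) (Sum.inl j) = 0 := by
      intro i j
      have := hent (Sum.inl i) (Sum.inl j)
      simpa [Matrix.mul_apply, Fintype.sum_sum_type, Matrix.one_apply] using this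
    have hP : ∀ i j : Fin 3, A (Sum.inl j) (Sum.inl i) + A (Sum.inr i) (Sum.inr j) = 0 := by
      intro i j
      have := hent (Sum.inl i) (Sum.inr j)
      simpa [Matrix.mul_apply, Fintype.sum_sum_type, Matrix.one_apply] using this
    have hPP : ∀ i j : Fin 3, A (Sum.inl j) (Sum.inl i) = 0 := by
      intro i j
      have := hP i j
      rwa [hcol (Sum.inr i) (Sum.inr j) (by simp) (by simp), add_zero] at this
    have hdiag : ∀ i : Fin 3, A (Sum.inr i) (Sum.inl i) = 0 := by
      intro i
      have := hR i i
      rw [← two_mul] at this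
      exact (mul_eq_zero.mp this).resolve_left h2
    have h22 : ∀ i : Fin 3, A (Sum.inr i) (Sum.inl 2) = 0 := fun i =>
      hcol _ _ (by simp) (by simp)
    have h22' : ∀ i : Fin 3, A (Sum.inr 2) (Sum.inl i) = 0 := by
      intro i
      have := hR i 2
      rwa [h22 i, add_zero] at this
    refine ⟨A (Sum.inr 0) (Sum.inl 1), ?_⟩
    ext i j
    rcases i with i | i
    · have h3 : A (Sum.inl i) j = 0 := by
        rcases j with j | j
        · exact hPP j i
        · exact hcol _ _ (by simp) (by simp)
      rw [h3]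
      simp
    · rcases j with j | j
      · have h10 : A (Sum.inr 1) (Sum.inl 0) = - A (Sum.inr 0) (Sum.inl 1) := by
          have := hR 0 1
          linear_combination this
        fin_cases i <;> fin_cases j <;> simp [hdiag, h22, h22', h10, Matrix.single_apply]
      · rw [hcol _ _ (by simp) (by simp)]
        simp
  · rintro ⟨a, rfl⟩
    constructor
    · ext i j
      rcases i with i | i <;> rcases j with j | j <;> fin_cases i <;> fin_cases j <;>
        simp [Matrix.mul_apply, Fintype.sum_sum_type, Matrix.one_apply, Matrix.single_apply]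
    · rintro _ ⟨x, rfl⟩
      rw [Submodule.mem_span_pair]
      refine ⟨- a * x (Sum.inr 1), a * x (Sum.inr 0), ?_⟩
      ext j
      rcases j with j | j <;> fin_cases j <;>
        simp [Matrix.mulVec, dotProduct, Fintype.sum_sum_type, Matrix.single_apply, Fin.sum_univ_three]

end Groth.Agent.S16016
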