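import Groth.Statements.S16018
import Groth.Agent.W4c3ghconstell.K991.Weight

set_option autoImplicit false
universe u v w x
open W4c3ghconstell

namespace Groth.Agent.S16018

/-- Let k be an algebraically closed field of characteristic zero, A a commutative Hopf algebra over k
which is a finitely generated domain and linearly reductive (the coordinate ring of a connected
reductive group G; irreducible representations of G are indexed by the simple subcoalgebras D of A),
R a Noetherian commutative k-algebra with a multiplicative A-coaction (an affine G-scheme X = Spec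
R), and M an R-module with a compatible A-coaction (a G-equivariant quasi-coherent module on X)
which is finite over R, is the sum of its isotypic components M_D, and has dim_k M_D = h(D) < ∞ for
every simple subcoalgebra D. Fix a weight θ from simple subcoalgebras to ℚ, negative at only
finitely many D, with Σ_D θ(D) h(D) = 0 (a convergent real series) and with θ(D) ≠ 0, h(D) ≠ 0 for
some D; the weight of a k-subspace N of M is the real series Σ_D θ(D) · dim_k (N ∩ M_D). Assume
moreover that θ(D) ≠ 0 for every simple subcoalgebra D. If M is θ-semistable, i.e. M has weight 0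
and every R-submodule of M stable under the coaction has weight ≥ 0, then M is generated as an
R-module by its isotypic components M_D with θ(D) < 0 (the generation property of θ-stable objects
thus extends to θ-semistable ones when θ vanishes nowhere). (Multiplicities are recorded as
dimensions of isotypic components, a rescaling of θ.) -/
theorem result (k : Type u) [Field k] [IsAlgClosed k] [CharZero k]
    (A : Type v) [CommRing A] [IsDomain A] [HopfAlgebra k A] [Algebra.FiniteType k A]
    (hred : HopfRep.IsLinearlyReductive k A)
    (R : Type w) [CommRing R] [Algebra k R] [IsNoetherianRing R] [HopfRep.Comod k A R] [GLin.IsCoactAlg k A R]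
    (M : Type x) [AddCommGroup M] [Module k M] [Module R M] [IsScalarTower k R M]
    [HopfRep.Comod k A M] [TameAct.IsHopfMod k A R M]
    (h : W4c3ghconstell.SimpSub k A → ℕ) (θ : W4c3ghconstell.SimpSub k A → ℚ)
    (hfin : {D | θ D < 0}.Finite) (hsum : HasSum (fun D => (θ D : ℝ) * (h D : ℝ)) 0)
    (hne : ∃ D, θ D ≠ 0 ∧ h D ≠ 0)
    (hM : W4c3ghconstell.IsConstellation k A R M h)
    (hθ : ∀ D, θ D ≠ 0)
    (hss : W4c3ghconstell.IsThetaSemistable k A R M θ) :
    W4c3ghconstell.genIn k A R M {D | θ D < 0} ⊤ = ⊤ := by
  have hle := K991.Weight.theta_genIn_le (R := R) (M := M) h θ hM.2.2 hsum ⊤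
  have htop : ((⊤ : Submodule R M).restrictScalars k) = ⊤ := Submodule.restrictScalars_top k R M
  have hN' := K991.Iso.isSubcomod_genIn (k := k) (A := A) (R := R) (M := M) {D | θ D < 0} ⊤ (by
      rw [htop]; exact Groth.Agent.Books.ComodBasic.isSubcomod_top)
  have h0 := hss.2 _ hN'
  have hneg := fun D hD => K991.Weight.genIn_neg (R := R) (M := M) θ ⊤ D hD
  rw [htop] at hneg
  have key : ∀ D : W4c3ghconstell.SimpSub k A, isoComp M D.1 ≤
      (genIn k A R M {D | θ D < 0} ⊤).restrictScalars k := by
    intro D
    refine K991.Weight.isoComp_le_of_hilbAt_eq (fun D => (hM.2.2 D).1) ?_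
    rw [← K991.Weight.hilbAt_top]
    by_contra hlt
    have h2 := K991.Weight.theta_lt h θ hM.2.2 hsum
      (le_top (a := (genIn k A R M {D | θ D < 0} ⊤).restrictScalars k)) hneg D (hθ D) (not_le.mp hlt)
    rw [hss.1] at h2
    exact absurd h0 (not_le.mpr h2)
  have h3 : (⊤ : Submodule k M) ≤ (genIn k A R M {D | θ D < 0} ⊤).restrictScalars k := by
    rw [← hM.2.1]
    exact iSup_le key
  rw [eq_top_iff]
  intro x _
  exact h3 (Submodule.mem_top (x := x))

end Groth.Agent.S16018
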