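import Groth.Statements.S16026
import Groth.Agent.AlgSp.K612.ThmB
import Groth.Agent.AlgSp.K626.GrpDim1

set_option autoImplicit false
universe u
open CategoryTheory CategoryTheory.Limits AlgebraicGeometry MonoidalCategory MonObj
open AlgSp

namespace Groth.Agent.S16026

/-- B: let S be a locally Noetherian scheme of dimension at most 1 and G a group algebraic space over S
which is separated over S and is presented by a scheme Y locally of finite presentation over S
through an étale surjective chart h_Y ⟶ G that is quasi-compact (such a chart makes Y ×_G Y ⟶ Y
étale of finite presentation; the published statement takes algebraic spaces to be quotients of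
schemes locally of finite presentation over S by étale equivalence relations of finite presentation
with immersive graph, and this is how that notion is rendered). Then G is a scheme. -/
theorem result
    (S : Scheme.{u}) [IsLocallyNoetherian S] (hS : topologicalKrullDim ↥S ≤ 1)
    (G : Over ((AlgSp.yon S).obj (Over.mk (𝟙 S)))) [GrpObj G]
    (hG : AlgSp.IsAlgSpace G.left) (hsep : AlgSp.IsSeparatedSp G.left)
    (hpres : ∃ (Y : Over S) (p : (AlgSp.yon S).obj Y ⟶ G.left),
      AlgSp.RepWith @Etale p ∧ AlgSp.RepWith @Surjective p ∧ AlgSp.RepWith @QuasiCompact p ∧
        LocallyOfFinitePresentation Y.hom) :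
    G.left.obj.IsRepresentable :=
  K626.GrpDim1.s16026 K612.ThmB.thmB S hS G hG hsep hpres

end Groth.Agent.S16026
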