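import Groth.Statements.S16027
import Groth.Agent.AlgSp.K612.ThmB
import Groth.Agent.AlgSp.K626.FqR
import Groth.Agent.AlgSp.K632.FqHom

set_option autoImplicit false
universe u
open CategoryTheory CategoryTheory.Limits AlgebraicGeometry MonoidalCategory MonObj
open AlgSp

namespace Groth.Agent.S16027

/-- A: let S be a locally Noetherian scheme of dimension at most 1, G a sheaf of groups over S for the
fppf topology which is also a sheaf for the fpqc topology, and S' ⟶ S faithfully flat and
quasi-compact such that G ×_S S' is representable by a scheme separated and locally of finite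
presentation over S'. Then G is representable by a scheme which is separated, locally of finite type
and of type (FA) over S: every finite set of points lying over an affine open of S lies in an affine
open. (The published statement asks only that G be an fppf sheaf; over a field k with an extension
field K of infinite degree over k, the subgroup of the constant group ℤ/2 formed by the sections
whose support admits, fppf locally, a k-morphism to Spec K becomes representable over K without
being representable, and the published proof applies fpqc descent to G, so G is taken to be an fpqc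
sheaf here.) -/
theorem result
    (S : Scheme.{u}) [IsLocallyNoetherian S] (hS : topologicalKrullDim ↥S ≤ 1)
    (G : Over ((AlgSp.yon S).obj (Over.mk (𝟙 S)))) [GrpObj G]
    (hfpqc : Presheaf.IsSheaf (Scheme.fpqcTopology.over S) G.left.obj)
    (T : Over S) [Flat T.hom] [Surjective T.hom] [QuasiCompact T.hom]
    (X' : Over S) (q : X' ⟶ T) [IsSeparated q.left] [LocallyOfFinitePresentation q.left]
    (a : (AlgSp.yon S).obj X' ⟶ G.left)
    (hcart : IsPullback a ((AlgSp.yon S).map q) G.hom
      ((AlgSp.yon S).map (Over.homMk T.hom (Category.comp_id T.hom) : T ⟶ Over.mk (𝟙 S)))) :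
    ∃ (X : Over S) (e : (AlgSp.yon S).obj X ≅ G.left),
      IsSeparated X.hom ∧ LocallyOfFiniteType X.hom ∧
      ∀ (E : Set ↥X.left), E.Finite → (∃ V : S.Opens, IsAffineOpen V ∧ E ⊆ (X.hom ⁻¹ᵁ V : Set ↥X.left)) →
        ∃ U : X.left.Opens, IsAffineOpen U ∧ E ⊆ (U : Set ↥X.left) := K632.FqHom.s16027 K612.ThmB.thmB (K626.FqBase.fqR S) hS G hfpqc T X' q a hcart

end Groth.Agent.S16027
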