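import Groth.Statements.S16029
import Groth.Agent.GrpSch.K270.DomAff

set_option autoImplicit false
universe u
open CategoryTheory CategoryTheory.Limits AlgebraicGeometry MonoidalCategory MonObj
open GrpSch

namespace Groth.Agent.S16029

/-- Over a field k, let G be a group scheme of finite type, G' an affine group scheme and u : G ⟶ G' a
homomorphism which is schematically dominant (its kernel ideal sheaf vanishes). Then u is faithfully
flat and G' is of finite type over k. -/
theorem result
    (k : Type u) [Field k] (G G' : Over (Spec (CommRingCat.of k))) [GrpObj G] [GrpObj G']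
    [LocallyOfFiniteType G.hom] [QuasiCompact G.hom] [IsAffine G'.left]
    (u : G ⟶ G') [IsMonHom u] (hdom : u.left.ker = ⊥) :
    Flat u.left ∧ Surjective u.left ∧ LocallyOfFiniteType G'.hom := by
  obtain ⟨A, _, _, e, he⟩ := Groth.Agent.Books.AffBridge.exists_hopf k G'
  have hm : IsMonHom (u ≫ e.hom) := inferInstance
  have hk : (u ≫ e.hom).left.ker = ⊥ := by
    rw [Over.comp_left]
    exact K270.DomAff.ker_comp_eq_bot _ _ hdom (Scheme.Hom.ker_eq_bot_of_isIso _)
  have hft := K270.DomAff.finiteType_of_dominant A G (u ≫ e.hom) hk
  have hlft : LocallyOfFiniteType G'.hom := by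
    have h1 := (Groth.Agent.Books.AffBridge2.locallyOfFiniteType_specOver_iff k A).mpr hft
    rw [← Over.w e.hom]
    infer_instance
  have hqc := K270.ImageFam.quasiCompact_left u
  obtain ⟨h1, h2, -⟩ := K270.DomAff.fppf_of_dominant G G' u hdom
  exact ⟨h1, h2, hlft⟩

end Groth.Agent.S16029
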