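import Groth.Statements.S16031
import Groth.Agent.FlatMor.K263.PushChar
import Groth.Agent.Grpsch.DimOneAff
import Groth.Agent.Pi1A.Linkage703

set_option autoImplicit false
universe u
open CategoryTheory CategoryTheory.Limits AlgebraicGeometry
open FlatMor

namespace Groth.Agent.S16031

open AlgebraicGeometry TopologicalSpace in
/-- Coset prime avoidance along a closed immersion: a section over an affine open lifting a prescribed section of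
the closed subscheme, not vanishing at finitely many points. -/
theorem exists_lift_avoid {Y X : Scheme.{u}} (θ : Y ⟶ X) [IsClosedImmersion θ] {U : X.Opens} (hU : IsAffineOpen U)
    (E : Set X) (hE : E.Finite) (hEU : E ⊆ U) (s : Γ(Y, θ ⁻¹ᵁ U))
    (hs : ∀ y, θ y ∈ E → y ∈ Y.basicOpen s) :
    ∃ h : Γ(X, U), θ.app U h = s ∧ E ⊆ X.basicOpen h := by
  classical
  let j := hU.fromSpec
  have hj : Set.range j = U := hU.range_fromSpec
  have hb : ∀ (g : Γ(X, U)) (p : PrimeSpectrum Γ(X, U)), j p ∈ X.basicOpen g ↔ g ∉ p.asIdeal := by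
    intro g p
    have h1 : hU.fromSpec ⁻¹ᵁ X.basicOpen g = PrimeSpectrum.basicOpen g :=
      hU.fromSpec_preimage_basicOpen g
    have h3 : p ∈ hU.fromSpec ⁻¹ᵁ X.basicOpen g ↔ p ∈ PrimeSpectrum.basicOpen g := by
      rw [h1]; exact Iff.rfl
    exact h3
  obtain ⟨h₀, hh₀⟩ := θ.app_surjective U hU s
  have hF : (j ⁻¹' E).Finite := hE.preimage j.isOpenEmbedding.injective.injOn
  have hF' : ((fun p : PrimeSpectrum Γ(X, U) => p.asIdeal) '' (j ⁻¹' E)).Finite := hF.image _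
  obtain ⟨y, hy, hy'⟩ := Groth.Agent.Pi1A.Linkage703.exists_add_notMem hF'.toFinset
    (by
      intro p hp
      obtain ⟨q, -, rfl⟩ := hF'.mem_toFinset.1 hp
      exact q.2) h₀ (RingHom.ker (θ.app U).hom) (by
      intro p hp hhp hJ
      obtain ⟨q, hq, rfl⟩ := hF'.mem_toFinset.1 hp
      -- the point `j q` is not in the image of `θ`
      have hnot : ∀ z, θ z ≠ j q := by
        intro z hz
        have h1 : z ∈ Y.basicOpen s := hs z (by rw [hz]; exact hq)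
        rw [← hh₀, ← Scheme.preimage_basicOpen] at h1
        have h2 : θ z ∈ X.basicOpen h₀ := h1
        rw [hz, hb] at h2
        exact h2 hhp
      obtain ⟨g, hg1, hg2⟩ := Groth.Agent.Grpsch.DimOneAff.exists_avoid hU (Set.range θ)
        θ.isClosedEmbedding.isClosed_range {j q} (Set.finite_singleton _)
        (by rintro _ rfl; exact hEU hq) (by
          rintro _ rfl ⟨z, hz⟩
          exact hnot z hz)
      have h3 : IsNilpotent (θ.app U g) := by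
        rw [Scheme.isNilpotent_iff_basicOpen_eq_bot_of_isCompact (hU.preimage θ).isCompact,
          ← Scheme.preimage_basicOpen]
        ext z
        simp only [Opens.coe_bot, Set.mem_empty_iff_false, iff_false]
        intro hz
        exact hg2 _ hz ⟨z, rfl⟩
      obtain ⟨n, hn⟩ := h3
      have h4 : g ^ n ∈ RingHom.ker (θ.app U).hom := by
        rw [RingHom.mem_ker, map_pow]
        exact hn
      have h5 : g ∈ q.asIdeal := q.2.mem_of_pow_mem _ (hJ h4)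
      exact (hb g q).1 (hg1 rfl) h5)
  refine ⟨h₀ + y, ?_, ?_⟩
  · rw [map_add, hh₀]
    have h6 : θ.app U y = 0 := hy
    rw [h6, add_zero]
  · intro x hx
    obtain ⟨p, rfl⟩ : x ∈ Set.range j := by rw [hj]; exact hEU hx
    exact (hb _ p).2 (hy' _ (hF'.mem_toFinset.2 ⟨p, hx, rfl⟩))

/-- Let θ₁ : Y ⟶ X₁ and θ₂ : Y ⟶ X₂ be closed immersions of schemes and let X, with φ₁ : X₁ ⟶ X and φ₂ :
X₂ ⟶ X, be their pushout in the category of schemes. If a finite set E of points of X has each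
preimage φᵢ⁻¹(E) contained in an affine open of Xᵢ, then E is contained in an affine open of X. -/
theorem result
    {Y X₁ X₂ X : Scheme.{u}} (θ₁ : Y ⟶ X₁) (θ₂ : Y ⟶ X₂) [IsClosedImmersion θ₁] [IsClosedImmersion θ₂]
    (φ₁ : X₁ ⟶ X) (φ₂ : X₂ ⟶ X) (hX : IsPushout θ₁ θ₂ φ₁ φ₂)
    (E : Set ↥X) (hE : E.Finite)
    (h₁ : ∃ U₁ : X₁.Opens, IsAffineOpen U₁ ∧ φ₁ ⁻¹' E ⊆ (U₁ : Set ↥X₁))
    (h₂ : ∃ U₂ : X₂.Opens, IsAffineOpen U₂ ∧ φ₂ ⁻¹' E ⊆ (U₂ : Set ↥X₂)) :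
    ∃ U : X.Opens, IsAffineOpen U ∧ E ⊆ (U : Set ↥X) := by
  have hgl := K263.PushChar.isGlued_of_isPushout
    (K263.PushChar.exists_adapted_of_isClosedImmersion θ₁ θ₂) hX
  have hc1 : IsClosedImmersion φ₁ := hgl.isClosedImmersion_a inferInstance
  have hc2 : IsClosedImmersion φ₂ := hgl.isClosedImmersion_b
  have hw : ∀ y, φ₁ (θ₁ y) = φ₂ (θ₂ y) := by
    intro y
    rw [← Scheme.Hom.comp_apply, hX.w, Scheme.Hom.comp_apply]
  obtain ⟨U₁, hU₁, hE₁⟩ := h₁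
  obtain ⟨U₂, hU₂, hE₂⟩ := h₂
  have hf1 : (φ₁ ⁻¹' E).Finite := hE.preimage φ₁.isClosedEmbedding.injective.injOn
  have hf2 : (φ₂ ⁻¹' E).Finite := hE.preimage φ₂.isClosedEmbedding.injective.injOn
  -- shrink `U₁`
  obtain ⟨g₁, hg₁, hg₁'⟩ := Groth.Agent.Grpsch.DimOneAff.exists_avoid hU₁
    (θ₁ '' ((θ₂ ⁻¹ᵁ U₂ : Set Y)ᶜ))
    (θ₁.isClosedEmbedding.isClosedMap _ (θ₂ ⁻¹ᵁ U₂).isOpen.isClosed_compl) (φ₁ ⁻¹' E) hf1 hE₁ (by
      rintro _ hx ⟨y, hy, rfl⟩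
      refine hy (hE₂ ?_)
      change φ₂ (θ₂ y) ∈ E
      rw [← hw]
      exact hx)
  set V₁ := X₁.basicOpen g₁ with hV₁
  have hV₁a : IsAffineOpen V₁ := hU₁.basicOpen g₁
  have hV12 : θ₁ ⁻¹ᵁ V₁ ≤ θ₂ ⁻¹ᵁ U₂ := by
    intro y hy
    by_contra hn
    exact hg₁' _ hy ⟨y, hn, rfl⟩
  -- shrink `U₂`
  obtain ⟨f₂, hf₂, hf₂'⟩ := Groth.Agent.Grpsch.DimOneAff.exists_avoid hU₂
    (θ₂ '' ((θ₁ ⁻¹ᵁ V₁ : Set Y)ᶜ))
    (θ₂.isClosedEmbedding.isClosedMap _ (θ₁ ⁻¹ᵁ V₁).isOpen.isClosed_compl) (φ₂ ⁻¹' E) hf2 hE₂ (by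
      rintro _ hx ⟨y, hy, rfl⟩
      refine hy (hg₁ ?_)
      change φ₁ (θ₁ y) ∈ E
      rw [hw]
      exact hx)
  have hV21 : θ₂ ⁻¹ᵁ X₂.basicOpen f₂ ≤ θ₁ ⁻¹ᵁ V₁ := by
    intro y hy
    by_contra hn
    exact hf₂' _ hy ⟨y, hn, rfl⟩
  -- the lift
  let s : Γ(Y, θ₁ ⁻¹ᵁ V₁) := θ₂.appLE U₂ (θ₁ ⁻¹ᵁ V₁) hV12 f₂
  have hs : Y.basicOpen s = θ₂ ⁻¹ᵁ X₂.basicOpen f₂ := by
    have h7 : Y.basicOpen (Y.presheaf.map (homOfLE hV12).op (θ₂.app U₂ f₂)) =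
        θ₂ ⁻¹ᵁ X₂.basicOpen f₂ := by
      rw [Scheme.basicOpen_res, ← Scheme.Hom.preimage_basicOpen, inf_eq_right]
      exact hV21
    exact h7
  obtain ⟨h, hh, hEh⟩ := exists_lift_avoid θ₁ hV₁a (φ₁ ⁻¹' E) hf1 hg₁ s (by
    intro y hy
    rw [hs]
    refine hf₂ ?_
    change φ₂ (θ₂ y) ∈ E
    rw [← hw]
    exact hy)
  obtain ⟨O, hO, hO1, hO2⟩ := hgl.adapted (X₁.basicOpen h) (X₂.basicOpen f₂) (hV₁a.basicOpen h)
    (hU₂.basicOpen f₂) (by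
      rw [← hs, Scheme.Hom.preimage_basicOpen]
      exact congrArg (fun t => Y.basicOpen t) hh)
  refine ⟨O, hO, fun e he => ?_⟩
  rcases hgl.surj e with ⟨x, rfl⟩ | ⟨x, rfl⟩
  · have h8 : x ∈ φ₁ ⁻¹ᵁ O := by rw [hO1]; exact hEh he
    exact h8
  · have h8 : x ∈ φ₂ ⁻¹ᵁ O := by rw [hO2]; exact hf₂ he
    exact h8

end Groth.Agent.S16031
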