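import Groth.Statements.S16032
import Groth.Agent.GrpSch.K270.DedLoc
import Groth.Agent.Flat2E.GenericFibre

set_option autoImplicit false
universe u
open CategoryTheory CategoryTheory.Limits AlgebraicGeometry MonoidalCategory MonObj
open GrpSch

namespace Groth.Agent.S16032

open Groth.Agent.Sga3B in
theorem affine_local {S : Scheme.{u}} [IsIntegral S]
    (G G₀ : Over S) [GrpObj G] [GrpObj G₀]
    [LocallyOfFiniteType G.hom] [QuasiCompact G.hom] [LocallyOfFiniteType G₀.hom] [QuasiCompact G₀.hom]
    [Flat G.hom] (u : G ⟶ G₀) [IsMonHom u] [IsSeparated u.left]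
    (hker : IsAffine ((pullback.fst u.left η[G₀].left ≫ G.hom).fiber (genericPoint ↥S)))
    (U : S.Opens) (hU : IsAffineOpen U) [Nonempty U] [IsDedekindDomain Γ(S, U)] :
    IsAffineHom ((Over.pullback hU.fromSpec).map u).left := by
  have hmem : genericPoint S ∈ U := by
    rw [← SetLike.mem_coe, (genericPoint_spec S).mem_open_set_iff U.isOpen, Set.univ_inter]
    obtain ⟨x⟩ := ‹Nonempty U›
    exact ⟨x.1, x.2⟩
  let ξ := S.fromSpecResidueField (genericPoint S)
  have hξf : Flat ξ := Groth.Agent.Flat2E.GenericFibre.flat_fromSpecResidueField_genericPoint S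
  have hξq : QuasiCompact ξ := by
    refine ⟨fun U _ _ => ?_⟩
    have : Finite (Spec (S.residueField (genericPoint S))) := by
      have : Subsingleton (Spec (S.residueField (genericPoint S))) :=
        inferInstanceAs (Subsingleton (PrimeSpectrum (S.residueField (genericPoint S))))
      infer_instance
    exact (Set.toFinite _).isCompact
  have hξd : IsSchemeTheoreticallyDominant ξ := by
    have : IsDominant ξ := by
      refine ⟨?_⟩
      rw [denseRange_iff_closure_range, Scheme.range_fromSpecResidueField]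
      exact genericPoint_closure _
    exact .of_isDominant _
  let j : Spec (CommRingCat.of (S.residueField (genericPoint S))) ⟶ Spec (CommRingCat.of Γ(S, U)) :=
    IsOpenImmersion.lift hU.fromSpec ξ (by
      rw [hU.range_fromSpec]
      rintro _ ⟨x, rfl⟩
      rw [Scheme.fromSpecResidueField_apply]
      exact hmem)
  have hj : j ≫ hU.fromSpec = ξ := IsOpenImmersion.lift_fac _ _ _
  have hp : IsPullback (𝟙 _) j ξ hU.fromSpec := by
    refine ⟨⟨by rw [hj, Category.id_comp]⟩, ⟨PullbackCone.IsLimit.mk _ (fun s => s.fst) ?_ ?_ ?_⟩⟩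
    · intro s; exact Category.comp_id _
    · intro s
      rw [← cancel_mono hU.fromSpec, Category.assoc, hj]
      exact s.condition
    · intro s m h1 h2
      rw [← h1]
      exact (Category.comp_id _).symm
  have hjd : IsSchemeTheoreticallyDominant j := .of_isPullback hp
  have hjf : Flat j := MorphismProperty.of_isPullback (P := @Flat) hp hξf
  have h1 : LocallyOfFiniteType ((Over.pullback hU.fromSpec).obj G).hom :=
    inferInstanceAs (LocallyOfFiniteType (pullback.snd G.hom hU.fromSpec))
  have h2 : QuasiCompact ((Over.pullback hU.fromSpec).obj G).hom :=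
    inferInstanceAs (QuasiCompact (pullback.snd G.hom hU.fromSpec))
  have h3 : LocallyOfFiniteType ((Over.pullback hU.fromSpec).obj G₀).hom :=
    inferInstanceAs (LocallyOfFiniteType (pullback.snd G₀.hom hU.fromSpec))
  have h4 : QuasiCompact ((Over.pullback hU.fromSpec).obj G₀).hom :=
    inferInstanceAs (QuasiCompact (pullback.snd G₀.hom hU.fromSpec))
  have h5 : Flat ((Over.pullback hU.fromSpec).obj G).hom :=
    inferInstanceAs (Flat (pullback.snd G.hom hU.fromSpec))
  have h6 : IsMonHom ((Over.pullback hU.fromSpec).map u) := inferInstance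
  have h7 : IsSeparated ((Over.pullback hU.fromSpec).map u).left :=
    MorphismProperty.of_isPullback (P := @IsSeparated)
      (K270.HullFib.isPullback_map_left hU.fromSpec u).flip inferInstance
  refine K270.DedLoc.main (R := Γ(S, U)) (S.residueField (genericPoint S)) j
    ((Over.pullback hU.fromSpec).obj G) ((Over.pullback hU.fromSpec).obj G₀)
    ((Over.pullback hU.fromSpec).map u) ?_
  have h8 : (KerGrp.kerObj u).hom = pullback.fst u.left η[G₀].left ≫ G.hom := (Over.w (KerGrp.kerι u)).symm
  have h9 : IsAffine (pullback (KerGrp.kerObj u).hom ξ) := by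
    rw [h8]
    exact hker
  let e1 : pullback (KerGrp.kerObj ((Over.pullback hU.fromSpec).map u)).hom j ≅
      pullback (pullback.snd (KerGrp.kerObj u).hom hU.fromSpec) j :=
    asIso (pullback.map _ _ _ _ (K270.FieldAff.kerBc hU.fromSpec u).hom.left (𝟙 _) (𝟙 _) (by
      rw [Category.comp_id]
      exact (Over.w (K270.FieldAff.kerBc hU.fromSpec u).hom).symm) (by simp))
  let e2 : pullback (pullback.snd (KerGrp.kerObj u).hom hU.fromSpec) j ≅
      pullback (KerGrp.kerObj u).hom (j ≫ hU.fromSpec) := pullbackLeftPullbackSndIso _ _ _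
  let e3 : pullback (KerGrp.kerObj u).hom (j ≫ hU.fromSpec) ≅ pullback (KerGrp.kerObj u).hom ξ :=
    pullback.congrHom rfl hj
  exact .of_isIso (e1 ≪≫ e2 ≪≫ e3).hom

/-- Let S be a Dedekind scheme, G and G₀ group schemes of finite type over S and u : G ⟶ G₀ a
homomorphism which is separated, with G flat over S and with the generic fibre of the kernel of u
affine. Then u is affine. -/
theorem result
    (S : Scheme.{u}) [IsIntegral S] (hD : ∀ U : S.affineOpens, Nonempty (U : S.Opens) → IsDedekindDomain Γ(S, U))
    (G G₀ : Over S) [GrpObj G] [GrpObj G₀]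
    [LocallyOfFiniteType G.hom] [QuasiCompact G.hom] [LocallyOfFiniteType G₀.hom] [QuasiCompact G₀.hom]
    [Flat G.hom] (u : G ⟶ G₀) [IsMonHom u] [IsSeparated u.left]
    (hker : IsAffine ((pullback.fst u.left η[G₀].left ≫ G.hom).fiber (genericPoint ↥S))) :
    IsAffineHom u.left := by
  let J := {U : S.affineOpens // Nonempty (U : S.Opens)}
  let 𝒰 : G₀.left.OpenCover := Scheme.Cover.mkOfCovers J
    (fun U => pullback G₀.hom U.1.2.fromSpec) (fun U => pullback.fst G₀.hom U.1.2.fromSpec) (by
      intro x
      obtain ⟨_, ⟨U, hU, rfl⟩, hxU, -⟩ :=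
        S.isBasis_affineOpens.exists_subset_of_mem_open (Set.mem_univ (G₀.hom x)) isOpen_univ
      refine ⟨⟨⟨U, hU⟩, ⟨⟨_, hxU⟩⟩⟩, ?_⟩
      have h1 : G₀.hom x ∈ Set.range hU.fromSpec := by
        rw [hU.range_fromSpec]
        exact hxU
      obtain ⟨y, hy⟩ := h1
      obtain ⟨z, hz, -⟩ := Scheme.Pullback.exists_preimage_pullback (f := G₀.hom) (g := hU.fromSpec) x y hy.symm
      exact ⟨z, hz⟩) (fun U => by
        change IsOpenImmersion _
        infer_instance)
  refine IsZariskiLocalAtTarget.of_openCover (P := @IsAffineHom) 𝒰 fun U => ?_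
  have : IsDedekindDomain Γ(S, U.1.1) := hD U.1 U.2
  have : Nonempty U.1.1 := U.2
  have h1 := affine_local G G₀ u hker U.1.1 U.1.2
  have h2 := K270.HullFib.isPullback_map_left U.1.2.fromSpec u
  have h3 : pullback.snd u.left (pullback.fst G₀.hom U.1.2.fromSpec) =
      h2.flip.isoPullback.inv ≫ ((Over.pullback U.1.2.fromSpec).map u).left :=
    h2.flip.isoPullback_inv_snd.symm
  change IsAffineHom (pullback.snd u.left (pullback.fst G₀.hom U.1.2.fromSpec))
  rw [h3]
  infer_instance

end Groth.Agent.S16032
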