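import Groth.Statements.S16033
import Groth.Agent.GrpSch.K270.TorsAff
import Groth.Agent.GrpSch.K270.FieldAff

set_option autoImplicit false
universe u
open CategoryTheory CategoryTheory.Limits AlgebraicGeometry MonoidalCategory MonObj
open GrpSch
open Groth.Agent.Sga3B

namespace Groth.Agent.S16033

/-- For a commutative group scheme G of finite type over a field and an integer n > 0, the n-th power
homomorphism n_G : G ⟶ G is an affine morphism. -/
theorem result
    (k : Type u) [Field k] (G : Over (Spec (CommRingCat.of k))) [GrpObj G] [IsCommMonObj G]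
    [LocallyOfFiniteType G.hom] [QuasiCompact G.hom] (n : ℕ) (hn : 0 < n) :
    IsAffineHom ((𝟙 G ^ n : G ⟶ G).left) := by
  let f : G ⟶ G := 𝟙 G ^ n
  have hf : IsMonHom f := inferInstance
  have hlN : IsLocallyNoetherian G.left := LocallyOfFiniteType.isLocallyNoetherian G.hom
  have hqs : QuasiSeparated G.hom := inferInstance
  have hqc : QuasiCompact f.left := by
    have : QuasiCompact (f.left ≫ G.hom) := by rw [Over.w]; infer_instance
    exact QuasiCompact.of_comp f.left G.hom
  have hlft : LocallyOfFiniteType f.left := by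
    have : LocallyOfFiniteType (f.left ≫ G.hom) := by rw [Over.w]; infer_instance
    exact locallyOfFiniteType_of_comp f.left G.hom
  obtain ⟨_, hk⟩ := KerGrp.exists_grpObj f
  have hqc' : QuasiCompact (KerGrp.kerObj f).hom :=
    inferInstanceAs (QuasiCompact (pullback.snd f.left (η[G] : 𝟙_ _ ⟶ G).left))
  have hlft' : LocallyOfFiniteType (KerGrp.kerObj f).hom :=
    inferInstanceAs (LocallyOfFiniteType (pullback.snd f.left (η[G] : 𝟙_ _ ⟶ G).left))
  have hN : (𝟙 (KerGrp.kerObj f) : KerGrp.kerObj f ⟶ KerGrp.kerObj f) ^ n = 1 := by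
    rw [← cancel_mono (KerGrp.kerι f), MonObj.pow_comp, Category.id_comp, MonObj.one_comp]
    have := KerGrp.kerι_comp f
    simp only [f, MonObj.comp_pow, Category.comp_id] at this
    exact this
  exact K270.FieldAff.isAffineHom_of_ker k G G f
    (K270.TorsAff.isAffine_of_pow_eq_one k (KerGrp.kerObj f) n hn hN)

end Groth.Agent.S16033
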