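import Groth.Statements.S16034
import Groth.Agent.AlgSp.K650.S34

set_option autoImplicit false
universe u
open CategoryTheory CategoryTheory.Limits AlgebraicGeometry
open AlgSp

namespace Groth.Agent.S16034

/-- Let S be a Dedekind scheme and X a locally separated algebraic space over S presented by a scheme
locally of finite presentation over S through an étale surjective quasi-compact chart. Assume that
the schematic closure of the generic fibre of X is representable — there are a flat S-scheme X̄ and
a monomorphism h_X̄ ⟶ X through which every morphism to X from a flat S-scheme factors — and that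
for every closed point s of S and every n the infinitesimal neighbourhood X ×_S
Spec(O_{S,s}/m_s^(n+1)) of the fibre at s is representable. Then X is a scheme. -/
theorem result
    (S : Scheme.{u}) [IsIntegral S] (hD : ∀ U : S.affineOpens, Nonempty (U : S.Opens) → IsDedekindDomain Γ(S, U))
    (X : AlgSp.Sp S) (hX : AlgSp.IsAlgSpace X) (hls : AlgSp.IsLocallySeparatedSp X)
    (hpres : ∃ (Y : Over S) (p : (AlgSp.yon S).obj Y ⟶ X),
      AlgSp.RepWith @Etale p ∧ AlgSp.RepWith @Surjective p ∧ AlgSp.RepWith @QuasiCompact p ∧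
        LocallyOfFinitePresentation Y.hom)
    (hbar : ∃ (Xb : Over S) (j : (AlgSp.yon S).obj Xb ⟶ X), Flat Xb.hom ∧ Mono j ∧
      ∀ (T : Over S), Flat T.hom → ∀ a : (AlgSp.yon S).obj T ⟶ X, ∃ b : T ⟶ Xb, (AlgSp.yon S).map b ≫ j = a)
    (hinf : ∀ (s : ↥S), IsClosed ({s} : Set ↥S) → ∀ n : ℕ,
      (X ⨯ (AlgSp.yon S).obj (Over.mk (Spec.map (CommRingCat.ofHom
        (Ideal.Quotient.mk (IsLocalRing.maximalIdeal ↑(S.presheaf.stalk s) ^ (n + 1)))) ≫ S.fromSpecStalk s))).obj.IsRepresentable) :
    X.obj.IsRepresentable := by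
  obtain ⟨Y, p, hp, hps, -, hY⟩ := hpres
  obtain ⟨Xb, j, hXb, hj, hfl⟩ := hbar
  exact K650.S34.main hD X hX hp hps inferInstance hXb hj hfl (fun t ht => hinf t ht 0)

end Groth.Agent.S16034
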