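import Groth.Statements.S16036
import Groth.Agent.AlgSp.K612.ThmB
import Groth.Agent.AlgSp.K626.FqR
import Groth.Agent.AlgSp.K632.FqHom

set_option autoImplicit false
universe u
open CategoryTheory CategoryTheory.Limits AlgebraicGeometry MonoidalCategory MonObj
open AlgSp

namespace Groth.Agent.S16036

/-- D: in the case of a homogeneous sheaf, let S be a locally Noetherian scheme of dimension at most 1,
G a group scheme of finite type over S (given as an fppf group sheaf represented by such a scheme)
acting on an fppf sheaf X which is also an fpqc sheaf, is locally of finite presentation over S and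
is homogeneous under G — the map (g, x) ↦ (g·x, x) from G ×_S X to X ×_S X is an epimorphism of fppf
sheaves. If for some faithfully flat quasi-compact S' ⟶ S the sheaf X ×_S S' is representable by a
scheme which is separated and of finite presentation over S' and covers S' (an epimorphism of fppf
sheaves onto h_{S'}), then X is representable by a scheme of type (FA) over S. (The published
statement allows X to be almost homogeneous, i.e. a finite union of homogeneous open subsheaves, and
asks only that X be an fppf sheaf; only the homogeneous case is stated here, and X is taken to be an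
fpqc sheaf because the published proof applies fpqc descent to X.) -/
theorem result
    (S : Scheme.{u}) [IsLocallyNoetherian S] (hS : topologicalKrullDim ↥S ≤ 1)
    (G X : Over ((AlgSp.yon S).obj (Over.mk (𝟙 S)))) [GrpObj G]
    (Gs : Over S) [LocallyOfFiniteType Gs.hom] [QuasiCompact Gs.hom] (eG : (AlgSp.yon S).obj Gs ≅ G.left)
    (act : AlgSp.GAction G X) (hlfp : AlgSp.IsLimitPreserving X.left.obj)
    (hfpqc : Presheaf.IsSheaf (Scheme.fpqcTopology.over S) X.left.obj)
    (hhom : Epi (CartesianMonoidalCategory.lift act.act (CartesianMonoidalCategory.snd G X)).left)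
    (T : Over S) [Flat T.hom] [Surjective T.hom] [QuasiCompact T.hom]
    (X' : Over S) (q : X' ⟶ T) [IsSeparated q.left] [LocallyOfFinitePresentation q.left] [QuasiCompact q.left]
    (hcov : Epi ((AlgSp.yon S).map q))
    (b : (AlgSp.yon S).obj X' ⟶ X.left)
    (hcart : IsPullback b ((AlgSp.yon S).map q) X.hom
      ((AlgSp.yon S).map (Over.homMk T.hom (Category.comp_id T.hom) : T ⟶ Over.mk (𝟙 S)))) :
    ∃ (Xs : Over S) (e : (AlgSp.yon S).obj Xs ≅ X.left),
      ∀ (E : Set ↥Xs.left), E.Finite → (∃ V : S.Opens, IsAffineOpen V ∧ E ⊆ (Xs.hom ⁻¹ᵁ V : Set ↥Xs.left)) →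
        ∃ U : Xs.left.Opens, IsAffineOpen U ∧ E ⊆ (U : Set ↥Xs.left) := K632.FqHom.s16036 K612.ThmB.thmB (K626.FqBase.fqR S) hS G X Gs eG act hfpqc hhom T X' q b hcart

end Groth.Agent.S16036
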