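import Groth.Statements.S16037
import Groth.Agent.GrpSch.K270.ImageFam

set_option autoImplicit false
universe u
open CategoryTheory CategoryTheory.Limits AlgebraicGeometry MonoidalCategory MonObj
open GrpSch

namespace Groth.Agent.S16037

/-- Over a field k, let G be a group scheme of finite type, G' a group scheme which is a cofiltered
limit of group schemes of finite type (limit cone of homomorphisms), and u : G ⟶ G' a quasi-compact
homomorphism which is schematically dominant. Then u is faithfully flat and G' is of finite type. -/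
theorem result
    (k : Type u) [Field k] (G : Over (Spec (CommRingCat.of k))) [GrpObj G]
    [LocallyOfFiniteType G.hom] [QuasiCompact G.hom]
    (J : Type u) [SmallCategory J] [IsCofiltered J] (D : J ⥤ Over (Spec (CommRingCat.of k)))
    [∀ j, GrpObj (D.obj j)] [∀ (j j' : J) (φ : j ⟶ j'), IsMonHom (D.map φ)]
    (hD : ∀ j, LocallyOfFiniteType (D.obj j).hom ∧ QuasiCompact (D.obj j).hom)
    (c : Cone D) (hc : IsLimit c) [GrpObj c.pt] [∀ j, IsMonHom (M := c.pt) (N := D.obj j) (c.π.app j)]
    (u : G ⟶ c.pt) [IsMonHom u] [QuasiCompact u.left] (hdom : u.left.ker = ⊥) :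
    Flat u.left ∧ Surjective u.left ∧ LocallyOfFiniteType c.pt.hom ∧ QuasiCompact c.pt.hom := by
  have : ∀ j, LocallyOfFiniteType (D.obj j).hom := fun j => (hD j).1
  have : Nonempty J := IsCofiltered.nonempty
  have hm : ∀ j, IsMonHom (u ≫ c.π.app j) := fun j => by
    have : IsMonHom (M := c.pt) (N := D.obj j) (c.π.app j) := inferInstance
    exact @instIsMonHomComp _ _ _ _ _ _ _ _ _ u (c.π.app j) _ this
  obtain ⟨C, hC, p, v, j₀, hp, hv, hpv, h1, h2, h3, h4, h5, h6⟩ :=
    K270.ImageFam.exists_image (J := J) (fun j => D.obj j) (fun j => u ≫ c.π.app j) (fun i j => by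
      refine ⟨IsCofiltered.min i j, fun T x hx => ?_, fun T x hx => ?_⟩
      · rw [← c.w (IsCofiltered.minToLeft i j), ← Category.assoc, ← Category.assoc, Category.assoc x, hx,
          MonObj.one_comp]
      · rw [← c.w (IsCofiltered.minToRight i j), ← Category.assoc, ← Category.assoc, Category.assoc x, hx,
          MonObj.one_comp])
  have hpe := Groth.Agent.Sga3C.QuotProps.epi_of_flat_surjective p
  have hnat : ∀ (i j : J) (φ : i ⟶ j), v i ≫ D.map φ = v j := fun i j φ => by
    rw [← cancel_epi p, ← Category.assoc, hpv, hpv, Category.assoc, c.w]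
  let s : Cone D := { pt := C, π := { app := v, naturality := fun i j φ => by simp [hnat] } }
  let w : C ⟶ c.pt := hc.lift s
  have hw : p ≫ w = u := by
    refine hc.hom_ext (fun j => ?_)
    rw [Category.assoc, hc.fac, hpv]
  have hsep : IsSeparated (c.π.app j₀).left := by
    have := K270.ImageFam.isSeparated_hom c.pt
    have : IsSeparated ((c.π.app j₀).left ≫ (D.obj j₀).hom) := by rw [Over.w]; exact this
    exact IsSeparated.of_comp _ (D.obj j₀).hom
  have hwc : IsClosedImmersion w.left := by
    have : IsClosedImmersion (w.left ≫ (c.π.app j₀).left) := by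
      rw [← Over.comp_left, hc.fac]; exact h6
    exact IsClosedImmersion.of_comp w.left (c.π.app j₀).left
  have hwk : w.left.ker = ⊥ := by
    refine le_bot_iff.mp ?_
    rw [← hdom, ← hw, Over.comp_left]
    exact Scheme.Hom.le_ker_comp _ _
  have hwi : IsIso w.left := IsClosedImmersion.isIso_iff_ker_eq_bot.mpr hwk
  have hw' : p.left ≫ w.left = u.left := by rw [← Over.comp_left, hw]
  refine ⟨?_, ?_, ?_, ?_⟩
  · rw [← hw']; infer_instance
  · rw [← hw']; infer_instance
  · have h7 : inv w.left ≫ C.hom = c.pt.hom := by rw [IsIso.inv_comp_eq, Over.w]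
    rw [← h7]; infer_instance
  · have h7 : inv w.left ≫ C.hom = c.pt.hom := by rw [IsIso.inv_comp_eq, Over.w]
    rw [← h7]; infer_instance

end Groth.Agent.S16037
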