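import Groth.Statements.S16039
import Groth.Agent.AlgSp.K650.S39
import Groth.Agent.S10033

set_option autoImplicit false
universe u
open CategoryTheory CategoryTheory.Limits AlgebraicGeometry
open AlgSp

namespace Groth.Agent.S16039

/-- Let S be a locally Noetherian scheme, Y and Z schemes locally of finite type over S and s, t : Z ⟶ Y
a flat equivalence relation of finite type over S with (t, s) : Z ⟶ Y ×_S Y a closed immersion, and
let X = Y/Z be the fppf quotient sheaf. Then the largest open subspace of X which is a scheme
contains every point of codimension at most 1: for every point y of Y whose local ring has dimension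
at most 1 there is an open immersion h_U ⟶ X from a scheme whose image contains the image of y. -/
theorem result
    (S : Scheme.{u}) [IsLocallyNoetherian S] {Z Y : Over S} (s t : Z ⟶ Y)
    [LocallyOfFiniteType Y.hom] [LocallyOfFiniteType Z.hom]
    (hrel : AlgSp.IsEqvRel s t) [Flat s.left] [Flat t.left]
    [LocallyOfFiniteType s.left] [QuasiCompact s.left] [LocallyOfFiniteType t.left] [QuasiCompact t.left]
    (hsep : IsClosedImmersion (pullback.lift t.left s.left ((Over.w t).trans (Over.w s).symm) : Z.left ⟶ pullback Y.hom Y.hom))
    (y : ↥Y.left) (hy : ringKrullDim ↥(Y.left.presheaf.stalk y) ≤ 1) :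
    ∃ (U : Over S) (j : (AlgSp.yon S).obj U ⟶ AlgSp.quotSp ((AlgSp.yon S).map s) ((AlgSp.yon S).map t)),
      AlgSp.RepWith @IsOpenImmersion j ∧
      AlgSp.Points.ofPt (AlgSp.quotSpπ ((AlgSp.yon S).map s) ((AlgSp.yon S).map t)) y ∈
        Set.range (AlgSp.Points.map j) := by
  obtain ⟨U, j, -, hj, h⟩ := K650.S39.main (fun f => Groth.Agent.S10033.result S f) s t hrel hsep y hy
  refine ⟨U, j, hj, ?_⟩
  rw [← K610.SchLocus.range_ofPt]
  exact h rfl

end Groth.Agent.S16039
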