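import Groth.Statements.S16040
import Groth.Agent.AlgSp.K651.DedGlue

set_option autoImplicit false
universe u
open CategoryTheory CategoryTheory.Limits AlgebraicGeometry
open AlgSp

namespace Groth.Agent.S16040

/-- Let S be a Dedekind scheme and G an fppf sheaf over S which is an fpqc sheaf and is locally of
finite presentation (limit preserving). Suppose that the schematic closure of the generic fibre of G
is representable — a flat S-scheme Ḡ with a monomorphism h_Ḡ ⟶ G through which every morphism from a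
flat S-scheme factors —, that every infinitesimal neighbourhood G ×_S Spec(O_{S,s}/m_s^(n+1)) of
every fibre is representable, and that G ×_S T is representable by a scheme locally of finite
presentation over T for some faithfully flat quasi-compact T ⟶ S. Then G is representable. -/
theorem result
    (S : Scheme.{u}) [IsIntegral S] (hD : ∀ U : S.affineOpens, Nonempty (U : S.Opens) → IsDedekindDomain Γ(S, U))
    (G : AlgSp.Sp S) (hfpqc : Presheaf.IsSheaf (Scheme.fpqcTopology.over S) G.obj)
    (hlfp : AlgSp.IsLimitPreserving G.obj)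
    (hbar : ∃ (Gb : Over S) (j : (AlgSp.yon S).obj Gb ⟶ G), Flat Gb.hom ∧ Mono j ∧
      ∀ (T' : Over S), Flat T'.hom → ∀ a : (AlgSp.yon S).obj T' ⟶ G, ∃ b : T' ⟶ Gb, (AlgSp.yon S).map b ≫ j = a)
    (hinf : ∀ (s : ↥S) (n : ℕ), (G ⨯ (AlgSp.yon S).obj (Over.mk (Spec.map (CommRingCat.ofHom
        (Ideal.Quotient.mk (IsLocalRing.maximalIdeal ↑(S.presheaf.stalk s) ^ (n + 1)))) ≫ S.fromSpecStalk s))).obj.IsRepresentable)
    (T : Over S) [Flat T.hom] [Surjective T.hom] [QuasiCompact T.hom]
    (X' : Over S) (q : X' ⟶ T) [LocallyOfFinitePresentation q.left]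
    (e : (AlgSp.yon S).obj X' ≅ G ⨯ (AlgSp.yon S).obj T) (he : e.hom ≫ prod.snd = (AlgSp.yon S).map q) :
    G.obj.IsRepresentable := by
  refine K610.ZarGlue.isRepresentable_iff.2 (K651.DedGlue.exists_rep_glue fun s => ?_)
  obtain ⟨U, hU, hsU, -⟩ := exists_isAffineOpen_mem_and_subset (U := (⊤ : S.Opens)) (x := s) trivial
  have : IsDedekindDomain Γ(S, U) := hD ⟨U, hU⟩ ⟨⟨s, hsU⟩⟩
  obtain ⟨X, hX⟩ := K651.DedGlue.exists_rep_open (K651.FpqcSh.isFpqcSh_of_isSheaf hfpqc) hbar hinf
    (K651.PinchMain.isPullback_of_iso e he) U hU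
  exact ⟨U, X, hsU, hX⟩

end Groth.Agent.S16040
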