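import Groth.Statements.S16041
import Groth.Agent.AlgSp.K634.DvrRep

set_option autoImplicit false
universe u
open CategoryTheory CategoryTheory.Limits AlgebraicGeometry
open AlgSp

namespace Groth.Agent.S16041

/-- Let S be the spectrum of a discrete valuation ring A with fraction field K, X an fppf sheaf over S
which is also an fpqc sheaf, and T ⟶ S faithfully flat and quasi-compact with X ×_S T representable
by a scheme of finite presentation over T. Then there is a finite extension K₁ of K such that, S₁
denoting the spectrum of the integral closure of A in K₁, the sheaf X ×_S S₁ is representable by a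
scheme of finite type over S₁. (The published statement is for any Dedekind scheme S and asks only
that X be an fppf sheaf; its proof treats the spectrum of a discrete valuation ring, the case stated
here, and identifies X with the descent of a model along a faithfully flat quasi-compact cover,
which uses the fpqc sheaf property: over a discrete valuation ring A the subsheaf of the final sheaf
formed by the schemes admitting, fppf locally, an A-morphism to the spectrum of the local ring of
A[t] at the extension of the maximal ideal becomes representable over that ring and over no such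
S₁.) -/
theorem result
    (A : Type u) [CommRing A] [IsDomain A] [IsDiscreteValuationRing A]
    (X : AlgSp.Sp (Spec (CommRingCat.of A))) (hfpqc : Presheaf.IsSheaf (Scheme.fpqcTopology.over (Spec (CommRingCat.of A))) X.obj)
    (T : Over (Spec (CommRingCat.of A))) [Flat T.hom] [Surjective T.hom] [QuasiCompact T.hom]
    (X' : Over (Spec (CommRingCat.of A))) (q : X' ⟶ T) [LocallyOfFinitePresentation q.left] [QuasiCompact q.left] [QuasiSeparated q.left]
    (e : (AlgSp.yon (Spec (CommRingCat.of A))).obj X' ≅ X ⨯ (AlgSp.yon (Spec (CommRingCat.of A))).obj T)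
    (he : e.hom ≫ prod.snd = (AlgSp.yon (Spec (CommRingCat.of A))).map q) :
    ∃ (K₁ : Type u) (_ : Field K₁) (_ : Algebra A K₁) (_ : Algebra (FractionRing A) K₁)
      (_ : IsScalarTower A (FractionRing A) K₁) (_ : FiniteDimensional (FractionRing A) K₁)
      (X₁ : Over (Spec (CommRingCat.of A)))
      (q₁ : X₁ ⟶ Over.mk (Spec.map (CommRingCat.ofHom (algebraMap A ↥(integralClosure A K₁)))))
      (e₁ : (AlgSp.yon (Spec (CommRingCat.of A))).obj X₁ ≅
        X ⨯ (AlgSp.yon (Spec (CommRingCat.of A))).obj (Over.mk (Spec.map (CommRingCat.ofHom (algebraMap A ↥(integralClosure A K₁)))))),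
      e₁.hom ≫ prod.snd = (AlgSp.yon (Spec (CommRingCat.of A))).map q₁ ∧ LocallyOfFiniteType q₁.left ∧ QuasiCompact q₁.left  := by
  have hG : K651.FpqcSh.IsFpqcSh X := K651.FpqcSh.isFpqcSh_of_isSheaf hfpqc
  obtain ⟨K₁, i1, i2, i3, i4, i5, X₁, x, q₁, h1, h2, h3⟩ :=
    K634.DvrRep.exists_rep hG (K651.PinchMain.isPullback_of_iso e he)
  have h4 := K625.Prod.isPullback_prod X ((AlgSp.yon (Spec (CommRingCat.of A))).obj
    (K634.FpqcAff.spec A (integralClosure A K₁)))
  rw [K625.Prod.from_eq] at h4
  exact ⟨K₁, i1, i2, i3, i4, i5, X₁, q₁, h1.isoIsPullback _ _ h4, IsPullback.isoIsPullback_hom_snd _ _ _ _, h2, h3⟩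

end Groth.Agent.S16041
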