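import Groth.Statements.S16042
import Groth.Agent.AlgSp.K651.PinchMain

set_option autoImplicit false
universe u
open CategoryTheory CategoryTheory.Limits AlgebraicGeometry
open AlgSp
open K628.Fqc K651.FpqcSh K651.Pinch K651.FibPinch K625.Prod K651.PinchMain

namespace Groth.Agent.S16042

/-- Let S be the spectrum of a discrete valuation ring A and G an fppf sheaf over S which is an fpqc
sheaf, whose schematic closure of the generic fibre is representable (a flat S-scheme Ḡ with a
monomorphism h_Ḡ ⟶ G through which every morphism from a flat S-scheme factors) and all of whose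
infinitesimal neighbourhoods of fibres G ×_S Spec(O_{S,s}/m_s^(n+1)) are representable. If G ×_S S'
is representable by a locally Noetherian scheme for S' the spectrum of a discrete valuation ring A'
flat and local over A, then G is representable by a locally Noetherian scheme. -/
theorem result
    (A : Type u) [CommRing A] [IsDomain A] [IsDiscreteValuationRing A]
    (G : AlgSp.Sp (Spec (CommRingCat.of A))) (hfpqc : Presheaf.IsSheaf (Scheme.fpqcTopology.over (Spec (CommRingCat.of A))) G.obj)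
    (hbar : ∃ (Gb : Over (Spec (CommRingCat.of A))) (j : (AlgSp.yon (Spec (CommRingCat.of A))).obj Gb ⟶ G), Flat Gb.hom ∧ Mono j ∧
      ∀ (T' : Over (Spec (CommRingCat.of A))), Flat T'.hom → ∀ a : (AlgSp.yon (Spec (CommRingCat.of A))).obj T' ⟶ G,
        ∃ b : T' ⟶ Gb, (AlgSp.yon (Spec (CommRingCat.of A))).map b ≫ j = a)
    (hinf : ∀ (s : ↥(Spec (CommRingCat.of A))) (n : ℕ), (G ⨯ (AlgSp.yon (Spec (CommRingCat.of A))).obj (Over.mk (Spec.map (CommRingCat.ofHom
        (Ideal.Quotient.mk (IsLocalRing.maximalIdeal ↑((Spec (CommRingCat.of A)).presheaf.stalk s) ^ (n + 1)))) ≫ (Spec (CommRingCat.of A)).fromSpecStalk s))).obj.IsRepresentable)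
    (A' : Type u) [CommRing A'] [IsDomain A'] [IsDiscreteValuationRing A'] [Algebra A A']
    [Module.Flat A A'] [IsLocalHom (algebraMap A A')]
    (X' : Over (Spec (CommRingCat.of A))) (q : X' ⟶ Over.mk (Spec.map (CommRingCat.ofHom (algebraMap A A')))) [IsLocallyNoetherian X'.left]
    (e : (AlgSp.yon (Spec (CommRingCat.of A))).obj X' ≅ G ⨯ (AlgSp.yon (Spec (CommRingCat.of A))).obj (Over.mk (Spec.map (CommRingCat.ofHom (algebraMap A A')))))
    (he : e.hom ≫ prod.snd = (AlgSp.yon (Spec (CommRingCat.of A))).map q) :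
    ∃ (X : Over (Spec (CommRingCat.of A))) (eX : (AlgSp.yon (Spec (CommRingCat.of A))).obj X ≅ G), IsLocallyNoetherian X.left := by
  let S := Spec (CommRingCat.of A)
  have hG : IsFpqcSh G := isFpqcSh_of_isSheaf hfpqc
  obtain ⟨Gb, j, hGb, hjm, hj⟩ := hbar
  let Z' : Over S := Over.mk (Spec.map (CommRingCat.ofHom (algebraMap A A')))
  have sq := isPullback_of_iso e he
  have hfl : Flat Z'.hom := by
    change Flat (Spec.map _)
    rw [Flat.SpecMap_iff]
    exact RingHom.flat_algebraMap_iff.2 inferInstance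
  have hff : Module.FaithfullyFlat A A' := Module.FaithfullyFlat.of_flat_of_isLocalHom
  have hsu : Surjective Z'.hom := by
    constructor
    exact PrimeSpectrum.comap_surjective_of_faithfullyFlat
  have hqc : QuasiCompact Z'.hom := inferInstanceAs (QuasiCompact (Spec.map _))
  have hc : FqC (toBase Z') := fqC_toBase Z'
  have hca : IsAffineHom (toBase Z').left := inferInstanceAs (IsAffineHom (Spec.map _))
  let s : S := IsLocalRing.closedPoint A
  obtain ⟨G₁, j₁, d₁, sq1⟩ := exists_of_isRepresentable (hinf s 0)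
  have hd : IsClosedImmersion (toBase (Over.mk (Spec.map (CommRingCat.ofHom
        (Ideal.Quotient.mk (IsLocalRing.maximalIdeal ↑(S.presheaf.stalk s) ^ (0 + 1)))) ≫ S.fromSpecStalk s))).left :=
    K651.ClosedPt.isClosedImmersion_infNhd S s (PrimeSpectrum.isClosed_singleton_iff_isMaximal _ |>.2
      (IsLocalRing.maximalIdeal.isMaximal A)) 0
  obtain ⟨X₂, ρ₂, ι₂, g₂, hg₂, sq₂, b₂⟩ := exists_bc sq j
  have hρ₂ : Flat ρ₂.left := (hc.of_isPullback b₂.flip).flat
  obtain ⟨hι₂, hgen⟩ := K651.FlatClosure.isClosedImmersion hGb hj sq₂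
  obtain ⟨G₁₂, X₁, k₁, k₂, ρ₁, ι₁, h12, hk₁, hk₂, sq₁, hι₁, hρ₁, hρ₂', hcov⟩ :=
    exists_pieces hc hca sq hd sq1 sq₂ hι₂
  obtain ⟨X, ⟨eX⟩⟩ := exists_rep_of_pinch hG hc (inferInstanceAs (IsAffine (Spec _))) sq fun x =>
    ⟨G₁, Gb, G₁₂, X₁, X₂, j₁, j, k₁, k₂, ρ₁, ι₁, ρ₂, ι₂, ∅, h12, hk₁, hk₂, sq₁, sq₂, hι₁, hι₂, hρ₁, hρ₂',
      isClosed_empty, fun R a b _ r h => h.elim, fun y _ => by
        by_cases hy : (X'.hom y).asIdeal = ⊥
        · exact Or.inr (hgen y (mem_range_gen A _ hy))
        · refine Or.inl (hcov y ?_)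
          rw [comp_toBase_left]
          have h1 : X'.hom y = s := by
            apply PrimeSpectrum.ext
            exact IsLocalRing.eq_maximalIdeal (Ring.DimensionLEOne.maximalOfPrime hy inferInstance)
          rw [h1]
          have h2 := K651.ClosedPt.range_infNhd S s 0
          exact h2.symm ▸ Set.mem_singleton s, fun h => h.elim⟩
  refine ⟨X, eX, ?_⟩
  -- the chart
  obtain ⟨X₃, ρ₃, ι₃, g₃, hg₃, sq₃, b₃⟩ := exists_bc sq eX.hom
  have h3 : FqC ρ₃ := hc.of_isPullback b₃.flip
  have hi : IsIso ((yon S).map ι₃) := sq₃.isIso_snd_of_isIso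
  have hi' : IsIso ι₃ := isIso_of_reflects_iso ι₃ (yon S)
  have hi'' : IsIso ι₃.left := inferInstanceAs (IsIso ((Over.forget S).map ι₃))
  have hN : IsLocallyNoetherian X₃.left := isLocallyNoetherian_of_isOpenImmersion ι₃.left
  have := h3.flat; have := h3.qc; have := h3.surj
  exact Groth.Agent.S2492.result ρ₃.left

end Groth.Agent.S16042
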