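import Groth.Statements.S16043
import Groth.Agent.GrpSch.K270.TorsDens
import Groth.Agent.AbVar.K517.SubAV
import Groth.Agent.AbVar.K510.DenseAny
import Groth.Agent.S4112
import Groth.Agent.Etcore.SmoothRed
import Groth.Agent.S7795

set_option autoImplicit false
universe u
open CategoryTheory CategoryTheory.Limits MonoidalCategory CartesianMonoidalCategory MonObj AlgebraicGeometry

namespace Groth.Agent.S16043

open Groth.Agent.Books.AlgPts Groth.Agent.Books.AlgPtsGrp K515.Bc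

/-- torsion points lie in the torsion subscheme -/
theorem comap_le {k : Type u} [Field k] {G T : Over (Spec (CommRingCat.of k))} [GrpObj G] (n : ℕ) (x : T ⟶ G)
    (hx : x ^ n = 1) : (η[G].left.ker).comap (𝟙 G ^ n : G ⟶ G).left ≤ x.left.ker := by
  rw [← Scheme.IdealSheafData.le_map_iff_comap_le, ← Scheme.Hom.ker_comp, ← Over.comp_left, MonObj.comp_pow,
    Category.comp_id, hx, Hom.one_def, Over.comp_left]
  exact Scheme.Hom.le_ker_comp _ _

/-- a section in the intersection of the torsion ideals does not vanish nowhere on torsion points -/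
theorem notMem_basicOpen {k : Type u} [Field k] {G T : Over (Spec (CommRingCat.of k))} [GrpObj G] (n : ℕ) (x : T ⟶ G)
    (hx : x ^ n = 1) (U : G.left.affineOpens) (f : Γ(G.left, U))
    (hf : f ∈ ((η[G].left.ker).comap (𝟙 G ^ n : G ⟶ G).left).ideal U) (t : T.left) (ht : x.left t ∈ G.left.basicOpen f) :
    False := by
  have h1 := (comap_le n x hx) U hf
  have h2 : t ∈ x.left ⁻¹ᵁ (G.left.basicOpen f) := ht
  rw [Scheme.preimage_basicOpen] at h2
  have h3 : x.left.app U f = 0 := Scheme.Hom.ideal_ker_le _ _ h1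
  rw [h3] at h2
  simp at h2


instance (Ω : Type u) [Field Ω] {k : Type u} [Field k] [Algebra k Ω] (X : Over (Spec (CommRingCat.of k))) [LocallyOfFiniteType X.hom] :
    LocallyOfFiniteType (bc Ω X).hom :=
  inferInstanceAs (LocallyOfFiniteType (pullback.snd X.hom _))

instance (Ω : Type u) [Field Ω] {k : Type u} [Field k] [Algebra k Ω] (X : Over (Spec (CommRingCat.of k))) [QuasiCompact X.hom] :
    QuasiCompact (bc Ω X).hom :=
  inferInstanceAs (QuasiCompact (pullback.snd X.hom _))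

instance (Ω : Type u) [Field Ω] {k : Type u} [Field k] [Algebra k Ω] (X : Over (Spec (CommRingCat.of k))) [GrpObj X] [IsCommMonObj X] :
    IsCommMonObj (bc Ω X) :=
  inferInstanceAs (IsCommMonObj ((Over.pullback _).obj X))

theorem bcHom_pow (Ω : Type u) [Field Ω] {k : Type u} [Field k] [Algebra k Ω] (X : Over (Spec (CommRingCat.of k))) [GrpObj X] (n : ℕ) :
    bcHom Ω ((𝟙 X : X ⟶ X) ^ n) = (𝟙 (bc Ω X)) ^ n :=
  K517.SubAV.map_pow_one _ X n

theorem surjective_bcHom (Ω : Type u) [Field Ω] {k : Type u} [Field k] [Algebra k Ω] {X Y : Over (Spec (CommRingCat.of k))}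
    (f : X ⟶ Y) [Surjective f.left] : Surjective (bcHom Ω f).left :=
  MorphismProperty.of_isPullback (P := @Surjective) (Groth.Agent.Grpsch.AbBC.isPullback_pullback_map _ f).flip inferInstance

/-- the key density step -/
theorem key {k : Type u} [Field k] (p : ℕ) [CharP k p] (hp : p.Prime)
    {G H P : Over (Spec (CommRingCat.of k))} [GrpObj G] [IsCommMonObj G] [GrpObj H] [IsCommMonObj H]
    [LocallyOfFiniteType G.hom] [QuasiCompact G.hom] [LocallyOfFiniteType H.hom] [QuasiCompact H.hom]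
    (i : H ⟶ G) [IsMonHom i]
    (hdiv : ∀ n : ℕ, 1 ≤ n → Flat ((𝟙 H : H ⟶ H) ^ n).left ∧ Surjective ((𝟙 H : H ⟶ H) ^ n).left)
    (m : ℕ) (hm0 : 0 < m) (hm : ¬ p ∣ m) (j : P ⟶ G) (r : P ⟶ H) (hrj : r ≫ i = j ≫ (𝟙 G) ^ m)
    (U : G.left.affineOpens) (f : Γ(G.left, U))
    (hf : ∀ n : ℕ, 0 < n → Nat.Coprime n p → f ∈ ((η[G].left.ker).comap (𝟙 G ^ n : G ⟶ G).left).ideal U)
    (x : 𝟙_ (Over (Spec (CommRingCat.of (AlgebraicClosure k)))) ⟶ bc (AlgebraicClosure k) P)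
    (hx : j.left (pr (AlgebraicClosure k) P (pt x)) ∈ G.left.basicOpen f) : False := by
  let Ω := AlgebraicClosure k
  have : CharP Ω p := charP_of_injective_algebraMap (algebraMap k Ω).injective p
  have hred : IsReduced (bc Ω H).left := K517.SubAV.isReduced_bc H hdiv _
  have hsurj : ∀ n : ℕ, 1 ≤ n → Surjective ((𝟙 (bc Ω H)) ^ n).left := by
    intro n hn
    rw [← bcHom_pow]
    have := (hdiv n hn).2
    exact surjective_bcHom Ω _
  obtain ⟨l, hl, hlp⟩ : ∃ l : ℕ, l.Prime ∧ p < l := by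
    obtain ⟨l, hl, hlp⟩ := Nat.exists_infinite_primes (p + 1)
    exact ⟨l, hlp, hl⟩
  have hcop : Nat.Coprime l p := (Nat.coprime_primes hl hp).2 (by omega)
  have hlΩ : (l : Ω) ≠ 0 := by
    intro h
    have h1 := (CharP.cast_eq_zero_iff Ω p l).1 h
    exact absurd ((Nat.prime_dvd_prime_iff_eq hp hl).1 h1) (by omega)
  have hdense := K270.TorsDens.closure_eq p hp (bc Ω H) hsurj l hl hlΩ
  -- the point of `G`
  let xG := x ≫ bcHom Ω j
  have hxG : xG ^ m = (x ≫ bcHom Ω r) ≫ bcHom Ω i := by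
    rw [Category.assoc, ← bcHom_comp, hrj, bcHom_comp, bcHom_pow, ← Category.assoc, MonObj.comp_pow, Category.comp_id]
  have := hsurj m hm0
  obtain ⟨z, hz⟩ := K398.Pts.exists_lift ((𝟙 (bc Ω H)) ^ m) (x ≫ bcHom Ω r)
  rw [MonObj.comp_pow, Category.comp_id] at hz
  let t := xG * (z ≫ bcHom Ω i)⁻¹
  have ht : t ^ m = 1 := by
    rw [mul_pow, inv_pow, hxG, ← MonObj.pow_comp, hz, mul_inv_cancel]
  let φ : bc Ω H ⟶ bc Ω G := (bcHom Ω i) * (toUnit _ ≫ t)
  have hφ : ∀ w : 𝟙_ (Over (Spec (CommRingCat.of Ω))) ⟶ bc Ω H, w ≫ φ = (w ≫ bcHom Ω i) * t := by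
    intro w
    rw [MonObj.comp_mul, ← Category.assoc, toUnit_unique (w ≫ toUnit _) (𝟙 _), Category.id_comp]
  have hzφ : z ≫ φ = xG := by
    rw [hφ, mul_comm (z ≫ bcHom Ω i), inv_mul_cancel_right]
  let E : Set (bc Ω H).left := (φ.left ≫ pr Ω G) ⁻¹ᵁ (G.left.basicOpen f)
  have hE : IsOpen E := ((φ.left ≫ pr Ω G) ⁻¹ᵁ (G.left.basicOpen f)).isOpen
  have hzE : pt z ∈ E := by
    change pr Ω G (φ.left (pt z)) ∈ G.left.basicOpen f
    rw [← pt_comp, hzφ, pt_comp]
    have h1 : pr Ω G ((bcHom Ω j).left (pt x)) = j.left (pr Ω P (pt x)) := by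
      change ((bcHom Ω j).left ≫ pr Ω G) (pt x) = _
      rw [bcHom_pr]
      rfl
    rw [h1]
    exact hx
  have h2 : pt z ∈ closure (pt '' (SGA7.K566.TorsDense.tors (bc Ω H) l : Set (𝟙_ (Over (Spec (CommRingCat.of Ω))) ⟶ bc Ω H))) := by
    rw [hdense]; trivial
  obtain ⟨_, hw1, w, ⟨e, hw⟩, rfl⟩ := mem_closure_iff.1 h2 E hE hzE
  have hv : (w ≫ φ) ^ (l ^ e * m) = 1 := by
    rw [hφ, mul_pow, pow_mul, ← MonObj.pow_comp, hw, MonObj.one_comp, one_pow, _root_.one_mul, mul_comm (l ^ e), pow_mul, ht, one_pow]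
  have hv2 : (adjn Ω (w ≫ φ)) ^ (l ^ e * m) = 1 := by
    rw [← K510.DenseAny.adjn_pow, hv, K510.DenseAny.adjn_one]
  have hc : Nat.Coprime (l ^ e * m) p := by
    refine Nat.Coprime.mul_left (hcop.pow_left e) ?_
    exact ((Nat.Prime.coprime_iff_not_dvd hp).2 hm).symm
  refine notMem_basicOpen (l ^ e * m) (adjn Ω (w ≫ φ)) hv2 U f (hf _ (Nat.mul_pos (pow_pos hl.pos e) hm0) hc)
    (IsLocalRing.closedPoint Ω) ?_
  rw [adjn_left]
  exact hw1

theorem result
    (k : Type u) [Field k] (p : ℕ) [CharP k p] (hp : p.Prime)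
    (G : Over (Spec (CommRingCat.of k))) [GrpObj G] [IsCommMonObj G]
    [LocallyOfFiniteType G.hom] [QuasiCompact G.hom] :
    ∃ (N : ℕ) (f : G.left ⟶ (⨅ (n : ℕ) (_ : 0 < n ∧ Nat.Coprime n p),
        (η[G].left.ker).comap (𝟙 G ^ n : G ⟶ G).left).subscheme),
      f ≫ (⨅ (n : ℕ) (_ : 0 < n ∧ Nat.Coprime n p), (η[G].left.ker).comap (𝟙 G ^ n : G ⟶ G).left).subschemeι =
        (𝟙 G ^ (p ^ N) : G ⟶ G).left := by
  classical
  obtain ⟨H, gH, q, i, m, hm, hq, hi, hqi, -, -, hic, hdiv⟩ := K517.DivRed.exists_divisible G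
  have hmono : Mono i := Over.mono_of_mono_left i
  have hHc : IsCommMonObj H := Groth.Agent.Sga3.H830.CommAux.isCommMonObj_of_mono i
  have hHft : LocallyOfFiniteType H.hom := by rw [← Over.w i]; infer_instance
  have hHqc : QuasiCompact H.hom := by rw [← Over.w i]; infer_instance
  obtain ⟨a, m', hm', rfl⟩ := Nat.exists_eq_pow_mul_and_not_dvd (Nat.pos_iff_ne_zero.1 hm) p hp.ne_one
  have hm'0 : 0 < m' := Nat.pos_of_ne_zero (fun h => hm' (h ▸ dvd_zero p))
  have hm'k : (m' : k) ≠ 0 := fun h => hm' ((CharP.cast_eq_zero_iff k p m').1 h)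
  have het : Etale ((𝟙 G : G ⟶ G) ^ m').left := Groth.Agent.S4112.result k G m' hm'k
  let P : Over (Spec (CommRingCat.of k)) := Over.mk (pullback.snd i.left ((𝟙 G : G ⟶ G) ^ m').left ≫ G.hom)
  let j : P ⟶ G := Over.homMk (pullback.snd i.left ((𝟙 G : G ⟶ G) ^ m').left) rfl
  have hcond := pullback.condition (f := i.left) (g := ((𝟙 G : G ⟶ G) ^ m').left)
  let r : P ⟶ H := Over.homMk (pullback.fst i.left ((𝟙 G : G ⟶ G) ^ m').left) (by
    have e1 : pullback.fst i.left ((𝟙 G : G ⟶ G) ^ m').left ≫ i.left ≫ G.hom =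
      pullback.snd i.left ((𝟙 G : G ⟶ G) ^ m').left ≫ ((𝟙 G : G ⟶ G) ^ m').left ≫ G.hom := by
      rw [← Category.assoc, hcond, Category.assoc]
    rw [Over.w, Over.w] at e1
    exact e1)
  have hrj : r ≫ i = j ≫ (𝟙 G) ^ m' := by
    ext1
    exact hcond
  have hjc : IsClosedImmersion j.left := inferInstanceAs (IsClosedImmersion (pullback.snd i.left ((𝟙 G : G ⟶ G) ^ m').left))
  have hre : Etale r.left := inferInstanceAs (Etale (pullback.fst i.left ((𝟙 G : G ⟶ G) ^ m').left))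
  have hHgr : GeometricallyReduced H.hom := K517.SubAV.geometricallyReduced_of_divisible H hdiv
  have hHs : Smooth H.hom := Groth.Agent.S7795.result H
  have hHr : IsReduced H.left := Groth.Agent.Etcore.SmoothRed.isReduced_of_smooth H.hom
  have hPr : IsReduced P.left := Groth.Agent.Etcore.SmoothRed.isReduced_of_smooth r.left
  have hPft : LocallyOfFiniteType P.hom := by rw [← Over.w j]; infer_instance
  set I : G.left.IdealSheafData := ⨅ (n : ℕ) (_ : 0 < n ∧ Nat.Coprime n p), (η[G].left.ker).comap (𝟙 G ^ n : G ⟶ G).left with hI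
  have hIle : ∀ n : ℕ, 0 < n → Nat.Coprime n p → I ≤ (η[G].left.ker).comap (𝟙 G ^ n : G ⟶ G).left :=
    fun n h1 h2 => iInf₂_le n ⟨h1, h2⟩
  have hIj : I ≤ j.left.ker := by
    intro U f hf
    rw [Scheme.Hom.ker_apply, RingHom.mem_ker, ← AlgebraicGeometry.basicOpen_eq_bot_iff, ← Scheme.preimage_basicOpen]
    by_contra hne
    obtain ⟨y, hy⟩ : ∃ y, y ∈ j.left ⁻¹ᵁ G.left.basicOpen f := by
      by_contra hcon
      push Not at hcon
      exact hne (by ext y; exact ⟨fun h => (hcon y h).elim, fun h => h.elim⟩)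
    obtain ⟨y', rfl⟩ := (pr (AlgebraicClosure k) P).surjective y
    obtain ⟨x, hx⟩ := exists_pt_mem (X := bc (AlgebraicClosure k) P)
      (U := (((pr (AlgebraicClosure k) P) ⁻¹ᵁ (j.left ⁻¹ᵁ G.left.basicOpen f) : (bc (AlgebraicClosure k) P).left.Opens) : Set _))
      ⟨y', hy⟩ ((pr (AlgebraicClosure k) P) ⁻¹ᵁ (j.left ⁻¹ᵁ G.left.basicOpen f)).isOpen.isLocallyClosed
    exact key p hp i hdiv m' hm'0 hm' j r hrj U f (fun n h1 h2 => hIle n h1 h2 U hf) x hx
  have hfac : ∃ w : G.left ⟶ P.left, w ≫ j.left = (𝟙 G ^ (p ^ a) : G ⟶ G).left := by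
    refine ⟨pullback.lift q.left (𝟙 G ^ (p ^ a) : G ⟶ G).left ?_, pullback.lift_snd _ _ _⟩
    rw [← Over.comp_left, ← Over.comp_left, hqi, MonObj.comp_pow, Category.comp_id, pow_mul]
  obtain ⟨w, hw⟩ := hfac
  have h1 : I.subschemeι.ker ≤ (𝟙 G ^ (p ^ a) : G ⟶ G).left.ker := by
    rw [Scheme.IdealSheafData.ker_subschemeι, ← hw]
    exact hIj.trans (Scheme.Hom.le_ker_comp _ _)
  exact ⟨a, IsClosedImmersion.lift I.subschemeι (𝟙 G ^ (p ^ a) : G ⟶ G).left h1, IsClosedImmersion.lift_fac _ _ _⟩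

end Groth.Agent.S16043
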