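import Groth.Statements.S16044
import Groth.Agent.GrpSch.K270.FibInj

set_option autoImplicit false
universe u
open CategoryTheory CategoryTheory.Limits AlgebraicGeometry
open GrpSch

namespace Groth.Agent.S16044

/-- Let S be the spectrum of a discrete valuation ring and X a quasi-compact quasi-separated flat
S-scheme, with canonical morphism c : X ⟶ Spec Γ(X, O_X) over S. Then on each fibre over a point of
S the base change of c is schematically dominant (its kernel ideal sheaf vanishes). -/
theorem result
    (A : Type u) [CommRing A] [IsDomain A] [IsDiscreteValuationRing A]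
    (X : Scheme.{u}) (f : X ⟶ Spec (CommRingCat.of A)) [Flat f] [QuasiCompact f] [QuasiSeparated f]
    (g : Spec Γ(X, ⊤) ⟶ Spec (CommRingCat.of A)) (hg : X.toSpecΓ ≫ g = f) (s : ↥(Spec (CommRingCat.of A))) :
    (pullback.map f ((Spec (CommRingCat.of A)).fromSpecResidueField s) g ((Spec (CommRingCat.of A)).fromSpecResidueField s)
        X.toSpecΓ (𝟙 _) (𝟙 _) ((Category.comp_id f).trans hg.symm)
        ((Category.comp_id _).trans (Category.id_comp _).symm)).ker = ⊥ := by
  have hH := IsPullback.of_hasPullback f ((Spec (CommRingCat.of A)).fromSpecResidueField s)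
  have hH' := IsPullback.of_hasPullback g ((Spec (CommRingCat.of A)).fromSpecResidueField s)
  have hcomp : CompactSpace X :=
    HasAffineProperty.iff_of_isAffine (P := @QuasiCompact) (f := f) |>.mp inferInstance
  have hc : IsIso X.toSpecΓ.appTop := by
    rw [Scheme.toSpecΓ_appTop]; infer_instance
  have hinj := K270.FibInj.fibre_injective hH hH' X.toSpecΓ hg hc
    (pullback.map f ((Spec (CommRingCat.of A)).fromSpecResidueField s) g
      ((Spec (CommRingCat.of A)).fromSpecResidueField s)
        X.toSpecΓ (𝟙 _) (𝟙 _) ((Category.comp_id f).trans hg.symm)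
        ((Category.comp_id _).trans (Category.id_comp _).symm)) (pullback.lift_fst _ _ _)
    ((pullback.lift_snd _ _ _).trans (Category.comp_id _)) ?_
  · apply Scheme.IdealSheafData.ext_of_isAffine
    rw [Scheme.ker_of_isAffine]
    simpa [RingHom.ker_eq_bot_iff_eq_zero, injective_iff_map_eq_zero] using hinj
  · by_cases hs : s.asIdeal = ⊥
    · right
      have h1 : s = genericPoint (Spec (CommRingCat.of A)) := by
        rw [genericPoint_eq_bot_of_affine]
        exact PrimeSpectrum.ext hs
      rw [h1]
      exact Groth.Agent.Flat2E.GenericFibre.flat_fromSpecResidueField_genericPoint _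
    · left
      have hmax : s.asIdeal.IsMaximal := s.isPrime.isMaximal hs
      have hcl : IsClosed ({s} : Set (Spec (CommRingCat.of A))) :=
        (PrimeSpectrum.isClosed_singleton_iff_isMaximal s).mpr hmax
      have := isClosed_singleton_iff_isClosedImmersion.mp hcl
      obtain ⟨-, hsurj⟩ := IsClosedImmersion.isAffine_surjective_of_isAffine
        ((Spec (CommRingCat.of A)).fromSpecResidueField s)
      obtain ⟨ϖ, hϖ⟩ := IsDiscreteValuationRing.exists_irreducible A
      set ι := (Spec (CommRingCat.of A)).fromSpecResidueField s
      let e := (Scheme.ΓSpecIso (CommRingCat.of A)).commRingCatIsoToRingEquiv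
      refine ⟨e.symm ϖ, ?_, hsurj, ?_⟩
      · refine mem_nonZeroDivisors_iff_right.mpr (fun z hz => ?_)
        have h1 : e z * ϖ = 0 := by rw [← e.apply_symm_apply ϖ, ← map_mul, hz, map_zero]
        have h2 := (mul_eq_zero.mp h1).resolve_right hϖ.ne_zero
        simpa using h2
      · have hfield : IsField Γ(Spec ((Spec (CommRingCat.of A)).residueField s), ⊤) :=
          (Scheme.ΓSpecIso ((Spec (CommRingCat.of A)).residueField s)).commRingCatIsoToRingEquiv.toMulEquiv.isField
            (Field.toIsField _)
        let := hfield.toField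
        have hm : (RingHom.ker ι.appTop.hom).IsMaximal := RingHom.ker_isMaximal_of_surjective _ hsurj
        have hm2 : (RingHom.ker (ι.appTop.hom.comp e.symm.toRingHom)).IsMaximal :=
          RingHom.ker_isMaximal_of_surjective _ (hsurj.comp e.symm.surjective)
        have h3 := IsLocalRing.eq_maximalIdeal hm2
        rw [hϖ.maximalIdeal_eq] at h3
        ext z
        have h4 : z ∈ RingHom.ker ι.appTop.hom ↔ e z ∈ RingHom.ker (ι.appTop.hom.comp e.symm.toRingHom) := by
          simp [RingHom.mem_ker]
        rw [h4, h3, Ideal.mem_span_singleton, Ideal.mem_span_singleton]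
        constructor
        · rintro ⟨c, hc⟩
          exact ⟨e.symm c, by rw [← map_mul, ← hc, e.symm_apply_apply]⟩
        · rintro ⟨c, hc⟩
          exact ⟨e c, by rw [hc, map_mul, e.apply_symm_apply]⟩

end Groth.Agent.S16044
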