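import Groth.Statements.S16045
import Groth.Agent.FlatMor.K263.PushBC

set_option autoImplicit false
universe u
open CategoryTheory CategoryTheory.Limits AlgebraicGeometry
open FlatMor

namespace Groth.Agent.S16045

/-- Let θ₁ : Y ⟶ X₁ and θ₂ : Y ⟶ X₂ be closed immersions of schemes over S and X their pushout in
schemes over S. For a flat morphism g : S' ⟶ S, the square obtained by base change along g is a
pushout in schemes over S': pinching along a closed subscheme commutes with flat base change. -/
theorem result
    {S S' : Scheme.{u}} (g : S' ⟶ S) [Flat g]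
    {Y X₁ X₂ X : Over S} (θ₁ : Y ⟶ X₁) (θ₂ : Y ⟶ X₂) [IsClosedImmersion θ₁.left] [IsClosedImmersion θ₂.left]
    (φ₁ : X₁ ⟶ X) (φ₂ : X₂ ⟶ X) (hX : IsPushout θ₁ θ₂ φ₁ φ₂) :
    IsPushout ((Over.pullback g).map θ₁) ((Over.pullback g).map θ₂)
      ((Over.pullback g).map φ₁) ((Over.pullback g).map φ₂) := by
  have hpo : IsPushout θ₁.left θ₂.left φ₁.left φ₂.left := hX.map (Over.forget S)
  have hgl := K263.PushChar.isGlued_of_isPushout
    (K263.PushChar.exists_adapted_of_isClosedImmersion θ₁.left θ₂.left) hpo
  have ha : IsClosedImmersion φ₁.left := hgl.isClosedImmersion_a inferInstance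
  have hb : IsClosedImmersion φ₂.left := hgl.isClosedImmersion_b
  have key := K263.PushBC.isPushout_baseChange hpo X.hom g (Or.inr inferInstance)
    (IsPullback.of_hasPullback X.hom g) (pX := pullback.fst X₁.hom g) (rX := pullback.snd X₁.hom g)
    (by rw [Over.w]; exact IsPullback.of_hasPullback _ _)
    (pY := pullback.fst X₂.hom g) (rY := pullback.snd X₂.hom g)
    (by rw [Over.w]; exact IsPullback.of_hasPullback _ _)
    (pZ := pullback.fst Y.hom g) (rZ := pullback.snd Y.hom g)
    (by rw [Over.w, Over.w]; exact IsPullback.of_hasPullback _ _)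
    (i' := ((Over.pullback g).map θ₁).left) (j' := ((Over.pullback g).map θ₂).left)
    (a' := ((Over.pullback g).map φ₁).left) (b' := ((Over.pullback g).map φ₂).left)
    (pullback.lift_fst _ _ _) (pullback.lift_snd _ _ _) (pullback.lift_fst _ _ _) (pullback.lift_snd _ _ _)
    (pullback.lift_fst _ _ _) (pullback.lift_snd _ _ _) (pullback.lift_fst _ _ _) (pullback.lift_snd _ _ _)
  exact IsPushout.of_map (Over.forget S') (by rw [← Functor.map_comp, ← Functor.map_comp, hX.w]) key

end Groth.Agent.S16045
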