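import Groth.Statements.S16049
import Groth.Agent.S1386
import Groth.Agent.S2156

set_option autoImplicit false
universe u
open CategoryTheory Limits AlgebraicGeometry
open FlatMor

namespace Groth.Agent.S16049

theorem isPullback_fiberMap {X Y S : Scheme.{u}} (f : X ⟶ Y) (g : Y ⟶ S) (s : S) :
    IsPullback (MoreMor.fiberMap f g s) ((f ≫ g).fiberι s) (g.fiberι s) f := by
  have h1 : IsPullback ((f ≫ g).fiberι s) ((f ≫ g).fiberToSpecResidueField s) (f ≫ g) (S.fromSpecResidueField s) :=
    IsPullback.of_hasPullback _ _
  have h2 : IsPullback (g.fiberι s) (g.fiberToSpecResidueField s) g (S.fromSpecResidueField s) :=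
    IsPullback.of_hasPullback _ _
  have e1 : MoreMor.fiberMap f g s ≫ g.fiberToSpecResidueField s = (f ≫ g).fiberToSpecResidueField s :=
    pullback.lift_snd _ _ _
  have e2 : MoreMor.fiberMap f g s ≫ g.fiberι s = (f ≫ g).fiberι s ≫ f :=
    pullback.lift_fst _ _ _
  rw [← e1] at h1
  exact (IsPullback.of_bot h1 e2.symm h2).flip


/-- Let g : Y → S and h : X → S be locally of finite presentation with h flat, let f : X → Y be an
S-morphism and s a point of S such that the fibre map X_s → Y_s is smooth. Then f is smooth on an
open subscheme of X containing the whole fibre of h over s. (The published statement, for schemes of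
finite type over a complete discrete valuation ring and s the closed point, concludes that f is
smooth everywhere; that fails because schemes of finite type over a discrete valuation ring have
closed points in the generic fibre — the dual numbers over the fraction field K, mapped to Spec K,
are flat and of finite type over the valuation ring with empty closed fibre and are not smooth over
Spec K. The printed argument establishes smoothness exactly at the points over s, which is what is
stated here, over an arbitrary base.) -/
theorem result {X Y S : Scheme.{u}} (g : Y ⟶ S) (h : X ⟶ S)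
    [LocallyOfFinitePresentation g] [LocallyOfFinitePresentation h] [Flat h]
    (f : X ⟶ Y) (w : f ≫ g = h) (s : S) (hs : Smooth (pullback.snd f (g.fiberι s))) :
    ∃ U : X.Opens, (∀ x : X, h.base x = s → x ∈ U) ∧ Smooth (U.ι ≫ f) := by
  subst w
  have hf : LocallyOfFinitePresentation f :=
    Groth.Agent.Flat2E.Thick.locallyOfFinitePresentation_of_comp f g
  refine ⟨f.smoothLocus, fun x hx => ?_, ?_⟩
  · subst hx
    -- the fibre map is smooth
    have hpb : IsPullback (MoreMor.fiberMap f g (g (f x))) ((f ≫ g).fiberι (g (f x))) (g.fiberι (g (f x))) f :=
      isPullback_fiberMap f g _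
    have hfib : Smooth (MoreMor.fiberMap f g (g (f x))) := by
      have e := hpb.flip.isoPullback_hom_snd
      rw [← e]
      have : Smooth (pullback.snd f (g.fiberι (g (f x)))) := hs
      infer_instance
    have hflat := ((Groth.Agent.S1386.result f g).1 x).mp
      ⟨Flat.stalkMap _ _, Flat.stalkMap _ _⟩
    -- `Spec κ(f x) ⟶ Y` factors through the fibre of `g`
    have hsm : Smooth (f.fiberToSpecResidueField (f.base x)) := by
      have h2 : IsPullback (g.fiberι (g (f x))) (g.fiberToSpecResidueField (g (f x))) g
          (S.fromSpecResidueField (g (f x))) := IsPullback.of_hasPullback _ _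
      let σ : Spec (Y.residueField (f x)) ⟶ g.fiber (g (f x)) :=
        h2.lift (Y.fromSpecResidueField (f x)) (Spec.map (g.residueFieldMap (f x))) (by
          simp)
      have hσ : σ ≫ g.fiberι (g (f x)) = Y.fromSpecResidueField (f x) := h2.lift_fst _ _ _
      have h3 : IsPullback (f.fiberι (f x)) (f.fiberToSpecResidueField (f x)) f
          (Y.fromSpecResidueField (f x)) := IsPullback.of_hasPullback _ _
      rw [← hσ] at h3
      exact MorphismProperty.of_isPullback (P := @Smooth) (IsPullback.of_right' h3 hpb.flip) hfib
    have hlfp : LocallyOfFinitePresentation (f.fiberToSpecResidueField (f.base x)) := inferInstance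
    rw [Groth.Agent.S2156.result f x]
    refine ⟨hflat.2, ?_⟩
    rw [Scheme.Hom.smoothLocus_eq_top]
    trivial
  · rw [← Scheme.Hom.smoothLocus_eq_top_iff, ← Scheme.Hom.preimage_smoothLocus_eq]
    exact Scheme.Opens.ι_preimage_self _

end Groth.Agent.S16049
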