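import Groth.Statements.S16050
import Groth.Agent.LCI.K310.PSKaehler

set_option autoImplicit false
universe u
open CategoryTheory
open LCI

namespace Groth.Agent.S16050

/-- Let k be an algebraically closed field of characteristic p > 0, P = k[[x, y, z]] the power series
ring in three variables, f a non-unit of P defining an isolated singularity — some power of the
maximal ideal of P is contained in (f) + J, where J is the ideal generated by the values D(f) of all
k-derivations D of P (the Jacobian ideal (f_x, f_y, f_z)) — and R₀ = P/(f). Then Ext²_{R₀}(Ω_{R₀/k},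
R₀) = 0 and Ext¹_{R₀}(Ω_{R₀/k}, R₀) is isomorphic as an R₀-module to R₀/J R₀, the Tjurina algebra
(existence of an R₀-linear isomorphism only; the source obtains it from the boundary map of the
dualized conormal sequence). The source states this for the normal form of a rational double point;
the hypotheses used are those given here. Here Ω is the module of Kähler differentials of the
k-algebra R₀. (The lemma also identifies first-order deformations of R₀ with this Ext¹ group; that
identification is quoted there from another work and is not part of this row.) -/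
theorem result (k : Type u) [Field k] [IsAlgClosed k]
    (p : ℕ) [Fact p.Prime] [CharP k p]
    (f : MvPowerSeries (Fin 3) k) (hf : f ∈ IsLocalRing.maximalIdeal (MvPowerSeries (Fin 3) k))
    (hiso : ∃ N : ℕ, IsLocalRing.maximalIdeal (MvPowerSeries (Fin 3) k) ^ N ≤
      Ideal.span {f} ⊔ Ideal.span {g | ∃ D : Derivation k (MvPowerSeries (Fin 3) k) (MvPowerSeries (Fin 3) k), g = D f}) :
    Subsingleton (Abelian.Ext
        (ModuleCat.of (MvPowerSeries (Fin 3) k ⧸ Ideal.span {f})
          (KaehlerDifferential k (MvPowerSeries (Fin 3) k ⧸ Ideal.span {f})))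
        (ModuleCat.of (MvPowerSeries (Fin 3) k ⧸ Ideal.span {f}) (MvPowerSeries (Fin 3) k ⧸ Ideal.span {f})) 2) ∧
      Nonempty (Abelian.Ext
        (ModuleCat.of (MvPowerSeries (Fin 3) k ⧸ Ideal.span {f})
          (KaehlerDifferential k (MvPowerSeries (Fin 3) k ⧸ Ideal.span {f})))
        (ModuleCat.of (MvPowerSeries (Fin 3) k ⧸ Ideal.span {f}) (MvPowerSeries (Fin 3) k ⧸ Ideal.span {f})) 1 ≃ₗ[MvPowerSeries (Fin 3) k ⧸ Ideal.span {f}]
        ((MvPowerSeries (Fin 3) k ⧸ Ideal.span {f}) ⧸ Ideal.map (Ideal.Quotient.mk (Ideal.span {f}))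
          (Ideal.span {g | ∃ D : Derivation k (MvPowerSeries (Fin 3) k) (MvPowerSeries (Fin 3) k), g = D f}))) := by
  have hperf : PerfectRing k p := inferInstance
  obtain ⟨N, hN⟩ := hiso
  rw [K310.PSKaehler.span_der p f] at hN ⊢
  have hf0 : f ≠ 0 := by
    rintro rfl
    have h1 : (MvPowerSeries.X 0 : MvPowerSeries (Fin 3) k) ^ N ∈
        Ideal.span {(0 : MvPowerSeries (Fin 3) k)} ⊔
        Ideal.span (Set.range fun i => MvPowerSeries.pderiv k i (0 : MvPowerSeries (Fin 3) k)) :=
      hN (Ideal.pow_mem_pow (K310.PSKaehler.X_mem 3 0) N)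
    have h2 : Ideal.span {(0 : MvPowerSeries (Fin 3) k)} ⊔
        Ideal.span (Set.range fun i => MvPowerSeries.pderiv k i (0 : MvPowerSeries (Fin 3) k)) ≤ ⊥ := by
      refine sup_le (by simp) ?_
      rw [Ideal.span_le]
      rintro _ ⟨i, rfl⟩
      simp
    have h3 := h2 h1
    rw [Ideal.mem_bot] at h3
    have h4 : (MvPowerSeries.X 0 : MvPowerSeries (Fin 3) k) = 0 :=
      by
        by_contra h
        exact pow_ne_zero N h h3
    have := congrArg (MvPowerSeries.coeff (Finsupp.single 0 1)) h4
    rw [MvPowerSeries.coeff_index_single_self_X, map_zero] at this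
    exact one_ne_zero this
  have hinj : Function.Injective (K310.PSKaehler.gradMap f) := by
    rw [← LinearMap.ker_eq_bot, eq_bot_iff]
    intro a ha
    obtain ⟨a, rfl⟩ := Ideal.Quotient.mk_surjective a
    have h1 : ∀ i, MvPowerSeries.pderiv k i f * a ∈ Ideal.span {f} := by
      intro i
      have h2 := congrFun (LinearMap.mem_ker.1 ha) i
      rw [K310.PSKaehler.gradMap, LinearMap.toSpanSingleton_apply] at h2
      rw [mul_comm]
      exact Ideal.Quotient.eq_zero_iff_mem.1 h2
    rw [Submodule.mem_bot, Ideal.Quotient.eq_zero_iff_mem]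
    refine K310.PSKaehler.mem_of_forall 3 0 1 (by decide) f hf0 N a ?_
    intro x hx
    have h3 := hN hx
    have h4 : Ideal.span {f} ⊔ Ideal.span (Set.range fun i => MvPowerSeries.pderiv k i f) ≤
        Submodule.comap (LinearMap.mulRight (MvPowerSeries (Fin 3) k) a) (Ideal.span {f}) := by
      refine sup_le ?_ ?_
      · rw [Ideal.span_singleton_le_iff_mem]
        exact Ideal.mul_mem_right _ _ (Ideal.mem_span_singleton_self f)
      · rw [Ideal.span_le]
        rintro _ ⟨i, rfl⟩
        exact h1 i
    exact h4 h3
  have hex := K310.PSKaehler.exact_gradMap f p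
  have hsurj := K310.PSKaehler.toOmega_surjective f p
  refine ⟨K310.PSKaehler.ext_two (K310.PSKaehler.grad f) (K310.PSKaehler.toOmega f) hsurj hex hinj, ?_⟩
  obtain ⟨e⟩ := K310.PSKaehler.ext_one (K310.PSKaehler.grad f) (K310.PSKaehler.toOmega f) hsurj hex hinj
  have hJ : Ideal.span (Set.range (K310.PSKaehler.grad f)) =
      Ideal.map (Ideal.Quotient.mk (Ideal.span {f}))
        (Ideal.span (Set.range fun i => MvPowerSeries.pderiv k i f)) := by
    rw [Ideal.map_span, ← Set.range_comp]
    rfl
  exact ⟨e.trans (Submodule.quotEquivOfEq _ _ hJ)⟩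

end Groth.Agent.S16050
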