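import Groth.Statements.S16051
import Mathlib
-- import your own Groth.Agent.* helpers here

set_option autoImplicit false
universe u
open LieAlg

namespace Groth.Agent.S16051

section aux
variable {O : Type u} [CommRing O]

/-- Natural numbers as indices. -/
def ix (n : ℕ) (i : ℕ) : Fin (n + 1) := Fin.ofNat (n + 1) i

theorem ix_val {n i : ℕ} (h : i ≤ n) : (ix n i).val = i := by
  simp [ix, Fin.ofNat, Nat.mod_eq_of_lt (Nat.lt_succ_of_le h)]

theorem ix_self {n : ℕ} (i : Fin (n + 1)) : ix n i.val = i := by
  apply Fin.ext
  rw [ix_val (Nat.lt_succ_iff.mp i.2)]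

/-- The subregular nilpotent matrix. -/
def sub (n : ℕ) : Matrix (Fin (n + 1)) (Fin (n + 1)) O :=
  fun i j => if j.val = i.val + 1 ∧ j.val < n then 1 else 0

theorem sub_mul (n : ℕ) (W : Matrix (Fin (n + 1)) (Fin (n + 1)) O) (i j : ℕ) (hi : i ≤ n) :
    ((sub n : Matrix _ _ O) * W) (ix n i) (ix n j) = if i + 1 < n then W (ix n (i + 1)) (ix n j) else 0 := by
  rw [Matrix.mul_apply]
  split_ifs with h
  · rw [Finset.sum_eq_single (ix n (i + 1))]
    · rw [sub, if_pos, one_mul]
      rw [ix_val hi, ix_val h.le]
      exact ⟨rfl, h⟩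
    · intro b _ hb
      rw [sub, if_neg, zero_mul]
      rw [ix_val hi]
      rintro ⟨h1, _⟩
      apply hb
      rw [← h1, ix_self]
    · intro h; exact absurd (Finset.mem_univ _) h
  · refine Finset.sum_eq_zero fun b _ => ?_
    rw [sub, if_neg, zero_mul]
    rw [ix_val hi]
    rintro ⟨h1, h2⟩
    omega

theorem mul_sub (n : ℕ) (W : Matrix (Fin (n + 1)) (Fin (n + 1)) O) (i j : ℕ) (hj : j ≤ n) :
    (W * (sub n : Matrix _ _ O)) (ix n i) (ix n j) =
      if 1 ≤ j ∧ j < n then W (ix n i) (ix n (j - 1)) else 0 := by
  rw [Matrix.mul_apply]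
  split_ifs with h
  · rw [Finset.sum_eq_single (ix n (j - 1))]
    · rw [sub, if_pos, mul_one]
      rw [ix_val hj, ix_val (by omega)]
      omega
    · intro b _ hb
      rw [sub, if_neg, mul_zero]
      rw [ix_val hj]
      rintro ⟨h1, _⟩
      apply hb
      rw [show j - 1 = b.val by omega, ix_self]
    · intro h; exact absurd (Finset.mem_univ _) h
  · refine Finset.sum_eq_zero fun b _ => ?_
    rw [sub, if_neg, mul_zero]
    rw [ix_val hj]
    rintro ⟨h1, h2⟩
    omega

/-- The partial diagonal sum. -/
def phi (n : ℕ) (j : ℕ) (Y : Matrix (Fin (n + 1)) (Fin (n + 1)) O) : O :=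
  ∑ l ∈ Finset.range (j + 1), Y (ix n (n - 1 - l)) (ix n (j - l))

theorem phi_bracket (n : ℕ) (j : ℕ) (hj : j < n) (W : Matrix (Fin (n + 1)) (Fin (n + 1)) O) :
    phi n j ((sub n) * W - W * (sub n)) = 0 := by
  let g : ℕ → O := fun l => if l = 0 ∨ j < l then 0 else W (ix n (n - l)) (ix n (j - l))
  have h : ∀ l ∈ Finset.range (j + 1),
      ((sub n * W - W * sub n : Matrix (Fin (n + 1)) (Fin (n + 1)) O)) (ix n (n - 1 - l)) (ix n (j - l)) = g l - g (l + 1) := by
    intro l hl
    rw [Finset.mem_range] at hl
    rw [Matrix.sub_apply, sub_mul n W _ _ (by omega), mul_sub n W _ _ (by omega)]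
    simp only [g]
    congr 1
    · by_cases hl0 : l = 0
      · subst hl0
        rw [if_neg (by omega), if_pos (Or.inl rfl)]
      · rw [if_pos (by omega), if_neg (by omega)]
        congr 2; omega
    · by_cases hlj : l = j
      · subst hlj
        rw [if_neg (by omega), if_pos (by omega)]
      · rw [if_pos (by omega), if_neg (by omega)]
        congr 2 <;> omega
  rw [phi, Finset.sum_congr rfl h, Finset.sum_range_sub']
  simp [g]

/-- The recursive solution. -/
def zz (y : ℕ → ℕ → O) : ℕ → ℕ → O
  | 0, _ => 0
  | (i + 1), 0 => y i 0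
  | (i + 1), (j + 1) => y i (j + 1) + zz y i j

theorem zz_eq (y : ℕ → ℕ → O) (i j : ℕ) (h : j ≤ i) :
    zz y (i + 1) j = ∑ l ∈ Finset.range (j + 1), y (i - l) (j - l) := by
  induction j generalizing i with
  | zero => simp [zz]
  | succ j ih =>
    obtain ⟨i, rfl⟩ : ∃ i', i = i' + 1 := ⟨i - 1, by omega⟩
    rw [zz, ih i (by omega), Finset.sum_range_succ' _ (j + 1)]
    rw [add_comm]
    congr 1
    refine Finset.sum_congr rfl fun l _ => ?_
    congr 1 <;> omega

theorem zz_rec (y : ℕ → ℕ → O) (i j : ℕ) :
    zz y (i + 1) j = y i j + if 1 ≤ j then zz y i (j - 1) else 0 := by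
  cases j with
  | zero => simp [zz]
  | succ j => simp [zz]

theorem mem_sl' (n : ℕ) (Y : Matrix (Fin (n + 1)) (Fin (n + 1)) O) :
    Y ∈ LieAlgebra.SpecialLinear.sl (Fin (n + 1)) O ↔ Matrix.trace Y = 0 := Iff.rfl

end aux


/-- Let O be a discrete valuation ring of characteristic zero with residue field of characteristic p,
let 1 ≤ n with n + 1 < p (type A_n with p above the Coxeter number), and let x ∈ sl_{n+1}(O) be the
standard subregular nilpotent element, the matrix with entries x_{i,i+1} = 1 for i + 1 < n and 0
elsewhere (one Jordan block of size n and one of size 1; in the source this is the sum of the root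
vectors of the first n − 1 simple roots, completed there to an sl₂-triple). Then the quotient of
sl_{n+1}(O) by the image of ad_x is a free O-module of rank n + 2. (The source works over a complete
such ring with algebraically closed residue field; completeness and algebraic closedness are not
used for this statement.) -/
theorem result (O : Type u) [CommRing O] [IsDomain O] [IsDiscreteValuationRing O]
    [CharZero O] (p : ℕ) [Fact p.Prime] [CharP (IsLocalRing.ResidueField O) p]
    (n : ℕ) (hn : 1 ≤ n) (hp : n + 1 < p)
    (x : LieAlgebra.SpecialLinear.sl (Fin (n + 1)) O)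
    (hx : ∀ i j : Fin (n + 1), (x : Matrix (Fin (n + 1)) (Fin (n + 1)) O) i j =
      if j.val = i.val + 1 ∧ j.val < n then 1 else 0) :
    Module.Free O (LieAlgebra.SpecialLinear.sl (Fin (n + 1)) O ⧸
        LinearMap.range (LieAlgebra.ad O (LieAlgebra.SpecialLinear.sl (Fin (n + 1)) O) x)) ∧
      Module.finrank O (LieAlgebra.SpecialLinear.sl (Fin (n + 1)) O ⧸
        LinearMap.range (LieAlgebra.ad O (LieAlgebra.SpecialLinear.sl (Fin (n + 1)) O) x)) = n + 2 := by
  classical
  let S := LieAlgebra.SpecialLinear.sl (Fin (n + 1)) O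
  have hx' : (x : Matrix (Fin (n + 1)) (Fin (n + 1)) O) = sub n := by
    ext i j; exact hx i j
  have htr : ∀ Y : S, Matrix.trace (Y : Matrix (Fin (n + 1)) (Fin (n + 1)) O) = 0 := by
    intro Y
    exact (mem_sl' n _).mp Y.2
  have htrace : ∀ Y : Matrix (Fin (n + 1)) (Fin (n + 1)) O,
      Matrix.trace Y = phi n (n - 1) Y + Y (ix n n) (ix n n) := by
    intro Y
    rw [Matrix.trace, phi]
    rw [Nat.sub_add_cancel hn]
    have h1 : ∑ i : Fin (n + 1), Y.diag i = ∑ i ∈ Finset.range (n + 1), Y (ix n i) (ix n i) := by
      rw [Finset.sum_range]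
      refine Finset.sum_congr rfl fun i _ => ?_
      rw [ix_self]; rfl
    rw [h1, Finset.sum_range_succ]
    congr 1
    exact (Finset.sum_range_reflect (fun i => Y (ix n i) (ix n i)) n).symm
  let Φ : S →ₗ[O] (Fin n → O) × O × O :=
    { toFun := fun Y => (fun j => phi n j.val (Y : Matrix (Fin (n + 1)) (Fin (n + 1)) O),
        (Y : Matrix (Fin (n + 1)) (Fin (n + 1)) O) (ix n (n - 1)) (ix n n),
        (Y : Matrix (Fin (n + 1)) (Fin (n + 1)) O) (ix n n) (ix n 0))
      map_add' := by
        intro Y Z
        refine Prod.ext ?_ (Prod.ext ?_ ?_)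
        · funext j
          simp [phi, Finset.sum_add_distrib]
        · simp
        · simp
      map_smul' := by
        intro c Y
        refine Prod.ext ?_ (Prod.ext ?_ ?_)
        · funext j
          simp [phi, Finset.mul_sum]
        · simp
        · simp }
  have hsurj : Function.Surjective Φ := by
    rintro ⟨c, a, b⟩
    let c' : ℕ → O := fun k => if h : k < n then c ⟨k, h⟩ else 0
    let Y : Matrix (Fin (n + 1)) (Fin (n + 1)) O := fun i k =>
      if i.val = n - 1 then (if k.val < n then c' k.val else a)
      else if i.val = n then (if k.val = 0 then b else if k.val = n then - c' (n - 1) else 0)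
      else 0
    have hphi : ∀ j, j < n → phi n j Y = c' j := by
      intro j hj
      rw [phi, Finset.sum_range_succ', Finset.sum_eq_zero, zero_add]
      · simp only [Nat.sub_zero]
        show (if _ then _ else _) = _
        rw [ix_val (by omega), ix_val (by omega), if_pos rfl, if_pos hj]
      · intro l hl
        rw [Finset.mem_range] at hl
        show (if _ then _ else _) = _
        rw [ix_val (by omega), if_neg (by omega), if_neg (by omega)]
    have hYn : Y (ix n n) (ix n n) = - c' (n - 1) := by
      show (if _ then _ else _) = _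
      rw [ix_val le_rfl, if_neg (by omega), if_pos rfl, if_neg (by omega), if_pos rfl]
    have hY : Y ∈ S := by
      rw [mem_sl', htrace, hphi _ (by omega), hYn]
      ring
    refine ⟨⟨Y, hY⟩, ?_⟩
    refine Prod.ext ?_ (Prod.ext ?_ ?_)
    · funext j
      show phi n j.val Y = c j
      rw [hphi _ j.2]
      simp [c']
    · show Y _ _ = a
      show (if _ then _ else _) = _
      rw [ix_val (by omega), ix_val (by omega), if_pos rfl, if_neg (by omega)]
    · show Y _ _ = b
      show (if _ then _ else _) = _
      rw [ix_val (by omega), ix_val (by omega), if_neg (by omega), if_pos rfl, if_pos rfl]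
  have hker : LinearMap.ker Φ = LinearMap.range (LieAlgebra.ad O S x) := by
    apply le_antisymm
    · intro Y hY
      rw [LinearMap.mem_ker] at hY
      have hY1 : ∀ j, j < n → phi n j (Y : Matrix (Fin (n + 1)) (Fin (n + 1)) O) = 0 := by
        intro j hj
        exact congrFun (congrArg Prod.fst hY) ⟨j, hj⟩
      have hY2 : (Y : Matrix (Fin (n + 1)) (Fin (n + 1)) O) (ix n (n - 1)) (ix n n) = 0 :=
        congrArg (fun t => t.2.1) hY
      have hY3 : (Y : Matrix (Fin (n + 1)) (Fin (n + 1)) O) (ix n n) (ix n 0) = 0 :=
        congrArg (fun t => t.2.2) hY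
      have hY4 : (Y : Matrix (Fin (n + 1)) (Fin (n + 1)) O) (ix n n) (ix n n) = 0 := by
        have h1 := htr Y
        rw [htrace, hY1 _ (by omega), zero_add] at h1
        exact h1
      let y : ℕ → ℕ → O := fun i j => (Y : Matrix (Fin (n + 1)) (Fin (n + 1)) O) (ix n i) (ix n j)
      let Z0 : Matrix (Fin (n + 1)) (Fin (n + 1)) O := fun i j =>
        if i.val < n then (if j.val < n then zz y i.val j.val else
          (if i.val = 0 then 0 else y (i.val - 1) n))
        else (if j.val + 1 < n then - y n (j.val + 1) else 0)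
      let Z : Matrix (Fin (n + 1)) (Fin (n + 1)) O := fun i j =>
        if i.val = n ∧ j.val = n then - Matrix.trace Z0 else Z0 i j
      have hZ0nn : Z0 (ix n n) (ix n n) = 0 := by
        show (if _ then _ else _) = _
        rw [ix_val le_rfl, if_neg (by omega), if_neg (by omega)]
      have hZ : Z ∈ S := by
        rw [mem_sl', htrace]
        have h1 : phi n (n - 1) Z = phi n (n - 1) Z0 := by
          refine Finset.sum_congr rfl fun l hl => ?_
          rw [Finset.mem_range] at hl
          show (if _ then _ else _) = _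
          rw [if_neg]
          rw [ix_val (by omega)]
          omega
        have h2 : Z (ix n n) (ix n n) = - Matrix.trace Z0 := by
          show (if _ then _ else _) = _
          rw [if_pos]
          exact ⟨ix_val le_rfl, ix_val le_rfl⟩
        rw [h1, h2, htrace Z0, hZ0nn]
        ring
      refine ⟨⟨Z, hZ⟩, ?_⟩
      apply Subtype.ext
      rw [LieAlgebra.ad_apply]
      refine (LieAlgebra.SpecialLinear.sl_bracket _ _ _ _).trans ?_
      show x.1 * Z - Z * x.1 = (Y : Matrix (Fin (n + 1)) (Fin (n + 1)) O)
      rw [hx']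
      ext i' j'
      obtain ⟨i, hi, rfl⟩ : ∃ i, i ≤ n ∧ ix n i = i' := ⟨i'.val, Nat.lt_succ_iff.mp i'.2, ix_self i'⟩
      obtain ⟨j, hj, rfl⟩ : ∃ j, j ≤ n ∧ ix n j = j' := ⟨j'.val, Nat.lt_succ_iff.mp j'.2, ix_self j'⟩
      rw [Matrix.sub_apply, sub_mul n Z _ _ hi, mul_sub n Z _ _ hj]
      show _ = y i j
      have hZe : ∀ a b, a ≤ n → b < n → Z (ix n a) (ix n b) =
          if a < n then zz y a b else (if b + 1 < n then - y n (b + 1) else 0) := by
        intro a b ha hb
        show (if _ then _ else if _ then (if _ then _ else _) else _) = _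
        rw [ix_val ha, ix_val hb.le, if_neg (by omega), if_pos hb]
      have hZn : ∀ a, a < n → Z (ix n a) (ix n n) = if a = 0 then 0 else y (a - 1) n := by
        intro a ha
        show (if _ then _ else if _ then (if _ then _ else _) else _) = _
        rw [ix_val ha.le, ix_val le_rfl, if_neg (by omega), if_pos ha, if_neg (by omega)]
      rcases Nat.lt_or_ge i n with hin | hin
      · rcases Nat.lt_or_ge j n with hjn | hjn
        · -- both indices in the large block
          by_cases hi1 : i + 1 < n
          · rw [if_pos hi1, hZe _ _ (by omega) hjn, if_pos hi1, zz_rec]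
            by_cases hj1 : 1 ≤ j
            · rw [if_pos hj1, if_pos ⟨hj1, hjn⟩, hZe _ _ (by omega) (by omega), if_pos hin]
              ring
            · rw [if_neg hj1, if_neg (by omega)]
              ring
          · obtain rfl : i = n - 1 := by omega
            rw [if_neg hi1]
            have h0 := hY1 j hjn
            have h1 := zz_eq y (n - 1) j (by omega)
            have h2 : phi n j (Y : Matrix (Fin (n + 1)) (Fin (n + 1)) O) =
              ∑ l ∈ Finset.range (j + 1), y (n - 1 - l) (j - l) := rfl
            rw [← h2, h0, zz_rec] at h1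
            by_cases hj1 : 1 ≤ j
            · rw [if_pos ⟨hj1, hjn⟩, hZe _ _ (by omega) (by omega), if_pos hin]
              rw [if_pos hj1] at h1
              rw [eq_neg_of_add_eq_zero_left h1]
              ring
            · rw [if_neg (by omega)]
              rw [if_neg hj1, add_zero] at h1
              rw [h1]; ring
        · obtain rfl : j = n := by omega
          rw [if_neg (show ¬ (1 ≤ j ∧ j < j) by omega), sub_zero]
          by_cases hi1 : i + 1 < j
          · rw [if_pos hi1, hZn _ hi1, if_neg (by omega)]
            rfl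
          · obtain rfl : i = j - 1 := by omega
            rw [if_neg hi1]
            exact hY2.symm
      · obtain rfl : i = n := by omega
        rw [if_neg (by omega)]
        rcases Nat.lt_or_ge j i with hjn | hjn
        · by_cases hj1 : 1 ≤ j
          · rw [if_pos ⟨hj1, hjn⟩, hZe _ _ le_rfl (by omega), if_neg (by omega), if_pos (by omega)]
            rw [Nat.sub_add_cancel hj1]
            ring
          · obtain rfl : j = 0 := by omega
            rw [if_neg (by omega), sub_zero]
            exact hY3.symm
        · obtain rfl : j = i := by omega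
          rw [if_neg (by omega), sub_zero]
          exact hY4.symm
    · rintro _ ⟨W, rfl⟩
      rw [LinearMap.mem_ker]
      have e : ((LieAlgebra.ad O S x W : S) : Matrix (Fin (n + 1)) (Fin (n + 1)) O) =
          sub n * (W : Matrix (Fin (n + 1)) (Fin (n + 1)) O) -
            (W : Matrix (Fin (n + 1)) (Fin (n + 1)) O) * sub n := by
        rw [LieAlgebra.ad_apply]
        refine (LieAlgebra.SpecialLinear.sl_bracket _ _ _ _).trans ?_
        rw [hx']
      refine Prod.ext ?_ (Prod.ext ?_ ?_)
      · funext j
        show phi n j.val ((LieAlgebra.ad O S x W : S) : Matrix (Fin (n + 1)) (Fin (n + 1)) O) = 0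
        rw [e, phi_bracket n _ j.2]
      · show ((LieAlgebra.ad O S x W : S) : Matrix (Fin (n + 1)) (Fin (n + 1)) O) _ _ = 0
        rw [e, Matrix.sub_apply, sub_mul n _ _ _ (by omega), mul_sub n _ _ _ (by omega),
          if_neg (by omega), if_neg (by omega), sub_zero]
      · show ((LieAlgebra.ad O S x W : S) : Matrix (Fin (n + 1)) (Fin (n + 1)) O) _ _ = 0
        rw [e, Matrix.sub_apply, sub_mul n _ _ _ (by omega), mul_sub n _ _ _ (by omega),
          if_neg (by omega), if_neg (by omega), sub_zero]
  let eqv : (S ⧸ LinearMap.range (LieAlgebra.ad O S x)) ≃ₗ[O] (Fin n → O) × O × O :=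
    (Submodule.quotEquivOfEq _ _ hker.symm).trans (LinearMap.quotKerEquivOfSurjective Φ hsurj)
  refine ⟨Module.Free.of_equiv eqv.symm, ?_⟩
  rw [LinearEquiv.finrank_eq eqv, Module.finrank_prod, Module.finrank_prod, Module.finrank_fin_fun,
    Module.finrank_self]

end Groth.Agent.S16051
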