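import Groth.Statements.S16052
import Groth.Agent.CAlg.K89.DVRKummer

set_option autoImplicit false
universe u
open Polynomial
open CAlg

namespace Groth.Agent.S16052

/-- Let O be a henselian discrete valuation ring of characteristic zero with algebraically closed
residue field of characteristic p, ϖ a uniformizer and K the fraction field. Let r_1, …, r_m ≥ 1 and
b_1, …, b_m ≥ 1 be integers with gcd(r_i, b_i) = 1 for each i and r_1 + ⋯ + r_m < p, and let v_1, …,
v_m be units of O. Then the splitting field over K of the polynomial ∏_i (y^{r_i} − v_i ϖ^{b_i}) has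
degree lcm(r_1, …, r_m) over K. (In the source O is complete and this polynomial is the y-part of a
deformation y ↦ x² + z² + f(y) of an A_n-singularity with n + 1 = Σ r_i; the proposition goes on to
identify the monodromy element, which is not stated here.) -/
theorem result (O : Type u) [CommRing O] [IsDomain O]
    [IsDiscreteValuationRing O] [HenselianLocalRing O] [CharZero O] [IsAlgClosed (IsLocalRing.ResidueField O)]
    (p : ℕ) [Fact p.Prime] [CharP (IsLocalRing.ResidueField O) p]
    (ϖ : O) (hϖ : Irreducible ϖ) (m : ℕ) (r b : Fin m → ℕ) (v : Fin m → Oˣ)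
    (hr : ∀ i, 1 ≤ r i) (hb : ∀ i, 1 ≤ b i) (hrb : ∀ i, Nat.Coprime (r i) (b i)) (hp : ∑ i, r i < p) :
    Module.finrank (FractionRing O)
        (∏ i, (X ^ (r i) - C (algebraMap O (FractionRing O) ((v i : O) * ϖ ^ (b i))))).SplittingField =
      Finset.univ.lcm r := by
  have hk : ∀ n : ℕ, 1 ≤ n → n < p → (n : IsLocalRing.ResidueField O) ≠ 0 := by
    intro n h1 h2
    rw [Ne, CharP.cast_eq_zero_iff (IsLocalRing.ResidueField O) p]
    exact fun h => absurd (Nat.le_of_dvd h1 h) (by omega)
  have hrp : ∀ i, r i < p := fun i =>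
    lt_of_le_of_lt (Finset.single_le_sum (fun _ _ => Nat.zero_le _) (Finset.mem_univ i)) hp
  have hrk : ∀ i, (r i : IsLocalRing.ResidueField O) ≠ 0 := fun i => hk _ (hr i) (hrp i)
  have hN : ∀ s : Finset (Fin m), ((s.lcm r : ℕ) : IsLocalRing.ResidueField O) ≠ 0 := by
    intro s
    classical
    induction s using Finset.induction_on with
    | empty => simp
    | insert i s hi ih =>
      rw [Finset.lcm_insert]
      intro h
      have h1 : ((r i * s.lcm r : ℕ) : IsLocalRing.ResidueField O) = 0 := by
        obtain ⟨c, hc⟩ := lcm_dvd_mul (r i) (s.lcm r)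
        rw [hc, Nat.cast_mul, h, zero_mul]
      rw [Nat.cast_mul, mul_eq_zero] at h1
      exact h1.elim (hrk i) ih
  have hs := K89.DVRKummer.isSplittingField_prod O (FractionRing O) hϖ r b v hr hrb hrk (hN _)
    (∏ i, (X ^ (r i) - C (algebraMap O (FractionRing O) ((v i : O) * ϖ ^ (b i))))).SplittingField
  have hN0 : Finset.univ.lcm r ≠ 0 := by
    intro h
    exact hN Finset.univ (by rw [h, Nat.cast_zero])
  have hirr := K89.DVRKummer.irreducible_X_pow_sub_C O (FractionRing O) _ hN0 hϖ
  obtain ⟨ζ, hζ⟩ := K89.DVRKummer.exists_isPrimitiveRoot' O (FractionRing O) _ (hN Finset.univ)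
  exact finrank_of_isSplittingField_X_pow_sub_C
    ⟨ζ, (mem_primitiveRoots (Nat.pos_of_ne_zero hN0)).mpr hζ⟩ hirr _

end Groth.Agent.S16052
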