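import Groth.Statements.S16053
import Groth.Agent.CAlg.K89.DVRTame

set_option autoImplicit false
universe u
open Polynomial
open CAlg

namespace Groth.Agent.S16053

/-- Let O be a henselian discrete valuation ring of characteristic zero with algebraically closed
residue field of characteristic p and fraction field K, and let f ∈ O[y] be a monic polynomial of
degree e with 1 ≤ e < p which is Eisenstein at the maximal ideal of O. Then the splitting field of f
over K has degree e over K and the Galois group of f over K is cyclic. (In the source O is complete,
e = n + 1 and f is the y-part y^{n+1} + u_n ϖ^{a_n} y^{n−1} + ⋯ + u_1 ϖ of an A_n-degeneration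
meeting the discriminant transversally; the corollary's conclusion that monodromy acts through a
Coxeter element is not stated here.) -/
theorem result (O : Type u) [CommRing O] [IsDomain O]
    [IsDiscreteValuationRing O] [HenselianLocalRing O] [CharZero O] [IsAlgClosed (IsLocalRing.ResidueField O)]
    (p : ℕ) [Fact p.Prime] [CharP (IsLocalRing.ResidueField O) p]
    (f : O[X]) (hmon : f.Monic) (e : ℕ) (hdeg : f.natDegree = e) (he : 1 ≤ e) (hep : e < p)
    (hf : f.IsEisensteinAt (IsLocalRing.maximalIdeal O)) :
    Module.finrank (FractionRing O) (f.map (algebraMap O (FractionRing O))).SplittingField = e ∧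
      IsCyclic (f.map (algebraMap O (FractionRing O))).Gal := by
  obtain ⟨ϖ, hϖ⟩ := IsDiscreteValuationRing.exists_irreducible O
  subst hdeg
  have hek : (f.natDegree : IsLocalRing.ResidueField O) ≠ 0 := by
    rw [Ne, CharP.cast_eq_zero_iff (IsLocalRing.ResidueField O) p]
    exact fun h => absurd (Nat.le_of_dvd he h) (by omega)
  have hs := K89.DVRTame.isSplittingField_eisenstein O (FractionRing O) f hmon he hek hf ϖ hϖ
    (f.map (algebraMap O (FractionRing O))).SplittingField
  have hirr := K89.DVRKummer.irreducible_X_pow_sub_C O (FractionRing O) f.natDegree (by omega) hϖ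
  obtain ⟨ζ, hζ⟩ := K89.DVRKummer.exists_isPrimitiveRoot' O (FractionRing O) f.natDegree hek
  have hne : (primitiveRoots f.natDegree (FractionRing O)).Nonempty := ⟨ζ, (mem_primitiveRoots he).mpr hζ⟩
  have : NeZero f.natDegree := ⟨by omega⟩
  exact ⟨finrank_of_isSplittingField_X_pow_sub_C hne hirr _, isCyclic_of_isSplittingField_X_pow_sub_C hne hirr _⟩

end Groth.Agent.S16053
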