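import Groth.Statements.S16057
import Groth.Agent.GrLC.K859.ReesMod
-- import your own Groth.Agent.* helpers here

set_option autoImplicit false
universe u
open GrLC

namespace Groth.Agent.S16057

open Polynomial K859.ReesMod

section

variable {A : Type u} [CommRing A] (I : Ideal A) (M : Type u) [AddCommGroup M] [Module A M]

/-- coordinates on the Rees algebra and the Rees module -/
noncomputable def data : Data I M (Rees.degZ (reesAlgebra I)) (Rees.mdegZ (Rees.powFilt I M)) where
  rco n r := (r : A[X]).coeff n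
  phi := (Polynomial.constantCoeff).comp (reesAlgebra I).val.toRingHom
  phi_eq _ := rfl
  rco_mem n r := r.2 n
  rmem_iff _ _ := Iff.rfl
  const a := ⟨algebraMap A (reesAlgebra I) a, fun m hm => by
    change (C a : A[X]).coeff m = 0
    rw [coeff_C, if_neg]
    rintro rfl
    exact hm (by simp), by
    change (C a : A[X]).coeff 0 = a
    rw [coeff_C, if_pos rfl]⟩
  co n :=
    { toFun := fun x => (x : PolynomialModule A M).coeff n
      map_zero' := rfl
      map_add' := fun _ _ => rfl }
  co_mem n x := x.2 n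
  co_ext _ _ h := Subtype.ext (PolynomialModule.ext (Finsupp.ext h))
  mem_iff _ _ := Iff.rfl
  co_smul _ _ _ := PolynomialModule.smul_apply _ _ _
  finsupp x := ⟨(x : PolynomialModule A M).coeff, fun _ => rfl⟩
  exists_of c hc := ⟨⟨PolynomialModule.ofCoeff A c, hc⟩, fun _ => rfl⟩

end

/-- Let A be a Noetherian local ring with maximal ideal m, and I an ideal of A whose radical is m (an
m-primary ideal), and M a finitely generated A-module; let R(I) = ⊕_{n ≥ 0} Iⁿ Xⁿ ⊆ A[X] be the Rees
algebra, graded by the powers of X, with irrelevant ideal R(I)_+ = ⊕_{n ≥ 1} Iⁿ Xⁿ, and M* = ⊕_{n ≥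
0} IⁿM Xⁿ the Rees module of M, a graded R(I)-module; let P ∈ ℚ[t] be the Hilbert–Samuel polynomial
of M with respect to I, that is, P(n) = ℓ_A(M/IⁿM) for all sufficiently large n. Then for every
integer n ≥ 0, writing H^i_{R(I)_+}(M*)_n for the degree-n homogeneous piece of the i-th graded
local cohomology module of M* with support in R(I)_+ (computed from any *injective resolution of M*
in the category of graded R(I)-modules), a module over R(I)_0 = A: each H^i_{R(I)_+}(M*)_n has
finite length, only finitely many of them are nonzero, and P(n) − ℓ_A(M/IⁿM) = Σ_{i ≥ 0} (−1)^i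
ℓ(H^i_{R(I)_+}(M*)_n). -/
theorem result (A : Type u) [CommRing A]
    [IsNoetherianRing A] [IsLocalRing A] (I : Ideal A) (hI : I.radical = IsLocalRing.maximalIdeal A)
    (M : Type u) [AddCommGroup M] [Module A M] [Module.Finite A M] (P : Polynomial ℚ)
    (hP : ∃ N : ℕ, ∀ n : ℕ, N ≤ n →
      P.eval (n : ℚ) = ((Module.length A (M ⧸ (I ^ n • (⊤ : Submodule A M)))).toNat : ℚ))
    (E : GrLC.StarInjRes (Rees.degZ (reesAlgebra I)) (Rees.mdegZ (Rees.powFilt I M))) (n : ℕ) :
    (∀ i : ℕ, IsFiniteLength (GrLC.deg0 (Rees.degZ (reesAlgebra I))) (E.Hcomp (GrSyz.irrel (Rees.degZ (reesAlgebra I))) i (n : ℤ))) ∧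
      Set.Finite {i : ℕ | E.Hcomp (GrSyz.irrel (Rees.degZ (reesAlgebra I))) i (n : ℤ) ≠ ⊥} ∧
      P.eval (n : ℚ) - ((Module.length A (M ⧸ (I ^ n • (⊤ : Submodule A M)))).toNat : ℚ) =
        finsum (fun i : ℕ => (-1 : ℚ) ^ i *
          ((Module.length (GrLC.deg0 (Rees.degZ (reesAlgebra I))) (E.Hcomp (GrSyz.irrel (Rees.degZ (reesAlgebra I))) i (n : ℤ))).toNat : ℚ)) := by
  have hfin : Module.Finite (reesAlgebra I) (Rees.powFilt I M).submodule := by
    rw [Module.Finite.iff_fg]
    refine (Ideal.Filtration.submodule_fg_iff_stable _ fun i => ?_).2 (I.stableFiltration_stable ⊤)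
    exact IsNoetherian.noetherian _
  refine (data I M).final hI (GrSyz.irrel (Rees.degZ (reesAlgebra I))) ?_ E P hP n
  change Ideal.span _ = _
  congr 1
  ext r
  simp only [Set.mem_iUnion, Set.mem_Ioi, exists_prop]
  rfl

end Groth.Agent.S16057
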