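import Groth.Statements.S16059
import Groth.Agent.FiltBl.K830.CartNorm2

set_option autoImplicit false
universe u
open FiltBl

namespace Groth.Agent.S16059

open AlgebraicGeometry in
/-- Let A be a Noetherian local ring with maximal ideal m that is a quotient of a Gorenstein ring, and F
a filtration of ideals on A (F^0 = A ⊇ F^1 ⊇ ⋯, F^i F^j ⊆ F^{i+j}) with every F^n nonzero and ⋂ F^n
= 0, whose Rees algebra R = ⊕_{n ≥ 0} F^n T^n is finitely generated over A and with F^1 of height at
least 2. Assume moreover that A is an integrally closed domain containing a field, that F^1 is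
m-primary, that the associated graded ring G = ⊕_{n ≥ 0} F^n/F^{n+1} is an integral domain, and that
there is no integer r ≥ 2 such that all nonzero homogeneous pieces of G lie in degrees divisible by
r. Let X = Proj R be the filtered blowing-up, with its twisting sheaves O_X(n), and E = Proj G,
which is the closed subscheme of X defined by the homogeneous ideal ⊕_{n ≥ 0} F^{n+1} T^n of R, so
that the ideal sheaf of E in X is isomorphic to O_X(1) and E is an effective Cartier divisor on X
exactly when O_X(1) is an invertible O_X-module. If O_X(1) is invertible (locally isomorphic to O_X)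
and E is normal (every local ring of Proj G is an integrally closed domain), then, writing Ḡ for the
integral closure of G in its fraction field, the G-module Ḡ/G has finite length. -/
theorem result
    (A : Type u) [CommRing A] [IsNoetherianRing A] [IsLocalRing A]
    (S : Type u) [CommRing S] [LocCoh.IsGorensteinRing S] (π : S →+* A) (hπ : Function.Surjective π)
    (𝓕 : FiltBl.IdealFiltration A) (hne : ∀ n, 𝓕.F n ≠ ⊥) (hsep : ⨅ n, 𝓕.F n = ⊥)
    (hfg : Algebra.FiniteType A 𝓕.rees) (hht : 2 ≤ (𝓕.F 1).height)
    [IsDomain A] [IsIntegrallyClosed A] (k : Type u) [Field k] [Algebra k A]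
    (hI : (𝓕.F 1).radical = IsLocalRing.maximalIdeal A) [IsDomain (AssocGr.GrRing 𝓕)]
    (hr : ∀ r : ℕ, 2 ≤ r → ∃ n : ℕ, ¬ r ∣ n ∧ AssocGr.gr 𝓕 n ≠ ⊥)
    (hcart : PicF.IsInvertible (GrTwist.twist (Rees.deg 𝓕.rees) 1))
    (hnor : ∀ x : Proj (AssocGr.gr 𝓕), IsDomain ((Proj (AssocGr.gr 𝓕)).presheaf.stalk x) ∧
      IsIntegrallyClosed ((Proj (AssocGr.gr 𝓕)).presheaf.stalk x))
    (L : Type u) [Field L] [Algebra (AssocGr.GrRing 𝓕) L] [IsFractionRing (AssocGr.GrRing 𝓕) L] :
    IsFiniteLength (AssocGr.GrRing 𝓕) (↥(integralClosure (AssocGr.GrRing 𝓕) L) ⧸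
      LinearMap.range (Algebra.linearMap (AssocGr.GrRing 𝓕) ↥(integralClosure (AssocGr.GrRing 𝓕) L))) := by
  exact K830.CartNorm2.main 𝓕 hfg hI hr hcart (fun x => (hnor x).2) L

end Groth.Agent.S16059
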