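import Groth.Statements.S16071
import Mathlib.Data.Nat.Prime.Factorial
import Mathlib.Data.ZMod.Basic
import Mathlib.LinearAlgebra.Basis.Defs
import Mathlib.LinearAlgebra.TensorProduct.Basis

set_option autoImplicit false
universe u
open CartDual

namespace Groth.Agent.S16071

section

open TensorProduct

variable (p : ℕ) [hp : Fact p.Prime] (R : Type u) [CommRing R] [CharP R p]

include hp in
theorem nontriv : Nontrivial R := CharP.nontrivial_of_char_ne_one (R := R) (v := p) hp.out.ne_one

/-- The linear form dual to `x`. -/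
noncomputable def δ : CartDual.D R (AlphaP.A p R) :=
  have := nontriv p R
  WithConv.toConv ((AlphaP.basis p R).coord ⟨1, hp.out.one_lt⟩)

theorem δ_pow (i : ℕ) : δ p R (AlphaP.x p R ^ i) = if i = 1 then 1 else 0 := by
  have := nontriv p R
  by_cases hi : i < p
  · have h : AlphaP.x p R ^ i = AlphaP.basis p R ⟨i, hi⟩ := by simp
    rw [h]
    change (AlphaP.basis p R).coord ⟨1, hp.out.one_lt⟩ (AlphaP.basis p R ⟨i, hi⟩) = _
    rw [Module.Basis.coord_apply, Module.Basis.repr_self, Finsupp.single_apply]
    simp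
  · rw [AlphaP.x_pow_of_le p R (not_lt.1 hi), if_neg]
    · simp
    · have := hp.out.one_lt
      omega

theorem D_ext {y z : CartDual.D R (AlphaP.A p R)}
    (h : ∀ i : ℕ, y (AlphaP.x p R ^ i) = z (AlphaP.x p R ^ i)) : y = z := by
  have := nontriv p R
  apply WithConv.ext
  apply (AlphaP.basis p R).ext
  intro i
  rw [AlphaP.basis_apply]
  exact h i

theorem counit_pow (i : ℕ) : Coalgebra.counit (R := R) (AlphaP.x p R ^ i) = if i = 0 then 1 else 0 := by
  have h : Coalgebra.counit (R := R) (AlphaP.x p R ^ i) = (AlphaP.counitAlg p R) (AlphaP.x p R ^ i) := rfl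
  rw [h, map_pow, AlphaP.counitAlg_x]
  by_cases hi : i = 0
  · simp [hi]
  · simp [hi]

theorem comul_pow (i : ℕ) : Coalgebra.comul (R := R) (AlphaP.x p R ^ i) =
    ∑ m ∈ Finset.range (i + 1), (i.choose m : R) • ((AlphaP.x p R ^ m) ⊗ₜ[R] (AlphaP.x p R ^ (i - m))) := by
  have h : Coalgebra.comul (R := R) (AlphaP.x p R ^ i) = (AlphaP.comulAlg p R) (AlphaP.x p R ^ i) := rfl
  rw [h, map_pow, AlphaP.comulAlg_x, (Commute.all _ _).add_pow]
  refine Finset.sum_congr rfl fun m _ => ?_
  rw [Algebra.TensorProduct.tmul_pow, Algebra.TensorProduct.tmul_pow, Algebra.TensorProduct.tmul_mul_tmul,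
    one_pow, one_pow, mul_one, one_mul]
  rw [Nat.cast_smul_eq_nsmul, nsmul_eq_mul, mul_comm]

theorem mul_apply_pow (y z : CartDual.D R (AlphaP.A p R)) (k : ℕ) :
    (y * z) (AlphaP.x p R ^ k) = ∑ m ∈ Finset.range (k + 1),
      (k.choose m : R) * (y (AlphaP.x p R ^ m) * z (AlphaP.x p R ^ (k - m))) := by
  rw [CartDual.coe_apply, LinearMap.convMul_apply, comul_pow]
  simp only [map_sum, map_smul, TensorProduct.map_tmul, LinearMap.mul'_apply, smul_eq_mul]

theorem δ_pow_pow (n k : ℕ) : (δ p R ^ n) (AlphaP.x p R ^ k) = if k = n then (n.factorial : R) else 0 := by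
  induction n generalizing k with
  | zero =>
    rw [pow_zero, CartDual.coe_apply, LinearMap.convOne_def]
    simp only [WithConv.ofConv_toConv, LinearMap.comp_apply, counit_pow]
    split_ifs <;> simp
  | succ n ih =>
    rw [pow_succ, mul_apply_pow]
    by_cases hk : k = n + 1
    · subst hk
      rw [Finset.sum_eq_single n]
      · rw [ih, δ_pow, if_pos rfl, if_pos rfl, if_pos (by omega), Nat.choose_succ_self_right,
          Nat.factorial_succ]
        push_cast
        ring
      · intro m hm hmn
        rw [ih, if_neg hmn]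
        ring
      · intro h
        exact absurd (Finset.mem_range.2 (by omega)) h
    · rw [if_neg hk]
      apply Finset.sum_eq_zero
      intro m hm
      rw [ih, δ_pow]
      by_cases hmn : m = n
      · subst hmn
        rw [if_neg (by omega : ¬ (k - m = 1))]
        ring
      · rw [if_neg hmn]
        ring

theorem δ_pow_p : δ p R ^ p = 0 := by
  apply D_ext
  intro k
  rw [δ_pow_pow]
  have h0 : ((p.factorial : ℕ) : R) = 0 := by
    rw [CharP.cast_eq_zero_iff R p]
    exact (Nat.Prime.dvd_factorial hp.out).2 le_rfl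
  rw [h0]
  simp

theorem comul_δ : Coalgebra.comul (R := R) (δ p R) = δ p R ⊗ₜ[R] 1 + 1 ⊗ₜ[R] δ p R := by
  have := nontriv p R
  apply (CartDual.ev₂ R (AlphaP.A p R)).injective
  apply ((AlphaP.basis p R).tensorProduct (AlphaP.basis p R)).ext
  rintro ⟨i, j⟩
  rw [Module.Basis.tensorProduct_apply, AlphaP.basis_apply, AlphaP.basis_apply]
  rw [CartDual.ev₂_coalgebra_comul_tmul, map_add, LinearMap.add_apply, CartDual.ev₂_tmul, CartDual.ev₂_tmul,
    ← pow_add, δ_pow, δ_pow, δ_pow]
  have h1 : ∀ k : ℕ, (1 : CartDual.D R (AlphaP.A p R)) (AlphaP.x p R ^ k) = if k = 0 then 1 else 0 := by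
    intro k
    have := δ_pow_pow p R 0 k
    rw [pow_zero] at this
    rw [this]
    simp
  rw [h1, h1]
  rcases i with ⟨i, hi⟩
  rcases j with ⟨j, hj⟩
  dsimp only
  by_cases hi0 : i = 0
  · subst hi0
    simp
  · by_cases hj0 : j = 0
    · subst hj0
      simp [hi0]
    · rw [if_neg (by omega), if_neg hi0, if_neg hj0]
      ring

/-- The map `x ↦ δ`. -/
noncomputable def θalg : AlphaP.A p R →ₐ[R] CartDual.D R (AlphaP.A p R) :=
  AlphaP.lift p R (δ p R) (δ_pow_p p R)

theorem θalg_x : θalg p R (AlphaP.x p R) = δ p R := AlphaP.lift_x _ _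

/-- The map `x ↦ δ` as a bialgebra map. -/
noncomputable def θ : AlphaP.A p R →ₐc[R] CartDual.D R (AlphaP.A p R) :=
  BialgHom.ofAlgHom (θalg p R)
    (by
      apply AlphaP.algHom_ext
      rw [AlgHom.comp_apply, θalg_x]
      change (δ p R) 1 = Coalgebra.counit (R := R) (AlphaP.x p R)
      rw [AlphaP.counit_x]
      have := δ_pow p R 0
      rw [pow_zero] at this
      rw [this]
      simp)
    (by
      apply AlphaP.algHom_ext
      rw [AlgHom.comp_apply, AlgHom.comp_apply, θalg_x]
      change _ = Coalgebra.comul (R := R) (δ p R)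
      rw [comul_δ, Bialgebra.comulAlgHom_apply, AlphaP.comul_x, map_add, Algebra.TensorProduct.map_tmul,
        Algebra.TensorProduct.map_tmul, θalg_x, map_one])

theorem θ_x : θ p R (AlphaP.x p R) = δ p R := θalg_x p R

theorem θ_pow (n : ℕ) : θ p R (AlphaP.x p R ^ n) = δ p R ^ n := by
  rw [map_pow, θ_x]

theorem isUnit_factorial (i : ℕ) (hi : i < p) : IsUnit (i.factorial : R) := by
  have h1 : Nat.Coprime i.factorial p :=
    (Nat.Prime.coprime_iff_not_dvd hp.out).2 (by
      rw [Nat.Prime.dvd_factorial hp.out]; omega) |>.symm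
  have h2 : IsUnit ((i.factorial : ℕ) : ZMod p) := (ZMod.unitOfCoprime _ h1).isUnit
  have h3 := h2.map (ZMod.castHom (dvd_refl p) R)
  simpa using h3

theorem θ_bij : Function.Bijective (θ p R) := by
  have := nontriv p R
  have hkey : ∀ (c : Fin p → R) (k : Fin p), θ p R (∑ i, c i • AlphaP.basis p R i) (AlphaP.x p R ^ (k : ℕ)) =
      c k * ((k : ℕ).factorial : R) := by
    intro c k
    rw [map_sum, CartDual.coe_apply, WithConv.ofConv_sum, LinearMap.sum_apply, Finset.sum_eq_single k]
    · rw [AlphaP.basis_apply, map_smul, θ_pow, WithConv.ofConv_smul, LinearMap.smul_apply, ← CartDual.coe_apply,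
        δ_pow_pow, if_pos rfl, smul_eq_mul]
    · intro i _ hik
      rw [AlphaP.basis_apply, map_smul, θ_pow, WithConv.ofConv_smul, LinearMap.smul_apply, ← CartDual.coe_apply,
        δ_pow_pow, if_neg, smul_zero]
      intro h
      exact hik (Fin.ext h.symm)
    · intro h; exact absurd (Finset.mem_univ k) h
  constructor
  · intro a b hab
    apply (AlphaP.basis p R).ext_elem
    intro k
    have ha := hkey (fun i => (AlphaP.basis p R).repr a i) k
    have hb := hkey (fun i => (AlphaP.basis p R).repr b i) k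
    rw [Module.Basis.sum_repr] at ha hb
    rw [hab, hb] at ha
    exact ((isUnit_factorial p R k k.2).mul_right_cancel ha).symm
  · intro y
    refine ⟨∑ i : Fin p, (y (AlphaP.x p R ^ (i : ℕ)) * Ring.inverse ((i : ℕ).factorial : R)) • AlphaP.basis p R i, ?_⟩
    apply WithConv.ext
    apply (AlphaP.basis p R).ext
    intro k
    have := hkey (fun i : Fin p => y (AlphaP.x p R ^ (i : ℕ)) * Ring.inverse ((i : ℕ).factorial : R)) k
    rw [mul_assoc, Ring.inverse_mul_cancel _ (isUnit_factorial p R k k.2), mul_one] at this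
    rw [AlphaP.basis_apply]
    exact this

end

/-- Let p be a prime, R a commutative ring of characteristic p and A = R[X]/(X^p) the Hopf algebra of
α_p over Spec R, with X primitive. Then the Cartier dual of α_p is again α_p: there is a bialgebra
isomorphism e from the dual Hopf algebra Hom_R(A, R), with the transposed structure maps, to A,
whose inverse sends X to the linear form dual to X with respect to the basis 1, X, …, X^{p-1} of A
(so e⁻¹(X) takes the value 1 on X and 0 on the other powers X^i, i < p). (Any commutative base ring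
of characteristic p is allowed.) -/
theorem result (p : ℕ) [Fact p.Prime] (R : Type u) [CommRing R] [CharP R p] :
    ∃ e : CartDual.D R (AlphaP.A p R) ≃ₐc[R] AlphaP.A p R,
      ∀ i : ℕ, i < p → (e.symm (AlphaP.x p R)) (AlphaP.x p R ^ i) = if i = 1 then 1 else 0 := by
  let e := BialgEquiv.ofBijective (R := R) (A := AlphaP.A p R) (B := CartDual.D R (AlphaP.A p R))
    (θ p R) (θ_bij p R)
  refine ⟨e.symm, fun i _ => ?_⟩
  have h : (e.symm.symm) (AlphaP.x p R) = δ p R := θ_x p R
  rw [h]
  exact δ_pow p R i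

end Groth.Agent.S16071
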