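import Groth.Statements.S16072
-- (no helper imports)

set_option autoImplicit false
universe u
open Hopf

namespace Groth.Agent.S16072

/-- Let p be a prime and R a commutative ring of characteristic p (p = 0 in R, R nonzero). Then the
constant group scheme ℤ/p and the group scheme μ_p of p-th roots of unity over Spec R are not
isomorphic: there is no R-bialgebra isomorphism between the Hopf algebra Maps(ℤ/p, R) of functions
on the cyclic group of order p and the group algebra R[ℤ/p]. (Any nonzero commutative base ring of
characteristic p is allowed. The published statement allows any ring R with p·R = 0; over the zero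
ring both Hopf algebras are the zero ring and hence isomorphic, so R is assumed nonzero here.) -/
theorem result (p : ℕ) [Fact p.Prime] (R : Type u) [CommRing R]
    [CharP R p] :
    IsEmpty (ConstGrp.F R (Multiplicative (ZMod p)) ≃ₐc[R] MonoidAlgebra R (Multiplicative (ZMod p))) := by
  refine ⟨fun E => ?_⟩
  have hp : p.Prime := Fact.out
  have : Nontrivial R := CharP.nontrivial_of_char_ne_one (R := R) hp.ne_one
  obtain ⟨m, hm⟩ := Ideal.exists_maximal R
  let _ : Field (R ⧸ m) := Ideal.Quotient.field m
  have hchar : CharP (R ⧸ m) p := by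
    have := (CharP.charP_iff_prime_eq_zero (R := R ⧸ m) hp).2 ?_
    · exact this
    · rw [← map_natCast (algebraMap R (R ⧸ m)) p, CharP.cast_eq_zero R p, map_zero]
  let c : Multiplicative (ZMod p) → (MonoidAlgebra R (Multiplicative (ZMod p)) →ₐ[R] (R ⧸ m)) := fun g =>
    (Algebra.ofId R (R ⧸ m)).comp
      ((ConstGrp.ev R g).comp (E.symm : MonoidAlgebra R (Multiplicative (ZMod p)) →ₐ[R] _))
  have h : ∀ g g', c g = c g' := by
    intro g g'
    have key : ∀ g x, c g (MonoidAlgebra.of R _ x) = 1 := by
      intro g x
      have : c g (MonoidAlgebra.of R _ x) ^ p = 1 := by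
        rw [← map_pow, ← map_pow]
        have : x ^ p = 1 := by
          have := pow_card_eq_one' (G := Multiplicative (ZMod p)) (x := x)
          rwa [Nat.card_eq_fintype_card, Fintype.card_multiplicative, ZMod.card] at this
        rw [this, map_one, map_one]
      have h3 : (c g (MonoidAlgebra.of R _ x) - 1) ^ p = 0 := by
        rw [sub_pow_char, this]; simp
      exact sub_eq_zero.1 (pow_eq_zero_iff hp.ne_zero |>.1 h3)
    apply MonoidAlgebra.algHom_ext'
    · apply MonoidHom.ext
      intro x
      change c g (MonoidAlgebra.of R _ x) = c g' (MonoidAlgebra.of R _ x)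
      rw [key, key]
    · exact Subsingleton.elim _ _
  have h1 := congrArg (fun φ : MonoidAlgebra R (Multiplicative (ZMod p)) →ₐ[R] (R ⧸ m) =>
    φ (E (ConstGrp.e R (1 : Multiplicative (ZMod p))))) (h 1 (Multiplicative.ofAdd 1))
  have h2 : ∀ g, c g (E (ConstGrp.e R (1 : Multiplicative (ZMod p)))) =
      algebraMap R (R ⧸ m) (ConstGrp.e R (1 : Multiplicative (ZMod p)) g) := by
    intro g
    change algebraMap R (R ⧸ m) ((E.symm (E (ConstGrp.e R (1 : Multiplicative (ZMod p))))) g) = _
    rw [BialgEquiv.symm_apply_apply]
  simp only [h2] at h1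
  rw [ConstGrp.e_apply_self, ConstGrp.e_apply_of_ne, map_one, map_zero] at h1
  · exact one_ne_zero h1
  · intro h
    have : (1 : ZMod p) = 0 := h
    exact one_ne_zero this

end Groth.Agent.S16072
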