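import Groth.Statements.S16073
-- (no helper imports)

set_option autoImplicit false
universe u
open Hopf

namespace Groth.Agent.S16073

/-- Let p be a prime and R a commutative ring of characteristic p (p = 0 in R, R nonzero). Then the
constant group scheme ℤ/p and α_p over Spec R are not isomorphic: there is no R-bialgebra
isomorphism between the Hopf algebra Maps(ℤ/p, R) of functions on the cyclic group of order p and
the Hopf algebra R[X]/(X^p) of α_p (X primitive). (Any nonzero commutative base ring of
characteristic p is allowed. The published statement allows any ring R with p·R = 0; over the zero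
ring both Hopf algebras are the zero ring and hence isomorphic, so R is assumed nonzero here.) -/
theorem result (p : ℕ) [Fact p.Prime] (R : Type u) [CommRing R] [CharP R p] :
    IsEmpty (ConstGrp.F R (Multiplicative (ZMod p)) ≃ₐc[R] AlphaP.A p R) := by
  refine ⟨fun E => ?_⟩
  have hp : p.Prime := Fact.out
  have : Nontrivial R := CharP.nontrivial_of_char_ne_one (R := R) hp.ne_one
  obtain ⟨m, hm⟩ := Ideal.exists_maximal R
  let _ : Field (R ⧸ m) := Ideal.Quotient.field m
  let c : Multiplicative (ZMod p) → (AlphaP.A p R →ₐ[R] (R ⧸ m)) := fun g =>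
    (Algebra.ofId R (R ⧸ m)).comp ((ConstGrp.ev R g).comp (E.symm : AlphaP.A p R →ₐ[R] _))
  have h : ∀ g g', c g = c g' := by
    intro g g'
    apply AlphaP.algHom_ext
    have key : ∀ g, c g (AlphaP.x p R) = 0 := by
      intro g
      have : c g (AlphaP.x p R) ^ p = 0 := by
        rw [← map_pow, AlphaP.x_pow, map_zero]
      exact pow_eq_zero_iff hp.ne_zero |>.1 this
    rw [key, key]
  have h1 := congrArg (fun φ : AlphaP.A p R →ₐ[R] (R ⧸ m) => φ (E (ConstGrp.e R (1 : Multiplicative (ZMod p)))))
    (h 1 (Multiplicative.ofAdd 1))
  have h2 : ∀ g, c g (E (ConstGrp.e R (1 : Multiplicative (ZMod p)))) =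
      algebraMap R (R ⧸ m) (ConstGrp.e R (1 : Multiplicative (ZMod p)) g) := by
    intro g
    change algebraMap R (R ⧸ m) ((E.symm (E (ConstGrp.e R (1 : Multiplicative (ZMod p))))) g) = _
    rw [BialgEquiv.symm_apply_apply]
  simp only [h2] at h1
  rw [ConstGrp.e_apply_self, ConstGrp.e_apply_of_ne, map_one, map_zero] at h1
  · exact one_ne_zero h1
  · intro h
    have : (1 : ZMod p) = 0 := h
    exact one_ne_zero this

end Groth.Agent.S16073
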