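import Groth.Statements.S16074
import Groth.Agent.Hopf.K503.GrpAlg

set_option autoImplicit false
universe u
open Hopf
open scoped TensorProduct

namespace Groth.Agent.S16074

/-- Let p be a prime and R a commutative ring of characteristic p (p = 0 in R, R nonzero). Then μ_p and
α_p over Spec R are not isomorphic: there is no R-bialgebra isomorphism between the group algebra
R[ℤ/p] of the cyclic group of order p (group elements group-like) and the Hopf algebra R[X]/(X^p) of
α_p (X primitive), although the underlying R-algebras R[ℤ/p] = R[Y]/(Y^p) and R[X]/(X^p) are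
isomorphic. (Any nonzero commutative base ring of characteristic p is allowed. The published
statement allows any ring R with p·R = 0; over the zero ring both Hopf algebras are the zero ring
and hence isomorphic, so R is assumed nonzero here.) -/
theorem result (p : ℕ) [Fact p.Prime] (R : Type u) [CommRing R] [CharP R p] :
    IsEmpty (MonoidAlgebra R (Multiplicative (ZMod p)) ≃ₐc[R] AlphaP.A p R) := by
  refine ⟨fun E => ?_⟩
  have hp : p.Prime := Fact.out
  have : Nontrivial R := CharP.nontrivial_of_char_ne_one (R := R) hp.ne_one
  have h1 : Coalgebra.comul (R := R) (E.symm (AlphaP.x p R)) =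
      (E.symm (AlphaP.x p R)) ⊗ₜ[R] (1 : MonoidAlgebra R (Multiplicative (ZMod p))) +
        (1 : MonoidAlgebra R (Multiplicative (ZMod p))) ⊗ₜ[R] (E.symm (AlphaP.x p R)) := by
    rw [← CoalgHomClass.map_comp_comul_apply E.symm, AlphaP.comul_x, map_add, TensorProduct.map_tmul,
      TensorProduct.map_tmul]
    simp
  have h2 := K503.GrpAlg.eq_zero_of_primitive R _ h1
  have h3 : AlphaP.x p R = 0 := by
    rw [← BialgEquiv.apply_symm_apply E (AlphaP.x p R), h2, map_zero]
  have h4 := AlphaP.basis_apply p R ⟨1, hp.one_lt⟩
  rw [pow_one, h3] at h4
  exact (AlphaP.basis p R).ne_zero _ h4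

end Groth.Agent.S16074
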