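import Groth.Statements.S16075
import Groth.Agent.Hopf.K503.AlphaPrim

set_option autoImplicit false
universe u
open Hopf
open scoped TensorProduct

namespace Groth.Agent.S16075

/-- Let p be a prime, T a commutative ring of characteristic p (p = 0 in T, T nonzero) and A =
T[X]/(X^p) the Hopf algebra of α_p over Spec T, with X primitive. Then the endomorphisms of the
T-group α_{p,T} are exactly the scalings: every T-bialgebra endomorphism f of A has f(X) = λ·X for a
unique λ ∈ T, and for every λ ∈ T there is a T-bialgebra endomorphism f of A with f(X) = λ·X. So the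
endomorphisms of α_{p,T} correspond bijectively to the elements of T. (Only this bijection is
stated; that it turns addition and composition of endomorphisms into addition and multiplication in
T, and its naturality in T, are not stated here. The zero ring, allowed as T in the published
statement, is excluded by the characteristic hypothesis here.) -/
theorem result (p : ℕ) [Fact p.Prime] (T : Type u) [CommRing T] [CharP T p] :
    (∀ f : AlphaP.A p T →ₐc[T] AlphaP.A p T, ∃! c : T, f (AlphaP.x p T) = c • AlphaP.x p T) ∧
      (∀ c : T, ∃ f : AlphaP.A p T →ₐc[T] AlphaP.A p T, f (AlphaP.x p T) = c • AlphaP.x p T) := by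
  have hp : p.Prime := Fact.out
  have : Nontrivial T := CharP.nontrivial_of_char_ne_one (R := T) hp.ne_one
  have hx : ∀ c : T, c • AlphaP.x p T = 0 → c = 0 := by
    intro c hc
    have h5 := congrArg ((AlphaP.basis p T).coord ⟨1, hp.one_lt⟩) hc
    rw [map_smul, map_zero, ← pow_one (AlphaP.x p T), K503.AlphaPrim.basis_coord_pow, if_pos rfl, smul_eq_mul,
      mul_one] at h5
    exact h5
  refine ⟨fun f => ?_, fun c => ?_⟩
  · have h1 : Coalgebra.comul (R := T) (f (AlphaP.x p T)) =
        (f (AlphaP.x p T)) ⊗ₜ[T] (1 : AlphaP.A p T) + (1 : AlphaP.A p T) ⊗ₜ[T] (f (AlphaP.x p T)) := by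
      rw [← CoalgHomClass.map_comp_comul_apply f, AlphaP.comul_x, map_add, TensorProduct.map_tmul,
        TensorProduct.map_tmul]
      simp
    obtain ⟨c, hc⟩ := K503.AlphaPrim.primitive_eq p T _ h1
    refine ⟨c, hc, fun d hd => ?_⟩
    have : (d - c) • AlphaP.x p T = 0 := by rw [sub_smul, ← hd, ← hc, sub_self]
    exact sub_eq_zero.1 (hx _ this)
  · have hc : (c • AlphaP.x p T) ^ p = 0 := by rw [smul_pow, AlphaP.x_pow, smul_zero]
    refine ⟨BialgHom.ofAlgHom (AlphaP.lift p T (c • AlphaP.x p T) hc) ?_ ?_, ?_⟩
    · apply AlphaP.algHom_ext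
      simp
    · apply AlphaP.algHom_ext
      simp [TensorProduct.smul_tmul', smul_add]
    · exact AlphaP.lift_x (p := p) (c • AlphaP.x p T) hc

end Groth.Agent.S16075
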