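import Groth.Statements.S16076
import Groth.Agent.Versch.K875.VBasis
import Mathlib.Data.Nat.Choose.Sum
-- import your own Groth.Agent.* helpers here

set_option autoImplicit false
universe u
open scoped TensorProduct
open Versch

namespace Groth.Agent.S16076

section aux

variable (p : ℕ) [Fact p.Prime] (R : Type u) [CommRing R] [CharP R p]

theorem comul_x_pow (m : ℕ) : Coalgebra.comul (R := R) (AlphaP.x p R ^ m) =
    ∑ j ∈ Finset.range (m + 1), (m.choose j : R) • ((AlphaP.x p R ^ j) ⊗ₜ[R] (AlphaP.x p R ^ (m - j))) := by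
  rw [Bialgebra.comul_pow, AlphaP.comul_x, (Commute.all _ _).add_pow]
  refine Finset.sum_congr rfl fun j _ => ?_
  rw [Algebra.TensorProduct.tmul_pow, Algebra.TensorProduct.tmul_pow, one_pow, one_pow,
    Algebra.TensorProduct.tmul_mul_tmul, one_mul, mul_one, mul_comm, Nat.cast_smul_eq_nsmul R,
    nsmul_eq_mul]

/-- A form supported in degree `i`. -/
def Deg (i : ℕ) (f : CartDual.D R (AlphaP.A p R)) : Prop := ∀ m : ℕ, m ≠ i → f (AlphaP.x p R ^ m) = 0

variable {p R}

theorem Deg.mul {i j : ℕ} {f g : CartDual.D R (AlphaP.A p R)} (hf : Deg p R i f) (hg : Deg p R j g) :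
    Deg p R (i + j) (f * g) := by
  intro m hm
  rw [LinearMap.convMul_apply, comul_x_pow, map_sum, map_sum]
  refine Finset.sum_eq_zero fun l hl => ?_
  rw [Finset.mem_range] at hl
  rw [map_smul, map_smul]
  change _ • (f (AlphaP.x p R ^ l) * g (AlphaP.x p R ^ (m - l))) = 0
  by_cases h : l = i
  · rw [hg (m - l) (by omega), mul_zero, smul_zero]
  · rw [hf l h, zero_mul, smul_zero]

theorem Deg.one : Deg p R 0 1 := by
  intro m hm
  rw [LinearMap.convOne_apply, Bialgebra.counit_pow, AlphaP.counit_x, zero_pow hm, map_zero]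

theorem Deg.pow {i : ℕ} {f : CartDual.D R (AlphaP.A p R)} (hf : Deg p R i f) (n : ℕ) :
    Deg p R (i * n) (f ^ n) := by
  induction n with
  | zero => rw [pow_zero, mul_zero]; exact Deg.one
  | succ n ih => rw [pow_succ, mul_add, mul_one]; exact ih.mul hf

theorem Deg.eq_zero [Nontrivial R] {i : ℕ} {f : CartDual.D R (AlphaP.A p R)} (hf : Deg p R i f) (hi : p ≤ i) :
    f = 0 := by
  apply WithConv.ext
  apply (AlphaP.basis p R).ext
  intro j
  rw [AlphaP.basis_apply]
  exact hf j (by have := j.isLt; omega)

end aux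


/-- Let p be a prime, R a commutative ring of characteristic p and A = R[X]/(X^p) the Hopf algebra of
α_p over Spec R, with X primitive. Let v : A → A ⊗_R R^(Frob) be the comorphism of the Verschiebung
V : α_p^(p) → α_p (the ring map whose transpose under the canonical pairing is the relative
Frobenius of the dual Hopf algebra Hom_R(A, R)). Then V is the trivial homomorphism: v is the
composite of the counit ε : A → R, the identity of underlying rings R → R^(Frob) and the inclusion
of the twisted factor R^(Frob) → A ⊗_R R^(Frob), i.e. v(a) = 1 ⊗ ε(a). (Any commutative base ring of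
characteristic p is allowed.) -/
theorem result (p : ℕ) [Fact p.Prime] (R : Type u) [CommRing R] [CharP R p]
    (v : AlphaP.A p R →+* FrobAlg.BaseChange p R (AlphaP.A p R))
    (hv : Versch.IsVerschiebung p R (AlphaP.A p R) v) :
    v = ((Algebra.TensorProduct.includeRight (R := R) (A := AlphaP.A p R) (B := FrobAlg.Twist p R)).toRingHom.comp
          (FrobAlg.toTwist p R).toRingHom).comp (Bialgebra.counitAlgHom R (AlphaP.A p R)).toRingHom := by
  have hp : p.Prime := Fact.out
  have : Nontrivial R := CharP.nontrivial_of_char_ne_one (R := R) hp.ne_one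
  have h := K875.VBasis.isDB_basis (R := R) (AlphaP.basis p R)
  have hdeg : ∀ i : Fin p, Deg p R i (WithConv.toConv ((AlphaP.basis p R).coord i)) := by
    intro i m hm
    change (AlphaP.basis p R).coord i (AlphaP.x p R ^ m) = 0
    by_cases hmp : m < p
    · have : AlphaP.x p R ^ m = AlphaP.basis p R ⟨m, hmp⟩ := by rw [AlphaP.basis_apply]
      rw [this, Module.Basis.coord_apply, Module.Basis.repr_self, Finsupp.single_eq_of_ne]
      intro h
      exact hm (congrArg Fin.val h).symm
    · rw [AlphaP.x_pow_of_le p R (not_lt.mp hmp), map_zero]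
  let i0 : Fin p := ⟨0, hp.pos⟩
  have h0 : (WithConv.toConv ((AlphaP.basis p R).coord i0) : CartDual.D R (AlphaP.A p R)) = 1 := by
    apply WithConv.ext
    apply (AlphaP.basis p R).ext
    intro j
    change (AlphaP.basis p R).coord i0 (AlphaP.basis p R j) = (1 : CartDual.D R (AlphaP.A p R)) (AlphaP.basis p R j)
    rw [Module.Basis.coord_apply, Module.Basis.repr_self, LinearMap.convOne_apply, AlphaP.basis_apply,
      Bialgebra.counit_pow, AlphaP.counit_x]
    by_cases hj : j = i0
    · subst hj
      rw [Finsupp.single_eq_same]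
      simp [i0]
    · have hj' : (j : ℕ) ≠ 0 := fun h => hj (Fin.ext h)
      rw [Finsupp.single_eq_of_ne (fun h => hj h.symm), zero_pow hj', map_zero]
  refine RingHom.ext fun a => ?_
  rw [K875.VBase.verschiebung_apply p hv h, Finset.sum_eq_single i0]
  · rw [h0, one_pow, AlphaP.basis_apply, pow_zero]
    rfl
  · intro i _ hi
    have hi' : 1 ≤ (i : ℕ) := by
      rcases Nat.eq_zero_or_pos (i : ℕ) with h | h
      · exact (hi (Fin.ext h)).elim
      · exact h
    have h1 := ((hdeg i).pow p).eq_zero (by nlinarith)
    rw [h1]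
    change _ ⊗ₜ[R] FrobAlg.toTwist p R 0 = 0
    rw [map_zero, TensorProduct.tmul_zero]
  · intro hh
    exact (hh (Finset.mem_univ _)).elim

end Groth.Agent.S16076
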