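import Groth.Statements.S16077
import Mathlib.RingTheory.MvPolynomial.Ideal
import Mathlib.Algebra.CharP.Lemmas
import Mathlib.Algebra.MvPolynomial.Basic
import Mathlib.LinearAlgebra.Dimension.Finrank
import Mathlib.LinearAlgebra.Dimension.Constructions
import Mathlib.LinearAlgebra.FiniteDimensional.Basic

set_option autoImplicit false
universe u
open CAlg

namespace Groth.Agent.S16077


open MvPolynomial

section

variable (p : ℕ) [Fact p.Prime] (k : Type u) [Field k] [CharP k p] (r : ℕ) (e : Fin r → ℕ)

/-- the ideal `(X_i^{p^{e_i}})` -/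
noncomputable abbrev I : Ideal (MvPolynomial (Fin r) k) :=
  Ideal.span (Set.range fun i : Fin r => (MvPolynomial.X i : MvPolynomial (Fin r) k) ^ p ^ e i)

/-- the truncated polynomial algebra -/
abbrev A : Type u := MvPolynomial (Fin r) k ⧸ I p k r e

omit [Fact p.Prime] [CharP k p] in
lemma mem_I (f : MvPolynomial (Fin r) k) :
    f ∈ I p k r e ↔ ∀ a ∈ f.support, ∃ i, p ^ e i ≤ a i := by
  have h : Set.range (fun i : Fin r => (MvPolynomial.X i : MvPolynomial (Fin r) k) ^ p ^ e i) =
      (fun s => monomial s (1 : k)) '' Set.range (fun i => Finsupp.single i (p ^ e i)) := by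
    rw [← Set.range_comp]
    congr 1
    ext1 i
    rw [X_pow_eq_monomial]
    rfl
  rw [I, h, mem_ideal_span_monomial_image]
  simp only [Set.exists_range_iff, Finsupp.single_le_iff]

/-- The span of the `p^j`-th powers. -/
def W (B : Type u) [CommRing B] [Algebra k B] (j : ℕ) : Submodule k B :=
  Submodule.span k (Set.range fun b : B => b ^ p ^ j)

omit [Fact p.Prime] [CharP k p] in
lemma finrank_W_eq (B C : Type u) [CommRing B] [Algebra k B] [CommRing C] [Algebra k C] (φ : B ≃ₐ[k] C) (j : ℕ) :
    Module.finrank k (W p k B j) = Module.finrank k (W p k C j) := by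
  have h : (W p k B j).map φ.toLinearEquiv.toLinearMap = W p k C j := by
    rw [W, W, Submodule.map_span, ← Set.range_comp]
    congr 1
    ext c
    constructor
    · rintro ⟨b, rfl⟩
      exact ⟨φ b, by simp⟩
    · rintro ⟨c, rfl⟩
      exact ⟨φ.symm c, by simp⟩
  rw [← h]
  exact (LinearEquiv.finrank_eq (φ.toLinearEquiv.submoduleMap (W p k B j)))

/-- exponent vectors -/
noncomputable def ex (j : ℕ) (b : (i : Fin r) → Fin (p ^ (e i - j))) : Fin r →₀ ℕ :=
  Finsupp.equivFunOnFinite.symm fun i => p ^ j * (b i : ℕ)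

omit [Fact p.Prime] in
lemma ex_apply (j : ℕ) (b : (i : Fin r) → Fin (p ^ (e i - j))) (i : Fin r) :
    ex p r e j b i = p ^ j * (b i : ℕ) := rfl

lemma ex_injective (j : ℕ) : Function.Injective (ex p r e j) := by
  intro b c h
  ext i
  have h1 := DFunLike.congr_fun h i
  rw [ex_apply, ex_apply] at h1
  exact Nat.eq_of_mul_eq_mul_left (pow_pos (Nat.Prime.pos Fact.out) j) h1

lemma ex_lt (j : ℕ) (b : (i : Fin r) → Fin (p ^ (e i - j))) (i : Fin r) :
    ex p r e j b i < p ^ e i := by
  have hp : 0 < p := Nat.Prime.pos Fact.out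
  have hb := (b i).2
  rw [ex_apply]
  by_cases hj : j ≤ e i
  · calc p ^ j * (b i : ℕ) < p ^ j * p ^ (e i - j) := Nat.mul_lt_mul_of_pos_left hb (pow_pos hp j)
      _ = p ^ e i := by rw [← pow_add]; congr 1; omega
  · have h0 : e i - j = 0 := by omega
    have h1 : p ^ (e i - j) = 1 := by rw [h0, pow_zero]
    have : (b i : ℕ) = 0 := by omega
    rw [this, mul_zero]
    exact pow_pos hp _

/-- `X^{p^j b}` -/
noncomputable def mon (j : ℕ) (b : (i : Fin r) → Fin (p ^ (e i - j))) : A p k r e :=
  Ideal.Quotient.mk _ (monomial (ex p r e j b) (1 : k))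

omit [CharP k p] in
lemma linearIndependent_mon (j : ℕ) : LinearIndependent k (mon p k r e j) := by
  classical
  rw [Fintype.linearIndependent_iff]
  intro g hg b
  have h1 : Ideal.Quotient.mk (I p k r e) (∑ b, monomial (ex p r e j b) (g b)) = 0 := by
    rw [map_sum, ← hg]
    refine Finset.sum_congr rfl fun b _ => ?_
    have : monomial (ex p r e j b) (g b) = g b • monomial (ex p r e j b) (1 : k) := by
      rw [smul_monomial, smul_eq_mul, mul_one]
    rw [this]
    rfl
  rw [Ideal.Quotient.eq_zero_iff_mem, mem_I] at h1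
  by_contra hb
  have h2 : coeff (ex p r e j b) (∑ b, monomial (ex p r e j b) (g b)) = g b := by
    rw [coeff_sum, Finset.sum_eq_single b]
    · rw [coeff_monomial, if_pos rfl]
    · intro c _ hc
      rw [coeff_monomial, if_neg (fun h => hc (ex_injective p r e j h))]
    · intro h; exact absurd (Finset.mem_univ _) h
  obtain ⟨i, hi⟩ := h1 (ex p r e j b) (by rw [mem_support_iff, h2]; exact hb)
  exact absurd (ex_lt p r e j b i) (by omega)

lemma span_mon (j : ℕ) : Submodule.span k (Set.range (mon p k r e j)) = W p k (A p k r e) j := by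
  have hp : 0 < p := Nat.Prime.pos Fact.out
  apply le_antisymm
  · rw [Submodule.span_le]
    rintro _ ⟨b, rfl⟩
    apply Submodule.subset_span
    refine ⟨Ideal.Quotient.mk _ (monomial (Finsupp.equivFunOnFinite.symm fun i => (b i : ℕ)) 1), ?_⟩
    change (Ideal.Quotient.mk _ (monomial (Finsupp.equivFunOnFinite.symm fun i => (b i : ℕ)) 1)) ^ p ^ j = _
    rw [← map_pow, monomial_pow, one_pow]
    have : (p ^ j • Finsupp.equivFunOnFinite.symm fun i => (b i : ℕ)) = ex p r e j b := by
      ext i
      rw [ex_apply]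
      simp
    rw [this]
    rfl
  · rw [W, Submodule.span_le]
    rintro _ ⟨a, rfl⟩
    obtain ⟨f, rfl⟩ := Ideal.Quotient.mk_surjective a
    change (Ideal.Quotient.mk _ f) ^ p ^ j ∈ _
    rw [← map_pow, ← support_sum_monomial_coeff f, sum_pow_char_pow, map_sum]
    refine Submodule.sum_mem _ fun α _ => ?_
    rw [monomial_pow]
    by_cases h : ∃ i, p ^ e i ≤ p ^ j * α i
    · obtain ⟨i, hi⟩ := h
      have : Ideal.Quotient.mk (I p k r e) (monomial (p ^ j • α) (coeff α f ^ p ^ j)) = 0 := by
        rw [Ideal.Quotient.eq_zero_iff_mem, mem_I]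
        intro a ha
        have h1 := support_monomial_subset ha
        rw [Finset.mem_singleton] at h1
        rw [h1]
        exact ⟨i, by simpa using hi⟩
      rw [this]
      exact zero_mem _
    · push Not at h
      have h1 : ∀ i, α i < p ^ (e i - j) := by
        intro i
        have h2 := h i
        by_cases hj : j ≤ e i
        · have h3 : p ^ e i = p ^ j * p ^ (e i - j) := by rw [← pow_add]; congr 1; omega
          rw [h3] at h2
          exact lt_of_mul_lt_mul_left h2 (Nat.zero_le _)
        · have h3 : e i - j = 0 := by omega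
          rw [h3, pow_zero, Nat.lt_one_iff]
          by_contra h4
          have h5 : p ^ e i ≤ p ^ j := Nat.pow_le_pow_right hp (by omega)
          have h6 : p ^ j ≤ p ^ j * α i := Nat.le_mul_of_pos_right _ (Nat.pos_of_ne_zero h4)
          omega
      have h2 : Ideal.Quotient.mk (I p k r e) (monomial (p ^ j • α) (coeff α f ^ p ^ j)) =
          (coeff α f ^ p ^ j) • mon p k r e j (fun i => ⟨α i, h1 i⟩) := by
        have h3 : monomial (p ^ j • α) (coeff α f ^ p ^ j) =
            (coeff α f ^ p ^ j) • monomial (p ^ j • α) (1 : k) := by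
          rw [smul_monomial, smul_eq_mul, mul_one]
        have h4 : p ^ j • α = ex p r e j (fun i => ⟨α i, h1 i⟩) := by
          ext i
          rw [ex_apply]
          simp
        rw [h3, h4]
        rfl
      rw [h2]
      exact Submodule.smul_mem _ _ (Submodule.subset_span ⟨_, rfl⟩)

lemma finrank_W (j : ℕ) : Module.finrank k (W p k (A p k r e) j) = p ^ (∑ i, (e i - j)) := by
  rw [← span_mon, finrank_span_eq_card (linearIndependent_mon p k r e j), Fintype.card_pi]
  simp only [Fintype.card_fin]
  rw [Finset.prod_pow_eq_pow_sum]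

end

lemma exists_equiv_of_card {r s : ℕ} (e : Fin r → ℕ) (f : Fin s → ℕ)
    (h : ∀ m, Fintype.card {i // e i = m} = Fintype.card {i // f i = m}) :
    ∃ σ : Fin r ≃ Fin s, ∀ i : Fin r, f (σ i) = e i := by
  let τ : ∀ m, {i // e i = m} ≃ {i // f i = m} := fun m => Fintype.equivOfCardEq (h m)
  refine ⟨(Equiv.sigmaFiberEquiv e).symm.trans ((Equiv.sigmaCongrRight τ).trans (Equiv.sigmaFiberEquiv f)), ?_⟩
  intro i
  exact (τ (e i) ⟨i, rfl⟩).2

lemma card_gt {r : ℕ} (e : Fin r → ℕ) (j : ℕ) :
    ∑ i, (e i - j) = ∑ i, (e i - (j + 1)) + Fintype.card {i // j < e i} := by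
  rw [Fintype.card_subtype, Finset.card_filter, ← Finset.sum_add_distrib]
  refine Finset.sum_congr rfl fun i _ => ?_
  split_ifs with h <;> omega

lemma card_eq {r : ℕ} (e : Fin r → ℕ) (j : ℕ) :
    Fintype.card {i // j < e i} = Fintype.card {i // j + 1 < e i} + Fintype.card {i // e i = j + 1} := by
  rw [Fintype.card_subtype, Fintype.card_subtype, Fintype.card_subtype, Finset.card_filter, Finset.card_filter,
    Finset.card_filter, ← Finset.sum_add_distrib]
  refine Finset.sum_congr rfl fun i _ => ?_
  split_ifs with h <;> omega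


/-- Let k be a perfect field of characteristic p > 0 and let e_1, …, e_r ≥ 1 and f_1, …, f_s ≥ 1 be
natural numbers. If the k-algebras k[X_1, …, X_r]/(X_i^{p^{e_i}} : 1 ≤ i ≤ r) and k[X_1, …,
X_s]/(X_j^{p^{f_j}} : 1 ≤ j ≤ s) are isomorphic, then r = s and (f_j) is a permutation of (e_i):
there is a bijection σ between the index sets with f_{σ(i)} = e_i. Such truncated polynomial
algebras are the coordinate rings of the connected finite k-group schemes, and the row says that the
number of variables and the exponents are invariants of the group, indeed of its algebra. (Only this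
invariance is stated here; the existence of such a presentation for every connected finite k-group
is a separate statement.) -/
theorem result (p : ℕ) [Fact p.Prime] (k : Type u) [Field k]
    [CharP k p] [PerfectField k] (r s : ℕ) (e : Fin r → ℕ) (f : Fin s → ℕ) (he : ∀ i, 1 ≤ e i) (hf : ∀ j, 1 ≤ f j)
    (φ : (MvPolynomial (Fin r) k ⧸ Ideal.span (Set.range fun i : Fin r => (MvPolynomial.X i : MvPolynomial (Fin r) k) ^ p ^ e i)) ≃ₐ[k]
      (MvPolynomial (Fin s) k ⧸ Ideal.span (Set.range fun j : Fin s => (MvPolynomial.X j : MvPolynomial (Fin s) k) ^ p ^ f j))) :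
    ∃ σ : Fin r ≃ Fin s, ∀ i : Fin r, f (σ i) = e i := by
  have h1 : ∀ j, ∑ i, (e i - j) = ∑ i, (f i - j) := by
    intro j
    have h2 := finrank_W_eq p k _ _ φ j
    have h3 := finrank_W p k r e j
    have h4 := finrank_W p k s f j
    have h5 := h3.symm.trans (h2.trans h4)
    exact Nat.pow_right_injective (Nat.Prime.two_le Fact.out) h5
  have h2 : ∀ j, Fintype.card {i // j < e i} = Fintype.card {i // j < f i} := by
    intro j
    have h3 := card_gt e j
    have h4 := card_gt f j
    have h5 := h1 j
    have h6 := h1 (j + 1)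
    omega
  apply exists_equiv_of_card
  intro m
  rcases m with _ | m
  · have h3 : IsEmpty {i // e i = 0} := ⟨fun ⟨i, hi⟩ => by have := he i; omega⟩
    have h4 : IsEmpty {i // f i = 0} := ⟨fun ⟨i, hi⟩ => by have := hf i; omega⟩
    rw [Fintype.card_eq_zero, Fintype.card_eq_zero]
  · have h3 := card_eq e m
    have h4 := card_eq f m
    have h5 := h2 m
    have h6 := h2 (m + 1)
    omega

end Groth.Agent.S16077
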