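import Groth.Statements.S16078
import Groth.Agent.Hopf.K503.Conn

set_option autoImplicit false
universe u
open scoped TensorProduct
open Hopf

namespace Groth.Agent.S16078

/-- Let R be a henselian Noetherian local ring, A and A'' commutative Hopf algebras over R which are
finite and flat as R-modules, and A'' → A an R-algebra homomorphism compatible with
comultiplications and counits making A faithfully flat over A'' (a faithfully flat homomorphism π :
G → G'' of finite flat R-groups); let J ⊆ A be the ideal generated by the image of the augmentation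
ideal of A'' (G' = Spec A/J = ker π, so that 1 → G' → G → G'' → 1 is exact). Let e ∈ A and e'' ∈ A''
be idempotents with ε(e) = 1, ε(e'') = 1 and A/(1 − e), A''/(1 − e'') local rings (the unit
components G⁰ and G''⁰), and let e' ∈ A be an element whose image in A/J is an idempotent, with
ε(e') = 1 and A/(J + (1 − e')) local (so G'⁰ = Spec (A/J)/(1 − e') is the unit component of G').
Suppose g : A''/(1 − e'') → A/(1 − e) is the ring homomorphism induced by A'' → A (the restriction
π⁰ : G⁰ → G''⁰ of π, which exists because G⁰ is connected). Then g is faithfully flat, and e ≡ e'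
modulo J, i.e. J + (1 − e) = J + (1 − e') and the kernel of π⁰, which is cut out in G⁰ by J, is
exactly G'⁰: the sequence 1 → G'⁰ → G⁰ → G''⁰ → 1 is exact. (The published statement also asserts
exactness of the maximal étale quotient G ↦ G^ét, not stated here.) -/
theorem result (R : Type u) [CommRing R] [HenselianLocalRing R]
    [IsNoetherianRing R] (A A'' : Type u) [CommRing A] [HopfAlgebra R A] [Module.Finite R A] [Module.Flat R A]
    [CommRing A''] [HopfAlgebra R A''] [Module.Finite R A''] [Module.Flat R A'']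
    [Algebra A'' A] [IsScalarTower R A'' A] [Module.FaithfullyFlat A'' A]
    (hΔ : (Bialgebra.comulAlgHom R A).comp (IsScalarTower.toAlgHom R A'' A) =
      (Algebra.TensorProduct.map (IsScalarTower.toAlgHom R A'' A) (IsScalarTower.toAlgHom R A'' A)).comp
        (Bialgebra.comulAlgHom R A''))
    (hε : (Bialgebra.counitAlgHom R A).comp (IsScalarTower.toAlgHom R A'' A) = Bialgebra.counitAlgHom R A'')
    (e : A) (he : IsIdempotentElem e) (heε : Bialgebra.counitAlgHom R A e = 1)
    [IsLocalRing (A ⧸ Ideal.span ({1 - e} : Set A))]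
    (e'' : A'') (he'' : IsIdempotentElem e'') (he''ε : Bialgebra.counitAlgHom R A'' e'' = 1)
    [IsLocalRing (A'' ⧸ Ideal.span ({1 - e''} : Set A''))]
    (e' : A) (he' : IsIdempotentElem (Ideal.Quotient.mk ((RingHom.ker (Bialgebra.counitAlgHom R A'')).map (algebraMap A'' A)) e'))
    (he'ε : Bialgebra.counitAlgHom R A e' = 1)
    [IsLocalRing (A ⧸ (((RingHom.ker (Bialgebra.counitAlgHom R A'')).map (algebraMap A'' A)) ⊔ Ideal.span ({1 - e'} : Set A)))]
    (g : (A'' ⧸ Ideal.span ({1 - e''} : Set A'')) →+* (A ⧸ Ideal.span ({1 - e} : Set A)))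
    (hg : g.comp (Ideal.Quotient.mk (Ideal.span ({1 - e''} : Set A''))) =
      (Ideal.Quotient.mk (Ideal.span ({1 - e} : Set A))).comp (algebraMap A'' A)) :
    g.FaithfullyFlat ∧
      Ideal.Quotient.mk ((RingHom.ker (Bialgebra.counitAlgHom R A'')).map (algebraMap A'' A)) e = Ideal.Quotient.mk ((RingHom.ker (Bialgebra.counitAlgHom R A'')).map (algebraMap A'' A)) e' := by
  have hfin : Module.Finite A'' A := Module.Finite.of_restrictScalars_finite R A'' A
  refine ⟨K503.Conn.faithfullyFlat_unitComponent e he e'' he'' g hg, ?_⟩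
  set J := (RingHom.ker (Bialgebra.counitAlgHom R A'')).map (algebraMap A'' A) with hJ
  have hJε : J ≤ RingHom.ker (Bialgebra.counitAlgHom R A) := K503.Conn.map_ker_le hε
  let ε' : (A ⧸ J) →ₐ[R] R := Ideal.Quotient.liftₐ J (Bialgebra.counitAlgHom R A) (fun a ha => hJε ha)
  have hspan : ∀ x : A, (Ideal.span ({1 - Ideal.Quotient.mk J x} : Set (A ⧸ J))) =
      (Ideal.span ({1 - x} : Set A)).map (Ideal.Quotient.mk J) := by
    intro x
    rw [Ideal.map_span, Set.image_singleton, map_sub, map_one]
  have h1 : IsLocalRing ((A ⧸ J) ⧸ Ideal.span ({1 - Ideal.Quotient.mk J e'} : Set (A ⧸ J))) := by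
    rw [hspan]
    exact (DoubleQuot.quotQuotEquivQuotSup J (Ideal.span ({1 - e'} : Set A))).symm.isLocalRing
  have h2 : IsLocalRing ((A ⧸ J) ⧸ Ideal.span ({1 - Ideal.Quotient.mk J e} : Set (A ⧸ J))) := by
    rw [hspan]
    have hne : Nontrivial ((A ⧸ J) ⧸ (Ideal.span ({1 - e} : Set A)).map (Ideal.Quotient.mk J)) := by
      rw [Ideal.Quotient.nontrivial_iff]
      intro h
      have h3 : (Ideal.span ({1 - e} : Set A)).map (Ideal.Quotient.mk J) ≤ RingHom.ker ε' := by
        rw [Ideal.map_le_iff_le_comap, Ideal.span_singleton_le_iff_mem, Ideal.mem_comap, RingHom.mem_ker]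
        change Bialgebra.counitAlgHom R A (1 - e) = 0
        rw [map_sub, map_one, heε, sub_self]
      rw [h, top_le_iff] at h3
      exact RingHom.ker_ne_top ε' h3
    let q : (A ⧸ Ideal.span ({1 - e} : Set A)) →+* ((A ⧸ J) ⧸ (Ideal.span ({1 - e} : Set A)).map (Ideal.Quotient.mk J)) :=
      Ideal.Quotient.lift _ ((Ideal.Quotient.mk _).comp (Ideal.Quotient.mk J)) (fun a ha => by
        rw [RingHom.comp_apply, Ideal.Quotient.eq_zero_iff_mem]
        exact Ideal.mem_map_of_mem _ ha)
    refine IsLocalRing.of_surjective' q ?_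
    refine Ideal.Quotient.lift_surjective_of_surjective _ _ ?_
    exact Ideal.Quotient.mk_surjective.comp Ideal.Quotient.mk_surjective
  exact K503.Conn.idem_unique (ε' : (A ⧸ J) →+* R) _ _ (he.map _) he' heε he'ε

end Groth.Agent.S16078
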