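import Groth.Statements.S16083
import Groth.Agent.SDiv.K475.Ddual

set_option autoImplicit false
universe u
open CategoryTheory CategoryTheory.Limits AlgebraicGeometry TopologicalSpace
open SDiv

namespace Groth.Agent.S16083

section aux

open K475.GenStalk K475.Ddual

variable {X : Scheme.{u}} [IsIntegral X] [IsLocallyNoetherian X]

theorem extends_of (hX : Pi1.IsNormalScheme X) (F G : X.Modules) (hF : Coh.IsCoh F)
    (T : G.presheaf.stalk (η X) →ₗ[X.presheaf.stalk (η X)] F.presheaf.stalk (η X))
    (h : ∀ x : X, ringKrullDim (X.presheaf.stalk x) = 1 → ∀ m : G.presheaf.stalk x,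
      T (G.presheaf.stalkSpecializes (spec x) m) ∈
        Set.range (F.presheaf.stalkSpecializes (spec x))) :
    ∃ ψ : G ⟶ RefHull.ddual F, RefHull.stalkMapₗ ψ (η X) =
        (RefHull.stalkMapₗ (RefHull.bidualMap F) (η X)).comp T := by
  have hT : ∀ (x : X) (m : G.presheaf.stalk x),
      (RefHull.stalkMapₗ (RefHull.bidualMap F) (η X)).comp T
        (G.presheaf.stalkSpecializes (spec x) m) ∈
      Set.range ((RefHull.ddual F).presheaf.stalkSpecializes (spec x)) := by
    intro x m
    refine K475.Codim1.mem_range_of_codim_one hX (K476.HomSh4.isCoh_ddual hF) x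
      (isReflexiveAt_dual (K476.HomSh4.isCoh_dual hF) x) _ ?_
    intro y hy hy1
    obtain ⟨n, hn⟩ := h y hy1 (G.presheaf.stalkSpecializes hy m)
    refine ⟨RefHull.stalkMapₗ (RefHull.bidualMap F) y n, ?_⟩
    rw [← stalkMapₗ_spec, hn, spec_spec]
    rfl
  exact ⟨homOf (inj_ddual hF) _ hT, stalkMapₗ_homOf _ _ _⟩

theorem of_extends (hX : Pi1.IsNormalScheme X) (F G : X.Modules) (hF : Coh.IsCoh F)
    (T : G.presheaf.stalk (η X) →ₗ[X.presheaf.stalk (η X)] F.presheaf.stalk (η X))
    (ψ : G ⟶ RefHull.ddual F) (hψ : RefHull.stalkMapₗ ψ (η X) =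
        (RefHull.stalkMapₗ (RefHull.bidualMap F) (η X)).comp T)
    (x : X) (hx : ringKrullDim (X.presheaf.stalk x) = 1) (m : G.presheaf.stalk x) :
      T (G.presheaf.stalkSpecializes (spec x) m) ∈
        Set.range (F.presheaf.stalkSpecializes (spec x)) := by
  obtain ⟨n, hn⟩ := surjective_bidual_of_dim_le_one hX hF x hx.le (RefHull.stalkMapₗ ψ x m)
  refine ⟨n, (bijective_bidual_eta hF).1 ?_⟩
  rw [stalkMapₗ_spec, hn, ← stalkMapₗ_spec, hψ]
  rfl

end aux


/-- Suppose X is a normal scheme that is integral and locally Noetherian, write η for its generic point,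
let F and G be coherent O_X-modules, and let T : G_η → F_η be an O_{X,η}-linear map of generic
stalks. Then T extends to a morphism G ⟶ F^** — there is a morphism ψ whose stalk map at η is T
followed by the stalk map at η of the canonical map F ⟶ F^** — if and only if for every point x with
dim O_{X,x} = 1 the map T sends the image of G_x in G_η into the image of F_x in F_η. -/
theorem result (X : Scheme.{u}) [IsIntegral X] [IsLocallyNoetherian X]
    (hX : Pi1.IsNormalScheme X) (F G : X.Modules) (hF : Coh.IsCoh F) (hG : Coh.IsCoh G)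
    (T : ↑(G.presheaf.stalk (genericPoint ↥X)) →ₗ[↑(X.presheaf.stalk (genericPoint ↥X))]
      ↑(F.presheaf.stalk (genericPoint ↥X))) :
    (∃ ψ : G ⟶ RefHull.ddual F, RefHull.stalkMapₗ ψ (genericPoint ↥X) =
        (RefHull.stalkMapₗ (RefHull.bidualMap F) (genericPoint ↥X)).comp T) ↔
      ∀ x : ↥X, ringKrullDim ↑(X.presheaf.stalk x) = 1 →
        Set.MapsTo ⇑T
          (Set.range ⇑(G.presheaf.stalkSpecializes ((genericPoint_spec ↥X).specializes (Set.mem_univ x))).hom)
          (Set.range ⇑(F.presheaf.stalkSpecializes ((genericPoint_spec ↥X).specializes (Set.mem_univ x))).hom) := by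
  constructor
  · rintro ⟨ψ, hψ⟩ x hx _ ⟨m, rfl⟩
    exact of_extends hX F G hF T ψ hψ x hx m
  · intro h
    exact extends_of hX F G hF T fun x hx m => h x hx ⟨m, rfl⟩

end Groth.Agent.S16083
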