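import Groth.Statements.S16084
import Groth.Agent.SDiv.K475.Rank1
import Groth.Agent.SDiv.K475.Codim1Ring

set_option autoImplicit false
universe u
open CategoryTheory CategoryTheory.Limits AlgebraicGeometry TopologicalSpace
open SDiv

namespace Groth.Agent.S16084

/-- Let X be an integral locally Noetherian normal scheme, F a rank one coherent reflexive O_X-module
and s a nonzero global section of F. Let Z be the set of points x at which multiplication by the
germ of s, O_{X,x} → F_x, fails to be bijective (the complement of the open where s generates F).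
Then every irreducible component of Z has codimension 1 in X: at each point z of Z to which no other
point of Z specializes, the local ring O_{X,z} has dimension 1. -/
theorem result (X : Scheme.{u}) [IsIntegral X] [IsLocallyNoetherian X]
    (hX : Pi1.IsNormalScheme X) (F : X.Modules) (hF : RefHull.IsRef1 F) (s : Γ(F, ⊤)) (hs : s ≠ 0) (z : ↥X)
    (hz : ¬ Function.Bijective fun a : ↑(X.presheaf.stalk z) => a • F.presheaf.germ ⊤ z trivial s)
    (hmax : ∀ y : ↥X, ¬ Function.Bijective (fun a : ↑(X.presheaf.stalk y) => a • F.presheaf.germ ⊤ y trivial s) →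
      y ⤳ z → y = z) :
    ringKrullDim ↑(X.presheaf.stalk z) = 1 := by
  classical
  open K475.GenStalk K475.Rank1 K475.Codim1Ring K475.Ddual in
  have hinj : Inj F := inj_of_isReflexive hF.1 hF.2.1
  by_contra hdim
  apply hz
  obtain ⟨t, ht⟩ := K475.Rank1.exists_isGen_of_genInvertible hF.2.2
  have hs0 : F.presheaf.germ ⊤ (K475.GenStalk.η X) trivial s ≠ 0 := by
    intro h0
    apply hs
    exact K475.GenStalk.section_ext hinj (U := ⊤) fun _ => by rw [h0, map_zero]
  have hsη := K475.Rank1.isGen_of_ne_zero ht hs0
  refine K475.Codim1Ring.bijective_of_codim_one hX hinj z _ ?_ ?_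
  · have h0 : F.presheaf.stalkSpecializes (K475.GenStalk.spec z) (F.presheaf.germ ⊤ z trivial s) =
        F.presheaf.germ ⊤ (K475.GenStalk.η X) trivial s := K475.GenStalk.germ_spec F z _ s
    exact h0 ▸ hsη
  · intro y hy hy1
    have h1 : F.presheaf.stalkSpecializes hy (F.presheaf.germ ⊤ z trivial s) =
        F.presheaf.germ ⊤ y trivial s :=
      TopCat.Presheaf.germ_stalkSpecializes_apply F.presheaf _ hy s
    rw [h1]
    by_contra hc
    have := hmax y hc hy
    rw [this] at hy1
    exact hdim hy1

end Groth.Agent.S16084
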