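import Groth.Statements.S16086
import Groth.Agent.SDiv.K475.Ref1Iso

set_option autoImplicit false
universe u
open CategoryTheory CategoryTheory.Limits AlgebraicGeometry TopologicalSpace
open SDiv

namespace Groth.Agent.S16086

/-- The class map is well defined and injective: fix a scheme X that is integral, normal and locally
Noetherian, and write η for its generic point; suppose F and G are rank one coherent reflexive
O_X-modules and let s ∈ F_η and t ∈ G_η be nonzero rational sections. At a point x of codimension 1
the stalks F_x, G_x are free of rank one over the discrete valuation ring O_{X,x}, so s and t have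
orders ord_{x,F}(s), ord_{x,G}(t). Then F ≅ G if and only if the Weil divisors of s and t are
linearly equivalent: for some nonzero rational function f one has ord_{x,F}(s) = ord_{x,G}(t) +
ord_x(f) at every point x of codimension 1. -/
theorem result (X : Scheme.{u}) [IsIntegral X] [IsLocallyNoetherian X]
    (hX : Pi1.IsNormalScheme X) (F G : X.Modules) (hF : RefHull.IsRef1 F) (hG : RefHull.IsRef1 G)
    (s : Cyc.secFibre F (genericPoint ↥X)) (hs : s ≠ 0) (t : Cyc.secFibre G (genericPoint ↥X)) (ht : t ≠ 0) :
    Nonempty (F ≅ G) ↔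
      ∃ f : ↑X.functionField, f ≠ 0 ∧
        ∀ (x : ↥X), Order.coheight x = 1 →
          Cyc.secOrdAt F (genericPoint ↥X) x ((genericPoint_spec ↥X).specializes (Set.mem_univ x)) s =
            Cyc.secOrdAt G (genericPoint ↥X) x ((genericPoint_spec ↥X).specializes (Set.mem_univ x)) t +
              Scheme.ord f x := by
  have hF' := K475.Ref1Ord.R1.of_isRef1 hF
  have hG' := K475.Ref1Ord.R1.of_isRef1 hG
  obtain ⟨v, rfl⟩ := K475.OrdEta.exists_cl s
  obtain ⟨w, rfl⟩ := K475.OrdEta.exists_cl t
  have hv : v ≠ 0 := by
    rintro rfl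
    exact hs (map_zero _)
  have hw : w ≠ 0 := by
    rintro rfl
    exact ht (map_zero _)
  constructor
  · rintro ⟨e⟩
    have hbij := fun x => K476.HomSh4.bijective_stalkMapₗ_of_isIso e.hom x
    have hev : RefHull.stalkMapₗ e.hom (K475.GenStalk.η X) v ≠ 0 := fun h =>
      hv ((hbij _).1 (h.trans (map_zero _).symm))
    obtain ⟨f, hf⟩ := (hG'.isGen_of_ne_zero hw).2 (RefHull.stalkMapₗ e.hom (K475.GenStalk.η X) v)
    simp only at hf
    have hf0 : f ≠ 0 := by
      rintro rfl
      exact hev (hf.symm.trans (zero_smul _ w))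
    refine ⟨f, hf0, fun x hx => ?_⟩
    have h1 := hF'.sord_map hG' hX hx e.hom (hbij x) hv
    rw [← hf, hG'.sord_smul hX hx hw hf0] at h1
    exact h1.symm.trans (add_comm _ _)
  · rintro ⟨f, hf, h⟩
    obtain ⟨e, -⟩ := K475.Ref1Iso.exists_iso_of_sord_eq hX hF hG hv
      (t := (f : X.presheaf.stalk (K475.GenStalk.η X)) • w) (hG'.smul_ne_zero hw hf) (by
        intro x hx
        rw [hG'.sord_smul hX hx hw hf, add_comm]
        exact h x hx)
    exact ⟨e⟩

end Groth.Agent.S16086
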