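import Groth.Statements.S16087
import Groth.Agent.SDiv.K475.DivRef1

set_option autoImplicit false
universe u
open CategoryTheory CategoryTheory.Limits AlgebraicGeometry TopologicalSpace
open SDiv

namespace Groth.Agent.S16087

/-- The class map takes values in Weil divisor classes and is surjective: suppose X is a normal scheme
that is integral and locally Noetherian, and denote its generic point by η. For a rank one coherent
reflexive O_X-module F and a nonzero rational section s ∈ F_η write ord_{x,F}(s) for the order of s
with respect to a generator of the free rank one O_{X,x}-module F_x at a point x of codimension 1.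
Then (1) the function sending a codimension-1 point x to ord_{x,F}(s) and every other point to 0 has
locally finite support, so it is a Weil divisor; and (2) every Weil divisor D on X (an
integer-valued function with locally finite support vanishing outside the codimension-1 points)
arises this way: D(x) = ord_{x,F}(s) at all codimension-1 points x for some rank one coherent
reflexive F and nonzero s ∈ F_η. -/
theorem result (X : Scheme.{u}) [IsIntegral X] [IsLocallyNoetherian X]
    (hX : Pi1.IsNormalScheme X) :
    (∀ (F : X.Modules) (hF : RefHull.IsRef1 F) (s : Cyc.secFibre F (genericPoint ↥X)), s ≠ 0 →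
        ∃ D : AlgebraicCycle X ℤ, (∀ x : ↥X, Order.coheight x ≠ 1 → D x = 0) ∧
          ∀ (x : ↥X), Order.coheight x = 1 →
            D x = Cyc.secOrdAt F (genericPoint ↥X) x ((genericPoint_spec ↥X).specializes (Set.mem_univ x)) s) ∧
      ∀ D : AlgebraicCycle X ℤ, (∀ x : ↥X, Order.coheight x ≠ 1 → D x = 0) →
        ∃ (F : X.Modules) (_ : RefHull.IsRef1 F) (s : Cyc.secFibre F (genericPoint ↥X)), s ≠ 0 ∧
          ∀ (x : ↥X), Order.coheight x = 1 →
            D x = Cyc.secOrdAt F (genericPoint ↥X) x ((genericPoint_spec ↥X).specializes (Set.mem_univ x)) s := by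
  constructor
  · intro F hF s hs
    obtain ⟨v, rfl⟩ := K475.OrdEta.exists_cl s
    have hv : v ≠ 0 := by
      rintro rfl
      exact hs (map_zero _)
    obtain ⟨D, hD, h⟩ := K475.Ref1Div.exists_cycle (K475.Ref1Ord.R1.of_isRef1 hF) hv
    exact ⟨D, hD, h⟩
  · intro D _
    have hD : LocallyFiniteSupport (D : X → ℤ) := D.locallyFiniteSupport
    obtain ⟨t, ht0, ht⟩ := K475.DivRef1.exists_section hX hD
    refine ⟨K475.DivSheaf.O hX (D : X → ℤ), K475.DivRef1.isRef1 hX hD,
      Groth.Agent.CycB.C1Basic.cl _ _ t, ?_, fun x hx => (ht x hx).symm⟩
    intro h0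
    exact ht0 (K475.OrdEta.cl_injective (h0.trans (map_zero _).symm))

end Groth.Agent.S16087
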