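import Groth.Statements.S16089
import Groth.Agent.SDiv.K476.ModTwist2

set_option autoImplicit false
universe u
open CategoryTheory CategoryTheory.Limits AlgebraicGeometry TopologicalSpace
open SDiv

namespace Groth.Agent.S16089

/-- Suppose X is an integral regular scheme (locally Noetherian, with every local ring regular) whose
dimension is at most 2. Consider an effective Cartier divisor D ⊆ X with ideal sheaf 𝓓, whose
associated closed subscheme is integral, and write i : D ⟶ X for the closed immersion. Take G to be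
a finite locally free O_D-module of rank s, and assume F ⟶ F' ⟶ i_*G ⟶ 0 is exact, where F and F'
are coherent O_X-modules that are both locally free of rank r on some common nonempty open subset.
Then, for any r-th exterior power L of F and L' of F', the reflexive hulls L^** and L'^** are
invertible O_X-modules, and there is an integer k with 0 ≤ k ≤ min(s, r) such that L'^** ≅ L^** ⊗
O_X(D)^{⊗ k}, where O_X(D) = 𝓗om(𝓓, O_X). Although the published version assumes X has dimension
exactly 2, the proof only needs dimension at most 2. -/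
theorem result (X : Scheme.{u}) [IsIntegral X] [IsLocallyNoetherian X]
    (hreg : ∀ x : ↥X, IsRegularLocalRing ↑(X.presheaf.stalk x)) (hdim : topologicalKrullDim ↥X ≤ 2)
    (𝓓 : X.IdealSheafData) (hD : BlowUp.IsEffCartierIdeal 𝓓) (hDi : IsIntegral 𝓓.subscheme) (s : ℕ)
    (G : (𝓓.subscheme).Modules) (hG : FlatMod.IsFinLocFreeOfRank s G) (F F' : X.Modules) (hF : Coh.IsCoh F)
    (hF' : Coh.IsCoh F') (a : F ⟶ F') (b : F' ⟶ (Scheme.Modules.pushforward 𝓓.subschemeι).obj G) (w : a ≫ b = 0)
    (hex : (ShortComplex.mk a b w).Exact) (hb : Epi b) (r : ℕ)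
    (hU : ∃ U : X.Opens, (U : Set ↥X).Nonempty ∧ FlatMod.IsFinLocFreeOfRank r (F.restrict U.ι) ∧
      FlatMod.IsFinLocFreeOfRank r (F'.restrict U.ι))
    (L L' : X.Modules) (hL : ExtPow.IsExtPow r F L) (hL' : ExtPow.IsExtPow r F' L') :
    PicF.IsInvertible (RefHull.ddual L) ∧ PicF.IsInvertible (RefHull.ddual L') ∧
      ∃ k : ℕ, k ≤ min s r ∧
        Nonempty (RefHull.ddual L' ≅
          CohB1.tensorMod (RefHull.ddual L) (CohB1.tensorPow (RefHull.dual (ClSub.idealMod 𝓓)) k)) := by
  have hX := K476.RegRef.isNormalScheme_of_regular hreg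
  obtain ⟨U, ⟨y, hy⟩, hU1, hU2⟩ := hU
  have hηU : K475.GenStalk.η X ∈ U := K475.GenStalk.mem_of_nonempty hy
  have hr := K476.DivPt.finrank_stalk_of_restrict hU1 hηU
  have hr' := K476.DivPt.finrank_stalk_of_restrict hU2 hηU
  obtain ⟨β⟩ := K476.DivPt.exists_basis_eta hF hr
  obtain ⟨β'⟩ := K476.DivPt.exists_basis_eta hF' hr'
  have hLc := K476.ExtStalk.isCoh_of_isExtPow hF hL
  have hLc' := K476.ExtStalk.isCoh_of_isExtPow hF' hL'
  have g1 := K476.WedgeD.genInvertible_of_isExtPow hF hL β
  have g2 := K476.WedgeD.genInvertible_of_isExtPow hF' hL' β'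
  have e1 := K476.RegRef.exists_gen_of_isRef1 hreg hdim (K476.Ref1.isRef1_ddual hLc g1)
  have e2 := K476.RegRef.exists_gen_of_isRef1 hreg hdim (K476.Ref1.isRef1_ddual hLc' g2)
  refine ⟨K476.RegRef.isInvertible_of_isGen (K476.HomSh4.isCoh_ddual hLc) e1,
    K476.RegRef.isInvertible_of_isGen (K476.HomSh4.isCoh_ddual hLc') e2, ?_⟩
  obtain ⟨hα, k, hk, h⟩ := K476.ModTwist2.exists_twist (r := r) hX hF hF' hD s G hG a b w hex hb
    hr hr'
  refine ⟨k, hk, K476.ModTwist.nonempty_iso hX hF hF' a hα β hD hL hL'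
    (K476.RegRef.isReflexive_of_isGen ?_ (fun x => ?_)) h⟩
  · exact K476.Ref1.isCoh_tensorMod (K476.HomSh4.isCoh_ddual hLc)
      (K476.RegRef.isCoh_tensorPow (K476.HomSh4.isCoh_dual (K476.DivSec.isCoh_idealMod 𝓓)) k)
  · obtain ⟨t, ht⟩ := e1 x
    obtain ⟨V, hxV, f, δ, -, -, hδ, -⟩ := K476.DivSec.exists_local hD x
    exact ⟨_, K476.TensStalk.isGen_stmul ht (K476.RegRef.isGen_tpow hδ k)⟩

end Groth.Agent.S16089
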