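import Groth.Statements.S16090
import Groth.Agent.SDiv.K476.Ref1

set_option autoImplicit false
universe u
open CategoryTheory CategoryTheory.Limits AlgebraicGeometry TopologicalSpace
open SDiv

namespace Groth.Agent.S16090

open Groth.Agent.CycB.ModStalk Groth.Agent.CycB.C1Basic Cyc K476.Ref1 K476.TensStalk K475.GenStalk

theorem aux {X : Scheme.{u}} [IsIntegral X] [IsLocallyNoetherian X]
    (hX : Pi1.IsNormalScheme X) (F G : X.Modules) (hF : RefHull.IsRef1 F) (hG : RefHull.IsRef1 G)
    (s : Cyc.secFibre F (η X)) (hs : s ≠ 0) (t : Cyc.secFibre G (η X)) (ht : t ≠ 0) :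
    ∃ w : Cyc.secFibre (RefHull.ddual (CohB1.tensorMod F G)) (η X), w ≠ 0 ∧
      ∀ (x : ↥X), ringKrullDim (X.presheaf.stalk x) = 1 →
        Cyc.secOrdAt (RefHull.ddual (CohB1.tensorMod F G)) (η X) x (spec x) w =
          Cyc.secOrdAt F (η X) x (spec x) s + Cyc.secOrdAt G (η X) x (spec x) t := by
  obtain ⟨e, he⟩ := exists_isGen_eta hF.2.2
  obtain ⟨f, hf⟩ := exists_isGen_eta hG.2.2
  have hcT := isCoh_tensorMod hF.1 hG.1
  have hcD := K476.HomSh4.isCoh_ddual hcT
  obtain ⟨φ, rfl⟩ := exists_smul_cl he s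
  obtain ⟨ψ, rfl⟩ := exists_smul_cl hf t
  rw [ne_eq, smul_cl_eq_zero_iff he] at hs
  rw [ne_eq, smul_cl_eq_zero_iff hf] at ht
  let J : (y : X) → (CohB1.tensorMod F G).presheaf.stalk y →
      (RefHull.ddual (CohB1.tensorMod F G)).presheaf.stalk y := fun y =>
    RefHull.stalkMapₗ (RefHull.bidualMap (CohB1.tensorMod F G)) y
  have hJ : IsGen (RefHull.ddual (CohB1.tensorMod F G)) (η X) (J (η X) (stmul e f)) :=
    isGen_bidual hcT (isGen_stmul he hf)
  refine ⟨(φ * ψ) • cl _ (η X) (J (η X) (stmul e f)), ?_, ?_⟩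
  · rw [ne_eq, smul_cl_eq_zero_iff hJ, map_mul]
    exact mul_ne_zero hs ht
  intro x hx
  obtain ⟨e', he'⟩ := exists_isGen_of_isRef1 hX hF x hx
  obtain ⟨f', hf'⟩ := exists_isGen_of_isRef1 hX hG x hx
  have he'' := isGen_spec hF.1.1 (spec x) he'
  have hf'' := isGen_spec hG.1.1 (spec x) hf'
  obtain ⟨a, ha⟩ := he''.exists_unit_smul he
  obtain ⟨b, hb⟩ := hf''.exists_unit_smul hf
  rw [Units.smul_def] at ha hb
  have ra : X.residue (η X) a ≠ 0 := (a.isUnit.map (X.residue (η X)).hom).ne_zero
  have rb : X.residue (η X) b ≠ 0 := (b.isUnit.map (X.residue (η X)).hom).ne_zero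
  have hg : IsGen (RefHull.ddual (CohB1.tensorMod F G)) x (J x (stmul e' f')) :=
    isGen_bidual hcT (isGen_stmul he' hf')
  have hg' := isGen_spec hcD.1 (spec x) hg
  have key : J (η X) (stmul e f) = ((a : X.presheaf.stalk (η X)) * b) •
      (RefHull.ddual (CohB1.tensorMod F G)).presheaf.stalkSpecializes (spec x)
        (J x (stmul e' f')) := by
    rw [← stalkMapₗ_spec, stalkSpecializes_stmul, ha, hb, smul_stmul, stmul_smul, smul_smul]
    exact map_smul _ _ _
  rw [key, ha, hb, map_smul, map_smul, map_smul, smul_smul, smul_smul, smul_smul,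
    secOrdAt_smul (spec x) hg hg' _
      (by rw [map_mul, map_mul, map_mul]; exact mul_ne_zero (mul_ne_zero hs ht) (mul_ne_zero ra rb)),
    secOrdAt_smul (spec x) he' he'' _ (by rw [map_mul]; exact mul_ne_zero hs ra),
    secOrdAt_smul (spec x) hf' hf'' _ (by rw [map_mul]; exact mul_ne_zero ht rb)]
  simp only [map_mul]
  rw [ordAt_mul _ (mul_ne_zero hs ht) (mul_ne_zero ra rb), ordAt_mul _ hs ht, ordAt_mul _ ra rb,
    ordAt_mul _ hs ra, ordAt_mul _ ht rb]
  ring

/-- The class map is additive for the reflexive tensor product: suppose X is a scheme that is integral,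
normal and locally Noetherian, write η for its generic point, and take F and G to be rank one
coherent reflexive O_X-modules with s ∈ F_η, t ∈ G_η nonzero rational sections, with orders
ord_{x,F}(s), ord_{x,G}(t) at the points x of codimension 1 taken with respect to generators of the
free rank one stalks. Then the reflexive hull (F ⊗_{O_X} G)^** admits a nonzero rational section w
whose order at every codimension-1 point x is ord_{x,F}(s) + ord_{x,G}(t); so the Weil divisor class
of (F ⊗ G)^** is the sum of the classes of F and G. -/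
theorem result (X : Scheme.{u}) [IsIntegral X] [IsLocallyNoetherian X]
    (hX : Pi1.IsNormalScheme X) (F G : X.Modules) (hF : RefHull.IsRef1 F) (hG : RefHull.IsRef1 G)
    (s : Cyc.secFibre F (genericPoint ↥X)) (hs : s ≠ 0) (t : Cyc.secFibre G (genericPoint ↥X)) (ht : t ≠ 0) :
    ∃ w : Cyc.secFibre (RefHull.ddual (CohB1.tensorMod F G)) (genericPoint ↥X), w ≠ 0 ∧
      ∀ (x : ↥X), Order.coheight x = 1 →
        Cyc.secOrdAt (RefHull.ddual (CohB1.tensorMod F G)) (genericPoint ↥X) x
            ((genericPoint_spec ↥X).specializes (Set.mem_univ x)) w =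
          Cyc.secOrdAt F (genericPoint ↥X) x ((genericPoint_spec ↥X).specializes (Set.mem_univ x)) s +
            Cyc.secOrdAt G (genericPoint ↥X) x ((genericPoint_spec ↥X).specializes (Set.mem_univ x)) t := by
  obtain ⟨w, hw, H⟩ := aux hX F G hF hG s hs t ht
  exact ⟨w, hw, fun x hx => H x (by
    rw [AlgebraicGeometry.ringKrullDim_stalk_eq_coheight x, hx]; rfl)⟩

end Groth.Agent.S16090
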