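import Groth.Statements.S16092
import Groth.Agent.CycB.C1Basic
import Groth.Agent.Fdesc.LocGenTensor
import Groth.Agent.SDiv.K476.HomSh2

set_option autoImplicit false
universe u
open CategoryTheory CategoryTheory.Limits AlgebraicGeometry TopologicalSpace
open SDiv

namespace Groth.Agent.S16092

open Groth.Agent.CycB.ModStalk Groth.Agent.CycB.C1Basic Groth.Agent.Fdesc Cyc

lemma exists_common_gen {X : Scheme.{u}} {L : X.Modules} (hL : PicF.IsInvertible L) (x : X) :
    ∃ (U : X.Opens) (_ : x ∈ U) (e : Γ(L, U)), LocGen.IsGen e := by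
  obtain ⟨U, e, hx, he⟩ := (LocGen.isInvertible_iff L).mp hL x
  exact ⟨U, hx, e, he⟩

lemma isGenOn_of_isGen {X : Scheme.{u}} {L : X.Modules} {U : X.Opens} {e : Γ(L, U)}
    (he : LocGen.IsGen e) : IsGenOn L U e := he

lemma exists_unit_ratio {X : Scheme.{u}} {L N : X.Modules} {U V : X.Opens} {x : X} (hU : x ∈ U)
    (hV : x ∈ V) {e : Γ(L, U)} (he : LocGen.IsGen e) {e' : Γ(L, V)} (he' : LocGen.IsGen e')
    {f : Γ(N, U)} (hf : LocGen.IsGen f) {f' : Γ(N, V)} (hf' : LocGen.IsGen f') :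
    ∃ a b : X.presheaf.stalk x, IsUnit a ∧ IsUnit b ∧
      L.presheaf.germ U x hU e = a • L.presheaf.germ V x hV e' ∧
      N.presheaf.germ U x hU f = b • N.presheaf.germ V x hV f' ∧
      (CohB1.tensorMod L N).presheaf.germ U x hU (LocGen.tmul e f) =
        (a * b) • (CohB1.tensorMod L N).presheaf.germ V x hV (LocGen.tmul e' f') := by
  have hUV : x ∈ U ⊓ V := ⟨hU, hV⟩
  have key : ∀ {M : X.Modules} {W W' : X.Opens} (h : W' ≤ W) (hx : x ∈ W') (hx' : x ∈ W)
      (m : Γ(M, W)), M.presheaf.germ W' x hx (LocGen.res M h m) = M.presheaf.germ W x hx' m := by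
    intro M W W' h hx hx' m
    exact TopCat.Presheaf.germ_res_apply M.presheaf (homOfLE h) x hx m
  have gu : ∀ {M : X.Modules} {a : Γ(X, U ⊓ V)} {e₁ e₂ : Γ(M, U ⊓ V)}, LocGen.IsGen e₁ →
      LocGen.IsGen e₂ → e₁ = a • e₂ → IsUnit a := by
    intro M a e₁ e₂ h₁ h₂ h
    obtain ⟨c, hc⟩ := h₁.exists_eq e₂
    rw [h, smul_smul] at hc
    have : (1 : Γ(X, U ⊓ V)) = c * a := h₂.ext (by rw [one_smul, ← hc])
    exact isUnit_iff_exists_inv'.mpr ⟨c, this.symm⟩
  obtain ⟨a, ha⟩ := (he'.res (inf_le_right : U ⊓ V ≤ V)).exists_eq (LocGen.res L inf_le_left e)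
  obtain ⟨b, hb⟩ := (hf'.res (inf_le_right : U ⊓ V ≤ V)).exists_eq (LocGen.res N inf_le_left f)
  have ua := gu (he.res _) (he'.res _) ha
  have ub := gu (hf.res _) (hf'.res _) hb
  refine ⟨X.presheaf.germ _ x hUV a, X.presheaf.germ _ x hUV b, ua.map _, ub.map _, ?_, ?_, ?_⟩
  · rw [← key inf_le_left hUV hU, ← key inf_le_right hUV hV, ha, Groth.Agent.CycB.ModStalk.germ_smul]
  · rw [← key inf_le_left hUV hU, ← key inf_le_right hUV hV, hb, Groth.Agent.CycB.ModStalk.germ_smul]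
  · rw [← key inf_le_left hUV hU, ← key inf_le_right hUV hV, LocGen.res_tmul, LocGen.res_tmul,
      ha, hb, LocGen.smul_tmul, LocGen.tmul_smul, smul_smul, Groth.Agent.CycB.ModStalk.germ_smul, map_mul]

theorem aux {X : Scheme.{u}} (L N : X.Modules)
    (hL : PicF.IsInvertible L) (hN : PicF.IsInvertible N) (η : X) (hspec : ∀ x : X, η ⤳ x)
    (s : Cyc.secFibre L η) (hs : s ≠ 0)
    (t : Cyc.secFibre N η) (ht : t ≠ 0) :
    ∃ w : Cyc.secFibre (CohB1.tensorMod L N) η, w ≠ 0 ∧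
      ∀ (x : ↥X), 
        Cyc.secOrdAt (CohB1.tensorMod L N) η x (hspec x) w =
          Cyc.secOrdAt L η x (hspec x) s + Cyc.secOrdAt N η x (hspec x) t := by
  obtain ⟨U₁, hU₁, e₁, he₁⟩ := exists_common_gen hL η
  obtain ⟨U₂, hU₂, e₂, he₂⟩ := exists_common_gen hN η
  obtain ⟨U, hU, e, f, he, hf⟩ : ∃ (U : X.Opens) (_ : η ∈ U) (e : Γ(L, U)) (f : Γ(N, U)),
      LocGen.IsGen e ∧ LocGen.IsGen f :=
    ⟨U₁ ⊓ U₂, ⟨hU₁, hU₂⟩, LocGen.res L inf_le_left e₁, LocGen.res N inf_le_right e₂,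
      he₁.res _, he₂.res _⟩
  have hLN : PicF.IsInvertible (CohB1.tensorMod L N) := LocGen.isInvertible_tensorMod hL hN
  have ge := (isGenOn_of_isGen he).isGen η hU
  have gf := (isGenOn_of_isGen hf).isGen η hU
  have gef := (isGenOn_of_isGen (he.tmul hf)).isGen η hU
  obtain ⟨φ, rfl⟩ := exists_smul_cl ge s
  obtain ⟨ψ, rfl⟩ := exists_smul_cl gf t
  rw [ne_eq, smul_cl_eq_zero_iff ge] at hs
  rw [ne_eq, smul_cl_eq_zero_iff gf] at ht
  refine ⟨(φ * ψ) • cl _ η ((CohB1.tensorMod L N).presheaf.germ U η hU (LocGen.tmul e f)), ?_, ?_⟩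
  · rw [ne_eq, smul_cl_eq_zero_iff gef, map_mul]
    exact mul_ne_zero hs ht
  intro x
  have h : η ⤳ x := hspec x
  obtain ⟨V₁, hV₁, e₁', he₁'⟩ := exists_common_gen hL x
  obtain ⟨V₂, hV₂, e₂', he₂'⟩ := exists_common_gen hN x
  obtain ⟨V, hV, e', f', he', hf'⟩ : ∃ (V : X.Opens) (_ : x ∈ V) (e : Γ(L, V)) (f : Γ(N, V)),
      LocGen.IsGen e ∧ LocGen.IsGen f :=
    ⟨V₁ ⊓ V₂, ⟨hV₁, hV₂⟩, LocGen.res L inf_le_left e₁', LocGen.res N inf_le_right e₂',
      he₁'.res _, he₂'.res _⟩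
  have hVη : η ∈ V := h.mem_open V.2 hV
  obtain ⟨a, b, ua, ub, h1, h2, h3⟩ := exists_unit_ratio hU hVη he he' hf hf'
  have ra : X.residue η a ≠ 0 := (ua.map (X.residue η).hom).ne_zero
  have rb : X.residue η b ≠ 0 := (ub.map (X.residue η).hom).ne_zero
  have key : ∀ {M : X.Modules} (m : Γ(M, V)), M.presheaf.germ V η hVη m =
      M.presheaf.stalkSpecializes h (M.presheaf.germ V x hV m) := fun {M} m =>
    (TopCat.Presheaf.germ_stalkSpecializes_apply M.presheaf hV h m).symm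
  rw [h1, h2, h3, map_smul, map_smul, map_smul, smul_smul, smul_smul, smul_smul, key, key, key,
    secOrdAt_smul hLN h ((isGenOn_of_isGen (he'.tmul hf')).isGen x hV) _
      (by rw [map_mul, map_mul, map_mul]; exact mul_ne_zero (mul_ne_zero hs ht) (mul_ne_zero ra rb)),
    secOrdAt_smul hL h ((isGenOn_of_isGen he').isGen x hV) _
      (by rw [map_mul]; exact mul_ne_zero hs ra),
    secOrdAt_smul hN h ((isGenOn_of_isGen hf').isGen x hV) _
      (by rw [map_mul]; exact mul_ne_zero ht rb)]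
  simp only [map_mul]
  rw [ordAt_mul h (mul_ne_zero hs ht) (mul_ne_zero ra rb), ordAt_mul h hs ht, ordAt_mul h ra rb,
    ordAt_mul h hs ra, ordAt_mul h ht rb]
  ring

/-- Let X be an integral scheme that is locally Noetherian, with generic point η, let L and N be
invertible O_X-modules and s ∈ L_η, t ∈ N_η nonzero rational sections, with orders ord_{x,L}(s),
ord_{x,N}(t) along the prime divisors, i.e. at the points x with dim O_{X,x} = 1, taken with respect
to generators of the stalks. Then L ⊗_{O_X} N has a nonzero rational section w with ord_{x,L ⊗ N}(w)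
= ord_{x,L}(s) + ord_{x,N}(t) at every such x; hence the Weil divisor class of L ⊗ N is the sum of
the classes of L and N. The published statement names w as the product s·t; here only the existence
of such a w is asserted. -/
theorem result (X : Scheme.{u}) [IsIntegral X] [IsLocallyNoetherian X] (L N : X.Modules)
    (hL : PicF.IsInvertible L) (hN : PicF.IsInvertible N) (s : Cyc.secFibre L (genericPoint ↥X)) (hs : s ≠ 0)
    (t : Cyc.secFibre N (genericPoint ↥X)) (ht : t ≠ 0) :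
    ∃ w : Cyc.secFibre (CohB1.tensorMod L N) (genericPoint ↥X), w ≠ 0 ∧
      ∀ (x : ↥X), ringKrullDim ↑(X.presheaf.stalk x) = 1 →
        Cyc.secOrdAt (CohB1.tensorMod L N) (genericPoint ↥X) x ((genericPoint_spec ↥X).specializes (Set.mem_univ x)) w =
          Cyc.secOrdAt L (genericPoint ↥X) x ((genericPoint_spec ↥X).specializes (Set.mem_univ x)) s +
            Cyc.secOrdAt N (genericPoint ↥X) x ((genericPoint_spec ↥X).specializes (Set.mem_univ x)) t := by
  obtain ⟨w, hw, H⟩ := aux L N hL hN (genericPoint ↥X)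
    (fun x => (genericPoint_spec ↥X).specializes (Set.mem_univ x)) s hs t ht
  exact ⟨w, hw, fun x _ => H x⟩

end Groth.Agent.S16092
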