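import Groth.Statements.S16098
import Groth.Agent.AdFn.K869.Approx
import Groth.Agent.S10997

set_option autoImplicit false
universe u
open AdFn

namespace Groth.Agent.S16098

/-- Let `K/k` be a function field of one variable (every element having finitely many poles, so that the
diagonal `K → A_K` exists), `A_K = ∏'_v (K_v, O_v)` its adele ring over all places, and `S` a
nonempty set of places. (1) For every adele `a` some `f ∈ K` has `a_v - f ∈ O_v` at every place `v ∉
S`: `A_K` is the sum of the principal adeles and the adeles integral outside `S`. (2) An adele `b`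
with `b_v = 0` for `v ∉ S` is a principal adele plus an everywhere-integral adele exactly when some
`S`-integer `f ∈ K` has `b_v - f ∈ O_v` for every `v ∈ S`. (The published statement is for a curve
over an algebraically closed field, possibly singular; here it is stated for the places of a
function field `K/k` of one variable over any field `k` algebraically closed in `K`.) -/
theorem result (k K : Type u) [Field k] [Field K]
    [Algebra k K] (hK : FunFld.IsFunctionField k K) [AdFn.HasFinitePoles k K]
    (S : Set (FunFld.Place k K)) (hS : S.Nonempty) :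
    (∀ a : AdFn.AdeleRing k K, ∃ f : K, ∀ v : FunFld.Place k K, v ∉ S →
        AdFn.AdeleRing.proj v (a - AdFn.AdeleRing.diag f) ∈ AdFn.Ov v) ∧
    (∀ b : AdFn.AdeleRing k K, (∀ v : FunFld.Place k K, v ∉ S → AdFn.AdeleRing.proj v b = 0) →
        ((∃ f : K, ∀ v : FunFld.Place k K, AdFn.AdeleRing.proj v (b - AdFn.AdeleRing.diag f) ∈ AdFn.Ov v) ↔
          ∃ f ∈ AdFn.SInt S, ∀ v ∈ S, AdFn.AdeleRing.proj v b - AdFn.toKv v f ∈ AdFn.Ov v)) := by
  classical
  constructor
  · intro a
    obtain ⟨Pinf, hPinf⟩ := hS
    have hfin : {v : FunFld.Place k K | ¬ a.1 v ∈ AdFn.Ov v}.Finite := by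
      have := a.2
      rwa [Filter.eventually_cofinite] at this
    have hfin2 : ({v : FunFld.Place k K | ¬ a.1 v ∈ AdFn.Ov v} \ S).Finite := hfin.subset Set.sdiff_subset
    let T := hfin2.toFinset
    let e := T.equivFin
    choose f hf using fun v : FunFld.Place k K => K869.AdApprox.exists_sub_mem v (a.1 v)
    obtain ⟨y, hy1, hy2⟩ := Groth.Agent.S10997.result k K hK Pinf T.card
      (fun i => (e.symm i : FunFld.Place k K)) (fun i j hij => e.symm.injective (Subtype.ext hij))
      (by
        rintro ⟨i, hi⟩
        have h1 := (e.symm i).2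
        have hi' : ((e.symm i : T) : FunFld.Place k K) = Pinf := hi
        rw [hi', Set.Finite.mem_toFinset] at h1
        exact h1.2 hPinf)
      (fun i => f (e.symm i)) (fun _ => 0)
    refine ⟨y, fun v hv => ?_⟩
    rw [map_sub, AdFn.AdeleRing.proj_diag, AdFn.AdeleRing.proj_apply]
    by_cases hvT : v ∈ T
    · have h1 := hy1 (e ⟨v, hvT⟩)
      simp only [Equiv.symm_apply_apply, neg_zero, WithZero.exp_zero] at h1
      have h2 : a.1 v - AdFn.toKv v y = (a.1 v - AdFn.toKv v (f v)) - AdFn.toKv v (y - f v) := by
        rw [map_sub]; abel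
      rw [h2]
      exact sub_mem (hf v) ((AdFn.toKv_mem_Ov v _).2 h1.le)
    · have h1 : a.1 v ∈ AdFn.Ov v := by
        by_contra hcon
        exact hvT (hfin2.mem_toFinset.2 ⟨hcon, hv⟩)
      refine sub_mem h1 ((AdFn.toKv_mem_Ov v _).2 (hy2 v ?_ ?_))
      · rintro rfl
        exact hv hPinf
      · rintro ⟨i, hi⟩
        have hi' : ((e.symm i : T) : FunFld.Place k K) = v := hi
        exact hvT (hi' ▸ (e.symm i).2)
  · intro b hb
    constructor
    · rintro ⟨f, hf⟩
      refine ⟨f, fun v hv => ?_, fun v _ => ?_⟩
      · have h1 := hf v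
        rw [map_sub, hb v hv, AdFn.AdeleRing.proj_diag, zero_sub, neg_mem_iff, AdFn.toKv_mem_Ov] at h1
        exact h1
      · have h1 := hf v
        rwa [map_sub, AdFn.AdeleRing.proj_diag] at h1
    · rintro ⟨f, hf, hf'⟩
      refine ⟨f, fun v => ?_⟩
      rw [map_sub, AdFn.AdeleRing.proj_diag]
      by_cases hv : v ∈ S
      · exact hf' v hv
      · rw [hb v hv, zero_sub, neg_mem_iff, AdFn.toKv_mem_Ov]
        exact hf v hv

end Groth.Agent.S16098
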