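import Groth.Statements.S16099
import Groth.Agent.S10978
import Groth.Agent.S10983
import Groth.Agent.S10997

set_option autoImplicit false
set_option linter.style.haveILetI false
set_option linter.unusedVariables false
universe u
open FunFld

namespace Groth.Agent.S16099

/-- For a function field `K/k` of one variable of genus `g` and any place `P`, the `k`-space `K /
(O_{\{P\}} + O_P)` is finite-dimensional of dimension `g` (the number of Weierstrass gaps when `P`
is rational), where `O_{\{P\}}` is the ring of elements of `K` integral at every place other than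
`P` and `O_P` is the valuation ring of `P` (written as the elements integral at every place outside
the complement of `\{P\}`). (The published example is for a curve over an algebraically closed field
and is stated with completions at `P`; this is the equivalent form inside `K`, over any field `k`
algebraically closed in `K`.) -/
theorem result (k K : Type u) [Field k] [Field K]
    [Algebra k K] (hK : FunFld.IsFunctionField k K) (P : FunFld.Place k K) :
    FiniteDimensional k (K ⧸ (Subalgebra.toSubmodule (AdFn.SInt ({P} : Set (FunFld.Place k K))) ⊔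
        Subalgebra.toSubmodule (AdFn.SInt (({P} : Set (FunFld.Place k K))ᶜ)))) ∧
    Module.finrank k (K ⧸ (Subalgebra.toSubmodule (AdFn.SInt ({P} : Set (FunFld.Place k K))) ⊔
        Subalgebra.toSubmodule (AdFn.SInt (({P} : Set (FunFld.Place k K))ᶜ)))) = FunFld.genus k K := by
  classical
  -- the map `x ↦ (x at P, 0 elsewhere)` into the adeles
  have hsing : ∀ x : K, (Pi.single P x : FunFld.Place k K → K) ∈ FunFld.adele k K := by
    intro x
    change ∀ᶠ Q : FunFld.Place k K in Filter.cofinite, Q.1 ((Pi.single P x : FunFld.Place k K → K) Q) ≤ 1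
    rw [Filter.eventually_cofinite]
    refine (Set.finite_singleton P).subset fun Q hQ => ?_
    by_contra hne
    apply hQ
    have : (Pi.single P x : FunFld.Place k K → K) Q = 0 := by
      rw [Pi.single_apply, if_neg (show ¬ Q = P from hne)]
    show Q.1 ((Pi.single P x : FunFld.Place k K → K) Q) ≤ 1
    rw [this, map_zero]; exact zero_le_one
  let s : K →ₗ[k] ↥(FunFld.adele k K) :=
    LinearMap.codRestrict (FunFld.adele k K) (LinearMap.single k (fun _ : FunFld.Place k K => K) P) hsing
  let Φ : K →ₗ[k] (↥(FunFld.adele k K) ⧸ FunFld.ADK (0 : FunFld.Divisor k K)) :=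
    (FunFld.ADK (0 : FunFld.Divisor k K)).mkQ ∘ₗ s
  have hsurj : Function.Surjective Φ := by
    intro c
    obtain ⟨a, rfl⟩ := Submodule.mkQ_surjective _ c
    have hfin : {Q : FunFld.Place k K | ¬ Q.1 (a.1 Q) ≤ 1}.Finite := by
      have := a.2
      change ∀ᶠ Q : FunFld.Place k K in Filter.cofinite, Q.1 (a.1 Q) ≤ 1 at this
      rwa [Filter.eventually_cofinite] at this
    set T : Finset (FunFld.Place k K) := hfin.toFinset.erase P with hT
    let e := T.equivFin
    obtain ⟨y, hy1, hy2⟩ := Groth.Agent.S10997.result k K hK P T.card (fun i => (e.symm i : FunFld.Place k K))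
      (fun i j hij => e.symm.injective (Subtype.ext hij))
      (by
        rintro ⟨i, hi⟩
        have := (e.symm i).2
        have hi' : ((e.symm i : T) : FunFld.Place k K) = P := hi
        rw [hi'] at this
        exact Finset.notMem_erase P _ this)
      (fun i => a.1 (e.symm i)) (fun _ => 0)
    refine ⟨a.1 P - y, ?_⟩
    show Submodule.Quotient.mk (s (a.1 P - y)) = Submodule.Quotient.mk a
    symm
    rw [Submodule.Quotient.eq]
    show a.1 - (s (a.1 P - y)).1 ∈ FunFld.AD (0 : FunFld.Divisor k K) ⊔ LinearMap.range (FunFld.diag k K)
    have hdecomp : a.1 - (s (a.1 P - y)).1 = (a.1 - (s (a.1 P - y)).1 - FunFld.diag k K y) +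
      FunFld.diag k K y := by abel
    rw [hdecomp]
    refine Submodule.add_mem_sup ?_ ⟨y, rfl⟩
    intro Q
    rw [Finsupp.zero_apply, WithZero.exp_zero]
    by_cases hQ : Q = P
    · subst hQ
      have : (a.1 - (s (a.1 Q - y)).1 - FunFld.diag k K y) Q = 0 := by
        show a.1 Q - (Pi.single Q (a.1 Q - y) : FunFld.Place k K → K) Q - y = 0
        rw [Pi.single_eq_same]; ring
      rw [this, map_zero]; exact zero_le_one
    · have : (a.1 - (s (a.1 P - y)).1 - FunFld.diag k K y) Q = a.1 Q - y := by
        show a.1 Q - (Pi.single P (a.1 P - y) : FunFld.Place k K → K) Q - y = a.1 Q - y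
        rw [Pi.single_eq_of_ne hQ]; ring
      rw [this]
      by_cases hQT : Q ∈ T
      · have h1 := hy1 (e ⟨Q, hQT⟩)
        simp only [Equiv.symm_apply_apply, neg_zero, WithZero.exp_zero] at h1
        rw [← Valuation.map_neg, neg_sub]
        exact h1.le
      · have h1 : Q.1 y ≤ 1 := by
          refine hy2 Q hQ ?_
          rintro ⟨i, hi⟩
          apply hQT
          rw [← hi]
          exact (e.symm i).2
        have h2 : Q.1 (a.1 Q) ≤ 1 := by
          by_contra hcon
          exact hQT (Finset.mem_erase.mpr ⟨hQ, hfin.mem_toFinset.mpr hcon⟩)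
        exact (Q.1.map_sub _ _).trans (max_le h2 h1)
  have hker : LinearMap.ker Φ = Subalgebra.toSubmodule (AdFn.SInt ({P} : Set (FunFld.Place k K))) ⊔
        Subalgebra.toSubmodule (AdFn.SInt (({P} : Set (FunFld.Place k K))ᶜ)) := by
    ext x
    rw [LinearMap.mem_ker]
    have h1 : Φ x = 0 ↔ s x ∈ FunFld.ADK (0 : FunFld.Divisor k K) := by
      show Submodule.Quotient.mk (s x) = 0 ↔ _
      rw [Submodule.Quotient.mk_eq_zero]
    rw [h1]
    constructor
    · intro h
      change (s x).1 ∈ FunFld.AD (0 : FunFld.Divisor k K) ⊔ LinearMap.range (FunFld.diag k K) at h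
      obtain ⟨α, hα, β, ⟨y, rfl⟩, hsum⟩ := Submodule.mem_sup.mp h
      have hxy : x = y + (x - y) := by ring
      rw [hxy]
      refine Submodule.add_mem_sup ?_ ?_
      · rw [Subalgebra.mem_toSubmodule, AdFn.mem_SInt]
        intro Q hQ
        have hQ' : Q ≠ P := fun hh => hQ (by rw [hh]; rfl)
        have h2 := congrFun hsum Q
        have h3 : (s x).1 Q = 0 := by
          show (Pi.single P x : FunFld.Place k K → K) Q = 0
          rw [Pi.single_apply, if_neg hQ']
        rw [h3] at h2
        have h4 : α Q = - y := by
          have : α Q + y = 0 := h2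
          exact eq_neg_of_add_eq_zero_left this
        have h5 := hα Q
        rw [h4, Valuation.map_neg, Finsupp.zero_apply, WithZero.exp_zero] at h5
        exact h5
      · rw [Subalgebra.mem_toSubmodule, AdFn.mem_SInt]
        intro Q hQ
        have hQ' : Q = P := by
          by_contra hne
          exact hQ hne
        subst hQ'
        have h2 := congrFun hsum Q
        have h3 : (s x).1 Q = x := by
          show (Pi.single Q x : FunFld.Place k K → K) Q = x
          rw [Pi.single_eq_same]
        rw [h3] at h2
        have h4 : α Q = x - y := by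
          have : α Q + y = x := h2
          exact eq_sub_of_add_eq this
        have h5 := hα Q
        rw [h4, Finsupp.zero_apply, WithZero.exp_zero] at h5
        exact h5
    · intro h
      obtain ⟨y, hy, z, hz, rfl⟩ := Submodule.mem_sup.mp h
      rw [Subalgebra.mem_toSubmodule, AdFn.mem_SInt] at hy hz
      show (s (y + z)).1 ∈ FunFld.AD (0 : FunFld.Divisor k K) ⊔ LinearMap.range (FunFld.diag k K)
      have hdecomp : (s (y + z)).1 = ((s (y + z)).1 - FunFld.diag k K y) + FunFld.diag k K y := by abel
      rw [hdecomp]
      refine Submodule.add_mem_sup ?_ ⟨y, rfl⟩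
      intro Q
      rw [Finsupp.zero_apply, WithZero.exp_zero]
      by_cases hQ : Q = P
      · subst hQ
        have : ((s (y + z)).1 - FunFld.diag k K y) Q = z := by
          show (Pi.single Q (y + z) : FunFld.Place k K → K) Q - y = z
          rw [Pi.single_eq_same]; ring
        rw [this]
        exact hz Q (fun hh => hh rfl)
      · have : ((s (y + z)).1 - FunFld.diag k K y) Q = - y := by
          show (Pi.single P (y + z) : FunFld.Place k K → K) Q - y = - y
          rw [Pi.single_eq_of_ne hQ]; ring
        rw [this, Valuation.map_neg]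
        exact hy Q (fun hh => hQ hh)
  have hmain := Groth.Agent.S10983.result k K hK 0
  have hell : FunFld.ell (0 : FunFld.Divisor k K) = 1 := by
    unfold FunFld.ell
    rw [Groth.Agent.S10978.result k K hK, Submodule.one_eq_span]
    exact finrank_span_singleton (by simp)
  have hdeg : (0 : FunFld.Divisor k K).deg = 0 := by simp [FunFld.Divisor.deg]
  rw [hell, hdeg] at hmain
  let eq1 := (Submodule.quotEquivOfEq _ _ hker).symm.trans (Φ.quotKerEquivOfSurjective hsurj)
  haveI := hmain.1
  refine ⟨Module.Finite.equiv eq1.symm, ?_⟩
  rw [LinearEquiv.finrank_eq eq1]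
  have h2 := hmain.2
  push_cast at h2
  linarith

end Groth.Agent.S16099
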