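import Groth.Statements.S16100
import Groth.Agent.AdFn.K869.Approx
import Groth.Agent.S16099

set_option autoImplicit false
universe u
open AdFn

namespace Groth.Agent.S16100

/-- For a function field `K/k` of one variable of genus `g` and any place `P` with completion `K_P` and
valuation ring `O_P ⊆ K_P`, the `k`-space `K_P / (O_{\{P\}} + O_P)`, where `O_{\{P\}} ⊆ K ⊆ K_P` is
the ring of elements of `K` integral at every place other than `P`, is finite-dimensional of
dimension `g` (the number of Weierstrass gaps when `P` is rational). (The published example is for a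
curve over an algebraically closed field; here any field `k` algebraically closed in `K` and any
place `P` are allowed.) -/
theorem result (k K : Type u) [Field k] [Field K]
    [Algebra k K] (hK : FunFld.IsFunctionField k K) (P : FunFld.Place k K) :
    FiniteDimensional k (AdFn.Kv P ⧸
        (Subalgebra.toSubmodule ((AdFn.SInt ({P} : Set (FunFld.Place k K))).map
            (IsScalarTower.toAlgHom k K (AdFn.Kv P))) ⊔
          Submodule.span k (AdFn.Ov P : Set (AdFn.Kv P)))) ∧
    Module.finrank k (AdFn.Kv P ⧸
        (Subalgebra.toSubmodule ((AdFn.SInt ({P} : Set (FunFld.Place k K))).map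
            (IsScalarTower.toAlgHom k K (AdFn.Kv P))) ⊔
          Submodule.span k (AdFn.Ov P : Set (AdFn.Kv P)))) = FunFld.genus k K := by
  obtain ⟨h1, h2⟩ := Groth.Agent.S16099.result k K hK P
  set N := (Subalgebra.toSubmodule ((AdFn.SInt ({P} : Set (FunFld.Place k K))).map
            (IsScalarTower.toAlgHom k K (AdFn.Kv P))) ⊔
          Submodule.span k (AdFn.Ov P : Set (AdFn.Kv P))) with hN
  let Φ : K →ₗ[k] (AdFn.Kv P ⧸ N) := N.mkQ ∘ₗ (IsScalarTower.toAlgHom k K (AdFn.Kv P)).toLinearMap
  have hsurj : Function.Surjective Φ := by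
    intro c
    obtain ⟨x, rfl⟩ := Submodule.mkQ_surjective _ c
    obtain ⟨f, hf⟩ := K869.AdApprox.exists_sub_mem P x
    refine ⟨f, ?_⟩
    change Submodule.Quotient.mk (AdFn.toKv P f) = Submodule.Quotient.mk x
    symm
    rw [Submodule.Quotient.eq]
    exact Submodule.mem_sup_right (Submodule.subset_span hf)
  have hker : LinearMap.ker Φ = (Subalgebra.toSubmodule (AdFn.SInt ({P} : Set (FunFld.Place k K))) ⊔
        Subalgebra.toSubmodule (AdFn.SInt (({P} : Set (FunFld.Place k K))ᶜ))) := by
    ext x
    rw [LinearMap.mem_ker]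
    change (Submodule.Quotient.mk (AdFn.toKv P x) : AdFn.Kv P ⧸ N) = 0 ↔ _
    rw [Submodule.Quotient.mk_eq_zero, hN, Submodule.mem_sup, Submodule.mem_sup]
    constructor
    · rintro ⟨y, hy, z, hz, hyz⟩
      obtain ⟨f, hf, rfl⟩ := hy
      rw [K869.AdApprox.mem_span_Ov] at hz
      refine ⟨f, hf, x - f, ?_, by abel⟩
      intro v hv
      have hv' : v = P := by simpa using hv
      subst hv'
      rw [← AdFn.toKv_mem_Ov, map_sub, ← hyz]
      have h3 : AdFn.toKv v f + z - AdFn.toKv v f = z := by abel
      change AdFn.toKv v f + z - AdFn.toKv v f ∈ _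
      rw [h3]
      exact hz
    · rintro ⟨f, hf, z, hz, rfl⟩
      refine ⟨AdFn.toKv P f, ⟨f, hf, rfl⟩, AdFn.toKv P z, Submodule.subset_span ?_, (map_add _ _ _).symm⟩
      exact (AdFn.toKv_mem_Ov P z).2 (hz P (by simp))
  let e := (Submodule.quotEquivOfEq _ _ hker.symm).trans (LinearMap.quotKerEquivOfSurjective Φ hsurj)
  exact ⟨Module.Finite.equiv e, by rw [← h2, ← e.finrank_eq]⟩

end Groth.Agent.S16100
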