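import Groth.Statements.S16103
import Groth.Agent.Coherent.K54.FibreCx
import Groth.Agent.CurvesB.NodalRpush
-- import your own Groth.Agent.* helpers here

set_option autoImplicit false
universe u
open Coherent

namespace Groth.Agent.S16103

open AlgebraicGeometry CategoryTheory Scheme.Modules in
/-- Let π : X → Y be proper of finite presentation, F a quasi-coherent O_X-module of finite
presentation, flat over Y, and q a natural number such that H^q(X_y, F|_{X_y}) = 0 and H^{q+2}(X_y,
F|_{X_y}) = 0 for every point y of Y (cohomology of the restriction of F to the scheme-theoretic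
fibre). Then R^{q+1} π_* F, the (q+1)-st right derived functor of π_* on O_X-modules applied to F,
is a finite locally free O_Y-module. (The source's statement, with p = q + 2, asks instead of the
vanishing in degree q only that the degree-q base change map to the fibre be surjective at every
point; the vanishing assumed here is the special case in which that map has zero target.) -/
theorem result
    {X Y : Scheme.{u}} (π : X ⟶ Y) [IsProper π] [LocallyOfFinitePresentation π]
    [HasInjectiveResolutions X.Modules]
    (F : X.Modules) [Coh.IsQCoh F] (hfp : CohB1.IsFP F) (hfl : FlatMod.IsFlatOver π F) (q : ℕ)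
    (hq : ∀ y : Y, Subsingleton (CohIII.fiberH π F y q))
    (hq2 : ∀ y : Y, Subsingleton (CohIII.fiberH π F y (q + 2))) :
    FlatMod.IsFinLocFree ((Coh.Rpush π (q + 1)).obj F) := by
  have hqc : Coh.IsQCoh F := inferInstance
  refine Groth.Agent.CurvesB.NodalRpush.isFinLocFree_of_sections _
    (Groth.Agent.CohqA.RelCoh.isQCoh_Rpush π F hqc (q + 1)) fun V hV => ?_
  obtain ⟨P, hP, -, hG, hr⟩ := K54.FibreCx.package π F hfp hfl V hV
  have h1 := K54.FibreCx.dRank_eq_zero π F hV P q (fun y => (hr y q).2) hq
  have h2 := K54.FibreCx.dRank_eq_zero π F hV P (q + 2) (fun y => (hr y (q + 2)).2) hq2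
  have a1 := (K54.CxAlg.projective_opcycles_of_dRank_eq_zero P hP (-(q : ℤ)) (-((q + 1 : ℕ) : ℤ))
    (by push_cast; ring) h1).2.1
  have a2 := (K54.CxAlg.projective_opcycles_of_dRank_eq_zero P hP (-((q + 2 : ℕ) : ℤ))
    (-((q + 3 : ℕ) : ℤ)) (by push_cast; ring) h2).1
  obtain ⟨b1, b2, -⟩ := K54.CxAlg.finite_projective_homology P hP (-((q + 1 : ℕ) : ℤ))
    (-((q + 2 : ℕ) : ℤ)) (by push_cast; ring) a1 a2
  obtain ⟨e⟩ := hG (q + 1)
  exact ⟨Module.Finite.equiv e.symm, Module.Projective.of_equiv e.symm⟩

end Groth.Agent.S16103
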