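import Groth.Statements.S16104
import Mathlib.RingTheory.Ideal.KrullsHeightTheorem
import Mathlib.RingTheory.Artinian.Module

set_option autoImplicit false
universe u v
open LunaSt

namespace Groth.Agent.S16104

/-- Case of local rings. Let φ : A → B be a local homomorphism of Noetherian local rings whose composite
A → B/m_B² is surjective (the first infinitesimal neighbourhoods give a closed immersion), and
assume that A/m_A^(n+1) and B/m_B^(n+1) have the same length for every n (the associated graded
modules of the two maximal ideals have pieces of the same dimension over the common residue field).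
Then for every n the composite A → B/m_B^(n+1) is surjective with kernel m_A^(n+1): φ identifies all
infinitesimal neighbourhoods. (The published statement is for a pointed morphism of Noetherian local
algebraic stacks; its proof reduces to this case of local rings.) -/
theorem result
    (A : Type u) (B : Type v) [CommRing A] [CommRing B] [IsLocalRing A] [IsLocalRing B]
    [IsNoetherianRing A] [IsNoetherianRing B] (φ : A →+* B) [IsLocalHom φ]
    (h1 : Function.Surjective ((Ideal.Quotient.mk (IsLocalRing.maximalIdeal B ^ 2)).comp φ))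
    (hlen : ∀ n : ℕ, Module.length A (A ⧸ IsLocalRing.maximalIdeal A ^ (n + 1)) =
      Module.length B (B ⧸ IsLocalRing.maximalIdeal B ^ (n + 1))) (n : ℕ) :
    Function.Surjective ((Ideal.Quotient.mk (IsLocalRing.maximalIdeal B ^ (n + 1))).comp φ) ∧
      RingHom.ker ((Ideal.Quotient.mk (IsLocalRing.maximalIdeal B ^ (n + 1))).comp φ) =
        IsLocalRing.maximalIdeal A ^ (n + 1) := by
  classical
  have hm : ∀ a ∈ IsLocalRing.maximalIdeal A, φ a ∈ IsLocalRing.maximalIdeal B := fun a ha => by
    rw [IsLocalRing.mem_maximalIdeal, mem_nonunits_iff] at ha ⊢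
    exact fun h => ha (isUnit_of_map_unit φ a h)
  have hmap : (IsLocalRing.maximalIdeal A).map φ ≤ IsLocalRing.maximalIdeal B :=
    Ideal.map_le_iff_le_comap.2 hm
  have hmappow : ∀ j : ℕ, (IsLocalRing.maximalIdeal A ^ j).map φ ≤ IsLocalRing.maximalIdeal B ^ j :=
    fun j => by rw [Ideal.map_pow]; exact Ideal.pow_right_mono hmap j
  -- every element of `B` is the sum of an element of the image and an element of `m_B ^ 2`
  have hB : ∀ b : B, ∃ a : A, b - φ a ∈ IsLocalRing.maximalIdeal B ^ 2 := fun b => by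
    obtain ⟨a, ha⟩ := h1 (Ideal.Quotient.mk _ b)
    exact ⟨a, Ideal.Quotient.eq.1 ha.symm⟩
  have hmB : ∀ b ∈ IsLocalRing.maximalIdeal B, ∃ a ∈ IsLocalRing.maximalIdeal A,
      b - φ a ∈ IsLocalRing.maximalIdeal B ^ 2 := fun b hb => by
    obtain ⟨a, ha⟩ := hB b
    refine ⟨a, ?_, ha⟩
    have h2 : φ a ∈ IsLocalRing.maximalIdeal B := by
      have := (IsLocalRing.maximalIdeal B).sub_mem hb (Ideal.pow_le_self two_ne_zero ha)
      simpa using this
    rw [IsLocalRing.mem_maximalIdeal, mem_nonunits_iff] at h2 ⊢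
    exact fun h => h2 (h.map φ)
  -- graded pieces: `m_B ^ j ⊆ φ (m_A ^ j) + m_B ^ (j+1)`
  have hpow : ∀ j : ℕ, ∀ b ∈ IsLocalRing.maximalIdeal B ^ j, ∃ a ∈ IsLocalRing.maximalIdeal A ^ j,
      b - φ a ∈ IsLocalRing.maximalIdeal B ^ (j + 1) := by
    intro j
    induction j with
    | zero =>
      intro b _
      obtain ⟨a, ha⟩ := hB b
      refine ⟨a, by simp, ?_⟩
      simpa using Ideal.pow_le_self two_ne_zero ha
    | succ j ih =>
      intro b hb
      rw [pow_succ] at hb
      refine Submodule.mul_induction_on hb ?_ ?_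
      · intro x hx y hy
        obtain ⟨a, ha, hxa⟩ := ih x hx
        obtain ⟨c, hc, hyc⟩ := hmB y hy
        refine ⟨a * c, by rw [pow_succ]; exact Ideal.mul_mem_mul ha hc, ?_⟩
        have e : x * y - φ (a * c) = (x - φ a) * y + φ a * (y - φ c) := by
          rw [map_mul]; ring
        rw [e]
        refine Ideal.add_mem _ ?_ ?_
        · rw [pow_succ _ (j + 1)]
          exact Ideal.mul_mem_mul hxa hy
        · have h3 : φ a ∈ IsLocalRing.maximalIdeal B ^ j := hmappow j (Ideal.mem_map_of_mem φ ha)
          have := Ideal.mul_mem_mul h3 hyc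
          rwa [← pow_add] at this
      · rintro x y ⟨a, ha, hxa⟩ ⟨c, hc, hyc⟩
        refine ⟨a + c, Ideal.add_mem _ ha hc, ?_⟩
        have e : x + y - φ (a + c) = (x - φ a) + (y - φ c) := by rw [map_add]; ring
        rw [e]
        exact Ideal.add_mem _ hxa hyc
  have hall : ∀ (j : ℕ) (b : B), ∃ a : A, b - φ a ∈ IsLocalRing.maximalIdeal B ^ j := by
    intro j
    induction j with
    | zero => intro b; exact ⟨0, by simp⟩
    | succ j ih =>
      intro b
      obtain ⟨a, ha⟩ := ih b
      obtain ⟨c, hc, hbc⟩ := hpow j _ ha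
      refine ⟨a + c, ?_⟩
      have e : b - φ (a + c) = b - φ a - φ c := by rw [map_add]; ring
      rwa [e]
  have hsurj : Function.Surjective
      ((Ideal.Quotient.mk (IsLocalRing.maximalIdeal B ^ (n + 1))).comp φ) := fun q => by
    obtain ⟨b, rfl⟩ := Ideal.Quotient.mk_surjective q
    obtain ⟨a, ha⟩ := hall (n + 1) b
    exact ⟨a, (Ideal.Quotient.eq.2 ha).symm⟩
  refine ⟨hsurj, ?_⟩
  have hle : IsLocalRing.maximalIdeal A ^ (n + 1) ≤
      RingHom.ker ((Ideal.Quotient.mk (IsLocalRing.maximalIdeal B ^ (n + 1))).comp φ) := by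
    intro a ha
    rw [RingHom.mem_ker, RingHom.comp_apply, Ideal.Quotient.eq_zero_iff_mem]
    exact hmappow _ (Ideal.mem_map_of_mem φ ha)
  by_contra hne
  algebraize [φ]
  set Q := B ⧸ IsLocalRing.maximalIdeal B ^ (n + 1) with hQ
  have hsA : Function.Surjective (algebraMap A Q) := hsurj
  have hlQ : Module.length A Q = Module.length B Q := by
    rw [Module.length_eq_of_surjective (R := Q) (M := Q) hsA,
      Module.length_eq_of_surjective (R := Q) (M := Q) (S := B) Ideal.Quotient.mk_surjective]
  -- finite length of `A / m_A ^ (n+1)`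
  have hart : IsArtinianRing (A ⧸ IsLocalRing.maximalIdeal A ^ (n + 1)) := by
    refine IsLocalRing.quotient_artinian_of_mem_minimalPrimes_of_isLocalRing _ ?_
    refine ⟨⟨inferInstance, Ideal.pow_le_self n.succ_ne_zero⟩, ?_⟩
    rintro q ⟨hq, hq'⟩ _
    exact Ideal.IsPrime.le_of_pow_le hq'
  have hart' : IsArtinian A (A ⧸ IsLocalRing.maximalIdeal A ^ (n + 1)) :=
    isArtinian_of_surjective_algebraMap
      (R := A ⧸ IsLocalRing.maximalIdeal A ^ (n + 1)) Ideal.Quotient.mk_surjective
  let f : (A ⧸ IsLocalRing.maximalIdeal A ^ (n + 1)) →ₐ[A] Q :=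
    Ideal.Quotient.liftₐ _ (Algebra.ofId A Q) (fun a ha => hle ha)
  have hf : Function.Surjective f := fun q => by
    obtain ⟨a, ha⟩ := hsA q
    exact ⟨Ideal.Quotient.mk _ a, ha⟩
  have hker : LinearMap.ker f.toLinearMap ≠ ⊥ := by
    intro h0
    apply hne
    refine le_antisymm ?_ hle
    intro a ha
    have h4 : f (Ideal.Quotient.mk _ a) = 0 := ha
    have h5 : (Ideal.Quotient.mk (IsLocalRing.maximalIdeal A ^ (n + 1)) a) ∈
      LinearMap.ker f.toLinearMap := h4
    rw [h0, Submodule.mem_bot, Ideal.Quotient.eq_zero_iff_mem] at h5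
    exact h5
  have hlt := Submodule.length_quotient_lt (LinearMap.ker f.toLinearMap) hker
  have heq : Module.length A ((A ⧸ IsLocalRing.maximalIdeal A ^ (n + 1)) ⧸
      LinearMap.ker f.toLinearMap) = Module.length A Q :=
    (LinearMap.quotKerEquivOfSurjective f.toLinearMap hf).length_eq
  rw [heq, hlQ, hlen n] at hlt
  exact lt_irrefl _ hlt

end Groth.Agent.S16104
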