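import Groth.Statements.S16106
import Groth.Agent.LunaSt.K881.FgColim
import Groth.Agent.LunaSt.K881.EtSec
import Groth.Agent.S0595
import Groth.Agent.S0600
import Groth.Agent.S0543

set_option autoImplicit false
universe u
open CategoryTheory CategoryTheory.Limits
open LunaSt

namespace Groth.Agent.S16106

/-- Local form. Let A be a local G-ring, that is a Noetherian local ring all of whose local rings have
regular completion maps (for instance an excellent local ring), with maximal ideal m and m-adic
completion Â. Let F be a functor from A-algebras (commutative rings under A) to sets preserving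
filtered colimits, let ξ ∈ F(Â) and N ≥ 0. Then there exist an étale A-algebra A′, a map of
A-algebras φ : A′ → A/m^(N+1) (an étale neighbourhood of the closed point with trivial residue field
extension) and ξ′ ∈ F(A′) such that ξ′ and ξ have the same image in F(A/m^(N+1)); here π is the
A-algebra map Â → A/m^(N+1), pinned by its underlying ring map. (The published statement is for any
point of the spectrum of a G-ring, with a functor locally of finite presentation on all schemes over
it; its proof first localizes at the point, and only the values of the functor on affine schemes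
enter, so the row states this local form for a functor on A-algebras preserving filtered colimits.) -/
theorem result (A : Type u) [CommRing A] [IsLocalRing A]
    (hG : CAlg.IsGRing A)
    (F : Under (CommRingCat.of A) ⥤ Type u)
    (hF : ∀ (J : Type u) [SmallCategory J] [IsFiltered J], PreservesColimitsOfShape J F)
    (N : ℕ)
    (π : Under.mk (CommRingCat.ofHom (algebraMap A
        (AdicCompletion (IsLocalRing.maximalIdeal A) A))) ⟶
      Under.mk (CommRingCat.ofHom (algebraMap A (A ⧸ IsLocalRing.maximalIdeal A ^ (N + 1)))))
    (hπ : π.right = CommRingCat.ofHom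
      (AdicCompletion.evalₐ (IsLocalRing.maximalIdeal A) (N + 1) :
        AdicCompletion (IsLocalRing.maximalIdeal A) A →ₐ[A]
          A ⧸ IsLocalRing.maximalIdeal A ^ (N + 1)).toRingHom)
    (ξ : F.obj (Under.mk (CommRingCat.ofHom (algebraMap A
        (AdicCompletion (IsLocalRing.maximalIdeal A) A))))) :
    ∃ (A' : Type u) (_ : CommRing A') (_ : Algebra A A') (_ : Algebra.Etale A A')
      (φ : Under.mk (CommRingCat.ofHom (algebraMap A A')) ⟶
        Under.mk (CommRingCat.ofHom (algebraMap A (A ⧸ IsLocalRing.maximalIdeal A ^ (N + 1)))))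
      (ξ' : F.obj (Under.mk (CommRingCat.ofHom (algebraMap A A')))),
      F.map φ ξ' = F.map π ξ := by
  have hN : IsNoetherianRing A := hG.1
  let I := IsLocalRing.maximalIdeal A
  have hNΛ : IsNoetherianRing (AdicCompletion I A) := Groth.Agent.S0543.result A I
  have hreg : CAlg.IsRegularHom A (AdicCompletion I A) := Groth.Agent.S0600.result A hG I
  obtain ⟨B, _, _, hB, f, ζ, hζ⟩ := K881.FgColim.exists_fp F hF ξ
  obtain ⟨C, _, _, hC, g, h, hgh⟩ := Groth.Agent.S0595.result A (AdicCompletion I A) hreg B f
  have hne : I ^ (N + 1) ≠ ⊤ := fun hh =>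
    (IsLocalRing.maximalIdeal.isMaximal A).ne_top
      (top_le_iff.1 (hh ▸ Ideal.pow_le_self (Nat.succ_ne_zero N)))
  obtain ⟨A', _, _, hA', c, φ, hφ⟩ := K881.EtSec.exists_etale_factor (I ^ (N + 1)) hne
    ((AdicCompletion.evalₐ I (N + 1)).comp h)
  have hπ' : π = K881.FgColim.UHom (AdicCompletion.evalₐ I (N + 1) :
      AdicCompletion I A →ₐ[A] A ⧸ I ^ (N + 1)) := Under.UnderMorphism.ext hπ
  refine ⟨A', inferInstance, inferInstance, hA', K881.FgColim.UHom φ,
    F.map (K881.FgColim.UHom c) (F.map (K881.FgColim.UHom g) ζ), ?_⟩
  rw [hπ', ← hζ, ← hgh, K881.FgColim.UHom_comp]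
  have e : K881.FgColim.UHom c ≫ K881.FgColim.UHom φ =
      K881.FgColim.UHom h ≫ K881.FgColim.UHom (AdicCompletion.evalₐ I (N + 1) :
      AdicCompletion I A →ₐ[A] A ⧸ I ^ (N + 1)) := by
    rw [← K881.FgColim.UHom_comp, hφ, K881.FgColim.UHom_comp]
  have e2 := congrArg (fun q => F.map q (F.map (K881.FgColim.UHom g) ζ)) e
  simp only [Functor.map_comp, types_comp_apply] at e2 ⊢
  exact e2

end Groth.Agent.S16106
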