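import Groth.Statements.S16108
import Groth.Agent.LunaSt.K881.Luna2

set_option autoImplicit false
universe u v w
open CategoryTheory
open LunaSt

namespace Groth.Agent.S16108

/-- Affine case with one group. Let k be a field and H a commutative Hopf algebra of finite type over k
all of whose finite-dimensional comodules are semisimple (a linearly reductive affine group G of
finite type). Let A and B be Noetherian commutative k-algebras with coactions of H that are algebra
maps, and let φ : A → B be an étale k-algebra map compatible with the coactions (a G-equivariant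
étale morphism Spec B → Spec A, so that [Spec B/G] → [Spec A/G] is étale, separated and
representable, with good moduli spaces Spec B^G and Spec A^G); let ψ : A^G → B^G be the restriction
of φ to the invariant rings. Let w be a k-point of Spec B whose orbit is closed, such that the orbit
of φ(w) is closed and the scheme-theoretic stabilizers of w and of φ(w) in G coincide (equivalently
the inclusion of the first in the second is an isomorphism). Then there is an invariant function g ∈
B^G with g(w) ≠ 0 such that A^G → (B^G)[1/g] is étale and B[1/g] is the pushout A ⊗_{A^G}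
(B^G)[1/g]: the square of rings with corners A^G, A, (B^G)[1/g], B[1/g] is cocartesian. (The
published statement is for an étale, separated, representable morphism of Noetherian algebraic
stacks with good moduli spaces and a closed point; this row is its case of quotient stacks of affine
schemes by one linearly reductive group over a field, at a rational point.) -/
theorem result
    (k : Type u) [Field k] (H : Type v) [CommRing H] [HopfAlgebra k H] [Algebra.FiniteType k H]
    (hG : HopfRep.IsLinearlyReductive k H)
    (A B : Type w) [CommRing A] [CommRing B] [Algebra k A] [Algebra k B]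
    [IsNoetherianRing A] [IsNoetherianRing B]
    [HopfRep.Comod k H A] [GLin.IsCoactAlg k H A] [HopfRep.Comod k H B] [GLin.IsCoactAlg k H B]
    (φ : A →ₐ[k] B) (hφ : Hoch.IsComodHom H φ.toLinearMap) (het : φ.toRingHom.Etale)
    (ψ : ↥(GLin.invariants k H A) →+* ↥(GLin.invariants k H B))
    (hψ : ∀ a : ↥(GLin.invariants k H A), (ψ a : B) = φ (a : A))
    (w : B →ₐ[k] k) (hw : GLin.IsClosedOrbit k H w) (hφw : GLin.IsClosedOrbit k H (w.comp φ))
    (hst : GLin.stabIdeal k H (w.comp φ) = GLin.stabIdeal k H w) :
    ∃ g : ↥(GLin.invariants k H B), w (g : B) ≠ 0 ∧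
      ((algebraMap ↥(GLin.invariants k H B) (Localization.Away g)).comp ψ).Etale ∧
      IsPushout (CommRingCat.ofHom (GLin.invariants k H A).val.toRingHom)
        (CommRingCat.ofHom ((algebraMap ↥(GLin.invariants k H B) (Localization.Away g)).comp ψ))
        (CommRingCat.ofHom ((algebraMap B (Localization.Away (g : B))).comp φ.toRingHom))
        (CommRingCat.ofHom (Localization.awayMap (GLin.invariants k H B).val.toRingHom g)) := by
  obtain ⟨α, hα⟩ := K881.Rey.exists_nInt hG
  let _ : Algebra A B := φ.toRingHom.toAlgebra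
  let _ : Algebra ↥(GLin.invariants k H A) ↥(GLin.invariants k H B) := ψ.toAlgebra
  have hkAB : IsScalarTower k A B := .of_algebraMap_eq fun r => (φ.commutes r).symm
  have hRSB : IsScalarTower ↥(GLin.invariants k H A) ↥(GLin.invariants k H B) B :=
    .of_algebraMap_eq fun r => (hψ r).symm
  have hEt : Algebra.Etale A B := het
  have hφ' : Hoch.IsComodHom H (IsScalarTower.toAlgHom k A B).toLinearMap := hφ
  have hSN : IsNoetherianRing ↥(GLin.invariants k H B) := K881.Typ.isNoetherianRing_invariants hα
  have hRN : IsNoetherianRing ↥(GLin.invariants k H A) := K881.Typ.isNoetherianRing_invariants hα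
  -- the ideals of the orbits
  set J : Ideal B := RingHom.ker (GLin.orbitHom k H w) with hJdef
  have hJ : HopfRep.IsSubcomod (k := k) (A := H) (J.restrictScalars k) :=
    K690.Orbits.isSubcomod_ker_orbitHom w
  have hIeq : J.comap (algebraMap A B) = RingHom.ker (GLin.orbitHom k H (w.comp φ)) := by
    ext a
    rw [Ideal.mem_comap, hJdef, RingHom.mem_ker, RingHom.mem_ker, K881.Luna.orbitHom_comp φ hφ]
    rfl
  have hI : HopfRep.IsSubcomod (k := k) (A := H)
      ((J.comap (algebraMap A B)).restrictScalars k) := by
    rw [hIeq]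
    exact K690.Orbits.isSubcomod_ker_orbitHom (w.comp φ)
  have hs1 : ∀ b : B, ∃ a : A, b - algebraMap A B a ∈ J :=
    K881.Luna.exists_sub φ hφ w hφw hst
  have hJsup := K881.Infin.le_sup (A := A) J hs1
  have hs : ∀ (j : ℕ) (b : B), ∃ a : A, b - algebraMap A B a ∈ J ^ j := fun j =>
    K881.Infin.exists_sub J hs1 hJsup j
  obtain ⟨g₀, hg1, hg2⟩ := K881.Infin.exists_mul_mem (A := A) J hJsup (IsNoetherian.noetherian J)
  have hc : ∀ (j : ℕ) (a : A), algebraMap A B a ∈ J ^ j → a ∈ (J.comap (algebraMap A B)) ^ j :=
    fun j a ha => K881.Infin.comap_pow J hs1 hg1 hg2 j ha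
  -- the maximal ideals of the invariant rings
  have hinvB : ∀ r : ↥(GLin.invariants k H B), (r : B) ∈ J ↔ w (r : B) = 0 := by
    intro r
    constructor
    · intro hr
      rw [← K690.Orbits.counit_orbitHom (A := H) w (r : B), (RingHom.mem_ker).1 hr, map_zero]
    · intro hr
      have hr' : HopfRep.Comod.coact (k := k) (A := H) (r : B) = TensorProduct.tmul k (r : B) (1 : H) := r.2
      rw [hJdef, RingHom.mem_ker, K690.Orbits.orbitHom_apply, hr', LinearMap.rTensor_tmul,
        TensorProduct.lid_tmul]
      change w (r : B) • (1 : H) = 0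
      rw [hr, zero_smul]
  let n : Ideal ↥(GLin.invariants k H B) := RingHom.ker (w.toRingHom.comp
    (algebraMap ↥(GLin.invariants k H B) B))
  have hnw : ∀ r : ↥(GLin.invariants k H B), r ∈ n ↔ w (r : B) = 0 := fun r => Iff.rfl
  have hn : ∀ r : ↥(GLin.invariants k H B), r ∈ n ↔ (r : B) ∈ J := fun r => by
    rw [hnw, hinvB]
  have hnmax : n.IsMaximal := RingHom.ker_isMaximal_of_surjective _ fun c =>
    ⟨algebraMap k ↥(GLin.invariants k H B) c, w.commutes c⟩
  have hmmax : (n.comap (algebraMap ↥(GLin.invariants k H A) ↥(GLin.invariants k H B))).IsMaximal := by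
    have e : n.comap (algebraMap ↥(GLin.invariants k H A) ↥(GLin.invariants k H B)) =
        RingHom.ker ((w.comp φ).toRingHom.comp (algebraMap ↥(GLin.invariants k H A) A)) := by
      ext r
      rw [Ideal.mem_comap, hnw, RingHom.mem_ker]
      change w (ψ r : B) = 0 ↔ w (φ (r : A)) = 0
      rw [hψ]
    rw [e]
    exact RingHom.ker_isMaximal_of_surjective _ fun c =>
      ⟨algebraMap k ↥(GLin.invariants k H A) c, (w.comp φ).commutes c⟩
  -- finiteness
  have hftA : Algebra.FiniteType ↥(GLin.invariants k H A) A := K881.FinType.finiteType hG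
  have hftB : Algebra.FiniteType ↥(GLin.invariants k H B) B := K881.FinType.finiteType hG
  have hftRS : Algebra.FiniteType ↥(GLin.invariants k H A) ↥(GLin.invariants k H B) := by
    classical
    obtain ⟨s, hs⟩ := K881.FinInv.exists_finset hG A B hφ'
    have hsB : ∀ y ∈ s, y ∈ GLin.invariants k H B := fun y hy => by
      rw [hs]; exact Algebra.subset_adjoin (Or.inr hy)
    let s' : Finset ↥(GLin.invariants k H B) := s.attach.image fun y => ⟨y.1, hsB y.1 y.2⟩
    refine ⟨⟨s', ?_⟩⟩
    have key : ∀ x ∈ Algebra.adjoin k (⇑(algebraMap A B) '' ↑(GLin.invariants k H A) ∪ (s : Set B)),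
        ∃ y ∈ Algebra.adjoin ↥(GLin.invariants k H A) (s' : Set ↥(GLin.invariants k H B)),
        (y : B) = x := by
      intro x hx'
      induction hx' using Algebra.adjoin_induction with
      | mem y hy =>
        rcases hy with ⟨a, ha, rfl⟩ | hy
        · refine ⟨algebraMap ↥(GLin.invariants k H A) ↥(GLin.invariants k H B) ⟨a, ha⟩,
            Subalgebra.algebraMap_mem _ _, ?_⟩
          exact hψ ⟨a, ha⟩
        · refine ⟨⟨y, hsB y hy⟩, Algebra.subset_adjoin ?_, rfl⟩
          exact Finset.mem_coe.2 (Finset.mem_image.2 ⟨⟨y, hy⟩, Finset.mem_attach _ _, rfl⟩)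
      | algebraMap c =>
        refine ⟨algebraMap ↥(GLin.invariants k H A) ↥(GLin.invariants k H B)
          (algebraMap k ↥(GLin.invariants k H A) c), Subalgebra.algebraMap_mem _ _, ?_⟩
        exact (hψ _).trans (φ.commutes c)
      | add x y _ _ hx hy =>
        obtain ⟨x', hx', rfl⟩ := hx
        obtain ⟨y', hy', rfl⟩ := hy
        exact ⟨x' + y', Subalgebra.add_mem _ hx' hy', rfl⟩
      | mul x y _ _ hx hy =>
        obtain ⟨x', hx', rfl⟩ := hx
        obtain ⟨y', hy', rfl⟩ := hy
        exact ⟨x' * y', Subalgebra.mul_mem _ hx' hy', rfl⟩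
    rw [eq_top_iff]
    rintro ⟨x, hx⟩ _
    obtain ⟨y, hy, hyx⟩ := key x (hs ▸ hx)
    have : y = ⟨x, hx⟩ := Subtype.ext hyx
    rw [← this]
    exact hy
  have hfp : Algebra.FinitePresentation ↥(GLin.invariants k H A) ↥(GLin.invariants k H B) :=
    Algebra.FinitePresentation.of_finiteType.1 hftRS
  have hTN : IsNoetherianRing (TensorProduct ↥(GLin.invariants k H A) ↥(GLin.invariants k H B) A) :=
    Algebra.FiniteType.isNoetherianRing ↥(GLin.invariants k H B) _
  -- étaleness
  obtain ⟨g₁, hg₁, hg₁et⟩ := K881.EtLoc.exists_etale (R := ↥(GLin.invariants k H A)) n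
    (fun l s => K881.Luna.cond_a hφ' hα hJ hs n hn l s)
    (fun l => K881.Luna.cond_b hα hI hc n hn l)
  -- the square
  obtain ⟨g₂, hg₂, hg₂good⟩ := K881.PushLoc.exists_good (R := ↥(GLin.invariants k H A)) (A := A)
    (B := B) n (fun b => K881.Luna.cond_surj hφ' hα hJ hs n hn b)
    (fun z hz => K881.Luna.cond_inj hφ' hα hJ hI hs hc n hn z hz)
  refine ⟨g₂ * g₁, ?_, ?_, ?_⟩
  · intro h
    rcases hnmax.isPrime.mem_or_mem ((hnw _).2 h) with h | h
    · exact hg₂ h
    · exact hg₁ h
  · have h1 := (Algebra.basicOpen_subset_etaleLocus_iff_etale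
      (R := ↥(GLin.invariants k H A)) (f := g₁)).2 hg₁et
    have h2 : Algebra.Etale ↥(GLin.invariants k H A) (Localization.Away (g₂ * g₁)) :=
      Algebra.basicOpen_subset_etaleLocus_iff_etale.1
        (Set.Subset.trans (fun p hp => (PrimeSpectrum.basicOpen_mul_le_right g₂ g₁) hp) h1)
    exact RingHom.etale_algebraMap.2 h2
  · exact K881.PushLoc.isPushout (hg₂good.mul g₁)

end Groth.Agent.S16108
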