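import Groth.Statements.S16109
import Groth.Agent.DCoh.K312.EvalX

set_option autoImplicit false
universe u
open CategoryTheory CategoryTheory.Limits
attribute [local instance] HasDerivedCategory.standard
open DCoh

namespace Groth.Agent.S16109

open AlgebraicGeometry in
/-- Let X be a separated Noetherian scheme; let E be an object of D^b_coh(X), given by a cochain complex
K of O_X-modules whose image in D(O_X) has coherent and bounded cohomology sheaves; let F and G be
given by bounded complexes L and I of injective O_X-modules whose images in D(O_X) have coherent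
cohomology sheaves (so F and G lie in D^b_coh(X) and have finite injective dimension); assume
moreover that RHom(−, F) and RHom(−, G) send D^b_coh(X) into itself. Then for every cochain complex
D representing RHom(E, F) there is an isomorphism RHom(F, G) ⊗^L E ≅ RHom(RHom(E, F), G) in D(O_X);
the derived tensor functors and their right adjoints RHom are taken under their existence binders.
(The published statement does not assume that F and G have finite injective dimension and names a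
canonical map; this row assumes F and G given by bounded complexes of injective modules, the case
its printed argument treats, and asserts only the existence of an isomorphism.) -/
theorem result
    (X : Scheme.{u}) [X.IsSeparated] [IsNoetherian X]
    (K : CochainComplex X.Modules ℤ) [DCoh.HasLTensorCx K] [DCoh.HasRSheafHom K]
    (hKcoh : ∀ i : ℤ, Coh.IsCoh (DCoh.HD (DCoh.toD X K) i))
    (hKbdd : ∃ a b : ℤ, ∀ i : ℤ, (i < a ∨ b < i) → IsZero (DCoh.HD (DCoh.toD X K) i))
    (L : CochainComplex X.Modules ℤ) [DCoh.HasLTensorCx L] [DCoh.HasRSheafHom L]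
    (hLinj : ∀ i : ℤ, Injective (L.X i)) (hLbdd : ∃ a b : ℤ, ∀ i : ℤ, (i < a ∨ b < i) → IsZero (L.X i))
    (hLcoh : ∀ i : ℤ, Coh.IsCoh (DCoh.HD (DCoh.toD X L) i))
    (I : CochainComplex X.Modules ℤ)
    (hIinj : ∀ i : ℤ, Injective (I.X i)) (hIbdd : ∃ a b : ℤ, ∀ i : ℤ, (i < a ∨ b < i) → IsZero (I.X i))
    (hIcoh : ∀ i : ℤ, Coh.IsCoh (DCoh.HD (DCoh.toD X I) i))
    (hF : ∀ (P : CochainComplex X.Modules ℤ) [DCoh.HasLTensorCx P] [DCoh.HasRSheafHom P],
      (∀ i : ℤ, Coh.IsCoh (DCoh.HD (DCoh.toD X P) i)) →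
      (∃ a b : ℤ, ∀ i : ℤ, (i < a ∨ b < i) → IsZero (DCoh.HD (DCoh.toD X P) i)) →
      (∀ i : ℤ, Coh.IsCoh (DCoh.HD ((DCoh.RSheafHom P).obj (DCoh.toD X L)) i)) ∧
        ∃ a b : ℤ, ∀ i : ℤ, (i < a ∨ b < i) → IsZero (DCoh.HD ((DCoh.RSheafHom P).obj (DCoh.toD X L)) i))
    (hG : ∀ (P : CochainComplex X.Modules ℤ) [DCoh.HasLTensorCx P] [DCoh.HasRSheafHom P],
      (∀ i : ℤ, Coh.IsCoh (DCoh.HD (DCoh.toD X P) i)) →
      (∃ a b : ℤ, ∀ i : ℤ, (i < a ∨ b < i) → IsZero (DCoh.HD (DCoh.toD X P) i)) →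
      (∀ i : ℤ, Coh.IsCoh (DCoh.HD ((DCoh.RSheafHom P).obj (DCoh.toD X I)) i)) ∧
        ∃ a b : ℤ, ∀ i : ℤ, (i < a ∨ b < i) → IsZero (DCoh.HD ((DCoh.RSheafHom P).obj (DCoh.toD X I)) i))
    (D : CochainComplex X.Modules ℤ) [DCoh.HasLTensorCx D] [DCoh.HasRSheafHom D]
    (hD : Nonempty (DCoh.toD X D ≅ (DCoh.RSheafHom K).obj (DCoh.toD X L))) :
    Nonempty ((DCoh.LTensorCx K).obj ((DCoh.RSheafHom L).obj (DCoh.toD X I)) ≅
      (DCoh.RSheafHom D).obj (DCoh.toD X I)) := by
  obtain ⟨a₁, b₁, hK⟩ := hKbdd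
  obtain ⟨a₂, b₂, hL⟩ := hLbdd
  obtain ⟨a₃, b₃, hI⟩ := hIbdd
  have hKb : (DCoh.toD X K).IsLE b₁ :=
    (DerivedCategory.isLE_iff _ _).2 fun i hi => hK i (Or.inr hi)
  have h1 : L.IsStrictlyGE a₂ := by
    rw [CochainComplex.isStrictlyGE_iff]
    exact fun i hi => hL i (Or.inl hi)
  have h2 : (DCoh.toD X L).IsGE a₂ := (DerivedCategory.isGE_Q_obj_iff _ _).2 inferInstance
  have h3 : I.IsStrictlyLE b₃ := by
    rw [CochainComplex.isStrictlyLE_iff]
    exact fun i hi => hI i (Or.inr hi)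
  have h4 : I.IsStrictlyGE a₃ := by
    rw [CochainComplex.isStrictlyGE_iff]
    exact fun i hi => hI i (Or.inl hi)
  have hIK : I.IsKInjective := CochainComplex.isKInjective_of_injective I a₃
  have hLb : ∃ a b : ℤ, ∀ i : ℤ, (i < a ∨ b < i) → IsZero (DCoh.HD (DCoh.toD X L) i) := by
    have h5 : L.IsStrictlyLE b₂ := by
      rw [CochainComplex.isStrictlyLE_iff]
      exact fun i hi => hL i (Or.inr hi)
    have h6 : (DCoh.toD X L).IsLE b₂ := (DerivedCategory.isLE_Q_obj_iff _ _).2 inferInstance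
    refine ⟨a₂, b₂, fun i hi => ?_⟩
    rcases hi with hi | hi
    · exact DerivedCategory.isZero_of_isGE _ a₂ i hi
    · exact DerivedCategory.isZero_of_isLE _ b₂ i hi
  obtain ⟨-, a₄, b₄, h5⟩ := hG L hLcoh hLb
  have hn : ((DCoh.RSheafHom L).obj (DCoh.toD X I)).IsLE b₄ :=
    (DerivedCategory.isLE_iff _ _).2 fun i hi => h5 i (Or.inr hi)
  exact K312.EvalX.main K L I D hKcoh b₁ hKb a₂ h2 hIK b₃ h3 b₄ hn hD

end Groth.Agent.S16109
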