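import Groth.Statements.S16110
import Groth.Agent.Dual.H359.RHUniv

set_option autoImplicit false
universe u
open CategoryTheory CategoryTheory.Limits
attribute [local instance] HasDerivedCategory.standard
open DCoh

namespace Groth.Agent.S16110

open AlgebraicGeometry in
/-- Let f : X ⟶ Y be a proper morphism of finite Tor-dimension between separated Noetherian schemes
(finite Tor-dimension: for some integer m, H^i(Lf^*M) = 0 for all i < m and all quasi-coherent
O_Y-modules M), let f^! be the right adjoint of Rf_* : D_qc(X) → D_qc(Y) (f is proper) and let G₁,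
G₂ be objects of D_qc(Y), G₁ given by a cochain complex P of O_Y-modules and Lf^*G₁ by a cochain
complex P' of O_X-modules. Assume that RHom(G₁, G₂) and RHom(Lf^*G₁, f^!G₂) have quasi-coherent
cohomology sheaves. Then f^! RHom(G₁, G₂) ≅ RHom(Lf^*G₁, f^!G₂) in D(O_X). The derived functors
Rf_*, Lf^*, ⊗^L and the internal RHom (right adjoint of ⊗^L) are taken under their existence
binders. (The published statement uses the internal Hom of D_qc and a canonical isomorphism; here
RHom is the internal Hom of D(O_X), the two quasi-coherence assumptions replace the passage to D_qc,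
and only the existence of an isomorphism is asserted.) -/
theorem result
    {X Y : Scheme.{u}} [X.IsSeparated] [IsNoetherian X] [Y.IsSeparated] [IsNoetherian Y]
    (f : X ⟶ Y) [IsProper f] [DCoh.HasRpush f] [DCoh.HasLpull f]
    (hfTor : ∃ m : ℤ, ∀ (M : Y.Modules), Coh.IsQCoh M →
      ∀ i : ℤ, i < m → IsZero (DCoh.HD ((DCoh.Lpull f).obj (DCoh.inD Y M)) i))
    (h : DCoh.RpushPreservesQCoh f) [DCoh.HasShriek f h]
    (P : CochainComplex Y.Modules ℤ) [DCoh.HasLTensorCx P] [DCoh.HasRSheafHom P]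
    (hP : DCoh.IsQCohD (DCoh.toD Y P)) (G₂ : DCoh.DQCoh Y)
    (hq : DCoh.IsQCohD ((DCoh.RSheafHom P).obj G₂.obj))
    (P' : CochainComplex X.Modules ℤ) [DCoh.HasLTensorCx P'] [DCoh.HasRSheafHom P']
    (hP' : Nonempty (DCoh.toD X P' ≅ (DCoh.Lpull f).obj (DCoh.toD Y P)))
    (hq' : DCoh.IsQCohD ((DCoh.RSheafHom P').obj ((DCoh.shriek f h).obj G₂).obj)) :
    Nonempty (((DCoh.shriek f h).obj ⟨(DCoh.RSheafHom P).obj G₂.obj, hq⟩).obj ≅
      (DCoh.RSheafHom P').obj ((DCoh.shriek f h).obj G₂).obj) := by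
  open Groth.Agent Groth.Agent.PerfC.RHomD Groth.Agent.Ega1.ADualUniv in
  obtain ⟨e⟩ := hP'
  have h1 : Univ f G₂.obj ((DCoh.shriek f h).obj G₂).obj := univ_of_adj (h := h) (DCoh.shriekAdj f h) G₂
  have eY : (DCoh.RSheafHom P).obj G₂.obj ≅ (RH (DCoh.toD Y P)).obj G₂.obj := (rsIso P).app _
  have eX : (DCoh.RSheafHom P').obj ((DCoh.shriek f h).obj G₂).obj ≅
      (RH ((DCoh.Lpull f).obj (DCoh.toD Y P))).obj ((DCoh.shriek f h).obj G₂).obj :=
    (rsIso P').app _ ≪≫ rhIso e.symm _
  have hqX := PerfA.AffModel.isQCohD_of_iso eX hq'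
  have h2 := Dual.H359.RHUniv.univ_RH f h1 hP hqX
  have h3 : Univ f ((DCoh.RSheafHom P).obj G₂.obj)
      ((DCoh.shriek f h).obj ⟨(DCoh.RSheafHom P).obj G₂.obj, hq⟩).obj :=
    univ_of_adj (h := h) (DCoh.shriekAdj f h) ⟨(DCoh.RSheafHom P).obj G₂.obj, hq⟩
  obtain ⟨e4⟩ := (h3.of_iso_right eY).unique h2
  exact ⟨e4 ≪≫ eX.symm⟩

end Groth.Agent.S16110
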