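import Groth.Statements.S16113
import Groth.Agent.AlgGrp.K406.UnitsFin

set_option autoImplicit false
universe u
open CategoryTheory MonoidalCategory CartesianMonoidalCategory MonObj GrpObj AlgebraicGeometry CategoryTheory.Limits
open AlgGrp

namespace Groth.Agent.S16113

/-- Over an algebraically closed field k, let X be an irreducible variety (an integral separated
k-scheme of finite type) and R = Γ(X, O_X). Then the quotient of the unit group R^× by the subgroup
k^× of nonzero constants is a free abelian group of finite rank: for some n there is a surjective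
group homomorphism from R^× onto ℤⁿ (written multiplicatively) whose kernel is exactly the image of
k^× under the structure map k → R. -/
theorem result (k : Type u) [Field k] [IsAlgClosed k]
    (X : Over (Spec (CommRingCat.of k))) [IsIntegral X.left] [IsSeparated X.hom] [LocallyOfFiniteType X.hom] [QuasiCompact X.hom] :
    ∃ (n : ℕ) (v : (Γ(X.left, ⊤))ˣ →* Multiplicative (Fin n → ℤ)), Function.Surjective v ∧
      v.ker = (Units.map (((Scheme.ΓSpecIso (CommRingCat.of k)).inv ≫ X.hom.appTop).hom : k →* Γ(X.left, ⊤))).range := by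
  obtain ⟨x⟩ := (inferInstance : Nonempty X.left)
  obtain ⟨U, hU, hxU, -⟩ := exists_isAffineOpen_mem_and_subset (X := X.left) (U := ⊤) (x := x) trivial
  have hne : Nonempty U := ⟨⟨x, hxU⟩⟩
  let φ : CommRingCat.of k ⟶ Γ(X.left, ⊤) := (Scheme.ΓSpecIso (CommRingCat.of k)).inv ≫ X.hom.appTop
  let r : Γ(X.left, ⊤) ⟶ Γ(X.left, U) := X.left.presheaf.map (homOfLE le_top).op
  have hr : Function.Injective r.hom := map_injective_of_isIntegral X.left (homOfLE le_top)
  have hft : (φ ≫ r).hom.FiniteType := by
    have h1 : (X.hom.appLE ⊤ U le_top).hom.FiniteType :=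
      X.hom.finiteType_appLE (isAffineOpen_top _) hU le_top
    have h2 : φ ≫ r = (Scheme.ΓSpecIso (CommRingCat.of k)).inv ≫ X.hom.appLE ⊤ U le_top := by
      simp only [φ, r, Category.assoc]
      rfl
    rw [h2, CommRingCat.hom_comp]
    exact h1.comp (RingHom.FiniteType.of_surjective _
      (ConcreteCategory.bijective_of_isIso (Scheme.ΓSpecIso (CommRingCat.of k)).inv).2)
  let _ : Algebra k Γ(X.left, U) := (φ ≫ r).hom.toAlgebra
  have : Algebra.FiniteType k Γ(X.left, U) := hft
  obtain ⟨N, w, hw⟩ := K406.UnitsFin.exists_hom k Γ(X.left, U)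
  obtain ⟨n, v, hv1, hv2⟩ := K406.UnitsFin.exists_surjective N (w.comp (Units.map r.hom.toMonoidHom))
  refine ⟨n, v, hv1, ?_⟩
  rw [hv2]
  ext f
  rw [MonoidHom.mem_ker, MonoidHom.comp_apply, hw, MonoidHom.mem_range]
  constructor
  · rintro ⟨c, hc⟩
    have hc' : r.hom (φ.hom c) = r.hom f := hc
    have hc0 : φ.hom c = f := hr hc'
    have hc1 : c ≠ 0 := by
      rintro rfl
      rw [map_zero] at hc0
      exact f.ne_zero hc0.symm
    refine ⟨Units.mk0 c hc1, ?_⟩
    ext
    exact hc0
  · rintro ⟨c, rfl⟩
    exact ⟨c, rfl⟩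

end Groth.Agent.S16113
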