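import Groth.Statements.S16119
import Groth.Agent.AlgGrp.K407.ActPic
import Groth.Agent.PicGrp.K858.Basic

set_option autoImplicit false
universe u
open CategoryTheory MonoidalCategory CartesianMonoidalCategory MonObj GrpObj AlgebraicGeometry CategoryTheory.Limits
open AlgGrp

namespace Groth.Agent.S16119

/-- Over an algebraically closed field k, let G be a connected linear algebraic group (an affine,
smooth, connected k-group scheme) acting by σ on a normal irreducible variety X (an integral normal
separated k-scheme of finite type); assume the Picard group laws on G, X and G × X, with pullback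
along σ and along the projection p₂ : G × X → X multiplicative. Let n be the exponent of the group
Pic(G) (a finite group). Then for every invertible O_X-module L with class c, σ^*(L^{⊗n}) ≅
p₂^*(L^{⊗n}): σ^*(cⁿ) = p₂^*(cⁿ) in Pic(G × X). (The published statement concludes that L^{⊗n}
admits a G-linearization; its argument establishes the displayed isomorphism, which is equivalent to
G-linearizability of L^{⊗n}; that equivalence is not restated here.) -/
theorem result (k : Type u) [Field k] [IsAlgClosed k]
    (G X : Over (Spec (CommRingCat.of k))) [GrpObj G] [IsAffine G.left] [Smooth G.hom] [ConnectedSpace ↥G.left]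
    [IsIntegral X.left] [IsSeparated X.hom] [LocallyOfFiniteType X.hom] [QuasiCompact X.hom]
    (hX : Pi1.IsNormalScheme X.left) (a : AlgGrp.Action G X)
    [PicGrp.Law G.left] [PicGrp.Law X.left] [PicGrp.Law (G ⊗ X).left]
    (hσ : PicGrp.PullMul a.act.left) (hp : PicGrp.PullMul (snd G X).left) (c : PicLoc.PicSet X.left) :
    PicGrp.pullHom a.act.left hσ (c ^ Monoid.exponent (PicLoc.PicSet G.left)) =
      PicGrp.pullHom (snd G X).left hp (c ^ Monoid.exponent (PicLoc.PicSet G.left)) := by
  obtain ⟨d, rfl⟩ := (K858.Basic.ofPic X.left).surjective c
  obtain ⟨b, hb⟩ := K407.ActPic.exists_act G X hX a d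
  have h1 : b ^ Monoid.exponent (PicLoc.PicSet G.left) = 1 := by
    apply (K858.Basic.ofPic G.left).injective
    rw [map_pow, map_one]
    exact Monoid.pow_exponent_eq_one _
  have h2 : K858.Basic.pull a.act.left (d ^ Monoid.exponent (PicLoc.PicSet G.left)) =
      K858.Basic.pull (snd G X).left (d ^ Monoid.exponent (PicLoc.PicSet G.left)) := by
    rw [map_pow, map_pow]
    change (Groth.Agent.Grpsch.PicGrp.pull a.act.left d) ^ _ = _
    rw [hb, mul_pow, ← map_pow, h1, map_one, _root_.one_mul]
  rw [← map_pow (K858.Basic.ofPic X.left), K858.Basic.ofPic_pull, K858.Basic.ofPic_pull, h2]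

end Groth.Agent.S16119
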