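import Groth.Statements.S16120
import Groth.Agent.AlgGrp.K407.PicProd
import Groth.Agent.AlgGrp.K407.ChartRat
import Groth.Agent.PicGrp.K858.Basic

set_option autoImplicit false
universe u
open CategoryTheory MonoidalCategory CartesianMonoidalCategory MonObj GrpObj AlgebraicGeometry CategoryTheory.Limits
open PicGrp

namespace Groth.Agent.S16120

/-- Over an algebraically closed field k, let X and Y be normal irreducible varieties (integral normal
separated k-schemes of finite type) and assume X rational: some nonempty open subscheme of X is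
isomorphic over k to an open subscheme of an affine space 𝔸ⁿ_k. Assume the Picard group laws on X, Y
and X × Y, with pullback along the two projections multiplicative. Then the map Pic(X) × Pic(Y) →
Pic(X × Y), (c, d) ↦ p₁^*(c) · p₂^*(d), is bijective. (The published companion assertion on divisor
class groups is not stated here.) -/
theorem result (k : Type u) [Field k] [IsAlgClosed k]
    (X Y : Over (Spec (CommRingCat.of k))) [IsIntegral X.left] [IsSeparated X.hom] [LocallyOfFiniteType X.hom] [QuasiCompact X.hom]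
    [IsIntegral Y.left] [IsSeparated Y.hom] [LocallyOfFiniteType Y.hom] [QuasiCompact Y.hom]
    (hX : Pi1.IsNormalScheme X.left) (hY : Pi1.IsNormalScheme Y.left)
    (hrat : ∃ (U : X.left.Opens) (n : ℕ) (V : (𝔸(ULift.{u} (Fin n); Spec (CommRingCat.of k))).Opens)
      (e : (U : Scheme.{u}) ≅ (V : Scheme.{u})), (U : Set ↥X.left).Nonempty ∧
        e.hom ≫ V.ι ≫ (𝔸(ULift.{u} (Fin n); Spec (CommRingCat.of k)) ↘ Spec (CommRingCat.of k)) = U.ι ≫ X.hom)
    [PicGrp.Law X.left] [PicGrp.Law Y.left] [PicGrp.Law (X ⊗ Y).left]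
    (h₁ : PicGrp.PullMul (fst X Y).left) (h₂ : PicGrp.PullMul (snd X Y).left) :
    Function.Bijective (fun cd : PicLoc.PicSet X.left × PicLoc.PicSet Y.left =>
      PicGrp.pullHom (fst X Y).left h₁ cd.1 * PicGrp.pullHom (snd X Y).left h₂ cd.2) := by
  obtain ⟨n, W, w, j, hw, hne, hj, hjo⟩ := K407.ChartRat.exists_chart_of_rat X hrat
  obtain ⟨x, -⟩ := Groth.Agent.Books.AlgPts.exists_pt_mem (X := X) (U := Set.univ) Set.univ_nonempty
    isOpen_univ.isLocallyClosed
  obtain ⟨y, -⟩ := Groth.Agent.Books.AlgPts.exists_pt_mem (X := Y) (U := Set.univ) Set.univ_nonempty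
    isOpen_univ.isLocallyClosed
  constructor
  · rintro ⟨c, d⟩ ⟨c', d'⟩ h
    obtain ⟨a, rfl⟩ := (K858.Basic.ofPic X.left).surjective c
    obtain ⟨b, rfl⟩ := (K858.Basic.ofPic Y.left).surjective d
    obtain ⟨a', rfl⟩ := (K858.Basic.ofPic X.left).surjective c'
    obtain ⟨b', rfl⟩ := (K858.Basic.ofPic Y.left).surjective d'
    simp only [K858.Basic.ofPic_pull, ← map_mul] at h
    have h2 := (K858.Basic.ofPic (X ⊗ Y).left).injective h
    have h3 := congrArg (K858.Basic.pull (lift (𝟙 X) (toUnit X ≫ y)).left) h2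
    have h4 := congrArg (K858.Basic.pull (lift (toUnit Y ≫ x) (𝟙 Y)).left) h2
    rw [K407.PicProd.restrict_fst, K407.PicProd.restrict_fst] at h3
    rw [K407.PicProd.restrict_snd, K407.PicProd.restrict_snd] at h4
    rw [h3, h4]
  · intro c
    obtain ⟨e, rfl⟩ := (K858.Basic.ofPic (X ⊗ Y).left).surjective c
    obtain ⟨a, b, rfl⟩ := K407.PicProd.exists_mul hX hY w j hjo e
    refine ⟨⟨K858.Basic.ofPic X.left a, K858.Basic.ofPic Y.left b⟩, ?_⟩
    simp only [K858.Basic.ofPic_pull, ← map_mul]

end Groth.Agent.S16120
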