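import Groth.Statements.S16122
import Groth.Agent.AlgGrp.K407.PicFin
import Groth.Agent.PicGrp.K858.Basic

set_option autoImplicit false
universe u
open CategoryTheory MonoidalCategory CartesianMonoidalCategory MonObj GrpObj AlgebraicGeometry CategoryTheory.Limits
open AlgGrp

namespace Groth.Agent.S16122

/-- Over an algebraically closed field k, if G is a connected linear algebraic group (an affine, smooth,
connected k-group scheme), then Pic(G) is finite: there are only finitely many isomorphism classes
of invertible O_G-modules. -/
theorem result (k : Type u) [Field k] [IsAlgClosed k]
    (G : Over (Spec (CommRingCat.of k))) [GrpObj G] [IsAffine G.left] [Smooth G.hom] [ConnectedSpace ↥G.left] :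
    Finite (PicLoc.PicSet G.left) := by
  have := K407.PicFin.finite_pic G
  exact Finite.of_equiv _ (K858.Basic.setEquiv G.left)

end Groth.Agent.S16122
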