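import Groth.Statements.S16123
import Groth.Agent.AlgGrp.K220.EqNode
import Groth.Agent.AlgGrp.K407.EqChow

set_option autoImplicit false
universe u
open CategoryTheory MonoidalCategory CartesianMonoidalCategory MonObj GrpObj AlgebraicGeometry CategoryTheory.Limits
open AlgGrp

namespace Groth.Agent.S16123

/-- Over an algebraically closed field k, let G be a connected linear algebraic group (an affine,
smooth, connected k-group scheme) acting by σ on a normal complete irreducible variety X (an
integral normal k-scheme proper over k). Then there exist an integral k-scheme X' admitting a closed
immersion over k into a projective space Pⁿ_k, an action σ' of G on X', and a G-equivariant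
k-morphism f : X' → X (σ' followed by f equals G × f followed by σ) which is birational: f restricts
to an isomorphism over some nonempty open subscheme of X. (Such an f is projective, X' being
projective and X separated over k. The published statement also has X' normal; its construction
produces X' as the closure of a diagonal image and does not include the passage to the
normalization, so normality of X' is not asserted here.) -/
theorem result (k : Type u) [Field k] [IsAlgClosed k]
    (G X : Over (Spec (CommRingCat.of k))) [GrpObj G] [IsAffine G.left] [Smooth G.hom] [ConnectedSpace ↥G.left]
    [IsIntegral X.left] [IsProper X.hom] (hX : Pi1.IsNormalScheme X.left) (a : AlgGrp.Action G X) :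
    ∃ (X' : Over (Spec (CommRingCat.of k))) (a' : AlgGrp.Action G X') (f : X' ⟶ X) (n : ℕ)
      (c : X'.left ⟶ CohB1.ProjSpace n k),
      IsIntegral X'.left ∧ IsClosedImmersion c ∧
      c ≫ CohB1.ProjSpace.toSpec n k = X'.hom ∧ a'.act ≫ f = (G ◁ f) ≫ a.act ∧
      ∃ U : X.left.Opens, (U : Set ↥X.left).Nonempty ∧ IsIso (f.left ∣_ U) := by
  exact K407.EqChow.main G X a (fun U hU hne => K220.EqNode.nodeA G X hX a U hU hne)

end Groth.Agent.S16123
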