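import Groth.Statements.S16124
import Groth.Agent.Ega2.RelAmp
import Groth.Agent.S2324

set_option autoImplicit false
universe u
open CategoryTheory MonoidalCategory CartesianMonoidalCategory MonObj GrpObj AlgebraicGeometry CategoryTheory.Limits
open AlgGrp

namespace Groth.Agent.S16124

/-- Over an algebraically closed field k, let X be a quasi-projective variety (a reduced separated
k-scheme, quasi-projective over k) with an action of a finite group Γ by k-automorphisms. Then X is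
covered by Γ-stable affine open subschemes: every point x of X lies in an affine open U with σ⁻¹(U)
= U for every σ in Γ. -/
theorem result (k : Type u) [Field k] [IsAlgClosed k]
    (X : Over (Spec (CommRingCat.of k))) [IsReduced X.left] [IsSeparated X.hom] (hX : RelProj.IsQuasiProjective X.hom)
    (Γgrp : Type u) [Group Γgrp] [Finite Γgrp] (ρ : Γgrp →* Aut X.left)
    (hρ : ∀ σ : Γgrp, (ρ σ).hom ≫ X.hom = X.hom) (x : ↥X.left) :
    ∃ U : X.left.Opens, x ∈ U ∧ IsAffineOpen U ∧ ∀ σ : Γgrp, (ρ σ).hom ⁻¹ᵁ U = U := by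
  obtain ⟨hft, hqc, L, hL⟩ := hX
  have hsep : X.left.IsSeparated := by
    have h1 : IsSeparated (terminal.from (Spec (CommRingCat.of k))) := inferInstance
    have h2 : IsSeparated (X.hom ≫ terminal.from (Spec (CommRingCat.of k))) := inferInstance
    rw [terminal.comp_from] at h2
    exact ⟨h2⟩
  have hcomp : CompactSpace X.left := (quasiCompact_iff_compactSpace (f := X.hom)).mp hqc
  have hamp : CohB1.IsAmple L := Ega2.RelAmp.isRelAmple_iff_isAmple.mp hL
  obtain ⟨n, s, hs, -, hV⟩ := Groth.Agent.S2324.result X.left L hamp (Set.range fun σ : Γgrp => (ρ σ).hom x)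
    (Set.finite_range _) ⊤ (Set.subset_univ _)
  set V := CohB1.genLocus _ s with hVdef
  refine ⟨⨅ σ : Γgrp, (ρ σ).hom ⁻¹ᵁ V, ?_, ?_, fun τ => ?_⟩
  · rw [← SetLike.mem_coe, TopologicalSpace.Opens.coe_iInf]
    exact Set.mem_iInter.mpr fun σ => hs ⟨σ, rfl⟩
  · refine IsAffineOpen.iInf fun σ => ?_
    exact hV.preimage_of_isIso _
  · ext y
    have h1 : ∀ z : X.left, z ∈ (⨅ σ : Γgrp, (ρ σ).hom ⁻¹ᵁ V) ↔ ∀ σ : Γgrp, (ρ σ).hom z ∈ V := by
      intro z
      rw [← SetLike.mem_coe, TopologicalSpace.Opens.coe_iInf]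
      exact Set.mem_iInter
    have h2 : ∀ σ : Γgrp, (ρ σ).hom ((ρ τ).hom y) = (ρ (σ * τ)).hom y := by
      intro σ
      rw [map_mul, CategoryTheory.Aut.Aut_mul_def, Iso.trans_hom]
      rfl
    change (ρ τ).hom y ∈ (⨅ σ : Γgrp, (ρ σ).hom ⁻¹ᵁ V) ↔ y ∈ (⨅ σ : Γgrp, (ρ σ).hom ⁻¹ᵁ V)
    rw [h1, h1]
    simp only [h2]
    refine ⟨fun h σ => ?_, fun h σ => h _⟩
    have := h (σ * τ⁻¹)
    rwa [inv_mul_cancel_right] at this

end Groth.Agent.S16124
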