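import Groth.Statements.S16127
import Groth.Agent.Sga3B.GaPts
import Mathlib.AlgebraicGeometry.Sites.Fpqc

set_option autoImplicit false
universe u
open CategoryTheory MonoidalCategory CartesianMonoidalCategory MonObj GrpObj AlgebraicGeometry CategoryTheory.Limits
open AlgGrp

namespace Groth.Agent.S16127

open Groth.Agent.Sga3B.GaPts

/-- Over an algebraically closed field k, let G be an algebraic group (a smooth k-group scheme of finite
type) acting by σ on a variety X, and let f : X → Y be a principal G-bundle over a variety Y (X, Y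
reduced separated k-schemes of finite type; f flat and surjective, the square σ, p₂ : G × X → X, f,
f cartesian). Then f^* identifies Γ(Y, O_Y) with the invariants Γ(X, O_X)^G: f^* on global sections
is injective and its range is the set of global functions s on X with σ^*(s) = p₂^*(s). -/
theorem result (k : Type u) [Field k] [IsAlgClosed k]
    (G X Y : Over (Spec (CommRingCat.of k))) [GrpObj G] [Smooth G.hom] [QuasiCompact G.hom]
    [IsReduced X.left] [IsSeparated X.hom] [LocallyOfFiniteType X.hom] [QuasiCompact X.hom]
    [IsReduced Y.left] [IsSeparated Y.hom] [LocallyOfFiniteType Y.hom] [QuasiCompact Y.hom]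
    (a : AlgGrp.Action G X) (f : X ⟶ Y) [Flat f.left] [Surjective f.left]
    (hsq : IsPullback a.act.left (snd G X).left f.left f.left) :
    Function.Injective (f.left.appTop) ∧
      Set.range (f.left.appTop) = {s : Γ(X.left, ⊤) | a.act.left.appTop s = (snd G X).left.appTop s} := by
  have hqc : QuasiCompact f.left := by
    have : QuasiCompact (f.left ≫ Y.hom) := by rw [Over.w]; infer_instance
    exact QuasiCompact.of_comp f.left Y.hom
  have hee : EffectiveEpi f.left := inferInstance
  have hepi : Epi f.left := inferInstance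
  have hepi' : Epi f := by
    have : Epi ((Over.forget _).map f) := hepi
    exact (Over.forget _).epi_of_epi_map this
  have hw : a.act ≫ f = snd G X ≫ f := by
    ext1
    exact hsq.w
  refine ⟨fun s t hst => ?_, Set.ext fun s => ⟨?_, fun hs => ?_⟩⟩
  · have h1 : f ≫ gaPt Y s = f ≫ gaPt Y t := by
      rw [comp_gaPt, comp_gaPt]
      exact congrArg (gaPt X) hst
    have h2 := (cancel_epi f).mp h1
    have h3 := congrArg Red.gaFn h2
    rwa [gaFn_gaPt, gaFn_gaPt] at h3
  · rintro ⟨t, rfl⟩
    change a.act.left.appTop (f.left.appTop t) = (snd G X).left.appTop (f.left.appTop t)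
    have h1 := congrArg (fun z => Red.gaFn (z ≫ gaPt Y t)) hw
    simp only [Category.assoc] at h1
    rw [comp_gaPt f, comp_gaPt, comp_gaPt, gaFn_gaPt, gaFn_gaPt] at h1
    exact h1
  · have h1 : a.act ≫ gaPt X s = snd G X ≫ gaPt X s := by
      rw [comp_gaPt, comp_gaPt]
      exact congrArg (gaPt _) hs
    let e : X.left ⟶ (Red.Ga (Spec (CommRingCat.of k))).left := (gaPt X s).left
    have h2 : ∀ {Z : Scheme.{u}} (g₁ g₂ : Z ⟶ X.left), g₁ ≫ f.left = g₂ ≫ f.left → g₁ ≫ e = g₂ ≫ e := by
      intro Z g₁ g₂ h
      have h3 := hsq.lift_fst g₁ g₂ h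
      have h4 := hsq.lift_snd g₁ g₂ h
      have h5 : a.act.left ≫ e = (snd G X).left ≫ e := by
        have := congrArg (fun z => z.left) h1
        simpa only [Over.comp_left] using this
      rw [← h3, Category.assoc, h5, ← Category.assoc, h4]
    let d : Y.left ⟶ (Red.Ga (Spec (CommRingCat.of k))).left := EffectiveEpi.desc f.left e h2
    have hd : f.left ≫ d = e := EffectiveEpi.fac f.left e h2
    let d' : Y ⟶ Red.Ga (Spec (CommRingCat.of k)) := Over.homMk d (by
      rw [← cancel_epi f.left, ← Category.assoc, hd, Over.w f]
      exact Over.w (gaPt X s))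
    have hd' : f ≫ d' = gaPt X s := by
      ext1
      exact hd
    refine ⟨Red.gaFn d', ?_⟩
    have h6 := congrArg Red.gaFn hd'
    rw [gaFn_comp, gaFn_gaPt] at h6
    exact h6

end Groth.Agent.S16127
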