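import Groth.Statements.S16128
import Groth.Agent.AlgGrp.K407.TorsorDesc
import Groth.Agent.PicGrp.K858.Basic

set_option autoImplicit false
universe u
open CategoryTheory MonoidalCategory CartesianMonoidalCategory MonObj GrpObj AlgebraicGeometry CategoryTheory.Limits
open AlgGrp

namespace Groth.Agent.S16128

/-- Over an algebraically closed field k, let G be a connected linear algebraic group (an affine,
smooth, connected k-group scheme), and f : X → Y a principal G-bundle between normal irreducible
varieties (X, Y integral normal separated k-schemes of finite type; σ the action on X; f flat and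
surjective with the square σ, p₂, f, f cartesian). Let x be a k-point of X with orbit map α_x : G →
X, g ↦ g · x, and assume the Picard group laws on G, X and Y with pullback along f and along α_x
multiplicative. Then the sequence Pic(Y) → Pic(X) → Pic(G) is exact at Pic(X): a class c satisfies
α_x^*(c) = 1 if and only if c lies in the image of f^*. -/
theorem result (k : Type u) [Field k] [IsAlgClosed k]
    (G X Y : Over (Spec (CommRingCat.of k))) [GrpObj G] [IsAffine G.left] [Smooth G.hom] [ConnectedSpace ↥G.left]
    [IsIntegral X.left] [IsSeparated X.hom] [LocallyOfFiniteType X.hom] [QuasiCompact X.hom] (hX : Pi1.IsNormalScheme X.left)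
    [IsIntegral Y.left] [IsSeparated Y.hom] [LocallyOfFiniteType Y.hom] [QuasiCompact Y.hom] (hY : Pi1.IsNormalScheme Y.left)
    (a : AlgGrp.Action G X) (f : X ⟶ Y) [Flat f.left] [Surjective f.left]
    (hsq : IsPullback a.act.left (snd G X).left f.left f.left)
    (x : 𝟙_ (Over (Spec (CommRingCat.of k))) ⟶ X)
    [PicGrp.Law G.left] [PicGrp.Law X.left] [PicGrp.Law Y.left]
    (hf : PicGrp.PullMul f.left) (hα : PicGrp.PullMul (a.orbitMap x).left) (c : PicLoc.PicSet X.left) :
    PicGrp.pullHom (a.orbitMap x).left hα c = 1 ↔ c ∈ (PicGrp.pullHom f.left hf).range := by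
  obtain ⟨c, rfl⟩ := (K858.Basic.ofPic X.left).surjective c
  rw [K858.Basic.ofPic_pull, map_eq_one_iff _ (K858.Basic.ofPic G.left).injective]
  have hx : a.orbitMap x = lift (𝟙 G) (toUnit G ≫ x) ≫ a.act := rfl
  constructor
  · intro h
    obtain ⟨b, hb⟩ := K407.ActPic.exists_act G X hX a c
    have h1 := congrArg (Groth.Agent.Grpsch.PicGrp.pull (lift (𝟙 G) (toUnit G ≫ x)).left) hb
    rw [K407.PicProd.restrict_fst, ← Groth.Agent.Grpsch.PicGrp.pull_comp, ← Over.comp_left, ← hx, h] at h1
    subst h1
    rw [map_one, _root_.one_mul] at hb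
    have hqc : QuasiCompact f.left := by
      have h1 : QuasiCompact (f.left ≫ Y.hom) := by rw [Over.w f]; infer_instance
      exact QuasiCompact.of_comp f.left Y.hom
    obtain ⟨d, rfl⟩ := K407.TorsorDesc.exists_pull G X Y a f hsq x c hb
    exact ⟨K858.Basic.ofPic Y.left d, K858.Basic.ofPic_pull _ _ _⟩
  · rintro ⟨d, hd⟩
    obtain ⟨d, rfl⟩ := (K858.Basic.ofPic Y.left).surjective d
    rw [K858.Basic.ofPic_pull] at hd
    obtain rfl := (K858.Basic.ofPic X.left).injective hd
    rw [← Groth.Agent.Grpsch.PicGrp.pull_comp, ← Over.comp_left]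
    have h1 : a.act ≫ f = snd G X ≫ f := by
      ext1
      exact hsq.w
    have h2 : a.orbitMap x ≫ f = toUnit G ≫ x ≫ f := by
      rw [hx, Category.assoc, h1, lift_snd_assoc, Category.assoc]
    rw [h2]
    exact K407.PicProd.pull_const (x ≫ f) d G

end Groth.Agent.S16128
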