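import Groth.Statements.S16129
import Groth.Agent.AlgGrp.K408.ChevProj
import Groth.Agent.AlgGrp.K408.QuotSep
import Groth.Agent.S1128
import Groth.Agent.Flat2B.SmoothGeom

set_option autoImplicit false
universe u
open CategoryTheory MonoidalCategory CartesianMonoidalCategory MonObj GrpObj AlgebraicGeometry CategoryTheory.Limits
open AlgGrp

namespace Groth.Agent.S16129

open Groth.Agent.Books.BorelOrb Groth.Agent.AlgGrp.K408 Groth.Agent.AlgGrp.K408.TorsProj
open _root_.K408.Assoc _root_.K408.TorsDesc _root_.K413.Homog

theorem sm_prodAct {B : Scheme.{u}} {G X Z : Over B} [GrpObj G] (a : AlgGrp.Action G X) (b : AlgGrp.Action G Z)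
    {T : Over B} (g : T ⟶ G) (x : T ⟶ X) (z : T ⟶ Z) :
    lift g (lift x z) ≫ (prodAct a b).act = lift (sm a g x) (sm b g z) := by
  apply CartesianMonoidalCategory.hom_ext
  · rw [Category.assoc, prodAct_fst, lift_fst, ← Category.assoc, lift_whiskerLeft, lift_fst, sm]
  · rw [Category.assoc, prodAct_snd, lift_snd, ← Category.assoc, lift_whiskerLeft, lift_snd, sm]

theorem flat_shear {B : Scheme.{u}} {G X Q : Over B} [GrpObj G] (a : AlgGrp.Action G X) (π : G ⟶ Q)
    [Flat π.left] [Surjective π.left] :
    Flat (lift a.act (fst G X ≫ π)).left ∧ Surjective (lift a.act (fst G X ≫ π)).left := by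
  let σ : G ⊗ X ≅ X ⊗ G :=
    { hom := lift a.act (fst G X)
      inv := lift (snd X G) (sm a (snd X G)⁻¹ (fst X G))
      hom_inv_id := by
        apply CartesianMonoidalCategory.hom_ext
        · simp
        · rw [Category.assoc, lift_snd, comp_sm, GrpObj.comp_inv, lift_snd, lift_fst, Category.id_comp]
          have h1 : a.act = sm a (fst G X) (snd G X) := by
            rw [sm, lift_fst_snd, Category.id_comp]
          conv_lhs => rw [h1]
          rw [← mul_sm, inv_mul_cancel, one_sm]
      inv_hom_id := by
        apply CartesianMonoidalCategory.hom_ext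
        · rw [Category.assoc, lift_fst, Category.id_comp]
          change sm a _ (sm a _ _) = _
          rw [← mul_sm, mul_inv_cancel, one_sm]
        · simp }
  have h1 : lift a.act (fst G X ≫ π) = σ.hom ≫ (X ◁ π) := by
    simp [σ]
  have hiso : IsIso σ.hom.left := inferInstanceAs (IsIso ((Over.forget _).mapIso σ).hom)
  have hw := isPullback_left (InvSch.isPullback_whisker X π)
  have h2 : Flat (X ◁ π).left := MorphismProperty.of_isPullback hw.flip ‹_›
  have h3 : Surjective (X ◁ π).left := MorphismProperty.of_isPullback hw.flip ‹_›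
  rw [h1, Over.comp_left]
  exact ⟨inferInstance, inferInstance⟩

/-- Over an algebraically closed field k, let G be a linear algebraic group (an affine smooth k-group
scheme), h : H → G a closed subgroup (H a smooth k-group scheme, h a homomorphism and a closed
immersion), and f : X → Y a principal G-bundle between varieties (X, Y reduced separated k-schemes
of finite type; σ the action; f flat and surjective with the square σ, p₂, f, f cartesian). Then f
factors as f = ψ ∘ φ where φ : X → Z is a principal H-bundle for the action of H on X through h (Z a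
reduced separated k-scheme of finite type; φ flat surjective with the corresponding cartesian
square) and ψ : Z → Y is smooth and surjective. (The published statement adds that the factorization
is unique, that the fibres of ψ are isomorphic to G/H, and that ψ is a G/H-bundle when H is normal;
these are not stated here.) -/
theorem result (k : Type u) [Field k] [IsAlgClosed k]
    (G H X Y : Over (Spec (CommRingCat.of k))) [GrpObj G] [IsAffine G.left] [Smooth G.hom]
    [GrpObj H] [Smooth H.hom] [QuasiCompact H.hom] (h : H ⟶ G) [IsMonHom h] [IsClosedImmersion h.left]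
    [IsReduced X.left] [IsSeparated X.hom] [LocallyOfFiniteType X.hom] [QuasiCompact X.hom]
    [IsReduced Y.left] [IsSeparated Y.hom] [LocallyOfFiniteType Y.hom] [QuasiCompact Y.hom]
    (a : AlgGrp.Action G X) (f : X ⟶ Y) [Flat f.left] [Surjective f.left]
    (hsq : IsPullback a.act.left (snd G X).left f.left f.left) :
    ∃ (Z : Over (Spec (CommRingCat.of k))) (φ : X ⟶ Z) (ψ : Z ⟶ Y),
      IsReduced Z.left ∧ IsSeparated Z.hom ∧ LocallyOfFiniteType Z.hom ∧ QuasiCompact Z.hom ∧
      φ ≫ ψ = f ∧ Flat φ.left ∧ Surjective φ.left ∧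
      IsPullback (a.restrict h).act.left (snd H X).left φ.left φ.left ∧ Smooth ψ.left ∧ Surjective ψ.left := by
  have hG1 : QuasiCompact G.hom := by
    have : CompactSpace G.left := inferInstance
    exact quasiCompact_of_compactSpace G.hom
  have hGaff : IsAffineHom G.hom := by
    have h2 : IsAffineHom (G.hom ≫ terminal.from (Spec (CommRingCat.of k))) := by
      have : G.hom ≫ terminal.from _ = terminal.from G.left := Subsingleton.elim _ _
      rw [this]; infer_instance
    infer_instance
  have hmono : Mono h := OpenSub.mono_of_left h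
  obtain ⟨Q, b, o, q1, q2, q3, q4, q5, q6, q7, hsqQ⟩ := QuotSep.exists_quot k G H h
  have hQsm : Smooth Q.hom := q4 inferInstance
  obtain ⟨n, cf, ρ, hproj⟩ := ChevProj.exists_isProj h b o hsqQ
  have hqcf : QuasiCompact f.left := quasiCompact_left f
  have hf : (@Surjective ⊓ @Flat ⊓ @QuasiCompact : MorphismProperty Scheme.{u}) f.left :=
    ⟨⟨inferInstance, inferInstance⟩, inferInstance⟩
  have hfaff : IsAffineHom f.left := by
    have i1 := Groth.Agent.Desc.MorDescent.descendsAlong_isAffineHom.{u}
    have i2 : IsAffineHom (snd G X).left := MorphismProperty.of_isPullback (isPullback_fst_left G X) ‹_›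
    exact MorphismProperty.of_isPullback_of_descendsAlong hsq.flip hf i2
  obtain ⟨W, φ₀, ψ, hinv, hpb⟩ := exists_assoc hsq hproj
  have hQred : IsReduced Q.left := by
    exact Flat2B.SmoothGeom.isReduced_of_smooth Q.hom
  have j1 : IsSeparated (fst X Q).left := MorphismProperty.of_isPullback (isPullback_fst_left X Q).flip ‹_›
  have j2 : LocallyOfFiniteType (fst X Q).left := MorphismProperty.of_isPullback (isPullback_fst_left X Q).flip ‹_›
  have j3 : QuasiCompact (fst X Q).left := MorphismProperty.of_isPullback (isPullback_fst_left X Q).flip ‹_›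
  have j4 : Smooth (fst X Q).left := MorphismProperty.of_isPullback (isPullback_fst_left X Q).flip ‹_›
  obtain ⟨r1, r2, r3, r4⟩ := props hpb
  have hpb' := isPullback_of_left hpb
  have hinv' : ∀ (T : Over (Spec (CommRingCat.of k))) (g : T ⟶ G) (x : T ⟶ X) (q : T ⟶ Q),
      lift (sm a g x) (sm b g q) ≫ φ₀ = lift x q ≫ φ₀ := by
    intro T g x q
    rw [← sm_prodAct, Category.assoc, hinv, ← Category.assoc, lift_snd]
  obtain ⟨φ, hφdef⟩ : ∃ φ : X ⟶ W, φ = lift (𝟙 X) (toUnit X ≫ o) ≫ φ₀ := ⟨_, rfl⟩
  have hφ : ∀ (T : Over (Spec (CommRingCat.of k))) (x : T ⟶ X), x ≫ φ = lift x (toUnit T ≫ o) ≫ φ₀ := by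
    intro T x
    rw [hφdef, ← Category.assoc]
    congr 1
    apply CartesianMonoidalCategory.hom_ext
    · simp
    · rw [Category.assoc, lift_snd, lift_snd, ← Category.assoc, toUnit_unique (x ≫ toUnit X) (toUnit T)]
  have hfac : φ ≫ ψ = f := by
    rw [hφdef, Category.assoc, ← hpb'.w, ← Category.assoc, lift_fst, Category.id_comp]
  have hfix : ∀ (T : Over (Spec (CommRingCat.of k))) (y : T ⟶ H), sm b (y ≫ h) (toUnit T ≫ o) = toUnit T ≫ o := by
    intro T y
    have h1 := mul_comp_orbitMap_of_sub hsqQ (1 : T ⟶ G) y
    rw [_root_.one_mul, _root_.K413.Homog.comp_orbitMap, _root_.K413.Homog.comp_orbitMap] at h1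
    exact h1.trans (one_sm b _)
  have hsnd : Surjective (snd G X).left := by
    have h1 : (lift (1 : X ⟶ G) (𝟙 X)).left ≫ (snd G X).left = 𝟙 _ := by
      rw [← Over.comp_left, lift_snd]; rfl
    constructor
    intro x
    refine ⟨(lift (1 : X ⟶ G) (𝟙 X)).left x, ?_⟩
    rw [← Scheme.Hom.comp_apply, h1]; rfl
  have hsndf : Flat (snd G X).left := MorphismProperty.of_isPullback (isPullback_fst_left G X) inferInstance
  have hθ : snd G X ≫ φ = lift a.act (fst G X ≫ b.orbitMap o) ≫ φ₀ := by
    rw [hφ, ← hinv' _ (fst G X)]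
    congr 2
    · rw [sm, lift_fst_snd, Category.id_comp]
    · rw [_root_.K413.Homog.comp_orbitMap]; rfl
  obtain ⟨hθ1, hθ2⟩ := flat_shear a (b.orbitMap o)
  have hφ₀f : Flat φ₀.left := MorphismProperty.of_isPullback hpb inferInstance
  have hφ₀s : Surjective φ₀.left := MorphismProperty.of_isPullback hpb inferInstance
  have hφf : Flat φ.left := by
    have h1 : Flat ((snd G X).left ≫ φ.left) := by
      rw [← Over.comp_left, hθ, Over.comp_left]; infer_instance
    exact S1128.result (snd G X).left φ.left
  have hφs : Surjective φ.left := by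
    have h1 : Surjective ((snd G X).left ≫ φ.left) := by
      rw [← Over.comp_left, hθ, Over.comp_left]; infer_instance
    exact Surjective.of_comp (snd G X).left φ.left
  have hψs : Surjective ψ.left := by
    have h1 : Surjective (φ.left ≫ ψ.left) := by
      rw [← Over.comp_left, hfac]; infer_instance
    exact Surjective.of_comp φ.left ψ.left
  refine ⟨W, φ, ψ, r1, r2, r3, r4, hfac, hφf, hφs, ?_,
    MorphismProperty.of_isPullback_of_descendsAlong (P := @Smooth) hpb hf j4, hψs⟩
  apply isPullback_left
  have hres : ∀ (T : Over (Spec (CommRingCat.of k))) (y : T ⟶ H) (x : T ⟶ X),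
      sm (a.restrict h) y x = sm a (y ≫ h) x := fun T y x => AlgGrp.Action.lift_restrict_act h a y x
  apply sq_of_existsUnique
  · have h1 : (a.restrict h).act = sm a (fst H X ≫ h) (snd H X) := by
      rw [← hres, sm, lift_fst_snd, Category.id_comp]
    rw [h1, hφ, hφ]
    have h2 := hinv' (H ⊗ X) (fst H X ≫ h) (snd H X) (toUnit _ ≫ o)
    rw [hfix] at h2
    exact h2
  · intro T x₀ x₁ hx
    have hxf : x₀ ≫ f = x₁ ≫ f := by
      rw [← hfac, ← Category.assoc, hx, Category.assoc]
    obtain ⟨g, hg, huniq⟩ := existsUnique_of_sq (isPullback_of_left hsq) x₀ x₁ hxf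
    have hg' : sm a g x₁ = x₀ := hg
    have h1 : lift x₀ (toUnit T ≫ o) = lift x₀ (sm b g (toUnit T ≫ o)) := by
      apply hpb'.hom_ext
      · rw [lift_fst, lift_fst]
      · rw [← hφ, hx, hφ, ← hg', hinv']
    have h2 : sm b g (toUnit T ≫ o) = toUnit T ≫ o := by
      have := congrArg (fun z => z ≫ snd X Q) h1
      rw [lift_snd, lift_snd] at this
      exact this.symm
    obtain ⟨y, hy⟩ := exists_of_fix hsqQ g h2
    refine ⟨y, ?_, fun y' hy' => ?_⟩
    · change sm (a.restrict h) y x₁ = x₀
      rw [hres, hy, hg']
    · have h3 : sm (a.restrict h) y' x₁ = x₀ := hy'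
      rw [hres] at h3
      rw [← cancel_mono h, huniq _ h3, hy]

end Groth.Agent.S16129
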