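import Groth.Statements.S16134
import Groth.Agent.EqInt.K957.DiagMain
import Groth.Agent.EqInt.K957.DescOver
import Groth.Agent.S0081
import Groth.Agent.FlatB.GeomRed
import Groth.Agent.AbVar.K528.RedClosed

set_option autoImplicit false
universe u
open CategoryTheory MonoidalCategory CartesianMonoidalCategory MonObj GrpObj AlgebraicGeometry CategoryTheory.Limits
open AlgGrp

namespace Groth.Agent.S16134

open K957.Pts K957.Glue in
theorem aux {k : Type u} [Field k] [IsAlgClosed k] {G X Y Z : Over (Spec (CommRingCat.of k))} [GrpObj G]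
    [IsAffine G.left] [LocallyOfFiniteType G.hom] [ConnectedSpace ↥G.left]
    [IsReduced X.left] [LocallyOfFiniteType X.hom] [QuasiCompact X.hom] [QuasiSeparated X.hom]
    [QuasiSeparated Y.hom] [LocallyOfFiniteType Y.hom] [IsSeparated Y.hom]
    [IsReduced Z.left] [IsSeparated Z.hom] [LocallyOfFiniteType Z.hom] [QuasiCompact Z.hom]
    (a : AlgGrp.Action G X) (f : X ⟶ Y) [Flat f.left] [Surjective f.left]
    (hsq : IsPullback a.act.left (snd G X).left f.left f.left) (b : AlgGrp.Action G Z) :
    ∃ (W : Over (Spec (CommRingCat.of k))) (φ : X ⊗ Z ⟶ W) (ψ : W ⟶ Y),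
      IsReduced W.left ∧ IsSeparated W.hom ∧ LocallyOfFiniteType W.hom ∧ QuasiCompact W.hom ∧
      lift ((G ◁ fst X Z) ≫ a.act) ((G ◁ snd X Z) ≫ b.act) ≫ φ = snd G (X ⊗ Z) ≫ φ ∧
      IsPullback (fst X Z).left φ.left f.left ψ.left := by
  have hqc : QuasiCompact f.left := K957.Bundle.quasiCompact_left f
  have H := isPullback_over hsq
  have hB := K957.DiagMain.hasBundle_prod b a H
  have hB' : HasBundle (a.prod b) := by
    refine HasBundle.of_iso (a' := b.prod a) (β_ Z X).hom ?_ hB
    apply isEquivariant_of_dot
    intro T g z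
    apply CartesianMonoidalCategory.hom_ext
    · rw [Category.assoc, braiding_hom_fst, dot_prod_snd, dot_prod_fst, Category.assoc, braiding_hom_fst]
    · rw [Category.assoc, braiding_hom_snd, dot_prod_fst, dot_prod_snd, Category.assoc, braiding_hom_snd]
  obtain ⟨W, φ, hφ, h1, h2, h3, h4⟩ := hB'
  have h5 := isPullback_of_isIso _ hφ h4
  obtain ⟨ψ, hψ⟩ := K957.DescOver.exists_cartesian (a.prod b) a h5 H (fst X Z) (by
    apply isEquivariant_of_dot
    intro T g z
    rw [dot_prod_fst])
  have hsq' := isPullback_left hψ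
  have hred : IsReduced (X ⊗ Z).left := K528.RedClosed.isReduced_tensor X Z
  have hfst : IsSeparated (fst X Z).left := MorphismProperty.of_isPullback
    (IsPullback.of_hasPullback X.hom Z.hom).flip (inferInstance : IsSeparated Z.hom)
  have hfst' : LocallyOfFiniteType (fst X Z).left := MorphismProperty.of_isPullback
    (IsPullback.of_hasPullback X.hom Z.hom).flip (inferInstance : LocallyOfFiniteType Z.hom)
  have hfst'' : QuasiCompact (fst X Z).left := MorphismProperty.of_isPullback
    (IsPullback.of_hasPullback X.hom Z.hom).flip (inferInstance : QuasiCompact Z.hom)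
  have hψ1 : IsSeparated ψ.left := MorphismProperty.of_isPullback_of_descendsAlong (P := @IsSeparated)
    (Q := @Surjective ⊓ @Flat ⊓ @QuasiCompact) hsq' ⟨⟨‹_›, ‹_›⟩, hqc⟩ hfst
  have hψ2 : LocallyOfFiniteType ψ.left := MorphismProperty.of_isPullback_of_descendsAlong
    (P := @LocallyOfFiniteType) (Q := @Surjective ⊓ @Flat ⊓ @QuasiCompact) hsq' ⟨⟨‹_›, ‹_›⟩, hqc⟩ hfst'
  have hXZ : QuasiCompact (X ⊗ Z).hom := by
    rw [← Over.w (fst X Z)]
    infer_instance
  refine ⟨W, φ, ψ, ?_, ?_, ?_, ?_, hφ, hsq'⟩
  · exact Groth.Agent.FlatB.GeomRed.isReduced_of_flat_of_surjective φ.left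
  · rw [← Over.w ψ]
    infer_instance
  · rw [← Over.w ψ]
    infer_instance
  · have : CompactSpace (X ⊗ Z).left := (quasiCompact_iff_compactSpace (f := (X ⊗ Z).hom)).mp hXZ
    exact (quasiCompact_iff_compactSpace (f := W.hom)).mpr
      (Function.Surjective.compactSpace φ.left.continuous φ.left.surjective)

/-- Over an algebraically closed field k, let G be a connected linear algebraic group (an affine,
smooth, connected k-group scheme), f : X → Y a principal G-bundle between varieties (X, Y reduced
separated k-schemes of finite type; σ the action on X; f flat and surjective with the square σ, p₂,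
f, f cartesian), and Z a normal irreducible variety (an integral normal separated k-scheme of finite
type) with an action τ of G. Then the associated fibre bundle X ×^G Z → Y exists: there are a
variety W (reduced, separated, of finite type over k), a morphism φ : X × Z → W invariant for the
diagonal action g · (x, z) = (g · x, g · z), and a morphism ψ : W → Y such that the square formed by
p₁ : X × Z → X, φ, f and ψ is cartesian. (The published statement takes Z normal, possibly
reducible; it is stated here for irreducible Z.) -/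
theorem result (k : Type u) [Field k] [IsAlgClosed k]
    (G X Y Z : Over (Spec (CommRingCat.of k))) [GrpObj G] [IsAffine G.left] [Smooth G.hom] [ConnectedSpace ↥G.left]
    [IsReduced X.left] [IsSeparated X.hom] [LocallyOfFiniteType X.hom] [QuasiCompact X.hom]
    [IsReduced Y.left] [IsSeparated Y.hom] [LocallyOfFiniteType Y.hom] [QuasiCompact Y.hom]
    [IsIntegral Z.left] [IsSeparated Z.hom] [LocallyOfFiniteType Z.hom] [QuasiCompact Z.hom] (hZ : Pi1.IsNormalScheme Z.left)
    (a : AlgGrp.Action G X) (f : X ⟶ Y) [Flat f.left] [Surjective f.left]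
    (hsq : IsPullback a.act.left (snd G X).left f.left f.left) (b : AlgGrp.Action G Z) :
    ∃ (W : Over (Spec (CommRingCat.of k))) (φ : X ⊗ Z ⟶ W) (ψ : W ⟶ Y),
      IsReduced W.left ∧ IsSeparated W.hom ∧ LocallyOfFiniteType W.hom ∧ QuasiCompact W.hom ∧
      lift ((G ◁ fst X Z) ≫ a.act) ((G ◁ snd X Z) ≫ b.act) ≫ φ = snd G (X ⊗ Z) ≫ φ ∧
      IsPullback (fst X Z).left φ.left f.left ψ.left := by
  have : LocallyOfFiniteType G.hom := inferInstance
  exact aux a f hsq b

end Groth.Agent.S16134
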