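import Groth.Statements.S16135
import Groth.Agent.W4c3segrerkempf.K582.Geom

set_option autoImplicit false
universe u
open CategoryTheory CategoryTheory.Limits AlgebraicGeometry
open W4c3segrerkempf

namespace Groth.Agent.S16135

/-- Let k be a field of characteristic zero and Y, Z varieties over k (integral schemes of finite type
over k), and let f : Y ⟶ Z be a k-morphism which is a tubular regular embedding: a closed immersion
such that for every closed point y of Y there are a smooth P ⟶ Y with a section s and a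
k-isomorphism between the completed local rings of Z at f(y) and of P at s(y) under which the
surjections onto the completed local ring of Y at y correspond. Assume also given a resolution
functor for schemes of finite type over k commuting with smooth base change (the published proof
takes one from functorial resolution of singularities): for every such q : X ⟶ Spec k a proper
morphism ρ : R(X) ⟶ X with R(X) smooth over k, which for reduced X is an isomorphism over a dense
open subset of X whose preimage is dense in R(X), and such that for every smooth quasi-compact p :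
X' ⟶ X the scheme R(X') is the fibre product of R(X) and X' over X by some morphism R(X') ⟶ R(X)
over ρ. Then there are smooth integral k-schemes Y' and Z', a closed immersion f' : Y' ⟶ Z' (hence a
regular immersion) and proper morphisms h : Y' ⟶ Y, g : Z' ⟶ Z forming a cartesian square f' ≫ g = h
≫ f, with h and g isomorphisms over some nonempty open subsets of Y and of Z. (The published
statement also names a closed embedding X ⟶ Y, which plays no role in the conclusion and is omitted;
its proof uses Artin approximation as well, which is not carried as a hypothesis here.) -/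
theorem result
    (k : Type u) [Field k] [CharZero k]
    (R : ∀ (X : Scheme.{u}), (X ⟶ Spec (CommRingCat.of k)) → Scheme.{u})
    (ρ : ∀ (X : Scheme.{u}) (q : X ⟶ Spec (CommRingCat.of k)), R X q ⟶ X)
    (hR₁ : ∀ (X : Scheme.{u}) (q : X ⟶ Spec (CommRingCat.of k)), LocallyOfFiniteType q → QuasiCompact q →
      Smooth (ρ X q ≫ q) ∧ IsProper (ρ X q))
    (hR₂ : ∀ (X : Scheme.{u}) (q : X ⟶ Spec (CommRingCat.of k)), LocallyOfFiniteType q → QuasiCompact q → IsReduced X →
      ∃ U : X.Opens, Dense (U : Set X) ∧ Dense ((ρ X q) ⁻¹ᵁ U : Set (R X q)) ∧ IsIso ((ρ X q) ∣_ U))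
    (hR₃ : ∀ (X X' : Scheme.{u}) (q : X ⟶ Spec (CommRingCat.of k)) (p : X' ⟶ X), LocallyOfFiniteType q → QuasiCompact q →
      Smooth p → QuasiCompact p →
      ∃ r : R X' (p ≫ q) ⟶ R X q, IsPullback r (ρ X' (p ≫ q)) (ρ X q) p)
    (Y Z : Scheme.{u}) (qY : Y ⟶ Spec (CommRingCat.of k)) (qZ : Z ⟶ Spec (CommRingCat.of k))
    [IsIntegral Y] [IsIntegral Z]
    [LocallyOfFiniteType qY] [QuasiCompact qY] [LocallyOfFiniteType qZ] [QuasiCompact qZ]
    (f : Y ⟶ Z) (hf : f ≫ qZ = qY)
    (htub : W4c3segrerkempf.IsTubularRegImm k qY qZ f) :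
    ∃ (Y' Z' : Scheme.{u}) (f' : Y' ⟶ Z') (h : Y' ⟶ Y) (g : Z' ⟶ Z),
      Smooth (h ≫ qY) ∧ Smooth (g ≫ qZ) ∧
      IsClosedImmersion f' ∧ IsProper h ∧ IsProper g ∧ IsPullback f' h g f ∧
      IsIntegral Y' ∧ IsIntegral Z' ∧
      (∃ U : Y.Opens, (U : Set Y).Nonempty ∧ IsIso (h ∣_ U)) ∧
      (∃ V : Z.Opens, (V : Set Z).Nonempty ∧ IsIso (g ∣_ V)) := by
  obtain ⟨hcl, htub⟩ := htub
  have hY := K582.Geom.main k R ρ hR₃ Y Z qY qZ f hf htub (pullback.fst (ρ Z qZ) f)
    (pullback.snd (ρ Z qZ) f) (IsPullback.of_hasPullback _ _)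
  obtain ⟨hZs, hZp⟩ := hR₁ Z qZ inferInstance inferInstance
  obtain ⟨hYs, hYp⟩ := hR₁ Y qY inferInstance inferInstance
  obtain ⟨U, hU, hU', hUi⟩ := hR₂ Y qY inferInstance inferInstance inferInstance
  obtain ⟨V, hV, hV', hVi⟩ := hR₂ Z qZ inferInstance inferInstance inferInstance
  have hsm : Smooth (pullback.snd (ρ Z qZ) f ≫ qY) := hY.smooth qY hYs
  have hUi' : IsIso (pullback.snd (ρ Z qZ) f ∣_ U) := hY.isIso_restrict U hUi
  have hr₁ : IsReduced (pullback (ρ Z qZ) f) := K582.Geom.isReduced_of_smooth (pullback.snd (ρ Z qZ) f ≫ qY)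
  have hr₂ : IsReduced (R Z qZ) := K582.Geom.isReduced_of_smooth (ρ Z qZ ≫ qZ)
  have hi₁ : IrreducibleSpace ↥(pullback (ρ Z qZ) f) :=
    K582.Geom.irreducibleSpace (pullback.snd (ρ Z qZ) f) U hU.nonempty hUi' (hY.dense U hU')
  have hi₂ : IrreducibleSpace ↥(R Z qZ) :=
    K582.Geom.irreducibleSpace (ρ Z qZ) V hV.nonempty hVi hV'
  refine ⟨pullback (ρ Z qZ) f, R Z qZ, pullback.fst _ _, pullback.snd _ _, ρ Z qZ, hsm, hZs,
    inferInstance, inferInstance, hZp, IsPullback.of_hasPullback _ _,
    isIntegral_of_irreducibleSpace_of_isReduced _, isIntegral_of_irreducibleSpace_of_isReduced _,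
    ⟨U, hU.nonempty, hUi'⟩, ⟨V, hV.nonempty, hVi⟩⟩

end Groth.Agent.S16135
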