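import Groth.Statements.S16138
import Groth.Agent.AbVar.K139.Skew
import Groth.Agent.PicF.K247.SmoothGI
import Mathlib.AlgebraicGeometry.Group.Abelian

set_option autoImplicit false
universe u
open CategoryTheory CategoryTheory.Limits MonoidalCategory CartesianMonoidalCategory MonObj GrpObj AlgebraicGeometry
open AbVar

namespace Groth.Agent.S16138

/-- Let k be an algebraically closed field of characteristic zero and A an abelian variety over k (a
proper smooth k-group scheme with geometrically connected structure morphism), with multiplication m
: A × A → A and projections p_1, p_2; for a k-point x of A write t_x : A → A for the translation by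
x (the product of the identity and the constant map x in the group Hom(A, A)). Let E and F be finite
locally free O_A-modules and form the skew Pontrjagin product p_{1*}(m^*E ⊗ p_2^*F). If this
O_A-module is globally generated (a quotient of a free module) and H^i(A, t_x^*E ⊗ F) = 0 for every
k-point x and every i > 0, then for every k-point x the multiplication map H^0(A, t_x^*E) ⊗ H^0(A,
F) → H^0(A, t_x^*E ⊗ F) is surjective; here that map is written as the map from the global sections
of the sectionwise tensor product presheaf of t_x^*E and F to the global sections of its
sheafification. (The published statement is over the complex numbers.) -/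
theorem result
    (k : Type u) [Field k] [IsAlgClosed k] [CharZero k]
    (A : Over (Spec (CommRingCat.of k))) [GrpObj A] [IsProper A.hom] [Smooth A.hom]
    [GeometricallyConnected A.hom]
    (E F : A.left.Modules) (hE : FlatMod.IsFinLocFree E) (hF : FlatMod.IsFinLocFree F)
    (hgg : Curv2.IsGloballyGenerated ((Scheme.Modules.pushforward (fst A A).left).obj
      (CohB1.tensorMod ((Scheme.Modules.pullback μ[A].left).obj E)
        ((Scheme.Modules.pullback (snd A A).left).obj F))))
    (hvan : ∀ (x : 𝟙_ (Over (Spec (CommRingCat.of k))) ⟶ A) (i : ℕ), 0 < i →
      Subsingleton (Coh.HH A.left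
        (CohB1.tensorMod ((Scheme.Modules.pullback (𝟙 A * (toUnit A ≫ x)).left).obj E) F) i))
    (x : 𝟙_ (Over (Spec (CommRingCat.of k))) ⟶ A) :
    Function.Surjective ((toSheafify (Opens.grothendieckTopology A.left)
      (CohB1.tensorPre ((Scheme.Modules.pullback (𝟙 A * (toUnit A ≫ x)).left).obj E) F).presheaf).app
        (Opposite.op ⊤)) := by
  have hgi : GeometricallyIntegral A.hom := K247.SmoothGI.geometricallyIntegral A.hom
  have hc : IsCommMonObj A := isCommMonObj_of_isProper_of_geometricallyIntegral A
  have e : (toUnit A ≫ x) * 𝟙 A = 𝟙 A * (toUnit A ≫ x) := _root_.mul_comm _ _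
  rw [← K800.MulMap.mulSurj_iff]
  have h := K139.Skew.mulSurj_translate hE hF hgg x (by rw [e]; exact hvan x 1 one_pos)
  rwa [e] at h

end Groth.Agent.S16138
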