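import Groth.Statements.S16139
import Groth.Agent.AbVar.K845.Main
import Groth.Agent.AbDual.K732.RR

set_option autoImplicit false
universe u
open CategoryTheory CategoryTheory.Limits MonoidalCategory CartesianMonoidalCategory MonObj GrpObj AlgebraicGeometry
open AbVar

namespace Groth.Agent.S16139

/-- Let k be an algebraically closed field of characteristic zero (the published setting is the complex
numbers), A an abelian variety over k (a proper smooth k-group scheme with geometrically connected
structure morphism) of dimension g ≥ 1, (A^t, φ) a given dual abelian variety for the fppf topology,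
also of dimension g, and P an invertible module on A ×_k A^t whose class is a Poincaré class. Let L
be an invertible O_A-module which is non-degenerate: only finitely many k-points x of A satisfy
t_x^*L ≅ L, t_x being translation by x (the product of the identity and the constant map x in the
group Hom(A, A)); and let i be such that H^j(A, L) = 0 for every j ≠ i (the index of L). Then the
Fourier–Mukai transform of L, the O_{A^t}-module R^i p_{2*}(p_1^*L ⊗ P) (the i-th right derived
functor of p_{2*} on O-modules, which needs the stated instance that the module category of A ×_k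
A^t has injective resolutions — it does), is slope-stable of dimension g with respect to every ample
invertible O_{A^t}-module H. -/
theorem result (k : Type u) [Field k] [IsAlgClosed k] [CharZero k]
    (A At : Over (Spec (CommRingCat.of k))) [GrpObj A] [IsProper A.hom] [Smooth A.hom] [GeometricallyConnected A.hom]
    [GrpObj At] [IsProper At.hom] [Smooth At.hom] [GeometricallyConnected At.hom]
    (g : ℕ) (hg1 : 1 ≤ g) (hg : topologicalKrullDim ↥A.left = g) (hgt : topologicalKrullDim ↥At.left = g)
    (φ : ∀ T : Over (Spec (CommRingCat.of k)), PicF.Cl (PicF.XT A.hom T) → (T ⟶ At))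
    (hφ : AbDual.IsDualAV Scheme.fppfPrecoverage A At φ)
    (P : (pullback A.hom At.hom).Modules) (hP : PicF.IsInvertible P)
    (hPξ : AbDual.IsPoincareCl A At φ (PicF.cl P))
    (L : A.left.Modules) (hL : PicF.IsInvertible L)
    (hnd : Set.Finite {x : 𝟙_ (Over (Spec (CommRingCat.of k))) ⟶ A |
      Nonempty ((Scheme.Modules.pullback (𝟙 A * (toUnit A ≫ x)).left).obj L ≅ L)})
    (i : ℕ) (hi : ∀ j : ℕ, j ≠ i → Subsingleton (Coh.HH A.left L j))
    [HasInjectiveResolutions (pullback A.hom At.hom).Modules]
    (H : At.left.Modules) (hH : CohB1.IsAmple H) :
    @ShStab.IsMuStable k _ At.left ⟨At.hom⟩ H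
      ((Coh.Rpush (pullback.snd A.hom At.hom) i).obj
        (CohB1.tensorMod ((Scheme.Modules.pullback (pullback.fst A.hom At.hom)).obj L) P)) g := by
  have hgi := K732.AV.geomInt A
  refine K845.Main.main hφ g hg hgt hP hPξ hL ((K524.Index.nd_iff hL).2 hnd) i hi ?_ ?_ hH
  · intro hf d hd
    exact K732.RR.chi_sq hφ g hg _ hf d hd
  · rw [← zpow_neg_one, K732.RR.chi_zpow g hg, Int.natAbs_mul, Int.natAbs_pow]
    simp

end Groth.Agent.S16139
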