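import Groth.Statements.S16140
import Groth.Agent.VBCurve.K61.CommonF

set_option autoImplicit false
universe u
open CategoryTheory CategoryTheory.Limits AlgebraicGeometry
open VBCurve

namespace Groth.Agent.S16140

/-- Let k be an algebraically closed field of characteristic zero and X a smooth proper geometrically
connected curve over k (topological dimension one) of genus g ≥ 2 (the text's standing setting: a
smooth projective complex curve of genus at least 2). Fix integers r ≥ 1 and e, write h = gcd(r, e),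
r = h·r_1, e = h·e_1, and fix p ≥ 1. Assume that for every slope-stable finite locally free
O_X-module V of rank r' with 1 ≤ r' ≤ r and slope e/r (deg V · r = e · r') there is a
slope-semistable finite locally free O_X-module F of rank p·r_1 and degree p(r_1(g − 1) − e_1) with
H^0(X, V ⊗ F) = 0. Then for every slope-semistable finite locally free O_X-module E of rank r and
degree e there is a finite locally free O_X-module F of rank p·r_1 and degree p(r_1(g − 1) − e_1)
with H^0(X, E ⊗ F) = 0 (such an F is necessarily slope-semistable, since χ(E ⊗ F) = 0). (Degrees are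
χ − rank·χ(O_X); the published statement phrases F as a point of the moduli space of semistable
bundles of that rank and degree and E as a point of the moduli space with fixed determinant.) -/
theorem result
    (k : Type u) [Field k] [IsAlgClosed k] [CharZero k]
    (X : Scheme.{u}) [X.Over (Spec (CommRingCat.of k))]
    [IsProper (X ↘ Spec (CommRingCat.of k))] [Smooth (X ↘ Spec (CommRingCat.of k))]
    [GeometricallyConnected (X ↘ Spec (CommRingCat.of k))] (hdim : topologicalKrullDim ↥X = 1)
    (g : ℕ) (hg : Curv2.genus k X = g) (hg2 : 2 ≤ g)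
    (r : ℕ) (hr : 0 < r) (e : ℤ) (h r₁ : ℕ) (e₁ : ℤ) (hh : Int.gcd (r : ℤ) e = h)
    (hr₁ : (h : ℤ) * (r₁ : ℤ) = (r : ℤ)) (he₁ : (h : ℤ) * e₁ = e) (p : ℕ) (hp : 0 < p)
    (hyp : ∀ (V : X.Modules) (r' : ℕ), 0 < r' → r' ≤ r → FlatMod.IsFinLocFreeOfRank r' V →
      ModFun.IsSlopeStable k X V r' → Curv2.deg k X V r' * (r : ℤ) = e * (r' : ℤ) →
      ∃ F : X.Modules, FlatMod.IsFinLocFreeOfRank (p * r₁) F ∧ ModFun.IsSlopeSemistable k X F (p * r₁) ∧
        Curv2.deg k X F (p * r₁) = (p : ℤ) * ((r₁ : ℤ) * ((g : ℤ) - 1) - e₁) ∧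
        Subsingleton (Coh.HH X (CohB1.tensorMod V F) 0))
    (E : X.Modules) (hE : FlatMod.IsFinLocFreeOfRank r E) (hEss : ModFun.IsSlopeSemistable k X E r)
    (hEdeg : Curv2.deg k X E r = e) :
    ∃ F : X.Modules, FlatMod.IsFinLocFreeOfRank (p * r₁) F ∧
      Curv2.deg k X F (p * r₁) = (p : ℤ) * ((r₁ : ℤ) * ((g : ℤ) - 1) - e₁) ∧
      Subsingleton (Coh.HH X (CohB1.tensorMod E F) 0) := by
  have hint : IsIntegral X := K705.Setup.isIntegral_of_geomConn k X
  have C : K707.Base.Crv k X := K707.Base.Crv.of_smooth hdim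
  have hcE := K707.Base.isFinLocFree_of_rank hE
  have hrE := K707.Base.rk_of_rank hE
  obtain ⟨F, hF, hFd, hv⟩ := K61.CommonF.main k hdim (n := p * r₁) e ((p : ℤ) * ((r₁ : ℤ) * ((g : ℤ) - 1) - e₁))
    (fun V hV h0 h1 hst hd => by
      have hV' := K707.Base.isFinLocFreeOfRank_rk hV
      obtain ⟨F, hF, -, hFd, hv⟩ := hyp V (Groth.Agent.VarietyA.DegRank.rk V) h0 h1 hV' ((K707.Semi.st_iff hV').1 hst)
        (by rw [← K707.Deg.dg_of_rank k hV']; exact hd)
      exact ⟨F, hF, by rw [K707.Deg.dg_of_rank k hF, hFd], hv⟩)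
    r E hcE hrE hr le_rfl ((K707.Semi.ss_iff C hE).2 hEss)
    (by rw [K707.Deg.dg_of_rank k hE, hEdeg, hrE])
  exact ⟨F, hF, by rw [← K707.Deg.dg_of_rank k hF, hFd], hv⟩

end Groth.Agent.S16140
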