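import Groth.Statements.S16142
import Groth.Agent.Variety.K431.BiLine

set_option autoImplicit false
universe u
open CategoryTheory CategoryTheory.Limits AlgebraicGeometry
open Variety

namespace Groth.Agent.S16142

open Groth.Agent Groth.Agent.Variety W4c3multigrregular

/-- `H²(P¹ × P¹, O(-1, 0)) = 0`. -/
theorem hh_left (k : Type u) [Field k] :
    Subsingleton (Coh.HH (biProj 1 1 k) (lineBundle 1 1 k (-1) 0) 2) :=
  K431.BiLine.subsingleton_HH 1 1 k (-1) 0 2 fun i _ =>
    Or.inl (S0844.result k 1 (-1) i (by omega) (by omega))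

/-- `H²(P¹ × P¹, O(0, -1)) = 0`. -/
theorem hh_right (k : Type u) [Field k] :
    Subsingleton (Coh.HH (biProj 1 1 k) (lineBundle 1 1 k 0 (-1)) 2) :=
  K431.BiLine.subsingleton_HH 1 1 k 0 (-1) 2 fun i _ =>
    Or.inr (S0844.result k 1 (-1) (2 - i) (by omega) (by omega))

/-- Let k be an algebraically closed field of characteristic zero and let G₁, G₂ be finite locally free
O-modules on P¹ ×_k P¹. Suppose G₁ is (p, q)-regular and G₂ is (m, n)-regular, regularity being the
bigraded one: F is (p, q)-regular when H^{u₁+u₂}(P¹ × P¹, F(p - u₁, q - u₂)) = 0 for all natural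
numbers u₁, u₂ with u₁ + u₂ > 0. Suppose moreover that G₁(p, q) and G₂(m, n) are globally generated.
Then G₁ ⊗ G₂ is (p + m, q + n)-regular. (The published lemma does not list the global generation of
G₁(p, q) and G₂(m, n) among its hypotheses: it obtains it from the bigraded form of Mumford's
regularity criterion, which the source quotes without proof; here it is carried as a hypothesis. The
source works over the complex numbers.) -/
theorem result (k : Type u) [Field k] [IsAlgClosed k] [CharZero k]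
    (G₁ G₂ : (W4c3multigrregular.biProj 1 1 k).Modules)
    (hG₁ : FlatMod.IsFinLocFree G₁) (hG₂ : FlatMod.IsFinLocFree G₂) (p q m n : ℤ)
    (hreg₁ : W4c3multigrregular.IsBiReg 1 1 k G₁ p q) (hreg₂ : W4c3multigrregular.IsBiReg 1 1 k G₂ m n)
    (hgg₁ : Curv2.IsGloballyGenerated (W4c3multigrregular.twistBi 1 1 k G₁ p q))
    (hgg₂ : Curv2.IsGloballyGenerated (W4c3multigrregular.twistBi 1 1 k G₂ m n)) :
    W4c3multigrregular.IsBiReg 1 1 k (CohB1.tensorMod G₁ G₂) (p + m) (q + n) := by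
  have hdim : topologicalKrullDim (biProj 1 1 k) ≤ ((2 : ℕ) : WithBot ℕ∞) :=
    K431.BiProj.topologicalKrullDim_le 1 1 k
  have hf₁ := K431.BiLine.isFinLocFree_twistBi 1 1 k hG₁ p q
  have hf₂ := K431.BiLine.isFinLocFree_twistBi 1 1 k hG₂ m n
  have hc₁ := PerfA.CohSerre.isCoh_of_isFinLocFree hf₁
  have hc₂ := PerfA.CohSerre.isCoh_of_isFinLocFree hf₂
  -- the case of `H¹`
  have key : ∀ (c d : ℤ), Subsingleton (Coh.HH (biProj 1 1 k) (lineBundle 1 1 k c d) 2) →
      Subsingleton (Coh.HH (biProj 1 1 k) (twistBi 1 1 k G₁ (p + c) (q + d)) 1) →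
      Subsingleton (Coh.HH (biProj 1 1 k) (twistBi 1 1 k G₂ (m + c) (n + d)) 1) →
      Subsingleton (Coh.HH (biProj 1 1 k)
        (twistBi 1 1 k (CohB1.tensorMod G₁ G₂) (p + (m + c)) (q + (n + d))) 1) := by
    intro c d h h₁ h₂
    obtain ⟨e₁⟩ := K431.BiLine.nonempty_twistBi_twistBi 1 1 k G₁ p q c d
    obtain ⟨e₂⟩ := K431.BiLine.nonempty_twistBi_twistBi 1 1 k G₂ m n c d
    obtain ⟨e₃⟩ := K431.BiLine.nonempty_twistBi_tensor 1 1 k G₁ G₂ p q (m + c) (n + d)
    refine Fga.HShift.subsingleton_of_iso (Ega2.Tens.mapTIso (Iso.refl _) e₂ ≪≫ e₃) 1 ?_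
    exact K431.BiReg.one_tensor hdim hc₁ hc₂ hgg₁ hgg₂ (K431.BiLine.isFinLocFree_lineBundle 1 1 k c d)
      (Sga67.LocBasis.isFinLocFree_tensorMod hf₂ (K431.BiLine.isFinLocFree_lineBundle 1 1 k c d))
      (Fga.HShift.subsingleton_of_iso e₁.symm 1 h₁) (Fga.HShift.subsingleton_of_iso e₂.symm 1 h₂) h
  intro u₁ u₂ hu
  rcases lt_trichotomy (u₁ + u₂) 2 with h | h | h
  · have h1 : (u₁ = 1 ∧ u₂ = 0) ∨ (u₁ = 0 ∧ u₂ = 1) := by omega
    rcases h1 with ⟨rfl, rfl⟩ | ⟨rfl, rfl⟩
    · have := key (-1) 0 (hh_left k) (by simpa [sub_eq_add_neg] using hreg₁ 1 0 one_pos)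
        (by simpa [sub_eq_add_neg] using hreg₂ 1 0 one_pos)
      simpa [sub_eq_add_neg, add_assoc] using this
    · have := key 0 (-1) (hh_right k) (by simpa [sub_eq_add_neg] using hreg₁ 0 1 one_pos)
        (by simpa [sub_eq_add_neg] using hreg₂ 0 1 one_pos)
      simpa [sub_eq_add_neg, add_assoc] using this
  · obtain ⟨e₃⟩ := K431.BiLine.nonempty_twistBi_tensor 1 1 k G₁ G₂ p q (m - u₁) (n - u₂)
    rw [← add_sub_assoc, ← add_sub_assoc] at e₃
    rw [h]
    refine Fga.HShift.subsingleton_of_iso e₃ 2 ?_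
    refine K431.BiReg.top_tensor hdim hc₁ hgg₁ ?_
    have := hreg₂ u₁ u₂ hu
    rwa [h] at this
  · exact Fga.EulerLEAdd.subsingleton_HH _ 2 hdim _ _ h

end Groth.Agent.S16142
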