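import Groth.Statements.S16143
import Groth.Agent.Variety.K431.PlaneReg
import Groth.Agent.S12912
import Groth.Agent.S12904

set_option autoImplicit false
universe u
open CategoryTheory CategoryTheory.Limits AlgebraicGeometry
open Curves

namespace Groth.Agent.S16143

open W4c3multigrregular

theorem isClosedImmersion_fst (k : Type u) [Field k] (r : ℕ) {C : Scheme.{u}} (i : C ⟶ biProj r r k)
    [IsClosedImmersion i] (hΔ : i ≫ biProj.fst r r k = i ≫ biProj.snd r r k) :
    IsClosedImmersion (i ≫ biProj.fst r r k) := by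
  let Δ : CohB1.ProjSpace r k ⟶ biProj r r k := pullback.lift (𝟙 _) (𝟙 _) rfl
  have h1 : Δ ≫ biProj.fst r r k = 𝟙 _ := pullback.lift_fst _ _ _
  have h2 : Δ ≫ biProj.snd r r k = 𝟙 _ := pullback.lift_snd _ _ _
  have h3 : (i ≫ biProj.fst r r k) ≫ Δ = i := by
    refine pullback.hom_ext ?_ ?_
    · exact (Category.assoc _ _ _).trans ((congrArg _ h1).trans (Category.comp_id _))
    · exact (Category.assoc _ _ _).trans ((congrArg _ h2).trans ((Category.comp_id _).trans hΔ))
  have h4 : IsSeparated (Δ ≫ biProj.fst r r k) := by rw [h1]; infer_instance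
  have h5 : IsSeparated Δ := IsSeparated.of_comp Δ (biProj.fst r r k)
  have h6 : IsClosedImmersion ((i ≫ biProj.fst r r k) ≫ Δ) := by rw [h3]; infer_instance
  exact IsClosedImmersion.of_comp (i ≫ biProj.fst r r k) Δ

/-- Let k be an algebraically closed field of characteristic zero, r ≥ 2, and C a smooth curve over k
(integral, proper over k, of dimension one, all local rings regular) with a closed immersion i : C →
P^r ×_k P^r over k such that C lies in the diagonal, i.e. the two composites of i with the
projections to P^r are equal; call this common morphism j : C → P^r. Assume C is nondegenerate in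
P^r: every nonzero global section of O(1) on P^r pulls back along j to a nonzero section. Let d be
the degree of j^* O(1) on C, so that C has bidegree (d, d). Then the ideal sheaf of C in P^r × P^r
is (d - r + 1, d - r + 1)-regular: H^{u₁+u₂}(P^r × P^r, I_C(d - r + 1 - u₁, d - r + 1 - u₂)) = 0 for
all natural numbers u₁, u₂ with u₁ + u₂ > 0, where I_C(m, n) = I_C ⊗ O(m, n). (The source works over
the complex numbers, with r ≥ 2 in force throughout the chapter.) -/
theorem result (k : Type u) [Field k] [IsAlgClosed k] [CharZero k]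
    (r : ℕ) (hr : 2 ≤ r)
    (C : Scheme.{u}) [C.Over (Spec (CommRingCat.of k))] [IsIntegral C] [IsProper (C ↘ (Spec (CommRingCat.of k)))]
    (hdim : topologicalKrullDim C = 1) (hsm : ∀ x : C, IsRegularLocalRing (C.presheaf.stalk x))
    (i : C ⟶ W4c3multigrregular.biProj r r k) [IsClosedImmersion i]
    (hi : i ≫ W4c3multigrregular.biProj.toSpec r r k = (C ↘ (Spec (CommRingCat.of k))))
    (hΔ : i ≫ W4c3multigrregular.biProj.fst r r k = i ≫ W4c3multigrregular.biProj.snd r r k)
    (hnd : ∀ s : LinSer.Sect (CohB1.ProjSpace r k) (Twist.twistProjSpace r k 1), s ≠ 0 →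
      OmegaSh.pullSect (i ≫ W4c3multigrregular.biProj.fst r r k) (Twist.twistProjSpace r k 1) ⊤ s ≠ 0)
    (d : ℤ) (hd : d = Curv2.deg k C ((Scheme.Modules.pullback (i ≫ W4c3multigrregular.biProj.fst r r k)).obj (Twist.twistProjSpace r k 1)) 1) :
    W4c3multigrregular.IsBiReg r r k (ClSub.idealMod i.ker) (d - r + 1) (d - r + 1) := by
  have hj : IsClosedImmersion (i ≫ biProj.fst r r k) := isClosedImmersion_fst k r i hΔ
  have hjs : (i ≫ biProj.fst r r k) ≫ CohB1.ProjSpace.toSpec r k = (C ↘ (Spec (CommRingCat.of k))) :=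
    (Category.assoc _ _ _).trans hi
  have hdr : (r : ℤ) ≤ d := hd ▸ S12912.result k r C hdim _ hjs hnd
  have hreg : Curv2.IsMRegular k r (ClSub.idealMod (i ≫ biProj.fst r r k).ker) (d - r + 2) := by
    rcases Nat.lt_or_ge 2 r with h3 | h3
    · rw [hd]
      exact S12904.result k r h3 C hdim hsm _ hjs hnd
    · obtain rfl : r = 2 := le_antisymm h3 hr
      have h := Variety.K431.PlaneReg.main (i ≫ biProj.fst 2 2 k) hdim hjs
      rw [← hd] at h
      have h2 : d - ((2 : ℕ) : ℤ) + 2 = d := by push_cast; ring
      rw [h2]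
      exact h
  exact Variety.K431.DiagCurve.main hr hdim.le i (i ≫ biProj.fst r r k) rfl hΔ.symm (p := d - r + 1) (by omega)
    (by rw [show d - (r : ℤ) + 1 + 1 = d - r + 2 by ring]; exact hreg)

end Groth.Agent.S16143
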