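import Groth.Statements.S16144
import Groth.Agent.Variety.K431.SliceVan
import Groth.Agent.Variety.K431.PnNonvan
import Groth.Agent.CohqB.PullTwist471
import Groth.Agent.Ega1.SuppTensorMod
import Groth.Agent.Fga.TwistCoh
import Groth.Agent.PerfB.LimModInv
import Groth.Agent.Ega2.Tens

set_option autoImplicit false
universe u
open CategoryTheory CategoryTheory.Limits AlgebraicGeometry
open Variety

namespace Groth.Agent.S16144

/-- Let k be an algebraically closed field of characteristic zero, X a smooth projective variety over k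
(integral, smooth and proper over k, with a closed immersion over k into some projective space
P^N_k), n a natural number, Z = P^n_k ×_k X with projections p₁ : Z → P^n_k and p₂ : Z → X, and
write F(m) = F ⊗ p₁^* O(m). For a coherent O_Z-module F (quasi-coherent of finite type) the
following are equivalent: (i) for every closed point x of X, the set of points of the fibre p₂⁻¹(x)
lying in the support of F has Krull dimension at most zero (as a subspace of Z; the empty set
qualifies); (ii) R^i p₂_*(F(m)) = 0 for every integer m and every i > 0. (The source works over the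
complex numbers.) -/
theorem result (k : Type u) [Field k] [IsAlgClosed k] [CharZero k]
    (X : Scheme.{u}) [X.Over (Spec (CommRingCat.of k))] [IsIntegral X] [IsProper (X ↘ (Spec (CommRingCat.of k)))]
    [Smooth (X ↘ (Spec (CommRingCat.of k)))]
    (hproj : ∃ (N : ℕ) (j : X ⟶ CohB1.ProjSpace N k), IsClosedImmersion j ∧ j ≫ CohB1.ProjSpace.toSpec N k = (X ↘ (Spec (CommRingCat.of k))))
    (n : ℕ) (F : (pullback (CohB1.ProjSpace.toSpec n k) (X ↘ (Spec (CommRingCat.of k)))).Modules) (hF : Coh.IsCoh F)
    [HasInjectiveResolutions (pullback (CohB1.ProjSpace.toSpec n k) (X ↘ (Spec (CommRingCat.of k)))).Modules] :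
    (∀ x : X, IsClosed ({x} : Set X) →
        topologicalKrullDim {z : ↥(pullback (CohB1.ProjSpace.toSpec n k) (X ↘ (Spec (CommRingCat.of k)))) // (pullback.snd (CohB1.ProjSpace.toSpec n k) (X ↘ (Spec (CommRingCat.of k)))).base z = x ∧ z ∈ CohB1.support F} ≤ 0) ↔
      (∀ (m : ℤ) (i : ℕ), 0 < i →
        IsZero ((Coh.Rpush (pullback.snd (CohB1.ProjSpace.toSpec n k) (X ↘ (Spec (CommRingCat.of k)))) i).obj
          (CohB1.tensorMod F ((Scheme.Modules.pullback (pullback.fst (CohB1.ProjSpace.toSpec n k) (X ↘ (Spec (CommRingCat.of k))))).obj (Twist.twistProjSpace n k m))))) := by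
  let q := CohB1.ProjSpace.toSpec n k
  let c := X ↘ (Spec (CommRingCat.of k))
  let p₁ : pullback q c ⟶ CohB1.ProjSpace n k := pullback.fst q c
  let p₂ : pullback q c ⟶ X := pullback.snd q c
  have hp2 : IsProper p₂ := inferInstanceAs (IsProper (pullback.snd q c))
  have hLN : IsLocallyNoetherian X := LocallyOfFiniteType.isLocallyNoetherian c
  have hLNZ : IsLocallyNoetherian (pullback q c) := LocallyOfFiniteType.isLocallyNoetherian p₂
  have hJ : JacobsonSpace X := LocallyOfFiniteType.jacobsonSpace c
  have htw : ∀ m : ℤ, PicF.IsInvertible ((Scheme.Modules.pullback p₁).obj (Twist.twistProjSpace n k m)) :=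
    fun m => PerfB.LimMod.isInvertible_pullback _ (Ega3B.ProjFrame.isInvertible_twistProjSpace n k m)
  have hcoh : ∀ m : ℤ, Coh.IsCoh (CohB1.tensorMod F ((Scheme.Modules.pullback p₁).obj (Twist.twistProjSpace n k m))) :=
    fun m => Fga.TwistCoh.isCoh_tensor hF (htw m)
  have hsupp : ∀ m : ℤ, CohB1.support (CohB1.tensorMod F
      ((Scheme.Modules.pullback p₁).obj (Twist.twistProjSpace n k m))) ⊆ CohB1.support F :=
    fun m => Fga.TwistCoh.support_tensor_subset (htw m)
  have hmono : ∀ (m : ℤ) (x : X), topologicalKrullDim {z : ↥(pullback q c) // p₂.base z = x ∧ z ∈ CohB1.support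
      (CohB1.tensorMod F ((Scheme.Modules.pullback p₁).obj (Twist.twistProjSpace n k m)))} ≤
      topologicalKrullDim {z : ↥(pullback q c) // p₂.base z = x ∧ z ∈ CohB1.support F} := by
    intro m x
    refine Topology.IsInducing.topologicalKrullDim_le (f := fun z : {z : ↥(pullback q c) // p₂.base z = x ∧
      z ∈ CohB1.support (CohB1.tensorMod F ((Scheme.Modules.pullback p₁).obj (Twist.twistProjSpace n k m)))} =>
      (⟨z.1, z.2.1, hsupp m z.2.2⟩ : {z : ↥(pullback q c) // p₂.base z = x ∧ z ∈ CohB1.support F})) ?_
    refine Topology.IsInducing.of_comp (g := Subtype.val) ?_ continuous_subtype_val ?_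
    · exact Continuous.subtype_mk continuous_subtype_val _
    · exact Topology.IsInducing.subtypeVal
  constructor
  · intro h m i hi
    refine Variety.K431.SuppVan.isZero_Rpush p₂ (hcoh m) 0 (fun y hy => ?_) i hi
    exact (hmono m y).trans (h y hy)
  · intro h x hx
    by_contra hcon
    let σ : Spec (CommRingCat.of k) ⟶ X := pointOfClosedPoint c x hx
    have hσ : σ ≫ c = 𝟙 _ := pointOfClosedPoint_comp c x hx
    have hσx : ∀ t, σ t = x := fun t => pointOfClosedPoint_apply c x hx t
    let j : CohB1.ProjSpace n k ⟶ pullback q c := pullback.lift (𝟙 _) (q ≫ σ) (by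
      rw [Category.id_comp, Category.assoc, hσ, Category.comp_id])
    have hj1 : j ≫ p₁ = 𝟙 _ := pullback.lift_fst _ _ _
    have hj2 : j ≫ p₂ = q ≫ σ := pullback.lift_snd _ _ _
    have hsep : IsSeparated p₁ := inferInstanceAs (IsSeparated (pullback.fst q c))
    have hjc : IsClosedImmersion j := by
      have h1 : IsClosedImmersion (j ≫ p₁) := by rw [hj1]; infer_instance
      exact IsClosedImmersion.of_comp j p₁
    have hjx : ∀ z, (j ≫ p₂) z = x := fun z => by
      rw [hj2, Scheme.Hom.comp_apply]
      exact hσx _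
    -- the slice is the whole fibre
    have hpb : IsPullback j q p₂ σ := by
      refine IsPullback.of_right (h₁₂ := p₁) (h₂₂ := c) (v₁₃ := q) ?_ hj2 (IsPullback.of_hasPullback q c)
      rw [hj1, hσ]
      exact IsPullback.of_horiz_isIso ⟨by simp⟩
    have hrange : ∀ z : ↥(pullback q c), p₂.base z = x → z ∈ Set.range j := by
      intro z hz
      have h1 : z ∈ Set.range (pullback.fst p₂ σ) := by
        rw [Scheme.Pullback.range_fst]
        exact ⟨IsLocalRing.closedPoint k, (hσx _).trans hz.symm⟩
      obtain ⟨w, rfl⟩ := h1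
      exact ⟨hpb.isoPullback.inv w, by rw [← Scheme.Hom.comp_apply, hpb.isoPullback_inv_fst]⟩
    let M : (CohB1.ProjSpace n k).Modules := (Scheme.Modules.pullback j).obj F
    have hM : Coh.IsCoh M := ⟨FormalA.PullbackQC.isQCoh_pullback _ F hF.1,
      FormalA.PullbackQC.isFT_pullback _ F hF.2⟩
    have hsM : ∀ w, w ∈ CohB1.support M ↔ j w ∈ CohB1.support F := fun w =>
      Ega1.SuppTensorMod.mem_support_pullback j F hF.2 w
    have hch : ∀ z : {z : ↥(pullback q c) // p₂.base z = x ∧ z ∈ CohB1.support F}, ∃ w : CohB1.support M, j w.1 = z.1 := by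
      rintro ⟨z, hz, hzF⟩
      obtain ⟨w, rfl⟩ := hrange z hz
      exact ⟨⟨w, (hsM w).2 hzF⟩, rfl⟩
    choose ψ hψ using hch
    have hψi : Topology.IsInducing ψ := by
      have h1 : Topology.IsInducing (fun w : CohB1.support M => j w.1) :=
        j.isEmbedding.isInducing.comp Topology.IsInducing.subtypeVal
      rw [← h1.of_comp_iff]
      have h2 : (fun w : CohB1.support M => j w.1) ∘ ψ = Subtype.val := funext hψ
      rw [h2]
      exact Topology.IsInducing.subtypeVal
    have hle := hψi.topologicalKrullDim_le
    have hub : topologicalKrullDim (CohB1.support M) ≤ n :=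
      (topologicalKrullDim_subspace_le _ _).trans (CohqA.ProjDim.topologicalKrullDim_le k n)
    obtain ⟨a, ha, hdim⟩ : ∃ a : ℕ, 1 ≤ a ∧ topologicalKrullDim (CohB1.support M) = a := by
      have hpos : (0 : WithBot ℕ∞) < topologicalKrullDim (CohB1.support M) := (not_le.mp hcon).trans_le hle
      generalize topologicalKrullDim (CohB1.support M) = d at hub hpos
      have hbot : d ≠ ⊥ := by
        rintro rfl
        exact absurd hpos (by simp)
      lift d to ℕ∞ using hbot
      have htop : d ≠ ⊤ := by
        rintro rfl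
        exact absurd hub (by
          rw [not_le]
          exact WithBot.coe_lt_coe.mpr (ENat.natCast_lt_top n))
      lift d to ℕ using htop
      exact ⟨d, by exact_mod_cast hpos, rfl⟩
    obtain ⟨m, hm⟩ := Variety.K431.PnNonvan.main k n hM a ha hdim
    have h2 := Variety.K431.SliceVan.slice_van p₂ j (hcoh (-(m : ℤ))) x hjx a
      (((hmono _ x).trans hle).trans hdim.le) (h (-(m : ℤ)) a ha)
    have e1 : (Scheme.Modules.pullback j).obj ((Scheme.Modules.pullback p₁).obj
        (Twist.twistProjSpace n k (-(m : ℤ)))) ≅ Twist.twistProjSpace n k (-(m : ℤ)) :=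
      (Scheme.Modules.pullbackComp j p₁).app _ ≪≫ (Scheme.Modules.pullbackCongr hj1).app _ ≪≫
        (Scheme.Modules.pullbackId _).app _
    have e2 := CohqB.PullTwist471.pullTensorIsoRight j
      (CohqB.PullTwist471.hasBases_of_isInvertible (htw (-(m : ℤ)))) F ≪≫
      Ega2.Tens.mapTIso (Iso.refl M) e1
    have h3 := Fga.HShift.subsingleton_of_iso e2 a h2
    exact not_subsingleton_iff_nontrivial.mpr hm h3

end Groth.Agent.S16144
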