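import Groth.Statements.S16145
import Groth.Agent.S16142
import Groth.Agent.Variety.K431.ExtRetract
import Groth.Agent.Variety.K431.GGTensor
import Groth.Agent.Sga67.TensorOps
import Groth.Agent.Sga67.LocBasisOps
import Groth.Agent.Dual.H366.ExtQCoh

set_option autoImplicit false
universe u
open CategoryTheory CategoryTheory.Limits AlgebraicGeometry
open Variety

namespace Groth.Agent.S16145

open Groth.Agent Groth.Agent.Variety W4c3multigrregular

/-- `O(0, 0) ≅ O`. -/
theorem nonempty_lineBundle_zero (k : Type u) [Field k] :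
    Nonempty (lineBundle 1 1 k 0 0 ≅ Coh.structureModule (biProj 1 1 k)) := by
  obtain ⟨e⟩ := Ega2.TwistInv.nonempty_unit_iso (CohB1.polyGrading 1 k)
  obtain ⟨e1⟩ := Ega3B.PullTensor.nonempty_pullUnitIso (biProj.fst 1 1 k)
  obtain ⟨e2⟩ := Ega3B.PullTensor.nonempty_pullUnitIso (biProj.snd 1 1 k)
  exact ⟨Ega2.Tens.mapTIso ((Scheme.Modules.pullback (biProj.fst 1 1 k)).mapIso e.symm ≪≫ e1)
    ((Scheme.Modules.pullback (biProj.snd 1 1 k)).mapIso e.symm ≪≫ e2) ≪≫ Ega2.Tens.lunit _⟩

theorem isBiReg_of_iso (k : Type u) [Field k] {F F' : (biProj 1 1 k).Modules} (e : F ≅ F') {p q : ℤ}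
    (h : IsBiReg 1 1 k F p q) : IsBiReg 1 1 k F' p q := fun u₁ u₂ hu =>
  Fga.HShift.subsingleton_of_iso (Ega2.Tens.mapTIso e (Iso.refl _)) _ (h u₁ u₂ hu)

/-- `O` is `(0, 0)`-regular. -/
theorem isBiReg_structureModule (k : Type u) [Field k] :
    IsBiReg 1 1 k (Coh.structureModule (biProj 1 1 k)) 0 0 := by
  intro u₁ u₂ hu
  refine Fga.HShift.subsingleton_of_iso (Ega2.Tens.lunit (lineBundle 1 1 k (0 - u₁) (0 - u₂))).symm _ ?_
  refine K431.BiLine.subsingleton_HH 1 1 k _ _ _ fun i hi => ?_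
  by_cases h1 : (i = 0 ∧ u₁ = 0) ∨ (i = 1 ∧ 2 ≤ u₁)
  · right
    refine S0844.result k 1 _ _ (by omega) (by omega)
  · left
    refine S0844.result k 1 _ _ (by omega) (by omega)

/-- Let k be an algebraically closed field of characteristic zero and G a finite locally free O-module
on P¹ ×_k P¹ which is (p, q)-regular in the bigraded sense (H^{u₁+u₂}(P¹ × P¹, G(p - u₁, q - u₂)) =
0 whenever u₁ + u₂ > 0) and whose twist G(p, q) is globally generated. Then for every natural number
j, every j-th exterior power L of G (an O-module with L(U) ≅ ⋀^j G(U) over the affine opens U,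
compatibly with restriction) is (j·p, j·q)-regular. (As for the first assertion, the published lemma
has no global-generation hypothesis and takes it from the bigraded form of Mumford's regularity
criterion, quoted without proof in the source; it is carried here. The source states this assertion
over the complex numbers.) -/
theorem result (k : Type u) [Field k] [IsAlgClosed k] [CharZero k]
    (G : (W4c3multigrregular.biProj 1 1 k).Modules) (hG : FlatMod.IsFinLocFree G) (p q : ℤ)
    (hreg : W4c3multigrregular.IsBiReg 1 1 k G p q)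
    (hgg : Curv2.IsGloballyGenerated (W4c3multigrregular.twistBi 1 1 k G p q))
    (j : ℕ) (L : (W4c3multigrregular.biProj 1 1 k).Modules) (hL : ExtPow.IsExtPow j G L) :
    W4c3multigrregular.IsBiReg 1 1 k L (j * p) (j * q) := by
  suffices H : IsBiReg 1 1 k L (j * p) (j * q) ∧
      Curv2.IsGloballyGenerated (twistBi 1 1 k L (j * p) (j * q)) from H.1
  induction j generalizing L with
  | zero =>
    obtain ⟨e⟩ := Sga67.TensorOps.nonempty_iso_of_isExtPow (Iso.refl G)
      (Sga67.TensorOps.isExtPow_zero G) hL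
    obtain ⟨e'⟩ := nonempty_lineBundle_zero k
    rw [Nat.cast_zero, zero_mul, zero_mul]
    refine ⟨isBiReg_of_iso k e (isBiReg_structureModule k), ?_⟩
    exact Ega2.GlobGenCrit.isGloballyGenerated_of_iso
      (e'.symm ≪≫ (Ega2.Tens.lunit _).symm ≪≫ Ega2.Tens.mapTIso e (Iso.refl _))
      K431.GGTensor.structureModule
  | succ j ih =>
    obtain ⟨M, hM⟩ := Dual.H366.ExtQCoh.exists_isExtPow j (PerfA.CohSerre.isCoh_of_isFinLocFree hG).1
    obtain ⟨h1, h2⟩ := ih M hM
    have hMf : FlatMod.IsFinLocFree M := Sga67.LocBasis.isFinLocFree_of_isExtPow hG hM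
    obtain ⟨s, μ, hsμ⟩ := K431.ExtRetract.exists_retract k hM hL
    have hreg' := S16142.result k G M hG hMf p q _ _ hreg h1 hgg h2
    have hp : p + j * p = ((j + 1 : ℕ) : ℤ) * p := by push_cast; ring
    have hq : q + j * q = ((j + 1 : ℕ) : ℤ) * q := by push_cast; ring
    rw [hp, hq] at hreg'
    have hT : ∀ a b : ℤ, (DCoh.tensorRightMod (lineBundle 1 1 k a b)).map s ≫
        (DCoh.tensorRightMod (lineBundle 1 1 k a b)).map μ = 𝟙 _ := fun a b => by
      rw [← Functor.map_comp, hsμ, CategoryTheory.Functor.map_id]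
    refine ⟨fun u₁ u₂ hu => ?_, ?_⟩
    · exact K431.ExtRetract.subsingleton_of_retract _ _ (hT _ _) _ (hreg' u₁ u₂ hu)
    · obtain ⟨e₃⟩ := K431.BiLine.nonempty_twistBi_tensor 1 1 k G M p q (j * p) (j * q)
      rw [hp, hq] at e₃
      have h3 := Ega2.GlobGenCrit.isGloballyGenerated_of_iso e₃ (K431.GGTensor.tensor hgg h2)
      have h4 := hT (((j + 1 : ℕ) : ℤ) * p) (((j + 1 : ℕ) : ℤ) * q)
      have h5 : Epi ((DCoh.tensorRightMod (lineBundle 1 1 k (((j + 1 : ℕ) : ℤ) * p)
          (((j + 1 : ℕ) : ℤ) * q))).map μ) := by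
        have : Epi ((DCoh.tensorRightMod (lineBundle 1 1 k (((j + 1 : ℕ) : ℤ) * p)
          (((j + 1 : ℕ) : ℤ) * q))).map s ≫ (DCoh.tensorRightMod (lineBundle 1 1 k
            (((j + 1 : ℕ) : ℤ) * p) (((j + 1 : ℕ) : ℤ) * q))).map μ) := by rw [h4]; infer_instance
        exact epi_of_epi ((DCoh.tensorRightMod (lineBundle 1 1 k (((j + 1 : ℕ) : ℤ) * p)
          (((j + 1 : ℕ) : ℤ) * q))).map s) _
      exact @K431.GGTensor.of_epi _ _ _ _ h5 h3

end Groth.Agent.S16145
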