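import Groth.Statements.S16146
import Groth.Agent.Curves.K709.HypSpan2

set_option autoImplicit false
universe u
open CategoryTheory CategoryTheory.Limits AlgebraicGeometry
open Curves

namespace Groth.Agent.S16146

/-- Let k be an algebraically closed field of characteristic zero, a, b ≥ 2, and C a smooth curve over k
(integral, proper over k, of dimension one, all local rings regular) with a closed immersion i : C →
P^a ×_k P^b over k whose two projections j₁ : C → P^a, j₂ : C → P^b are birational onto their images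
(each restricts to a closed immersion over some open of the target meeting the image) and have
nondegenerate images (no nonzero linear form pulls back to zero on C). For linear forms ℓ on P^a and
m on P^b write C ∩ (V(ℓ) × P^b) and C ∩ (P^a × V(m)) for the sets of points of C mapped by j₁ into
the hyperplane V(ℓ), resp. by j₂ into V(m). Assume property (*): for every nonzero ℓ there is a
nonzero m with C ∩ (V(ℓ) × P^b) ⊆ C ∩ (P^a × V(m)), and for every nonzero m there is a nonzero ℓ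
with C ∩ (P^a × V(m)) ⊆ C ∩ (V(ℓ) × P^b) (the images of the hyperplane sections under the other
projection never span). Then for a general linear form ℓ on P^a (all ℓ outside the zero set of a
nonzero polynomial function on the space of linear forms): (i) the points j₁(C ∩ (V(ℓ) × P^b)) span
the hyperplane V(ℓ), i.e. every linear form ℓ' on P^a vanishing at all of them is a scalar multiple
of ℓ; (ii)–(iii) there is a nonzero linear form m on P^b with C ∩ (V(ℓ) × P^b) = C ∩ (P^a × V(m)),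
and every linear form m' on P^b with C ∩ (V(ℓ) × P^b) ⊆ C ∩ (P^a × V(m')) is a scalar multiple of m
(the points j₂(C ∩ (V(ℓ) × P^b)) span exactly the hyperplane V(m)). (The source works over the
complex numbers.) -/
theorem result (k : Type u) [Field k] [IsAlgClosed k] [CharZero k]
    (a b : ℕ) (ha : 2 ≤ a) (hb : 2 ≤ b)
    (C : Scheme.{u}) [C.Over (Spec (CommRingCat.of k))] [IsIntegral C] [IsProper (C ↘ (Spec (CommRingCat.of k)))]
    (hdim : topologicalKrullDim C = 1) (hsm : ∀ x : C, IsRegularLocalRing (C.presheaf.stalk x))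
    (i : C ⟶ W4c3multigrregular.biProj a b k) [IsClosedImmersion i]
    (hi : i ≫ W4c3multigrregular.biProj.toSpec a b k = (C ↘ (Spec (CommRingCat.of k))))
    (hbir₁ : ∃ U : (CohB1.ProjSpace a k).Opens, (∃ x : C, (i ≫ W4c3multigrregular.biProj.fst a b k).base x ∈ U) ∧ IsClosedImmersion ((i ≫ W4c3multigrregular.biProj.fst a b k) ∣_ U))
    (hbir₂ : ∃ U : (CohB1.ProjSpace b k).Opens, (∃ x : C, (i ≫ W4c3multigrregular.biProj.snd a b k).base x ∈ U) ∧ IsClosedImmersion ((i ≫ W4c3multigrregular.biProj.snd a b k) ∣_ U))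
    (hnd₁ : ∀ s : LinSer.Sect (CohB1.ProjSpace a k) (Twist.twistProjSpace a k 1), s ≠ 0 →
      OmegaSh.pullSect (i ≫ W4c3multigrregular.biProj.fst a b k) (Twist.twistProjSpace a k 1) ⊤ s ≠ 0)
    (hnd₂ : ∀ s : LinSer.Sect (CohB1.ProjSpace b k) (Twist.twistProjSpace b k 1), s ≠ 0 →
      OmegaSh.pullSect (i ≫ W4c3multigrregular.biProj.snd a b k) (Twist.twistProjSpace b k 1) ⊤ s ≠ 0)
    (hstar₁ : ∀ ℓ : LefPen.Form a k 1, ℓ ≠ 0 → ∃ m : LefPen.Form b k 1, m ≠ 0 ∧
      ∀ x : C, (i ≫ W4c3multigrregular.biProj.fst a b k).base x ∈ (LefPen.hypIdeal ℓ).support → (i ≫ W4c3multigrregular.biProj.snd a b k).base x ∈ (LefPen.hypIdeal m).support)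
    (hstar₂ : ∀ m : LefPen.Form b k 1, m ≠ 0 → ∃ ℓ : LefPen.Form a k 1, ℓ ≠ 0 ∧
      ∀ x : C, (i ≫ W4c3multigrregular.biProj.snd a b k).base x ∈ (LefPen.hypIdeal m).support → (i ≫ W4c3multigrregular.biProj.fst a b k).base x ∈ (LefPen.hypIdeal ℓ).support) :
    LefPen.IsGeneric k {ℓ : LefPen.Form a k 1 |
      (∀ ℓ' : LefPen.Form a k 1, (∀ x : C, (i ≫ W4c3multigrregular.biProj.fst a b k).base x ∈ (LefPen.hypIdeal ℓ).support → (i ≫ W4c3multigrregular.biProj.fst a b k).base x ∈ (LefPen.hypIdeal ℓ').support) → ∃ c : k, ℓ' = c • ℓ) ∧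
      ∃ m : LefPen.Form b k 1, m ≠ 0 ∧ (∀ x : C, ((i ≫ W4c3multigrregular.biProj.fst a b k).base x ∈ (LefPen.hypIdeal ℓ).support ↔ (i ≫ W4c3multigrregular.biProj.snd a b k).base x ∈ (LefPen.hypIdeal m).support)) ∧
        ∀ m' : LefPen.Form b k 1, (∀ x : C, (i ≫ W4c3multigrregular.biProj.fst a b k).base x ∈ (LefPen.hypIdeal ℓ).support → (i ≫ W4c3multigrregular.biProj.snd a b k).base x ∈ (LefPen.hypIdeal m').support) → ∃ c : k, m' = c • m} := by
  set φ₁ : C ⟶ CohB1.ProjSpace a k := i ≫ W4c3multigrregular.biProj.fst a b k with hφ₁d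
  set φ₂ : C ⟶ CohB1.ProjSpace b k := i ≫ W4c3multigrregular.biProj.snd a b k with hφ₂d
  have hφ₁ : φ₁ ≫ CohB1.ProjSpace.toSpec a k = C ↘ Spec (CommRingCat.of k) := by
    rw [hφ₁d, Category.assoc]; exact hi
  have hφ₂ : φ₂ ≫ CohB1.ProjSpace.toSpec b k = C ↘ Spec (CommRingCat.of k) := by
    rw [hφ₂d, Category.assoc, ← pullback.condition]; exact hi
  have hn₁ : ∀ ℓ : LefPen.Form a k 1, ℓ ≠ 0 → K330.FormSec.sec' φ₁ ℓ ≠ 0 := fun ℓ hℓ =>
    K709.HypSpan.sec'_ne_zero φ₁ hnd₁ ℓ hℓ
  exact K709.HypSpan.main (le_of_eq hdim) hsm φ₁ hφ₁ hn₁ φ₂ hφ₂ hstar₁ hstar₂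

end Groth.Agent.S16146
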