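import Groth.Statements.S16147
import Groth.Agent.Curves.K709.GoodProj

set_option autoImplicit false
universe u
open CategoryTheory CategoryTheory.Limits AlgebraicGeometry
open Curves

namespace Groth.Agent.S16147

/-- Let k be an algebraically closed field of characteristic zero, a, b ≥ 2, and C a smooth curve over k
(integral, proper over k, of dimension one, all local rings regular) with a closed immersion i : C →
P^a ×_k P^b over k whose projections j₁ : C → P^a and j₂ : C → P^b are birational onto their images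
and have nondegenerate images. Let ℓ₀, ℓ₁ be linearly independent linear forms on P^a whose common
zero set Λ_a (a codimension-two linear subspace) does not meet j₁(C), and m₀, m₁ likewise on P^b
with Λ_b not meeting j₂(C). Let f : C → P¹ ×_k P¹ be the morphism over k induced on C by the two
linear projections [ℓ₀ : ℓ₁] and [m₀ : m₁], pinned down pointwise: a point x of C is sent by the
first component of f into the zero set of c₀T₀ + c₁T₁ exactly when j₁(x) lies in the zero set of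
c₀ℓ₀ + c₁ℓ₁, for all scalars c₀, c₁, and similarly for the second component. Assume the pair (Λ_a,
Λ_b) defines a good projection: f is birational onto its image (a closed immersion over some open of
P¹ × P¹ meeting f(C)), every fibre of f has at most two points, and f is formally unramified
(injective differential at every point). Then there is an epimorphism of O-modules on P¹ × P¹, ε :
O(-1, 0)^{⊕(a-1)} ⊕ O(0, -1)^{⊕(b-1)} ⊕ O → f_* O_C, whose kernel E is finite locally free of rank a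
+ b - 1. (The source works over the complex numbers.) -/
theorem result (k : Type u) [Field k] [IsAlgClosed k] [CharZero k]
    (a b : ℕ) (ha : 2 ≤ a) (hb : 2 ≤ b)
    (C : Scheme.{u}) [C.Over (Spec (CommRingCat.of k))] [IsIntegral C] [IsProper (C ↘ (Spec (CommRingCat.of k)))]
    (hdim : topologicalKrullDim C = 1) (hsm : ∀ x : C, IsRegularLocalRing (C.presheaf.stalk x))
    (i : C ⟶ W4c3multigrregular.biProj a b k) [IsClosedImmersion i]
    (hi : i ≫ W4c3multigrregular.biProj.toSpec a b k = (C ↘ (Spec (CommRingCat.of k))))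
    (hbir₁ : ∃ U : (CohB1.ProjSpace a k).Opens, (∃ x : C, (i ≫ W4c3multigrregular.biProj.fst a b k).base x ∈ U) ∧ IsClosedImmersion ((i ≫ W4c3multigrregular.biProj.fst a b k) ∣_ U))
    (hbir₂ : ∃ U : (CohB1.ProjSpace b k).Opens, (∃ x : C, (i ≫ W4c3multigrregular.biProj.snd a b k).base x ∈ U) ∧ IsClosedImmersion ((i ≫ W4c3multigrregular.biProj.snd a b k) ∣_ U))
    (hnd₁ : ∀ s : LinSer.Sect (CohB1.ProjSpace a k) (Twist.twistProjSpace a k 1), s ≠ 0 →
      OmegaSh.pullSect (i ≫ W4c3multigrregular.biProj.fst a b k) (Twist.twistProjSpace a k 1) ⊤ s ≠ 0)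
    (hnd₂ : ∀ s : LinSer.Sect (CohB1.ProjSpace b k) (Twist.twistProjSpace b k 1), s ≠ 0 →
      OmegaSh.pullSect (i ≫ W4c3multigrregular.biProj.snd a b k) (Twist.twistProjSpace b k 1) ⊤ s ≠ 0)
    (ℓ₀ ℓ₁ : LefPen.Form a k 1) (hℓ : LinearIndependent k ![ℓ₀, ℓ₁])
    (hΛa : ∀ x : C, ¬ ((i ≫ W4c3multigrregular.biProj.fst a b k).base x ∈ (LefPen.hypIdeal ℓ₀).support ∧ (i ≫ W4c3multigrregular.biProj.fst a b k).base x ∈ (LefPen.hypIdeal ℓ₁).support))
    (m₀ m₁ : LefPen.Form b k 1) (hm : LinearIndependent k ![m₀, m₁])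
    (hΛb : ∀ x : C, ¬ ((i ≫ W4c3multigrregular.biProj.snd a b k).base x ∈ (LefPen.hypIdeal m₀).support ∧ (i ≫ W4c3multigrregular.biProj.snd a b k).base x ∈ (LefPen.hypIdeal m₁).support))
    (f : C ⟶ W4c3multigrregular.biProj 1 1 k) (hf : f ≫ W4c3multigrregular.biProj.toSpec 1 1 k = (C ↘ (Spec (CommRingCat.of k))))
    (hf₁ : ∀ (x : C) (c₀ c₁ : k),
      (f ≫ W4c3multigrregular.biProj.fst 1 1 k).base x ∈ (LefPen.hypIdeal (c₀ • (⟨MvPolynomial.X 0, LefPen.X_mem 1 k 0⟩ : LefPen.Form 1 k 1) + c₁ • (⟨MvPolynomial.X 1, LefPen.X_mem 1 k 1⟩ : LefPen.Form 1 k 1))).support ↔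
        (i ≫ W4c3multigrregular.biProj.fst a b k).base x ∈ (LefPen.hypIdeal (c₀ • ℓ₀ + c₁ • ℓ₁)).support)
    (hf₂ : ∀ (x : C) (c₀ c₁ : k),
      (f ≫ W4c3multigrregular.biProj.snd 1 1 k).base x ∈ (LefPen.hypIdeal (c₀ • (⟨MvPolynomial.X 0, LefPen.X_mem 1 k 0⟩ : LefPen.Form 1 k 1) + c₁ • (⟨MvPolynomial.X 1, LefPen.X_mem 1 k 1⟩ : LefPen.Form 1 k 1))).support ↔
        (i ≫ W4c3multigrregular.biProj.snd a b k).base x ∈ (LefPen.hypIdeal (c₀ • m₀ + c₁ • m₁)).support)
    (hfbir : ∃ U : (W4c3multigrregular.biProj 1 1 k).Opens, (∃ x : C, f.base x ∈ U) ∧ IsClosedImmersion (f ∣_ U))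
    (hfib : ∀ y : ↥(W4c3multigrregular.biProj 1 1 k), (f.base ⁻¹' {y}).Finite ∧ (f.base ⁻¹' {y}).ncard ≤ 2)
    [FormallyUnramified f] :
    ∃ ε : ((∐ fun _ : Fin (a - 1) => W4c3multigrregular.lineBundle 1 1 k (-1) 0) ⨿
            ((∐ fun _ : Fin (b - 1) => W4c3multigrregular.lineBundle 1 1 k 0 (-1)) ⨿
              Coh.structureModule (W4c3multigrregular.biProj 1 1 k))) ⟶ (Coh.push f).obj (Coh.structureModule C),
      Epi ε ∧ FlatMod.IsFinLocFreeOfRank (a + b - 1) (kernel ε) := by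
  exact K709.GoodProj.main ha hb hdim i hi ![ℓ₀, ℓ₁] hℓ ![m₀, m₁] hm f hf hf₁ hf₂ hfib

end Groth.Agent.S16147
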