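import Groth.Statements.S16151
import Groth.Agent.SDiv.K476.RefPow3

set_option autoImplicit false
universe u
open CategoryTheory CategoryTheory.Limits AlgebraicGeometry TopologicalSpace
open SDiv

namespace Groth.Agent.S16151

open K476.RefPow1 K476.RefPow3 K475.GenStalk RefPow K476.TensStalk

/-- Let X be an integral locally Noetherian normal scheme, F a rank one coherent reflexive O_X-module
and s : O_X → F a global section of F; let U be the open subscheme of X whose points are those x at
which the stalk map (O_X)_x → F_x of s is bijective, and let F^[n] denote the reflexive powers of F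
(F^[0] = O_X, F^[1] = F, F^[n+1] the reflexive hull of F^[n] ⊗ F) with s^n ∈ Γ(X, F^[n]) the n-th
power of s. Then the following are equivalent: (1) the inclusion morphism U → X is affine; (2) for
every point x of X not in U there is an integer n > 0 such that the germ of s^n at x lies in m_x ·
(F^[n])_x, where m_x is the maximal ideal of the local ring at x. -/
theorem result (X : Scheme.{u}) [IsIntegral X] [IsLocallyNoetherian X]
    (hX : Pi1.IsNormalScheme X) (F : X.Modules) (hF : RefHull.IsRef1 F) (s : Coh.structureModule X ⟶ F)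
    (U : X.Opens) (hU : (U : Set X) = RefPow.isoLocus s) :
    IsAffineHom U.ι ↔
      ∀ x : X, x ∉ U → ∃ n : ℕ, 0 < n ∧
        RefPow.sPowGerm s n x ∈ IsLocalRing.maximalIdeal (X.presheaf.stalk x) •
          (⊤ : Submodule (X.presheaf.stalk x) ((RefPow.refPow F n).presheaf.stalk x)) := by
  have hU' : ∀ x : X, x ∈ isoLocus s ↔ x ∈ U := fun x => by rw [← hU]; rfl
  have himg : ∀ V : X.Opens, U.ι ''ᵁ (U.ι ⁻¹ᵁ V) = U ⊓ V := fun V => by
    rw [Scheme.Hom.image_preimage_eq_opensRange_inf, Scheme.Opens.opensRange_ι]
  constructor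
  · intro hA x hx
    by_cases hs : s = 0
    · refine ⟨1, one_pos, ?_⟩
      have h0 : sPowGerm s 1 x = 0 := by
        rw [sPowGerm_eq, secGerm_sPow_eq]
        change secGerm s x = 0
        rw [hs]
        have h2 : RefHull.stalkMapₗ (0 : Coh.structureModule X ⟶ F) x = 0 := by
          have h3 := K476.HomSh1.stalkMapₗ_add (0 : Coh.structureModule X ⟶ F) 0 x
          rw [add_zero] at h3
          exact left_eq_add.mp h3
        exact LinearMap.congr_fun h2 _
      rw [h0]
      exact Submodule.zero_mem _
    · obtain ⟨V, hV, hxV, -⟩ := exists_isAffineOpen_mem_and_subset (x := x) (U := ⊤) trivial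
      have hWa : IsAffineOpen (U ⊓ V) := by
        rw [← himg V]
        exact (hA.isAffine_preimage V hV).image_of_isOpenImmersion _
      have hηs := eta_mem_isoLocus hF hs
      exact exists_sPowGerm_mem hX hF s hV inf_le_right hWa
        ⟨(hU' _).mp hηs, mem_of_nonempty hxV⟩ (fun y hyV hy => ⟨(hU' _).mp hy, hyV⟩) hxV
        (fun h => hx h.1)
  · intro H
    refine ⟨fun V hV => ?_⟩
    have hWa : IsAffineOpen (U ⊓ V) := by
      refine isAffineOpen_of_sPowGerm_mem hF s hV inf_le_right (fun y hy => (hU' y).mpr hy.1) ?_
      intro x hxV hx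
      obtain ⟨n, -, hn⟩ := H x (fun h => hx ⟨h, hxV⟩)
      exact ⟨n, hn⟩
    rw [← U.ι.isAffineOpen_iff_of_isOpenImmersion, himg V]
    exact hWa

end Groth.Agent.S16151
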