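import Groth.Statements.S16152
import Mathlib.Tactic.FieldSimp
import Mathlib.Tactic.Ring
import Mathlib.Tactic.Abel

set_option autoImplicit false
universe u
open WGauss

namespace Groth.Agent.S16152

open MvPolynomial in
/-- Over a field k of characteristic zero, for e, a, b positive integers with a < b, the weighted
Gaussian map of the line bundle O(e) on projective n-space is surjective. Concretely, identifying
global sections of O(m) with homogeneous polynomials of degree m in X_0, ..., X_n and global
sections of the twisted cotangent sheaf Omega^1(t) with the (n+1)-tuples of homogeneous polynomials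
of degree t - 1 killed by the Euler map (f_i) to sum_i X_i f_i, every such tuple with t = (a+b)e is
a k-linear combination of the tuples (b tau (d sigma / d X_i) - a sigma (d tau / d X_i))_i with
sigma homogeneous of degree ae and tau homogeneous of degree be. (The source works over the complex
numbers; the statement is one of linear algebra and is given here over any field of characteristic
zero.) -/
theorem result
    (k : Type u) [Field k] [CharZero k] (n e a b : ℕ) (he : 0 < e) (ha : 0 < a) (hab : a < b)
    (f : Fin (n + 1) → MvPolynomial (Fin (n + 1)) k)
    (hf : ∀ i, (f i).IsHomogeneous ((a + b) * e - 1))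
    (hEuler : ∑ i, X i * f i = 0) :
    f ∈ Submodule.span k
      {g : Fin (n + 1) → MvPolynomial (Fin (n + 1)) k |
        ∃ σ τ : MvPolynomial (Fin (n + 1)) k, σ.IsHomogeneous (a * e) ∧ τ.IsHomogeneous (b * e) ∧
          g = fun i => (b : k) • (τ * pderiv i σ) - (a : k) • (σ * pderiv i τ)} := by
  classical
  set S := Submodule.span k
      {g : Fin (n + 1) → MvPolynomial (Fin (n + 1)) k |
        ∃ σ τ : MvPolynomial (Fin (n + 1)) k, σ.IsHomogeneous (a * e) ∧ τ.IsHomogeneous (b * e) ∧
          g = fun i => (b : k) • (τ * pderiv i σ) - (a : k) • (σ * pderiv i τ)} with hS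
  have hae : 0 < a * e := Nat.mul_pos ha he
  have hbe : 0 < b * e := Nat.mul_pos (ha.trans hab) he
  have hab0 : ((a : k) + b) ≠ 0 := by
    have : ((a + b : ℕ) : k) ≠ 0 := Nat.cast_ne_zero.2 (by omega)
    push_cast at this
    exact this
  -- the Gaussian map on monomials
  have hmono : ∀ α β : Fin (n + 1) →₀ ℕ, α.degree = a * e → β.degree = b * e →
      (fun l => monomial (α + β - Finsupp.single l 1) ((b : k) * α l - (a : k) * β l)) ∈ S := by
    intro α β hα hβ
    refine Submodule.subset_span ⟨monomial α 1, monomial β 1, isHomogeneous_monomial 1 hα,
      isHomogeneous_monomial 1 hβ, funext fun l => ?_⟩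
    rw [pderiv_monomial, pderiv_monomial, monomial_mul, monomial_mul, smul_monomial, smul_monomial,
      map_sub]
    simp only [one_mul, smul_eq_mul]
    congr 1
    · rcases Nat.eq_zero_or_pos (α l) with h | h
      · simp [h]
      · have e : β + (α - Finsupp.single l 1) = α + β - Finsupp.single l 1 := by
          ext m
          simp only [Finsupp.add_apply, Finsupp.tsub_apply, Finsupp.single_apply]
          split_ifs with h1
          · subst h1; omega
          · omega
        rw [e]
    · rcases Nat.eq_zero_or_pos (β l) with h | h
      · simp [h]
      · have e : α + (β - Finsupp.single l 1) = α + β - Finsupp.single l 1 := by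
          ext m
          simp only [Finsupp.add_apply, Finsupp.tsub_apply, Finsupp.single_apply]
          split_ifs with h1
          · subst h1; omega
          · omega
        rw [e]
  -- a multi-index of given degree below a given one
  have hsub : ∀ (γ : Fin (n + 1) →₀ ℕ) (m : ℕ), m ≤ γ.degree → ∃ α, α ≤ γ ∧ α.degree = m := by
    intro γ m
    induction m with
    | zero => exact fun _ => ⟨0, bot_le, by simp⟩
    | succ m ih =>
      intro hm
      obtain ⟨α, hα, hαm⟩ := ih (by omega)
      have hl : ∃ l, α l < γ l := by
        by_contra hcon
        push Not at hcon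
        have : γ ≤ α := fun l => hcon l
        have : α = γ := le_antisymm hα this
        subst this
        omega
      obtain ⟨l, hl⟩ := hl
      refine ⟨α + Finsupp.single l 1, ?_, ?_⟩
      · intro m
        simp only [Finsupp.add_apply, Finsupp.single_apply]
        split_ifs with h1
        · subst h1; omega
        · simpa using hα m
      · rw [map_add, Finsupp.degree_single, hαm]
  -- the Koszul elements
  have hdiff : ∀ (γ : Fin (n + 1) →₀ ℕ) (i j : Fin (n + 1)), γ.degree + 2 = (a + b) * e → i ≠ j →
      (Pi.single i (monomial (γ + Finsupp.single j 1) (1 : k)) : Fin (n + 1) → MvPolynomial _ k) -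
        Pi.single j (monomial (γ + Finsupp.single i 1) (1 : k)) ∈ S := by
    intro γ i j hγ hij
    obtain ⟨α, hα, hαd⟩ := hsub γ (a * e - 1) (by
      have : (a + b) * e = a * e + b * e := by ring
      omega)
    obtain ⟨δ, rfl⟩ : ∃ δ, γ = α + δ := ⟨γ - α, (add_tsub_cancel_of_le hα).symm⟩
    have hδd : δ.degree = b * e - 1 := by
      rw [map_add] at hγ
      have : (a + b) * e = a * e + b * e := by ring
      omega
    have h1 := hmono (α + Finsupp.single i 1) (δ + Finsupp.single j 1)
      (by rw [map_add, Finsupp.degree_single]; omega) (by rw [map_add, Finsupp.degree_single]; omega)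
    have h2 := hmono (α + Finsupp.single j 1) (δ + Finsupp.single i 1)
      (by rw [map_add, Finsupp.degree_single]; omega) (by rw [map_add, Finsupp.degree_single]; omega)
    have h3 := S.smul_mem ((a : k) + b)⁻¹ (S.sub_mem h1 h2)
    convert h3 using 1
    funext l
    have e1 : α + Finsupp.single i 1 + (δ + Finsupp.single j 1) =
      α + δ + Finsupp.single i 1 + Finsupp.single j 1 := by abel
    have e2 : α + Finsupp.single j 1 + (δ + Finsupp.single i 1) =
      α + δ + Finsupp.single i 1 + Finsupp.single j 1 := by abel
    simp only [Pi.smul_apply, Pi.sub_apply, e1, e2]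
    rw [← map_sub, smul_monomial, smul_eq_mul]
    simp only [Finsupp.add_apply, Finsupp.single_apply]
    by_cases hil : i = l
    · subst hil
      have hji : ¬ j = i := fun h => hij h.symm
      have e3 : α + δ + Finsupp.single i 1 + Finsupp.single j 1 - Finsupp.single i 1 =
        α + δ + Finsupp.single j 1 := by
        ext m
        simp only [Finsupp.add_apply, Finsupp.tsub_apply, Finsupp.single_apply]
        omega
      rw [Pi.single_eq_same, Pi.single_eq_of_ne hij, sub_zero, e3]
      congr 1
      simp only [hji, if_true, if_false]
      push_cast
      field_simp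
      ring
    · by_cases hjl : j = l
      · subst hjl
        have e3 : α + δ + Finsupp.single i 1 + Finsupp.single j 1 - Finsupp.single j 1 =
          α + δ + Finsupp.single i 1 := by
          ext m
          simp only [Finsupp.add_apply, Finsupp.tsub_apply, Finsupp.single_apply]
          omega
        rw [Pi.single_eq_same, Pi.single_eq_of_ne (Ne.symm hij), zero_sub, e3, ← map_neg]
        congr 1
        simp only [hil, if_true, if_false]
        push_cast
        field_simp
        ring
      · rw [Pi.single_eq_of_ne (Ne.symm hil), Pi.single_eq_of_ne (Ne.symm hjl)]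
        simp [hil, hjl]
  -- the multigraded components of `f`
  have hcomp : ∀ γ : Fin (n + 1) →₀ ℕ, γ.degree = (a + b) * e →
      (fun l => if l ∈ γ.support then
        monomial (γ - Finsupp.single l 1) (coeff (γ - Finsupp.single l 1) (f l)) else 0) ∈ S := by
    intro γ hγ
    have hsum : ∑ l ∈ γ.support, coeff (γ - Finsupp.single l 1) (f l) = 0 := by
      have h1 := congrArg (coeff γ) hEuler
      rw [coeff_sum, coeff_zero] at h1
      simp only [coeff_X_mul'] at h1
      rw [← Finset.sum_filter] at h1
      rw [← h1]
      congr 1
      ext l
      simp
    have hne : γ.support.Nonempty := by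
      rw [Finsupp.support_nonempty_iff]
      rintro rfl
      have : 0 < (a + b) * e := Nat.mul_pos (by omega) he
      simp at hγ
      omega
    obtain ⟨i₀, hi₀⟩ := hne
    have key : (fun l => if l ∈ γ.support then
        monomial (γ - Finsupp.single l 1) (coeff (γ - Finsupp.single l 1) (f l)) else 0) =
        ∑ l ∈ γ.support, (coeff (γ - Finsupp.single l 1) (f l)) •
          ((Pi.single l (monomial (γ - Finsupp.single l 1) (1 : k)) :
            Fin (n + 1) → MvPolynomial _ k) -
            Pi.single i₀ (monomial (γ - Finsupp.single i₀ 1) (1 : k))) := by
      simp only [smul_sub]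
      rw [Finset.sum_sub_distrib, ← Finset.sum_smul, hsum, zero_smul, sub_zero]
      funext l
      rw [Finset.sum_apply]
      simp only [Pi.smul_apply]
      by_cases hl : l ∈ γ.support
      · rw [if_pos hl, Finset.sum_eq_single l]
        · rw [Pi.single_eq_same, smul_monomial, smul_eq_mul, mul_one]
        · intro m _ hm
          rw [Pi.single_eq_of_ne (Ne.symm hm), smul_zero]
        · exact fun h => absurd hl h
      · rw [if_neg hl]
        symm
        refine Finset.sum_eq_zero fun m hm => ?_
        rw [Pi.single_eq_of_ne, smul_zero]
        rintro rfl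
        exact hl hm
    rw [key]
    refine Submodule.sum_mem _ fun l hl => Submodule.smul_mem _ _ ?_
    by_cases hli : l = i₀
    · subst hli
      rw [sub_self]
      exact S.zero_mem
    · have hl1 : 1 ≤ γ l := Nat.one_le_iff_ne_zero.2 (Finsupp.mem_support_iff.1 hl)
      have hi1 : 1 ≤ γ i₀ := Nat.one_le_iff_ne_zero.2 (Finsupp.mem_support_iff.1 hi₀)
      set γ' := γ - Finsupp.single l 1 - Finsupp.single i₀ 1 with hγ'
      have e1 : γ - Finsupp.single l 1 = γ' + Finsupp.single i₀ 1 := by
        ext m
        simp only [hγ', Finsupp.add_apply, Finsupp.tsub_apply, Finsupp.single_apply]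
        by_cases h1 : l = m
        · subst h1
          have : ¬ i₀ = l := fun h => hli h.symm
          simp [this]
        · by_cases h2 : i₀ = m
          · subst h2
            simp [h1]
            omega
          · simp [h1, h2]
      have e2 : γ - Finsupp.single i₀ 1 = γ' + Finsupp.single l 1 := by
        ext m
        simp only [hγ', Finsupp.add_apply, Finsupp.tsub_apply, Finsupp.single_apply]
        by_cases h1 : l = m
        · subst h1
          have : ¬ i₀ = l := fun h => hli h.symm
          simp [this]
          omega
        · by_cases h2 : i₀ = m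
          · subst h2
            simp [h1]
          · simp [h1, h2]
      have hd : γ'.degree + 2 = (a + b) * e := by
        have e3 : γ = γ' + Finsupp.single i₀ 1 + Finsupp.single l 1 := by
          rw [← e1]
          ext m
          simp only [Finsupp.add_apply, Finsupp.tsub_apply, Finsupp.single_apply]
          split_ifs with h1
          · subst h1; omega
          · omega
        have := congrArg Finsupp.degree e3
        rw [map_add, map_add, Finsupp.degree_single, Finsupp.degree_single, hγ] at this
        omega
      rw [e1, e2]
      exact hdiff γ' l i₀ hd hli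
  -- `f` is the sum of its components
  let Γ : Finset (Fin (n + 1) →₀ ℕ) :=
    Finset.univ.biUnion fun i => (f i).support.image (· + Finsupp.single i 1)
  have hf2 : f = ∑ γ ∈ Γ, (fun l => if l ∈ γ.support then
        monomial (γ - Finsupp.single l 1) (coeff (γ - Finsupp.single l 1) (f l)) else 0) := by
    funext l
    rw [Finset.sum_apply]
    ext m
    rw [coeff_sum]
    have e4 : m + Finsupp.single l 1 - Finsupp.single l 1 = m := by
      ext x; simp
    rw [Finset.sum_eq_single (m + Finsupp.single l 1)]
    · rw [if_pos (by simp), coeff_monomial, e4, if_pos rfl]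
    · intro γ _ hγ
      split_ifs with h1
      · rw [coeff_monomial, if_neg]
        intro h2
        apply hγ
        have : 1 ≤ γ l := Nat.one_le_iff_ne_zero.2 (Finsupp.mem_support_iff.1 h1)
        rw [← h2]
        ext x
        simp only [Finsupp.add_apply, Finsupp.tsub_apply, Finsupp.single_apply]
        split_ifs with h3
        · subst h3; omega
        · omega
      · simp
    · intro h1
      rw [if_pos (by simp), coeff_monomial, e4, if_pos rfl]
      by_contra h2
      apply h1
      refine Finset.mem_biUnion.2 ⟨l, Finset.mem_univ _, Finset.mem_image.2 ⟨m, ?_, rfl⟩⟩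
      rw [mem_support_iff]
      exact h2
  rw [hf2]
  refine Submodule.sum_mem _ fun γ hγ => hcomp γ ?_
  obtain ⟨i, _, hi⟩ := Finset.mem_biUnion.1 hγ
  obtain ⟨m, hm, rfl⟩ := Finset.mem_image.1 hi
  rw [mem_support_iff] at hm
  have h5 : m.degree = (a + b) * e - 1 := by
    by_contra h6
    exact hm ((hf i).coeff_eq_zero h6)
  have h6 : 0 < (a + b) * e := Nat.mul_pos (by omega) he
  simp only [map_add, Finsupp.degree_single]
  omega

end Groth.Agent.S16152
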