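import Groth.Statements.S16153
import Groth.Agent.SpinRat.K881.Bidegree
import Mathlib.LinearAlgebra.LinearIndependent.Defs
import Mathlib.Algebra.BigOperators.Fin

set_option autoImplicit false
universe u
open SpinRat

namespace Groth.Agent.S16153

open MvPolynomial in
/-- In the bigraded polynomial ring k[x0, x1, y0, y1] of the quadric surface (variables X 0, X 1, X 2, X
3 in this order), over a field k of characteristic zero, let iota exchange x_i with y_i, let l = x0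
y1 - x1 y0 be the diagonal, h1 = x0 (y1 - y0) + y0 (x1 - x0), h2 = x1 (y0 - y1) + y1 (x0 - x1), h3 =
x0 y1 + x1 y0, h = h1 + h2 + h3, h13 = h1 - h3, h23 = h2 - h3, and let c = x0 x1 (x0 - x1) y0 y1 (y0
- y1) be the product of the six rulings through the three diagonal points (1:0)x(1:0), (0:1)x(0:1),
(1:1)x(1:1). Let I be the space of forms of bidegree (3,3) whose restriction to the diagonal is
divisible by (x0 x1 (x0 - x1))^2, that is, the bidegree-(3,3) forms through the length-six subscheme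
of the diagonal doubled at those three points. Then the iota-invariant forms in I are exactly the
span of c, l^2 h, l^2 h13, l^2 h23; the iota-anti-invariant forms in I are exactly the span of l
h^2, l h h13, l h h23, l h13^2, l h23^2, l h13 h23; and these ten forms are linearly independent.
(The source works over the complex numbers and writes the two eigenspaces as direct sums of the
displayed pieces; the six-line form c is read as the product of the two cubic factors.) -/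
theorem result
    (k : Type u) [Field k] [CharZero k]
    (l h1 h2 h3 h h13 h23 c : MvPolynomial (Fin 4) k)
    (hl : l = X 0 * X 3 - X 1 * X 2)
    (hh1 : h1 = X 0 * (X 3 - X 2) + X 2 * (X 1 - X 0))
    (hh2 : h2 = X 1 * (X 2 - X 3) + X 3 * (X 0 - X 1))
    (hh3 : h3 = X 0 * X 3 + X 1 * X 2)
    (hh : h = h1 + h2 + h3) (hh13 : h13 = h1 - h3) (hh23 : h23 = h2 - h3)
    (hc : c = X 0 * X 1 * (X 0 - X 1) * (X 2 * X 3 * (X 2 - X 3)))
    (I : Submodule k (MvPolynomial (Fin 4) k))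
    (hI : ∀ f, f ∈ I ↔
      (f.IsWeightedHomogeneous (![1, 1, 0, 0] : Fin 4 → ℕ) 3 ∧
       f.IsWeightedHomogeneous (![0, 0, 1, 1] : Fin 4 → ℕ) 3 ∧
       (X 0 * X 1 * (X 0 - X 1)) ^ 2 ∣ rename (![0, 1, 0, 1] : Fin 4 → Fin 2) f)) :
    (∀ f, (f ∈ I ∧ rename (![2, 3, 0, 1] : Fin 4 → Fin 4) f = f) ↔
        f ∈ Submodule.span k ({c, l ^ 2 * h, l ^ 2 * h13, l ^ 2 * h23} : Set (MvPolynomial (Fin 4) k))) ∧
    (∀ f, (f ∈ I ∧ rename (![2, 3, 0, 1] : Fin 4 → Fin 4) f = -f) ↔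
        f ∈ Submodule.span k ({l * h ^ 2, l * h * h13, l * h * h23, l * h13 ^ 2, l * h23 ^ 2, l * h13 * h23} :
          Set (MvPolynomial (Fin 4) k))) ∧
    LinearIndependent k
      ![c, l ^ 2 * h, l ^ 2 * h13, l ^ 2 * h23, l * h ^ 2, l * h * h13, l * h * h23, l * h13 ^ 2, l * h23 ^ 2,
        l * h13 * h23] := by
  classical
  have hι : ∀ f : MvPolynomial (Fin 4) k, f ∈ I → f = K881.Bidegree.P
      (fun i j => coeff (K881.Bidegree.E i j) f) := fun f hf =>
    K881.Bidegree.eq_P f ((hI f).1 hf).1 ((hI f).1 hf).2.1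
  -- bihomogeneity
  have w1 : ∀ i, (X i : MvPolynomial (Fin 4) k).IsWeightedHomogeneous (![1, 1, 0, 0] : Fin 4 → ℕ)
      ((![1, 1, 0, 0] : Fin 4 → ℕ) i) := fun i => isWeightedHomogeneous_X k _ i
  have w2 : ∀ i, (X i : MvPolynomial (Fin 4) k).IsWeightedHomogeneous (![0, 0, 1, 1] : Fin 4 → ℕ)
      ((![0, 0, 1, 1] : Fin 4 → ℕ) i) := fun i => isWeightedHomogeneous_X k _ i
  have sub1 : ∀ {w : Fin 4 → ℕ} {f g : MvPolynomial (Fin 4) k} {n : ℕ}, f.IsWeightedHomogeneous w n →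
      g.IsWeightedHomogeneous w n → (f - g).IsWeightedHomogeneous w n := by
    intro w f g n hf hg
    exact (weightedHomogeneousSubmodule k w n).sub_mem hf hg
  have add1 : ∀ {w : Fin 4 → ℕ} {f g : MvPolynomial (Fin 4) k} {n : ℕ}, f.IsWeightedHomogeneous w n →
      g.IsWeightedHomogeneous w n → (f + g).IsWeightedHomogeneous w n := by
    intro w f g n hf hg
    exact (weightedHomogeneousSubmodule k w n).add_mem hf hg
  have lw1 : l.IsWeightedHomogeneous (![1, 1, 0, 0] : Fin 4 → ℕ) 1 := by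
    rw [hl]; exact sub1 ((w1 0).mul (w1 3)) ((w1 1).mul (w1 2))
  have lw2 : l.IsWeightedHomogeneous (![0, 0, 1, 1] : Fin 4 → ℕ) 1 := by
    rw [hl]; exact sub1 ((w2 0).mul (w2 3)) ((w2 1).mul (w2 2))
  have h1w1 : h1.IsWeightedHomogeneous (![1, 1, 0, 0] : Fin 4 → ℕ) 1 := by
    rw [hh1]; exact add1 ((w1 0).mul (sub1 (w1 3) (w1 2))) ((w1 2).mul (sub1 (w1 1) (w1 0)))
  have h1w2 : h1.IsWeightedHomogeneous (![0, 0, 1, 1] : Fin 4 → ℕ) 1 := by
    rw [hh1]; exact add1 ((w2 0).mul (sub1 (w2 3) (w2 2))) ((w2 2).mul (sub1 (w2 1) (w2 0)))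
  have h2w1 : h2.IsWeightedHomogeneous (![1, 1, 0, 0] : Fin 4 → ℕ) 1 := by
    rw [hh2]; exact add1 ((w1 1).mul (sub1 (w1 2) (w1 3))) ((w1 3).mul (sub1 (w1 0) (w1 1)))
  have h2w2 : h2.IsWeightedHomogeneous (![0, 0, 1, 1] : Fin 4 → ℕ) 1 := by
    rw [hh2]; exact add1 ((w2 1).mul (sub1 (w2 2) (w2 3))) ((w2 3).mul (sub1 (w2 0) (w2 1)))
  have h3w1 : h3.IsWeightedHomogeneous (![1, 1, 0, 0] : Fin 4 → ℕ) 1 := by
    rw [hh3]; exact add1 ((w1 0).mul (w1 3)) ((w1 1).mul (w1 2))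
  have h3w2 : h3.IsWeightedHomogeneous (![0, 0, 1, 1] : Fin 4 → ℕ) 1 := by
    rw [hh3]; exact add1 ((w2 0).mul (w2 3)) ((w2 1).mul (w2 2))
  have hw1 : h.IsWeightedHomogeneous (![1, 1, 0, 0] : Fin 4 → ℕ) 1 := by
    rw [hh]; exact add1 (add1 h1w1 h2w1) h3w1
  have hw2 : h.IsWeightedHomogeneous (![0, 0, 1, 1] : Fin 4 → ℕ) 1 := by
    rw [hh]; exact add1 (add1 h1w2 h2w2) h3w2
  have h13w1 : h13.IsWeightedHomogeneous (![1, 1, 0, 0] : Fin 4 → ℕ) 1 := by
    rw [hh13]; exact sub1 h1w1 h3w1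
  have h13w2 : h13.IsWeightedHomogeneous (![0, 0, 1, 1] : Fin 4 → ℕ) 1 := by
    rw [hh13]; exact sub1 h1w2 h3w2
  have h23w1 : h23.IsWeightedHomogeneous (![1, 1, 0, 0] : Fin 4 → ℕ) 1 := by
    rw [hh23]; exact sub1 h2w1 h3w1
  have h23w2 : h23.IsWeightedHomogeneous (![0, 0, 1, 1] : Fin 4 → ℕ) 1 := by
    rw [hh23]; exact sub1 h2w2 h3w2
  have cw1 : c.IsWeightedHomogeneous (![1, 1, 0, 0] : Fin 4 → ℕ) 3 := by
    rw [hc]; exact (((w1 0).mul (w1 1)).mul (sub1 (w1 0) (w1 1))).mul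
      (((w1 2).mul (w1 3)).mul (sub1 (w1 2) (w1 3)))
  have cw2 : c.IsWeightedHomogeneous (![0, 0, 1, 1] : Fin 4 → ℕ) 3 := by
    rw [hc]; exact (((w2 0).mul (w2 1)).mul (sub1 (w2 0) (w2 1))).mul
      (((w2 2).mul (w2 3)).mul (sub1 (w2 2) (w2 3)))
  -- restriction to the diagonal
  have ldiag : rename (![0, 1, 0, 1] : Fin 4 → Fin 2) l = 0 := by
    rw [hl]; simp; ring
  have cdiag : rename (![0, 1, 0, 1] : Fin 4 → Fin 2) c = (X 0 * X 1 * (X 0 - X 1)) ^ 2 := by
    rw [hc]; simp; ring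
  -- the involution
  have lio : rename (![2, 3, 0, 1] : Fin 4 → Fin 4) l = - l := by
    rw [hl]; simp; ring
  have h1io : rename (![2, 3, 0, 1] : Fin 4 → Fin 4) h1 = h1 := by
    rw [hh1]; simp; ring
  have h2io : rename (![2, 3, 0, 1] : Fin 4 → Fin 4) h2 = h2 := by
    rw [hh2]; simp; ring
  have h3io : rename (![2, 3, 0, 1] : Fin 4 → Fin 4) h3 = h3 := by
    rw [hh3]; simp; ring
  have hio : rename (![2, 3, 0, 1] : Fin 4 → Fin 4) h = h := by
    rw [hh, map_add, map_add, h1io, h2io, h3io]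
  have h13io : rename (![2, 3, 0, 1] : Fin 4 → Fin 4) h13 = h13 := by
    rw [hh13, map_sub, h1io, h3io]
  have h23io : rename (![2, 3, 0, 1] : Fin 4 → Fin 4) h23 = h23 := by
    rw [hh23, map_sub, h2io, h3io]
  have cio : rename (![2, 3, 0, 1] : Fin 4 → Fin 4) c = c := by
    rw [hc]; simp; ring
  -- membership of the generators
  have mc : c ∈ I := (hI c).2 ⟨cw1, cw2, by rw [cdiag]⟩
  have ml2 : ∀ g : MvPolynomial (Fin 4) k, g.IsWeightedHomogeneous (![1, 1, 0, 0] : Fin 4 → ℕ) 1 →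
      g.IsWeightedHomogeneous (![0, 0, 1, 1] : Fin 4 → ℕ) 1 → l ^ 2 * g ∈ I := by
    intro g hg1 hg2
    rw [sq]
    exact (hI _).2 ⟨(lw1.mul lw1).mul hg1, (lw2.mul lw2).mul hg2, by
      rw [map_mul, map_mul, ldiag]; simp⟩
  have ml : ∀ g g' : MvPolynomial (Fin 4) k, g.IsWeightedHomogeneous (![1, 1, 0, 0] : Fin 4 → ℕ) 1 →
      g.IsWeightedHomogeneous (![0, 0, 1, 1] : Fin 4 → ℕ) 1 →
      g'.IsWeightedHomogeneous (![1, 1, 0, 0] : Fin 4 → ℕ) 1 →
      g'.IsWeightedHomogeneous (![0, 0, 1, 1] : Fin 4 → ℕ) 1 → l * g * g' ∈ I := by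
    intro g g' hg1 hg2 hg1' hg2'
    exact (hI _).2 ⟨(lw1.mul hg1).mul hg1', (lw2.mul hg2).mul hg2', by
      rw [map_mul, map_mul, ldiag]; simp⟩
  have msq : ∀ g : MvPolynomial (Fin 4) k, g.IsWeightedHomogeneous (![1, 1, 0, 0] : Fin 4 → ℕ) 1 →
      g.IsWeightedHomogeneous (![0, 0, 1, 1] : Fin 4 → ℕ) 1 → l * g ^ 2 ∈ I := by
    intro g hg1 hg2
    have := ml g g hg1 hg2 hg1 hg2
    rwa [mul_assoc, ← sq] at this
  -- the submodules of invariant and anti-invariant elements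
  let J1 : Submodule k (MvPolynomial (Fin 4) k) :=
    I ⊓ LinearMap.ker ((rename (![2, 3, 0, 1] : Fin 4 → Fin 4) :
      MvPolynomial (Fin 4) k →ₐ[k] _).toLinearMap - LinearMap.id)
  let J2 : Submodule k (MvPolynomial (Fin 4) k) :=
    I ⊓ LinearMap.ker ((rename (![2, 3, 0, 1] : Fin 4 → Fin 4) :
      MvPolynomial (Fin 4) k →ₐ[k] _).toLinearMap + LinearMap.id)
  have hJ1 : ∀ f, f ∈ J1 ↔ f ∈ I ∧ rename (![2, 3, 0, 1] : Fin 4 → Fin 4) f = f := fun f => by
    simp [J1, sub_eq_zero]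
  have hJ2 : ∀ f, f ∈ J2 ↔ f ∈ I ∧ rename (![2, 3, 0, 1] : Fin 4 → Fin 4) f = -f := fun f => by
    simp [J2, add_eq_zero_iff_eq_neg]
  have hC : ∀ (n : ℕ) [n.AtLeastTwo], (C (OfNat.ofNat n : k) : MvPolynomial (Fin 4) k) =
      OfNat.ofNat n := fun n _ => map_ofNat C n
  have hexp : ∀ α β γ δ : k, K881.Bidegree.P ![![0, 0, (-2) * β + (-2) * δ, (3) * β],
      ![0, (1) * α + (4) * β + (4) * δ, (-1) * α + (-3) * β, (-2) * β + (-2) * γ],
      ![(-2) * β + (-2) * δ, (-1) * α + (-3) * β, (1) * α + (4) * β + (4) * γ, 0],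
      ![(3) * β, (-2) * β + (-2) * γ, 0, 0]] =
      α • c + β • (l ^ 2 * h) + γ • (l ^ 2 * h13) + δ • (l ^ 2 * h23) := by
    intro α β γ δ
    rw [K881.Bidegree.P_eq_P16]
    change K881.Bidegree.P16 (0) (0) ((-2) * β + (-2) * δ) ((3) * β) (0) ((1) * α + (4) * β + (4) * δ) ((-1) * α + (-3) * β) ((-2) * β + (-2) * γ) ((-2) * β + (-2) * δ) ((-1) * α + (-3) * β) ((1) * α + (4) * β + (4) * γ) (0) ((3) * β) ((-2) * β + (-2) * γ) (0) (0) = _
    rw [hh13, hh23, hh, hh1, hh2, hh3, hl, hc]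
    simp only [K881.Bidegree.P16, smul_eq_C_mul, map_add, map_mul, map_neg, map_zero, map_one, hC]
    ring
  have hexp2 : ∀ α β γ δ ε ζ : k, K881.Bidegree.P
      ![![0, (-4) * α + (-4) * γ + (-4) * ε, (12) * α + (6) * γ, (-9) * α],
      ![(4) * α + (4) * γ + (4) * ε, 0, (-17) * α + (-4) * β + (-4) * γ + (-4) * ζ,
        (12) * α + (6) * β],
      ![(-12) * α + (-6) * γ, (17) * α + (4) * β + (4) * γ + (4) * ζ, 0,
        (-4) * α + (-4) * β + (-4) * δ],
      ![(9) * α, (-12) * α + (-6) * β, (4) * α + (4) * β + (4) * δ, 0]] =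
      α • (l * h ^ 2) + β • (l * h * h13) + γ • (l * h * h23) + δ • (l * h13 ^ 2) +
        ε • (l * h23 ^ 2) + ζ • (l * h13 * h23) := by
    intro α β γ δ ε ζ
    rw [K881.Bidegree.P_eq_P16]
    change K881.Bidegree.P16 (0) ((-4) * α + (-4) * γ + (-4) * ε) ((12) * α + (6) * γ) ((-9) * α) ((4) * α + (4) * γ + (4) * ε) (0) ((-17) * α + (-4) * β + (-4) * γ + (-4) * ζ) ((12) * α + (6) * β) ((-12) * α + (-6) * γ) ((17) * α + (4) * β + (4) * γ + (4) * ζ) (0) ((-4) * α + (-4) * β + (-4) * δ) ((9) * α) ((-12) * α + (-6) * β) ((4) * α + (4) * β + (4) * δ) (0) = _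
    rw [hh13, hh23, hh, hh1, hh2, hh3, hl]
    simp only [K881.Bidegree.P16, smul_eq_C_mul, map_add, map_mul, map_neg, map_zero, map_one, hC]
    ring
  have hPadd : ∀ d d' : Fin 4 → Fin 4 → k, K881.Bidegree.P d + K881.Bidegree.P d' =
      K881.Bidegree.P (fun i j => d i j + d' i j) := by
    intro d d'
    simp only [K881.Bidegree.P, Fin.sum_univ_four, map_add]
    ring
  refine ⟨?_, ?_, ?_⟩
  · intro f
    rw [← hJ1]
    constructor
    · intro hf
      obtain ⟨hfI, hfio⟩ := (hJ1 f).1 hf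
      have hfP := hι f hfI
      set d : Fin 4 → Fin 4 → k := fun i j => coeff (K881.Bidegree.E i j) f with hd
      rw [hfP, K881.Bidegree.rename_iota] at hfio
      have hsym := fun i j => K881.Bidegree.P_injective hfio i j
      have hdvd := ((hI f).1 hfI).2.2
      rw [hfP] at hdvd
      obtain ⟨c1, c2, c3, c4, c5, c6⟩ := K881.Bidegree.conditions d hdvd
      simp only [Fin.sum_univ_four] at c5 c6
      have s01 : d 1 0 = d 0 1 := hsym 0 1
      have s02 : d 2 0 = d 0 2 := hsym 0 2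
      have s03 : d 3 0 = d 0 3 := hsym 0 3
      have s12 : d 2 1 = d 1 2 := hsym 1 2
      have s13 : d 3 1 = d 1 3 := hsym 1 3
      have s23 : d 3 2 = d 2 3 := hsym 2 3
      have z01 : d 0 1 = 0 := by linear_combination (1/2 : k) * c2 - (1/2 : k) * s01
      have z23 : d 2 3 = 0 := by linear_combination (1/2 : k) * c4 - (1/2 : k) * s23
      rw [s01, s02, s03, s12, s13, s23, z01, z23, c1, c3] at c5 c6
      simp at c6
      have hfin : f = (-(d 0 3 + d 1 2)) • c + (d 0 3 / 3) • (l ^ 2 * h) +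
          (-(d 1 3) / 2 - d 0 3 / 3) • (l ^ 2 * h13) + (-(d 0 2) / 2 - d 0 3 / 3) • (l ^ 2 * h23) := by
        rw [← hexp, hfP]
        congr 1
        funext i j
        fin_cases i <;> fin_cases j
        · exact c1
        · exact z01
        · change d 0 2 = (-2) * (d 0 3 / 3) + (-2) * (-(d 0 2) / 2 - d 0 3 / 3)
          ring
        · change d 0 3 = (3) * (d 0 3 / 3)
          ring
        · change d 1 0 = 0
          rw [s01]; exact z01
        · change d 1 1 = (1) * (-(d 0 3 + d 1 2)) + (4) * (d 0 3 / 3) + (4) * (-(d 0 2) / 2 - d 0 3 / 3)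
          linear_combination 2 * c5 - (1/2 : k) * c6
        · change d 1 2 = (-1) * (-(d 0 3 + d 1 2)) + (-3) * (d 0 3 / 3)
          ring
        · change d 1 3 = (-2) * (d 0 3 / 3) + (-2) * (-(d 1 3) / 2 - d 0 3 / 3)
          ring
        · change d 2 0 = (-2) * (d 0 3 / 3) + (-2) * (-(d 0 2) / 2 - d 0 3 / 3)
          rw [s02]; ring
        · change d 2 1 = (-1) * (-(d 0 3 + d 1 2)) + (-3) * (d 0 3 / 3)
          rw [s12]; ring
        · change d 2 2 = (1) * (-(d 0 3 + d 1 2)) + (4) * (d 0 3 / 3) + (4) * (-(d 1 3) / 2 - d 0 3 / 3)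
          linear_combination (-1 : k) * c5 + (1/2 : k) * c6
        · change d 2 3 = 0
          exact z23
        · change d 3 0 = (3) * (d 0 3 / 3)
          rw [s03]; ring
        · change d 3 1 = (-2) * (d 0 3 / 3) + (-2) * (-(d 1 3) / 2 - d 0 3 / 3)
          rw [s13]; ring
        · change d 3 2 = 0
          rw [s23]; exact z23
        · change d 3 3 = 0
          exact c3
      rw [hfin]
      refine Submodule.add_mem _ (Submodule.add_mem _ (Submodule.add_mem _ ?_ ?_) ?_) ?_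
      all_goals exact Submodule.smul_mem _ _ (Submodule.subset_span (by simp))
    · intro hf
      refine Submodule.span_le.2 ?_ hf
      rintro g (rfl | rfl | rfl | rfl)
      · exact (hJ1 _).2 ⟨mc, cio⟩
      · exact (hJ1 _).2 ⟨ml2 _ hw1 hw2, by rw [map_mul, map_pow, lio, hio]; ring⟩
      · exact (hJ1 _).2 ⟨ml2 _ h13w1 h13w2, by rw [map_mul, map_pow, lio, h13io]; ring⟩
      · exact (hJ1 _).2 ⟨ml2 _ h23w1 h23w2, by rw [map_mul, map_pow, lio, h23io]; ring⟩
  · intro f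
    rw [← hJ2]
    constructor
    · intro hf
      obtain ⟨hfI, hfio⟩ := (hJ2 f).1 hf
      have hfP := hι f hfI
      set d : Fin 4 → Fin 4 → k := fun i j => coeff (K881.Bidegree.E i j) f with hd
      have hneg : - K881.Bidegree.P d = K881.Bidegree.P (fun i j => - d i j) := by
        simp only [K881.Bidegree.P, Fin.sum_univ_four, map_neg]
        ring
      rw [hfP, K881.Bidegree.rename_iota, hneg] at hfio
      have hsym := fun i j => K881.Bidegree.P_injective hfio i j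
      have s00 : d 0 0 = - d 0 0 := hsym 0 0
      have s11 : d 1 1 = - d 1 1 := hsym 1 1
      have s22 : d 2 2 = - d 2 2 := hsym 2 2
      have s33 : d 3 3 = - d 3 3 := hsym 3 3
      have s01 : d 1 0 = - d 0 1 := hsym 0 1
      have s02 : d 2 0 = - d 0 2 := hsym 0 2
      have s03 : d 3 0 = - d 0 3 := hsym 0 3
      have s12 : d 2 1 = - d 1 2 := hsym 1 2
      have s13 : d 3 1 = - d 1 3 := hsym 1 3
      have s23 : d 3 2 = - d 2 3 := hsym 2 3
      have z00 : d 0 0 = 0 := by linear_combination (1/2 : k) * s00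
      have z11 : d 1 1 = 0 := by linear_combination (1/2 : k) * s11
      have z22 : d 2 2 = 0 := by linear_combination (1/2 : k) * s22
      have z33 : d 3 3 = 0 := by linear_combination (1/2 : k) * s33
      have hfin : f = ((-1/9 : k) * d 0 3) • (l * h ^ 2) +
          ((2/9 : k) * d 0 3 + (1/6 : k) * d 1 3) • (l * h * h13) +
          ((1/6 : k) * d 0 2 + (2/9 : k) * d 0 3) • (l * h * h23) +
          ((-1/9 : k) * d 0 3 + (-1/6 : k) * d 1 3 + (-1/4 : k) * d 2 3) • (l * h13 ^ 2) +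
          ((-1/4 : k) * d 0 1 + (-1/6 : k) * d 0 2 + (-1/9 : k) * d 0 3) • (l * h23 ^ 2) +
          ((-1/6 : k) * d 0 2 + (1/36 : k) * d 0 3 + (-1/4 : k) * d 1 2 + (-1/6 : k) * d 1 3) •
            (l * h13 * h23) := by
        rw [← hexp2, hfP]
        congr 1
        funext i j
        fin_cases i <;> fin_cases j
        · exact z00
        · change d 0 1 = (-4) * ((-1/9 : k) * d 0 3) + (-4) * ((1/6 : k) * d 0 2 + (2/9 : k) * d 0 3) + (-4) * ((-1/4 : k) * d 0 1 + (-1/6 : k) * d 0 2 + (-1/9 : k) * d 0 3)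
          ring
        · change d 0 2 = (12) * ((-1/9 : k) * d 0 3) + (6) * ((1/6 : k) * d 0 2 + (2/9 : k) * d 0 3)
          ring
        · change d 0 3 = (-9) * ((-1/9 : k) * d 0 3)
          ring
        · change d 1 0 = (4) * ((-1/9 : k) * d 0 3) + (4) * ((1/6 : k) * d 0 2 + (2/9 : k) * d 0 3) + (4) * ((-1/4 : k) * d 0 1 + (-1/6 : k) * d 0 2 + (-1/9 : k) * d 0 3)
          rw [s01]; ring
        · exact z11
        · change d 1 2 = (-17) * ((-1/9 : k) * d 0 3) + (-4) * ((2/9 : k) * d 0 3 + (1/6 : k) * d 1 3) + (-4) * ((1/6 : k) * d 0 2 + (2/9 : k) * d 0 3) + (-4) * ((-1/6 : k) * d 0 2 + (1/36 : k) * d 0 3 + (-1/4 : k) * d 1 2 + (-1/6 : k) * d 1 3)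
          ring
        · change d 1 3 = (12) * ((-1/9 : k) * d 0 3) + (6) * ((2/9 : k) * d 0 3 + (1/6 : k) * d 1 3)
          ring
        · change d 2 0 = (-12) * ((-1/9 : k) * d 0 3) + (-6) * ((1/6 : k) * d 0 2 + (2/9 : k) * d 0 3)
          rw [s02]; ring
        · change d 2 1 = (17) * ((-1/9 : k) * d 0 3) + (4) * ((2/9 : k) * d 0 3 + (1/6 : k) * d 1 3) + (4) * ((1/6 : k) * d 0 2 + (2/9 : k) * d 0 3) + (4) * ((-1/6 : k) * d 0 2 + (1/36 : k) * d 0 3 + (-1/4 : k) * d 1 2 + (-1/6 : k) * d 1 3)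
          rw [s12]; ring
        · exact z22
        · change d 2 3 = (-4) * ((-1/9 : k) * d 0 3) + (-4) * ((2/9 : k) * d 0 3 + (1/6 : k) * d 1 3) + (-4) * ((-1/9 : k) * d 0 3 + (-1/6 : k) * d 1 3 + (-1/4 : k) * d 2 3)
          ring
        · change d 3 0 = (9) * ((-1/9 : k) * d 0 3)
          rw [s03]; ring
        · change d 3 1 = (-12) * ((-1/9 : k) * d 0 3) + (-6) * ((2/9 : k) * d 0 3 + (1/6 : k) * d 1 3)
          rw [s13]; ring
        · change d 3 2 = (4) * ((-1/9 : k) * d 0 3) + (4) * ((2/9 : k) * d 0 3 + (1/6 : k) * d 1 3) + (4) * ((-1/9 : k) * d 0 3 + (-1/6 : k) * d 1 3 + (-1/4 : k) * d 2 3)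
          rw [s23]; ring
        · exact z33
      rw [hfin]
      refine Submodule.add_mem _ (Submodule.add_mem _ (Submodule.add_mem _ (Submodule.add_mem _
        (Submodule.add_mem _ ?_ ?_) ?_) ?_) ?_) ?_
      all_goals exact Submodule.smul_mem _ _ (Submodule.subset_span (by simp))
    · intro hf
      refine Submodule.span_le.2 ?_ hf
      rintro g (rfl | rfl | rfl | rfl | rfl | rfl)
      · exact (hJ2 _).2 ⟨msq _ hw1 hw2, by rw [map_mul, map_pow, lio, hio]; ring⟩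
      · exact (hJ2 _).2 ⟨ml _ _ hw1 hw2 h13w1 h13w2, by
          rw [map_mul, map_mul, lio, hio, h13io]; ring⟩
      · exact (hJ2 _).2 ⟨ml _ _ hw1 hw2 h23w1 h23w2, by
          rw [map_mul, map_mul, lio, hio, h23io]; ring⟩
      · exact (hJ2 _).2 ⟨msq _ h13w1 h13w2, by rw [map_mul, map_pow, lio, h13io]; ring⟩
      · exact (hJ2 _).2 ⟨msq _ h23w1 h23w2, by rw [map_mul, map_pow, lio, h23io]; ring⟩
      · exact (hJ2 _).2 ⟨ml _ _ h13w1 h13w2 h23w1 h23w2, by
          rw [map_mul, map_mul, lio, h13io, h23io]; ring⟩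
  · rw [Fintype.linearIndependent_iff]
    intro a ha
    have hz : K881.Bidegree.P (fun i j => (![![0, 0, (-2) * a 1 + (-2) * a 3, (3) * a 1],
      ![0, (1) * a 0 + (4) * a 1 + (4) * a 3, (-1) * a 0 + (-3) * a 1, (-2) * a 1 + (-2) * a 2],
      ![(-2) * a 1 + (-2) * a 3, (-1) * a 0 + (-3) * a 1, (1) * a 0 + (4) * a 1 + (4) * a 2, 0],
      ![(3) * a 1, (-2) * a 1 + (-2) * a 2, 0, 0]] : Fin 4 → Fin 4 → k) i j +
      (![![0, (-4) * a 4 + (-4) * a 6 + (-4) * a 8, (12) * a 4 + (6) * a 6, (-9) * a 4],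
      ![(4) * a 4 + (4) * a 6 + (4) * a 8, 0, (-17) * a 4 + (-4) * a 5 + (-4) * a 6 + (-4) * a 9,
        (12) * a 4 + (6) * a 5],
      ![(-12) * a 4 + (-6) * a 6, (17) * a 4 + (4) * a 5 + (4) * a 6 + (4) * a 9, 0,
        (-4) * a 4 + (-4) * a 5 + (-4) * a 7],
      ![(9) * a 4, (-12) * a 4 + (-6) * a 5, (4) * a 4 + (4) * a 5 + (4) * a 7, 0]] :
        Fin 4 → Fin 4 → k) i j) = K881.Bidegree.P (fun _ _ => 0) := by
      rw [← hPadd, hexp, hexp2]
      have e0 : K881.Bidegree.P (fun _ _ => (0 : k)) = 0 := by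
        simp [K881.Bidegree.P]
      rw [e0]
      rw [Fin.sum_univ_castSucc, Fin.sum_univ_castSucc, Fin.sum_univ_eight] at ha
      change a 0 • c + a 1 • (l ^ 2 * h) + a 2 • (l ^ 2 * h13) + a 3 • (l ^ 2 * h23) +
        a 4 • (l * h ^ 2) + a 5 • (l * h * h13) + a 6 • (l * h * h23) + a 7 • (l * h13 ^ 2) +
        a 8 • (l * h23 ^ 2) + a 9 • (l * h13 * h23) = 0 at ha
      rw [← ha]
      abel
    have hzz := fun i j => K881.Bidegree.P_injective hz i j
    have e01 : 0 + ((-4) * a 4 + (-4) * a 6 + (-4) * a 8) = 0 := hzz 0 1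
    have e02 : (-2) * a 1 + (-2) * a 3 + ((12) * a 4 + (6) * a 6) = 0 := hzz 0 2
    have e03 : (3) * a 1 + ((-9) * a 4) = 0 := hzz 0 3
    have e11 : (1) * a 0 + (4) * a 1 + (4) * a 3 + (0) = 0 := hzz 1 1
    have e12 : (-1) * a 0 + (-3) * a 1 + ((-17) * a 4 + (-4) * a 5 + (-4) * a 6 + (-4) * a 9) = 0 := hzz 1 2
    have e13 : (-2) * a 1 + (-2) * a 2 + ((12) * a 4 + (6) * a 5) = 0 := hzz 1 3
    have e20 : (-2) * a 1 + (-2) * a 3 + ((-12) * a 4 + (-6) * a 6) = 0 := hzz 2 0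
    have e21 : (-1) * a 0 + (-3) * a 1 + ((17) * a 4 + (4) * a 5 + (4) * a 6 + (4) * a 9) = 0 := hzz 2 1
    have e22 : (1) * a 0 + (4) * a 1 + (4) * a 2 + (0) = 0 := hzz 2 2
    have e23 : 0 + ((-4) * a 4 + (-4) * a 5 + (-4) * a 7) = 0 := hzz 2 3
    clear hzz
    have t0 : a 0 = 0 := by
      linear_combination (1) * e02 + (1) * e11 + (1) * e20
    have t1 : a 1 = 0 := by
      linear_combination (-1/3 : k) * e02 + (-1/3 : k) * e11 + (-1/6 : k) * e12 + (-1/3 : k) * e20 + (-1/6 : k) * e21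
    have t2 : a 2 = 0 := by
      linear_combination (1/12 : k) * e02 + (1/12 : k) * e11 + (1/6 : k) * e12 + (1/12 : k) * e20 + (1/6 : k) * e21 + (1/4 : k) * e22
    have t3 : a 3 = 0 := by
      linear_combination (1/12 : k) * e02 + (1/3 : k) * e11 + (1/6 : k) * e12 + (1/12 : k) * e20 + (1/6 : k) * e21
    have t4 : a 4 = 0 := by
      linear_combination (-1/9 : k) * e02 + (-1/9 : k) * e03 + (-1/9 : k) * e11 + (-1/18 : k) * e12 + (-1/9 : k) * e20 + (-1/18 : k) * e21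
    have t5 : a 5 = 0 := by
      linear_combination (5/36 : k) * e02 + (2/9 : k) * e03 + (5/36 : k) * e11 + (1/9 : k) * e12 + (1/6 : k) * e13 + (5/36 : k) * e20 + (1/9 : k) * e21 + (1/12 : k) * e22
    have t6 : a 6 = 0 := by
      linear_combination (11/36 : k) * e02 + (2/9 : k) * e03 + (2/9 : k) * e11 + (1/9 : k) * e12 + (5/36 : k) * e20 + (1/9 : k) * e21
    have t7 : a 7 = 0 := by
      linear_combination (-1/36 : k) * e02 + (-1/9 : k) * e03 + (-1/36 : k) * e11 + (-1/18 : k) * e12 + (-1/6 : k) * e13 + (-1/36 : k) * e20 + (-1/18 : k) * e21 + (-1/12 : k) * e22 + (-1/4 : k) * e23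
    have t8 : a 8 = 0 := by
      linear_combination (-1/4 : k) * e01 + (-7/36 : k) * e02 + (-1/9 : k) * e03 + (-1/9 : k) * e11 + (-1/18 : k) * e12 + (-1/36 : k) * e20 + (-1/18 : k) * e21
    have t9 : a 9 = 0 := by
      linear_combination (1/36 : k) * e02 + (1/36 : k) * e03 + (1/9 : k) * e11 + (-1/9 : k) * e12 + (-1/6 : k) * e13 + (7/36 : k) * e20 + (5/36 : k) * e21 + (-1/12 : k) * e22
    intro i
    fin_cases i
    · exact t0
    · exact t1
    · exact t2
    · exact t3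
    · exact t4
    · exact t5
    · exact t6
    · exact t7
    · exact t8
    · exact t9

end Groth.Agent.S16153
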