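import Groth.Statements.S16154
import Groth.Agent.WGauss.K250.CITop
import Groth.Agent.Variety.K658.RelDimComp

set_option autoImplicit false
universe u
open CategoryTheory CategoryTheory.Limits AlgebraicGeometry
open WGauss

namespace Groth.Agent.S16154

/-- Let k be a field and X in projective n-space over k the common zero scheme of m forms G_j of degrees
d_1 >= d_2 >= ... >= d_m >= 2 (m >= 1), smooth over k of relative dimension kk >= 1 with kk + m = n,
so that X is a smooth complete intersection of dimension kk whose twisted conormal bundle N_X^*(t)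
is the direct sum of the O_X(t - d_j). Then, for an integer t, H^1(X, O_X(t - d_j)) = 0 for every j
(that is, H^1(X, N_X^*(t)) = 0) if and only if either kk >= 2, or kk = 1 and t > 2 d_1 + d_2 + ... +
d_m - n - 1. Here O_X(c) is the pullback of O(c) from projective space along the inclusion of X.
(The source works over the complex numbers with X smooth projective; the statement is given over any
field.) -/
theorem result
    (k : Type u) [Field k] (n kk m : ℕ) (hkk : 1 ≤ kk) (hm : 1 ≤ m) (hn : kk + m = n)
    (d : Fin m → ℕ) (hd2 : ∀ j, 2 ≤ d j) (hanti : Antitone d)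
    (G : ∀ j : Fin m, LefPen.Form n k (d j))
    [SmoothOfRelativeDimension kk ((LefPen.ciIdeal G).subschemeι ≫ CohB1.ProjSpace.toSpec n k)]
    (t : ℤ) :
    (∀ j : Fin m, Subsingleton (Coh.HH (LefPen.ciIdeal G).subscheme
        ((Scheme.Modules.pullback (LefPen.ciIdeal G).subschemeι).obj
          (Twist.twistProjSpace n k (t - (d j : ℤ)))) 1)) ↔
      (2 ≤ kk ∨ (kk = 1 ∧ ((d ⟨0, hm⟩ : ℤ) + ∑ j : Fin m, (d j : ℤ)) - (n : ℤ) - 1 < t)) := by
  have hmn : m ≤ n := by omega
  have ha : ∀ j, 1 ≤ d j := fun j => le_trans (by norm_num) (hd2 j)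
  have hsub : n - m = kk := by omega
  have hdim : topologicalKrullDim ↥(LefPen.ciIdeal G).subscheme ≤ ((n - m : ℕ) : WithBot ℕ∞) := by
    rw [hsub]
    rcases isEmpty_or_nonempty (LefPen.ciIdeal G).subscheme with h | h
    · have he : IsEmpty (TopologicalSpace.IrreducibleCloseds (LefPen.ciIdeal G).subscheme) :=
        ⟨fun Z => h.false Z.isIrreducible.nonempty.some⟩
      have hb : topologicalKrullDim ↥(LefPen.ciIdeal G).subscheme = ⊥ := Order.krullDim_eq_bot
      rw [hb]
      exact bot_le
    · exact (K658.RelDimComp.topologicalKrullDim_eq kk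
        ((LefPen.ciIdeal G).subschemeι ≫ CohB1.ProjSpace.toSpec n k)).le
  have hreg := Groth.Agent.Coherent.K51.CIReg.isReg_of_dim G hmn ha hdim
  have hgood := Groth.Agent.Coherent.K51.CIGood.good_ci m hmn d G hreg
  rw [hsub] at hgood
  constructor
  · intro h
    by_cases hk : 2 ≤ kk
    · exact Or.inl hk
    · have hk1 : kk = 1 := by omega
      refine Or.inr ⟨hk1, ?_⟩
      by_contra hlt
      push Not at hlt
      have htop := K250.CITop.top_ci (k := k) m (by omega) d ha G hreg
      have hs1 : n - m = 1 := by omega
      rw [hs1] at htop hdim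
      have hP : IsLocallyNoetherian (CohB1.ProjSpace n k) :=
        LocallyOfFiniteType.isLocallyNoetherian (CohB1.ProjSpace.toSpec n k)
      have hN1 : IsLocallyNoetherian (LefPen.ciIdeal G).subscheme :=
        LocallyOfFiniteType.isLocallyNoetherian (LefPen.ciIdeal G).subschemeι
      have hN2 : CompactSpace (LefPen.ciIdeal G).subscheme := by
        have hc : CompactSpace (CohB1.ProjSpace n k) :=
          QuasiCompact.compactSpace_of_compactSpace (CohB1.ProjSpace.toSpec n k)
        exact QuasiCompact.compactSpace_of_compactSpace (LefPen.ciIdeal G).subschemeι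
      have hN : AlgebraicGeometry.IsNoetherian (LefPen.ciIdeal G).subscheme := { hN1, hN2 with }
      exact htop.nv (K250.CITop.van_of_le (by exact_mod_cast hdim) _ (by linarith) (h ⟨0, hm⟩))
  · rintro (hk | ⟨hk1, hlt⟩) j
    · exact hgood.van _ 1 one_pos (by omega)
    · have htop := K250.CITop.top_ci (k := k) m (by omega) d ha G hreg
      have hs1 : n - m = 1 := by omega
      rw [hs1] at htop
      refine htop.van _ ?_
      have h1 : d j ≤ d ⟨0, hm⟩ := hanti (Fin.mk_le_of_le_val (Nat.zero_le _))
      have h2 : (d j : ℤ) ≤ d ⟨0, hm⟩ := by exact_mod_cast h1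
      linarith

end Groth.Agent.S16154
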