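import Groth.Statements.S16155
import Mathlib.Tactic.Linarith
import Mathlib.Tactic.Positivity
import Mathlib.Tactic.Ring

set_option autoImplicit false
universe u
open MukaiVec

namespace Groth.Agent.S16155

/-- Let N be an abelian group with a symmetric integer-valued bilinear form (an intersection form) and
H₁ an element such that every x with x·H₁ = 0 satisfies x·x ≤ 0 (the Hodge index inequality for an
ample class). Write Mukai vectors as triples v = (r, ξ, a), u = (p, η, q) with middle entry in N and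
pairing ⟨v, u⟩ = ξ·η − rq − ap. Suppose r > 0, p > 0, u is isotropic (η·η = 2pq), the H₁-slopes of u
and v agree ((rη − pξ)·H₁ = 0) and ⟨v, v⟩ = ξ·ξ − 2ra > 4r. Then ⟨v, u⟩ > 2p; in particular ⟨v, u⟩
is neither 1 nor 2. -/
theorem result
    (N : Type u) [AddCommGroup N] (B : LinearMap.BilinForm ℤ N) (hB : ∀ x y : N, B x y = B y x)
    (H₁ : N) (hodge : ∀ x : N, B x H₁ = 0 → B x x ≤ 0)
    (r a p q : ℤ) (ξ η : N) (hr : 0 < r) (hp : 0 < p)
    (hiso : B η η = 2 * p * q) (hslope : B (r • η - p • ξ) H₁ = 0)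
    (hvv : 4 * r < B ξ ξ - 2 * r * a) :
    2 * p < B ξ η - r * q - a * p := by
  have h1 := hodge (r • η - p • ξ) hslope
  have e : B (r • η - p • ξ) (r • η - p • ξ) = r ^ 2 * B η η - 2 * r * p * B ξ η + p ^ 2 * B ξ ξ := by
    simp only [map_sub, map_smul, LinearMap.sub_apply, LinearMap.smul_apply, smul_eq_mul]
    rw [hB η ξ]
    ring
  rw [e, hiso] at h1
  have h2 : 0 < p * r := mul_pos hp hr
  have h3 : 0 < 2 * (p * r) * (B ξ η - r * q - a * p - 2 * p) := by
    have h4 : p ^ 2 * (4 * r) < p ^ 2 * (B ξ ξ - 2 * r * a) :=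
      mul_lt_mul_of_pos_left hvv (by positivity)
    nlinarith [h1, h4]
  have h5 : 0 < B ξ η - r * q - a * p - 2 * p := by
    by_contra h6
    push Not at h6
    have := mul_nonpos_of_nonneg_of_nonpos (show (0 : ℤ) ≤ 2 * (p * r) by positivity) h6
    linarith
  linarith

end Groth.Agent.S16155
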