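import Groth.Statements.S16156
import Mathlib.Tactic.Linarith
import Mathlib.Tactic.Positivity
import Mathlib.Tactic.Ring

set_option autoImplicit false
universe u
open MukaiVec

namespace Groth.Agent.S16156

/-- Let N be an abelian group with a symmetric integer-valued bilinear form and H an element with H·H =
2n for some n > 0 such that every x with x·H = 0 satisfies x·x ≤ 0 (the Hodge index inequality). Fix
integers r ≥ 2, d > 0 and χ < 0 (a Mukai vector v = (r, dH, χ)) and an isotropic Mukai vector u =
(p, η, q), p ≥ 0, η ∈ N, η·η = 2pq, whose pairing ⟨v, u⟩ = d(H·η) − rq − χp has absolute value 1 or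
2. Exclude the case d = 1, χ = −1, H·η = 1, η·η = 0, and when r = 2 also the case p = 0, H·η = 0.
Then the pairings of u∨ = (p, −η, q) with w₀ = (0, rH, −2nd) and with w₁ = (2nd, −χH, 0) are both
non-negative or both negative: 2ndp − r(H·η) ≥ 0 holds if and only if χ(H·η) − 2ndq ≥ 0 holds. -/
theorem result
    (N : Type u) [AddCommGroup N] (B : LinearMap.BilinForm ℤ N) (hB : ∀ x y : N, B x y = B y x)
    (H : N) (n : ℤ) (hn : 0 < n) (hH : B H H = 2 * n) (hodge : ∀ x : N, B x H = 0 → B x x ≤ 0)
    (r d χ p q : ℤ) (η : N) (hr : 2 ≤ r) (hd : 0 < d) (hχ : χ < 0) (hp : 0 ≤ p)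
    (hiso : B η η = 2 * p * q)
    (hvu : 1 ≤ |d * B H η - r * q - χ * p| ∧ |d * B H η - r * q - χ * p| ≤ 2)
    (hexc : ¬ (d = 1 ∧ χ = -1 ∧ B H η = 1 ∧ B η η = 0))
    (hr2 : r = 2 → ¬ (p = 0 ∧ B H η = 0)) :
    (0 ≤ 2 * n * d * p - r * B H η ↔ 0 ≤ χ * B H η - 2 * n * d * q) := by
  obtain ⟨hm1, hm2⟩ := hvu
  rw [abs_le] at hm2
  obtain ⟨hmlo, hmhi⟩ := hm2
  have hm0 : d * B H η - r * q - χ * p ≠ 0 := by
    intro h
    rw [h] at hm1
    norm_num at hm1
  -- Hodge index inequality
  have hod : 4 * n * p * q ≤ (B H η) ^ 2 := by
    have hx : B ((2 * n) • η - (B H η) • H) H = 0 := by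
      simp only [map_sub, map_smul, LinearMap.sub_apply, LinearMap.smul_apply, smul_eq_mul]
      rw [hH, hB η H]
      ring
    have h1 := hodge _ hx
    have e : B ((2 * n) • η - (B H η) • H) ((2 * n) • η - (B H η) • H) =
        4 * n ^ 2 * B η η - 2 * n * (B H η) ^ 2 := by
      simp only [map_sub, map_smul, LinearMap.sub_apply, LinearMap.smul_apply, smul_eq_mul]
      rw [hH, hB η H]
      ring
    rw [e, hiso] at h1
    have h2 : 0 ≤ 2 * n * ((B H η) ^ 2 - 4 * n * p * q) := by nlinarith
    by_contra h3
    push Not at h3
    have h4 : (B H η) ^ 2 - 4 * n * p * q < 0 := by linarith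
    have := mul_neg_of_pos_of_neg (show (0 : ℤ) < 2 * n by positivity) h4
    linarith
  generalize B H η = h at *
  generalize B η η = e2 at *
  subst hiso
  obtain ⟨c, rfl⟩ : ∃ c, χ = -c := ⟨-χ, by ring⟩
  have hc : 0 < c := by linarith
  rcases hp.eq_or_lt with rfl | hp
  · -- p = 0
    have hrh : 2 * n * d * 0 - r * h = - (r * h) := by ring
    rw [hrh]
    rcases lt_trichotomy h 0 with hh | hh | hh
    · have h1 : 0 ≤ -(r * h) := by nlinarith
      refine ⟨fun _ => ?_, fun _ => h1⟩
      have hq : q ≤ 0 := by
        by_contra hq
        push Not at hq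
        have h5 : d * h ≤ -1 := by nlinarith
        have h6 : r * q ≥ 2 := by nlinarith
        linarith
      nlinarith [mul_pos hc (neg_pos.2 hh), mul_nonneg (mul_nonneg hn.le hd.le) (neg_nonneg.2 hq)]
    · subst hh
      exfalso
      have h3 : r * q ≠ 0 := by
        intro h4
        apply hm0
        linarith
      have hq : q ≠ 0 := by rintro rfl; simp at h3
      have hr3 : r = 2 := by
        rcases lt_or_gt_of_ne hq with hq | hq
        · nlinarith
        · nlinarith
      exact hr2 hr3 ⟨rfl, rfl⟩
    · have h1 : ¬ (0 ≤ -(r * h)) := by nlinarith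
      refine ⟨fun h2 => absurd h2 h1, fun h2 => ?_⟩
      exfalso
      have hq : 0 ≤ q := by
        by_contra hq
        push Not at hq
        have h5 : 1 ≤ d * h := by nlinarith
        have h6 : r * q ≤ -2 := by nlinarith
        linarith
      nlinarith [mul_pos hc hh, mul_nonneg (mul_nonneg hn.le hd.le) hq]
  · -- p > 0
    constructor
    · intro hα
      by_contra hβ
      push Not at hβ
      -- `r h ≤ 2 n d p`, `- c h < 2 n d q`
      rcases le_or_gt h 0 with hh | hh
      · have hndq : 0 < 2 * n * d * q := by nlinarith [mul_nonneg hc.le (neg_nonneg.2 hh)]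
        have hq : 0 < q := by
          by_contra hq
          push Not at hq
          nlinarith [mul_nonneg (mul_nonneg hn.le hd.le) (neg_nonneg.2 hq)]
        have hh0 : h ≠ 0 := by
          rintro rfl
          have : 0 < n * p * q := by positivity
          nlinarith
        have hh' : 0 < -h := by
          rcases lt_or_eq_of_le hh with h1 | h1
          · linarith
          · exact absurd h1 hh0
        have h1 : 2 * p * (c * (-h)) < 2 * p * (2 * n * d * q) := by
          apply mul_lt_mul_of_pos_left _ (by positivity)
          linarith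
        have h2 : d * (4 * n * p * q) ≤ d * h ^ 2 := mul_le_mul_of_nonneg_left hod hd.le
        have h3 : (-h) * (2 * p * c) < (-h) * (d * (-h)) := by nlinarith
        have h4 : 2 * p * c < d * (-h) := lt_of_mul_lt_mul_left h3 hh'.le
        have h5 : 2 ≤ r * q := by nlinarith
        have h6 : 1 ≤ c * p := by nlinarith
        nlinarith
      · rcases le_or_gt q 0 with hq | hq
        · have h1 : 1 ≤ d * h := by nlinarith
          have h2 : 1 ≤ c * p := by nlinarith
          have h3 : r * q ≤ 0 := by nlinarith
          have h4 : d * h = 1 := by nlinarith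
          have h5 : c * p = 1 := by nlinarith
          have h6 : r * q = 0 := by nlinarith
          have h7 : q = 0 := by
            rcases mul_eq_zero.1 h6 with h8 | h8
            · omega
            · exact h8
          have h8 : d = 1 := by nlinarith
          have h9 : c = 1 := by nlinarith
          subst h8 h9 h7
          apply hexc
          refine ⟨rfl, rfl, by linarith, by ring⟩
        · have h1 : 2 * q * (r * h) ≤ 2 * q * (2 * n * d * p) := by
            apply mul_le_mul_of_nonneg_left _ (by positivity)
            linarith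
          have h2 : d * (4 * n * p * q) ≤ d * h ^ 2 := mul_le_mul_of_nonneg_left hod hd.le
          have h3 : h * (2 * r * q) ≤ h * (d * h) := by nlinarith
          have h4 : 2 * r * q ≤ d * h := le_of_mul_le_mul_left h3 hh
          have h5 : 2 ≤ r * q := by nlinarith
          have h6 : 1 ≤ c * p := by nlinarith
          nlinarith
    · intro hβ
      by_contra hα
      push Not at hα
      have hh : 0 < h := by
        by_contra h1
        push Not at h1
        have : 0 < n * d * p := by positivity
        nlinarith
      have hq : q < 0 := by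
        by_contra h1
        push Not at h1
        have : 0 ≤ n * d * q := by positivity
        nlinarith [mul_pos hc hh]
      have h1 : 1 ≤ d * h := by nlinarith
      have h2 : 1 ≤ c * p := by nlinarith
      have h3 : r * q ≤ -2 := by nlinarith
      nlinarith

end Groth.Agent.S16156
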