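import Groth.Statements.S16158
import Mathlib.RingTheory.Ideal.AssociatedPrime.Finiteness
import Mathlib.Algebra.Module.Torsion.Basic
import Mathlib.LinearAlgebra.Dimension.Finite
import Mathlib.LinearAlgebra.DFinsupp
import Mathlib.LinearAlgebra.FreeModule.StrongRankCondition

set_option autoImplicit false
universe u v w
open MadRed

namespace Groth.Agent.S16158

/-- Let R be a commutative Noetherian ring and M a finitely generated R-module. Then there is a natural
number n such that in every decomposition of M as an internal direct sum of a family of submodules,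
at most n of the summands are nonzero (the nonzero summands are indexed by a finite set of size at
most n). -/
theorem result (R : Type u) [CommRing R] [IsNoetherianRing R]
    (M : Type v) [AddCommGroup M] [Module R M] [Module.Finite R M] :
    ∃ n : ℕ, ∀ (ι : Type w) [DecidableEq ι] (N : ι → Submodule R M), DirectSum.IsInternal N →
      ∃ s : Finset ι, s.card ≤ n ∧ ∀ i, N i ≠ ⊥ → i ∈ s := by
  classical
  have hfinAss : (associatedPrimes R M).Finite := associatedPrimes.finite R M
  refine ⟨∑ p ∈ hfinAss.toFinset, Module.finrank (R ⧸ p)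
    (Submodule.torsionBySet R M (p : Set R)), ?_⟩
  intro ι _ N hN
  have hind : iSupIndep N := hN.submodule_iSupIndep
  have hfin : Set.Finite {i | N i ≠ ⊥} := Submodule.finite_ne_bot_of_iSupIndep hind
  refine ⟨hfin.toFinset, ?_, fun i hi => by simpa using hi⟩
  -- for every nonzero summand pick an associated prime and a vector with that annihilator
  have hch : ∀ i, ∃ (p : Ideal R) (x : M), N i ≠ ⊥ → p ∈ associatedPrimes R M ∧ x ∈ N i ∧
      ∀ r : R, r • x = 0 ↔ r ∈ p := by
    intro i
    by_cases hi : N i = ⊥
    · exact ⟨⊥, 0, fun h => absurd hi h⟩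
    · have : Nontrivial (N i) := Submodule.nontrivial_iff_ne_bot.2 hi
      obtain ⟨p, hp⟩ := associatedPrimes.nonempty R (N i)
      have hp' : IsAssociatedPrime p (N i) := hp
      obtain ⟨h1, ⟨x, hx⟩⟩ := isAssociatedPrime_iff.1 hp'
      refine ⟨p, x, fun _ => ⟨?_, x.2, fun r => ?_⟩⟩
      · exact hp'.map_of_injective (N i).subtype (N i).injective_subtype
      · rw [hx, Submodule.mem_colon_singleton, Submodule.mem_bot, ← Submodule.coe_smul,
          Submodule.coe_eq_zero]
  choose P X hPX using hch
  have hmaps : Set.MapsTo P (hfin.toFinset : Set ι) (hfinAss.toFinset : Set (Ideal R)) := by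
    intro i hi
    have hi' : N i ≠ ⊥ := by simpa using hi
    simpa using (hPX i hi').1
  rw [Finset.card_eq_sum_card_fiberwise hmaps]
  refine Finset.sum_le_sum fun p hp => ?_
  have hp' : p ∈ associatedPrimes R M := by simpa using hp
  have : p.IsPrime := hp'.isPrime
  set T := Submodule.torsionBySet R M (p : Set R) with hT
  have : Module.Finite (R ⧸ p) T := Module.Finite.of_restrictScalars_finite R (R ⧸ p) T
  set F := hfin.toFinset.filter (fun i => P i = p) with hF
  have hFi : ∀ i : F, N i ≠ ⊥ ∧ P i = p := fun i => by
    have := Finset.mem_filter.1 i.2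
    exact ⟨by simpa using this.1, this.2⟩
  have hXT : ∀ i : F, X i ∈ T := fun i => by
    rw [hT, Submodule.mem_torsionBySet_iff]
    intro a
    rw [(hPX i (hFi i).1).2.2, (hFi i).2]
    exact a.2
  have hlin : LinearIndependent (R ⧸ p) (fun i : F => (⟨X i, hXT i⟩ : T)) := by
    rw [Fintype.linearIndependent_iff]
    intro c hc i
    have hc' : ∀ j : F, ∃ r : R, Ideal.Quotient.mk p r = c j := fun j =>
      Ideal.Quotient.mk_surjective (c j)
    choose r hr using hc'
    have hsum : ∑ j : F, r j • X j = 0 := by
      have h1 : ((∑ j : F, c j • (⟨X j, hXT j⟩ : T) : T) : M) = 0 := by rw [hc]; rfl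
      rw [Submodule.coe_sum] at h1
      rw [← h1]
      refine Finset.sum_congr rfl fun j _ => ?_
      rw [← hr j]
      rfl
    have h2 := (iSupIndep_iff_finsetSum_eq_zero_imp_eq_zero (fun j : F => N j)).1
      (hind.comp Subtype.val_injective) Finset.univ (fun j => r j • X j)
      (fun j _ => (N j).smul_mem _ (hPX j (hFi j).1).2.1) hsum i (Finset.mem_univ i)
    rw [← hr i]
    rw [Ideal.Quotient.eq_zero_iff_mem]
    have h3 := ((hPX i (hFi i).1).2.2 (r i)).1 h2
    rwa [(hFi i).2] at h3
  have := hlin.fintype_card_le_finrank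
  rwa [Fintype.card_coe] at this

end Groth.Agent.S16158
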