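import Groth.Statements.S16161
import Mathlib.RingTheory.Polynomial.Cyclotomic.Basic
import Mathlib.RingTheory.RootsOfUnity.AlgebraicallyClosed
import Mathlib.RingTheory.Polynomial.Basic

set_option autoImplicit false
universe u v
open MadRed

namespace Groth.Agent.S16161

/-- Let k be an algebraically closed field of characteristic zero and R a reduced finitely generated
commutative k-algebra whose spectrum is connected (R has no idempotents besides 0 and 1); let W =
R^n be a free R-module of finite rank and g an R-linear endomorphism of W of finite order, g^m = 1
with m > 0 (an element of finite order of GL(W)(R)). Then the action of g on W is diagonalizable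
over k: viewing g as a k-linear map, its eigenspaces for eigenvalues in k span W. The source also
assumes that g is diagonalizable over k on every fibre W ⊗ k(x), x a point of Spec R; for g of
finite order this holds automatically (k is algebraically closed of characteristic zero), as the
source itself notes, so that hypothesis is omitted. -/
theorem result
    (k : Type u) [Field k] [IsAlgClosed k] [CharZero k]
    (R : Type v) [CommRing R] [Algebra k R] [IsReduced R] [Algebra.FiniteType k R]
    (hconn : ∀ e : R, IsIdempotentElem e → e = 0 ∨ e = 1)
    (n : ℕ) (g : Module.End R (Fin n → R)) (m : ℕ) (hm : 0 < m) (hg : g ^ m = 1) :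
    ⨆ μ : k, Module.End.eigenspace (g.restrictScalars k) μ = ⊤ := by
  classical
  have key : ∀ s : Finset k, LinearMap.ker (Polynomial.aeval (g.restrictScalars k)
      (∏ ζ ∈ s, (Polynomial.X - Polynomial.C ζ))) ≤
        ⨆ μ : k, Module.End.eigenspace (g.restrictScalars k) μ := by
    intro s
    induction s using Finset.induction_on with
    | empty =>
      intro x hx
      simp only [Finset.prod_empty, map_one, LinearMap.mem_ker, Module.End.one_apply] at hx
      rw [hx]
      exact Submodule.zero_mem _
    | insert a s ha ih =>
      rw [Finset.prod_insert ha, ← Polynomial.sup_ker_aeval_eq_ker_aeval_mul_of_coprime]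
      · refine sup_le ?_ ih
        refine le_trans ?_ (le_iSup (fun μ : k => Module.End.eigenspace (g.restrictScalars k) μ) a)
        intro x hx
        rw [Module.End.mem_eigenspace_iff]
        simpa [sub_eq_zero, Module.algebraMap_end_apply] using hx
      · refine IsCoprime.prod_right fun b hb => ?_
        refine Polynomial.isCoprime_X_sub_C_of_isUnit_sub ?_
        rw [isUnit_iff_ne_zero, sub_ne_zero]
        rintro rfl
        exact ha hb
  have : NeZero (m : k) := ⟨by exact_mod_cast hm.ne'⟩
  obtain ⟨ζ, hζ⟩ := HasEnoughRootsOfUnity.exists_primitiveRoot k m
  rw [eq_top_iff]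
  refine le_trans ?_ (key (Polynomial.nthRootsFinset m (1 : k)))
  rw [← Polynomial.X_pow_sub_one_eq_prod hm hζ]
  intro x _
  have h1 : ∀ (j : ℕ) (y : Fin n → R), ((g.restrictScalars k : Module.End k (Fin n → R)) ^ j) y = (g ^ j) y := by
    intro j
    induction j with
    | zero => intro y; rfl
    | succ j ih => intro y; rw [pow_succ, pow_succ, Module.End.mul_apply, Module.End.mul_apply, ih]; rfl
  simp [h1, hg]

end Groth.Agent.S16161
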