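import Groth.Statements.S16162
import Mathlib.AlgebraicGeometry.PullbackCarrier
import Mathlib.AlgebraicGeometry.Morphisms.UniversallyOpen
import Mathlib.AlgebraicGeometry.Morphisms.Flat

set_option autoImplicit false
open CategoryTheory MonoidalCategory CartesianMonoidalCategory MonObj GrpObj AlgebraicGeometry
universe u
open MadRed

namespace Groth.Agent.S16162

/-- Let S be a scheme, G a group scheme over S, and X an S-scheme with an action of G making X → S a
principal G-bundle (a torsor in the representable fppf sense: X → S surjective, flat and locally of
finite presentation, and G ×_S X → X ×_S X, (g, x) ↦ (g·x, x), an isomorphism). Let P be a closed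
subset of X stable under the action: the action map sends into P every point of G ×_S X whose second
projection lies in P. Then the image of P in S is closed, and P is the full preimage of its image.
(The source works with varieties over the complex numbers and an affine algebraic group; the
assertion holds over any base. Its second assertion, that P → image is again a principal bundle for
the induced reduced structures, then comes from base change and is not part of this row.) -/
theorem result {S : Scheme.{u}}
    {G X : Over S} [GrpObj G] (a : AlgGrp.Action G X) (ha : RedSub.IsTorsor a)
    (P : Set X.left) (hP : IsClosed P)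
    (hstab : ∀ w : (G ⊗ X).left, (snd G X).left.base w ∈ P → a.act.left.base w ∈ P) :
    IsClosed (X.hom.base '' P) ∧ X.hom.base ⁻¹' (X.hom.base '' P) = P := by
  obtain ⟨h1, h2, h3, h4⟩ := ha
  have hpre : X.hom.base ⁻¹' (X.hom.base '' P) = P := by
    refine le_antisymm ?_ (Set.subset_preimage_image _ _)
    rintro x ⟨p, hp, hxp⟩
    obtain ⟨z, hz1, hz2⟩ := Scheme.Pullback.exists_preimage_pullback (f := X.hom) (g := X.hom)
      x p hxp.symm
    let e := asIso (lift a.act (snd G X))
    have e1 : e.inv.left ≫ (snd G X).left = (snd X X).left := by
      rw [← Over.comp_left]
      congr 1
      rw [Iso.inv_comp_eq]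
      simp [e]
    have e2 : e.inv.left ≫ a.act.left = (fst X X).left := by
      rw [← Over.comp_left]
      congr 1
      rw [Iso.inv_comp_eq]
      simp [e]
    have h5 : (snd G X).left.base (e.inv.left.base z) = p := by
      rw [← hz2]
      have := congrArg (fun f => f.base z) e1
      simpa using this
    have h6 : a.act.left.base (e.inv.left.base z) = x := by
      rw [← hz1]
      have := congrArg (fun f => f.base z) e2
      simpa using this
    rw [← h6]
    apply hstab
    rw [h5]
    exact hp
  refine ⟨?_, hpre⟩
  have hopen : IsOpenMap X.hom.base := X.hom.isOpenMap
  have hq : Topology.IsQuotientMap X.hom.base :=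
    hopen.isQuotientMap X.hom.continuous X.hom.surjective
  rw [← hq.isClosed_preimage, hpre]
  exact hP

end Groth.Agent.S16162
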