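import Groth.Statements.S16163
import Groth.Agent.MadRed.K187.Dict
import Mathlib.Analysis.Complex.Cardinality

set_option autoImplicit false
open CategoryTheory MonoidalCategory CartesianMonoidalCategory MonObj GrpObj AlgebraicGeometry
open MadRed

namespace Groth.Agent.S16163

open WithConv
open scoped Polynomial
open Groth.Agent.Books.DynBasic (mapPt)
open Groth.Agent.Books.AffBridge K187.Dict K187.TorFam
open Groth.Agent.Sga3B.RootOrb (torPt)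

/-- Let G be a reductive group over the complex numbers and D ⊆ G a maximal torus. Call a set T of
C[X]-valued points of G (morphisms from the affine line to G over Spec C) a family of maximal tori
when for every complex point s of the affine line the evaluations t(s), t ∈ T, form a G(C)-conjugate
h·D(C)·h⁻¹ of the complex points of D (all maximal tori of G(C) are of this form). Then every such T
is conjugate to D(C) under G(C[X]): there is a C[X]-point ρ of G with T equal to the set of ρ⁻¹·d·ρ,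
d running over the complex points of D viewed as constant C[X]-points. -/
theorem result
    (G : Over (Spec (CommRingCat.of ℂ))) [GrpObj G] (hG : Red.IsReductiveOver ℂ G)
    {D : Over (Spec (CommRingCat.of ℂ))} [GrpObj D] (i : D ⟶ G) (hD : Red.IsMaximalTorus i)
    (T : Set (MadRed.A1 ℂ ⟶ G))
    (hT : ∀ x : 𝟙_ (Over (Spec (CommRingCat.of ℂ))) ⟶ MadRed.A1 ℂ,
      ∃ h : 𝟙_ (Over (Spec (CommRingCat.of ℂ))) ⟶ G,
        (fun t : MadRed.A1 ℂ ⟶ G => x ≫ t) '' T =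
          Set.range (fun d : 𝟙_ (Over (Spec (CommRingCat.of ℂ))) ⟶ D => h * (d ≫ i) * h⁻¹)) :
    ∃ ρ : MadRed.A1 ℂ ⟶ G,
      T = Set.range (fun d : 𝟙_ (Over (Spec (CommRingCat.of ℂ))) ⟶ D =>
        ρ⁻¹ * (toUnit (MadRed.A1 ℂ) ≫ d ≫ i) * ρ) := by
  classical
  have hG' : Red.IsReductive G := Groth.Agent.Sga3B.AlgBc.isReductive_iff.2 hG
  obtain ⟨r, ⟨sp⟩⟩ := Groth.Agent.Sga3B.TorusAlgClosed.exists_isSplitTorusWith hD.2.2.1
  obtain ⟨A, _, _, e, p, he, hsm, hps, hpc, hp⟩ := K187.RedData.exists_data hG' i hD sp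
  have hunc : Uncountable ℂ := by
    rw [uncountable_iff_not_countable]
    intro h
    exact not_countable_complex (Set.countable_univ)
  -- the terminal object
  let j : SpecOver ℂ ℂ ⟶ 𝟙_ (Over (Spec (CommRingCat.of ℂ))) := toUnit _
  have hj : IsIso j := by
    have h1 : IsIso j.left := by
      have h2 : j.left = (SpecOver ℂ ℂ).hom := Over.toUnit_left
      rw [h2]
      change IsIso (Spec.map (𝟙 _))
      infer_instance
    have h3 : IsIso ((Over.forget _).map j) := h1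
    exact isIso_of_reflects_iso j (Over.forget _)
  let Ψ : (𝟙_ (Over (Spec (CommRingCat.of ℂ))) ⟶ G) → WithConv (A →ₐ[ℂ] ℂ) := fun h => Φ e (j ≫ h)
  let Θ : (MadRed.A1 ℂ ⟶ G) → WithConv (A →ₐ[ℂ] ℂ[X]) := fun t => Φ (C := ℂ[X]) e t
  have hΘinj : Function.Injective Θ := Φ_injective e
  have hΘsurj : Function.Surjective Θ := Φ_surjective e
  have hΘmul : ∀ t t', Θ (t * t') = Θ t * Θ t' := Φ_mul e
  have hΘinv : ∀ t, Θ t⁻¹ = (Θ t)⁻¹ := Φ_inv e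
  have hΨmul : ∀ t t', Ψ (t * t') = Ψ t * Ψ t' := by
    intro t t'
    change Φ e (j ≫ (t * t')) = _
    rw [MonObj.comp_mul, Φ_mul]
  have hΨinv : ∀ t, Ψ t⁻¹ = (Ψ t)⁻¹ := by
    intro t
    change Φ e (j ≫ t⁻¹) = _
    rw [GrpObj.comp_inv, Φ_inv]
  let xs : ℂ → (𝟙_ (Over (Spec (CommRingCat.of ℂ))) ⟶ MadRed.A1 ℂ) := fun s =>
    inv j ≫ (specMap ℂ (Polynomial.aeval s : ℂ[X] →ₐ[ℂ] ℂ) : SpecOver ℂ ℂ ⟶ SpecOver ℂ ℂ[X])
  have hxs : ∀ (s : ℂ) (t : MadRed.A1 ℂ ⟶ G), Ψ (xs s ≫ t) = evPt s (Θ t) := by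
    intro s t
    change Φ e (j ≫ (inv j ≫ (specMap ℂ (Polynomial.aeval s : ℂ[X] →ₐ[ℂ] ℂ) :
      SpecOver ℂ ℂ ⟶ SpecOver ℂ ℂ[X])) ≫ t) = _
    rw [Category.assoc, IsIso.hom_inv_id_assoc]
    exact Φ_comp e _ _
  have hconst : ∀ h : 𝟙_ (Over (Spec (CommRingCat.of ℂ))) ⟶ G,
      Θ (toUnit (MadRed.A1 ℂ) ≫ h) = cPt (Ψ h) := by
    intro h
    have h1 : toUnit (MadRed.A1 ℂ) =
        (specMap ℂ (Algebra.ofId ℂ ℂ[X]) : SpecOver ℂ ℂ[X] ⟶ SpecOver ℂ ℂ) ≫ j :=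
      toUnit_unique _ _
    have h2 : toUnit (MadRed.A1 ℂ) ≫ h =
        (specMap ℂ (Algebra.ofId ℂ ℂ[X]) : SpecOver ℂ ℂ[X] ⟶ SpecOver ℂ ℂ) ≫ j ≫ h :=
      (congrArg (fun x : MadRed.A1 ℂ ⟶ 𝟙_ (Over (Spec (CommRingCat.of ℂ))) => x ≫ h) h1).trans
        (Category.assoc _ _ _)
    exact (congrArg Θ h2).trans (Φ_comp e _ _)
  have htor1 : ∀ d : 𝟙_ (Over (Spec (CommRingCat.of ℂ))) ⟶ D,
      ∃ δ : Multiplicative (Fin r → ℤ) →* ℂˣ, Ψ (d ≫ i) = torPt p δ := by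
    intro d
    obtain ⟨δ, hδ⟩ := exists_torPt e hp (j ≫ d)
    refine ⟨δ, ?_⟩
    rw [← hδ, Category.assoc]
  have htor2 : ∀ δ : Multiplicative (Fin r → ℤ) →* ℂˣ,
      ∃ d : 𝟙_ (Over (Spec (CommRingCat.of ℂ))) ⟶ D, Ψ (d ≫ i) = torPt p δ := by
    intro δ
    obtain ⟨t, ht⟩ := exists_Φ_tor e hp δ
    refine ⟨inv j ≫ t, ?_⟩
    rw [← ht]
    change Φ e (j ≫ (inv j ≫ t) ≫ i) = _
    rw [Category.assoc, IsIso.hom_inv_id_assoc]
  obtain ⟨ρ', hρ'⟩ := K187.TorMain.main hps hpc (Θ '' T) (by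
    intro s
    obtain ⟨h, hh⟩ := hT (xs s)
    refine ⟨Ψ h, ?_⟩
    ext g
    constructor
    · rintro ⟨_, ⟨t, ht, rfl⟩, rfl⟩
      have h1 : xs s ≫ t ∈ (fun t : MadRed.A1 ℂ ⟶ G => xs s ≫ t) '' T := ⟨t, ht, rfl⟩
      rw [hh] at h1
      obtain ⟨d, hd⟩ := h1
      obtain ⟨δ, hδ⟩ := htor1 d
      refine ⟨δ, ?_⟩
      change Ψ h * torPt p δ * (Ψ h)⁻¹ = evPt s (Θ t)
      rw [← hxs, ← hδ, ← hΨinv, ← hΨmul, ← hΨmul]
      exact congrArg Ψ hd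
    · rintro ⟨δ, rfl⟩
      obtain ⟨d, hd⟩ := htor2 δ
      have h1 : h * (d ≫ i) * h⁻¹ ∈ (fun t : MadRed.A1 ℂ ⟶ G => xs s ≫ t) '' T := by
        rw [hh]
        exact ⟨d, rfl⟩
      obtain ⟨t, ht, htd⟩ := h1
      refine ⟨Θ t, ⟨t, ht, rfl⟩, ?_⟩
      change evPt s (Θ t) = Ψ h * torPt p δ * (Ψ h)⁻¹
      rw [← hxs, ← hd, ← hΨinv, ← hΨmul, ← hΨmul]
      exact congrArg Ψ htd)
  obtain ⟨ρ, hρ⟩ := hΘsurj ρ'
  refine ⟨ρ, ?_⟩
  have hval : ∀ (d : 𝟙_ (Over (Spec (CommRingCat.of ℂ))) ⟶ D)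
      (δ : Multiplicative (Fin r → ℤ) →* ℂˣ), Ψ (d ≫ i) = torPt p δ →
      Θ (ρ⁻¹ * (toUnit (MadRed.A1 ℂ) ≫ d ≫ i) * ρ) = ρ'⁻¹ * cPt (torPt p δ) * ρ' := by
    intro d δ h
    rw [hΘmul, hΘmul, hΘinv, hρ, hconst, h]
  ext t
  constructor
  · intro ht
    have h1 : Θ t ∈ Θ '' T := ⟨t, ht, rfl⟩
    rw [hρ'] at h1
    obtain ⟨δ, hδ⟩ := h1
    obtain ⟨d, hd⟩ := htor2 δ
    refine ⟨d, hΘinj ?_⟩
    exact (hval d δ hd).trans hδ
  · rintro ⟨d, rfl⟩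
    obtain ⟨δ, hδ⟩ := htor1 d
    have h1 : Θ (ρ⁻¹ * (toUnit (MadRed.A1 ℂ) ≫ d ≫ i) * ρ) ∈ Θ '' T := by
      rw [hρ', hval d δ hδ]
      exact ⟨δ, rfl⟩
    obtain ⟨t, ht, htd⟩ := h1
    have h2 := hΘinj htd
    change ρ⁻¹ * (toUnit (MadRed.A1 ℂ) ≫ d ≫ i) * ρ ∈ T
    rw [← h2]
    exact ht


end Groth.Agent.S16163
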