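import Groth.Statements.S16164
-- import your own Groth.Agent.* helpers here

set_option autoImplicit false
open Neron

namespace Groth.Agent.S16164

/-- Every vector of a positive definite lattice is a sum of vectors lying in both decompositions. -/
theorem mem_of_two_decomp {V : Type*} [AddCommGroup V] (B : V → V → ℤ)
    (hadd : ∀ u v w, B (u + v) w = B u w + B v w) (hsymm : ∀ u v, B u v = B v u)
    (hpos : ∀ v, v ≠ 0 → 0 < B v v)
    (Y₁ Y₂ L L' S : Set V)
    (hY : ∀ v, ∃ y₁ ∈ Y₁, ∃ y₂ ∈ Y₂, v = y₁ + y₂ ∧ B y₁ y₂ = 0)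
    (hL : ∀ v, ∃ y₁ ∈ L, ∃ y₂ ∈ L', v = y₁ + y₂ ∧ B y₁ y₂ = 0)
    (hS : ∀ v w, v ∈ S → w ∈ S → v + w ∈ S)
    (hG : ∀ v, (v ∈ Y₁ ∨ v ∈ Y₂) → (v ∈ L ∨ v ∈ L') → v ∈ S) (v : V) : v ∈ S := by
  have hB : ∀ u v, B (u + v) (u + v) = B u u + 2 * B u v + B v v := by
    intro u v
    rw [hadd, hsymm u (u + v), hsymm v (u + v), hadd, hadd, hsymm v u]
    ring
  suffices h : ∀ (n : ℕ) (v : V), (B v v).toNat = n → v ∈ S from h _ v rfl
  intro n
  induction n using Nat.strong_induction_on with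
  | _ n ih =>
    intro v hv
    by_cases hdec : ∃ y z, y ≠ 0 ∧ z ≠ 0 ∧ B y z = 0 ∧ v = y + z
    · obtain ⟨y, z, hy, hz, hyz, rfl⟩ := hdec
      have h1 := hB y z
      have h2 := hpos y hy
      have h3 := hpos z hz
      refine hS _ _ (ih (B y y).toNat ?_ y rfl) (ih (B z z).toNat ?_ z rfl)
      · omega
      · omega
    · push Not at hdec
      refine hG v ?_ ?_
      · obtain ⟨y, hy, z, hz, rfl, hyz⟩ := hY v
        by_cases h0 : y = 0
        · subst h0; right; simpa using hz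
        · by_cases h1 : z = 0
          · subst h1; left; simpa using hy
          · exact absurd rfl (hdec y z h0 h1 hyz)
      · obtain ⟨y, hy, z, hz, rfl, hyz⟩ := hL v
        by_cases h0 : y = 0
        · subst h0; right; simpa using hz
        · by_cases h1 : z = 0
          · subst h1; left; simpa using hy
          · exact absurd rfl (hdec y z h0 h1 hyz)

/-- Let X, Y₁, Y₂ be finitely generated free abelian groups with chosen bases, so that homomorphisms are
integer matrices acting on column vectors and each group is identified with its dual; let P : X → Y₁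
and Q : X → Y₂ be surjective with A = (P over Q) : X → Y₁ ⊕ Y₂ injective, and let Ψ₁, Ψ₂ be
symmetric positive-definite integer matrices on Y₁ and Y₂, Ψ their block-diagonal sum. If the image
of Aᵀ Ψ : Y₁ ⊕ Y₂ → X coincides with the image of Aᵀ Ψ A : X → X (the reverse inclusion always
holds), then A is bijective. (In the source X, Y₁, Y₂ are character groups of maximal tori, P and Q
specialization maps, Ψ₁ and Ψ₂ monodromy pairings, and the hypothesis expresses that two groups of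
components coincide.) -/
theorem result
    {ι κ₁ κ₂ : Type} [Fintype ι] [Fintype κ₁] [Fintype κ₂]
    (P : Matrix κ₁ ι ℤ) (Q : Matrix κ₂ ι ℤ)
    (hP : Function.Surjective P.mulVec) (hQ : Function.Surjective Q.mulVec)
    (hA : Function.Injective (Matrix.fromRows P Q).mulVec)
    (Ψ₁ : Matrix κ₁ κ₁ ℤ) (Ψ₂ : Matrix κ₂ κ₂ ℤ) (hΨ₁ : Ψ₁.IsSymm) (hΨ₂ : Ψ₂.IsSymm)
    (hΨ₁pos : ∀ y : κ₁ → ℤ, y ≠ 0 → 0 < y ⬝ᵥ Ψ₁.mulVec y)
    (hΨ₂pos : ∀ y : κ₂ → ℤ, y ≠ 0 → 0 < y ⬝ᵥ Ψ₂.mulVec y)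
    (himage : LinearMap.range ((Matrix.fromRows P Q).transpose * Matrix.fromBlocks Ψ₁ 0 0 Ψ₂).mulVecLin =
      LinearMap.range ((Matrix.fromRows P Q).transpose * Matrix.fromBlocks Ψ₁ 0 0 Ψ₂ * Matrix.fromRows P Q).mulVecLin) :
    Function.Bijective (Matrix.fromRows P Q).mulVec := by
  refine ⟨hA, ?_⟩
  classical
  set A := Matrix.fromRows P Q with hAdef
  set M := Matrix.fromBlocks Ψ₁ 0 0 Ψ₂ with hM
  have hMsymm : M.IsSymm := by
    rw [Matrix.IsSymm, hM, Matrix.fromBlocks_transpose, hΨ₁.eq, hΨ₂.eq]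
    simp
  have hMv : ∀ v : κ₁ ⊕ κ₂ → ℤ, v ⬝ᵥ M.mulVec v =
      (v ∘ Sum.inl) ⬝ᵥ Ψ₁.mulVec (v ∘ Sum.inl) + (v ∘ Sum.inr) ⬝ᵥ Ψ₂.mulVec (v ∘ Sum.inr) := by
    intro v
    rw [hM, Matrix.fromBlocks_mulVec]
    simp [dotProduct, Fintype.sum_sum_type]
  have hnn₁ : ∀ y : κ₁ → ℤ, 0 ≤ y ⬝ᵥ Ψ₁.mulVec y := by
    intro y
    by_cases h : y = 0
    · subst h; simp
    · exact (hΨ₁pos y h).le
  have hnn₂ : ∀ y : κ₂ → ℤ, 0 ≤ y ⬝ᵥ Ψ₂.mulVec y := by
    intro y
    by_cases h : y = 0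
    · subst h; simp
    · exact (hΨ₂pos y h).le
  have hpos : ∀ v : κ₁ ⊕ κ₂ → ℤ, v ≠ 0 → 0 < v ⬝ᵥ M.mulVec v := by
    intro v hv
    rw [hMv]
    by_cases h1 : v ∘ Sum.inl = 0
    · have h2 : v ∘ Sum.inr ≠ 0 := by
        intro h2
        apply hv
        funext i
        rcases i with i | i
        · exact congrFun h1 i
        · exact congrFun h2 i
      exact add_pos_of_nonneg_of_pos (hnn₁ _) (hΨ₂pos _ h2)
    · exact add_pos_of_pos_of_nonneg (hΨ₁pos _ h1) (hnn₂ _)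
  have hsymm : ∀ u v : κ₁ ⊕ κ₂ → ℤ, u ⬝ᵥ M.mulVec v = v ⬝ᵥ M.mulVec u := by
    intro u v
    rw [Matrix.dotProduct_mulVec, ← Matrix.mulVec_transpose, hMsymm.eq, dotProduct_comm]
  -- orthogonality between `range A` and `ker (Aᵀ Ψ)`
  have horth : ∀ (x : ι → ℤ) (z : κ₁ ⊕ κ₂ → ℤ), (A.transpose * M).mulVec z = 0 →
      A.mulVec x ⬝ᵥ M.mulVec z = 0 := by
    intro x z hz
    rw [← Matrix.mulVec_mulVec] at hz
    rw [← Matrix.vecMul_transpose, ← Matrix.dotProduct_mulVec, hz]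
    simp
  intro v
  refine mem_of_two_decomp (fun u v => u ⬝ᵥ M.mulVec v) (fun u v w => add_dotProduct _ _ _) hsymm hpos
    {v | v ∘ Sum.inr = 0} {v | v ∘ Sum.inl = 0} (Set.range A.mulVec)
    {z | (A.transpose * M).mulVec z = 0} (Set.range A.mulVec) ?_ ?_ ?_ ?_ v
  · intro v
    refine ⟨Sum.elim (v ∘ Sum.inl) 0, by simp, Sum.elim 0 (v ∘ Sum.inr), by simp, ?_, ?_⟩
    · funext i
      rcases i with i | i <;> simp
    · rw [hM, Matrix.fromBlocks_mulVec]
      simp [dotProduct, Fintype.sum_sum_type]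
  · intro v
    have hv : (A.transpose * M).mulVecLin v ∈ LinearMap.range (A.transpose * M).mulVecLin := ⟨v, rfl⟩
    rw [himage] at hv
    obtain ⟨x, hx⟩ := hv
    simp only [Matrix.mulVecLin_apply] at hx
    have hz : (A.transpose * M).mulVec (v - A.mulVec x) = 0 := by
      rw [Matrix.mulVec_sub, Matrix.mulVec_mulVec, hx, sub_self]
    exact ⟨A.mulVec x, ⟨x, rfl⟩, v - A.mulVec x, hz, by abel, horth x _ hz⟩
  · rintro _ _ ⟨x, rfl⟩ ⟨y, rfl⟩
    exact ⟨x + y, Matrix.mulVec_add _ _ _⟩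
  · rintro v hv (hvL | hvL)
    · exact hvL
    · rcases hv with hv | hv
      · -- `v` lies in `Y₁`
        obtain ⟨x, hx⟩ := hP (v ∘ Sum.inl)
        have h0 := horth x v hvL
        have h1 : A.mulVec x ⬝ᵥ M.mulVec v = v ⬝ᵥ M.mulVec v := by
          rw [hMv v, hM, Matrix.fromBlocks_mulVec, hAdef, Matrix.fromRows_mulVec, hx]
          simp only [Set.mem_setOf_eq] at hv
          simp [dotProduct, Fintype.sum_sum_type, hv]
        have hv0 : v = 0 := by
          by_contra hne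
          have := hpos v hne
          omega
        exact ⟨0, by rw [hv0]; simp⟩
      · obtain ⟨x, hx⟩ := hQ (v ∘ Sum.inr)
        have h0 := horth x v hvL
        have h1 : A.mulVec x ⬝ᵥ M.mulVec v = v ⬝ᵥ M.mulVec v := by
          rw [hMv v, hM, Matrix.fromBlocks_mulVec, hAdef, Matrix.fromRows_mulVec, hx]
          simp only [Set.mem_setOf_eq] at hv
          simp [dotProduct, Fintype.sum_sum_type, hv]
        have hv0 : v = 0 := by
          by_contra hne
          have := hpos v hne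
          omega
        exact ⟨0, by rw [hv0]; simp⟩

end Groth.Agent.S16164
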