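import Groth.Statements.S16165
import Groth.Agent.Neron.K545.RowA

set_option autoImplicit false
universe u
open CategoryTheory CategoryTheory.Limits AlgebraicGeometry MonObj
open Neron

namespace Groth.Agent.S16165

open Classical in
/-- Let R be a regular local ring which is henselian with separably closed residue field, r₁, …, rₙ
elements of the maximal ideal whose images in m_R/m_R² are linearly independent (so that D =
V(r₁⋯rₙ) is a strict normal crossing divisor with branches Dᵢ = V(rᵢ) and complement U = Spec
R[1/(r₁⋯rₙ)]), and 𝒜 a smooth, separated, commutative group scheme of finite type over Spec R whose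
geometric fibres contain no closed subgroup isomorphic to the additive group (its fibrewise identity
components are semi-abelian) and whose restriction to U is an abelian scheme (proper over U with
connected geometric fibres). Let ζᵢ be the generic point of Dᵢ and let μᵢ be the rank of a split
maximal torus Tᵢ of the geometric fibre of 𝒜 at ζᵢ (the toric rank at ζᵢ). Then for every point t of
Spec R and every split torus of rank m which is a subgroup of the geometric fibre of 𝒜 at t (through
a homomorphism that is a monomorphism), m ≤ Σ μᵢ, the sum over the indices i with rᵢ ∈ t, i.e. over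
the branches through t: the toric rank of the fibre at t is bounded by adding up, over the branches
containing t, the toric ranks at their generic points. -/
theorem result
    (R : Type u) [CommRing R] [IsDomain R] [IsRegularLocalRing R] [HenselianLocalRing R]
    [IsSepClosed (IsLocalRing.ResidueField R)]
    {n : ℕ} (r : Fin n → R) (hr : ∀ i, r i ∈ IsLocalRing.maximalIdeal R)
    (hli : LinearIndependent (IsLocalRing.ResidueField R)
      (fun i => (IsLocalRing.maximalIdeal R).toCotangent ⟨r i, hr i⟩))
    (𝒜 : Over (Spec (CommRingCat.of R))) [GrpObj 𝒜] [IsCommMonObj 𝒜]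
    [Smooth 𝒜.hom] [IsSeparated 𝒜.hom] [QuasiCompact 𝒜.hom]
    (hsab : SGA7.FibresUnipotentRankZero 𝒜)
    (hprop : IsProper (pullback.snd 𝒜.hom
      (Spec.map (CommRingCat.ofHom (algebraMap R (Localization.Away (∏ i, r i)))))))
    (hconn : ∀ (L : Type u) [Field L] (φ : R →+* L), φ (∏ i, r i) ≠ 0 →
      ConnectedSpace ↑(pullback 𝒜.hom (Spec.map (CommRingCat.ofHom φ))))
    (ζ : Fin n → ↥(Spec (CommRingCat.of R))) (hζ : ∀ i, (ζ i).asIdeal = Ideal.span {r i})
    (rk : Fin n → ℕ)
    (T : ∀ i, Over (Spec (CommRingCat.of (AlgebraicClosure ((Spec (CommRingCat.of R)).residueField (ζ i))))))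
    [∀ i, GrpObj (T i)] (j : ∀ i, T i ⟶ Red.geomFibre (ζ i) 𝒜)
    (hT : ∀ i, Red.IsMaximalTorus (j i)) (hTsplit : ∀ i, Red.IsSplitTorusWith (Fin (rk i) → ℤ) (T i))
    (t : ↥(Spec (CommRingCat.of R))) (m : ℕ)
    (Tt : Over (Spec (CommRingCat.of (AlgebraicClosure ((Spec (CommRingCat.of R)).residueField t))))) [GrpObj Tt]
    (jt : Tt ⟶ Red.geomFibre t 𝒜) [IsMonHom jt] [Mono jt] (hTt : Red.IsSplitTorusWith (Fin m → ℤ) Tt) :
    m ≤ ∑ i ∈ Finset.univ.filter (fun i => r i ∈ t.asIdeal), rk i := by
  exact K545.RowA.rowA R r hr hli 𝒜 hsab hprop hconn ζ hζ rk T j hT hTsplit t m Tt jt hTt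

end Groth.Agent.S16165
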