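import Groth.Statements.S16167
import Groth.Agent.Neron.K489.NcdD
import Groth.Agent.S13753

set_option autoImplicit false
universe u
open CategoryTheory CategoryTheory.Limits AlgebraicGeometry MonObj
open Neron

namespace Groth.Agent.S16167

/-- Let R be a regular local ring which is henselian with separably closed residue field k of
characteristic p ≥ 0, r₁, …, rₙ elements of the maximal ideal with linearly independent images in
m_R/m_R² (D = V(r₁⋯rₙ) a strict normal crossing divisor with branches Dᵢ = V(rᵢ), U = Spec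
R[1/(r₁⋯rₙ)]), and 𝒜 a semi-abelian scheme over Spec R — a smooth, separated, commutative group
scheme of finite type whose geometric fibres are connected and contain no closed subgroup isomorphic
to the additive group — whose restriction to U is an abelian scheme (proper over U). Let ζᵢ be the
generic point of Dᵢ, μᵢ the rank of a split maximal torus of the geometric fibre of 𝒜 at ζᵢ and μ
the rank of a split maximal torus of the geometric fibre at the closed point (toric ranks). Let K =
Frac R, Ω a separable closure of K, A the generic fibre of 𝒜 as a K-group scheme and, for every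
prime l, T_l = T_l(A)(Ω) the l-adic Tate module of Ω-points with ρ_l(σ) the map acting on every
component by the K-automorphism σ of Ω (this pins ρ). Condition ⋆(l): n = 0, or every element of T_l
is a sum z₁ + ⋯ + zₙ with zᵢ fixed by ρ_l(σ) for every σ fixing all l-power roots of rᵢ in Ω (the σ
mapping into ⊕_{j ≠ i} Iⱼ in the pro-l tame fundamental group ⊕ⱼ Iⱼ of U). If μ = μ₁ + ⋯ + μₙ (𝒜 is
weakly toric additive), then there is an integer N > 0 such that ⋆(l) holds for every prime l which
is invertible in k and does not divide N (𝒜 is l-toric additive for all but finitely many primes l). -/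
theorem result
    (R : Type u) [CommRing R] [IsDomain R] [IsRegularLocalRing R] [HenselianLocalRing R]
    [IsSepClosed (IsLocalRing.ResidueField R)]
    {n : ℕ} (r : Fin n → R) (hr : ∀ i, r i ∈ IsLocalRing.maximalIdeal R)
    (hli : LinearIndependent (IsLocalRing.ResidueField R)
      (fun i => (IsLocalRing.maximalIdeal R).toCotangent ⟨r i, hr i⟩))
    (𝒜 : Over (Spec (CommRingCat.of R))) [GrpObj 𝒜] [IsCommMonObj 𝒜]
    [Smooth 𝒜.hom] [IsSeparated 𝒜.hom] [QuasiCompact 𝒜.hom]
    (hsab : SGA7.FibresUnipotentRankZero 𝒜)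
    (hconn : ∀ (L : Type u) [Field L] (φ : R →+* L),
      ConnectedSpace ↑(pullback 𝒜.hom (Spec.map (CommRingCat.ofHom φ))))
    (hprop : IsProper (pullback.snd 𝒜.hom
      (Spec.map (CommRingCat.ofHom (algebraMap R (Localization.Away (∏ i, r i)))))))
    (ζ : Fin n → ↥(Spec (CommRingCat.of R))) (hζ : ∀ i, (ζ i).asIdeal = Ideal.span {r i})
    (rk : Fin n → ℕ)
    (T : ∀ i, Over (Spec (CommRingCat.of (AlgebraicClosure ((Spec (CommRingCat.of R)).residueField (ζ i))))))
    [∀ i, GrpObj (T i)] (j : ∀ i, T i ⟶ Red.geomFibre (ζ i) 𝒜)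
    (hT : ∀ i, Red.IsMaximalTorus (j i)) (hTsplit : ∀ i, Red.IsSplitTorusWith (Fin (rk i) → ℤ) (T i))
    (s : ↥(Spec (CommRingCat.of R))) (hs : s.asIdeal = IsLocalRing.maximalIdeal R)
    (m : ℕ) (Ts : Over (Spec (CommRingCat.of (AlgebraicClosure ((Spec (CommRingCat.of R)).residueField s)))))
    [GrpObj Ts] (js : Ts ⟶ Red.geomFibre s 𝒜)
    (hTs : Red.IsMaximalTorus js) (hTssplit : Red.IsSplitTorusWith (Fin m → ℤ) Ts)
    (hweak : m = ∑ i, rk i)
    (K Ω : Type u) [Field K] [Algebra R K] [IsFractionRing R K] [Field Ω] [Algebra K Ω] [IsSepClosure K Ω]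
    (A : Over (Spec (CommRingCat.of K))) [GrpObj A] [IsCommMonObj A]
    (e : Red.bc (Spec.map (CommRingCat.ofHom (algebraMap R K))) 𝒜 ≅ A) (he : IsMonHom e.hom)
    (ρ : ∀ l : ℕ, (Ω ≃ₐ[K] Ω) → AbDual.TateMod A l (SGA7.pt Ω) → AbDual.TateMod A l (SGA7.pt Ω))
    (hρ : ∀ (l : ℕ) (τ : Ω ≃ₐ[K] Ω) (z : AbDual.TateMod A l (SGA7.pt Ω)) (k : ℕ),
      (AbDual.TateMod.component A l (SGA7.pt Ω) k (ρ l τ z)).toMul =
        SGA7.galAct τ (AbDual.TateMod.component A l (SGA7.pt Ω) k z).toMul) :
    ∃ N : ℕ, 0 < N ∧ ∀ l : ℕ, l.Prime → ¬ l ∣ N → (l : IsLocalRing.ResidueField R) ≠ 0 →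
      (n = 0 ∨ ∀ z : AbDual.TateMod A l (SGA7.pt Ω), ∃ w : Fin n → AbDual.TateMod A l (SGA7.pt Ω),
        (∀ (i : Fin n) (σ : Ω ≃ₐ[K] Ω),
          (∀ (k : ℕ) (y : Ω), y ^ (l ^ k) = algebraMap K Ω (algebraMap R K (r i)) → σ y = y) →
            ρ l σ (w i) = w i) ∧
        ∑ i, w i = z) := by
  exact K489.NcdD.main R r hr hli 𝒜 hsab hconn hprop ζ hζ rk T j hT hTsplit s hs m Ts js hTs hTssplit hweak K Ω
    (fun l hl hlk ν σ τ x hx => Groth.Agent.S13753.result R r hr hli 𝒜 hsab hprop (fun L _ φ _ => hconn L φ)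
      K Ω l hl hlk ν σ τ x hx) A e he ρ hρ

end Groth.Agent.S16167
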