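import Groth.Statements.S16168
import Groth.Agent.Neron.K545.RowC

set_option autoImplicit false
universe u
open CategoryTheory CategoryTheory.Limits AlgebraicGeometry MonObj
open Neron

namespace Groth.Agent.S16168

open Classical in
/-- Let R be a regular local ring which is henselian with separably closed residue field k of
characteristic p ≥ 0, r₁, …, rₙ elements of the maximal ideal with linearly independent images in
m_R/m_R² (D = V(r₁⋯rₙ) a strict normal crossing divisor with branches Dᵢ = V(rᵢ), U = Spec
R[1/(r₁⋯rₙ)]), and 𝒜 a semi-abelian scheme over Spec R — a smooth, separated, commutative group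
scheme of finite type whose geometric fibres are connected and contain no closed subgroup isomorphic
to the additive group — whose restriction to U is an abelian scheme (proper over U). Let ζᵢ be the
generic point of Dᵢ, μᵢ the rank of a split maximal torus of the geometric fibre of 𝒜 at ζᵢ and μ
the rank of a split maximal torus of the geometric fibre at the closed point (toric ranks). If μ =
μ₁ + ⋯ + μₙ (𝒜 is weakly toric additive at the closed point), then for every point t of Spec R and
every split maximal torus of rank m' of the geometric fibre of 𝒜 at t, m' = Σ μᵢ, the sum over the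
indices i with rᵢ ∈ t (the branches through t): weak toric additivity then holds at every point of
Spec R. -/
theorem result
    (R : Type u) [CommRing R] [IsDomain R] [IsRegularLocalRing R] [HenselianLocalRing R]
    [IsSepClosed (IsLocalRing.ResidueField R)]
    {n : ℕ} (r : Fin n → R) (hr : ∀ i, r i ∈ IsLocalRing.maximalIdeal R)
    (hli : LinearIndependent (IsLocalRing.ResidueField R)
      (fun i => (IsLocalRing.maximalIdeal R).toCotangent ⟨r i, hr i⟩))
    (𝒜 : Over (Spec (CommRingCat.of R))) [GrpObj 𝒜] [IsCommMonObj 𝒜]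
    [Smooth 𝒜.hom] [IsSeparated 𝒜.hom] [QuasiCompact 𝒜.hom]
    (hsab : SGA7.FibresUnipotentRankZero 𝒜)
    (hconn : ∀ (L : Type u) [Field L] (φ : R →+* L),
      ConnectedSpace ↑(pullback 𝒜.hom (Spec.map (CommRingCat.ofHom φ))))
    (hprop : IsProper (pullback.snd 𝒜.hom
      (Spec.map (CommRingCat.ofHom (algebraMap R (Localization.Away (∏ i, r i)))))))
    (ζ : Fin n → ↥(Spec (CommRingCat.of R))) (hζ : ∀ i, (ζ i).asIdeal = Ideal.span {r i})
    (rk : Fin n → ℕ)
    (T : ∀ i, Over (Spec (CommRingCat.of (AlgebraicClosure ((Spec (CommRingCat.of R)).residueField (ζ i))))))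
    [∀ i, GrpObj (T i)] (j : ∀ i, T i ⟶ Red.geomFibre (ζ i) 𝒜)
    (hT : ∀ i, Red.IsMaximalTorus (j i)) (hTsplit : ∀ i, Red.IsSplitTorusWith (Fin (rk i) → ℤ) (T i))
    (s : ↥(Spec (CommRingCat.of R))) (hs : s.asIdeal = IsLocalRing.maximalIdeal R)
    (m : ℕ) (Ts : Over (Spec (CommRingCat.of (AlgebraicClosure ((Spec (CommRingCat.of R)).residueField s)))))
    [GrpObj Ts] (js : Ts ⟶ Red.geomFibre s 𝒜)
    (hTs : Red.IsMaximalTorus js) (hTssplit : Red.IsSplitTorusWith (Fin m → ℤ) Ts)
    (hweak : m = ∑ i, rk i)
    (t : ↥(Spec (CommRingCat.of R))) (m' : ℕ)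
    (Tt : Over (Spec (CommRingCat.of (AlgebraicClosure ((Spec (CommRingCat.of R)).residueField t))))) [GrpObj Tt]
    (jt : Tt ⟶ Red.geomFibre t 𝒜) (hTt : Red.IsMaximalTorus jt) (hTtsplit : Red.IsSplitTorusWith (Fin m' → ℤ) Tt) :
    m' = ∑ i ∈ Finset.univ.filter (fun i => r i ∈ t.asIdeal), rk i := by
  exact K545.RowC.rowC R r hr hli 𝒜 hsab hconn hprop ζ hζ rk T j hT hTsplit s hs m Ts js hTs hTssplit hweak t m' Tt jt hTt hTtsplit

end Groth.Agent.S16168
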