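import Groth.Agent.Neron.K489.NcdB

set_option autoImplicit false
universe u
open CategoryTheory CategoryTheory.Limits AlgebraicGeometry MonObj
open Neron

namespace Groth.Agent.S16169

/-- Let R be a regular local ring which is henselian with separably closed residue field k of
characteristic p ≥ 0, r₁, …, rₙ elements of the maximal ideal with linearly independent images in
m_R/m_R² (D = V(r₁⋯rₙ) a strict normal crossing divisor with branches Dᵢ = V(rᵢ), U = Spec
R[1/(r₁⋯rₙ)]), and 𝒜 a semi-abelian scheme over Spec R — a smooth, separated, commutative group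
scheme of finite type whose geometric fibres are connected and contain no closed subgroup isomorphic
to the additive group — whose restriction to U is an abelian scheme (proper over U); let moreover ℬ
↪ 𝒜 be a closed subgroup scheme over Spec R (a homomorphism which is a closed immersion) which is
itself semi-abelian with abelian restriction to U, so that B = ℬ_U is an abelian subscheme of A =
𝒜_U with semi-abelian prolongation ℬ. Let K = Frac R, Ω a separable closure of K, A the generic
fibre of 𝒜 as a K-group scheme, l a prime invertible in k, T = T_l(A)(Ω) the l-adic Tate module of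
Ω-points, and for a K-automorphism σ of Ω let ρ(σ) be the map of T acting on every component by σ
(this pins ρ). Say that condition ⋆(l) holds when n = 0 or every element of T is a sum z₁ + ⋯ + zₙ
with zᵢ fixed by ρ(σ) for every σ fixing all l-power roots of rᵢ in Ω (such σ are the ones whose
image in the pro-l tame fundamental group ⊕ⱼ Iⱼ of U, Iⱼ = ℤ_l(1) the factor of the branch Dⱼ, lies
in ⊕_{j ≠ i} Iⱼ; so ⋆(l) says T = Σᵢ T^{⊕_{j≠i} Iⱼ}); T_l(B)(Ω), ρ_B and ⋆(l) for B are defined in
the same way. If ⋆(l) holds for A (𝒜 is l-toric additive) then ⋆(l) holds for B (ℬ is l-toric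
additive). (The published statement prints the prolongation arrow from 𝒜 to ℬ; its proof works with
the maximal tori of ℬ as subtori of those of 𝒜, i.e. with ℬ a closed subgroup of 𝒜, which is the
reading stated here.) -/
theorem result
    (R : Type u) [CommRing R] [IsDomain R] [IsRegularLocalRing R] [HenselianLocalRing R]
    [IsSepClosed (IsLocalRing.ResidueField R)]
    {n : ℕ} (r : Fin n → R) (hr : ∀ i, r i ∈ IsLocalRing.maximalIdeal R)
    (hli : LinearIndependent (IsLocalRing.ResidueField R)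
      (fun i => (IsLocalRing.maximalIdeal R).toCotangent ⟨r i, hr i⟩))
    (𝒜 : Over (Spec (CommRingCat.of R))) [GrpObj 𝒜] [IsCommMonObj 𝒜]
    [Smooth 𝒜.hom] [IsSeparated 𝒜.hom] [QuasiCompact 𝒜.hom]
    (hsab : SGA7.FibresUnipotentRankZero 𝒜)
    (hconn : ∀ (L : Type u) [Field L] (φ : R →+* L),
      ConnectedSpace ↑(pullback 𝒜.hom (Spec.map (CommRingCat.ofHom φ))))
    (hprop : IsProper (pullback.snd 𝒜.hom
      (Spec.map (CommRingCat.ofHom (algebraMap R (Localization.Away (∏ i, r i)))))))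
    (ℬ : Over (Spec (CommRingCat.of R))) [GrpObj ℬ] [IsCommMonObj ℬ]
    [Smooth ℬ.hom] [IsSeparated ℬ.hom] [QuasiCompact ℬ.hom]
    (hsabB : SGA7.FibresUnipotentRankZero ℬ)
    (hconnB : ∀ (L : Type u) [Field L] (φ : R →+* L),
      ConnectedSpace ↑(pullback ℬ.hom (Spec.map (CommRingCat.ofHom φ))))
    (hpropB : IsProper (pullback.snd ℬ.hom
      (Spec.map (CommRingCat.ofHom (algebraMap R (Localization.Away (∏ i, r i)))))))
    (incl : ℬ ⟶ 𝒜) [IsMonHom incl] (hincl : IsClosedImmersion incl.left)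
    (K Ω : Type u) [Field K] [Algebra R K] [IsFractionRing R K] [Field Ω] [Algebra K Ω] [IsSepClosure K Ω]
    (A : Over (Spec (CommRingCat.of K))) [GrpObj A] [IsCommMonObj A]
    (e : Red.bc (Spec.map (CommRingCat.ofHom (algebraMap R K))) 𝒜 ≅ A) (he : IsMonHom e.hom)
    (l : ℕ) (hl : l.Prime) (hlp : (l : IsLocalRing.ResidueField R) ≠ 0)
    (ρ : (Ω ≃ₐ[K] Ω) → AbDual.TateMod A l (SGA7.pt Ω) → AbDual.TateMod A l (SGA7.pt Ω))
    (hρ : ∀ (τ : Ω ≃ₐ[K] Ω) (z : AbDual.TateMod A l (SGA7.pt Ω)) (k : ℕ),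
      (AbDual.TateMod.component A l (SGA7.pt Ω) k (ρ τ z)).toMul =
        SGA7.galAct τ (AbDual.TateMod.component A l (SGA7.pt Ω) k z).toMul)
    (B : Over (Spec (CommRingCat.of K))) [GrpObj B] [IsCommMonObj B]
    (eB : Red.bc (Spec.map (CommRingCat.ofHom (algebraMap R K))) ℬ ≅ B) (heB : IsMonHom eB.hom)
    (ρB : (Ω ≃ₐ[K] Ω) → AbDual.TateMod B l (SGA7.pt Ω) → AbDual.TateMod B l (SGA7.pt Ω))
    (hρB : ∀ (τ : Ω ≃ₐ[K] Ω) (z : AbDual.TateMod B l (SGA7.pt Ω)) (k : ℕ),
      (AbDual.TateMod.component B l (SGA7.pt Ω) k (ρB τ z)).toMul =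
        SGA7.galAct τ (AbDual.TateMod.component B l (SGA7.pt Ω) k z).toMul)
    (hstar : (n = 0 ∨ ∀ z : AbDual.TateMod A l (SGA7.pt Ω), ∃ w : Fin n → AbDual.TateMod A l (SGA7.pt Ω),
        (∀ (i : Fin n) (σ : Ω ≃ₐ[K] Ω),
          (∀ (k : ℕ) (y : Ω), y ^ (l ^ k) = algebraMap K Ω (algebraMap R K (r i)) → σ y = y) →
            ρ σ (w i) = w i) ∧
        ∑ i, w i = z)) :
    (n = 0 ∨ ∀ z : AbDual.TateMod B l (SGA7.pt Ω), ∃ w : Fin n → AbDual.TateMod B l (SGA7.pt Ω),
        (∀ (i : Fin n) (σ : Ω ≃ₐ[K] Ω),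
          (∀ (k : ℕ) (y : Ω), y ^ (l ^ k) = algebraMap K Ω (algebraMap R K (r i)) → σ y = y) →
            ρB σ (w i) = w i) ∧
        ∑ i, w i = z) := by
  exact K489.NcdB.main R r hr hli 𝒜 hsab hconn hprop ℬ hsabB hconnB hpropB incl hincl K Ω A e he l hl hlp ρ hρ
    B eB heB ρB hρB hstar

end Groth.Agent.S16169
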