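import Groth.Statements.S16170
-- import your own Groth.Agent.* helpers here
import Mathlib.Tactic

set_option autoImplicit false
open Neron

namespace Groth.Agent.S16170

variable {ι : Type} [Fintype ι] [DecidableEq ι]

open Matrix in
theorem aux (M N χ₁ χ₂ : Matrix ι ι ℤ) (hM : M.IsSymm) (hN : N.IsSymm)
    (hMpos : ∀ v : ι → ℤ, 0 ≤ v ⬝ᵥ M.mulVec v) (hNpos : ∀ v : ι → ℤ, 0 ≤ v ⬝ᵥ N.mulVec v)
    (hpos : ∀ v : ι → ℤ, v ≠ 0 → 0 < v ⬝ᵥ (M + N).mulVec v)
    (hsum : χ₁ + χ₂ = 1) (hrel : M * χ₂ = N * χ₁) :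
    χ₁ * χ₂ = 0 := by
  set S : Matrix ι ι ℤ := M + N with hS
  have hS1 : S * χ₁ = M := by
    have : M = M * (χ₁ + χ₂) := by rw [hsum, Matrix.mul_one]
    rw [Matrix.mul_add, hrel] at this
    rw [hS, Matrix.add_mul]
    exact this.symm
  have hS2 : S * χ₂ = N := by
    have : N = N * (χ₁ + χ₂) := by rw [hsum, Matrix.mul_one]
    rw [Matrix.mul_add, ← hrel] at this
    rw [hS, Matrix.add_mul]
    exact this.symm
  have hSsymm : S.IsSymm := hM.add hN
  -- the form
  let B : (ι → ℤ) → (ι → ℤ) → ℤ := fun v w => v ⬝ᵥ S.mulVec w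
  have hBsymm : ∀ v w, B v w = B w v := by
    intro v w
    simp only [B]
    rw [Matrix.dotProduct_mulVec, ← Matrix.mulVec_transpose, hSsymm, dotProduct_comm]
  have hB1 : ∀ v w, B v (χ₁.mulVec w) = v ⬝ᵥ M.mulVec w := by
    intro v w; simp only [B]; rw [Matrix.mulVec_mulVec, hS1]
  have hB2 : ∀ v w, B v (χ₂.mulVec w) = v ⬝ᵥ N.mulVec w := by
    intro v w; simp only [B]; rw [Matrix.mulVec_mulVec, hS2]
  have hM' : ∀ v w : ι → ℤ, v ⬝ᵥ M.mulVec w = w ⬝ᵥ M.mulVec v := by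
    intro v w
    rw [Matrix.dotProduct_mulVec, ← Matrix.mulVec_transpose, hM, dotProduct_comm]
  have hN' : ∀ v w : ι → ℤ, v ⬝ᵥ N.mulVec w = w ⬝ᵥ N.mulVec v := by
    intro v w
    rw [Matrix.dotProduct_mulVec, ← Matrix.mulVec_transpose, hN, dotProduct_comm]
  have hA1 : ∀ v w, B (χ₁.mulVec v) w = B v (χ₁.mulVec w) := by
    intro v w; rw [hBsymm, hB1, hM', hB1]
  have hA2 : ∀ v w, B (χ₂.mulVec v) w = B v (χ₂.mulVec w) := by
    intro v w; rw [hBsymm, hB2, hN', hB2]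
  have hadd : ∀ v, χ₁.mulVec v + χ₂.mulVec v = v := by
    intro v; rw [← Matrix.add_mulVec, hsum, Matrix.one_mulVec]
  have hcomm : χ₁ * χ₂ = χ₂ * χ₁ := by
    have : χ₂ = 1 - χ₁ := by rw [← hsum]; abel
    rw [this]; noncomm_ring
  have hBadd : ∀ u v w, B (u + v) w = B u w + B v w := by
    intro u v w; simp only [B]; rw [add_dotProduct]
  have hBadd' : ∀ u v w, B w (u + v) = B w u + B w v := by
    intro u v w; rw [hBsymm, hBadd, hBsymm u, hBsymm v]
  -- the quadratic form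
  let q : (ι → ℤ) → ℤ := fun v => B v v
  have hqnn : ∀ v, 0 ≤ q v := by
    intro v
    by_cases h : v = 0
    · subst h; simp [q, B]
    · exact (hpos v h).le
  have hq0 : ∀ v, q v = 0 → v = 0 := by
    intro v hv
    by_contra h
    exact absurd hv (hpos v h).ne'
  have h1nn : ∀ v, 0 ≤ B v (χ₁.mulVec v) := fun v => by rw [hB1]; exact hMpos v
  have h2nn : ∀ v, 0 ≤ B v (χ₂.mulVec v) := fun v => by rw [hB2]; exact hNpos v
  -- cross term is nonnegative
  have hcross : ∀ v, 0 ≤ B (χ₁.mulVec v) (χ₂.mulVec v) := by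
    intro v
    have e : B (χ₁.mulVec v) (χ₂.mulVec v) =
        B (χ₁.mulVec v) (χ₂.mulVec (χ₁.mulVec v)) + B (χ₂.mulVec v) (χ₁.mulVec (χ₂.mulVec v)) := by
      have h3 : χ₂.mulVec (χ₁.mulVec v) = χ₁.mulVec (χ₂.mulVec v) := by
        rw [Matrix.mulVec_mulVec, Matrix.mulVec_mulVec, hcomm]
      rw [h3, ← hBadd, hadd, ← hA1]
    rw [e]
    exact add_nonneg (h2nn _) (h1nn _)
  have hle : ∀ v, q (χ₁.mulVec v) + q (χ₂.mulVec v) ≤ q v := by
    intro v
    have : q v = q (χ₁.mulVec v) + q (χ₂.mulVec v) + 2 * B (χ₁.mulVec v) (χ₂.mulVec v) := by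
      conv_lhs => simp only [q]; rw [← hadd v]
      rw [hBadd, hBadd', hBadd', hBsymm (χ₂.mulVec v) (χ₁.mulVec v)]
      simp only [q]
      ring
    have := hcross v
    linarith
  let P : (ι → ℤ) → (ι → ℤ) := fun v => χ₁.mulVec (χ₂.mulVec v)
  have hP : ∀ v, 2 * q (P v) ≤ q v := by
    intro v
    have h3 : χ₂.mulVec (χ₁.mulVec v) = χ₁.mulVec (χ₂.mulVec v) := by
      rw [Matrix.mulVec_mulVec, Matrix.mulVec_mulVec, hcomm]
    have a := hle v
    have b := hle (χ₂.mulVec v)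
    have c := hle (χ₁.mulVec v)
    rw [h3] at c
    have d := hqnn (χ₂.mulVec (χ₂.mulVec v))
    have e := hqnn (χ₁.mulVec (χ₁.mulVec v))
    simp only [P]
    linarith
  have hPadj : ∀ v w, B (P v) w = B v (P w) := by
    intro v w
    simp only [P]
    have h3 : ∀ w, χ₂.mulVec (χ₁.mulVec w) = χ₁.mulVec (χ₂.mulVec w) := fun w => by
      rw [Matrix.mulVec_mulVec, Matrix.mulVec_mulVec, hcomm]
    rw [hA1, hA2, h3]
  -- nilpotency
  have hnil : ∀ (n : ℕ) (v), q v ≤ n → ∃ k, P^[k] v = 0 := by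
    intro n
    induction n using Nat.strong_induction_on with
    | _ n ih =>
      intro v hv
      by_cases h : v = 0
      · exact ⟨0, by simpa using h⟩
      · have h1 := hpos v h
        have h2 := hP v
        have h4 := hqnn (P v)
        have h1' : 0 < q v := h1
        obtain ⟨k, hk⟩ := ih (q (P v)).toNat (by omega) (P v) (by rw [Int.toNat_of_nonneg h4])
        exact ⟨k + 1, by rw [Function.iterate_succ_apply]; exact hk⟩
  have hP2 : ∀ v, P (P v) = 0 → P v = 0 := by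
    intro v hv
    apply hq0
    simp only [q]
    rw [hPadj, hv]
    simp [B]
  have hPk : ∀ (k : ℕ) (v), P^[k + 1] v = 0 → P v = 0 := by
    intro k
    induction k with
    | zero => intro v hv; simpa using hv
    | succ k ih =>
      intro v hv
      rw [Function.iterate_succ_apply] at hv
      exact hP2 v (ih (P v) hv)
  have hP0 : ∀ v, P v = 0 := by
    intro v
    obtain ⟨k, hk⟩ := hnil (q v).toNat v (by rw [Int.toNat_of_nonneg (hqnn v)])
    cases k with
    | zero =>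
      have : v = 0 := by simpa using hk
      subst this
      simp [P]
    | succ k => exact hPk k v hk
  ext i j
  have := congrFun (hP0 (Pi.single j 1)) i
  simp only [P] at this
  rw [Matrix.mulVec_mulVec, Matrix.mulVec_single_one] at this
  simpa using this

/-- Let M and N be symmetric positive-semidefinite integer matrices on the same finite index set whose
sum M + N is positive definite, and let χ₁, χ₂ be integer matrices with χ₁ + χ₂ = 1 and M χ₂ = N χ₁.
Then χ₁ and χ₂ are idempotent. (In the intended application M = Pᵀ Ψ₁ P and N = Qᵀ Ψ₂ Q for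
surjective integer matrices P, Q and positive-definite Ψ₁, Ψ₂.) -/
theorem result
    {ι : Type} [Fintype ι] [DecidableEq ι]
    (M N χ₁ χ₂ : Matrix ι ι ℤ) (hM : M.IsSymm) (hN : N.IsSymm)
    (hMpos : ∀ v : ι → ℤ, 0 ≤ v ⬝ᵥ M.mulVec v) (hNpos : ∀ v : ι → ℤ, 0 ≤ v ⬝ᵥ N.mulVec v)
    (hpos : ∀ v : ι → ℤ, v ≠ 0 → 0 < v ⬝ᵥ (M + N).mulVec v)
    (hsum : χ₁ + χ₂ = 1) (hrel : M * χ₂ = N * χ₁) :
    χ₁ * χ₁ = χ₁ ∧ χ₂ * χ₂ = χ₂ := by
  have h := aux M N χ₁ χ₂ hM hN hMpos hNpos hpos hsum hrel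
  constructor
  · have : χ₁ * (χ₁ + χ₂) = χ₁ := by rw [hsum, mul_one]
    rwa [mul_add, h, add_zero] at this
  · have : (χ₁ + χ₂) * χ₂ = χ₂ := by rw [hsum, one_mul]
    rwa [add_mul, h, zero_add] at this

end Groth.Agent.S16170
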