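import Groth.Statements.S16171
import Groth.Agent.Neron.K125.KumRow
import Groth.Agent.S13753

set_option autoImplicit false
universe u
open CategoryTheory CategoryTheory.Limits AlgebraicGeometry MonObj
open Neron

namespace Groth.Agent.S16171

/-- Let R be a regular local ring which is henselian with separably closed residue field k of
characteristic p ≥ 0, r₁, …, rₙ elements of the maximal ideal with linearly independent images in
m_R/m_R² (D = V(r₁⋯rₙ) a strict normal crossing divisor with branches Dᵢ = V(rᵢ), U = Spec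
R[1/(r₁⋯rₙ)]), and 𝒜 a semi-abelian scheme over Spec R — a smooth, separated, commutative group
scheme of finite type whose geometric fibres are connected and contain no closed subgroup isomorphic
to the additive group — whose restriction to U is an abelian scheme (proper over U). Let K = Frac R,
Ω a separable closure of K, A the generic fibre of 𝒜 as a K-group scheme, l a prime invertible in k,
T = T_l(A)(Ω) the l-adic Tate module of Ω-points, and for a K-automorphism σ of Ω let ρ(σ) be the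
map of T acting on every component by σ (this pins ρ). Say that condition ⋆(l) holds when n = 0 or
every element of T is a sum z₁ + ⋯ + zₙ with zᵢ fixed by ρ(σ) for every σ fixing all l-power roots
of rᵢ in Ω (such σ are the ones whose image in the pro-l tame fundamental group ⊕ⱼ Iⱼ of U, Iⱼ =
ℤ_l(1) the factor of the branch Dⱼ, lies in ⊕_{j ≠ i} Iⱼ; so ⋆(l) says T = Σᵢ T^{⊕_{j≠i} Iⱼ}). Let
m₁, …, mₙ be positive integers and B = R[T₁, …, Tₙ]/(T₁^{m₁} − r₁, …, Tₙ^{mₙ} − rₙ), presented by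
elements τᵢ of an R-algebra B which is a domain such that R[X₁, …, Xₙ] → B, Xᵢ ↦ τᵢ, is surjective
with kernel generated by the Xᵢ^{mᵢ} − rᵢ (Spec B is again regular strictly local and the τᵢ cut out
the reduced preimage of D). Let L = Frac B, Ω' a separable closure of L, A' the generic fibre over L
of the base change 𝒜_B, and let ⋆'(l) be condition ⋆(l) for A', formed with T_l(A')(Ω'), the
L-automorphisms of Ω' and the l-power roots of the τᵢ. Then ⋆(l) holds for A if and only if ⋆'(l)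
holds for A': l-toric additivity of 𝒜 is equivalent to that of 𝒜_B. -/
theorem result
    (R : Type u) [CommRing R] [IsDomain R] [IsRegularLocalRing R] [HenselianLocalRing R]
    [IsSepClosed (IsLocalRing.ResidueField R)]
    {n : ℕ} (r : Fin n → R) (hr : ∀ i, r i ∈ IsLocalRing.maximalIdeal R)
    (hli : LinearIndependent (IsLocalRing.ResidueField R)
      (fun i => (IsLocalRing.maximalIdeal R).toCotangent ⟨r i, hr i⟩))
    (𝒜 : Over (Spec (CommRingCat.of R))) [GrpObj 𝒜] [IsCommMonObj 𝒜]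
    [Smooth 𝒜.hom] [IsSeparated 𝒜.hom] [QuasiCompact 𝒜.hom]
    (hsab : SGA7.FibresUnipotentRankZero 𝒜)
    (hconn : ∀ (L : Type u) [Field L] (φ : R →+* L),
      ConnectedSpace ↑(pullback 𝒜.hom (Spec.map (CommRingCat.ofHom φ))))
    (hprop : IsProper (pullback.snd 𝒜.hom
      (Spec.map (CommRingCat.ofHom (algebraMap R (Localization.Away (∏ i, r i)))))))
    (K Ω : Type u) [Field K] [Algebra R K] [IsFractionRing R K] [Field Ω] [Algebra K Ω] [IsSepClosure K Ω]
    (A : Over (Spec (CommRingCat.of K))) [GrpObj A] [IsCommMonObj A]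
    (e : Red.bc (Spec.map (CommRingCat.ofHom (algebraMap R K))) 𝒜 ≅ A) (he : IsMonHom e.hom)
    (l : ℕ) (hl : l.Prime) (hlp : (l : IsLocalRing.ResidueField R) ≠ 0)
    (ρ : (Ω ≃ₐ[K] Ω) → AbDual.TateMod A l (SGA7.pt Ω) → AbDual.TateMod A l (SGA7.pt Ω))
    (hρ : ∀ (τ : Ω ≃ₐ[K] Ω) (z : AbDual.TateMod A l (SGA7.pt Ω)) (k : ℕ),
      (AbDual.TateMod.component A l (SGA7.pt Ω) k (ρ τ z)).toMul =
        SGA7.galAct τ (AbDual.TateMod.component A l (SGA7.pt Ω) k z).toMul)
    (mdeg : Fin n → ℕ) (hmdeg : ∀ i, 0 < mdeg i)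
    (B : Type u) [CommRing B] [IsDomain B] [Algebra R B] (τ : Fin n → B)
    (hτsurj : Function.Surjective (MvPolynomial.aeval τ : MvPolynomial (Fin n) R →ₐ[R] B))
    (hτker : RingHom.ker (MvPolynomial.aeval τ : MvPolynomial (Fin n) R →ₐ[R] B) =
      Ideal.span (Set.range fun i => MvPolynomial.X i ^ mdeg i - MvPolynomial.C (r i)))
    (L Ω' : Type u) [Field L] [Algebra B L] [IsFractionRing B L] [Field Ω'] [Algebra L Ω'] [IsSepClosure L Ω']
    (A' : Over (Spec (CommRingCat.of L))) [GrpObj A'] [IsCommMonObj A']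
    (e' : Red.bc (Spec.map (CommRingCat.ofHom (algebraMap B L)))
      (Red.bc (Spec.map (CommRingCat.ofHom (algebraMap R B))) 𝒜) ≅ A') (he' : IsMonHom e'.hom)
    (ρ' : (Ω' ≃ₐ[L] Ω') → AbDual.TateMod A' l (SGA7.pt Ω') → AbDual.TateMod A' l (SGA7.pt Ω'))
    (hρ' : ∀ (τ' : Ω' ≃ₐ[L] Ω') (z : AbDual.TateMod A' l (SGA7.pt Ω')) (k : ℕ),
      (AbDual.TateMod.component A' l (SGA7.pt Ω') k (ρ' τ' z)).toMul =
        SGA7.galAct τ' (AbDual.TateMod.component A' l (SGA7.pt Ω') k z).toMul) :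
    (n = 0 ∨ ∀ z : AbDual.TateMod A l (SGA7.pt Ω), ∃ w : Fin n → AbDual.TateMod A l (SGA7.pt Ω),
        (∀ (i : Fin n) (σ : Ω ≃ₐ[K] Ω),
          (∀ (k : ℕ) (y : Ω), y ^ (l ^ k) = algebraMap K Ω (algebraMap R K (r i)) → σ y = y) →
            ρ σ (w i) = w i) ∧
        ∑ i, w i = z) ↔
    (n = 0 ∨ ∀ z : AbDual.TateMod A' l (SGA7.pt Ω'), ∃ w : Fin n → AbDual.TateMod A' l (SGA7.pt Ω'),
        (∀ (i : Fin n) (σ : Ω' ≃ₐ[L] Ω'),
          (∀ (k : ℕ) (y : Ω'), y ^ (l ^ k) = algebraMap L Ω' (algebraMap B L (τ i)) → σ y = y) →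
            ρ' σ (w i) = w i) ∧
        ∑ i, w i = z) := by
  have hr0 : ∀ i, r i ≠ 0 := fun i h => by
    refine hli.ne_zero i ?_
    have h1 : (⟨r i, hr i⟩ : IsLocalRing.maximalIdeal R) = 0 := Subtype.ext h
    rw [h1, map_zero]
  have hF : Fact l.Prime := ⟨hl⟩
  exact K125.KumRow.main R r hr0 𝒜 K Ω A e he l hl hlp
    (K125.Gal.LT_of_dev (algebraMap R K) 𝒜 l fun ν σ τ x hx =>
      Groth.Agent.S13753.result R r hr hli 𝒜 hsab hprop (fun L _ φ _ => hconn L φ) K Ω l hl hlp ν σ τ x hx)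
    ρ hρ mdeg hmdeg B τ hτsurj hτker L Ω' A' e' he' ρ' hρ'

end Groth.Agent.S16171
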