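import Groth.Statements.S16172
import Groth.Agent.NonAbH1.K552.VlTors
import Groth.Agent.SGA3x.K11.ExtMT
import Groth.Agent.SGA3x.K13.MTHopf

set_option autoImplicit false
universe u
open CategoryTheory MonoidalCategory CartesianMonoidalCategory MonObj GrpObj AlgebraicGeometry
open NonAbH1

namespace Groth.Agent.S16172

/-- Let V be a valuation ring with fraction field K and M a V-group scheme of multiplicative type and of
finite type. Then H¹_fpqc(V, M) → H¹_fpqc(K, M) is injective: the base-change map along Spec K →
Spec V on classes of fpqc torsors (schemes with an M-action) is injective. In particular (the case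
of a V-torus, where fpqc torsors are the same as etale ones) a torsor under a V-torus that is
trivial over K is trivial. (The published statement does not assume M of finite type; the proof uses
it: the isotriviality of M and the reduction to valuation rings of finite rank need it.) -/
theorem result (V : Type u) [CommRing V]
    [IsDomain V] [ValuationRing V] (M : Over (Spec (CommRingCat.of V))) [GrpObj M] (hM : SGA3x.IsMultTypeFT M) :
    Function.Injective
      (NonAbH1.H1Sch.bcMap (Spec.map (CommRingCat.ofHom (algebraMap V (FractionRing V)))) M Scheme.fpqcPrecoverage) := by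
  have h1 : IsAffineHom M.hom := K10.MTLoc.isAffineHom hM
  have h2 : Flat M.hom := K10.MTLoc.flat hM
  have h3 : LocallyOfFinitePresentation M.hom := K10.MTLoc.locallyOfFinitePresentation hM
  have h4 : IsAffine M.left := isAffine_of_isAffineHom M.hom
  obtain ⟨H, _, _, e, he⟩ := Groth.Agent.Books.AffBridge.exists_hopf V M
  have h5 : SGA3x.IsMultTypeFT (Groth.Agent.Books.AffBridge.SpecOver V H) := K10.MTLoc.of_iso' e hM
  have h6 : SGA3b.IsMultType V H := by
    obtain ⟨s, hs, hs'⟩ := K13.MTHopf.isQuasiIsotrivial_of_isMultTypeFT h5
    refine ⟨s, hs, fun f hf => ?_⟩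
    obtain ⟨R', i1, i2, -, hff, hd⟩ := hs' f hf
    exact ⟨R', i1, i2, hff, hd⟩
  have h7 : LocallyOfFinitePresentation (Groth.Agent.Books.AffBridge.SpecOver V H).hom :=
    K10.MTLoc.locallyOfFinitePresentation h5
  have h8 : Algebra.FiniteType V H :=
    (Groth.Agent.Books.AffBridge2.locallyOfFiniteType_specOver_iff V H).1 inferInstance
  refine K553.FibExt.bcMap_injective _ fun P Q hPQ => ?_
  obtain ⟨f⟩ := hPQ
  exact K552.VlTors.nonempty_equivIso (fun g h => K11.ExtMT.mul_comm' hM g h) h6 e P.isTorsor Q.isTorsor f

end Groth.Agent.S16172
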