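-- Statement S16174
import Groth.Statements.S16174
import Groth.Agent.Hensel.K143.PairLocal

set_option autoImplicit false
universe u
open Hensel

namespace Groth.Agent.S16174

/-- Let V be a Henselian valuation ring and p a prime ideal of V. Then the local rings V_p (localisation
at p) and V/p are Henselian. (Both are again valuation rings, which is elementary and not restated.) -/
theorem result (V : Type u) [CommRing V]
    [IsDomain V] [ValuationRing V] [HenselianLocalRing V] (p : Ideal V) [p.IsPrime] :
    HenselianLocalRing (Localization.AtPrime p) ∧ HenselianLocalRing (V ⧸ p) := by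
  refine ⟨?_, K143.PairLocal.henselianLocalRing_quotient V p Ideal.IsPrime.ne_top'⟩
  have hle : p ≤ IsLocalRing.maximalIdeal V := IsLocalRing.le_maximalIdeal Ideal.IsPrime.ne_top'
  have h1 : HenselianRing V p := ((Groth.Agent.S0528.result V p (IsLocalRing.maximalIdeal V) hle).mp inferInstance).1
  apply K143.PairLocal.henselianLocalRing_of_henselianRing
  refine K143.PairLocal.henselianRing_of_ideal_eq (algebraMap V (Localization.AtPrime p))
    (IsLocalization.injective _ p.primeCompl_le_nonZeroDivisors) p _ ?_ ?_ ?_ h1
  · intro s hs
    obtain ⟨x, t, rfl⟩ := IsLocalization.exists_mk'_eq p.primeCompl s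
    have hx : x ∈ p := (IsLocalization.AtPrime.mk'_mem_maximal_iff (Localization.AtPrime p) p x t).mp hs
    rcases ValuationRing.dvd_total x (t : V) with h | h
    · exact absurd (p.mem_of_dvd h hx) t.2
    · obtain ⟨y, hy⟩ := h
      have hy' : y ∈ p := by
        have : (t : V) * y ∈ p := hy ▸ hx
        exact ((‹p.IsPrime›.mem_or_mem this).resolve_left t.2)
      refine ⟨y, hy', ?_⟩
      rw [eq_comm, IsLocalization.mk'_eq_iff_eq_mul, ← map_mul, hy, mul_comm]
  · intro r hr
    exact (IsLocalization.AtPrime.to_map_mem_maximal_iff (Localization.AtPrime p) p r).mpr hr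
  · rw [IsLocalRing.jacobson_eq_maximalIdeal _ bot_ne_top]

end Groth.Agent.S16174
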