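import Groth.Statements.S16175
import Groth.Agent.Red.K672.AnisoMain

set_option autoImplicit false
universe u
open CategoryTheory MonoidalCategory CartesianMonoidalCategory MonObj GrpObj AlgebraicGeometry
open Red

namespace Groth.Agent.S16175

/-- Let V be a valuation ring with fraction field K and G a reductive V-group scheme. If G is
anisotropic over V, meaning that no homomorphism of V-groups from the multiplicative group 𝔾_{m,V}
to G is a monomorphism, then G_K is anisotropic over K in the same sense. (The published assertion
is the equality of the V-split rank of G and the K-split rank of G_K; stated here is the anisotropic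
case to which its proof reduces and which it establishes, the converse implication being immediate
by base change.) -/
theorem result (V : Type u) [CommRing V]
    [IsDomain V] [ValuationRing V] (G : Over (Spec (CommRingCat.of V))) [GrpObj G] (hG : Red.IsReductive G)
    (han : ∀ (i : Red.Gm (Spec (CommRingCat.of V)) ⟶ G) [IsMonHom i], ¬ Mono i)
    (j : Red.Gm (Spec (CommRingCat.of (FractionRing V))) ⟶
      Red.bc (Spec.map (CommRingCat.ofHom (algebraMap V (FractionRing V)))) G) [IsMonHom j] :
    ¬ Mono j :=
  K672.AnisoMain.main V G hG han j

end Groth.Agent.S16175
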