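import Groth.Statements.S16176
import Groth.Agent.NonAbH1.K209.AnisoVal

set_option autoImplicit false
universe u
open CategoryTheory MonoidalCategory CartesianMonoidalCategory MonObj GrpObj AlgebraicGeometry
open NonAbH1

namespace Groth.Agent.S16176

/-- Let V be a Henselian valuation ring of rank one (Krull dimension one) with fraction field K and G a
semisimple V-group scheme that is anisotropic over V (no homomorphism of V-groups from 𝔾_{m,V} to G
is a monomorphism). Then the map H¹_et(V, G) → H¹_et(K, G) on classes of etale torsors (schemes with
a G-action) has trivial kernel: a class whose base change to Spec K is the trivial class is trivial. -/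
theorem result (V : Type u)
    [CommRing V] [IsDomain V] [ValuationRing V] [HenselianLocalRing V] (hV : ringKrullDim V = 1)
    (G : Over (Spec (CommRingCat.of V))) [GrpObj G] (hG : Red.IsSemisimple G)
    (han : ∀ (i : Red.Gm (Spec (CommRingCat.of V)) ⟶ G) [IsMonHom i], ¬ Mono i)
    (c : NonAbH1.H1Sch G Scheme.etalePrecoverage)
    (hc : NonAbH1.H1Sch.bcMap (Spec.map (CommRingCat.ofHom (algebraMap V (FractionRing V)))) G Scheme.etalePrecoverage c = 1) :
    c = 1 := by
  exact K209.AnisoVal.main V hV G hG han c hc

end Groth.Agent.S16176
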