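import Groth.Statements.S16177
import Groth.Agent.Red.K672.LiftDim

set_option autoImplicit false
universe u
open CategoryTheory MonoidalCategory CartesianMonoidalCategory MonObj GrpObj AlgebraicGeometry
open Red

namespace Groth.Agent.S16177

/-- Let R be a local ring with residue field κ, G a reductive R-group scheme and G₀ its closed fibre.
Assume that κ is infinite or has at least dim G₀ elements. Then the map from maximal tori of G to
maximal tori of G₀ is surjective: for every maximal torus T₀ of G₀ there is a maximal torus T of G
together with an isomorphism of its closed fibre with T₀ compatible with the two inclusions into G₀.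
(The published bound is the dimension of the adjoint quotient G/Z, which is at most dim G₀; the
bound dim G₀ used here is the one of the introduction's form of the lemma.) -/
theorem result (R : Type u) [CommRing R] [IsLocalRing R]
    (G : Over (Spec (CommRingCat.of R))) [GrpObj G] (hG : Red.IsReductive G)
    (hκ : Infinite (IsLocalRing.ResidueField R) ∨ ∃ n : ℕ,
      topologicalKrullDim ↥(Red.bc (Spec.map (CommRingCat.ofHom (IsLocalRing.residue R))) G).left = n ∧
        n ≤ Nat.card (IsLocalRing.ResidueField R))
    (T₀ : Over (Spec (CommRingCat.of (IsLocalRing.ResidueField R)))) [GrpObj T₀]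
    (i₀ : T₀ ⟶ Red.bc (Spec.map (CommRingCat.ofHom (IsLocalRing.residue R))) G) (h₀ : Red.IsMaximalTorus i₀) :
    ∃ (T : Over (Spec (CommRingCat.of R))) (_ : GrpObj T) (i : T ⟶ G), Red.IsMaximalTorus i ∧
      ∃ e : Red.bc (Spec.map (CommRingCat.ofHom (IsLocalRing.residue R))) T ≅ T₀,
        e.hom ≫ i₀ = (Over.pullback (Spec.map (CommRingCat.ofHom (IsLocalRing.residue R)))).map i :=
  K672.LiftDim.exists_lift hG hκ T₀ i₀ h₀

end Groth.Agent.S16177
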