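import Groth.Prelude.Def_Red
import Groth.Prelude.Def_Hensel
import Groth.Agent.Red.K216.ValGeom

set_option autoImplicit false
universe u
open CategoryTheory MonoidalCategory CartesianMonoidalCategory MonObj GrpObj AlgebraicGeometry
open Red

namespace Groth.Agent.S16181

/-- Take a valuation ring V whose Krull dimension is a finite number n > 0, and a prime ideal p of V of
height n - 1; let a be an element of the maximal ideal of V not lying in p, let V^h be a
henselisation of V and T a V-torus. Then T(V^h[1/a]) = Im(T(V[1/a]) → T(V^h[1/a])) · T(V^h): every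
point x of T over V^h[1/a] is the product, in the group of V^h[1/a]-points, of the restriction of a
V[1/a]-point y and the restriction of a V^h-point z; the product is written through the pair
morphism h = (y, z) into T ×_V T followed by the multiplication of T. -/
theorem result (V : Type u) [CommRing V] [IsDomain V]
    [ValuationRing V] (n : ℕ) (hn : 0 < n) (hV : ringKrullDim V = n) (p : Ideal V) [p.IsPrime]
    (hp : p.height = n - 1) (a : V) (ha : a ∈ IsLocalRing.maximalIdeal V) (hap : a ∉ p)
    (Vh : Type u) [CommRing Vh] [IsLocalRing Vh] [Algebra V Vh] [IsLocalHom (algebraMap V Vh)]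
    [Hensel.IsHenselization V Vh]
    (T : Over (Spec (CommRingCat.of V))) [GrpObj T] (hT : Red.IsTorus T)
    (x : Spec (CommRingCat.of (Localization.Away (algebraMap V Vh a))) ⟶ T.left)
    (hx : x ≫ T.hom = Spec.map (CommRingCat.ofHom (algebraMap V (Localization.Away (algebraMap V Vh a))))) :
    ∃ (y : Spec (CommRingCat.of (Localization.Away a)) ⟶ T.left) (z : Spec (CommRingCat.of Vh) ⟶ T.left)
      (h : Spec (CommRingCat.of (Localization.Away (algebraMap V Vh a))) ⟶ (T ⊗ T).left),
      y ≫ T.hom = Spec.map (CommRingCat.ofHom (algebraMap V (Localization.Away a))) ∧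
      z ≫ T.hom = Spec.map (CommRingCat.ofHom (algebraMap V Vh)) ∧
      h ≫ (fst T T).left = Spec.map (CommRingCat.ofHom (Localization.awayMap (algebraMap V Vh) a)) ≫ y ∧
      h ≫ (snd T T).left = Spec.map (CommRingCat.ofHom (algebraMap Vh (Localization.Away (algebraMap V Vh a)))) ≫ z ∧
      x = h ≫ (μ[T]).left := by
  exact K216.ValGeom.main V n hn hV p hp a ha hap Vh T hT x hx

end Groth.Agent.S16181
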