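import Groth.Statements.S16182
import Groth.Agent.NonAbH1.K974.ParabVal
import Groth.Agent.S3968

set_option autoImplicit false
universe u
open CategoryTheory MonoidalCategory CartesianMonoidalCategory MonObj GrpObj AlgebraicGeometry
open NonAbH1

namespace Groth.Agent.S16182

/-- Let V be a valuation ring with fraction field K, G a reductive V-group scheme and P a parabolic
subgroup of G. If the map H¹_et(V, P) → H¹_et(K, P) on classes of etale torsors (schemes with a
P-action) has trivial kernel, then so does H¹_et(V, G) → H¹_et(K, G). (The source phrases the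
hypothesis through a Levi subgroup L of P, using the bijection H¹(V, L) ≅ H¹(V, P); the step proved
is the passage from P to G.) -/
theorem result (V : Type u) [CommRing V]
    [IsDomain V] [ValuationRing V] (G : Over (Spec (CommRingCat.of V))) [GrpObj G] (hG : Red.IsReductive G)
    (P : Over (Spec (CommRingCat.of V))) [GrpObj P] (iP : P ⟶ G) (hP : RedSub.IsParabolicSub iP)
    (hker : ∀ c : NonAbH1.H1Sch P Scheme.etalePrecoverage,
      NonAbH1.H1Sch.bcMap (Spec.map (CommRingCat.ofHom (algebraMap V (FractionRing V)))) P Scheme.etalePrecoverage c = 1 → c = 1)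
    (c : NonAbH1.H1Sch G Scheme.etalePrecoverage)
    (hc : NonAbH1.H1Sch.bcMap (Spec.map (CommRingCat.ofHom (algebraMap V (FractionRing V)))) G Scheme.etalePrecoverage c = 1) :
    c = 1 := by
  obtain ⟨E, rfl⟩ := K551.H1Cl.exists_cl c
  rw [K551.H1Cl.bcMap_cl_eq_one_iff] at hc
  rw [K551.H1Cl.cl_eq_one_iff]
  obtain ⟨h1, -, -, Q, q, hq, -, h2, -⟩ := Groth.Agent.S3968.result hG iP hP
  have h3 : IsMonHom iP := hP.1.1
  have h4 : IsAffineHom G.hom := hG.1
  have h5 : Smooth G.hom := hG.2.1
  have h6 : Smooth P.hom := hP.2.1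
  obtain ⟨F, hF, ⟨v⟩⟩ := K974.ParabVal.exists_reduction V iP q hq E hc
  have h7 := hker F.cl ((K551.H1Cl.bcMap_cl_eq_one_iff F _).2 hF)
  rw [K551.H1Cl.cl_eq_one_iff] at h7
  obtain ⟨s, hs⟩ := h7
  exact ⟨s ≫ v.left, by rw [Category.assoc, Over.w, hs]⟩

end Groth.Agent.S16182
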