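import Groth.Statements.S16183
import Groth.Agent.AGF.K501.WeylChar
import Groth.Agent.AGF.K501.HomTorus

set_option autoImplicit false
universe u
open CategoryTheory MonoidalCategory CartesianMonoidalCategory MonObj GrpObj AlgebraicGeometry
open AGF

namespace Groth.Agent.S16183

/-- Let G be a reductive group over an algebraically closed field k and T ⊆ G a maximal torus. A
character χ : T → 𝔾_m which is Weyl-invariant — χ ∘ φ = χ whenever φ : T → T is induced by
conjugation by a k-point of G carrying T into itself — is the restriction to T of one and only one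
character of G. (The source phrases this as: restriction along T → G → G/[G,G] is an isomorphism
from the character group of the abelianisation onto the Weyl-invariant characters of T; since every
character of G factors through the abelianisation, this is the same statement with characters of G.) -/
theorem result (k : Type u) [Field k] [IsAlgClosed k]
    (G : Over (Spec (CommRingCat.of k))) [GrpObj G] (hG : Red.IsReductive G)
    (T : Over (Spec (CommRingCat.of k))) [GrpObj T] (iT : T ⟶ G) (hT : Red.IsMaximalTorus iT)
    (χ : T ⟶ Red.Gm (Spec (CommRingCat.of k))) [IsMonHom χ]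
    (hχ : ∀ (n : 𝟙_ (Over (Spec (CommRingCat.of k))) ⟶ G) (φ : T ⟶ T), φ ≫ iT = AGF.conjBy n iT → φ ≫ χ = χ) :
    ∃! ψ : G ⟶ Red.Gm (Spec (CommRingCat.of k)), IsMonHom ψ ∧ iT ≫ ψ = χ := by
  obtain ⟨D, e, he, heT⟩ := K501.WeylChar.exists_pinning hG iT hT
  obtain ⟨m, hm, hm0⟩ := K501.WeylChar.exists_weyl D e iT heT χ hχ
  obtain ⟨q, hq, hqm⟩ := K501.WeylChar.exists_char D m hm0
  have hqT : iT ≫ q = χ := by
    rw [← cancel_epi e.hom, hm, ← hqm, ← heT, Category.assoc]
  refine ⟨q, ⟨hq, hqT⟩, ?_⟩
  rintro ψ ⟨hψ, hψT⟩
  have hsep : IsSeparated (Red.Gm (Spec (CommRingCat.of k))).hom := by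
    change IsSeparated (Limits.pullback.snd _ _)
    infer_instance
  exact K501.HomTorus.eq_of_torus hG iT hT
    (Groth.Agent.RedSub.H654.SchemeChar.ds_comm _ _) ψ q (hψT.trans hqT.symm)

end Groth.Agent.S16183
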