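import Groth.Statements.S16185
import Groth.Agent.LoccohB.GorBasic

set_option autoImplicit false
universe u
open CategoryTheory CategoryTheory.Limits AlgebraicGeometry
open Dual3

namespace Groth.Agent.S16185

lemma key {A : Type u} [CommRing A] [IsArtinianRing A] [IsLocalRing A]
    {P X : Scheme.{u}} (f : P ⟶ Spec (CommRingCat.of A))
    (i : X ⟶ P) (q : X ⟶ Spec (CommRingCat.of (IsLocalRing.ResidueField A)))
    (hsq : IsPullback i q f (Spec.map (CommRingCat.ofHom (IsLocalRing.residue A))))
    (hX : Dual3.IsGorenstein X) (y : Spec (CommRingCat.of A)) (z : f.fiber y) :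
    LocCoh.IsGorensteinLocalRing ((f.fiber y).presheaf.stalk z) := by
  have hy : y = IsLocalRing.closedPoint A := by
    have h1 : Ideal.IsMaximal (α := A) y.asIdeal := @IsArtinianRing.isMaximal_of_isPrime A _ y.asIdeal y.isPrime _
    exact PrimeSpectrum.ext (IsLocalRing.eq_maximalIdeal h1)
  subst hy
  have hb := Ideal.bijective_algebraMap_quotient_residueField (IsLocalRing.maximalIdeal A)
  let κ : CommRingCat.of (IsLocalRing.ResidueField A) ≅
      CommRingCat.of ((IsLocalRing.closedPoint A).asIdeal.ResidueField) :=
    (RingEquiv.ofBijective _ hb).toCommRingCatIso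
  let e0 : Spec ((Spec (CommRingCat.of A)).residueField (IsLocalRing.closedPoint A)) ≅
      Spec (CommRingCat.of (IsLocalRing.ResidueField A)) :=
    Scheme.Spec.mapIso ((Scheme.Spec.residueFieldIso (CommRingCat.of A) (IsLocalRing.closedPoint A)).symm.op) ≪≫
      Scheme.Spec.mapIso κ.op
  have h2 : e0.hom ≫ Spec.map (CommRingCat.ofHom (IsLocalRing.residue A)) =
      (Spec (CommRingCat.of A)).fromSpecResidueField (IsLocalRing.closedPoint A) := by
    refine Eq.trans ?_ (Scheme.Spec.map_residueFieldIso_inv_eq_fromSpecResidueField
      (CommRingCat.of A) (IsLocalRing.closedPoint A))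
    change (Spec.map _ ≫ Spec.map κ.hom) ≫ _ = _
    refine (Category.assoc _ _ _).trans (congrArg (fun t => Spec.map _ ≫ t) ?_)
    exact (Spec.map_comp _ _).symm
  have h3 : IsPullback (f.fiberι (IsLocalRing.closedPoint A))
      (f.fiberToSpecResidueField (IsLocalRing.closedPoint A)) f
      ((Spec (CommRingCat.of A)).fromSpecResidueField (IsLocalRing.closedPoint A)) :=
    IsPullback.of_hasPullback _ _
  have h4 := h3.of_iso (Iso.refl _) (Iso.refl _) e0 (Iso.refl _)
    (snd' := f.fiberToSpecResidueField (IsLocalRing.closedPoint A) ≫ e0.hom)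
    (g' := Spec.map (CommRingCat.ofHom (IsLocalRing.residue A))) (f' := f)
    (fst' := f.fiberι (IsLocalRing.closedPoint A)) (by simp) (by simp) (by simp) (by simp [h2])
  let e := h4.isoIsPullback _ _ hsq
  have h5 : IsIso (e.hom.stalkMap z) := inferInstance
  exact LoccohB.GorBasic.isGorensteinLocalRing_of_ringEquiv
    (asIso (e.hom.stalkMap z)).commRingCatIsoToRingEquiv (hX.2 (e.hom z))

/-- Let A be an Artinian local ring with maximal ideal m and let f : P → Spec A be a flat morphism of
schemes whose closed fibre X = P ×_{Spec A} Spec (A/m) is a Gorenstein scheme (locally Noetherian,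
all local rings Gorenstein). Then f is a Gorenstein morphism: flat at every point with Gorenstein
local rings on its fibres. (The source takes A to be a local Artinian algebra over a field k with
residue field k and X a k-scheme deformed flatly over A; the k-algebra structure plays no role, so
the residue field of A is used directly.) -/
theorem result
    {A : Type u} [CommRing A] [IsArtinianRing A] [IsLocalRing A]
    {P X : Scheme.{u}} (f : P ⟶ Spec (CommRingCat.of A)) [Flat f]
    (i : X ⟶ P) (q : X ⟶ Spec (CommRingCat.of (IsLocalRing.ResidueField A)))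
    (hsq : IsPullback i q f (Spec.map (CommRingCat.ofHom (IsLocalRing.residue A))))
    (hX : Dual3.IsGorenstein X) : Dual3.IsGorensteinMor f := by
  exact fun x => ⟨Flat.stalkMap f x, key f i q hsq hX _ _⟩

end Groth.Agent.S16185
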