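import Groth.Statements.S16188
import Groth.Agent.SchDense.K586.Reduced
import Groth.Agent.Ega1.ReducedSub

set_option autoImplicit false
universe u
open CategoryTheory AlgebraicGeometry TopologicalSpace
open SchMor

namespace Groth.Agent.S16188

/-- Let f : X → Y be a morphism of schemes with X reduced and irreducible. Then f factors through an
irreducible component of Y carrying its reduced closed-subscheme structure: there are an irreducible
component Z of Y and a morphism g from X to the closed subscheme of Y cut out by the vanishing ideal
sheaf of Z with g followed by the inclusion equal to f; that closed subscheme is integral. -/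
theorem result
    {X Y : Scheme.{u}} (f : X ⟶ Y) [IsReduced X] [IrreducibleSpace X] :
    ∃ (Z : Closeds Y) (_ : (Z : Set Y) ∈ irreducibleComponents Y)
      (_ : IsIntegral (Scheme.IdealSheafData.vanishingIdeal Z).subscheme)
      (g : X ⟶ (Scheme.IdealSheafData.vanishingIdeal Z).subscheme),
      g ≫ (Scheme.IdealSheafData.vanishingIdeal Z).subschemeι = f := by
  have hirr : IsIrreducible (closure (Set.range f)) := by
    refine IsIrreducible.closure ?_
    rw [← Set.image_univ]
    exact (irreducibleSpace_def X |>.1 inferInstance).image f f.continuous.continuousOn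
  obtain ⟨Z, hZ, hle⟩ := exists_mem_irreducibleComponents_subset_of_isIrreducible _ hirr
  have hZc : IsClosed Z := isClosed_of_mem_irreducibleComponents Z hZ
  let Z' : Closeds Y := ⟨Z, hZc⟩
  have hker : (Scheme.IdealSheafData.vanishingIdeal Z').subschemeι.ker ≤ f.ker := by
    rw [Scheme.IdealSheafData.ker_subschemeι]
    exact K586.Reduced.vanishingIdeal_le_ker f Z' (subset_closure.trans hle)
  refine ⟨Z', hZ, ?_, IsClosedImmersion.lift _ f hker, IsClosedImmersion.lift_fac _ _ _⟩
  have hred : IsReduced (Scheme.IdealSheafData.vanishingIdeal Z').subscheme :=
    Groth.Agent.Ega1.ReducedSub.isReduced_subscheme_vanishingIdeal Z'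
  let i := (Scheme.IdealSheafData.vanishingIdeal Z').subschemeι
  have hrange : Set.range i = Z := by
    have := (Scheme.IdealSheafData.vanishingIdeal Z').range_subschemeι
    rw [Scheme.IdealSheafData.coe_support_vanishingIdeal] at this
    exact this
  have hirr2 : IrreducibleSpace (Set.range i) := by
    rw [hrange]
    exact Subtype.irreducibleSpace hZ.1
  have hirr3 : IrreducibleSpace (Scheme.IdealSheafData.vanishingIdeal Z').subscheme :=
    (i.isClosedEmbedding.isEmbedding.toHomeomorph).irreducibleSpace_iff.2 hirr2
  exact isIntegral_of_irreducibleSpace_of_isReduced _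

end Groth.Agent.S16188
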