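import Groth.Statements.S16189
import Groth.Agent.Deform.K682.RelDual
import Groth.Agent.S16185
import Groth.Agent.S3855
import Groth.Agent.S14020
import Groth.Agent.FlatMor.K260.EquidimDim

set_option autoImplicit false
universe u
open CategoryTheory CategoryTheory.Limits AlgebraicGeometry
attribute [local instance] HasDerivedCategory.standard
open Deform

namespace Groth.Agent.S16189

/-- A surjection of a local ring onto a field is the residue map. -/
theorem exists_residueIso {A K : Type u} [CommRing A] [IsLocalRing A] [Field K] (φ : A →+* K)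
    (hφ : Function.Surjective φ) : ∃ e : K ≃+* IsLocalRing.ResidueField A,
      (e : K →+* IsLocalRing.ResidueField A).comp φ = IsLocalRing.residue A := by
  have hk : RingHom.ker φ = IsLocalRing.maximalIdeal A :=
    IsLocalRing.eq_maximalIdeal (RingHom.ker_isMaximal_of_surjective φ hφ)
  let e1 : (A ⧸ RingHom.ker φ) ≃+* K := RingHom.quotientKerEquivOfSurjective hφ
  let e2 : (A ⧸ RingHom.ker φ) ≃+* IsLocalRing.ResidueField A := Ideal.quotEquivOfEq hk
  refine ⟨e1.symm.trans e2, ?_⟩
  ext a
  have h1 : e1.symm (φ a) = Ideal.Quotient.mk _ a := by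
    rw [RingEquiv.symm_apply_eq]
    rfl
  change e2 (e1.symm (φ a)) = _
  rw [h1]
  rfl

/-- The fibre over the point of a one point scheme is everything. -/
theorem fiber_homeo {Z S : Scheme.{u}} [Subsingleton S] (p : Z ⟶ S) (s : S) : Nonempty (Z ≃ₜ p.fiber s) := by
  have h : p ⁻¹' {s} = Set.univ := by
    ext z
    simp only [Set.mem_preimage, Set.mem_singleton_iff, Set.mem_univ, iff_true]
    exact Subsingleton.elim _ _
  exact ⟨(Homeomorph.Set.univ Z).symm.trans ((Homeomorph.setCongr h.symm).trans (p.fiberHomeo s).symm)⟩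

theorem isPullback_toX {𝔛 𝔜 : FSch.Sys.{u}} (f : 𝔛 ⟶ 𝔜) (h : FSch.IsAdicHom f) (m : ℕ) :
    IsPullback (𝔛.toX m) (FSch.Hom.app f 0) (FSch.Hom.app f m) (𝔜.toX m) := by
  induction m with
  | zero =>
    have h1 : IsIso (𝔛.toX 0) := inferInstanceAs (IsIso (𝟙 (𝔛.X 0)))
    have h2 : IsIso (𝔜.toX 0) := inferInstanceAs (IsIso (𝟙 (𝔜.X 0)))
    exact IsPullback.of_horiz_isIso ⟨by
      change 𝟙 _ ≫ _ = _ ≫ 𝟙 _
      rw [Category.id_comp, Category.comp_id]⟩
  | succ m ih => exact ih.paste_horiz (h m)

section Base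

variable (k : Type u) [Field k]

theorem nontrivial_quot (m : ℕ) : Nontrivial (PowerSeries k ⧸ Ideal.span {PowerSeries.X (R := k)} ^ (m + 1)) := by
  rw [Ideal.Quotient.nontrivial_iff]
  intro h
  have h1 : Ideal.span {PowerSeries.X (R := k)} ^ (m + 1) ≤ Ideal.span {PowerSeries.X (R := k)} :=
    Ideal.pow_le_self (Nat.succ_ne_zero m)
  rw [h, top_le_iff, Ideal.span_singleton_eq_top] at h1
  exact PowerSeries.X_prime.not_isUnit h1

theorem bijective_quot : Function.Bijective ((Ideal.Quotient.mk (Ideal.span {PowerSeries.X (R := k)} ^ (0 + 1))).comp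
    (algebraMap k (PowerSeries k))) := by
  have := nontrivial_quot k 0
  refine ⟨RingHom.injective _, fun y => ?_⟩
  obtain ⟨f, rfl⟩ := Ideal.Quotient.mk_surjective y
  refine ⟨PowerSeries.constantCoeff f, ?_⟩
  rw [RingHom.comp_apply, Ideal.Quotient.eq, zero_add, pow_one, Ideal.mem_span_singleton,
    PowerSeries.X_dvd_iff]
  simp

theorem isArtinian_quot (m : ℕ) : IsArtinianRing (PowerSeries k ⧸ Ideal.span {PowerSeries.X (R := k)} ^ (m + 1)) := by
  have h0 : IsArtinianRing (PowerSeries k ⧸ Ideal.span {PowerSeries.X (R := k)}) := by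
    have e := RingEquiv.ofBijective _ (bijective_quot k)
    have h1 : IsArtinianRing (PowerSeries k ⧸ Ideal.span {PowerSeries.X (R := k)} ^ (0 + 1)) :=
      e.surjective.isArtinianRing
    have h2 : Ideal.span {PowerSeries.X (R := k)} ^ (0 + 1) = Ideal.span {PowerSeries.X (R := k)} := by
      rw [zero_add, pow_one]
    rwa [h2] at h1
  exact Groth.Agent.S14020.result _ _ ⟨{PowerSeries.X}, by simp⟩ _

theorem isLocalRing_quot (m : ℕ) : IsLocalRing (PowerSeries k ⧸ Ideal.span {PowerSeries.X (R := k)} ^ (m + 1)) := by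
  have := nontrivial_quot k m
  exact IsLocalRing.of_surjective' (Ideal.Quotient.mk _) Ideal.Quotient.mk_surjective

theorem subsingleton_spf (m : ℕ) : Subsingleton
    ((FSch.spf (PowerSeries k) (Ideal.span {PowerSeries.X (R := k)})).X m) := by
  have h1 := isArtinian_quot k m
  have h2 := isLocalRing_quot k m
  refine ⟨fun a b => ?_⟩
  refine PrimeSpectrum.ext ?_
  rw [IsLocalRing.eq_maximalIdeal (IsArtinianRing.isMaximal_of_isPrime a.asIdeal),
    IsLocalRing.eq_maximalIdeal (IsArtinianRing.isMaximal_of_isPrime b.asIdeal)]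

end Base

/-- The levels are Gorenstein with fibres of pure dimension `n`. -/
theorem gor_and_dim (k : Type u) [Field k] (n : ℕ) (𝔛 : FSch.Sys.{u})
    (𝔣 : 𝔛 ⟶ FSch.spf (PowerSeries k) (Ideal.span {PowerSeries.X (R := k)})) (hadic : FSch.IsAdicHom 𝔣)
    (hflat : ∀ m : ℕ, Flat (FSch.Hom.app 𝔣 m)) (hG : Dual3.IsGorenstein (𝔛.X 0))
    (hequi : ∀ Z ∈ irreducibleComponents (𝔛.X 0 : Type u), topologicalKrullDim Z = n) (m : ℕ) :
    Dual3.IsGorensteinMor (FSch.Hom.app 𝔣 m) ∧
      ∀ s Z, Z ∈ irreducibleComponents ↥((FSch.Hom.app 𝔣 m).fiber s) → topologicalKrullDim ↥Z = n := by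
  have hA := isArtinian_quot k m
  have hL := isLocalRing_quot k m
  have hpb := isPullback_toX 𝔣 hadic m
  have hS := Groth.Agent.S3855.toX_spf (PowerSeries k) (Ideal.span {PowerSeries.X (R := k)}) m
  constructor
  · let φ : (PowerSeries k ⧸ Ideal.span {PowerSeries.X (R := k)} ^ (m + 1)) →+*
        (PowerSeries k ⧸ Ideal.span {PowerSeries.X (R := k)} ^ (0 + 1)) :=
      Ideal.Quotient.factor (Ideal.pow_le_pow_right (Nat.succ_le_succ (Nat.zero_le m)))
    have hφ : Function.Surjective φ := Ideal.Quotient.factor_surjective _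
    let e0 := RingEquiv.ofBijective _ (bijective_quot k)
    obtain ⟨e, he⟩ := exists_residueIso (e0.symm.toRingHom.comp φ) (e0.symm.surjective.comp hφ)
    let ψ : (PowerSeries k ⧸ Ideal.span {PowerSeries.X (R := k)} ^ (0 + 1)) ≃+* _ := e0.symm.trans e
    have hψ : ψ.toRingHom.comp φ = IsLocalRing.residue _ := by rw [← he]; rfl
    let τ : Spec (CommRingCat.of (IsLocalRing.ResidueField
        (PowerSeries k ⧸ Ideal.span {PowerSeries.X (R := k)} ^ (m + 1)))) ⟶
        (FSch.spf (PowerSeries k) (Ideal.span {PowerSeries.X (R := k)})).X 0 :=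
      Spec.map (CommRingCat.ofHom ψ.toRingHom)
    have hiso : IsIso τ := inferInstanceAs (IsIso (Spec.map ψ.toCommRingCatIso.hom))
    have hc : τ ≫ (FSch.spf (PowerSeries k) (Ideal.span {PowerSeries.X (R := k)})).toX m =
        Spec.map (CommRingCat.ofHom (IsLocalRing.residue _)) := by
      rw [hS, ← hψ]
      exact (Spec.map_comp _ _).symm
    have h4 : IsPullback (𝔛.toX m) (FSch.Hom.app 𝔣 0 ≫ inv τ) (FSch.Hom.app 𝔣 m)
        (Spec.map (CommRingCat.ofHom (IsLocalRing.residue _))) := by
      refine hpb.of_iso (Iso.refl _) (Iso.refl _) (asIso τ).symm (Iso.refl _) ?_ ?_ ?_ ?_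
      · rw [Iso.refl_hom, Iso.refl_hom, Category.id_comp, Category.comp_id]
      · rw [Iso.refl_hom, Category.id_comp, Iso.symm_hom, asIso_inv]
      · rw [Iso.refl_hom, Iso.refl_hom, Category.id_comp, Category.comp_id]
      · rw [← hc, Iso.refl_hom, Category.comp_id, Iso.symm_hom, asIso_inv, IsIso.inv_hom_id_assoc]
    have hfl : @Flat (𝔛.X m) (Spec (CommRingCat.of (PowerSeries k ⧸ Ideal.span {PowerSeries.X (R := k)} ^ (m + 1))))
      (FSch.Hom.app 𝔣 m) := hflat m
    exact Groth.Agent.S16185.result (FSch.Hom.app 𝔣 m) _ _ h4 hG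
  · intro s
    have hsub := subsingleton_spf k m
    obtain ⟨e1⟩ := fiber_homeo (FSch.Hom.app 𝔣 m) s
    have hcl : IsClosedImmersion ((FSch.spf (PowerSeries k) (Ideal.span {PowerSeries.X (R := k)})).toX m) := by
      rw [hS]
      exact IsClosedImmersion.spec_of_surjective _
        (Ideal.Quotient.factor_surjective (Ideal.pow_le_pow_right (Nat.succ_le_succ (Nat.zero_le m))))
    have hsurj : Surjective ((FSch.spf (PowerSeries k) (Ideal.span {PowerSeries.X (R := k)})).toX m) := by
      refine ⟨fun y => ?_⟩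
      have hne : Nonempty ((FSch.spf (PowerSeries k) (Ideal.span {PowerSeries.X (R := k)})).X 0) := by
        have := nontrivial_quot k 0
        exact inferInstanceAs (Nonempty (PrimeSpectrum _))
      obtain ⟨x⟩ := hne
      exact ⟨x, Subsingleton.elim _ _⟩
    have hcl' : IsClosedImmersion (𝔛.toX m) := MorphismProperty.of_isPullback hpb.flip hcl
    have hsurj' : Surjective (𝔛.toX m) := MorphismProperty.of_isPullback hpb.flip hsurj
    have e2 : (𝔛.X 0) ≃ₜ (𝔛.X m) :=
      (𝔛.toX m).isClosedEmbedding.isEmbedding.toHomeomorphOfSurjective hsurj'.surj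
    exact K260.EquidimDim.forall_dim_of_homeomorph (e2.trans e1) _ hequi

/-- Let k be a field and X a projective Gorenstein k-scheme, equidimensional of dimension n, and let ω_X
be its dualizing module, the cohomology sheaf in degree -n of f^! O for f : X → Spec k (computed
through an assumed right adjoint of Rf_* on D_QCoh, as the shared prelude presents f^!). Let 𝔛 → Spf
k[[t]] be a formal deformation of X: an adic morphism of systems of thickenings to the system (Spec
k[[t]]/(t^{m+1}))_m whose levels X_m → Spec k[[t]]/(t^{m+1}) are all flat and proper, together with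
an isomorphism of X with the level-0 scheme compatible with the structure maps to Spec k. Then ω_X
extends to an invertible formal sheaf on 𝔛: there is a system (L_m)_m of invertible O_{X_m}-modules
with transition isomorphisms L_{m+1}|_{X_m} ≅ L_m whose level-0 term pulls back to a module
isomorphic to ω_X (existence of an isomorphism only). (The published statement adds that this
invertible formal sheaf is unique; the proof gives existence only, and uniqueness fails already for
the constant deformation of an elliptic curve, whose trivial dualizing module extends both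
constantly and along a non-constant formal family of degree-zero invertible sheaves. The published
setting is an algebraically closed field of characteristic zero and a Gorenstein X with locally
constant dimension; the proof uses neither property of k, and a single dimension n is fixed here.) -/
theorem result
    (k : Type u) [Field k] (X : Scheme.{u}) [X.Over (Spec (CommRingCat.of k))]
    (hproj : ∃ (d : ℕ) (ι : X ⟶ CohB1.ProjSpace d k), IsClosedImmersion ι ∧
      ι ≫ CohB1.ProjSpace.toSpec d k = X ↘ Spec (CommRingCat.of k))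
    (hG : Dual3.IsGorenstein X) (n : ℕ)
    (hequi : ∀ Z ∈ irreducibleComponents (X : Type u), topologicalKrullDim Z = n)
    [DCoh.HasRpush (X ↘ Spec (CommRingCat.of k))] (h : DCoh.RpushPreservesQCoh (X ↘ Spec (CommRingCat.of k)))
    [DCoh.HasShriek (X ↘ Spec (CommRingCat.of k)) h]
    (OY : DCoh.DQCoh (Spec (CommRingCat.of k)))
    (hOY : Nonempty (OY.obj ≅ DCoh.inD (Spec (CommRingCat.of k)) (Coh.structureModule (Spec (CommRingCat.of k)))))
    (𝔛 : FSch.Sys.{u}) (𝔣 : 𝔛 ⟶ FSch.spf (PowerSeries k) (Ideal.span {PowerSeries.X (R := k)}))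
    (hadic : FSch.IsAdicHom 𝔣)
    (hflat : ∀ m : ℕ, Flat (FSch.Hom.app 𝔣 m)) (hprop : ∀ m : ℕ, IsProper (FSch.Hom.app 𝔣 m))
    (e : X ≅ 𝔛.X 0)
    (he : e.hom ≫ FSch.Hom.app 𝔣 0 ≫ Spec.map (CommRingCat.ofHom
      ((Ideal.Quotient.mk (Ideal.span {PowerSeries.X (R := k)} ^ (0 + 1))).comp (algebraMap k (PowerSeries k)))) =
      X ↘ Spec (CommRingCat.of k)) :
    ∃ 𝔏 : FSch.ModSys 𝔛, (∀ m : ℕ, PicF.IsInvertible (𝔏.F m)) ∧
      Nonempty ((Scheme.Modules.pullback e.hom).obj (𝔏.F 0) ≅
        DCoh.dualizingMod (X ↘ Spec (CommRingCat.of k)) h OY n) := by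
  classical
  have hp0 : IsProper (X ↘ Spec (CommRingCat.of k)) := by
    obtain ⟨d, ι, hι, h1⟩ := hproj
    rw [← h1]
    infer_instance
  have hd0 : ∀ Z ∈ irreducibleComponents (𝔛.X 0 : Type u), topologicalKrullDim Z = n :=
    K260.EquidimDim.forall_dim_of_homeomorph (Scheme.homeoOfIso e) _ hequi
  have hN : ∀ m, IsNoetherian ((FSch.spf (PowerSeries k) (Ideal.span {PowerSeries.X (R := k)})).X m) := fun m => by
    have := isArtinian_quot k m
    exact inferInstanceAs (IsNoetherian (Spec (CommRingCat.of _)))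
  have hR : ∀ m, DCoh.HasRpush (FSch.Hom.app 𝔣 m) := fun m => Groth.Agent.Dcoh.DerSch.hasRpush _
  have hX : ∀ m, IsNoetherian (𝔛.X m) := fun m =>
    Groth.Agent.LoccohB.AdStruct.isNoetherian_of_finiteType (FSch.Hom.app 𝔣 m)
  have hG0 : Dual3.IsGorenstein (𝔛.X 0) := by
    refine ⟨(hX 0).toIsLocallyNoetherian, fun x => ?_⟩
    have h5 : IsIso (e.inv.stalkMap x) := inferInstance
    exact Groth.Agent.LoccohB.GorBasic.isGorensteinLocalRing_of_ringEquiv
      (asIso (e.inv.stalkMap x)).commRingCatIsoToRingEquiv (hG.2 (e.inv x))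
  have hfp : ∀ m, LocallyOfFinitePresentation (FSch.Hom.app 𝔣 m) := fun m =>
    (LocallyOfFinitePresentation.iff_locallyOfFiniteType).2 inferInstance
  have key : ∀ m, ∃ L : (𝔛.X m).Modules, PicF.IsInvertible L ∧ K682.RelDual.IsRD (FSch.Hom.app 𝔣 m) n L := by
    intro m
    obtain ⟨h1, h2⟩ := gor_and_dim k n 𝔛 𝔣 hadic hflat hG0 hd0 m
    exact K682.RelDual.exists_isRD _ h1 n h2
  choose L hL hLD using key
  have htr : ∀ m, Nonempty ((Scheme.Modules.pullback (𝔛.ι m)).obj (L (m + 1)) ≅ L m) := fun m =>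
    ((hLD (m + 1)).baseChange (hadic m) (hL (m + 1))).unique (hLD m)
  refine ⟨⟨L, fun m => (htr m).some⟩, hL, ?_⟩
  let σ : (FSch.spf (PowerSeries k) (Ideal.span {PowerSeries.X (R := k)})).X 0 ⟶ Spec (CommRingCat.of k) :=
    Spec.map (CommRingCat.ofHom
      ((Ideal.Quotient.mk (Ideal.span {PowerSeries.X (R := k)} ^ (0 + 1))).comp (algebraMap k (PowerSeries k))))
  have hiso : IsIso σ :=
    inferInstanceAs (IsIso (Spec.map (RingEquiv.ofBijective _ (bijective_quot k)).toCommRingCatIso.hom))
  let g : Spec (CommRingCat.of k) ⟶ (FSch.spf (PowerSeries k) (Ideal.span {PowerSeries.X (R := k)})).X 0 := inv σ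
  have hg : IsIso g := inferInstanceAs (IsIso (inv σ))
  have hsq : IsPullback e.hom (X ↘ Spec (CommRingCat.of k)) (FSch.Hom.app 𝔣 0) g := by
    refine IsPullback.of_horiz_isIso ⟨?_⟩
    have h1 : (e.hom ≫ FSch.Hom.app 𝔣 0) ≫ σ = X ↘ Spec (CommRingCat.of k) := by
      rw [Category.assoc]
      exact he
    change e.hom ≫ FSch.Hom.app 𝔣 0 = (X ↘ Spec (CommRingCat.of k)) ≫ inv σ
    rw [← h1]
    exact ((Category.assoc _ _ _).trans ((congrArg ((e.hom ≫ FSch.Hom.app 𝔣 0) ≫ ·) (IsIso.hom_inv_id σ)).trans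
      (Category.comp_id _))).symm
  have hXn : IsNoetherian X := Groth.Agent.LoccohB.AdStruct.isNoetherian_of_finiteType (X ↘ Spec (CommRingCat.of k))
  exact K682.RelDual.nonempty_iso_dualizingMod _ h OY hOY ((hLD 0).baseChange hsq (hL 0))

end Groth.Agent.S16189
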