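import Groth.Statements.S16190
import Groth.Agent.Deform.K682.CurveGerm
import Groth.Agent.Lefpen.H705.ClosedPoint
import Groth.Agent.Fga.DimCut
import Mathlib.AlgebraicGeometry.AlgClosed.Basic
import Mathlib.AlgebraicGeometry.Fiber
import Mathlib.AlgebraicGeometry.Morphisms.Flat
import Mathlib.AlgebraicGeometry.Morphisms.Proper
import Mathlib.AlgebraicGeometry.Morphisms.Smooth

set_option autoImplicit false
universe u
open CategoryTheory CategoryTheory.Limits AlgebraicGeometry
open Deform

namespace Groth.Agent.S16190

open IsLocalRing in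
theorem smooth_snd_of_fiber {C Y : Scheme.{u}} (π : Y ⟶ C) {K : Type u} [Field K]
    (g : Spec (CommRingCat.of K) ⟶ C) (h : Smooth (π.fiberToSpecResidueField (g (closedPoint K))))
    {P : Scheme.{u}} {a : P ⟶ Y} {b : P ⟶ Spec (CommRingCat.of K)} (hP : IsPullback a b π g) : Smooth b := by
  have h1 := Scheme.descResidueField_stalkClosedPointTo_fromSpecResidueField K C g
  have h2 : IsPullback (π.fiberι (g (closedPoint K))) (π.fiberToSpecResidueField (g (closedPoint K))) π
      (C.fromSpecResidueField _) := IsPullback.of_hasPullback _ _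
  have hP' : IsPullback a b π (Spec.map (Scheme.descResidueField (Scheme.stalkClosedPointTo g)) ≫
      C.fromSpecResidueField (g (closedPoint K))) := by
    rw [h1]; exact hP
  have h3 : IsPullback (h2.lift a (b ≫ Spec.map (Scheme.descResidueField (Scheme.stalkClosedPointTo g)))
      (by rw [Category.assoc]; exact hP'.w)) b
      (π.fiberToSpecResidueField (g (closedPoint K))) (Spec.map (Scheme.descResidueField (Scheme.stalkClosedPointTo g))) := by
    refine IsPullback.of_right ?_ (h2.lift_snd _ _ _) h2
    rw [h2.lift_fst]
    exact hP'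
  exact MorphismProperty.of_isPullback h3 h

open IsLocalRing in
theorem exists_germ (k : Type u) [Field k] [IsAlgClosed k]
    (C : Scheme.{u}) (qC : C ⟶ Spec (CommRingCat.of k)) (c : Spec (CommRingCat.of k) ⟶ C)
    (hc : c ≫ qC = 𝟙 (Spec (CommRingCat.of k))) [IsIntegral C] [Smooth qC]
    (hC : topologicalKrullDim C = 1) :
    ∃ s : Spec (CommRingCat.of (PowerSeries k)) ⟶ C,
      Spec.map (CommRingCat.ofHom (PowerSeries.constantCoeff (R := k))) ≫ s = c ∧
      (Spec.map (CommRingCat.ofHom (algebraMap (PowerSeries k) (FractionRing (PowerSeries k)))) ≫ s)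
        (closedPoint (FractionRing (PowerSeries k))) = genericPoint C := by
  let x : C := c (closedPoint k)
  have hx : IsClosed ({x} : Set C) := (pointEquivClosedPoint qC ⟨c, hc⟩).2
  let A := C.presheaf.stalk x
  have hreg : IsRegularLocalRing A := Groth.Agent.Lefpen.H705.ClosedPoint.isRegularLocalRing_stalk qC x
  have hdim : ringKrullDim A = 1 := by
    let _ : C.Over (Spec (CommRingCat.of k)) := ⟨qC⟩
    have : LocallyOfFiniteType (C ↘ (Spec (CommRingCat.of k))) := inferInstanceAs (LocallyOfFiniteType qC)
    have h1 := Groth.Agent.Fga.DimCut.ringKrullDim_stalk_eq (k := k) C x hx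
    rw [← hC]
    exact h1
  let ψ : A →+* k := (Scheme.stalkClosedPointTo c).hom
  have hψ : IsLocalHom ψ := Scheme.isLocalHom_stalkClosedPointTo' c
  let φ' : Spec (C.presheaf.stalk x) ⟶ Spec (CommRingCat.of k) := C.fromSpecStalk x ≫ qC
  obtain ⟨φ, hφ⟩ : ∃ φ : CommRingCat.of k ⟶ C.presheaf.stalk x, Spec.map φ = φ' := ⟨_, Spec.map_preimage _⟩
  have hcomp : ψ.comp φ.hom = RingHom.id k := by
    have h1 : Spec.map (φ ≫ Scheme.stalkClosedPointTo c) = Spec.map (𝟙 _) := by
      rw [Spec.map_comp, hφ, Spec.map_id]
      change Spec.map _ ≫ C.fromSpecStalk x ≫ qC = _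
      rw [← Category.assoc, Scheme.Spec_stalkClosedPointTo_fromSpecStalk, hc]
    exact congrArg CommRingCat.Hom.hom (Spec.map_injective h1)
  obtain ⟨α, hα1, hα2, hα3, hα4⟩ := K682.CurveGerm.exists_powerSeries_map φ.hom ψ hcomp hdim
  let s : Spec (CommRingCat.of (PowerSeries k)) ⟶ C := Spec.map (CommRingCat.ofHom α) ≫ C.fromSpecStalk x
  refine ⟨s, ?_, ?_⟩
  · change _ ≫ _ ≫ _ = _
    rw [← Category.assoc, ← Spec.map_comp, ← CommRingCat.ofHom_comp, hα2]
    exact Scheme.Spec_stalkClosedPointTo_fromSpecStalk c
  · let K := FractionRing (PowerSeries k)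
    let β : A →+* K := (algebraMap (PowerSeries k) K).comp α
    have hβ : Function.Injective β := (IsFractionRing.injective (PowerSeries k) K).comp hα4
    have h1 : (Spec.map (CommRingCat.ofHom (algebraMap (PowerSeries k) K)) ≫ s) =
        Spec.map (CommRingCat.ofHom β) ≫ C.fromSpecStalk x := by
      change _ ≫ _ ≫ _ = _
      rw [← Category.assoc, ← Spec.map_comp, ← CommRingCat.ofHom_comp]
    rw [h1, Scheme.Hom.comp_apply]
    obtain ⟨y, hy⟩ : genericPoint C ∈ Set.range (C.fromSpecStalk x) := by
      rw [Scheme.range_fromSpecStalk]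
      exact genericPoint_specializes x
    have h2 : (Spec.map (CommRingCat.ofHom β)) (closedPoint K) ⤳ y := by
      refine (PrimeSpectrum.le_iff_specializes (PrimeSpectrum.comap β (closedPoint K)) y).mp ?_
      change Ideal.comap β (maximalIdeal K) ≤ y.asIdeal
      rw [maximalIdeal_eq_bot]
      intro z hz
      have hz0 : z = 0 := hβ (by rw [map_zero]; exact hz)
      rw [hz0]
      exact zero_mem _
    have h3 := h2.map (C.fromSpecStalk x).continuous
    rw [hy] at h3
    exact (h3.antisymm (genericPoint_specializes _)).eq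

/-- Let k be an algebraically closed field and let X have a geometric smoothing, i.e. there are an
integral k-scheme C smooth of dimension one over k, a k-rational point c of C and a flat proper
morphism π : Y → C whose fibre over c is X (as a k-scheme) and whose fibre over the generic point of
C is smooth. Then X has a smoothing over Spec k[[t]]: a flat proper morphism P → Spec k[[t]] with
closed fibre X over k and smooth generic fibre P ⊗ Frac k[[t]]. (The published lemma concludes that
X, assumed projective and equidimensional, is formally smoothable; its proof builds exactly this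
family over the completed local ring of C at c, identified with k[[t]], and then appeals to a
criterion equating smoothings over a discrete valuation ring with formal smoothings, which is not
restated; the hypotheses on X are not used in the step stated.) -/
theorem result
    (k : Type u) [Field k] [IsAlgClosed k]
    (X : Scheme.{u}) (pX : X ⟶ Spec (CommRingCat.of k))
    (C : Scheme.{u}) (qC : C ⟶ Spec (CommRingCat.of k)) (c : Spec (CommRingCat.of k) ⟶ C)
    (hc : c ≫ qC = 𝟙 (Spec (CommRingCat.of k))) [IsIntegral C] [Smooth qC]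
    (hC : topologicalKrullDim C = 1)
    (Y : Scheme.{u}) (π : Y ⟶ C) [Flat π] [IsProper π] (j : X ⟶ Y) (hsq : IsPullback j pX π c)
    (hgen : Smooth (π.fiberToSpecResidueField (genericPoint C))) :
    ∃ (P : Scheme.{u}) (p : P ⟶ Spec (CommRingCat.of (PowerSeries k))) (_ : Flat p) (_ : IsProper p)
      (i : X ⟶ P),
      IsPullback i pX p (Spec.map (CommRingCat.ofHom (PowerSeries.constantCoeff (R := k)))) ∧
      Smooth (pullback.snd p
        (Spec.map (CommRingCat.ofHom (algebraMap (PowerSeries k) (FractionRing (PowerSeries k)))))) := by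
  obtain ⟨s, hs, hgs⟩ := exists_germ k C qC c hc hC
  have hR := IsPullback.of_hasPullback π s
  refine ⟨pullback π s, pullback.snd π s, inferInstance, inferInstance,
    hR.lift j (pX ≫ Spec.map (CommRingCat.ofHom (PowerSeries.constantCoeff (R := k)))) ?_, ?_, ?_⟩
  · rw [Category.assoc, hs, hsq.w]
  · refine IsPullback.of_right ?_ (hR.lift_snd _ _ _) hR
    rw [hR.lift_fst, hs]
    exact hsq
  · refine smooth_snd_of_fiber π _ (by rw [hgs]; exact hgen) ((IsPullback.of_hasPullback _ _).paste_horiz hR)

end Groth.Agent.S16190
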