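import Groth.Statements.S16194
import Mathlib.RingTheory.Jacobson.Ideal

set_option autoImplicit false
universe u
open DivAlg

namespace Groth.Agent.S16194

/-- In an associative unital ring R, not necessarily commutative, every element r of the Jacobson
radical (the set of elements lying in every maximal left ideal) is quasiregular, i.e. 1 - r is a
two-sided unit. -/
theorem result {R : Type u} [Ring R] (r : R)
    (hr : r ∈ Ring.jacobson R) : IsUnit (1 - r) := by
  have key : ∀ x : R, x - 1 ∈ Ring.jacobson R → ∃ s, s * x = 1 := by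
    intro x hx
    rw [← Ideal.jacobson_bot] at hx
    obtain ⟨s, hs⟩ := Ideal.exists_mul_sub_mem_of_sub_one_mem_jacobson x hx
    rw [Ideal.mem_bot, sub_eq_zero] at hs
    exact ⟨s, hs⟩
  obtain ⟨s, hs⟩ := key (1 - r) (by
    have : (1 - r) - 1 = -r := by abel
    rw [this]
    exact (Ring.jacobson R).neg_mem hr)
  have hs1 : s - 1 ∈ Ring.jacobson R := by
    have : s - 1 = s * r := by
      rw [mul_sub, mul_one, sub_eq_iff_eq_add] at hs
      rw [sub_eq_iff_eq_add, add_comm]; exact hs
    rw [this]
    exact (Ring.jacobson R).mul_mem_left s hr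
  obtain ⟨t, ht⟩ := key s hs1
  have ht' : t = 1 - r := by
    calc t = t * (s * (1 - r)) := by rw [hs, mul_one]
      _ = (t * s) * (1 - r) := by rw [mul_assoc]
      _ = 1 - r := by rw [ht, one_mul]
  rw [ht'] at ht
  exact ⟨⟨1 - r, s, ht, hs⟩, rfl⟩

end Groth.Agent.S16194
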