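import Groth.Statements.S16195

set_option autoImplicit false
universe u v w
open DivAlg

namespace Groth.Agent.S16195

/-- Let R be a ring (associative, unital, not necessarily commutative) and M, N left R-modules. For an
R-module P write BiEnd_R(P) for the ring of endomorphisms of P that are linear over the ring
End_R(P), which acts on P through evaluation. Then every T in BiEnd_R(M × N) preserves the two
summands and is induced by a pair (T₁, T₂) with T₁ in BiEnd_R(M) and T₂ in BiEnd_R(N). -/
theorem result {R : Type u} [Ring R] (M : Type v) (N : Type w)
    [AddCommGroup M] [Module R M] [AddCommGroup N] [Module R N]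
    (T : Module.End (Module.End R (M × N)) (M × N)) :
    ∃ (T₁ : Module.End (Module.End R M) M) (T₂ : Module.End (Module.End R N) N),
      ∀ (m : M) (n : N), T (m, n) = (T₁ m, T₂ n) := by
  -- the projections onto the two summands, as endomorphisms of `M × N`
  let p₁ : Module.End R (M × N) := (LinearMap.inl R M N).comp (LinearMap.fst R M N)
  let p₂ : Module.End R (M × N) := (LinearMap.inr R M N).comp (LinearMap.snd R M N)
  have h₁ : ∀ x : M × N, T (x.1, 0) = ((T x).1, 0) := by
    intro x
    have := T.map_smul p₁ x
    simpa [p₁, Module.End.smul_def] using this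
  have h₂ : ∀ x : M × N, T (0, x.2) = (0, (T x).2) := by
    intro x
    have := T.map_smul p₂ x
    simpa [p₂, Module.End.smul_def] using this
  refine ⟨{ toFun := fun m => (T (m, 0)).1, map_add' := ?_, map_smul' := ?_ },
    { toFun := fun n => (T (0, n)).2, map_add' := ?_, map_smul' := ?_ }, ?_⟩
  · intro x y
    have : ((x + y, 0) : M × N) = (x, 0) + (y, 0) := by simp
    rw [this, T.map_add]; rfl
  · intro f x
    have := T.map_smul ((LinearMap.inl R M N).comp (f.comp (LinearMap.fst R M N))) ((x, 0) : M × N)
    have h := congrArg Prod.fst this
    simpa [Module.End.smul_def] using h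
  · intro x y
    have : ((0, x + y) : M × N) = (0, x) + (0, y) := by simp
    rw [this, T.map_add]; rfl
  · intro f x
    have := T.map_smul ((LinearMap.inr R M N).comp (f.comp (LinearMap.snd R M N))) ((0, x) : M × N)
    have h := congrArg Prod.snd this
    simpa [Module.End.smul_def] using h
  · intro m n
    have e : ((m, n) : M × N) = (m, 0) + (0, n) := by simp
    have a := h₁ (m, n)
    have b := h₂ (m, n)
    simp only at a b
    apply Prod.ext
    · simp [a]
    · simp [b]

end Groth.Agent.S16195
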