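import Groth.Statements.S16196
import Mathlib.Algebra.BigOperators.Pi
import Mathlib.Algebra.Module.BigOperators
import Mathlib.LinearAlgebra.Pi

set_option autoImplicit false
universe u v
open DivAlg

namespace Groth.Agent.S16196

/-- Let R be a ring (associative, unital, not necessarily commutative) and M a left R-module which is a
generator, in the form: for some n there is an R-linear surjection from M^n onto R. Then the natural
ring homomorphism from R to the double endomorphism ring BiEnd_R(M) = End_{End_R(M)}(M)
(endomorphisms of M commuting with every R-linear endomorphism), r ↦ multiplication by r, is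
bijective. (The printed form takes R an algebra over a commutative ring k, embeds R in E = End_k(M)
and asserts R = C_E(C_E(R)); the double centralizer there is BiEnd_R(M).) -/
theorem result {R : Type u} [Ring R] (M : Type v)
    [AddCommGroup M] [Module R M]
    (hgen : ∃ (n : ℕ) (f : (Fin n → M) →ₗ[R] R), Function.Surjective f) :
    Function.Bijective (Module.toModuleEnd (Module.End R M) (S := R) M) := by
  obtain ⟨n, f, hf⟩ := hgen
  obtain ⟨x, hx⟩ := hf 1
  -- components of `f`
  let g : Fin n → (M →ₗ[R] R) := fun i => f.comp (LinearMap.single R (fun _ : Fin n => M) i)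
  have hg : ∑ i, g i (x i) = 1 := by
    have : f x = ∑ i, g i (x i) := by
      conv_lhs => rw [← Finset.univ_sum_single x]
      simp [g, map_sum]
    rw [← this, hx]
  constructor
  · intro r s hrs
    have h : ∀ m : M, r • m = s • m := fun m => DFunLike.congr_fun hrs m
    have : ∀ t : R, t = ∑ i, g i (t • x i) := by
      intro t
      simp only [map_smul, smul_eq_mul, ← Finset.mul_sum, hg, mul_one]
    rw [this r, this s]
    exact Finset.sum_congr rfl fun i _ => by rw [h]
  · intro T
    refine ⟨∑ i, g i (T (x i)), ?_⟩
    ext m
    have key : ∀ i, T (g i (x i) • m) = g i (T (x i)) • m := by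
      intro i
      exact T.map_smul ((g i).smulRight m : Module.End R M) (x i)
    have h1 : T m = ∑ i, T (g i (x i) • m) := by
      rw [← map_sum, ← Finset.sum_smul, hg, one_smul]
    rw [h1, Finset.sum_congr rfl fun i _ => key i, ← Finset.sum_smul]
    rfl

end Groth.Agent.S16196
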