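import Groth.Statements.S16197
import Mathlib.LinearAlgebra.Pi
import Mathlib.LinearAlgebra.Finsupp.Defs
import Mathlib.LinearAlgebra.Finsupp.LSum
import Mathlib.Data.Fintype.EquivFin
import Mathlib.Algebra.BigOperators.Pi

set_option autoImplicit false
universe u v w
open DivAlg

namespace Groth.Agent.S16197

/-- Let R be a ring (associative, unital, not necessarily commutative) and M a left R-module which is a
generator, used here only through the existence of an R-linear surjection from a direct sum of
copies of M, indexed by an arbitrary type, onto R. Then some finite power M^n decomposes as R × Q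
for a submodule Q of M^n. (The published statement is an equivalence; this row states only the
implication from the existence of such a surjection to the splitting.) -/
theorem result {R : Type u} [Ring R] (M : Type v)
    [AddCommGroup M] [Module R M]
    (hgen : ∃ (ι : Type w) (f : (ι →₀ M) →ₗ[R] R), Function.Surjective f) :
    ∃ (n : ℕ) (Q : Submodule R (Fin n → M)), Nonempty ((Fin n → M) ≃ₗ[R] (R × Q)) := by
  classical
  obtain ⟨ι, f, hf⟩ := hgen
  obtain ⟨x, hx⟩ := hf 1
  let e : Fin x.support.card ≃ x.support := x.support.equivFin.symm
  let g : (Fin x.support.card → M) →ₗ[R] R :=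
    ∑ i, (f.comp (Finsupp.lsingle (e i : ι))).comp (LinearMap.proj i)
  let y : Fin x.support.card → M := fun i => x (e i)
  have hgy : g y = 1 := by
    have h1 : g y = ∑ i, f (Finsupp.single (e i : ι) (x (e i))) := by
      simp [g, y, LinearMap.sum_apply]
    have h2 : f x = ∑ a ∈ x.support, f (Finsupp.single a (x a)) := by
      conv_lhs => rw [← Finsupp.sum_single x, Finsupp.sum, map_sum]
    rw [h1, ← hx, h2]
    rw [← Finset.sum_coe_sort x.support (fun a => f (Finsupp.single a (x a)))]
    exact Fintype.sum_equiv e _ (fun a : x.support => f (Finsupp.single (a : ι) (x a))) fun i => rfl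
  refine ⟨x.support.card, LinearMap.ker g, ⟨?_⟩⟩
  let s : R →ₗ[R] (Fin x.support.card → M) := LinearMap.toSpanSingleton R _ y
  have hgs : ∀ r, g (s r) = r := by
    intro r
    simp [s, hgy]
  have hk : ∀ c : Fin x.support.card → M, (LinearMap.id - s.comp g : (Fin x.support.card → M) →ₗ[R] (Fin x.support.card → M)) c ∈ LinearMap.ker g := by
    intro z
    simp [LinearMap.mem_ker, hgs]
  refine LinearEquiv.ofLinearMap
    (LinearMap.prod g ((LinearMap.id - s.comp g).codRestrict (LinearMap.ker g) hk))
    (LinearMap.coprod s (LinearMap.ker g).subtype) ?_ ?_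
  · apply LinearMap.ext
    rintro ⟨r, z⟩
    have hz : g (z : Fin x.support.card → M) = 0 := z.2
    refine Prod.ext ?_ (Subtype.ext ?_)
    · simp [hgs, hz]
    · simp [hgs, hz]
  · apply LinearMap.ext
    intro z
    simp

end Groth.Agent.S16197
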