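import Groth.Statements.S16201
import Groth.Agent.S2395
import Mathlib.AlgebraicGeometry.Noetherian
import Mathlib.Topology.JacobsonSpace

set_option autoImplicit false
open CategoryTheory AlgebraicGeometry
open Variety

namespace Groth.Agent.S16201

/-- Let f : Y → Z be a morphism of schemes of finite type over ℂ, with Z irreducible. Suppose that the
general fibre of f is irreducible, in the sense that there is a nonempty open subset V of Z such
that the fibre of f over every closed point of V is an irreducible topological space, and that each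
irreducible component of Y has dense image in Z. Then Y is irreducible. (The published statement is
for a morphism of projective varieties; only finiteness of type over the field is used, and the row
is stated in that generality.) -/
theorem result
    (Y Z : Scheme.{0}) (g : Z ⟶ Spec (CommRingCat.of ℂ)) (f : Y ⟶ Z)
    [LocallyOfFiniteType g] [QuasiCompact g] [LocallyOfFiniteType f] [QuasiCompact f]
    [IrreducibleSpace Z]
    (hgen : ∃ V : Z.Opens, (V : Set Z).Nonempty ∧
      ∀ z ∈ V, IsClosed ({z} : Set Z) → IsIrreducible (f.base ⁻¹' {z}))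
    (hdom : ∀ W ∈ irreducibleComponents Y, Dense (f.base '' W)) :
    IrreducibleSpace Y := by
  have hZ1 : IsLocallyNoetherian Z := LocallyOfFiniteType.isLocallyNoetherian g
  have hY1 : IsLocallyNoetherian Y := LocallyOfFiniteType.isLocallyNoetherian f
  have hZ2 : CompactSpace Z := QuasiCompact.compactSpace_of_compactSpace g
  have hY2 : CompactSpace Y := QuasiCompact.compactSpace_of_compactSpace f
  have hZN : IsNoetherian Z := {}
  have hYN : IsNoetherian Y := {}
  have hfp : LocallyOfFinitePresentation f := LocallyOfFinitePresentation.iff_locallyOfFiniteType.mpr inferInstance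
  have hJ : JacobsonSpace Z := LocallyOfFiniteType.jacobsonSpace g
  obtain ⟨V, hV, hVirr⟩ := hgen
  -- the image of a nonempty open contains a nonempty open
  have key : ∀ O : Set Y, IsOpen O → O.Nonempty → ∃ U : Set Z, IsOpen U ∧ U.Nonempty ∧ U ⊆ f.base '' O := by
    intro O hO hne
    have hc : Topology.IsConstructible (f.base '' O) :=
      f.isConstructible_image ((TopologicalSpace.NoetherianSpace.isCompact O).isConstructible hO)
    refine (Groth.Agent.S2395.result hc).mp ?_
    obtain ⟨y, hy⟩ := hne
    have h1 := hdom (irreducibleComponent y) (irreducibleComponent_mem_irreducibleComponents y)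
    have h2 : irreducibleComponent y ⊆ closure (irreducibleComponent y ∩ O) :=
      subset_closure_inter_of_isPreirreducible_of_isOpen isIrreducible_irreducibleComponent.isPreirreducible hO
        ⟨y, mem_irreducibleComponent, hy⟩
    have h3 : f.base '' (irreducibleComponent y) ⊆ closure (f.base '' O) := by
      refine (Set.image_mono h2).trans ?_
      refine (image_closure_subset_closure_image f.continuous).trans (closure_mono (Set.image_mono Set.inter_subset_right))
    rw [dense_iff_closure_eq, Set.eq_univ_iff_forall]
    intro z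
    have h4 := h1.closure_eq ▸ Set.mem_univ z
    exact closure_minimal h3 isClosed_closure h4
  have hne : Nonempty Y := by
    obtain ⟨z, hz, hzc⟩ := nonempty_inter_closedPoints hV V.isOpen.isLocallyClosed
    obtain ⟨y, -⟩ := (hVirr z hz hzc).nonempty
    exact ⟨y⟩
  have hpre : PreirreducibleSpace Y := by
    refine PreirreducibleSpace.of_forall_nonempty_inter fun O₁ O₂ hO₁ hO₂ hn₁ hn₂ => ?_
    obtain ⟨U₁, hU₁, hnU₁, hs₁⟩ := key O₁ hO₁ hn₁
    obtain ⟨U₂, hU₂, hnU₂, hs₂⟩ := key O₂ hO₂ hn₂
    have h12 : (U₁ ∩ U₂).Nonempty := nonempty_preirreducible_inter hU₁ hU₂ hnU₁ hnU₂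
    have h3 : ((U₁ ∩ U₂) ∩ V).Nonempty := nonempty_preirreducible_inter (hU₁.inter hU₂) V.isOpen h12 hV
    obtain ⟨z, ⟨⟨hz1, hz2⟩, hzV⟩, hzc⟩ := nonempty_inter_closedPoints h3
      ((hU₁.inter hU₂).inter V.isOpen).isLocallyClosed
    obtain ⟨y₁, hy₁, e₁⟩ := hs₁ hz1
    obtain ⟨y₂, hy₂, e₂⟩ := hs₂ hz2
    obtain ⟨y, -, hy⟩ := (hVirr z hzV hzc).isPreirreducible O₁ O₂ hO₁ hO₂ ⟨y₁, e₁, hy₁⟩ ⟨y₂, e₂, hy₂⟩
    exact ⟨y, hy⟩
  exact { toPreirreducibleSpace := hpre, toNonempty := hne }

end Groth.Agent.S16201
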