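import Groth.Statements.S16202
import Groth.Agent.S7681
import Groth.Agent.Etcore.CurveComp
import Groth.Agent.Pi1.H419.DepthDim
import Groth.Agent.Pi1C.LefFinal
import Groth.Agent.VarietyB.ProjSpaceProper
import Groth.Agent.Ega2.WeightPull
import Groth.Agent.Ega2.FiniteSet
import Groth.Agent.Sga5.AmpleFib
import Groth.Agent.VarietyA.TwistExist
import Groth.Agent.CurvesB.RankOne
import Groth.Agent.CurvesB.InvEmb

set_option autoImplicit false
open CategoryTheory CategoryTheory.Limits AlgebraicGeometry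
open Variety

namespace Groth.Agent.S16202

open Groth.Agent Groth.Agent.Fdesc.LocGen

/-- A monomorphism `O ⟶ L` on a nonempty scheme is non zero. -/
lemma ne_zero_of_mono {X : Scheme.{0}} [Nonempty X] {L : X.Modules}
    (s : Coh.structureModule X ⟶ L) (hs : Mono s) : s ≠ 0 := by
  rintro rfl
  have h1 : 𝟙 (Coh.structureModule X) = 0 := by
    rw [← cancel_mono (0 : Coh.structureModule X ⟶ L)]
    simp
  have h2 : CohB1.genLocus (Coh.structureModule X) (𝟙 _) = ⊤ := by
    rw [eq_top_iff, le_genLocus_iff]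
    exact isGen_one _
  rw [h1, Groth.Agent.Ega2.FiniteSet.genLocus_zero] at h2
  obtain ⟨x⟩ := ‹Nonempty X›
  have h3 : x ∈ (⊥ : X.Opens) := by rw [h2]; trivial
  exact h3

/-- Let X be an integral projective scheme over ℂ of dimension at least 2 and D an effective ample
divisor on X. Then the support of D is connected. Here D is given by an ample invertible module L
together with a nonzero global section s (a monomorphism O_X → L), and its support is the zero
scheme Z(s), which is asserted to be a connected (in particular nonempty) topological space. -/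
theorem result
    (X : Scheme.{0}) (f : X ⟶ Spec (CommRingCat.of ℂ)) [IsIntegral X]
    (hproj : (∃ (n : ℕ) (ι : X ⟶ CohB1.ProjSpace n ℂ), IsClosedImmersion ι ∧ ι ≫ CohB1.ProjSpace.toSpec n ℂ = f))
    (hdim : (2 : WithBot ℕ∞) ≤ topologicalKrullDim X)
    (L : X.Modules) (hL : CohB1.IsAmple L) (s : Coh.structureModule X ⟶ L) (hs : Mono s) :
    ConnectedSpace ↥(PicF2.zeroScheme L s).subscheme := by
  obtain ⟨n, ι, hι, hιf⟩ := hproj
  have hf : IsProper f := by
    rw [← hιf]
    infer_instance
  obtain ⟨Y, ν, hν, hsurj, hint, hnorm, -, hdimY⟩ := Etcore.CurveComp.exists_normalization ℂ X f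
  let _ : Y.Over (Spec (CommRingCat.of ℂ)) := ⟨ν ≫ f⟩
  have hYp : IsProper (Y ↘ Spec (CommRingCat.of ℂ)) := inferInstanceAs (IsProper (ν ≫ f))
  have hN : CohB1.IsAmple ((Scheme.Modules.pullback ν).obj L) := Groth.Agent.Sga5.AmpleFib.isAmple_pullback ν hL
  have hs0 : s ≠ 0 := ne_zero_of_mono s hs
  set t := Groth.Agent.Ega2.Weight.pullHom ν s with ht
  have hgen := Groth.Agent.Ega2.Weight.genLocus_pullHom ν hL.1 s
  have ht0 : t ≠ 0 := by
    intro h0
    obtain ⟨x, hx⟩ := Groth.Agent.VarietyA.TwistExist.genLocus_nonempty hL.1 s hs0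
    obtain ⟨y, rfl⟩ := hsurj.surj x
    have h1 : y ∈ CohB1.genLocus _ t := by rw [ht, hgen]; exact hx
    rw [h0, Groth.Agent.Ega2.FiniteSet.genLocus_zero] at h1
    exact h1
  have htm : Mono t := Groth.Agent.CurvesB.RankOne.mono_of_ne_zero
    (Groth.Agent.CurvesB.InvEmb.locEmb_of_isInvertible hN.1) t ht0
  have hdepth : ∀ y : Y, IsClosed ({y} : Set Y) → 2 ≤ LocCoh.depth (Y.presheaf.stalk y) (Y.presheaf.stalk y) := by
    intro y hy
    have h1 := Groth.Agent.Pi1.H419.DepthDim.depth_add_dim (ν ≫ f) hnorm (hdimY ▸ hdim) y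
    rw [hy.closure_eq] at h1
    have h2 : topologicalKrullDim ({y} : Set Y) ≤ 0 :=
      topologicalKrullDim_zero_of_discreteTopology ({y} : Set Y)
    have h1 := h1.trans_le (add_le_add_right h2 _)
    rw [add_zero] at h1
    have h3 : (1 : ℕ∞) < LocCoh.depth (Y.presheaf.stalk y) (Y.presheaf.stalk y) := by exact_mod_cast h1
    exact Order.add_one_le_of_lt h3
  have key := S7681.result ℂ Y _ hN t htm hdepth
  -- the image of `Z(t)` is `Z(s)`
  have hrY : Set.range (PicF2.zeroScheme _ t).subschemeι = (CohB1.genLocus _ t : Set Y)ᶜ := by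
    rw [Scheme.IdealSheafData.range_subschemeι, Groth.Agent.Pi1C.LefFinal.support_eq hN.1 t]
  have hrX : Set.range (PicF2.zeroScheme L s).subschemeι = (CohB1.genLocus _ s : Set X)ᶜ := by
    rw [Scheme.IdealSheafData.range_subschemeι, Groth.Agent.Pi1C.LefFinal.support_eq hL.1 s]
  have h1 : _root_.IsConnected (CohB1.genLocus _ t : Set Y)ᶜ := by
    rw [← hrY]
    exact isConnected_range (PicF2.zeroScheme _ t).subschemeι.continuous
  have h2 : ν '' (CohB1.genLocus _ t : Set Y)ᶜ = (CohB1.genLocus _ s : Set X)ᶜ := by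
    rw [ht, hgen]
    have : ((ν ⁻¹ᵁ (CohB1.genLocus L s) : Y.Opens) : Set Y)ᶜ = ν ⁻¹' ((CohB1.genLocus L s : Set X)ᶜ) := rfl
    rw [this, Set.image_preimage_eq _ hsurj.surj]
  have h3 : _root_.IsConnected (Set.range (PicF2.zeroScheme L s).subschemeι) := by
    rw [hrX, ← h2]
    exact h1.image _ ν.continuous.continuousOn
  have h4 := (PicF2.zeroScheme L s).subschemeι.isEmbedding
  rw [← Set.image_univ] at h3
  rw [connectedSpace_iff_univ]
  exact ⟨Set.image_nonempty.1 h3.nonempty, h4.isInducing.isPreconnected_image.1 h3.isPreconnected⟩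

end Groth.Agent.S16202
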