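import Groth.Statements.S16203
import Groth.Agent.Variety.K431.CurveThru
import Groth.Agent.VarietyB.ProjSpaceProper

set_option autoImplicit false
open CategoryTheory CategoryTheory.Limits AlgebraicGeometry
open Variety

namespace Groth.Agent.S16203

open Groth.Agent.VarietyB

/-- Let f : Y → Z be a flat dominant morphism of integral projective schemes over ℂ, let B be an
irreducible closed curve in Z (an irreducible closed subset of dimension 1), p a closed point of B
and q a closed point of Y lying over p. Then there is an irreducible closed curve B' in Y passing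
through q which is a finite cover of B: an irreducible closed subset B' of Y containing q whose
image is B and which meets every fibre of f in a finite set. -/
theorem result
    (Y Z : Scheme.{0}) (g : Z ⟶ Spec (CommRingCat.of ℂ)) (f : Y ⟶ Z) [IsIntegral Y] [IsIntegral Z]
    (hZ : (∃ (m : ℕ) (ι : Z ⟶ CohB1.ProjSpace m ℂ), IsClosedImmersion ι ∧ ι ≫ CohB1.ProjSpace.toSpec m ℂ = g))
    (hY : (∃ (n : ℕ) (ι' : Y ⟶ CohB1.ProjSpace n ℂ), IsClosedImmersion ι' ∧ ι' ≫ CohB1.ProjSpace.toSpec n ℂ = f ≫ g))
    [Flat f] (hdomi : DenseRange f.base)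
    (B : Set Z) (hBc : IsClosed B) (hBi : IsIrreducible B) (hBd : topologicalKrullDim ↥B = 1)
    (p : Z) (hp : p ∈ B) (hpc : IsClosed ({p} : Set Z))
    (q : Y) (hqc : IsClosed ({q} : Set Y)) (hq : f.base q = p) :
    ∃ B' : Set Y, IsClosed B' ∧ IsIrreducible B' ∧ q ∈ B' ∧ f.base '' B' = B ∧
      ∀ z : Z, (B' ∩ f.base ⁻¹' {z}).Finite := by
  obtain ⟨m, ι, hι, hιg⟩ := hZ
  obtain ⟨n, ι', hι', hιfg⟩ := hY
  have hg : IsProper g := by
    rw [← hιg]
    infer_instance
  have hfg : IsProper (f ≫ g) := by
    rw [← hιfg]
    infer_instance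
  have hf : IsProper f := IsProper.of_comp f g
  let _ : Z.Over (Spec (CommRingCat.of ℂ)) := ⟨g⟩
  let _ : Y.Over (Spec (CommRingCat.of ℂ)) := ⟨f ≫ g⟩
  have hgft : LocallyOfFiniteType (Z ↘ (Spec (CommRingCat.of ℂ))) := inferInstanceAs (LocallyOfFiniteType g)
  have hfgft : LocallyOfFiniteType (Y ↘ (Spec (CommRingCat.of ℂ))) := inferInstanceAs (LocallyOfFiniteType (f ≫ g))
  have hZ1 : IsLocallyNoetherian Z := LocallyOfFiniteType.isLocallyNoetherian g
  have hY1 : IsLocallyNoetherian Y := LocallyOfFiniteType.isLocallyNoetherian f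
  have hZ2 : CompactSpace Z := QuasiCompact.compactSpace_of_compactSpace g
  have hY2 : CompactSpace Y := QuasiCompact.compactSpace_of_compactSpace f
  have hZN : IsNoetherian Z := {}
  have hYN : IsNoetherian Y := {}
  -- generic point of `B`
  obtain ⟨η, hη⟩ := QuasiSober.sober hBi hBc
  have hηB : closure {η} = B := hη.def
  have hηp : η ⤳ p := by rw [specializes_iff_mem_closure, hηB]; exact hp
  have htrdη : DimSch.trd ℂ Z η = 1 := by
    have h1 := K426.DimKit.dim_closure ℂ Z η
    rw [hηB, hBd] at h1
    exact_mod_cast h1.symm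
  have hηne : η ≠ p := by
    rintro rfl
    rw [DimSch.trd_eq_zero_of_isClosed ℂ hpc] at htrdη
    exact absurd htrdη (by norm_num)
  have hcl : ∀ z ∈ B, z ≠ η → IsClosed ({z} : Set Z) := by
    intro z hz hne
    have h1 : η ⤳ z := by rw [specializes_iff_mem_closure, hηB]; exact hz
    have h2 := K426.Cut.trd_lt ℂ h1 (Ne.symm hne)
    exact K431.CurveThru.isClosed_of_trd_eq_zero ℂ (by omega)
  -- lift the generization
  obtain ⟨x, hxq, hxη⟩ := Flat.generalizingMap f (show η ⤳ f.base q by rw [hq]; exact hηp)
  have hF : IsClosed (f.base ⁻¹' {p}) := hpc.preimage f.continuous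
  obtain ⟨x', hxx', hx'q, hx'F, himm⟩ := K431.CurveThru.exists_immediate hxq hF (by
    intro h
    have h' : f.base x = p := h
    have h2 : f.base x = η := hxη
    exact hηne (h2.symm.trans h'))
  have hx'η : f.base x' = η := by
    by_contra hne
    have h1 : f.base x' ∈ B := by
      rw [← hηB, ← specializes_iff_mem_closure]
      have := hxx'.map f.continuous
      have h2 : f.base x = η := hxη
      exact h2 ▸ this
    have h2 := hcl _ h1 hne
    have h3 : f.base x' ⤳ p := by
      have := hx'q.map f.continuous
      exact hq ▸ this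
    have h4 : p ∈ closure {f.base x'} := specializes_iff_mem_closure.mp h3
    rw [h2.closure_eq] at h4
    exact hx'F h4.symm
  have hx'ne : x' ≠ q := by
    rintro rfl
    exact hx'F hq
  have htrd : DimSch.trd ℂ Y x' = 1 := K431.CurveThru.trd_eq_one ℂ hx'q hx'ne hqc himm
  have hclY : ∀ y ∈ closure {x'}, y ≠ x' → IsClosed ({y} : Set Y) := by
    intro y hy hne
    have h2 := K426.Cut.trd_lt ℂ (specializes_iff_mem_closure.mpr hy) (Ne.symm hne)
    exact K431.CurveThru.isClosed_of_trd_eq_zero ℂ (by omega)
  refine ⟨closure {x'}, isClosed_closure, isIrreducible_singleton.closure,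
    specializes_iff_mem_closure.mp hx'q, ?_, ?_⟩
  · apply Set.Subset.antisymm
    · rintro _ ⟨y, hy, rfl⟩
      rw [← hηB, ← specializes_iff_mem_closure, ← hx'η]
      exact (specializes_iff_mem_closure.mpr hy).map f.continuous
    · rw [← hηB]
      refine closure_minimal ?_ (f.isClosedMap _ isClosed_closure)
      rintro _ rfl
      exact ⟨x', subset_closure rfl, hx'η⟩
  · intro z
    by_cases hzη : z = η
    · subst hzη
      refine (Set.finite_singleton x').subset ?_
      rintro y ⟨hy, hyz⟩
      by_contra hne
      have h1 := hclY y hy hne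
      have h2 : IsClosed (f.base '' {y}) := f.isClosedMap _ h1
      rw [Set.image_singleton, show f.base y = z from hyz] at h2
      rw [DimSch.trd_eq_zero_of_isClosed ℂ h2] at htrdη
      exact absurd htrdη (by norm_num)
    · by_cases hzB : z ∈ B
      · have h1 := hcl z hzB hzη
        have h2 : IsClosed (closure {x'} ∩ f.base ⁻¹' {z}) := isClosed_closure.inter (h1.preimage f.continuous)
        have h3 : (closure {x'} ∩ f.base ⁻¹' {z}) ⊆ closedPoints Y := by
          rintro y ⟨hy, hyz⟩
          refine hclY y hy ?_
          rintro rfl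
          exact hzη (hyz.symm.trans hx'η)
        -- a Noetherian sober space all of whose points are closed is finite
        obtain ⟨S, hSf, hSc, hSi, hS⟩ :=
          TopologicalSpace.NoetherianSpace.exists_finite_set_isClosed_irreducible h2
        rw [hS]
        refine Set.Finite.sUnion hSf fun t ht => ?_
        obtain ⟨y, hy⟩ := QuasiSober.sober (hSi t ht) (hSc t ht)
        have h4 : closure {y} = t := hy.def
        have h5 : y ∈ closure {x'} ∩ f.base ⁻¹' {z} := by
          rw [hS]
          exact ⟨t, ht, h4 ▸ subset_closure rfl⟩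
        rw [← h4, (show IsClosed ({y} : Set Y) from h3 h5).closure_eq]
        exact Set.finite_singleton y
      · convert Set.finite_empty
        rw [Set.eq_empty_iff_forall_notMem]
        rintro y ⟨hy, hyz⟩
        apply hzB
        rw [← hηB, ← specializes_iff_mem_closure, ← hx'η, ← show f.base y = z from hyz]
        exact (specializes_iff_mem_closure.mpr hy).map f.continuous

end Groth.Agent.S16203
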