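import Groth.Statements.S16211
import Mathlib.RingTheory.Smooth.Basic
import Mathlib.Tactic

set_option autoImplicit false
universe u v
open InvTh

namespace Groth.Agent.S16211

/-- Let R be a commutative ring, O a formally smooth R-algebra and G a finite group whose order is
invertible in R, acting on O by R-algebra automorphisms. Then the largest quotient algebra of O on
which G acts trivially, namely the quotient of O by the ideal generated by all g • f - f (the
coordinate ring of the subscheme of G-fixed points of Spec O), is again formally smooth over R: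
invariant homomorphisms lift along square-zero extensions. The published statement is about a scheme
X smooth and of finite presentation over the base and concludes that its fixed-point scheme is
smooth; this row, the affine step of its proof, assumes only that O is formally smooth over R and
concludes only formal smoothness. -/
theorem result (R : Type u) [CommRing R]
    (O : Type u) [CommRing O] [Algebra R O] [Algebra.FormallySmooth R O]
    (G : Type v) [Group G] [Finite G] [MulSemiringAction G O] [SMulCommClass G R O]
    (hG : IsUnit (Nat.card G : R)) :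
    Algebra.FormallySmooth R (O ⧸ Ideal.span {x : O | ∃ (g : G) (f : O), x = g • f - f}) := by
  cases nonempty_fintype G
  obtain ⟨c, hc⟩ := hG.exists_left_inv
  set J : Ideal O := Ideal.span {x : O | ∃ (g : G) (f : O), x = g • f - f} with hJ
  refine Algebra.FormallySmooth.of_comp_surjective ?_
  intro B _ _ I hI f
  obtain ⟨φ, hφ⟩ := Algebra.FormallySmooth.comp_surjective R O I hI
    (f.comp (Ideal.Quotient.mkₐ R J))
  have hφ' : ∀ x, Ideal.Quotient.mk I (φ x) = f (Ideal.Quotient.mk J x) := fun x =>
    DFunLike.congr_fun hφ x
  have hmem : ∀ (g : G) (x : O), φ (g • x) - φ x ∈ I := by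
    intro g x
    rw [← Ideal.Quotient.eq_zero_iff_mem, map_sub, hφ', hφ', sub_eq_zero]
    congr 1
    rw [Ideal.Quotient.eq]
    exact Ideal.subset_span ⟨g, x, rfl⟩
  have hII : ∀ a ∈ I, ∀ b ∈ I, a * b = 0 := by
    intro a ha b hb
    have : a * b ∈ I ^ 2 := by rw [pow_two]; exact Ideal.mul_mem_mul ha hb
    rw [hI] at this
    exact this
  have hsum : ∀ b : B, c • ∑ _g : G, b = b := by
    intro b
    rw [Finset.sum_const, Finset.card_univ, ← Nat.card_eq_fintype_card, ← Nat.cast_smul_eq_nsmul R,
      smul_smul, hc, one_smul]
  -- the averaged lift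
  let ψl : O →ₗ[R] B := c • ∑ g : G, φ.toLinearMap ∘ₗ DistribSMul.toLinearMap R O g
  have hψl : ∀ x, ψl x = c • ∑ g : G, φ (g • x) := by
    intro x
    simp [ψl, LinearMap.sum_apply]
  have hd : ∀ x, ψl x - φ x ∈ I := by
    intro x
    have : ψl x - φ x = c • ∑ g : G, (φ (g • x) - φ x) := by
      rw [hψl, Finset.sum_sub_distrib, smul_sub, hsum]
    rw [this]
    exact Submodule.smul_of_tower_mem I c (Ideal.sum_mem _ fun g _ => hmem g x)
  have hψ1 : ψl 1 = 1 := by
    rw [hψl]
    simp_rw [smul_one, map_one]
    exact hsum 1
  have hψmul : ∀ x y, ψl (x * y) = ψl x * ψl y := by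
    intro x y
    have h1 : ψl x * ψl y = φ x * ψl y + ψl x * φ y - φ x * φ y := by
      have := hII _ (hd x) _ (hd y)
      linear_combination this
    have h2 : ψl (x * y) = φ x * ψl y + ψl x * φ y - φ x * φ y := by
      have h3 : ∀ g : G, φ (g • (x * y)) =
          φ x * φ (g • y) + φ (g • x) * φ y - φ x * φ y := by
        intro g
        have := hII _ (hmem g x) _ (hmem g y)
        rw [smul_mul', map_mul]
        linear_combination this
      rw [hψl]
      simp_rw [h3]
      rw [Finset.sum_sub_distrib, Finset.sum_add_distrib, smul_sub, smul_add, hsum,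
        ← Finset.mul_sum, ← Finset.sum_mul, ← mul_smul_comm, ← smul_mul_assoc, ← hψl, ← hψl]
    rw [h1, h2]
  let ψ : O →ₐ[R] B := AlgHom.ofLinearMap ψl hψ1 hψmul
  have hψinv : ∀ (g : G) (x : O), ψ (g • x) = ψ x := by
    intro g x
    change ψl (g • x) = ψl x
    rw [hψl, hψl]
    congr 1
    simp_rw [smul_smul]
    exact Fintype.sum_equiv (Equiv.mulRight g) _ _ (fun x => rfl)
  refine ⟨Ideal.Quotient.liftₐ J ψ ?_, ?_⟩
  · intro x hx
    have : J ≤ RingHom.ker ψ := by
      rw [hJ, Ideal.span_le]
      rintro _ ⟨g, f, rfl⟩
      rw [SetLike.mem_coe, RingHom.mem_ker, map_sub, hψinv, sub_self]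
    exact this hx
  · apply Ideal.Quotient.algHom_ext
    ext x
    change Ideal.Quotient.mk I (ψl x) = f (Ideal.Quotient.mk J x)
    rw [← hφ', Ideal.Quotient.eq]
    exact hd x

end Groth.Agent.S16211
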