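import Groth.Statements.S16214
import Groth.Agent.AlgSt.K745.DiagTors
import Groth.Agent.AlgSt.K745.ClassSm
import Groth.Agent.S10104

set_option autoImplicit false
universe u
open CategoryTheory AlgebraicGeometry
open AlgSt

namespace Groth.Agent.S16214

/-- Let k be an algebraically closed field and Δ a finite diagonalizable group scheme over k, written Δ
= D(M) = Spec k[M] for a finite abelian group M. Then the classifying stack BΔ (whose objects over a
k-scheme T are the fppf-locally trivial Δ_T-torsors) is smooth over k, in the chart form: there are
schemes U, V over k, a smooth surjective chart (Sch/U) ⟶ BΔ, a smooth chart (Sch/V) of Spec k and a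
smooth U ⟶ V making the chart square commute up to isomorphism. (Δ itself need not be smooth, e.g.
μ_p in characteristic p.) The published statement allows any diagonalizable Δ; this row takes Δ
finite, i.e. M finite, the case its proof treats. -/
theorem result (k : Type u) [Field k] [IsAlgClosed k]
    (M : Type) [AddCommGroup M] [Finite M] :
    AlgSt.LocQ (AlgSp.LocP @Smooth)
      (FibCat.toSelf (AlgSt.BG Scheme.fppfPrecoverage (Red.diag k M))) := by
  have hb : K734.Rep.Boot (Spec (CommRingCat.of k)) := fun F U p hp => Groth.Agent.S10104.result _ F U p hp
  have := K745.DiagTors.isAffineHom_diag k M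
  have := K745.DiagTors.flat_diag k M
  have := K745.DiagTors.lfp_diag k M
  obtain ⟨A, h1, h2, h3⟩ := K745.DiagTors.exists_torsor k M
  exact K745.ClassSm.locQ_BZ hb A h1 h2 h3

end Groth.Agent.S16214
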