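import Groth.Statements.S16216
import Groth.Agent.S16250
import Groth.Agent.PtDefo.K752.FibArt
import Groth.Agent.PtDefo.K752.Unit

set_option autoImplicit false
universe u
open CategoryTheory CategoryTheory.Limits AlgebraicGeometry
open PtDefo

attribute [-instance] CategoryTheory.catToReflQuiver

namespace Groth.Agent.S16216

/-- Let k be an algebraically closed field of characteristic neither 2 nor 3, C a smooth proper integral
curve of genus one over k and P a rational point of C. For every local Artinian k-algebra A with
residue field k the forgetful map, from isomorphism classes of deformations of the pointed curve (C,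
P) over A (deformations of C over A with a section through P) to isomorphism classes of deformations
of C over A, is injective: two sections through P of one deformation of C over A are exchanged by an
automorphism of that deformation inducing the identity on C. Genus one is essential here; for genus
at least two it fails. (The characteristic assumption is the standing one of the source's section
and plays no role.) -/
theorem result
    {k : Type u} [Field k] [IsAlgClosed k] (h2 : (2 : k) ≠ 0) (h3 : (3 : k) ≠ 0)
    (X : Scheme.{u}) [X.Over (Spec (CommRingCat.of k))]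
    (hX : Curve.IsSmoothProperCurve k X (X ↘ Spec (CommRingCat.of k))) (hg : Curv2.genus k X = 1)
    (P : Spec (CommRingCat.of k) ⟶ X) (hP : P ≫ (X ↘ Spec (CommRingCat.of k)) = 𝟙 _)
    (A : ArtFun.Art k k) :
    Function.Injective ((PtDefo.forgetPts (Λ := k) X (X ↘ Spec (CommRingCat.of k)) (fun _ : PUnit.{u + 1} => P)).app A) := by
  have _h2 := h2
  have _h3 := h3
  obtain ⟨hp, hs, hi, hd⟩ := hX
  have hconn : ConnectedSpace X := inferInstance
  intro z z' hzz
  obtain ⟨ξ, rfl⟩ := Quotient.exists_rep z
  obtain ⟨ξ', rfl⟩ := Quotient.exists_rep z'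
  obtain ⟨e⟩ : Nonempty (ArtFun.DefSch.Iso ξ.toDefSch ξ'.toDefSch) := Quotient.exact hzz
  refine Quotient.sound ?_
  let f := ξ'.f
  let s : ArtFun.Art.spec A ⟶ ξ'.total := ξ.sect PUnit.unit ≫ e.iso.hom
  have hsf : s ≫ f = 𝟙 _ := by
    change (ξ.sect PUnit.unit ≫ e.iso.hom) ≫ ξ'.f = _
    rw [Category.assoc, e.hom_f, ξ.sect_f]
  let t : ArtFun.Art.spec A ⟶ ξ'.total := ξ'.sect PUnit.unit
  have htf : t ≫ f = 𝟙 _ := ξ'.sect_f _
  have := K752.FibArt.isProper_f ξ'.toDefSch
  have := K752.FibArt.smooth_relDim hd ξ'.toDefSch
  obtain ⟨g, hg1, -⟩ := Groth.Agent.S16250.result f (K752.FibArt.geomConn ξ'.toDefSch)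
    (K752.FibArt.eulerChar_fiber hg ξ'.toDefSch) s hsf
  obtain ⟨τ, hτ1, hτ2, hτ3⟩ := K752.Translate.exists_translation f s t hsf htf
    (K752.Translate.cst_eq_one f s hsf g hg1) ξ'.i (by
      change (ξ'.i ≫ ξ'.f) ≫ s = (ξ'.i ≫ ξ'.f) ≫ t
      rw [ξ'.i_f, Category.assoc, Category.assoc]
      congr 1
      change ArtFun.Art.specRes A ≫ ξ.sect PUnit.unit ≫ e.iso.hom = ArtFun.Art.specRes A ≫ ξ'.sect PUnit.unit
      rw [← Category.assoc, ← ξ.pt_sect, Category.assoc, e.i_hom, ξ'.pt_sect])
  exact ⟨{ iso := e.iso ≪≫ τ
           hom_f := by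
             change (e.iso.hom ≫ τ.hom) ≫ ξ'.f = ξ.f
             rw [Category.assoc]
             erw [hτ1]
             exact e.hom_f
           i_hom := by
             change ξ.i ≫ e.iso.hom ≫ τ.hom = ξ'.i
             rw [← Category.assoc, e.i_hom, hτ3]
           sect_hom := fun j => by
             change ξ.sect j ≫ e.iso.hom ≫ τ.hom = ξ'.sect j
             rw [← Category.assoc]
             exact hτ2 }⟩
end Groth.Agent.S16216
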