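import Groth.Statements.S16217
import Groth.Agent.Curves.K327.TanTwist

set_option autoImplicit false
universe u
open CategoryTheory CategoryTheory.Limits AlgebraicGeometry
open Curves

namespace Groth.Agent.S16217

/-- Let k be an algebraically closed field and X a reduced separated scheme locally of finite type over
k that is the union of two reduced closed subschemes C and D (their ideal sheaves meet in zero),
each of which has all its irreducible components of dimension one, and suppose C and D meet in a
finite set S of points each of which is an ordinary double point of X (so near each point of S the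
two curves are the two branches of the node and meet transversally, and X is a reduced curve). With
T_Y = Hom(Ω_{Y/k}, O_Y) the tangent sheaf and I_{S,C}, I_{S,D} the radical ideal sheaves of S in C
and in D, the tangent sheaf T_X is isomorphic as an O_X-module to the direct sum of the direct
images on X of I_{S,C} ⊗ T_C and I_{S,D} ⊗ T_D (existence of an isomorphism only; the identification
is by restricting derivations to C and to D). -/
theorem result
    {k : Type u} [Field k] [IsAlgClosed k] (X : Scheme.{u}) [X.Over (Spec (CommRingCat.of k))]
    [LocallyOfFiniteType (X ↘ Spec (CommRingCat.of k))] [IsSeparated (X ↘ Spec (CommRingCat.of k))] [IsReduced X]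
    (IC ID : X.IdealSheafData) [IsReduced IC.subscheme] [IsReduced ID.subscheme]
    (hC : ∀ Z ∈ irreducibleComponents (IC.subscheme : Type u), topologicalKrullDim Z = 1)
    (hD : ∀ Z ∈ irreducibleComponents (ID.subscheme : Type u), topologicalKrullDim Z = 1)
    (hunion : IC ⊓ ID = ⊥)
    (hfin : ((IC.support : Set X) ∩ (ID.support : Set X)).Finite)
    (hnode : ∀ s ∈ (IC.support : Set X) ∩ (ID.support : Set X), Curv2.IsNode k X s) :
    Nonempty (RefHull.dual (Omega.sheaf (X ↘ Spec (CommRingCat.of k))) ≅
      (Scheme.Modules.pushforward IC.subschemeι).obj
          (CohB1.tensorMod (ClSub.idealMod (ID.comap IC.subschemeι).radical)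
            (RefHull.dual (Omega.sheaf (IC.subschemeι ≫ (X ↘ Spec (CommRingCat.of k)))))) ⊞
        (Scheme.Modules.pushforward ID.subschemeι).obj
          (CohB1.tensorMod (ClSub.idealMod (IC.comap ID.subschemeι).radical)
            (RefHull.dual (Omega.sheaf (ID.subschemeι ≫ (X ↘ Spec (CommRingCat.of k))))))) := by
  exact Curves.K327.TanTwist.nonempty_iso ⟨inferInstance, inferInstance, hC, hD, hunion, hnode⟩

end Groth.Agent.S16217
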