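import Groth.Statements.S16218
import Groth.Agent.Curves.K363.CoarseZero

set_option autoImplicit false
universe u
open CategoryTheory CategoryTheory.Limits AlgebraicGeometry
open Curves

namespace Groth.Agent.S16218

/-- Let k be an algebraically closed field. For the moduli problem of curves of genus 0 over k-schemes
(smooth proper geometrically irreducible morphisms whose geometric fibres are one-dimensional of
genus 0, up to isomorphism over the base), the point M = Spec k with the morphism φ sending each
family over T to the structure morphism of T satisfies: (b) every morphism ψ from the problem to a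
functor of points h_N, both taken on test schemes of finite type over k, factors as φ followed by a
unique k-morphism Spec k → N; and (a) φ is bijective on geometric points: over every algebraically
closed field Ω over k there is a family of genus-0 curves over Spec Ω and any two are isomorphic. In
particular Spec k is a coarse moduli scheme for curves of genus 0 in this sense (universal property
for test schemes of finite type over k), and the family over Spec k in (a) is a tautological family.
(The published statement asserts the universal property (b) for all k-schemes as test schemes and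
for families projective over the base; its proof treats test schemes of finite type over k,
indicating the general case only in outline, so (b) is stated for finite-type test schemes here, and
properness replaces projectivity, which changes nothing in the argument. Since Spec k is terminal
among k-schemes, φ is unique and is quantified existentially.) -/
theorem result
    {k : Type u} [Field k] [IsAlgClosed k] :
    ∃ φ : (ModFun.Mg (Spec (CommRingCat.of k)) 0).Hom ⊤ (Over.mk (𝟙 (Spec (CommRingCat.of k)))),
      ModFun.IsBestApprox
          (fun T : Over (Spec (CommRingCat.of k)) => LocallyOfFiniteType T.hom ∧ QuasiCompact T.hom)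
          (ModFun.Mg (Spec (CommRingCat.of k)) 0) (Over.mk (𝟙 (Spec (CommRingCat.of k)))) (φ.ofLE le_top) ∧
        ModFun.GeomBij (ModFun.Mg (Spec (CommRingCat.of k)) 0) (Over.mk (𝟙 (Spec (CommRingCat.of k)))) φ := by
  have hu : ∀ (T : Over (Spec (CommRingCat.of k))) (a b : T ⟶ Over.mk (𝟙 (Spec (CommRingCat.of k)))), a = b := by
    intro T a b
    apply Over.OverMorphism.ext
    have ha := Over.w a
    have hb := Over.w b
    exact (Category.comp_id _).symm.trans ((ha.trans hb.symm).trans (Category.comp_id _))
  let φ : (ModFun.Mg (Spec (CommRingCat.of k)) 0).Hom ⊤ (Over.mk (𝟙 (Spec (CommRingCat.of k)))) :=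
    { app := fun T _ _ _ => Over.homMk T.hom (Category.comp_id _)
      natural := fun _ _ _ _ _ _ => hu _ _ _
      resp := fun _ _ _ _ _ _ => hu _ _ _ }
  refine ⟨φ, ?_, ?_⟩
  · intro N ψ
    refine ⟨ψ.app _ (K363.CoarseZero.P₀ k) K363.CoarseZero.test_pt K363.CoarseZero.ok_P₀, ?_, ?_⟩
    · intro T x hT hx
      exact K363.CoarseZero.app_eq N ψ T x hT hx _
    · intro f hf
      have h1 := hf _ (K363.CoarseZero.P₀ k) K363.CoarseZero.test_pt K363.CoarseZero.ok_P₀
      refine Eq.trans ?_ h1.symm
      refine (Category.id_comp f).symm.trans ?_
      exact congrArg (fun z => z ≫ f) (hu _ _ _)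
  · intro Ω _ _ t hP
    refine ⟨fun g => ⟨(Over.mk (CohB1.ProjSpace.toSpec 1 Ω) : Over (Spec (CommRingCat.of Ω))),
      ⟨trivial, K995.P1Curve.isCurveOfGenus Ω⟩, hu _ _ _⟩, ?_⟩
    intro x y hx hy _
    obtain ⟨e₁, h₁⟩ := K363.RigidP1.exists_iso_P1 (k := Ω) hx.2
    obtain ⟨e₂, h₂⟩ := K363.RigidP1.exists_iso_P1 (k := Ω) hy.2
    refine ⟨Over.isoMk (e₁ ≪≫ e₂.symm) ?_⟩
    rw [← h₁, ← h₂]
    simp

end Groth.Agent.S16218
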