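import Groth.Statements.S16225
import Groth.Agent.CAlg.K673.WittEq

set_option autoImplicit false
open scoped TensorProduct
universe u v
open CAlg

namespace Groth.Agent.S16225

/-- Let p be a prime, n a natural number and R → R' a faithfully flat homomorphism of commutative rings
in which p is nilpotent. Regard W_n(R') and W_n(R' ⊗_R R') as W_n(R)-algebras through the
componentwise maps induced by R → R' and R → R' ⊗_R R', and let ψ₁, ψ₂ : W_n(R') → W_n(R' ⊗_R R') be
the componentwise maps induced by the two inclusions of R' (these are W_n(R)-algebra maps). Then for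
every flat W_n(R)-module M the sequence 0 → M → M ⊗_{W_n(R)} W_n(R') ⇉ M ⊗_{W_n(R)} W_n(R' ⊗_R R')
is exact: m ↦ m ⊗ 1 is injective and its image is the equalizer of id ⊗ ψ₁ and id ⊗ ψ₂. (This is the
beginning, in degrees 0 and 1, of a complex continued by the higher tensor powers of R', which the
published proof asserts to be exact throughout; W_n(R) → W_n(R') is not flat in general, so this is
not faithfully flat descent.) -/
theorem result (p : ℕ) [Fact p.Prime] (n : ℕ)
    (R R' : Type u) [CommRing R] [CommRing R'] [Algebra R R'] [Module.FaithfullyFlat R R']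
    (hp : IsNilpotent (p : R))
    [Algebra (TruncatedWittVector p n R) (TruncatedWittVector p n R')]
    (h₁ : algebraMap (TruncatedWittVector p n R) (TruncatedWittVector p n R') = WittGrp.truncMap p n (algebraMap R R'))
    [Algebra (TruncatedWittVector p n R) (TruncatedWittVector p n (TensorProduct R R' R'))]
    (h₂ : algebraMap (TruncatedWittVector p n R) (TruncatedWittVector p n (TensorProduct R R' R')) =
      WittGrp.truncMap p n (algebraMap R (TensorProduct R R' R')))
    (ψ₁ ψ₂ : TruncatedWittVector p n R' →ₐ[TruncatedWittVector p n R] TruncatedWittVector p n (TensorProduct R R' R'))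
    (hψ₁ : (ψ₁ : TruncatedWittVector p n R' →+* TruncatedWittVector p n (TensorProduct R R' R')) =
      WittGrp.truncMap p n (Algebra.TensorProduct.includeLeftRingHom : R' →+* TensorProduct R R' R'))
    (hψ₂ : (ψ₂ : TruncatedWittVector p n R' →+* TruncatedWittVector p n (TensorProduct R R' R')) =
      WittGrp.truncMap p n ((Algebra.TensorProduct.includeRight : R' →ₐ[R] TensorProduct R R' R') : R' →+* TensorProduct R R' R'))
    (M : Type v) [AddCommGroup M] [Module (TruncatedWittVector p n R) M] [Module.Flat (TruncatedWittVector p n R) M] :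
    Function.Injective (fun m : M => m ⊗ₜ[TruncatedWittVector p n R] (1 : TruncatedWittVector p n R')) ∧
      ∀ x : M ⊗[TruncatedWittVector p n R] TruncatedWittVector p n R',
        LinearMap.lTensor M ψ₁.toLinearMap x = LinearMap.lTensor M ψ₂.toLinearMap x →
          x ∈ Set.range (fun m : M => m ⊗ₜ[TruncatedWittVector p n R] (1 : TruncatedWittVector p n R')) := by
  have hinj : Function.Injective (Algebra.linearMap (TruncatedWittVector p n R) (TruncatedWittVector p n R')) := by
    have h := K673.WittEq.truncMap_injective (p := p) (n := n) (algebraMap R R')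
      (FaithfulSMul.algebraMap_injective R R')
    rw [← h₁] at h
    exact h
  have hex : Function.Exact
      (Algebra.linearMap (TruncatedWittVector p n R) (TruncatedWittVector p n R'))
      (ψ₁.toLinearMap - ψ₂.toLinearMap) := by
    intro x
    have e₁ : ∀ y, ψ₁ y = WittGrp.truncMap p n _ y := fun y => RingHom.congr_fun hψ₁ y
    have e₂ : ∀ y, ψ₂ y = WittGrp.truncMap p n _ y := fun y => RingHom.congr_fun hψ₂ y
    constructor
    · intro hx
      have hx' : ψ₁ x = ψ₂ x := sub_eq_zero.1 hx
      rw [e₁, e₂] at hx'
      obtain ⟨y, hy⟩ := K673.WittEq.exists_of_truncMap_eq x hx'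
      refine ⟨y, ?_⟩
      rw [Algebra.linearMap_apply, h₁]
      exact hy
    · rintro ⟨y, rfl⟩
      rw [Algebra.linearMap_apply]
      change ψ₁ _ - ψ₂ _ = 0
      rw [AlgHom.commutes, AlgHom.commutes, sub_self]
  have hrid : ∀ m : M, m ⊗ₜ[TruncatedWittVector p n R] (1 : TruncatedWittVector p n R') =
      LinearMap.lTensor M (Algebra.linearMap (TruncatedWittVector p n R) (TruncatedWittVector p n R'))
        ((TensorProduct.rid (TruncatedWittVector p n R) M).symm m) := by
    intro m
    rw [TensorProduct.rid_symm_apply, LinearMap.lTensor_tmul, Algebra.linearMap_apply, map_one]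
  refine ⟨?_, fun x hx => ?_⟩
  · intro m m' h
    simp only [hrid] at h
    exact (TensorProduct.rid _ M).symm.injective
      (Module.Flat.lTensor_preserves_injective_linearMap _ hinj h)
  · have h1 := (Module.Flat.lTensor_exact M hex x).1 (by
      rw [LinearMap.lTensor_sub, LinearMap.sub_apply, hx, sub_self])
    obtain ⟨y, hy⟩ := h1
    refine ⟨TensorProduct.rid _ M y, ?_⟩
    simp only [hrid]
    rw [LinearEquiv.symm_apply_apply, hy]

end Groth.Agent.S16225
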