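import Groth.Statements.S16226
import Groth.Agent.PrincBund.K826.Tors

set_option autoImplicit false
universe u
open CategoryTheory MonoidalCategory CartesianMonoidalCategory MonObj AlgebraicGeometry
open PrincBund

namespace Groth.Agent.S16226

/-- Let i : G → H be a homomorphism of group schemes over a base scheme S which is a closed immersion, F
an H-torsor over S for the etale topology with action aF, and π : F → Q a morphism of S-schemes
exhibiting Q as the quotient F/G, in the sense that the square formed by the restricted action G ×_S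
F → F, the projection G ×_S F → F and π twice is cartesian and π acquires sections etale-locally on
Q. Then for every section σ of Q over S there are a G-torsor E over S for the etale topology and an
i-equivariant morphism φ : E → F over S such that the square (φ, E → S; π, σ) is cartesian; that is,
σ comes from a reduction of the structure group of F to G. (Stated over an arbitrary base scheme and
for arbitrary group schemes; the quotient F/G is taken as data through its torsor property rather
than constructed.) -/
theorem result
    {S : Scheme.{u}} {G H F Q : Over S} [GrpObj G] [GrpObj H]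
    (i : G ⟶ H) [IsMonHom i] [IsClosedImmersion i.left]
    (aF : AlgGrp.Action H F) (hF : NonAbH1.IsTorsorFor Scheme.etalePrecoverage aF)
    (π : F ⟶ Q)
    (hsq : IsPullback (aF.restrict i).act (snd G F) π π)
    (hloc : NonAbH1.IsLocallyTrivialFor Scheme.etalePrecoverage (Over.mk π.left : Over Q.left))
    (σ : 𝟙_ (Over S) ⟶ Q) :
    ∃ (E : Over S) (aE : AlgGrp.Action G E) (φ : E ⟶ F),
      NonAbH1.IsTorsorFor Scheme.etalePrecoverage aE ∧
      AlgGrp.Action.IsEquivariant aE (aF.restrict i) φ ∧
      IsPullback φ (toUnit E) π σ := by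
  let b : AlgGrp.Action G F := aF.restrict i
  change IsPullback b.act (snd G F) π π at hsq
  let E : Over S := Limits.pullback π σ
  let φ : E ⟶ F := Limits.pullback.fst π σ
  have hpb : IsPullback φ (toUnit E) π σ := by
    have := IsPullback.of_hasPullback π σ
    rwa [show Limits.pullback.snd π σ = toUnit E from toUnit_unique _ _] at this
  have hmono : Mono φ := by
    refine ⟨fun {T} e₁ e₂ h => hpb.hom_ext h (toUnit_unique _ _)⟩
  have hπ : ∀ (T : Over S) (e : T ⟶ E), e ≫ φ ≫ π = toUnit T ≫ σ := by
    intro T e
    rw [hpb.w, ← Category.assoc, toUnit_unique (e ≫ toUnit E) (toUnit T)]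
  have hact : ∀ (T : Over S) (g : T ⟶ G) (x : T ⟶ F), lift g x ≫ b.act ≫ π = x ≫ π := by
    intro T g x
    rw [hsq.w, lift_snd_assoc]
  have hc : ((G ◁ φ) ≫ b.act) ≫ π = toUnit (G ⊗ E) ≫ σ := by
    rw [Category.assoc, hsq.w, whiskerLeft_snd_assoc, hπ]
  let m : G ⊗ E ⟶ E := hpb.lift ((G ◁ φ) ≫ b.act) (toUnit _) hc
  have hm : m ≫ φ = (G ◁ φ) ≫ b.act := hpb.lift_fst _ _ _
  have hmp : ∀ (T : Over S) (g : T ⟶ G) (e : T ⟶ E), lift g e ≫ m ≫ φ = lift g (e ≫ φ) ≫ b.act := by
    intro T g e
    rw [hm, lift_whiskerLeft_assoc]
  let aE : AlgGrp.Action G E :=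
    { act := m
      one_act := by
        rw [← cancel_mono φ, Category.assoc, hm]
        apply AlgGrp.Action.hom_ext_lift₂
        intro T t e
        have ht : t ≫ η[G] = 1 := by rw [Hom.one_def, toUnit_unique (toUnit T) t]
        rw [lift_whiskerRight_assoc, ht, lift_whiskerLeft_assoc, b.lift_one_act, leftUnitor_hom,
          lift_snd_assoc]
      mul_act := by
        rw [← cancel_mono φ, Category.assoc, Category.assoc, Category.assoc, hm]
        apply AlgGrp.Action.hom_ext_lift₃
        intro T g h e
        rw [lift_whiskerRight_assoc, ← Hom.mul_def, lift_whiskerLeft_assoc, b.lift_mul_act,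
          lift_lift_associator_hom_assoc, lift_whiskerLeft_assoc, lift_whiskerLeft_assoc,
          Category.assoc, hmp] }
  refine ⟨E, aE, φ, ⟨?_, ?_⟩, hm, hpb⟩
  · refine K826.Tors.pseudo_of_existsUnique fun T x y => ?_
    have hxy : (y ≫ φ) ≫ π = (x ≫ φ) ≫ π := by
      rw [Category.assoc, Category.assoc, hπ, hπ]
    have h1 := hsq.lift_fst _ _ hxy
    have h2 := hsq.lift_snd _ _ hxy
    have h3 : lift (hsq.lift _ _ hxy ≫ fst G F) (x ≫ φ) = hsq.lift _ _ hxy := by
      apply CartesianMonoidalCategory.hom_ext
      · rw [lift_fst]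
      · rw [lift_snd, h2]
    refine ⟨hsq.lift _ _ hxy ≫ fst G F, ?_, ?_⟩
    · change lift _ x ≫ m = y
      rw [← cancel_mono φ, Category.assoc, hmp, h3, h1]
    · intro g hg
      change lift g x ≫ m = y at hg
      have h4 : lift g (x ≫ φ) = hsq.lift _ _ hxy := by
        apply hsq.hom_ext
        · rw [← hmp, ← Category.assoc, hg, h1]
        · rw [lift_snd, h2]
      rw [← h4, lift_fst]
  · have : Scheme.etalePrecoverage.{u}.IsStableUnderBaseChange := by
      unfold Scheme.etalePrecoverage; infer_instance
    exact K826.Tors.locTriv_fibre hpb hloc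

end Groth.Agent.S16226
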