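import Groth.Statements.S16227
import Groth.Agent.PrincBund.K826.Tors
import Groth.Agent.PrincBund.K826.Descend

set_option autoImplicit false
universe u
open CategoryTheory MonoidalCategory CartesianMonoidalCategory MonObj AlgebraicGeometry
open PrincBund

namespace Groth.Agent.S16227

/-- Let i : G → H be a homomorphism of group schemes over a base scheme S which is a closed immersion, F
an H-torsor over S for the etale topology with action aF, and π : F → Q a morphism of S-schemes
exhibiting Q as the quotient F/G, in the sense that the square formed by the restricted action G ×_S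
F → F, the projection G ×_S F → F and π twice is cartesian and π acquires sections etale-locally on
Q. Then a reduction of the structure group of F to G, namely a G-torsor E over S for the etale
topology together with an i-equivariant morphism φ : E → F over S, determines a unique section σ of
Q over S such that the composite E → S → Q equals φ followed by π, and for this σ the square (φ, E →
S; π, σ) is cartesian, so that E is recovered as the pullback of F along σ. (Stated over an
arbitrary base scheme and for arbitrary group schemes; the quotient F/G is taken as data through its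
torsor property rather than constructed.) -/
theorem result
    {S : Scheme.{u}} {G H F Q : Over S} [GrpObj G] [GrpObj H]
    (i : G ⟶ H) [IsMonHom i] [IsClosedImmersion i.left]
    (aF : AlgGrp.Action H F) (hF : NonAbH1.IsTorsorFor Scheme.etalePrecoverage aF)
    (π : F ⟶ Q)
    (hsq : IsPullback (aF.restrict i).act (snd G F) π π)
    (hloc : NonAbH1.IsLocallyTrivialFor Scheme.etalePrecoverage (Over.mk π.left : Over Q.left))
    {E : Over S} (aE : AlgGrp.Action G E) (hE : NonAbH1.IsTorsorFor Scheme.etalePrecoverage aE)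
    (φ : E ⟶ F) (hφ : AlgGrp.Action.IsEquivariant aE (aF.restrict i) φ) :
    (∃! σ : 𝟙_ (Over S) ⟶ Q, toUnit E ≫ σ = φ ≫ π) ∧
      ∀ σ : 𝟙_ (Over S) ⟶ Q, toUnit E ≫ σ = φ ≫ π → IsPullback φ (toUnit E) π σ := by
  have hK : Scheme.etalePrecoverage.{u} ≤ Scheme.fpqcPrecoverage := K826.Descend.etale_le_fpqc
  let b : AlgGrp.Action G F := aF.restrict i
  change IsPullback b.act (snd G F) π π at hsq
  change aE.act ≫ φ = (G ◁ φ) ≫ b.act at hφ
  have hE1 := fun (T : Over S) (x y : T ⟶ E) => K826.Tors.existsUnique_of_pseudo hE.1 x y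
  have hEl := hE.2
  have hact : ∀ (T : Over S) (g : T ⟶ G) (x : T ⟶ F), lift g x ≫ b.act ≫ π = x ≫ π := by
    intro T g x
    rw [hsq.w, lift_snd_assoc]
  have hφp : ∀ (T : Over S) (g : T ⟶ G) (e : T ⟶ E),
      (lift g e ≫ aE.act) ≫ φ = lift g (e ≫ φ) ≫ b.act := by
    intro T g e
    rw [Category.assoc, hφ, lift_whiskerLeft_assoc]
  -- `φ ≫ π` is constant on fibres
  have hconst : ∀ (T : Over S) (x x' : T ⟶ E), x ≫ φ ≫ π = x' ≫ φ ≫ π := by
    intro T x x'
    obtain ⟨g, hg, -⟩ := hE1 T x x'
    have hg' : lift g x ≫ aE.act = x' := hg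
    rw [← hg', ← Category.assoc, ← Category.assoc (lift g x ≫ aE.act), hφp, Category.assoc (lift g (x ≫ φ)), hact]
  -- `G` acts freely on `F`
  have hfree : ∀ (T : Over S) (g g' : T ⟶ G) (x : T ⟶ F),
      lift g x ≫ b.act = lift g' x ≫ b.act → g = g' := by
    intro T g g' x h
    have h1 : lift g x = lift g' x := hsq.hom_ext h (by rw [lift_snd, lift_snd])
    have := congrArg (· ≫ fst G F) h1
    simpa using this
  have htrans : ∀ (T : Over S) (x y : T ⟶ F), y ≫ π = x ≫ π →
      ∃ g : T ⟶ G, lift g x ≫ b.act = y := by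
    intro T x y h
    have h1 := hsq.lift_fst _ _ h
    have h2 := hsq.lift_snd _ _ h
    refine ⟨hsq.lift _ _ h ≫ fst G F, ?_⟩
    have h3 : lift (hsq.lift _ _ h ≫ fst G F) x = hsq.lift _ _ h := by
      apply CartesianMonoidalCategory.hom_ext
      · rw [lift_fst]
      · rw [lift_snd, h2]
    rw [h3, h1]
  have hmono : ∀ (T : Over S) (e e' : T ⟶ E), e ≫ φ = e' ≫ φ → e = e' := by
    intro T e e' h
    obtain ⟨g, hg, -⟩ := hE1 T e e'
    have hg' : lift g e ≫ aE.act = e' := hg
    have h1 : lift g (e ≫ φ) ≫ b.act = lift 1 (e ≫ φ) ≫ b.act := by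
      rw [← hφp, hg', b.lift_one_act, h]
    have h2 := hfree T _ _ _ h1
    rw [← hg', h2, aE.lift_one_act]
  refine ⟨K826.Descend.existsUnique_descend_unit hK hEl (φ ≫ π) hconst, fun σ hσ => ?_⟩
  have hσp : ∀ (T : Over S) (e : T ⟶ E), e ≫ φ ≫ π = toUnit T ≫ σ := by
    intro T e
    rw [← hσ, ← Category.assoc, toUnit_unique (e ≫ toUnit E) (toUnit T)]
  -- for a point `x` of `F` over `σ`, and a point `e` of `E`, the unique `e'` with `φ e' = x`
  have hex : ∀ (T : Over S) (x : T ⟶ F) (_ : x ≫ π = toUnit T ≫ σ) (e : T ⟶ E),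
      ∃ e' : T ⟶ E, e' ≫ φ = x := by
    intro T x hx e
    obtain ⟨g, hg⟩ := htrans T (e ≫ φ) x (by rw [hx, Category.assoc, hσp])
    exact ⟨lift g e ≫ aE.act, by rw [hφp, hg]⟩
  refine K826.Tors.isPullback_of_points hσ.symm fun T x y hxy => ?_
  rw [toUnit_unique y (toUnit T)] at hxy
  have hres : ∀ (T' : Over S) (t : T' ⟶ T), (t ≫ x) ≫ π = toUnit T' ≫ σ := by
    intro T' t
    rw [Category.assoc, hxy, ← Category.assoc, toUnit_unique (t ≫ toUnit T) (toUnit T')]
  have hch := fun (T' : Over S) (t : T' ⟶ T) (e : T' ⟶ E) => hex T' (t ≫ x) (hres T' t) e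
  choose f hf using hch
  obtain ⟨e, he, -⟩ := K826.Descend.existsUnique_glue hK hEl f (by
    intro T' T'' r t e
    apply hmono
    rw [Category.assoc, hf, hf, Category.assoc]) (by
    intro T' t e e'
    apply hmono
    rw [hf, hf])
  have hex : e ≫ φ = x := by
    refine K826.Descend.hom_ext_of_locTriv hK hEl fun T' t e' => ?_
    rw [← Category.assoc, he T' t e', hf]
  exact ⟨e, ⟨hex, toUnit_unique _ _⟩, fun e' he' => hmono _ _ _ (he'.1.trans hex.symm)⟩

end Groth.Agent.S16227
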