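import Groth.Statements.S16228
import Groth.Agent.VBCurve.K707.ParMain

set_option autoImplicit false
universe u
open VBCurve

namespace Groth.Agent.S16228

open CategoryTheory CategoryTheory.Limits AlgebraicGeometry TopologicalSpace Opposite in
/-- Let k be an algebraically closed field in which 2 ≠ 0, X a smooth proper integral curve over k with
sheaf of differentials Ω = Ω_{X/k}, S a locally Noetherian k-scheme, X_S = X ×_k S with projections
q : X_S → X and p : X_S → S, and F a finite locally free O_{X_S}-module equipped with a
non-degenerate symmetric bilinear form with values in q^*Ω, given as an isomorphism σ : F ≅ Hom(F,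
q^*Ω) onto the sheaf Hom such that σ(s)(t) = σ(t)(s) on germs for all local sections s, t. Then the
parity of dim_{κ(s)} H⁰(X_s, F_s), the dimension of the global sections of F restricted to the fibre
over s, is a locally constant function of the point s of S. -/
theorem result
    (k : Type u) [Field k] [IsAlgClosed k] (h2 : (2 : k) ≠ 0)
    (X : Scheme.{u}) (f : X ⟶ Spec (CommRingCat.of k)) (hX : Curve.IsSmoothProperCurve k X f)
    (S : Scheme.{u}) [IsLocallyNoetherian S] (g : S ⟶ Spec (CommRingCat.of k))
    (F : (pullback f g).Modules) (hF : FlatMod.IsFinLocFree F)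
    (σ : F ≅ RefHull.homSh F ((Scheme.Modules.pullback (pullback.fst f g)).obj (Omega.sheaf f)))
    (hσ : ∀ (U : (pullback f g).Opens) (s t : Γ(F, U)) (x : U),
      (σ.hom.app U s).1 x (F.presheaf.germ U x.1 x.2 t) = (σ.hom.app U t).1 x (F.presheaf.germ U x.1 x.2 s)) :
    IsLocallyConstant (fun s : S => (PerfAux.betti (pullback.snd f g) F s 0 : ZMod 2)) := by
  exact K707.ParMain.isLocallyConstant_scheme _ fun x y hxy => by
    exact K707.ParMain.betti_spec k h2 X f hX S g F hF σ hσ x y hxy

end Groth.Agent.S16228
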