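import Groth.Statements.S16234
import Groth.Agent.CycA.LocLen
import Mathlib.RingTheory.Length

set_option autoImplicit false
universe u v
open CAlg

namespace Groth.Agent.S16234

lemma isMaximal_of_mem_support (A : Type u) [CommRing A] (M : Type v) [AddCommGroup M] [Module A M]
    (h : IsFiniteLength A M) :
    ∀ p ∈ Module.support A M, p.asIdeal.IsMaximal := by
  induction h with
  | of_subsingleton => intro p hp; rw [Module.support_eq_empty] at hp; exact hp.elim
  | @of_simple_quotient M _ _ N hs hN ih =>
    intro p hp
    rw [Module.support_of_exact (f := N.subtype) (g := N.mkQ) (by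
      rw [LinearMap.exact_iff, Submodule.ker_mkQ, Submodule.range_subtype])
      N.injective_subtype N.mkQ_surjective] at hp
    rcases hp with hp | hp
    · exact ih p hp
    · obtain ⟨m, hm, ⟨e⟩⟩ := isSimpleModule_iff_quot_maximal.mp hs
      rw [e.support_eq, Module.support_eq_zeroLocus, Ideal.annihilator_quotient,
        PrimeSpectrum.mem_zeroLocus] at hp
      rw [← hm.eq_of_le p.isPrime.ne_top hp]
      exact hm

/-- For a finitely generated module M over a Noetherian commutative ring A, every prime ideal in the
support of M is a maximal ideal if and only if M has finite length. -/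
theorem result (A : Type u) [CommRing A] [IsNoetherianRing A]
    (M : Type v) [AddCommGroup M] [Module A M] [Module.Finite A M] :
    (∀ p ∈ Module.support A M, p.asIdeal.IsMaximal) ↔ IsFiniteLength A M := by
  refine ⟨fun h => ?_, isMaximal_of_mem_support A M⟩
  rw [← Module.length_ne_top_iff]
  exact Groth.Agent.CycA.LocLen.length_ne_top_of_support_subset inferInstance h

end Groth.Agent.S16234
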