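import Groth.Statements.S16235
import Mathlib.RingTheory.Regular.Flat
import Mathlib.RingTheory.KrullDimension.Regular
import Mathlib.RingTheory.Ideal.KrullsHeightTheorem

set_option autoImplicit false
universe u
open CAlg

namespace Groth.Agent.S16235

theorem length_le_height {A : Type u} [CommRing A] [IsNoetherianRing A] (rs : List A)
    (hrs : RingTheory.Sequence.IsWeaklyRegular A rs) (p : Ideal A) [p.IsPrime]
    (hp : ∀ r ∈ rs, r ∈ p) : (rs.length : ℕ∞) ≤ p.height := by
  have hreg := hrs.isRegular_of_isLocalization_of_mem (Localization.AtPrime p) p hp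
  have h := ringKrullDim_add_length_eq_ringKrullDim_of_isRegular _ hreg
  rw [List.length_map, IsLocalization.AtPrime.ringKrullDim_eq_height p (Localization.AtPrime p)] at h
  have hne : Ideal.ofList (rs.map (algebraMap A (Localization.AtPrime p))) ≠ ⊤ := by
    intro e
    apply hreg.2
    rw [e, Submodule.top_smul]
  have : Nontrivial (Localization.AtPrime p ⧸
      Ideal.ofList (rs.map (algebraMap A (Localization.AtPrime p)))) :=
    Ideal.Quotient.nontrivial_iff.mpr hne
  have h0 : (0 : WithBot ℕ∞) ≤ ringKrullDim (Localization.AtPrime p ⧸
      Ideal.ofList (rs.map (algebraMap A (Localization.AtPrime p)))) := ringKrullDim_nonneg_of_nontrivial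
  have h1 : ((rs.length : ℕ) : WithBot ℕ∞) ≤ (p.height : WithBot ℕ∞) := by
    rw [← h]
    exact le_add_of_nonneg_left h0
  exact_mod_cast h1

/-- Let A be a Noetherian commutative ring and x_1, …, x_r a regular sequence on A (each x_i a
non-zero-divisor on A/(x_1, …, x_{i-1})) generating an ideal I ≠ A. Then the height of I, the
infimum of the heights of the minimal primes over I, equals r. -/
theorem result (A : Type u) [CommRing A] [IsNoetherianRing A]
    (r : ℕ) (x : Fin r → A) (hx : RingTheory.Sequence.IsWeaklyRegular A (List.ofFn x))
    (hI : Ideal.span (Set.range x) ≠ ⊤) :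
    (Ideal.span (Set.range x)).height = r := by
  apply le_antisymm
  · refine (Ideal.height_le_spanFinrank _ hI).trans ?_
    have h1 := Submodule.spanFinrank_span_le_ncard_of_finite (R := A) (Set.finite_range x)
    have h2 : (Set.range x).ncard ≤ r := by
      rw [← Set.image_univ]
      refine (Set.ncard_image_le Set.finite_univ).trans ?_
      simp [Set.ncard_univ]
    exact_mod_cast h1.trans h2
  · rw [Ideal.height_eq_inf_minimalPrimes]
    refine le_iInf₂ fun p hp => ?_
    have : p.IsPrime := hp.1.1
    have h := length_le_height (List.ofFn x) hx p (fun r hr => hp.1.2 (Ideal.subset_span (by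
      simpa using hr)))
    rw [List.length_ofFn] at h
    exact h

end Groth.Agent.S16235
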