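import Groth.Statements.S16236
import Groth.Agent.S1947
import Groth.Agent.Sga67.K0Basic
import Groth.Agent.Sga67.K0Map

set_option autoImplicit false
universe u
open CategoryTheory CategoryTheory.Limits AlgebraicGeometry
attribute [local instance] HasDerivedCategory.standard
open SGA6

namespace Groth.Agent.S16236

/-- Let X be a Noetherian scheme and i : X' ⟶ X a closed immersion which is surjective on points (a
closed subscheme with the same underlying space, such as X_red ⊂ X). Direct image along i is exact
and preserves coherence (instance hypotheses and hypothesis hi); the induced homomorphism K₀(Coh X')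
⟶ K₀(Coh X) between the Grothendieck groups of coherent modules is bijective. (The published
statement is the case X' = X_red; this row takes any closed immersion that is surjective on points.) -/
theorem result {X X' : Scheme.{u}} [IsNoetherian X]
    (i : X' ⟶ X) [IsClosedImmersion i] [Surjective i]
    [(Scheme.Modules.pushforward i).Additive] [PreservesFiniteLimits (Scheme.Modules.pushforward i)]
    [PreservesFiniteColimits (Scheme.Modules.pushforward i)]
    (hi : ∀ M : X'.Modules, Coh.IsCoh M → Coh.IsCoh ((Scheme.Modules.pushforward i).obj M)) :
    Function.Bijective (SGA6.mapSub (Scheme.Modules.pushforward i) (fun M : (X').Modules => Coh.IsCoh M)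
      (fun M : (X).Modules => Coh.IsCoh M) hi) := by
  have hP : (fun G : X.Modules => Coh.IsCoh G ∧ ∀ x : X, Nontrivial (G.presheaf.stalk x) → x ∈ Set.range ⇑i) =
      (fun M : X.Modules => Coh.IsCoh M) := by
    funext G
    refine propext ⟨fun h => h.1, fun h => ⟨h, fun x _ => i.surjective x⟩⟩
  have h := Groth.Agent.S1947.result X X' i
  rw [hP] at h
  obtain ⟨φ, hφ⟩ := h
  have key : SGA6.mapSub (Scheme.Modules.pushforward i) (fun M : (X').Modules => Coh.IsCoh M)
      (fun M : (X).Modules => Coh.IsCoh M) hi = φ.toAddMonoidHom := by
    refine Groth.Agent.Sga67.K0Basic.hom_ext_sub fun M hM => ?_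
    rw [Groth.Agent.Sga67.K0Map.mapSub_clSub _ _ _ _ hM]
    exact (hφ M hM).symm
  rw [key]
  exact φ.bijective

end Groth.Agent.S16236
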