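import Groth.Statements.S16240
import Groth.Agent.Coh.K415.Syzygy
import Groth.Agent.Dcoh.StalkMod
import Groth.Agent.Dcoh.PerfFlat
import Groth.Agent.Divis.StalkMod
import Groth.Agent.CurvesA.DimOne
import Groth.Agent.PerfA.CohSerre
import Groth.Agent.Sga67.CohBasic
import Groth.Agent.CohqB.FinEngine
import Groth.Agent.S0563

set_option autoImplicit false
universe u
open CategoryTheory CategoryTheory.Limits AlgebraicGeometry
open Coh

namespace Groth.Agent.S16240

/-- Let X be a Noetherian scheme all of whose local rings are regular, of (topological Krull) dimension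
at most m, and let S be an exact sequence of O_X-modules G ⟶ E_m ⟶ ⋯ ⟶ E_1 ⟶ F with m + 2 terms (G
in position 0, F in position m + 1), injective at the first map and surjective at the last, in which
F is coherent and E_1, …, E_m are finite locally free. Then G is finite locally free. (The source
asks for p + 1 vector bundles with p ≥ dim X − 1, i.e. at least dim X of them, and finite dimension;
here m bounds the dimension.) -/
theorem result (X : Scheme.{u}) [IsNoetherian X]
    (hreg : ∀ x : X, IsRegularLocalRing (X.presheaf.stalk x)) (m : ℕ)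
    (hdim : topologicalKrullDim ↥X ≤ (m : WithBot ℕ∞))
    (S : ComposableArrows X.Modules (m + 1)) (hS : S.Exact)
    (hmono : Mono (S.map' 0 1 (Nat.zero_le 1) (Nat.le_add_left 1 m)))
    (hepi : Epi (S.map' m (m + 1) (Nat.le_succ m) (le_refl (m + 1))))
    (hE : ∀ i : Fin m, FlatMod.IsFinLocFree (S.obj ⟨i.1 + 1, Nat.succ_lt_succ (Nat.lt_succ_of_lt i.2)⟩))
    (hF : Coh.IsCoh (S.obj (Fin.last (m + 1)))) :
    FlatMod.IsFinLocFree (S.obj 0) := by
  have hE' : ∀ (i : ℕ) (_ : 1 ≤ i) (hi : i ≤ m), FlatMod.IsFinLocFree (S.obj' i (by omega)) := by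
    intro i h1 h2
    obtain ⟨j, rfl⟩ : ∃ j, i = j + 1 := ⟨i - 1, by omega⟩
    exact hE ⟨j, by omega⟩
  have hcoh : ∀ (i : ℕ) (_ : 1 ≤ i) (hi : i ≤ m + 1), Coh.IsCoh (S.obj' i (by omega)) := by
    intro i h1 h2
    rcases Nat.lt_or_ge m i with h | h
    · obtain rfl : i = m + 1 := by omega
      exact hF
    · exact Groth.Agent.PerfA.CohSerre.isCoh_of_isFinLocFree (hE' i h1 h)
  have hpd : ∀ (x : X) (M : ModuleCat.{u} (X.presheaf.stalk x)), HasProjectiveDimensionLT M (m + 1) := by
    intro x M
    have h1 := hreg x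
    have h2 : ringKrullDim (X.presheaf.stalk x) ≤ (m : WithBot ℕ∞) :=
      (Groth.Agent.CurvesA.DimOne.ringKrullDim_stalk_le X x).trans hdim
    obtain ⟨d, hd⟩ : ∃ d : ℕ, ringKrullDim (X.presheaf.stalk x) = d := by
      have h3 : (0 : WithBot ℕ∞) ≤ ringKrullDim (X.presheaf.stalk x) := ringKrullDim_nonneg_of_nontrivial
      generalize ringKrullDim (X.presheaf.stalk x) = r at h2 h3
      induction r with
      | bot => simp at h3
      | coe r =>
        induction r with
        | top =>
          have h5 : (⊤ : ℕ∞) ≤ (m : ℕ∞) := WithBot.coe_le_coe.1 h2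
          exact absurd (top_le_iff.1 h5) (ENat.coe_ne_top m)
        | coe r => exact ⟨r, rfl⟩
    have h3 : d ≤ m := by
      rw [hd] at h2
      exact_mod_cast h2
    have h4 := Groth.Agent.S0563.result (X.presheaf.stalk x) d hd M
    exact hasProjectiveDimensionLT_of_ge _ (d + 1) (m + 1) (by omega)
  rcases Nat.eq_zero_or_pos m with rfl | hm
  · have hi : IsIso (S.map' 0 1 (Nat.zero_le 1) (Nat.le_add_left 1 0)) :=
      @isIso_of_mono_of_epi _ _ _ _ _ _ hmono hepi
    have e : S.obj 0 ≅ S.obj (Fin.last 1) := asIso (S.map' 0 1 (Nat.zero_le 1) (Nat.le_add_left 1 0))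
    have hG : Coh.IsCoh (S.obj 0) := Groth.Agent.Sga67.CohBasic.isCoh_of_iso e.symm hF
    refine Groth.Agent.Divis.StalkMod.isFinLocFree_of_free_stalk hG fun x ↦ ?_
    have h1 := hreg x
    have h2 := Groth.Agent.Divis.StalkMod.finite_stalk hG x
    have h3 := hpd x ((Groth.Agent.Dcoh.StalkMod.stalkMod x).obj (S.obj 0))
    have h4 : Projective ((Groth.Agent.Dcoh.StalkMod.stalkMod x).obj (S.obj 0)) :=
      projective_iff_hasProjectiveDimensionLT_one.2 h3
    have h5 : Module.Projective (X.presheaf.stalk x) ((S.obj 0).presheaf.stalk x) :=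
      (IsProjective.iff_projective _).2 h4
    exact Module.free_of_flat_of_isLocalRing
  · obtain ⟨e⟩ := K415.Syzygy.nonempty_isoKernel S (by omega) hS hmono
    have hG : Coh.IsCoh (S.obj 0) := by
      refine Groth.Agent.Sga67.CohBasic.isCoh_of_iso e.symm ?_
      exact Groth.Agent.Sga67.CohBasic.isCoh_of_mono (kernel.ι _) (hcoh 1 le_rfl (by omega))
        (Groth.Agent.PerfA.QCohSerre.isQCoh_kernel _ (hcoh 1 le_rfl (by omega)).1
          (hcoh 2 (by omega) (by omega)).1)
    refine Groth.Agent.Divis.StalkMod.isFinLocFree_of_free_stalk hG fun x ↦ ?_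
    have h1 := hreg x
    have h2 := Groth.Agent.Divis.StalkMod.finite_stalk hG x
    have h3 := K415.Syzygy.pd_kernel (Groth.Agent.Dcoh.StalkMod.stalkMod x) S hS hepi
      (fun i hi hi' ↦ Groth.Agent.Dcoh.PerfFlat.projective_stalk (hE' i hi hi') x) 0 (m - 1) 1 le_rfl
      (by omega) (by
        have h6 := hpd x ((Groth.Agent.Dcoh.StalkMod.stalkMod x).obj (S.obj' (m + 1)))
        exact hasProjectiveDimensionLT_of_ge _ (m + 1) _ (by omega))
    have h4 : Projective ((Groth.Agent.Dcoh.StalkMod.stalkMod x).obj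
        (kernel (S.map' 1 (1 + 1) (by omega) (by omega)))) :=
      projective_iff_hasProjectiveDimensionLT_one.2 h3
    have h4' : Projective ((Groth.Agent.Dcoh.StalkMod.stalkMod x).obj (S.obj 0)) :=
      Projective.of_iso ((Groth.Agent.Dcoh.StalkMod.stalkMod x).mapIso e.symm) h4
    have h5 : Module.Projective (X.presheaf.stalk x) ((S.obj 0).presheaf.stalk x) :=
      (IsProjective.iff_projective _).2 h4'
    exact Module.free_of_flat_of_isLocalRing

end Groth.Agent.S16240
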