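import Groth.Statements.S16241
import Groth.Agent.Surf.K285.EnrMain

set_option autoImplicit false
attribute [-instance] CategoryTheory.catToReflQuiver
universe u
open CategoryTheory CategoryTheory.Limits AlgebraicGeometry
open Surf

namespace Groth.Agent.S16241

/-- Let k be an algebraically closed field, X and Y smooth projective integral schemes over k (closed
subschemes of projective spaces over k), and f : X ⟶ Y a flat k-morphism such that the fibre X_y
over every closed point y is a classical Enriques surface over the residue field: integral, smooth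
of dimension 2, with H^1(X_y, O) = 0 = H^2(X_y, O), and with canonical module ω_y (the second
exterior power of the sheaf of differentials of X_y) satisfying ω_y ⊗ ω_y ≅ O while ω_y itself is
not isomorphic to O. Let L be a second exterior power of the sheaf of relative differentials Ω_{X/Y}
(the relative canonical module). Then f_*(L ⊗ L) is an invertible O_Y-module and some positive
tensor power of it is isomorphic to O_Y (a torsion line bundle). -/
theorem result (k : Type u) [Field k] [IsAlgClosed k]
    (X Y : Scheme.{u}) [X.Over (Spec (CommRingCat.of k))] [Y.Over (Spec (CommRingCat.of k))]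
    [IsIntegral X] [IsIntegral Y]
    [IsProper (X ↘ Spec (CommRingCat.of k))] [Smooth (X ↘ Spec (CommRingCat.of k))]
    [IsProper (Y ↘ Spec (CommRingCat.of k))] [Smooth (Y ↘ Spec (CommRingCat.of k))]
    (hXproj : Neron.IsProjectiveOver k (Over.mk (X ↘ Spec (CommRingCat.of k))))
    (hYproj : Neron.IsProjectiveOver k (Over.mk (Y ↘ Spec (CommRingCat.of k))))
    (f : X ⟶ Y) (hf : f ≫ (Y ↘ Spec (CommRingCat.of k)) = X ↘ Spec (CommRingCat.of k)) [Flat f]
    (hfib : ∀ y : Y, IsClosed ({y} : Set Y) →
      IsIntegral (f.fiber y) ∧ Smooth (f.fiberToSpecResidueField y) ∧ topologicalKrullDim ↥(f.fiber y) = 2 ∧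
        Subsingleton (Coh.HH (f.fiber y) (Coh.structureModule (f.fiber y)) 1) ∧
        Subsingleton (Coh.HH (f.fiber y) (Coh.structureModule (f.fiber y)) 2) ∧
        ∀ M : (f.fiber y).Modules, ExtPow.IsExtPow 2 (Omega.sheaf (f.fiberToSpecResidueField y)) M →
          Nonempty (CohB1.tensorPow M 2 ≅ Coh.structureModule (f.fiber y)) ∧
            IsEmpty (M ≅ Coh.structureModule (f.fiber y)))
    (L : X.Modules) (hL : ExtPow.IsExtPow 2 (Omega.sheaf f) L) :
    PicF.IsInvertible ((Coh.push f).obj (CohB1.tensorPow L 2)) ∧
      ∃ n : ℕ, 1 ≤ n ∧ Nonempty (CohB1.tensorPow ((Coh.push f).obj (CohB1.tensorPow L 2)) n ≅ Coh.structureModule Y) := by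
  have hY := K285.EnrK.hasEnoughLocFree (Over.mk (Y ↘ Spec (CommRingCat.of k))) hYproj
  have h1 : IsProper (f ≫ (Y ↘ Spec (CommRingCat.of k))) := by
    rw [hf]
    infer_instance
  have h2 : Smooth (f ≫ (Y ↘ Spec (CommRingCat.of k))) := by
    rw [hf]
    infer_instance
  exact K285.EnrMain.main f (Y ↘ Spec (CommRingCat.of k)) hY (fun y hy => by
    obtain ⟨a, b, c, d, e, g⟩ := hfib y hy
    exact ⟨a, b, c, d, e, fun M hM => (g M hM).1⟩) L hL

end Groth.Agent.S16241
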