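import Groth.Statements.S16242
import Groth.Agent.KZero.K233.Node
import Mathlib.Algebra.MvPolynomial.Division
import Mathlib.RingTheory.Polynomial.Basic
import Mathlib.Algebra.Polynomial.FieldDivision

set_option autoImplicit false
universe u
open CategoryTheory
open KZero

namespace Groth.Agent.S16242

open MvPolynomial in
/-- The ideal generated by a variable is prime in `k[x, y]/(xy)`. -/
theorem isPrime_span (k : Type u) [Field k] (i : Fin 2) :
    (Ideal.span {Ideal.Quotient.mk (Ideal.span {(X 0 * X 1 : MvPolynomial (Fin 2) k)})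
      (X i : MvPolynomial (Fin 2) k)}).IsPrime := by
  have h1 : (Ideal.span {(X i : MvPolynomial (Fin 2) k)}).IsPrime :=
    (Ideal.span_singleton_prime (X_ne_zero i)).2 (X_prime)
  have h2 := Ideal.map_isPrime_of_surjective (I := Ideal.span {(X i : MvPolynomial (Fin 2) k)})
    (f := Ideal.Quotient.mk (Ideal.span {(X 0 * X 1 : MvPolynomial (Fin 2) k)}))
    Ideal.Quotient.mk_surjective (by
      rw [Ideal.mk_ker, Ideal.span_singleton_le_iff_mem, Ideal.mem_span_singleton]
      fin_cases i
      · exact Dvd.intro _ rfl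
      · exact Dvd.intro_left _ rfl)
  rwa [Ideal.map_span, Set.image_singleton] at h2

open MvPolynomial in
/-- A quotient of `k[x, y]` in which a variable vanishes is a principal ideal ring. -/
theorem isPrincipalIdealRing_of_surjective (k : Type u) [Field k] (i : Fin 2) {B : Type u} [CommRing B]
    (π : MvPolynomial (Fin 2) k →+* B) (hπ : Function.Surjective π) (hi : π (X i) = 0) :
    IsPrincipalIdealRing B := by
  let f : Polynomial k →+* B := Polynomial.eval₂RingHom (π.comp C) (π (X (1 - i)))
  have hf : Function.Surjective f := by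
    have : ∀ q : MvPolynomial (Fin 2) k, ∃ g : Polynomial k, f g = π q := by
      intro q
      induction q using MvPolynomial.induction_on with
      | C a => exact ⟨Polynomial.C a, by simp [f]⟩
      | add p q hp hq =>
        obtain ⟨a, ha⟩ := hp
        obtain ⟨b, hb⟩ := hq
        exact ⟨a + b, by rw [map_add, map_add, ha, hb]⟩
      | mul_X p j hp =>
        obtain ⟨a, ha⟩ := hp
        by_cases hj : j = i
        · exact ⟨0, by rw [map_mul, hj, hi, mul_zero, map_zero]⟩
        · have : j = 1 - i := by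
            fin_cases i <;> fin_cases j <;> simp_all
          exact ⟨a * Polynomial.X, by rw [map_mul, map_mul, ha, this]; simp [f]⟩
    intro b
    obtain ⟨q, rfl⟩ := hπ b
    exact this q
  exact IsPrincipalIdealRing.of_surjective f hf

open MvPolynomial in
/-- A quotient of `k[x, y]` modulo a variable is a principal ideal ring. -/
theorem isPrincipalIdealRing_quotient (k : Type u) [Field k] (i : Fin 2) {A : Type u} [CommRing A]
    (π : MvPolynomial (Fin 2) k →+* A) (hπ : Function.Surjective π) :
    IsPrincipalIdealRing (A ⧸ Ideal.span {π (X i)}) := by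
  refine isPrincipalIdealRing_of_surjective k i ((Ideal.Quotient.mk (Ideal.span {π (X i)})).comp π) ?_ ?_
  · rw [RingHom.coe_comp]
    exact Ideal.Quotient.mk_surjective.comp hπ
  · rw [RingHom.comp_apply, Ideal.Quotient.eq_zero_iff_mem]
    exact Ideal.mem_span_singleton_self _

open MvPolynomial in
/-- `k[x, y]/(xy)` modulo a variable is a principal ideal ring. -/
theorem isPrincipalIdealRing (k : Type u) [Field k] (i : Fin 2) :
    IsPrincipalIdealRing ((MvPolynomial (Fin 2) k ⧸ Ideal.span {(X 0 * X 1 : MvPolynomial (Fin 2) k)}) ⧸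
      (Ideal.span {Ideal.Quotient.mk (Ideal.span {(X 0 * X 1 : MvPolynomial (Fin 2) k)})
        (X i : MvPolynomial (Fin 2) k)})) :=
  isPrincipalIdealRing_quotient k i _ Ideal.Quotient.mk_surjective

open MvPolynomial in
instance (k : Type u) [Field k] :
    IsNoetherianRing (MvPolynomial (Fin 2) k ⧸ Ideal.span {(X 0 * X 1 : MvPolynomial (Fin 2) k)}) :=
  isNoetherianRing_of_surjective _ _ (Ideal.Quotient.mk _) Ideal.Quotient.mk_surjective

open MvPolynomial in
/-- Neither variable is a multiple of the other in `k[x, y]/(xy)`. -/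
theorem notMem (k : Type u) [Field k] (i : Fin 2) :
    Ideal.Quotient.mk (Ideal.span {(X 0 * X 1 : MvPolynomial (Fin 2) k)}) (X (1 - i)) ∉
      Ideal.span {Ideal.Quotient.mk (Ideal.span {(X 0 * X 1 : MvPolynomial (Fin 2) k)})
        (X i : MvPolynomial (Fin 2) k)} := by
  intro h
  let ev : MvPolynomial (Fin 2) k →+* k := eval (fun j => if j = i then 0 else 1)
  have hev : ev (X 0 * X 1) = 0 := by
    fin_cases i <;> simp [ev]
  let f := Ideal.Quotient.lift (Ideal.span {(X 0 * X 1 : MvPolynomial (Fin 2) k)}) ev (by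
    intro a ha
    obtain ⟨b, rfl⟩ := Ideal.mem_span_singleton.1 ha
    rw [map_mul, hev, zero_mul])
  obtain ⟨c, hc⟩ := Ideal.mem_span_singleton.1 h
  have h1 := congrArg f hc
  rw [map_mul] at h1
  simp only [f, Ideal.Quotient.lift_mk] at h1
  fin_cases i <;> simp [ev] at h1

/-- Let k be a field and A = k[x, y]/(xy) (polynomial ring in two variables x = X_0, y = X_1 modulo xy).
In the Grothendieck group of finitely generated A-modules (free abelian group on them modulo short
exact sequences), the classes of A/(x) ≅ k[y] and A/(y) ≅ k[x] form a basis: the homomorphism ℤ × ℤ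
⟶ K₀ sending (a, b) to a·[A/(x)] + b·[A/(y)] is bijective. -/
theorem result (k : Type u) [Field k] :
    Function.Bijective (fun p : ℤ × ℤ =>
      p.1 • KZero.clSub (fun M : ModuleCat.{u} (MvPolynomial (Fin 2) k ⧸ Ideal.span {(MvPolynomial.X 0 * MvPolynomial.X 1 : MvPolynomial (Fin 2) k)}) => Module.Finite (MvPolynomial (Fin 2) k ⧸ Ideal.span {(MvPolynomial.X 0 * MvPolynomial.X 1 : MvPolynomial (Fin 2) k)}) M)
          (ModuleCat.of (MvPolynomial (Fin 2) k ⧸ Ideal.span {(MvPolynomial.X 0 * MvPolynomial.X 1 : MvPolynomial (Fin 2) k)}) ((MvPolynomial (Fin 2) k ⧸ Ideal.span {(MvPolynomial.X 0 * MvPolynomial.X 1 : MvPolynomial (Fin 2) k)}) ⧸ Ideal.span {Ideal.Quotient.mk (Ideal.span {(MvPolynomial.X 0 * MvPolynomial.X 1 : MvPolynomial (Fin 2) k)}) (MvPolynomial.X 0)})) +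
        p.2 • KZero.clSub (fun M : ModuleCat.{u} (MvPolynomial (Fin 2) k ⧸ Ideal.span {(MvPolynomial.X 0 * MvPolynomial.X 1 : MvPolynomial (Fin 2) k)}) => Module.Finite (MvPolynomial (Fin 2) k ⧸ Ideal.span {(MvPolynomial.X 0 * MvPolynomial.X 1 : MvPolynomial (Fin 2) k)}) M)
          (ModuleCat.of (MvPolynomial (Fin 2) k ⧸ Ideal.span {(MvPolynomial.X 0 * MvPolynomial.X 1 : MvPolynomial (Fin 2) k)}) ((MvPolynomial (Fin 2) k ⧸ Ideal.span {(MvPolynomial.X 0 * MvPolynomial.X 1 : MvPolynomial (Fin 2) k)}) ⧸ Ideal.span {Ideal.Quotient.mk (Ideal.span {(MvPolynomial.X 0 * MvPolynomial.X 1 : MvPolynomial (Fin 2) k)}) (MvPolynomial.X 1)}))) := by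
  have := isPrime_span k 0
  have := isPrime_span k 1
  have := isPrincipalIdealRing k 0
  have := isPrincipalIdealRing k 1
  exact K233.Node.bijective (Ideal.Quotient.mk _ (MvPolynomial.X 0)) (Ideal.Quotient.mk _ (MvPolynomial.X 1))
    (by rw [← map_mul, Ideal.Quotient.eq_zero_iff_mem]; exact Ideal.mem_span_singleton_self _)
    (notMem k 1) (notMem k 0)

end Groth.Agent.S16242
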