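import Groth.Statements.S16243
import Groth.Agent.CAlg.K90.NodeTor
import Mathlib.RingTheory.MvPolynomial.Ideal
import Mathlib.Algebra.MvPolynomial.Division

set_option autoImplicit false
universe u
open CategoryTheory
open CAlg

namespace Groth.Agent.S16243

/-- Let k be a field, A = k[x, y]/(xy) (x = X_0, y = X_1) and κ = A/(x, y) the residue field at the
origin, viewed as an A-module. Then for every i ≥ 1 the A-module Tor_i^A(κ, κ) has length 2 (it is a
two-dimensional κ-vector space; Tor_0 is κ), and κ admits no finite projective resolution over A: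
for no n is its projective dimension less than n. -/
theorem result (k : Type u) [Field k] :
    (∀ i : ℕ, 1 ≤ i →
      Module.length (MvPolynomial (Fin 2) k ⧸ Ideal.span {(MvPolynomial.X 0 * MvPolynomial.X 1 : MvPolynomial (Fin 2) k)}) ((((Tor (ModuleCat.{u} (MvPolynomial (Fin 2) k ⧸ Ideal.span {(MvPolynomial.X 0 * MvPolynomial.X 1 : MvPolynomial (Fin 2) k)})) i).obj (ModuleCat.of (MvPolynomial (Fin 2) k ⧸ Ideal.span {(MvPolynomial.X 0 * MvPolynomial.X 1 : MvPolynomial (Fin 2) k)}) ((MvPolynomial (Fin 2) k ⧸ Ideal.span {(MvPolynomial.X 0 * MvPolynomial.X 1 : MvPolynomial (Fin 2) k)}) ⧸ Ideal.span {Ideal.Quotient.mk (Ideal.span {(MvPolynomial.X 0 * MvPolynomial.X 1 : MvPolynomial (Fin 2) k)}) (MvPolynomial.X 0), Ideal.Quotient.mk (Ideal.span {(MvPolynomial.X 0 * MvPolynomial.X 1 : MvPolynomial (Fin 2) k)}) (MvPolynomial.X 1)}))).obj (ModuleCat.of (MvPolynomial (Fin 2) k ⧸ Ideal.span {(MvPolynomial.X 0 * MvPolynomial.X 1 : MvPolynomial (Fin 2) k)}) ((MvPolynomial (Fin 2) k ⧸ Ideal.span {(MvPolynomial.X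 0 * MvPolynomial.X 1 : MvPolynomial (Fin 2) k)}) ⧸ Ideal.span {Ideal.Quotient.mk (Ideal.span {(MvPolynomial.X 0 * MvPolynomial.X 1 : MvPolynomial (Fin 2) k)}) (MvPolynomial.X 0), Ideal.Quotient.mk (Ideal.span {(MvPolynomial.X 0 * MvPolynomial.X 1 : MvPolynomial (Fin 2) k)}) (MvPolynomial.X 1)}))) : Type u) = 2) ∧
    ∀ n : ℕ, ¬ HasProjectiveDimensionLT (ModuleCat.of (MvPolynomial (Fin 2) k ⧸ Ideal.span {(MvPolynomial.X 0 * MvPolynomial.X 1 : MvPolynomial (Fin 2) k)}) ((MvPolynomial (Fin 2) k ⧸ Ideal.span {(MvPolynomial.X 0 * MvPolynomial.X 1 : MvPolynomial (Fin 2) k)}) ⧸ Ideal.span {Ideal.Quotient.mk (Ideal.span {(MvPolynomial.X 0 * MvPolynomial.X 1 : MvPolynomial (Fin 2) k)}) (MvPolynomial.X 0), Ideal.Quotient.mk (Ideal.span {(MvPolynomial.X 0 * MvPolynomial.X 1 : MvPolynomial (Fin 2) k)}) (MvPolynomial.X 1)})) n := by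
  let I : Ideal (MvPolynomial (Fin 2) k) := Ideal.span {(MvPolynomial.X 0 * MvPolynomial.X 1)}
  let x : MvPolynomial (Fin 2) k ⧸ I := Ideal.Quotient.mk I (MvPolynomial.X 0)
  let y : MvPolynomial (Fin 2) k ⧸ I := Ideal.Quotient.mk I (MvPolynomial.X 1)
  have hX0 : (MvPolynomial.X 0 : MvPolynomial (Fin 2) k) ≠ 0 := MvPolynomial.X_ne_zero 0
  have hX1 : (MvPolynomial.X 1 : MvPolynomial (Fin 2) k) ≠ 0 := MvPolynomial.X_ne_zero 1
  have hmem : ∀ p : MvPolynomial (Fin 2) k, Ideal.Quotient.mk I p = 0 →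
      ∃ q, q * (MvPolynomial.X 0 * MvPolynomial.X 1) = p := fun p hp =>
    Ideal.mem_span_singleton'.mp (Ideal.Quotient.eq_zero_iff_mem.mp hp)
  have hxy : x * y = 0 := by
    change Ideal.Quotient.mk I _ * Ideal.Quotient.mk I _ = 0
    rw [← map_mul]
    exact Ideal.Quotient.eq_zero_iff_mem.mpr (Ideal.mem_span_singleton_self _)
  have hx : ∀ a, a * x = 0 → a ∈ Ideal.span {y} := by
    intro a ha
    obtain ⟨p, rfl⟩ := Ideal.Quotient.mk_surjective a
    obtain ⟨q, hq⟩ := hmem (p * MvPolynomial.X 0) (by rw [map_mul]; exact ha)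
    have h1 : q * MvPolynomial.X 1 = p := by
      apply mul_right_cancel₀ hX0
      rw [← hq]; ring
    rw [← h1, map_mul]
    exact Ideal.mul_mem_left _ _ (Ideal.mem_span_singleton_self y)
  have hy : ∀ a, a * y = 0 → a ∈ Ideal.span {x} := by
    intro a ha
    obtain ⟨p, rfl⟩ := Ideal.Quotient.mk_surjective a
    obtain ⟨q, hq⟩ := hmem (p * MvPolynomial.X 1) (by rw [map_mul]; exact ha)
    have h1 : q * MvPolynomial.X 0 = p := by
      apply mul_right_cancel₀ hX1
      rw [← hq]; ring
    rw [← h1, map_mul]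
    exact Ideal.mul_mem_left _ _ (Ideal.mem_span_singleton_self x)
  have hdisj : ∀ a b, a * x + b * y = 0 → a * x = 0 ∧ b * y = 0 := by
    intro a b hab
    obtain ⟨p, rfl⟩ := Ideal.Quotient.mk_surjective a
    obtain ⟨q, rfl⟩ := Ideal.Quotient.mk_surjective b
    obtain ⟨r, hr⟩ := hmem (p * MvPolynomial.X 0 + q * MvPolynomial.X 1) (by
      rw [map_add, map_mul, map_mul]; exact hab)
    have h1 : (MvPolynomial.X 1 : MvPolynomial (Fin 2) k) ∣ p * MvPolynomial.X 0 :=
      ⟨r * MvPolynomial.X 0 - q, by linear_combination - hr⟩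
    have h2 : (MvPolynomial.X 1 : MvPolynomial (Fin 2) k) ∣ p := by
      refine (MvPolynomial.X_prime.dvd_or_dvd h1).resolve_right ?_
      rw [MvPolynomial.X_dvd_X]
      decide
    obtain ⟨s, rfl⟩ := h2
    have h3 : Ideal.Quotient.mk I (MvPolynomial.X 1 * s) * x = 0 := by
      rw [map_mul, mul_comm (Ideal.Quotient.mk I _) (Ideal.Quotient.mk I s), mul_assoc]
      change _ * (y * x) = 0
      rw [mul_comm y x, hxy, mul_zero]
    exact ⟨h3, by rwa [h3, zero_add] at hab⟩
  have hmax : (Ideal.span {x, y} : Ideal (MvPolynomial (Fin 2) k ⧸ I)).IsMaximal := by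
    have hker : RingHom.ker (MvPolynomial.constantCoeff (R := k) (σ := Fin 2)) =
        Ideal.span {MvPolynomial.X 0, MvPolynomial.X 1} := by
      have hset : ({MvPolynomial.X 0, MvPolynomial.X 1} : Set (MvPolynomial (Fin 2) k)) =
          MvPolynomial.X '' Set.univ := by
        ext p
        simp only [Set.mem_insert_iff, Set.mem_singleton_iff, Set.image_univ, Set.mem_range,
          Fin.exists_fin_two]
        constructor
        · rintro (h | h)
          · exact Or.inl h.symm
          · exact Or.inr h.symm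
        · rintro (h | h)
          · exact Or.inl h.symm
          · exact Or.inr h.symm
      rw [hset]
      ext p
      rw [MvPolynomial.mem_ideal_span_X_image, RingHom.mem_ker, MvPolynomial.constantCoeff_eq]
      constructor
      · intro h m hm
        by_contra hcon
        push Not at hcon
        have : m = 0 := Finsupp.ext fun i => by simpa using hcon i trivial
        rw [this, MvPolynomial.mem_support_iff] at hm
        exact hm h
      · intro h
        by_contra hne
        obtain ⟨i, -, hi⟩ := h 0 (MvPolynomial.mem_support_iff.2 hne)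
        exact hi rfl
    let φ : (MvPolynomial (Fin 2) k ⧸ I) →+* k := Ideal.Quotient.lift I
      (MvPolynomial.constantCoeff (R := k) (σ := Fin 2)) (by
        intro a ha
        obtain ⟨b, rfl⟩ := Ideal.mem_span_singleton'.mp ha
        simp)
    have hφ : Function.Surjective φ := by
      refine Ideal.Quotient.lift_surjective_of_surjective _ _ fun c => ⟨MvPolynomial.C c, ?_⟩
      exact MvPolynomial.constantCoeff_C _ c
    have hφk : RingHom.ker φ = Ideal.span {x, y} := by
      apply le_antisymm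
      · intro a ha
        obtain ⟨p, rfl⟩ := Ideal.Quotient.mk_surjective a
        have h1 : p ∈ Ideal.span {MvPolynomial.X 0, MvPolynomial.X 1} := by
          rw [← hker]
          exact ha
        obtain ⟨u, v, rfl⟩ := Ideal.mem_span_pair.mp h1
        rw [Ideal.mem_span_pair]
        exact ⟨Ideal.Quotient.mk I u, Ideal.Quotient.mk I v, by rw [map_add, map_mul, map_mul]⟩
      · rw [Ideal.span_le]
        rintro a (rfl | rfl)
        · change φ (Ideal.Quotient.mk I _) = 0
          simp [φ]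
        · change φ (Ideal.Quotient.mk I _) = 0
          simp [φ]
    rw [← hφk]
    exact RingHom.ker_isMaximal_of_surjective φ hφ
  have hxm : x ∈ Ideal.span {x, y} := Ideal.subset_span (by simp)
  have hym : y ∈ Ideal.span {x, y} := Ideal.subset_span (by simp)
  constructor
  · intro i hi
    obtain ⟨n, rfl⟩ : ∃ n, i = n + 1 := ⟨i - 1, by omega⟩
    exact K90.NodeTor.main (Ideal.span {x, y}) x y hxy hx hy hxm hym hdisj rfl n
  · intro n
    exact K90.NodeTor.not_hasProjectiveDimensionLT (Ideal.span {x, y}) x y hxy hx hy hxm hym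
      hdisj rfl n

end Groth.Agent.S16243
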