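import Groth.Statements.S16244
import Mathlib.RingTheory.RootsOfUnity.AlgebraicallyClosed
import Mathlib.Tactic.LinearCombination

set_option autoImplicit false
universe u
open Curves

namespace Groth.Agent.S16244

open WeierstrassCurve

/-- A change of variables fixing a short Weierstrass equation is a pure scaling. -/
theorem mem_stab_iff {k : Type u} [Field k] (h2 : (2 : k) ≠ 0) (h3 : (3 : k) ≠ 0)
    (W : WeierstrassCurve k) [W.IsShortNF] (C : VariableChange k) :
    C ∈ MulAction.stabilizer (VariableChange k) W ↔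
      C.r = 0 ∧ C.s = 0 ∧ C.t = 0 ∧ (C.u : k) ^ 4 * W.a₄ = W.a₄ ∧ (C.u : k) ^ 6 * W.a₆ = W.a₆ := by
  have hu : (C.u : k) ≠ 0 := C.u.ne_zero
  have e1 := W.a₁_of_isShortNF
  have e2 := W.a₂_of_isShortNF
  have e3 := W.a₃_of_isShortNF
  rw [MulAction.mem_stabilizer_iff]
  constructor
  · intro h
    have q1 := congrArg WeierstrassCurve.a₁ h
    have q2 := congrArg WeierstrassCurve.a₂ h
    have q3 := congrArg WeierstrassCurve.a₃ h
    have q4 := congrArg WeierstrassCurve.a₄ h
    have q6 := congrArg WeierstrassCurve.a₆ h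
    rw [variableChange_a₁, e1, zero_add, mul_eq_zero, mul_eq_zero] at q1
    have hs : C.s = 0 := by
      rcases q1 with q | q | q
      · exact absurd q (Units.ne_zero _)
      · exact absurd q h2
      · exact q
    rw [variableChange_a₂, e1, e2, hs] at q2
    have hr : C.r = 0 := by
      have : (C.u⁻¹ : kˣ).val ^ 2 * (3 * C.r) = 0 := by linear_combination q2
      rcases mul_eq_zero.mp this with q | q
      · exact absurd q (pow_ne_zero _ (Units.ne_zero _))
      · rcases mul_eq_zero.mp q with q | q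
        · exact absurd q h3
        · exact q
    rw [variableChange_a₃, e1, e3, hr] at q3
    have ht : C.t = 0 := by
      have : (C.u⁻¹ : kˣ).val ^ 3 * (2 * C.t) = 0 := by linear_combination q3
      rcases mul_eq_zero.mp this with q | q
      · exact absurd q (pow_ne_zero _ (Units.ne_zero _))
      · rcases mul_eq_zero.mp q with q | q
        · exact absurd q h2
        · exact q
    rw [variableChange_a₄, e1, e2, e3, hr, hs, ht] at q4
    rw [variableChange_a₆, e1, e2, e3, hr, ht] at q6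
    refine ⟨hr, hs, ht, ?_, ?_⟩
    · have h1 : (C.u : k) ^ 4 * (C.u⁻¹ : kˣ).val ^ 4 = 1 := by
        rw [← mul_pow, Units.mul_inv, one_pow]
      linear_combination (-(C.u : k) ^ 4) * q4 + W.a₄ * h1
    · have h1 : (C.u : k) ^ 6 * (C.u⁻¹ : kˣ).val ^ 6 = 1 := by
        rw [← mul_pow, Units.mul_inv, one_pow]
      linear_combination (-(C.u : k) ^ 6) * q6 + W.a₆ * h1
  · rintro ⟨hr, hs, ht, h4, h6⟩
    ext
    · rw [variableChange_a₁, e1, hs]; ring
    · rw [variableChange_a₂, e1, e2, hs, hr]; ring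
    · rw [variableChange_a₃, e1, e3, hr, ht]; ring
    · rw [variableChange_a₄, e1, e2, e3, hr, hs, ht]
      have h1 : (C.u : k) ^ 4 * (C.u⁻¹ : kˣ).val ^ 4 = 1 := by
        rw [← mul_pow, Units.mul_inv, one_pow]
      linear_combination (-(C.u⁻¹ : kˣ).val ^ 4) * h4 + W.a₄ * h1
    · rw [variableChange_a₆, e1, e2, e3, hr, ht]
      have h1 : (C.u : k) ^ 6 * (C.u⁻¹ : kˣ).val ^ 6 = 1 := by
        rw [← mul_pow, Units.mul_inv, one_pow]
      linear_combination (-(C.u⁻¹ : kˣ).val ^ 6) * h6 + W.a₆ * h1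

/-- The stabilizer is isomorphic to the group of `n`-th roots of unity as soon as the two scaling
conditions amount to `u ^ n = 1`. -/
theorem exists_mulEquiv {k : Type u} [Field k] (h2 : (2 : k) ≠ 0) (h3 : (3 : k) ≠ 0)
    (W : WeierstrassCurve k) [W.IsShortNF] (n : ℕ)
    (hn : ∀ u : kˣ, (u : k) ^ n = 1 ↔ ((u : k) ^ 4 * W.a₄ = W.a₄ ∧ (u : k) ^ 6 * W.a₆ = W.a₆)) :
    Nonempty (↥(MulAction.stabilizer (VariableChange k) W) ≃* rootsOfUnity n k) := by
  refine ⟨{ toFun := fun C => ⟨C.1.u, ?_⟩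
            invFun := fun u => ⟨⟨u.1, 0, 0, 0⟩, ?_⟩
            left_inv := ?_
            right_inv := ?_
            map_mul' := ?_ }⟩
  · rw [mem_rootsOfUnity']
    exact (hn _).mpr ((mem_stab_iff h2 h3 W C.1).mp C.2).2.2.2
  · rw [mem_stab_iff h2 h3 W]
    exact ⟨rfl, rfl, rfl, (hn _).mp ((mem_rootsOfUnity' _ _).mp u.2)⟩
  · intro C
    obtain ⟨hr, hs, ht, -⟩ := (mem_stab_iff h2 h3 W C.1).mp C.2
    apply Subtype.ext
    ext
    · rfl
    · exact hr.symm
    · exact hs.symm
    · exact ht.symm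
  · intro u
    rfl
  · intro C C'
    rfl

/-- Let k be an algebraically closed field in which 2 and 3 are nonzero, and W a short Weierstrass
equation y² = x³ + a₄x + a₆ over k with nonzero discriminant. The admissible changes of variables
(u, r, s, t) that fix W form a cyclic group, of order 6 when a₄ = 0, of order 4 when a₆ = 0, and of
order 2 when a₄ and a₆ are both nonzero. (The published statement says the automorphism group of the
elliptic curve is cyclic of order 2, 4 or 6; the automorphisms are rendered here as the changes of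
variables preserving the equation, and the case distinction is the one the computation gives.) -/
theorem result
    (k : Type u) [Field k] [IsAlgClosed k] (h2 : (2 : k) ≠ 0) (h3 : (3 : k) ≠ 0)
    (W : WeierstrassCurve k) [W.IsShortNF] (hΔ : W.Δ ≠ 0) :
    IsCyclic ↥(MulAction.stabilizer (WeierstrassCurve.VariableChange k) W) ∧
      (W.a₄ = 0 → Nat.card ↥(MulAction.stabilizer (WeierstrassCurve.VariableChange k) W) = 6) ∧
      (W.a₆ = 0 → Nat.card ↥(MulAction.stabilizer (WeierstrassCurve.VariableChange k) W) = 4) ∧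
      (W.a₄ ≠ 0 → W.a₆ ≠ 0 → Nat.card ↥(MulAction.stabilizer (WeierstrassCurve.VariableChange k) W) = 2) := by
  have hD : W.Δ = -16 * (4 * W.a₄ ^ 3 + 27 * W.a₆ ^ 2) := by
    have e1 := W.a₁_of_isShortNF
    have e2 := W.a₂_of_isShortNF
    have e3 := W.a₃_of_isShortNF
    simp only [WeierstrassCurve.Δ, WeierstrassCurve.b₂, WeierstrassCurve.b₄, WeierstrassCurve.b₆,
      WeierstrassCurve.b₈, e1, e2, e3]
    ring
  have hne : ¬ (W.a₄ = 0 ∧ W.a₆ = 0) := by
    rintro ⟨h4, h6⟩
    exact hΔ (by rw [hD, h4, h6]; ring)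
  have key : ∀ n : ℕ, (n : k) ≠ 0 →
      (∀ u : kˣ, (u : k) ^ n = 1 ↔ ((u : k) ^ 4 * W.a₄ = W.a₄ ∧ (u : k) ^ 6 * W.a₆ = W.a₆)) →
      IsCyclic ↥(MulAction.stabilizer (WeierstrassCurve.VariableChange k) W) ∧
        Nat.card ↥(MulAction.stabilizer (WeierstrassCurve.VariableChange k) W) = n := by
    intro n hn0 hn
    obtain ⟨e⟩ := exists_mulEquiv h2 h3 W n hn
    haveI : NeZero (n : k) := ⟨hn0⟩
    haveI : NeZero n := .of_neZero_natCast k
    haveI : HasEnoughRootsOfUnity k n := inferInstance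
    refine ⟨isCyclic_of_surjective e.symm e.symm.surjective, ?_⟩
    rw [Nat.card_congr e.toEquiv]
    exact HasEnoughRootsOfUnity.natCard_rootsOfUnity k n
  have c4 : W.a₄ ≠ 0 → ∀ u : kˣ, (u : k) ^ 4 * W.a₄ = W.a₄ ↔ (u : k) ^ 4 = 1 := by
    intro h u
    constructor
    · intro q
      exact mul_right_cancel₀ h (q.trans (one_mul _).symm)
    · intro q
      rw [q, one_mul]
  have c6 : W.a₆ ≠ 0 → ∀ u : kˣ, (u : k) ^ 6 * W.a₆ = W.a₆ ↔ (u : k) ^ 6 = 1 := by
    intro h u
    constructor
    · intro q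
      exact mul_right_cancel₀ h (q.trans (one_mul _).symm)
    · intro q
      rw [q, one_mul]
  have k6 : W.a₄ = 0 → _ := fun h4 => key 6 (by
      have : ((6 : ℕ) : k) = 2 * 3 := by norm_num
      rw [this]; exact mul_ne_zero h2 h3) (by
      intro u
      have h6 : W.a₆ ≠ 0 := fun h => hne ⟨h4, h⟩
      rw [h4, mul_zero, c6 h6 u]
      simp)
  have k4 : W.a₆ = 0 → _ := fun h6 => key 4 (by
      have : ((4 : ℕ) : k) = 2 * 2 := by norm_num
      rw [this]; exact mul_ne_zero h2 h2) (by
      intro u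
      have h4 : W.a₄ ≠ 0 := fun h => hne ⟨h, h6⟩
      rw [h6, mul_zero, c4 h4 u]
      simp)
  have k2 : W.a₄ ≠ 0 → W.a₆ ≠ 0 → _ := fun h4 h6 => key 2 (by exact_mod_cast h2) (by
      intro u
      rw [c4 h4 u, c6 h6 u]
      constructor
      · intro h
        constructor
        · calc (u : k) ^ 4 = ((u : k) ^ 2) ^ 2 := by ring
            _ = 1 := by rw [h, one_pow]
        · calc (u : k) ^ 6 = ((u : k) ^ 2) ^ 3 := by ring
            _ = 1 := by rw [h, one_pow]
      · rintro ⟨p, q⟩
        calc (u : k) ^ 2 = (u : k) ^ 4 * (u : k) ^ 2 := by rw [p, one_mul]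
          _ = (u : k) ^ 6 := by ring
          _ = 1 := q)
  refine ⟨?_, fun h => (k6 h).2, fun h => (k4 h).2, fun h h' => (k2 h h').2⟩
  by_cases h4 : W.a₄ = 0
  · exact (k6 h4).1
  · by_cases h6 : W.a₆ = 0
    · exact (k4 h6).1
    · exact (k2 h4 h6).1

end Groth.Agent.S16244
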