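import Groth.Statements.S16245
import Groth.Agent.AgPol.K814.ClosedCond

set_option autoImplicit false
universe u
open CategoryTheory CategoryTheory.Limits AlgebraicGeometry
open SDiv

namespace Groth.Agent.S16245

/-- Let f : X → S be a morphism of schemes, D ⊆ X an effective Cartier divisor with ideal sheaf 𝓘, and
D' ⊆ X a closed subscheme with ideal sheaf 𝓘' such that D' → S is finite, flat and locally of finite
presentation (finite locally free). Then there is a closed subscheme Z ⊆ S such that a morphism g :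
T → S factors through Z exactly when, on X ×_S T, the inverse image ideal of 𝓘 is contained in the
inverse image ideal of 𝓘', that is, the pull-back of D' is a closed subscheme of the pull-back of D.
This universal property determines Z, and compatibility of Z with base change follows from it. (In
the source X is a family of elliptic curves and D, D' are relative effective Cartier divisors, D'
then being finite locally free over S; the argument uses only the hypotheses stated here.) -/
theorem result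
    {X S : Scheme.{u}} (f : X ⟶ S) (𝓘 𝓘' : X.IdealSheafData) (hD : BlowUp.IsEffCartierIdeal 𝓘)
    [IsFinite (𝓘'.subschemeι ≫ f)] [Flat (𝓘'.subschemeι ≫ f)]
    [LocallyOfFinitePresentation (𝓘'.subschemeι ≫ f)] :
    ∃ 𝓩 : S.IdealSheafData, ∀ (T : Scheme.{u}) (g : T ⟶ S),
      (∃ t : T ⟶ 𝓩.subscheme, t ≫ 𝓩.subschemeι = g) ↔
        𝓘.comap (pullback.fst f g) ≤ 𝓘'.comap (pullback.fst f g) := by
  obtain ⟨Z, z, hz, H⟩ := K814.ClosedCond.exists_closed (𝓘'.subschemeι ≫ f) 𝓘'.subschemeι
    𝓘.subschemeι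
  refine ⟨z.ker, fun T g => (K814.ClosedCond.factors_ker_iff z g).trans ((H T g).trans ?_)⟩
  let p := pullback.fst f g
  let b : (𝓘'.comap p).subscheme ≅ pullback (𝓘'.subschemeι ≫ f) g :=
    𝓘'.comapIso p ≪≫ pullbackSymmetry _ _ ≪≫ pullbackRightPullbackFstIso f g 𝓘'.subschemeι
  have hb : b.hom ≫ pullback.fst (𝓘'.subschemeι ≫ f) g ≫ 𝓘'.subschemeι =
      (𝓘'.comap p).subschemeι ≫ p := by
    have c : pullback.fst 𝓘'.subschemeι p ≫ 𝓘'.subschemeι = pullback.snd _ _ ≫ p :=
      pullback.condition
    simp only [b, Iso.trans_hom, Category.assoc, pullbackRightPullbackFstIso_hom_fst_assoc]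
    change _ ≫ _ ≫ pullback.fst 𝓘'.subschemeι p ≫ 𝓘'.subschemeι = _
    rw [c, pullbackSymmetry_hom_comp_snd_assoc, Scheme.IdealSheafData.comapIso_hom_fst_assoc]
  have h1 : 𝓘.comap p ≤ 𝓘'.comap p ↔ 𝓘 ≤ ((𝓘'.comap p).subschemeι ≫ p).ker :=
    Scheme.IdealSheafData.le_map_iff_comap_le.symm
  change _ ↔ 𝓘.comap p ≤ 𝓘'.comap p
  rw [h1]
  constructor
  · rintro ⟨h, hh⟩
    rw [← hb, ← hh]
    have h2 : (b.hom ≫ h ≫ 𝓘.subschemeι).ker = ((b.hom ≫ h) ≫ 𝓘.subschemeι).ker := by
      rw [Category.assoc]
    rw [h2]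
    have h3 := Scheme.Hom.le_ker_comp (b.hom ≫ h) 𝓘.subschemeι
    rwa [Scheme.IdealSheafData.ker_subschemeι] at h3
  · intro h
    let l := IsClosedImmersion.lift 𝓘.subschemeι ((𝓘'.comap p).subschemeι ≫ p)
      (by rwa [Scheme.IdealSheafData.ker_subschemeι])
    refine ⟨b.inv ≫ l, ?_⟩
    rw [Category.assoc, IsClosedImmersion.lift_fac, ← hb, Iso.inv_hom_id_assoc]

end Groth.Agent.S16245
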