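import Groth.Statements.S16246
import Groth.Agent.AgPol.K814.EllAut
import Groth.Agent.S7794

set_option autoImplicit false
universe u
open CategoryTheory CategoryTheory.Limits AlgebraicGeometry MonObj
open AgPol

namespace Groth.Agent.S16246

/-- Let S be a connected scheme and E an S-group scheme which is smooth and proper over S with
geometrically connected fibres of dimension one (a family of elliptic curves over S with its group
law). Let G ⊆ E be a closed subgroup scheme which is finite, flat and locally of finite presentation
over S of constant rank N with N ≥ 5, and let ε be an automorphism of the S-group scheme E. Then the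
restriction of ε to G is the identity of G exactly when ε is the identity of E. -/
theorem result
    {S : Scheme.{u}} [ConnectedSpace S] (E : Over S) [GrpObj E] (hE : AgPol.IsAbSch E 1)
    (G : Over S) [GrpObj G] (i : G ⟶ E) [IsMonHom i] [IsClosedImmersion i.left]
    [IsFinite G.hom] [Flat G.hom] [LocallyOfFinitePresentation G.hom]
    (N : ℕ) (hN : 5 ≤ N) (hrk : ∀ s : S, G.hom.finrank s = N)
    (ε : E ≅ E) [IsMonHom ε.hom] :
    i ≫ ε.hom = i ↔ ε.hom = 𝟙 E := by
  refine ⟨fun h => ?_, fun h => by rw [h, Category.comp_id]⟩
  have := hE.smooth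
  have := hE.proper
  have := hE.geomConnected
  have hred : GeometricallyReduced E.hom := Groth.Agent.Flat2B.SmoothGeom.geometricallyReduced_of_smooth E.hom
  have hint : GeometricallyIntegral E.hom := K814.AbBasic.geometricallyIntegral E
  obtain ⟨s⟩ : Nonempty S := inferInstance
  let t : Spec (CommRingCat.of (S.residueField s)) ⟶ S := S.fromSpecResidueField s
  let : GrpObj ((Over.pullback t).obj E) := Functor.grpObjObj
  have hm : IsMonHom ((Over.pullback t).map ε.hom) := Functor.map.instIsMonHom _ _ _
  have i1 : IsProper ((Over.pullback t).obj E).hom := inferInstanceAs (IsProper (pullback.snd E.hom t))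
  have i2 : GeometricallyIntegral ((Over.pullback t).obj E).hom :=
    inferInstanceAs (GeometricallyIntegral (pullback.snd E.hom t))
  have i3 : IsFinite ((Over.pullback t).obj G).hom := inferInstanceAs (IsFinite (pullback.snd G.hom t))
  have i4 : IsClosedImmersion ((Over.pullback t).map i).left :=
    MorphismProperty.of_isPullback (Groth.Agent.Grpsch.AbBC.isPullback_pullback_map t i).flip ‹IsClosedImmersion i.left›
  have hdim : topologicalKrullDim ((Over.pullback t).obj E).left = 1 := by
    exact_mod_cast hE.fibreDim s
  have h5 : 5 ≤ ((Over.pullback t).obj G).hom.finrank (IsLocalRing.closedPoint (S.residueField s)) := by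
    have : ((Over.pullback t).obj G).hom.finrank (IsLocalRing.closedPoint (S.residueField s)) = G.hom.finrank _ :=
      Scheme.Hom.finrank_pullback_snd G.hom t _
    rw [this, hrk]
    exact hN
  have h6 : (Over.pullback t).map ε.hom = 𝟙 _ := by
    refine K814.EllAut.eq_id _ hdim _ ((Over.pullback t).map i) _ h5 ?_
    rw [← Functor.map_comp, h]
  have key : E.hom.fiberι s ≫ ε.hom.left = E.hom.fiberι s ≫ (𝟙 E : E ⟶ E).left := by
    have h7 := (Groth.Agent.Grpsch.AbBC.isPullback_pullback_map t ε.hom).w
    rw [h6] at h7
    rw [Over.id_left, Category.comp_id]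
    rw [Over.id_left, Category.id_comp] at h7
    exact h7.symm
  obtain ⟨W, hW, hs, hW2⟩ := Groth.Agent.S7794.result E E ε.hom (𝟙 E) s key
  have hWt : W = ⊤ := by
    have : IsClopen (W : Set S) := ⟨hW, W.isOpen⟩
    rcases isClopen_iff.mp this with h8 | h8
    · exact absurd hs (by rw [← SetLike.mem_coe, h8]; exact Set.notMem_empty s)
    · exact TopologicalSpace.Opens.ext h8
  subst hWt
  ext1
  have h9 : IsIso ((E.hom ⁻¹ᵁ ⊤).ι) := inferInstanceAs (IsIso (Scheme.topIso E.left).hom)
  exact (cancel_epi (E.hom ⁻¹ᵁ ⊤).ι).mp hW2

end Groth.Agent.S16246
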