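import Groth.Statements.S16251
import Groth.Agent.EtpbcA.NoethSub
import Groth.Agent.EtpbcA.StrataGlob
import Groth.Agent.EtpbcA.ConsExact
import Groth.Agent.Sga5.AdicGr

set_option autoImplicit false
open CategoryTheory CategoryTheory.Limits AlgebraicGeometry Opposite
universe u
open EtPBC

namespace Groth.Agent.S16251

/-- Let ℓ be a prime, X a locally Noetherian scheme and F = (F_n) an ℓ-adic projective system of abelian
sheaves on the small étale site of X, indexed from 0 (so ℓ^(n+1) F_n = 0 and, for n ≤ m, the
transition map F_m ⟶ F_n is a quotient map modulo ℓ^(n+1)). If the first member F_0 is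
constructible, then every member F_n is constructible. (The converse is trivial. The published
statement indexes the system from 1, with ℓ^n killing the n-th member; the statement here indexes it
from 0.) -/
theorem result (ℓ : ℕ) [Fact ℓ.Prime]
    (X : Scheme.{u}) [IsLocallyNoetherian X]
    (F : ARSys.PS (EtCoh.Ab X)) (hF : ARSys.IsAdic (Ideal.span {(ℓ : ℤ)}) F)
    (h0 : EtPBC.IsConstructible (F.obj (op 0))) (n : ℕ) :
    EtPBC.IsConstructible (F.obj (op n)) := by
  induction n with
  | zero => exact h0
  | succ n ih =>
    have hses := Groth.Agent.Sga5.AdicGr.grSeq_shortExact hF n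
    have hK : EtPBC.IsConstructible
        (kernel (Groth.Agent.Sga5.AdicGr.psi hF (n + 1))) :=
      Groth.Agent.EtpbcA.NoethSub.isConstructible_of_mono (kernel.ι _) h0
    have hI : EtPBC.IsConstructible
        (Abelian.image (Groth.Agent.Sga5.AdicGr.psi hF (n + 1))) :=
      Groth.Agent.EtpbcA.StrataGlob.isConstructible_of_iso (Abelian.coimageIsoImage _)
        (Groth.Agent.EtpbcA.ConsExact.isConstructible_cokernel (kernel.ι _) hK h0)
    exact Groth.Agent.EtpbcA.ConsExact.isConstructible_extension hses hI ih

end Groth.Agent.S16251
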