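import Groth.Statements.S16252
import Groth.Agent.FinFr.K986.OpenKill
import Groth.Agent.FinFr.K986.Count

set_option autoImplicit false
universe u
open CategoryTheory CategoryTheory.Limits AlgebraicGeometry Opposite
open FinFr

attribute [-instance] Groth.Agent.Sga4h.PullInj.additive_pull

namespace Groth.Agent.S16252

/-- Let k be a finite field, K an algebraic closure of k and X₀ a smooth, separated, geometrically
irreducible k-curve of finite type. Then the number of classes in H^1((X₀ ⊗_k K)_ét, Z/ℓ^n)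
(constant coefficients) fixed by the geometric Frobenius F^* (transport of structure by the inverse
of x ↦ x^q on K) is bounded independently of the prime ℓ invertible in k and of n: there is B with
every such fixed set finite of size at most B. (The published statement asserts that inside the
abelianised Weil group, the image of the geometric fundamental group splits as a finite group times
a pro-p group, p the characteristic of k; in the curve case its proof reduces that assertion to this
uniform bound, which is the form stated here.) -/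
theorem result
    (k K : Type u) [Field k] [Fintype k] [Field K] [Algebra k K] [IsAlgClosed K] [Algebra.IsAlgebraic k K]
    [Fact FinFr.PullExact.{u}] {X₀ : Scheme.{u}} (a : X₀ ⟶ Spec (CommRingCat.of k))
    [SmoothOfRelativeDimension 1 a] [IsSeparated a] [QuasiCompact a] [GeometricallyIrreducible a] :
    ∃ B : ℕ, ∀ (ℓ n : ℕ), ℓ.Prime → (ℓ : k) ≠ 0 →
      {x : EtCoh.H (FinFr.ext K a) (EtLam.pullback (FinFr.extπ K a) (FinFr.constLam (ZMod (ℓ ^ n)) X₀)).carrier 1 |
          FinFr.frob (K := K) a (FinFr.constLam (ZMod (ℓ ^ n)) X₀) 1 x = x}.Finite ∧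
      {x : EtCoh.H (FinFr.ext K a) (EtLam.pullback (FinFr.extπ K a) (FinFr.constLam (ZMod (ℓ ^ n)) X₀)).carrier 1 |
          FinFr.frob (K := K) a (FinFr.constLam (ZMod (ℓ ^ n)) X₀) 1 x = x}.ncard ≤ B := by
  have hsa : Smooth a := SmoothOfRelativeDimension.smooth 1 a
  have hgia := Flat2B.SmoothGeom.geometricallyIntegral_of_smooth a
  have hintX : IsIntegral (FinFr.ext K a) :=
    GeometricallyIntegral.geometrically_isIntegral (f := a) (K := K) (FinFr.specι k K) (FinFr.extπ K a)
      (FinFr.extStr K a) (IsPullback.of_hasPullback a (FinFr.specι k K))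
  have hp1 : SmoothOfRelativeDimension 1 (FinFr.extStr K a) := by
    have : MorphismProperty.IsStableUnderBaseChange (@SmoothOfRelativeDimension.{u} 1) :=
      smoothOfRelativeDimension_isStableUnderBaseChange 1
    exact MorphismProperty.of_isPullback (P := @SmoothOfRelativeDimension 1)
      (IsPullback.of_hasPullback a (FinFr.specι k K)) ‹_›
  have hp2 : Smooth (FinFr.extStr K a) := SmoothOfRelativeDimension.smooth 1 _
  have hp3 : IsSeparated (FinFr.extStr K a) := inferInstanceAs (IsSeparated (pullback.snd a (FinFr.specι k K)))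
  have hp4 : QuasiCompact (FinFr.extStr K a) := inferInstanceAs (QuasiCompact (pullback.snd a (FinFr.specι k K)))
  have hdim : topologicalKrullDim (FinFr.ext K a) = 1 :=
    CurvesA.CSpecD1.topologicalKrullDim_eq_of_smoothOfRelativeDimension 1 (FinFr.extStr K a)
  let τ : K ≃ₐ[k] K := (FinFr.arith k K).symm
  have hτ : ∀ c, (τ c) ^ (Nat.card k) = c := by
    intro c
    rw [Nat.card_eq_fintype_card]
    exact (FinFr.arith k K).apply_symm_apply c
  obtain ⟨N1, hN1, h1⟩ := K986.OpenKill.exists_kill_open a τ hτ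
  obtain ⟨N, hN, h⟩ := K986.FrobFix.exists_kill a τ hτ N1 hN1 h1
  refine ⟨∑ d ∈ N.divisors, Nat.card (EtCoh.H (FinFr.ext K a) (EtCoh.mu (FinFr.ext K a) d) 1),
    fun ℓ n hℓ hℓk => ?_⟩
  have hm : ((ℓ ^ n : ℕ) : K) ≠ 0 := by
    rw [Nat.cast_pow]
    refine pow_ne_zero _ fun h0 => hℓk ?_
    apply (algebraMap k K).injective
    rw [map_natCast, h0, map_zero]
  obtain ⟨hfin, hle⟩ := K986.Count.bound (FinFr.extStr K a) hdim N hN (ℓ ^ n) hm
  let S := {x : EtCoh.H (FinFr.ext K a) (EtLam.pullback (FinFr.extπ K a) (FinFr.constLam (ZMod (ℓ ^ n)) X₀)).carrier 1 |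
    FinFr.frob (K := K) a (FinFr.constLam (ZMod (ℓ ^ n)) X₀) 1 x = x}
  let φ : S → {y : Etcore.EtInst.HH (FinFr.ext K a) (EtCoh.const (FinFr.ext K a) (ZMod (ℓ ^ n))) 1 // N • y = 0} :=
    fun x => ⟨K986.FrobFix.tc (FinFr.extπ K a) (ZMod (ℓ ^ n)) 1 x.1, h _ hm _ (by
      rw [← K986.FrobFix.tc_res (FinFr.extπ K a) (ZMod (ℓ ^ n)) (FinFr.galAct a τ) (FinFr.galAct_fst a τ) 1 x.1]
      exact congrArg (K986.FrobFix.tc (FinFr.extπ K a) (ZMod (ℓ ^ n)) 1)
        ((Sga4h.H913.ConstP.galH_eq_res a τ (EtCoh.const X₀ (ZMod (ℓ ^ n))) 1 x.1).symm.trans x.2))⟩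
  have hφ : Function.Injective φ := fun x y hxy =>
    Subtype.ext ((K986.FrobFix.tc_bijective (FinFr.extπ K a) (ZMod (ℓ ^ n)) 1).1 (congrArg Subtype.val hxy))
  have hS : Finite S := Finite.of_injective φ hφ
  refine ⟨Set.toFinite S, ?_⟩
  rw [← Nat.card_coe_set_eq]
  exact (Nat.card_le_card_of_injective φ hφ).trans hle

end Groth.Agent.S16252
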