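import Groth.Statements.S16255
import Groth.Agent.VanCyc.K4.HypCpl
import Mathlib.RingTheory.Nullstellensatz

set_option autoImplicit false
universe u
open VanCyc

namespace Groth.Agent.S16255

/-- (b) ⇔ (c): let k be an algebraically closed field, m ≥ 0, f ∈ k[x_0, …, x_m], B = k[x_0, …, x_m]/(f)
and P a maximal ideal of B (a closed point y of the hypersurface Y = V(f)) containing the classes of
all partial derivatives ∂f/∂x_j, so that y lies in the m-th Jacobian locus of Y (cut out in Y by the
m-th Fitting ideal of Ω_{Y/k}, which is generated by these classes). Then the following are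
equivalent: (b) the classes of the ∂f/∂x_j generate the maximal ideal of the local ring B_P, i.e.
near y the Jacobian locus is the reduced point y; (c) y is a non-degenerate quadratic singularity of
Y of dimension m: the completion of B_P is k-isomorphic to k[[x_0, …, x_m]]/(g) for a power series g
without constant or linear terms whose quadratic part has unit polar discriminant. (The published
statement is for Y a local complete intersection of virtual dimension m over k and a point of the
m-th but not the (m+1)-st Jacobian locus; the statement here is its affine hypersurface case, to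
which its proof reduces by an étale chart. A third equivalent condition there, on the differentials
of the Jacobian scheme at y, is not stated here.) -/
theorem result
    (k : Type u) [Field k] [IsAlgClosed k] (m : ℕ) (f : MvPolynomial (Fin (m + 1)) k)
    (P : Ideal (MvPolynomial (Fin (m + 1)) k ⧸ Ideal.span {f})) [P.IsMaximal]
    (hP : ∀ j : Fin (m + 1), Ideal.Quotient.mk (Ideal.span {f}) (MvPolynomial.pderiv j f) ∈ P) :
    Ideal.map (algebraMap (MvPolynomial (Fin (m + 1)) k ⧸ Ideal.span {f}) (Localization.AtPrime P))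
        (Ideal.span (Set.range fun j : Fin (m + 1) =>
          Ideal.Quotient.mk (Ideal.span {f}) (MvPolynomial.pderiv j f))) =
      IsLocalRing.maximalIdeal (Localization.AtPrime P) ↔
    VanCyc.IsNondegQuadSing k (Localization.AtPrime P) m := by
  classical
  -- the point
  have hMmax : (P.comap (Ideal.Quotient.mk (Ideal.span {f}))).IsMaximal :=
    Ideal.comap_isMaximal_of_surjective _ Ideal.Quotient.mk_surjective
  obtain ⟨a, ha⟩ := MvPolynomial.isMaximal_iff_eq_vanishingIdeal_singleton.1 hMmax
  have hPa : P.comap (Ideal.Quotient.mk (Ideal.span {f})) =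
      Groth.Agent.Lefpen.H702.AffAlg.ptIdeal a := by
    rw [ha]
    ext p
    rw [MvPolynomial.mem_vanishingIdeal_singleton_iff,
      Groth.Agent.Lefpen.H702.AffAlg.mem_ptIdeal_iff]
    rfl
  have h0 : MvPolynomial.eval a f = 0 := by
    rw [← Groth.Agent.Lefpen.H702.AffAlg.mem_ptIdeal_iff, ← hPa, Ideal.mem_comap,
      Ideal.Quotient.eq_zero_iff_mem.2 (Ideal.subset_span (Set.mem_singleton f))]
    exact P.zero_mem
  have h1 : ∀ j, MvPolynomial.eval a (MvPolynomial.pderiv j f) = 0 := by
    intro j
    rw [← Groth.Agent.Lefpen.H702.AffAlg.mem_ptIdeal_iff, ← hPa]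
    exact hP j
  have D := K4.HypPt.ptData f P a hPa
  have hJ : Ideal.map (algebraMap (MvPolynomial (Fin (m + 1)) k ⧸ Ideal.span {f})
      (Localization.AtPrime P))
        (Ideal.span (Set.range fun j : Fin (m + 1) =>
          Ideal.Quotient.mk (Ideal.span {f}) (MvPolynomial.pderiv j f))) =
      Ideal.span (Set.range fun j => K4.HypPt.g f P (MvPolynomial.pderiv j f)) := by
    rw [Ideal.map_span, ← Set.range_comp]
    rfl
  rw [hJ]
  refine (K4.HypPt.jac_iff h0 h1 D).trans ⟨fun hH => ?_, fun hq => ?_⟩
  · refine ⟨((Groth.Agent.Vancyc.H578.Trans.trans a f : MvPolynomial (Fin (m + 1)) k) :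
      MvPowerSeries (Fin (m + 1)) k), ⟨K4.HypPt.trans_noLow h0 h1, ?_⟩, K4.HypCpl.hasCpl f P a hPa⟩
    rw [VanCyc.QuadNondeg, K4.HypPt.polar_eq]
    exact hH
  · have hnoe : IsNoetherianRing (Localization.AtPrime P) :=
      IsLocalization.isNoetherianRing P.primeCompl _ inferInstance
    obtain ⟨g0, hg0, H⟩ := Groth.Agent.Vancyc.H678.P2.exists_nondegQuadSeries hq
      (K4.HypPt.co (K4.HypPt.g f P) a) (K4.HypPt.co_mem D)
      (by rw [K4.HypPt.span_co' D]; exact le_sup_left)
    have h2 : MvPolynomial.aeval (K4.HypPt.co (K4.HypPt.g f P) a)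
        (VanCyc.quadPoly (VanCyc.quadPart g0)) ∈
          IsLocalRing.maximalIdeal (Localization.AtPrime P) ^ 3 := by
      rw [H]
      have h3 := Groth.Agent.Vancyc.H690.FibQuad.mul_sub_mem hg0.1 1
      rw [map_one, map_one, one_mul, one_mul] at h3
      have h4 : ((VanCyc.quadPoly (VanCyc.quadPart g0) : MvPolynomial (Fin (m + 1)) k) :
          MvPowerSeries (Fin (m + 1)) k) = g0 - (g0 -
            ((VanCyc.quadPoly (VanCyc.quadPart g0) : MvPolynomial (Fin (m + 1)) k) :
              MvPowerSeries (Fin (m + 1)) k)) := by ring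
      rw [h4]
      exact Ideal.sub_mem _ (Submodule.mem_sup_left (Ideal.subset_span rfl))
        (Submodule.mem_sup_right h3)
    have h3 := K4.HypPt.aeval_mem D 3 _ h2
    obtain ⟨y, hy, z, hz, hyz⟩ := Submodule.mem_sup.1 h3
    obtain ⟨v, rfl⟩ := Ideal.mem_span_singleton'.1 hy
    set F := Groth.Agent.Vancyc.H578.Trans.trans a f with hF
    have hz' : ((z : MvPolynomial (Fin (m + 1)) k) : MvPowerSeries (Fin (m + 1)) k) ∈
        Groth.Agent.Vancyc.H689.PSPow.M k (m + 1) ^ 3 := by
      rw [Groth.Agent.Vancyc.H689.PSPow.mem_pow_iff]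
      rw [MvPolynomial.mem_pow_idealOfVars_iff'] at hz
      intro d hd
      rw [MvPolynomial.coeff_coe, hz d hd]
    have h4 := Groth.Agent.Vancyc.H690.FibQuad.mul_sub_mem (K4.HypPt.trans_noLow h0 h1)
      ((v : MvPolynomial (Fin (m + 1)) k) : MvPowerSeries (Fin (m + 1)) k)
    have h5 := add_mem h4 hz'
    have h6 : ((VanCyc.quadPoly (VanCyc.quadPart g0) : MvPolynomial (Fin (m + 1)) k) :
          MvPowerSeries (Fin (m + 1)) k) = (v : MvPowerSeries (Fin (m + 1)) k) * F + z := by
      rw [← hyz, MvPolynomial.coe_add, MvPolynomial.coe_mul]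
    have h7 := Groth.Agent.Vancyc.H690.FibQuad.eq_of_sub_mem (VanCyc.quadPart g0)
      (VanCyc.quadPart (F : MvPowerSeries (Fin (m + 1)) k))
      (MvPowerSeries.constantCoeff (v : MvPowerSeries (Fin (m + 1)) k)) (by
        rw [h6]
        convert h5 using 1
        ring)
    obtain ⟨i, j, hij, hne⟩ := Groth.Agent.Vancyc.H690.FibQuad.exists_ne_zero (Nat.succ_pos m)
      (VanCyc.quadPart g0) hg0.2
    have hc : MvPowerSeries.constantCoeff (v : MvPowerSeries (Fin (m + 1)) k) ≠ 0 := by
      intro h
      rw [h7 i j hij, h, zero_mul] at hne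
      exact hne rfl
    have h8 := Groth.Agent.Vancyc.H690.FibQuad.nondeg_of_eq
      (VanCyc.quadPart (F : MvPowerSeries (Fin (m + 1)) k)) (VanCyc.quadPart g0) _
      (inv_ne_zero hc) (fun i j hij => by rw [h7 i j hij, inv_mul_cancel_left₀ hc]) hg0.2
    rw [VanCyc.QuadNondeg, K4.HypPt.polar_eq] at h8
    exact h8

end Groth.Agent.S16255
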