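import Groth.Statements.S16257
import Groth.Agent.FinFr.K819.HcTwo
import Groth.Agent.FinFr.K819.CurveCompl

set_option autoImplicit false
universe u
open CategoryTheory CategoryTheory.Limits AlgebraicGeometry Opposite
open FinFr

namespace Groth.Agent.S16257

/-- Let k be a field, K an algebraic closure of k, X₀ a smooth, separated, geometrically irreducible
k-curve of finite type, j : X₀ ⟶ P₀ an open immersion into a proper k-scheme (a compactification,
through which compactly supported cohomology is computed as H^*(P₀ ⊗_k K, j_!(-))), i : U₀ ⟶ X₀ the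
inclusion of a non-empty open subscheme, and F an abelian étale sheaf on X₀ killed by an integer ν
invertible in k. Then the canonical map H^2_c(U₀ ⊗_k K, F|U) ⟶ H^2_c(X₀ ⊗_k K, F), namely the map
induced on H^2(P₀ ⊗_k K, -) by j_! of the counit i_! i^{-1} F ⟶ F, is bijective. (The published
statement is for an arbitrary constructible ℓ-adic sheaf with Q̄_ℓ-coefficients; the statement here
is the finite-coefficient form of its excision argument, over any base field.) -/
theorem result
    (k K : Type u) [Field k] [Field K] [Algebra k K] [IsAlgClosed K] [Algebra.IsAlgebraic k K]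
    {X₀ P₀ U₀ : Scheme.{u}} (a : X₀ ⟶ Spec (CommRingCat.of k))
    [SmoothOfRelativeDimension 1 a] [IsSeparated a] [QuasiCompact a] [GeometricallyIrreducible a]
    (j : X₀ ⟶ P₀) [IsOpenImmersion j] [EtShriek.JCont j] (b : P₀ ⟶ Spec (CommRingCat.of k)) [IsProper b]
    (hj : j ≫ b = a) (i : U₀ ⟶ X₀) [IsOpenImmersion i] [EtShriek.JCont i] [Nonempty ↥U₀]
    (ν : ℕ) (hν : (ν : k) ≠ 0) (F : EtCoh.Ab X₀) (hF : EtCoh.KilledBy ν F) :
    Function.Bijective (Sheaf.H.map ((EtCoh.pull (FinFr.extπ K b)).map
      ((EtShriek.extZero j).map ((EtShriek.extZeroAdj i).counit.app F))) 2) := by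
  have hirr : IrreducibleSpace X₀ := by
    have h1 : Nonempty ↥(Spec (CommRingCat.of k)) :=
      inferInstanceAs (Nonempty (PrimeSpectrum k))
    have h2 : Subsingleton ↥(Spec (CommRingCat.of k)) :=
      inferInstanceAs (Subsingleton (PrimeSpectrum k))
    exact GeometricallyIrreducible.irreducibleSpace_of_subsingleton a
  obtain ⟨Z₀, z₀, hz, hr, hf⟩ := K819.CurveCompl.exists_finite_closed a j b i
  have hsq := Groth.Agent.Sga4h.H407.ExtGeom.isPullback_extHom K (z₀ ≫ b) z₀ rfl
  have hclosed : IsClosedImmersion (extHom K (z₀ ≫ b) z₀ rfl) :=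
    MorphismProperty.of_isPullback (P := @IsClosedImmersion) hsq.flip inferInstance
  have hfin : IsFinite (extStr K (z₀ ≫ b)) := inferInstance
  have hrange : Set.range (extHom K (z₀ ≫ b) z₀ rfl) = (extπ K b) ⁻¹' (Set.range z₀) := by
    have h1 : Set.range (extHom K (z₀ ≫ b) z₀ rfl) = Set.range (pullback.fst (extπ K b) z₀) := by
      have := hsq.isoPullback_hom_fst
      rw [← this, Scheme.Hom.comp_base, TopCat.coe_comp, Set.range_comp]
      have hs : Set.range hsq.isoPullback.hom = Set.univ :=
        Set.range_eq_univ.2 hsq.isoPullback.hom.surjective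
      rw [hs, Set.image_univ]
    rw [h1, Scheme.Pullback.range_fst]
  exact K819.HcTwo.bijective_main j i (extπ K b) (extHom K (z₀ ≫ b) z₀ rfl)
    (extStr K (z₀ ≫ b)) (hrange.trans (by rw [hr])) F 0

end Groth.Agent.S16257
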