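import Groth.Statements.S16258
import Groth.Agent.FinFr.K819.HcZero

set_option autoImplicit false
universe u
open CategoryTheory CategoryTheory.Limits AlgebraicGeometry Opposite
open FinFr

namespace Groth.Agent.S16258

/-- Let k be a field, K an algebraic closure of k, X₀ a smooth, separated, geometrically irreducible
k-curve of finite type which is NOT proper over k, j : X₀ ⟶ P₀ an open immersion into a proper
k-scheme, and F a finite locally constant abelian étale sheaf on X₀. Then the compactly supported
cohomology in degree 0, H^0_c(X₀ ⊗_k K, F) = H^0(P₀ ⊗_k K, j_! F), is zero. (The published statement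
is for a smooth ℓ-adic sheaf with Q̄_ℓ-coefficients, together with H^0_c = H^0 for proper curves;
the statement here is the finite locally constant case of the non-proper half.) -/
theorem result
    (k K : Type u) [Field k] [Field K] [Algebra k K] [IsAlgClosed K] [Algebra.IsAlgebraic k K]
    {X₀ P₀ : Scheme.{u}} (a : X₀ ⟶ Spec (CommRingCat.of k))
    [SmoothOfRelativeDimension 1 a] [IsSeparated a] [QuasiCompact a] [GeometricallyIrreducible a]
    (ha : ¬ IsProper a)
    (j : X₀ ⟶ P₀) [IsOpenImmersion j] [EtShriek.JCont j] (b : P₀ ⟶ Spec (CommRingCat.of k)) [IsProper b]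
    (hj : j ≫ b = a) (F : EtCoh.Ab X₀) (hF : EtCoh.IsFiniteLocallyConstant F) :
    Subsingleton (EtCoh.H (FinFr.ext K b) ((EtCoh.pull (FinFr.extπ K b)).obj ((EtShriek.extZero j).obj F)) 0) := by
  have hirr : IrreducibleSpace (ext K a) :=
    GeometricallyIrreducible.geometrically_irreducibleSpace (f := a) _ _ _ (.of_hasPullback _ _)
  have hopen : IsOpenImmersion (extHom K a j hj) :=
    Groth.Agent.Sga4h.H407.ExtGeom.isOpenImmersion_extHom K a j hj
  have hJ : EtShriek.JCont (extHom K a j hj) := Groth.Agent.Sga4h.EtaleRes.jCont _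
  have hflc := Groth.Agent.EtpbcA.PullFLC.isFLC_pull (extπ K a) F hF
  have hsub := Groth.Agent.Sga4h.H137.NP.subsingleton_H0 (extHom K a j hj)
    (K819.HcZero.np_of_flc _ hflc)
    (fun h => ha (K819.HcZero.isProper_of_isClosed_range a j b hj h))
  have e : (EtShriek.extZero (extHom K a j hj)).obj ((EtCoh.pull (extπ K a)).obj F) ≅
      (EtCoh.pull (FinFr.extπ K b)).obj ((EtShriek.extZero j).obj F) :=
    (Groth.Agent.Etcore.ShriekBaseChange.extZeroBaseChange j (extπ K b) (extHom K a j hj)
      (extπ K a) (Groth.Agent.Sga4h.H407.ExtGeom.isPullback_extHom K a j hj)).app F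
  refine (Function.Injective.subsingleton (f := Sheaf.H.map e.inv 0) ?_)
  refine Function.LeftInverse.injective (g := Sheaf.H.map e.hom 0) fun x => ?_
  rw [← Sheaf.H.map_comp_apply, e.inv_hom_id, Sheaf.H.map_id_apply]

end Groth.Agent.S16258
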