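import Groth.Statements.S16260
import Groth.Agent.W4c3wronskmg.K819.Prim

set_option autoImplicit false
open W4c3wronskmg

namespace Groth.Agent.S16260

open Polynomial in
/-- Let `k` be a field of characteristic zero, `a, b, i` positive integers with `i ≤ a + b`, and `j = a
+ b + 2 - i`. On the projective line with three marked points `A = 0`, `B = 1`, `C = ∞`, the
`(a+b+1)`-dimensional linear system `V = H⁰(ω((1+a)A)) ⊕ H⁰(ω((1+b)B)) ⊕ H⁰(ω(2C)) ⊆ H⁰(ω((1+a)A +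
(1+b)B + 2C)) ≅ H⁰(O(a+b+2))` becomes, in the affine coordinate, the span of the multiples of
`X^(a+1)` of degree at most `a+b`, the multiples of `(X-1)^(b+1)` of degree at most `a+b`, and
`X^(a+1) (X-1)^(b+1)`; and `V(-iP-jQ)` is the subspace of members divisible by `(X-p)^i (X-q)^j`.
Then there are no points `P = p`, `Q = q` other than `A, B, C` (that is, `p, q ∉ {0, 1}`; `p = q`
allowed) with both `dim V(-iP-jQ) ≥ 1` and `dim V(-(i-1)P-(j-1)Q) ≥ 2`. (The published statement is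
over the complex numbers.) -/
theorem result
    (k : Type*) [Field k] [CharZero k] (a b i j : ℕ) (ha : 0 < a) (hb : 0 < b) (hi : 0 < i) (hiab : i ≤ a + b)
    (hj : i + j = a + b + 2)
    (V : Submodule k (Polynomial k))
    (hV : V = ((Ideal.span {(X : Polynomial k) ^ (a + 1)}).restrictScalars k ⊓ Polynomial.degreeLE k ↑(a + b)) ⊔
      ((Ideal.span {((X : Polynomial k) - 1) ^ (b + 1)}).restrictScalars k ⊓ Polynomial.degreeLE k ↑(a + b)) ⊔
      Submodule.span k {(X : Polynomial k) ^ (a + 1) * (X - 1) ^ (b + 1)})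
    (p q : k) (hp0 : p ≠ 0) (hp1 : p ≠ 1) (hq0 : q ≠ 0) (hq1 : q ≠ 1) :
    ¬ (1 ≤ Module.finrank k ↥(V ⊓ (Ideal.span {(X - C p) ^ i * (X - C q) ^ j}).restrictScalars k) ∧
       2 ≤ Module.finrank k ↥(V ⊓ (Ideal.span {(X - C p) ^ (i - 1) * (X - C q) ^ (j - 1)}).restrictScalars k)) := by
  rintro ⟨-, h2⟩
  obtain ⟨f₁, hf₁, f₂, hf₂, hind⟩ := K819.Wr.exists_pair _ h2
  obtain ⟨G₁, hG₁, hD₁⟩ := K819.Wr.exists_prim a b V hV f₁ hf₁.1
  obtain ⟨G₂, hG₂, hD₂⟩ := K819.Wr.exists_prim a b V hV f₂ hf₂.1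
  have hd₁ : (X - C p) ^ (i - 1) * (X - C q) ^ (j - 1) ∣ f₁ := Ideal.mem_span_singleton.mp hf₁.2
  have hd₂ : (X - C p) ^ (i - 1) * (X - C q) ^ (j - 1) ∣ f₂ := Ideal.mem_span_singleton.mp hf₂.2
  have hX1 : ((X : k[X]) - 1) = X - C 1 := by rw [C_1]
  have h0 : (X : k[X]) ^ a * (X - 1) ^ b ≠ 0 := by
    rw [hX1]
    exact mul_ne_zero (pow_ne_zero _ X_ne_zero) (pow_ne_zero _ (X_sub_C_ne_zero 1))
  have hdeg0 : ((X : k[X]) ^ a * (X - 1) ^ b).natDegree ≤ a + b + 1 := by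
    refine natDegree_mul_le.trans ?_
    rw [hX1, natDegree_pow, natDegree_pow, natDegree_X_sub_C, natDegree_X]
    omega
  refine K819.Wr.no_net (X * (X - 1)) ((a : k[X]) - ((a + b : ℕ) : k[X]) * X) (a + b + 1)
    (i - 1) (j - 1) (by omega) p q ?_ ?_ ![X ^ a * (X - 1) ^ b, G₁, G₂] ?_ ?_ ?_
  · simp only [eval_mul, eval_X, eval_sub, eval_one]
    exact mul_ne_zero hp0 (sub_ne_zero.mpr hp1)
  · simp only [eval_mul, eval_X, eval_sub, eval_one]
    exact mul_ne_zero hq0 (sub_ne_zero.mpr hq1)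
  · intro l
    fin_cases l
    · exact hdeg0
    · exact hG₁
    · exact hG₂
  · intro c hc
    exact K819.Wr.indep_three _ _ _ _ _ _ _ h0 (K819.Wr.D_ker a b) hD₁ hD₂ hind c hc
  · intro l
    fin_cases l
    · change _ ∣ K819.Wr.D _ _ (X ^ a * (X - 1) ^ b)
      rw [K819.Wr.D_ker]
      exact dvd_zero _
    · change _ ∣ K819.Wr.D _ _ G₁
      rw [hD₁]; exact hd₁
    · change _ ∣ K819.Wr.D _ _ G₂
      rw [hD₂]; exact hd₂

end Groth.Agent.S16260
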