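import Groth.Statements.S16261
import Groth.Agent.W4c3wronskmg.K819.Gen

set_option autoImplicit false
open W4c3wronskmg

namespace Groth.Agent.S16261

open Polynomial in
/-- With `k` of characteristic zero, `a, b, i` positive, `i ≤ a + b`, `j = a + b + 2 - i` and `V ⊆ k[X]`
the linear system of the first assertion (marked points `A = 0`, `B = 1`, `C = ∞`; `V` spanned by
the multiples of `X^(a+1)` of degree at most `a+b`, the multiples of `(X-1)^(b+1)` of degree at most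
`a+b`, and `X^(a+1) (X-1)^(b+1)`): if the point `P` is put at `A` and `Q = q` is any point other
than `C`, and both `dim V(-iA-jQ) ≥ 1` and `dim V(-(i-1)A-(j-1)Q) ≥ 2` hold, then `i ≥ a + 1`. (The
published statement is over the complex numbers.) -/
theorem result
    (k : Type*) [Field k] [CharZero k] (a b i j : ℕ) (ha : 0 < a) (hb : 0 < b) (hi : 0 < i) (hiab : i ≤ a + b)
    (hj : i + j = a + b + 2)
    (V : Submodule k (Polynomial k))
    (hV : V = ((Ideal.span {(X : Polynomial k) ^ (a + 1)}).restrictScalars k ⊓ Polynomial.degreeLE k ↑(a + b)) ⊔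
      ((Ideal.span {((X : Polynomial k) - 1) ^ (b + 1)}).restrictScalars k ⊓ Polynomial.degreeLE k ↑(a + b)) ⊔
      Submodule.span k {(X : Polynomial k) ^ (a + 1) * (X - 1) ^ (b + 1)})
    (q : k)
    (h1 : 1 ≤ Module.finrank k ↥(V ⊓ (Ideal.span {(X : Polynomial k) ^ i * (X - C q) ^ j}).restrictScalars k))
    (h2 : 2 ≤ Module.finrank k ↥(V ⊓ (Ideal.span {(X : Polynomial k) ^ (i - 1) * (X - C q) ^ (j - 1)}).restrictScalars k)) :
    a + 1 ≤ i := by
  by_contra hcon
  have hia : i ≤ a := by omega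
  have hX1 : ((X : k[X]) - 1) = X - C 1 := by rw [C_1]
  have h0 : (X : k[X]) ^ a * (X - 1) ^ b ≠ 0 := by
    rw [hX1]
    exact mul_ne_zero (pow_ne_zero _ X_ne_zero) (pow_ne_zero _ (X_sub_C_ne_zero 1))
  have hdeg0 : ((X : k[X]) ^ a * (X - 1) ^ b).natDegree ≤ a + b + 1 := by
    refine natDegree_mul_le.trans ?_
    rw [hX1, natDegree_pow, natDegree_pow, natDegree_X_sub_C, natDegree_X]
    omega
  obtain ⟨f, hf, hf0⟩ := K819.Wr.exists_nonzero _ h1
  obtain ⟨G, hG, hD⟩ := K819.Wr.exists_prim a b V hV f hf.1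
  have hd : (X : k[X]) ^ i * (X - C q) ^ j ∣ f := Ideal.mem_span_singleton.mp hf.2
  have hdegt : ∀ t : k, (G - t • ((X : k[X]) ^ a * (X - 1) ^ b)).natDegree ≤ a + b + 1 := by
    intro t
    refine (natDegree_sub_le _ _).trans (max_le hG ((natDegree_smul_le _ _).trans hdeg0))
  -- conclusion from divisibility
  have hfin : ∀ (t : k) (P : k[X]), P.natDegree = a + b + 2 → P ≠ 0 →
      P ∣ G - t • ((X : k[X]) ^ a * (X - 1) ^ b) → False := by
    intro t P hP hP0 hdvd
    have h3 : G - t • ((X : k[X]) ^ a * (X - 1) ^ b) = 0 := by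
      by_contra h4
      have := natDegree_le_of_dvd hdvd h4
      have := hdegt t
      omega
    rw [sub_eq_zero] at h3
    rw [h3, map_smul, K819.Wr.D_ker, smul_zero] at hD
    exact hf0 hD.symm
  by_cases hq0 : q = 0
  · subst hq0
    rw [C_0, sub_zero, ← pow_add] at hd
    rw [← hD] at hd
    obtain ⟨t, ht⟩ := K819.Wr.zero_sub_ker a b _ G hd
    exact hfin t (X ^ (i + j)) (by rw [natDegree_X_pow]; omega) (pow_ne_zero _ X_ne_zero) ht
  by_cases hq1 : q = 1
  · subst hq1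
    rw [← hX1] at hd
    rw [← hD] at hd
    obtain ⟨t, ht⟩ := K819.Wr.one_sub_ker a b _ G ((dvd_mul_left _ _).trans hd)
    have hxi : (X : k[X]) ^ i ∣ G := K819.Wr.zero_dvd_of_le a b i hia G ((dvd_mul_right _ _).trans hd)
    have hxi' : (X : k[X]) ^ i ∣ G - t • (X ^ a * (X - 1) ^ b) := by
      refine dvd_sub hxi ?_
      rw [smul_eq_C_mul]
      exact ((pow_dvd_pow _ hia).mul_right _).mul_left _
    have hcop : IsCoprime ((X : k[X]) ^ i) ((X - 1) ^ j) := by
      refine IsCoprime.pow ?_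
      have := isCoprime_X_sub_C_of_isUnit_sub (R := k) (a := 0) (b := 1) (by simp)
      simpa using this
    refine hfin t (X ^ i * (X - 1) ^ j) ?_ ?_ (hcop.mul_dvd hxi' ht)
    · rw [hX1, natDegree_mul (pow_ne_zero _ X_ne_zero) (pow_ne_zero _ (X_sub_C_ne_zero 1)),
        natDegree_pow, natDegree_pow, natDegree_X_sub_C, natDegree_X]
      omega
    · rw [hX1]
      exact mul_ne_zero (pow_ne_zero _ X_ne_zero) (pow_ne_zero _ (X_sub_C_ne_zero 1))
  -- general `q`
  obtain ⟨f₁, hf₁, f₂, hf₂, hind⟩ := K819.Wr.exists_pair _ h2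
  obtain ⟨G₁, hG₁, hD₁⟩ := K819.Wr.exists_prim a b V hV f₁ hf₁.1
  obtain ⟨G₂, hG₂, hD₂⟩ := K819.Wr.exists_prim a b V hV f₂ hf₂.1
  have hd₁ : (X : k[X]) ^ (i - 1) * (X - C q) ^ (j - 1) ∣ f₁ := Ideal.mem_span_singleton.mp hf₁.2
  have hd₂ : (X : k[X]) ^ (i - 1) * (X - C q) ^ (j - 1) ∣ f₂ := Ideal.mem_span_singleton.mp hf₂.2
  have hdeg : ∀ l, ((![X ^ a * (X - 1) ^ b, G₁, G₂] : Fin 3 → k[X]) l).natDegree ≤ a + b + 1 := by
    intro l
    fin_cases l
    · exact hdeg0
    · exact hG₁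
    · exact hG₂
  have hdv : ∀ l, (X : k[X]) ^ (i - 1) * (X - C q) ^ (j - 1) ∣
      K819.Wr.D (X * (X - 1)) ((a : k[X]) - ((a + b : ℕ) : k[X]) * X)
        ((![X ^ a * (X - 1) ^ b, G₁, G₂] : Fin 3 → k[X]) l) := by
    intro l
    fin_cases l
    · change _ ∣ K819.Wr.D _ _ (X ^ a * (X - 1) ^ b)
      rw [K819.Wr.D_ker]
      exact dvd_zero _
    · change _ ∣ K819.Wr.D _ _ G₁
      rw [hD₁]; exact hd₁
    · change _ ∣ K819.Wr.D _ _ G₂
      rw [hD₂]; exact hd₂
  exact K819.Wr.false_of_general a b i j hia hi hj q hq0 hq1 _ hdeg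
    (fun c hc => K819.Wr.indep_three _ _ _ _ _ _ _ h0 (K819.Wr.D_ker a b) hD₁ hD₂ hind c hc) hdv

end Groth.Agent.S16261
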