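import Groth.Statements.S16262
import Groth.Agent.W4c3wronskmg.K819.Prim

set_option autoImplicit false
open W4c3wronskmg

namespace Groth.Agent.S16262

open Polynomial in
/-- Let `k` be a field of characteristic zero and `a, b, i` positive integers with `i < a + b`. On the
projective line with `A = 0`, `B = ∞`, `P = -1`, the system `V_{a,b} = H⁰(ω((1+a)A)) ⊕ H⁰(ω((1+b)B))
⊆ H⁰(O(a+b))` is the space of polynomials of degree at most `a+b` with vanishing coefficient of
`X^a`, and `V = V_{a,b}(-iP)` (divided by `(X+1)^i`) is the space of `G` of degree at most `a+b-i`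
such that the coefficient of `X^a` in `(X+1)^i G` vanishes; it is a linear system of dimension and
degree `a+b-i`. Then no point of the projective line other than `A` and `B` is a special
ramification point of `V` (a point of weight at least two); for such a system a point `q` of the
affine line is special exactly when two independent members are divisible by `(X-q)^(a+b-i-1)`, so
the statement is that this fails for every `q ≠ 0`. (The published statement does not except `A` and
`B`, but `A` has weight `max(b-i, 0)` in `V`, which is `2` for `a = 1, b = 3, i = 1`: there `X^3`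
and `X^2` both lie in `V`. It is stated over the complex numbers.) -/
theorem result
    (k : Type*) [Field k] [CharZero k] (a b i : ℕ) (ha : 0 < a) (hb : 0 < b) (hi : 0 < i) (hiab : i < a + b)
    (V : Submodule k (Polynomial k))
    (hV : V = Polynomial.degreeLE k ↑(a + b - i) ⊓
      LinearMap.ker ((Polynomial.lcoeff k a).comp (LinearMap.mulLeft k (((X : Polynomial k) + 1) ^ i))))
    (q : k) (hq : q ≠ 0) :
    Module.finrank k ↥(V ⊓ (Ideal.span {(X - C q) ^ (a + b - i - 1)}).restrictScalars k) ≤ 1 := by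
  by_contra hcon
  have h2 : 2 ≤ Module.finrank k ↥(V ⊓ (Ideal.span {(X - C q) ^ (a + b - i - 1)}).restrictScalars k) := by
    omega
  obtain ⟨f₁, hf₁, f₂, hf₂, hind⟩ := K819.Wr.exists_pair _ h2
  have hX1 : ((X : k[X]) + 1) = X - C (-1) := by rw [C_neg, C_1, sub_neg_eq_add]
  have key : ∀ f : k[X], f ∈ V → ∃ G : k[X], G.natDegree ≤ a + b ∧
      K819.Wr.D X (-(a : k[X])) G = (X + 1) ^ i * f := by
    intro f hf
    rw [hV] at hf
    obtain ⟨hf1, hf2⟩ := hf
    refine K819.Wr.exists_solve_zero a (a + b) _ ?_ ?_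
    · refine natDegree_mul_le.trans ?_
      rw [hX1, natDegree_pow, natDegree_X_sub_C]
      have := natDegree_le_of_degree_le (mem_degreeLE.mp hf1)
      omega
    · have := LinearMap.mem_ker.mp hf2
      simpa using this
  obtain ⟨G₁, hG₁, hD₁⟩ := key f₁ hf₁.1
  obtain ⟨G₂, hG₂, hD₂⟩ := key f₂ hf₂.1
  have hd₁ : (X - C q) ^ (a + b - i - 1) ∣ f₁ := Ideal.mem_span_singleton.mp hf₁.2
  have hd₂ : (X - C q) ^ (a + b - i - 1) ∣ f₂ := Ideal.mem_span_singleton.mp hf₂.2
  have h0 : (X : k[X]) ^ a ≠ 0 := pow_ne_zero _ X_ne_zero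
  have hD0 : K819.Wr.D X (-(a : k[X])) (X ^ a) = 0 := by
    rw [K819.Wr.D_apply, derivative_X_pow]
    cases a with
    | zero => simp
    | succ a => rw [Nat.add_sub_cancel, map_natCast]; ring
  have hind' : ∀ s t : k, s • ((X + 1) ^ i * f₁) + t • ((X + 1) ^ i * f₂) = 0 → s = 0 ∧ t = 0 := by
    intro s t hst
    apply hind
    have h3 : (X + 1) ^ i * (s • f₁ + t • f₂) = 0 := by
      rw [← hst, mul_add, mul_smul_comm, mul_smul_comm]
    rcases mul_eq_zero.mp h3 with h | h
    · rw [hX1] at h
      exact absurd h (pow_ne_zero _ (X_sub_C_ne_zero _))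
    · exact h
  refine K819.Wr.no_net X (-(a : k[X])) (a + b) i (a + b - i - 1) (by omega) (-1) q ?_ ?_
    ![X ^ a, G₁, G₂] ?_ ?_ ?_
  · simp
  · simpa using hq
  · intro l
    fin_cases l
    · change ((X : k[X]) ^ a).natDegree ≤ _
      rw [natDegree_X_pow]; omega
    · exact hG₁
    · exact hG₂
  · intro c hc
    exact K819.Wr.indep_three _ _ _ _ _ _ _ h0 hD0 hD₁ hD₂ hind' c hc
  · intro l
    rw [← hX1]
    fin_cases l
    · change _ ∣ K819.Wr.D _ _ (X ^ a)
      rw [hD0]
      exact dvd_zero _
    · change _ ∣ K819.Wr.D _ _ G₁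
      rw [hD₁]; exact mul_dvd_mul_left _ hd₁
    · change _ ∣ K819.Wr.D _ _ G₂
      rw [hD₂]; exact mul_dvd_mul_left _ hd₂

end Groth.Agent.S16262
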