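import Groth.Statements.S16263
import Groth.Agent.W4c3wronskmg.K819.Net

set_option autoImplicit false
open W4c3wronskmg

namespace Groth.Agent.S16263

open Polynomial in
/-- Let `k` be a field of characteristic zero and `a` a positive integer. On the projective line with `A
= 0`, `B = -1`, `C = ∞`, the `(a+1)`-dimensional system `V = H⁰(ω((1+a)C)) ⊕ H⁰(ω(A+B)) ⊆
H⁰(ω((1+a)C + A + B)) ≅ H⁰(O(a+1))` is, in the affine coordinate, the space of polynomials `c + X
(X+1) F` with `c` a constant and `deg F ≤ a - 1`. Then `V` has no special ramification point (no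
point of weight at least two): since the members have degree at most `a + 1`, this says that for
every point `p` of the affine line at most a one-dimensional subspace of `V` is divisible by
`(X-p)^a`, and at `C` that at most a one-dimensional subspace has degree at most one (degree less
than two). (The published statement carries two further positive integers `i, j` with `i + j = a -
1`, used only in its second assertion, and is over the complex numbers.) -/
theorem result
    (k : Type*) [Field k] [CharZero k] (a : ℕ) (ha : 0 < a)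
    (V : Submodule k (Polynomial k))
    (hV : V = Submodule.span k {(1 : Polynomial k)} ⊔
      ((Ideal.span {(X : Polynomial k) * (X + 1)}).restrictScalars k ⊓ Polynomial.degreeLE k ↑(a + 1))) :
    (∀ p : k, Module.finrank k ↥(V ⊓ (Ideal.span {(X - C p) ^ a}).restrictScalars k) ≤ 1) ∧
      Module.finrank k ↥(V ⊓ Polynomial.degreeLT k 2) ≤ 1 := by
  -- every member of `V` has the same value at `0` and `-1`
  have hval : ∀ f ∈ V, f.eval 0 = f.eval (-1) := by
    intro f hf
    have hle : V ≤ LinearMap.ker (Polynomial.leval (0 : k) - Polynomial.leval (-1 : k)) := by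
      rw [hV]
      refine sup_le ?_ ?_
      · rw [Submodule.span_singleton_le_iff_mem, LinearMap.mem_ker]
        simp
      · rintro g ⟨hg, -⟩
        have hg' : (X : k[X]) * (X + 1) ∣ g := Ideal.mem_span_singleton.mp hg
        obtain ⟨w, rfl⟩ := hg'
        rw [LinearMap.mem_ker]
        simp
    have := LinearMap.mem_ker.mp (hle hf)
    rw [LinearMap.sub_apply, sub_eq_zero] at this
    exact this
  have hdegV : ∀ f ∈ V, f.natDegree ≤ a + 1 := by
    intro f hf
    have hle : V ≤ Polynomial.degreeLE k ↑(a + 1) := by
      rw [hV]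
      refine sup_le ?_ inf_le_right
      rw [Submodule.span_singleton_le_iff_mem]
      refine mem_degreeLE.mpr (degree_one_le.trans ?_)
      exact_mod_cast Nat.zero_le _
    exact natDegree_le_of_degree_le (mem_degreeLE.mp (hle hf))
  refine ⟨fun p => ?_, ?_⟩
  · by_contra hcon
    obtain ⟨f₁, hf₁, f₂, hf₂, hind⟩ := K819.Wr.exists_pair
      (V ⊓ (Ideal.span {(X - C p) ^ a}).restrictScalars k) (by omega)
    -- each `f` is `(X-p)^a (α X + β)`
    have key : ∀ f ∈ V ⊓ (Ideal.span {(X - C p) ^ a}).restrictScalars k,
        ∃ α β : k, f = (X - C p) ^ a * (C α * X + C β) ∧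
          (-p) ^ a * β = (-1 - p) ^ a * (-α + β) := by
      intro f hf
      have hd : (X - C p) ^ a ∣ f := Ideal.mem_span_singleton.mp hf.2
      obtain ⟨w, hw⟩ := hd
      have hwdeg : w.natDegree ≤ 1 := by
        by_cases hw0 : w = 0
        · simp [hw0]
        · have h1 := hdegV f hf.1
          rw [hw, natDegree_mul (pow_ne_zero _ (X_sub_C_ne_zero p)) hw0, natDegree_pow,
            natDegree_X_sub_C] at h1
          omega
      have hw' := eq_X_add_C_of_natDegree_le_one hwdeg
      refine ⟨w.coeff 1, w.coeff 0, by rw [hw, ← hw'], ?_⟩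
      have h2 := hval f hf.1
      rw [hw, hw'] at h2
      simpa using h2
    obtain ⟨α₁, β₁, h1, h1'⟩ := key f₁ hf₁
    obtain ⟨α₂, β₂, h2, h2'⟩ := key f₂ hf₂
    -- the determinant is nonzero
    have hdet : α₁ * β₂ - α₂ * β₁ ≠ 0 := by
      intro hdet
      have e1 : α₂ • f₁ + (-α₁) • f₂ = 0 := by
        rw [h1, h2, smul_eq_C_mul, smul_eq_C_mul, C_neg]
        have : C (α₁ * β₂ - α₂ * β₁) = (0 : k[X]) := by rw [hdet, C_0]
        simp only [map_sub, map_mul] at this
        linear_combination (-(X - C p) ^ a) * this
      have e2 : β₂ • f₁ + (-β₁) • f₂ = 0 := by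
        rw [h1, h2, smul_eq_C_mul, smul_eq_C_mul, C_neg]
        have : C (α₁ * β₂ - α₂ * β₁) = (0 : k[X]) := by rw [hdet, C_0]
        simp only [map_sub, map_mul] at this
        linear_combination ((X - C p) ^ a * X) * this
      obtain ⟨h3, h4⟩ := hind _ _ e1
      obtain ⟨h5, h6⟩ := hind _ _ e2
      have h7 : f₁ = 0 := by
        rw [h1, neg_eq_zero.mp h4, neg_eq_zero.mp h6]; simp
      have := (hind 1 0 (by rw [h7]; simp)).1
      exact one_ne_zero this
    have h8 : (-1 - p) ^ a * (α₁ * β₂ - α₂ * β₁) = 0 := by
      linear_combination β₂ * h1' - β₁ * h2'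
    have h9 : (-1 - p) ^ a = 0 := by
      rcases mul_eq_zero.mp h8 with h | h
      · exact h
      · exact absurd h hdet
    have hp : p = -1 := by
      have := pow_eq_zero_iff (by omega : a ≠ 0) |>.mp h9
      linear_combination -this
    subst hp
    rw [h9] at h1' h2'
    simp only [neg_neg, one_pow, one_mul, zero_mul] at h1' h2'
    rw [h1', h2'] at hdet
    simp at hdet
  · by_contra hcon
    obtain ⟨f₁, hf₁, f₂, hf₂, hind⟩ := K819.Wr.exists_pair
      (V ⊓ Polynomial.degreeLT k 2) (by omega)
    have key : ∀ f ∈ V ⊓ Polynomial.degreeLT k 2, ∃ β : k, f = C β := by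
      intro f hf
      have hdeg : f.natDegree ≤ 1 := by
        have := mem_degreeLT.mp hf.2
        by_cases hf0 : f = 0
        · simp [hf0]
        · rw [degree_eq_natDegree hf0] at this
          have h3 : f.natDegree < 2 := by exact_mod_cast this
          omega
      have hf' := eq_X_add_C_of_natDegree_le_one hdeg
      have h2 := hval f hf.1
      rw [hf'] at h2
      simp at h2
      refine ⟨f.coeff 0, ?_⟩
      rw [h2] at hf'
      simpa using hf'
    obtain ⟨β₁, h1⟩ := key f₁ hf₁
    obtain ⟨β₂, h2⟩ := key f₂ hf₂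
    have e1 : β₂ • f₁ + (-β₁) • f₂ = 0 := by
      rw [h1, h2, smul_eq_C_mul, smul_eq_C_mul, C_neg]; ring
    obtain ⟨h3, h4⟩ := hind _ _ e1
    have h7 : f₁ = 0 := by rw [h1, neg_eq_zero.mp h4, C_0]
    have := (hind 1 0 (by rw [h7]; simp)).1
    exact one_ne_zero this

end Groth.Agent.S16263
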