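import Groth.Statements.S16264
import Groth.Agent.W4c3wronskmg.K819.Net

set_option autoImplicit false
open W4c3wronskmg

namespace Groth.Agent.S16264

open Polynomial in
/-- Let `k` be a field of characteristic zero and `a, i, j` positive integers with `i + j = a - 1`. With
`A = 0`, `B = -1`, `C = ∞` on the projective line and `V` the `(a+1)`-dimensional system of
polynomials `c + X (X+1) F`, `deg F ≤ a - 1` (that is, `H⁰(ω((1+a)C)) ⊕ H⁰(ω(A+B)) ⊆ H⁰(O(a+1))`),
the pairs of points `(P, Q) = (p, q)` of the affine line with `dim V(-iP-jQ) ≥ 3`, i.e. with at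
least a three-dimensional subspace of `V` divisible by `(X-p)^i (X-q)^j`, are exactly `(A, B)` and
`(B, A)`. (Here `P, Q` range over the points other than `C`; when one of them is `C` the dimension
is at most two for degree reasons. The published statement is over the complex numbers.) -/
theorem result
    (k : Type*) [Field k] [CharZero k] (a i j : ℕ) (hi : 0 < i) (hj : 0 < j) (hij : i + j + 1 = a)
    (V : Submodule k (Polynomial k))
    (hV : V = Submodule.span k {(1 : Polynomial k)} ⊔
      ((Ideal.span {(X : Polynomial k) * (X + 1)}).restrictScalars k ⊓ Polynomial.degreeLE k ↑(a + 1)))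
    (p q : k) :
    3 ≤ Module.finrank k ↥(V ⊓ (Ideal.span {(X - C p) ^ i * (X - C q) ^ j}).restrictScalars k) ↔
      (p = 0 ∧ q = -1) ∨ (p = -1 ∧ q = 0) := by
  have hinj : Function.Injective (LinearMap.mulLeft k ((X - C p) ^ i * (X - C q) ^ j : k[X])) := by
    intro x y hxy
    exact mul_left_cancel₀ (mul_ne_zero (pow_ne_zero _ (X_sub_C_ne_zero p))
      (pow_ne_zero _ (X_sub_C_ne_zero q))) hxy
  -- membership in `V`
  have hmem : ∀ f : k[X], f ∈ V ↔ f.natDegree ≤ a + 1 ∧ f.eval 0 = f.eval (-1) := by
    intro f
    constructor
    · intro hf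
      constructor
      · have hle : V ≤ Polynomial.degreeLE k ↑(a + 1) := by
          rw [hV]
          refine sup_le ?_ inf_le_right
          rw [Submodule.span_singleton_le_iff_mem]
          refine mem_degreeLE.mpr (degree_one_le.trans ?_)
          exact_mod_cast Nat.zero_le _
        exact natDegree_le_of_degree_le (mem_degreeLE.mp (hle hf))
      · have hle : V ≤ LinearMap.ker (Polynomial.leval (0 : k) - Polynomial.leval (-1 : k)) := by
          rw [hV]
          refine sup_le ?_ ?_
          · rw [Submodule.span_singleton_le_iff_mem, LinearMap.mem_ker]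
            simp
          · rintro g ⟨hg, -⟩
            have hg' : (X : k[X]) * (X + 1) ∣ g := Ideal.mem_span_singleton.mp hg
            obtain ⟨w, rfl⟩ := hg'
            rw [LinearMap.mem_ker]
            simp
        have := LinearMap.mem_ker.mp (hle hf)
        rw [LinearMap.sub_apply, sub_eq_zero] at this
        exact this
    · rintro ⟨hdeg, hval⟩
      rw [hV]
      have e : f = C (f.eval 0) + (f - C (f.eval 0)) := by ring
      rw [e]
      refine Submodule.add_mem_sup ?_ ⟨?_, ?_⟩
      · rw [Submodule.mem_span_singleton]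
        exact ⟨f.eval 0, by rw [smul_eq_C_mul, mul_one]⟩
      · change _ ∈ Ideal.span _
        rw [Ideal.mem_span_singleton]
        have h1 : X - C 0 ∣ f - C (f.eval 0) := by
          rw [dvd_iff_isRoot, IsRoot, eval_sub, eval_C, sub_self]
        have h2 : X - C (-1) ∣ f - C (f.eval 0) := by
          rw [dvd_iff_isRoot, IsRoot, eval_sub, eval_C, hval, sub_self]
        have hcop : IsCoprime (X - C (0 : k)) (X - C (-1 : k)) :=
          isCoprime_X_sub_C_of_isUnit_sub (by simp)
        have := hcop.mul_dvd h1 h2
        simpa using this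
      · refine mem_degreeLE.mpr (degree_le_of_natDegree_le ?_)
        exact (natDegree_sub_C).le.trans hdeg
  -- the space of multiples
  let W : Submodule k k[X] := V ⊓ (Ideal.span {(X - C p) ^ i * (X - C q) ^ j}).restrictScalars k
  let U : Submodule k k[X] := Submodule.map (LinearMap.mulLeft k ((X - C p) ^ i * (X - C q) ^ j : k[X]))
    (Polynomial.degreeLT k 3)
  have hUfin : Module.finrank k U = 3 := by
    have h1 := LinearEquiv.finrank_eq (Submodule.equivMapOfInjective _ hinj (Polynomial.degreeLT k 3))
    rw [← h1, (Polynomial.degreeLTEquiv k 3).finrank_eq]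
    simp
  have hWU : W ≤ U := by
    rintro f ⟨hf1, hf2⟩
    have hd : (X - C p) ^ i * (X - C q) ^ j ∣ f := Ideal.mem_span_singleton.mp hf2
    obtain ⟨w, rfl⟩ := hd
    refine ⟨w, mem_degreeLT.mpr ?_, rfl⟩
    by_cases hw : w = 0
    · rw [hw, degree_zero]; exact WithBot.bot_lt_coe _
    · have h1 := ((hmem _).mp hf1).1
      rw [natDegree_mul (mul_ne_zero (pow_ne_zero _ (X_sub_C_ne_zero p))
        (pow_ne_zero _ (X_sub_C_ne_zero q))) hw,
        natDegree_mul (pow_ne_zero _ (X_sub_C_ne_zero p)) (pow_ne_zero _ (X_sub_C_ne_zero q)),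
        natDegree_pow, natDegree_pow, natDegree_X_sub_C, natDegree_X_sub_C] at h1
      rw [degree_eq_natDegree hw]
      exact_mod_cast (by omega : w.natDegree < 3)
  have : FiniteDimensional k U := Module.finite_of_finrank_pos (by omega)
  change 3 ≤ Module.finrank k W ↔ _
  constructor
  · intro h3
    have hWU' : W = U := Submodule.eq_of_le_of_finrank_le hWU (by omega)
    have key : ∀ w : k[X], w.natDegree ≤ 2 →
        (-p) ^ i * (-q) ^ j * w.eval 0 = (-1 - p) ^ i * (-1 - q) ^ j * w.eval (-1) := by
      intro w hw
      have h1 : (X - C p) ^ i * (X - C q) ^ j * w ∈ U := by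
        refine ⟨w, mem_degreeLT.mpr ?_, rfl⟩
        refine lt_of_le_of_lt (degree_le_of_natDegree_le hw) ?_
        exact_mod_cast (by omega : 2 < 3)
      rw [← hWU'] at h1
      have h2 := ((hmem _).mp h1.1).2
      simpa using h2
    have h4 := key (X + 1) (by
      refine (natDegree_add_le _ _).trans ?_
      simp)
    have h5 := key X (by rw [natDegree_X]; omega)
    simp only [eval_add, eval_X, eval_one, zero_add, mul_one, neg_add_cancel, mul_zero] at h4 h5
    have hp : p = 0 ∨ q = 0 := by
      rcases mul_eq_zero.mp h4 with h | h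
      · left; simpa [hi.ne'] using h
      · right; simpa [hj.ne'] using h
    have hq : p = -1 ∨ q = -1 := by
      have h6 : (-1 - p) ^ i * (-1 - q) ^ j = 0 := by linear_combination h5
      rcases mul_eq_zero.mp h6 with h | h
      · left
        have := (pow_eq_zero_iff hi.ne').mp h
        linear_combination -this
      · right
        have := (pow_eq_zero_iff hj.ne').mp h
        linear_combination -this
    have hne : (0 : k) ≠ -1 := by simp
    rcases hp with hp | hp <;> rcases hq with hq | hq
    · exact absurd (hp.symm.trans hq) hne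
    · exact Or.inl ⟨hp, hq⟩
    · exact Or.inr ⟨hq, hp⟩
    · exact absurd (hp.symm.trans hq) hne
  · intro hpq
    have hUW : U ≤ W := by
      rintro _ ⟨w, hw, rfl⟩
      have hw' : w.natDegree ≤ 2 := by
        by_cases hw0 : w = 0
        · simp [hw0]
        · have := mem_degreeLT.mp hw
          rw [degree_eq_natDegree hw0] at this
          have h3 : w.natDegree < 3 := by exact_mod_cast this
          omega
      refine ⟨(hmem _).mpr ⟨?_, ?_⟩, ?_⟩
      · rw [LinearMap.mulLeft_apply]
        refine natDegree_mul_le.trans ?_
        refine (Nat.add_le_add_right natDegree_mul_le _).trans ?_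
        rw [natDegree_pow, natDegree_pow, natDegree_X_sub_C, natDegree_X_sub_C]
        omega
      · rw [LinearMap.mulLeft_apply]
        rcases hpq with ⟨rfl, rfl⟩ | ⟨rfl, rfl⟩
        · simp [hi.ne', hj.ne']
        · simp [hi.ne', hj.ne']
      · exact Ideal.mem_span_singleton.mpr (dvd_mul_right _ _)
    have : FiniteDimensional k W := Submodule.finiteDimensional_of_le hWU
    have := Submodule.finrank_mono hUW
    omega

end Groth.Agent.S16264
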