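import Groth.Statements.S16265
import Groth.Agent.FunFld.K670.Van

set_option autoImplicit false
open FunFld

namespace Groth.Agent.S16265

/-- Let `K/k` be a function field of one variable over an algebraically closed field `k` of
characteristic zero (the function field of a smooth projective curve), `D` a divisor and `V ⊆ L(D)`
a linear system of dimension `r + 1`; write `V(-mP-nQ) = V ∩ L(D - mP - nQ)` for the members
vanishing to the indicated orders. Assume `V` has no special ramification point, i.e. no place of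
weight at least two: for every place `R`, `dim V(-rR) ≤ 1` and `V(-(r+2)R) = 0`. Let `P ≠ Q` be
places and `a, b ≥ 1` with `a + b = r + 1` (so that `V(-aP)` and `V(-bQ)` have dimensions `b` and
`a`). Then the following are equivalent: (1) the system `V(-aP)` has weight at least two at `Q`,
that is `dim V(-aP-(b-1)Q) ≥ 2` or `dim V(-aP-(b+1)Q) ≥ 1`, and the system `V(-bQ)` has weight at
least two at `P`, that is `dim V(-(a-1)P-bQ) ≥ 2` or `dim V(-(a+1)P-bQ) ≥ 1`; (2) one of (a) `dim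
V(-(a+1)P-(b+1)Q) ≥ 1`, (b) `dim V(-(a-1)P-(b-1)Q) ≥ 3`, (c) `dim V(-aP-(b+1)Q) ≥ 1` and `dim
V(-(a-1)P-bQ) ≥ 2`, (d) `dim V(-(a+1)P-bQ) ≥ 1` and `dim V(-aP-(b-1)Q) ≥ 2`. (The published
statement is for a smooth curve over the complex numbers.) -/
theorem result
    (k K : Type*) [Field k] [IsAlgClosed k] [CharZero k] [Field K] [Algebra k K]
    (hK : FunFld.IsFunctionField k K) (D : FunFld.Divisor k K)
    (V : Submodule k K) (hVD : V ≤ FunFld.L D) (r : ℕ) (hr : Module.finrank k ↥V = r + 1)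
    (hns : ∀ R : FunFld.Place k K,
      Module.finrank k ↥(V ⊓ FunFld.L (D - Finsupp.single R (r : ℤ))) ≤ 1 ∧
        V ⊓ FunFld.L (D - Finsupp.single R ((r : ℤ) + 2)) = ⊥)
    (P Q : FunFld.Place k K) (hPQ : P ≠ Q) (a b : ℕ) (ha : 1 ≤ a) (hb : 1 ≤ b) (hab : a + b = r + 1) :
    ((2 ≤ Module.finrank k ↥(V ⊓ FunFld.L (D - Finsupp.single P (a : ℤ) - Finsupp.single Q ((b : ℤ) - 1 : ℤ))) ∨
        1 ≤ Module.finrank k ↥(V ⊓ FunFld.L (D - Finsupp.single P (a : ℤ) - Finsupp.single Q ((b : ℤ) + 1 : ℤ)))) ∧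
      (2 ≤ Module.finrank k ↥(V ⊓ FunFld.L (D - Finsupp.single P ((a : ℤ) - 1 : ℤ) - Finsupp.single Q (b : ℤ))) ∨
        1 ≤ Module.finrank k ↥(V ⊓ FunFld.L (D - Finsupp.single P ((a : ℤ) + 1 : ℤ) - Finsupp.single Q (b : ℤ))))) ↔
    (1 ≤ Module.finrank k ↥(V ⊓ FunFld.L (D - Finsupp.single P ((a : ℤ) + 1 : ℤ) - Finsupp.single Q ((b : ℤ) + 1 : ℤ))) ∨
      3 ≤ Module.finrank k ↥(V ⊓ FunFld.L (D - Finsupp.single P ((a : ℤ) - 1 : ℤ) - Finsupp.single Q ((b : ℤ) - 1 : ℤ))) ∨
      (1 ≤ Module.finrank k ↥(V ⊓ FunFld.L (D - Finsupp.single P (a : ℤ) - Finsupp.single Q ((b : ℤ) + 1 : ℤ))) ∧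
        2 ≤ Module.finrank k ↥(V ⊓ FunFld.L (D - Finsupp.single P ((a : ℤ) - 1 : ℤ) - Finsupp.single Q (b : ℤ)))) ∨
      (1 ≤ Module.finrank k ↥(V ⊓ FunFld.L (D - Finsupp.single P ((a : ℤ) + 1 : ℤ) - Finsupp.single Q (b : ℤ))) ∧
        2 ≤ Module.finrank k ↥(V ⊓ FunFld.L (D - Finsupp.single P (a : ℤ) - Finsupp.single Q ((b : ℤ) - 1 : ℤ))))) := by
  have ha0 : (0 : ℤ) ≤ (a : ℤ) - 1 := by omega
  have hb0 : (0 : ℤ) ≤ (b : ℤ) - 1 := by omega
  -- notation for the vanishing spaces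
  set W : ℤ → ℤ → Submodule k K := fun i j =>
    V ⊓ FunFld.L (D - Finsupp.single P i - Finsupp.single Q j) with hW
  have hfin : ∀ i j, FiniteDimensional k ↥(W i j) := fun i j =>
    K670.Gen.finiteDimensional_inf hK V _
  -- intersections
  have hinf : ∀ i j i' j' : ℤ, W i j ⊓ W i' j' = W (max i i') (max j j') := by
    intro i j i' j'
    simp only [hW]
    rw [inf_inf_inf_comm, inf_idem, K670.Gen.L_inf_L]
    congr 2
    ext R
    classical
    simp only [Finsupp.inf_apply, Finsupp.sub_apply, Finsupp.single_apply]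
    by_cases h1 : P = R
    · subst h1
      rw [if_pos rfl, if_neg (fun h => hPQ h.symm)]
      rw [if_pos rfl, if_neg (fun h => hPQ h.symm), if_pos rfl, if_neg (fun h => hPQ h.symm)]
      simp only [sub_zero]
      rcases le_total i i' with h | h
      · rw [max_eq_right h, min_eq_right (by linarith)]
      · rw [max_eq_left h, min_eq_left (by linarith)]
    · rw [if_neg h1, if_neg h1, if_neg h1]
      by_cases h2 : Q = R
      · subst h2
        rw [if_pos rfl, if_pos rfl, if_pos rfl]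
        simp only [sub_zero]
        rcases le_total j j' with h | h
        · rw [max_eq_right h, min_eq_right (by linarith)]
        · rw [max_eq_left h, min_eq_left (by linarith)]
      · rw [if_neg h2, if_neg h2, if_neg h2]
        simp
  have hmono : ∀ i j i' j' : ℤ, i ≤ i' → j ≤ j' → W i' j' ≤ W i j := by
    intro i j i' j' hi hj
    have := hinf i j i' j'
    rw [max_eq_right hi, max_eq_right hj] at this
    rw [← this]; exact inf_le_left
  have hmonof : ∀ i j i' j' : ℤ, i ≤ i' → j ≤ j' →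
      Module.finrank k ↥(W i' j') ≤ Module.finrank k ↥(W i j) := by
    intro i j i' j' hi hj
    haveI := hfin i j
    exact Submodule.finrank_mono (hmono i j i' j' hi hj)
  -- drops
  have hdropP : ∀ i j : ℤ, Module.finrank k ↥(W i j) ≤ Module.finrank k ↥(W (i + 1) j) + 1 := by
    intro i j
    have h := K670.Gen.finrank_inf_L_le hK V
      (E := D - Finsupp.single P i - Finsupp.single Q j)
      (E' := D - Finsupp.single P (i + 1) - Finsupp.single Q j)
      (sub_le_sub_right (K670.Van.sub_single_le (by linarith)) _)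
    rw [K670.Van.K670_deg_sub_sub hK, K670.Van.K670_deg_sub_sub hK] at h
    have e : D.deg - i - j - (D.deg - (i + 1) - j) = 1 := by ring
    rw [e] at h
    exact_mod_cast h
  have hdropQ : ∀ i j : ℤ, Module.finrank k ↥(W i j) ≤ Module.finrank k ↥(W i (j + 1)) + 1 := by
    intro i j
    have h := K670.Gen.finrank_inf_L_le hK V
      (E := D - Finsupp.single P i - Finsupp.single Q j)
      (E' := D - Finsupp.single P i - Finsupp.single Q (j + 1))
      (K670.Van.sub_single_le (by linarith))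
    rw [K670.Van.K670_deg_sub_sub hK, K670.Van.K670_deg_sub_sub hK] at h
    have e : D.deg - i - j - (D.deg - i - (j + 1)) = 1 := by ring
    rw [e] at h
    exact_mod_cast h
  change ((2 ≤ Module.finrank k ↥(W a ((b : ℤ) - 1)) ∨ 1 ≤ Module.finrank k ↥(W a ((b : ℤ) + 1))) ∧
      (2 ≤ Module.finrank k ↥(W ((a : ℤ) - 1) b) ∨ 1 ≤ Module.finrank k ↥(W ((a : ℤ) + 1) b))) ↔
    (1 ≤ Module.finrank k ↥(W ((a : ℤ) + 1) ((b : ℤ) + 1)) ∨
      3 ≤ Module.finrank k ↥(W ((a : ℤ) - 1) ((b : ℤ) - 1)) ∨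
      (1 ≤ Module.finrank k ↥(W a ((b : ℤ) + 1)) ∧ 2 ≤ Module.finrank k ↥(W ((a : ℤ) - 1) b)) ∨
      (1 ≤ Module.finrank k ↥(W ((a : ℤ) + 1) b) ∧ 2 ≤ Module.finrank k ↥(W a ((b : ℤ) - 1))))
  have m1 := hmonof a (b + 1) (a + 1) (b + 1) (by linarith) le_rfl
  have m2 := hmonof (a + 1) b (a + 1) (b + 1) le_rfl (by linarith)
  have d1 := hdropP ((a : ℤ) - 1) ((b : ℤ) - 1)
  have d2 := hdropQ ((a : ℤ) - 1) ((b : ℤ) - 1)
  have d3 := hdropP a b
  have d4 := hdropQ a b
  rw [sub_add_cancel] at d1 d2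
  constructor
  · rintro ⟨h1, h2⟩
    rcases h1 with h1 | h1 <;> rcases h2 with h2 | h2
    · -- `v(a, b-1) ≥ 2`, `v(a-1, b) ≥ 2`
      by_cases h3 : 3 ≤ Module.finrank k ↥(W ((a : ℤ) - 1) ((b : ℤ) - 1))
      · exact Or.inr (Or.inl h3)
      · -- the three spaces coincide
        haveI := hfin ((a : ℤ) - 1) ((b : ℤ) - 1)
        have e1 : W a ((b : ℤ) - 1) = W ((a : ℤ) - 1) ((b : ℤ) - 1) :=
          Submodule.eq_of_le_of_finrank_le (hmono _ _ _ _ (by linarith) le_rfl) (by omega)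
        have e2 : W ((a : ℤ) - 1) b = W ((a : ℤ) - 1) ((b : ℤ) - 1) :=
          Submodule.eq_of_le_of_finrank_le (hmono _ _ _ _ le_rfl (by linarith)) (by omega)
        have e3 := hinf a ((b : ℤ) - 1) ((a : ℤ) - 1) b
        rw [max_eq_left (by linarith), max_eq_right (by linarith), e1, e2, inf_idem] at e3
        have e4 : 2 ≤ Module.finrank k ↥(W a b) := by rw [← e3, ← e1]; exact h1
        right; right; right
        exact ⟨by omega, h1⟩
    · right; right; right; exact ⟨h2, h1⟩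
    · right; right; left; exact ⟨h1, h2⟩
    · -- `v(a, b+1) ≥ 1`, `v(a+1, b) ≥ 1`
      by_cases h3 : 1 ≤ Module.finrank k ↥(W ((a : ℤ) + 1) ((b : ℤ) + 1))
      · exact Or.inl h3
      · haveI := hfin a b
        have h4 := K670.Gen.finrank_add_le_inf (A := W a ((b : ℤ) + 1)) (B := W ((a : ℤ) + 1) b)
          (V := W a b) (hmono _ _ _ _ le_rfl (by linarith)) (hmono _ _ _ _ (by linarith) le_rfl)
        rw [hinf, max_eq_right (by linarith), max_eq_left (by linarith)] at h4
        have h5 := hmonof ((a : ℤ) - 1) b a b (by linarith) le_rfl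
        right; right; left
        exact ⟨h1, by omega⟩
  · rintro (h | h | ⟨h1, h2⟩ | ⟨h1, h2⟩)
    · exact ⟨Or.inr (by omega), Or.inr (by omega)⟩
    · exact ⟨Or.inl (by omega), Or.inl (by omega)⟩
    · exact ⟨Or.inr h1, Or.inl h2⟩
    · exact ⟨Or.inl h2, Or.inr h1⟩

end Groth.Agent.S16265
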