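import Groth.Statements.S16266
import Groth.Agent.FunFld.K670.Van

set_option autoImplicit false
open FunFld

namespace Groth.Agent.S16266

/-- Let `K/k` be a function field of one variable over an algebraically closed field `k` of
characteristic zero, `D` a divisor, `V ⊆ L(D)` a linear system of dimension `r + 1` with `r ≥ 1`,
and `P` a place with `V' = V(-P) = V ∩ L(D - P) ≠ V`, an `r`-dimensional system in `L(D - P)`.
Assume that neither `V` nor `V'` has a special ramification point (a place of weight at least two):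
for every place `R`, `dim V ∩ L(D - rR) ≤ 1`, `V ∩ L(D - (r+2)R) = 0`, `dim V' ∩ L(D - P - (r-1)R) ≤
1` and `V' ∩ L(D - P - (r+1)R) = 0`. Then no place `Q ≠ P` is a ramification point of both `V` and
`V'`: for no such `Q` are both `V ∩ L(D - (r+1)Q)` and `V' ∩ L(D - P - rQ)` nonzero. (The published
statement is for a smooth curve over the complex numbers.) -/
theorem result
    (k K : Type*) [Field k] [IsAlgClosed k] [CharZero k] [Field K] [Algebra k K]
    (hK : FunFld.IsFunctionField k K) (D : FunFld.Divisor k K)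
    (V : Submodule k K) (hVD : V ≤ FunFld.L D) (r : ℕ) (hr : Module.finrank k ↥V = r + 1) (hr1 : 1 ≤ r)
    (P : FunFld.Place k K) (hP : V ⊓ FunFld.L (D - Finsupp.single P 1) ≠ V)
    (hns : ∀ R : FunFld.Place k K,
      Module.finrank k ↥(V ⊓ FunFld.L (D - Finsupp.single R (r : ℤ))) ≤ 1 ∧
        V ⊓ FunFld.L (D - Finsupp.single R ((r : ℤ) + 2)) = ⊥)
    (hns' : ∀ R : FunFld.Place k K,
      Module.finrank k ↥(V ⊓ FunFld.L (D - Finsupp.single P 1 - Finsupp.single R ((r : ℤ) - 1))) ≤ 1 ∧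
        V ⊓ FunFld.L (D - Finsupp.single P 1 - Finsupp.single R ((r : ℤ) + 1)) = ⊥)
    (Q : FunFld.Place k K) (hQP : Q ≠ P) :
    ¬ (V ⊓ FunFld.L (D - Finsupp.single Q ((r : ℤ) + 1)) ≠ ⊥ ∧
       V ⊓ FunFld.L (D - Finsupp.single P 1 - Finsupp.single Q (r : ℤ)) ≠ ⊥) := by
  rintro ⟨h1, h2⟩
  have hQ := (hns Q).1
  have hQ' := (hns' Q).2
  haveI f0 := K670.Gen.finiteDimensional_inf hK V (D - Finsupp.single Q (r : ℤ))
  have le1 : V ⊓ FunFld.L (D - Finsupp.single Q ((r : ℤ) + 1)) ≤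
      V ⊓ FunFld.L (D - Finsupp.single Q (r : ℤ)) :=
    inf_le_inf_left V (K670.Gen.L_mono (K670.Van.sub_single_le (by linarith)))
  have le2 : V ⊓ FunFld.L (D - Finsupp.single P 1 - Finsupp.single Q (r : ℤ)) ≤
      V ⊓ FunFld.L (D - Finsupp.single Q (r : ℤ)) := by
    rw [← K670.Van.L_sub_inf (Ne.symm hQP) (by norm_num) (by positivity)]
    exact inf_le_inf_left V inf_le_right
  haveI f1 : FiniteDimensional k ↥(V ⊓ FunFld.L (D - Finsupp.single Q ((r : ℤ) + 1))) :=
    K670.Gen.finiteDimensional_inf hK V _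
  haveI f2 : FiniteDimensional k ↥(V ⊓ FunFld.L (D - Finsupp.single P 1 - Finsupp.single Q (r : ℤ))) :=
    K670.Gen.finiteDimensional_inf hK V _
  have n1 : 1 ≤ Module.finrank k ↥(V ⊓ FunFld.L (D - Finsupp.single Q ((r : ℤ) + 1))) :=
    Submodule.one_le_finrank_iff.mpr h1
  have n2 : 1 ≤ Module.finrank k ↥(V ⊓ FunFld.L (D - Finsupp.single P 1 - Finsupp.single Q (r : ℤ))) :=
    Submodule.one_le_finrank_iff.mpr h2
  have e1 := Submodule.eq_of_le_of_finrank_le le1 (by omega)
  have e2 := Submodule.eq_of_le_of_finrank_le le2 (by omega)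
  apply h1
  rw [eq_bot_iff, ← hQ']
  intro x hx
  have hx2 : x ∈ V ⊓ FunFld.L (D - Finsupp.single P 1 - Finsupp.single Q (r : ℤ)) := by
    rw [e2, ← e1]; exact hx
  rw [← K670.Van.L_sub_inf (Ne.symm hQP) (by norm_num) (by positivity)] at hx2 ⊢
  exact ⟨hx.1, hx2.2.1, hx.2⟩

end Groth.Agent.S16266
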