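import Groth.Statements.S16267
import Groth.Agent.FunFld.K670.Swap

set_option autoImplicit false
set_option linter.style.haveILetI false
set_option linter.unusedVariables false
open FunFld

namespace Groth.Agent.S16267

/-- Let `K/k` be a function field of one variable of genus one over an algebraically closed field `k` of
characteristic zero (an elliptic curve), `a, b ≥ 1` integers and `A` a place. For a place `B` put `D
= (1+a)A + (1+b)B` and let `V = L((1+a)A) + L((1+b)B) ⊆ L(D)`, a linear system of dimension `a + b +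
1`. Then for a general (here: all but finitely many) `B ≠ A`, the system `V` has no special
ramification point other than `A` and `B`: there is no place `R ∉ {A, B}` of weight at least two,
that is, with `dim V ∩ L(D - (a+b)R) ≥ 2` or `V ∩ L(D - (a+b+2)R) ≠ 0`. (The published statement is
for a general two-pointed elliptic curve over the complex numbers; the argument fixes the curve and
the point `A` arbitrarily.) -/
theorem result
    (k K : Type*) [Field k] [IsAlgClosed k] [CharZero k] [Field K] [Algebra k K]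
    (hK : FunFld.IsFunctionField k K) (hg : FunFld.genus k K = 1) (a b : ℕ) (ha : 1 ≤ a) (hb : 1 ≤ b)
    (A : FunFld.Place k K) :
    Set.Finite {B : FunFld.Place k K | B ≠ A ∧ ∃ R : FunFld.Place k K, R ≠ A ∧ R ≠ B ∧
      (2 ≤ Module.finrank k ↥((FunFld.L (Finsupp.single A ((a : ℤ) + 1)) ⊔ FunFld.L (Finsupp.single B ((b : ℤ) + 1))) ⊓
          FunFld.L (Finsupp.single A ((a : ℤ) + 1) + Finsupp.single B ((b : ℤ) + 1) - Finsupp.single R ((a : ℤ) + b))) ∨
        (FunFld.L (Finsupp.single A ((a : ℤ) + 1)) ⊔ FunFld.L (Finsupp.single B ((b : ℤ) + 1))) ⊓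
          FunFld.L (Finsupp.single A ((a : ℤ) + 1) + Finsupp.single B ((b : ℤ) + 1) - Finsupp.single R ((a : ℤ) + b + 2)) ≠ ⊥)} := by
  classical
  obtain ⟨δ, hδ⟩ := K670.Deriv.exists_isInv hK hg A
  have hswap : ∀ R : FunFld.Place k K, A ≠ R → ∃ σ : K ≃ₐ[k] K,
      (∀ x, A.1 (σ x) = R.1 x) ∧ (∀ x, R.1 (σ x) = A.1 x) := fun R hR =>
    K670.Swap.exists_swap hK hg hR
  choose! σ hσ1 hσ2 using hswap
  -- transport of places
  let cp : (K ≃ₐ[k] K) → FunFld.Place k K → FunFld.Place k K := fun τ Q =>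
    ⟨Q.1.comap (τ : K →+* K), by
      refine ⟨fun c => ?_, fun z => ?_⟩
      · show Q.1 (τ (algebraMap k K c)) ≤ 1
        rw [AlgEquiv.commutes]; exact Q.2.1 c
      · obtain ⟨x, hx⟩ := Q.2.2 z
        refine ⟨τ.symm x, ?_⟩
        show Q.1 (τ (τ.symm x)) = z
        rw [AlgEquiv.apply_symm_apply, hx]⟩
  have hcp : ∀ τ Q x, (cp τ Q).1 x = Q.1 (τ x) := fun τ Q x => rfl
  have hext : ∀ P Q : FunFld.Place k K, (∀ x, P.1 x = Q.1 x) → P = Q := fun P Q h =>
    Subtype.ext (Valuation.ext h)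
  have hF : (K670.SetC.CSet (k := k) A (a + b) a b ∪ K670.SetH.HSet (k := k) A a b).Finite :=
    (K670.SetC.finite_CSet hK hδ hg A le_rfl).union (K670.SetH.finite_HSet hK hδ hg A a b)
  refine (hF.image fun PQ => cp (σ PQ.1) PQ.2).subset ?_
  rintro B ⟨hBA, R, hRA, hRB, hcases⟩
  have hAR : A ≠ R := Ne.symm hRA
  have s1 := hσ1 R hAR
  have s2 := hσ2 R hAR
  set τ := σ R with hτ
  set B' := cp τ.symm B with hB'
  have hB'x : ∀ x, B'.1 (τ x) = B.1 x := by
    intro x
    rw [hB', hcp, AlgEquiv.symm_apply_apply]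
  have hB'A : B' ≠ A := by
    intro h
    apply hRB
    apply hext
    intro x
    rw [← s1, ← hB'x, h]
  have hΦ : cp τ B' = B := by
    apply hext
    intro x
    rw [hcp, hB'x]
  have haff : ∀ g : K, g ∈ K670.Aff.aff (k := k) R → τ g ∈ K670.Aff.aff (k := k) A := by
    intro g hg P hP
    have h1 : cp τ P ≠ R := by
      intro h
      apply hP
      apply hext
      intro x
      have h2 : P.1 (τ (τ.symm x)) = R.1 (τ.symm x) := by rw [← hcp, h]
      rw [AlgEquiv.apply_symm_apply] at h2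
      rw [h2, ← s1, AlgEquiv.apply_symm_apply]
    exact hg (cp τ P) h1
  have hτ1 : ∀ g : K, τ g - 1 = τ (g - 1) := by
    intro g; rw [map_sub, map_one]
  refine ⟨(R, B'), ?_, hΦ⟩
  rcases hcases with h2 | h2
  · left
    set V := FunFld.L (Finsupp.single A ((a : ℤ) + 1)) ⊔ FunFld.L (Finsupp.single B ((b : ℤ) + 1))
    set E : FunFld.Divisor k K := Finsupp.single A ((a : ℤ) + 1) + Finsupp.single B ((b : ℤ) + 1) -
      Finsupp.single R ((a : ℤ) + b) with hE
    have hdeg : E.deg = 2 := by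
      rw [hE, K670.Gen.deg_sub_single hK, K670.Gen.deg_add, K670.Gen.deg_single' hK,
        K670.Gen.deg_single' hK]; ring
    have hfr := K670.ClaimG.finrank_eq_deg hK hg (D := E) (by rw [hdeg]; norm_num)
    rw [hdeg] at hfr
    have hfr' : Module.finrank k ↥(FunFld.L E) = 2 := by exact_mod_cast hfr
    haveI := K670.Base.finiteDimensional_L hK E
    have heq : V ⊓ FunFld.L E = FunFld.L E :=
      Submodule.eq_of_le_of_finrank_le inf_le_right (by rw [hfr']; exact h2)
    have hle : FunFld.L E ≤ V := by rw [← heq]; exact inf_le_left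
    obtain ⟨g, hg1, hg2, hg3, hg4⟩ := K670.Split.exists_split hK hg (Ne.symm hBA) hRA hRB
      (a := a) (b := b) (n := a + b) (by push_cast; exact hle)
    refine ⟨hRA, hB'A, τ g, haff g hg1, ?_, ?_, ?_⟩
    · rw [s1]; exact hg2
    · rw [hτ1, s2]; exact hg3
    · rw [hB'x]; exact hg4
  · right
    obtain ⟨f, hf, hf0⟩ := Submodule.exists_mem_ne_zero_of_ne_bot h2
    obtain ⟨hfV, hfE⟩ := Submodule.mem_inf.mp hf
    obtain ⟨g, h, hg1, hh1, hg2, hh2, hg3, hg4, hh3, hh4⟩ :=
      K670.Split.exists_split2 hK (Ne.symm hBA) hRA hRB hf0 hfE hfV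
    refine ⟨hRA, hB'A, ⟨τ g, haff g hg1⟩, ⟨τ h, haff h hh1⟩, ?_, ?_, ?_, ?_, ?_, ?_⟩
    · show A.1 (τ g) ≤ _
      rw [s1]; exact hg2
    · show A.1 (τ h) = _
      rw [s1]; exact hh2
    · show R.1 (τ g - 1) ≤ _
      rw [hτ1, s2]; exact hg3
    · show B'.1 (τ g) ≤ _
      rw [hB'x]; exact hg4
    · show R.1 (τ h) ≤ _
      rw [s2]; exact hh3
    · show B'.1 (τ h) ≤ _
      rw [hB'x]; exact hh4

end Groth.Agent.S16267
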