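import Groth.Statements.S16269
import Groth.Agent.S16268
import Groth.Agent.EtCore.K301.SigmaCofan

set_option autoImplicit false
universe u w
open CategoryTheory CategoryTheory.Limits AlgebraicGeometry Opposite
open EtCore

namespace Groth.Agent.S16269

/-- Let X be a scheme, Y an etale X-scheme with Y -> X surjective, and G a finite group acting on Y by
X-automorphisms such that the morphisms (id, g) : Y -> Y x_X Y exhibit Y x_X Y as the coproduct of
copies of Y indexed by G (a Galois covering with group G). For an abelian sheaf F on the small etale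
site of X, the restriction map F(X) -> F(Y) is injective and its image is the set of sections of F
over Y fixed by every element of G. -/
theorem result (X : Scheme.{u})
    (Y : X.Etale) (hY : Function.Surjective Y.hom.base)
    {G : Type u} [Group G] [Finite G] (σ : G →* Aut Y)
    (hgal : Nonempty (IsColimit (Cofan.mk (Y ⨯ Y) (fun g : G => prod.lift (𝟙 Y) (σ g).hom))))
    (F : EtCoh.Ab X) :
    Function.Injective (F.obj.map ((EtCore.topIsTerminal X).from Y).op) ∧
      Set.range (F.obj.map ((EtCore.topIsTerminal X).from Y).op) =
        {s : EtCoh.sect F Y | ∀ g : G, F.obj.map (σ g).hom.op s = s} := by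
  have hF : Presieve.IsSheaf X.smallEtaleTopology (F.obj ⋙ forget AddCommGrpCat.{u + 1}) :=
    (isSheaf_iff_isSheaf_of_type _ _).1
      ((Presheaf.isSheaf_iff_isSheaf_forget _ _ (forget AddCommGrpCat.{u + 1})).1 F.property)
  obtain ⟨hc⟩ := hgal
  have hP := K301.SigmaCofan.sect_bijective hF hc
  have h := S16268.result X Y hY σ ⟨hc⟩ (F.obj ⋙ forget AddCommGrpCat.{u + 1}) hP
  refine h.1 ?_
  rw [Presieve.isSheafFor_iff_generate]
  apply hF
  rw [Groth.Agent.Etbase.EtSite.mem_iff]
  intro x
  obtain ⟨y, hy⟩ := hY x
  refine ⟨Y, (EtCore.topIsTerminal X).from Y, y,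
    ⟨Y, 𝟙 _, _, Presieve.singleton_self _, Category.id_comp _⟩, ?_⟩
  have h1 : ((EtCore.topIsTerminal X).from Y).left = Y.hom := by
    have := MorphismProperty.Over.w ((EtCore.topIsTerminal X).from Y)
    exact (Category.comp_id _).symm.trans this
  exact (congrArg (fun k : Y.left ⟶ X => k y) h1).trans hy

end Groth.Agent.S16269
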