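import Groth.Statements.S19999
import Groth.Agent.EtCore.K301.JoinFin
import Groth.Agent.EtCore.K798.JoinPow

set_option autoImplicit false
universe u
open CategoryTheory CategoryTheory.Limits AlgebraicGeometry Opposite
open EtCore

namespace Groth.Agent.S19999

/-- Let `X` be a Noetherian scheme in which every finite set of points lies in some affine open
subscheme, `U → X` a quasi-compact étale morphism, `n ≥ 1`, and `U^n` the `n`-fold fibre product of
`U` over `X` (the `n`-fold product in the small étale site). If `W → U^n` is étale and surjective,
then there is an étale `U' → U`, surjective, such that `(U')^n → U^n` factors through `W`. (The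
published statement also allows a base change to a product of strict localisations at finitely many
geometric points and assumes only that `X` is quasi-compact; this row takes no geometric points and
`X` Noetherian, the case used for Čech cohomology. The case `n = 0` is excluded: `U^0 = X` and an
étale surjection onto `X` need not have a section.) -/
theorem result (X : Scheme.{u})
    [AlgebraicGeometry.IsNoetherian X]
    (hX : ∀ s : Set X, s.Finite → ∃ V : X.Opens, IsAffineOpen V ∧ s ⊆ (V : Set X))
    (U : X.Etale) [QuasiCompact U.hom] (n : ℕ) (hn : 0 < n)
    (W : X.Etale) (w : W ⟶ ∏ᶜ fun _ : Fin n => U) (hw : Function.Surjective w.left.base) :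
    ∃ (U' : X.Etale) (g : U' ⟶ U), Function.Surjective g.left.base ∧
      ∃ h : (∏ᶜ fun _ : Fin n => U') ⟶ W, h ≫ w = Limits.Pi.map (fun _ : Fin n => g) :=
  K798.JoinPow.pow_of_al2 X (K301.JoinFin.al2 X hX) U n hn W w hw

end Groth.Agent.S19999
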