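import Groth.Statements.S16271
import Groth.Agent.S19999
import Groth.Agent.EtCore.K868.PowLift

set_option autoImplicit false
universe u
open CategoryTheory CategoryTheory.Limits AlgebraicGeometry Opposite
open EtCore

namespace Groth.Agent.S16271

/-- Let X be a Noetherian scheme in which every finite set of points lies in some affine open subscheme,
F -> F'' an epimorphism of abelian sheaves on the small etale site of X, U -> X a quasi-compact
surjective etale morphism and n >= 1; write U^n for the n-fold fibre product of U over X (the n-fold
product in the small etale site). Then every section s'' of F'' over U^n lifts to F after refining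
U: there are an etale U' -> U, surjective, and a section s of F over (U')^n mapping to the
restriction of s'' along (U')^n -> U^n. (The published statement assumes only that X is
quasi-compact (with every finite set of points in an affine open) and concludes that the direct
limit of the Cech complexes over the etale coverings of X is exact, hence that Cech cohomology
computes etale cohomology; this row assumes X Noetherian and states the lifting property from which
that exactness follows. The case n = 0 is excluded: U^0 = X and the assertion would say that F(X) ->
F''(X) is onto.) -/
theorem result (X : Scheme.{u})
    [AlgebraicGeometry.IsNoetherian X]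
    (hX : ∀ s : Set X, s.Finite → ∃ V : X.Opens, IsAffineOpen V ∧ s ⊆ (V : Set X))
    {F F'' : EtCoh.Ab X} (φ : F ⟶ F'') [Epi φ]
    (U : X.Etale) [QuasiCompact U.hom] (hU : Function.Surjective U.hom.base)
    (n : ℕ) (hn : 0 < n) (s'' : EtCoh.sect F'' (∏ᶜ fun _ : Fin n => U)) :
    ∃ (U' : X.Etale) (g : U' ⟶ U), Function.Surjective g.left.base ∧
      ∃ s : EtCoh.sect F (∏ᶜ fun _ : Fin n => U'),
        φ.hom.app _ s = F''.obj.map (Limits.Pi.map (fun _ : Fin n => g)).op s'' :=
  K868.PowLift.exists_lift_pow φ U n (fun W w hw => Groth.Agent.S19999.result X hX U n hn W w hw) s''

end Groth.Agent.S16271
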