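import Groth.Statements.S16272
import Groth.Agent.NonAbH1.K552.Cech

set_option autoImplicit false
universe w' w v u
open CategoryTheory
open NonAbH1

namespace Groth.Agent.S16272

/-- The class map is well defined: let C be a category with a Grothendieck topology J, G a sheaf of
groups and U a family of objects. A G-torsor P with a section over every U_i has exactly one Cech
class on U: choosing sections s_i of P over the U_i cuts out a 1-cocycle of G on U, and its class in
the Cech cohomology set H^1(U, G) does not depend on the choice. (The published statement is for an
etale covering of a scheme; this row is stated for any family of objects of any site.) -/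
theorem result {C : Type u} [Category.{v} C]
    {J : GrothendieckTopology C} {G : Sheaf J GrpCat.{w}} (P : NonAbH1.Torsor G)
    {I : Type w'} (U : I → C) (hP : P.TrivialisedBy U) :
    ∃! c : PresheafOfGroups.H1 G.obj U, P.HasCechClass U c := by
  have hps := P.isTorsor.1
  let s : ∀ i, P.P.obj.obj (Opposite.op (U i)) := fun i => (hP i).some
  refine ⟨(K552.Cech.cocycleOf hps s).class, ⟨s, _, K552.Cech.isCocycleOf_cocycleOf hps s, rfl⟩, ?_⟩
  rintro c ⟨s', γ', h', rfl⟩
  exact Quot.sound (K552.Cech.isCohomologous_of_isCocycleOf hps h' (K552.Cech.isCocycleOf_cocycleOf hps s))

end Groth.Agent.S16272
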