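import Groth.Statements.S16279
import Groth.Agent.HodgeNum.K108.Final279
import Groth.Agent.HodgeNum.K108.PtHodge

set_option autoImplicit false
universe u
open CategoryTheory CategoryTheory.Limits AlgebraicGeometry
open HodgeNum

namespace Groth.Agent.S16279

/-- Let k be an algebraically closed field of characteristic p > 0, m ≥ 2, e an integer and X a smooth
projective k-variety of dimension n + 1 (an integral k-scheme, smooth of relative dimension n + 1
over k, with a closed immersion into some P^N_k over k). Then X can be replaced by a smooth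
projective X' of the same dimension, mapping birationally to X over k and with the same Hodge
numbers modulo m, which carries a very ample invertible sheaf L with χ(X', L^{-1}) ≡ e (mod m) and
such that every smooth divisor Y in the linear system of L has h^{p,q}(Y) = h^{p,q}(X') for p + q ≤
n - 1. Precisely: there are an integral k-scheme X', smooth of relative dimension n + 1 over k with
a closed immersion into some projective space over k, a k-morphism π : X' → X restricting to an
isomorphism over a nonempty open of X, such that dim_k H^q(X', E') ≡ dim_k H^q(X, E) (mod m) for all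
p, q and all p-th exterior powers E', E of the sheaves of differentials, and an O_{X'}-module L,
very ample for X' → Spec k relative to some P^n, such that for every M with M ⊗ L ≅ O_{X'} the
alternating sum Σ_{i ≤ n+1} (-1)^i dim_k H^i(X', M) is ≡ e (mod m), and for every closed subscheme Y
of X' smooth of relative dimension n over k whose ideal sheaf is isomorphic to M, all p + q ≤ n - 1
and all p-th exterior powers F, E' of Ω_{Y/k}, Ω_{X'/k}, dim_k H^q(Y, F) = dim_k H^q(X', E'). (The
source obtains X' from X by a sequence of blow-ups in smooth centres; this row only records a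
birational k-morphism X' → X.) -/
theorem result (k : Type u) [Field k] [IsAlgClosed k]
    (pc : ℕ) [Fact pc.Prime] [CharP k pc] (m : ℕ) (hm : 2 ≤ m) (e : ℤ) (n N : ℕ)
    (X : Scheme.{u}) [X.Over (Spec (CommRingCat.of k))] [IsIntegral X]
    [SmoothOfRelativeDimension (n + 1) (X ↘ Spec (CommRingCat.of k))]
    (ι : X ⟶ CohB1.ProjSpace N k) [IsClosedImmersion ι] (hι : ι ≫ CohB1.ProjSpace.toSpec N k = X ↘ Spec (CommRingCat.of k)) :
    ∃ (X' : Scheme.{u}) (hX' : X'.Over (Spec (CommRingCat.of k))) (N' : ℕ) (ι' : X' ⟶ CohB1.ProjSpace N' k) (π : X' ⟶ X) (U : X.Opens),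
      IsIntegral X' ∧ SmoothOfRelativeDimension (n + 1) (X' ↘ Spec (CommRingCat.of k)) ∧ IsClosedImmersion ι' ∧
      ι' ≫ CohB1.ProjSpace.toSpec N' k = X' ↘ Spec (CommRingCat.of k) ∧ π ≫ (X ↘ Spec (CommRingCat.of k)) = X' ↘ Spec (CommRingCat.of k) ∧
      (U : Set X).Nonempty ∧ IsIso (π ∣_ U) ∧
      (∀ p q : ℕ, ∀ E' : X'.Modules, ExtPow.IsExtPow p (Omega.sheaf (X' ↘ Spec (CommRingCat.of k))) E' →
        ∀ E : X.Modules, ExtPow.IsExtPow p (Omega.sheaf (X ↘ Spec (CommRingCat.of k))) E →
          ((Module.finrank k (Coh.HH X' E' q) : ℤ) : ZMod m) = ((Module.finrank k (Coh.HH X E q) : ℤ) : ZMod m)) ∧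
      ∃ L : X'.Modules, RelAmple.IsRelVeryAmplePn (X' ↘ Spec (CommRingCat.of k)) L ∧
        ∀ M : X'.Modules, ClSub.IsInverseOf M L →
          ((FGA.eulerCharLE k X' M (n + 1) : ℤ) : ZMod m) = (e : ZMod m) ∧
          ∀ (I : X'.IdealSheafData) [I.subscheme.Over (Spec (CommRingCat.of k))],
            I.subscheme ↘ Spec (CommRingCat.of k) = I.subschemeι ≫ X' ↘ Spec (CommRingCat.of k) → Nonempty (ClSub.idealMod I ≅ M) →
            SmoothOfRelativeDimension n (I.subscheme ↘ Spec (CommRingCat.of k)) →
            ∀ p q : ℕ, p + q + 1 ≤ n →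
              ∀ F : I.subscheme.Modules, ExtPow.IsExtPow p (Omega.sheaf (I.subscheme ↘ Spec (CommRingCat.of k))) F →
              ∀ E' : X'.Modules, ExtPow.IsExtPow p (Omega.sheaf (X' ↘ Spec (CommRingCat.of k))) E' →
                Module.finrank k (Coh.HH I.subscheme F q) = Module.finrank k (Coh.HH X' E' q) := by
  exact Groth.Agent.HodgeNum.K108.Final279.main k pc m hm e n N
    (Groth.Agent.HodgeNum.K108.PtHodge.hodgeStep k n) X ι hι

end Groth.Agent.S16279
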