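import Groth.Statements.S16278
import Groth.Agent.Lift.K934.PSer
import Groth.Agent.Lift.K934.Cut
import Groth.Agent.S16279

set_option autoImplicit false
universe u
open CategoryTheory CategoryTheory.Limits AlgebraicGeometry
open HodgeNum

namespace Groth.Agent.S16278

open K934.Outer K934.Cut in
/-- Cutting down with prescribed middle numbers. -/
theorem cut {k : Type u} [Field k] [IsAlgClosed k]
    (pc : ℕ) [Fact pc.Prime] [CharP k pc] {m : ℕ} (hm : 2 ≤ m) {n : ℕ} {P Q : PowerSeries (ZMod m)} (hn : 1 ≤ n)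
    (h : Rz k m (n + 1) P Q) (c : ZMod m) : ∃ P' Q', Rz k m n P' Q' ∧
      (∀ i, i < n → PowerSeries.coeff i P' = PowerSeries.coeff i P ∧ PowerSeries.coeff i Q' = PowerSeries.coeff i Q) ∧
      PowerSeries.coeff n P' = c ∧ PowerSeries.coeff n Q' = c := by
  obtain ⟨X, hO, hX, hN⟩ := h
  obtain ⟨e, he⟩ := ZMod.intCast_surjective
    ((-1 : ZMod m) ^ n * (PowerSeries.coeff n Q - PowerSeries.coeff (n + 1) Q - c))
  have hint := hX.int
  have hsm := hX.smooth
  obtain ⟨N, ι, hι, hf⟩ := hX.proj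
  obtain ⟨X', hX', N', ι', π, U, i1, i2, i3, i4, -, -, -, hcong, L, hL, hM⟩ := Groth.Agent.S16279.result k pc m hm e n N X ι hf
  have hX'v : IsVar k (n + 1) X' := ⟨i1, i2, N', ι', i3, i4⟩
  have hprop := isProper hX
  have hqX := isQCoh_omega (X ↘ Spec (CommRingCat.of k))
  have hN' : Nums k m X' P Q := by
    refine ⟨fun i E' hE' => ?_, fun i => ?_⟩
    · obtain ⟨E, hE⟩ := Groth.Agent.Dual.H366.ExtQCoh.exists_isExtPow i hqX
      have h1 := hcong i 0 E' hE' E hE
      rw [Int.cast_natCast, Int.cast_natCast] at h1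
      rw [h1, hN.left i E hE]
    · have h1 := hcong 0 i _ (Groth.Agent.Sga67.TensorOps.isExtPow_zero _) _ (Groth.Agent.Sga67.TensorOps.isExtPow_zero _)
      rw [Int.cast_natCast, Int.cast_natCast] at h1
      rw [h1, hN.right i]
  obtain ⟨P', Q', h1, h2, h3, h4⟩ := step X' hn hX'v L hL e hM hN'
  have h5 : PowerSeries.coeff n Q' = c := by
    rw [Finset.sum_range_succ, Finset.sum_range_succ, Finset.sum_range_succ _ n,
      Finset.sum_congr rfl (fun i hi => by rw [← (h2 i (Finset.mem_range.1 hi)).2])] at h4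
    have h6 : (-1 : ZMod m) ^ n * (-1 : ZMod m) ^ n = 1 := by
      rw [← mul_pow]; simp
    have h7 : (-1 : ZMod m) ^ n * PowerSeries.coeff n Q + (-1 : ZMod m) ^ (n + 1) * PowerSeries.coeff (n + 1) Q =
        (-1 : ZMod m) ^ n * (PowerSeries.coeff n Q - PowerSeries.coeff (n + 1) Q - c) +
          (-1 : ZMod m) ^ n * PowerSeries.coeff n Q' := by
      rw [← he]
      linear_combination h4
    have h8 : (-1 : ZMod m) ^ n * (PowerSeries.coeff n Q' - c) = 0 := by
      rw [pow_succ] at h7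
      linear_combination -h7
    have h9 := congrArg (fun z => (-1 : ZMod m) ^ n * z) h8
    simp only [← mul_assoc, h6, one_mul, mul_zero] at h9
    exact sub_eq_zero.1 h9
  exact ⟨P', Q', h1, h2, h3.trans h5, h5⟩

/-- Let k be an algebraically closed field of characteristic p > 0, m ≥ 2 and n ≥ 0 integers, and
a^{1,0}, …, a^{n,0}, a^{0,1}, …, a^{0,n} integers with a^{n,0} = a^{0,n} (given as a i and b i for 1
≤ i ≤ n, with a n = b n when n ≥ 1). Then there is a smooth projective k-variety X of dimension n —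
an integral k-scheme, smooth of relative dimension n over k, with a closed immersion into some P^N_k
over k — with h^{i,0}(X) ≡ a i and h^{0,i}(X) ≡ b i modulo m for 1 ≤ i ≤ n: for every i-th exterior
power E of Ω_{X/k}, dim_k H^0(X, E) ≡ a i, and dim_k H^i(X, O_X) ≡ b i. -/
theorem result (k : Type u) [Field k] [IsAlgClosed k]
    (pc : ℕ) [Fact pc.Prime] [CharP k pc] (m : ℕ) (hm : 2 ≤ m) (n : ℕ)
    (a b : ℕ → ℤ) (hab : 1 ≤ n → a n = b n) :
    ∃ (X : Scheme.{u}) (hX : X.Over (Spec (CommRingCat.of k))) (N : ℕ) (ι : X ⟶ CohB1.ProjSpace N k),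
      IsIntegral X ∧ SmoothOfRelativeDimension n (X ↘ Spec (CommRingCat.of k)) ∧ IsClosedImmersion ι ∧
      ι ≫ CohB1.ProjSpace.toSpec N k = X ↘ Spec (CommRingCat.of k) ∧
      (∀ i : ℕ, 1 ≤ i → i ≤ n → ∀ E : X.Modules, ExtPow.IsExtPow i (Omega.sheaf (X ↘ Spec (CommRingCat.of k))) E →
        ((Module.finrank k (Coh.HH X E 0) : ℤ) : ZMod m) = (a i : ZMod m)) ∧
      (∀ i : ℕ, 1 ≤ i → i ≤ n →
        ((Module.finrank k (Coh.HH X (Coh.structureModule X) i) : ℤ) : ZMod m) = (b i : ZMod m)) := by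
  rcases Nat.eq_zero_or_pos n with rfl | hn
  · refine ⟨CohB1.ProjSpace 0 k, ⟨CohB1.ProjSpace.toSpec 0 k⟩, 0, 𝟙 _, K711.ProjDim.isIntegral_projSpace 0 k, ?_, inferInstance,
      Category.id_comp _, fun i h1 h2 => ?_, fun i h1 h2 => ?_⟩
    · exact inferInstanceAs (SmoothOfRelativeDimension 0 (CohB1.ProjSpace.toSpec 0 k))
    · omega
    · omega
  · have H : K934.PSer.Hyp (K934.Outer.Rz k m) :=
      { mul := fun h₁ h₂ => h₁.mul pc h₂
        proj := fun r hr => K934.Outer.rz_proj r hr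
        gs := fun D hD => K934.Outer.rz_gs pc D hD
        zero := fun h => K934.Outer.rz_zero h
        cut := fun h1 h2 c => cut pc hm h1 h2 c }
    obtain ⟨P, Q, ⟨X, hX, hv, hN⟩, hPQ⟩ := K934.PSer.main H hm n hn (fun i => (a i : ZMod m)) (fun i => (b i : ZMod m)) (by
      rw [hab hn])
    obtain ⟨N, ι, h1, h2⟩ := hv.proj
    refine ⟨X, hX, N, ι, hv.int, hv.smooth, h1, h2, fun i i1 i2 E hE => ?_, fun i i1 i2 => ?_⟩
    · rw [Int.cast_natCast, hN.left i E hE, (hPQ i i1 i2).1]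
    · rw [Int.cast_natCast, hN.right i, (hPQ i i1 i2).2]

end Groth.Agent.S16278
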