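import Groth.Statements.S16283
import Groth.Agent.Coherent.K54.RelExt
import Groth.Agent.S11918
import Groth.Agent.EtDesc.K224.SpAbut
-- import your own Groth.Agent.* helpers here

set_option autoImplicit false
universe u
open CategoryTheory CategoryTheory.Limits AlgebraicGeometry ZeroObject
open Coherent

namespace Groth.Agent.S16283

/-- Let f : X → Y and g : Y → Z be morphisms of schemes, h = g ∘ f, and F, G O_X-modules. For a morphism
u out of X write Ext^b_u(F, -) for the b-th right derived functor of the left exact functor G ↦ u_*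
Hom_{O_X}(F, G) from O_X-modules. Then there is an E₂ spectral sequence of O_Z-modules with E₂^{a,b}
≅ R^a g_*(Ext^b_f(F, G)) for a, b ≥ 0 (and 0 otherwise), bounded, abutting with finite filtrations
to Ext^n_h(F, G) (n ≥ 0; 0 for n < 0). (Stated for schemes, the published statement being for ringed
spaces. Existence only: the E₂ identifications and the abutment are some isomorphisms. The internal
Hom functor of F, injective resolutions on X and Y and additivity of the composite functors are the
stated instance hypotheses, all true.) -/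
theorem result (X Y Z : Scheme.{u}) (f : X ⟶ Y) (g : Y ⟶ Z)
    (F G : X.Modules)
    [ModSite.HasSheafHom (O := X.sheaf) F] [HasInjectiveResolutions (ModSite.Mod X.sheaf)] [HasInjectiveResolutions Y.Modules]
    [(ModSite.sheafHom (O := X.sheaf) F ⋙ Scheme.Modules.pushforward f).Additive]
    [(ModSite.sheafHom (O := X.sheaf) F ⋙ Scheme.Modules.pushforward (f ≫ g)).Additive] :
    ∃ (E : E₂CohomologicalSpectralSequence Z.Modules)
      (a : SpSeq.Abutment E (fun n : ℤ =>
        if 0 ≤ n then ((ModSite.sheafHom (O := X.sheaf) F ⋙ Scheme.Modules.pushforward (f ≫ g)).rightDerived n.toNat).obj G else (0 : Z.Modules))),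
      (∀ n : ℤ, a.IsFinite n) ∧ SpSeq.IsBounded E ∧
      ∀ p q : ℤ, Nonempty ((E.page 2 le_rfl).X (p, q) ≅
        (if 0 ≤ p ∧ 0 ≤ q then (Coh.Rpush g p.toNat).obj (((ModSite.sheafHom (O := X.sheaf) F ⋙ Scheme.Modules.pushforward f).rightDerived q.toNat).obj G)
          else (0 : Z.Modules))) := by
  have h1 : HasInjectiveResolutions X.Modules := ‹HasInjectiveResolutions (ModSite.Mod X.sheaf)›
  let T : X.Modules ⥤ Y.Modules := ModSite.sheafHom (O := X.sheaf) F ⋙ Scheme.Modules.pushforward f
  have hT : T.Additive :=
    ‹(ModSite.sheafHom (O := X.sheaf) F ⋙ Scheme.Modules.pushforward f).Additive›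
  let U : X.Modules ⥤ Z.Modules :=
    ModSite.sheafHom (O := X.sheaf) F ⋙ Scheme.Modules.pushforward (f ≫ g)
  have hU : U.Additive :=
    ‹(ModSite.sheafHom (O := X.sheaf) F ⋙ Scheme.Modules.pushforward (f ≫ g)).Additive›
  let e : T ⋙ Scheme.Modules.pushforward g ≅ U :=
    Functor.associator _ _ _ ≪≫ Functor.isoWhiskerLeft (ModSite.sheafHom (O := X.sheaf) F)
      (Scheme.Modules.pushforwardComp f g)
  obtain ⟨E, a, ha, hb, hE⟩ := Groth.Agent.S11918.result T (Scheme.Modules.pushforward g)
    (fun Q hQ q hq => (K54.RelExt.isZero_Rpush_phi f g F Q hQ q hq).of_iso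
      (((Scheme.Modules.pushforward g).rightDerived q).mapIso ((K54.RelExt.phiIso f F).app Q))) G
  obtain ⟨a', ha'⟩ := K224.SpAbut.exists_abutment_iso
    (H' := fun n : ℤ => if 0 ≤ n then (U.rightDerived n.toNat).obj G else (0 : Z.Modules)) a ha
    (fun n => by
      by_cases hn : 0 ≤ n
      · simp only [hn, if_true]
        exact ⟨(K54.RelExt.derIso e n.toNat).app G⟩
      · simp only [hn, if_false]
        exact ⟨Iso.refl _⟩)
  exact ⟨E, a', ha', hb, hE⟩

end Groth.Agent.S16283
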