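import Groth.Statements.S16285
import Groth.Agent.ProjDual.K478.RelDual

set_option autoImplicit false
universe u
open CategoryTheory CategoryTheory.Limits AlgebraicGeometry
open ProjDual

namespace Groth.Agent.S16285

attribute [local instance] HasDerivedCategory.standard in
open Groth.Agent Groth.Agent.Dcoh.MonClosed Groth.Agent.Htor.H255.ExtRD K274.ShBridge K478.RelDual in
theorem aux (Y : Scheme.{u}) [IsNoetherian Y] (n r : ℕ)
    (hrn : r ≤ n) (X : Scheme.{u}) (f : X ⟶ Y)
    (e : X ⟶ CohB1.ProjSpaceOver n Y) [IsClosedImmersion e] (he : e ≫ CohB1.ProjSpaceOver.toBase n Y = f)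
    (hr : ∀ y : Y, topologicalKrullDim ↥(f.fiber y) ≤ (r : WithBot ℕ∞))
    (F : X.Modules) (hF : Coh.IsQCoh F) (G : Y.Modules) (hG : Coh.IsQCoh G)
    [ModSite.HasSheafHom (O := (CohB1.ProjSpaceOver n Y).sheaf) ((Scheme.Modules.pushforward e).obj (Coh.structureModule X))]
    [ModSite.HasSheafHom (O := (CohB1.ProjSpaceOver n Y).sheaf) ((Scheme.Modules.pushforward e).obj F)]
    [HasInjectiveResolutions (ModSite.Mod (CohB1.ProjSpaceOver n Y).sheaf)] [HasInjectiveResolutions X.Modules]
    [ModSite.HasSheafHom (O := Y.sheaf) ((Coh.Rpush f r).obj F)] :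
    Nonempty ((Scheme.Modules.pushforward (CohB1.ProjSpaceOver.toBase n Y)).obj
        ((ModSite.sheafHom (O := (CohB1.ProjSpaceOver n Y).sheaf) ((Scheme.Modules.pushforward e).obj F)).obj
          ((ModSite.extSh (O := (CohB1.ProjSpaceOver n Y).sheaf) ((Scheme.Modules.pushforward e).obj (Coh.structureModule X)) (n - r)).obj
            (CohB1.tensorMod (Twist.twistOver n Y (-((n : ℤ) + 1)))
              ((Scheme.Modules.pullback (CohB1.ProjSpaceOver.toBase n Y)).obj G)))) ≅
      (ModSite.sheafHom (O := Y.sheaf) ((Coh.Rpush f r).obj F)).obj G) := by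
  let P := CohB1.ProjSpaceOver n Y
  let π : P ⟶ Y := CohB1.ProjSpaceOver.toBase n Y
  have hπ : IsProper π := K478.PnShriek.isProper_toBase n Y
  have hf : IsProper f := by rw [← he]; infer_instance
  have hP : IsNoetherian P := LoccohB.AdStruct.isNoetherian_of_finiteType π
  have hX : IsNoetherian X := LoccohB.AdStruct.isNoetherian_of_finiteType f
  have hi1 : HasInjectiveResolutions P.Modules := hasInj
  have hi2 : HasInjectiveResolutions Y.Modules := Dcoh.DerSch.hasInjectiveResolutions Y
  have := Dcoh.DerSch.hasRpush π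
  have := Dcoh.DerSch.hasRpush e
  have := Dcoh.DerSch.hasRpush f
  have := Dcoh.DerSch.hasRpush (e ≫ π)
  let N : P.Modules := CohB1.tensorMod (Twist.twistOver n Y (-((n : ℤ) + 1))) ((Scheme.Modules.pullback π).obj G)
  have hN : Coh.IsQCoh N := Ega1.TensorRestrict.isQCoh_tensorMod _ _
    (Ega2.QCohLocal.isQCoh_of_isFinLocFree (Krr.H446.PnBasic.isFinLocFree_twistOver n Y _))
    (FormalA.PullbackQC.isQCoh_pullback π _ hG)
  have hu := K478.PnShriek.univ_twist n Y G hG
  obtain ⟨L, hL⟩ := Ega1.ADualOpen.exists_univ e ((DCoh.inD P N)⟦(n : ℤ)⟧) hu.qcoh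
  have hfL : Ega1.ADualUniv.Univ f (DCoh.inD Y G) L :=
    LoccohB.AdStruct.Univ.of_eq he (LoccohB.AdStruct.Univ.comp' e π hu hL)
  have hLge := K478.FibGE.isGE_of_univ f r hr hfL (PerfA.QCohD.isQCohD_inD G hG) inferInstance
  obtain ⟨e1⟩ := nonempty_top_push f r hr hG hfL hF
  obtain ⟨e2⟩ := nonempty_ext_push e n r hrn hN hL hLge
  obtain ⟨e3⟩ := nonempty_homPushClosed e F (DCoh.HD L (-(r : ℤ)))
  obtain ⟨e4⟩ := nonempty_extSh ((Scheme.Modules.pushforward e).obj (Coh.structureModule X)) N (n - r)
  let e5 : (homFunctor ((Scheme.Modules.pushforward e).obj F)).obj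
      ((ModSite.extSh (O := P.sheaf) ((Scheme.Modules.pushforward e).obj (Coh.structureModule X)) (n - r)).obj N : P.Modules)
      ≅ (Scheme.Modules.pushforward e).obj ((homFunctor F).obj (DCoh.HD L (-(r : ℤ)))) :=
    (homFunctor _).mapIso (e4 ≪≫ e2.symm) ≪≫ e3
  let e6 := (shIso (flipAdj ((Scheme.Modules.pushforward e).obj F))).app
    ((ModSite.extSh (O := P.sheaf) ((Scheme.Modules.pushforward e).obj (Coh.structureModule X)) (n - r)).obj N : P.Modules)
  exact ⟨(Scheme.Modules.pushforward π).mapIso (e6 ≪≫ e5) ≪≫ (Scheme.Modules.pushforwardComp e π).app _ ≪≫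
    (Scheme.Modules.pushforwardCongr he).app _ ≪≫ e1 ≪≫ ((shIso (flipAdj ((Coh.Rpush f r).obj F))).app G).symm⟩

/-- With f^!G taken to be the Ext sheaf written below, let Y be a Noetherian scheme, P = P^n_Y with
projection π and ω = O_P(-n-1), f : X → Y a flat morphism equal to e ≫ π for a closed immersion e :
X → P, r ≤ n a natural number such that every fibre of f has dimension at most r, F a coherent
O_X-module and G a coherent O_Y-module. Let Ext^q_{O_P}(M, -) be obtained by right-deriving, in
degree q, the internal Hom functor Hom_{O_P}(M, -) on O_P-modules and R^r f_* the r-th right derived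
functor of f_* on O_X-modules. Then π_* Hom_{O_P}(e_* F, Ext^{n-r}_{O_P}(e_* O_X, ω ⊗ π^* G)) is
isomorphic to Hom_{O_Y}(R^r f_* F, G). (Existence of an isomorphism of O_Y-modules only; the
published statement takes r to be the maximum of the fibre dimensions and the published isomorphism
is built from a Yoneda pairing and a trace. The internal Hom functors and injective resolutions are
the stated instance hypotheses, all true.) -/
theorem result (Y : Scheme.{u}) [IsNoetherian Y] (n r : ℕ)
    (hrn : r ≤ n) (X : Scheme.{u}) (f : X ⟶ Y) [Flat f]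
    (e : X ⟶ CohB1.ProjSpaceOver n Y) [IsClosedImmersion e] (he : e ≫ CohB1.ProjSpaceOver.toBase n Y = f)
    (hr : ∀ y : Y, topologicalKrullDim ↥(f.fiber y) ≤ (r : WithBot ℕ∞))
    (F : X.Modules) (hF : Coh.IsCoh F) (G : Y.Modules) (hG : Coh.IsCoh G)
    [ModSite.HasSheafHom (O := (CohB1.ProjSpaceOver n Y).sheaf) ((Scheme.Modules.pushforward e).obj (Coh.structureModule X))]
    [ModSite.HasSheafHom (O := (CohB1.ProjSpaceOver n Y).sheaf) ((Scheme.Modules.pushforward e).obj F)]
    [HasInjectiveResolutions (ModSite.Mod (CohB1.ProjSpaceOver n Y).sheaf)] [HasInjectiveResolutions X.Modules]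
    [ModSite.HasSheafHom (O := Y.sheaf) ((Coh.Rpush f r).obj F)] :
    Nonempty ((Scheme.Modules.pushforward (CohB1.ProjSpaceOver.toBase n Y)).obj
        ((ModSite.sheafHom (O := (CohB1.ProjSpaceOver n Y).sheaf) ((Scheme.Modules.pushforward e).obj F)).obj
          ((ModSite.extSh (O := (CohB1.ProjSpaceOver n Y).sheaf) ((Scheme.Modules.pushforward e).obj (Coh.structureModule X)) (n - r)).obj
            (CohB1.tensorMod (Twist.twistOver n Y (-((n : ℤ) + 1)))
              ((Scheme.Modules.pullback (CohB1.ProjSpaceOver.toBase n Y)).obj G)))) ≅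
      (ModSite.sheafHom (O := Y.sheaf) ((Coh.Rpush f r).obj F)).obj G) := by
  exact aux Y n r hrn X f e he hr F hF.1 G hG.1

end Groth.Agent.S16285
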