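import Groth.Statements.S16288
import Groth.Agent.Ega3A.DRank

set_option autoImplicit false
universe u
open CategoryTheory
open FlatCx

namespace Groth.Agent.S16288

/-- Two upper semicontinuous functions with locally constant sum at `z` are both constant near `z`. -/
theorem eventually_eq_of_usc {X : Type*} [TopologicalSpace X] {f g : X → ℕ} (hf : UpperSemicontinuous f)
    (hg : UpperSemicontinuous g) {z : X} (h : ∀ᶠ x in nhds z, f x + g x = f z + g z) :
    (∀ᶠ x in nhds z, f x = f z) ∧ ∀ᶠ x in nhds z, g x = g z := by
  have h1 := hf z (f z + 1) (Nat.lt_succ_self _)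
  have h2 := hg z (g z + 1) (Nat.lt_succ_self _)
  constructor
  · filter_upwards [h, h1, h2] with x hx hx1 hx2
    omega
  · filter_upwards [h, h1, h2] with x hx hx1 hx2
    omega

/-- Let A be a Noetherian ring and P a chain complex of finitely generated flat A-modules, and for p and
a point x of Spec A let d_p(x) = dim_{k(x)} H_p(P ⊗_A k(x)). Fix p and a point z. If d_{p-1} and
d_{p+1} are constant on some neighbourhood of z, then d_p is constant on some neighbourhood of z.
(The published assertion concerns the function y ↦ dim H^p(X_y, F_y) for a coherent sheaf F flat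
over a projective morphism of Noetherian schemes X → Y: if it is not constant near a point, then the
functions for p - 1 and p + 1 are not both constant near that point. Stated here is the
corresponding property for any chain complex of finitely generated flat modules over a Noetherian
ring, from which the published form follows by applying it to a finite complex of such modules
computing the cohomology of the fibres.) -/
theorem result {A : Type u} [CommRing A] [IsNoetherianRing A]
    (P : ChainComplex (ModuleCat.{u} A) ℤ) (hP : ∀ i, Module.Finite A (P.X i) ∧ Module.Flat A (P.X i))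
    (p : ℤ) (z : PrimeSpectrum A)
    (hlo : ∀ᶠ x in nhds z, CohIII.dRank P (p - 1) x = CohIII.dRank P (p - 1) z)
    (hhi : ∀ᶠ x in nhds z, CohIII.dRank P (p + 1) x = CohIII.dRank P (p + 1) z) :
    ∀ᶠ x in nhds z, CohIII.dRank P p x = CohIII.dRank P p z := by
  have hflat : ∀ i, Module.Flat A (P.X i) := fun i => (hP i).2
  have hfin : ∀ i, Module.Finite A (P.X i) := fun i => (hP i).1
  have hfp : ∀ i, Module.FinitePresentation A (P.X i) := fun i => Module.finitePresentation_of_finite A _
  have hop : ∀ i, Module.Finite A (P.opcycles i) := fun i => Groth.Agent.Ega3A.DRank.finite_opcycles P i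
  have husc : ∀ i, UpperSemicontinuous (Ega3A.FiberRank.fiberRank (R := A) (P.opcycles i)) := fun i =>
    Ega3A.FiberRank.upperSemicontinuous_fiberRank
  have hX : ∀ i, ∀ᶠ x in nhds z, Ega3A.FiberRank.fiberRank (P.X i) x = Ega3A.FiberRank.fiberRank (P.X i) z :=
    fun i => (Ega3A.FiberRank.isLocallyConstant_fiberRank (R := A) (M := P.X i)).eventually_eq z
  have hadd : ∀ (i j : ℤ), j + 1 = i → ∀ x, CohIII.dRank P i x + Ega3A.FiberRank.fiberRank (P.X j) x =
      Ega3A.FiberRank.fiberRank (P.opcycles i) x + Ega3A.FiberRank.fiberRank (P.opcycles j) x :=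
    fun i j hij x => Groth.Agent.Ega3A.DRank.dRank_add P i j (by simpa using hij) x
  have key : ∀ (i j : ℤ), j + 1 = i → (∀ᶠ x in nhds z, CohIII.dRank P i x = CohIII.dRank P i z) →
      (∀ᶠ x in nhds z, Ega3A.FiberRank.fiberRank (P.opcycles i) x =
        Ega3A.FiberRank.fiberRank (P.opcycles i) z) ∧
      (∀ᶠ x in nhds z, Ega3A.FiberRank.fiberRank (P.opcycles j) x =
        Ega3A.FiberRank.fiberRank (P.opcycles j) z) := by
    intro i j hij h
    apply eventually_eq_of_usc (husc i) (husc j)
    filter_upwards [h, hX j] with x hx1 hx2
    have h1 := hadd i j hij x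
    have h2 := hadd i j hij z
    omega
  have h1 := (key (p - 1) (p - 2) (by ring) hlo).1
  have h2 := (key (p + 1) p rfl hhi).2
  filter_upwards [h1, h2, hX (p - 1)] with x hx1 hx2 hx3
  have e1 := hadd p (p - 1) (by ring) x
  have e2 := hadd p (p - 1) (by ring) z
  omega

end Groth.Agent.S16288
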