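import Groth.Statements.S16292
import Groth.Agent.Curves.K327.PointedMain
import Groth.Agent.CurvesB.VeryAmple
import Groth.Agent.CurvesB.SepPoints

set_option autoImplicit false
universe u
open CategoryTheory CategoryTheory.Limits AlgebraicGeometry
attribute [local instance] HasDerivedCategory.standard
open Curves

namespace Groth.Agent.S16292

/-- Let k be an algebraically closed field and (X, D) a stable n-pointed curve over k, taken in the
form: X is proper and connected over k, of dimension 1, with at-worst-nodal singularities; D ⊆ X is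
a finite closed set of points each having an open neighbourhood smooth over k (the marked points);
ω_X is the dualizing module of X (degree -1 cohomology sheaf of f^! O for the structure morphism f,
for any choice of the data Rf_* on D_QCoh with its right adjoint); L_D is an invertible module with
L_D ⊗ I_D ≅ O_X, where I_D is the ideal sheaf of D with its reduced structure (so L_D plays the role
of O_X(D)); and the invertible module ω_X(D) := ω_X ⊗ L_D is ample (stability). Then for every m ≥ 5
the module ω_X(D)^{⊗m} is very ample: some closed immersion i : X → P^N_k over k has i^* O(1) ≅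
ω_X(D)^{⊗m}. (The published assertion is for all m ≥ 3; the published argument addresses only m ≥ 5
and defers m = 3, 4 to the literature, so m ≥ 5 is what is stated here.) -/
theorem result (k : Type u) [Field k] [IsAlgClosed k] (X : Scheme.{u}) [X.Over (Spec (CommRingCat.of k))]
    [IsProper (X ↘ (Spec (CommRingCat.of k)))] [ConnectedSpace X] (hdim : topologicalKrullDim X = 1) (hX : Curv2.AtWorstNodal k X)
    [DCoh.HasRpush (X ↘ (Spec (CommRingCat.of k)))] (h : DCoh.RpushPreservesQCoh (X ↘ (Spec (CommRingCat.of k)))) [DCoh.HasShriek (X ↘ (Spec (CommRingCat.of k))) h]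
    (OY : DCoh.DQCoh (Spec (CommRingCat.of k))) (hOY : Nonempty (OY.obj ≅ DCoh.inD (Spec (CommRingCat.of k)) (Coh.structureModule (Spec (CommRingCat.of k)))))
    (D : Set X) (hDfin : D.Finite) (hDcl : IsClosed D) (hDsm : ∀ x ∈ D, ∃ U : X.Opens, x ∈ U ∧ Smooth (U.ι ≫ (X ↘ (Spec (CommRingCat.of k)))))
    (LD : X.Modules) (hLD : PicF.IsInvertible LD)
    (hinv : ClSub.IsInverseOf LD (ClSub.idealMod (Scheme.IdealSheafData.vanishingIdeal (⟨D, hDcl⟩ : TopologicalSpace.Closeds X))))
    (hst : CohB1.IsAmple (CohB1.tensorMod (DCoh.dualizingMod (X ↘ (Spec (CommRingCat.of k))) h OY 1) LD))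
    (m : ℕ) (hm : 5 ≤ m) :
    ∃ (N : ℕ) (i : X ⟶ CohB1.ProjSpace N k), IsClosedImmersion i ∧ i ≫ CohB1.ProjSpace.toSpec N k = (X ↘ (Spec (CommRingCat.of k))) ∧
      Nonempty ((Scheme.Modules.pullback i).obj (Twist.twistProjSpace N k 1) ≅ CohB1.tensorPow (CohB1.tensorMod (DCoh.dualizingMod (X ↘ (Spec (CommRingCat.of k))) h OY 1) LD) m) := by
  have hred := Groth.Agent.CurvesC.GenusOne512.isReduced_of_atWorstNodal k X hX
  have h0 : Module.finrank k (Coh.HH X (Coh.structureModule X) 0) = 1 :=
    Groth.Agent.Models.H74.CohSide.finrank_HH_zero_eq_one k (Z := X)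
  have hw := Groth.Agent.CurvesC.DualNodal.isInvertible k h OY hdim h0 hX hOY
  obtain ⟨t, ht⟩ := Groth.Agent.CurvesC.DualNodal.exists_isPair k h OY hdim hOY
  have hK := Groth.Agent.Curves.K327.PointedMain.key hdim _ hw ht _ LD hinv hst
  have hLN : IsLocallyNoetherian X := LocallyOfFiniteType.isLocallyNoetherian (X ↘ (Spec (CommRingCat.of k)))
  have hM := Groth.Agent.Fdesc.LocGen.isInvertible_tensorPow hst.1 m
  generalize hMdef : CohB1.tensorPow (CohB1.tensorMod (DCoh.dualizingMod (X ↘ (Spec (CommRingCat.of k))) h OY 1) LD) m = M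
  rw [hMdef] at hM
  have hV' : Groth.Agent.CurvesB.SepPoints.VanShort k X M := by
    intro Z _ _ hZ hle
    rw [← hMdef]
    exact hK.van hdim hst.1 m Z hZ (by omega)
  have H : IsPullback (𝟙 X) (X ↘ (Spec (CommRingCat.of k))) (X ↘ (Spec (CommRingCat.of k)))
      (Spec.map (CommRingCat.ofHom (algebraMap k k))) := by
    have h1 : Spec.map (CommRingCat.ofHom (algebraMap k k)) = 𝟙 _ := by
      rw [Algebra.algebraMap_self]
      exact Spec.map_id _
    rw [h1]
    exact IsPullback.of_horiz_isIso ⟨by simp⟩
  have e : (Scheme.Modules.pullback (𝟙 X)).obj M ≅ M := (Scheme.Modules.pullbackId X).app M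
  have hM' : PicF.IsInvertible ((Scheme.Modules.pullback (𝟙 X)).obj M) :=
    Groth.Agent.Fdesc.LocGen.isInvertible_pullback _ hM
  have hV : Groth.Agent.CurvesB.SepPoints.VanShort k X ((Scheme.Modules.pullback (𝟙 X)).obj M) := by
    intro Z h2 h3 hZ hle
    exact Groth.Agent.Curves.K327.Koszul.subsingleton_congr
      (Groth.Agent.Ega2.Tens.mapTIso (Iso.refl _) e.symm) (hV' Z h2 h3 hZ hle)
  refine Groth.Agent.CurvesB.VeryAmple.of_separates H hM ⟨?_, ?_, ?_⟩
  · intro y hy
    obtain ⟨s, hs, -⟩ := Groth.Agent.CurvesB.SepPoints.exists_sec_points _ hM' hV y y hy hy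
    exact ⟨s, hs⟩
  · intro x y hx hy hne
    obtain ⟨s, hs, h⟩ := Groth.Agent.CurvesB.SepPoints.exists_sec_points _ hM' hV x y hx hy
    exact ⟨s, h hne, hs⟩
  · intro y hy I hI
    exact Groth.Agent.CurvesB.SepPoints.exists_sec_tangent _ hM' hV y hy I hI

end Groth.Agent.S16292
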