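import Groth.Statements.S16298
import Groth.Agent.S0002
import Groth.Agent.S1585
import Groth.Agent.S1566
import Groth.Agent.CurvesC.UnitCoh

set_option autoImplicit false
universe u
open CategoryTheory CategoryTheory.Limits AlgebraicGeometry
open Curves

namespace Groth.Agent.S16298

/-- Let k be a field and X a genus-zero curve over k, that is, an integral scheme proper over k of
dimension one with H^1(X, O_X) = 0. Then the normalization Y of X again satisfies H^1(Y, O_Y) = 0,
so Y is again a genus-zero curve. (The two instance binders on the morphism from the generic point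
always hold; they are only needed to form the normalization.) -/
theorem result (k : Type u) [Field k] (X : Scheme.{u}) [X.Over (Spec (CommRingCat.of k))]
    [IsIntegral X] [IsProper (X ↘ (Spec (CommRingCat.of k)))] (hdim : topologicalKrullDim X = 1)
    (h1 : Subsingleton (Coh.HH X (Coh.structureModule X) 1))
    [QuasiCompact (X.fromSpecStalk (genericPoint X))] [QuasiSeparated (X.fromSpecStalk (genericPoint X))] :
    Subsingleton (Coh.HH (Curv2.normalization X) (Coh.structureModule (Curv2.normalization X)) 1) := by
  obtain ⟨hfin, hdom, ⟨V, hV, hiso⟩, hint, hnorm⟩ := Groth.Agent.S1585.result k X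
  let Y := Curv2.normalization X
  letI : Y.Over (Spec (CommRingCat.of k)) := ⟨Curv2.normalizationι X ≫ (X ↘ (Spec (CommRingCat.of k)))⟩
  have hY : Curv2.normalizationι X ≫ (X ↘ (Spec (CommRingCat.of k))) = Y ↘ (Spec (CommRingCat.of k)) := rfl
  have hprop : IsProper (Y ↘ (Spec (CommRingCat.of k))) := by
    rw [← hY]; infer_instance
  have hVd : Dense (V : Set X) := V.isOpen.dense hV
  have hcl : IsClosedImmersion (Curv2.normalizationι X ∣_ V) := inferInstance
  have hle := Groth.Agent.S1566.result k X Y (le_of_eq hdim) (Curv2.normalizationι X) hY V hVd hcl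
  have h0 : Curv2.genus k X = 0 := by
    unfold Curv2.genus
    exact Module.finrank_zero_of_subsingleton
  have hY0 : Curv2.genus k Y = 0 := Nat.le_zero.mp (h0 ▸ hle)
  have hF : Module.Finite k (Coh.HH Y (Coh.structureModule Y) 1) :=
    Groth.Agent.S0002.result k Y (Coh.structureModule Y) (CurvesC.UnitCoh.isCoh_unit Y) 1
  exact Module.finrank_zero_iff.mp hY0

end Groth.Agent.S16298
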