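import Groth.Statements.S16303
import Groth.Agent.Resolve.K376.RatDivD
import Groth.Agent.Resolve.K376.RatDivE
import Groth.Agent.Surf.K456.Resol
import Groth.Agent.Divis.EffCartier
import Groth.Agent.Ega1.IdealGen
import Groth.Agent.CohqB.RelVan

set_option autoImplicit false
universe u
open CategoryTheory CategoryTheory.Limits AlgebraicGeometry
open Resolve

namespace Groth.Agent.S16303

/-- Let k be a field and X a normal surface over k (an integral normal scheme, separated and of finite
type over k, of dimension two) whose only non-regular point is the closed point P. Let f : Y → X be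
a resolution: a proper morphism from an integral scheme Y of dimension two with all local rings
regular, restricting to an isomorphism over the complement of P. Then R^1 f_* O_Y = 0 (first higher
direct image of abelian sheaves), that is, P is a rational singularity, if and only if H^1(W, O_W) =
0 for every nonzero effective Cartier divisor W on Y (quasi-coherent ideal sheaf that is an
invertible module, with nonempty support) which is f-exceptional, that is, supported in the fibre of
f over P. (The published statement also has a third equivalent condition, the vanishing of H^1 of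
the structure sheaf of the fundamental cycle of f, not restated here.) -/
theorem result (k : Type u) [Field k] (X : Scheme.{u}) [X.Over (Spec (CommRingCat.of k))]
    [IsIntegral X] [IsSeparated (X ↘ (Spec (CommRingCat.of k)))] [LocallyOfFiniteType (X ↘ (Spec (CommRingCat.of k)))]
    [CompactSpace X] (hdim : topologicalKrullDim X = 2) (hnorm : Pi1.IsNormalScheme X)
    (P : X) (hPc : IsClosed ({P} : Set X)) (hP : ¬ IsRegularLocalRing (X.presheaf.stalk P))
    (hreg : ∀ x : X, x ≠ P → IsRegularLocalRing (X.presheaf.stalk x))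
    (Y : Scheme.{u}) (f : Y ⟶ X) [IsIntegral Y] (hdimY : topologicalKrullDim Y = 2)
    (hregY : ∀ y : Y, IsRegularLocalRing (Y.presheaf.stalk y)) [IsProper f]
    (hiso : IsIso (f ∣_ ⟨({P} : Set X)ᶜ, hPc.isOpen_compl⟩)) :
    IsZero ((Coh.RpushAb f 1).obj (Coh.toAb (Coh.structureModule Y))) ↔
      ∀ W : Y.IdealSheafData, PicF.IsInvertible (ClSub.idealMod W) → (W.support : Set Y).Nonempty →
        (W.support : Set Y) ⊆ f.base ⁻¹' {P} → Subsingleton (Coh.HH Y (ClSub.quotMod W) 1) := by
  have hXN : IsLocallyNoetherian X :=
    LocallyOfFiniteType.isLocallyNoetherian (X ↘ (Spec (CommRingCat.of k)))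
  have hXN' : IsNoetherian X := {}
  have hYN : IsLocallyNoetherian Y := LocallyOfFiniteType.isLocallyNoetherian f
  have hYc : CompactSpace Y := QuasiCompact.compactSpace_of_compactSpace f
  have hYN' : IsNoetherian Y := {}
  have hPne : ∃ x : X, x ≠ P := by
    by_contra hcon
    push Not at hcon
    have : Subsingleton X := ⟨fun a b => (hcon a).trans (hcon b).symm⟩
    have h4 : topologicalKrullDim X ≤ 0 := topologicalKrullDim_zero_of_discreteTopology _
    rw [hdim] at h4
    exact absurd h4 (by decide)
  obtain ⟨x₀, hx₀⟩ := hPne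
  obtain ⟨y₀, hy₀⟩ := K456.Resol.exists_of_isIso_restrict f hiso (x := x₀) hx₀
  have hy₀P : f y₀ ≠ P := by rw [hy₀]; exact hx₀
  have hdimf : ∀ x : X, topologicalKrullDim (f.fiber x) ≤ ((1 : ℕ) : WithBot ℕ∞) := by
    intro x
    by_cases hx : x = P
    · subst hx
      exact K456.Resol.fiber_le_one f hdimY hPc hy₀P
    · exact (K456.Resol.fiber_le_zero f hiso (x := x) hx).trans (by exact_mod_cast Nat.zero_le 1)
  constructor
  · intro h W _ _ hsupp
    obtain ⟨V, hV, hPV, -⟩ := exists_isAffineOpen_mem_and_subset (X := X) (U := ⊤) (x := P) trivial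
    refine K376.RatDivD.forward f hdimf h V hV W.subschemeι fun w => ?_
    have h1 : W.subschemeι w ∈ (W.support : Set Y) := by
      rw [← Scheme.IdealSheafData.range_subschemeι]
      exact ⟨w, rfl⟩
    have h2 : f (W.subschemeι w) = P := hsupp h1
    rw [h2]
    exact hPV
  · intro H
    have hO : Coh.IsQCoh (Coh.structureModule Y) := (Groth.Agent.CurvesB.UnitCoh.isCoh_structureModule Y).1
    -- the reduced exceptional divisor
    let F : TopologicalSpace.Closeds Y := ⟨f.base ⁻¹' {P}, hPc.preimage f.continuous⟩
    have hFne : (F : Set Y) ≠ Set.univ := by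
      intro h1
      have h2 : y₀ ∈ (F : Set Y) := by rw [h1]; trivial
      exact hy₀P h2
    obtain ⟨hne, hcomp⟩ := K376.DesFib.main f hdimY hregY _ ⟨x₀, hx₀⟩ hiso P hPc (hnorm P).2 hP
    let E : Y.IdealSheafData := Scheme.IdealSheafData.vanishingIdeal F
    have hE : BlowUp.IsEffCartierIdeal E := K376.RatDivE.isEff hdimY hregY F hFne hcomp
    have hEs : (E.support : Set Y) = f.base ⁻¹' {P} := by
      rw [Scheme.IdealSheafData.coe_support_vanishingIdeal]
      rfl
    have hH : ∀ s : ℕ, 0 < s → Subsingleton (Coh.HH Y (ClSub.quotMod (E ^ s)) 1) := by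
      intro s hs
      have h1 : ((E ^ s).support : Set Y) = f.base ⁻¹' {P} := by
        rw [Scheme.IdealSheafData.support_pow E s hs.ne', hEs]
      refine H (E ^ s) (Groth.Agent.Ega1.IdealGen.isInvertible_idealMod _
        (Groth.Agent.Divis.EffCartier.isEff_pow hE s)) ?_ ?_
      · rw [h1]; exact hne
      · rw [h1]
    refine Groth.Agent.CohqB.RelVan.isZero_RpushAb_of_cover f _ hO 1 fun x => ?_
    by_cases hx : x = P
    · subst hx
      obtain ⟨V, hV, hPV, -⟩ := exists_isAffineOpen_mem_and_subset (X := X) (U := ⊤) (x := x) trivial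
      refine ⟨V, hPV, hV, ?_⟩
      exact Groth.Agent.CohqA.ChevMain.subsingleton_HH_of_iso
        (Groth.Agent.Dcoh.LocalD.structureRestrict (f ⁻¹ᵁ V).ι).symm 1
        (K376.RatDivD.backward f x hPc hiso E hEs hH V hV hPV)
    · obtain ⟨V, hV, hxV, hVP⟩ := exists_isAffineOpen_mem_and_subset (X := X)
        (U := ⟨({P} : Set X)ᶜ, hPc.isOpen_compl⟩) (x := x) hx
      refine ⟨V, hxV, hV, ?_⟩
      have h1 : IsAffine (f ⁻¹ᵁ V).toScheme := K376.RatDivD.isAffineOpen_preimage f hVP hiso hV
      have h2 : Coh.IsQCoh ((Coh.structureModule Y).restrict (f ⁻¹ᵁ V).ι) :=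
        Groth.Agent.PerfA.QCohSerre.isQCoh_restrict _ hO
      exact Groth.Agent.S0007.result _ _ 1 one_pos

end Groth.Agent.S16303
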