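import Groth.Statements.S16305
import Groth.Agent.ProjSp.K819.Surj
import Groth.Agent.Ega3B.ProjProper

set_option autoImplicit false
universe u
open CategoryTheory CategoryTheory.Limits AlgebraicGeometry
open ProjSp

namespace Groth.Agent.S16305

/-- Let k be a field and Z a zero-dimensional closed subscheme of projective N-space P^N_k, with closed
immersion i : Z → P^N_k. For an integer n write ρ_n : H^0(P^N_k, O(n)) → H^0(P^N_k, i_* i^* O(n)) =
H^0(Z, O(n)|_Z) for the map induced on global sections by the unit O(n) → i_* i^* O(n) (restriction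
of sections to Z). If the image of ρ_1 has codimension at most one in H^0(Z, O(1)|_Z), in the sense
that for some v every element is of the form ρ_1(s) + c v with c in k, then ρ_2 is surjective. -/
theorem result (k : Type u) [Field k] (N : ℕ)
    (Z : (CohB1.ProjSpace N k).IdealSheafData)
    (hZ : topologicalKrullDim (Z.support : Set (CohB1.ProjSpace N k)) ≤ 0) :
    letI : (CohB1.ProjSpace N k).Over (Spec (CommRingCat.of k)) := ⟨CohB1.ProjSpace.toSpec N k⟩
    (∃ v : (Coh.HH (CohB1.ProjSpace N k) ((Scheme.Modules.pushforward Z.subschemeι).obj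
        ((Scheme.Modules.pullback Z.subschemeι).obj (Twist.twistProjSpace N k 1))) 0),
      ∀ t : (Coh.HH (CohB1.ProjSpace N k) ((Scheme.Modules.pushforward Z.subschemeι).obj
        ((Scheme.Modules.pullback Z.subschemeι).obj (Twist.twistProjSpace N k 1))) 0),
        ∃ (s : Coh.HH (CohB1.ProjSpace N k) (Twist.twistProjSpace N k 1) 0) (c : k),
        t = @id (Coh.HH (CohB1.ProjSpace N k) ((Scheme.Modules.pushforward Z.subschemeι).obj
        ((Scheme.Modules.pullback Z.subschemeι).obj (Twist.twistProjSpace N k 1))) 0)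
          (Sheaf.H.map ((SheafOfModules.toSheaf (CohB1.ProjSpace N k).ringCatSheaf).map
            ((Scheme.Modules.pullbackPushforwardAdjunction Z.subschemeι).unit.app (Twist.twistProjSpace N k 1))) 0 s) + c • v) →
    Function.Surjective (fun s : Coh.HH (CohB1.ProjSpace N k) (Twist.twistProjSpace N k 2) 0 =>
      @id (Coh.HH (CohB1.ProjSpace N k) ((Scheme.Modules.pushforward Z.subschemeι).obj
        ((Scheme.Modules.pullback Z.subschemeι).obj (Twist.twistProjSpace N k 2))) 0)
          (Sheaf.H.map ((SheafOfModules.toSheaf (CohB1.ProjSpace N k).ringCatSheaf).map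
            ((Scheme.Modules.pullbackPushforwardAdjunction Z.subschemeι).unit.app (Twist.twistProjSpace N k 2))) 0 s)) := by
  intro hcod
  -- `Z` is finite and discrete
  have hdim : topologicalKrullDim Z.subscheme ≤ 0 := by
    let g : Z.subscheme → (Z.support : Set (CohB1.ProjSpace N k)) := fun z =>
      ⟨Z.subschemeι z, by rw [← Scheme.IdealSheafData.range_subschemeι]; exact ⟨z, rfl⟩⟩
    have hg : Topology.IsInducing g :=
      Topology.IsInducing.codRestrict Z.subschemeι.isClosedEmbedding.isInducing _
    exact hg.topologicalKrullDim_le.trans hZ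
  have hproper : IsProper (CohB1.ProjSpace.toSpec N k) := Groth.Agent.Ega3B.ProjProper.isProper_toSpec N k
  have hN : IsLocallyNoetherian Z.subscheme :=
    LocallyOfFiniteType.isLocallyNoetherian (Z.subschemeι ≫ CohB1.ProjSpace.toSpec N k)
  have hC : CompactSpace Z.subscheme :=
    QuasiCompact.compactSpace_of_compactSpace (Z.subschemeι ≫ CohB1.ProjSpace.toSpec N k)
  have hA : IsLocallyArtinian Z.subscheme := IsLocallyArtinian.of_topologicalKrullDim_le_zero hdim
  have hD : DiscreteTopology Z.subscheme := inferInstance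
  have hF : Finite Z.subscheme := finite_of_compact_of_discrete
  -- translate to global sections
  obtain ⟨v, hv⟩ := hcod
  intro t
  let F : ℤ → (CohB1.ProjSpace N k).Modules := fun m =>
    (Scheme.Modules.pushforward Z.subschemeι).obj
      ((Scheme.Modules.pullback Z.subschemeι).obj (Twist.twistProjSpace N k m))
  obtain ⟨s, hs⟩ := K819.TwistSurj.surjective_two Z
    (Groth.Agent.CurvesB.HZero.equivAdd (F 1) v) (fun t' => by
      obtain ⟨s, c, h⟩ := hv ((Groth.Agent.CurvesB.HZero.equivAdd (F 1)).symm t')
      refine ⟨Groth.Agent.CurvesB.HZero.equivAdd _ s, c, ?_⟩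
      have h2 := congrArg (Groth.Agent.CurvesB.HZero.equivAdd (F 1)) h
      have h3 := (Groth.Agent.CurvesB.HZero.equivAdd (F 1)).apply_symm_apply t'
      refine h3.symm.trans (h2.trans ?_)
      refine (map_add (Groth.Agent.CurvesB.HZero.equivAdd (F 1)) _ _).trans ?_
      refine congrArg₂ (· + ·) ?_ ?_
      · exact Groth.Agent.CurvesB.HZero.equivAdd_map _ s
      · exact Groth.Agent.CurvesB.HZero.equivAdd_smul_over (F 1) c v)
      (Groth.Agent.CurvesB.HZero.equivAdd (F 2) t)
  refine ⟨(Groth.Agent.CurvesB.HZero.equivAdd _).symm s, ?_⟩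
  apply (Groth.Agent.CurvesB.HZero.equivAdd (F 2)).injective
  refine (Groth.Agent.CurvesB.HZero.equivAdd_map _ _).trans ?_
  refine Eq.trans ?_ hs
  exact congrArg (fun m => (((Scheme.Modules.pullbackPushforwardAdjunction Z.subschemeι).unit.app
    (Twist.twistProjSpace N k 2)).app ⊤) m) ((Groth.Agent.CurvesB.HZero.equivAdd
      (Twist.twistProjSpace N k 2)).apply_symm_apply s)

end Groth.Agent.S16305
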