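import Groth.Statements.S16312
import Mathlib.Analysis.InnerProductSpace.PiL2
import Mathlib.Topology.Algebra.IsUniformGroup.DiscreteSubgroup
import Mathlib.Topology.MetricSpace.ProperSpace
import Mathlib.Analysis.Normed.Module.FiniteDimension
import Mathlib.Topology.Order.Compact

set_option autoImplicit false
universe u
open W4c3irrattreebun

namespace Groth.Agent.S16312

/-- Let N be a closed cone in real n-space, f a function continuous on N, positive at the nonzero points
of N and homogeneous of degree one under scaling by nonnegative reals, and Λ a discrete additive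
subgroup. Then for every real c the set of points H of Λ lying in N with f(H) ≤ c is finite. (The
published statement takes Λ to be a lattice; this row allows any discrete additive subgroup.) -/
theorem result (n : ℕ)
    (N : Set (EuclideanSpace ℝ (Fin n))) (hN : IsClosed N)
    (hcone : ∀ x ∈ N, ∀ r : ℝ, 0 ≤ r → r • x ∈ N)
    (f : EuclideanSpace ℝ (Fin n) → ℝ) (hf : ContinuousOn f N)
    (hpos : ∀ x ∈ N, x ≠ 0 → 0 < f x)
    (hhom : ∀ x ∈ N, ∀ r : ℝ, 0 ≤ r → f (r • x) = r * f x)
    (Λ : Submodule ℤ (EuclideanSpace ℝ (Fin n))) [DiscreteTopology Λ] (c : ℝ) :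
    ({x : EuclideanSpace ℝ (Fin n) | x ∈ N ∧ f x ≤ c} ∩ (Λ : Set (EuclideanSpace ℝ (Fin n)))).Finite := by
  -- the set is bounded
  have hbdd : Bornology.IsBounded {x : EuclideanSpace ℝ (Fin n) | x ∈ N ∧ f x ≤ c} := by
    have hK : IsCompact (N ∩ Metric.sphere (0 : EuclideanSpace ℝ (Fin n)) 1) :=
      (isCompact_sphere _ _).inter_left hN
    rcases (N ∩ Metric.sphere (0 : EuclideanSpace ℝ (Fin n)) 1).eq_empty_or_nonempty with he | hne
    · -- then `N ⊆ {0}`
      refine (Metric.isBounded_closedBall (x := (0 : EuclideanSpace ℝ (Fin n))) (r := 0)).subset ?_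
      rintro x ⟨hx, _⟩
      by_contra hx0
      have hx0' : x ≠ 0 := by
        rintro rfl
        exact hx0 (by simp)
      have : (‖x‖⁻¹ • x) ∈ N ∩ Metric.sphere (0 : EuclideanSpace ℝ (Fin n)) 1 := by
        refine ⟨hcone x hx _ (inv_nonneg.2 (norm_nonneg x)), ?_⟩
        rw [mem_sphere_zero_iff_norm, norm_smul, norm_inv, norm_norm,
          inv_mul_cancel₀ (norm_ne_zero_iff.2 hx0')]
      rw [he] at this
      exact this
    · obtain ⟨x₀, hx₀, hmin⟩ := hK.exists_isMinOn hne (hf.mono Set.inter_subset_left)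
      have hx₀0 : x₀ ≠ 0 := by
        rintro rfl
        have := hx₀.2
        simp at this
      have hδ : 0 < f x₀ := hpos x₀ hx₀.1 hx₀0
      refine (Metric.isBounded_closedBall (x := (0 : EuclideanSpace ℝ (Fin n)))
        (r := |c| / f x₀)).subset ?_
      rintro x ⟨hx, hxc⟩
      rw [mem_closedBall_zero_iff]
      by_cases hx0 : x = 0
      · rw [hx0, norm_zero]
        positivity
      have hnx : 0 < ‖x‖ := norm_pos_iff.2 hx0
      have hmem : (‖x‖⁻¹ • x) ∈ N ∩ Metric.sphere (0 : EuclideanSpace ℝ (Fin n)) 1 := by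
        refine ⟨hcone x hx _ (inv_nonneg.2 (norm_nonneg x)), ?_⟩
        rw [mem_sphere_zero_iff_norm, norm_smul, norm_inv, norm_norm,
          inv_mul_cancel₀ (norm_ne_zero_iff.2 hx0)]
      have h1 : f x₀ ≤ f (‖x‖⁻¹ • x) := hmin hmem
      rw [hhom x hx _ (inv_nonneg.2 (norm_nonneg x))] at h1
      rw [le_div_iff₀ hδ]
      have h2 : ‖x‖ * f x₀ ≤ f x := by
        calc ‖x‖ * f x₀ ≤ ‖x‖ * (‖x‖⁻¹ * f x) := by gcongr
          _ = f x := by rw [← mul_assoc, mul_inv_cancel₀ hnx.ne', one_mul]
      exact h2.trans (hxc.trans (le_abs_self c))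
  have hdisc : DiscreteTopology Λ.toAddSubgroup := inferInstanceAs (DiscreteTopology Λ)
  have hcl : IsClosed (Λ.toAddSubgroup : Set (EuclideanSpace ℝ (Fin n))) :=
    AddSubgroup.isClosed_of_discrete
  exact Metric.finite_isBounded_inter_isClosed ⟨hdisc⟩ hbdd hcl

end Groth.Agent.S16312
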