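import Groth.Statements.S16315
import Groth.Agent.Curves.K328.MaxNoether
import Groth.Agent.VarietyA.RegSmoothSch
import Groth.Agent.Picfga.CurvePts

set_option autoImplicit false
open CategoryTheory CategoryTheory.Limits AlgebraicGeometry
universe u
open Curves

open Groth.Agent.Grpsch.PicGrp Groth.Agent.Fdesc.LocGen Groth.Agent.CurvesB.HZero K328.Mult K328.NoetherGood
open TopologicalSpace Opposite

namespace Groth.Agent.S16315

theorem isInvertible_of_iso {X : Scheme.{u}} {L L' : X.Modules} (e : L ≅ L') (h : PicF.IsInvertible L) :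
    PicF.IsInvertible L' := fun x => by
  obtain ⟨U, hx, ⟨e'⟩⟩ := h x
  exact ⟨U, hx, ⟨(Scheme.Modules.restrictFunctor U.ι).mapIso e.symm ≪≫ e'⟩⟩

/-- `1 ⊗ s` generate `O ⊗ K`. -/
theorem surj_zero {X : Scheme.{u}} (K : X.Modules) :
    Function.Surjective
      ((toSheafify (Opens.grothendieckTopology X)
        (CohB1.tensorPre (Coh.structureModule X) K).presheaf).app (Opposite.op ⊤)) := by
  intro y
  let y' : Γ(CohB1.tensorMod (Coh.structureModule X) K, ⊤) := y
  obtain ⟨n, hn⟩ : ∃ n : Γ(K, ⊤), Groth.Agent.Ega2.Tens.tmul (Groth.Agent.Ega2.Tens.sm (1 : Γ(X, ⊤))) n = y' := by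
    refine ⟨(Groth.Agent.Ega2.Tens.lunit K).hom.app ⊤ y', ?_⟩
    rw [← Groth.Agent.Ega2.Tens.lunit_inv_app]
    exact congr(($((Groth.Agent.Ega2.Tens.lunit K).hom_inv_id)).app ⊤ y')
  exact ⟨_, hn⟩

/-- The image of the presheaf tensor product contains the span of the products. -/
theorem surj_of_span (k : Type u) [Field k] {X : Scheme.{u}} [X.Over (Spec (CommRingCat.of k))] (F K : X.Modules)
    (h : Submodule.span k {z : Coh.HH X (CohB1.tensorMod F K) 0 | ∃ t f, z = mulL k F K 0 t f} = ⊤) :
    Function.Surjective
      ((toSheafify (Opens.grothendieckTopology X) (CohB1.tensorPre F K).presheaf).app (Opposite.op ⊤)) := by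
  intro y
  let y' : Γ(CohB1.tensorMod F K, ⊤) := y
  have h1 : (equivAdd _).symm y' ∈
      Submodule.span k {z : Coh.HH X (CohB1.tensorMod F K) 0 | ∃ t f, z = mulL k F K 0 t f} := by
    rw [h]; trivial
  have key : ∀ z ∈ Submodule.span k {z : Coh.HH X (CohB1.tensorMod F K) 0 | ∃ t f, z = mulL k F K 0 t f},
      ∃ p : Groth.Agent.Ega2.Tens.PT F K ⊤, (Groth.Agent.Ega2.Tens.eta F K).app (op ⊤) p =
        equivAdd (CohB1.tensorMod F K) z := by
    intro z hz
    induction hz using Submodule.span_induction with
    | mem z hz =>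
      obtain ⟨t, f, rfl⟩ := hz
      rw [mulL_zero_apply]
      exact ⟨_, rfl⟩
    | zero => exact ⟨0, by rw [map_zero, map_zero]⟩
    | add z w _ _ hz hw =>
      obtain ⟨p, hp⟩ := hz
      obtain ⟨q, hq⟩ := hw
      exact ⟨p + q, by rw [map_add, map_add, hp, hq]⟩
    | smul c z _ hz =>
      obtain ⟨p, hp⟩ := hz
      refine ⟨(show TensorProduct Γ(X, ⊤) Γ(F, ⊤) Γ(K, ⊤) from (gl k X c) • (show TensorProduct Γ(X, ⊤) Γ(F, ⊤) Γ(K, ⊤) from p)), ?_⟩
      rw [equivAdd_smul_over, ← hp]
      exact Groth.Agent.Ega2.Tens.eta_smul _ _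
  obtain ⟨p, hp⟩ := key _ h1
  rw [AddEquiv.apply_symm_apply] at hp
  exact ⟨p, hp⟩


/-- Let k be an algebraically closed field of characteristic zero and X a smooth proper integral curve
over k (integral, proper and smooth over k, of dimension one) of genus g ≥ 3 which is
non-hyperelliptic (every invertible module of degree 2 has at most a one-dimensional space of global
sections), and let K be a module isomorphic to the sheaf of differentials of X over k. Then the
canonical ring ⊕_m H^0(X, K^{⊗ m}) is generated in degree one: for every m ≥ 0 the multiplication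
map H^0(X, K^{⊗ m}) ⊗ H^0(X, K) → H^0(X, K^{⊗ (m+1)}) is surjective (written as the map from the
global sections of the sectionwise tensor product presheaf to the global sections of its
sheafification). (The published statement phrases this as the canonical ring being the homogeneous
coordinate ring of the canonically embedded curve; its further assertion on the vanishing of the
first cohomology of the twisted ideal sheaves is not restated.) -/
theorem result
    (k : Type u) [Field k] [IsAlgClosed k] [CharZero k]
    (X : Scheme.{u}) [X.Over (Spec (CommRingCat.of k))] [IsIntegral X]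
    [IsProper (X ↘ Spec (CommRingCat.of k))] [Smooth (X ↘ Spec (CommRingCat.of k))]
    (hdim : topologicalKrullDim X = 1) (hg : 3 ≤ Curv2.genus k X)
    (hnh : ∀ M : X.Modules, PicF.IsInvertible M → Curv2.deg k X M 1 = 2 →
      Module.finrank k (Coh.HH X M 0) ≤ 1)
    (K : X.Modules) (eK : K ≅ Omega.sheaf (X ↘ Spec (CommRingCat.of k))) (m : ℕ) :
    Function.Surjective
      ((toSheafify (Opens.grothendieckTopology X)
        (CohB1.tensorPre (CohB1.tensorPow K m) K).presheaf).app (Opposite.op ⊤)) := by
  cases m with
  | zero => exact surj_zero K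
  | succ m =>
    have hX : K319.PicCD.Reg X := ⟨hdim, fun x => by
      refine Groth.Agent.VarietyA.RegSmoothSch.isRegularLocalRing_stalk_of_mem_smoothLocus
        (X ↘ Spec (CommRingCat.of k)) x ?_
      rw [Scheme.Hom.smoothLocus_eq_top]
      trivial⟩
    have hval : ∀ x : X, ValuationRing (X.presheaf.stalk x) := fun x =>
      Groth.Agent.Picfga.CurvePts.valuationRing_stalk (X ↘ Spec (CommRingCat.of k)) hdim.le x
    have hK : PicF.IsInvertible K := isInvertible_of_iso eK.symm
      (K532.CurvePic.isInvertible_omega (hX.isCurve (k := k)))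
    have hKc : mk K hK = K328.MaxNoether.ka k hX := mk_congr eK
    have hF' := isInvertible_tensorPow hK m
    have hFc := mk_tensorPow hK m
    rw [hKc] at hFc
    change Function.Surjective ((toSheafify (Opens.grothendieckTopology X)
      (CohB1.tensorPre (CohB1.tensorMod (CohB1.tensorPow K m) K) K).presheaf).app (Opposite.op ⊤))
    apply surj_of_span k
    by_contra hcon
    obtain ⟨φ, hφ0, hφ⟩ := Submodule.exists_le_ker_of_lt_top _ (lt_top_iff_ne_top.2 hcon)
    apply hφ0
    have hkill : Kills k φ := fun t f => hφ (Submodule.subset_span ⟨t, f, rfl⟩)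
    rcases Nat.eq_zero_or_pos m with rfl | hm
    · exact K328.MaxNoether.functional_eq_zero_of_one k hX hg hnh hF' hK hKc hval (by rw [hFc, pow_zero]) φ hkill
    · exact K328.MaxNoether.functional_eq_zero_of_pos k hX hg hnh hF' hK hKc hval m hm hFc φ hkill

end Groth.Agent.S16315
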