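import Groth.Statements.S16316
import Groth.Agent.Curves.K328.CliffNine
import Groth.Agent.Curves.K328.Serre

set_option autoImplicit false
open CategoryTheory CategoryTheory.Limits AlgebraicGeometry
universe u
open Curves

namespace Groth.Agent.S16316

open Groth.Agent.Grpsch.PicGrp Groth.Agent.Fdesc.LocGen K328.PicCalc K328.Genus9

/-- Let k be an algebraically closed field of characteristic zero and X a smooth proper integral curve
over k (integral, proper and smooth over k, of dimension one) of genus 9 whose Clifford index is 1: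
some invertible module M with h^0(M) ≥ 2 and h^1(M) ≥ 2 has deg M − 2(h^0(M) − 1) = 1, and every
invertible module M with h^0(M) ≥ 2 and h^1(M) ≥ 2 has deg M − 2(h^0(M) − 1) ≥ 1 (degrees are χ(M) −
χ(O_X); in particular X is not hyperelliptic). Then X is trigonal: it carries a g^1_3, an invertible
module of degree 3 together with two k-linearly independent global sections. -/
theorem result
    (k : Type u) [Field k] [IsAlgClosed k] [CharZero k]
    (X : Scheme.{u}) [X.Over (Spec (CommRingCat.of k))] [IsIntegral X]
    [IsProper (X ↘ Spec (CommRingCat.of k))] [Smooth (X ↘ Spec (CommRingCat.of k))]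
    (hdim : topologicalKrullDim X = 1) (hg : Curv2.genus k X = 9)
    (hex : ∃ M : X.Modules, PicF.IsInvertible M ∧ 2 ≤ Module.finrank k (Coh.HH X M 0) ∧
      2 ≤ Module.finrank k (Coh.HH X M 1) ∧ Curv2.deg k X M 1 = 2 * (Module.finrank k (Coh.HH X M 0) : ℤ) - 1)
    (hmin : ∀ M : X.Modules, PicF.IsInvertible M → 2 ≤ Module.finrank k (Coh.HH X M 0) →
      2 ≤ Module.finrank k (Coh.HH X M 1) → 2 * (Module.finrank k (Coh.HH X M 0) : ℤ) - 1 ≤ Curv2.deg k X M 1) :
    ∃ (L : X.Modules) (s : Fin (1 + 1) → LinSer.Sect X L), LinSer.IsLinSer k X L 3 1 s := by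
  have h1 : hh k X 0 1 = 1 := hh_one_one k X
  have hX : Curve.IsSmoothProperCurve k X (X ↘ (Spec (CommRingCat.of k))) :=
    ⟨inferInstance, inferInstance, inferInstance, hdim⟩
  obtain ⟨M, hM, m0, m1, md⟩ := hex
  obtain ⟨c, hc, hc2⟩ := K328.CliffNine.index_one k X hdim hg ⟨_, K328.Serre.serre k X hX h1⟩ two_ne_zero
    ⟨mk M hM, m0, m1, md⟩ (fun c => by
      induction c using ind with | _ M hM => ?_
      exact hmin M hM)
  exact K328.CliffNine.exists_isLinSer k X (d := 3) hc hc2

end Groth.Agent.S16316
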