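import Groth.Statements.S16318
import Groth.Agent.Curves.K328.CliffNine
import Groth.Agent.Curves.K328.Serre
import Groth.Agent.Curves.K328.PlaneEmb
import Groth.Agent.Curves.K328.PlaneGenus
import Groth.Agent.VarietyA.RegSmoothSch

set_option autoImplicit false
open CategoryTheory CategoryTheory.Limits AlgebraicGeometry
universe u
open Curves

open Groth.Agent.Grpsch.PicGrp Groth.Agent.Fdesc.LocGen K328.PicCalc K328.Genus9

namespace Groth.Agent.S16318

/-- A curve with a class of degree seven and three sections which is not embedded in the plane by it has a class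
of degree five with two sections. -/
theorem step (k : Type u) [Field k] [IsAlgClosed k]
    (X : Scheme.{u}) [X.Over (Spec (CommRingCat.of k))] [IsIntegral X]
    [IsProper (X ↘ Spec (CommRingCat.of k))] (hX : K319.PicCD.Reg X) (hg : Curv2.genus k X = 9)
    (c : Pic X) (hc : hh k X 0 c = 3) (hd : dg k X c = 7) : ∃ d : Pic X, dg k X d = 5 ∧ 2 ≤ hh k X 0 d := by
  induction c using ind with | _ M hM => ?_
  let C := K319.PicCD.cd k X hX
  let a : Additive (Pic X) := Additive.ofMul (mk M hM)
  have h3 : C.h a = 3 := hc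
  have hdeg : ∀ c : Pic X, K532.CurvePic.deg k X c = dg k X c := by
    intro c
    induction c using ind with | _ L hL => ?_
    exact K532.CurvePic.deg_mk k X hX.dim hL
  have hda : C.deg a = 7 := (hdeg _).trans hd
  by_cases h : ∀ P Q : K319.PicCD.Pts X, C.h (a - C.p P - C.p Q) + 2 = C.h a
  · exfalso
    obtain ⟨i, hi, hi2, -⟩ := K328.PlaneEmb.exists_closedImmersion k X hX hM (n := 2) hc h
    exact K328.PlaneGenus.genus_ne_nine k X hX.dim i hi2 hg
  · push Not at h
    obtain ⟨P, Q, hPQ⟩ := h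
    have h1 := C.h_le_succ a P
    have h2 := C.h_le_succ (a - C.p P) Q
    refine ⟨(a - C.p P - C.p Q).toMul, ?_, ?_⟩
    · have h4 : C.deg (a - C.p P - C.p Q) = 5 := by
        rw [map_sub, map_sub, C.deg_p, C.deg_p, hda]
        norm_num
      exact (hdeg _).symm.trans h4
    · have h5 : 2 ≤ C.h (a - C.p P - C.p Q) := by omega
      exact h5

/-- Let k be an algebraically closed field of characteristic zero and X a smooth proper integral curve
over k (integral, proper and smooth over k, of dimension one) of genus 9 whose Clifford index is 3: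
some invertible module M with h^0(M) ≥ 2 and h^1(M) ≥ 2 has deg M − 2(h^0(M) − 1) = 3, and every
invertible module M with h^0(M) ≥ 2 and h^1(M) ≥ 2 has deg M − 2(h^0(M) − 1) ≥ 3 (degrees are χ(M) −
χ(O_X); in particular X is not hyperelliptic). Then X is pentagonal: it carries a g^1_5, an
invertible module of degree 5 together with two k-linearly independent global sections. -/
theorem result
    (k : Type u) [Field k] [IsAlgClosed k] [CharZero k]
    (X : Scheme.{u}) [X.Over (Spec (CommRingCat.of k))] [IsIntegral X]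
    [IsProper (X ↘ Spec (CommRingCat.of k))] [Smooth (X ↘ Spec (CommRingCat.of k))]
    (hdim : topologicalKrullDim X = 1) (hg : Curv2.genus k X = 9)
    (hex : ∃ M : X.Modules, PicF.IsInvertible M ∧ 2 ≤ Module.finrank k (Coh.HH X M 0) ∧
      2 ≤ Module.finrank k (Coh.HH X M 1) ∧ Curv2.deg k X M 1 = 2 * (Module.finrank k (Coh.HH X M 0) : ℤ) + 1)
    (hmin : ∀ M : X.Modules, PicF.IsInvertible M → 2 ≤ Module.finrank k (Coh.HH X M 0) →
      2 ≤ Module.finrank k (Coh.HH X M 1) → 2 * (Module.finrank k (Coh.HH X M 0) : ℤ) + 1 ≤ Curv2.deg k X M 1) :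
    ∃ (L : X.Modules) (s : Fin (1 + 1) → LinSer.Sect X L), LinSer.IsLinSer k X L 5 1 s := by
  have h1 : hh k X 0 1 = 1 := hh_one_one k X
  have hX : Curve.IsSmoothProperCurve k X (X ↘ (Spec (CommRingCat.of k))) :=
    ⟨inferInstance, inferInstance, inferInstance, hdim⟩
  have hreg : K319.PicCD.Reg X := ⟨hdim, fun x => by
    refine Groth.Agent.VarietyA.RegSmoothSch.isRegularLocalRing_stalk_of_mem_smoothLocus
      (X ↘ Spec (CommRingCat.of k)) x ?_
    rw [Scheme.Hom.smoothLocus_eq_top]
    trivial⟩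
  obtain ⟨M, hM, m0, m1, md⟩ := hex
  have RR : ∀ c : Pic X, (hh k X 0 c : ℤ) - hh k X 1 c = dg k X c + 1 - 9 := by
    intro c
    rw [rr k X hdim h1 c, hg]
    rfl
  have hS := K328.Serre.serre k X hX h1
  set K := K328.Serre.K k X hX
  have hinv : ∀ c : Pic X, K * (K * c⁻¹)⁻¹ = c := fun c => by
    rw [← div_eq_mul_inv, ← div_eq_mul_inv, div_div_cancel]
  -- a class with small `h^0`
  obtain ⟨c, c0, cd, cs⟩ : ∃ c : Pic X, 2 ≤ hh k X 0 c ∧
      dg k X c = 2 * (hh k X 0 c : ℤ) + 1 ∧ hh k X 0 c ≤ 3 := by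
    have r := RR (mk M hM)
    have md' : dg k X (mk M hM) = 2 * (hh k X 0 (mk M hM) : ℤ) + 1 := md
    have m0' : 2 ≤ hh k X 0 (mk M hM) := m0
    have m1' : 2 ≤ hh k X 1 (mk M hM) := m1
    by_cases h : hh k X 0 (mk M hM) ≤ 3
    · exact ⟨mk M hM, m0, md, h⟩
    · have e0 : hh k X 0 (K * (mk M hM)⁻¹) = hh k X 1 (mk M hM) := (hS _).symm
      have e1 : hh k X 1 (K * (mk M hM)⁻¹) = hh k X 0 (mk M hM) := by rw [hS, hinv]
      have r' := RR (K * (mk M hM)⁻¹)
      refine ⟨K * (mk M hM)⁻¹, ?_, ?_, ?_⟩ <;> omega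
  obtain ⟨d, hd, hd2⟩ : ∃ d : Pic X, dg k X d = 5 ∧ 2 ≤ hh k X 0 d := by
    rcases (show hh k X 0 c = 2 ∨ hh k X 0 c = 3 by omega) with h | h
    · exact ⟨c, by rw [cd, h]; norm_num, c0⟩
    · exact step k X hreg hg c h (by rw [cd, h]; norm_num)
  exact K328.CliffNine.exists_isLinSer k X (d := 5) hd hd2

end Groth.Agent.S16318
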