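import Groth.Statements.S16319
import Groth.Agent.Curves.K328.Genus9

set_option autoImplicit false
open CategoryTheory CategoryTheory.Limits AlgebraicGeometry
universe u
open Curves

namespace Groth.Agent.S16319

open Groth.Agent.Grpsch.PicGrp Groth.Agent.Fdesc.LocGen K328.PicCalc K328.Genus9

/-- Let k be an algebraically closed field of characteristic zero and X a smooth proper integral curve
over k (integral, proper and smooth over k, of dimension one) of genus 9 whose Clifford index is 3:
some invertible module M with h^0(M) ≥ 2 and h^1(M) ≥ 2 has deg M − 2(h^0(M) − 1) = 3, and every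
invertible module M with h^0(M) ≥ 2 and h^1(M) ≥ 2 has deg M − 2(h^0(M) − 1) ≥ 3 (degrees are χ(M) −
χ(O_X); in particular X is not hyperelliptic); let H be an invertible module of degree 7 with h^0(H)
= 3 (a g^2_7) and D a globally generated invertible module of degree 5 with h^0(D) = 2 (a
base-point-free complete g^1_5). Then every module N with D ⊗ N ≅ H has h^0(N) = 1: the difference
of the two series is the class of an effective divisor of degree 2 with a one-dimensional space of
sections, so the pencil is cut out by the lines through a double point of the plane model of degree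
7. -/
theorem result
    (k : Type u) [Field k] [IsAlgClosed k] [CharZero k]
    (X : Scheme.{u}) [X.Over (Spec (CommRingCat.of k))] [IsIntegral X]
    [IsProper (X ↘ Spec (CommRingCat.of k))] [Smooth (X ↘ Spec (CommRingCat.of k))]
    (hdim : topologicalKrullDim X = 1) (hg : Curv2.genus k X = 9)
    (hex : ∃ M : X.Modules, PicF.IsInvertible M ∧ 2 ≤ Module.finrank k (Coh.HH X M 0) ∧
      2 ≤ Module.finrank k (Coh.HH X M 1) ∧ Curv2.deg k X M 1 = 2 * (Module.finrank k (Coh.HH X M 0) : ℤ) + 1)
    (hmin : ∀ M : X.Modules, PicF.IsInvertible M → 2 ≤ Module.finrank k (Coh.HH X M 0) →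
      2 ≤ Module.finrank k (Coh.HH X M 1) → 2 * (Module.finrank k (Coh.HH X M 0) : ℤ) + 1 ≤ Curv2.deg k X M 1)
    (H : X.Modules) (hH : PicF.IsInvertible H) (hdH : Curv2.deg k X H 1 = 7)
    (h0H : Module.finrank k (Coh.HH X H 0) = 3)
    (D : X.Modules) (hD : PicF.IsInvertible D) (hgD : Curv2.IsGloballyGenerated D)
    (hdD : Curv2.deg k X D 1 = 5) (h0D : Module.finrank k (Coh.HH X D 0) = 2)
    (N : X.Modules) (e : CohB1.tensorMod D N ≅ H) :
    Module.finrank k (Coh.HH X N 0) = 1 := by
  obtain ⟨hN, hNc⟩ := exists_of_tensor X hD hH e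
  have h1 : hh k X 0 1 = 1 := hh_one_one k X
  have hmin' : ∀ c : Pic X, 2 ≤ hh k X 0 c → 2 ≤ hh k X 1 c → 2 * (hh k X 0 c : ℤ) + 1 ≤ dg k X c := by
    intro c
    induction c using ind with | _ M hM => ?_
    exact hmin M hM
  have hbpf := bpf_of_isGloballyGenerated k X hD hgD h0D
  have hp := pencil' k X (mk H hH) hbpf
  have e1 := dg_mul k X hdim (mk H hH) (mk D hD)
  have e2 := dg_mul k X hdim (mk H hH) (mk D hD)⁻¹
  have e3 := dg_inv k X hdim (mk D hD)
  have r1 := rr k X hdim h1 (mk H hH * mk D hD)
  have r2 := rr k X hdim h1 (mk H hH * (mk D hD)⁻¹)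
  have m1 := hmin' (mk H hH * mk D hD)
  have m2 := hmin' (mk H hH * (mk D hD)⁻¹)
  have d1 : dg k X (mk H hH) = 7 := hdH
  have d2 : dg k X (mk D hD) = 5 := hdD
  have a1 : hh k X 0 (mk H hH) = 3 := h0H
  rw [← hh_mk k X 0 hN, hNc]
  rw [hg] at r1 r2
  omega

end Groth.Agent.S16319
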