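import Groth.Statements.S16320
import Groth.Agent.Curves.K328.Genus9

set_option autoImplicit false
open CategoryTheory CategoryTheory.Limits AlgebraicGeometry
universe u
open Curves

namespace Groth.Agent.S16320

open Groth.Agent.Grpsch.PicGrp Groth.Agent.Fdesc.LocGen K328.PicCalc K328.Genus9

/-- Let k be an algebraically closed field of characteristic zero and X a smooth proper integral curve
over k (integral, proper and smooth over k, of dimension one) of genus 9 whose Clifford index is 3:
some invertible module M with h^0(M) ≥ 2 and h^1(M) ≥ 2 has deg M − 2(h^0(M) − 1) = 3, and every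
invertible module M with h^0(M) ≥ 2 and h^1(M) ≥ 2 has deg M − 2(h^0(M) − 1) ≥ 3 (degrees are χ(M) −
χ(O_X); in particular X is not hyperelliptic), and let D be a globally generated invertible module
of degree 5 with h^0(D) = 2 (a base-point-free complete g^1_5). Then h^0(D^{⊗2}) is 3 or 4,
h^0(D^{⊗3}) is 7 or 8, and h^0(D^{⊗3}) = 7 whenever h^0(D^{⊗2}) = 3. (The published statement says,
equivalently by Riemann–Roch applied to the numbers h^0(K − iD) − h^0(K − (i+1)D) for a canonical
module K, that the rational normal fourfold scroll formed by the linear spans of the pencil's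
divisors in the canonical embedding has type S(2,1,1,1), S(2,2,1,0) or S(3,1,1,0); the scroll itself
is not restated here.) -/
theorem result
    (k : Type u) [Field k] [IsAlgClosed k] [CharZero k]
    (X : Scheme.{u}) [X.Over (Spec (CommRingCat.of k))] [IsIntegral X]
    [IsProper (X ↘ Spec (CommRingCat.of k))] [Smooth (X ↘ Spec (CommRingCat.of k))]
    (hdim : topologicalKrullDim X = 1) (hg : Curv2.genus k X = 9)
    (hex : ∃ M : X.Modules, PicF.IsInvertible M ∧ 2 ≤ Module.finrank k (Coh.HH X M 0) ∧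
      2 ≤ Module.finrank k (Coh.HH X M 1) ∧ Curv2.deg k X M 1 = 2 * (Module.finrank k (Coh.HH X M 0) : ℤ) + 1)
    (hmin : ∀ M : X.Modules, PicF.IsInvertible M → 2 ≤ Module.finrank k (Coh.HH X M 0) →
      2 ≤ Module.finrank k (Coh.HH X M 1) → 2 * (Module.finrank k (Coh.HH X M 0) : ℤ) + 1 ≤ Curv2.deg k X M 1)
    (D : X.Modules) (hD : PicF.IsInvertible D) (hgD : Curv2.IsGloballyGenerated D)
    (hdD : Curv2.deg k X D 1 = 5) (h0D : Module.finrank k (Coh.HH X D 0) = 2) :
    (Module.finrank k (Coh.HH X (CohB1.tensorPow D 2) 0) = 3 ∨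
        Module.finrank k (Coh.HH X (CohB1.tensorPow D 2) 0) = 4) ∧
      (Module.finrank k (Coh.HH X (CohB1.tensorPow D 3) 0) = 7 ∨
        Module.finrank k (Coh.HH X (CohB1.tensorPow D 3) 0) = 8) ∧
      (Module.finrank k (Coh.HH X (CohB1.tensorPow D 2) 0) = 3 →
        Module.finrank k (Coh.HH X (CohB1.tensorPow D 3) 0) = 7) := by
  have h1 : hh k X 0 1 = 1 := hh_one_one k X
  have hmin' : ∀ c : Pic X, 2 ≤ hh k X 0 c → 2 ≤ hh k X 1 c → 2 * (hh k X 0 c : ℤ) + 1 ≤ dg k X c := by
    intro c
    induction c using ind with | _ M hM => ?_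
    exact hmin M hM
  have hbpf := bpf_of_isGloballyGenerated k X hD hgD h0D
  have hp := pencil k X 1 hbpf
  rw [one_mul, one_mul] at hp
  have e2 := dg_pow k X hdim (mk D hD) 2
  have e3 := dg_pow k X hdim (mk D hD) 3
  have r2 := rr k X hdim h1 (mk D hD ^ 2)
  have r3 := rr k X hdim h1 (mk D hD ^ 3)
  have m2 := hmin' (mk D hD ^ 2)
  have m3 := hmin' (mk D hD ^ 3)
  have d1 : dg k X (mk D hD) = 5 := hdD
  have a1 : hh k X 0 (mk D hD) = 2 := h0D
  have hz : hh k X 1 (mk D hD ^ 2) ≤ 1 → hh k X 1 (mk D hD ^ 3) = 0 := fun h => by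
    rw [pow_succ]
    exact hh_one_mul_eq_zero k X hdim h a1.ge
  rw [← hh_mk k X 0 (isInvertible_tensorPow hD 2), ← hh_mk k X 0 (isInvertible_tensorPow hD 3),
    mk_tensorPow hD 2, mk_tensorPow hD 3]
  rw [hg] at r2 r3
  rw [d1] at e2 e3
  push_cast at e2 e3
  omega

end Groth.Agent.S16320
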