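import Groth.Statements.S16322
import Groth.Agent.Curves.K328.Genus9

set_option autoImplicit false
open CategoryTheory CategoryTheory.Limits AlgebraicGeometry
universe u
open Curves

namespace Groth.Agent.S16322

open Groth.Agent.Grpsch.PicGrp Groth.Agent.Fdesc.LocGen K328.PicCalc K328.Genus9

/-- Let k be a characteristic-zero algebraically closed field and X a smooth proper integral curve over
k (integral, proper and smooth over k, of dimension one) of genus 9 whose Clifford index is 3: some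
invertible module M with h^0(M) ≥ 2 and h^1(M) ≥ 2 has deg M − 2(h^0(M) − 1) = 3, and every
invertible module M with h^0(M) ≥ 2 and h^1(M) ≥ 2 has deg M − 2(h^0(M) − 1) ≥ 3 (degrees are χ(M) −
χ(O_X); in particular X is not hyperelliptic), and let D₁, D₂ be two non-isomorphic globally
generated invertible modules of degree 5 with h^0(D₁) = h^0(D₂) = 2 (two different base-point-free
complete pencils of degree 5). Then h^0(D₁ ⊗ D₂) = 4. (In the published statement the two pencils
are the ones cut out by the two rulings on a model of the curve in a blow-up of P^1 × P^1; the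
printed argument for this equality uses only that they are different base-point-free pencils of
degree 5 on a genus-9 curve of Clifford index 3, which is what is stated here; the further printed
assertion on a third pencil is not restated.) -/
theorem result
    (k : Type u) [Field k] [IsAlgClosed k] [CharZero k]
    (X : Scheme.{u}) [X.Over (Spec (CommRingCat.of k))] [IsIntegral X]
    [IsProper (X ↘ Spec (CommRingCat.of k))] [Smooth (X ↘ Spec (CommRingCat.of k))]
    (hdim : topologicalKrullDim X = 1) (hg : Curv2.genus k X = 9)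
    (hex : ∃ M : X.Modules, PicF.IsInvertible M ∧ 2 ≤ Module.finrank k (Coh.HH X M 0) ∧
      2 ≤ Module.finrank k (Coh.HH X M 1) ∧ Curv2.deg k X M 1 = 2 * (Module.finrank k (Coh.HH X M 0) : ℤ) + 1)
    (hmin : ∀ M : X.Modules, PicF.IsInvertible M → 2 ≤ Module.finrank k (Coh.HH X M 0) →
      2 ≤ Module.finrank k (Coh.HH X M 1) → 2 * (Module.finrank k (Coh.HH X M 0) : ℤ) + 1 ≤ Curv2.deg k X M 1)
    (D₁ D₂ : X.Modules) (h₁ : PicF.IsInvertible D₁) (h₂ : PicF.IsInvertible D₂)
    (hg₁ : Curv2.IsGloballyGenerated D₁) (hg₂ : Curv2.IsGloballyGenerated D₂)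
    (hd₁ : Curv2.deg k X D₁ 1 = 5) (hd₂ : Curv2.deg k X D₂ 1 = 5)
    (h0₁ : Module.finrank k (Coh.HH X D₁ 0) = 2) (h0₂ : Module.finrank k (Coh.HH X D₂ 0) = 2)
    (hne : IsEmpty (D₁ ≅ D₂)) :
    Module.finrank k (Coh.HH X (CohB1.tensorMod D₁ D₂) 0) = 4 := by
  have h1 : hh k X 0 1 = 1 := hh_one_one k X
  have hmin' : ∀ c : Pic X, 2 ≤ hh k X 0 c → 2 ≤ hh k X 1 c → 2 * (hh k X 0 c : ℤ) + 1 ≤ dg k X c := by
    intro c
    induction c using ind with | _ M hM => ?_
    exact hmin M hM
  have hbpf := bpf_of_isGloballyGenerated k X h₁ hg₁ h0₁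
  have hp := pencil' k X (mk D₂ h₂) hbpf
  have e1 := dg_mul k X hdim (mk D₂ h₂) (mk D₁ h₁)
  have e2 := dg_mul k X hdim (mk D₂ h₂) (mk D₁ h₁)⁻¹
  have e3 := dg_inv k X hdim (mk D₁ h₁)
  have r1 := rr k X hdim h1 (mk D₂ h₂ * mk D₁ h₁)
  have m1 := hmin' (mk D₂ h₂ * mk D₁ h₁)
  have d1 : dg k X (mk D₁ h₁) = 5 := hd₁
  have d2 : dg k X (mk D₂ h₂) = 5 := hd₂
  have a2 : hh k X 0 (mk D₂ h₂) = 2 := h0₂
  have hz : hh k X 0 (mk D₂ h₂ * (mk D₁ h₁)⁻¹) = 0 := by
    by_contra hne0
    have h3 := eq_one_of_dg k X hdim (c := mk D₂ h₂ * (mk D₁ h₁)⁻¹) (by omega) (by omega)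
    rw [mul_inv_eq_one] at h3
    obtain ⟨e⟩ := (mk_eq_iff h₂ h₁).1 h3
    exact hne.false e.symm
  rw [← hh_mk k X 0 (isInvertible_tensorMod h₁ h₂), ← mk_mul_mk h₁ h₂, mul_comm (mk D₁ h₁)]
  rw [hg] at r1
  omega

end Groth.Agent.S16322
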