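import Groth.Statements.S16324
import Groth.Agent.GrSyz.K860.AB
import Groth.Agent.GrSyz.K860.CM
import Groth.Agent.GrSyz.K860.Sharp
-- import your own Groth.Agent.* helpers here

set_option autoImplicit false
universe u
open GrSyz

namespace Groth.Agent.S16324

/-- Let k be an algebraically closed field of characteristic zero, S = k[x_0, …, x_n] graded by degree,
𝔪 = (x_0, …, x_n), and M a finitely generated ℤ-graded S-module which is Cohen–Macaulay: the Krull
dimension of its support equals its 𝔪-depth. Let F be a minimal graded free resolution of M of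
length exactly ℓ (F_ℓ ≠ 0, F_i = 0 for i > ℓ; so ℓ = pd M) and let ρ be its regularity: every basis
vector of F_i has degree at most ρ + i, with equality for some i and some basis vector (so ρ = reg
M). Let P be the Hilbert polynomial of M, i.e. a polynomial over ℚ with dim_k M_d = P(d) for all
sufficiently large d. Then dim_k M_d ≠ P(d) for d = ρ + ℓ − n − 1: the bound d ≥ reg M + pd M − n
beyond which the Hilbert function agrees with the Hilbert polynomial is sharp for Cohen–Macaulay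
modules. (Part (1) of the published statement, the agreement for d ≥ reg M + pd M − n, follows from
the agreement for d at least the largest generator degree minus n and is not restated.) -/
theorem result (k : Type u) [Field k] [IsAlgClosed k] [CharZero k] (n : ℕ)
    (M : Type u) [AddCommGroup M] [Module k M] [Module (MvPolynomial (Fin (n + 1)) k) M]
    [IsScalarTower k (MvPolynomial (Fin (n + 1)) k) M] [Module.Finite (MvPolynomial (Fin (n + 1)) k) M]
    (ℳ : ℤ → Submodule k M) [DirectSum.Decomposition ℳ] [SetLike.GradedSMul (GrSyz.stdGr k (Fin (n + 1))) ℳ]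
    (hCM : Module.supportDim (MvPolynomial (Fin (n + 1)) k) M = ((LocCoh.idealDepth (GrSyz.irrel (GrSyz.stdGr k (Fin (n + 1)))).toIdeal M : ℕ∞) : WithBot ℕ∞))
    (F : GrSyz.FreeRes (GrSyz.stdGr k (Fin (n + 1))) ℳ) (hF : F.IsMinimal (GrSyz.irrel (GrSyz.stdGr k (Fin (n + 1)))).toIdeal)
    (ℓ : ℕ) (hℓ : F.HasLengthLE ℓ) (hℓ' : F.rk ℓ ≠ 0)
    (ρ : ℤ) (hρ : F.IsGenLE ρ) (hρ' : ∃ (i : ℕ) (b : Fin (F.rk i)), F.deg i b = ρ + i)
    (P : Polynomial ℚ) (hP : ∃ d₁ : ℤ, ∀ d : ℤ, d₁ ≤ d → ((Module.finrank k ↥(ℳ d) : ℤ) : ℚ) = P.eval (d : ℚ)) :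
    ((Module.finrank k ↥(ℳ (ρ + ℓ - n - 1)) : ℤ) : ℚ) ≠ P.eval ((ρ + ℓ - n - 1 : ℤ) : ℚ) := by
  open K860 Kos Basic KosPoly Betti in
  have : Infinite k := IsAlgClosed.instInfinite
  have hAB := AB.add_idealDepth F hF ℓ hℓ hℓ'
  obtain ⟨δ, hδ⟩ := ENat.ne_top_iff_exists.1 (show LocCoh.idealDepth (GrSyz.irrel (GrSyz.stdGr k (Fin (n + 1)))).toIdeal M ≠ ⊤ by
    intro h
    rw [h, add_top] at hAB
    exact (ENat.natCast_ne_top (n + 1)) hAB.symm)
  rw [← hδ] at hAB hCM
  have hAB' : ℓ + δ = n + 1 := by exact_mod_cast hAB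
  have hpos : (kos (xs k (n + 1)) ℳ (n + 1)).Van ℓ (ρ + ℓ) → False := by
    have h1 := CM.not_van_of_supportDim (N := n + 1) δ (by omega) M ℳ (by rw [hCM]; rfl)
      (fun i hi j => by
        have hi' : (ℓ : ℤ) < i := by push_cast at hi; omega
        obtain ⟨i, rfl⟩ := Int.eq_ofNat_of_zero_le (show 0 ≤ i by omega)
        exact (rk_eq_zero_iff hF i).1 (hℓ i (by exact_mod_cast hi')) j) ρ
      (fun i j hj => by
        rcases lt_or_ge i 0 with hi | hi
        · exact van_of_neg _ _ _ hi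
        · obtain ⟨i, rfl⟩ := Int.eq_ofNat_of_zero_le hi
          exact (isGenLE_iff hF ρ).1 hρ i j hj)
      (by
        obtain ⟨i, b, hb⟩ := hρ'
        refine ⟨i, fun h => ?_⟩
        rw [van_iff_betti hF] at h
        exact (betti_ne_zero_iff F i _).2 ⟨b, hb⟩ h)
    rw [show (((n + 1 : ℕ) : ℤ) - δ) = ℓ by push_cast; omega] at h1
    exact h1
  rw [van_iff_betti hF] at hpos
  intro h
  rw [Sharp.eq_HP F ℓ hℓ P hP] at h
  have h2 := Sharp.finrank_sub_HP F ℓ hℓ ρ hρ
  rw [← h, sub_self] at h2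
  apply hpos
  have h3 : ((-1 : ℚ) ^ ℓ * (-1) ^ n) ≠ 0 := mul_ne_zero (pow_ne_zero _ (by norm_num)) (pow_ne_zero _ (by norm_num))
  rw [← mul_assoc] at h2
  have h4 := (mul_eq_zero.1 h2.symm).resolve_left h3
  exact_mod_cast h4

end Groth.Agent.S16324
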