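import Groth.Statements.S16328
import Groth.Agent.W4c3biextchow.K883.FreeSES

set_option autoImplicit false
universe v
open CategoryTheory
open W4c3biextchow

namespace Groth.Agent.S16328

/-- Let f : A' ⟶ A and p : A ⟶ A'' be chain maps of ℕ-indexed chain complexes of free abelian groups
forming a short exact sequence in every degree (f injective, p surjective, image of f equal to the
kernel of p), and assume f is a quasi-isomorphism. Then there is a chain map h : A'' ⟶ A such that
in every degree q the map (a'', a') ↦ h(a'') + f(a') is a bijection from A''_q × A'_q onto A_q, so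
that A is the direct sum of the subcomplexes f(A') and h(A''). (The source allows complexes indexed
by all integers; stated here for complexes in non-negative degrees.) -/
theorem result
    (A' A A'' : ChainComplex (ModuleCat.{v} ℤ) ℕ) (f : A' ⟶ A) (p : A ⟶ A'')
    [∀ q, Module.Free ℤ (A'.X q)] [∀ q, Module.Free ℤ (A.X q)] [∀ q, Module.Free ℤ (A''.X q)]
    (hf : ∀ q, Function.Injective (f.f q).hom) (hp : ∀ q, Function.Surjective (p.f q).hom)
    (hfp : ∀ q, Function.Exact (f.f q).hom (p.f q).hom) [QuasiIso f] :
    ∃ h : A'' ⟶ A, ∀ q : ℕ,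
      Function.Bijective (fun x : A''.X q × A'.X q => (h.f q).hom x.1 + (f.f q).hom x.2) := by
  have hproj : ∀ q, Module.Projective ℤ (A''.X q) := fun q => inferInstance
  have s : Homotopy (𝟙 A'') 0 := K883.FreeSES.contraction A'' hproj
    (K883.FreeSES.exact_quotient f p hf hp hfp)
  obtain ⟨h, hh⟩ := K883.FreeSES.exists_section p hproj hp s
  have hh' : ∀ q (x : A''.X q), (p.f q).hom ((h.f q).hom x) = x := fun q x =>
    congr($(HomologicalComplex.congr_hom hh q) x)
  have hpf : ∀ q (x : A'.X q), (p.f q).hom ((f.f q).hom x) = 0 := fun q x =>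
    (hfp q _).2 ⟨x, rfl⟩
  refine ⟨h, fun q => ⟨?_, ?_⟩⟩
  · rintro ⟨x, x'⟩ ⟨y, y'⟩ hxy
    have h0 : (h.f q).hom x + (f.f q).hom x' = (h.f q).hom y + (f.f q).hom y' := hxy
    have h1 := congrArg (p.f q).hom h0
    rw [map_add, map_add, hh', hh', hpf, hpf, add_zero, add_zero] at h1
    subst h1
    have h2 := hf q (add_left_cancel h0)
    subst h2
    rfl
  · intro a
    have h1 : (p.f q).hom (a - (h.f q).hom ((p.f q).hom a)) = 0 := by
      rw [map_sub, hh', sub_self]
    obtain ⟨x', hx'⟩ := (hfp q _).1 h1
    refine ⟨((p.f q).hom a, x'), ?_⟩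
    change (h.f q).hom ((p.f q).hom a) + (f.f q).hom x' = a
    rw [hx']
    abel

end Groth.Agent.S16328
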