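import Groth.Statements.S16332
import Groth.Agent.W4c3biextchow.K883.TensorElem
import Groth.Agent.W4c3biextchow.K883.ElemHomology
import Mathlib.RingTheory.Flat.Basic
import Mathlib.LinearAlgebra.TensorProduct.RightExactness

set_option autoImplicit false
universe v
open CategoryTheory MonoidalCategory
open W4c3biextchow

namespace Groth.Agent.S16332

open K883.TensorElem K883.ElemHomology

theorem aux (R : Type v) [CommRing R] (C P Q : ChainComplex (ModuleCat.{v} R) ℕ)
    [Module.Flat R (C.X 0)] (hQ : ∀ j, 0 < j → Subsingleton (Q.X j))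
    (π : P ⟶ Q) [QuasiIso π] :
    IsIso (HomologicalComplex.homologyMap (C ◁ π) 1) := by
  have hiso : ∀ n, IsIso (HomologicalComplex.homologyMap π n) := fun n => by
    rw [← quasiIsoAt_iff_isIso_homologyMap]
    infer_instance
  have prev_one : (ComplexShape.down ℕ).prev 1 = 2 := ChainComplex.prev ℕ 1
  have next_one : (ComplexShape.down ℕ).next 1 = 0 := ChainComplex.next_nat_succ 0
  have prev_zero : (ComplexShape.down ℕ).prev 0 = 1 := ChainComplex.prev ℕ 0
  have next_zero : (ComplexShape.down ℕ).next 0 = 0 := ChainComplex.next_nat_zero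
  have d00 : ∀ (K : ChainComplex (ModuleCat.{v} R) ℕ) (x : K.X 0), (K.d 0 0).hom x = 0 := by
    intro K x
    rw [K.shape 0 0 (by simp)]
    rfl
  -- surjectivity of `π₀`
  have hsurj : Function.Surjective (π.f 0).hom := by
    intro y
    obtain ⟨x, w, _, hw⟩ := (epi_homologyMap_iff π 1 0 prev_zero next_zero).1 inferInstance y
      (d00 Q y)
    have := hQ 1 one_pos
    rw [Subsingleton.elim w 0, map_zero, add_zero] at hw
    exact ⟨x, hw⟩
  -- exactness at `P₀`
  have hex0 : Function.Exact (P.d 1 0).hom (π.f 0).hom := by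
    intro x
    constructor
    · intro hx
      obtain ⟨y, hy⟩ := (mono_homologyMap_iff π 1 0 prev_zero next_zero).1 inferInstance x
        (d00 P x) ⟨0, by rw [map_zero, hx]⟩
      exact ⟨y, hy⟩
    · rintro ⟨y, rfl⟩
      have h1 := congr($(π.comm 1 0) y)
      change (Q.d 1 0).hom ((π.f 1).hom y) = (π.f 0).hom ((P.d 1 0).hom y) at h1
      have := hQ 1 one_pos
      rw [← h1, Subsingleton.elim ((π.f 1).hom y) 0, map_zero]
  -- exactness at `P₁`
  have hex1 : Function.Exact (P.d 2 1).hom (P.d 1 0).hom := by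
    intro x
    constructor
    · intro hx
      have := hQ 1 one_pos
      obtain ⟨y, hy⟩ := (mono_homologyMap_iff π 2 0 prev_one next_one).1 inferInstance x hx
        ⟨0, Subsingleton.elim _ _⟩
      exact ⟨y, hy⟩
    · rintro ⟨y, rfl⟩
      exact congr($(P.d_comp_d 2 1 0) y)
  -- tensor versions
  have tsurj : ∀ (N : ModuleCat.{v} R), Function.Surjective (N ◁ π.f 0).hom := fun N =>
    LinearMap.lTensor_surjective N hsurj
  have tex0 : ∀ (N : ModuleCat.{v} R), Function.Exact (N ◁ P.d 1 0).hom (N ◁ π.f 0).hom := fun N =>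
    lTensor_exact N hex0 hsurj
  have tex1 : Function.Exact (C.X 0 ◁ P.d 2 1).hom (C.X 0 ◁ P.d 1 0).hom :=
    Module.Flat.lTensor_exact (C.X 0) hex1
  have tzero : ∀ (N : ModuleCat.{v} R) (j : ℕ), 0 < j → ∀ x : (N ⊗ Q.X j : ModuleCat.{v} R),
      x = 0 := by
    intro N j hj x
    have := hQ j hj
    refine TensorProduct.induction_on (motive := fun x : TensorProduct R N (Q.X j) => x = 0) x rfl
      (fun m q => ?_) (fun a b ha hb => ?_)
    · rw [Subsingleton.elim q 0, TensorProduct.tmul_zero]
    · rw [ha, hb, add_zero]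
  have tcomm : ∀ (i : ℕ) (x : (C.X (i + 1) ⊗ P.X 0 : ModuleCat.{v} R)),
      (C.X i ◁ π.f 0).hom ((C.d (i + 1) i ▷ P.X 0).hom x) =
        (C.d (i + 1) i ▷ Q.X 0).hom ((C.X (i + 1) ◁ π.f 0).hom x) := by
    intro i x
    have h := whisker_exchange (C.d (i + 1) i) (π.f 0)
    exact congr($h x).symm
  have tcomm' : ∀ (x : (C.X 1 ⊗ P.X 1 : ModuleCat.{v} R)),
      (C.X 0 ◁ P.d 1 0).hom ((C.d 1 0 ▷ P.X 1).hom x) =
        (C.d 1 0 ▷ P.X 0).hom ((C.X 1 ◁ P.d 1 0).hom x) := by
    intro x
    have h := whisker_exchange (C.d 1 0) (P.d 1 0)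
    exact congr($h x).symm
  have az : ∀ {A : Type v} [AddCommGroup A] (a : A), a + 0 = a := fun a => add_zero a
  have hmono : Mono (HomologicalComplex.homologyMap (C ◁ π) 1) := by
    rw [mono_homologyMap_iff _ 2 0 prev_one next_one]
    intro X hX hW
    obtain ⟨x, z, rfl⟩ := exists_one C P X
    obtain ⟨W, hW⟩ := hW
    obtain ⟨w, w1, w2, rfl⟩ := exists_two C Q W
    rw [tzero _ 1 one_pos w1, tzero _ 2 two_pos w2, map_zero, map_zero, az, az,
      d_inn_succ_zero, map_add, whisker_inn_apply, whisker_inn_apply,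
      tzero _ 1 one_pos ((C.X 0 ◁ π.f 1).hom z), map_zero, az] at hW
    have hW' := inn_injective C Q 1 0 1 rfl hW
    obtain ⟨w', hw'⟩ := tsurj (C.X 2) w
    rw [← hw', ← tcomm 1 w'] at hW'
    obtain ⟨v, hv⟩ := (tex0 (C.X 1) (x - (C.d 2 1 ▷ P.X 0).hom w')).1 (by
      rw [map_sub, hW', sub_self])
    have hz : (C.X 0 ◁ P.d 1 0).hom (z + (C.d 1 0 ▷ P.X 1).hom v) = 0 := by
      apply inn_injective C P 0 0 0 rfl
      rw [map_zero, map_add, map_add, tcomm', hv]
      rw [map_add, d_inn_succ_zero, d_inn_zero_succ] at hX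
      have hdd : (C.d 1 0 ▷ P.X 0).hom ((C.d 2 1 ▷ P.X 0).hom w') = 0 := by
        have : (C.d 2 1 ▷ P.X 0) ≫ (C.d 1 0 ▷ P.X 0) = 0 := by
          rw [← comp_whiskerRight, C.d_comp_d]
          simp
        exact congr($this w')
      rw [map_sub, hdd, sub_zero]
      rw [add_comm]
      exact hX
    obtain ⟨u, hu⟩ := (tex1 _).1 hz
    refine ⟨(inn C P 2 0 2 rfl).hom w' - (inn C P 1 1 2 rfl).hom v + (inn C P 0 2 2 rfl).hom u, ?_⟩
    rw [map_add, map_sub, d_inn_one_one, d_inn_succ_zero, d_inn_zero_succ, hu, hv, map_add, map_sub]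
    abel
  have hepi : Epi (HomologicalComplex.homologyMap (C ◁ π) 1) := by
    rw [epi_homologyMap_iff _ 2 0 prev_one next_one]
    intro Y hY
    obtain ⟨y, y1, rfl⟩ := exists_one C Q Y
    rw [tzero _ 1 one_pos y1, map_zero, az] at hY ⊢
    rw [d_inn_succ_zero] at hY
    have hY' : (C.d 1 0 ▷ Q.X 0).hom y = 0 := by
      apply inn_injective C Q 0 0 0 rfl
      rw [map_zero]
      exact hY
    obtain ⟨y', rfl⟩ := tsurj (C.X 1) y
    rw [← tcomm 0 y'] at hY'
    obtain ⟨z, hz⟩ := (tex0 (C.X 0) _).1 hY'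
    refine ⟨(inn C P 1 0 1 rfl).hom y' - (inn C P 0 1 1 rfl).hom z, 0, ?_, ?_⟩
    · rw [map_sub, d_inn_succ_zero, d_inn_zero_succ, hz]
      exact sub_self _
    · rw [map_sub, map_zero, az, whisker_inn_apply, whisker_inn_apply,
        tzero _ 1 one_pos ((C.X 0 ◁ π.f 1).hom z), map_zero, sub_zero]
  exact isIso_of_mono_of_epi _

/-- Let R be a commutative ring, C an ℕ-indexed chain complex of R-modules whose degree-0 term C_0 is a
free R-module, G an R-module, and π : P ⟶ G[0] a quasi-isomorphism from an ℕ-indexed chain complex P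
of free R-modules onto G placed in degree 0 (a free resolution of G), so that the tensor product of
complexes C ⊗ P represents the derived tensor product of C and G. Then the map induced by π on first
homology, H_1(C ⊗ P) → H_1(C ⊗ G[0]), is an isomorphism: in degree 1 the derived and the plain
tensor product with G have the same homology. (The published statement is over the integers, for
complexes vanishing in negative degrees with C_0 free abelian; this row allows any commutative ring
R and R-modules in the same universe as R.) -/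
theorem result
    (R : Type v) [CommRing R] (C P : ChainComplex (ModuleCat.{v} R) ℕ) (G : ModuleCat.{v} R)
    [Module.Free R (C.X 0)] [∀ q, Module.Free R (P.X q)]
    (π : P ⟶ (ChainComplex.single₀ (ModuleCat.{v} R)).obj G) [QuasiIso π] :
    IsIso (HomologicalComplex.homologyMap (C ◁ π) 1) := by
  refine aux R C P _ (fun j hj => ?_) π
  have hz : Limits.IsZero (((ChainComplex.single₀ (ModuleCat.{v} R)).obj G).X j) :=
    HomologicalComplex.isZero_single_obj_X (ComplexShape.down ℕ) 0 G j (by omega)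
  exact ModuleCat.subsingleton_of_isZero hz

end Groth.Agent.S16332
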