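import Groth.Statements.S16334
import Groth.Agent.Pic13.K244.AlgDiv
import Groth.Agent.S4277
import Groth.Agent.Fdesc.GeomAlgClosed
-- import your own Groth.Agent.* helpers here

set_option autoImplicit false
universe u
open CategoryTheory CategoryTheory.Limits AlgebraicGeometry
open Pic13

namespace Groth.Agent.S16334

/-- Let k be an algebraically closed field, X an integral smooth projective scheme over k and L an
invertible O_X-module which is numerically equivalent to zero (degree 0 on every closed subscheme of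
X that is integral of dimension one). Then the class of L is the sum of an algebraically trivial
class and a torsion class: there are invertible O_X-modules E and T with E algebraically equivalent
to zero, some positive tensor power of T isomorphic to O_X, and L ≅ E ⊗ T. -/
theorem result (k : Type u) [Field k] [IsAlgClosed k]
    (X : Scheme.{u}) [X.Over (Spec (CommRingCat.of k))] [IsIntegral X]
    [Smooth (X ↘ Spec (CommRingCat.of k))] [IsProper (X ↘ Spec (CommRingCat.of k))]
    (hproj : Neron.IsProjectiveOver k (Over.mk (X ↘ Spec (CommRingCat.of k))))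
    (L : X.Modules) (hL : PicF.IsInvertible L) (hnum : Pic13.IsNumEquivZero k X L) :
    ∃ (E T : X.Modules), PicF.IsInvertible E ∧ PicF.IsInvertible T ∧ Pic13.IsAlgEquivZero k X E ∧
      (∃ m : ℕ, 0 < m ∧ Nonempty (CohB1.tensorPow T m ≅ Coh.structureModule X)) ∧
      Nonempty (L ≅ CohB1.tensorMod E T) := by
  have h1 : GeometricallyIrreducible (X ↘ Spec (CommRingCat.of k)) :=
    Groth.Agent.Fdesc.GeomAlgClosed.geometricallyIrreducible_of_irreducibleSpace (X ↘ Spec (CommRingCat.of k))
  have hgi : GeometricallyIntegral (X ↘ Spec (CommRingCat.of k)) :=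
    Groth.Agent.Flat2B.SmoothGeom.geometricallyIntegral_of_smooth _
  have hX := Groth.Agent.Grpsch.CubeData.bijective_appTop (X ↘ Spec (CommRingCat.of k))
  have hgn : Pi1.IsNormalScheme (pullback (X ↘ Spec (CommRingCat.of k))
      (Spec.map (CommRingCat.ofHom (algebraMap k (AlgebraicClosure k))))) :=
    K244.NormExt.isNormalScheme_of_smooth (pullback.snd _ _)
  have ht := Groth.Agent.S4277.result k X L hL hnum
  rw [Groth.Agent.Pic13.H138.AlgEquiv.isTauEquivZero_iff_mem hL, Groth.Agent.Pic13.H138.AlgEquiv.mem_tau0_iff] at ht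
  obtain ⟨n, hn, ha⟩ := ht
  obtain ⟨c, hc, hcn⟩ := K244.AlgDiv.exists_pow X hX hgn n hn _ ha
  obtain ⟨E, hE, rfl⟩ := Groth.Agent.Grpsch.PicGrp.exists_mk c
  obtain ⟨T, hT, hTe⟩ := Groth.Agent.Grpsch.PicGrp.exists_mk
    (Groth.Agent.Grpsch.PicGrp.mk L hL * (Groth.Agent.Grpsch.PicGrp.mk E hE)⁻¹)
  refine ⟨E, T, hE, hT, (Groth.Agent.Pic13.H138.AlgEquiv.isAlgEquivZero_iff_mem hE).2 hc, ⟨n, hn, ?_⟩, ?_⟩
  · rw [← Groth.Agent.Grpsch.PicGrp.mk_eq_one_iff (Groth.Agent.Fdesc.LocGen.isInvertible_tensorPow hT n),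
      Groth.Agent.Grpsch.PicGrp.mk_tensorPow hT, ← hTe, mul_pow, inv_pow, hcn, mul_inv_cancel]
  · rw [← Groth.Agent.Grpsch.PicGrp.mk_eq_iff hL (Groth.Agent.Fdesc.LocGen.isInvertible_tensorMod hE hT),
      ← Groth.Agent.Grpsch.PicGrp.mk_mul_mk hE hT, ← hTe, mul_comm, inv_mul_cancel_right]

end Groth.Agent.S16334
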