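import Groth.Statements.S16335
import Mathlib.Algebra.Module.BigOperators
import Mathlib.Tactic

set_option autoImplicit false
universe u v w w'
open TensorProduct
open InvTh

namespace Groth.Agent.S16335

/-- Let `R` be a commutative ring with an action of a finite group `Γ` by ring automorphisms such that
the order of `Γ` is invertible in `R`, and let `A → R` be injective with image exactly the
invariants `R^Γ`, the action being `A`-linear. Then for every commutative `A`-algebra `S`, with `Γ`
acting on `S ⊗_A R` through the factor `R`, the map `S → S ⊗_A R`, `s ↦ s ⊗ 1`, is injective and its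
image is exactly the set of `Γ`-fixed elements: `S ≅ (S ⊗_A R)^Γ`. No flatness of `S` over `A` is
assumed; the invertibility of the order of `Γ` replaces it. This is the affine statement that for a
tame quotient the coarse space commutes with arbitrary base change. (The published lemma is the
statement that the coarse moduli space of a tame Deligne–Mumford stack commutes with arbitrary base
change, whose proof reduces to this ring statement. The published lemma also asserts the analogous
statement for the reduced fibre product when the base-change scheme is reduced; that clause is not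
part of this row.) -/
theorem result
    (A : Type u) [CommRing A] (R : Type v) [CommRing R] [Algebra A R]
    (Γ : Type w) [Group Γ] [Finite Γ] [MulSemiringAction Γ R] [SMulCommClass Γ A R]
    [Algebra.IsInvariant A R Γ] (hinj : Function.Injective (algebraMap A R))
    (hΓ : IsUnit (Nat.card Γ : R))
    (S : Type w') [CommRing S] [Algebra A S] :
    Function.Injective (fun s : S => s ⊗ₜ[A] (1 : R)) ∧
      ∀ x : S ⊗[A] R,
        (∀ γ : Γ, Algebra.TensorProduct.map (AlgHom.id A S) (MulSemiringAction.toAlgHom A R γ) x = x) →
          x ∈ Set.range (fun s : S => s ⊗ₜ[A] (1 : R)) := by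
  cases nonempty_fintype Γ
  obtain ⟨c, hc⟩ := hΓ.exists_left_inv
  have hcfix : ∀ γ : Γ, γ • c = c := by
    intro γ
    have h1 : γ • (c * (Nat.card Γ : R)) = 1 := by rw [hc, smul_one]
    rw [smul_mul'] at h1
    have h2 : γ • ((Nat.card Γ : ℕ) : R) = ((Nat.card Γ : ℕ) : R) :=
      map_natCast (MulSemiringAction.toRingHom Γ R γ) _
    rw [h2] at h1
    calc γ • c = γ • c * (c * (Nat.card Γ : R)) := by rw [hc, mul_one]
      _ = c * (γ • c * (Nat.card Γ : R)) := by ring
      _ = c := by rw [h1, mul_one]
  obtain ⟨a, ha⟩ := Algebra.IsInvariant.isInvariant (A := A) (G := Γ) c hcfix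
  have haΓ : a * (Nat.card Γ : A) = 1 := by
    apply hinj
    rw [map_mul, ha, map_natCast, hc, map_one]
  -- the averaging map
  let e : R →ₗ[A] R := a • ∑ δ : Γ, DistribSMul.toLinearMap A R δ
  have he : ∀ m, e m = a • ∑ δ : Γ, δ • m := by
    intro m
    simp [e, LinearMap.sum_apply]
  have hfix : ∀ (m : R) (γ : Γ), γ • e m = e m := by
    intro m γ
    rw [he, smul_comm, Finset.smul_sum]
    congr 1
    simp_rw [smul_smul]
    exact Fintype.sum_equiv (Equiv.mulLeft γ) _ _ (fun x => rfl)
  have hrange : LinearMap.range e ≤ LinearMap.range (Algebra.linearMap A R) := by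
    rintro _ ⟨m, rfl⟩
    obtain ⟨b, hb⟩ := Algebra.IsInvariant.isInvariant (A := A) (G := Γ) (e m) (hfix m)
    exact ⟨b, hb⟩
  let ι : A ≃ₗ[A] LinearMap.range (Algebra.linearMap A R) :=
    LinearEquiv.ofInjective (Algebra.linearMap A R) hinj
  let tr : R →ₗ[A] A := ι.symm.toLinearMap ∘ₗ
    (e.codRestrict (LinearMap.range (Algebra.linearMap A R)) (fun m => hrange ⟨m, rfl⟩))
  have htr : ∀ m, algebraMap A R (tr m) = e m := by
    intro m
    have : (ι (tr m) : R) = e m := by
      simp [tr]
    exact this
  have htr1 : tr 1 = 1 := by
    apply hinj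
    rw [htr, he]
    simp only [smul_one, Finset.sum_const, Finset.card_univ, ← Nat.card_eq_fintype_card, map_one]
    rw [← Nat.cast_smul_eq_nsmul A, smul_smul, haΓ, one_smul]
  constructor
  · let ρ : S ⊗[A] R →ₗ[A] S := (TensorProduct.rid A S).toLinearMap ∘ₗ tr.lTensor S
    refine Function.LeftInverse.injective (g := ρ) fun s => ?_
    simp [ρ, htr1]
  · intro x hx
    have key : ∀ y : S ⊗[A] R, (e.lTensor S) y =
        a • ∑ γ : Γ, Algebra.TensorProduct.map (AlgHom.id A S) (MulSemiringAction.toAlgHom A R γ) y := by
      intro y
      induction y using TensorProduct.induction_on with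
      | zero => simp
      | tmul s r =>
        simp only [LinearMap.lTensor_tmul, he, Algebra.TensorProduct.map_tmul, AlgHom.coe_id, id_eq,
          MulSemiringAction.toAlgHom_apply, TensorProduct.tmul_smul, TensorProduct.tmul_sum]
      | add y z hy hz => simp only [map_add, hy, hz, Finset.sum_add_distrib, smul_add]
    have h1 : (e.lTensor S) x = x := by
      rw [key]
      simp_rw [hx]
      rw [Finset.sum_const, Finset.card_univ, ← Nat.card_eq_fintype_card,
        ← Nat.cast_smul_eq_nsmul A, smul_smul, haΓ, one_smul]
    have h2 : ∀ y : S ⊗[A] R, (e.lTensor S) y ∈ Set.range (fun s : S => s ⊗ₜ[A] (1 : R)) := by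
      intro y
      refine ⟨TensorProduct.rid A S (tr.lTensor S y), ?_⟩
      induction y using TensorProduct.induction_on with
      | zero => simp
      | tmul s r =>
        simp only [LinearMap.lTensor_tmul, TensorProduct.rid_tmul]
        rw [TensorProduct.smul_tmul, Algebra.smul_def, htr, mul_one]
      | add y z hy hz =>
        simp only [map_add, TensorProduct.add_tmul] at hy hz ⊢
        rw [hy, hz]
    rw [← h1]
    exact h2 x

end Groth.Agent.S16335
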