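import Groth.Statements.S16337
import Mathlib.Algebra.Module.BigOperators
import Mathlib.Tactic

set_option autoImplicit false
universe u v w
open InvTh

namespace Groth.Agent.S16337

/-- Let `A` be a commutative ring, `Γ` a finite group whose order is invertible in `A`, `M` an
`A`-module with an `A`-linear action of `Γ`, and `I` an ideal of `A`. Then reduction modulo `I`
induces a bijection `M^Γ / I·M^Γ ≅ (M / IM)^Γ`: (a) an element of `M` fixed by `Γ` modulo `IM` is
congruent modulo `IM` to a `Γ`-fixed element, and (b) a `Γ`-fixed element lying in `IM` lies in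
`I·M^Γ`, where `M^Γ` is the submodule of `Γ`-fixed elements. (The published lemma says that
push-forward to the coarse space of a tame stack over a complete local base commutes with reduction
modulo powers of the maximal ideal; this row is the module statement its proof establishes, for an
arbitrary ideal.) -/
theorem result
    (A : Type u) [CommRing A] (Γ : Type v) [Group Γ] [Finite Γ] (hΓ : IsUnit (Nat.card Γ : A))
    (M : Type w) [AddCommGroup M] [Module A M] [DistribMulAction Γ M] [SMulCommClass Γ A M]
    (I : Ideal A) :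
    (∀ x : M, (∀ γ : Γ, γ • x - x ∈ I • (⊤ : Submodule A M)) →
        ∃ y : M, (∀ γ : Γ, γ • y = y) ∧ x - y ∈ I • (⊤ : Submodule A M)) ∧
      ∀ y : M, (∀ γ : Γ, γ • y = y) → y ∈ I • (⊤ : Submodule A M) →
        y ∈ I • Submodule.span A {m : M | ∀ γ : Γ, γ • m = m} := by
  cases nonempty_fintype Γ
  obtain ⟨c, hc⟩ := hΓ.exists_left_inv
  have hfix : ∀ (m : M) (γ : Γ), γ • (c • ∑ δ : Γ, δ • m) = c • ∑ δ : Γ, δ • m := by
    intro m γ
    rw [smul_comm, Finset.smul_sum]
    congr 1
    simp_rw [smul_smul]
    exact Fintype.sum_equiv (Equiv.mulLeft γ) _ _ (fun x => rfl)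
  have hsum : ∀ m : M, c • ∑ _δ : Γ, m = m := by
    intro m
    rw [Finset.sum_const, Finset.card_univ, ← Nat.card_eq_fintype_card, ← Nat.cast_smul_eq_nsmul A,
      smul_smul, hc, one_smul]
  refine ⟨fun x hx => ⟨c • ∑ δ : Γ, δ • x, hfix x, ?_⟩, fun y hy hyI => ?_⟩
  · have : x - c • ∑ δ : Γ, δ • x = c • ∑ δ : Γ, -(δ • x - x) := by
      have h0 : x - c • ∑ δ : Γ, δ • x = c • ∑ _δ : Γ, x - c • ∑ δ : Γ, δ • x := by rw [hsum x]
      rw [h0, ← smul_sub, ← Finset.sum_sub_distrib]
      congr 1
      exact Finset.sum_congr rfl fun δ _ => by abel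
    rw [this]
    exact Submodule.smul_mem _ _ (Submodule.sum_mem _ fun δ _ => Submodule.neg_mem _ (hx δ))
  · let e : M →ₗ[A] M := c • ∑ δ : Γ, DistribSMul.toLinearMap A M δ
    have he : ∀ m, e m = c • ∑ δ : Γ, δ • m := by
      intro m
      simp [e, LinearMap.sum_apply]
    have h1 : e y = y := by rw [he]; simp_rw [hy]; exact hsum y
    have h2 : e y ∈ (I • (⊤ : Submodule A M)).map e := Submodule.mem_map_of_mem hyI
    rw [Submodule.map_smul'', h1] at h2
    refine Submodule.smul_mono le_rfl ?_ h2
    rintro _ ⟨m, -, rfl⟩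
    exact Submodule.subset_span fun γ => by rw [he]; exact hfix m γ

end Groth.Agent.S16337
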