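import Groth.Statements.S16339
import Groth.Agent.AlgSt.K745.AutTriv
import Groth.Agent.AlgSt.K745.DMOver
import Groth.Agent.S12969
import Groth.Agent.S12762

set_option autoImplicit false
universe u
open CategoryTheory
open AlgSt

namespace Groth.Agent.S16339

/-- Let `S` be a scheme and `g : 𝒢 → ℱ` a functor over `(Sch/S)` between Deligne–Mumford stacks (fppf
topology). Suppose that for every algebraically closed field `k` and every object `ξ` of `𝒢` lying
over `Spec k → S`, the homomorphism `Aut(ξ) → Aut(g(ξ))` of automorphism groups over the identity is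
injective, stated here as: every endomorphism `a` of `ξ` over the identity of `Spec k` with `g(a) =
𝟙` is `𝟙` (such `a` are automorphisms, the fibres being groupoids). Then `g` is representable by
algebraic spaces. (The published statement is the equivalence of the two conditions. The converse
implication — a functor representable by algebraic spaces is injective on automorphism groups over
identities — holds for every morphism of algebraic stacks and every object, and is not part of this
row. The published statement works under the convention that Deligne–Mumford stacks have isomorphism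
spaces of finite type and separated over a Noetherian base; this row assumes only that both stacks
are Deligne–Mumford.) -/
theorem result
    (S : AlgebraicGeometry.Scheme.{u}) (𝒢 ℱ : AlgSt.Cat S)
    (h𝒢 : AlgSt.IsDM AlgebraicGeometry.Scheme.fppfPrecoverage 𝒢)
    (hℱ : AlgSt.IsDM AlgebraicGeometry.Scheme.fppfPrecoverage ℱ)
    (g : 𝒢 ⥤ᵇ ℱ)
    (hinj : ∀ (k : Type u) [Field k] [IsAlgClosed k] (s : AlgebraicGeometry.Spec (CommRingCat.of k) ⟶ S)
        (ξ : 𝒢.obj) (hξ : 𝒢.p.obj ξ = Over.mk s) (a : ξ ⟶ ξ),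
        𝒢.p.IsHomLift (𝟙 (𝒢.p.obj ξ)) a → g.map a = 𝟙 (g.obj ξ) → a = 𝟙 ξ) :
    AlgSt.RepByAlgSp1 g := by
  rw [← Groth.Agent.S12762.result h𝒢.1 hℱ.1]
  obtain ⟨W, w, hw₁, hw₂, hw₃, hw₄⟩ := K745.DMOver.exists_unramified_cover h𝒢.2
  have h𝒢' := h𝒢.1.isStack.1
  have hℱ' := hℱ.1.isStack.1
  refine K745.AutTriv.faithful_of_vert h𝒢' hℱ' g fun ξ a ha hga => ?_
  refine K745.AutTriv.eq_id_of_geom h𝒢' (Groth.Agent.S12969.result S 𝒢 h𝒢.1 W w hw₁ hw₂ hw₃ hw₄) ξ a ha ?_
  intro k _ _ s η hη ρ
  obtain ⟨χ, hχ, hχ'⟩ := K734.Fib.exists_fac h𝒢' ρ (ρ ≫ a) (𝟙 _) (by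
    rw [Category.id_comp, Functor.map_comp, ha.map_eq]
    simp)
  have hv : K734.Fib.IsVert 𝒢 χ := K734.Fib.IsVert.of_lift (R := 𝒢.p.obj η)
    ((K734.Fib.isHomLift_iff_map_eq _ _).2 hχ)
  have h2 : g.map χ = 𝟙 _ := by
    refine K734.Fib.fac_unique hℱ' (g.map ρ) ?_ ?_
    · rw [(hv.map g).map_eq, ℱ.p.map_id]
      rfl
    · rw [← g.map_comp, hχ', g.map_comp, hga, Category.comp_id, Category.id_comp]
  have h3 : χ = 𝟙 η := hinj k s η hη χ (hv.lift rfl) h2
  rw [← hχ', h3, Category.id_comp]

end Groth.Agent.S16339
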