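import Groth.Statements.S16340
-- import your own Groth.Agent.* helpers here
import Groth.Agent.ShStab.K848.Pos

set_option autoImplicit false
open CategoryTheory CategoryTheory.Limits AlgebraicGeometry Polynomial
universe u
open ShStab

namespace Groth.Agent.S16340

/-- Let X be a scheme proper over a field k carrying an ample invertible sheaf L, Hilbert polynomials
being taken with respect to L, and let ι : E → E' be a monomorphism of coherent O_X-modules with
Hilbert polynomials P_E and P_E'. Then P_E(m) ≤ P_E'(m) for all large m; and if the cokernel of ι
has support of topological Krull dimension less than d (for example, if the cokernel is zero), then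
the multiplicities in dimension d agree: α_d(P_E) = α_d(P_E'), where α_d(P) is d! times the
coefficient of degree d. (The published statement is the case where E' is the saturation of E inside
a coherent sheaf of dimension d, over an algebraically closed field; the argument is unchanged for
any field.) -/
theorem result (k : Type u) [Field k] (X : Scheme.{u})
    [X.Over (Spec (CommRingCat.of k))] [IsProper (X ↘ Spec (CommRingCat.of k))]
    (L : X.Modules) (hL : CohB1.IsAmple L) (d : ℕ) (E E' : X.Modules)
    (hE : Coh.IsCoh E) (hE' : Coh.IsCoh E') (ι : E ⟶ E') [Mono ι]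
    (pE pE' : ℚ[X]) (hpE : ShStab.IsHilbPoly k X L E pE) (hpE' : ShStab.IsHilbPoly k X L E' pE') :
    StabCat.PolyLE pE pE' ∧
      (topologicalKrullDim (CohB1.support (cokernel ι)) < (d : WithBot ℕ∞) →
        StabCat.alpha d pE = StabCat.alpha d pE') := by
  have hc : Coh.IsCoh (cokernel ι) := Groth.Agent.PerfA.CohSerre.isCoh_cokernel ι hE.1 hE'
  have hS : (ShortComplex.mk ι (cokernel.π ι) (cokernel.condition ι)).ShortExact :=
    { exact := ShortComplex.exact_cokernel ι, mono_f := inferInstance, epi_g := inferInstance }
  have h1 := K848.HB.hp_add k hL.1 hS hE hE' hc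
  dsimp only at h1
  rw [K848.HB.eq_hp k hpE, K848.HB.eq_hp k hpE', h1]
  refine ⟨?_, fun h => ?_⟩
  · rw [K848.Poly.polyLE_iff, add_sub_cancel_left]
    have h2 := K848.HB.hp_nonneg k hL hc
    rwa [K848.Poly.polyLE_iff, sub_zero] at h2
  · rw [K848.Poly.alpha_add, K848.HB.alpha_hp_eq_zero k hL.1 hc h, add_zero]

end Groth.Agent.S16340
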