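import Groth.Statements.S16341
import Groth.Agent.Curves.K328.NormEmb
import Groth.Agent.Desc.DimMap
import Mathlib.AlgebraicGeometry.Morphisms.QuasiFinite
import Groth.Agent.VarietyB.DimTop
import Groth.Agent.CurvesB.CurveRR
import Groth.Agent.FormalA.PullbackQC

set_option autoImplicit false
universe u
open CategoryTheory CategoryTheory.Limits AlgebraicGeometry
open Curves

namespace Groth.Agent.S16341

/-- Let C be a proper scheme over an algebraically closed field k, all of whose irreducible components
have dimension one and whose singularities are at worst nodal. Let π : C' → C be a finite morphism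
from a normal scheme which is an isomorphism over a dense open subset of C whose preimage is dense
in C' (so C' is the normalisation of C). Then for every coherent O_C-module F which is pure of
dimension one there are a coherent, finite locally free O_{C'}-module F' and a monomorphism f : F →
π_*F' whose cokernel has support inside the node set of C. (The published statement is for a stable
curve of genus at least two and phrases the middle term as a direct sum over the irreducible
components; the argument uses only that the curve is nodal and produces the push-forward from the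
normalisation.) -/
theorem result (k : Type u) [Field k] [IsAlgClosed k]
    (C : Scheme.{u}) [C.Over (Spec (CommRingCat.of k))] [IsProper (C ↘ (Spec (CommRingCat.of k)))]
    (hdim : ∀ Z ∈ irreducibleComponents (C : Type u), topologicalKrullDim Z = 1) (hC : Curv2.AtWorstNodal k C)
    (C' : Scheme.{u}) (π : C' ⟶ C) [IsFinite π] (hC' : Pi1.IsNormalScheme C')
    (U : C.Opens) (hU : Dense (U : Set C)) (hU' : Dense ((π ⁻¹ᵁ U : C'.Opens) : Set C')) (hπU : IsIso (π ∣_ U))
    (F : C.Modules) (hF : Coh.IsCoh F) (hpure : ShStab.IsPure C F 1) :
    ∃ (F' : C'.Modules) (f : F ⟶ (Scheme.Modules.pushforward π).obj F'),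
      Coh.IsCoh F' ∧ FlatMod.IsFinLocFree F' ∧ Mono f ∧
        CohB1.support (cokernel f) ⊆ {x : C | Curv2.IsNode k C x} := by
  have hCN : IsNoetherian C := CurvesB.CurveRR.isNoetherian_of_proper k C
  have hd : topologicalKrullDim C ≤ 1 := by
    rw [VarietyB.DimTop.topologicalKrullDim_eq_iSup_irreducibleComponents]
    exact iSup_le fun Z => (hdim Z.1 Z.2).le
  have hred : IsReduced C := K324.NodeNorm.isReduced_of_atWorstNodal C k hC
  have hCN' : IsLocallyNoetherian C' := LocallyOfFiniteType.isLocallyNoetherian π
  have hd' : topologicalKrullDim C' ≤ 1 := by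
    refine le_trans (Desc.DimMap.topologicalKrullDim_le_of_fibres π π.continuous fun x y hxy h => ?_) hd
    have h1 := π.isDiscrete_preimage_singleton (π x)
    have := h1.to_subtype
    have h2 : (⟨x, rfl⟩ : (π ⁻¹' {π x} : Set C')) ⤳ ⟨y, h.symm⟩ :=
      Topology.IsInducing.subtypeVal.specializes_iff.1 hxy
    exact congrArg Subtype.val (specializes_iff_eq.1 h2)
  have hE : Coh.IsCoh ((Scheme.Modules.pullback π).obj F) := FormalA.PullbackQC.isCoh_pullback π F hF
  have hred' := K328.TorsQuot.isReduced_of_isNormalScheme hC'
  refine ⟨K328.NormEmb.tpull π F, K328.NormEmb.emb π F, K328.TorsQuot.isCoh_cokernel_tsub hE,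
    K328.TorsQuot.isFinLocFree_cokernel hC' hd' hE,
    K328.NormEmb.mono_emb hU hπU (K328.PureTF.torsionFree_of_isPure hd hF hpure), fun x hx => ?_⟩
  rcases K324.NodeNorm.normal_or_node C k hd hC x with ⟨h1, h2⟩ | h
  · exfalso
    obtain ⟨y, rfl, hy⟩ := K328.NormPt.exists_goodPt_of_normal (fun w => (hC' w).1) hU hU' hπU x
    exact hx (K328.NormEmb.subsingleton_stalk_cokernel_emb F hy)
  · exact h

end Groth.Agent.S16341
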