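import Groth.Statements.S16343
import Mathlib.Order.Zorn
import Mathlib.Algebra.Group.Subgroup.Lattice
import Mathlib.Algebra.Group.Subgroup.ZPowers.Basic
import Mathlib.Data.Nat.Factorization.Induction
import Mathlib.Data.Int.GCD
import Mathlib.Algebra.Module.Basic
import Mathlib.Tactic.Abel
import Mathlib.Tactic.LinearCombination
import Mathlib.Data.Nat.Prime.Int
import Mathlib.RingTheory.Coprime.Lemmas
import Mathlib.RingTheory.PrincipalIdealDomain
import Mathlib.Algebra.EuclideanDomain.Int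

set_option autoImplicit false
open KatoHom

namespace Groth.Agent.S16343

/-- Factorisation of `n` into a part with all primes in `P` and a part with none in `P`. -/
theorem exists_parts (P : Set ℕ) (n : ℕ) (hn : 0 < n) : ∃ a b : ℕ, n = a * b ∧ 0 < a ∧ 0 < b ∧
    (∀ p : ℕ, p.Prime → p ∣ a → p ∈ P) ∧ (∀ p : ℕ, p.Prime → p ∣ b → p ∉ P) := by
  classical
  induction n using Nat.recOnMul with
  | zero => omega
  | one => exact ⟨1, 1, rfl, Nat.one_pos, Nat.one_pos,
      fun p hp h => absurd (Nat.dvd_one.1 h) hp.one_lt.ne',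
      fun p hp h => absurd (Nat.dvd_one.1 h) hp.one_lt.ne'⟩
  | prime p hp =>
    by_cases h : p ∈ P
    · refine ⟨p, 1, (mul_one p).symm, hp.pos, Nat.one_pos, fun q hq hqp => ?_,
        fun p hp h => absurd (Nat.dvd_one.1 h) hp.one_lt.ne'⟩
      rwa [(Nat.prime_dvd_prime_iff_eq hq hp).1 hqp]
    · refine ⟨1, p, (one_mul p).symm, Nat.one_pos, hp.pos,
        fun p hp h => absurd (Nat.dvd_one.1 h) hp.one_lt.ne', fun q hq hqp => ?_⟩
      rwa [(Nat.prime_dvd_prime_iff_eq hq hp).1 hqp]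
  | mul x y ihx ihy =>
    have hx : 0 < x := Nat.pos_of_mul_pos_right hn
    have hy : 0 < y := Nat.pos_of_mul_pos_left hn
    obtain ⟨a, b, rfl, ha, hb, h1, h2⟩ := ihx hx
    obtain ⟨c, d, rfl, hc, hd, h3, h4⟩ := ihy hy
    refine ⟨a * c, b * d, by ring, Nat.mul_pos ha hc, Nat.mul_pos hb hd, fun p hp h => ?_,
      fun p hp h => ?_⟩
    · rcases (Nat.Prime.dvd_mul hp).1 h with h | h
      · exact h1 p hp h
      · exact h3 p hp h
    · rcases (Nat.Prime.dvd_mul hp).1 h with h | h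
      · exact h2 p hp h
      · exact h4 p hp h

/-- Let P be a set of primes and π : A → T a surjection of abelian groups whose kernel is ℓ-divisible
for every ℓ ∈ P, with T a torsion group; let T(P) be the subgroup of elements of T killed by a
positive integer all of whose prime factors lie in P, and T' the subgroup of elements killed by a
positive integer none of whose prime factors lies in P. Then the preimage π⁻¹(T') is ℓ-divisible for
every ℓ ∈ P, and π has a section s over T(P) for which (d, t) ↦ d + s(t) is a bijection from π⁻¹(T')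
× T(P) onto A, so that A is the direct sum of π⁻¹(T') and a copy of T(P). (The decomposition is
expressed through a section of π over T(P).) -/
theorem result
    {A T : Type*} [AddCommGroup A] [AddCommGroup T] (P : Set ℕ) (hP : ∀ p ∈ P, p.Prime)
    (π : A →+ T) (hπ : Function.Surjective π) (hT : ∀ t : T, ∃ n : ℕ, 0 < n ∧ n • t = 0)
    (hD : ∀ ℓ ∈ P, ∀ x ∈ π.ker, ∃ y ∈ π.ker, ℓ • y = x)
    (TP T' : AddSubgroup T)
    (hTP : ∀ t, t ∈ TP ↔ ∃ n : ℕ, 0 < n ∧ (∀ p : ℕ, p.Prime → p ∣ n → p ∈ P) ∧ n • t = 0)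
    (hT' : ∀ t, t ∈ T' ↔ ∃ n : ℕ, 0 < n ∧ (∀ p : ℕ, p.Prime → p ∣ n → p ∉ P) ∧ n • t = 0) :
    (∀ ℓ ∈ P, ∀ x ∈ T'.comap π, ∃ y ∈ T'.comap π, ℓ • y = x) ∧
    ∃ s : TP →+ A, (∀ t : TP, π (s t) = (t : T)) ∧
      Function.Bijective (fun q : (T'.comap π) × TP => (q.1 : A) + s q.2) := by
  classical
  -- `T'` is `ℓ`-divisible
  have hT'div : ∀ ℓ ∈ P, ∀ t ∈ T', ∃ t' ∈ T', ℓ • t' = t := by
    intro ℓ hℓ t ht
    obtain ⟨n, hn, hnP, hnt⟩ := (hT' t).1 ht
    have hcop : Nat.Coprime ℓ n := by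
      rw [Nat.Prime.coprime_iff_not_dvd (hP ℓ hℓ)]
      exact fun h => hnP ℓ (hP ℓ hℓ) h hℓ
    obtain ⟨u, v, huv⟩ := Nat.isCoprime_iff_coprime.2 hcop
    refine ⟨u • t, T'.zsmul_mem ht u, ?_⟩
    have h1 : (n : ℤ) • t = 0 := by rw [natCast_zsmul, hnt]
    calc ℓ • (u • t) = (u * ℓ) • t := by rw [mul_comm, mul_smul, natCast_zsmul]
      _ = (1 - v * n) • t := by rw [← huv]; ring_nf
      _ = t := by rw [sub_smul, mul_smul, h1, smul_zero, sub_zero, one_smul]
  have hA'div : ∀ ℓ ∈ P, ∀ x ∈ T'.comap π, ∃ y ∈ T'.comap π, ℓ • y = x := by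
    intro ℓ hℓ x hx
    rw [AddSubgroup.mem_comap] at hx
    obtain ⟨t', ht', h⟩ := hT'div ℓ hℓ _ hx
    obtain ⟨a, rfl⟩ := hπ t'
    have hk : x - ℓ • a ∈ π.ker := by
      rw [AddMonoidHom.mem_ker, map_sub, map_nsmul, h, sub_self]
    obtain ⟨d, hd, hd'⟩ := hD ℓ hℓ _ hk
    refine ⟨a + d, ?_, by rw [smul_add, hd']; abel⟩
    rw [AddSubgroup.mem_comap, map_add, (AddMonoidHom.mem_ker).1 hd, add_zero]
    exact ht'
  -- decomposition of `T`
  have hdec : ∀ t : T, ∃ t₁ ∈ TP, ∃ t₂ ∈ T', t = t₁ + t₂ := by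
    intro t
    obtain ⟨n, hn, hnt⟩ := hT t
    obtain ⟨a, b, rfl, ha, hb, haP, hbP⟩ := exists_parts P n hn
    have hcop : Nat.Coprime a b :=
      Nat.Coprime.symm (Nat.coprime_of_dvd (fun p hp h1 h2 => hbP p hp h1 (haP p hp h2)))
    obtain ⟨u, v, huv⟩ := Nat.isCoprime_iff_coprime.2 hcop
    have h1 : ((a : ℤ) * b) • t = 0 := by
      rw [← Nat.cast_mul, natCast_zsmul, hnt]
    refine ⟨(v * b) • t, (hTP _).2 ⟨a, ha, haP, ?_⟩, (u * a) • t, (hT' _).2 ⟨b, hb, hbP, ?_⟩, ?_⟩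
    · rw [← natCast_zsmul, ← mul_smul, show (a : ℤ) * (v * b) = v * (a * b) by ring, mul_smul, h1,
        smul_zero]
    · rw [← natCast_zsmul, ← mul_smul, show (b : ℤ) * (u * a) = u * (a * b) by ring, mul_smul, h1,
        smul_zero]
    · rw [← add_smul, add_comm, huv, one_smul]
  have hdisj : ∀ t : T, t ∈ TP → t ∈ T' → t = 0 := by
    intro t h1 h2
    obtain ⟨a, ha, haP, hat⟩ := (hTP t).1 h1
    obtain ⟨b, hb, hbP, hbt⟩ := (hT' t).1 h2
    have hcop : Nat.Coprime a b :=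
      Nat.Coprime.symm (Nat.coprime_of_dvd (fun p hp h1 h2 => hbP p hp h1 (haP p hp h2)))
    obtain ⟨u, v, huv⟩ := Nat.isCoprime_iff_coprime.2 hcop
    rw [← one_smul ℤ t, ← huv, add_smul, mul_smul, mul_smul, natCast_zsmul, natCast_zsmul, hat, hbt,
      smul_zero, smul_zero, add_zero]
  set A' : AddSubgroup A := T'.comap π with hA'
  refine ⟨hA'div, ?_⟩
  -- Zorn
  obtain ⟨C, hC⟩ := zorn_le₀ {C : AddSubgroup A | ∀ x ∈ C, x ∈ A' → x = 0} (by
    intro c hc hchain
    rcases c.eq_empty_or_nonempty with rfl | hne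
    · refine ⟨⊥, ?_, by simp⟩
      intro x hx _
      exact (AddSubgroup.mem_bot).1 hx
    · refine ⟨sSup c, ?_, fun z hz => le_sSup hz⟩
      intro x hx hxA
      rw [AddSubgroup.mem_sSup_of_directedOn hne hchain.directedOn] at hx
      obtain ⟨D, hD, hxD⟩ := hx
      exact hc hD x hxD hxA)
  have hCd : ∀ x ∈ C, x ∈ A' → x = 0 := hC.1
  have hstep : ∀ ℓ ∈ P, ∀ a : A, ℓ • a ∈ C ⊔ A' → a ∈ C ⊔ A' := by
    intro ℓ hℓ a ha
    obtain ⟨c, hc, a', ha', hca⟩ := AddSubgroup.mem_sup.1 ha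
    obtain ⟨a'', ha'', h''⟩ := hA'div ℓ hℓ a' ha'
    set b := a - a'' with hb
    have hbC : ℓ • b ∈ C := by
      rw [hb, smul_sub, h'', ← hca]
      simpa using hc
    have hab : a = b + a'' := by rw [hb]; abel
    suffices h : b ∈ C ⊔ A' by
      rw [hab]
      exact add_mem h (AddSubgroup.mem_sup_right ha'')
    by_cases hbC' : b ∈ C
    · exact AddSubgroup.mem_sup_left hbC'
    have hnot : ¬ ∀ x ∈ C ⊔ AddSubgroup.zmultiples b, x ∈ A' → x = 0 := by
      intro h
      have := hC.2 (y := C ⊔ AddSubgroup.zmultiples b) h le_sup_left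
      exact hbC' (this (AddSubgroup.mem_sup_right (AddSubgroup.mem_zmultiples b)))
    push Not at hnot
    obtain ⟨x, hx, hxA, hx0⟩ := hnot
    obtain ⟨c', hc', y, hy, hcy⟩ := AddSubgroup.mem_sup.1 hx
    obtain ⟨k, rfl⟩ := AddSubgroup.mem_zmultiples_iff.1 hy
    have hcop : IsCoprime (k : ℤ) (ℓ : ℤ) := by
      rw [isCoprime_comm]
      rw [(Nat.prime_iff_prime_int.1 (hP ℓ hℓ)).irreducible.coprime_iff_not_dvd]
      rintro ⟨m, rfl⟩
      apply hx0
      apply hCd x _ hxA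
      rw [← hcy]
      refine C.add_mem hc' ?_
      rw [mul_comm, mul_smul, natCast_zsmul]
      exact C.zsmul_mem hbC m
    obtain ⟨u, v, huv⟩ := hcop
    have hkb : k • b = x - c' := by rw [← hcy]; abel
    have : b = (u • x) + (v • (ℓ • b) - u • c') := by
      calc b = (u * k + v * ℓ) • b := by rw [huv, one_smul]
        _ = u • (x - c') + v • (ℓ • b) := by rw [add_smul, mul_smul, mul_smul, hkb, natCast_zsmul]
        _ = _ := by rw [smul_sub]; abel
    rw [this]
    exact add_mem (AddSubgroup.mem_sup_right (A'.zsmul_mem hxA u))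
      (AddSubgroup.mem_sup_left (C.sub_mem (C.zsmul_mem hbC v) (C.zsmul_mem hc' u)))
  have hstep' : ∀ m : ℕ, 0 < m → (∀ p : ℕ, p.Prime → p ∣ m → p ∈ P) → ∀ a : A,
      m • a ∈ C ⊔ A' → a ∈ C ⊔ A' := by
    intro m
    induction m using Nat.recOnMul with
    | zero => intro h; omega
    | one => intro _ _ a ha; simpa using ha
    | prime p hp => intro _ h a ha; exact hstep p (h p hp dvd_rfl) a ha
    | mul x y ihx ihy =>
      intro hxy h a ha
      have hx : 0 < x := Nat.pos_of_mul_pos_right hxy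
      have hy : 0 < y := Nat.pos_of_mul_pos_left hxy
      rw [mul_smul] at ha
      exact ihy hy (fun p hp hpd => h p hp (hpd.mul_left x)) a
        (ihx hx (fun p hp hpd => h p hp (hpd.mul_right y)) _ ha)
  have htop : ∀ a : A, a ∈ C ⊔ A' := by
    intro a
    obtain ⟨t₁, ht₁, t₂, ht₂, h⟩ := hdec (π a)
    obtain ⟨m, hm, hmP, hmt⟩ := (hTP _).1 ht₁
    refine hstep' m hm hmP a (AddSubgroup.mem_sup_right ?_)
    rw [hA', AddSubgroup.mem_comap, map_nsmul, h, smul_add, hmt, zero_add]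
    exact T'.nsmul_mem ht₂ m
  have hCTP : ∀ c ∈ C, π c ∈ TP := by
    intro c hc
    obtain ⟨t₁, ht₁, t₂, ht₂, h⟩ := hdec (π c)
    obtain ⟨m, hm, hmP, hmt⟩ := (hTP _).1 ht₁
    have h1 : m • c ∈ A' := by
      rw [hA', AddSubgroup.mem_comap, map_nsmul, h, smul_add, hmt, zero_add]
      exact T'.nsmul_mem ht₂ m
    have h2 := hCd _ (C.nsmul_mem hc m) h1
    exact (hTP _).2 ⟨m, hm, hmP, by rw [← map_nsmul, h2, map_zero]⟩
  -- the isomorphism `C ≅ TP`
  let φ : C →+ TP := (π.comp C.subtype).codRestrict TP (fun c => hCTP c c.2)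
  have hφ : ∀ c : C, ((φ c : TP) : T) = π c := fun c => rfl
  have hφinj : Function.Injective φ := by
    rw [injective_iff_map_eq_zero]
    intro c hc
    have h1 : π (c : A) = 0 := by rw [← hφ, hc]; rfl
    have h2 : (c : A) ∈ A' := by
      rw [hA', AddSubgroup.mem_comap, h1]
      exact T'.zero_mem
    exact Subtype.ext (hCd c c.2 h2)
  have hφsurj : Function.Surjective φ := by
    intro t
    obtain ⟨a, ha⟩ := hπ t
    obtain ⟨c, hc, a', ha', h⟩ := AddSubgroup.mem_sup.1 (htop a)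
    refine ⟨⟨c, hc⟩, Subtype.ext ?_⟩
    rw [hφ]
    have h1 : π a' = 0 := by
      apply hdisj
      · have : π a' = t - π c := by rw [← ha, ← h, map_add]; abel
        rw [this]
        exact TP.sub_mem t.2 (hCTP c hc)
      · exact ha'
    change π c = t
    rw [← ha, ← h, map_add, h1, add_zero]
  let e : C ≃+ TP := AddEquiv.ofBijective φ ⟨hφinj, hφsurj⟩
  have he : ∀ t : TP, π (e.symm t : A) = t := by
    intro t
    have : e (e.symm t) = t := e.apply_symm_apply t
    conv_rhs => rw [← this]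
    rfl
  refine ⟨C.subtype.comp e.symm.toAddMonoidHom, he, ?_, ?_⟩
  · rintro ⟨⟨x, hx⟩, t⟩ ⟨⟨y, hy⟩, t'⟩ h
    change x + (e.symm t : A) = y + (e.symm t' : A) at h
    have h1 : ((e.symm t - e.symm t' : C) : A) = y - x := by
      rw [AddSubgroup.coe_sub]
      rw [sub_eq_sub_iff_add_eq_add, add_comm, h]
    have h2 : ((e.symm t - e.symm t' : C) : A) = 0 :=
      hCd _ (e.symm t - e.symm t').2 (by rw [h1]; exact A'.sub_mem hy hx)
    have h3 : e.symm t = e.symm t' := by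
      rw [← sub_eq_zero]; exact Subtype.ext h2
    have h4 : x = y := by
      rw [h3] at h
      exact add_right_cancel h
    subst h4
    have h5 := e.symm.injective h3
    subst h5
    rfl
  · intro a
    obtain ⟨c, hc, a', ha', h⟩ := AddSubgroup.mem_sup.1 (htop a)
    refine ⟨(⟨a', ha'⟩, e ⟨c, hc⟩), ?_⟩
    change a' + (e.symm (e ⟨c, hc⟩) : A) = a
    rw [e.symm_apply_apply]
    change a' + c = a
    rw [add_comm, h]

end Groth.Agent.S16343
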