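import Groth.Statements.S16344
import Mathlib.Topology.Compactness.Compact
import Mathlib.Topology.Separation.Basic

set_option autoImplicit false
universe u v
open IdeleMod

namespace Groth.Agent.S16344

/-- An inverse system of nonempty closed subsets of compact Hausdorff spaces has a compatible family. -/
theorem exists_compatible {ι : Type u} [Preorder ι] [IsDirected ι (· ≤ ·)]
    (G : ι → Type v) [∀ i, TopologicalSpace (G i)]
    [∀ i, CompactSpace (G i)] [∀ i, T2Space (G i)]
    (f : ∀ ⦃i j : ι⦄, i ≤ j → (G j → G i)) (hf : ∀ i j (h : i ≤ j), Continuous (f h))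
    (hid : ∀ i (x : G i), f (le_refl i) x = x)
    (hcomp : ∀ i j k (hij : i ≤ j) (hjk : j ≤ k) (x : G k), f hij (f hjk x) = f (hij.trans hjk) x)
    (S : ∀ i, Set (G i)) (hS : ∀ i, IsClosed (S i)) (hne : ∀ i, (S i).Nonempty)
    (hmap : ∀ i j (h : i ≤ j), ∀ x ∈ S j, f h x ∈ S i) :
    ∃ z : ∀ i, G i, (∀ i j (h : i ≤ j), f h (z j) = z i) ∧ ∀ i, z i ∈ S i := by
  classical
  rcases isEmpty_or_nonempty ι with hι | hι
  · exact ⟨fun i => isEmptyElim i, fun i => isEmptyElim i, fun i => isEmptyElim i⟩
  let C : ι → Set (∀ i, G i) := fun j => {z | (∀ i (h : i ≤ j), f h (z j) = z i) ∧ z j ∈ S j}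
  have hCcl : ∀ j, IsClosed (C j) := by
    intro j
    refine IsClosed.inter ?_ ((hS j).preimage (continuous_apply j))
    have : {z : ∀ i, G i | ∀ i (h : i ≤ j), f h (z j) = z i} =
        ⋂ i, ⋂ (h : i ≤ j), {z : ∀ i, G i | f h (z j) = z i} := by
      ext z; simp
    change IsClosed {z : ∀ i, G i | ∀ i (h : i ≤ j), f h (z j) = z i}
    rw [this]
    exact isClosed_iInter fun i => isClosed_iInter fun h =>
      isClosed_eq ((hf i j h).comp (continuous_apply j)) (continuous_apply i)
  have hCne : ∀ j, (C j).Nonempty := by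
    intro j
    obtain ⟨x, hx⟩ := hne j
    refine ⟨fun i => if h : i ≤ j then f h x else (hne i).some, ?_, ?_⟩
    · intro i h
      simp only [le_refl, dif_pos, h, hid]
    · simp only [le_refl, dif_pos, hid]
      exact hx
  have hdir : Directed (· ⊇ ·) C := by
    intro a b
    obtain ⟨c, hac, hbc⟩ := exists_ge_ge a b
    have hanti : ∀ {i j : ι}, i ≤ j → C j ⊆ C i := by
      intro i j hij z hz
      refine ⟨fun l hl => ?_, ?_⟩
      · rw [← hz.1 i hij, hcomp, hz.1]
      · rw [← hz.1 i hij]
        exact hmap _ _ hij _ hz.2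
    exact ⟨c, hanti hac, hanti hbc⟩
  obtain ⟨z, hz⟩ := IsCompact.nonempty_iInter_of_directed_nonempty_isCompact_isClosed C hdir hCne
    (fun j => (hCcl j).isCompact) hCcl
  rw [Set.mem_iInter] at hz
  exact ⟨z, fun i j h => (hz j).1 i h, fun i => (hz i).2⟩

/-- Let (G_i) be an inverse system, indexed by a directed preorder, of compact Hausdorff topological
abelian groups with continuous surjective transition maps, let G be its limit (the group of
compatible families) and let m be a natural number. Then the canonical map G/mG → lim G_i/mG_i is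
bijective: a compatible family that lies in mG_i at every index is m times a compatible family
(injectivity), and every family that is compatible modulo m agrees modulo m, index by index, with a
compatible family (surjectivity). -/
theorem result
    {ι : Type u} [Preorder ι] [IsDirected ι (· ≤ ·)]
    (G : ι → Type v) [∀ i, AddCommGroup (G i)] [∀ i, TopologicalSpace (G i)]
    [∀ i, IsTopologicalAddGroup (G i)] [∀ i, CompactSpace (G i)] [∀ i, T2Space (G i)]
    (f : ∀ ⦃i j : ι⦄, i ≤ j → (G j →+ G i)) (hf : ∀ i j (h : i ≤ j), Continuous (f h))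
    (hid : ∀ i (x : G i), f (le_refl i) x = x)
    (hcomp : ∀ i j k (hij : i ≤ j) (hjk : j ≤ k) (x : G k), f hij (f hjk x) = f (hij.trans hjk) x)
    (hsurj : ∀ i j (h : i ≤ j), Function.Surjective (f h)) (m : ℕ) :
    (∀ x : ∀ i, G i, (∀ i j (h : i ≤ j), f h (x j) = x i) → (∀ i, ∃ y : G i, m • y = x i) →
        ∃ z : ∀ i, G i, (∀ i j (h : i ≤ j), f h (z j) = z i) ∧ ∀ i, m • z i = x i) ∧
    (∀ y : ∀ i, G i, (∀ i j (h : i ≤ j), ∃ w : G i, f h (y j) - y i = m • w) →
        ∃ x : ∀ i, G i, (∀ i j (h : i ≤ j), f h (x j) = x i) ∧ ∀ i, ∃ w : G i, x i - y i = m • w) := by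
  refine ⟨?_, ?_⟩
  · intro x hx hy
    exact exists_compatible G (fun i j h => f h) hf hid hcomp (fun i => {y | m • y = x i})
      (fun i => isClosed_eq (continuous_const_smul m) continuous_const) (fun i => hy i)
      (fun i j h y hy => by
        change m • f h y = x i
        rw [← map_nsmul]
        have : m • y = x j := hy
        rw [this, hx])
  · intro y hy
    have := exists_compatible G (fun i j h => f h) hf hid hcomp
      (fun i => Set.range (fun w : G i => y i + m • w))
      (fun i => (isCompact_range (continuous_const.add (continuous_const_smul m))).isClosed)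
      (fun i => Set.range_nonempty_iff_nonempty.2 ⟨0⟩)
      (fun i j h => by
        rintro _ ⟨w, rfl⟩
        obtain ⟨w', hw'⟩ := hy i j h
        refine ⟨w' + f h w, ?_⟩
        simp only [map_add, map_nsmul, smul_add]
        rw [← hw']
        abel)
    obtain ⟨x, hx, hx'⟩ := this
    refine ⟨x, hx, fun i => ?_⟩
    obtain ⟨w, hw⟩ := hx' i
    refine ⟨w, ?_⟩
    simp only at hw
    rw [← hw]
    abel

end Groth.Agent.S16344
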