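import Groth.Statements.S16346
import Mathlib.Tactic.Abel
import Mathlib.Tactic.Ring
import Mathlib.Data.Nat.Factorization.Induction
import Mathlib.Algebra.Module.Basic

set_option autoImplicit false
universe u v
open KatoHom

namespace Groth.Agent.S16346

/-- Let P be a set of primes and I_P the set of positive integers all of whose prime factors lie in P.
Let A be an abelian group, (B_n)_{n ∈ I_P} an inverse system of abelian groups with transition maps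
B_n → B_m for m ∣ n, and φ_n : A → B_n homomorphisms vanishing on nA and compatible with the
transition maps, so that they induce φ̂ : Â → B̂ on the limits Â = lim A/nA and B̂ = lim B_n (limits
taken as compatible families). Suppose some N ∈ I_P kills the torsion subgroup of B̂ and kills the
kernel of φ̂ (the latter meaning: a compatible family of residues (a_n) with φ_n(a_n) = 0 for all n
has N a_n ∈ nA for all n). Then the subgroup ⋂_{n ∈ I_P} nA is ℓ-divisible for every ℓ ∈ P, and it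
contains every subgroup of A that is ℓ-divisible for all ℓ ∈ P; that is, it is the largest
P-divisible subgroup of A. -/
theorem result
    {A : Type u} [AddCommGroup A] (P : Set ℕ) (hP : ∀ p ∈ P, p.Prime)
    (IP : Set ℕ) (hIP : ∀ n, n ∈ IP ↔ 0 < n ∧ ∀ p : ℕ, p.Prime → p ∣ n → p ∈ P)
    (B : IP → Type v) [∀ n, AddCommGroup (B n)]
    (g : ∀ ⦃m n : IP⦄, (m : ℕ) ∣ (n : ℕ) → (B n →+ B m))
    (hgid : ∀ (n : IP) (b : B n), g (dvd_refl (n : ℕ)) b = b)
    (hgcomp : ∀ (k m n : IP) (hkm : (k : ℕ) ∣ (m : ℕ)) (hmn : (m : ℕ) ∣ (n : ℕ)) (b : B n),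
      g hkm (g hmn b) = g (hkm.trans hmn) b)
    (φ : ∀ n : IP, A →+ B n) (hφ : ∀ (n : IP) (a : A), φ n ((n : ℕ) • a) = 0)
    (hφg : ∀ (m n : IP) (h : (m : ℕ) ∣ (n : ℕ)) (a : A), g h (φ n a) = φ m a)
    (N : ℕ) (hN : N ∈ IP)
    (htor : ∀ b : ∀ n : IP, B n, (∀ (m n : IP) (h : (m : ℕ) ∣ (n : ℕ)), g h (b n) = b m) →
      (∃ k : ℕ, 0 < k ∧ ∀ n, k • b n = 0) → ∀ n, N • b n = 0)
    (hker : ∀ a : IP → A, (∀ m n : IP, (m : ℕ) ∣ (n : ℕ) → ∃ c : A, a n - a m = (m : ℕ) • c) →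
      (∀ n, φ n (a n) = 0) → ∀ n : IP, ∃ c : A, N • a n = (n : ℕ) • c) :
    (∀ ℓ ∈ P, ∀ x : A, (∀ n ∈ IP, ∃ y : A, x = n • y) →
        ∃ y : A, (∀ n ∈ IP, ∃ z : A, y = n • z) ∧ ℓ • y = x) ∧
    (∀ H : AddSubgroup A, (∀ ℓ ∈ P, ∀ x ∈ H, ∃ y ∈ H, ℓ • y = x) →
        ∀ x ∈ H, ∀ n ∈ IP, ∃ y : A, x = n • y) := by
  have hmul : ∀ {a b : ℕ}, a ∈ IP → b ∈ IP → a * b ∈ IP := by
    intro a b ha hb
    rw [hIP] at ha hb ⊢
    refine ⟨Nat.mul_pos ha.1 hb.1, fun p hp hpd => ?_⟩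
    rcases (Nat.Prime.dvd_mul hp).1 hpd with h | h
    · exact ha.2 p hp h
    · exact hb.2 p hp h
  have hone : 1 ∈ IP := by
    rw [hIP]
    refine ⟨Nat.one_pos, fun p hp hpd => ?_⟩
    exact absurd (Nat.dvd_one.1 hpd) hp.one_lt.ne'
  have hprime : ∀ ℓ ∈ P, ℓ ∈ IP := by
    intro ℓ hℓ
    rw [hIP]
    refine ⟨(hP ℓ hℓ).pos, fun p hp hpd => ?_⟩
    rwa [(Nat.prime_dvd_prime_iff_eq hp (hP ℓ hℓ)).1 hpd]
  -- torsion elements: `N² a` lies in all `nA`
  have htors : ∀ a : A, (∃ k : ℕ, 0 < k ∧ k • a = 0) → ∀ n ∈ IP, ∃ c : A, (N * N) • a = n • c := by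
    rintro a ⟨k, hk, hka⟩ n hn
    have h1 : ∀ n : IP, N • φ n a = 0 := by
      refine htor (fun n => φ n a) (fun m n h => hφg m n h a) ⟨k, hk, fun n => ?_⟩
      rw [← map_nsmul, hka, map_zero]
    have h2 := hker (fun _ => N • a) (fun m n _ => ⟨0, by simp⟩)
      (fun n => by rw [map_nsmul]; exact h1 n) ⟨n, hn⟩
    obtain ⟨c, hc⟩ := h2
    exact ⟨c, by rw [mul_smul]; exact hc⟩
  refine ⟨?_, ?_⟩
  · intro ℓ hℓ x hx
    have hNN : N * N ∈ IP := hmul hN hN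
    have hpos : 0 < ℓ * (N * N) := ((hIP _).1 (hmul (hprime ℓ hℓ) hNN)).1
    obtain ⟨w, hw⟩ := hx (ℓ * (N * N)) (hmul (hprime ℓ hℓ) hNN)
    refine ⟨(N * N) • w, fun n hn => ?_, by rw [hw, mul_smul ℓ]⟩
    obtain ⟨w', hw'⟩ := hx (ℓ * (N * N) * n) (hmul (hmul (hprime ℓ hℓ) hNN) hn)
    have h0 : (ℓ * (N * N)) • (w - n • w') = 0 := by
      rw [smul_sub, ← mul_smul, ← hw, ← hw', sub_self]
    obtain ⟨c, hc⟩ := htors _ ⟨_, hpos, h0⟩ n hn
    refine ⟨c + (N * N) • w', ?_⟩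
    rw [smul_add, ← hc, smul_sub, smul_comm n (N * N) w']
    abel
  · intro H hH x hx n hn
    rw [hIP] at hn
    obtain ⟨hn0, hn⟩ := hn
    suffices h : ∀ n : ℕ, 0 < n → (∀ p : ℕ, p.Prime → p ∣ n → p ∈ P) → ∀ x ∈ H,
        ∃ y ∈ H, x = n • y by
      obtain ⟨y, _, hy⟩ := h n hn0 hn x hx
      exact ⟨y, hy⟩
    clear hn0 hn hx x n
    intro n
    induction n using Nat.recOnMul with
    | zero => intro h; omega
    | one => intro _ _ x hx; exact ⟨x, hx, by simp⟩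
    | prime p hp =>
      intro _ h x hx
      obtain ⟨y, hy, hy'⟩ := hH p (h p hp dvd_rfl) x hx
      exact ⟨y, hy, hy'.symm⟩
    | mul a b iha ihb =>
      intro hab h x hx
      have ha : 0 < a := Nat.pos_of_mul_pos_right hab
      have hb : 0 < b := Nat.pos_of_mul_pos_left hab
      obtain ⟨y, hy, hy'⟩ := iha ha (fun p hp hpd => h p hp (hpd.mul_right b)) x hx
      obtain ⟨z, hz, hz'⟩ := ihb hb (fun p hp hpd => h p hp (hpd.mul_left a)) y hy
      exact ⟨z, hz, by rw [hy', hz', mul_smul]⟩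

end Groth.Agent.S16346
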