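import Groth.Statements.S16347
import Groth.Agent.Cubic.K655.SingPt
import Groth.Agent.Cubic.K656.Bridge
import Mathlib.Algebra.MvPolynomial.Nilpotent
import Mathlib.Algebra.MvPolynomial.NoZeroDivisors

set_option autoImplicit false
universe u
open Cubic

namespace Groth.Agent.S16347

open K656.Trilin K656.Eckardt K656.Bridge K655.Plane K655.Tritan K655.Through K655.Factor
  K655.SingPt K655.Pfaff

private theorem lin_ne {K : Type u} [Field K] {n : ℕ} {φ : (Fin n → K) →ₗ[K] K} (hφ : φ ≠ 0) :
    lin φ ≠ 0 := by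
  intro h
  apply hφ
  refine LinearMap.ext fun v => ?_
  rw [← eval_lin, h, map_zero, LinearMap.zero_apply]

private theorem false_of_dvd {K : Type u} [Field K] {n : ℕ} {φ : (Fin n → K) →ₗ[K] K}
    (hφ : φ ≠ 0) {F : MvPolynomial (Fin n) K} (hF : F.IsHomogeneous 3) (hirr : Irreducible F)
    (h : lin φ ∣ F) : False := by
  obtain ⟨G, hG⟩ := h
  have hF3 : F.totalDegree = 3 := hF.totalDegree hirr.ne_zero
  have h1 : (lin φ).totalDegree = 1 := (lin_hom φ).totalDegree (lin_ne hφ)
  have hG0 : G ≠ 0 := by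
    rintro rfl
    exact hirr.ne_zero (by rw [hG, mul_zero])
  have h2 : F.totalDegree = (lin φ).totalDegree + G.totalDegree := by
    rw [hG, MvPolynomial.totalDegree_mul_of_isDomain (lin_ne hφ) hG0]
  rcases hirr.isUnit_or_isUnit hG with hu | hu
  · have := (MvPolynomial.isUnit_iff_totalDegree_of_isReduced.mp hu).2
    omega
  · have := (MvPolynomial.isUnit_iff_totalDegree_of_isReduced.mp hu).2
    omega

/-- Let K be an algebraically closed field of characteristic zero and S = V(F) ⊂ P^3_K a cubic surface,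
F a homogeneous cubic in four variables which is irreducible and not a cone (there is no nonzero
vector v with Σ_i v_i ∂F/∂x_i = 0). If a is a singular point of S (a nonzero vector with F(a) = 0
and every ∂F/∂x_i(a) = 0), then at most six lines through a lie on S; here a line through a on S is
a 2-dimensional subspace of K^4 containing a on which F vanishes identically. -/
theorem result (K : Type u) [Field K] [IsAlgClosed K] [CharZero K]
    (F : MvPolynomial (Fin 4) K) (hF : F.IsHomogeneous 3) (hirr : Irreducible F)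
    (hcone : ¬ ∃ v : Fin 4 → K, v ≠ 0 ∧ ∑ i : Fin 4, v i • MvPolynomial.pderiv i F = 0)
    (a : Fin 4 → K) (ha : a ≠ 0) (hFa : MvPolynomial.eval a F = 0)
    (hsing : ∀ i : Fin 4, MvPolynomial.eval a (MvPolynomial.pderiv i F) = 0) :
    {U : Submodule K (Fin 4 → K) | a ∈ U ∧ Module.finrank K ↥U = 2 ∧ ∀ u ∈ U, MvPolynomial.eval u F = 0}.encard ≤ 6 := by
  have hT := tri_sym F
  have haa : ∀ v, tri F a a v = 0 := by
    intro v
    by_contra hc
    obtain ⟨i, hi⟩ := (exists_pderiv_ne_zero_iff hF a).mpr ⟨v, hc⟩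
    exact hi (hsing i)
  have hne : ∃ v, tri F a v v ≠ 0 := by
    by_contra hc
    push Not at hc
    apply hcone
    refine ⟨a, ha, MvPolynomial.funext fun x => ?_⟩
    rw [map_sum, map_zero]
    have h3 := tri_pderiv hF x a
    rw [hT.rot' x x a, hc x, mul_zero] at h3
    rw [h3]
    refine Finset.sum_congr rfl fun i _ => ?_
    rw [MvPolynomial.smul_eq_C_mul, map_mul, MvPolynomial.eval_C]
  obtain ⟨C, -, hC, haC, hdec⟩ := exists_compl (k := K) (V := Fin 4 → K) (n := 3) (H := ⊤)
    (by rw [finrank_top]; exact finrank4) ha trivial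
  refine encard_le_of_forall_not _ 6 fun g hg hgU => ?_
  choose w hwK hwU hwv hw0 hUw using fun i => exists_dir ha hdec (hgU i).2.1 (hgU i).1 le_top
  have hnp : ∀ i j, i ≠ j → w j ∉ Submodule.span K {w i} := fun i j hij =>
    dir_notMem (hw0 j) (hUw i) (hUw j) (fun e => hij (hg e))
  have hTU : ∀ i, ∀ u ∈ g i, tri F u u u = 0 := fun i u hu => by
    rw [tri_diag hF]; exact (hgU i).2.2 u hu
  have hw3 : ∀ i, tri F (w i) (w i) (w i) = 0 := fun i => hTU i _ (hwU i)
  have hw2 : ∀ i, tri F a (w i) (w i) = 0 := fun i =>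
    hT.eq_zero_of_diag (g i) (hTU i) (hgU i).1 (hwU i) (hwU i)
  obtain ⟨φ, hφ, hφF⟩ := hyperplane_of_seven finrank4 hT haa hne hC haC
    (fun v => hdec v trivial) w hwK hw0 hnp hw2 hw3
  have hmem := mem_span_lin hφ F fun x hx => by rw [← tri_diag hF]; exact hφF x hx
  exact false_of_dvd hφ hF hirr (Ideal.mem_span_singleton.mp hmem)

end Groth.Agent.S16347
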