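import Groth.Statements.S16350
import Groth.Agent.Cubic.K752.Ext

set_option autoImplicit false
universe u
open Cubic

namespace Groth.Agent.S16350

/-- Let k be a field of characteristic zero with algebraic closure K and S = V(F) ⊂ P^3 the cubic
surface of a homogeneous cubic F ∈ k[x_0, …, x_3] which is geometrically irreducible and not a cone
(no nonzero vector v has Σ_i v_i ∂F/∂x_i = 0). Then S admits a linear Pfaffian representation over
some intermediate field k ⊆ E ⊆ K of degree [E : k] ≤ 3. A linear Pfaffian representation over E is
a 6 × 6 alternating matrix M of linear forms in E[x_0, …, x_3] whose Pfaffian is a nonzero constant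
multiple of F; since the determinant of an alternating matrix is the square of its Pfaffian and the
polynomial ring is factorial with no nonconstant units, this is the same as det M = c · F^2 for a
nonzero constant c, which is how it is written here. (The published statement adds that E may be
taken inside the reals when k is a subfield of the reals; that clause is not part of this row.) -/
theorem result (k : Type u) [Field k] [CharZero k]
    (F : MvPolynomial (Fin 4) k) (hF : F.IsHomogeneous 3)
    (hirr : Irreducible (MvPolynomial.map (algebraMap k (AlgebraicClosure k)) F))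
    (hcone : ¬ ∃ v : Fin 4 → k, v ≠ 0 ∧ ∑ i : Fin 4, v i • MvPolynomial.pderiv i F = 0) :
    ∃ E : IntermediateField k (AlgebraicClosure k), FiniteDimensional k ↥E ∧ Module.finrank k ↥E ≤ 3 ∧
      ∃ M : Matrix (Fin 6) (Fin 6) (MvPolynomial (Fin 4) ↥E), (∀ i j, (M i j).IsHomogeneous 1) ∧ M.transpose = -M ∧ (∀ i, M i i = 0) ∧
        ∃ c : ↥E, c ≠ 0 ∧ M.det = MvPolynomial.C c * (MvPolynomial.map (algebraMap k ↥E) F) ^ 2 := by
  have hF' := hF.map (algebraMap k (AlgebraicClosure k))
  have hN := K656.TPointMain.noPlane_of_irreducible hF' hirr
  have hC : K656.TPoint.NoCone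
      (K656.Trilin.tri (MvPolynomial.map (algebraMap k (AlgebraicClosure k)) F)) :=
    K752.Rep.noCone_map (K656.TPointMain.noCone_tri hF hcone)
  rcases K752.Ext.point_or_line hF hN hC with ⟨a, ha0, ha, hTP⟩ | ⟨u, w, hu, h⟩
  · refine ⟨⊥, inferInstance, ?_, K752.Ext.rep_point hF hN hC ha0 ha hTP⟩
    rw [IntermediateField.finrank_bot]
    norm_num
  · have hdeg := K752.Ext.linePoly_natDegree (w := w) hF hu
    obtain ⟨r, hr⟩ := IsAlgClosed.exists_aeval_eq_zero (AlgebraicClosure k)
      (K752.Ext.linePoly F u w) (by
        rw [Polynomial.degree_eq_natDegree (by rintro h0; rw [h0] at hdeg; simp at hdeg), hdeg]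
        norm_num)
    obtain ⟨h1, h2⟩ := K752.Ext.finrank_adjoin_le hdeg hr
    refine ⟨IntermediateField.adjoin k {r}, h1, h2, ?_⟩
    refine K752.Ext.rep_line hF hN hC h
      (r := (⟨r, IntermediateField.mem_adjoin_simple_self k r⟩ : IntermediateField.adjoin k {r})) ?_
    apply (algebraMap (IntermediateField.adjoin k {r}) (AlgebraicClosure k)).injective
    rw [← Polynomial.aeval_algebraMap_apply, map_zero]
    exact hr

end Groth.Agent.S16350
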