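import Groth.Statements.S16351
import Mathlib.Algebra.Module.Submodule.Union
import Mathlib.LinearAlgebra.Matrix.Determinant.Basic
import Mathlib.LinearAlgebra.Matrix.NonsingularInverse
import Mathlib.LinearAlgebra.Matrix.ToLin
import Mathlib.Algebra.CharZero.Infinite
import Mathlib.Algebra.MvPolynomial.Rename

set_option autoImplicit false
universe u
open Cubic

namespace Groth.Agent.S16351

/-- The linear functional `t ↦ det (t_i, b_i)_{i ≠ j}`. -/
private noncomputable def phi {K : Type u} [Field K] (b : Fin 5 → (Fin 3 → K)) (j : Fin 5) :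
    (Fin 5 → K) →ₗ[K] K :=
  ∑ i : Fin 4, ((-1) ^ (i : ℕ) *
    Matrix.det (Matrix.of fun (r : Fin 3) (s : Fin 3) => b (j.succAbove (i.succAbove r)) s)) •
      LinearMap.proj (j.succAbove i)

private lemma det_eq_phi {K : Type u} [Field K] (b : Fin 5 → (Fin 3 → K)) (j : Fin 5)
    (t : Fin 5 → K) :
    Matrix.det (Matrix.of fun i : Fin 4 =>
      (Fin.cons (t (j.succAbove i)) (b (j.succAbove i)) : Fin 4 → K)) = phi b j t := by
  rw [Matrix.det_succ_column_zero]
  simp only [phi, LinearMap.coe_sum, Finset.sum_apply, LinearMap.smul_apply, LinearMap.proj_apply,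
    smul_eq_mul]
  refine Finset.sum_congr rfl fun i _ => ?_
  have : (Matrix.of fun i : Fin 4 =>
      (Fin.cons (t (j.succAbove i)) (b (j.succAbove i)) : Fin 4 → K)).submatrix i.succAbove Fin.succ
      = Matrix.of fun (r : Fin 3) (s : Fin 3) => b (j.succAbove (i.succAbove r)) s := by
    ext r s
    simp
  rw [this]
  simp
  ring

/-- Let K be a field of characteristic zero and S = V(F) ⊂ P^3_K a cone over a plane cubic curve C,
normalised so that the vertex is [1 : 0 : 0 : 0], i.e. F is a homogeneous cubic in K[x_0, …, x_3]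
not involving x_0 and C = V(F) in the plane P^2 of the coordinates x_1, x_2, x_3. If C has five
K-rational points no three of which are collinear, then S has five K-rational points in general
position (no four coplanar: any four representing vectors linearly independent). -/
theorem result (K : Type u) [Field K] [CharZero K]
    (G : MvPolynomial (Fin 3) K) (hG : G.IsHomogeneous 3) (F : MvPolynomial (Fin 4) K)
    (hF : F = MvPolynomial.rename Fin.succ G)
    (b : Fin 5 → (Fin 3 → K)) (hb : ∀ j : Fin 5, MvPolynomial.eval (b j) G = 0)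
    (h3 : ∀ i j l : Fin 5, i ≠ j → j ≠ l → i ≠ l → LinearIndependent K ![b i, b j, b l]) :
    ∃ p : Fin 5 → (Fin 4 → K), (∀ j : Fin 5, MvPolynomial.eval (p j) F = 0) ∧
      ∀ j : Fin 5, LinearIndependent K (fun i : Fin 4 => p (j.succAbove i)) := by
  have key : ∀ j : Fin 5, ∃ t : Fin 5 → K, phi b j t ≠ 0 := by
    intro j
    refine ⟨Pi.single (j.succAbove 0) 1, ?_⟩
    have h := h3 (j.succAbove 1) (j.succAbove 2) (j.succAbove 3)
      (by simp)
      (by simp only [ne_eq, Fin.succAbove_right_inj]; decide)
      (by simp only [ne_eq, Fin.succAbove_right_inj]; decide)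
    have hdet : Matrix.det (Matrix.of fun (r : Fin 3) (s : Fin 3) =>
        b (j.succAbove ((0 : Fin 4).succAbove r)) s) ≠ 0 := by
      have h' : LinearIndependent K (Matrix.of fun (r : Fin 3) (s : Fin 3) =>
        b (j.succAbove ((0 : Fin 4).succAbove r)) s).row := by
        convert h using 1
        ext r s
        fin_cases r <;> rfl
      rw [Matrix.linearIndependent_rows_iff_isUnit] at h'
      exact ((Matrix.isUnit_iff_isUnit_det _).1 h').ne_zero
    simp only [phi, LinearMap.coe_sum, Finset.sum_apply, LinearMap.smul_apply,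
      LinearMap.proj_apply, smul_eq_mul]
    rw [Finset.sum_eq_single 0]
    · simpa using hdet
    · intro i _ hi
      rw [Pi.single_eq_of_ne, mul_zero]
      simpa [Fin.succAbove_right_inj] using hi
    · simp
  have hinf : Infinite K := CharZero.infinite K
  obtain ⟨t, ht⟩ := Module.Dual.exists_forall_ne_zero_of_forall_exists (phi b) key
  refine ⟨fun j => Fin.cons (t j) (b j), fun j => ?_, fun j => ?_⟩
  · rw [hF, MvPolynomial.eval_rename]
    exact hb j
  · have h1 : IsUnit (Matrix.of fun i : Fin 4 =>
      (Fin.cons (t (j.succAbove i)) (b (j.succAbove i)) : Fin 4 → K)) := by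
      rw [Matrix.isUnit_iff_isUnit_det, det_eq_phi]
      exact (ht j).isUnit
    rw [← Matrix.linearIndependent_rows_iff_isUnit] at h1
    exact h1

end Groth.Agent.S16351
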