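import Groth.Statements.S16352
import Groth.Agent.Cubic.K655.Polar
import Groth.Agent.Cubic.K656.Bridge

set_option autoImplicit false
universe u
open Cubic

namespace Groth.Agent.S16352

open K656.Trilin K656.Eckardt K656.Bridge K655.Polar K655.Pfaff K655.Factor

/-- Let K be an algebraically closed field of characteristic zero and S = V(F) ⊂ P^3_K a cubic surface
which is irreducible and not a cone (no nonzero vector v has Σ_i v_i ∂F/∂x_i = 0). Let a be a smooth
point of S which is not a T-point: with ℓ = Σ_i ∂F/∂x_i(a) · x_i the (nonzero) linear form of the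
tangent plane T_a S, F is not congruent modulo ℓ to a product of three linear forms (i.e. T_a S ∩ S
is not set-theoretically a union of lines). Let P = Σ_i a_i ∂F/∂x_i be the first polar of a. Then
V(P) ∩ T_a S is a union of at most two lines through a, and every line through a lying on S lies in
V(P) ∩ T_a S; lines are 2-dimensional subspaces of K^4 and T_a S is the 3-dimensional subspace where
ℓ vanishes. -/
theorem result (K : Type u) [Field K] [IsAlgClosed K] [CharZero K]
    (F : MvPolynomial (Fin 4) K) (hF : F.IsHomogeneous 3) (hirr : Irreducible F)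
    (hcone : ¬ ∃ v : Fin 4 → K, v ≠ 0 ∧ ∑ i : Fin 4, v i • MvPolynomial.pderiv i F = 0)
    (a : Fin 4 → K) (ha : a ≠ 0) (hFa : MvPolynomial.eval a F = 0)
    (hsm : ∃ i : Fin 4, MvPolynomial.eval a (MvPolynomial.pderiv i F) ≠ 0)
    (ℓ : MvPolynomial (Fin 4) K)
    (hℓ : ℓ = ∑ i : Fin 4, MvPolynomial.C (MvPolynomial.eval a (MvPolynomial.pderiv i F)) * MvPolynomial.X i)
    (hT : ¬ ∃ L₁ L₂ L₃ : MvPolynomial (Fin 4) K, L₁.IsHomogeneous 1 ∧ L₂.IsHomogeneous 1 ∧ L₃.IsHomogeneous 1 ∧
      F - L₁ * L₂ * L₃ ∈ Ideal.span {ℓ})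
    (P : MvPolynomial (Fin 4) K) (hP : P = ∑ i : Fin 4, a i • MvPolynomial.pderiv i F)
    (H : Submodule K (Fin 4 → K)) (hH : ∀ x : Fin 4 → K, x ∈ H ↔ MvPolynomial.eval x ℓ = 0) :
    (∃ U₁ U₂ : Submodule K (Fin 4 → K), Module.finrank K ↥U₁ = 2 ∧ Module.finrank K ↥U₂ = 2 ∧ a ∈ U₁ ∧ a ∈ U₂ ∧
        U₁ ≤ H ∧ U₂ ≤ H ∧ {x : Fin 4 → K | x ∈ H ∧ MvPolynomial.eval x P = 0} = (U₁ : Set (Fin 4 → K)) ∪ (U₂ : Set (Fin 4 → K))) ∧
      ∀ U : Submodule K (Fin 4 → K), a ∈ U → Module.finrank K ↥U = 2 → (∀ u ∈ U, MvPolynomial.eval u F = 0) →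
        U ≤ H ∧ ∀ u ∈ U, MvPolynomial.eval u P = 0 := by
  have hinf : Infinite K := Infinite.of_injective (Nat.cast : ℕ → K) Nat.cast_injective
  have h3 : (3 : K) ≠ 0 := by norm_num
  have hTs := tri_sym F
  have haa : tri F a a a = 0 := by rw [tri_diag hF]; exact hFa
  have hsm' : ∃ w, tri F a a w ≠ 0 := (exists_pderiv_ne_zero_iff hF a).mp hsm
  have hℓe : ∀ x, MvPolynomial.eval x ℓ = 3 * tri F a a x := by
    intro x
    rw [tri_pderiv hF, hℓ, map_sum]
    refine Finset.sum_congr rfl fun i _ => ?_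
    rw [map_mul, MvPolynomial.eval_C, MvPolynomial.eval_X, mul_comm]
  have hPe : ∀ x, MvPolynomial.eval x P = 3 * tri F x x a := by
    intro x
    rw [tri_pderiv hF, hP, map_sum]
    refine Finset.sum_congr rfl fun i _ => ?_
    rw [MvPolynomial.smul_eval]
  have hHm : ∀ x, x ∈ H ↔ tri F a a x = 0 := by
    intro x
    rw [hH, hℓe, mul_eq_zero, or_iff_right h3]
  have hPm : ∀ x, MvPolynomial.eval x P = 0 ↔ tri F a x x = 0 := by
    intro x
    rw [hPe, mul_eq_zero, or_iff_right h3, hTs.rot' x x a]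
  refine ⟨?_, fun U haU hU hUF => ?_⟩
  · rcases polar_dichotomy finrank4 hTs ha haa hsm' with
      ⟨U₁, U₂, h1, h2, h3', h4, h5, h6, h7⟩ | ⟨μ₁, μ₂, μ₃, hμ⟩
    · refine ⟨U₁, U₂, h1, h2, h3', h4, fun x hx => (hHm x).mpr (h5 hx),
        fun x hx => (hHm x).mpr (h6 hx), ?_⟩
      ext x
      constructor
      · rintro ⟨hx, hxP⟩
        exact (h7 x ((hHm x).mp hx)).mp ((hPm x).mp hxP)
      · intro hx
        have hxH : tri F a a x = 0 := by
          rcases hx with hx | hx
          · exact h5 hx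
          · exact h6 hx
        exact ⟨(hHm x).mpr hxH, (hPm x).mpr ((h7 x hxH).mpr hx)⟩
    · exfalso
      apply hT
      refine ⟨lin μ₁, lin μ₂, lin μ₃, lin_hom _, lin_hom _, lin_hom _, ?_⟩
      have hφ : (3 : K) • tri F a a ≠ 0 := by
        obtain ⟨w, hw⟩ := hsm'
        intro h
        have := LinearMap.congr_fun h w
        simp only [LinearMap.smul_apply, smul_eq_mul, LinearMap.zero_apply] at this
        exact (mul_ne_zero h3 hw) this
      have hℓl : ℓ = lin ((3 : K) • tri F a a) := by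
        apply MvPolynomial.funext
        intro x
        rw [hℓe, eval_lin]; rfl
      rw [hℓl]
      refine mem_span_lin hφ _ fun x hx => ?_
      have hx' : tri F a a x = 0 := by
        simp only [LinearMap.smul_apply, smul_eq_mul] at hx
        exact (mul_eq_zero.mp hx).resolve_left h3
      rw [map_sub, map_mul, map_mul, eval_lin, eval_lin, eval_lin, ← hμ x hx', tri_diag hF, sub_self]
  · have hz : ∀ u ∈ U, tri F u u u = 0 := fun u hu => by rw [tri_diag hF]; exact hUF u hu
    refine ⟨fun u hu => (hHm u).mpr (hTs.eq_zero_of_diag U hz haU haU hu), fun u hu => ?_⟩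
    exact (hPm u).mpr (hTs.eq_zero_of_diag U hz haU hu hu)

end Groth.Agent.S16352
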