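import Groth.Statements.S16353
import Mathlib.Tactic.Ring
import Mathlib.Tactic.LinearCombination
import Mathlib.Tactic.Abel
import Mathlib.Data.Nat.Factorial.Basic

set_option autoImplicit false
universe u
open DegLoci

namespace Groth.Agent.S16353

open W4c3degenlocivb MvPolynomial

/-- The weight of the apolarity action, as a product over all variables. -/
def wt {m : ℕ} (α β : Fin m →₀ ℕ) : ℕ := ∏ i, Nat.descFactorial (β i) (α i)

theorem prod_support_eq {m : ℕ} {α β : Fin m →₀ ℕ} (h : α ≤ β) :
    (β.support.prod fun i => Nat.descFactorial (β i) (α i)) = wt α β := by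
  unfold wt
  refine Finset.prod_subset (Finset.subset_univ _) ?_
  intro i _ hi
  rw [Finsupp.notMem_support_iff] at hi
  have h1 : α i ≤ β i := h i
  rw [hi] at h1
  rw [hi, Nat.le_zero.1 h1]
  rfl

theorem coeff_contract {k : Type u} [CommSemiring k] {m : ℕ} (D G : MvPolynomial (Fin m) k)
    (γ : Fin m →₀ ℕ) :
    coeff γ (contract D G) =
      ∑ α ∈ D.support, coeff α D * coeff (γ + α) G * (wt α (γ + α) : k) := by
  classical
  unfold contract
  rw [coeff_sum]
  refine Finset.sum_congr rfl fun α _ => ?_
  rw [coeff_sum]
  by_cases hG : γ + α ∈ G.support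
  · rw [Finset.sum_eq_single (γ + α)]
    · have h : α ≤ γ + α := le_add_self
      rw [if_pos h, prod_support_eq h, add_tsub_cancel_right, coeff_monomial, if_pos rfl]
    · intro β _ hβ
      split_ifs with h
      · rw [coeff_monomial, if_neg]
        intro h'
        apply hβ
        rw [← h', tsub_add_cancel_of_le h]
      · exact coeff_zero _
    · intro h
      exact absurd hG h
  · rw [Finset.sum_eq_zero]
    · rw [notMem_support_iff] at hG
      rw [hG]
      ring
    · intro β hβ
      split_ifs with h
      · rw [coeff_monomial, if_neg]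
        intro h'
        apply hG
        rwa [← h', tsub_add_cancel_of_le h]
      · exact coeff_zero _

theorem coeff_contract_monomial {k : Type u} [CommSemiring k] {m : ℕ}
    (α γ : Fin m →₀ ℕ) (G : MvPolynomial (Fin m) k) :
    coeff γ (contract (monomial α 1) G) = coeff (γ + α) G * (wt α (γ + α) : k) := by
  classical
  rw [coeff_contract]
  rcases subsingleton_or_nontrivial k with hk | hk
  · exact Subsingleton.elim _ _
  rw [support_monomial, if_neg one_ne_zero, Finset.sum_singleton, coeff_monomial, if_pos rfl,
    one_mul]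

/-- Multi-index factorial. -/
def fac {m : ℕ} (α : Fin m →₀ ℕ) : ℕ := ∏ i, (α i).factorial

theorem fac_pos {m : ℕ} (α : Fin m →₀ ℕ) : 0 < fac α :=
  Finset.prod_pos fun i _ => Nat.factorial_pos _

theorem wt_mul_fac {m : ℕ} (α β : Fin m →₀ ℕ) : wt α (β + α) * fac β = fac (β + α) := by
  unfold wt fac
  rw [← Finset.prod_mul_distrib]
  refine Finset.prod_congr rfl fun i _ => ?_
  have h : α i ≤ (β + α) i := by simp
  have := Nat.factorial_mul_descFactorial h
  rw [mul_comm, ← this]
  congr 2
  simp

theorem wt_self {m : ℕ} (α : Fin m →₀ ℕ) : wt α α = fac α := by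
  have := wt_mul_fac α 0
  rw [zero_add] at this
  rw [← this]
  simp [fac]

/-- Let k be a field of characteristic zero, R = k[y_0, …, y_{m−1}] acting on S = k[∂_0, …, ∂_{m−1}] by
apolarity (y_i acts as the derivative with respect to ∂_i), F ∈ S homogeneous of degree e and d ≤ e.
Then the degree-d part of the apolar ideal of F is the orthogonal complement of the partial
derivatives of F of order e − d: a homogeneous D ∈ R_d satisfies D(F) = 0 if and only if D(y^α(F)) =
0 for every multi-index α with |α| = e − d (each D(y^α(F)) being a constant, the value of the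
apolarity pairing of D with y^α(F)). -/
theorem result (k : Type u) [Field k] [CharZero k] (m : ℕ)
    (F : MvPolynomial (Fin m) k) (e : ℕ) (hF : F.IsHomogeneous e) (d : ℕ) (hd : d ≤ e)
    (D : MvPolynomial (Fin m) k) (hD : D.IsHomogeneous d) :
    W4c3degenlocivb.contract D F = 0 ↔
      ∀ α : Fin m →₀ ℕ, α.degree = e - d → W4c3degenlocivb.contract D (W4c3degenlocivb.contract (MvPolynomial.monomial α 1) F) = 0 := by
  classical
  -- the value of the pairing
  have key : ∀ α : Fin m →₀ ℕ, coeff 0 (contract D (contract (monomial α 1) F)) =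
      (fac α : k) * coeff α (contract D F) := by
    intro α
    rw [coeff_contract, coeff_contract, Finset.mul_sum]
    refine Finset.sum_congr rfl fun β _ => ?_
    rw [coeff_contract_monomial, zero_add, add_comm β α]
    have h1 : (wt α (β + α) : k) * (wt β β : k) = (fac α : k) * (wt β (α + β) : k) := by
      have h2 := wt_mul_fac α β
      have h3 := wt_mul_fac β α
      rw [wt_self, mul_comm (fac α : k)]
      rw [← Nat.cast_mul, ← Nat.cast_mul, h2, h3, add_comm α β]
    rw [add_comm β α] at h1
    linear_combination (coeff β D * coeff (α + β) F) * h1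
  have hzero : ∀ γ : Fin m →₀ ℕ, γ.degree ≠ e - d → coeff γ (contract D F) = 0 := by
    intro γ hγ
    rw [coeff_contract]
    refine Finset.sum_eq_zero fun β hβ => ?_
    have h1 : β.degree = d := by
      by_contra h
      exact (mem_support_iff.1 hβ) (hD.coeff_eq_zero h)
    have h2 : coeff (γ + β) F = 0 := by
      apply hF.coeff_eq_zero
      rw [map_add]
      omega
    rw [h2]
    ring
  have hzero' : ∀ α : Fin m →₀ ℕ, α.degree = e - d → ∀ γ : Fin m →₀ ℕ, γ ≠ 0 →
      coeff γ (contract D (contract (monomial α 1) F)) = 0 := by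
    intro α hα γ hγ
    rw [coeff_contract]
    refine Finset.sum_eq_zero fun β hβ => ?_
    have h1 : β.degree = d := by
      by_contra h
      exact (mem_support_iff.1 hβ) (hD.coeff_eq_zero h)
    have h3 : γ.degree ≠ 0 := by
      rw [Ne, Finsupp.degree_eq_zero_iff]
      exact hγ
    have h2 : coeff (γ + β + α) F = 0 := by
      apply hF.coeff_eq_zero
      rw [map_add, map_add]
      omega
    rw [coeff_contract_monomial, h2]
    ring
  constructor
  · intro h α hα
    ext γ
    rw [coeff_zero]
    by_cases hγ : γ = 0
    · rw [hγ, key, h, coeff_zero, mul_zero]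
    · exact hzero' α hα γ hγ
  · intro h
    ext γ
    rw [coeff_zero]
    by_cases hγ : γ.degree = e - d
    · have h1 := key γ
      rw [h γ hγ, coeff_zero] at h1
      have h2 : (fac γ : k) ≠ 0 := Nat.cast_ne_zero.2 (fac_pos γ).ne'
      exact (mul_eq_zero.1 h1.symm).resolve_left h2
    · exact hzero γ hγ

end Groth.Agent.S16353
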