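import Groth.Statements.S16354
import Groth.Agent.Cubic.K752.Ext

set_option autoImplicit false
universe u
open Cubic

namespace Groth.Agent.S16354

/-- Let k be a subfield of ℝ (a field equipped with an embedding into the reals) and S = V(F) ⊂ P^3 the
cubic surface of a homogeneous cubic F ∈ k[x_0, …, x_3] which is geometrically irreducible and not a
cone (no nonzero vector v has Σ_i v_i ∂F/∂x_i = 0). Then S admits a linear Pfaffian representation
over a real intermediate field k ⊆ E ⊆ ℝ of degree [E : k] ≤ 3. A linear Pfaffian representation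
over E is a 6 × 6 alternating matrix M of linear forms in E[x_0, …, x_3] whose Pfaffian is a nonzero
constant multiple of F; since the determinant of an alternating matrix is the square of its Pfaffian
and the polynomial ring is factorial with no nonconstant units, this is the same as det M = c · F^2
for a nonzero constant c, which is how it is written here. -/
theorem result (k : Type u) [Field k] [Algebra k ℝ]
    (F : MvPolynomial (Fin 4) k) (hF : F.IsHomogeneous 3)
    (hirr : Irreducible (MvPolynomial.map (algebraMap k (AlgebraicClosure k)) F))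
    (hcone : ¬ ∃ v : Fin 4 → k, v ≠ 0 ∧ ∑ i : Fin 4, v i • MvPolynomial.pderiv i F = 0) :
    ∃ E : IntermediateField k ℝ, FiniteDimensional k ↥E ∧ Module.finrank k ↥E ≤ 3 ∧
      ∃ M : Matrix (Fin 6) (Fin 6) (MvPolynomial (Fin 4) ↥E), (∀ i j, (M i j).IsHomogeneous 1) ∧ M.transpose = -M ∧ (∀ i, M i i = 0) ∧
        ∃ c : ↥E, c ≠ 0 ∧ M.det = MvPolynomial.C c * (MvPolynomial.map (algebraMap k ↥E) F) ^ 2 := by
  have hchar : CharZero k := (algebraMap k ℝ).charZero
  have hcharK : CharZero (AlgebraicClosure k) := charZero_of_injective_algebraMap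
    (algebraMap k (AlgebraicClosure k)).injective
  have hF' := hF.map (algebraMap k (AlgebraicClosure k))
  have hN := K656.TPointMain.noPlane_of_irreducible hF' hirr
  have hC : K656.TPoint.NoCone
      (K656.Trilin.tri (MvPolynomial.map (algebraMap k (AlgebraicClosure k)) F)) :=
    K752.Rep.noCone_map (K656.TPointMain.noCone_tri hF hcone)
  have key : ∀ E : IntermediateField k ℝ, FiniteDimensional k E →
      ∃ _ : Algebra E (AlgebraicClosure k), IsScalarTower k E (AlgebraicClosure k) := by
    intro E hE
    let σ : E →ₐ[k] AlgebraicClosure k := IsAlgClosed.lift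
    letI := σ.toRingHom.toAlgebra
    exact ⟨inferInstance, IsScalarTower.of_algebraMap_eq fun x => (σ.commutes x).symm⟩
  rcases K752.Ext.point_or_line hF hN hC with ⟨a, ha0, ha, hTP⟩ | ⟨u, w, hu, h⟩
  · obtain ⟨i1, i2⟩ := key ⊥ inferInstance
    refine ⟨⊥, inferInstance, ?_, K752.Ext.rep_point hF hN hC ha0 ha hTP⟩
    rw [IntermediateField.finrank_bot]
    norm_num
  · have hdeg := K752.Ext.linePoly_natDegree (w := w) hF hu
    obtain ⟨r, hr⟩ := K752.Ext.exists_real_root
      (P := (K752.Ext.linePoly F u w).map (algebraMap k ℝ)) (by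
        rw [Polynomial.natDegree_map, hdeg])
    have hr' : Polynomial.aeval r (K752.Ext.linePoly F u w) = 0 := by
      rw [← Polynomial.eval_map_algebraMap]
      exact hr
    obtain ⟨h1, h2⟩ := K752.Ext.finrank_adjoin_le hdeg hr'
    obtain ⟨i1, i2⟩ := key _ h1
    refine ⟨IntermediateField.adjoin k {r}, h1, h2, ?_⟩
    refine K752.Ext.rep_line hF hN hC h
      (r := (⟨r, IntermediateField.mem_adjoin_simple_self k r⟩ : IntermediateField.adjoin k {r})) ?_
    apply (algebraMap (IntermediateField.adjoin k {r}) ℝ).injective
    rw [← Polynomial.aeval_algebraMap_apply, map_zero]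
    exact hr'

end Groth.Agent.S16354
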