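import Groth.Statements.S16355
import Groth.Agent.DegLoci.K883.PfTools
import Mathlib.LinearAlgebra.Matrix.NonsingularInverse
import Mathlib.Algebra.BigOperators.Fin

set_option autoImplicit false
universe u
open DegLoci

namespace Groth.Agent.S16355

open W4c3degenlocivb MvPolynomial K883.PfTools

/-- exponent vector of `y₀^q y₁^(r-q)` -/
noncomputable def ex (r q : ℕ) : Fin 2 →₀ ℕ := Finsupp.single 0 q + Finsupp.single 1 (r - q)

theorem ex_zero (r q : ℕ) : ex r q 0 = q := by simp [ex]
theorem ex_one (r q : ℕ) : ex r q 1 = r - q := by simp [ex]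

theorem eq_ex {r : ℕ} {d : Fin 2 →₀ ℕ} (hd : d.degree = r) : d = ex r (d 0) ∧ d 0 ≤ r := by
  have h : d 0 + d 1 = r := by
    rw [← hd, Finsupp.degree_eq_sum, Fin.sum_univ_two]
  refine ⟨?_, by omega⟩
  ext i
  fin_cases i
  · exact (ex_zero r _).symm
  · change d 1 = ex r (d 0) 1
    rw [ex_one]
    omega

/-- the matrix of linear forms -/
noncomputable def mat {k : Type*} [CommRing k] {n : ℕ} (c : Fin n → Fin n → Fin 2 → k) :
    Matrix (Fin n) (Fin n) (MvPolynomial (Fin 2) k) :=
  Matrix.of fun a b => ∑ l : Fin 2, MvPolynomial.C (c a b l) * MvPolynomial.X l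

theorem mat_hom {k : Type*} [CommRing k] {n : ℕ} (c : Fin n → Fin n → Fin 2 → k) (a b : Fin n) :
    (mat c a b).IsHomogeneous 1 := by
  refine MvPolynomial.IsHomogeneous.sum Finset.univ
    (fun l : Fin 2 => (MvPolynomial.C (c a b l) * MvPolynomial.X l : MvPolynomial (Fin 2) k)) 1
    fun l _ => ?_
  have h := (MvPolynomial.isHomogeneous_C (Fin 2) (c a b l)).mul (MvPolynomial.isHomogeneous_X k l)
  rwa [zero_add] at h

theorem map_mat {k k' : Type*} [CommRing k] [CommRing k'] (f : k →+* k') {n : ℕ}
    (c : Fin n → Fin n → Fin 2 → k) :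
    (mat c).map (MvPolynomial.map f) = mat (fun a b l => f (c a b l)) := by
  ext a b : 1
  simp [mat]

/-- the path array -/
def pathArr (k : Type*) [CommRing k] (n : ℕ) : Fin n → Fin n → Fin 2 → k := fun a b l =>
  if (b : ℕ) = a + 1 ∧ (a : ℕ) % 2 = l then 1 else
    if (a : ℕ) = b + 1 ∧ (b : ℕ) % 2 = l then -1 else 0

theorem pathArr_anti (k : Type*) [CommRing k] (n : ℕ) (i j : Fin n) (l : Fin 2) :
    pathArr k n j i l = - pathArr k n i j l := by
  unfold pathArr
  by_cases h1 : (i : ℕ) = j + 1 ∧ (j : ℕ) % 2 = l
  · have h2 : ¬ ((j : ℕ) = i + 1 ∧ (i : ℕ) % 2 = l) := by omega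
    rw [if_pos h1, if_neg h2, if_pos h1, neg_neg]
  · rw [if_neg h1, if_neg h1]
    by_cases h2 : (j : ℕ) = i + 1 ∧ (i : ℕ) % 2 = l
    · rw [if_pos h2, if_pos h2]
    · rw [if_neg h2, if_neg h2, neg_zero]

theorem mat_path_zero (k : Type*) [CommRing k] (n : ℕ) (a b : Fin n) (h : (b : ℕ) + 1 < a) :
    mat (pathArr k n) a b = 0 := by
  unfold mat
  rw [Matrix.of_apply]
  refine Finset.sum_eq_zero fun l _ => ?_
  have : pathArr k n a b l = 0 := by
    unfold pathArr
    rw [if_neg (by omega), if_neg (by omega)]
  rw [this, C_0, zero_mul]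

theorem mat_path_sub (k : Type*) [CommRing k] (n : ℕ) (a b : Fin n) (h : (a : ℕ) = b + 1)
    (l : Fin 2) (hl : (b : ℕ) % 2 = l) :
    mat (pathArr k n) a b = - X l := by
  unfold mat
  rw [Matrix.of_apply, Finset.sum_eq_single l]
  · have : pathArr k n a b l = -1 := by
      unfold pathArr
      rw [if_neg (by omega), if_pos ⟨h, hl⟩]
    rw [this]
    simp
  · intro l' _ hl'
    have : pathArr k n a b l' = 0 := by
      unfold pathArr
      rw [if_neg (by omega), if_neg (fun h' => hl' (Fin.ext (h'.2.symm.trans hl)))]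
    rw [this, C_0, zero_mul]
  · intro h
    exact absurd (Finset.mem_univ _) h

theorem succAbove_val {n : ℕ} (i : Fin (n + 1)) (a : Fin n) :
    ((i.succAbove a : Fin (n + 1)) : ℕ) = if (a : ℕ) < i then (a : ℕ) else a + 1 := by
  split_ifs with h
  · rw [Fin.succAbove_of_castSucc_lt _ _ (by rw [Fin.lt_def]; exact h)]
    rfl
  · rw [Fin.succAbove_of_le_castSucc _ _ (by rw [Fin.le_def]; exact not_lt.1 h)]
    rfl

/-- the sub-Pfaffian of the path matrix at an even vertex -/
theorem pf_path_even (k : Type*) [CommRing k] (r j : ℕ) (hj : j ≤ r) (i : Fin (2 * r + 1))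
    (hi : (i : ℕ) = 2 * j) :
    pf (2 * r) ((mat (pathArr k (2 * r + 1))).submatrix i.succAbove i.succAbove) =
      monomial (ex r j) 1 := by
  rw [pf_path (fun l => if l < j then X 0 else X 1) r]
  · have h1 : ∏ l ∈ Finset.range r, (if l < j then X 0 else X 1 : MvPolynomial (Fin 2) k) =
        X 0 ^ j * X 1 ^ (r - j) := by
      obtain ⟨s, rfl⟩ := Nat.exists_eq_add_of_le hj
      rw [Finset.prod_range_add, add_tsub_cancel_left]
      congr 1
      · rw [Finset.prod_congr rfl (fun l hl => if_pos (Finset.mem_range.1 hl)),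
          Finset.prod_const, Finset.card_range]
      · rw [Finset.prod_congr rfl (fun l _ => if_neg (by omega)),
          Finset.prod_const, Finset.card_range]
    rw [h1, X_pow_eq_monomial, X_pow_eq_monomial, monomial_mul, one_mul]
    rfl
  · intro a b hab
    rw [Matrix.submatrix_apply]
    apply mat_path_zero
    rw [succAbove_val, succAbove_val]
    split_ifs <;> omega
  · intro l hl
    rw [Matrix.submatrix_apply]
    split_ifs with h
    · apply mat_path_sub
      · rw [succAbove_val, succAbove_val]
        simp only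
        split_ifs <;> omega
      · rw [succAbove_val]
        simp only
        split_ifs
        · simp
        · omega
    · apply mat_path_sub
      · rw [succAbove_val, succAbove_val]
        simp only
        split_ifs <;> omega
      · rw [succAbove_val]
        simp only
        split_ifs
        · omega
        · simp

/-- the even vertex `2j` -/
def ev (r : ℕ) (j : Fin (r + 1)) : Fin (2 * r + 1) := ⟨2 * j, by omega⟩

/-- the matrix of coefficients of the even sub-Pfaffians -/
noncomputable def coefMat {k : Type*} [CommRing k] (r : ℕ)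
    (c : Fin (2 * r + 1) → Fin (2 * r + 1) → Fin 2 → k) : Matrix (Fin (r + 1)) (Fin (r + 1)) k :=
  Matrix.of fun j q => coeff (ex r q)
    (pf (2 * r) ((mat c).submatrix (ev r j).succAbove (ev r j).succAbove))

theorem coefMat_map {k k' : Type*} [CommRing k] [CommRing k'] (f : k →+* k') (r : ℕ)
    (c : Fin (2 * r + 1) → Fin (2 * r + 1) → Fin 2 → k) :
    (coefMat r c).map f = coefMat r (fun a b l => f (c a b l)) := by
  ext j q
  simp only [coefMat, Matrix.map_apply, Matrix.of_apply]
  rw [← coeff_map, map_pf, ← map_mat]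
  rfl

theorem coefMat_path (k : Type*) [CommRing k] (r : ℕ) : coefMat r (pathArr k (2 * r + 1)) = 1 := by
  ext j q
  simp only [coefMat, Matrix.of_apply]
  rw [pf_path_even k r j (by omega) (ev r j) rfl, coeff_monomial, Matrix.one_apply]
  congr 1
  rw [eq_iff_iff]
  constructor
  · intro h
    have := DFunLike.congr_fun h 0
    rw [ex_zero, ex_zero] at this
    exact Fin.ext this
  · rintro rfl
    rfl

theorem pf_sum {k : Type*} [CommRing k] (r : ℕ)
    (P : MvPolynomial (Fin 2) k) (hP : P.IsHomogeneous r) :
    P = ∑ q : Fin (r + 1), coeff (ex r q) P • (monomial (ex r q) (1 : k)) := by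
  ext d
  rw [coeff_sum]
  by_cases hd : d.degree = r
  · obtain ⟨h1, h2⟩ := eq_ex hd
    rw [Finset.sum_eq_single (⟨d 0, by omega⟩ : Fin (r + 1))]
    · rw [coeff_smul, coeff_monomial, if_pos h1.symm, smul_eq_mul, mul_one]
      simp only
      rw [← h1]
    · intro q _ hq
      rw [coeff_smul, coeff_monomial, if_neg, smul_zero]
      intro h
      apply hq
      apply Fin.ext
      simp only
      rw [← h, ex_zero]
    · intro h
      exact absurd (Finset.mem_univ _) h
  · rw [hP.coeff_eq_zero hd]
    symm
    refine Finset.sum_eq_zero fun q _ => ?_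
    rw [coeff_smul, coeff_monomial, if_neg, smul_zero]
    rintro rfl
    apply hd
    rw [Finsupp.degree_eq_sum, Fin.sum_univ_two, ex_zero, ex_one]
    omega

/-- Let k be an algebraically closed field of characteristic zero and n = 2r + 1 ≥ 3 odd. For a general
n × n alternating matrix N of linear forms in k[y_0, y_1], the n principal sub-Pfaffians of size n −
1 (delete row i and column i, take the Pfaffian) span the whole space k[y_0, y_1]_r of binary forms
of degree r. Here such matrices are parametrised by antisymmetric coefficient arrays c (entry (i, j)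
of N is Σ_l c_{i j l} y_l with c_{j i l} = −c_{i j l}), and 'general' means: outside the zero set of
some polynomial Φ in the coefficients which does not vanish at every antisymmetric array. -/
theorem result (k : Type u) [Field k] [IsAlgClosed k] [CharZero k]
    (r : ℕ) (hr : 1 ≤ r) :
    ∃ Φ : MvPolynomial (Fin (2 * r + 1) × Fin (2 * r + 1) × Fin 2) k,
      (∃ c : Fin (2 * r + 1) → Fin (2 * r + 1) → Fin 2 → k, (∀ i j l, c j i l = -c i j l) ∧
        MvPolynomial.eval (fun p => c p.1 p.2.1 p.2.2) Φ ≠ 0) ∧
      ∀ c : Fin (2 * r + 1) → Fin (2 * r + 1) → Fin 2 → k, (∀ i j l, c j i l = -c i j l) →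
        MvPolynomial.eval (fun p => c p.1 p.2.1 p.2.2) Φ ≠ 0 →
        Submodule.span k (Set.range fun i : Fin (2 * r + 1) =>
            W4c3degenlocivb.pf (2 * r) ((Matrix.of fun a b => ∑ l : Fin 2, MvPolynomial.C (c a b l) * MvPolynomial.X l).submatrix i.succAbove i.succAbove)) =
          MvPolynomial.homogeneousSubmodule (Fin 2) k r := by
  classical
  refine ⟨(coefMat r (fun a b l => (X (a, b, l) : MvPolynomial _ k))).det, ?_, ?_⟩
  · refine ⟨pathArr k (2 * r + 1), fun i j l => pathArr_anti k _ i j l, ?_⟩
    rw [RingHom.map_det, RingHom.mapMatrix_apply, coefMat_map]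
    simp only [eval_X]
    rw [coefMat_path, Matrix.det_one]
    exact one_ne_zero
  · intro c _ hc
    rw [RingHom.map_det, RingHom.mapMatrix_apply, coefMat_map] at hc
    simp only [eval_X] at hc
    change Submodule.span k (Set.range fun i : Fin (2 * r + 1) =>
      pf (2 * r) ((mat c).submatrix i.succAbove i.succAbove)) = _
    have hM : IsUnit (coefMat r c).det := isUnit_iff_ne_zero.2 hc
    have hhom : ∀ i : Fin (2 * r + 1),
        (pf (2 * r) ((mat c).submatrix i.succAbove i.succAbove)).IsHomogeneous r := fun i =>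
      isHomogeneous_pf r _ (fun a b => mat_hom c _ _)
    apply le_antisymm
    · rw [Submodule.span_le]
      rintro _ ⟨i, rfl⟩
      exact hhom i
    · intro P hP
      have hP' : P.IsHomogeneous r := hP
      rw [pf_sum r P hP']
      refine Submodule.sum_mem _ fun q _ => Submodule.smul_mem _ _ ?_
      have h1 : (monomial (ex r q) (1 : k)) = ∑ j : Fin (r + 1), (coefMat r c)⁻¹ q j •
          pf (2 * r) ((mat c).submatrix (ev r j).succAbove (ev r j).succAbove) := by
        have h2 : ∀ j : Fin (r + 1),
            pf (2 * r) ((mat c).submatrix (ev r j).succAbove (ev r j).succAbove) =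
            ∑ q' : Fin (r + 1), coefMat r c j q' • (monomial (ex r q') (1 : k)) := fun j =>
          pf_sum r _ (hhom _)
        have h3 : ∑ j : Fin (r + 1), (coefMat r c)⁻¹ q j •
            pf (2 * r) ((mat c).submatrix (ev r j).succAbove (ev r j).succAbove) =
            ∑ j : Fin (r + 1), ∑ q' : Fin (r + 1),
              ((coefMat r c)⁻¹ q j * coefMat r c j q') • (monomial (ex r q') (1 : k)) := by
          refine Finset.sum_congr rfl fun j _ => ?_
          rw [h2 j, Finset.smul_sum]
          refine Finset.sum_congr rfl fun q' _ => ?_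
          rw [smul_smul]
        rw [h3, Finset.sum_comm]
        have h4 : ∀ q' : Fin (r + 1), ∑ j : Fin (r + 1),
              ((coefMat r c)⁻¹ q j * coefMat r c j q') • (monomial (ex r q') (1 : k)) =
            ((1 : Matrix (Fin (r + 1)) (Fin (r + 1)) k) q q') • (monomial (ex r q') (1 : k)) := by
          intro q'
          rw [← Finset.sum_smul, ← Matrix.nonsing_inv_mul _ hM, Matrix.mul_apply]
        rw [Finset.sum_congr rfl (fun q' _ => h4 q'), Finset.sum_eq_single q]
        · rw [Matrix.one_apply_eq, one_smul]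
        · intro q' _ hq'
          rw [Matrix.one_apply_ne hq'.symm, zero_smul]
        · intro h
          exact absurd (Finset.mem_univ _) h
      rw [h1]
      exact Submodule.sum_mem _ fun j _ => Submodule.smul_mem _ _
        (Submodule.subset_span ⟨ev r j, rfl⟩)

end Groth.Agent.S16355
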