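import Groth.Statements.S16356
import Mathlib.RingTheory.WittVector.DiscreteValuationRing
import Mathlib.RingTheory.WittVector.Complete
import Mathlib.NumberTheory.Multiplicity

set_option autoImplicit false
universe u
open OrdAV

namespace Groth.Agent.S16356

/-- For an odd prime p and a perfect field k of characteristic p, a root of unity in the ring of Witt
vectors W(k) whose residue in k is 1 is itself 1: if x ^ n = 1 with n ≥ 1 and the zeroth Witt
component of x is 1, then x = 1. (For p = 2 this fails: -1 in W(F_2).) -/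
theorem result (p : ℕ) [Fact p.Prime] (hp : p ≠ 2)
    (k : Type u) [Field k] [CharP k p] [PerfectRing k p]
    (x : WittVector p k) (n : ℕ) (hn : 0 < n) (hx : x ^ n = 1) (h0 : x.coeff 0 = 1) : x = 1 := by
  have hp' : p.Prime := Fact.out
  have hodd : Odd p := hp'.odd_of_ne_two hp
  have hpr : Prime (p : WittVector p k) := (WittVector.irreducible p).prime
  have hmem : ∀ y : WittVector p k, (p : WittVector p k) ∣ y ↔ y.coeff 0 = 0 := by
    intro y
    rw [← WittVector.mem_span_p_iff_coeff_zero_eq_zero, Ideal.mem_span_singleton]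
  have hcast : ∀ m : ℕ, ((m : WittVector p k)).coeff 0 = (m : k) := by
    intro m
    exact map_natCast (WittVector.constantCoeff (p := p) (R := k)) m
  have hsub : (x - 1).coeff 0 = 0 := by
    have := map_sub (WittVector.constantCoeff (p := p) (R := k)) x 1
    change (x - 1).coeff 0 = x.coeff 0 - (1 : WittVector p k).coeff 0 at this
    rw [this, h0]
    simp
  obtain ⟨a, m, hm, rfl⟩ := Nat.exists_eq_pow_mul_and_not_dvd hn.ne' p hp'.ne_one
  have hm' : ¬ (p : WittVector p k) ∣ (m : WittVector p k) := by
    rw [hmem, hcast, CharP.cast_eq_zero_iff k p]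
    exact hm
  have hxp : ¬ (p : WittVector p k) ∣ x := by
    rw [hmem, h0]
    exact one_ne_zero
  have hx1 : (p : WittVector p k) ∣ x - 1 := (hmem _).2 hsub
  have h1 := emultiplicity_pow_prime_pow_sub_pow_prime_pow hpr hodd hx1 hxp a
  rw [one_pow] at h1
  have hz1 : (p : WittVector p k) ∣ x ^ p ^ a - 1 := by
    have := sub_dvd_pow_sub_pow x 1 (p ^ a)
    rw [one_pow] at this
    exact hx1.trans this
  have hzp : ¬ (p : WittVector p k) ∣ x ^ p ^ a := fun h => hxp (hpr.dvd_of_dvd_pow h)
  have h2 := emultiplicity_pow_sub_pow_of_prime hpr hz1 hzp hm'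
  rw [one_pow, ← pow_mul, hx, sub_self, h1] at h2
  by_contra hne
  have hne' : x - 1 ≠ 0 := sub_ne_zero.2 hne
  have hfin : FiniteMultiplicity (p : WittVector p k) (x - 1) :=
    FiniteMultiplicity.of_prime_left hpr hne'
  rw [emultiplicity_zero] at h2
  have h3 := finiteMultiplicity_iff_emultiplicity_ne_top.1 hfin
  have : emultiplicity (p : WittVector p k) (x - 1) + (a : ℕ∞) ≠ ⊤ := by
    simp [h3]
  exact this h2.symm

end Groth.Agent.S16356
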