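import Groth.Statements.S16357
import Mathlib.Algebra.Polynomial.Lifts
import Mathlib.Algebra.Polynomial.Monic
import Mathlib.Tactic.LinearCombination

set_option autoImplicit false
universe u
open OrdAV

namespace Groth.Agent.S16357

/-- Over a field L of characteristic zero, a monic polynomial h whose square has rational coefficients
has rational coefficients itself. -/
theorem result (L : Type u) [Field L] [CharZero L]
    (h : Polynomial L) (hm : h.Monic) (f : Polynomial ℚ)
    (hf : h ^ 2 = Polynomial.map (algebraMap ℚ L) f) :
    ∃ g : Polynomial ℚ, Polynomial.map (algebraMap ℚ L) g = h := by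
  classical
  set n := h.natDegree with hn
  have key : ∀ k i : ℕ, i + k = n → h.coeff i ∈ (algebraMap ℚ L).range := by
    intro k
    induction k using Nat.strong_induction_on with
    | _ k ih =>
      intro i hi
      rcases Nat.eq_zero_or_pos k with rfl | hk
      · have : i = n := by omega
        rw [this, hn, hm.coeff_natDegree]
        exact one_mem _
      · have hlt : i < n := by omega
        have hc : (h ^ 2).coeff (n + i) ∈ (algebraMap ℚ L).range := by
          rw [hf, Polynomial.coeff_map]
          exact ⟨_, rfl⟩
        rw [pow_two, Polynomial.coeff_mul] at hc
        have hne : (n, i) ≠ (i, n) := by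
          intro h'
          have := congrArg Prod.fst h'
          simp at this
          omega
        have hsub : ({(n, i), (i, n)} : Finset (ℕ × ℕ)) ⊆ Finset.antidiagonal (n + i) := by
          intro x hx
          simp only [Finset.mem_insert, Finset.mem_singleton] at hx
          rcases hx with rfl | rfl <;> simp [Finset.mem_antidiagonal, add_comm]
        rw [← Finset.sum_sdiff hsub, Finset.sum_pair hne] at hc
        have hrest : ∑ x ∈ Finset.antidiagonal (n + i) \ {(n, i), (i, n)},
            h.coeff x.1 * h.coeff x.2 ∈ (algebraMap ℚ L).range := by
          refine Subring.sum_mem _ ?_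
          rintro ⟨a, b⟩ hab
          simp only [Finset.mem_sdiff, Finset.mem_antidiagonal, Finset.mem_insert,
            Finset.mem_singleton, Prod.mk.injEq, not_or, not_and] at hab
          obtain ⟨hab1, hab2, hab3⟩ := hab
          by_cases ha : n < a
          · rw [Polynomial.coeff_eq_zero_of_natDegree_lt ha, zero_mul]
            exact zero_mem _
          by_cases hb : n < b
          · rw [Polynomial.coeff_eq_zero_of_natDegree_lt hb, mul_zero]
            exact zero_mem _
          have ha' : a ≠ n := fun e => hab2 e (by omega)
          have hb' : b ≠ n := fun e => hab3 (by omega) e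
          exact Subring.mul_mem _ (ih (n - a) (by omega) a (by omega))
            (ih (n - b) (by omega) b (by omega))
        have h2 := Subring.sub_mem _ hc hrest
        simp only [add_sub_cancel_left] at h2
        rw [hn, hm.coeff_natDegree, one_mul, mul_one] at h2
        obtain ⟨q, hq⟩ := h2
        refine ⟨q / 2, ?_⟩
        rw [map_div₀, hq]
        simp
  have hl : h ∈ Polynomial.lifts (algebraMap ℚ L) := by
    rw [Polynomial.lifts_iff_coeff_lifts]
    intro i
    by_cases hi : i ≤ n
    · exact key (n - i) i (by omega)
    · rw [Polynomial.coeff_eq_zero_of_natDegree_lt (by omega)]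
      exact ⟨0, map_zero _⟩
  exact (Polynomial.mem_lifts _).1 hl

end Groth.Agent.S16357
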