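import Groth.Statements.S16358
import Mathlib.RingTheory.WittVector.DiscreteValuationRing
import Mathlib.Algebra.Module.PID
import Mathlib.LinearAlgebra.FreeModule.PID
import Mathlib.Algebra.Module.Projective

set_option autoImplicit false
universe u v w
open OrdAV

namespace Groth.Agent.S16358

/-- Let k be a perfect field of characteristic p > 0 and W = W(k); let M be a finitely generated free
W-module on which a finite group G acts W-linearly, with invariant submodule M^G. Then the map
(W/pW) ⊗ M^G → (W/pW) ⊗ M induced by the inclusion is injective. Since M^G is free, this implies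
rank_W M^G ≤ dim_k (M/pM)^G; the published statement is that inequality, and this row states the
stronger injectivity. -/
theorem result (p : ℕ) [Fact p.Prime]
    (k : Type u) [Field k] [CharP k p] [PerfectRing k p]
    (M : Type v) [AddCommGroup M] [Module (WittVector p k) M]
    [Module.Free (WittVector p k) M] [Module.Finite (WittVector p k) M]
    (G : Type w) [Group G] [Finite G] (ρ : Representation (WittVector p k) G M) :
    Function.Injective
      (LinearMap.lTensor (WittVector p k ⧸ Ideal.span {(p : WittVector p k)}) ρ.invariants.subtype) := by
  have htf : Module.IsTorsionFree (WittVector p k) (M ⧸ ρ.invariants) := by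
    rw [Module.isTorsionFree_iff_smul_eq_zero]
    intro r x hx
    obtain ⟨m, rfl⟩ := Submodule.Quotient.mk_surjective _ x
    by_cases hr : r = 0
    · exact Or.inl hr
    right
    rw [← Submodule.Quotient.mk_smul, Submodule.Quotient.mk_eq_zero,
      Representation.mem_invariants] at hx
    rw [Submodule.Quotient.mk_eq_zero, Representation.mem_invariants]
    intro g
    have := hx g
    rw [map_smul] at this
    exact smul_right_injective M hr this
  have hfree : Module.Free (WittVector p k) (M ⧸ ρ.invariants) := Module.free_of_finite_type_torsion_free'
  obtain ⟨s, hs⟩ := Module.projective_lifting_property (ρ.invariants.mkQ) LinearMap.id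
    (Submodule.mkQ_surjective _)
  have hmem : ∀ m : M, m - s (ρ.invariants.mkQ m) ∈ ρ.invariants := by
    intro m
    rw [← Submodule.Quotient.mk_eq_zero, Submodule.Quotient.mk_sub]
    have := LinearMap.congr_fun hs (ρ.invariants.mkQ m)
    simp only [LinearMap.comp_apply, LinearMap.id_apply] at this
    change ρ.invariants.mkQ m - ρ.invariants.mkQ (s (ρ.invariants.mkQ m)) = 0
    rw [this, sub_self]
  let r : M →ₗ[WittVector p k] ρ.invariants :=
    (LinearMap.id - s ∘ₗ ρ.invariants.mkQ).codRestrict ρ.invariants hmem
  have hr : r ∘ₗ ρ.invariants.subtype = LinearMap.id := by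
    ext x
    have : ρ.invariants.mkQ (x : M) = 0 := by
      rw [Submodule.mkQ_apply, Submodule.Quotient.mk_eq_zero]
      exact x.2
    simp [r, this]
  refine Function.LeftInverse.injective
    (g := LinearMap.lTensor (WittVector p k ⧸ Ideal.span {(p : WittVector p k)}) r) ?_
  intro x
  rw [← LinearMap.comp_apply, ← LinearMap.lTensor_comp, hr, LinearMap.lTensor_id]
  rfl

end Groth.Agent.S16358
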