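import Groth.Statements.S16360
import Mathlib.FieldTheory.IsAlgClosed.AlgebraicClosure
import Groth.Agent.S1964
import Groth.Agent.Hensel.K82.PerfRes2

set_option autoImplicit false
universe u
open Hensel

namespace Groth.Agent.S16360

/-- Let R be a discrete valuation ring that is Henselian and excellent, write k for its residue field
and p for the characteristic exponent of k. There is a Henselian discrete valuation ring R' and an
injective ring map R → R' such that the maximal ideal of R generates that of R' (so a uniformizer of
R is a uniformizer of R'), R' is the directed union of R-subalgebras that are finite free R-modules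
of rank a power of p, and the residue field k' of R' is a perfect closure of k: every element of k'
is a p-th power in k', and some p-power-th power of it lies in the image of k. (The published
statement also asserts that R' is excellent; that is not asserted here.) -/
theorem result (R : Type u) [CommRing R] [IsDomain R]
    [IsDiscreteValuationRing R] [HenselianLocalRing R] (hR : EGA4.IsExcellent R) :
    ∃ (R' : Type u) (_ : CommRing R') (_ : IsDomain R') (_ : IsDiscreteValuationRing R')
      (_ : HenselianLocalRing R') (_ : Algebra R R'),
      Function.Injective (algebraMap R R') ∧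
      Ideal.map (algebraMap R R') (IsLocalRing.maximalIdeal R) = IsLocalRing.maximalIdeal R' ∧
      (∀ s : Finset R', ∃ S : Subalgebra R R', (↑s : Set R') ⊆ ↑S ∧ Module.Finite R S ∧ Module.Free R S ∧
        ∃ m : ℕ, Module.finrank R S = ringExpChar (IsLocalRing.ResidueField R) ^ m) ∧
      (∀ y : R', ∃ z : R', z ^ ringExpChar (IsLocalRing.ResidueField R) - y ∈ IsLocalRing.maximalIdeal R') ∧
      (∀ y : R', ∃ (m : ℕ) (z : R),
        algebraMap R R' z - y ^ (ringExpChar (IsLocalRing.ResidueField R) ^ m) ∈ IsLocalRing.maximalIdeal R') := by
  have _ := hR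
  let p := ringExpChar (IsLocalRing.ResidueField R)
  let Ω := AlgebraicClosure (FractionRing R)
  have hinj : Function.Injective (algebraMap R Ω) := by
    rw [IsScalarTower.algebraMap_eq R (FractionRing R) Ω]
    exact (algebraMap (FractionRing R) Ω).injective.comp (IsFractionRing.injective R (FractionRing R))
  obtain ⟨S, hS⟩ := K82.PerfRes.exists_maximal_good (R := R) (p := p) hinj
  have hdvr : IsDiscreteValuationRing S := hS.prop.isDiscreteValuationRing hinj
  obtain ⟨hloc, hmax⟩ := hS.prop.isLocalRing
  have hinjS : Function.Injective (algebraMap R S) :=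
    K82.PerfRes.algebraMap_subalgebra_injective hinj S
  have hint : Algebra.IsIntegral R S := ⟨fun x => by
    obtain ⟨T, hxT, hTS, hT⟩ := hS.prop.exists_nice x
    have := hT.finite
    have h1 : IsIntegral R (⟨x, hxT⟩ : T) := Algebra.IsIntegral.isIntegral _
    exact h1.map (Subalgebra.inclusion hTS)⟩
  obtain ⟨hhens, -, -⟩ := Groth.Agent.S1964.result R S
  refine ⟨S, inferInstance, inferInstance, hdvr, hhens, inferInstance, hinjS, hmax.symm, ?_, ?_, ?_⟩
  · intro s
    obtain ⟨T, hsT, hTS, hT⟩ := hS.prop (s.map (Function.Embedding.subtype _)) (by
      intro x hx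
      rw [Finset.coe_map] at hx
      obtain ⟨y, -, rfl⟩ := hx
      exact y.2)
    have hι : Function.Injective (Subalgebra.inclusion hTS) := Subalgebra.inclusion_injective hTS
    have hN := hT.of_algEquiv (AlgEquiv.ofInjective (Subalgebra.inclusion hTS) hι)
    have hfin := hN.finite
    have hinj' : Function.Injective (algebraMap R (Subalgebra.inclusion hTS).range) := by
      intro a b hab
      apply hinjS
      have := congrArg (Subalgebra.inclusion hTS).range.val hab
      rwa [AlgHom.commutes, AlgHom.commutes] at this
    have : FaithfulSMul R (Subalgebra.inclusion hTS).range :=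
      (faithfulSMul_iff_algebraMap_injective R _).2 hinj'
    have : Module.IsTorsionFree R (Subalgebra.inclusion hTS).range := inferInstance
    refine ⟨(Subalgebra.inclusion hTS).range, ?_, hfin, inferInstance, hN.rank⟩
    intro x hx
    have hxT : (x : Ω) ∈ T := hsT (by
      rw [Finset.coe_map]
      exact ⟨x, hx, rfl⟩)
    exact ⟨⟨x, hxT⟩, Subtype.ext rfl⟩
  · intro y
    by_contra hcon
    push Not at hcon
    rcases expChar_is_prime_or_one (IsLocalRing.ResidueField R) p with hp | hp
    · have : Fact p.Prime := ⟨hp⟩
      have hE : ExpChar (IsLocalRing.ResidueField R) p := inferInstance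
      have : CharP (IsLocalRing.ResidueField R) p := by
        generalize p = q at hE hp
        cases hE with
        | zero => exact absurd hp Nat.not_prime_one
        | prime _ => assumption
      obtain ⟨β, hβ⟩ := IsAlgClosed.exists_pow_nat_eq (y : Ω) hp.pos
      have hG := K82.PerfRes.good_adjoin hinj hS.prop y (fun z hz => hcon z (by
        rw [hmax]
        exact hz)) β hβ
      have hle : S ≤ Algebra.adjoin R ((S : Set Ω) ∪ {β}) := fun x hx =>
        Algebra.subset_adjoin (Or.inl hx)
      have hβS : β ∈ S := hS.le_of_ge hG hle (Algebra.subset_adjoin (Or.inr rfl))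
      refine hcon ⟨β, hβS⟩ ?_
      have : (⟨β, hβS⟩ : S) ^ p - y = 0 := by
        rw [sub_eq_zero]
        exact Subtype.ext hβ
      rw [this]
      exact zero_mem _
    · refine hcon y ?_
      change y ^ p - y ∈ _
      rw [hp, pow_one, sub_self]
      exact zero_mem _
  · intro y
    obtain ⟨T, hyT, hTS, hT⟩ := hS.prop.exists_nice y
    obtain ⟨m, z, hz⟩ := hT.pow ⟨y, hyT⟩
    refine ⟨m, z, ?_⟩
    have h1 := K82.PerfRes.mem_map_of_algHom (Subalgebra.inclusion hTS) hz
    rw [map_sub, map_pow, AlgHom.commutes, ← hmax] at h1
    exact h1

end Groth.Agent.S16360
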