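import Groth.Statements.S16362
import Mathlib.Tactic.Ring
import Mathlib.Algebra.Polynomial.BigOperators
import Mathlib.Algebra.Polynomial.Monic
import Mathlib.Algebra.Polynomial.Eval.Degree

set_option autoImplicit false
universe u
open MovLem

namespace Groth.Agent.S16362

/-- Let A be a commutative ring, p a prime ideal of A, and ζ, u elements of A with u not in p. Then the
quotient of the classes of ζ and u in the fraction field of the domain A ⧸ p is integral over A ⧸ p
if and only if there exist a natural number N and elements a_1, …, a_N of A such that ζ^N + a_1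
ζ^(N-1) u + ⋯ + a_N u^N lies in p; equivalently, some binary form of degree N with coefficients in
A, monic in the first variable, evaluated at (ζ, u), lies in p. -/
theorem result
    {A : Type u} [CommRing A] (p : Ideal A) [p.IsPrime] (ζ u : A) (hu : u ∉ p) :
    IsIntegral (A ⧸ p)
        (algebraMap (A ⧸ p) (FractionRing (A ⧸ p)) (Ideal.Quotient.mk p ζ) /
          algebraMap (A ⧸ p) (FractionRing (A ⧸ p)) (Ideal.Quotient.mk p u)) ↔
      ∃ (N : ℕ) (a : ℕ → A),
        ζ ^ N + ∑ i ∈ Finset.Icc 1 N, a i * ζ ^ (N - i) * u ^ i ∈ p := by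
  classical
  set R := A ⧸ p with hR
  set K := FractionRing (A ⧸ p) with hK
  have hu0 : algebraMap R K (Ideal.Quotient.mk p u) ≠ 0 := by
    rw [Ne, map_eq_zero_iff _ (IsFractionRing.injective R K), Ideal.Quotient.eq_zero_iff_mem]
    exact hu
  -- the basic computation
  have hkey : ∀ (N : ℕ) (a : ℕ → A),
      ζ ^ N + ∑ i ∈ Finset.Icc 1 N, a i * ζ ^ (N - i) * u ^ i ∈ p ↔
      (algebraMap R K (Ideal.Quotient.mk p ζ) / algebraMap R K (Ideal.Quotient.mk p u)) ^ N +
        ∑ i ∈ Finset.Icc 1 N, algebraMap R K (Ideal.Quotient.mk p (a i)) *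
          (algebraMap R K (Ideal.Quotient.mk p ζ) / algebraMap R K (Ideal.Quotient.mk p u)) ^ (N - i) = 0 := by
    intro N a
    rw [← Ideal.Quotient.eq_zero_iff_mem, ← map_eq_zero_iff _ (IsFractionRing.injective R K)]
    simp only [map_add, map_pow, map_sum, map_mul]
    set z := algebraMap R K (Ideal.Quotient.mk p ζ) with hz
    set w := algebraMap R K (Ideal.Quotient.mk p u) with hw
    have h1 : z ^ N + ∑ i ∈ Finset.Icc 1 N, algebraMap R K (Ideal.Quotient.mk p (a i)) * z ^ (N - i) * w ^ i =
        w ^ N * ((z / w) ^ N +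
        ∑ i ∈ Finset.Icc 1 N, algebraMap R K (Ideal.Quotient.mk p (a i)) * (z / w) ^ (N - i)) := by
      rw [mul_add, Finset.mul_sum]
      congr 1
      · rw [div_pow, mul_comm, div_mul_cancel₀ _ (pow_ne_zero _ hu0)]
      · refine Finset.sum_congr rfl fun i hi => ?_
        have hiN : i ≤ N := (Finset.mem_Icc.mp hi).2
        have h2 : w ^ N = w ^ i * w ^ (N - i) := by rw [← pow_add]; congr 1; omega
        have h3 : w ^ (N - i) * (z / w) ^ (N - i) = z ^ (N - i) := by
          rw [div_pow, mul_comm, div_mul_cancel₀ _ (pow_ne_zero _ hu0)]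
        rw [h2, ← h3]
        ring
    rw [h1]
    constructor
    · intro h
      rcases mul_eq_zero.mp h with h | h
      · exact absurd h (pow_ne_zero _ hu0)
      · exact h
    · intro h
      rw [h, mul_zero]
  constructor
  · rintro ⟨F, hF, hF0⟩
    have hlift : ∀ i, ∃ a : A, Ideal.Quotient.mk p a = F.coeff i := fun i =>
      Ideal.Quotient.mk_surjective _
    choose b hb using hlift
    refine ⟨F.natDegree, fun i => b (F.natDegree - i), ?_⟩
    rw [hkey]
    rw [← hF0, Polynomial.eval₂_eq_sum_range, Finset.sum_range_succ, add_comm]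
    congr 1
    · symm
      refine Finset.sum_bij' (fun i _ => F.natDegree - i) (fun i _ => F.natDegree - i) ?_ ?_ ?_ ?_ ?_
      · intro i hi
        rw [Finset.mem_range] at hi
        rw [Finset.mem_Icc]; omega
      · intro i hi
        rw [Finset.mem_Icc] at hi
        rw [Finset.mem_range]; omega
      · intro i hi
        rw [Finset.mem_range] at hi
        omega
      · intro i hi
        rw [Finset.mem_Icc] at hi
        omega
      · intro i hi
        rw [Finset.mem_range] at hi
        have h3 : F.natDegree - (F.natDegree - i) = i := by omega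
        rw [h3, hb]
    · rw [hF.coeff_natDegree, map_one, one_mul]
  · rintro ⟨N, a, h⟩
    rw [hkey] at h
    refine ⟨Polynomial.X ^ N + ∑ i ∈ Finset.Icc 1 N, Polynomial.C (Ideal.Quotient.mk p (a i)) * Polynomial.X ^ (N - i), ?_, ?_⟩
    · rcases Nat.eq_zero_or_pos N with hN | hN
      · subst hN; simp
      · refine Polynomial.monic_X_pow_add ?_
        refine (Polynomial.degree_sum_le _ _).trans_lt ?_
        rw [Finset.sup_lt_iff (by exact WithBot.bot_lt_coe N)]
        intro i hi
        rw [Finset.mem_Icc] at hi
        refine (Polynomial.degree_C_mul_X_pow_le _ _).trans_lt ?_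
        exact_mod_cast (by omega : N - i < N)
    · rw [← h]
      simp [Polynomial.eval₂_finsetSum]
      rfl

end Groth.Agent.S16362
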