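import Groth.Statements.S16363
import Groth.Agent.MovLem.K837.DenseExt
import Groth.Agent.VarietyA.SmoothReg

set_option autoImplicit false
universe u
open CategoryTheory Limits
open MovLem

namespace Groth.Agent.S16363

open AlgebraicGeometry in
/-- Let k be a field, X a k-scheme of finite type, K an extension field of k and U' ⊆ X_K = X ×_k Spec K
a dense open subset. There exists a dense open U ⊆ X with the following property: for every
algebraic closure k̄ of k, every field Ω that is simultaneously a k̄-algebra and a K-algebra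
compatibly with k, and every k-morphism x : Spec k̄ → X whose image point lies in U, every
K-morphism y : Spec Ω → X_K whose composite with the projection X_K → X is the composite Spec Ω →
Spec k̄ → X has image point in U'. (In words: the k̄-points of U, viewed as Ω-points of X_K, lie in
U'.) -/
theorem result
    {k K : Type u} [Field k] [Field K] [Algebra k K]
    (X : Scheme.{u}) (f : X ⟶ Spec (CommRingCat.of k)) [LocallyOfFiniteType f] [QuasiCompact f]
    (U' : (pullback f (Spec.map (CommRingCat.ofHom (algebraMap k K)))).Opens)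
    (hU' : Dense (U' : Set ↥(pullback f (Spec.map (CommRingCat.ofHom (algebraMap k K)))))) :
    ∃ U : X.Opens, Dense (U : Set ↥X) ∧
      ∀ (kb Ω : Type u) [Field kb] [Algebra k kb] [IsAlgClosure k kb]
        [Field Ω] [Algebra k Ω] [Algebra kb Ω] [Algebra K Ω] [IsScalarTower k kb Ω] [IsScalarTower k K Ω]
        (x : Spec (CommRingCat.of kb) ⟶ X),
        x ≫ f = Spec.map (CommRingCat.ofHom (algebraMap k kb)) →
        (∀ t : ↥(Spec (CommRingCat.of kb)), x.base t ∈ U) →
        ∀ (y : Spec (CommRingCat.of Ω) ⟶ pullback f (Spec.map (CommRingCat.ofHom (algebraMap k K)))),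
          y ≫ pullback.fst f (Spec.map (CommRingCat.ofHom (algebraMap k K))) =
              Spec.map (CommRingCat.ofHom (algebraMap kb Ω)) ≫ x →
          y ≫ pullback.snd f (Spec.map (CommRingCat.ofHom (algebraMap k K))) =
              Spec.map (CommRingCat.ofHom (algebraMap K Ω)) →
          ∀ t : ↥(Spec (CommRingCat.of Ω)), y.base t ∈ U' := by
  classical
  choose B cB aB ι₀ p hι hιf hp using fun x : X => Groth.Agent.VarietyA.SmoothReg.exists_chart_k f x
  have hFT : ∀ x, Algebra.FiniteType k (B x) := fun x =>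
    Groth.Agent.VarietyA.SmoothReg.finiteType_of_chart f (ι₀ x) (hιf x)
  choose V hVd hV using fun x : X => K837.DenseExt.chart X f U' hU' (B x) (ι₀ x) (hιf x)
  refine ⟨⨆ x, (ι₀ x) ''ᵁ (V x), ?_, ?_⟩
  · intro x
    rw [mem_closure_iff]
    intro o ho hxo
    have h1 : p x ∈ (ι₀ x) ⁻¹' o := by
      rw [Set.mem_preimage, hp x]
      exact hxo
    obtain ⟨w, hwo, hwV⟩ := (hVd x).inter_open_nonempty _ (ho.preimage (ι₀ x).continuous) ⟨_, h1⟩
    refine ⟨ι₀ x w, hwo, ?_⟩
    exact TopologicalSpace.Opens.mem_iSup.mpr ⟨x, w, hwV, rfl⟩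
  · intro kb Ω _ _ _ _ _ _ _ _ _ x hx hxU y hy1 hy2
    let t₀ : Spec (CommRingCat.of kb) := (⊥ : PrimeSpectrum kb)
    obtain ⟨z, w, hw, hwx⟩ := TopologicalSpace.Opens.mem_iSup.mp (hxU t₀)
    have hrange : Set.range x ⊆ Set.range (ι₀ z) := by
      rintro _ ⟨t, rfl⟩
      have ht : t = t₀ := Subsingleton.elim _ _
      rw [ht]
      exact ⟨w, hwx⟩
    let x' := IsOpenImmersion.lift (ι₀ z) x hrange
    have hx' : x' ≫ ι₀ z = x := IsOpenImmersion.lift_fac _ _ _
    have hx'V : ∀ t, x' t ∈ V z := by
      intro t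
      have ht : t = t₀ := Subsingleton.elim _ _
      have h1 : ι₀ z (x' t) = ι₀ z w := by
        have h2 : (x' ≫ ι₀ z) t = x t := by rw [hx']
        refine (Eq.trans ?_ (h2.trans (by rw [ht]))).trans hwx.symm
        rfl
      rw [(ι₀ z).isOpenEmbedding.injective h1]
      exact hw
    have halg : Algebra.IsAlgebraic k kb := IsAlgClosure.isAlgebraic
    exact hV z kb Ω x' hx'V y (by rw [hx']; exact hy1) hy2

end Groth.Agent.S16363
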