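import Groth.Statements.S16364
import Groth.Agent.MovLem.K837.RCSch

set_option autoImplicit false
universe u
open CategoryTheory Limits
open MovLem

namespace Groth.Agent.S16364

open AlgebraicGeometry in
/-- Let A be a Dedekind domain with spectrum B, and let φ : X → B be a morphism of finite type which is
equidimensional of relative dimension d in the sense that every irreducible component of X dominates
B and every irreducible component of every fibre of φ has dimension d. Let x₀ be a point of X whose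
image b₀ in B has infinite residue field. Then there exist affine schemes Y and B', étale morphisms
g : Y → X and h : B' → B, points y₀ of Y over x₀ and b₀' of B' over b₀ at which g and h induce
isomorphisms of residue fields (Nisnevich neighbourhoods), a morphism ψ : Y → B' with ψ(y₀) = b₀'
and g ∘ φ = ψ ∘ h as maps to B, and a finite surjective morphism of B'-schemes from Y to affine
d-space over B'. -/
theorem result
    (A : Type u) [CommRing A] [IsDedekindDomain A]
    (X : Scheme.{u}) (φ : X ⟶ Spec (CommRingCat.of A)) [LocallyOfFiniteType φ] [QuasiCompact φ]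
    (d : ℕ)
    (hdom : ∀ Z ∈ irreducibleComponents (↥X : Type u), closure (φ.base '' Z) = Set.univ)
    (hfib : ∀ b : ↥(Spec (CommRingCat.of A)), ∀ Z ∈ irreducibleComponents (↥(φ.fiber b) : Type u),
      topologicalKrullDim (↥Z : Type u) = (d : WithBot ℕ∞))
    (x₀ : ↥X) (hinf : Infinite ↑((Spec (CommRingCat.of A)).residueField (φ.base x₀))) :
    ∃ (Y B' : Scheme.{u}) (g : Y ⟶ X) (h : B' ⟶ Spec (CommRingCat.of A)) (ψ : Y ⟶ B')
      (y₀ : ↥Y) (b₀ : ↥B') (q : Y ⟶ 𝔸(ULift.{u} (Fin d); B')),
      IsAffine Y ∧ IsAffine B' ∧ Etale g ∧ Etale h ∧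
      g.base y₀ = x₀ ∧ h.base b₀ = φ.base x₀ ∧ ψ.base y₀ = b₀ ∧
      IsIso (g.residueFieldMap y₀) ∧ IsIso (h.residueFieldMap b₀) ∧
      g ≫ φ = ψ ≫ h ∧ q ≫ (𝔸(ULift.{u} (Fin d); B') ↘ B') = ψ ∧
      IsFinite q ∧ Surjective q := by
  have hrel : Cyc.HasRelDim φ d := hfib
  have hd : FlatMor.fibreDimAt φ x₀ = d := by
    refine Groth.Agent.Ega4fib.H174.EquidimAff.fibreDimAt_eq φ x₀ d ⊤ trivial fun z _ hz => ?_
    exact Groth.Agent.CycB.RelDim.rtd_of_fibGeneric hrel (fun x' h1 h2 => hz x' h2 h1)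
  have hN : IsDomain ((Spec (CommRingCat.of A)).presheaf.stalk (φ x₀)) ∧
      IsIntegrallyClosed ((Spec (CommRingCat.of A)).presheaf.stalk (φ x₀)) := by
    let _ : Algebra A ((Spec (CommRingCat.of A)).presheaf.stalk (φ x₀)) :=
      StructureSheaf.stalkAlgebra A (φ x₀)
    have hloc : IsLocalization.AtPrime ((Spec (CommRingCat.of A)).presheaf.stalk (φ x₀))
        (φ x₀).asIdeal := StructureSheaf.IsLocalization.to_stalk A (φ x₀)
    have h0 : (φ x₀).asIdeal.primeCompl ≤ nonZeroDivisors A :=
      Ideal.primeCompl_le_nonZeroDivisors _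
    exact ⟨IsLocalization.isDomain_of_le_nonZeroDivisors (R := A) _ h0,
      isIntegrallyClosed_of_isLocalization (R := A) _ (φ x₀).asIdeal.primeCompl h0⟩
  obtain ⟨Y, B', g, h, ψ, y₀, b₀, q, h1, h2, h3, h4, h5, h6, h7, h8, h9, h10, h11, h12, h13⟩ :=
    K837.RC.exists_nbhd φ x₀ d hd hN
  refine ⟨Y, B', g, h, ψ, y₀, b₀, q, h1, h2, h4, h5, h6, h7, h8, h9, h10, h11, h12, h13, ?_⟩
  exact K837.RCSurj.surjective φ d hrel hdom g h ψ q h11 h12 y₀

end Groth.Agent.S16364
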