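import Groth.Statements.S16365
import Groth.Agent.MovLem.K837.SmPoint
import Groth.Agent.MovLem.K837.GenPos2
import Mathlib.Algebra.Polynomial.Laurent

set_option autoImplicit false
universe u
open CategoryTheory Limits
open MovLem

namespace Groth.Agent.S16365

open AlgebraicGeometry in
/-- Let k be an infinite field, X a scheme of finite type over k, U an open subscheme of X which is
smooth over k, and x a point of X. Assume that if x lies in U then x is not an isolated point of X.
Then there exist an open neighbourhood V of x in X and a k-morphism v from V to the multiplicative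
group Spec k[T, T⁻¹] whose restriction to V ∩ U is a smooth morphism. (The published statement has
no hypothesis on x; when x is an isolated point of X lying in U the conclusion fails, since a
zero-dimensional scheme admits no smooth morphism to a curve, and in every other case an isolated
point can be discarded, so that case is excluded here.) -/
theorem result
    {k : Type u} [Field k] [Infinite k]
    (X : Scheme.{u}) (f : X ⟶ Spec (CommRingCat.of k)) [LocallyOfFiniteType f] [QuasiCompact f]
    (U : X.Opens) [Smooth (U.ι ≫ f)] (x : ↥X) (hx : x ∈ U → ¬ IsOpen ({x} : Set ↥X)) :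
    ∃ (V : X.Opens) (v : (↑V : Scheme.{u}) ⟶ Spec (CommRingCat.of (LaurentPolynomial k))),
      x ∈ V ∧
      v ≫ Spec.map (CommRingCat.ofHom (algebraMap k (LaurentPolynomial k))) = V.ι ≫ f ∧
      Smooth (X.homOfLE (inf_le_left : V ⊓ U ≤ V) ≫ v) := by
  classical
  have hlfp : LocallyOfFinitePresentation f :=
    LocallyOfFinitePresentation.iff_locallyOfFiniteType.mpr inferInstance
  obtain ⟨B, _, _, ι₀, p, hι, hιf, rfl⟩ := Groth.Agent.VarietyA.SmoothReg.exists_chart_k f x
  have hFT : Algebra.FiniteType k B := Groth.Agent.VarietyA.SmoothReg.finiteType_of_chart f ι₀ hιf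
  let W : Set (PrimeSpectrum B) := ι₀ ⁻¹' (U : Set X)
  have hWo : IsOpen W := U.isOpen.preimage ι₀.continuous
  have hW : ∀ z ∈ W, Algebra.IsSmoothAt k z.asIdeal := by
    intro z hz
    rw [← Groth.Agent.VarietyA.SmoothReg.mem_smoothLocus_iff_chart f ι₀ hιf]
    exact Groth.Agent.VarietyA.SmoothLocusSch.le_smoothLocus f U hz
  obtain ⟨v₀, e₀, hv₀, he₀, hgood⟩ := K837.GenPos.exists_good_function W hWo hW p (by
    intro hp hopen
    apply hx hp
    rw [← Set.image_singleton]
    exact ι₀.isOpenEmbedding.isOpenMap _ hopen)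
  set e : B := e₀ * v₀ with he
  have hep : e ∉ p.asIdeal := fun h => (p.isPrime.mem_or_mem h).elim he₀ hv₀
  -- the open subscheme
  let j₀ : Spec (CommRingCat.of (Localization.Away e)) ⟶ Spec (CommRingCat.of B) :=
    Spec.map (CommRingCat.ofHom (algebraMap B (Localization.Away e)))
  have hj₀ : IsOpenImmersion j₀ := IsOpenImmersion.of_isLocalization e
  have hrange : ∀ z : Spec (CommRingCat.of B), e ∉ z.asIdeal → ∃ y, j₀ y = z := by
    intro z hz
    have h1 : z ∈ Set.range (PrimeSpectrum.comap (algebraMap B (Localization.Away e))) := by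
      rw [PrimeSpectrum.localization_away_comap_range (Localization.Away e) e]
      exact hz
    exact h1
  have hrange' : ∀ y, e ∉ (j₀ y).asIdeal := by
    intro y
    have h1 : j₀ y ∈ Set.range (PrimeSpectrum.comap (algebraMap B (Localization.Away e))) := ⟨y, rfl⟩
    rw [PrimeSpectrum.localization_away_comap_range (Localization.Away e) e] at h1
    exact h1
  let j : Spec (CommRingCat.of (Localization.Away e)) ⟶ X := j₀ ≫ ι₀
  let φ₀ : CommRingCat.of (Polynomial k) ⟶ CommRingCat.of B :=
    CommRingCat.ofHom (Polynomial.aeval (R := k) v₀).toRingHom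
  have hunit : IsUnit (algebraMap B (Localization.Away e) v₀) := by
    have h1 : IsUnit (algebraMap B (Localization.Away e) e) :=
      IsLocalization.Away.algebraMap_isUnit e
    rw [he, map_mul] at h1
    exact isUnit_of_mul_isUnit_right h1
  obtain ⟨vu, hvu⟩ := hunit
  let ψ : CommRingCat.of (LaurentPolynomial k) ⟶ CommRingCat.of (Localization.Away e) :=
    CommRingCat.ofHom (LaurentPolynomial.eval₂ (algebraMap k (Localization.Away e)) vu)
  let τ : CommRingCat.of (Polynomial k) ⟶ CommRingCat.of (LaurentPolynomial k) :=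
    CommRingCat.ofHom (algebraMap (Polynomial k) (LaurentPolynomial k))
  have hτ : IsOpenImmersion (Spec.map τ) :=
    IsOpenImmersion.of_isLocalization (Polynomial.X : Polynomial k)
  have hτψ : τ ≫ ψ = φ₀ ≫ CommRingCat.ofHom (algebraMap B (Localization.Away e)) := by
    apply CommRingCat.hom_ext
    apply RingHom.ext
    intro a
    change LaurentPolynomial.eval₂ (algebraMap k (Localization.Away e)) vu (Polynomial.toLaurent a) =
      algebraMap B (Localization.Away e) (Polynomial.aeval v₀ a)
    rw [LaurentPolynomial.eval₂_toLaurent, hvu, Polynomial.aeval_def, Polynomial.hom_eval₂,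
      ← IsScalarTower.algebraMap_eq]
  have hψk : CommRingCat.ofHom (algebraMap k (LaurentPolynomial k)) ≫ ψ =
      CommRingCat.ofHom (algebraMap k B) ≫ CommRingCat.ofHom (algebraMap B (Localization.Away e)) := by
    ext a
    change LaurentPolynomial.eval₂ (algebraMap k (Localization.Away e)) vu
      (algebraMap k (LaurentPolynomial k) a) =
      algebraMap B (Localization.Away e) (algebraMap k B a)
    rw [← LaurentPolynomial.C_eq_algebraMap, ← Polynomial.toLaurent_C, LaurentPolynomial.eval₂_toLaurent,
      Polynomial.eval₂_C, ← IsScalarTower.algebraMap_apply]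
  let v : (j.opensRange : Scheme.{u}) ⟶ Spec (CommRingCat.of (LaurentPolynomial k)) :=
    j.isoOpensRange.inv ≫ Spec.map ψ
  have hvτ : v ≫ Spec.map τ = j.isoOpensRange.inv ≫ j₀ ≫ Spec.map φ₀ := by
    simp only [v, j₀, Category.assoc, ← Spec.map_comp]
    rw [hτψ]
  have hlfpφ : LocallyOfFinitePresentation (Spec.map φ₀) := by
    have hφ₀k : CommRingCat.ofHom (Polynomial.C : k →+* Polynomial k) ≫ φ₀ =
        CommRingCat.ofHom (algebraMap k B) := by
      ext a
      change Polynomial.aeval v₀ (Polynomial.C a) = _
      rw [Polynomial.aeval_C]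
      rfl
    have h1 : LocallyOfFiniteType (Spec.map φ₀ ≫
        Spec.map (CommRingCat.ofHom (Polynomial.C : k →+* Polynomial k))) := by
      rw [← Spec.map_comp, hφ₀k, ← hιf]
      infer_instance
    have h2 : LocallyOfFiniteType (Spec.map φ₀) :=
      locallyOfFiniteType_of_comp _ (Spec.map (CommRingCat.ofHom (Polynomial.C : k →+* Polynomial k)))
    exact LocallyOfFinitePresentation.iff_locallyOfFiniteType.mpr h2
  refine ⟨j.opensRange, v, ?_, ?_, ?_⟩
  · obtain ⟨y, hy⟩ := hrange p hep
    exact ⟨y, by simp [j, hy]⟩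
  · simp only [v, Category.assoc]
    rw [← Spec.map_comp, hψk, Spec.map_comp, ← hιf, ← Category.assoc (Spec.map _),
      ← Category.assoc, Scheme.Hom.isoOpensRange_inv_comp]
  · -- smoothness
    have hlfpg : LocallyOfFinitePresentation (v ≫ Spec.map τ) := by
      rw [hvτ]
      infer_instance
    have key : Smooth (X.homOfLE (inf_le_left : j.opensRange ⊓ U ≤ j.opensRange) ≫ v ≫ Spec.map τ) := by
      rw [← Scheme.Hom.smoothLocus_eq_top_iff, eq_top_iff]
      intro w _
      rw [Groth.Agent.VarietyA.SmoothLocusSch.mem_smoothLocus_comp_iff]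
      set y := X.homOfLE (inf_le_left : j.opensRange ⊓ U ≤ j.opensRange) w with hy
      have hyX : j.opensRange.ι y = w.1 := by
        change (X.homOfLE _ ≫ j.opensRange.ι) w = _
        rw [Scheme.homOfLE_ι]
        rfl
      obtain ⟨y', hy'⟩ : ∃ y', j.isoOpensRange.hom y' = y := ⟨j.isoOpensRange.inv y, by
        change (j.isoOpensRange.inv ≫ j.isoOpensRange.hom) y = y
        rw [Iso.inv_hom_id]
        rfl⟩
      have hjy' : ι₀ (j₀ y') = w.1 := by
        rw [← hyX, ← hy']
        change _ = (j.isoOpensRange.hom ≫ j.opensRange.ι) y'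
        rw [Scheme.Hom.isoOpensRange_hom_ι]
        simp [j]
      have hzW : j₀ y' ∈ W := by
        change ι₀ (j₀ y') ∈ U
        rw [hjy']
        exact w.2.2
      have hze : e₀ ∉ (j₀ y').asIdeal := fun h => hrange' y' (Ideal.mul_mem_right _ _ h)
      have h1 : j₀ y' ∈ (Spec.map φ₀).smoothLocus :=
        K837.SmPoint.mem_smoothLocus v₀ (j₀ y') (hW _ hzW) (hgood _ hzW hze)
      have h2 : y' ∈ (j₀ ≫ Spec.map φ₀).smoothLocus := by
        rw [Groth.Agent.VarietyA.SmoothLocusSch.mem_smoothLocus_comp_iff]
        exact h1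
      rw [← hy', ← Groth.Agent.VarietyA.SmoothLocusSch.mem_smoothLocus_comp_iff]
      refine (Groth.Agent.VarietyA.SmoothLocusSch.mem_smoothLocus_of_eq ?_ y').mp h2
      rw [hvτ, Iso.hom_inv_id_assoc]
    rw [← Category.assoc] at key
    exact MorphismProperty.of_postcomp @Smooth _ (Spec.map τ) hτ key

end Groth.Agent.S16365
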