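import Groth.Statements.S16366
import Groth.Agent.MovLem.K837.SmPoint

set_option autoImplicit false
universe u
open CategoryTheory Limits Opposite
open MovLem

namespace Groth.Agent.S16366

open AlgebraicGeometry in
/-- Let k be an infinite field, X a scheme of finite type over k and u a global function on X such that
the open subscheme X_u where u is invertible is smooth over k. Let x be a point of X at which u is
not invertible, and let x'_1, …, x'_n be finitely many points of X_u, each of which specializes to
x. Then there exist an open neighbourhood X' of x, a unit e among the functions on X', and the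
k-morphism g : X' → A^1_k = Spec k[T] whose pulled-back coordinate T is e·u restricted to X', such
that g is smooth on some open neighbourhood of each x'_i. (Equivalently: after shrinking X around x,
the equation u of the principal divisor D = (u) is replaced by another equation e·u of the same
divisor that is smooth at the chosen points. The published statement takes D an effective Cartier
divisor, i.e. u a non-zero-divisor; that is not assumed here, and the argument does not need it.) -/
theorem result
    {k : Type u} [Field k] [Infinite k]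
    (X : Scheme.{u}) (f : X ⟶ Spec (CommRingCat.of k)) [LocallyOfFiniteType f] [QuasiCompact f]
    (u : Γ(X, ⊤)) [Smooth ((X.basicOpen u).ι ≫ f)]
    (x : ↥X) (hx : x ∉ X.basicOpen u)
    {ι : Type} [Finite ι] (x' : ι → ↥X) (hx' : ∀ i, x' i ∈ X.basicOpen u) (hgen : ∀ i, x' i ⤳ x) :
    ∃ (X' : X.Opens) (e : Γ(X, X')) (g : (↑X' : Scheme.{u}) ⟶ Spec (CommRingCat.of (Polynomial k))),
      x ∈ X' ∧ IsUnit e ∧
      g ≫ Spec.map (CommRingCat.ofHom (Polynomial.C : k →+* Polynomial k)) = X'.ι ≫ f ∧
      X'.topIso.hom (g.appTop ((Scheme.ΓSpecIso (CommRingCat.of (Polynomial k))).inv Polynomial.X)) =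
        e * X.presheaf.map (homOfLE le_top).op u ∧
      ∀ i, ∃ (W : X.Opens) (hW : W ≤ X'), x' i ∈ W ∧ Smooth (X.homOfLE hW ≫ g) := by
  classical
  have hlfp : LocallyOfFinitePresentation f :=
    LocallyOfFinitePresentation.iff_locallyOfFiniteType.mpr inferInstance
  obtain ⟨B, _, _, ι₀, p, hι, hιf, rfl⟩ := Groth.Agent.VarietyA.SmoothReg.exists_chart_k f x
  have hFT : Algebra.FiniteType k B := Groth.Agent.VarietyA.SmoothReg.finiteType_of_chart f ι₀ hιf
  -- the points of the chart
  have hmem : ∀ i, ∃ q : Spec (CommRingCat.of B), ι₀ q = x' i := fun i =>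
    (hgen i).mem_open ι₀.isOpenEmbedding.isOpen_range ⟨p, rfl⟩
  choose q hq using hmem
  set uB : B := (Scheme.ΓSpecIso (CommRingCat.of B)).hom (ι₀.appTop u) with huB
  have hbas : ∀ z : Spec (CommRingCat.of B), ι₀ z ∈ X.basicOpen u ↔ uB ∉ z.asIdeal := by
    intro z
    have h1 : ι₀ z ∈ X.basicOpen u ↔ z ∈ ι₀ ⁻¹ᵁ X.basicOpen u := Iff.rfl
    rw [h1, Scheme.preimage_basicOpen_top, basicOpen_eq_of_affine']
    rfl
  have hup : uB ∈ p.asIdeal := by
    by_contra h
    exact hx ((hbas p).mpr h)
  have huq : ∀ i, uB ∉ (q i).asIdeal := fun i => (hbas (q i)).mp (by rw [hq i]; exact hx' i)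
  have hle : ∀ i, (q i).asIdeal ≤ p.asIdeal := by
    intro i
    have h1 : q i ⤳ p := by
      rw [← ι₀.isOpenEmbedding.isInducing.specializes_iff, hq i]
      exact hgen i
    exact (PrimeSpectrum.le_iff_specializes (q i) p).mpr h1
  have hnmax : ∀ i, ¬ (q i).asIdeal.IsMaximal := by
    intro i hmax
    have h1 := hmax.eq_of_le p.isPrime.ne_top (hle i)
    apply huq i
    rw [h1]
    exact hup
  have hsm : ∀ i, Algebra.IsSmoothAt k (q i).asIdeal := by
    intro i
    rw [← Groth.Agent.VarietyA.SmoothReg.mem_smoothLocus_iff_chart f ι₀ hιf, hq i]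
    exact Groth.Agent.VarietyA.SmoothLocusSch.le_smoothLocus f (X.basicOpen u) (hx' i)
  obtain ⟨e, hep, heq⟩ := K837.Diff.exists_good (k := k) uB p.asIdeal p.isPrime.ne_top
    (fun i => (q i).asIdeal) hnmax huq
  have heq' : ∀ i, e ∉ (q i).asIdeal := fun i h => hep (hle i h)
  -- the open subscheme
  let j₀ : Spec (CommRingCat.of (Localization.Away e)) ⟶ Spec (CommRingCat.of B) :=
    Spec.map (CommRingCat.ofHom (algebraMap B (Localization.Away e)))
  have hj₀ : IsOpenImmersion j₀ := IsOpenImmersion.of_isLocalization e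
  have hrange : ∀ z : Spec (CommRingCat.of B), e ∉ z.asIdeal → ∃ y, j₀ y = z := by
    intro z hz
    have h1 : z ∈ Set.range (PrimeSpectrum.comap (algebraMap B (Localization.Away e))) := by
      rw [PrimeSpectrum.localization_away_comap_range (Localization.Away e) e]
      exact hz
    exact h1
  let j : Spec (CommRingCat.of (Localization.Away e)) ⟶ X := j₀ ≫ ι₀
  let φ₀ : CommRingCat.of (Polynomial k) ⟶ CommRingCat.of B :=
    CommRingCat.ofHom (Polynomial.aeval (R := k) (e * uB)).toRingHom
  let g : (j.opensRange : Scheme.{u}) ⟶ Spec (CommRingCat.of (Polynomial k)) :=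
    j.isoOpensRange.inv ≫ j₀ ≫ Spec.map φ₀
  have hφ₀k : CommRingCat.ofHom (Polynomial.C : k →+* Polynomial k) ≫ φ₀ =
      CommRingCat.ofHom (algebraMap k B) := by
    ext a
    change Polynomial.aeval (e * uB) (Polynomial.C a) = _
    rw [Polynomial.aeval_C]
    rfl
  have hgk : g ≫ Spec.map (CommRingCat.ofHom (Polynomial.C : k →+* Polynomial k)) =
      j.opensRange.ι ≫ f := by
    simp only [g, Category.assoc]
    rw [← Spec.map_comp, hφ₀k, ← hιf, ← Category.assoc j₀, ← Category.assoc,
      Scheme.Hom.isoOpensRange_inv_comp]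
  have hlfpφ : LocallyOfFinitePresentation (Spec.map φ₀) := by
    have h1 : LocallyOfFiniteType (Spec.map φ₀ ≫
        Spec.map (CommRingCat.ofHom (Polynomial.C : k →+* Polynomial k))) := by
      rw [← Spec.map_comp, hφ₀k, ← hιf]
      infer_instance
    have h2 : LocallyOfFiniteType (Spec.map φ₀) :=
      locallyOfFiniteType_of_comp _ (Spec.map (CommRingCat.ofHom (Polynomial.C : k →+* Polynomial k)))
    exact LocallyOfFinitePresentation.iff_locallyOfFiniteType.mpr h2
  have hlfpg : LocallyOfFinitePresentation g := by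
    simp only [g]
    infer_instance
  -- sections
  let eB : Γ(Spec (CommRingCat.of (Localization.Away e)), ⊤) :=
    (Scheme.ΓSpecIso (CommRingCat.of (Localization.Away e))).inv (algebraMap B (Localization.Away e) e)
  let e' : Γ(X, j.opensRange) := j.opensRange.topIso.hom (j.isoOpensRange.inv.appTop eB)
  refine ⟨j.opensRange, e', g, ?_, ?_, hgk, ?_, ?_⟩
  · obtain ⟨y, hy⟩ := hrange p hep
    exact ⟨y, by simp [j, hy]⟩
  · have h1 : IsUnit (algebraMap B (Localization.Away e) e) :=
      IsLocalization.Away.algebraMap_isUnit e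
    have h2 : IsUnit eB := h1.map (Scheme.ΓSpecIso (CommRingCat.of (Localization.Away e))).inv.hom
    exact (h2.map (j.isoOpensRange.inv.appTop).hom).map j.opensRange.topIso.hom.hom
  · -- the equation
    have hnat : ∀ {R S : CommRingCat.{u}} (ψ : R ⟶ S) (r : R),
        (Spec.map ψ).appTop ((Scheme.ΓSpecIso R).inv r) = (Scheme.ΓSpecIso S).inv (ψ r) := by
      intro R S ψ r
      have h1 := ConcreteCategory.congr_hom (Scheme.ΓSpecIso_inv_naturality ψ) r
      exact h1.symm
    have hX : φ₀ Polynomial.X = e * uB := Polynomial.aeval_X _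
    have hu1 : ι₀.appTop u = (Scheme.ΓSpecIso (CommRingCat.of B)).inv uB := by
      rw [huB]
      exact (ConcreteCategory.congr_hom (Scheme.ΓSpecIso (CommRingCat.of B)).hom_inv_id (ι₀.appTop u)).symm
    have hg1 : g.appTop ((Scheme.ΓSpecIso (CommRingCat.of (Polynomial k))).inv Polynomial.X) =
        j.isoOpensRange.inv.appTop (j₀.appTop ((Scheme.ΓSpecIso (CommRingCat.of B)).inv (e * uB))) := by
      have h1 : g.appTop = (Spec.map φ₀).appTop ≫ j₀.appTop ≫ j.isoOpensRange.inv.appTop := by
        simp only [g, Scheme.Hom.comp_appTop, Category.assoc]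
      rw [h1, CommRingCat.comp_apply, CommRingCat.comp_apply, hnat, hX]
    have he1 : j₀.appTop ((Scheme.ΓSpecIso (CommRingCat.of B)).inv e) = eB := hnat _ _
    have hι1 : j.opensRange.ι.appTop u = j.isoOpensRange.inv.appTop (j₀.appTop (ι₀.appTop u)) := by
      have h1 : j.opensRange.ι = j.isoOpensRange.inv ≫ j := (Scheme.Hom.isoOpensRange_inv_comp j).symm
      have h2 : j.opensRange.ι.appTop u = (j.isoOpensRange.inv ≫ j).appTop u := by rw [← h1]
      rw [h2]
      simp only [j, Scheme.Hom.comp_appTop, CommRingCat.comp_apply]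
    have hres : X.presheaf.map (homOfLE le_top).op u =
        j.opensRange.topIso.hom (j.opensRange.ι.appTop u) := by
      have h0 : X.presheaf.map (homOfLE (le_top : j.opensRange ≤ ⊤)).op =
          j.opensRange.ι.appTop ≫ j.opensRange.topIso.hom := by
        rw [Scheme.Opens.ι_appTop, Scheme.Opens.topIso_hom]
        exact (congrArg X.presheaf.map (Subsingleton.elim _ _)).trans (X.presheaf.map_comp _ _)
      exact ConcreteCategory.congr_hom h0 u
    rw [hg1, hres, hι1, hu1, map_mul, map_mul, map_mul, map_mul, he1]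
  · intro i
    have hW : j.opensRange.ι ''ᵁ g.smoothLocus ≤ j.opensRange := by
      rintro _ ⟨y, -, rfl⟩
      exact y.2
    refine ⟨j.opensRange.ι ''ᵁ g.smoothLocus, hW, ?_, ?_⟩
    · obtain ⟨y, hy⟩ := hrange (q i) (heq' i)
      have h1 : q i ∈ (Spec.map φ₀).smoothLocus :=
        K837.SmPoint.mem_smoothLocus (e * uB) (q i) (hsm i) (heq i)
      have h2 : y ∈ (j₀ ≫ Spec.map φ₀).smoothLocus := by
        rw [Groth.Agent.VarietyA.SmoothLocusSch.mem_smoothLocus_comp_iff, hy]
        exact h1
      have h3 : j.isoOpensRange.hom y ∈ g.smoothLocus := by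
        rw [← Groth.Agent.VarietyA.SmoothLocusSch.mem_smoothLocus_comp_iff]
        refine (Groth.Agent.VarietyA.SmoothLocusSch.mem_smoothLocus_of_eq ?_ y).mp h2
        simp only [g, Iso.hom_inv_id_assoc]
      refine ⟨j.isoOpensRange.hom y, h3, ?_⟩
      rw [← hq i, ← hy]
      change (j.isoOpensRange.hom ≫ j.opensRange.ι) y = _
      rw [Scheme.Hom.isoOpensRange_hom_ι]
      simp [j]
    · rw [← Scheme.Hom.smoothLocus_eq_top_iff, eq_top_iff]
      intro w _
      rw [Groth.Agent.VarietyA.SmoothLocusSch.mem_smoothLocus_comp_iff]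
      obtain ⟨y, hy, hyw⟩ := w.2
      have h1 : X.homOfLE hW w = y := by
        apply j.opensRange.ι.isOpenEmbedding.injective
        refine Eq.trans ?_ hyw.symm
        change (X.homOfLE hW ≫ j.opensRange.ι) w = _
        rw [Scheme.homOfLE_ι]
        rfl
      rw [h1]
      exact hy

end Groth.Agent.S16366
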