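import Groth.Statements.S16367
import Mathlib.Tactic.Ring
import Mathlib.RingTheory.Ideal.Quotient.Operations

set_option autoImplicit false
universe u
open MovLem

namespace Groth.Agent.S16367

/-- The chart computation of its proof: let k be a commutative ring, P = k[x_1, …, x_d, w_1, …, w_n] a
polynomial ring in two groups of variables, u a polynomial in the x-variables alone, v a vector in
k^d, J a set of indices among the w-variables with ζ = ∏_{j ∈ J} w_j, and N ≤ s natural numbers. Let
(f_λ) be a finite family of elements of P, each of total degree at most N in the x-variables, and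
assume that ζ^N + c_1 ζ^(N-1) u + ⋯ + c_N u^N lies in the ideal generated by the f_λ for some c_1,
…, c_N ∈ P. For each λ let φ_λ ∈ P[τ] be the polynomial τ^N · f_λ(x + u^s v/τ, w), written out
monomial by monomial: a monomial a·x^m·w^m' of x-degree e = |m| contributes a · τ^(N-e) · ∏_i (τ x_i
+ u^s v_i)^(m_i) · w^m'. Then there are c'_1, …, c'_N ∈ P[τ] with (τζ)^N + c'_1 (τζ)^(N-1) u + ⋯ +
c'_N u^N in the ideal of P[τ] generated by the φ_λ. (This identity is what shows that translating a
cycle by t·u^s·v preserves the modulus condition on the chart whose coordinates are the z_i and the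
1/z_j, with τ = 1/t; integrality of ζ/u, resp. τζ/u, is expressed by such monic binary forms.) -/
theorem result
    {k : Type u} [CommRing k] (d n : ℕ) (u : MvPolynomial (Fin d) k) (v : Fin d → k)
    (J : Finset (Fin n)) (N s : ℕ) (hs : N ≤ s)
    {Λ : Type u} [Fintype Λ] (f : Λ → MvPolynomial (Fin d ⊕ Fin n) k)
    (hdeg : ∀ l, ∀ m ∈ (f l).support, ∑ i : Fin d, m (Sum.inl i) ≤ N)
    (c : ℕ → MvPolynomial (Fin d ⊕ Fin n) k)
    (hE : (∏ j ∈ J, MvPolynomial.X (Sum.inr j)) ^ N +
        ∑ i ∈ Finset.Icc 1 N, c i * (∏ j ∈ J, MvPolynomial.X (Sum.inr j)) ^ (N - i) *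
          MvPolynomial.rename Sum.inl u ^ i ∈ Ideal.span (Set.range f)) :
    ∃ c' : ℕ → Polynomial (MvPolynomial (Fin d ⊕ Fin n) k),
      (Polynomial.X * Polynomial.C (∏ j ∈ J, MvPolynomial.X (Sum.inr j))) ^ N +
        ∑ i ∈ Finset.Icc 1 N, c' i *
          (Polynomial.X * Polynomial.C (∏ j ∈ J, MvPolynomial.X (Sum.inr j))) ^ (N - i) *
            Polynomial.C (MvPolynomial.rename Sum.inl u) ^ i ∈
      Ideal.span (Set.range fun l : Λ =>
        ∑ m ∈ (f l).support,
          Polynomial.C (MvPolynomial.C (MvPolynomial.coeff m (f l))) *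
            Polynomial.X ^ (N - ∑ i : Fin d, m (Sum.inl i)) *
            (∏ i : Fin d, (Polynomial.X * Polynomial.C (MvPolynomial.X (Sum.inl i)) +
                Polynomial.C (MvPolynomial.rename Sum.inl u ^ s * MvPolynomial.C (v i))) ^ m (Sum.inl i)) *
            ∏ j : Fin n, Polynomial.C (MvPolynomial.X (Sum.inr j)) ^ m (Sum.inr j)) := by
  classical
  set ζ : MvPolynomial (Fin d ⊕ Fin n) k := ∏ j ∈ J, MvPolynomial.X (Sum.inr j) with hζ
  set U : MvPolynomial (Fin d ⊕ Fin n) k := MvPolynomial.rename Sum.inl u with hU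
  set φ : Λ → Polynomial (MvPolynomial (Fin d ⊕ Fin n) k) := fun l : Λ =>
        ∑ m ∈ (f l).support,
          Polynomial.C (MvPolynomial.C (MvPolynomial.coeff m (f l))) *
            Polynomial.X ^ (N - ∑ i : Fin d, m (Sum.inl i)) *
            (∏ i : Fin d, (Polynomial.X * Polynomial.C (MvPolynomial.X (Sum.inl i)) +
                Polynomial.C (U ^ s * MvPolynomial.C (v i))) ^ m (Sum.inl i)) *
            ∏ j : Fin n, Polynomial.C (MvPolynomial.X (Sum.inr j)) ^ m (Sum.inr j) with hφ
  obtain ⟨b, hb⟩ := (Ideal.mem_span_range_iff_exists_fun).mp hE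
  -- expansion of `C (f l)`
  have hexp : ∀ l, Polynomial.C (f l) = ∑ m ∈ (f l).support,
      Polynomial.C (MvPolynomial.C (MvPolynomial.coeff m (f l))) *
        ((∏ i : Fin d, Polynomial.C (MvPolynomial.X (Sum.inl i)) ^ m (Sum.inl i)) *
          ∏ j : Fin n, Polynomial.C (MvPolynomial.X (Sum.inr j)) ^ m (Sum.inr j)) := by
    intro l
    conv_lhs => rw [(f l).as_sum, map_sum]
    refine Finset.sum_congr rfl fun m _ => ?_
    rw [MvPolynomial.monomial_eq, map_mul, Finsupp.prod_fintype _ _ (by simp), Fintype.prod_sum_type]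
    simp only [map_mul, map_prod, map_pow]
  -- the congruence
  have hkey : ∀ (l : Λ) (Q : Type u) [CommRing Q] (q : Polynomial (MvPolynomial (Fin d ⊕ Fin n) k) →+* Q),
      q (Polynomial.C U) ^ s = 0 → q (φ l) = q (Polynomial.X ^ N * Polynomial.C (f l)) := by
    intro l Q _ q hqU
    rw [hexp l, hφ]
    simp only [map_sum, map_mul, map_prod, map_pow, map_add, Finset.mul_sum, hqU, zero_mul, add_zero]
    refine Finset.sum_congr rfl fun m hm => ?_
    have hle := hdeg l m hm
    have h1 : q Polynomial.X ^ N = q Polynomial.X ^ (N - ∑ i : Fin d, m (Sum.inl i)) *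
        q Polynomial.X ^ (∑ i : Fin d, m (Sum.inl i)) := by
      rw [← pow_add]; congr 1; omega
    have h2 : ∏ i : Fin d, (q Polynomial.X * q (Polynomial.C (MvPolynomial.X (Sum.inl i)))) ^ m (Sum.inl i) =
        q Polynomial.X ^ (∑ i : Fin d, m (Sum.inl i)) *
          ∏ i : Fin d, q (Polynomial.C (MvPolynomial.X (Sum.inl i))) ^ m (Sum.inl i) := by
      rw [← Finset.prod_pow_eq_pow_sum, ← Finset.prod_mul_distrib]
      exact Finset.prod_congr rfl fun i _ => mul_pow _ _ _
    rw [h1, h2]
    ring
  have hcong : ∀ l, φ l - Polynomial.X ^ N * Polynomial.C (f l) ∈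
      Ideal.span {(Polynomial.C U ^ s : Polynomial (MvPolynomial (Fin d ⊕ Fin n) k))} := by
    intro l
    rw [← Ideal.Quotient.mk_eq_mk_iff_sub_mem]
    refine hkey l (_ ⧸ Ideal.span {(Polynomial.C U ^ s : Polynomial (MvPolynomial (Fin d ⊕ Fin n) k))})
      (Ideal.Quotient.mk _) ?_
    exact (map_pow (Ideal.Quotient.mk _) _ _).symm.trans
      (Ideal.Quotient.eq_zero_iff_mem.mpr (Ideal.mem_span_singleton_self _))
  rcases Nat.eq_zero_or_pos N with hN | hN
  · subst hN
    refine ⟨fun _ => 0, ?_⟩
    have hφ0 : ∀ l, φ l = Polynomial.C (f l) := by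
      intro l
      rw [hexp l, hφ]
      refine Finset.sum_congr rfl fun m hm => ?_
      have hle := hdeg l m hm
      have h0 : ∀ i : Fin d, m (Sum.inl i) = 0 := by
        intro i
        have := Finset.sum_eq_zero_iff.mp (Nat.le_zero.mp hle) i (Finset.mem_univ i)
        exact this
      simp [h0]
    rw [Ideal.mem_span_range_iff_exists_fun]
    refine ⟨fun l => Polynomial.C (b l), ?_⟩
    have := congrArg (Polynomial.C : MvPolynomial (Fin d ⊕ Fin n) k →+* _) hb
    rw [map_sum] at this
    simp only [map_mul] at this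
    simp only [hφ0]
    rw [this]
    simp
  · choose δ hδ using fun l => Ideal.mem_span_singleton'.mp (hcong l)
    set Δ := ∑ l, Polynomial.C (b l) * δ l with hΔ
    refine ⟨fun i => Polynomial.C (c i) * Polynomial.X ^ i +
      (if i = N then Δ * Polynomial.C U ^ (s - N) else 0), ?_⟩
    rw [Ideal.mem_span_range_iff_exists_fun]
    refine ⟨fun l => Polynomial.C (b l), ?_⟩
    have hφ1 : ∀ l, φ l = Polynomial.X ^ N * Polynomial.C (f l) + δ l * Polynomial.C U ^ s := by
      intro l
      rw [hδ l]; ring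
    have h3 := congrArg (Polynomial.C : MvPolynomial (Fin d ⊕ Fin n) k →+* _) hb
    simp only [map_sum, map_mul, map_add, map_pow] at h3
    have h4 : ∑ l, Polynomial.C (b l) * φ l =
        Polynomial.X ^ N * (∑ l, Polynomial.C (b l) * Polynomial.C (f l)) + Δ * Polynomial.C U ^ s := by
      rw [hΔ, Finset.mul_sum, Finset.sum_mul, ← Finset.sum_add_distrib]
      refine Finset.sum_congr rfl fun l _ => ?_
      rw [hφ1]; ring
    rw [h4, h3]
    have h5 : Δ * Polynomial.C U ^ s = ∑ i ∈ Finset.Icc 1 N,
        (if i = N then Δ * Polynomial.C U ^ (s - N) else 0) * (Polynomial.X * Polynomial.C ζ) ^ (N - i) *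
          Polynomial.C U ^ i := by
      rw [Finset.sum_eq_single N]
      · rw [if_pos rfl, Nat.sub_self, pow_zero, mul_one, mul_assoc, ← pow_add]
        congr 2; omega
      · intro i _ hi
        rw [if_neg hi]; simp
      · intro h
        exact absurd (Finset.mem_Icc.mpr ⟨hN, le_rfl⟩) h
    rw [h5, mul_add, Finset.mul_sum, add_assoc, ← Finset.sum_add_distrib]
    congr 1
    · rw [mul_pow]
    · refine Finset.sum_congr rfl fun i hi => ?_
      rw [Finset.mem_Icc] at hi
      have h6 : (Polynomial.X : Polynomial (MvPolynomial (Fin d ⊕ Fin n) k)) ^ N =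
          Polynomial.X ^ i * Polynomial.X ^ (N - i) := by
        rw [← pow_add]; congr 1; omega
      rw [h6]
      ring

end Groth.Agent.S16367
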