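import Groth.Statements.S16368
import Mathlib.RingTheory.LocalRing.Module
import Mathlib.RingTheory.Nakayama
import Mathlib.Algebra.Module.FinitePresentation
import Mathlib.LinearAlgebra.FreeModule.Finite.Basic

set_option autoImplicit false
universe u v
open TensorProduct
open FrobAlg

namespace Groth.Agent.S16368

open IsLocalRing

/-- A minimal generating family of a finite module over a local ring. -/
theorem exists_minimal_generators (R : Type u) [CommRing R] [IsLocalRing R]
    (M : Type v) [AddCommGroup M] [Module R M] [Module.Finite R M] :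
    ∃ (n : ℕ) (m : Fin n → M), Submodule.span R (Set.range m) = ⊤ ∧
      ∀ a : Fin n → R, ∑ i, a i • m i = 0 → ∀ i, a i ∈ maximalIdeal R := by
  classical
  let b := Module.finBasis (ResidueField R) (TensorProduct R (ResidueField R) M)
  have hs : Function.Surjective (TensorProduct.mk R (ResidueField R) M 1) :=
    TensorProduct.mk_surjective R M (ResidueField R) Ideal.Quotient.mk_surjective
  choose m hm using fun i => hs (b i)
  refine ⟨_, m, IsLocalRing.span_eq_top_of_tmul_eq_basis m b hm, ?_⟩
  intro a ha i
  have h1 : ∑ i, (residue R (a i)) • b i = 0 := by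
    have := congrArg (TensorProduct.mk R (ResidueField R) M 1) ha
    rw [map_sum, map_zero] at this
    rw [← this]
    refine Finset.sum_congr rfl fun i _ => ?_
    rw [map_smul, hm]
    exact (algebraMap_smul (ResidueField R) (a i) (b i))
  have h2 := (Fintype.linearIndependent_iff.mp b.linearIndependent) _ h1 i
  exact (residue_eq_zero_iff _).mp h2

/-- Let R be a local ring of prime characteristic p and M a finitely presented R-module. Write R' for R
regarded as an R-algebra through its Frobenius a ↦ a^p, so that R' ⊗_R M is the pull-back of M along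
the absolute Frobenius of Spec R, an R'-module. If this pull-back is isomorphic to M — there is a
bijective map e : R' ⊗_R M → M, additive and semilinear for the identification R' = R — then M is
free. -/
theorem result
    (p : ℕ) [Fact p.Prime] (R : Type u) [CommRing R] [IsLocalRing R] [CharP R p]
    (M : Type v) [AddCommGroup M] [Module R M] [Module.FinitePresentation R M]
    (e : (FrobAlg.Twist p R ⊗[R] M) →ₛₗ[((FrobAlg.toTwist p R).symm : FrobAlg.Twist p R →+* R)] M)
    (he : Function.Bijective e) :
    Module.Free R M := by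
  classical
  obtain ⟨n, m, hm, hmin⟩ := exists_minimal_generators R M
  let m' : Fin n → M := fun i => e (1 ⊗ₜ m i)
  let π : (Fin n → R) →ₗ[R] M := Fintype.linearCombination R m
  have hπa : ∀ a : Fin n → R, π a = ∑ i, a i • m i := fun a => rfl
  have hπ : Function.Surjective π := by
    rw [← LinearMap.range_eq_top, Fintype.range_linearCombination, hm]
  have hK : (LinearMap.ker π).FG := Module.FinitePresentation.fg_ker π hπ
  -- the coefficient ideal
  let I : Ideal R := ⨆ i : Fin n, (LinearMap.ker π).map (LinearMap.proj i : (Fin n → R) →ₗ[R] R)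
  have hIfg : I.FG := Submodule.fg_iSup _ fun i => hK.map _
  have hcoeff : ∀ a : Fin n → R, π a = 0 → ∀ i, a i ∈ I := by
    intro a ha i
    exact Submodule.mem_iSup_of_mem i ⟨a, ha, rfl⟩
  have hIle : ∀ J : Ideal R, (∀ a : Fin n → R, π a = 0 → ∀ i, a i ∈ J) → I ≤ J := by
    intro J hJ
    refine iSup_le fun i => ?_
    rintro _ ⟨a, ha, rfl⟩
    exact hJ a ha i
  have hIm : I ≤ maximalIdeal R := hIle _ fun a ha => hmin a ha
  -- coordinates modulo I
  have hcoord : ∀ j : Fin n, ∃ c : M →ₗ[R] (R ⧸ I), ∀ a : Fin n → R,
      c (π a) = Ideal.Quotient.mk I (a j) := by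
    intro j
    let q : (Fin n → R) →ₗ[R] (R ⧸ I) := (Submodule.mkQ I).comp (LinearMap.proj j)
    have hq : LinearMap.ker π ≤ LinearMap.ker q := by
      intro a ha
      exact (Submodule.Quotient.mk_eq_zero _).mpr (hcoeff a ha j)
    let e1 := (LinearMap.quotKerEquivOfSurjective π hπ)
    refine ⟨((LinearMap.ker π).liftQ q hq).comp e1.symm.toLinearMap, ?_⟩
    intro a
    have h1 : e1.symm (π a) = Submodule.Quotient.mk a := by
      rw [LinearEquiv.symm_apply_eq]
      rfl
    rw [LinearMap.comp_apply]
    erw [h1]
    rfl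
  -- relations of m'
  have hrel : ∀ a : Fin n → R, ∑ i, a i • m' i = 0 → ∀ j, a j ∈ I.map (frobenius R p) := by
    intro a ha j
    obtain ⟨c, hc⟩ := hcoord j
    let J : Ideal R := I.map (frobenius R p)
    let Fbar : (R ⧸ I) →+* (R ⧸ J) := Ideal.quotientMap _ (frobenius R p) Ideal.le_comap_map
    let q : FrobAlg.Twist p R →+* (R ⧸ J) :=
      (Ideal.Quotient.mk J).comp ((FrobAlg.toTwist p R).symm : FrobAlg.Twist p R →+* R)
    let f : FrobAlg.Twist p R →+ M →+ (R ⧸ J) :=
      (((AddMonoidHom.mul : (R ⧸ J) →+ (R ⧸ J) →+ (R ⧸ J)).comp q.toAddMonoidHom).compl₂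
        (Fbar.toAddMonoidHom.comp c.toAddMonoidHom))
    have hf : ∀ (t : FrobAlg.Twist p R) (x : M), f t x = q t * Fbar (c x) := fun t x => rfl
    have hFr : ∀ r : R, Fbar (Ideal.Quotient.mk I r) = Ideal.Quotient.mk J (r ^ p) := fun r => rfl
    have hbal : ∀ (r : R) (t : FrobAlg.Twist p R) (x : M), f (r • t) x = f t (r • x) := by
      intro r t x
      rw [hf, hf, Algebra.smul_def, map_mul, FrobAlg.algebraMap_twist, map_smul, Algebra.smul_def,
        map_mul]
      change Ideal.Quotient.mk J (r ^ p) * q t * Fbar (c x) =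
        q t * (Fbar (Ideal.Quotient.mk I r) * Fbar (c x))
      rw [hFr]
      ring
    let G := TensorProduct.liftAddHom f hbal
    have hG : ∀ t x, G (t ⊗ₜ x) = f t x := fun t x => rfl
    have h1 : ∑ i, (FrobAlg.toTwist p R (a i)) ⊗ₜ[R] m i = 0 := by
      apply he.1
      rw [map_sum, map_zero, ← ha]
      refine Finset.sum_congr rfl fun i _ => ?_
      have h2 : (FrobAlg.toTwist p R (a i)) ⊗ₜ[R] m i =
          (FrobAlg.toTwist p R (a i)) • ((1 : FrobAlg.Twist p R) ⊗ₜ[R] m i) := by
        rw [TensorProduct.smul_tmul', smul_eq_mul, mul_one]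
      rw [h2, LinearMap.map_smulₛₗ]
      rfl
    have h2 := congrArg G h1
    rw [map_sum, map_zero] at h2
    have h3 : ∀ i, G ((FrobAlg.toTwist p R (a i)) ⊗ₜ[R] m i) =
        if i = j then Ideal.Quotient.mk J (a i) else 0 := by
      intro i
      rw [hG, hf]
      have h4 : m i = π (Pi.single i 1) := by
        rw [hπa, Finset.sum_eq_single i]
        · simp
        · intro k _ hk
          simp [hk]
        · intro h
          exact absurd (Finset.mem_univ _) h
      have h5 : c (m i) = Ideal.Quotient.mk I (if i = j then 1 else 0) := by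
        rw [h4, hc, Pi.single_apply]
        simp only [eq_comm]
      rw [h5, hFr]
      change Ideal.Quotient.mk J (a i) * _ = _
      split_ifs
      · rw [one_pow, map_one, mul_one]
      · rw [zero_pow (Fact.out : p.Prime).ne_zero, map_zero, mul_zero]
    simp only [h3, Finset.sum_ite_eq', Finset.mem_univ, if_true] at h2
    exact (Ideal.Quotient.eq_zero_iff_mem).1 h2
  have hm'span : ∀ x : M, ∃ a : Fin n → R, x = ∑ i, a i • m' i := by
    intro x
    obtain ⟨z, rfl⟩ := he.2 x
    induction z using TensorProduct.induction_on with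
    | zero => exact ⟨0, by simp⟩
    | tmul t y =>
      obtain ⟨b, rfl⟩ := hπ y
      refine ⟨fun i => (FrobAlg.toTwist p R).symm t * (b i) ^ p, ?_⟩
      rw [hπa, TensorProduct.tmul_sum, map_sum]
      refine Finset.sum_congr rfl fun i _ => ?_
      have h2 : t ⊗ₜ[R] (b i • m i) =
          (t * FrobAlg.toTwist p R (b i ^ p)) • ((1 : FrobAlg.Twist p R) ⊗ₜ[R] m i) := by
        rw [TensorProduct.tmul_smul, TensorProduct.smul_tmul', TensorProduct.smul_tmul',
          Algebra.smul_def, FrobAlg.algebraMap_twist, smul_eq_mul, mul_one, mul_comm]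
      rw [h2, LinearMap.map_smulₛₗ, map_mul]
      rfl
    | add x y hx hy =>
      obtain ⟨a, ha⟩ := hx
      obtain ⟨b, hb⟩ := hy
      refine ⟨a + b, ?_⟩
      rw [map_add, ha, hb, ← Finset.sum_add_distrib]
      refine Finset.sum_congr rfl fun i _ => ?_
      rw [Pi.add_apply, add_smul]
  -- change of generators
  choose W hW using fun i => hm'span (m i)
  choose U hU using fun i => hπ (m' i)
  have hWU : ∀ i k, (∑ j, W i j * U j k) - (if i = k then 1 else 0) ∈ I := by
    intro i k
    have h1 : π (fun k => (∑ j, W i j * U j k) - (if i = k then 1 else 0)) = 0 := by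
      have h2 : (fun k => (∑ j, W i j * U j k) - (if i = k then 1 else 0)) =
          (∑ j, W i j • U j) - Pi.single i 1 := by
        funext k
        simp only [Pi.sub_apply, Finset.sum_apply, Pi.smul_apply, smul_eq_mul, Pi.single_apply]
        simp only [eq_comm]
      rw [h2, map_sub, map_sum]
      have h4 : π (Pi.single i 1) = m i := by
        rw [hπa, Finset.sum_eq_single i]
        · simp
        · intro k _ hk
          simp [hk]
        · intro h
          exact absurd (Finset.mem_univ _) h
      simp only [map_smul, hU]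
      rw [h4, ← hW, sub_self]
    exact hcoeff _ h1 k
  have hpI : I.map (frobenius R p) ≤ I * I := by
    rw [Ideal.map_le_iff_le_comap]
    intro x hx
    rw [Ideal.mem_comap, frobenius_def]
    obtain ⟨k, hk⟩ := Nat.exists_eq_add_of_le (Fact.out : p.Prime).two_le
    rw [hk, pow_add, sq]
    exact Ideal.mul_mem_right _ _ (Ideal.mul_mem_mul hx hx)
  have hII : I ≤ I * I := by
    apply hIle
    intro a ha k
    have h1 : ∑ j, (∑ i, a i * W i j) • m' j = 0 := by
      rw [← ha, hπa]
      conv_rhs => enter [2, i]; rw [hW i, Finset.smul_sum]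
      rw [Finset.sum_comm]
      refine Finset.sum_congr rfl fun j _ => ?_
      rw [Finset.sum_smul]
      refine Finset.sum_congr rfl fun i _ => ?_
      rw [mul_smul]
    have h2 : ∀ j, (∑ i, a i * W i j) ∈ I * I := fun j => hpI (hrel _ h1 j)
    have h3 : a k = (∑ j, (∑ i, a i * W i j) * U j k) -
        ∑ i, a i * ((∑ j, W i j * U j k) - (if i = k then 1 else 0)) := by
      simp only [mul_sub, Finset.sum_sub_distrib, mul_ite, mul_one, mul_zero, Finset.sum_ite_eq',
        Finset.mem_univ, if_true, Finset.sum_mul, Finset.mul_sum]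
      rw [Finset.sum_comm]
      simp only [mul_assoc]
      ring
    rw [h3]
    refine sub_mem (sum_mem fun j _ => Ideal.mul_mem_right _ _ (h2 j)) (sum_mem fun i _ => ?_)
    exact Ideal.mul_mem_mul (hcoeff a ha i) (hWU i k)
  have hI0 : I = ⊥ := by
    apply Submodule.eq_bot_of_le_smul_of_le_jacobson_bot I I hIfg hII
    exact hIm.trans (IsLocalRing.maximalIdeal_le_jacobson ⊥)
  have hinj : LinearMap.ker π = ⊥ := by
    rw [eq_bot_iff]
    intro a ha
    have h1 : a = 0 := by
      funext i
      have := hcoeff a ha i
      rw [hI0] at this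
      exact this
    rw [h1]
    exact Submodule.zero_mem _
  exact Module.Free.of_equiv (LinearEquiv.ofBijective π ⟨LinearMap.ker_eq_bot.1 hinj, hπ⟩)

end Groth.Agent.S16368
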