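import Groth.Statements.S16370
import Groth.Agent.FrobSch.K865.FrobCoh

set_option autoImplicit false
universe u
open CategoryTheory AlgebraicGeometry Opposite
open FrobSch

namespace Groth.Agent.S16370

/-- (ii) ⇒ (iii): let X be a reduced scheme of prime characteristic p, φ the p-th power map on the sheaf
of additive groups underlying O_X (a monomorphism, X being reduced) and B its cokernel in abelian
sheaves. If H^i(X, B) = 0 for all i ≥ 0, then the endomorphism of H^i(X, O_X) induced by φ — the
Hasse–Witt operation — is bijective for all i. (The source has X normal and proper over a perfect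
field; only reducedness enters this implication.) -/
theorem result
    (p : ℕ) [Fact p.Prime] (X : Scheme.{u}) [IsReduced X] (hp : (p : Γ(X, ⊤)) = 0)
    (φ : Coh.toAb (Coh.structureModule X) ⟶ Coh.toAb (Coh.structureModule X))
    (hφ : ∀ (U : X.Opens) (t : Γ(X, U)), φ.hom.app (op U) t = t ^ p)
    (hB : ∀ i : ℕ, Subsingleton (Sheaf.H (Limits.cokernel φ) i))
    (i : ℕ) : Function.Bijective (Sheaf.H.map φ i) := by
  have hc : FrobSch.IsCharP X p := ⟨hp⟩
  have : Mono φ := by
    apply Sheaf.mono_of_injective
    intro U a b hab
    apply K865.RelFrob.pow_injective_of_reduced (R := Γ(X, U.unop)) (p := p)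
      (FrobSch.natCast_eq_zero_app X p U.unop)
    exact (hφ U.unop a).symm.trans (hab.trans (hφ U.unop b))
  exact K865.FrobCoh.bijective_of_cokernel φ hB i

end Groth.Agent.S16370
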