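import Groth.Statements.S16373
import Groth.Agent.FrobAlg.K675.TruncWitt
import Mathlib.RingTheory.Ideal.Quotient.Operations

set_option autoImplicit false
universe u
open FrobAlg

namespace Groth.Agent.S16373

open K675.TruncWitt in
/-- Let p be a prime, m ≥ 1, R a commutative ring with p = 0 in R and σ : W_m(R) → R a quasi-F-splitting
of level m (additive, σ(1) = 1, σ(F(x)·y) = x₀·σ(y) with F the componentwise p-th power). Let I ⊆
W_{m+1}(R) be the ideal generated by the shifts V(x) of the x with σ(x) = 0, and Q = W_{m+1}(R)/I.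
Then Q is a flat lifting of R modulo p²: an element of Q lies in pQ exactly when the first Witt
component of a representative vanishes (so Q/pQ is R through the first component), and an element of
Q is killed by p exactly when it lies in pQ. (Stated for a ring; the source has a scheme over the
prime field. For m = 1 this is the lifting attached to a Frobenius splitting.) -/
theorem result
    (p : ℕ) [Fact p.Prime] (m : ℕ) (hm : 0 < m) (R : Type u) [CommRing R] (hp : (p : R) = 0)
    (σ : TruncatedWittVector p m R →+ R) (h1 : σ 1 = 1)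
    (hF : ∀ x y : TruncatedWittVector p m R, σ (WittGrp.frob p m hp x * y) = x.coeff ⟨0, hm⟩ * σ y)
    (I : Ideal (TruncatedWittVector p (m + 1) R))
    (hI : I = Ideal.span (WittGrp.shift p (Nat.le_succ m) '' {x : TruncatedWittVector p m R | σ x = 0})) :
    (∀ w : TruncatedWittVector p (m + 1) R,
        Ideal.Quotient.mk I w ∈ Ideal.span ({(p : TruncatedWittVector p (m + 1) R ⧸ I)} : Set _) ↔
          w.coeff 0 = 0) ∧
    (∀ q : TruncatedWittVector p (m + 1) R ⧸ I,
        (p : TruncatedWittVector p (m + 1) R ⧸ I) * q = 0 ↔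
          q ∈ Ideal.span ({(p : TruncatedWittVector p (m + 1) R ⧸ I)} : Set _)) := by
  have hmem : ∀ w, w ∈ I ↔ ∃ x, σ x = 0 ∧ WittGrp.shift p (Nat.le_succ m) x = w := by
    intro w
    constructor
    · intro hw
      rw [hI] at hw
      induction hw using Submodule.span_induction with
      | mem y hy =>
        obtain ⟨x, hx, rfl⟩ := hy
        exact ⟨x, hx, rfl⟩
      | zero => exact ⟨0, map_zero _, map_zero _⟩
      | add y z _ _ hy hz =>
        obtain ⟨y', hy', rfl⟩ := hy
        obtain ⟨z', hz', rfl⟩ := hz
        exact ⟨y' + z', by rw [map_add, hy', hz', add_zero], map_add _ _ _⟩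
      | smul a y _ hy =>
        obtain ⟨y', hy', rfl⟩ := hy
        refine ⟨_, ?_, (mul_shift hp a y').symm⟩
        rw [hF, hy', mul_zero]
    · rintro ⟨x, hx, rfl⟩
      rw [hI]
      exact Ideal.subset_span ⟨x, hx, rfl⟩
  have hfirst : ∀ w : TruncatedWittVector p (m + 1) R,
        Ideal.Quotient.mk I w ∈ Ideal.span ({(p : TruncatedWittVector p (m + 1) R ⧸ I)} : Set _) ↔
          w.coeff 0 = 0 := by
    intro w
    constructor
    · intro hw
      obtain ⟨q, hq⟩ := Ideal.mem_span_singleton'.1 hw
      obtain ⟨u, rfl⟩ := Ideal.Quotient.mk_surjective q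
      rw [← map_natCast (Ideal.Quotient.mk I) p, ← map_mul, Ideal.Quotient.eq, mul_comm,
        p_mul hp, hmem] at hq
      obtain ⟨x, _, hx⟩ := hq
      have h2 : w = WittGrp.shift p (Nat.le_succ m)
          ((WittGrp.frob p m hp) ((TruncatedWittVector.truncate (Nat.le_succ m)) u) - x) := by
        rw [map_sub, hx]
        ring
      rw [h2, coeff_zero_shift]
    · intro hw
      obtain ⟨z, rfl⟩ := exists_shift_eq w hw
      obtain ⟨t, ht⟩ := exists_truncate_eq (m := m)
        (TruncatedWittVector.mk p fun _ : Fin m => σ z)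
      have h2 : σ (z - WittGrp.frob p m hp ((TruncatedWittVector.truncate (Nat.le_succ m)) t)) = 0 := by
        have h3 := hF ((TruncatedWittVector.truncate (Nat.le_succ m)) t) 1
        rw [mul_one, h1, mul_one] at h3
        rw [map_sub, h3, ht, TruncatedWittVector.coeff_mk, sub_self]
      have h4 : WittGrp.shift p (Nat.le_succ m) z - p * t ∈ I := by
        rw [hmem]
        refine ⟨_, h2, ?_⟩
        rw [map_sub, p_mul hp]
      rw [← Ideal.Quotient.eq] at h4
      rw [h4, map_mul, map_natCast]
      exact Ideal.mul_mem_right _ _ (Ideal.mem_span_singleton_self _)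
  refine ⟨hfirst, fun q => ?_⟩
  obtain ⟨w, rfl⟩ := Ideal.Quotient.mk_surjective q
  rw [hfirst, ← map_natCast (Ideal.Quotient.mk I) p, ← map_mul, Ideal.Quotient.eq_zero_iff_mem,
    hmem, p_mul hp]
  constructor
  · rintro ⟨x, hx, hx2⟩
    rw [shift_injective hx2] at hx
    have h3 := hF ((TruncatedWittVector.truncate (Nat.le_succ m)) w) 1
    rw [mul_one, h1, mul_one, hx] at h3
    rw [← coeff_zero_truncate hm, ← h3]
  · intro hw
    refine ⟨_, ?_, rfl⟩
    have h3 := hF ((TruncatedWittVector.truncate (Nat.le_succ m)) w) 1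
    rw [mul_one, h1, mul_one] at h3
    rw [h3, coeff_zero_truncate hm, hw]

end Groth.Agent.S16373
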