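import Groth.Statements.S16374
import Groth.Agent.FrobAlg.K675.PowLemmas
import Mathlib.RingTheory.Ideal.Operations

set_option autoImplicit false
universe u v w
open FrobAlg

namespace Groth.Agent.S16374

/-- Let p be a prime, A a commutative ring, B and C commutative A-algebras with p² = 0 in B, and g : C →
B an A-algebra map such that every g(c) is congruent modulo p to an element of the A-subalgebra of B
generated by the p-th powers (g lifts a relative Frobenius). Then d(g(x)) = 0 in the module of
Kähler differentials of B over A for every x ∈ C that is congruent modulo p to an element of the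
A-subalgebra of C generated by the p-th powers. (The source works with a lifting of the relative
Frobenius of a smooth scheme over a ℤ/p²-thickening and the subsheaf of functions whose reduction
comes from the Frobenius twist; smoothness is not needed for this vanishing.) -/
theorem result
    (p : ℕ) [Fact p.Prime] (A : Type u) [CommRing A] (B : Type v) [CommRing B] [Algebra A B]
    (C : Type w) [CommRing C] [Algebra A C] (hp : (p : B) ^ 2 = 0)
    (g : C →ₐ[A] B)
    (hg : ∀ c : C, ∃ u ∈ Algebra.adjoin A (Set.range fun b : B => b ^ p),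
      g c - u ∈ Ideal.span ({(p : B)} : Set B))
    (x y : C) (hy : y ∈ Algebra.adjoin A (Set.range fun c : C => c ^ p))
    (hxy : x - y ∈ Ideal.span ({(p : C)} : Set C)) :
    KaehlerDifferential.D A B (g x) = 0 := by
  -- `p • D u = 0`-type statement: for `u` in the subalgebra of `p`-th powers, `D u = p • ω`
  have hu : ∀ u ∈ Algebra.adjoin A (Set.range fun b : B => b ^ p),
      ∃ ω, KaehlerDifferential.D A B u = (p : B) • ω := by
    intro u hu
    induction hu using Algebra.adjoin_induction with
    | mem x hx =>
      obtain ⟨b, rfl⟩ := hx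
      refine ⟨b ^ (p - 1) • KaehlerDifferential.D A B b, ?_⟩
      simp only [Derivation.leibniz_pow]
      rw [Nat.cast_smul_eq_nsmul]
    | algebraMap r => exact ⟨0, by simp⟩
    | add x y _ _ hx hy =>
      obtain ⟨a, ha⟩ := hx
      obtain ⟨b, hb⟩ := hy
      exact ⟨a + b, by rw [map_add, ha, hb, smul_add]⟩
    | mul x y _ _ hx hy =>
      obtain ⟨a, ha⟩ := hx
      obtain ⟨b, hb⟩ := hy
      refine ⟨x • b + y • a, ?_⟩
      rw [Derivation.leibniz, ha, hb, smul_add, smul_comm x, smul_comm y]
  have hpp : ∀ ω : Ω[B⁄A], (p : B) • ((p : B) • ω) = 0 := by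
    intro ω
    rw [smul_smul, ← sq, hp, zero_smul]
  have hDp : ∀ b : B, KaehlerDifferential.D A B ((p : B) * b) = (p : B) • KaehlerDifferential.D A B b := by
    intro b
    rw [Derivation.leibniz, Derivation.map_natCast, smul_zero, add_zero]
  -- `D (g c) ∈ p Ω`
  have hDg : ∀ c, ∃ ω, KaehlerDifferential.D A B (g c) = (p : B) • ω := by
    intro c
    obtain ⟨u, hu1, hu2⟩ := hg c
    obtain ⟨b, hb⟩ := Ideal.mem_span_singleton'.1 hu2
    obtain ⟨ω, hω⟩ := hu u hu1
    have : g c = u + (p : B) * b := by rw [mul_comm, hb]; ring
    exact ⟨ω + KaehlerDifferential.D A B b, by rw [this, map_add, hDp, hω, smul_add]⟩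
  -- `D (g y) = 0`
  have hDy : KaehlerDifferential.D A B (g y) = 0 := by
    clear hxy
    induction hy using Algebra.adjoin_induction with
    | mem x hx =>
      obtain ⟨c, rfl⟩ := hx
      obtain ⟨ω, hω⟩ := hDg c
      simp only [map_pow, Derivation.leibniz_pow]
      rw [hω, smul_comm, ← Nat.cast_smul_eq_nsmul B, hpp, smul_zero]
    | algebraMap r => simp
    | add x y _ _ hx hy => rw [map_add, map_add, hx, hy, add_zero]
    | mul x y _ _ hx hy => rw [map_mul, Derivation.leibniz, hx, hy, smul_zero, smul_zero, add_zero]
  obtain ⟨z, hz⟩ := Ideal.mem_span_singleton'.1 hxy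
  have hx : x = y + (p : C) * z := by rw [mul_comm, hz]; ring
  obtain ⟨ω, hω⟩ := hDg z
  rw [hx, map_add, map_add, hDy, map_mul, map_natCast, hDp, hω, hpp, add_zero]

end Groth.Agent.S16374
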