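import Groth.Statements.S16384
import Groth.Agent.FMK.K884.DualPhi
import Groth.Agent.FMK.K884.FibConc
import Groth.Agent.FMK.K884.TensVan
import Groth.Agent.FMK.K884.FullSupp
import Groth.Agent.S3637
import Groth.Agent.S1114

set_option autoImplicit false
universe u
open CategoryTheory CategoryTheory.Limits AlgebraicGeometry
attribute [local instance] HasDerivedCategory.standard
open FMK
open scoped Groth.Agent.Dcoh.MonCat Groth.Agent.Dcoh.ModD

namespace Groth.Agent.S16384

/-- For a sheaf F and a locally free kernel P, let k be an algebraically closed field, X and Y proper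
schemes over k with structure morphisms a and b, all of whose local rings are Cohen–Macaulay, X
equidimensional of dimension d and Y equidimensional of dimension g. Let Ra_* and Rb_* on D_QCoh
have right adjoints a^× and b^× (given as data with their adjunctions), O an object of D_QCoh(Spec
k) isomorphic to the structure sheaf in degree 0, and ω_X = H^{−d}(a^×O), ω_Y = H^{−g}(b^×O) the
dualizing modules; write RΔ(F) = RHom(F, ω_X). Let P be a finite locally free module on X ×_k Y, P^∨
= Hom(P, O) its dual (the sheaf Hom as right adjoint of P ⊗ −) and Q = P^∨ ⊗ pr_Y^*ω_Y, both used as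
kernels in degree 0; for a kernel K write Φ_K = Rpr_{Y,*}(Lpr_X^*(−) ⊗^L K) and R^iΦ_K = H^i ∘ Φ_K,
the derived functors involved being assumed to exist. Let k' ≥ 0 and F a coherent O_X-module,
perfect as an object of D(O_X), which is a GV_{k'}-sheaf with respect to P: for every i ≥ 0 the
support of R^iΦ_P(F) has codimension ≥ i − k' (the local ring of Y at each of its points has Krull
dimension ≥ i − k'). Then RΔ(F) satisfies WIT_[d−k',d] with respect to Q: R^iΦ_Q(RΔ F) = 0 for every
integer i outside [d − k', d]. (The published statement is for an arbitrary object F of D(X) and an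
arbitrary kernel P; in that generality the vanishing above degree d fails — for F = O_X[1] on an
abelian variety of dimension d ≥ 1 with the Poincaré kernel, F is GV_0 while Φ_Q(RΔF) is a
skyscraper in degree d + 1 — so the row keeps F a sheaf and P locally free, the case of the
applications.) -/
theorem result (k : Type u) [Field k] [IsAlgClosed k]
    (X Y : Scheme.{u}) (a : X ⟶ Spec (CommRingCat.of k)) (b : Y ⟶ Spec (CommRingCat.of k)) [IsProper a] [IsProper b]
    (hXcm : ∀ x : ↥X, LocCoh.IsCohenMacaulayLocalRing ↑(X.presheaf.stalk x))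
    (hYcm : ∀ y : ↥Y, LocCoh.IsCohenMacaulayLocalRing ↑(Y.presheaf.stalk y))
    (d : ℕ) (hd : topologicalKrullDim ↥X = (d : WithBot ℕ∞))
    (hXeq : ∀ Z ∈ irreducibleComponents ↥X, topologicalKrullDim ↥Z = (d : WithBot ℕ∞))
    (g : ℕ) (hg : topologicalKrullDim ↥Y = (g : WithBot ℕ∞))
    (hYeq : ∀ Z ∈ irreducibleComponents ↥Y, topologicalKrullDim ↥Z = (g : WithBot ℕ∞))
    [DCoh.HasRpush a] (ha : DCoh.RpushPreservesQCoh a)
    (adx : DCoh.DQCoh (Spec (CommRingCat.of k)) ⥤ DCoh.DQCoh X) (adja : DCoh.RpushQ a ha ⊣ adx)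
    [DCoh.HasRpush b] (hb : DCoh.RpushPreservesQCoh b)
    (bdx : DCoh.DQCoh (Spec (CommRingCat.of k)) ⥤ DCoh.DQCoh Y) (adjb : DCoh.RpushQ b hb ⊣ bdx)
    (O : DCoh.DQCoh (Spec (CommRingCat.of k)))
    (hO : Nonempty (O.obj ≅ DCoh.inD (Spec (CommRingCat.of k)) (Coh.structureModule (Spec (CommRingCat.of k)))))
    (P₀ : (pullback a b).Modules) (hP₀ : FlatMod.IsFinLocFree P₀) [DCoh.HasSheafHom P₀]
    [DCoh.HasLpull (pullback.fst a b)] [DCoh.HasRpush (pullback.snd a b)]
    [DCoh.HasLTensorCx ((HomologicalComplex.single (pullback a b).Modules (ComplexShape.up ℤ) 0).obj P₀)]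
    [DCoh.HasLTensorCx ((HomologicalComplex.single (pullback a b).Modules (ComplexShape.up ℤ) 0).obj (CohB1.tensorMod ((DCoh.sheafHom P₀).obj (Coh.structureModule (pullback a b))) ((Scheme.Modules.pullback (pullback.snd a b)).obj (DCoh.HD (bdx.obj O).obj (-(g : ℤ))))))]
    (F : X.Modules) (hFc : Coh.IsCoh F) (hF : DCoh.IsPerfect (DCoh.inD X F))
    [DCoh.HasLTensorCx ((HomologicalComplex.single X.Modules (ComplexShape.up ℤ) 0).obj F)] [DCoh.HasRSheafHom ((HomologicalComplex.single X.Modules (ComplexShape.up ℤ) 0).obj F)]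
    (k' : ℕ)
    (hGV : ∀ (i : ℕ) (y : ↥Y), y ∈ CohB1.support (DCoh.HD ((FMK.phi a b ((HomologicalComplex.single (pullback a b).Modules (ComplexShape.up ℤ) 0).obj P₀)).obj (DCoh.inD X F)) (i : ℤ)) →
      ((i - k' : ℕ) : WithBot ℕ∞) ≤ ringKrullDim ↑(Y.presheaf.stalk y))
    (i : ℤ) (hi : i < (d : ℤ) - k' ∨ (d : ℤ) < i) :
    IsZero (DCoh.HD ((FMK.phi a b ((HomologicalComplex.single (pullback a b).Modules (ComplexShape.up ℤ) 0).obj (CohB1.tensorMod ((DCoh.sheafHom P₀).obj (Coh.structureModule (pullback a b))) ((Scheme.Modules.pullback (pullback.snd a b)).obj (DCoh.HD (bdx.obj O).obj (-(g : ℤ))))))).obj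
      ((DCoh.RSheafHom ((HomologicalComplex.single X.Modules (ComplexShape.up ℤ) 0).obj F)).obj (DCoh.inD X (DCoh.HD (adx.obj O).obj (-(d : ℤ)))))) i) := by
  have hN : IsLocallyNoetherian Y := K884.GradeVan.isLocallyNoetherian_of_lft b
  -- dualizing modules
  obtain ⟨-, hωX, -⟩ := Groth.Agent.S3637.result k X a hXcm d hXeq ha adx adja O hO
  obtain ⟨-, hωY, hωY1⟩ := Groth.Agent.S3637.result k Y b hYcm g hYeq hb bdx adjb O hO
  -- the kernel
  have hP : DCoh.IsPerfect (DCoh.toD (pullback a b)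
      ((HomologicalComplex.single (pullback a b).Modules (ComplexShape.up ℤ) 0).obj P₀)) :=
    K884.GradeVan.isPerfect_toD_single hP₀
  have h1 : DCoh.HasRSheafHom
      ((HomologicalComplex.single (pullback a b).Modules (ComplexShape.up ℤ) 0).obj P₀) :=
    Groth.Agent.PerfC.RHomD.hasRSheafHom _
  have h2 : DCoh.HasLTensorCx ((HomologicalComplex.single (pullback a b).Modules (ComplexShape.up ℤ) 0).obj
      ((DCoh.sheafHom P₀).obj (Coh.structureModule (pullback a b)))) :=
    Groth.Agent.Dcoh.ModTens.hasLTensorCx _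
  have hP' := (((K884.DualP.isDual_RSheafHom _ hP).of_iso_left (K884.Flt.sglIso P₀)).nonempty_iso
    (K884.Flt.isDual_sheafHom hP₀)).map fun e => K884.Flt.sglIso _ ≪≫ e.symm
  -- the sheaf
  have hF' : DCoh.IsPerfect (DCoh.toD X
      ((HomologicalComplex.single X.Modules (ComplexShape.up ℤ) 0).obj F)) :=
    Groth.Agent.Dcoh.LocalD.isPerfect_of_iso (K884.Flt.sglIso F).symm hF
  have hK := K884.Ker.isPerfect_phi a b _ hP hF
  have hdual := (K884.DualPhi.isDual_phi k X Y a b hXcm hYcm d hd hXeq ha adx adja O hO _ hP _ hP'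
    ((HomologicalComplex.single X.Modules (ComplexShape.up ℤ) 0).obj F) hF').of_iso_left
      ((FMK.phi a b _).mapIso (K884.Flt.sglIso F))
  have hRΔ : DCoh.IsQCohD ((DCoh.RSheafHom ((HomologicalComplex.single X.Modules (ComplexShape.up ℤ) 0).obj F)).obj
      (DCoh.inD X (DCoh.HD (adx.obj O).obj (-(d : ℤ))))) :=
    Groth.Agent.S1114.result X _ hF' _ (Groth.Agent.PerfA.QCohD.isQCohD_inD _ hωX.1)
  have := K884.Ker.flat_of_field a
  obtain ⟨e1⟩ := K884.TensVan.nonempty_phi_twist a b (K884.Flt.isFinLocFree_sheafHom hP₀)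
    (DCoh.HD (bdx.obj O).obj (-(g : ℤ))) hωY.1 _ hRΔ
  obtain ⟨e2⟩ := K884.Shift.nonempty_tensor_left
    ((FMK.phi a b (Groth.Agent.Cohder.RelPCMon.sgl ((DCoh.sheafHom P₀).obj (Coh.structureModule (pullback a b))))).obj
      ((DCoh.RSheafHom ((HomologicalComplex.single X.Modules (ComplexShape.up ℤ) 0).obj F)).obj
        (DCoh.inD X (DCoh.HD (adx.obj O).obj (-(d : ℤ))))))
    (DCoh.inD Y (DCoh.HD (bdx.obj O).obj (-(g : ℤ)))) d
  obtain ⟨e3⟩ := K884.Shift.nonempty_HD (MonoidalCategoryStruct.tensorObj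
    ((FMK.phi a b (Groth.Agent.Cohder.RelPCMon.sgl ((DCoh.sheafHom P₀).obj (Coh.structureModule (pullback a b))))).obj
      ((DCoh.RSheafHom ((HomologicalComplex.single X.Modules (ComplexShape.up ℤ) 0).obj F)).obj
        (DCoh.inD X (DCoh.HD (adx.obj O).obj (-(d : ℤ))))))
    (DCoh.inD Y (DCoh.HD (bdx.obj O).obj (-(g : ℤ))))) d (i - d) i (by ring)
  refine IsZero.of_iso ?_ ((DerivedCategory.homologyFunctor Y.Modules i).mapIso e1 ≪≫ e3.symm ≪≫
    (DerivedCategory.homologyFunctor Y.Modules (i - d)).mapIso e2.symm)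
  rcases hi with hi | hi
  · have h5 := K884.GradeVan.isZero_HD_tensor hK hdual (DCoh.HD (bdx.obj O).obj (-(g : ℤ))) hωY
      ((d : ℤ) - i) (fun s y hy n hn => by
        obtain ⟨t, rfl⟩ : ∃ t : ℕ, s = t := ⟨((d : ℤ) - i).toNat + n, by lia⟩
        refine lt_of_lt_of_le ?_ (K884.FullSupp.le_depth _ hωY (fun x => (hωY1 x).1) y (hωY1 y).2
          (t - k') (hGV t y hy))
        exact_mod_cast (show n < t - k' by lia))
    rwa [neg_sub] at h5
  · refine K884.TensVan.isZero_HD_tensor_of_fibZero (hdual.isPerfect hK) _ _ fun y => ?_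
    rw [hdual.fibZero_iff hK]
    exact K884.FibConc.fibZero_of_neg a b F hF hP₀ y _ (by lia)

end Groth.Agent.S16384
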