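import Groth.Statements.S16386
import Groth.Agent.AbVar.K520.FrP
import Groth.Agent.AbVar.K520.Quot
import Mathlib.AlgebraicGeometry.ZariskisMainTheorem

set_option autoImplicit false
universe u
open CategoryTheory MonoidalCategory CartesianMonoidalCategory MonObj GrpObj AlgebraicGeometry
open AbVar

namespace Groth.Agent.S16386

/-- (c₁) ⇒ (a₁): let k be a finite field with q elements and fix a polynomial P with integer
coefficients. Work with abelian varieties over k (proper, geometrically integral commutative group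
schemes over k) together with their q-Frobenius endomorphism π (the identity on points and the q-th
power map on sections; a homomorphism) such that P(π) = 0 in the endomorphism ring; for P the
product of the minimal polynomials of a finite set w of Weil q-numbers these are exactly the abelian
varieties with Weil support in w. Let A be such an abelian variety and suppose that every such Z
admits finitely many homomorphisms ψ_1, …, ψ_n : Z → A which are jointly monomorphic (two T-valued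
points of Z over k with the same image under every ψ_i are equal; equivalently (ψ_i) : Z → A^n is an
injective homomorphism). Then the functor X ↦ Hom(X, A), with values in left End(A)-modules (End(A)
acting by postcomposition), is fully faithful on these abelian varieties: for such X and Y, two
homomorphisms f, g : X → Y inducing the same map Hom(Y, A) → Hom(X, A) are equal, and every additive
End(A)-linear map Hom(Y, A) → Hom(X, A) is precomposition with some homomorphism X → Y. -/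
theorem result (k : Type u) [Field k] [Finite k]
    (P : Polynomial ℤ) (A : Over (Spec (CommRingCat.of k))) [GrpObj A] [IsCommMonObj A] [IsProper A.hom] [GeometricallyIntegral A.hom]
    (πA : A ⟶ A) [IsMonHom πA] (hπAb : πA.left.base = 𝟙 _)
    (hπAle : ∀ U : A.left.Opens, U ≤ πA.left ⁻¹ᵁ U)
    (hπAapp : ∀ (U : A.left.Opens) (s : Γ(A.left, U)), (πA.left.appLE U U (hπAle U)).hom s = s ^ Nat.card k)
    (hPA : Polynomial.eval₂ (Int.castRingHom (EndAV.End A)) (EndAV.End.of πA) P = 0)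
    (hcog : ∀ (Z : Over (Spec (CommRingCat.of k))) [GrpObj Z] [IsCommMonObj Z] [IsProper Z.hom] [GeometricallyIntegral Z.hom]
      (πZ : Z ⟶ Z) [IsMonHom πZ] (hπZb : πZ.left.base = 𝟙 _) (hπZle : ∀ U : Z.left.Opens, U ≤ πZ.left ⁻¹ᵁ U)
      (hπZapp : ∀ (U : Z.left.Opens) (s : Γ(Z.left, U)), (πZ.left.appLE U U (hπZle U)).hom s = s ^ Nat.card k)
      (hPZ : Polynomial.eval₂ (Int.castRingHom (EndAV.End Z)) (EndAV.End.of πZ) P = 0),
      ∃ (n : ℕ) (ψ : Fin n → EndAV.Hom Z A), ∀ (T : Over (Spec (CommRingCat.of k))) (x y : T ⟶ Z),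
        (∀ i, x ≫ (ψ i).toHom = y ≫ (ψ i).toHom) → x = y)
    (X Y : Over (Spec (CommRingCat.of k))) [GrpObj X] [IsCommMonObj X] [IsProper X.hom] [GeometricallyIntegral X.hom]
    [GrpObj Y] [IsCommMonObj Y] [IsProper Y.hom] [GeometricallyIntegral Y.hom]
    (πX : X ⟶ X) [IsMonHom πX] (hπXb : πX.left.base = 𝟙 _)
    (hπXle : ∀ U : X.left.Opens, U ≤ πX.left ⁻¹ᵁ U)
    (hπXapp : ∀ (U : X.left.Opens) (s : Γ(X.left, U)), (πX.left.appLE U U (hπXle U)).hom s = s ^ Nat.card k)
    (hPX : Polynomial.eval₂ (Int.castRingHom (EndAV.End X)) (EndAV.End.of πX) P = 0)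
    (πY : Y ⟶ Y) [IsMonHom πY] (hπYb : πY.left.base = 𝟙 _)
    (hπYle : ∀ U : Y.left.Opens, U ≤ πY.left ⁻¹ᵁ U)
    (hπYapp : ∀ (U : Y.left.Opens) (s : Γ(Y.left, U)), (πY.left.appLE U U (hπYle U)).hom s = s ^ Nat.card k)
    (hPY : Polynomial.eval₂ (Int.castRingHom (EndAV.End Y)) (EndAV.End.of πY) P = 0) :
    (∀ f g : EndAV.Hom X Y, (∀ φ : EndAV.Hom Y A, f ≫ φ = g ≫ φ) → f = g) ∧
      (∀ g : EndAV.Hom Y A →+ EndAV.Hom X A,
        (∀ (φ : EndAV.Hom Y A) (s : EndAV.Hom A A), g (φ ≫ s) = g φ ≫ s) →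
          ∃ f : EndAV.Hom X Y, ∀ φ : EndAV.Hom Y A, g φ = f ≫ φ) := by
  have hX : K520.FrP.FrP k P X := K520.FrP.frP_of_hyps πX hπXb hπXle hπXapp hPX
  have hY : K520.FrP.FrP k P Y := K520.FrP.frP_of_hyps πY hπYb hπYle hπYapp hPY
  have hA : K520.FrP.FrP k P A := K520.FrP.frP_of_hyps πA hπAb hπAle hπAapp hPA
  have cog : ∀ (Z : Over (Spec (CommRingCat.of k))) [GrpObj Z] [IsCommMonObj Z] [IsProper Z.hom]
      [GeometricallyIntegral Z.hom], K520.FrP.FrP k P Z →
      ∃ (n : ℕ) (ψ : Fin n → EndAV.Hom Z A), ∀ (T : Over (Spec (CommRingCat.of k))) (x y : T ⟶ Z),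
        (∀ i, x ≫ (ψ i).toHom = y ≫ (ψ i).toHom) → x = y := by
    intro Z _ _ _ _ h1
    exact hcog Z (K520.Frob.fr k Z) (K520.Frob.isFrob_fr k Z).base (K520.Frob.isFrob_fr k Z).le
      (K520.Frob.isFrob_fr k Z).app h1
  constructor
  · intro f g hfg
    obtain ⟨n, ψ, hψ⟩ := cog Y hY
    exact EndAV.Hom.ext (hψ X f.toHom g.toHom fun i => congrArg EndAV.Hom.toHom (hfg (ψ i)))
  intro G hG
  -- the key step
  have key : ∀ (n : ℕ) (ψ : Fin n → EndAV.Hom Y A)
      (_ : ∀ (T : Over (Spec (CommRingCat.of k))) (x y : T ⟶ Y),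
        (∀ i, x ≫ (ψ i).toHom = y ≫ (ψ i).toHom) → x = y),
      ∃ f : EndAV.Hom X Y, ∀ i, G (ψ i) = f ≫ ψ i := by
    intro n ψ hψ
    obtain ⟨Pn, _, _, _, _, pr, inc, hPn1, -, hPn3, -, -, hPn6⟩ := K520.Prod.exists_pow A n
    have hPn : K520.FrP.FrP k P Pn := K520.FrP.frP_of_jointly_mono (fun _ => A) pr
      (fun a ha => EndAV.Hom.ext (hPn1 _ _ _ fun i => (congrArg EndAV.Hom.toHom (ha i)).trans
        (MonObj.one_comp _).symm)) (fun _ => hA)
    obtain ⟨w, hw⟩ := hPn3 Y ψ
    have hmono : Mono w.toHom := by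
      refine ⟨fun {T} a b h => hψ T a b fun i => ?_⟩
      rw [← hw i, EndAV.Hom.toHom_comp, ← Category.assoc, h, Category.assoc]
    have hmono' : Mono w.toHom.left := inferInstance
    have hpr : IsProper w.toHom.left := by
      have e : w.toHom.left ≫ Pn.hom = Y.hom := Over.w w.toHom
      have : IsProper (w.toHom.left ≫ Pn.hom) := by rw [e]; infer_instance
      exact IsProper.of_comp w.toHom.left Pn.hom
    have hcl : IsClosedImmersion w.toHom.left := (IsClosedImmersion.iff_isProper_and_mono _).2 ⟨hpr, hmono'⟩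
    obtain ⟨Q, _, _, _, _, q, hq1, hq2, hq3, hqK⟩ := K520.Quot.exists_quotient Pn Y w.toHom
    have hQ : K520.FrP.FrP k P Q := K520.FrP.frP_of_epi q
      (fun a ha => K520.Quot.cancel_left_hom q (ha.trans Limits.comp_zero.symm)) hPn
    obtain ⟨m, χ, hχ⟩ := cog Q hQ
    obtain ⟨γ, hγ⟩ := hPn3 X (fun i => G (ψ i))
    have hwq : w ≫ q = 0 := EndAV.Hom.ext (K520.Quot.kernel_comp hqK)
    have hsum : ∀ (Z : Over (Spec (CommRingCat.of k))) [GrpObj Z] [IsCommMonObj Z] (a : EndAV.Hom Z Pn)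
        (h : EndAV.Hom Pn A), a ≫ h = ∑ i, (a ≫ pr i) ≫ (inc i ≫ h) := by
      intro Z _ _ a h
      have : a ≫ h = a ≫ (∑ i, pr i ≫ inc i) ≫ h := by rw [hPn6, Category.id_comp]
      rw [this, Preadditive.sum_comp, Preadditive.comp_sum]
      refine Finset.sum_congr rfl fun i _ => ?_
      simp only [Category.assoc]
    have hγχ : ∀ j, γ ≫ q ≫ χ j = 0 := by
      intro j
      rw [hsum X γ (q ≫ χ j)]
      have h1 : ∑ i, (γ ≫ pr i) ≫ (inc i ≫ q ≫ χ j) = G (∑ i, ψ i ≫ (inc i ≫ q ≫ χ j)) := by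
        rw [map_sum]
        refine Finset.sum_congr rfl fun i _ => ?_
        rw [hγ i]
        exact (hG _ _).symm
      have h2 : ∑ i, ψ i ≫ (inc i ≫ q ≫ χ j) = w ≫ q ≫ χ j := by
        rw [hsum Y w (q ≫ χ j)]
        refine Finset.sum_congr rfl fun i _ => ?_
        rw [hw i]
      rw [h1, h2, ← Category.assoc, hwq, Limits.zero_comp, map_zero]
    have hγq : γ.toHom ≫ q.toHom = 1 := by
      refine hχ _ _ _ fun j => ?_
      simp only [MonObj.one_comp]
      rw [Category.assoc]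
      exact congrArg EndAV.Hom.toHom (hγχ j)
    obtain ⟨f, hf⟩ := K520.Quot.exists_factor hqK γ.toHom hγq
    have hfm : IsMonHom f := by
      constructor
      · rw [← cancel_mono w.toHom, Category.assoc, hf, IsMonHom.one_hom, IsMonHom.one_hom]
      · rw [← cancel_mono w.toHom, Category.assoc, hf, Category.assoc, IsMonHom.mul_hom, IsMonHom.mul_hom, ← hf,
          ← tensorHom_comp_tensorHom_assoc]
    refine ⟨EndAV.Hom.of f, fun i => ?_⟩
    rw [← hγ i, ← hw i, ← Category.assoc]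
    congr 1
    exact EndAV.Hom.ext hf.symm
  obtain ⟨n, ψ, hψ⟩ := cog Y hY
  obtain ⟨f, hf⟩ := key n ψ hψ
  refine ⟨f, fun φ => ?_⟩
  obtain ⟨f', hf'⟩ := key (n + 1) (Fin.cons φ ψ) (fun T x y h => hψ T x y fun i => by simpa using h i.succ)
  have e : f' = f := EndAV.Hom.ext (hψ X _ _ fun i => by
    have h1 := hf' i.succ
    rw [Fin.cons_succ] at h1
    exact congrArg EndAV.Hom.toHom (h1.symm.trans (hf i)))
  have h0 := hf' 0
  rw [Fin.cons_zero, e] at h0
  exact h0

end Groth.Agent.S16386
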