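import Groth.Statements.S16387
import Groth.Agent.AbVar.K520.TateFin

set_option autoImplicit false
universe u
open CategoryTheory MonoidalCategory CartesianMonoidalCategory MonObj GrpObj AlgebraicGeometry
open AbVar

namespace Groth.Agent.S16387

/-- Let k be a finite field with algebraic closure Ω, l a prime number invertible in k, and A, B abelian
varieties over k (proper, geometrically integral commutative group schemes over k). If the
homomorphism i : A → B is injective (a closed immersion), then the induced ℤ_l-linear map between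
the l-adic Tate modules of Ω-points T_l(i) : T_l A → T_l B is injective with torsion-free, hence
free, cokernel: the quotient of T_l B by the image of T_l A is a free ℤ_l-module. -/
theorem result (k Ω : Type u) [Field k] [Finite k]
    [Field Ω] [Algebra k Ω] [IsAlgClosure k Ω] (l : ℕ) [Fact l.Prime] (hl : (l : k) ≠ 0)
    (A B : Over (Spec (CommRingCat.of k))) [GrpObj A] [IsCommMonObj A] [IsProper A.hom] [GeometricallyIntegral A.hom]
    [GrpObj B] [IsCommMonObj B] [IsProper B.hom] [GeometricallyIntegral B.hom]
    (i : A ⟶ B) [IsMonHom i] [IsClosedImmersion i.left] :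
    Function.Injective (AbDual.tateMapₗ (l := l) (T := SGA7.pt Ω) i) ∧
      Module.Free ℤ_[l] (AbDual.TateMod B l (SGA7.pt Ω) ⧸
        LinearMap.range (AbDual.tateMapₗ (l := l) (T := SGA7.pt Ω) i)) := by
  have hmono : Mono i.left := inferInstance
  have hinj : ∀ x y : SGA7.pt (K := k) Ω ⟶ A, x ≫ i = y ≫ i → x = y := by
    intro x y h
    apply Over.OverMorphism.ext
    rw [← cancel_mono i.left]
    exact congrArg Over.Hom.left h
  constructor
  · intro x y h
    apply AbDual.TateMod.ext
    intro n
    have h1 := congrArg (fun z : AbDual.TateMod B l (SGA7.pt Ω) => (z : ℕ → Additive (SGA7.pt (K := k) Ω ⟶ B)) n) h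
    exact congrArg Additive.ofMul (hinj _ _ (congrArg Additive.toMul h1))
  · have hfin : Module.Finite ℤ_[l] (AbDual.TateMod B l (SGA7.pt (K := k) Ω)) :=
      K520.TateFin.finite_tateMod Ω B l hl
    set R := LinearMap.range (AbDual.tateMapₗ (l := l) (T := SGA7.pt Ω) i) with hR
    -- divisibility by `l`
    have hdiv : ∀ y : AbDual.TateMod B l (SGA7.pt (K := k) Ω), (l : ℤ_[l]) • y ∈ R → y ∈ R := by
      rintro y ⟨x, hx⟩
      have hx' : ∀ n, Additive.ofMul (((x : ℕ → Additive (SGA7.pt (K := k) Ω ⟶ A)) n).toMul ≫ i) =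
          l • (y : ℕ → Additive (SGA7.pt (K := k) Ω ⟶ B)) n := by
        intro n
        have h1 := congrArg (fun z : AbDual.TateMod B l (SGA7.pt Ω) =>
          (z : ℕ → Additive (SGA7.pt (K := k) Ω ⟶ B)) n) hx
        rw [K520.TateFin.cast_smul] at h1
        exact h1
      have hy : ∀ n, (y : ℕ → Additive (SGA7.pt (K := k) Ω ⟶ B)) n =
          Additive.ofMul (((x : ℕ → Additive (SGA7.pt (K := k) Ω ⟶ A)) (n + 1)).toMul ≫ i) := by
        intro n
        rw [hx' (n + 1), y.compat]
      have htor : ∀ n, (l ^ n) • (x : ℕ → Additive (SGA7.pt (K := k) Ω ⟶ A)) (n + 1) = 0 := by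
        intro n
        have h2 : Additive.ofMul (((l ^ n) • (x : ℕ → Additive (SGA7.pt (K := k) Ω ⟶ A)) (n + 1)).toMul ≫ i) = 0 := by
          rw [AbDual.nsmul_comp, ← hy n, y.torsion]
        refine congrArg Additive.ofMul (hinj _ 1 ?_)
        rw [MonObj.one_comp]
        exact congrArg Additive.toMul h2
      refine ⟨⟨fun n => (x : ℕ → Additive (SGA7.pt (K := k) Ω ⟶ A)) (n + 1), htor, fun n => x.compat _⟩, ?_⟩
      apply AbDual.TateMod.ext
      intro n
      exact (hy n).symm
    have hdivn : ∀ (n : ℕ) (y : AbDual.TateMod B l (SGA7.pt (K := k) Ω)), ((l : ℤ_[l]) ^ n) • y ∈ R → y ∈ R := by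
      intro n
      induction n with
      | zero => intro y hy; rwa [pow_zero, one_smul] at hy
      | succ n ih =>
        intro y hy
        rw [pow_succ, mul_smul] at hy
        exact hdiv y (ih _ hy)
    have htf : Module.IsTorsionFree ℤ_[l] (AbDual.TateMod B l (SGA7.pt (K := k) Ω) ⧸ R) := by
      refine ⟨fun r hr => ?_⟩
      have hr0 : r ≠ 0 := hr.ne_zero
      have key : ∀ z : AbDual.TateMod B l (SGA7.pt (K := k) Ω) ⧸ R, r • z = 0 → z = 0 := by
        intro z hz
        obtain ⟨y, rfl⟩ := Submodule.mkQ_surjective R z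
        rw [← map_smul, Submodule.mkQ_apply, Submodule.Quotient.mk_eq_zero] at hz
        rw [Submodule.mkQ_apply, Submodule.Quotient.mk_eq_zero]
        rw [PadicInt.unitCoeff_spec hr0, mul_smul] at hz
        have h3 := R.smul_mem (((PadicInt.unitCoeff hr0)⁻¹ : ℤ_[l]ˣ) : ℤ_[l]) hz
        rw [← mul_smul, Units.inv_mul, one_smul] at h3
        exact hdivn _ _ h3
      intro a b hab
      have h4 : r • (a - b) = 0 := by
        rw [smul_sub]; exact sub_eq_zero.2 hab
      exact sub_eq_zero.1 (key _ h4)
    exact Module.free_of_finite_type_torsion_free'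

end Groth.Agent.S16387
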