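import Groth.Statements.S16388
import Groth.Agent.AbVar.K522.IsogCrit
import Groth.Agent.S14935
-- import your own Groth.Agent.* helpers here

set_option autoImplicit false
universe u
open CategoryTheory MonoidalCategory CartesianMonoidalCategory MonObj GrpObj AlgebraicGeometry
open AbVar

namespace Groth.Agent.S16388

open AbDual K522.TateAbs

section alg

variable {l : ℕ} [Fact l.Prime] {M N : Type*} [AddCommGroup M] [Module ℤ_[l] M] [AddCommGroup N] [Module ℤ_[l] N]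

/-- Approximation of an `l`-adic combination by an integral one. -/
theorem exists_int_approx {n : ℕ} (t : Fin n → (M →ₗ[ℤ_[l]] N)) (c : Fin n → ℤ_[l]) :
    ∃ (a : Fin n → ℤ) (w : M →ₗ[ℤ_[l]] N), ∑ i, c i • t i = (∑ i, a i • t i) + (l : ℤ_[l]) • w := by
  have h : ∀ i, ∃ (a : ℤ) (d : ℤ_[l]), c i = (a : ℤ_[l]) + (l : ℤ_[l]) * d := by
    intro i
    have h1 := PadicInt.appr_spec 1 (c i)
    rw [pow_one, Ideal.mem_span_singleton] at h1
    obtain ⟨d, hd⟩ := h1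
    refine ⟨((c i).appr 1 : ℤ), d, ?_⟩
    rw [← hd, Int.cast_natCast, add_sub_cancel]
  choose a d had using h
  refine ⟨a, ∑ i, d i • t i, ?_⟩
  rw [Finset.smul_sum, ← Finset.sum_add_distrib]
  refine Finset.sum_congr rfl fun i _ => ?_
  rw [had i, add_smul, Int.cast_smul_eq_zsmul, smul_smul]

/-- A map congruent to an isomorphism modulo `l` is an isomorphism. -/
theorem bijective_of_approx [Module.Finite ℤ_[l] M] [Module.Finite ℤ_[l] N] (e : M ≃ₗ[ℤ_[l]] N)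
    (f w : M →ₗ[ℤ_[l]] N) (h : e.toLinearMap = f + (l : ℤ_[l]) • w) : Function.Bijective f := by
  have hs : Function.Surjective f := by
    rw [← LinearMap.range_eq_top]
    have hJ : Ideal.span {(l : ℤ_[l])} ≤ Ideal.jacobson ⊥ := by
      rw [← PadicInt.maximalIdeal_eq_span_p]
      exact IsLocalRing.maximalIdeal_le_jacobson _
    have h1 : (⊤ : Submodule ℤ_[l] N) ≤ LinearMap.range f ⊔ (Ideal.span {(l : ℤ_[l])}) • ⊤ := by
      intro y _
      obtain ⟨x, rfl⟩ := e.surjective y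
      have h2 : e x = f x + (l : ℤ_[l]) • w x := LinearMap.congr_fun h x
      rw [h2]
      exact Submodule.add_mem_sup ⟨x, rfl⟩ (Submodule.smul_mem_smul (Ideal.mem_span_singleton_self _) trivial)
    exact top_le_iff.mp (Submodule.le_of_le_smul_of_le_jacobson_bot (Module.Finite.fg_top) hJ h1)
  refine ⟨?_, hs⟩
  have h3 : Function.Injective (e.symm.toLinearMap ∘ₗ f) :=
    OrzechProperty.injective_of_surjective_endomorphism _ (e.symm.surjective.comp hs)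
  exact Function.Injective.of_comp h3

end alg

section geo

variable {k Ω : Type u} [Field k] [Finite k] [Field Ω] [Algebra k Ω] [IsAlgClosure k Ω] {l : ℕ} [Fact l.Prime]
  {A B : Over (Spec (CommRingCat.of k))} [GrpObj A] [IsCommMonObj A] [IsProper A.hom] [GeometricallyIntegral A.hom]
  [GrpObj B] [IsCommMonObj B] [IsProper B.hom] [GeometricallyIntegral B.hom]

/-- Tate's theorem in terms of a basis of `Hom(A, B)`. -/
theorem exists_coeff (hl : (l : k) ≠ 0) {ρA : (Ω ≃ₐ[k] Ω) → Module.End ℤ_[l] (TateMod A l (SGA7.pt Ω))}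
    (hρA : IsGal ρA) {ρB : (Ω ≃ₐ[k] Ω) → Module.End ℤ_[l] (TateMod B l (SGA7.pt Ω))} (hρB : IsGal ρB)
    (u : TateMod A l (SGA7.pt Ω) →ₗ[ℤ_[l]] TateMod B l (SGA7.pt Ω)) (hu : ∀ τ : Ω ≃ₐ[k] Ω, u ∘ₗ ρA τ = ρB τ ∘ₗ u)
    {n : ℕ} (b : Module.Basis (Fin n) ℤ (EndAV.Hom A B)) :
    ∃ c : Fin n → ℤ_[l], ∑ i, c i • EndAV.Hom.tateMap (A := A) (B := B) l (SGA7.pt (K := k) Ω) (b i) = u := by
  have h1 := Groth.Agent.S14935.result k Ω l hl A B ρA hρA ρB hρB u hu
  have h4 : Submodule.span ℤ_[l] {v : TateMod A l (SGA7.pt Ω) →ₗ[ℤ_[l]] TateMod B l (SGA7.pt Ω) |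
      ∃ (f : A ⟶ B) (_ : IsMonHom f), v = tateMapₗ (l := l) (T := SGA7.pt Ω) f} ≤
      Submodule.span ℤ_[l] (Set.range fun i => EndAV.Hom.tateMap (A := A) (B := B) l (SGA7.pt (K := k) Ω) (b i)) := by
    rw [Submodule.span_le]
    rintro _ ⟨f, hf, rfl⟩
    have h5 : tateMapₗ (l := l) (T := SGA7.pt (K := k) Ω) f =
        EndAV.Hom.tateMap (A := A) (B := B) l (SGA7.pt (K := k) Ω) (EndAV.Hom.of f) := rfl
    rw [h5, ← b.sum_repr (EndAV.Hom.of f), map_sum]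
    refine sum_mem fun i _ => ?_
    rw [map_zsmul, ← Int.cast_smul_eq_zsmul ℤ_[l]]
    exact Submodule.smul_mem _ _ (Submodule.subset_span ⟨i, rfl⟩)
  exact (Submodule.mem_span_range_iff_exists_fun ℤ_[l]).mp (h4 h1)

omit [Finite k] [IsAlgClosure k Ω] in
/-- `T_l` of multiplication by `n`. -/
theorem tateMap_pow {C : Over (Spec (CommRingCat.of k))} [GrpObj C] [IsCommMonObj C] (w : C ⟶ C) [IsMonHom w] (n : ℕ)
    (hw : w = (𝟙 C) ^ n) :
    tateMapₗ (l := l) (T := SGA7.pt (K := k) Ω) w = (n : ℤ_[l]) • LinearMap.id := by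
  have h1 : EndAV.Hom.of w = n • EndAV.Hom.of (𝟙 C) := EndAV.Hom.ext (by
    rw [EndAV.Hom.toHom_nsmul, EndAV.Hom.toHom_of, EndAV.Hom.toHom_of, hw])
  have h2 : tateMapₗ (l := l) (T := SGA7.pt (K := k) Ω) w =
      EndAV.Hom.tateMap (A := C) (B := C) l (SGA7.pt (K := k) Ω) (EndAV.Hom.of w) := rfl
  have h3 : EndAV.Hom.tateMap (A := C) (B := C) l (SGA7.pt (K := k) Ω) (EndAV.Hom.of (𝟙 C)) = LinearMap.id :=
    K519.Tate.tateMapₗ_id
  rw [h2, h1, map_nsmul, h3, Nat.cast_smul_eq_nsmul]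

/-- The direction from Tate modules to isogenies. -/
theorem forward (hl : (l : k) ≠ 0) {ρA : (Ω ≃ₐ[k] Ω) → Module.End ℤ_[l] (TateMod A l (SGA7.pt Ω))}
    (hρA : IsGal ρA) {ρB : (Ω ≃ₐ[k] Ω) → Module.End ℤ_[l] (TateMod B l (SGA7.pt Ω))} (hρB : IsGal ρB)
    (e : TateMod A l (SGA7.pt Ω) ≃ₗ[ℤ_[l]] TateMod B l (SGA7.pt Ω))
    (he : ∀ τ : Ω ≃ₐ[k] Ω, e.toLinearMap ∘ₗ ρA τ = ρB τ ∘ₗ e.toLinearMap) :
    ∃ (f : A ⟶ B) (_ : IsMonHom f) (g : B ⟶ A) (_ : IsMonHom g) (N : ℕ), 0 < N ∧ ¬ l ∣ N ∧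
        f ≫ g = (𝟙 A) ^ N ∧ g ≫ f = (𝟙 B) ^ N := by
  have : IsAlgClosed Ω := IsAlgClosure.isAlgClosed k
  have := K522.FFThm.finite_tate (l := l) Ω hl A
  have := K522.FFThm.free_tate (l := l) Ω hl A
  have := K522.FFThm.finite_tate (l := l) Ω hl B
  have := K522.FFThm.free_tate (l := l) Ω hl B
  have := K522.Bridge.free_hom A B
  have := K522.Bridge.finite_hom A B
  have := K522.Bridge.free_hom B A
  have := K522.Bridge.finite_hom B A
  -- a homomorphism which is an isomorphism on Tate modules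
  let b := Module.finBasis ℤ (EndAV.Hom A B)
  obtain ⟨c, hc⟩ := exists_coeff hl hρA hρB e.toLinearMap he b
  obtain ⟨a, w, haw⟩ := exists_int_approx
    (fun i => EndAV.Hom.tateMap (A := A) (B := B) l (SGA7.pt (K := k) Ω) (b i)) c
  let φ : EndAV.Hom A B := ∑ i, a i • b i
  have hφ : EndAV.Hom.tateMap (A := A) (B := B) l (SGA7.pt (K := k) Ω) φ =
      ∑ i, a i • EndAV.Hom.tateMap (A := A) (B := B) l (SGA7.pt (K := k) Ω) (b i) := by
    rw [map_sum]
    exact Finset.sum_congr rfl fun i _ => map_zsmul _ _ _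
  have hbij : Function.Bijective (tateMapₗ (l := l) (T := SGA7.pt (K := k) Ω) φ.toHom) := by
    refine bijective_of_approx e _ w ?_
    rw [← hc, haw, ← hφ]
    rfl
  -- its quasi-inverse
  obtain ⟨g, hg⟩ := K516.HomFin.exists_dim A
  have hB : topologicalKrullDim B.left = g :=
    K522.IsogCrit.dim_eq hl g hg (e.baseChange ℤ_[l] ℚ_[l] _ _)
  obtain ⟨n, v, hn, hv, h2, h3⟩ := K522.IsogCrit.exists_rev Ω hl g hg hB φ.toHom hbij.1
  let F := LinearEquiv.ofBijective _ hbij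
  have hFφ : F.toLinearMap = tateMapₗ (l := l) (T := SGA7.pt (K := k) Ω) φ.toHom := rfl
  -- the inverse is Galois equivariant
  have hFeq : ∀ τ : Ω ≃ₐ[k] Ω, F.symm.toLinearMap ∘ₗ ρB τ = ρA τ ∘ₗ F.symm.toLinearMap := by
    intro τ
    refine LinearMap.ext fun y => F.injective ?_
    have h5 := LinearMap.congr_fun (hρA.comm hρB φ.toHom τ) (F.symm y)
    have h6 : F (ρA τ (F.symm y)) = ρB τ (F (F.symm y)) := h5
    change F (F.symm (ρB τ y)) = F (ρA τ (F.symm y))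
    rw [h6, F.apply_symm_apply, F.apply_symm_apply]
  let b' := Module.finBasis ℤ (EndAV.Hom B A)
  obtain ⟨d, hd⟩ := exists_coeff hl hρB hρA F.symm.toLinearMap hFeq b'
  -- `T_l v = n F⁻¹`
  have hvF : tateMapₗ (l := l) (T := SGA7.pt (K := k) Ω) v = (n : ℤ_[l]) • F.symm.toLinearMap := by
    refine LinearMap.ext fun y => ?_
    obtain ⟨x, rfl⟩ := F.surjective y
    have h5 : tateMapₗ (l := l) (T := SGA7.pt (K := k) Ω) (φ.toHom ≫ v) = (n : ℤ_[l]) • LinearMap.id :=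
      tateMap_pow _ n h2
    rw [K519.Tate.tateMapₗ_comp] at h5
    have h6 := LinearMap.congr_fun h5 x
    change tateMapₗ v (F x) = (n : ℤ_[l]) • F.symm (F x)
    rw [F.symm_apply_apply]
    exact h6
  let V : EndAV.Hom B A := EndAV.Hom.of v
  have hV : ∑ i, ((b'.repr V i : ℤ) : ℤ_[l]) • EndAV.Hom.tateMap (A := B) (B := A) l (SGA7.pt (K := k) Ω) (b' i) =
      ∑ i, ((n : ℤ_[l]) * d i) • EndAV.Hom.tateMap (A := B) (B := A) l (SGA7.pt (K := k) Ω) (b' i) := by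
    have h5 : EndAV.Hom.tateMap (A := B) (B := A) l (SGA7.pt (K := k) Ω) V =
        ∑ i, ((b'.repr V i : ℤ) : ℤ_[l]) • EndAV.Hom.tateMap (A := B) (B := A) l (SGA7.pt (K := k) Ω) (b' i) := by
      conv_lhs => rw [← b'.sum_repr V]
      rw [map_sum]
      refine Finset.sum_congr rfl fun i _ => ?_
      rw [map_zsmul, Int.cast_smul_eq_zsmul]
    rw [← h5]
    change tateMapₗ (l := l) (T := SGA7.pt (K := k) Ω) v = _
    rw [hvF, ← hd, Finset.smul_sum]
    exact Finset.sum_congr rfl fun i _ => smul_smul _ _ _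
  have hcoef : ∀ i, ((b'.repr V i : ℤ) : ℤ_[l]) = (n : ℤ_[l]) * d i := by
    have hli := K522.Bridge.linearIndependent (l := l) Ω hl b' b'.linearIndependent
    intro i
    have h5 := Fintype.linearIndependent_iff.mp hli
      (fun i => ((b'.repr V i : ℤ) : ℤ_[l]) - (n : ℤ_[l]) * d i) (by
        simp only [sub_smul]
        rw [Finset.sum_sub_distrib, hV, sub_self]) i
    exact sub_eq_zero.mp h5
  -- split off the power of `l`
  have hn0 : n ≠ 0 := Nat.one_le_iff_ne_zero.mp hn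
  obtain ⟨r, m, hlm, hnm⟩ := Nat.exists_eq_pow_mul_and_not_dvd hn0 l (Fact.out : l.Prime).ne_one
  have hdvd : ∀ i, ∃ q : ℤ, b'.repr V i = (l : ℤ) ^ r * q := by
    intro i
    have h5 : (l : ℤ_[l]) ^ r ∣ ((b'.repr V i : ℤ) : ℤ_[l]) := by
      rw [hcoef i, hnm, Nat.cast_mul, Nat.cast_pow, _root_.mul_assoc]
      exact dvd_mul_right _ _
    exact (PadicInt.pow_p_dvd_int_iff r _).mp h5
  choose q hq using hdvd
  let V' : EndAV.Hom B A := ∑ i, q i • b' i
  have hVV : V = (l ^ r) • V' := by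
    have h5 : V = ∑ i, (b'.repr V i) • b' i := (b'.sum_repr V).symm
    rw [h5, Finset.smul_sum]
    refine Finset.sum_congr rfl fun i _ => ?_
    rw [hq i, mul_smul, ← natCast_zsmul, Nat.cast_pow]
  have hvV : v = V'.toHom ^ (l ^ r) := by
    rw [← EndAV.Hom.toHom_nsmul, ← hVV]
    rfl
  have hlr : l ^ r ≠ 0 := pow_ne_zero _ (Fact.out : l.Prime).ne_zero
  have key : ∀ (C : Over (Spec (CommRingCat.of k))) [GrpObj C] [IsCommMonObj C] [IsProper C.hom]
      [GeometricallyIntegral C.hom] (p : C ⟶ C) [IsMonHom p], p ^ (l ^ r) = (𝟙 C) ^ n → p = (𝟙 C) ^ m := by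
    intro C _ _ _ _ p _ hp
    have h5 : (l ^ r) • EndAV.Hom.of p = (l ^ r) • (m • EndAV.Hom.of (𝟙 C)) := EndAV.Hom.ext (by
      rw [EndAV.Hom.toHom_nsmul, EndAV.Hom.toHom_nsmul, EndAV.Hom.toHom_nsmul, EndAV.Hom.toHom_of,
        EndAV.Hom.toHom_of, hp, ← pow_mul, hnm, _root_.mul_comm])
    have h6 : EndAV.Hom.of p = m • EndAV.Hom.of (𝟙 C) := by
      rw [← sub_eq_zero]
      refine K510.TateHom.eq_zero_of_nsmul hlr ?_
      rw [smul_sub, h5, sub_self]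
    have h7 := congrArg EndAV.Hom.toHom h6
    rwa [EndAV.Hom.toHom_nsmul, EndAV.Hom.toHom_of, EndAV.Hom.toHom_of] at h7
  refine ⟨φ.toHom, inferInstance, V'.toHom, inferInstance, m, ?_, hlm, key A _ ?_, key B _ ?_⟩
  · exact Nat.pos_of_ne_zero (fun h => hlm (h ▸ dvd_zero l))
  · rw [← MonObj.comp_pow, ← hvV, h2]
  · rw [← MonObj.pow_comp, ← hvV, h3]

/-- The direction from isogenies to Tate modules. -/
theorem backward {ρA : (Ω ≃ₐ[k] Ω) → Module.End ℤ_[l] (TateMod A l (SGA7.pt Ω))}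
    (hρA : IsGal ρA) {ρB : (Ω ≃ₐ[k] Ω) → Module.End ℤ_[l] (TateMod B l (SGA7.pt Ω))} (hρB : IsGal ρB)
    (f : A ⟶ B) [IsMonHom f] (g : B ⟶ A) [IsMonHom g] (N : ℕ) (hN : ¬ l ∣ N)
    (h1 : f ≫ g = (𝟙 A) ^ N) (h2 : g ≫ f = (𝟙 B) ^ N) :
    ∃ e : TateMod A l (SGA7.pt Ω) ≃ₗ[ℤ_[l]] TateMod B l (SGA7.pt Ω),
      ∀ τ : Ω ≃ₐ[k] Ω, e.toLinearMap ∘ₗ ρA τ = ρB τ ∘ₗ e.toLinearMap := by
  have hu : IsUnit (N : ℤ_[l]) := by
    rw [PadicInt.isUnit_iff, PadicInt.norm_natCast_eq_one_iff]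
    exact ((Fact.out : l.Prime).coprime_iff_not_dvd).mpr hN
  obtain ⟨u, hu⟩ := hu
  have e1 : tateMapₗ (l := l) (T := SGA7.pt (K := k) Ω) g ∘ₗ tateMapₗ f = (N : ℤ_[l]) • LinearMap.id := by
    rw [← K519.Tate.tateMapₗ_comp]
    exact tateMap_pow (f ≫ g) N h1
  have e2 : tateMapₗ (l := l) (T := SGA7.pt (K := k) Ω) f ∘ₗ tateMapₗ g = (N : ℤ_[l]) • LinearMap.id := by
    rw [← K519.Tate.tateMapₗ_comp]
    exact tateMap_pow (g ≫ f) N h2
  have hi : ((u⁻¹ : ℤ_[l]ˣ) : ℤ_[l]) * (N : ℤ_[l]) = 1 := by rw [← hu, Units.inv_mul]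
  refine ⟨LinearEquiv.ofLinearMap (tateMapₗ f) (((u⁻¹ : ℤ_[l]ˣ) : ℤ_[l]) • tateMapₗ g) ?_ ?_, fun τ => ?_⟩
  · rw [LinearMap.comp_smul, e2, smul_smul, hi, one_smul]
  · rw [LinearMap.smul_comp, e1, smul_smul, hi, one_smul]
  · exact hρA.comm hρB f τ

end geo

/-- For a single prime l different from the characteristic; let k be a finite field with algebraic
closure Ω, l a prime number invertible in k, and A, B abelian varieties over k (proper,
geometrically integral commutative group schemes over k). For each k-automorphism τ of Ω let ρ_A(τ),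
ρ_B(τ) be the ℤ_l-linear endomorphisms of the l-adic Tate modules of Ω-points T_l A, T_l B which act
on every component by the Galois action of τ (this pins them). Then T_l A and T_l B are isomorphic
as Galois modules — there is a ℤ_l-linear isomorphism e with e ∘ ρ_A(τ) = ρ_B(τ) ∘ e for all τ — if
and only if there is an isogeny A → B of degree prime to l, expressed here as: homomorphisms f : A →
B and g : B → A and an integer N ≥ 1 not divisible by l such that g ∘ f is multiplication by N on A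
and f ∘ g is multiplication by N on B. -/
theorem result (k Ω : Type u)
    [Field k] [Finite k] [Field Ω] [Algebra k Ω] [IsAlgClosure k Ω] (l : ℕ) [Fact l.Prime] (hl : (l : k) ≠ 0)
    (A B : Over (Spec (CommRingCat.of k))) [GrpObj A] [IsCommMonObj A] [IsProper A.hom] [GeometricallyIntegral A.hom]
    [GrpObj B] [IsCommMonObj B] [IsProper B.hom] [GeometricallyIntegral B.hom]
    (ρA : (Ω ≃ₐ[k] Ω) → Module.End ℤ_[l] (AbDual.TateMod A l (SGA7.pt Ω)))
    (hρA : ∀ (τ : Ω ≃ₐ[k] Ω) (z : AbDual.TateMod A l (SGA7.pt Ω)) (m : ℕ),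
      (AbDual.TateMod.component A l (SGA7.pt Ω) m (ρA τ z)).toMul =
        SGA7.galAct τ (AbDual.TateMod.component A l (SGA7.pt Ω) m z).toMul)
    (ρB : (Ω ≃ₐ[k] Ω) → Module.End ℤ_[l] (AbDual.TateMod B l (SGA7.pt Ω)))
    (hρB : ∀ (τ : Ω ≃ₐ[k] Ω) (z : AbDual.TateMod B l (SGA7.pt Ω)) (m : ℕ),
      (AbDual.TateMod.component B l (SGA7.pt Ω) m (ρB τ z)).toMul =
        SGA7.galAct τ (AbDual.TateMod.component B l (SGA7.pt Ω) m z).toMul) :
    (∃ e : AbDual.TateMod A l (SGA7.pt Ω) ≃ₗ[ℤ_[l]] AbDual.TateMod B l (SGA7.pt Ω),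
        ∀ τ : Ω ≃ₐ[k] Ω, e.toLinearMap ∘ₗ ρA τ = ρB τ ∘ₗ e.toLinearMap) ↔
      ∃ (f : A ⟶ B) (_ : IsMonHom f) (g : B ⟶ A) (_ : IsMonHom g) (N : ℕ), 0 < N ∧ ¬ l ∣ N ∧
        f ≫ g = (𝟙 A) ^ N ∧ g ≫ f = (𝟙 B) ^ N := by
  constructor
  · rintro ⟨e, he⟩
    exact forward hl hρA hρB e he
  · rintro ⟨f, _, g, _, N, -, hN, h1, h2⟩
    exact backward hρA hρB f g N hN h1 h2

end Groth.Agent.S16388
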