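import Groth.Statements.S16390
import Mathlib.NumberTheory.Padics.Hensel
import Mathlib.Algebra.Polynomial.SpecificDegree
import Mathlib.Tactic.ComputeDegree
import Mathlib.Tactic.Linarith
import Mathlib.Tactic.Positivity
import Mathlib.Tactic.LinearCombination

set_option autoImplicit false
open AbVar

namespace Groth.Agent.S16390

/-- Let p be a prime number, r > 2 and q = p^r. The polynomial x² − p x + q is irreducible over ℚ, each
of its complex roots has absolute value √q (so its roots are Weil q-numbers), and it has two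
distinct roots in ℚ_p, of p-adic valuations 1 and r − 1. The published lemma also computes the index
of the endomorphism algebra of the simple abelian variety attached to a root; this row does not
state that part. -/
theorem result (p r : ℕ) [Fact p.Prime] (hr : 2 < r) :
    Irreducible (Polynomial.X ^ 2 - Polynomial.C (p : ℚ) * Polynomial.X + Polynomial.C ((p : ℚ) ^ r)) ∧
      (∀ π : ℂ, π ^ 2 - (p : ℂ) * π + (p : ℂ) ^ r = 0 → ‖π‖ = Real.sqrt ((p : ℝ) ^ r)) ∧
      ∃ a b : ℚ_[p], a ≠ b ∧ a ^ 2 - (p : ℚ_[p]) * a + (p : ℚ_[p]) ^ r = 0 ∧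
        b ^ 2 - (p : ℚ_[p]) * b + (p : ℚ_[p]) ^ r = 0 ∧ a.valuation = 1 ∧ b.valuation = (r : ℤ) - 1 := by
  have hp : p.Prime := Fact.out
  have hp0 : (0 : ℝ) < p := by exact_mod_cast hp.pos
  obtain ⟨s, rfl⟩ : ∃ s, r = s + 3 := ⟨r - 3, by omega⟩
  have hp2 : (2 : ℝ) ≤ p := by exact_mod_cast hp.two_le
  -- the discriminant is negative
  have hdisc : (p : ℝ) ^ 2 < 4 * (p : ℝ) ^ (s + 3) := by
    have h1 : (1 : ℝ) ≤ (p : ℝ) ^ (s + 1) := one_le_pow₀ (by linarith)
    have h2 : (p : ℝ) ^ (s + 3) = (p : ℝ) ^ (s + 1) * (p : ℝ) ^ 2 := by ring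
    have h3 : (0 : ℝ) < (p : ℝ) ^ 2 := by positivity
    nlinarith
  have hpos : ∀ x : ℝ, 0 < x ^ 2 - (p : ℝ) * x + (p : ℝ) ^ (s + 3) := by
    intro x
    nlinarith [sq_nonneg (x - p / 2)]
  refine ⟨?_, ?_, ?_⟩
  · have hdeg : (Polynomial.X ^ 2 - Polynomial.C (p : ℚ) * Polynomial.X +
        Polynomial.C ((p : ℚ) ^ (s + 3))).natDegree = 2 := by
      compute_degree!
    apply Polynomial.irreducible_of_degree_le_three_of_not_isRoot
    · rw [hdeg]; decide
    · intro x hx
      have h := hpos (x : ℝ)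
      rw [Polynomial.IsRoot.def] at hx
      simp only [Polynomial.eval_add, Polynomial.eval_sub, Polynomial.eval_pow, Polynomial.eval_X,
        Polynomial.eval_mul, Polynomial.eval_C] at hx
      have h' : ((x ^ 2 - (p : ℚ) * x + (p : ℚ) ^ (s + 3) : ℚ) : ℝ) = 0 := by rw [hx]; simp
      push_cast at h'
      linarith
  · intro π hπ
    have hre := congrArg Complex.re hπ
    have him := congrArg Complex.im hπ
    have hpc : ((p : ℂ) ^ (s + 3)) = (((p : ℝ) ^ (s + 3) : ℝ) : ℂ) := by push_cast; rfl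
    rw [hpc] at hre him
    simp only [pow_two, Complex.add_re, Complex.sub_re, Complex.mul_re, Complex.natCast_re, Complex.natCast_im,
      Complex.ofReal_re, Complex.zero_re, Complex.add_im, Complex.sub_im, Complex.mul_im, Complex.ofReal_im,
      Complex.zero_im] at hre him
    have hIm : π.im ≠ 0 := by
      intro h0
      have := hpos π.re
      rw [h0] at hre
      nlinarith
    have hRe : π.re = p / 2 := by
      have : π.im * (2 * π.re - p) = 0 := by linarith
      rcases mul_eq_zero.mp this with h | h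
      · exact absurd h hIm
      · linarith
    rw [Complex.norm_def, Complex.normSq_apply]
    congr 1
    nlinarith
  · -- the `p`-adic roots
    set F : Polynomial ℤ_[p] := Polynomial.X ^ 2 - Polynomial.X + Polynomial.C ((p : ℤ_[p]) ^ (s + 1)) with hF
    have hF1 : F.aeval (1 : ℤ_[p]) = (p : ℤ_[p]) ^ (s + 1) := by
      simp [hF]
    have hdF : ∀ z : ℤ_[p], F.derivative.aeval z = 2 * z - 1 := by
      intro z
      simp [hF, Polynomial.derivative_add, Polynomial.derivative_sub, Polynomial.derivative_pow]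
    have hpn : ‖(p : ℤ_[p])‖ < 1 := by
      rw [PadicInt.norm_p]
      exact inv_lt_one_of_one_lt₀ (by linarith)
    have hnorm : ‖F.aeval (1 : ℤ_[p])‖ < ‖F.derivative.aeval (1 : ℤ_[p])‖ ^ 2 := by
      rw [hF1, hdF]
      norm_num
      rw [← one_div, div_lt_one (by positivity)]
      exact one_lt_pow₀ (by linarith) (by omega)
    obtain ⟨z, hz, hz1, -, -⟩ := hensels_lemma hnorm
    rw [hdF] at hz1
    norm_num at hz1
    have hz' : z ^ 2 - z + (p : ℤ_[p]) ^ (s + 1) = 0 := by
      simpa [hF] using hz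
    have hzunit : ‖z‖ = 1 := by
      have h1 : ‖z - 1‖ ≠ ‖(1 : ℤ_[p])‖ := by rw [norm_one]; exact hz1.ne
      have := PadicInt.norm_add_eq_max_of_ne h1
      rw [sub_add_cancel, norm_one] at this
      rw [this]
      exact max_eq_right hz1.le
    have hpQ : (p : ℚ_[p]) ≠ 0 := by exact_mod_cast hp.ne_zero
    have hzQ : (z : ℚ_[p]) ≠ 0 := by
      intro h0
      have : ‖(z : ℚ_[p])‖ = 1 := hzunit
      rw [h0, norm_zero] at this
      exact zero_ne_one this
    have hzv : (z : ℚ_[p]).valuation = 0 := by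
      have h := Padic.norm_eq_zpow_neg_valuation hzQ
      rw [show ‖(z : ℚ_[p])‖ = 1 from hzunit] at h
      by_contra hne
      have hinj := zpow_right_injective₀ hp0 (by linarith : (p : ℝ) ≠ 1)
      have := hinj (a₁ := 0) (a₂ := -(z : ℚ_[p]).valuation) (by simpa using h)
      omega
    have hzq : (z : ℚ_[p]) ^ 2 - z + (p : ℚ_[p]) ^ (s + 1) = 0 := by
      have := congrArg (fun t : ℤ_[p] => (t : ℚ_[p])) hz'
      simpa using this
    set a : ℚ_[p] := p * z with ha
    set b : ℚ_[p] := p * (1 - z) with hb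
    have hz1q : (1 - z : ℚ_[p]) ≠ 0 := by
      intro h0
      have h1 : (z : ℚ_[p]) = 1 := (sub_eq_zero.mp h0).symm
      rw [h1] at hzq
      have : (p : ℚ_[p]) ^ (s + 1) = 0 := by linear_combination hzq
      exact pow_ne_zero _ hpQ this
    have hva : a.valuation = 1 := by
      rw [ha, Padic.valuation_mul hpQ hzQ, Padic.valuation_p, hzv]; rfl
    have hvb : b.valuation = ((s + 3 : ℕ) : ℤ) - 1 := by
      have hab : (z : ℚ_[p]) * (1 - z) = (p : ℚ_[p]) ^ (s + 1) := by linear_combination (-1 : ℚ_[p]) * hzq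
      have h := congrArg Padic.valuation hab
      rw [Padic.valuation_mul hzQ hz1q, hzv, Padic.valuation_pow, Padic.valuation_p] at h
      rw [hb, Padic.valuation_mul hpQ hz1q, Padic.valuation_p]
      push_cast at h ⊢
      linarith
    refine ⟨a, b, ?_, ?_, ?_, hva, hvb⟩
    · intro hab
      rw [hab, hvb] at hva
      push_cast at hva
      omega
    · rw [ha]
      have : (p : ℚ_[p]) ^ (s + 3) = (p : ℚ_[p]) ^ 2 * (p : ℚ_[p]) ^ (s + 1) := by ring
      rw [this]
      linear_combination ((p : ℚ_[p]) ^ 2) * hzq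
    · rw [hb]
      have : (p : ℚ_[p]) ^ (s + 3) = (p : ℚ_[p]) ^ 2 * (p : ℚ_[p]) ^ (s + 1) := by ring
      rw [this]
      linear_combination ((p : ℚ_[p]) ^ 2) * hzq

end Groth.Agent.S16390
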