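import Groth.Statements.S16391
import Groth.Agent.AbVar.K520.FrP
import Groth.Agent.AbVar.K520.KerSub
import Groth.Agent.AbVar.K520.HomFg
import Groth.Agent.AbVar.K520.HomFin

set_option autoImplicit false
universe u
open CategoryTheory MonoidalCategory CartesianMonoidalCategory MonObj GrpObj AlgebraicGeometry
open AbVar

namespace Groth.Agent.S16391

/-- the same element, typed in the ring -/
abbrev toE {k : Type u} [Field k] {A : Over (Spec (CommRingCat.of k))} [GrpObj A] [IsCommMonObj A]
    (r : EndAV.Hom A A) : EndAV.End A := r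

theorem exists_equiv {G M H : Type*} [AddCommGroup G] [AddCommGroup M] [AddCommGroup H] (f : G →+ M) (g : G →+ H)
    (hf : Function.Surjective f) (hg : Function.Surjective g) (h : f.ker = g.ker) :
    ∃ e : M ≃+ H, ∀ x, e (f x) = g x := by
  refine ⟨(QuotientAddGroup.quotientKerEquivOfSurjective f hf).symm.trans
    ((QuotientAddGroup.quotientAddEquivOfEq h).trans (QuotientAddGroup.quotientKerEquivOfSurjective g hg)), fun x => ?_⟩
  have h1 : (QuotientAddGroup.quotientKerEquivOfSurjective f hf).symm (f x) = (x : G ⧸ f.ker) := by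
    rw [AddEquiv.symm_apply_eq]
    rfl
  rw [AddEquiv.trans_apply, h1]
  rfl

/-- (c) ⇒ (a₂): let k be a finite field with q elements and fix a polynomial P with integer
coefficients. Work with abelian varieties over k (proper, geometrically integral commutative group
schemes over k) together with their q-Frobenius endomorphism π (the identity on points, the q-th
power map on sections; a homomorphism) such that P(π) = 0 in the endomorphism ring (for suitable P:
the abelian varieties with Weil support in a given finite set of Weil q-numbers); let A be one of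
them and S = End(A) (product = composition). Assume that A is an injective cogenerator: (c₁) every
such Z admits finitely many homomorphisms Z → A which are jointly monomorphic on T-valued points
over k, and (c₂) for such X, Y and every homomorphism X → Y which is a closed immersion, the
restriction map Hom(Y, A) → Hom(X, A) is surjective. Then the functor X ↦ Hom(X, A) is essentially
surjective onto left S-modules that are free of finite rank over ℤ: for every such module M there
are such an abelian variety X (with its Frobenius and P(π_X) = 0) and an additive bijection M ≅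
Hom(X, A) carrying the action of s ∈ S to postcomposition with s. -/
theorem result
    (k : Type u) [Field k] [Finite k]
    (P : Polynomial ℤ) (A : Over (Spec (CommRingCat.of k))) [GrpObj A] [IsCommMonObj A] [IsProper A.hom] [GeometricallyIntegral A.hom]
    (πA : A ⟶ A) [IsMonHom πA] (hπAb : πA.left.base = 𝟙 _)
    (hπAle : ∀ U : A.left.Opens, U ≤ πA.left ⁻¹ᵁ U)
    (hπAapp : ∀ (U : A.left.Opens) (s : Γ(A.left, U)), (πA.left.appLE U U (hπAle U)).hom s = s ^ Nat.card k)
    (hPA : Polynomial.eval₂ (Int.castRingHom (EndAV.End A)) (EndAV.End.of πA) P = 0)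
    (hcog : ∀ (Z : Over (Spec (CommRingCat.of k))) [GrpObj Z] [IsCommMonObj Z] [IsProper Z.hom] [GeometricallyIntegral Z.hom]
      (πZ : Z ⟶ Z) [IsMonHom πZ] (hπZb : πZ.left.base = 𝟙 _) (hπZle : ∀ U : Z.left.Opens, U ≤ πZ.left ⁻¹ᵁ U)
      (hπZapp : ∀ (U : Z.left.Opens) (s : Γ(Z.left, U)), (πZ.left.appLE U U (hπZle U)).hom s = s ^ Nat.card k)
      (hPZ : Polynomial.eval₂ (Int.castRingHom (EndAV.End Z)) (EndAV.End.of πZ) P = 0),
      ∃ (n : ℕ) (ψ : Fin n → EndAV.Hom Z A), ∀ (T : Over (Spec (CommRingCat.of k))) (x y : T ⟶ Z),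
        (∀ i, x ≫ (ψ i).toHom = y ≫ (ψ i).toHom) → x = y)
    (hext : ∀ (X Y : Over (Spec (CommRingCat.of k))) [GrpObj X] [IsCommMonObj X] [IsProper X.hom] [GeometricallyIntegral X.hom]
      [GrpObj Y] [IsCommMonObj Y] [IsProper Y.hom] [GeometricallyIntegral Y.hom]
      (πX : X ⟶ X) [IsMonHom πX] (hπXb : πX.left.base = 𝟙 _) (hπXle : ∀ U : X.left.Opens, U ≤ πX.left ⁻¹ᵁ U)
      (hπXapp : ∀ (U : X.left.Opens) (s : Γ(X.left, U)), (πX.left.appLE U U (hπXle U)).hom s = s ^ Nat.card k)
      (hPX : Polynomial.eval₂ (Int.castRingHom (EndAV.End X)) (EndAV.End.of πX) P = 0)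
      (πY : Y ⟶ Y) [IsMonHom πY] (hπYb : πY.left.base = 𝟙 _) (hπYle : ∀ U : Y.left.Opens, U ≤ πY.left ⁻¹ᵁ U)
      (hπYapp : ∀ (U : Y.left.Opens) (s : Γ(Y.left, U)), (πY.left.appLE U U (hπYle U)).hom s = s ^ Nat.card k)
      (hPY : Polynomial.eval₂ (Int.castRingHom (EndAV.End Y)) (EndAV.End.of πY) P = 0)
      (φ : EndAV.Hom X Y) [IsClosedImmersion φ.toHom.left] (f : EndAV.Hom X A), ∃ g : EndAV.Hom Y A, φ ≫ g = f)
    (M : Type u) [AddCommGroup M] [Module (EndAV.End A) M] [Module.Finite ℤ M] [Module.Free ℤ M] :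
    ∃ (X : Over (Spec (CommRingCat.of k))) (_ : GrpObj X) (_ : IsCommMonObj X) (_ : IsProper X.hom)
      (_ : GeometricallyIntegral X.hom) (πX : X ⟶ X) (_ : IsMonHom πX) (_ : πX.left.base = 𝟙 _)
      (hπXle : ∀ U : X.left.Opens, U ≤ πX.left ⁻¹ᵁ U)
      (_ : ∀ (U : X.left.Opens) (s : Γ(X.left, U)), (πX.left.appLE U U (hπXle U)).hom s = s ^ Nat.card k)
      (_ : Polynomial.eval₂ (Int.castRingHom (EndAV.End X)) (EndAV.End.of πX) P = 0)
      (e : M ≃+ EndAV.Hom X A), ∀ (s : EndAV.End A) (m : M), (e (s • m)).toHom = (e m).toHom ≫ s.toHom := by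
  have hA : K520.FrP.FrP k P A := K520.FrP.frP_of_hyps πA hπAb hπAle hπAapp hPA
  have ext : ∀ (X Y : Over (Spec (CommRingCat.of k))) [GrpObj X] [IsCommMonObj X] [IsProper X.hom]
      [GeometricallyIntegral X.hom] [GrpObj Y] [IsCommMonObj Y] [IsProper Y.hom] [GeometricallyIntegral Y.hom],
      K520.FrP.FrP k P X → K520.FrP.FrP k P Y →
      ∀ (φ : EndAV.Hom X Y) [IsClosedImmersion φ.toHom.left] (f : EndAV.Hom X A), ∃ g : EndAV.Hom Y A, φ ≫ g = f := by
    intro X Y _ _ _ _ _ _ _ _ h1 h2
    exact hext X Y (K520.Frob.fr k X) (K520.Frob.isFrob_fr k X).base (K520.Frob.isFrob_fr k X).le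
      (K520.Frob.isFrob_fr k X).app h1 (K520.Frob.fr k Y) (K520.Frob.isFrob_fr k Y).base
      (K520.Frob.isFrob_fr k Y).le (K520.Frob.isFrob_fr k Y).app h2
  have frPow : ∀ (n : ℕ) (Pn : Over (Spec (CommRingCat.of k))) [GrpObj Pn] [IsCommMonObj Pn]
      (pr : Fin n → EndAV.Hom Pn A)
      (_ : ∀ (T : Over (Spec (CommRingCat.of k))) (a b : T ⟶ Pn), (∀ i, a ≫ (pr i).toHom = b ≫ (pr i).toHom) → a = b),
      K520.FrP.FrP k P Pn := fun n Pn _ _ pr hPn1 => K520.FrP.frP_of_jointly_mono (fun _ => A) pr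
      (fun a ha => EndAV.Hom.ext (hPn1 _ _ _ fun i => (congrArg EndAV.Hom.toHom (ha i)).trans
        (MonObj.one_comp _).symm)) (fun _ => hA)
  have hMtf : Module.IsTorsionFree ℤ M := inferInstance
  -- generators of `M`
  obtain ⟨n, m, hm⟩ := Module.Finite.exists_fin (R := ℤ) (M := M)
  obtain ⟨B, _, _, _, _, pr, inc, hB1, -, hB3, hB4, hB5, hB6⟩ := K520.Prod.exists_pow A n
  have hB : K520.FrP.FrP k P B := frPow n B pr hB1
  -- the surjection `Hom(B, A) → M`
  let Ψ : EndAV.Hom B A →+ M :=
    { toFun := fun r => ∑ i, toE (inc i ≫ r) • m i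
      map_zero' := by
        refine Finset.sum_eq_zero fun i _ => ?_
        rw [Limits.comp_zero]
        exact zero_smul (EndAV.End A) (m i)
      map_add' := fun a b => by
        rw [← Finset.sum_add_distrib]
        refine Finset.sum_congr rfl fun i _ => ?_
        rw [Preadditive.comp_add]
        exact add_smul (R := EndAV.End A) _ _ (m i) }
  have hΨs : ∀ (r : EndAV.Hom B A) (s : EndAV.End A), Ψ (r ≫ s) = s • Ψ r := fun r s => by
    change ∑ i, toE (inc i ≫ r ≫ s) • m i =
      s • ∑ i, toE (inc i ≫ r) • m i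
    rw [Finset.smul_sum]
    refine Finset.sum_congr rfl fun i _ => ?_
    rw [← Category.assoc]
    exact mul_smul s _ (m i)
  have hΨpr : ∀ (i : Fin n) (s : EndAV.End A), Ψ (pr i ≫ s) = s • m i := fun i s => by
    rw [hΨs]
    congr 1
    change ∑ j, toE (inc j ≫ pr i) • m j = m i
    rw [Finset.sum_eq_single i]
    · rw [hB4]
      exact one_smul (EndAV.End A) (m i)
    · intro j _ hj
      rw [hB5 j i hj]
      exact zero_smul (EndAV.End A) (m j)
    · intro h
      exact absurd (Finset.mem_univ i) h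
  have hΨsurj : Function.Surjective Ψ := by
    intro y
    have hy : y ∈ Submodule.span ℤ (Set.range m) := by rw [hm]; exact Submodule.mem_top
    induction hy using Submodule.span_induction with
    | mem x hx =>
      obtain ⟨i, rfl⟩ := hx
      refine ⟨pr i ≫ (1 : EndAV.End A), ?_⟩
      rw [hΨpr, one_smul]
    | zero => exact ⟨0, map_zero Ψ⟩
    | add a b _ _ ha hb =>
      obtain ⟨a', rfl⟩ := ha
      obtain ⟨b', rfl⟩ := hb
      exact ⟨a' + b', map_add Ψ _ _⟩
    | smul c a _ ha =>
      obtain ⟨a', rfl⟩ := ha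
      exact ⟨c • a', map_zsmul Ψ c a'⟩
  -- generators of the kernel
  have hfin : Module.Finite ℤ (EndAV.Hom B A) := K520.HomFin.finite_hom k B A
  let K : Submodule ℤ (EndAV.Hom B A) := LinearMap.ker Ψ.toIntLinearMap
  have hKfin : Module.Finite ℤ K := inferInstance
  obtain ⟨m', κ, hκ⟩ := Module.Finite.exists_fin (R := ℤ) (M := K)
  obtain ⟨E, _, _, _, _, pr', inc', hE1, -, hE3, hE4, hE5, hE6⟩ := K520.Prod.exists_pow A m'
  have hE : K520.FrP.FrP k P E := frPow m' E pr' hE1
  obtain ⟨h, hh⟩ := hE3 B (fun j => (κ j : EndAV.Hom B A))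
  obtain ⟨X, C, _, _, _, _, _, _, _, _, x, p, i, hx, hi, hp1, hp2, hpi, hxp, hker⟩ := K520.KerSub.exists_ker h
  have hxm : Mono x.toHom.left := inferInstance
  have him : Mono i.toHom.left := inferInstance
  have hX : K520.FrP.FrP k P X := K520.FrP.frP_of_jointly_mono (J := Unit) (fun _ => B) (fun _ => x)
    (fun a ha => K520.Quot.cancel_right_hom x ((ha ()).trans Limits.zero_comp.symm)) (fun _ => hB)
  have hC : K520.FrP.FrP k P C := K520.FrP.frP_of_jointly_mono (J := Unit) (fun _ => E) (fun _ => i)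
    (fun a ha => K520.Quot.cancel_right_hom i ((ha ()).trans Limits.zero_comp.symm)) (fun _ => hE)
  have hxh : x ≫ h = 0 := by rw [← hpi, ← Category.assoc, hxp, Limits.zero_comp]
  -- `h ≫ c` lies in the kernel of `Ψ`
  have hΨh : ∀ c : EndAV.Hom E A, Ψ (h ≫ c) = 0 := fun c => by
    have h1 : h ≫ c = ∑ j, (κ j : EndAV.Hom B A) ≫ (inc' j ≫ c) := by
      have h2 : h ≫ c = h ≫ (∑ j, pr' j ≫ inc' j) ≫ c := by rw [hE6, Category.id_comp]
      rw [h2, Preadditive.sum_comp, Preadditive.comp_sum]
      refine Finset.sum_congr rfl fun j _ => ?_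
      rw [← hh j]
      simp only [Category.assoc]
    rw [h1, map_sum]
    refine Finset.sum_eq_zero fun j _ => ?_
    have h3 : Ψ (κ j : EndAV.Hom B A) = 0 := (κ j).2
    exact (hΨs _ (inc' j ≫ c)).trans (by rw [h3, smul_zero])
  -- the restriction map
  let res : EndAV.Hom B A →+ EndAV.Hom X A :=
    { toFun := fun r => x ≫ r
      map_zero' := Limits.comp_zero
      map_add' := fun _ _ => Preadditive.comp_add _ _ _ _ _ _ }
  have hres : Function.Surjective res := fun f => ext X B hX hB x f
  have hkerEq : Ψ.ker = res.ker := by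
    ext r
    rw [AddMonoidHom.mem_ker, AddMonoidHom.mem_ker]
    constructor
    · intro hr
      have hrK : (⟨r, hr⟩ : K) ∈ Submodule.span ℤ (Set.range κ) := by rw [hκ]; exact Submodule.mem_top
      have key : ∀ y : K, y ∈ Submodule.span ℤ (Set.range κ) → x ≫ (y : EndAV.Hom B A) = 0 := by
        intro y hy
        induction hy using Submodule.span_induction with
        | mem z hz =>
          obtain ⟨j, rfl⟩ := hz
          rw [← hh j, ← Category.assoc, hxh, Limits.zero_comp]
        | zero => exact Limits.comp_zero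
        | add a b _ _ ha hb =>
          rw [Submodule.coe_add, Preadditive.comp_add, ha, hb, add_zero]
        | smul c a _ ha =>
          rw [Submodule.coe_smul, Preadditive.comp_zsmul, ha, smul_zero]
      exact key _ hrK
    · intro hr
      obtain ⟨N, hN, c, hc⟩ := hker A r hr
      obtain ⟨c', hc'⟩ := ext C E hC hE i c
      have h1 : N • r = h ≫ c' := by rw [hc, ← hc', ← Category.assoc, hpi]
      have h2 : N • Ψ r = 0 := by rw [← map_nsmul, h1, hΨh]
      rw [← natCast_zsmul] at h2
      rcases smul_eq_zero.1 h2 with h3 | h3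
      · exact absurd (by exact_mod_cast h3) hN.ne'
      · exact h3
  obtain ⟨e, he⟩ := exists_equiv Ψ res hΨsurj hres hkerEq
  refine ⟨X, inferInstance, inferInstance, inferInstance, inferInstance, K520.Frob.fr k X, inferInstance,
    (K520.Frob.isFrob_fr k X).base, (K520.Frob.isFrob_fr k X).le, (K520.Frob.isFrob_fr k X).app, hX, e, fun s y => ?_⟩
  obtain ⟨r, rfl⟩ := hΨsurj y
  rw [← hΨs, he, he]
  change EndAV.Hom.toHom (x ≫ (r ≫ (s : EndAV.Hom A A))) = EndAV.Hom.toHom (x ≫ r) ≫ EndAV.End.toHom s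
  rw [← Category.assoc]
  rfl

end Groth.Agent.S16391
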