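import Groth.Statements.S16393
import Groth.Agent.AbVar.K520.FrP
import Groth.Agent.AbVar.K520.Quot
import Groth.Agent.AbVar.K520.Noeth

set_option autoImplicit false
universe u
open CategoryTheory MonoidalCategory CartesianMonoidalCategory MonObj GrpObj AlgebraicGeometry
open AbVar

namespace Groth.Agent.S16393

/-- (a₁) ⇒ (b₁): let k be a finite field with q elements and fix a polynomial P with integer
coefficients. Work with abelian varieties over k (proper, geometrically integral commutative group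
schemes over k) with their q-Frobenius endomorphism π (identity on points, q-th power on sections; a
homomorphism) such that P(π) = 0 in the endomorphism ring (for suitable P: the abelian varieties
with Weil support in a given finite set of Weil q-numbers); let A be one of them. Assume (a₁): the
functor X ↦ Hom(X, A), with values in left End(A)-modules (End(A) acting by postcomposition), is
fully faithful on these abelian varieties — for such X, Y, two homomorphisms X → Y agreeing after
composition with every homomorphism Y → A are equal, and every additive End(A)-linear map Hom(Y, A)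
→ Hom(X, A) is precomposition with a homomorphism X → Y. Then (b₁): for such X and every finite
closed subgroup scheme H ⊆ X, H equals the common kernel of the homomorphisms X → A vanishing on H;
on points: a T-valued point of X over k which is sent to the unit by every homomorphism X → A
killing H factors through H. -/
theorem result
    (k : Type u) [Field k] [Finite k]
    (P : Polynomial ℤ) (A : Over (Spec (CommRingCat.of k))) [GrpObj A] [IsCommMonObj A] [IsProper A.hom] [GeometricallyIntegral A.hom]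
    (πA : A ⟶ A) [IsMonHom πA] (hπAb : πA.left.base = 𝟙 _) (hπAle : ∀ U : A.left.Opens, U ≤ πA.left ⁻¹ᵁ U)
      (hπAapp : ∀ (U : A.left.Opens) (s : Γ(A.left, U)), (πA.left.appLE U U (hπAle U)).hom s = s ^ Nat.card k)
    (hPA : Polynomial.eval₂ (Int.castRingHom (EndAV.End A)) (EndAV.End.of πA) P = 0)
    (hff : ∀ (X Y : Over (Spec (CommRingCat.of k))) [GrpObj X] [IsCommMonObj X] [IsProper X.hom] [GeometricallyIntegral X.hom]
      [GrpObj Y] [IsCommMonObj Y] [IsProper Y.hom] [GeometricallyIntegral Y.hom]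
      (πX : X ⟶ X) [IsMonHom πX] (hπXb : πX.left.base = 𝟙 _) (hπXle : ∀ U : X.left.Opens, U ≤ πX.left ⁻¹ᵁ U)
      (hπXapp : ∀ (U : X.left.Opens) (s : Γ(X.left, U)), (πX.left.appLE U U (hπXle U)).hom s = s ^ Nat.card k)
      (hPX : Polynomial.eval₂ (Int.castRingHom (EndAV.End X)) (EndAV.End.of πX) P = 0)
      (πY : Y ⟶ Y) [IsMonHom πY] (hπYb : πY.left.base = 𝟙 _) (hπYle : ∀ U : Y.left.Opens, U ≤ πY.left ⁻¹ᵁ U)
      (hπYapp : ∀ (U : Y.left.Opens) (s : Γ(Y.left, U)), (πY.left.appLE U U (hπYle U)).hom s = s ^ Nat.card k)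
      (hPY : Polynomial.eval₂ (Int.castRingHom (EndAV.End Y)) (EndAV.End.of πY) P = 0),
      (∀ f g : EndAV.Hom X Y, (∀ φ : EndAV.Hom Y A, f ≫ φ = g ≫ φ) → f = g) ∧
        (∀ g : EndAV.Hom Y A →+ EndAV.Hom X A,
          (∀ (φ : EndAV.Hom Y A) (s : EndAV.Hom A A), g (φ ≫ s) = g φ ≫ s) →
            ∃ f : EndAV.Hom X Y, ∀ φ : EndAV.Hom Y A, g φ = f ≫ φ))
    (X : Over (Spec (CommRingCat.of k))) [GrpObj X] [IsCommMonObj X] [IsProper X.hom] [GeometricallyIntegral X.hom]
    (πX : X ⟶ X) [IsMonHom πX] (hπXb : πX.left.base = 𝟙 _) (hπXle : ∀ U : X.left.Opens, U ≤ πX.left ⁻¹ᵁ U)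
      (hπXapp : ∀ (U : X.left.Opens) (s : Γ(X.left, U)), (πX.left.appLE U U (hπXle U)).hom s = s ^ Nat.card k)
    (hPX : Polynomial.eval₂ (Int.castRingHom (EndAV.End X)) (EndAV.End.of πX) P = 0)
    (H : Over (Spec (CommRingCat.of k))) [GrpObj H] [IsFinite H.hom] (i : H ⟶ X) [IsMonHom i] [IsClosedImmersion i.left]
    (T : Over (Spec (CommRingCat.of k))) (x : T ⟶ X)
    (hx : ∀ f : EndAV.Hom X A, i ≫ f.toHom = 1 → x ≫ f.toHom = 1) :
    ∃ y : T ⟶ H, y ≫ i = x := by
  have hX : K520.FrP.FrP k P X := K520.FrP.frP_of_hyps πX hπXb hπXle hπXapp hPX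
  have ff : ∀ (X Y : Over (Spec (CommRingCat.of k))) [GrpObj X] [IsCommMonObj X] [IsProper X.hom]
      [GeometricallyIntegral X.hom] [GrpObj Y] [IsCommMonObj Y] [IsProper Y.hom] [GeometricallyIntegral Y.hom],
      K520.FrP.FrP k P X → K520.FrP.FrP k P Y →
      (∀ f g : EndAV.Hom X Y, (∀ φ : EndAV.Hom Y A, f ≫ φ = g ≫ φ) → f = g) ∧
        (∀ g : EndAV.Hom Y A →+ EndAV.Hom X A,
          (∀ (φ : EndAV.Hom Y A) (s : EndAV.Hom A A), g (φ ≫ s) = g φ ≫ s) →
            ∃ f : EndAV.Hom X Y, ∀ φ : EndAV.Hom Y A, g φ = f ≫ φ) := by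
    intro X Y _ _ _ _ _ _ _ _ h1 h2
    exact hff X Y (K520.Frob.fr k X) (K520.Frob.isFrob_fr k X).base (K520.Frob.isFrob_fr k X).le
      (K520.Frob.isFrob_fr k X).app h1 (K520.Frob.fr k Y) (K520.Frob.isFrob_fr k Y).base
      (K520.Frob.isFrob_fr k Y).le (K520.Frob.isFrob_fr k Y).app h2
  -- the quotient of `X` by `H`
  obtain ⟨Q, _, _, _, _, q, hq1, hq2, hq3, hqK⟩ := K520.Quot.exists_quotient X H i
  have hQ : K520.FrP.FrP k P Q := K520.FrP.frP_of_epi q
    (fun a ha => K520.Quot.cancel_left_hom q (ha.trans Limits.comp_zero.symm)) hX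
  -- finitely many homomorphisms
  have hN : IsLocallyNoetherian Q.left := LocallyOfFiniteType.isLocallyNoetherian Q.hom
  have hc : CompactSpace Q.left := QuasiCompact.compactSpace_of_compactSpace Q.hom
  have : AlgebraicGeometry.IsNoetherian Q.left := {}
  obtain ⟨n, s, hs⟩ := K520.Noeth.exists_finite_common_kernel (X := Q) (J := EndAV.Hom Q A) (fun _ => A)
    (fun f => f.toHom)
  obtain ⟨Pn, _, _, _, _, pr, inc, hPn1, hPn2, hPn3, -, -, -⟩ := K520.Prod.exists_pow A n
  obtain ⟨ψ, hψ⟩ := hPn3 Q s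
  obtain ⟨C, _, _, _, _, p, j, hpj, hp1, hp2, hp3, hj⟩ := K520.Quot.exists_image ψ
  have hC : K520.FrP.FrP k P C := K520.FrP.frP_of_epi p
    (fun a ha => K520.Quot.cancel_left_hom p (ha.trans Limits.comp_zero.symm)) hQ
  -- every homomorphism `Q → A` kills every point killed by `p`
  have hkill : ∀ (T : Over (Spec (CommRingCat.of k))) (x : T ⟶ Q), x ≫ p.toHom = 1 →
      ∀ φ : EndAV.Hom Q A, x ≫ φ.toHom = 1 := by
    intro T x hx φ
    refine hs T x (fun l => ?_) φ
    rw [← hψ l, ← hpj]
    simp only [EndAV.Hom.toHom_comp]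
    rw [Category.assoc, reassoc_of% hx]
    simp only [MonObj.one_comp]
  choose G hG using fun φ : EndAV.Hom Q A => K520.Quot.exists_desc' p φ (fun T x hx => hkill T x hx φ)
  have hGinj : ∀ a b : EndAV.Hom C A, p ≫ a = p ≫ b → a = b := fun a b h => K520.Quot.cancel_left_hom p h
  let G' : EndAV.Hom Q A →+ EndAV.Hom C A :=
    { toFun := G
      map_zero' := hGinj _ _ (by rw [hG, Limits.comp_zero])
      map_add' := fun a b => hGinj _ _ (by rw [hG, Preadditive.comp_add, hG, hG]) }
  obtain ⟨f, hf⟩ := (ff C Q hC hQ).2 G' (fun φ s => hGinj _ _ (by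
    change p ≫ G (φ ≫ s) = p ≫ G φ ≫ s
    rw [hG, ← Category.assoc, hG]))
  have hpf : p ≫ f = 𝟙 _ := by
    refine (ff Q Q hQ hQ).1 _ _ fun φ => ?_
    rw [Category.assoc, ← hf φ, Category.id_comp]
    exact hG φ
  -- the point
  have hxq : x ≫ q.toHom = 1 := by
    have h1 : ∀ φ : EndAV.Hom Q A, (x ≫ q.toHom) ≫ φ.toHom = 1 := by
      intro φ
      have h2 := hx (q ≫ φ) (by
        simp only [EndAV.Hom.toHom_comp]
        rw [reassoc_of% (K520.Quot.kernel_comp hqK)]
        simp only [MonObj.one_comp])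
      rw [Category.assoc]
      exact h2
    have h3 : (x ≫ q.toHom) ≫ p.toHom = 1 := by
      refine K520.Quot.cancel_right j.toHom ?_
      refine hPn1 _ _ _ fun l => ?_
      have e : ψ.toHom = p.toHom ≫ j.toHom := congrArg EndAV.Hom.toHom hpj.symm
      have h4 := h1 (s l)
      rw [← hψ l] at h4
      rw [Category.assoc (x ≫ q.toHom), ← e]
      simp only [MonObj.one_comp]
      simp only [EndAV.Hom.toHom_comp] at h4
      rw [Category.assoc (x ≫ q.toHom)]
      exact h4
    calc x ≫ q.toHom = (x ≫ q.toHom) ≫ EndAV.Hom.toHom (p ≫ f) := by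
          rw [hpf]; exact (Category.comp_id _).symm
      _ = ((x ≫ q.toHom) ≫ p.toHom) ≫ f.toHom := by
          rw [EndAV.Hom.toHom_comp]; exact (Category.assoc _ _ _).symm
      _ = 1 := by rw [h3]; exact MonObj.one_comp _
  exact K520.Quot.exists_factor hqK x hxq

end Groth.Agent.S16393
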