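import Groth.Statements.S16394
import Groth.Agent.AbVar.K520.Noeth

set_option autoImplicit false
universe u
open CategoryTheory MonoidalCategory CartesianMonoidalCategory MonObj GrpObj AlgebraicGeometry
open AbVar

namespace Groth.Agent.S16394

/-- (b₁) ⇒ (c₁): let k be a finite field and X, A abelian varieties over k (proper, geometrically
integral commutative group schemes over k). Suppose the common kernel of all homomorphisms X → A is
trivial: every T-valued point of X over k that is sent to the unit by every homomorphism X → A is
the unit point (this is condition (b₁) for the trivial subgroup). Then there are finitely many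
homomorphisms ψ_1, …, ψ_n : X → A which are jointly monomorphic on T-valued points — two T-valued
points of X with the same image under every ψ_i are equal — so that (ψ_i) is an injective
homomorphism X → A^n. The published statement restricts X and A to abelian varieties whose Frobenius
is killed by a fixed polynomial; this row has no such restriction. -/
theorem result
    (k : Type u) [Field k] [Finite k] (X A : Over (Spec (CommRingCat.of k))) [GrpObj X] [IsCommMonObj X] [IsProper X.hom] [GeometricallyIntegral X.hom]
    [GrpObj A] [IsCommMonObj A] [IsProper A.hom] [GeometricallyIntegral A.hom]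
    (hsep : ∀ (T : Over (Spec (CommRingCat.of k))) (x : T ⟶ X), (∀ f : EndAV.Hom X A, x ≫ f.toHom = 1) → x = 1) :
    ∃ (n : ℕ) (ψ : Fin n → EndAV.Hom X A), ∀ (T : Over (Spec (CommRingCat.of k))) (x y : T ⟶ X),
      (∀ i, x ≫ (ψ i).toHom = y ≫ (ψ i).toHom) → x = y := by
  have hlf : LocallyOfFiniteType X.hom := inferInstance
  have hN : IsLocallyNoetherian X.left :=
    LocallyOfFiniteType.isLocallyNoetherian X.hom
  have hc : CompactSpace X.left := QuasiCompact.compactSpace_of_compactSpace X.hom
  have : AlgebraicGeometry.IsNoetherian X.left := {}
  obtain ⟨n, s, hs⟩ := K520.Noeth.exists_finite_common_kernel (X := X) (J := EndAV.Hom X A) (fun _ => A)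
    (fun f => f.toHom)
  refine ⟨n, s, fun T x y h => ?_⟩
  have h1 : x / y = 1 := hsep T (x / y) (hs T (x / y) fun j => by
    rw [GrpObj.div_comp, h j, div_self'])
  exact div_eq_one.1 h1

end Groth.Agent.S16394
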