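import Groth.Statements.S16395
import Groth.Agent.AbVar.K520.FrP
import Groth.Agent.AbVar.K520.Quot
import Groth.Agent.AbVar.K520.HomFg
import Groth.Agent.AbVar.K520.HomFin

set_option autoImplicit false
universe u
open CategoryTheory MonoidalCategory CartesianMonoidalCategory MonObj GrpObj AlgebraicGeometry
open AbVar

namespace Groth.Agent.S16395

/-- (a) ⇒ (b₂): let k be a finite field with q elements and fix a polynomial P with integer
coefficients. Work with abelian varieties over k (proper, geometrically integral commutative group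
schemes over k) with their q-Frobenius endomorphism π (identity on points, q-th power on sections; a
homomorphism) such that P(π) = 0 in the endomorphism ring (for suitable P: the abelian varieties
with Weil support in a given finite set of Weil q-numbers); let A be one of them and S = End(A)
(product = composition), acting on each Hom(X, A) by postcomposition. Assume (a): the functor X ↦
Hom(X, A) is an anti-equivalence from these abelian varieties onto left S-modules free of finite
rank over ℤ — (a₁) for such X, Y, homomorphisms X → Y agreeing after composition with every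
homomorphism Y → A are equal and every additive S-linear map Hom(Y, A) → Hom(X, A) is precomposition
with a homomorphism X → Y; (a₂) every left S-module whose additive group is free of finite rank over
ℤ is additively and S-linearly isomorphic to Hom(Y, A) for some such Y. Then (b₂): for every such X
and every additive subgroup M ⊆ Hom(X, A) of finite index stable under postcomposition with
endomorphisms of A, a homomorphism f : X → A lies in M as soon as it kills the common kernel of M,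
i.e. every T-valued point of X over k sent to the unit by all members of M is sent to the unit by f. -/
theorem result
    (k : Type u) [Field k] [Finite k]
    (P : Polynomial ℤ) (A : Over (Spec (CommRingCat.of k))) [GrpObj A] [IsCommMonObj A] [IsProper A.hom] [GeometricallyIntegral A.hom]
    (πA : A ⟶ A) [IsMonHom πA] (hπAb : πA.left.base = 𝟙 _) (hπAle : ∀ U : A.left.Opens, U ≤ πA.left ⁻¹ᵁ U)
      (hπAapp : ∀ (U : A.left.Opens) (s : Γ(A.left, U)), (πA.left.appLE U U (hπAle U)).hom s = s ^ Nat.card k)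
    (hPA : Polynomial.eval₂ (Int.castRingHom (EndAV.End A)) (EndAV.End.of πA) P = 0)
    (hff : ∀ (X Y : Over (Spec (CommRingCat.of k))) [GrpObj X] [IsCommMonObj X] [IsProper X.hom] [GeometricallyIntegral X.hom]
      [GrpObj Y] [IsCommMonObj Y] [IsProper Y.hom] [GeometricallyIntegral Y.hom]
      (πX : X ⟶ X) [IsMonHom πX] (hπXb : πX.left.base = 𝟙 _) (hπXle : ∀ U : X.left.Opens, U ≤ πX.left ⁻¹ᵁ U)
      (hπXapp : ∀ (U : X.left.Opens) (s : Γ(X.left, U)), (πX.left.appLE U U (hπXle U)).hom s = s ^ Nat.card k)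
      (hPX : Polynomial.eval₂ (Int.castRingHom (EndAV.End X)) (EndAV.End.of πX) P = 0)
      (πY : Y ⟶ Y) [IsMonHom πY] (hπYb : πY.left.base = 𝟙 _) (hπYle : ∀ U : Y.left.Opens, U ≤ πY.left ⁻¹ᵁ U)
      (hπYapp : ∀ (U : Y.left.Opens) (s : Γ(Y.left, U)), (πY.left.appLE U U (hπYle U)).hom s = s ^ Nat.card k)
      (hPY : Polynomial.eval₂ (Int.castRingHom (EndAV.End Y)) (EndAV.End.of πY) P = 0),
      (∀ f g : EndAV.Hom X Y, (∀ φ : EndAV.Hom Y A, f ≫ φ = g ≫ φ) → f = g) ∧
        (∀ g : EndAV.Hom Y A →+ EndAV.Hom X A,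
          (∀ (φ : EndAV.Hom Y A) (s : EndAV.Hom A A), g (φ ≫ s) = g φ ≫ s) →
            ∃ f : EndAV.Hom X Y, ∀ φ : EndAV.Hom Y A, g φ = f ≫ φ))
    (hes : ∀ (M : Type u) [AddCommGroup M] [Module (EndAV.End A) M] [Module.Finite ℤ M] [Module.Free ℤ M],
      ∃ (Y : Over (Spec (CommRingCat.of k))) (_ : GrpObj Y) (_ : IsCommMonObj Y) (_ : IsProper Y.hom)
        (_ : GeometricallyIntegral Y.hom) (πY : Y ⟶ Y) (_ : IsMonHom πY) (_ : πY.left.base = 𝟙 _)
        (hπYle : ∀ U : Y.left.Opens, U ≤ πY.left ⁻¹ᵁ U)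
        (_ : ∀ (U : Y.left.Opens) (s : Γ(Y.left, U)), (πY.left.appLE U U (hπYle U)).hom s = s ^ Nat.card k)
        (_ : Polynomial.eval₂ (Int.castRingHom (EndAV.End Y)) (EndAV.End.of πY) P = 0)
        (e : M ≃+ EndAV.Hom Y A), ∀ (s : EndAV.End A) (m : M), (e (s • m)).toHom = (e m).toHom ≫ s.toHom)
    (X : Over (Spec (CommRingCat.of k))) [GrpObj X] [IsCommMonObj X] [IsProper X.hom] [GeometricallyIntegral X.hom]
    (πX : X ⟶ X) [IsMonHom πX] (hπXb : πX.left.base = 𝟙 _) (hπXle : ∀ U : X.left.Opens, U ≤ πX.left ⁻¹ᵁ U)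
      (hπXapp : ∀ (U : X.left.Opens) (s : Γ(X.left, U)), (πX.left.appLE U U (hπXle U)).hom s = s ^ Nat.card k)
    (hPX : Polynomial.eval₂ (Int.castRingHom (EndAV.End X)) (EndAV.End.of πX) P = 0)
    (M : AddSubgroup (EndAV.Hom X A)) (hM : M.FiniteIndex) (hMS : ∀ r ∈ M, ∀ s : EndAV.Hom A A, r ≫ s ∈ M)
    (f : EndAV.Hom X A)
    (hf : ∀ (T : Over (Spec (CommRingCat.of k))) (x : T ⟶ X), (∀ r ∈ M, x ≫ EndAV.Hom.toHom r = 1) → x ≫ f.toHom = 1) :
    f ∈ M := by
  have hX : K520.FrP.FrP k P X := K520.FrP.frP_of_hyps πX hπXb hπXle hπXapp hPX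
  have ff : ∀ (X Y : Over (Spec (CommRingCat.of k))) [GrpObj X] [IsCommMonObj X] [IsProper X.hom]
      [GeometricallyIntegral X.hom] [GrpObj Y] [IsCommMonObj Y] [IsProper Y.hom] [GeometricallyIntegral Y.hom],
      K520.FrP.FrP k P X → K520.FrP.FrP k P Y →
      (∀ f g : EndAV.Hom X Y, (∀ φ : EndAV.Hom Y A, f ≫ φ = g ≫ φ) → f = g) ∧
        (∀ g : EndAV.Hom Y A →+ EndAV.Hom X A,
          (∀ (φ : EndAV.Hom Y A) (s : EndAV.Hom A A), g (φ ≫ s) = g φ ≫ s) →
            ∃ f : EndAV.Hom X Y, ∀ φ : EndAV.Hom Y A, g φ = f ≫ φ) := by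
    intro X Y _ _ _ _ _ _ _ _ h1 h2
    exact hff X Y (K520.Frob.fr k X) (K520.Frob.isFrob_fr k X).base (K520.Frob.isFrob_fr k X).le
      (K520.Frob.isFrob_fr k X).app h1 (K520.Frob.fr k Y) (K520.Frob.isFrob_fr k Y).base
      (K520.Frob.isFrob_fr k Y).le (K520.Frob.isFrob_fr k Y).app h2
  have hfin : Module.Finite ℤ (EndAV.Hom X A) := K520.HomFin.finite_hom k X A
  have htf : Module.IsTorsionFree ℤ (EndAV.Hom X A) := K520.HomFg.isTorsionFree_hom
  -- `M` as a submodule
  let N : Submodule (EndAV.End A) (EndAV.Hom X A) :=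
    { M with smul_mem' := fun s r hr => hMS r hr s }
  let j : N →ₗ[ℤ] EndAV.Hom X A := N.subtype.toAddMonoidHom.toIntLinearMap
  have hj : Function.Injective j := Subtype.val_injective
  have hN1 : Module.Finite ℤ N := Module.Finite.of_injective j hj
  have hN2 : Module.IsTorsionFree ℤ N := Module.IsTorsionFree.of_smul_eq_zero fun n x h => by
    have h1 : n • j x = 0 := by rw [← map_zsmul, h, map_zero]
    rcases smul_eq_zero.1 h1 with h2 | h2
    · exact Or.inl h2
    · exact Or.inr (hj (h2.trans (map_zero j).symm))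
  have hN3 : Module.Free ℤ N := Module.free_of_finite_type_torsion_free'
  obtain ⟨Y, _, _, _, _, πY, hY1, hY2, hY3, hY4, hY5, e, he⟩ := hes N
  have hY : K520.FrP.FrP k P Y := K520.FrP.frP_of_hyps πY hY2 hY3 hY4 hY5
  -- the homomorphism `u : X → Y` with `M = {u ≫ φ}`
  obtain ⟨u, hu⟩ := (ff X Y hX hY).2 (j.toAddMonoidHom.comp e.symm.toAddMonoidHom) (fun φ s => by
    have h1 : e.symm (φ ≫ s) = (s : EndAV.End A) • e.symm φ := by
      rw [AddEquiv.symm_apply_eq]
      apply EndAV.Hom.ext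
      rw [he, AddEquiv.apply_symm_apply]
      rfl
    change j (e.symm (φ ≫ s)) = j (e.symm φ) ≫ s
    rw [h1]
    rfl)
  have huM : ∀ φ : EndAV.Hom Y A, u ≫ φ ∈ M := fun φ => by
    rw [← hu φ]
    exact (e.symm φ).2
  have huM' : ∀ r ∈ M, ∃ φ : EndAV.Hom Y A, u ≫ φ = r := fun r hr => by
    refine ⟨e ⟨r, hr⟩, ?_⟩
    rw [← hu]
    change j (e.symm (e ⟨r, hr⟩)) = r
    rw [AddEquiv.symm_apply_apply]
    rfl
  have hu0 : ∀ φ : EndAV.Hom Y A, u ≫ φ = 0 → φ = 0 := fun φ h => by
    rw [← hu] at h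
    have h1 : e.symm φ = 0 := hj (h.trans (map_zero j).symm)
    rw [← e.apply_symm_apply φ, h1, map_zero]
  -- `u` is surjective
  obtain ⟨C, _, _, _, _, p, i, hpi, hp1, hp2, hp3, hi⟩ := K520.Quot.exists_image u
  obtain ⟨Q, _, _, _, _, q, hq1, hq2, hq3, hqK⟩ := K520.Quot.exists_quotient Y C i.toHom
  have hQ : K520.FrP.FrP k P Q := K520.FrP.frP_of_epi q
    (fun a ha => K520.Quot.cancel_left_hom q (ha.trans Limits.comp_zero.symm)) hY
  have hiq : i ≫ q = 0 := EndAV.Hom.ext (K520.Quot.kernel_comp hqK)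
  have hQA : ∀ χ : EndAV.Hom Q A, χ = 0 := fun χ => by
    have h1 : q ≫ χ = 0 := hu0 _ (by
      rw [← hpi, Category.assoc, ← Category.assoc i, hiq, Limits.zero_comp, Limits.comp_zero])
    exact K520.Quot.cancel_left_hom q (h1.trans Limits.comp_zero.symm)
  have hid : (𝟙 _ : EndAV.Hom Q Q) = 0 := (ff Q Q hQ hQ).1 _ _ fun φ => by
    rw [hQA φ, Limits.comp_zero, Limits.comp_zero]
  have hq0 : q = 0 := by
    rw [← Category.comp_id q, hid, Limits.comp_zero]
  obtain ⟨y, hy⟩ := K520.Quot.exists_factor hqK (𝟙 Y) (by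
    rw [Category.id_comp, hq0]
    rfl)
  have hmi : Mono i.toHom := Over.mono_of_mono_left i.toHom
  have hyi : i.toHom ≫ y = 𝟙 C := by
    rw [← cancel_mono i.toHom, Category.assoc, hy, Category.comp_id, Category.id_comp]
  have hiso : IsIso i.toHom := ⟨y, hyi, hy⟩
  have hiso' : IsIso i.toHom.left := inferInstanceAs (IsIso ((Over.forget _).map i.toHom))
  have hul : u.toHom.left = p.toHom.left ≫ i.toHom.left := by rw [← hpi]; rfl
  have hu1 : Flat u.toHom.left := by rw [hul]; infer_instance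
  have hu2 : Surjective u.toHom.left := by rw [hul]; infer_instance
  -- descend `f`
  obtain ⟨ψ, hψ⟩ := K520.Quot.exists_desc' u f fun T x hx => hf T x fun r hr => by
    obtain ⟨φ, rfl⟩ := huM' r hr
    rw [EndAV.Hom.toHom_comp, ← Category.assoc, hx, MonObj.one_comp]
  rw [← hψ]
  exact huM ψ

end Groth.Agent.S16395
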