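import Groth.Statements.S16396
import Mathlib.Algebra.Polynomial.Inductions

set_option autoImplicit false
universe u
open CAlg

namespace Groth.Agent.S16396

open Polynomial in
theorem aux (A : Type u) [CommRing A] [Algebra ℚ A] (B : Subalgebra ℚ A[X])
    (hX : (X : A[X]) ∈ B) (hD : ∀ P ∈ B, Polynomial.derivative P ∈ B) (n : ℕ) :
    ∀ Q ∈ B, Q.natDegree ≤ n → ∀ i : ℕ, C (Q.coeff i) ∈ B := by
  induction n with
  | zero =>
    intro Q hQ hn i
    have h1 : Q = C (Q.coeff 0) := Polynomial.eq_C_of_natDegree_le_zero hn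
    rcases Nat.eq_zero_or_pos i with rfl | hi
    · rw [← h1]; exact hQ
    · rw [Polynomial.coeff_eq_zero_of_natDegree_lt (by omega), C_0]
      exact B.zero_mem
  | succ n ih =>
    intro Q hQ hn
    have h1 : ∀ i : ℕ, C (Q.coeff (i + 1)) ∈ B := by
      intro i
      have h2 := ih (derivative Q) (hD Q hQ)
        ((Polynomial.natDegree_derivative_le Q).trans (by omega)) i
      rw [Polynomial.coeff_derivative] at h2
      have h3 := B.smul_mem h2 ((i + 1 : ℚ)⁻¹)
      have h4 : (i + 1 : ℚ)⁻¹ • C (Q.coeff (i + 1) * ((i : A) + 1)) = C (Q.coeff (i + 1)) := by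
        rw [Polynomial.smul_C]
        congr 1
        rw [mul_comm, ← smul_mul_assoc]
        have h5 : (i + 1 : ℚ)⁻¹ • ((i : A) + 1) = 1 := by
          have h6 : ((i : A) + 1) = algebraMap ℚ A (i + 1 : ℚ) := by
            rw [map_add, map_natCast, map_one]
          rw [h6, Algebra.smul_def, ← map_mul, inv_mul_cancel₀ (by positivity), map_one]
        rw [h5, one_mul]
      rwa [h4] at h3
    have h2 : Q.divX ∈ B := by
      rw [Polynomial.as_sum_range_C_mul_X_pow Q.divX]
      refine B.sum_mem fun i _ => B.mul_mem ?_ (B.pow_mem hX i)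
      rw [Polynomial.coeff_divX]
      exact h1 i
    intro i
    cases i with
    | zero =>
      have h3 : C (Q.coeff 0) = Q - Q.divX * X := by
        rw [eq_sub_iff_add_eq, add_comm]
        exact Polynomial.divX_mul_X_add Q
      rw [h3]
      exact B.sub_mem hQ (B.mul_mem h2 hX)
    | succ i => exact h1 i

open Polynomial in
/-- For a commutative ℚ-algebra A, a ℚ-subalgebra B of the polynomial algebra A[X] that contains X and
is closed under d/dX consists exactly of the polynomials each of whose coefficients is the value at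
0 of some element of B; in other words B = ev(B)[X], with ev the evaluation at 0. -/
theorem result
    (A : Type u) [CommRing A] [Algebra ℚ A] (B : Subalgebra ℚ A[X])
    (hX : (X : A[X]) ∈ B) (hD : ∀ P ∈ B, Polynomial.derivative P ∈ B) (P : A[X]) :
    P ∈ B ↔ ∀ i : ℕ, ∃ Q ∈ B, Polynomial.eval 0 Q = P.coeff i := by
  constructor
  · intro hP i
    exact ⟨C (P.coeff i), aux A B hX hD P.natDegree P hP le_rfl i, by simp⟩
  · intro h
    rw [Polynomial.as_sum_range_C_mul_X_pow P]
    refine B.sum_mem fun i _ => B.mul_mem ?_ (B.pow_mem hX i)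
    obtain ⟨Q, hQ, hQi⟩ := h i
    have h1 := aux A B hX hD Q.natDegree Q hQ le_rfl 0
    rwa [Polynomial.coeff_zero_eq_eval_zero, hQi] at h1

end Groth.Agent.S16396
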