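import Groth.Statements.S16400
import Mathlib.LinearAlgebra.Basis.VectorSpace

set_option autoImplicit false
universe u v
open CAlgX

namespace Groth.Agent.S16400

open Matrix

section aux

variable {K : Type u} [Field K]

lemma mulVec_submatrix_ext {m n : Type v} [Fintype m] [Fintype n] [DecidableEq n]
    (A : Matrix m n K) (t : Finset n) (z : ↥t → K) :
    (A.submatrix id (Subtype.val : ↥t → n)).mulVec z =
      A.mulVec (fun j => if h : j ∈ t then z ⟨j, h⟩ else 0) := by
  ext i
  simp only [Matrix.mulVec, dotProduct, Matrix.submatrix_apply, id]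
  have h0 : ∑ j ∈ t, A i j * (if h : j ∈ t then z ⟨j, h⟩ else 0) =
      ∑ j, A i j * (if h : j ∈ t then z ⟨j, h⟩ else 0) :=
    Finset.sum_subset (Finset.subset_univ t)
      (fun j _ hj => by simp only [dif_neg hj, mul_zero])
  rw [← h0, ← Finset.sum_coe_sort t]
  apply Finset.sum_congr rfl
  intro j _
  rw [dif_pos j.2]

/-- Columns of a matrix: a finite set of columns which is a basis of the column space. -/
lemma exists_cols {m n : Type v} [Fintype m] [Fintype n] [DecidableEq n] (A : Matrix m n K) :
    ∃ t : Finset n, Function.Injective (A.submatrix id (Subtype.val : ↥t → n)).mulVecLin ∧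
      LinearMap.range (A.submatrix id (Subtype.val : ↥t → n)).mulVecLin =
        LinearMap.range A.mulVecLin := by
  classical
  obtain ⟨κ, a, ha, hspan, hind⟩ := exists_linearIndependent' K (fun j : n => A.col j)
  have : Finite κ := Finite.of_injective a ha
  have : Fintype κ := Fintype.ofFinite κ
  let t : Finset n := Finset.univ.image a
  let e : κ ≃ ↥t := Equiv.ofBijective (fun x => ⟨a x, Finset.mem_image_of_mem a (Finset.mem_univ x)⟩)
    ⟨fun x y h => ha (congrArg Subtype.val h), fun y => by
      obtain ⟨x, _, hx⟩ := Finset.mem_image.1 y.2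
      exact ⟨x, Subtype.ext hx⟩⟩
  have h2 : (fun j : n => A.col j) ∘ a = (A.submatrix id (Subtype.val : ↥t → n)).col ∘ e := rfl
  refine ⟨t, ?_, ?_⟩
  · have := (Matrix.mulVec_injective_iff (M := A.submatrix id (Subtype.val : ↥t → n))).2
    refine this ?_
    rw [h2] at hind
    exact (linearIndependent_equiv e).1 hind
  · rw [Matrix.range_mulVecLin, Matrix.range_mulVecLin]
    rw [h2, Set.range_comp, e.surjective.range_eq, Set.image_univ] at hspan
    exact hspan

lemma exists_inv {m n : Type v} [Fintype m] [Fintype n] [DecidableEq m] [DecidableEq n]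
    (A : Matrix m n K) (hA : Function.Bijective A.mulVecLin) :
    ∃ B : Matrix n m K, A * B = 1 ∧ B * A = 1 := by
  let e := LinearEquiv.ofBijective A.mulVecLin hA
  refine ⟨LinearMap.toMatrix' e.symm.toLinearMap, ?_, ?_⟩
  · apply Matrix.toLin'.injective
    rw [Matrix.toLin'_mul, Matrix.toLin'_toMatrix', Matrix.toLin'_one]
    exact LinearMap.ext fun x => e.apply_symm_apply x
  · apply Matrix.toLin'.injective
    rw [Matrix.toLin'_mul, Matrix.toLin'_toMatrix', Matrix.toLin'_one]
    exact LinearMap.ext fun x => e.symm_apply_apply x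

lemma exists_rows {m n : Type v} [Fintype m] [Fintype n] [DecidableEq m] [DecidableEq n]
    (A : Matrix m n K) (hA : Function.Injective A.mulVecLin) :
    ∃ s : Finset m, Function.Bijective (A.submatrix (Subtype.val : ↥s → m) id).mulVecLin := by
  obtain ⟨g, hg⟩ := LinearMap.exists_leftInverse_of_injective A.mulVecLin (LinearMap.ker_eq_bot.2 hA)
  have hGA : LinearMap.toMatrix' g * A = 1 := by
    apply Matrix.toLin'.injective
    rw [Matrix.toLin'_mul, Matrix.toLin'_toMatrix', Matrix.toLin'_one]
    exact hg
  have hsurj : Function.Surjective Aᵀ.mulVecLin := by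
    intro y
    refine ⟨(LinearMap.toMatrix' g)ᵀ.mulVec y, ?_⟩
    rw [Matrix.mulVecLin_apply, Matrix.mulVec_mulVec, ← Matrix.transpose_mul, hGA,
      Matrix.transpose_one, Matrix.one_mulVec]
  obtain ⟨s, hs1, hs2⟩ := exists_cols Aᵀ
  have hbij : Function.Bijective (Aᵀ.submatrix id (Subtype.val : ↥s → m)).mulVecLin :=
    ⟨hs1, LinearMap.range_eq_top.1 (by rw [hs2]; exact LinearMap.range_eq_top.2 hsurj)⟩
  obtain ⟨B, hB1, hB2⟩ := exists_inv _ hbij
  refine ⟨s, ?_⟩
  have h1 : (A.submatrix (Subtype.val : ↥s → m) id) * Bᵀ = 1 := by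
    have := congrArg Matrix.transpose hB2
    rwa [Matrix.transpose_mul, Matrix.transpose_one] at this
  have h2 : Bᵀ * (A.submatrix (Subtype.val : ↥s → m) id) = 1 := by
    have := congrArg Matrix.transpose hB1
    rwa [Matrix.transpose_mul, Matrix.transpose_one] at this
  refine Function.bijective_iff_has_inverse.2 ⟨Bᵀ.mulVec, fun x => ?_, fun x => ?_⟩
  · rw [Matrix.mulVecLin_apply, Matrix.mulVec_mulVec, h2, Matrix.one_mulVec]
  · rw [Matrix.mulVecLin_apply, Matrix.mulVec_mulVec, h1, Matrix.one_mulVec]

end aux

/-- Let K be a field, N a finite index set and A a square matrix over K indexed by N whose linear map on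
column vectors has kernel equal to its range (so A composed with A is zero and the three-term
sequence it defines is exact in the middle). Then there are subsets N₁₂, N₂₁, N₃₁ of N such that the
block of A with rows in N₃₁ and columns in N₂₁, and the block of A with rows outside N₂₁ and columns
in N₁₂, both act bijectively on column vectors. (In the original setting K is the prime field and
middle exactness is supplied by the Cartier isomorphism; here exactness is the hypothesis and K is
any field.) -/
theorem result
    {K : Type u} [Field K] {N : Type v} [Fintype N] [DecidableEq N]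
    (A : Matrix N N K)
    (hA : LinearMap.ker A.mulVecLin = LinearMap.range A.mulVecLin) :
    ∃ N₁₂ N₂₁ N₃₁ : Finset N,
      Function.Bijective (A.submatrix (Subtype.val : ↥N₃₁ → N) (Subtype.val : ↥N₂₁ → N)).mulVecLin ∧
      Function.Bijective
        (A.submatrix (Subtype.val : {x : N // x ∉ N₂₁} → N) (Subtype.val : ↥N₁₂ → N)).mulVecLin := by
  classical
  obtain ⟨t, ht1, ht2⟩ := exists_cols A
  obtain ⟨s, hs⟩ := exists_rows _ ht1
  have hsurj : Function.Surjective
      (A.submatrix (Subtype.val : {x : N // x ∉ t} → N) id).mulVecLin := by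
    intro y
    let y' : N → K := fun j => if h : j ∉ t then y ⟨j, h⟩ else 0
    have h1 : A.mulVecLin y' ∈ LinearMap.range (A.submatrix id (Subtype.val : ↥t → N)).mulVecLin := by
      rw [ht2]; exact ⟨y', rfl⟩
    obtain ⟨z, hz⟩ := h1
    rw [Matrix.mulVecLin_apply, mulVec_submatrix_ext, ← Matrix.mulVecLin_apply] at hz
    set z' : N → K := fun j => if h : j ∈ t then z ⟨j, h⟩ else 0 with hz'
    have h2 : y' - z' ∈ LinearMap.ker A.mulVecLin := by
      rw [LinearMap.mem_ker, map_sub, hz, sub_self]
    rw [hA] at h2
    obtain ⟨w, hw⟩ := h2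
    refine ⟨w, ?_⟩
    ext i
    have h3 := congrFun hw i.1
    have h4 : (A.submatrix (Subtype.val : {x : N // x ∉ t} → N) id).mulVecLin w i =
        A.mulVecLin w i.1 := rfl
    rw [h4, h3, Pi.sub_apply]
    simp only [y', hz']
    rw [dif_pos i.2, dif_neg i.2, sub_zero]
  obtain ⟨t', ht1', ht2'⟩ := exists_cols (A.submatrix (Subtype.val : {x : N // x ∉ t} → N) id)
  refine ⟨t', t, s, hs, ht1', LinearMap.range_eq_top.1 ?_⟩
  exact ht2'.trans (LinearMap.range_eq_top.2 hsurj)

end Groth.Agent.S16400
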