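import Groth.Statements.S16401
-- import your own Groth.Agent.* helpers here

set_option autoImplicit false
universe u v
open CAlgX

namespace Groth.Agent.S16401

/-- Let R be a commutative ring and (E_a), a ∈ ι, a family of additive subgroups of R indexed by an
additive commutative group ι, with E_0 = R and E_a · E_b ⊆ E_{a+b}. Let β, γ : Fin r → ι be weight
vectors with Σ_j β_j = Σ_i γ_i, and let ϑ be an r × r matrix over R with ϑ_{ij} ∈ E_{γ_i − β_j} for
all i, j and with unit determinant. Then a column vector u satisfies u_j ∈ E_{β_j} for every j if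
and only if (ϑ u)_i ∈ E_{γ_i} for every i; since ϑ is invertible this says that ϑ maps the box Π_j
E_{β_j} bijectively onto the box Π_i E_{γ_i}. -/
theorem result
    {R : Type u} [CommRing R] {ι : Type v} [AddCommGroup ι]
    (E : ι → AddSubgroup R) (h0 : E 0 = ⊤)
    (hmul : ∀ a b : ι, ∀ x ∈ E a, ∀ y ∈ E b, x * y ∈ E (a + b))
    {r : ℕ} (wβ wγ : Fin r → ι) (hsum : ∑ j, wβ j = ∑ i, wγ i)
    (ϑ : Matrix (Fin r) (Fin r) R) (hϑ : ∀ i j, ϑ i j ∈ E (wγ i - wβ j))
    (hdet : IsUnit ϑ.det) (u : Fin r → R) :
    (∀ j, u j ∈ E (wβ j)) ↔ ∀ i, ϑ.mulVec u i ∈ E (wγ i) := by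
  classical
  have hprod : ∀ (s : Finset (Fin r)) (x : Fin r → R) (w : Fin r → ι),
      (∀ k ∈ s, x k ∈ E (w k)) → ∏ k ∈ s, x k ∈ E (∑ k ∈ s, w k) := by
    intro s x w
    induction s using Finset.induction_on with
    | empty => intro _; simp [h0]
    | insert a s ha ih =>
      intro hx
      rw [Finset.prod_insert ha, Finset.sum_insert ha]
      exact hmul _ _ _ (hx a (Finset.mem_insert_self a s)) _
        (ih fun k hk => hx k (Finset.mem_insert_of_mem hk))
  have hdetE : ∀ (B : Matrix (Fin r) (Fin r) R) (w : Fin r → ι),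
      (∀ a k, B a k ∈ E (w a - wβ k)) → B.det ∈ E (∑ a, w a - ∑ k, wβ k) := by
    intro B w hB
    rw [Matrix.det_apply]
    refine AddSubgroup.sum_mem _ fun σ _ => ?_
    have h1 := hprod Finset.univ (fun k => B (σ k) k) (fun k => w (σ k) - wβ k)
      (fun k _ => hB _ _)
    rw [Finset.sum_sub_distrib, Equiv.sum_comp σ w] at h1
    rcases Int.units_eq_one_or (Equiv.Perm.sign σ) with h | h
    · rw [h, one_smul]; exact h1
    · rw [h, Units.neg_smul, one_smul]
      exact AddSubgroup.neg_mem _ h1
  have hsmul : ∀ (a : ι) (x y : R), y ∈ E a → x * y ∈ E a := by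
    intro a x y hy
    have := hmul 0 a x (by rw [h0]; trivial) y hy
    rwa [zero_add] at this
  constructor
  · intro hu i
    rw [Matrix.mulVec, dotProduct]
    refine AddSubgroup.sum_mem _ fun j _ => ?_
    have := hmul _ _ _ (hϑ i j) _ (hu j)
    rwa [sub_add_cancel] at this
  · intro hu j
    have hadj : ∀ i, ϑ.adjugate j i ∈ E (wβ j - wγ i) := by
      intro i
      rw [Matrix.adjugate_apply]
      have h2 := hdetE (ϑ.updateRow i (Pi.single j 1)) (Function.update wγ i (wβ j)) (by
        intro a k
        by_cases ha : a = i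
        · subst ha
          rw [Matrix.updateRow_self, Function.update_self]
          by_cases hk : k = j
          · subst hk
            rw [sub_self, h0]; trivial
          · rw [Pi.single_eq_of_ne hk]
            exact AddSubgroup.zero_mem _
        · rw [Matrix.updateRow_ne ha, Function.update_of_ne ha]
          exact hϑ a k)
      have h3 : ∑ a, Function.update wγ i (wβ j) a - ∑ k, wβ k = wβ j - wγ i := by
        rw [hsum, Finset.sum_update_of_mem (Finset.mem_univ i)]
        have h4 : ∑ a, wγ a = wγ i + ∑ a ∈ Finset.univ \ {i}, wγ a := by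
          rw [← Finset.add_sum_erase _ _ (Finset.mem_univ i), Finset.erase_eq]
        rw [h4]
        abel
      rwa [h3] at h2
    have h5 : ϑ.adjugate.mulVec (ϑ.mulVec u) = ϑ.det • u := by
      rw [Matrix.mulVec_mulVec, Matrix.adjugate_mul, Matrix.smul_mulVec, Matrix.one_mulVec]
    have h6 : ϑ.det * u j ∈ E (wβ j) := by
      have h7 := congrFun h5 j
      rw [Pi.smul_apply, smul_eq_mul] at h7
      rw [← h7, Matrix.mulVec, dotProduct]
      refine AddSubgroup.sum_mem _ fun i _ => ?_
      have := hmul _ _ _ (hadj i) _ (hu i)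
      rwa [sub_add_cancel] at this
    obtain ⟨v, hv⟩ := hdet
    have h8 : u j = (↑v⁻¹ : R) * (ϑ.det * u j) := by
      rw [← hv, ← mul_assoc, Units.inv_mul, one_mul]
    rw [h8]
    exact hsmul _ _ _ h6

end Groth.Agent.S16401
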