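import Groth.Statements.S16405
import Mathlib.Data.Finsupp.Basic

set_option autoImplicit false
universe u v
open InvQ

namespace Groth.Agent.S16405

/-- In weight form. Let b : L → ℤ^r be an injective homomorphism of abelian groups (the case in view: L
the character group of a maximal torus T of a semisimple group over ℂ and b the map dual to the
surjection of the rank-r split torus T' onto T that sends the i-th coordinate cocharacter to the
primitive generator of the i-th ray of the Weyl chamber; only the injectivity of b is used, and ℂ is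
replaced by any commutative ring k). Grade the monoid algebra k[L × ℕ^r] (the coordinate ring of T ×
𝔸^r) by ℤ^r, the monomial (w, n) having weight b(w) + n (the weights of the T'-action u·(t, v) =
(b^∨(u) t, u v)), and grade k[ℕ^r] by ℤ^r/b(L), the monomial n having weight the class of n (the
weights of the action on 𝔸^r of the diagonalizable kernel Z of T' → T, a finite group in the case in
view). For a diagonalizable group acting on an affine scheme the ring of invariants is the
weight-zero part, so the two weight-zero parts are the coordinate rings of the quotients (T ×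
𝔸^r)//T' and 𝔸^r//Z. The statement: the algebra map k[L × ℕ^r] → k[ℕ^r] induced by the projection L
× ℕ^r → ℕ^r (restriction to the slice 1 × 𝔸^r) maps the weight-zero part of k[L × ℕ^r] bijectively
onto the weight-zero part of k[ℕ^r]; hence it induces an isomorphism of k-algebras between them. -/
theorem result
    (k : Type u) [CommRing k] (r : ℕ) (L : Type v) [AddCommGroup L]
    (b : L →+ (Fin r → ℤ)) (hb : Function.Injective b) :
    Set.BijOn
      (AddMonoidAlgebra.mapDomainAlgHom k k (AddMonoidHom.snd L (Fin r → ℕ)))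
      (AddMonoidAlgebra.gradeBy k
        (b.comp (AddMonoidHom.fst L (Fin r → ℕ)) +
          (AddMonoidHom.compLeft (Nat.castAddMonoidHom ℤ) (Fin r)).comp (AddMonoidHom.snd L (Fin r → ℕ))) 0 :
        Set (AddMonoidAlgebra k (L × (Fin r → ℕ))))
      (AddMonoidAlgebra.gradeBy k
        ((QuotientAddGroup.mk' b.range).comp (AddMonoidHom.compLeft (Nat.castAddMonoidHom ℤ) (Fin r))) 0 :
        Set (AddMonoidAlgebra k (Fin r → ℕ))) := by
  classical
  set φ : L × (Fin r → ℕ) → (Fin r → ℤ) := fun p => b p.1 + fun i => (p.2 i : ℤ) with hφ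
  have hcoe : ∀ f : AddMonoidAlgebra k (L × (Fin r → ℕ)),
      (AddMonoidAlgebra.mapDomainAlgHom k k (AddMonoidHom.snd L (Fin r → ℕ)) f).coeff =
        Finsupp.mapDomain (Prod.snd : L × (Fin r → ℕ) → (Fin r → ℕ)) f.coeff := fun f => rfl
  have hzero : ∀ n : Fin r → ℕ,
      ((QuotientAddGroup.mk' b.range).comp
        (AddMonoidHom.compLeft (Nat.castAddMonoidHom ℤ) (Fin r))) n = 0 ↔
        ∃ w : L, b w + (fun i => (n i : ℤ)) = 0 := by
    intro n
    have h1 : ((QuotientAddGroup.mk' b.range).comp
        (AddMonoidHom.compLeft (Nat.castAddMonoidHom ℤ) (Fin r))) n =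
        (QuotientAddGroup.mk (fun i => (n i : ℤ)) : (Fin r → ℤ) ⧸ b.range) := rfl
    rw [h1, QuotientAddGroup.eq_zero_iff]
    constructor
    · rintro ⟨w, hw⟩
      refine ⟨-w, ?_⟩
      rw [map_neg, hw]
      simp
    · rintro ⟨w, hw⟩
      refine ⟨-w, ?_⟩
      rw [map_neg]
      exact (neg_eq_of_add_eq_zero_right hw)
  have hinj : Set.InjOn (Prod.snd : L × (Fin r → ℕ) → (Fin r → ℕ)) {p | φ p = 0} := by
    rintro ⟨w, n⟩ h1 ⟨w', n'⟩ h2 (h : n = n')
    subst h
    have h1' : b w + (fun i => (n i : ℤ)) = 0 := h1
    have h2' : b w' + (fun i => (n i : ℤ)) = 0 := h2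
    have : b w = b w' := add_right_cancel (h1'.trans h2'.symm)
    rw [hb this]
  refine ⟨?_, ?_, ?_⟩
  · intro f hf m hm
    have hm' : m ∈ (Finsupp.mapDomain (Prod.snd : L × (Fin r → ℕ) → (Fin r → ℕ)) f.coeff).support := hm
    obtain ⟨p, hp, rfl⟩ := Finset.mem_image.mp (Finsupp.mapDomain_support hm')
    exact (hzero p.2).2 ⟨p.1, hf p hp⟩
  · intro f hf g hg hfg
    have h1 : Finsupp.mapDomain (Prod.snd : L × (Fin r → ℕ) → (Fin r → ℕ)) f.coeff =
        Finsupp.mapDomain Prod.snd g.coeff := congrArg AddMonoidAlgebra.coeff hfg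
    have h2 := @Finsupp.mapDomain_injOn _ _ k _ {p | φ p = 0} _ hinj f.coeff
    exact AddMonoidAlgebra.coeff_injective (h2 (fun p hp => hf p hp) (fun p hp => hg p hp) h1)
  · intro g hg
    let s : (Fin r → ℕ) → L × (Fin r → ℕ) := fun n =>
      (if h : ∃ w : L, b w + (fun i => (n i : ℤ)) = 0 then h.choose else 0, n)
    refine ⟨⟨Finsupp.mapDomain s g.coeff⟩, ?_, ?_⟩
    · intro p hp
      obtain ⟨n, hn, rfl⟩ := Finset.mem_image.mp (Finsupp.mapDomain_support hp)
      have h := (hzero n).1 (hg n hn)
      change b (s n).1 + (fun i => ((s n).2 i : ℤ)) = 0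
      have e : (s n).1 = h.choose := dif_pos h
      rw [e]
      exact h.choose_spec
    · apply AddMonoidAlgebra.coeff_injective
      rw [hcoe, ← Finsupp.mapDomain_comp]
      exact Finsupp.mapDomain_id

end Groth.Agent.S16405
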