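import Groth.Statements.S16406
import Groth.Agent.PicF.K247.SmoothGI
import Groth.Agent.AlgGrp.K5.Cell
import Groth.Agent.S3907
import Groth.Agent.AlgGrp.K5.HomCrit
import Groth.Agent.AlgGrp.K5.CellSec
import Groth.Agent.AlgGrp.K5.FinClass
import Groth.Agent.AlgGrp.K5.PicTrans

set_option autoImplicit false
universe u
open CategoryTheory CategoryTheory.Limits MonoidalCategory CartesianMonoidalCategory MonObj GrpObj AlgebraicGeometry
open AlgGrp

namespace Groth.Agent.S16406

/-- For an algebraically closed field k of characteristic zero, let Y be a smooth, proper, connected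
k-scheme of positive dimension on which a smooth affine group scheme G of finite type over k (a
linear algebraic group) acts, transitively on k-points, and let L be an ample invertible module on Y
which generates the Picard group of Y (every invertible module is isomorphic to a tensor power of L
or is inverse to one). Then L is very ample over k: it is the pullback of O(1) along an immersion of
Y into a projective space over k. (Proper with an ample invertible module is the same as projective
here, so this is the projective case.) -/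
theorem result
    (k : Type u) [Field k] [IsAlgClosed k] [CharZero k]
    (Y : Scheme.{u}) (f : Y ⟶ Spec (CommRingCat.of k)) [Smooth f] [IsProper f]
    [ConnectedSpace Y] (hdim : 0 < topologicalKrullDim Y)
    (G : Over (Spec (CommRingCat.of k))) [GrpObj G] [IsAffine G.left] [LocallyOfFiniteType G.hom] [Smooth G.hom]
    (a : AlgGrp.Action G (Over.mk f))
    (htrans : ∀ y y' : 𝟙_ (Over (Spec (CommRingCat.of k))) ⟶ Over.mk f,
      ∃ g : 𝟙_ (Over (Spec (CommRingCat.of k))) ⟶ G, lift g y ≫ a.act = y')
    (L : Y.Modules) (hL : CohB1.IsAmple L)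
    (hgen : ∀ M : Y.Modules, PicF.IsInvertible M → ∃ n : ℕ,
      Nonempty (M ≅ CohB1.tensorPow L n) ∨
        Nonempty (CohB1.tensorMod M (CohB1.tensorPow L n) ≅ Coh.structureModule Y)) :
    RelAmple.IsRelVeryAmplePn f L := by
  have hYint : IsIntegral Y := K247.SmoothGI.isIntegral_of_smooth f
  have hYlft : LocallyOfFiniteType f := inferInstance
  have hJ : JacobsonSpace Y := LocallyOfFiniteType.jacobsonSpace f
  let YY : Over (Spec (CommRingCat.of k)) := Over.mk f
  have hYsm : Smooth YY.hom := inferInstanceAs (Smooth f)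
  have hYpr : IsProper YY.hom := inferInstanceAs (IsProper f)
  have hYint' : IsIntegral YY.left := hYint
  have hYred : IsReduced YY.left := inferInstance
  have hYirr : IrreducibleSpace YY.left := inferInstance
  obtain ⟨Q, gQ, b, hQ, hQaff, hQsm, hQconn, hbt⟩ := K5.RedQuot.exists_reductive (Y := YY) a htrans
  -- a closed point
  obtain ⟨v, hv⟩ : ∃ v : Y, IsClosed ({v} : Set Y) := by
    obtain ⟨x, -, hx⟩ := nonempty_inter_closedPoints (Z := (Set.univ : Set Y)) ⟨Classical.arbitrary Y, trivial⟩
      isClosed_univ.isLocallyClosed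
    exact ⟨x, hx⟩
  obtain ⟨o, ho⟩ := K5.Stab.exists_pt_eq YY v hv
  -- translations preserve `L`
  have hT : ∀ g : 𝟙_ (Over (Spec (CommRingCat.of k))) ⟶ Q,
      IsIso (X := Y) (Y := Y) (K5.Stab.tau b g).left ∧
        Nonempty ((Scheme.Modules.pullback (X := Y) (Y := Y) (K5.Stab.tau b g).left).obj L ≅ L) := by
    intro g
    have h1 : IsIso (X := Y) (Y := Y) (K5.Stab.tau b g).left :=
      inferInstanceAs (IsIso ((Over.forget _).map (K5.Stab.tau b g)))
    exact ⟨h1, K5.PicTrans.nonempty_pullback_iso f hL hdim hgen _⟩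
  have htr : ∀ x y : Y, IsClosed ({x} : Set Y) → IsClosed ({y} : Set Y) →
      ∃ t : Y ⟶ Y, IsIso t ∧ Nonempty ((Scheme.Modules.pullback t).obj L ≅ L) ∧ t x = y := by
    intro x y hx hy
    obtain ⟨x', hx'⟩ := K5.Stab.exists_pt_eq YY x hx
    obtain ⟨y', hy'⟩ := K5.Stab.exists_pt_eq YY y hy
    obtain ⟨g, hg⟩ := hbt x' y'
    refine ⟨(K5.Stab.tau b g).left, (hT g).1, (hT g).2, ?_⟩
    rw [← hx', ← hy', ← hg]
    exact K5.Stab.pt_tau b g x'
  -- a section whose nonvanishing locus is an affine space
  obtain ⟨V, hV, σ, φ, hoV, hφ⟩ := K5.Cell.exists_cell hQ b hbt o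
  obtain ⟨s₀, hs₀⟩ := K5.CellSec.exists_cell_section f hL hdim hgen V hV ⟨_, hoV⟩ φ hφ
  have hgg : ∀ x : Y, ∃ s : Coh.structureModule Y ⟶ L, x ∈ CohB1.genLocus L s := fun x =>
    K5.VACrit.globally_generated htr s₀ (v := K5.Stab.pt o) (by rw [hs₀]; exact hoV) x
  -- sections separate `v` from the other closed points
  obtain ⟨P, gP, i, hPo, hsq⟩ := K5.RedQuot.exists_parabolic_stab b hbt o
  have hp : Red.IsParabolic i := Groth.Agent.Sga3A.NormParab.isParabolic_of_over hPo
  obtain ⟨hPc, hN⟩ := Groth.Agent.S3907.result k Q P i hp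
  have hicl : IsClosedImmersion i.left := hp.2.1
  have hPaff : IsAffine P.left := isAffine_of_isAffineHom i.left
  have hPsm : Smooth P.hom := hp.2.2.1
  have hPred : IsReduced P.left := Groth.Agent.Books.AlgPtsSmooth.isReduced_of_smooth P
  have hfin := K5.VACrit.finite_rel f hL hgg hv
  have hrel : ∀ y : Y, IsClosed ({y} : Set Y) → K5.VACrit.Rel L v y → y = v := by
    intro y hy hvy
    obtain ⟨y', hy'⟩ := K5.Stab.exists_pt_eq YY y hy
    have h1 : y' = o := K5.Stab.eq_of_rel b o i hsq hicl hN (fun z => hbt o z) (K5.VACrit.Rel L)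
      (fun g x z hxz => by
        obtain ⟨h2, ⟨ψ⟩⟩ := hT g
        exact K5.VACrit.Rel.tr ψ hxz)
      (by rw [ho]; exact hfin) y' (by rw [ho, hy']; exact hvy)
    rw [← hy', ← ho, h1]
  exact K5.VACrit.isRelVeryAmplePn_of_homogeneous f hL htr s₀ (v₀ := K5.Stab.pt o)
    (by rw [hs₀]; exact hoV) hv hrel

end Groth.Agent.S16406
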