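import Groth.Statements.S16410
import Groth.Agent.W4c3perfectstacks.K885.MV2

set_option autoImplicit false
universe v u
open CategoryTheory CategoryTheory.Limits CategoryTheory.Pretriangulated
open W4c3perfectstacks W4c3perfectstacks.MVSq

namespace Groth.Agent.S16410

/-- Glueing along a Mayer–Vietoris square of triangulated categories (single-square form). Given N_U
over U, N' over X' and an isomorphism δ between the restriction of N' to U' and the pullback of N_U
to U', let N over X be the third vertex of a distinguished triangle N ⟶ j_* N_U ⊞ f_* N' ⟶ f_* j'_*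
g^* N_U ⟶ N⟦1⟧ whose middle map has components (unit of f at j_* N_U followed by f_* of the exchange
map f^* j_* N_U ⟶ j'_* g^* N_U) and (minus f_* of: unit of j' at N' followed by j'_* δ). Then the
maps j^* N ⟶ N_U and f^* N ⟶ N' adjoint to the two components of the first arrow are isomorphisms.
(Equivalently, the third vertex may be taken to be f_* f^* j_* N_U, identified with f_* j'_* g^* N_U
through the invertible exchange map; the four categories are taken in common universes.) -/
theorem result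
    (S S' R R' : Type u) [Category.{v} S] [Category.{v} S'] [Category.{v} R] [Category.{v} R']
    [Preadditive S] [Preadditive S'] [Preadditive R] [Preadditive R']
    [HasZeroObject S] [HasZeroObject S'] [HasZeroObject R] [HasZeroObject R']
    [HasShift S ℤ] [HasShift S' ℤ] [HasShift R ℤ] [HasShift R' ℤ]
    [∀ n : ℤ, (shiftFunctor S n).Additive] [∀ n : ℤ, (shiftFunctor S' n).Additive]
    [∀ n : ℤ, (shiftFunctor R n).Additive] [∀ n : ℤ, (shiftFunctor R' n).Additive]
    [Pretriangulated S] [Pretriangulated S'] [Pretriangulated R] [Pretriangulated R']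
    [IsTriangulated S] [IsTriangulated S'] [IsTriangulated R] [IsTriangulated R']
    (q : W4c3perfectstacks.MVSq S S' R R')
    [q.jst.CommShift ℤ] [q.fst.CommShift ℤ] [q.jpst.CommShift ℤ] [q.gst.CommShift ℤ]
    [q.jst.IsTriangulated] [q.fst.IsTriangulated] [q.jpst.IsTriangulated] [q.gst.IsTriangulated]
    (hq : q.IsMV) (NU : R) (N' : S') (δ : q.jpst.obj N' ≅ q.gst.obj NU) (N : S)
    (a : N ⟶ q.jls.obj NU ⊞ q.fls.obj N')
    (d : q.fls.obj (q.jpls.obj (q.gst.obj NU)) ⟶ N⟦(1 : ℤ)⟧)
    (hT : Triangle.mk a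
      (biprod.desc (q.adjF.unit.app (q.jls.obj NU) ≫ q.fls.map (q.bc2App NU))
        (-(q.fls.map (q.adjJp.unit.app N' ≫ q.jpls.map δ.hom)))) d ∈ distTriang S) :
    IsIso ((q.adjJ.homEquiv N NU).symm (a ≫ biprod.fst)) ∧
      IsIso ((q.adjF.homEquiv N N').symm (a ≫ biprod.snd)) := by
  have nF : ∀ {X Y : S} (f : X ⟶ Y), f ≫ q.adjF.unit.app Y = q.adjF.unit.app X ≫ q.fls.map (q.fst.map f) :=
    fun f => q.adjF.unit.naturality f
  -- the second leg
  set y : N' ⟶ q.jpls.obj (q.gst.obj NU) := q.adjJp.unit.app N' ≫ q.jpls.map δ.hom with hy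
  have hyiso : IsIso (q.jpst.map y) := by
    have := K885.MV.isIso_jpst_unit q hq N'
    rw [hy, Functor.map_comp]
    infer_instance
  -- first part
  have h1 : IsIso (q.jst.map (a ≫ biprod.fst)) := by
    rw [Functor.map_comp]
    apply K885.MV.isIso_compl₁ (K885.MV.mapT q.jst hT) (q.jst.map biprod.inl) (q.jst.map biprod.fst)
      (q.jst.map biprod.inr) (q.jst.map biprod.snd)
    · rw [← Functor.map_comp, biprod.inl_fst, CategoryTheory.Functor.map_id]
    · rw [← Functor.map_comp, biprod.inr_fst, Functor.map_zero]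
    · rw [← Functor.map_comp, ← Functor.map_comp, ← Functor.map_add, biprod.total,
        CategoryTheory.Functor.map_id]
    · rw [← Functor.map_comp, biprod.inr_desc, Functor.map_neg]
      have := K885.MV.isIso_jst_fls q hq y hyiso
      exact K885.MV.isIso_neg _
  constructor
  · rw [Adjunction.homEquiv_counit]
    have := hq.isIso_counitJ
    infer_instance
  -- second part
  have hu : (q.adjF.homEquiv N N').symm (a ≫ biprod.snd) =
    q.fst.map (a ≫ biprod.snd) ≫ q.adjF.counit.app N' := by rw [Adjunction.homEquiv_counit]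
  set u := (q.adjF.homEquiv N N').symm (a ≫ biprod.snd) with hudef
  -- compatibility
  have hcomp : (a ≫ biprod.fst) ≫ q.adjF.unit.app (q.jls.obj NU) ≫ q.fls.map (q.bc2App NU) =
      (a ≫ biprod.snd) ≫ q.fls.map y := by
    have h0 := K885.MV.tri_comp₁₂ hT
    have h2 : a ≫ biprod.desc (q.adjF.unit.app (q.jls.obj NU) ≫ q.fls.map (q.bc2App NU))
        (-(q.fls.map y)) = (a ≫ biprod.fst) ≫ q.adjF.unit.app (q.jls.obj NU) ≫ q.fls.map (q.bc2App NU)
          - (a ≫ biprod.snd) ≫ q.fls.map y := by
      conv_lhs => rw [← Category.comp_id a, ← biprod.total]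
      simp only [Preadditive.comp_add, Preadditive.add_comp, Category.assoc, biprod.inl_desc,
        biprod.inr_desc, Preadditive.comp_neg]
      abel
    rw [h2, sub_eq_zero] at h0
    exact h0
  have huy : u ≫ y = q.fst.map (a ≫ biprod.fst) ≫ q.bc2App NU := by
    apply (q.adjF.homEquiv N _).injective
    rw [Adjunction.homEquiv_unit, Adjunction.homEquiv_unit, q.fls.map_comp u y,
      q.fls.map_comp (q.fst.map (a ≫ biprod.fst)) (q.bc2App NU),
      ← Category.assoc, ← Category.assoc, ← nF, hudef, ← Adjunction.homEquiv_unit,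
      Equiv.apply_symm_apply, Category.assoc (a ≫ biprod.fst), hcomp]
  have huiso : IsIso (q.jpst.map u) := by
    have h3 : IsIso (q.jpst.map (u ≫ y)) := by
      have := K885.MV.isIso_jpst_fst q _ h1
      have := hq.isIso_bc2App NU
      rw [huy, Functor.map_comp]
      infer_instance
    rw [Functor.map_comp] at h3
    exact IsIso.of_isIso_comp_right _ (q.jpst.map y)
  -- orthogonality to `f_* j'_* _`
  have horth : ∀ K : S, IsZero (q.jst.obj K) → ∀ x : K ⟶ q.fls.obj (q.jpls.obj (q.gst.obj NU)), x = 0 := by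
    intro K hK x
    apply (q.adjF.homEquiv K _).symm.injective
    rw [K885.MV.hom_eq_zero_of_adj q.adjJp (K885.MV.isZero_jpst_fst q K hK)
      ((q.adjF.homEquiv K _).symm x)]
    exact (K885.MV.hom_eq_zero_of_adj q.adjJp (K885.MV.isZero_jpst_fst q K hK) _).symm
  have hinj : ∀ K : S, IsZero (q.jst.obj K) → ∀ x : K ⟶ N, x ≫ a ≫ biprod.snd = 0 → x = 0 := by
    intro K hK x hx
    have h4 : x ≫ a = 0 := by
      apply biprod.hom_ext
      · rw [Category.assoc, zero_comp]
        exact K885.MV.hom_eq_zero_of_adj q.adjJ hK _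
      · rw [Category.assoc, zero_comp, hx]
    obtain ⟨ψ, hψ⟩ := K885.MV.coy₁ hT ((shiftFunctor S (1 : ℤ)).map x) (by
      rw [← Functor.map_comp, h4, Functor.map_zero])
    rw [horth _ (K885.MV.isZero_map_shift q.jst K hK 1) ψ, zero_comp] at hψ
    exact (shiftFunctor S (1 : ℤ)).map_injective (by rw [hψ, Functor.map_zero])
  have hsurj : ∀ K : S, IsZero (q.jst.obj K) → ∀ z : K ⟶ q.fls.obj N', ∃ x : K ⟶ N,
      z = x ≫ a ≫ biprod.snd := by
    intro K hK z
    obtain ⟨x, hx⟩ := K885.MV.coy₂ hT (z ≫ biprod.inr) (horth K hK _)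
    refine ⟨x, ?_⟩
    rw [← Category.assoc, ← hx, Category.assoc, biprod.inr_snd, Category.comp_id]
  -- the same for `D` with `j'^* D = 0`
  have hD : ∀ D : S', IsZero (q.jpst.obj D) → ∀ z : D ⟶ N', ∃ x : D ⟶ q.fst.obj N, z = x ≫ u := by
    intro D hD z
    have := hq.isIso_counitF D hD
    obtain ⟨x, hx⟩ := hsurj (q.fls.obj D) (K885.MV.isZero_jst_fls q hq D hD) (q.fls.map z)
    refine ⟨inv (q.adjF.counit.app D) ≫ q.fst.map x, ?_⟩
    have h5 := q.adjF.counit.naturality z
    simp only [Functor.id_obj, Functor.id_map, Functor.comp_obj, Functor.comp_map] at h5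
    rw [← cancel_epi (q.adjF.counit.app D), ← h5, hx, Category.assoc, IsIso.hom_inv_id_assoc, hu,
      ← Category.assoc (q.fst.map x), ← Functor.map_comp]
  have hD' : ∀ D : S', IsZero (q.jpst.obj D) → ∀ x : D ⟶ q.fst.obj N, x ≫ u = 0 → x = 0 := by
    intro D hD x hx
    have := hq.isIso_counitF D hD
    obtain ⟨x', hx'⟩ := (K885.MV.map_bijective q hq (q.fls.obj D)
      (K885.MV.isZero_jst_fls q hq D hD) N).2 (q.adjF.counit.app D ≫ x)
    dsimp only at hx'
    have h6 : x' ≫ a ≫ biprod.snd = 0 := by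
      apply (q.adjF.homEquiv _ _).symm.injective
      rw [Adjunction.homEquiv_counit, Functor.map_comp, Category.assoc, ← hu, hx', Category.assoc, hx,
        comp_zero, Adjunction.homEquiv_counit, Functor.map_zero, zero_comp]
    rw [hinj _ (K885.MV.isZero_jst_fls q hq D hD) x' h6, Functor.map_zero] at hx'
    rw [← cancel_epi (q.adjF.counit.app D), ← hx', comp_zero]
  -- the cone
  obtain ⟨Z, z, w, hTZ⟩ := distinguished_cocone_triangle u
  have hZ : IsZero (q.jpst.obj Z) := Triangle.isZero₃_of_isIso₁ _ (K885.MV.mapT q.jpst hTZ) huiso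
  have hw : w = 0 := by
    obtain ⟨w', hw'⟩ := K885.MV.exists_unshift w
    have h7 := K885.MV.tri_comp₃₁ hTZ
    rw [hw', Category.assoc, ← Functor.map_comp, Preadditive.IsIso.comp_left_eq_zero] at h7
    have h8 : w' ≫ u = 0 := (shiftFunctor S' (1 : ℤ)).map_injective (by rw [h7, Functor.map_zero])
    rw [hw', hD' _ (K885.MV.isZero_map_shift q.jpst Z hZ (-1)) w' h8, Functor.map_zero, comp_zero]
  obtain ⟨t, ht⟩ := K885.MV.coy₃ hTZ (𝟙 Z) (by rw [hw, comp_zero])
  obtain ⟨t', ht'⟩ := hD Z hZ t
  have hZ0 : IsZero Z := by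
    rw [IsZero.iff_id_eq_zero, ht, ht', Category.assoc, K885.MV.tri_comp₁₂ hTZ, comp_zero]
  exact (Triangle.isZero₃_iff_isIso₁ _ hTZ).1 hZ0

end Groth.Agent.S16410
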