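import Groth.Statements.S16414
import Mathlib.Tactic

set_option autoImplicit false
open Dieud

namespace Groth.Agent.S16414

/-- Let μ be a rational number with 0 < μ ≤ 1 and i an integer, and put f(i,j) = max(−i−j, −j, 0) for
integers j. Then min over all integers j of f(i,j) + jμ exists and equals max(−iμ, 0). -/
theorem result (μ : ℚ) (hμ0 : 0 < μ) (hμ1 : μ ≤ 1) (i : ℤ) :
    IsLeast (Set.range fun j : ℤ => ((max (max (-i - j) (-j)) 0 : ℤ) : ℚ) + (j : ℚ) * μ)
      (max (-(i : ℚ) * μ) 0) := by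
  constructor
  · rcases le_total 0 i with hi | hi
    · refine ⟨0, ?_⟩
      have h1 : max (max (-i - 0) (-0)) 0 = (0 : ℤ) := by omega
      simp only [h1]
      have h2 : -(i : ℚ) * μ ≤ 0 := by
        have : (0 : ℚ) ≤ i := by exact_mod_cast hi
        nlinarith
      rw [max_eq_right h2]
      simp
    · refine ⟨-i, ?_⟩
      have h1 : max (max (-i - -i) (- -i)) 0 = (0 : ℤ) := by omega
      simp only [h1]
      have h2 : 0 ≤ -(i : ℚ) * μ := by
        have : (i : ℚ) ≤ 0 := by exact_mod_cast hi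
        nlinarith
      rw [max_eq_left h2]
      simp
  · rintro _ ⟨j, rfl⟩
    simp only
    set f : ℤ := max (max (-i - j) (-j)) 0 with hf
    have hf0 : 0 ≤ f := by omega
    have hf1 : -j ≤ f := by omega
    have hf2 : -i - j ≤ f := by omega
    have hf0' : (0 : ℚ) ≤ f := by exact_mod_cast hf0
    have hf1' : -(j : ℚ) ≤ f := by exact_mod_cast hf1
    have hf2' : -(i : ℚ) - j ≤ f := by exact_mod_cast hf2
    apply max_le
    · nlinarith [mul_le_mul_of_nonneg_left hf2' hμ0.le, mul_nonneg (sub_nonneg.2 hμ1) hf0']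
    · nlinarith [mul_le_mul_of_nonneg_left hf1' hμ0.le, mul_nonneg (sub_nonneg.2 hμ1) hf0']

end Groth.Agent.S16414
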