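import Groth.Statements.S16416
import Mathlib.Tactic
import Mathlib.LinearAlgebra.Span.Basic

set_option autoImplicit false
universe u v w
open Dieud

namespace Groth.Agent.S16416

/-- For a prime p and a perfect field k of characteristic p, write W = W(k) for the ring of Witt vectors
and σ for its Frobenius; let M and N be free W-modules of finite rank, each with additive maps F
(σ-semilinear) and V (with V(σ(a)m) = aV(m)) satisfying FV = VF = p, and H = Hom_W(M, N). On H the
operator F acts through h ↦ F ∘ h ∘ V, and V acts partially: V·h is the W-linear map h' with h'(V m)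
= V(h(m)) for all m, when it exists. Let H₁ be the largest W-submodule of H stable under both (it
contains every submodule stable under both). Then H₁ ∩ V·H = V·H₁: if y ∈ H and V·y exists and lies
in H₁, then y ∈ H₁, so that H₁/VH₁ → H/(H ∩ VH) is injective. (The published statement is for the
Cartier modules of two p-divisible formal groups over k, every slope of the first below every slope
of the second; only the structure just listed is used, so connectedness and the slope condition are
not assumed.) -/
theorem result
    (p : ℕ) [Fact p.Prime] (k : Type u) [Field k] [CharP k p] [PerfectRing k p]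
    (M : Type v) [AddCommGroup M] [Module (WittVector p k) M]
    [Module.Free (WittVector p k) M] [Module.Finite (WittVector p k) M]
    (N : Type w) [AddCommGroup N] [Module (WittVector p k) N]
    [Module.Free (WittVector p k) N] [Module.Finite (WittVector p k) N]
    (FM VM : M →+ M) (FN VN : N →+ N)
    (hFM : ∀ (a : WittVector p k) (m : M), FM (a • m) = WittVector.frobenius a • FM m)
    (hVM : ∀ (a : WittVector p k) (m : M), VM (WittVector.frobenius a • m) = a • VM m)
    (hFVM : ∀ m : M, FM (VM m) = (p : WittVector p k) • m)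
    (hVFM : ∀ m : M, VM (FM m) = (p : WittVector p k) • m)
    (hFN : ∀ (a : WittVector p k) (n : N), FN (a • n) = WittVector.frobenius a • FN n)
    (hVN : ∀ (a : WittVector p k) (n : N), VN (WittVector.frobenius a • n) = a • VN n)
    (hFVN : ∀ n : N, FN (VN n) = (p : WittVector p k) • n)
    (hVFN : ∀ n : N, VN (FN n) = (p : WittVector p k) • n)
    (H₁ : Submodule (WittVector p k) (M →ₗ[WittVector p k] N))
    (hF : ∀ h ∈ H₁, ∃ h' ∈ H₁, ∀ m : M, h' m = FN (h (VM m)))
    (hV : ∀ h ∈ H₁, ∃ h' ∈ H₁, ∀ m : M, h' (VM m) = VN (h m))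
    (hmax : ∀ S : Submodule (WittVector p k) (M →ₗ[WittVector p k] N),
      (∀ h ∈ S, ∃ h' ∈ S, ∀ m : M, h' m = FN (h (VM m))) →
      (∀ h ∈ S, ∃ h' ∈ S, ∀ m : M, h' (VM m) = VN (h m)) → S ≤ H₁)
    (y : M →ₗ[WittVector p k] N) (x : M →ₗ[WittVector p k] N) (hx : x ∈ H₁)
    (hxy : ∀ m : M, x (VM m) = VN (y m)) :
    y ∈ H₁ := by
  classical
  have hσ : Function.Bijective (WittVector.frobenius : WittVector p k →+* WittVector p k) :=
    WittVector.frobenius_bijective p k
  -- the operator `F` on `H`
  let Fop : (M →ₗ[WittVector p k] N) → (M →ₗ[WittVector p k] N) := fun h =>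
    { toFun := fun m => FN (h (VM m))
      map_add' := fun a b => by simp [map_add]
      map_smul' := fun a m => by
        obtain ⟨b, rfl⟩ := hσ.2 a
        rw [hVM, map_smul, hFN, RingHom.id_apply] }
  have hFop : ∀ h m, Fop h m = FN (h (VM m)) := fun h m => rfl
  let S : Submodule (WittVector p k) (M →ₗ[WittVector p k] N) :=
    H₁ ⊔ Submodule.span (WittVector p k) (Set.range fun n : ℕ => Fop^[n] y)
  -- `p • y ∈ H₁`
  have hpy : (p : WittVector p k) • y ∈ H₁ := by
    obtain ⟨h', hh', hh⟩ := hF x hx
    have : (p : WittVector p k) • y = h' := by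
      ext m
      rw [hh, hxy, hFVN]
      rfl
    rw [this]
    exact hh'
  have hFopH : ∀ h ∈ H₁, Fop h ∈ H₁ := by
    intro h hh
    obtain ⟨h', hh', hh2⟩ := hF h hh
    have : Fop h = h' := by
      ext m
      rw [hh2, hFop]
    rw [this]
    exact hh'
  have hFopadd : ∀ h h', Fop (h + h') = Fop h + Fop h' := by
    intro h h'
    ext m
    simp [hFop]
  have hFopsmul : ∀ (c : WittVector p k) h, Fop (c • h) = WittVector.frobenius c • Fop h := by
    intro c h
    ext m
    simp only [hFop, LinearMap.smul_apply]
    rw [hFN]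
  have hpF : ∀ n : ℕ, (p : WittVector p k) • (Fop^[n] y) ∈ H₁ := by
    intro n
    induction n with
    | zero => exact hpy
    | succ n ih =>
      have h1 := hFopH _ ih
      rw [hFopsmul, map_natCast] at h1
      rw [Function.iterate_succ_apply']
      exact h1
  -- `S` is stable under `F`
  let T : Submodule (WittVector p k) (M →ₗ[WittVector p k] N) :=
    { carrier := {h | Fop h ∈ S}
      add_mem' := fun {a b} ha hb => by
        simp only [Set.mem_setOf_eq, hFopadd] at *
        exact S.add_mem ha hb
      zero_mem' := by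
        have : Fop 0 = 0 := by ext m; simp [hFop]
        simp [this]
      smul_mem' := fun c h hh => by
        simp only [Set.mem_setOf_eq, hFopsmul] at *
        exact S.smul_mem _ hh }
  have hST : S ≤ T := by
    refine sup_le (fun h hh => ?_) (Submodule.span_le.2 ?_)
    · exact (le_sup_left : H₁ ≤ S) (hFopH h hh)
    · rintro _ ⟨n, rfl⟩
      change Fop (Fop^[n] y) ∈ S
      rw [← Function.iterate_succ_apply' Fop n y]
      exact (le_sup_right : _ ≤ S) (Submodule.subset_span ⟨n + 1, rfl⟩)
  -- `S` is stable under `V`
  let T' : Submodule (WittVector p k) (M →ₗ[WittVector p k] N) :=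
    { carrier := {h | ∃ h' ∈ H₁, ∀ m : M, h' (VM m) = VN (h m)}
      add_mem' := fun {a b} ha hb => by
        obtain ⟨a', ha', ha⟩ := ha
        obtain ⟨b', hb', hb⟩ := hb
        refine ⟨a' + b', H₁.add_mem ha' hb', fun m => ?_⟩
        rw [LinearMap.add_apply, ha, hb, LinearMap.add_apply, map_add]
      zero_mem' := ⟨0, H₁.zero_mem, fun m => by simp⟩
      smul_mem' := fun c h hh => by
        obtain ⟨h', hh', hh⟩ := hh
        obtain ⟨c, rfl⟩ := hσ.2 c
        refine ⟨c • h', H₁.smul_mem _ hh', fun m => ?_⟩
        rw [LinearMap.smul_apply, hh, LinearMap.smul_apply, hVN] }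
  have hST' : S ≤ T' := by
    refine sup_le (fun h hh => hV h hh) (Submodule.span_le.2 ?_)
    rintro _ ⟨n, rfl⟩
    cases n with
    | zero => exact ⟨x, hx, hxy⟩
    | succ n =>
      refine ⟨(p : WittVector p k) • (Fop^[n] y), hpF n, fun m => ?_⟩
      simp only [Function.iterate_succ_apply', hFop, hVFN, LinearMap.smul_apply]
  have hS : S ≤ H₁ := by
    apply hmax
    · intro h hh
      exact ⟨Fop h, hST hh, fun m => rfl⟩
    · intro h hh
      obtain ⟨h', hh', hh2⟩ := hST' hh
      exact ⟨h', (le_sup_left : H₁ ≤ S) hh', hh2⟩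
  exact hS ((le_sup_right : _ ≤ S) (Submodule.subset_span ⟨0, rfl⟩))

end Groth.Agent.S16416
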