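import Groth.Statements.S16417
import Groth.Agent.Dieud.K885.HomQuot
import Mathlib.RingTheory.WittVector.DiscreteValuationRing

set_option autoImplicit false
universe u v w
open Dieud

namespace Groth.Agent.S16417

/-- For a prime p and a perfect field k of characteristic p, write W = W(k) for the ring of Witt vectors
and σ for its Frobenius; let M and N be free W-modules of finite rank, each with additive maps F
(σ-semilinear) and V (with V(σ(a)m) = aV(m)) satisfying FV = VF = p, and H = Hom_W(M, N); write VM ⊆
M and VN ⊆ N for the images of V. (a) A W-linear h : M → N maps VM into VN if and only if h(V m) =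
V(h'(m)) for all m for some W-linear h' : M → N (so the maps with this property form H ∩ V·H). (b)
The natural map from H to the W-linear maps VM → N/VN has image exactly the maps vanishing on pM =
V(FM): every such map is induced by some h ∈ H. (c) The W-length of H/(H ∩ V·H) is r₂ s₁, where r₂
is the length of N/VN and s₁ = rank M − length(M/VM) is the length of VM/pM. (The published
statement is for the Cartier modules of two p-divisible formal groups over k, every slope of the
first below every slope of the second, and phrases (b), (c) as an isomorphism of H/(H ∩ VH) with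
Hom_k(VM/pM, N/VN); only the structure listed is used, so connectedness and the slope condition are
not assumed.) -/
theorem result
    (p : ℕ) [Fact p.Prime] (k : Type u) [Field k] [CharP k p] [PerfectRing k p]
    (M : Type v) [AddCommGroup M] [Module (WittVector p k) M]
    [Module.Free (WittVector p k) M] [Module.Finite (WittVector p k) M]
    (N : Type w) [AddCommGroup N] [Module (WittVector p k) N]
    [Module.Free (WittVector p k) N] [Module.Finite (WittVector p k) N]
    (FM VM : M →+ M) (FN VN : N →+ N)
    (hFM : ∀ (a : WittVector p k) (m : M), FM (a • m) = WittVector.frobenius a • FM m)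
    (hVM : ∀ (a : WittVector p k) (m : M), VM (WittVector.frobenius a • m) = a • VM m)
    (hFVM : ∀ m : M, FM (VM m) = (p : WittVector p k) • m)
    (hVFM : ∀ m : M, VM (FM m) = (p : WittVector p k) • m)
    (hFN : ∀ (a : WittVector p k) (n : N), FN (a • n) = WittVector.frobenius a • FN n)
    (hVN : ∀ (a : WittVector p k) (n : N), VN (WittVector.frobenius a • n) = a • VN n)
    (hFVN : ∀ n : N, FN (VN n) = (p : WittVector p k) • n)
    (hVFN : ∀ n : N, VN (FN n) = (p : WittVector p k) • n)
    (r₂ s₁ : ℕ)
    (hr₂ : Module.length (WittVector p k) (N ⧸ Submodule.span (WittVector p k) (Set.range VN)) = r₂)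
    (hs₁ : (Module.finrank (WittVector p k) M : ℕ∞) =
      Module.length (WittVector p k) (M ⧸ Submodule.span (WittVector p k) (Set.range VM)) + s₁) :
    (∀ h : M →ₗ[WittVector p k] N,
      (∀ m : M, h (VM m) ∈ Submodule.span (WittVector p k) (Set.range VN)) ↔
        ∃ h' : M →ₗ[WittVector p k] N, ∀ m : M, h (VM m) = VN (h' m)) ∧
    (∀ g : Submodule.span (WittVector p k) (Set.range VM) →ₗ[WittVector p k]
        N ⧸ Submodule.span (WittVector p k) (Set.range VN),
      (∀ m : M, g ⟨VM (FM m), Submodule.subset_span ⟨FM m, rfl⟩⟩ = 0) →
      ∃ h : M →ₗ[WittVector p k] N, ∀ x : Submodule.span (WittVector p k) (Set.range VM),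
        (Submodule.span (WittVector p k) (Set.range VN)).mkQ (h x) = g x) ∧
    Module.length (WittVector p k) ((M →ₗ[WittVector p k] N) ⧸
      ⨅ m : M, (Submodule.span (WittVector p k) (Set.range VN)).comap
        (LinearMap.applyₗ (VM m) : (M →ₗ[WittVector p k] N) →ₗ[WittVector p k] N)) = (r₂ * s₁ : ℕ) := by
  classical
  have hσ : Function.Bijective (WittVector.frobenius : WittVector p k →+* WittVector p k) :=
    WittVector.frobenius_bijective p k
  have hp0 : (p : WittVector p k) ≠ 0 := (WittVector.irreducible p (k := k)).ne_zero
  have hmax : (Ideal.span {(p : WittVector p k)} : Ideal (WittVector p k)).IsMaximal :=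
    PrincipalIdealRing.isMaximal_of_irreducible (WittVector.irreducible p)
  have hVinj : Function.Injective VN := by
    intro a b hab
    have h1 := congrArg FN hab
    rw [hFVN, hFVN] at h1
    exact smul_right_injective N hp0 h1
  have hspan : ∀ x : N, x ∈ Submodule.span (WittVector p k) (Set.range VN) → ∃ y, VN y = x := by
    intro x hx
    induction hx using Submodule.span_induction with
    | mem x hx => obtain ⟨y, rfl⟩ := hx; exact ⟨y, rfl⟩
    | zero => exact ⟨0, by simp⟩
    | add x y _ _ hx hy =>
      obtain ⟨x', rfl⟩ := hx
      obtain ⟨y', rfl⟩ := hy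
      exact ⟨x' + y', by simp⟩
    | smul a x _ hx =>
      obtain ⟨x', rfl⟩ := hx
      exact ⟨WittVector.frobenius a • x', by rw [hVN]⟩
  have hA : K885.HomQuot.pM (p : WittVector p k) M ≤ Submodule.span (WittVector p k) (Set.range VM) := by
    rintro _ ⟨y, rfl⟩
    refine Submodule.subset_span ⟨FM y, ?_⟩
    rw [hVFM]
    rfl
  have hB : K885.HomQuot.pM (p : WittVector p k) N ≤ Submodule.span (WittVector p k) (Set.range VN) := by
    rintro _ ⟨y, rfl⟩
    refine Submodule.subset_span ⟨FN y, ?_⟩
    rw [hVFN]
    rfl
  refine ⟨?_, ?_, ?_⟩
  · intro h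
    constructor
    · intro hh
      choose h' hh' using fun m => hspan _ (hh m)
      refine ⟨{ toFun := h'
                map_add' := fun a b => ?_
                map_smul' := fun a m => ?_ }, fun m => (hh' m).symm⟩
      · apply hVinj
        rw [map_add, hh', hh', hh', map_add, map_add]
      · obtain ⟨a, rfl⟩ := hσ.2 a
        apply hVinj
        rw [RingHom.id_apply, hVN, hh', hh', hVM, map_smul]
    · rintro ⟨h', hh'⟩ m
      rw [hh']
      exact Submodule.subset_span ⟨_, rfl⟩
  · intro g hg
    obtain ⟨h, hh⟩ := K885.HomQuot.exists_extension (p : WittVector p k)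
      (Submodule.span (WittVector p k) (Set.range VM)) (Submodule.span (WittVector p k) (Set.range VN)) g
      (by
        rintro ⟨x, hx⟩ ⟨y, hy⟩
        have h1 := hg y
        have h2 : x = VM (FM y) := by rw [hVFM]; exact hy.symm
        subst h2
        exact h1)
    exact ⟨h, fun x => LinearMap.congr_fun hh x⟩
  · have hker : (⨅ m : M, (Submodule.span (WittVector p k) (Set.range VN)).comap
        (LinearMap.applyₗ (VM m) : (M →ₗ[WittVector p k] N) →ₗ[WittVector p k] N)) =
        LinearMap.ker (K885.HomQuot.Phi (Submodule.span (WittVector p k) (Set.range VM))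
          (Submodule.span (WittVector p k) (Set.range VN))) := by
      ext h
      rw [Submodule.mem_iInf, LinearMap.mem_ker]
      constructor
      · intro hh
        have h1 : Submodule.span (WittVector p k) (Set.range VM) ≤
            (Submodule.span (WittVector p k) (Set.range VN)).comap h := by
          rw [Submodule.span_le]
          rintro _ ⟨m, rfl⟩
          exact hh m
        ext x
        exact (Submodule.Quotient.mk_eq_zero _).2 (h1 x.2)
      · intro hh m
        have h1 := LinearMap.congr_fun hh ⟨VM m, Submodule.subset_span ⟨m, rfl⟩⟩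
        have h2 : h (VM m) ∈ Submodule.span (WittVector p k) (Set.range VN) :=
          (Submodule.Quotient.mk_eq_zero _).1 h1
        exact h2
    rw [hker, K885.HomQuot.length_quot_hom (p : WittVector p k) _ _ hA hB s₁ hs₁, hr₂]
    push_cast
    rfl

end Groth.Agent.S16417
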