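import Groth.Statements.S16418
import Mathlib.Tactic
import Mathlib.RingTheory.WittVector.DiscreteValuationRing
import Mathlib.RingTheory.Noetherian.Basic

set_option autoImplicit false
universe u v
open Dieud

namespace Groth.Agent.S16418

/-- Step of the proof: for a prime p and a perfect field k of characteristic p, write W = W(k) and σ for
its Frobenius; let M be a W-module with additive maps F (σ-semilinear) and V (with V(σ(a)m) = aV(m))
such that FV = VF = p, V is injective, ⋂_n V^n M = 0 and M/VM is finitely generated over W. Put M₁ =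
{x ∈ M : for every n there is m with V^m x ∈ F^n M} and M₂ = {x ∈ M : F^n x = 0 for some n}. Then M₂
is killed by a single power of F, and F is injective on M₁. (The published text makes these
assertions inside a proof, for the V-reduced Cartier module of a connected smooth formal group of
finite dimension over k; only the listed structure is used, and V-adic completeness is not needed.) -/
theorem result
    (p : ℕ) [Fact p.Prime] (k : Type u) [Field k] [CharP k p] [PerfectRing k p]
    (M : Type v) [AddCommGroup M] [Module (WittVector p k) M]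
    (F V : M →+ M)
    (hF : ∀ (a : WittVector p k) (m : M), F (a • m) = WittVector.frobenius a • F m)
    (hV : ∀ (a : WittVector p k) (m : M), V (WittVector.frobenius a • m) = a • V m)
    (hFV : ∀ m : M, F (V m) = (p : WittVector p k) • m)
    (hVF : ∀ m : M, V (F m) = (p : WittVector p k) • m)
    (hVinj : Function.Injective V)
    (hsep : ∀ x : M, (∀ n : ℕ, ∃ y : M, x = (⇑V)^[n] y) → x = 0)
    (hfin : Module.Finite (WittVector p k) (M ⧸ Submodule.span (WittVector p k) (Set.range V))) :
    (∃ c : ℕ, ∀ x : M, (∃ n : ℕ, (⇑F)^[n] x = 0) → (⇑F)^[c] x = 0) ∧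
    (∀ x : M, (∀ n : ℕ, ∃ (m : ℕ) (y : M), (⇑V)^[m] x = (⇑F)^[n] y) → F x = 0 → x = 0) := by
  classical
  have hσ : Function.Bijective (WittVector.frobenius : WittVector p k →+* WittVector p k) :=
    WittVector.frobenius_bijective p k
  have hcomm : ∀ m : M, F (V m) = V (F m) := fun m => by rw [hFV, hVF]
  have hcommn : ∀ (n : ℕ) (m : M), (⇑F)^[n] (V m) = V ((⇑F)^[n] m) := by
    intro n
    induction n with
    | zero => intro m; rfl
    | succ n ih => intro m; rw [Function.iterate_succ_apply, hcomm, ih, Function.iterate_succ_apply]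
  have hcommn' : ∀ (n : ℕ) (m : M), (⇑V)^[n] (F m) = F ((⇑V)^[n] m) := by
    intro n
    induction n with
    | zero => intro m; rfl
    | succ n ih => intro m; rw [Function.iterate_succ_apply, ← hcomm, ih, Function.iterate_succ_apply]
  have hFsmul : ∀ (n : ℕ) (a : WittVector p k) (m : M),
      (⇑F)^[n] (a • m) = (⇑(WittVector.frobenius : WittVector p k →+* WittVector p k))^[n] a • (⇑F)^[n] m := by
    intro n
    induction n with
    | zero => intro a m; rfl
    | succ n ih =>
      intro a m
      rw [Function.iterate_succ_apply, hF, ih, Function.iterate_succ_apply, Function.iterate_succ_apply]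
  have hFadd : ∀ (n : ℕ) (a b : M), (⇑F)^[n] (a + b) = (⇑F)^[n] a + (⇑F)^[n] b := by
    intro n a b
    exact iterate_map_add F n a b
  have hF0 : ∀ n : ℕ, (⇑F)^[n] 0 = 0 := fun n => iterate_map_zero F n
  have hmono : ∀ (n n' : ℕ), n ≤ n' → ∀ x : M, (⇑F)^[n] x = 0 → (⇑F)^[n'] x = 0 := by
    intro n n' h x hx
    obtain ⟨d, rfl⟩ := Nat.exists_eq_add_of_le' h
    rw [Function.iterate_add_apply, hx, hF0]
  -- kernels of iterates
  let K : ℕ → Submodule (WittVector p k) M := fun n =>
    { carrier := {x | (⇑F)^[n] x = 0}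
      add_mem' := fun {a b} ha hb => by
        simp only [Set.mem_setOf_eq] at *
        rw [hFadd, ha, hb, add_zero]
      zero_mem' := hF0 n
      smul_mem' := fun c x hx => by
        simp only [Set.mem_setOf_eq] at *
        rw [hFsmul, hx, smul_zero] }
  let M₂ : Submodule (WittVector p k) M :=
    { carrier := {x | ∃ n : ℕ, (⇑F)^[n] x = 0}
      add_mem' := fun {a b} ha hb => by
        obtain ⟨n, hn⟩ := ha
        obtain ⟨n', hn'⟩ := hb
        exact ⟨max n n', by
          rw [hFadd, hmono n _ (le_max_left _ _) _ hn, hmono n' _ (le_max_right _ _) _ hn', add_zero]⟩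
      zero_mem' := ⟨0, rfl⟩
      smul_mem' := fun c x hx => by
        obtain ⟨n, hn⟩ := hx
        exact ⟨n, by rw [hFsmul, hn, smul_zero]⟩ }
  have hKM : ∀ n, K n ≤ M₂ := fun n x hx => ⟨n, hx⟩
  have hKmono : ∀ n n', n ≤ n' → K n ≤ K n' := fun n n' h x hx => hmono n n' h x hx
  have hspan : ∀ x : M, x ∈ Submodule.span (WittVector p k) (Set.range V) → ∃ y, x = V y := by
    intro x hx
    induction hx using Submodule.span_induction with
    | mem x hx => obtain ⟨y, rfl⟩ := hx; exact ⟨y, rfl⟩
    | zero => exact ⟨0, by simp⟩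
    | add x y _ _ hx hy =>
      obtain ⟨x', rfl⟩ := hx
      obtain ⟨y', rfl⟩ := hy
      exact ⟨x' + y', by simp⟩
    | smul a x _ hx =>
      obtain ⟨x', rfl⟩ := hx
      exact ⟨WittVector.frobenius a • x', by rw [hV]⟩
  have h1 : ∃ c : ℕ, ∀ x : M, (∃ n : ℕ, (⇑F)^[n] x = 0) → (⇑F)^[c] x = 0 := by
    let Q := M ⧸ Submodule.span (WittVector p k) (Set.range V)
    let π : M →ₗ[WittVector p k] Q := (Submodule.span (WittVector p k) (Set.range V)).mkQ
    have hnoeth : IsNoetherian (WittVector p k) Q := isNoetherian_of_isNoetherianRing_of_finite _ _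
    obtain ⟨s, hs⟩ := IsNoetherian.noetherian (M₂.map π)
    have hs' : ∀ q ∈ s, ∃ n : ℕ, q ∈ (K n).map π := by
      intro q hq
      have : q ∈ M₂.map π := by rw [← hs]; exact Submodule.subset_span hq
      obtain ⟨x, ⟨n, hn⟩, rfl⟩ := this
      exact ⟨n, x, hn, rfl⟩
    choose! f hf using hs'
    let c := s.sup f
    have hc : M₂.map π ≤ (K c).map π := by
      rw [← hs, Submodule.span_le]
      intro q hq
      exact Submodule.map_mono (hKmono _ _ (Finset.le_sup (f := f) hq)) (hf q hq)
    refine ⟨c, ?_⟩
    have key : ∀ n : ℕ, ∀ x ∈ M₂, ∃ y ∈ M₂, (⇑F)^[c] x = (⇑V)^[n] ((⇑F)^[c] y) := by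
      intro n
      induction n with
      | zero => intro x hx; exact ⟨x, hx, rfl⟩
      | succ n ih =>
        intro x hx
        obtain ⟨y, hy, hxy⟩ := ih x hx
        obtain ⟨z, hz, hzy⟩ := hc (Submodule.mem_map_of_mem hy)
        have hyz : y - z ∈ Submodule.span (WittVector p k) (Set.range V) := by
          rw [← Submodule.Quotient.mk_eq_zero, Submodule.Quotient.mk_sub, sub_eq_zero]
          exact hzy.symm
        obtain ⟨y', hy'⟩ := hspan _ hyz
        have h2 : V y' ∈ M₂ := by
          rw [← hy']
          exact M₂.sub_mem hy (hKM _ hz)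
        have h3 : y' ∈ M₂ := by
          obtain ⟨n', hn'⟩ := h2
          refine ⟨n', ?_⟩
          rw [hcommn] at hn'
          apply hVinj
          rw [hn', map_zero]
        refine ⟨y', h3, ?_⟩
        have h4 : y = z + V y' := by rw [← hy']; abel
        rw [hxy, h4, hFadd, show (⇑F)^[c] z = 0 from hz, zero_add, hcommn,
          ← Function.iterate_succ_apply]
    intro x hx
    apply hsep
    intro n
    obtain ⟨y, _, hy⟩ := key n x hx
    exact ⟨_, hy⟩
  refine ⟨h1, ?_⟩
  obtain ⟨c, hc⟩ := h1
  intro x hx hFx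
  obtain ⟨m, y, hy⟩ := hx c
  have h2 : (⇑F)^[c + 1] y = 0 := by
    rw [Function.iterate_succ_apply', ← hy, ← hcommn', hFx]
    exact iterate_map_zero V m
  have h3 : (⇑F)^[c] y = 0 := hc y ⟨_, h2⟩
  rw [h3] at hy
  have h4 : Function.Injective ((⇑V)^[m]) := hVinj.iterate m
  apply h4
  rw [hy]
  exact (iterate_map_zero V m).symm

end Groth.Agent.S16418
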