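import Groth.Statements.S16421
import Groth.Agent.FrobAlg.K675.PerfColim

set_option autoImplicit false
universe u
open FrobAlg

namespace Groth.Agent.S16421

open K675.PerfColim in
/-- Let p be a prime and R a commutative ring of characteristic p with a p-basis (x_i), meaning that the
monomials ∏ x_i^(e i) with every exponent e i < p form a basis of R as a module over itself through
the Frobenius, i.e. the map sending a finitely supported family of coefficients c to ∑_e (c e)^p · ∏
x_i^(e i) is a bijection onto R. Then the canonical ring map from R to its perfect closure is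
faithfully flat. -/
theorem result (p : ℕ) [Fact p.Prime]
    (R : Type u) [CommRing R] [CharP R p] (ι : Type u) (x : ι → R)
    (hx : Function.Bijective
      (fun c : {e : ι →₀ ℕ // ∀ i, e i < p} →₀ R =>
        c.sum (fun e r => r ^ p * e.1.prod (fun i n => x i ^ n)))) :
    (PerfectClosure.of R p).FaithfullyFlat := by
  let L : ({e : ι →₀ ℕ // ∀ i, e i < p} →₀ R) →ₗ[R] Rn p R 1 :=
    Finsupp.linearCombination R (fun e => toRn p R 1 (e.1.prod (fun i n => x i ^ n)))
  have hL : ∀ c, L c = toRn p R 1 (c.sum (fun e r => r ^ p * e.1.prod (fun i n => x i ^ n))) := by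
    intro c
    rw [Finsupp.linearCombination_apply, Finsupp.sum, Finsupp.sum, map_sum]
    refine Finset.sum_congr rfl fun e _ => ?_
    rw [smul_rn, ← map_mul, pow_one]
  have hbij : Function.Bijective L := by
    have h1 : (L : _ → _) = (toRn p R 1) ∘ (fun c : {e : ι →₀ ℕ // ∀ i, e i < p} →₀ R =>
        c.sum (fun e r => r ^ p * e.1.prod (fun i n => x i ^ n))) := funext hL
    rw [h1]
    exact (toRn p R 1).bijective.comp hx
  have : Module.Free R (Rn p R 1) := Module.Free.of_equiv (LinearEquiv.ofBijective L hbij)
  exact faithfullyFlat_of p R (frobenius_flat_of_rn p R)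

end Groth.Agent.S16421
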