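import Groth.Statements.S16422
import Mathlib.Tactic
import Mathlib.Algebra.DirectSum.Decomposition
import Mathlib.LinearAlgebra.Finsupp.LinearCombination

set_option autoImplicit false
universe u
open GrMod

namespace Groth.Agent.S16422

/-- Let S be a commutative ring graded by ℤ with pieces 𝒜 n, and V a decreasing sequence of homogeneous
ideals for which S is graded-complete, i.e. for each degree n the map from 𝒜 n to the inverse limit
of the quotients 𝒜 n / (𝒜 n ∩ V m) is bijective (stated as: a degree-n element in every V m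
vanishes, and every sequence in 𝒜 n whose consecutive differences lie in the V m has a limit in 𝒜
n). Then every graded S-module M which is finitely generated and projective as an S-module is
graded-complete in the same sense for the submodules V m · M: for each n the map from ℳ n to the
inverse limit of ℳ n / (ℳ n ∩ V m · M) is bijective. -/
theorem result
    (S : Type u) [CommRing S] (𝒜 : ℤ → AddSubgroup S) [GradedRing 𝒜]
    (V : ℕ → HomogeneousIdeal 𝒜) (hV : ∀ m, (V (m + 1)).toIdeal ≤ (V m).toIdeal)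
    (hsep : ∀ (n : ℤ) (s : S), s ∈ 𝒜 n → (∀ m, s ∈ (V m).toIdeal) → s = 0)
    (hcpl : ∀ (n : ℤ) (f : ℕ → S), (∀ m, f m ∈ 𝒜 n) →
      (∀ m, f (m + 1) - f m ∈ (V m).toIdeal) → ∃ s ∈ 𝒜 n, ∀ m, s - f m ∈ (V m).toIdeal)
    (M : Type u) [AddCommGroup M] [Module S M] (ℳ : ℤ → AddSubgroup M)
    [DirectSum.Decomposition ℳ] [SetLike.GradedSMul 𝒜 ℳ]
    [Module.Finite S M] [Module.Projective S M] :
    (∀ (n : ℤ) (x : M), x ∈ ℳ n → (∀ m, x ∈ (V m).toIdeal • (⊤ : Submodule S M)) → x = 0) ∧
    (∀ (n : ℤ) (g : ℕ → M), (∀ m, g m ∈ ℳ n) →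
      (∀ m, g (m + 1) - g m ∈ (V m).toIdeal • (⊤ : Submodule S M)) →
      ∃ x ∈ ℳ n, ∀ m, x - g m ∈ (V m).toIdeal • (⊤ : Submodule S M)) := by
  classical
  -- homogeneous components of a multiple of a homogeneous element
  have hdec : ∀ (d n : ℤ) (m : M) (_ : m ∈ ℳ d) (a : S),
      ((DirectSum.decompose ℳ (a • m) n : ℳ n) : M) =
        ((DirectSum.decompose 𝒜 a (n - d) : 𝒜 (n - d)) : S) • m := by
    intro d n m hm a
    conv_lhs => rw [← DirectSum.sum_support_decompose 𝒜 a, Finset.sum_smul, DirectSum.decompose_sum]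
    rw [DFinsupp.finsetSum_apply, AddSubgroup.val_finsetSum]
    have hi : ∀ i : ℤ, ((DirectSum.decompose 𝒜 a i : 𝒜 i) : S) • m ∈ ℳ (i + d) := fun i => by
      have h1 := SetLike.GradedSMul.smul_mem (A := 𝒜) (B := ℳ)
        (SetLike.coe_mem (DirectSum.decompose 𝒜 a i : 𝒜 i)) hm
      rwa [vadd_eq_add] at h1
    rw [Finset.sum_eq_single (n - d)]
    · have h1 := hi (n - d)
      rw [sub_add_cancel] at h1
      exact DirectSum.decompose_of_mem_same ℳ h1
    · intro i _ hne
      exact DirectSum.decompose_of_mem_ne ℳ (hi i) (by omega)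
    · intro h0
      rw [DFinsupp.notMem_support_iff] at h0
      rw [h0]
      simp
  -- homogeneous generators
  obtain ⟨s, hs⟩ := (Module.Finite.fg_top : (⊤ : Submodule S M).FG)
  let ι := Σ x : s, {i : ℤ // i ∈ (DirectSum.decompose ℳ (x : M)).support}
  let deg : ι → ℤ := fun i => i.2
  let gen : ι → M := fun i => ((DirectSum.decompose ℳ (i.1 : M) (i.2 : ℤ) : ℳ (i.2 : ℤ)) : M)
  have hgen : ∀ i, gen i ∈ ℳ (deg i) := fun i => SetLike.coe_mem _
  have hspan : Submodule.span S (Set.range gen) = ⊤ := by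
    rw [eq_top_iff, ← hs, Submodule.span_le]
    intro x hx
    rw [SetLike.mem_coe, ← DirectSum.sum_support_decompose ℳ x]
    refine Submodule.sum_mem _ fun i hi => ?_
    exact Submodule.subset_span ⟨⟨⟨x, hx⟩, ⟨i, hi⟩⟩, rfl⟩
  let π : (ι → S) →ₗ[S] M := Fintype.linearCombination S gen
  have hπ : Function.Surjective π := by
    rw [← LinearMap.range_eq_top, Fintype.range_linearCombination, hspan]
  obtain ⟨σ, hσ⟩ := Module.projective_lifting_property π (LinearMap.id : M →ₗ[S] M) hπ
  have hσ' : ∀ x : M, ∑ j, σ x j • gen j = x := by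
    intro x
    have := LinearMap.congr_fun hσ x
    simpa [π, Fintype.linearCombination_apply] using this
  let φ : (n : ℤ) → M → ι → S := fun n x j =>
    ((DirectSum.decompose 𝒜 (σ x j) (n - deg j) : 𝒜 (n - deg j)) : S)
  have hφmem : ∀ n x j, φ n x j ∈ 𝒜 (n - deg j) := fun n x j => SetLike.coe_mem _
  have hφsum : ∀ n x, x ∈ ℳ n → ∑ j, φ n x j • gen j = x := by
    intro n x hx
    have h1 : ((DirectSum.decompose ℳ (∑ j, σ x j • gen j) n : ℳ n) : M) = ∑ j, φ n x j • gen j := by
      rw [DirectSum.decompose_sum, DFinsupp.finsetSum_apply, AddSubgroup.val_finsetSum]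
      exact Finset.sum_congr rfl fun j _ => hdec _ _ _ (hgen j) _
    rw [← h1, hσ', DirectSum.decompose_of_mem_same ℳ hx]
  have hφsub : ∀ n x y j, φ n (x - y) j = φ n x j - φ n y j := by
    intro n x y j
    have h1 : DirectSum.decompose 𝒜 (σ (x - y) j) =
        DirectSum.decompose 𝒜 (σ x j) - DirectSum.decompose 𝒜 (σ y j) := by
      rw [map_sub, Pi.sub_apply, DirectSum.decompose_sub]
    change ((DirectSum.decompose 𝒜 (σ (x - y) j) (n - deg j) : 𝒜 (n - deg j)) : S) = _
    rw [h1, DirectSum.sub_apply]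
    rfl
  have hφV : ∀ (m : ℕ) (n : ℤ) (x : M), x ∈ (V m).toIdeal • (⊤ : Submodule S M) → ∀ j,
      φ n x j ∈ (V m).toIdeal := by
    intro m n x hx j
    have h1 : σ x j ∈ (V m).toIdeal := by
      refine Submodule.smul_induction_on hx (fun r hr y _ => ?_) (fun y z hy hz => ?_)
      · rw [map_smul, Pi.smul_apply]
        exact Ideal.mul_mem_right _ _ hr
      · rw [map_add, Pi.add_apply]
        exact Ideal.add_mem _ hy hz
    exact (V m).isHomogeneous _ h1
  refine ⟨?_, ?_⟩
  · intro n x hx hxV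
    rw [← hφsum n x hx]
    refine Finset.sum_eq_zero fun j _ => ?_
    rw [hsep _ _ (hφmem n x j) (fun m => hφV m n x (hxV m) j), zero_smul]
  · intro n g hg hgV
    have h1 : ∀ j, ∃ s ∈ 𝒜 (n - deg j), ∀ m, s - φ n (g m) j ∈ (V m).toIdeal := by
      intro j
      apply hcpl
      · exact fun m => hφmem n (g m) j
      · intro m
        rw [← hφsub]
        exact hφV m n _ (hgV m) j
    choose t ht htV using h1
    refine ⟨∑ j, t j • gen j, ?_, ?_⟩
    · refine AddSubgroup.sum_mem _ fun j _ => ?_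
      have := SetLike.GradedSMul.smul_mem (ht j) (hgen j)
      rwa [vadd_eq_add, sub_add_cancel] at this
    · intro m
      have h2 : ∑ j, t j • gen j - g m = ∑ j, (t j - φ n (g m) j) • gen j := by
        conv_lhs => rw [← hφsum n (g m) (hg m)]
        rw [← Finset.sum_sub_distrib]
        exact Finset.sum_congr rfl fun j _ => (sub_smul _ _ _).symm
      rw [h2]
      exact Submodule.sum_mem _ fun j _ => Submodule.smul_mem_smul (htV j m) Submodule.mem_top

end Groth.Agent.S16422
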