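import Groth.Statements.S16429
import Groth.Agent.RhoSh.K887.DualExt
import Groth.Agent.Dual.H375.ExtRestr
import Groth.Agent.Krr.H495.Rank
import Groth.Agent.Ega2.QCohLocal
import Groth.Agent.Sga67.LocBasisOps
import Groth.Agent.CycB.ModStalk
import Groth.Agent.Desc.FinLocFreeSections

set_option autoImplicit false
universe u
open CategoryTheory CategoryTheory.Limits AlgebraicGeometry TopologicalSpace
open RhoSh

namespace Groth.Agent.S16429

theorem isFinLocFree_of_isInvertible {X : Scheme.{u}} {L : X.Modules} (hL : PicF.IsInvertible L) :
    FlatMod.IsFinLocFree L :=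
  Ega2.QCohLocal.isFinLocFree_of_rank (Ega2.QCohLocal.isFinLocFreeOfRank_one_iff.mpr hL)

theorem isReflexive_of_isInvertible {X : Scheme.{u}} {L : X.Modules} (hL : PicF.IsInvertible L) :
    RefHull.IsReflexive L := by
  change IsIso (RefHull.bidualMap L)
  refine K476.HomSh4.isIso_of_stalk _ fun x => ?_
  rw [K476.HomSh4.bijective_stalkMapₗ_bidualMap_iff
    (Desc.FinLocFreeSections.isFP_of_isFinLocFree (isFinLocFree_of_isInvertible hL))
    (Desc.FinLocFreeSections.isFP_of_isFinLocFree (isFinLocFree_of_isInvertible
      (K476.HomSh6.isInvertible_dual hL)))]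
  obtain ⟨t, ht⟩ := CycB.ModStalk.exists_isGen hL x
  let e : X.presheaf.stalk x ≃ₗ[X.presheaf.stalk x] L.presheaf.stalk x :=
    LinearEquiv.ofBijective (LinearMap.toSpanSingleton _ _ t) ht
  have h1 : Module.Free (X.presheaf.stalk x) (L.presheaf.stalk x) := Module.Free.of_equiv e
  have h2 : Module.Finite (X.presheaf.stalk x) (L.presheaf.stalk x) := Module.Finite.equiv e
  infer_instance

theorem isInvertible_extPow {X : Scheme.{u}} {m : ℕ} {E L : X.Modules}
    (hE : FlatMod.IsFinLocFreeOfRank m E)
    (hL : ExtPow.IsExtPow m E L) : PicF.IsInvertible L := by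
  rw [← Ega2.QCohLocal.isFinLocFreeOfRank_one_iff, Krr.H495.Rank.isFinLocFreeOfRank_iff]
  have hE' := Krr.H495.Rank.isFinLocFree_of_rank hE
  refine ⟨Sga67.LocBasis.isFinLocFree_of_isExtPow hE' hL, fun x => ?_⟩
  rw [Krr.H495.Rank.rk_extPow hE' hL, Krr.H495.Rank.rk_of_rank hE, Nat.choose_self]

/-- Let X be a smooth, proper, geometrically irreducible scheme over a field k admitting an ample
invertible sheaf, S a locally Noetherian k-scheme, and F a finitely presented quasi-coherent module
on X ×_k S, flat over S with torsion-free fibres. Let U be an open subset of X ×_k S off which every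
point has fibre local ring of Krull dimension at least 2 and on which F is locally free of rank h,
and let L be an h-th exterior power of F. Then the determinant det F, i.e. the double dual of L, is
the direct image of the determinant of the locally free module F|_U: the unit map from the double
dual of L to j_* j^* of it (j the inclusion of U) is an isomorphism, and the biduality map L ⟶ L^**
restricts to an isomorphism over U, identifying det F on U with the exterior power L|_U of F|_U. The
published statement allows any k-scheme S; this row assumes S locally Noetherian. -/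
theorem result
    (k : Type u) [Field k] (X S : Scheme.{u})
    (a : X ⟶ Spec (CommRingCat.of k)) (b : S ⟶ Spec (CommRingCat.of k))
    [Smooth a] [IsProper a] [GeometricallyIrreducible a]
    (hproj : ∃ H : X.Modules, CohB1.IsAmple H) [IsLocallyNoetherian S]
    (F : (pullback a b).Modules) (hfp : CohB1.IsFP F)
    (hfl : FlatMod.IsFlatOver (pullback.snd a b) F)
    (htf : ∀ s : ↥S, TorSh.IsTorsionFree
      ((Scheme.Modules.pullback ((pullback.snd a b).fiberι s)).obj F))
    (h : ℕ) (U : (pullback a b).Opens)
    (hU : ∀ x : ↥(pullback a b), x ∉ U →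
      (2 : WithBot ℕ∞) ≤ ringKrullDim ↑(CInt.fiberStalk (pullback.snd a b) x))
    (hFU : FlatMod.IsFinLocFreeOfRank h (F.restrict U.ι))
    (L : (pullback a b).Modules) (hL : ExtPow.IsExtPow h F L) :
    IsIso ((Scheme.Modules.restrictAdjunction U.ι).unit.app (RefHull.ddual L)) ∧
      IsIso ((Scheme.Modules.restrictFunctor U.ι).map (RefHull.bidualMap L)) := by
  have hExt := K887.Extend.ext_of_smooth (pullback.snd a b) U hU
  constructor
  · exact (K887.DualExt.extMod_homSh (K887.DualExt.extMod_structureModule hExt)
      (RefHull.dual L)).isIso_unit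
  · have h1 := Dual.H375.ExtRestr.isExtPow_restrict (U := U) hL
    have h2 : PicF.IsInvertible (L.restrict U.ι) := isInvertible_extPow hFU h1
    have h3 : IsIso (RefHull.bidualMap (L.restrict U.ι)) := isReflexive_of_isInvertible h2
    rw [← K476.HomSh5.bidualMap_restrict] at h3
    exact IsIso.of_isIso_comp_right _ (K476.HomSh5.restrictDDual U.ι L).hom

end Groth.Agent.S16429
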