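-- Statement S16430
import Groth.Statements.S16430
import Groth.Agent.Hensel.FiniteEtaleLift
import Groth.Agent.Hensel.K143.LocalField

set_option autoImplicit false
universe u
open Hensel

namespace Groth.Agent.S16430

/-- For a Noetherian local ring A with residue field k and a finite separable field extension l of k,
there is a local ring E, finite and etale over A with local structure map, whose residue field is
k-isomorphic to l. -/
theorem result (A : Type u)
    [CommRing A] [IsLocalRing A] [IsNoetherianRing A] (l : Type u) [Field l]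
    [Algebra (IsLocalRing.ResidueField A) l] [FiniteDimensional (IsLocalRing.ResidueField A) l]
    [Algebra.IsSeparable (IsLocalRing.ResidueField A) l] :
    ∃ (E : Type u) (_ : CommRing E) (_ : IsLocalRing E) (_ : Algebra A E)
      (_ : IsLocalHom (algebraMap A E)),
      Module.Finite A E ∧ Algebra.Etale A E ∧
        Nonempty (IsLocalRing.ResidueField E ≃ₐ[IsLocalRing.ResidueField A] l) := by
  obtain ⟨S, hS, hA, hfin, het, ⟨e⟩⟩ := Hensel.FiniteEtaleLift.exists_lift_field A l
  let g : S →+* l := e.toAlgHom.toRingHom.comp
    (Algebra.TensorProduct.includeRight : S →ₐ[A] TensorProduct A (IsLocalRing.ResidueField A) S).toRingHom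
  have hgapp : ∀ s : S, g s = e (1 ⊗ₜ[A] s) := fun s => rfl
  have hg : Function.Surjective g := by
    intro x
    obtain ⟨s, hs⟩ := K143.LocalField.includeRight_surjective (R := A) (S := S) (e.symm x)
    refine ⟨s, ?_⟩
    rw [hgapp]
    exact (congrArg e hs).trans (e.apply_symm_apply x)
  have hk : ∀ s : S, g s = 0 → s ∈ (IsLocalRing.maximalIdeal A).map (algebraMap A S) := by
    intro s hs
    rw [hgapp] at hs
    exact (K143.LocalField.includeRight_eq_zero_iff s).mp ((map_eq_zero_iff e e.injective).mp hs)
  have h1 : IsLocalRing S := K143.LocalField.isLocalRing A S g hg hk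
  have h2 : IsLocalHom (algebraMap A S) := K143.LocalField.isLocalHom A S g hg hk
  refine ⟨S, hS, h1, hA, h2, hfin, het, ⟨AlgEquiv.ofRingEquiv (f := K143.LocalField.residueEquiv A S g hg hk) ?_⟩⟩
  intro x
  obtain ⟨a, rfl⟩ := IsLocalRing.residue_surjective x
  have h3 : algebraMap (IsLocalRing.ResidueField A) (IsLocalRing.ResidueField S) (IsLocalRing.residue A a) =
      IsLocalRing.residue S (algebraMap A S a) := rfl
  rw [h3, K143.LocalField.residueEquiv_residue, hgapp]
  have h4 : (1 : IsLocalRing.ResidueField A) ⊗ₜ[A] (algebraMap A S a) =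
      algebraMap (IsLocalRing.ResidueField A) (TensorProduct A (IsLocalRing.ResidueField A) S) (IsLocalRing.residue A a) := by
    rw [Algebra.algebraMap_eq_smul_one, ← TensorProduct.smul_tmul, Algebra.TensorProduct.algebraMap_apply]
    congr 1
    rw [Algebra.smul_def, mul_one]
    rfl
  rw [h4]
  exact e.commutes _

end Groth.Agent.S16430
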