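import Groth.Statements.S16433
import Groth.Agent.EGA4loc.K886.NormalCase

set_option autoImplicit false
universe u
open EGA4loc

namespace Groth.Agent.S16433

/-- Let A be an excellent normal local domain and S a strict henselization of A; let D be an
A-subalgebra of S which is a local ring dominated by S (the inclusion is a local homomorphism) and
an integrally closed domain. Then D is a directed union of local etale extensions of A: every finite
subset of D is contained in an A-subalgebra D' of S with D' contained in D, D' a local ring whose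
inclusion into S is local, and D' an essentially etale local A-algebra (a localization of an etale
A-algebra at a prime over the maximal ideal). -/
theorem result
    (A S : Type u) [CommRing A] [IsLocalRing A] [IsDomain A] [IsIntegrallyClosed A]
    (hA : EGA4.IsExcellent A) [CommRing S] [IsLocalRing S] [Algebra A S] [IsLocalHom (algebraMap A S)]
    [Hensel.IsStrictHenselization A S] (D : Subalgebra A S) [IsLocalRing D]
    [IsLocalHom (algebraMap D S)] [IsDomain D] [IsIntegrallyClosed D]
    (s : Finset S) (hs : (s : Set S) ⊆ (D : Set S)) :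
    ∃ D' : Subalgebra A S, D' ≤ D ∧ (s : Set S) ⊆ (D' : Set S) ∧
      ∃ _ : IsLocalRing D', IsLocalHom (algebraMap D' S) ∧ EGA4loc.IsEssentiallyEtale A D' := by
  classical
  have hL := Groth.Agent.Hensel.Lazard.laz_of_isStrictHenselization A S
  have hTR : K886.FracRing.TR A S := K886.FracRing.tr_of_laz A S
    K886.NormalCase.finite_minimalPrimes hL
  have hreg : K886.FracRing.Reg A S := by
    have hflat : Module.Flat A S := hL.flat
    exact K886.FracFin.reg_of_flat A S
  let B : Subalgebra A S := Algebra.adjoin A (s : Set S)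
  let L : Subalgebra A S := K886.FracSub.fracSub (E := S) S B
  have hLsat : ∀ (a : A) (x : S), a ∈ nonZeroDivisors A → algebraMap A S a * x ∈ L → x ∈ L := by
    rintro a x ha ⟨b, hb, d, hd, hx⟩
    refine ⟨b * a, mul_mem hb ha, d, hd, ?_⟩
    rw [← hx, map_mul, mul_assoc]
  let D' : Subalgebra A S := D ⊓ L
  have hsD' : (s : Set S) ⊆ (D' : Set S) := fun x hx => ⟨hs hx, 1, one_mem _, x,
    Algebra.subset_adjoin hx, by rw [map_one, one_mul]; rfl⟩
  -- division
  have hdiv : ∀ (v z : D), (v : S) ∈ L → v ≠ 0 → ((z * v : D) : S) ∈ L → (z : S) ∈ L := by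
    intro v z hv hv0 hzv
    obtain ⟨a, ha, p, hp⟩ := (K886.NormalCase.tr_subalgebra hL D).exists_mul_eq
      (mem_nonZeroDivisors_of_ne_zero hv0)
    refine hLsat a z ha ?_
    have h1 : algebraMap A S a * (z : S) = ((z * v : D) : S) * Polynomial.aeval (v : S) p := by
      have h2 : (algebraMap A S a : S) = (v : S) * Polynomial.aeval (v : S) p := by
        have h3 := congrArg (D.val) hp
        rw [map_mul, ← Polynomial.aeval_algHom_apply] at h3
        exact h3.symm
      rw [h2]
      change _ = (z : S) * (v : S) * _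
      ring
    rw [h1]
    refine L.mul_mem hzv ?_
    have h4 : Polynomial.aeval (v : S) p = ((Polynomial.aeval (⟨v, hv⟩ : L) p : L) : S) :=
      Polynomial.aeval_algHom_apply L.val (⟨(v : S), hv⟩ : L) p
    rw [h4]
    exact Subtype.coe_prop _
  have hloc : IsLocalHom (algebraMap D' S) := by
    constructor
    intro x hx
    have h1 : IsUnit (⟨x, x.2.1⟩ : D) := isUnit_of_map_unit (algebraMap D S) _ hx
    obtain ⟨y, hy⟩ := h1.exists_right_inv
    have hx0 : (⟨x, x.2.1⟩ : D) ≠ 0 := h1.ne_zero
    have h2 : (y : S) ∈ L := by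
      refine hdiv ⟨x, x.2.1⟩ y x.2.2 hx0 ?_
      rw [mul_comm, hy]
      exact L.one_mem
    have h3 : (x : S) * y = 1 := congrArg Subtype.val hy
    exact IsUnit.of_mul_eq_one (⟨y, y.2, h2⟩ : D') (Subtype.ext h3)
  have hlr : IsLocalRing D' := RingHom.domain_isLocalRing (algebraMap D' S)
  refine ⟨D', inf_le_left, hsD', hlr, hloc, ?_⟩
  let ι : D' →ₐ[A] D := Subalgebra.inclusion inf_le_left
  have hι : Function.Injective ι := Subalgebra.inclusion_injective _
  have hdom : IsDomain D' := Function.Injective.isDomain ι.toRingHom hι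
  let Q' := FractionRing D'
  let Q := FractionRing D
  let g : D' →+* Q := (algebraMap D Q).comp ι.toRingHom
  have hg : Function.Injective g := (IsFractionRing.injective D Q).comp hι
  let φ : Q' →+* Q := IsFractionRing.lift hg
  have hφ : ∀ x, φ (algebraMap D' Q' x) = algebraMap D Q (ι x) := fun x =>
    IsFractionRing.lift_algebraMap hg x
  have hic : IsIntegrallyClosed D' := by
    rw [isIntegrallyClosed_iff Q']
    intro x hx
    obtain ⟨u, v, hv, rfl⟩ := IsFractionRing.div_surjective (A := D') x
    have hv0 : v ≠ 0 := nonZeroDivisors.ne_zero hv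
    have h1 : IsIntegral D (φ (algebraMap D' Q' u / algebraMap D' Q' v)) := by
      obtain ⟨q, hq, hq0⟩ := hx
      refine ⟨q.map ι.toRingHom, hq.map _, ?_⟩
      rw [Polynomial.eval₂_map]
      have h2 : (algebraMap D Q).comp ι.toRingHom = φ.comp (algebraMap D' Q') :=
        RingHom.ext fun x => (hφ x).symm
      rw [h2, ← Polynomial.hom_eval₂, hq0, map_zero]
    obtain ⟨z, hz⟩ := IsIntegrallyClosed.isIntegral_iff.mp h1
    have h3 : z * ι v = ι u := by
      apply IsFractionRing.injective D Q
      rw [map_mul, hz, ← hφ, ← hφ, ← map_mul, div_mul_cancel₀]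
      exact fun h => hv0 ((IsFractionRing.injective D' Q') (h.trans (map_zero _).symm))
    have h4 : (z : S) ∈ L := by
      refine hdiv (ι v) z v.2.2 (fun h => hv0 (hι (h.trans (map_zero _).symm))) ?_
      rw [h3]
      exact u.2.2
    refine ⟨⟨z, z.2, h4⟩, ?_⟩
    rw [eq_div_iff (fun h => hv0 ((IsFractionRing.injective D' Q') (h.trans (map_zero _).symm))),
      ← map_mul]
    congr 1
    apply hι
    rw [map_mul]
    exact h3
  refine K886.NormalCase.isEssentiallyEtale hA hL D' ?_
  let t₀ : Finset D' := Finset.image (fun x : {y : S // y ∈ s} => (⟨x.1, hsD' x.2⟩ : D')) s.attach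
  have ht₀ : D'.val '' (t₀ : Set D') = (s : Set S) := by
    ext x
    constructor
    · rintro ⟨y, hy, rfl⟩
      obtain ⟨z, hz, rfl⟩ := Finset.mem_image.mp (Finset.mem_coe.mp hy)
      exact z.2
    · intro hx
      exact ⟨⟨x, hsD' hx⟩, Finset.mem_coe.mpr (Finset.mem_image.mpr
        ⟨⟨x, hx⟩, Finset.mem_attach _ _, rfl⟩), rfl⟩
  refine ⟨t₀.image (algebraMap D' Q'), fun x => ?_⟩
  obtain ⟨a, ha, w, hw⟩ := K886.FracRing.exists_mul_eq Q' (K886.NormalCase.tr_subalgebra hL D') x
  obtain ⟨b, hb, d, hd, hbw⟩ := w.2.2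
  refine ⟨b * a, mul_mem hb ha, ?_⟩
  have h1 : algebraMap A Q' (b * a) * x = algebraMap D' Q' (algebraMap A D' b * w) := by
    rw [map_mul, mul_assoc, hw, map_mul, ← IsScalarTower.algebraMap_apply]
  have h2 : algebraMap A D' b * w ∈ Algebra.adjoin A (t₀ : Set D') := by
    have h3 : (D'.val (algebraMap A D' b * w)) ∈ (Algebra.adjoin A (t₀ : Set D')).map D'.val := by
      rw [AlgHom.map_adjoin, ht₀]
      have h4 : D'.val (algebraMap A D' b * w) = d := hbw
      rw [h4]
      exact hd
    obtain ⟨y, hy, hyw⟩ := h3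
    have h5 : y = algebraMap A D' b * w := Subtype.ext hyw
    rw [← h5]
    exact hy
  have h6 : (Algebra.adjoin A (t₀ : Set D')).map (IsScalarTower.toAlgHom A D' Q') =
      Algebra.adjoin A ((t₀.image (algebraMap D' Q') : Finset Q') : Set Q') := by
    rw [AlgHom.map_adjoin]
    congr 1
    exact (Finset.coe_image (s := t₀) (f := algebraMap D' Q')).symm
  rw [h1, ← h6]
  exact ⟨_, h2, rfl⟩

end Groth.Agent.S16433
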