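import Groth.Statements.S16434
import Groth.Agent.EGA4loc.K886.NormalCase
import Groth.Agent.EGA4loc.K886.GalInv

set_option autoImplicit false
universe u
open EGA4loc

namespace Groth.Agent.S16434

/-- Let A be an excellent henselian local domain such that a strict henselization S of A is again a
domain, let K be the fraction field of S, and let L be the subfield of K generated over the image of
A by a finite subset t of K (so L is an intermediate field between the fraction fields of A and of
S, finitely generated over the former). Then the intersection of L with S is (the underlying set of)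
an A-subalgebra D of S which is a local ring with local inclusion into S and which is an essentially
etale local A-algebra: A-isomorphic to the localization of an etale A-algebra at a prime over the
maximal ideal. -/
theorem result
    (A S : Type u) [CommRing A] [HenselianLocalRing A] [IsDomain A] (hA : EGA4.IsExcellent A)
    [CommRing S] [IsLocalRing S] [Algebra A S] [IsLocalHom (algebraMap A S)]
    [Hensel.IsStrictHenselization A S] [IsDomain S] (t : Finset (FractionRing S)) :
    ∃ D : Subalgebra A S, (D : Set S) = (algebraMap S (FractionRing S)) ⁻¹'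
        (Subfield.closure (Set.range (algebraMap A (FractionRing S)) ∪ (t : Set (FractionRing S))) :
          Set (FractionRing S)) ∧
      ∃ _ : IsLocalRing D, IsLocalHom (algebraMap D S) ∧ EGA4loc.IsEssentiallyEtale A D := by
  classical
  have hL := Groth.Agent.Hensel.Lazard.laz_of_isStrictHenselization A S
  have hflatS : Module.Flat A S := hL.flat
  have hTR : K886.FracRing.TR A S := K886.FracRing.tr_of_laz A S
    K886.NormalCase.finite_minimalPrimes hL
  let K := FractionRing S
  let LK : Subfield K := Subfield.closure (Set.range (algebraMap A K) ∪ (t : Set K))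
  -- a first subalgebra
  have hchoose : ∀ x : K, ∃ a ∈ nonZeroDivisors A, ∃ d : S, algebraMap A K a * x = algebraMap S K d :=
    fun x => K886.FracRing.exists_mul_eq K hTR x
  choose a ha d hd using hchoose
  obtain ⟨E₁, htE₁, hE₁⟩ := K886.Union.exists_subalgebra hL (d '' (t : Set K))
    (t.finite_toSet.image d)
  have : IsLocalRing E₁ := Groth.Agent.UnramB.EssEtale.isLocalRing_of hE₁
  have : IsLocalHom (algebraMap A E₁) := K886.Basic.isLocalHom_algebraMap hE₁
  obtain ⟨B, _, _, _, _, ψ, φ, hBfin, hB, hrank, hGal, hψl, hψφ⟩ :=
    K886.GalHens.exists_galois A S E₁ hE₁ E₁.val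
  -- injectivity of `ψ`
  have hψ : Function.Injective ψ := by
    let _ : Algebra B S := ψ.toRingHom.toAlgebra
    have : IsScalarTower A B S := IsScalarTower.of_algebraMap_eq fun a => (ψ.commutes a).symm
    have : Module.Flat B S := K886.Union.flat_of_isEssentiallyEtale hB
    have : IsLocalHom (algebraMap B S) := hψl
    have : Module.FaithfullyFlat B S := Module.FaithfullyFlat.of_flat_of_isLocalHom
    exact FaithfulSMul.algebraMap_injective B S
  have hBdom : IsDomain B := Function.Injective.isDomain ψ.toRingHom hψ
  have hAS : Function.Injective (algebraMap A S) := by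
    have := Groth.Agent.Hensel.Lazard.faithfullyFlat_of_isStrictHenselization A S
    exact FaithfulSMul.algebraMap_injective A S
  have hAB : Function.Injective (algebraMap A B) := by
    intro x y hxy
    apply hAS
    rw [← ψ.commutes, ← ψ.commutes, hxy]
  let F := FractionRing A
  let M := FractionRing B
  have : FaithfulSMul A M := (faithfulSMul_iff_algebraMap_injective A M).mpr (by
    rw [IsScalarTower.algebraMap_eq A B M]
    exact (IsFractionRing.injective B M).comp hAB)
  let _ : Algebra F M := FractionRing.liftAlgebra A M
  have : IsScalarTower A F M := FractionRing.isScalarTower_liftAlgebra A M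
  have hjinj : Function.Injective ((algebraMap S K).comp ψ.toRingHom) :=
    (IsFractionRing.injective S K).comp hψ
  let j : M →+* K := IsFractionRing.lift hjinj
  have hj : ∀ b, j (algebraMap B M b) = algebraMap S K (ψ b) := fun b =>
    IsFractionRing.lift_algebraMap hjinj b
  have hjA : ∀ a : A, j (algebraMap A M a) = algebraMap A K a := by
    intro a
    rw [IsScalarTower.algebraMap_apply A B M, hj, ψ.commutes, ← IsScalarTower.algebraMap_apply]
  let L : IntermediateField F M := (LK.comap j).toIntermediateField (by
    intro x
    obtain ⟨u, v, hv, rfl⟩ := IsFractionRing.div_surjective (A := A) x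
    rw [map_div₀, ← IsScalarTower.algebraMap_apply, ← IsScalarTower.algebraMap_apply]
    change j _ ∈ LK
    rw [map_div₀, hjA, hjA]
    exact LK.div_mem (Subfield.subset_closure (Or.inl ⟨u, rfl⟩))
      (Subfield.subset_closure (Or.inl ⟨v, rfl⟩)))
  let D₁ : Subalgebra A B := 
    { carrier := {b | algebraMap B M b ∈ L}
      mul_mem' := fun {x y} hx hy => by
        change algebraMap B M (x * y) ∈ L
        rw [map_mul]; exact L.mul_mem hx hy
      add_mem' := fun {x y} hx hy => by
        change algebraMap B M (x + y) ∈ L
        rw [map_add]; exact L.add_mem hx hy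
      algebraMap_mem' := fun r => by
        change algebraMap B M (algebraMap A B r) ∈ L
        rw [← IsScalarTower.algebraMap_apply A B M, IsScalarTower.algebraMap_apply A F M]
        exact L.algebraMap_mem _ }
  have hD₁ : ∀ b : B, b ∈ D₁ ↔ algebraMap B M b ∈ L := fun b => Iff.rfl
  have hmemL : ∀ m : M, m ∈ L ↔ j m ∈ LK := fun m => Iff.rfl
  obtain ⟨hlr, hlh, het⟩ := K886.GalInv.isEssentiallyEtale hB hrank L D₁ hD₁ hA
  -- transfer
  let D : Subalgebra A S := D₁.map ψ
  let e : D₁ ≃ₐ[A] D := D₁.equivMapOfInjective ψ hψ
  have he : ∀ x, (e x : S) = ψ x := fun x => rfl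
  -- `LK` is contained in the image of `M`
  have hLK : LK ≤ j.fieldRange := by
    rw [Subfield.closure_le]
    rintro x (⟨b, rfl⟩ | hx)
    · exact ⟨algebraMap A M b, hjA b⟩
    · have h1 : d x ∈ E₁ := htE₁ ⟨x, hx, rfl⟩
      have h2 : j (algebraMap B M (φ ⟨d x, h1⟩)) = algebraMap A K (a x) * x := by
        rw [hj, hd]
        have := DFunLike.congr_fun hψφ ⟨d x, h1⟩
        congr 1
      have h3 : algebraMap A K (a x) ≠ 0 := by
        rw [IsScalarTower.algebraMap_apply A S K]
        intro h
        have h4 := (IsFractionRing.injective S K) (h.trans (map_zero _).symm)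
        have h5 := hAS (h4.trans (map_zero _).symm)
        exact nonZeroDivisors.ne_zero (ha x) h5
      refine ⟨algebraMap B M (φ ⟨d x, h1⟩) / algebraMap A M (a x), ?_⟩
      rw [map_div₀, h2, hjA, mul_div_cancel_left₀ _ h3]
  have hTRB : K886.FracRing.TR A B := K886.FracFin.tr_of_isEssentiallyEtale
    K886.NormalCase.finite_minimalPrimes hB
  have hE : EGA4loc.IsEssentiallyEtale A ψ.range :=
    K886.Basic.of_algEquiv hB (AlgEquiv.ofInjective ψ hψ)
  have hset : (D : Set S) = (algebraMap S K) ⁻¹' (LK : Set K) := by
    ext x
    constructor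
    · rintro ⟨b, hb, rfl⟩
      have h1 : j (algebraMap B M b) ∈ LK := hb
      rw [hj] at h1
      exact h1
    · intro hx
      have hx' : algebraMap S K x ∈ LK := hx
      obtain ⟨m, hm⟩ := hLK hx'
      obtain ⟨r, hr, b, hb⟩ := K886.FracRing.exists_mul_eq M hTRB m
      have h1 : algebraMap A S r * x = ψ b := by
        apply IsFractionRing.injective S K
        rw [map_mul, ← IsScalarTower.algebraMap_apply, ← hm, ← hj, ← hb, map_mul, hjA]
      have h2 : x ∈ ψ.range := K886.Union.mem_of_mul_mem ψ.range hE hr (by
        rw [h1]; exact ⟨b, rfl⟩)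
      obtain ⟨b₀, rfl⟩ := h2
      refine ⟨b₀, ?_, rfl⟩
      change j (algebraMap B M b₀) ∈ LK
      rw [hj]
      exact hx'
  refine ⟨D, hset, e.toRingEquiv.isLocalRing, ?_, K886.Basic.of_algEquiv het e⟩
  constructor
  intro x hx
  obtain ⟨b, rfl⟩ := e.surjective x
  have h1 : IsUnit (ψ.toRingHom (b : B)) := hx
  have h2 : IsUnit (algebraMap D₁ B b) := isUnit_of_map_unit ψ.toRingHom _ h1
  exact (isUnit_of_map_unit (algebraMap D₁ B) b h2).map e

end Groth.Agent.S16434
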