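import Groth.Statements.S16435
import Groth.Agent.Hensel.K143.SHBase

set_option autoImplicit false
universe u
open Hensel

namespace Groth.Agent.S16435

open K143.SH IsLocalRing Polynomial

/-- Transfer of finite dimensionality between two subfields with the same image in a third field. -/
theorem finiteDimensional_transfer {k K W L F : Type*} [Field k] [Field K] [Field W] [Field L] [Field F]
    [Algebra k K] [Algebra F L] (r : L →+* W) (j : K →+* W) (N : IntermediateField k K)
    (T : IntermediateField F L) (h1 : ∀ x ∈ T, ∃ y ∈ N, r x = j y) (h2 : ∀ y ∈ N, ∃ x ∈ T, r x = j y)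
    (h3 : ∀ c : F, ∃ a : k, r (algebraMap F L c) = j (algebraMap k K a)) [hfd : FiniteDimensional F T] :
    FiniteDimensional k N := by
  classical
  obtain ⟨s, hs⟩ := hfd.1
  have h1' : ∀ x : T, ∃ y : N, r x = j y := by
    intro x
    obtain ⟨y, hy, hxy⟩ := h1 x x.2
    exact ⟨⟨y, hy⟩, hxy⟩
  choose z hz using h1'
  have key : ∀ x ∈ Submodule.span F (s : Set T), ∃ v ∈ Submodule.span k ((s.image z : Finset N) : Set N),
      r x = j (v : K) := by
    intro x hx
    induction hx using Submodule.span_induction with
    | mem x hx =>
      exact ⟨z x, Submodule.subset_span (Finset.mem_coe.mpr (Finset.mem_image_of_mem _ hx)), hz x⟩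
    | zero => exact ⟨0, Submodule.zero_mem _, by simp⟩
    | add a b _ _ ha hb =>
      obtain ⟨v, hv, hva⟩ := ha
      obtain ⟨v', hv', hvb⟩ := hb
      refine ⟨v + v', Submodule.add_mem _ hv hv', ?_⟩
      have e1 : ((a + b : T) : L) = (a : L) + (b : L) := rfl
      have e2 : ((v + v' : N) : K) = (v : K) + (v' : K) := rfl
      rw [e1, e2, map_add, map_add, hva, hvb]
    | smul c x _ hx =>
      obtain ⟨v, hv, hvx⟩ := hx
      obtain ⟨a, ha⟩ := h3 c
      refine ⟨a • v, Submodule.smul_mem _ _ hv, ?_⟩
      have e1 : ((c • x : T) : L) = algebraMap F L c * (x : L) := by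
        rw [IntermediateField.coe_smul, Algebra.smul_def]
      have e2 : ((a • v : N) : K) = algebraMap k K a * (v : K) := by
        rw [IntermediateField.coe_smul, Algebra.smul_def]
      rw [e1, e2, map_mul, map_mul, hvx, ha]
  refine ⟨⟨s.image z, ?_⟩⟩
  rw [eq_top_iff]
  intro y _
  obtain ⟨x, hx, hxy⟩ := h2 y y.2
  obtain ⟨v, hv, hvx⟩ := key ⟨x, hx⟩ (hs.ge Submodule.mem_top)
  have h4 : v = y := by
    refine Subtype.ext (j.injective ?_)
    rw [← hvx]
    exact hxy
  rw [← h4]
  exact hv

section

variable (A D : Type u) {S : Type u} [CommRing A] [HenselianLocalRing A] [CommRing D] [CommRing S] [IsLocalRing S]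
  [Algebra A S] [IsLocalHom (algebraMap A S)] [h : Hensel.IsStrictHenselization A S] [Algebra A D] [Algebra D S]
  [IsScalarTower A D S]

/-- The structure map `A → k₀`. -/
noncomputable def baseMap (M : Ideal (integralClosure D (FractionRing D))) [M.IsPrime] : A →+* subK D M :=
  ((subRes D M).comp (algebraMap A D)).codRestrict (subK D M) (fun a => Subfield.subset_closure ⟨_, rfl⟩)

theorem resMap_aeval (hinj : Function.Injective (algebraMap D S)) (Q : Ideal S) [Q.IsPrime]
    (hQ : Q ∈ minimalPrimes S) (M : Ideal (integralClosure D (FractionRing D))) [M.IsPrime]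
    (hM : maxOf A D Q hinj hQ = M) (x : M.ResidueField) (z : S)
    (hxz : resMap A D Q hinj hQ M hM x = residue _ (toInt A Q z)) (p : A[X]) :
    resMap A D Q hinj hQ M hM (aeval x (p.map (baseMap A D M))) = residue _ (toInt A Q (aeval z p)) := by
  have hα : (resMap A D Q hinj hQ M hM).comp ((algebraMap (subK D M) M.ResidueField).comp (baseMap A D M)) =
      ((residue _).comp (toInt A Q)).comp (algebraMap A S) := by
    ext a
    change resMap A D Q hinj hQ M hM (subRes D M (algebraMap A D a)) = _
    rw [resMap_sub, ← IsScalarTower.algebraMap_apply]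
    rfl
  rw [Polynomial.aeval_def, Polynomial.eval₂_map, Polynomial.hom_eval₂, hα, hxz]
  have h1 : residue _ (toInt A Q z) = ((residue _).comp (toInt A Q)) z := rfl
  rw [h1, ← Polynomial.hom_eval₂]
  rfl

variable (S) in
theorem finiteDimensional_of_finite [IsNoetherianRing A] [IsReduced S] [Module.Finite A D]
    (hinj : Function.Injective (algebraMap D S)) (M : Ideal (integralClosure D (FractionRing D)))
    [hMm : M.IsMaximal] :
    FiniteDimensional (subK D M) (separableClosure (subK D M) M.ResidueField) := by
  classical
  have hSN : IsNoetherianRing S := (Groth.Agent.S0540.result A S).mp inferInstance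
  obtain ⟨Q, hQp, hQ, hM⟩ := exists_maxOf_eq A D hinj M
  obtain ⟨s, hs⟩ := Module.Finite.fg_top (R := A) (M := D)
  obtain ⟨s', hs'⟩ := exists_finset_stab A Q
  obtain ⟨θ, f, hθ, hθfix, hall⟩ := exists_stage_fixed A (quotStab A D Q) (s.image (algebraMap D S) ∪ s')
    (fun g hg => by
      have h1 : ∀ d : D, g (algebraMap D S d) = algebraMap D S d := by
        intro d
        have hd : d ∈ Submodule.span A (s : Set D) := by rw [hs]; trivial
        induction hd using Submodule.span_induction with
        | mem x hx => exact hg _ (Finset.mem_union_left _ (Finset.mem_image_of_mem _ hx))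
        | zero => rw [map_zero, map_zero]
        | add x y _ _ hx hy => rw [map_add, map_add, hx, hy]
        | smul a x _ hx =>
          have h2 : algebraMap D S (a • x) = a • algebraMap D S x := by
            rw [Algebra.smul_def, Algebra.smul_def, map_mul, ← IsScalarTower.algebraMap_apply]
          rw [h2, map_smul, hx]
      refine ⟨hs' g fun x hx => hg x (Finset.mem_union_right _ hx), fun d => ?_⟩
      rw [h1, sub_self]
      exact Q.zero_mem)
  obtain ⟨y, hy, hyθ⟩ := exists_isSeparable_of_fixed A D Q hinj hQ M hM θ (fun g hg hgD => by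
    rw [hθfix g ⟨hg, hgD⟩, sub_self]
    exact Q.zero_mem)
  have hle : separableClosure (subK D M) M.ResidueField ≤ IntermediateField.adjoin (subK D M) {y} := by
    intro x hx
    obtain ⟨θ', f', hθ', hxθ', hfix'⟩ := exists_fixed_stage_of_isSeparable A D Q hinj hQ M hM hMm x
      (mem_separableClosure_iff.mp hx)
    obtain ⟨p, hp⟩ := hall θ' (fun g hg => hfix' g hg.1 hg.2)
    have h1 : x = aeval y (p.map (baseMap A D M)) := by
      refine (resMap A D Q hinj hQ M hM).injective ?_
      rw [resMap_aeval A D hinj Q hQ M hM y θ hyθ, hp, hxθ']
    rw [h1]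
    exact IntermediateField.algebra_adjoin_le_adjoin _ _ (Polynomial.aeval_mem_adjoin_singleton _ _)
  have hfin : FiniteDimensional (subK D M) (IntermediateField.adjoin (subK D M) {y}) :=
    IntermediateField.adjoin.finiteDimensional hy.isIntegral
  exact FiniteDimensional.of_injective (IntermediateField.inclusion hle).toLinearMap
    (IntermediateField.inclusion hle).injective

variable (S) in
theorem finite_of_finiteDimensional [IsNoetherianRing A] [IsReduced S]
    (hinj : Function.Injective (algebraMap D S))
    (hres : ∀ d : D, ∃ a : A, residue S (algebraMap D S d) = residue S (algebraMap A S a))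
    (hfd : ∀ (M : Ideal (integralClosure D (FractionRing D))) [M.IsMaximal],
      FiniteDimensional (subK D M) (separableClosure (subK D M) M.ResidueField)) : Module.Finite A D := by
  classical
  refine module_finite_of_stages A D S hinj fun Q hQ => ?_
  have hQp : Q.IsPrime := hQ.1.1
  let M := maxOf A D Q hinj hQ
  have hMm : M.IsMaximal := maxOf_isMaximal A D Q hinj hQ
  have hM : maxOf A D Q hinj hQ = M := rfl
  have hfdM := hfd M
  let j : ResidueField S →+* ResidueField (intV A Q) := ResidueField.map (toInt A Q)
  have hj : ∀ z, j (residue S z) = residue _ (toInt A Q z) := fun z => rfl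
  have hfinF : FiniteDimensional (ResidueField A) (fixedField A (quotStab A D Q)) := by
    refine finiteDimensional_transfer (resMap A D Q hinj hQ M hM) j (fixedField A (quotStab A D Q))
      (separableClosure (subK D M) M.ResidueField) ?_ ?_ ?_
    · intro x hx
      obtain ⟨θ', f', hθ', hxθ', hfix'⟩ := exists_fixed_stage_of_isSeparable A D Q hinj hQ M hM hMm x
        (mem_separableClosure_iff.mp hx)
      exact ⟨residue S θ', ⟨θ', fun g hg => hfix' g hg.1 hg.2, rfl⟩, hxθ'⟩
    · rintro _ ⟨w, hw, rfl⟩
      obtain ⟨x, hx, hxw⟩ := exists_isSeparable_of_fixed A D Q hinj hQ M hM w (fun g hg hgD => by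
        rw [hw g ⟨hg, hgD⟩, sub_self]
        exact Q.zero_mem)
      exact ⟨x, mem_separableClosure_iff.mpr hx, hxw⟩
    · intro c
      obtain ⟨d, hd⟩ := (mem_subK_iff A D Q hinj hQ M hM (c : M.ResidueField)).mp c.2
      obtain ⟨a, ha⟩ := hres d
      refine ⟨residue A a, ?_⟩
      have e1 : algebraMap (subK D M) M.ResidueField c = subRes D M d := hd.symm
      have e2 : algebraMap (ResidueField A) (ResidueField S) (residue A a) = residue S (algebraMap A S a) := rfl
      rw [e1, e2, ← ha]
      exact resMap_sub A D Q hinj hQ M hM d
  obtain ⟨θ, f, hθ, -, hall⟩ := exists_stage_fixed_of_finite A (quotStab A D Q) hfinF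
  exact ⟨θ, f, hθ, hall⟩

variable (S) in
theorem iff_of_res [IsNoetherianRing A] [IsReduced S]
    (hinj : Function.Injective (algebraMap D S))
    (hres : ∀ d : D, ∃ a : A, residue S (algebraMap D S d) = residue S (algebraMap A S a)) :
    IsNoetherianRing D ↔ ∀ (M : Ideal (integralClosure D (FractionRing D))) [M.IsMaximal],
      FiniteDimensional (subK D M) (separableClosure (subK D M) M.ResidueField) := by
  constructor
  · intro hD M hM
    have := module_finite_of_noetherian A D S hinj hres
    exact finiteDimensional_of_finite A D S hinj M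
  · intro hfd
    have := finite_of_finiteDimensional A D S hinj hres hfd
    exact IsNoetherianRing.of_finite A D

end

/-- Let A be an excellent henselian reduced local ring, S a strict henselization of A and D any
A-subalgebra of S (an intermediate ring between A and S). Write D' for the integral closure of D in
its total ring of fractions. Then D is Noetherian if and only if, for every maximal ideal M of D'
with residue field l, writing k_0 for the subfield of l generated by the image of D (it is the image
itself, a copy of the residue field of the local ring D), the separable closure of k_0 in l has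
finite degree over k_0. -/
theorem result
    (A S : Type u) [CommRing A] [HenselianLocalRing A] [IsReduced A] (hA : EGA4.IsExcellent A)
    [CommRing S] [IsLocalRing S] [Algebra A S] [IsLocalHom (algebraMap A S)]
    [Hensel.IsStrictHenselization A S] (D : Subalgebra A S) :
    IsNoetherianRing D ↔
      ∀ (M : Ideal (integralClosure D (FractionRing D))) [M.IsMaximal],
        FiniteDimensional (Subfield.closure (Set.range ((algebraMap (integralClosure D (FractionRing D)) M.ResidueField).comp (algebraMap D (integralClosure D (FractionRing D)))))) (separableClosure (Subfield.closure (Set.range ((algebraMap (integralClosure D (FractionRing D)) M.ResidueField).comp (algebraMap D (integralClosure D (FractionRing D)))))) M.ResidueField) := by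
  have hN : IsNoetherianRing A := hA.1
  have hSN : IsNoetherianRing S := (Groth.Agent.S0540.result A S).mp inferInstance
  have hSred : IsReduced S := (Groth.Agent.S2747.result A S).mpr inferInstance
  have hinj : Function.Injective (algebraMap D S) := Subtype.val_injective
  -- the intermediate ring `E`
  let E : Subalgebra A S := fixedAlg A (resStab A D S)
  have hED : E ≤ D := by
    intro x hx
    obtain ⟨d, rfl⟩ := exists_algebraMap_eq_of_fixed A D hinj x hx
    exact d.2
  have hinjE : Function.Injective (algebraMap E S) := Subtype.val_injective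
  have hElocal : IsLocalHom (algebraMap E S) := isLocalHom_sub A E hinjE
  have hEh : HenselianLocalRing E := henselianLocalRing_sub A E hinjE
  have hES : Hensel.IsStrictHenselization E S := by
    refine isStrictHenselization_of_stages A E fun x => ?_
    obtain ⟨θ, f, p, hθ, hfix, hp⟩ := exists_stage_aeval_of_fixed A (resStab A D S) (x : S) x.2
    refine ⟨⟨θ, hfix⟩, f, p, hθ, ?_, ?_⟩
    · refine Subtype.ext ?_
      exact (Polynomial.aeval_algebraMap_apply S (⟨θ, hfix⟩ : E) f).symm.trans hθ.root
    · refine Subtype.ext ?_
      exact (Polynomial.aeval_algebraMap_apply S (⟨θ, hfix⟩ : E) p).symm.trans hp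
  have hEN : IsNoetherianRing E := (Groth.Agent.S0540.result E S).mpr hSN
  let _ : Algebra E D := (Subalgebra.inclusion hED).toAlgebra
  have _ : IsScalarTower E D S := IsScalarTower.of_algebraMap_eq fun x => rfl
  refine iff_of_res E D S hinj fun d => ?_
  obtain ⟨θ, f, hθ, hθd⟩ := exists_stage A (residue S (algebraMap D S d))
  exact ⟨⟨θ, fun g hg => hθ.fixed_of_residue A D d hθd g hg⟩, hθd.symm⟩

end Groth.Agent.S16435
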