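import Groth.Statements.S16436
import Groth.Agent.Hensel.K143.SHSep

set_option autoImplicit false
universe u
open Hensel

namespace Groth.Agent.S16436

open K143.SH IsLocalRing

theorem of_bot (A S : Type u) [CommRing A] [HenselianLocalRing A] [IsNoetherianRing A]
    [CommRing S] [IsLocalRing S] [IsReduced S] [Algebra A S] [IsLocalHom (algebraMap A S)]
    [h : Hensel.IsStrictHenselization A S] (D : Subalgebra A S) [Module.Finite A D]
    (hbot : ∀ (M : Ideal (integralClosure D (FractionRing D))) [M.IsMaximal], ∀ x : M.ResidueField,
      IsSeparable (subK D M) x → x ∈ subK D M) :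
    (Algebra.Etale A D ∧
        ∀ Q ∈ minimalPrimes S, Q = Ideal.map (algebraMap D S) (Q.comap (algebraMap D S))) := by
  classical
  have hinj : Function.Injective (algebraMap D S) := Subtype.val_injective
  have hff : Module.FaithfullyFlat A S := Groth.Agent.S0539.result A S
  have hres : ∀ Q ∈ minimalPrimes S, ∀ z : S, (∀ g ∈ quotStab A D Q, g z = z) →
      ∃ d : D, residue S (algebraMap D S d) = residue S z := by
    intro Q hQ z hz
    have hQp : Q.IsPrime := hQ.1.1
    have hMm := maxOf_isMaximal A D Q hinj hQ
    exact exists_residue_of_fixed_of_bot A D hinj Q hQ _ rfl (hbot _) z hz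
  constructor
  · obtain ⟨s, hs⟩ := Module.Finite.fg_top (R := A) (M := D)
    obtain ⟨θ, f, hθ, hθfix, hθall⟩ := exists_stage_fixed A (resStab A D S) (s.image (algebraMap D S))
      (fun g hg => by
        have h1 : ∀ d : D, g (algebraMap D S d) = algebraMap D S d := by
          intro d
          have hd : d ∈ Submodule.span A (s : Set D) := by rw [hs]; trivial
          induction hd using Submodule.span_induction with
          | mem x hx => exact hg _ (Finset.mem_image_of_mem _ hx)
          | zero => rw [map_zero, map_zero]
          | add x y _ _ hx hy => rw [map_add, map_add, hx, hy]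
          | smul a x _ hx =>
            have h2 : algebraMap D S (a • x) = a • algebraMap D S x := rfl
            rw [h2, map_smul, hx]
        intro d
        rw [h1])
    have hDr : ∀ d : D, ∃ p : Polynomial A, Polynomial.aeval θ p = algebraMap D S d := by
      intro d
      exact hθall _ (fun g hg => algEquiv_algebraMap_eq_of_res A D hres d g hg)
    obtain ⟨d₀, hd₀⟩ := exists_algebraMap_eq_of_fixed A D hinj θ hθfix
    have hrange : ∀ x : AdjoinRoot f, hθ.hom x ∈ D := by
      intro x
      obtain ⟨p, rfl⟩ := AdjoinRoot.mk_surjective x
      rw [hθ.hom_mk, ← hd₀, Polynomial.aeval_algebraMap_apply]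
      exact (Polynomial.aeval d₀ p).2
    let ψ : AdjoinRoot f →ₐ[A] D := hθ.hom.codRestrict D hrange
    have hψ : Function.Bijective ψ := by
      constructor
      · intro x y hxy
        exact hθ.injective (congrArg Subtype.val hxy)
      · intro d
        obtain ⟨p, hp⟩ := hDr d
        exact ⟨AdjoinRoot.mk f p, Subtype.ext hp⟩
    have het := hθ.etale
    exact Algebra.Etale.of_equiv (AlgEquiv.ofBijective ψ hψ)
  · intro Q hQ
    refine le_antisymm ?_ Ideal.map_comap_le
    refine (le_span_fixed A (resStab A D S) Q (resStab_le_stab A D Q hQ (hres Q hQ))).trans (Ideal.span_le.mpr ?_)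
    rintro z ⟨hzQ, hz⟩
    obtain ⟨d, rfl⟩ := exists_algebraMap_eq_of_fixed A D hinj z hz
    exact Ideal.mem_map_of_mem _ hzQ

theorem bot_of (A S : Type u) [CommRing A] [HenselianLocalRing A] [IsNoetherianRing A]
    [CommRing S] [IsLocalRing S] [IsReduced S] [Algebra A S] [IsLocalHom (algebraMap A S)]
    [h : Hensel.IsStrictHenselization A S] (D : Subalgebra A S) (het : Algebra.Etale A D)
    (hext : ∀ Q ∈ minimalPrimes S, Q = Ideal.map (algebraMap D S) (Q.comap (algebraMap D S)))
    (M : Ideal (integralClosure D (FractionRing D))) [hMm : M.IsMaximal] (x : M.ResidueField)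
    (hx : IsSeparable (subK D M) x) : x ∈ subK D M := by
  have hinj : Function.Injective (algebraMap D S) := Subtype.val_injective
  obtain ⟨Q, hQp, hQ, hM⟩ := exists_maxOf_eq A D hinj M
  obtain ⟨θ, f, hθ, hθx, hfix⟩ := exists_fixed_stage_of_isSeparable A D Q hinj hQ M hM hMm x hx
  have hle := resStab_le_quotStab_of_extended A D Q (hext Q hQ)
  obtain ⟨d, hd⟩ := exists_residue_of_fixed A D hinj θ (fun g hg => hfix g (hle hg).1 (hle hg).2)
  rw [mem_subK_iff A D Q hinj hQ M hM]
  refine ⟨d, (resMap A D Q hinj hQ M hM).injective ?_⟩
  rw [resMap_sub, hθx]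
  have h1 : ResidueField.map (toInt A Q) (residue S (algebraMap D S d)) =
      ResidueField.map (toInt A Q) (residue S θ) := by rw [hd]
  exact h1

/-- Let A be an excellent henselian reduced local ring, S a strict henselization of A and D an
A-subalgebra of S which is finitely generated as an A-module. Write D' for the integral closure of D
in its total ring of fractions. Then D is etale over A and every minimal prime ideal of S is
generated by its contraction to D, if and only if, for every maximal ideal M of D' with residue
field l, writing k_0 for the subfield of l generated by the image of D (the image itself, a copy of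
the residue field of D), k_0 is separably closed in l: every element of l separable over k_0 lies in
k_0. -/
theorem result
    (A S : Type u) [CommRing A] [HenselianLocalRing A] [IsReduced A] (hA : EGA4.IsExcellent A)
    [CommRing S] [IsLocalRing S] [Algebra A S] [IsLocalHom (algebraMap A S)]
    [Hensel.IsStrictHenselization A S] (D : Subalgebra A S) [Module.Finite A D] :
    (Algebra.Etale A D ∧
        ∀ Q ∈ minimalPrimes S, Q = Ideal.map (algebraMap D S) (Q.comap (algebraMap D S))) ↔
      ∀ (M : Ideal (integralClosure D (FractionRing D))) [M.IsMaximal],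
        separableClosure (Subfield.closure (Set.range ((algebraMap (integralClosure D (FractionRing D)) M.ResidueField).comp (algebraMap D (integralClosure D (FractionRing D)))))) M.ResidueField = ⊥ := by
  have hN : IsNoetherianRing A := hA.1
  have hSred : IsReduced S := (Groth.Agent.S2747.result A S).mpr inferInstance
  constructor
  · rintro ⟨het, hext⟩ M hMm
    rw [eq_bot_iff]
    intro x hx
    have h1 := bot_of A S D het hext M x (mem_separableClosure_iff.mp hx)
    exact IntermediateField.mem_bot.mpr ⟨⟨x, h1⟩, rfl⟩
  · intro hbot
    refine of_bot A S D fun M _ x hx => ?_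
    have h1 : x ∈ separableClosure (subK D M) M.ResidueField := mem_separableClosure_iff.mpr hx
    rw [hbot M] at h1
    obtain ⟨y, rfl⟩ := IntermediateField.mem_bot.mp h1
    exact y.2

end Groth.Agent.S16436
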