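import Groth.Statements.S16437
import Groth.Agent.Hensel.K143.SHEps
import Groth.Agent.Hensel.K143.EssEt

set_option autoImplicit false
universe u
open Hensel

namespace Groth.Agent.S16437

open K143.SH

theorem finite_of_embedding (A S : Type u) [CommRing A] [HenselianLocalRing A] [IsNoetherianRing A]
    [CommRing S] [IsLocalRing S] [Algebra A S] [IsLocalHom (algebraMap A S)]
    [Hensel.IsStrictHenselization A S] (k₁ : Type u) [Field k₁] [Algebra (IsLocalRing.ResidueField A) k₁]
    (Q : Ideal S) (ε : k₁ →ₐ[IsLocalRing.ResidueField A] IsLocalRing.ResidueField S)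
    (hε : ∀ y, ∃ x : S, (∀ g ∈ stab (A := A) Q, g x = x) ∧ IsLocalRing.residue S x = ε y) :
    FiniteDimensional (IsLocalRing.ResidueField A) k₁ := by
  have hSN : IsNoetherianRing S := (Groth.Agent.S0540.result A S).mp inferInstance
  obtain ⟨s, hs⟩ := exists_finset_stab A Q
  obtain ⟨θ, f, hθ, hθ1, hθ2⟩ := exists_stage_fixed A (stab (A := A) Q) s hs
  have hle : ∀ y, ε y ∈ IntermediateField.adjoin (IsLocalRing.ResidueField A) {IsLocalRing.residue S θ} := by
    intro y
    obtain ⟨x, hx, hxy⟩ := hε y
    obtain ⟨p, rfl⟩ := hθ2 x hx
    rw [← hxy, residue_aeval]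
    exact IntermediateField.algebra_adjoin_le_adjoin _ _ (Polynomial.aeval_mem_adjoin_singleton _ _)
  have hfin : FiniteDimensional (IsLocalRing.ResidueField A)
      (IntermediateField.adjoin (IsLocalRing.ResidueField A) {IsLocalRing.residue S θ}) :=
    IntermediateField.adjoin.finiteDimensional hθ.isIntegral
  let ε' : k₁ →ₐ[IsLocalRing.ResidueField A]
      (IntermediateField.adjoin (IsLocalRing.ResidueField A) {IsLocalRing.residue S θ}) :=
    ε.codRestrict (IntermediateField.adjoin (IsLocalRing.ResidueField A) {IsLocalRing.residue S θ}).toSubalgebra hle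
  exact FiniteDimensional.of_injective ε'.toLinearMap ε'.toRingHom.injective

open IsLocalRing in
/-- Let A be an excellent henselian local domain with residue field k, whose integral closure A' in its
fraction field is a local ring (as it is, A being henselian) with local inclusion A → A' and residue
field k'; let k^s be the separable closure of k in k', S a strict henselization of A, and E a local
ring which is an essentially etale local A-algebra with local structure map, together with an
A-algebra map E → S. Then every minimal prime ideal of S is generated by its contraction to E if and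
only if the number of k-algebra maps from k^s to the residue field of E equals the degree [k^s : k];
equivalently, the minimal polynomial of a primitive element of k^s over k splits into linear factors
over the residue field of E. -/
theorem result
    (A S E : Type u) [CommRing A] [HenselianLocalRing A] [IsDomain A] (hA : EGA4.IsExcellent A)
    [IsLocalRing (integralClosure A (FractionRing A))] [IsLocalHom (algebraMap A (integralClosure A (FractionRing A)))]
    [CommRing S] [IsLocalRing S] [Algebra A S] [IsLocalHom (algebraMap A S)]
    [Hensel.IsStrictHenselization A S]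
    [CommRing E] [IsLocalRing E] [Algebra A E] [IsLocalHom (algebraMap A E)]
    (hE : EGA4loc.IsEssentiallyEtale A E) [Algebra E S] [IsScalarTower A E S] :
    (∀ Q ∈ minimalPrimes S, Q = Ideal.map (algebraMap E S) (Q.comap (algebraMap E S))) ↔
      Nat.card (separableClosure (ResidueField A) (ResidueField (integralClosure A (FractionRing A))) →ₐ[ResidueField A]
          ResidueField E) =
        Module.finrank (ResidueField A)
          (separableClosure (ResidueField A) (ResidueField (integralClosure A (FractionRing A)))) := by
  classical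
  have hN : IsNoetherianRing A := hA.1
  have hSN : IsNoetherianRing S := (Groth.Agent.S0540.result A S).mp inferInstance
  have hSred : IsReduced S := (Groth.Agent.S2747.result A S).mpr inferInstance
  have hff : Module.FaithfullyFlat A S := Groth.Agent.S0539.result A S
  have hinjA : Function.Injective (algebraMap A S) := FaithfulSMul.algebraMap_injective A S
  have hEfin : Module.Finite A E := K143.EssEt.module_finite A E hE
  have hEet : Algebra.Etale A E := K143.EssEt.etale A E hE
  have hinjE : Function.Injective (algebraMap E S) := injective_of_etale A E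
  have hlocE : IsLocalHom (algebraMap E S) := isLocalHom_of_unramified A E
  have hSc : IsSepClosure (ResidueField A) (ResidueField S) := Hensel.IsStrictHenselization.isSepClosure
  have hSs : Algebra.IsSeparable (ResidueField A) (ResidueField S) := hSc.separable
  have hSc' : IsSepClosed (ResidueField S) := hSc.sep_closed
  -- the embedding of residue fields
  let i : ResidueField E →ₐ[ResidueField A] ResidueField S :=
    { ResidueField.map (algebraMap E S) with
      commutes' := fun a => by
        obtain ⟨a, rfl⟩ := residue_surjective a
        change residue S (algebraMap E S (algebraMap A E a)) = residue S (algebraMap A S a)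
        rw [← IsScalarTower.algebraMap_apply] }
  have hi : ∀ e, i (residue E e) = residue S (algebraMap E S e) := fun e => rfl
  have hiinj : Function.Injective i := i.toRingHom.injective
  set k₁ := separableClosure (ResidueField A) (ResidueField (integralClosure A (FractionRing A))) with hk₁
  -- minimal primes exist
  obtain ⟨Q₀, hQ₀⟩ : (minimalPrimes S).Nonempty := by
    obtain ⟨Q, hQ, -⟩ := Ideal.exists_minimalPrimes_le (I := (⊥ : Ideal S)) (J := maximalIdeal S) bot_le
    exact ⟨Q, hQ⟩
  have hQ₀p : Q₀.IsPrime := hQ₀.1.1
  obtain ⟨ε₀, hε₀1, hε₀2⟩ := exists_embedding A Q₀ hinjA hQ₀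
  have hfin : FiniteDimensional (ResidueField A) k₁ := finite_of_embedding A S k₁ Q₀ ε₀ hε₀1
  -- the number of embeddings in the residue field of `S`
  have hcardS : Nat.card (k₁ →ₐ[ResidueField A] ResidueField S) = Module.finrank (ResidueField A) k₁ := by
    refine AlgHom.natCard_of_splits _ _ _ fun x => ?_
    exact IsSepClosed.splits_of_separable _ (Polynomial.Separable.map (Algebra.IsSeparable.isSeparable _ x))
  have hfinS : Finite (k₁ →ₐ[ResidueField A] ResidueField S) := inferInstance
  let c : (k₁ →ₐ[ResidueField A] ResidueField E) → (k₁ →ₐ[ResidueField A] ResidueField S) := fun τ => i.comp τ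
  have hcinj : Function.Injective c := by
    intro τ τ' h
    ext x
    exact hiinj (congrArg (fun φ : k₁ →ₐ[ResidueField A] ResidueField S => φ x) h)
  have hcard : Nat.card (k₁ →ₐ[ResidueField A] ResidueField E) = Module.finrank (ResidueField A) k₁ ↔
      Function.Surjective c := by
    rw [← hcardS]
    constructor
    · intro h
      exact ((Nat.bijective_iff_injective_and_card c).mpr ⟨hcinj, h⟩).2
    · intro h
      exact Nat.card_eq_of_bijective c ⟨hcinj, h⟩
  rw [hcard]
  have hext : ∀ Q ∈ minimalPrimes S, (Q = Ideal.map (algebraMap E S) (Q.comap (algebraMap E S)) ↔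
      ∀ x : S, (∀ g ∈ stab (A := A) Q, g x = x) → ∃ e : E, residue S (algebraMap E S e) = residue S x) :=
    fun Q hQ => extended_iff A E hinjE Q hQ
  constructor
  · intro hQ τ
    -- an automorphism `σ` with `σ ∘ ε₀ = τ`
    obtain ⟨α, hα⟩ := Field.exists_primitive_element (ResidueField A) k₁
    have hαi : IsIntegral (ResidueField A) α := Algebra.IsIntegral.isIntegral α
    have hmin : minpoly (ResidueField A) (ε₀ α) = minpoly (ResidueField A) α :=
      minpoly.algHom_eq ε₀ ε₀.toRingHom.injective α
    obtain ⟨σ, hσ⟩ := minpoly.exists_algEquiv_of_root' (K := ResidueField A) (L := ResidueField S)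
      (x := τ α) (y := ε₀ α) (Algebra.IsAlgebraic.isAlgebraic _) (by
        rw [hmin, Polynomial.aeval_algHom_apply, minpoly.aeval, map_zero])
    have hστ : (σ : ResidueField S →ₐ[ResidueField A] ResidueField S).comp ε₀ = τ := by
      have h1 : ∀ x : k₁, ((σ : ResidueField S →ₐ[ResidueField A] ResidueField S).comp ε₀) x = τ x := by
        intro x
        have hx : x ∈ IntermediateField.adjoin (ResidueField A) {α} := by rw [hα]; trivial
        rw [← IntermediateField.mem_toSubalgebra, IntermediateField.adjoin_simple_toSubalgebra_of_isAlgebraic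
          (Algebra.IsAlgebraic.isAlgebraic _), Algebra.adjoin_singleton_eq_range_aeval] at hx
        obtain ⟨p, rfl⟩ := hx
        change ((σ : ResidueField S →ₐ[ResidueField A] ResidueField S).comp ε₀) (Polynomial.aeval α p) =
          τ (Polynomial.aeval α p)
        rw [← Polynomial.aeval_algHom_apply, ← Polynomial.aeval_algHom_apply]
        change Polynomial.aeval (σ (ε₀ α)) p = _
        rw [hσ]
      exact AlgHom.ext h1
    obtain ⟨g, hg⟩ := exists_algEquiv A σ
    have hQ₁ := conj_mem_minimalPrimes (A := A) g⁻¹ hQ₀
    have hQ₁' := (hext _ hQ₁).mp (hQ _ hQ₁)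
    have hrange : ∀ y : k₁, τ y ∈ i.range := by
      intro y
      obtain ⟨x, hx, hxy⟩ := hε₀1 y
      have h2 : ∀ g' ∈ stab (A := A) (conj g⁻¹ Q₀), g' (g x) = g x := by
        intro g' hg'
        have h3 : g⁻¹ * g' * g ∈ stab (A := A) Q₀ := by
          rw [mem_stab_iff_conj] at hg' ⊢
          calc conj (g⁻¹ * g' * g) Q₀ = conj g (conj g' (conj g⁻¹ Q₀)) := rfl
            _ = conj g (conj g⁻¹ Q₀) := by rw [hg']
            _ = conj (g⁻¹ * g) Q₀ := rfl
            _ = Q₀ := by rw [inv_mul_cancel]; rfl
        have h4 := congrArg g (hx _ h3)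
        rw [AlgEquiv.mul_apply, AlgEquiv.mul_apply, ← AlgEquiv.mul_apply g g⁻¹, mul_inv_cancel,
          AlgEquiv.one_apply] at h4
        exact h4
      obtain ⟨e, he⟩ := hQ₁' (g x) h2
      refine ⟨residue E e, ?_⟩
      change i (residue E e) = _
      rw [hi, he, hg, hxy]
      exact congrArg (fun φ : k₁ →ₐ[ResidueField A] ResidueField S => φ y) hστ
    let i' : ResidueField E ≃ₐ[ResidueField A] i.range := AlgEquiv.ofInjective i hiinj
    refine ⟨(i'.symm : i.range →ₐ[ResidueField A] ResidueField E).comp (τ.codRestrict i.range hrange), ?_⟩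
    ext y
    change i (i'.symm _) = _
    have h5 : ∀ z, i z = (i' z : ResidueField S) := fun z => rfl
    rw [h5, AlgEquiv.apply_symm_apply]
    rfl
  · intro hsurj Q hQ
    have hQp : Q.IsPrime := hQ.1.1
    rw [hext Q hQ]
    intro x hx
    obtain ⟨ε, hε1, hε2⟩ := exists_embedding A Q hinjA hQ
    obtain ⟨y, hy⟩ := hε2 x hx
    obtain ⟨τ, hτ⟩ := hsurj ε
    obtain ⟨e, he⟩ := residue_surjective (τ y)
    refine ⟨e, ?_⟩
    rw [← hy, ← hi, he, ← hτ]
    rfl

end Groth.Agent.S16437
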