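import Groth.Statements.S16440
import Groth.Agent.Hensel.K143.SHFrac

set_option autoImplicit false
universe u
open Hensel

namespace Groth.Agent.S16440

/-- Let A be an excellent henselian reduced local ring, S a strict henselization of A and Q a minimal
prime ideal of S; let K be the fraction field of the domain S/Q and L the subfield of K generated
over the image of A by a finite subset t of K (an intermediate field between the fraction field of
A/(Q ∩ A) and K, finitely generated over the former). Then the intersection of L with S/Q is (the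
underlying set of) an A-subalgebra D' of S/Q which is a finitely generated A-module and formally
unramified over A. (The source adds that S/Q is a strict henselization of D'; that assertion is not
stated here.) -/
theorem result
    (A S : Type u) [CommRing A] [HenselianLocalRing A] [IsReduced A] (hA : EGA4.IsExcellent A)
    [CommRing S] [IsLocalRing S] [Algebra A S] [IsLocalHom (algebraMap A S)]
    [Hensel.IsStrictHenselization A S] (Q : Ideal S) (hQ : Q ∈ minimalPrimes S) [Q.IsPrime]
    (t : Finset (FractionRing (S ⧸ Q))) :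
    ∃ D' : Subalgebra A (S ⧸ Q), (D' : Set (S ⧸ Q)) = (algebraMap (S ⧸ Q) (FractionRing (S ⧸ Q))) ⁻¹'
        (Subfield.closure (Set.range (algebraMap A (FractionRing (S ⧸ Q))) ∪
          (t : Set (FractionRing (S ⧸ Q)))) : Set (FractionRing (S ⧸ Q))) ∧
      Module.Finite A D' ∧ Algebra.FormallyUnramified A D' := by
  classical
  have hN : IsNoetherianRing A := hA.1
  have hSN : IsNoetherianRing S := (Groth.Agent.S0540.result A S).mp inferInstance
  obtain ⟨y, hy⟩ := K143.SH.exists_generator A Q t
  obtain ⟨s, hs⟩ := K143.SH.exists_finset_stab A Q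
  -- the subgroup fixing `y` modulo `Q`
  let N : Subgroup (S ≃ₐ[A] S) :=
    { carrier := {g | g ∈ K143.SH.stab (A := A) Q ∧ g y - y ∈ Q}
      one_mem' := ⟨one_mem _, by simp⟩
      mul_mem' := by
        rintro a b ⟨ha, ha'⟩ ⟨hb, hb'⟩
        refine ⟨mul_mem ha hb, ?_⟩
        have h1 : a (b y) - a y ∈ Q := by
          rw [← map_sub]
          exact (ha _).mpr hb'
        have h2 := Q.add_mem h1 ha'
        rw [sub_add_sub_cancel] at h2
        exact h2
      inv_mem' := by
        rintro a ⟨ha, ha'⟩
        refine ⟨inv_mem ha, ?_⟩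
        rw [← ha, map_sub, ← AlgEquiv.mul_apply, mul_inv_cancel, AlgEquiv.one_apply, ← neg_sub]
        exact Q.neg_mem ha' }
  obtain ⟨θ, f, hθ, hθN, hfix⟩ := K143.SH.exists_stage_fixed A N (insert y s) (fun g hg => by
    refine ⟨hs g fun x hx => hg x (Finset.mem_insert_of_mem hx), ?_⟩
    rw [hg y (Finset.mem_insert_self _ _), sub_self]
    exact Q.zero_mem)
  let ψ : AdjoinRoot f →ₐ[A] S ⧸ Q := (Ideal.Quotient.mkₐ A Q).comp hθ.hom
  have hψ : ∀ p : Polynomial A, ψ (AdjoinRoot.mk f p) = Ideal.Quotient.mk Q (Polynomial.aeval θ p) := fun p => rfl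
  refine ⟨ψ.range, ?_, ?_, ?_⟩
  · rw [hy]
    ext x
    obtain ⟨x, rfl⟩ := Ideal.Quotient.mk_surjective x
    have h1 := K143.SH.toFrac_mem_closure_iff A Q hQ y x
    constructor
    · rintro ⟨z, hz⟩
      obtain ⟨p, rfl⟩ := AdjoinRoot.mk_surjective z
      change ψ (AdjoinRoot.mk f p) = _ at hz
      rw [hψ, Ideal.Quotient.eq] at hz
      refine h1.mpr fun g hg hgy => ?_
      have h2 : g (Polynomial.aeval θ p) = Polynomial.aeval θ p := by
        rw [K143.SH.algEquiv_aeval, hθN g ⟨hg, hgy⟩]
      have h3 : g x - x = (Polynomial.aeval θ p - x) - g (Polynomial.aeval θ p - x) := by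
        rw [map_sub, h2]; ring
      rw [h3]
      exact Q.sub_mem hz ((hg _).mpr hz)
    · intro hx
      have h2 := h1.mp hx
      obtain ⟨z, hz, hzx⟩ := K143.SH.exists_fixed_sub_mem A N Q x (fun g hg => h2 g hg.1 hg.2)
      obtain ⟨p, rfl⟩ := hfix z hz
      exact ⟨AdjoinRoot.mk f p, Ideal.Quotient.eq.mpr hzx⟩
  · have := hθ.finite
    exact Module.Finite.of_surjective ψ.rangeRestrict.toLinearMap ψ.rangeRestrict_surjective
  · have := hθ.etale
    exact Algebra.FormallyUnramified.of_surjective ψ.rangeRestrict ψ.rangeRestrict_surjective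

end Groth.Agent.S16440
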