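import Groth.Statements.S16441
import Groth.Agent.EGA4loc.K886.FracFin
import Groth.Agent.EGA4loc.K886.Residue

set_option autoImplicit false
universe u
open EGA4loc

namespace Groth.Agent.S16441

/-- Let A be a reduced local ring with finitely many minimal prime ideals, S a strict henselization of
A, and D an A-subalgebra of S which is a local ring dominated by S (local inclusion). Then the total
ring of fractions K_D of D is finitely generated over that of A — there is a finite subset t of K_D
such that every element of K_D, multiplied by (the image of) some non-zero-divisor of A, is a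
polynomial expression in t with coefficients from A — if and only if D is contained in some
A-subalgebra E of S which is a local ring and an essentially etale local A-algebra (a localization
of an etale A-algebra at a prime over the maximal ideal). -/
theorem result
    (A S : Type u) [CommRing A] [IsLocalRing A] [IsReduced A] (hmin : (minimalPrimes A).Finite)
    [CommRing S] [IsLocalRing S] [Algebra A S] [IsLocalHom (algebraMap A S)]
    [Hensel.IsStrictHenselization A S] (D : Subalgebra A S) [IsLocalRing D]
    [IsLocalHom (algebraMap D S)] :
    (∃ t : Finset (FractionRing D), ∀ x : FractionRing D, ∃ a ∈ nonZeroDivisors A,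
        algebraMap A (FractionRing D) a * x ∈ Algebra.adjoin A (t : Set (FractionRing D))) ↔
      ∃ E : Subalgebra A S, D ≤ E ∧ ∃ _ : IsLocalRing E, EGA4loc.IsEssentiallyEtale A E := by
  have hL := Groth.Agent.Hensel.Lazard.laz_of_isStrictHenselization A S
  constructor
  · intro h
    obtain ⟨E, hDE, hE⟩ := K886.FracFin.exists_le_of_fg hmin hL D (FractionRing D) h
    exact ⟨E, hDE, Groth.Agent.UnramB.EssEtale.isLocalRing_of hE, hE⟩
  · rintro ⟨E, hDE, _, hE⟩
    obtain ⟨t, ht⟩ := K886.FracFin.fg_of_le hmin hL D E hDE hE (FractionRing D)
    refine ⟨t, fun x => ?_⟩
    obtain ⟨a, ha, hx⟩ := ht x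
    exact ⟨a, ha, Algebra.span_le_adjoin A _ hx⟩

end Groth.Agent.S16441
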