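import Groth.Statements.S16443
import Groth.Agent.EGA4loc.K886.FracFin

set_option autoImplicit false
universe u
open EGA4loc

namespace Groth.Agent.S16443

/-- Let A be a reduced local ring with finitely many minimal prime ideals, E a local ring which is an
essentially etale local A-algebra with local structure map, K_E the total ring of fractions of E,
and L an A-subalgebra of K_E containing an inverse of the image of every non-zero-divisor of A (so L
is an intermediate ring between the total rings of fractions of A and of E). Then the preimage D of
L in E is (the underlying set of) an A-subalgebra of E which is a local ring with local inclusion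
into E — its maximal ideal lies under that of E — and L is the total ring of fractions of D in the
sense that every element of L is the image of an element of D times the inverse of the image of a
non-zero-divisor of A. -/
theorem result
    (A E : Type u) [CommRing A] [IsLocalRing A] [IsReduced A] (hmin : (minimalPrimes A).Finite)
    [CommRing E] [IsLocalRing E] [Algebra A E] [IsLocalHom (algebraMap A E)]
    (hE : EGA4loc.IsEssentiallyEtale A E) (L : Subalgebra A (FractionRing E))
    (hL : ∀ s ∈ nonZeroDivisors A, ∃ y ∈ L, algebraMap A (FractionRing E) s * y = 1) :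
    ∃ D : Subalgebra A E, (D : Set E) = (algebraMap E (FractionRing E)) ⁻¹' (L : Set (FractionRing E)) ∧
      ∃ _ : IsLocalRing D, IsLocalHom (algebraMap D E) ∧
        ∀ l ∈ L, ∃ d ∈ D, ∃ s ∈ nonZeroDivisors A, ∃ y ∈ L,
          algebraMap A (FractionRing E) s * y = 1 ∧ l = algebraMap E (FractionRing E) d * y := by
  have htr : K886.FracRing.TR A E := K886.FracFin.tr_of_isEssentiallyEtale hmin hE
  have hreg : K886.FracRing.Reg A E := K886.FracFin.reg_of_isEssentiallyEtale hE
  have htrQ : K886.FracRing.TR A (FractionRing E) :=
    K886.FracRing.tr_fractionRing (FractionRing E) hreg htr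
  let D : Subalgebra A E := L.comap (IsScalarTower.toAlgHom A E (FractionRing E))
  have hD : ∀ x : E, x ∈ D ↔ algebraMap E (FractionRing E) x ∈ L := fun x => Iff.rfl
  have hloc : IsLocalHom (algebraMap D E) := by
    constructor
    rintro ⟨d, hd⟩ hu
    obtain ⟨v, hv⟩ := hu
    have hv' : (v : E) = d := hv
    have h1 : algebraMap E (FractionRing E) d * algebraMap E (FractionRing E) ↑v⁻¹ = 1 := by
      rw [← map_mul, ← hv', Units.mul_inv, map_one]
    have h2 : (↑v⁻¹ : E) ∈ D := K886.FracRing.inv_mem (FractionRing E) htrQ L hL hd h1
    refine IsUnit.of_mul_eq_one ⟨_, h2⟩ (Subtype.ext ?_)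
    change d * ↑v⁻¹ = 1
    rw [← hv', Units.mul_inv]
  have hDl : IsLocalRing D := RingHom.domain_isLocalRing (algebraMap D E)
  refine ⟨D, rfl, hDl, hloc, fun l hl => ?_⟩
  obtain ⟨a, ha, e, he⟩ := K886.FracRing.exists_mul_eq (FractionRing E) htr l
  obtain ⟨y, hy, hay⟩ := hL a ha
  refine ⟨e, ?_, a, ha, y, hy, hay, ?_⟩
  · rw [hD, ← he]
    exact L.mul_mem (L.algebraMap_mem a) hl
  · rw [← he]
    linear_combination (-l) * hay

end Groth.Agent.S16443
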