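-- Statement S16444
import Groth.Statements.S16444
import Groth.Agent.S16430
import Groth.Agent.Hensel.K143.EssEt
import Groth.Agent.Hensel.K143.PairLocal

set_option autoImplicit false
universe u
open scoped TensorProduct
open Hensel

namespace Groth.Agent.S16444

open IsLocalRing in
/-- `k ⊗_K l = l` for a bijective `K → k`. -/
theorem nonempty_equiv_of_bijective (K k l : Type u) [Field K] [Field k] [CommRing l] [Algebra K k] [Algebra k l]
    [Algebra K l] [IsScalarTower K k l] (h : Function.Bijective (algebraMap K k)) :
    Nonempty (k ⊗[K] l ≃ₐ[k] l) := by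
  let f : k ⊗[K] l →ₐ[k] l := Algebra.TensorProduct.lift (Algebra.ofId k l) (AlgHom.id K l) (fun _ _ => .all _ _)
  have hf : ∀ (a : k) (b : l), f (a ⊗ₜ b) = a • b := fun a b => by
    simp [f, Algebra.smul_def, Algebra.ofId_apply]
  refine ⟨AlgEquiv.ofBijective f ⟨?_, ?_⟩⟩
  · rw [injective_iff_map_eq_zero]
    intro z hz
    have hz' : ∃ b : l, z = 1 ⊗ₜ[K] b := by
      induction z using TensorProduct.induction_on with
      | zero => exact ⟨0, by simp⟩
      | tmul a b =>
        obtain ⟨c, rfl⟩ := h.2 a
        exact ⟨c • b, by rw [← TensorProduct.smul_tmul, Algebra.smul_def, mul_one]⟩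
      | add x y hx hy =>
        have hall : ∀ w : k ⊗[K] l, ∃ b : l, w = 1 ⊗ₜ[K] b := by
          intro w
          induction w using TensorProduct.induction_on with
          | zero => exact ⟨0, by simp⟩
          | tmul a b =>
            obtain ⟨c, rfl⟩ := h.2 a
            exact ⟨c • b, by rw [← TensorProduct.smul_tmul, Algebra.smul_def, mul_one]⟩
          | add x y hx hy =>
            obtain ⟨a, rfl⟩ := hx
            obtain ⟨b, rfl⟩ := hy
            exact ⟨a + b, by rw [TensorProduct.tmul_add]⟩
        exact hall _
    obtain ⟨b, rfl⟩ := hz'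
    rw [hf, one_smul] at hz
    rw [hz, TensorProduct.tmul_zero]
  · intro b
    exact ⟨1 ⊗ₜ b, by rw [hf, one_smul]⟩

open IsLocalRing in
/-- Let A be a complete Noetherian local ring and R → A a local homomorphism from a henselian Noetherian
local ring R inducing a bijection on residue fields. Then every local ring E which is an essentially
etale local A-algebra with local structure map is A-isomorphic to A ⊗_R S for some local ring S
which is a finite etale R-algebra (its residue field is then that of E). (The published statement
takes R to be a coefficient ring of A, that is a field or an image of a complete p-ring with the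
same residue field; its proof uses only that R is henselian with the same residue field as A, which
is the hypothesis made here.) -/
theorem result
    (R A E : Type u) [CommRing R] [HenselianLocalRing R] [IsNoetherianRing R]
    [CommRing A] [IsLocalRing A] [IsNoetherianRing A] [IsAdicComplete (maximalIdeal A) A]
    [Algebra R A] [IsLocalHom (algebraMap R A)]
    (hres : Function.Bijective (ResidueField.map (algebraMap R A)))
    [CommRing E] [IsLocalRing E] [Algebra A E] [IsLocalHom (algebraMap A E)]
    (hE : EGA4loc.IsEssentiallyEtale A E) :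
    ∃ (S : Type u) (_ : CommRing S) (_ : IsLocalRing S) (_ : Algebra R S),
      Module.Finite R S ∧ Algebra.Etale R S ∧ Nonempty (E ≃ₐ[A] A ⊗[R] S) := by
  have hAh : HenselianLocalRing A :=
    K143.PairLocal.henselianLocalRing_of_henselianRing A (IsAdicComplete.henselianRing A (maximalIdeal A))
  have hEfin : Module.Finite A E := K143.EssEt.module_finite A E hE
  have hEet : Algebra.Etale A E := K143.EssEt.etale A E hE
  let l := ResidueField E
  let K := ResidueField R
  let k := ResidueField A
  have hKk : Function.Bijective (algebraMap K k) := hres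
  letI : Algebra K l := ((algebraMap k l).comp (algebraMap K k)).toAlgebra
  haveI : IsScalarTower K k l := .of_algebraMap_eq fun _ => rfl
  haveI : Module.Finite K k := Module.Finite.of_surjective (Algebra.linearMap K k) hKk.2
  haveI : Module.Finite k l := inferInstance
  haveI : Module.Finite K l := Module.Finite.trans k l
  haveI : Algebra.IsSeparable k l := inferInstance
  haveI : Algebra.IsSeparable K k := ⟨fun x => by
    obtain ⟨y, rfl⟩ := hKk.2 x
    exact isSeparable_algebraMap y⟩
  haveI : Algebra.IsSeparable K l := Algebra.IsSeparable.trans K k l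
  obtain ⟨S, hS, hSl, hSA, hSh, hSfin, hSet, ⟨eS⟩⟩ := Groth.Agent.S16430.result R l
  refine ⟨S, hS, hSl, hSA, hSfin, hSet, ?_⟩
  have hSm : (maximalIdeal R).map (algebraMap R S) = maximalIdeal S :=
    Algebra.FormallyUnramified.map_maximalIdeal
  have hEm : (maximalIdeal A).map (algebraMap A E) = maximalIdeal E :=
    Algebra.FormallyUnramified.map_maximalIdeal
  let e1 : (K ⊗[R] S) ≃ₐ[K] l := (K143.EssEt.fibreEquiv R S hSm).trans eS
  let e2 : (k ⊗[A] E) ≃ₐ[k] l := K143.EssEt.fibreEquiv A E hEm
  obtain ⟨e3⟩ := nonempty_equiv_of_bijective K k l hKk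
  let e4 : k ⊗[K] (K ⊗[R] S) ≃ₐ[k] k ⊗[K] l := Algebra.TensorProduct.congr AlgEquiv.refl e1
  haveI : IsScalarTower R K k := .of_algebraMap_eq fun _ => rfl
  let e5 : k ⊗[K] (K ⊗[R] S) ≃ₐ[k] k ⊗[R] S := Algebra.TensorProduct.cancelBaseChange R K k k S
  let e6 : k ⊗[A] (A ⊗[R] S) ≃ₐ[k] k ⊗[R] S := Algebra.TensorProduct.cancelBaseChange R A k k S
  have e : (k ⊗[A] E) ≃ₐ[k] k ⊗[A] (A ⊗[R] S) :=
    e2.trans (e3.symm.trans (e4.symm.trans (e5.trans e6.symm)))
  exact K143.EssEt.nonempty_algEquiv A E (A ⊗[R] S) e

end Groth.Agent.S16444
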