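import Groth.Statements.S16445
import Groth.Agent.S16440
import Groth.Agent.S2651
import Groth.Agent.S0427
import Groth.Agent.S0505

set_option autoImplicit false
universe u
open Hensel

namespace Groth.Agent.S16445

/-- Let A be an excellent henselian reduced local ring, S a strict henselization of A and Q a minimal
prime ideal of S; let K be the fraction field of the domain S/Q and L the subfield of K generated
over the image of A by a finite subset t of K. Then the intersection of L with S/Q is (the
underlying set of) an A-subalgebra D' of S/Q which is an excellent henselian local ring (a domain,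
as a subring of S/Q) whose fraction field is L: every element of L is the quotient of the images of
two elements of D'. (The source's further description of the completion of D' is not stated here.) -/
theorem result
    (A S : Type u) [CommRing A] [HenselianLocalRing A] [IsReduced A] (hA : EGA4.IsExcellent A)
    [CommRing S] [IsLocalRing S] [Algebra A S] [IsLocalHom (algebraMap A S)]
    [Hensel.IsStrictHenselization A S] (Q : Ideal S) (hQ : Q ∈ minimalPrimes S) [Q.IsPrime]
    (t : Finset (FractionRing (S ⧸ Q))) :
    ∃ D' : Subalgebra A (S ⧸ Q), (D' : Set (S ⧸ Q)) = (algebraMap (S ⧸ Q) (FractionRing (S ⧸ Q))) ⁻¹'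
        (Subfield.closure (Set.range (algebraMap A (FractionRing (S ⧸ Q))) ∪
          (t : Set (FractionRing (S ⧸ Q)))) : Set (FractionRing (S ⧸ Q))) ∧
      EGA4.IsExcellent D' ∧ ∃ _ : HenselianLocalRing D',
        ∀ l ∈ Subfield.closure (Set.range (algebraMap A (FractionRing (S ⧸ Q))) ∪
            (t : Set (FractionRing (S ⧸ Q)))),
          ∃ a ∈ D', ∃ b ∈ D', algebraMap (S ⧸ Q) (FractionRing (S ⧸ Q)) b ≠ 0 ∧
            l * algebraMap (S ⧸ Q) (FractionRing (S ⧸ Q)) b =
              algebraMap (S ⧸ Q) (FractionRing (S ⧸ Q)) a := by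
  classical
  obtain ⟨D', h1, h2, -⟩ := Groth.Agent.S16440.result A S hA Q hQ t
  have hloc : IsLocalRing D' := Groth.Agent.S0427.isLocalRing_of_finite A D'
  have hH : HenselianLocalRing D' := Groth.Agent.S0505.result A D'
  refine ⟨D', h1, Groth.Agent.S2651.result A hA D', hH, ?_⟩
  intro l hl
  obtain ⟨x, a, ha, hla⟩ := K143.SH.exists_toFrac_div_algebraMap A Q l
  have h3 : algebraMap A (FractionRing (S ⧸ Q)) a ≠ 0 := fun h0 => by
    rw [← K143.SH.toFrac_algebraMap A Q] at h0
    exact ha ((K143.SH.toFrac_eq_zero_iff _).mp h0)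
  have h4 : l * algebraMap A (FractionRing (S ⧸ Q)) a = K143.SH.toFrac A Q x := by
    rw [hla, div_mul_cancel₀ _ h3]
  have h5 : Ideal.Quotient.mk Q x ∈ D' := by
    change Ideal.Quotient.mk Q x ∈ (D' : Set (S ⧸ Q))
    rw [h1]
    change K143.SH.toFrac A Q x ∈ Subfield.closure _
    rw [← h4]
    exact mul_mem hl (Subfield.subset_closure (Or.inl ⟨a, rfl⟩))
  refine ⟨Ideal.Quotient.mk Q x, h5, algebraMap A (S ⧸ Q) a, D'.algebraMap_mem a, ?_, ?_⟩
  · rw [← IsScalarTower.algebraMap_apply]
    exact h3
  · rw [← IsScalarTower.algebraMap_apply]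
    exact h4

end Groth.Agent.S16445
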