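import Groth.Statements.S16446
import Groth.Agent.EGA4loc.K886.Union
import Groth.Agent.Hensel.K143.SHFrac

set_option autoImplicit false
universe u
open Hensel

namespace Groth.Agent.S16446

/-- Let A be an excellent henselian reduced local ring, S a strict henselization of A and Q a minimal
prime ideal of S with contraction q to A; let K be the fraction field of S/Q and L the subfield of K
generated over the image of A by a finite subset t of K. Then there is an A-subalgebra E of S, a
local ring and an essentially etale local A-algebra, such that (i) every minimal prime ideal of S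
over the ideal qS is generated by its contraction to E, and (ii) every element of S/Q whose image in
K lies in L is the class of an element of E — so that the intersection of L with S/Q equals its
intersection with the image of E. -/
theorem result
    (A S : Type u) [CommRing A] [HenselianLocalRing A] [IsReduced A] (hA : EGA4.IsExcellent A)
    [CommRing S] [IsLocalRing S] [Algebra A S] [IsLocalHom (algebraMap A S)]
    [Hensel.IsStrictHenselization A S] (Q : Ideal S) (hQ : Q ∈ minimalPrimes S) [Q.IsPrime]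
    (t : Finset (FractionRing (S ⧸ Q))) :
    ∃ E : Subalgebra A S, ∃ _ : IsLocalRing E, EGA4loc.IsEssentiallyEtale A E ∧
      (∀ Q' ∈ ((Q.comap (algebraMap A S)).map (algebraMap A S)).minimalPrimes,
        Q' = Ideal.map (algebraMap E S) (Q'.comap (algebraMap E S))) ∧
      ∀ x : S, algebraMap (S ⧸ Q) (FractionRing (S ⧸ Q)) (Ideal.Quotient.mk Q x) ∈
          Subfield.closure (Set.range (algebraMap A (FractionRing (S ⧸ Q))) ∪
            (t : Set (FractionRing (S ⧸ Q)))) →
        ∃ e ∈ E, Ideal.Quotient.mk Q e = Ideal.Quotient.mk Q x := by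
  classical
  have hN : IsNoetherianRing A := hA.1
  have hSN : IsNoetherianRing S := (Groth.Agent.S0540.result A S).mp inferInstance
  have hflat : Module.Flat A S := (Groth.Agent.S0539.result A S).toFlat
  have hL := Groth.Agent.Hensel.Lazard.laz_of_isStrictHenselization A S
  set I : Ideal S := (Q.comap (algebraMap A S)).map (algebraMap A S) with hI
  have hIQ : I ≤ Q := Ideal.map_comap_le
  have hfin : (I.minimalPrimes).Finite := Ideal.finite_minimalPrimes_of_isNoetherianRing S I
  -- generators of the ideals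
  have hg : ∀ P : Ideal S, ∃ s : Finset S, Ideal.span (s : Set S) = P := fun P =>
    (isNoetherianRing_iff_ideal_fg S).mp inferInstance P
  choose gen hgen using hg
  have hdiv : ∀ z : FractionRing (S ⧸ Q), ∃ x y : S, y ∉ Q ∧
      z = K143.SH.toFrac A Q x / K143.SH.toFrac A Q y := fun z => K143.SH.exists_toFrac_div A Q z
  choose nm dn hdn hz using hdiv
  let s : Set S := (⋃ P ∈ I.minimalPrimes, (gen P : Set S)) ∪ (nm '' (t : Set _) ∪ dn '' (t : Set _))
  have hs : s.Finite := by
    refine Set.Finite.union (Set.Finite.biUnion hfin fun P _ => Finset.finite_toSet _) ?_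
    exact ((Finset.finite_toSet t).image _).union ((Finset.finite_toSet t).image _)
  obtain ⟨E, hsE, hE⟩ := K886.Union.exists_subalgebra hL s hs
  have hloc : IsLocalRing E := Groth.Agent.UnramB.EssEtale.isLocalRing_of hE
  have hff := K886.Union.faithfullyFlat_subalgebra E hE
  -- (i)
  have h1 : ∀ Q' ∈ I.minimalPrimes, Q' = Ideal.map (algebraMap E S) (Q'.comap (algebraMap E S)) := by
    intro Q' hQ'
    refine le_antisymm ?_ Ideal.map_comap_le
    conv_lhs => rw [← hgen Q']
    rw [Ideal.span_le]
    intro x hx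
    have hxE : x ∈ E := hsE (Or.inl (Set.mem_biUnion hQ' hx))
    have hxQ : x ∈ Q' := by
      rw [← hgen Q']
      exact Ideal.subset_span hx
    exact Ideal.mem_map_of_mem (algebraMap E S) (I := Q'.comap (algebraMap E S)) (x := ⟨x, hxE⟩) hxQ
  have hQI : Q ∈ I.minimalPrimes := by
    refine ⟨⟨inferInstance, hIQ⟩, ?_⟩
    rintro P ⟨hP, -⟩ hle
    exact hQ.2 ⟨hP, bot_le⟩ hle
  refine ⟨E, hloc, hE, h1, ?_⟩
  intro x hx
  -- elements of `L` are fractions of elements of `E`
  let φ : E →+* FractionRing (S ⧸ Q) := (K143.SH.toFrac A Q).toRingHom.comp E.val.toRingHom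
  have hφ : ∀ e : E, φ e = K143.SH.toFrac A Q (e : S) := fun e => rfl
  have h2 : Subfield.closure (Set.range (algebraMap A (FractionRing (S ⧸ Q))) ∪
      (t : Set (FractionRing (S ⧸ Q)))) ≤ Subfield.closure (Set.range φ) := by
    rw [Subfield.closure_le]
    rintro z (⟨a, rfl⟩ | hzt)
    · refine Subfield.subset_closure ⟨algebraMap A E a, ?_⟩
      exact (K143.SH.toFrac A Q).commutes a
    · rw [hz z]
      refine div_mem (Subfield.subset_closure ⟨⟨nm z, hsE (Or.inr (Or.inl ⟨z, hzt, rfl⟩))⟩, rfl⟩)
        (Subfield.subset_closure ⟨⟨dn z, hsE (Or.inr (Or.inr ⟨z, hzt, rfl⟩))⟩, rfl⟩)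
  have h3 := h2 hx
  rw [Subfield.mem_closure_iff] at h3
  have h4 : Subring.closure (Set.range φ) = φ.range := by
    rw [← RingHom.coe_range, Subring.closure_eq]
  rw [h4] at h3
  obtain ⟨_, ⟨e₁, rfl⟩, _, ⟨e₂, rfl⟩, h5⟩ := h3
  have h5' : φ e₁ / φ e₂ = K143.SH.toFrac A Q x := h5
  by_cases h0 : φ e₂ = 0
  · rw [h0, div_zero] at h5'
    refine ⟨0, E.zero_mem, ?_⟩
    have h6 := (K143.SH.toFrac_eq_zero_iff x).mp h5'.symm
    rw [map_zero, Ideal.Quotient.eq_zero_iff_mem.mpr h6]
  · have h6 : (e₂ : S) ∉ Q := fun h => h0 ((K143.SH.toFrac_eq_zero_iff (A := A) (e₂ : S)).mpr h)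
    rw [div_eq_iff h0, hφ, hφ, ← map_mul, K143.SH.toFrac_eq_iff] at h5'
    -- `e₁ ∈ (e₂ E + Q_E) S`
    let QE : Ideal E := Q.comap (algebraMap E S)
    have h7 : e₁ ∈ (Ideal.map (algebraMap E S) (Ideal.span {e₂} ⊔ QE)).comap (algebraMap E S) := by
      rw [Ideal.mem_comap, Ideal.map_sup, Ideal.map_span, Set.image_singleton, ← h1 Q hQI]
      have h8 : algebraMap E S e₁ = x * (e₂ : S) + ((e₁ : S) - x * (e₂ : S)) := by
        change (e₁ : S) = _
        ring
      rw [h8]
      exact Ideal.add_mem _ (Ideal.mem_sup_left (Ideal.mul_mem_left _ _ (Ideal.subset_span rfl)))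
        (Ideal.mem_sup_right h5')
    rw [Ideal.comap_map_eq_self_of_faithfullyFlat, Ideal.mem_span_singleton_sup] at h7
    obtain ⟨c, q, hq, hc⟩ := h7
    refine ⟨c, c.2, ?_⟩
    rw [Ideal.Quotient.eq]
    have h9 : ((c : S) - x) * (e₂ : S) ∈ Q := by
      have h10 : ((c : S) - x) * (e₂ : S) = ((e₁ : S) - x * (e₂ : S)) - (q : S) := by
        have h11 : (c : S) * (e₂ : S) + (q : S) = (e₁ : S) := congrArg (fun z : E => (z : S)) hc
        rw [← h11]; ring
      rw [h10]
      exact Q.sub_mem h5' hq
    exact (Ideal.IsPrime.mem_or_mem inferInstance h9).resolve_right h6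

end Groth.Agent.S16446
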