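import Groth.Statements.S16447
import Groth.Agent.EGA4loc.K886.Inter

set_option autoImplicit false
universe u
open EGA4loc

namespace Groth.Agent.S16447

/-- Let A be a Noetherian reduced local ring, E a local ring which is an essentially etale local
A-algebra with local structure map, K_E the total ring of fractions of E, E' the integral closure of
E in K_E (viewed as an A-subalgebra of K_E), and L an A-subalgebra of K_E containing an inverse of
the image of every non-zero-divisor of A. Let C be the A-subalgebra L ⊓ E' of K_E. Then C is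
integrally closed in L, C has only finitely many maximal ideals, the maximal ideals of C are exactly
the contractions of the maximal ideals of E', and every element of L is an element of C times the
inverse of the image of a non-zero-divisor of A. (The published statement assumes only that A is
reduced; its proof uses that the integral closure of E in K_E has finitely many maximal ideals,
which holds when A is Noetherian and can fail otherwise, so A is taken Noetherian here.) -/
theorem result
    (A E : Type u) [CommRing A] [IsLocalRing A] [IsReduced A] [IsNoetherianRing A]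
    [CommRing E] [IsLocalRing E] [Algebra A E] [IsLocalHom (algebraMap A E)]
    (hE : EGA4loc.IsEssentiallyEtale A E) (L : Subalgebra A (FractionRing E))
    (hL : ∀ s ∈ nonZeroDivisors A, ∃ y ∈ L, algebraMap A (FractionRing E) s * y = 1)
    (C : Subalgebra A (FractionRing E))
    (hC : C = L ⊓ (integralClosure E (FractionRing E)).restrictScalars A) :
    (∀ x ∈ L, IsIntegral C x → x ∈ C) ∧
      {N : Ideal C | N.IsMaximal}.Finite ∧
      (∀ N : Ideal C, N.IsMaximal ↔ ∃ M : Ideal ((integralClosure E (FractionRing E)).restrictScalars A),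
          M.IsMaximal ∧ N = M.comap (Subalgebra.inclusion (hC.trans_le inf_le_right))) ∧
      ∀ l ∈ L, ∃ c ∈ C, ∃ s ∈ nonZeroDivisors A, ∃ y ∈ L,
        algebraMap A (FractionRing E) s * y = 1 ∧ l = c * y := by
  classical
  subst hC
  have hfin := minimalPrimes.finite_of_isNoetherianRing A
  have : Algebra.EssFiniteType A E := Groth.Agent.UnramB.EssEtale.essFiniteType_of hE
  have : IsNoetherianRing E := Algebra.EssFiniteType.isNoetherianRing A E
  have : IsReduced E :=
    Groth.Agent.Hensel.LazardPerm.LazardEtale.isReduced (K886.LazEt.laz_of_isEssentiallyEtale hE)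
  let E' := (integralClosure E (FractionRing E)).restrictScalars A
  have hfinE' : {M : Ideal E' | M.IsMaximal}.Finite := K886.SemiLoc.finite_maximal (FractionRing E)
  have htr := K886.Inter.tr hfin hE (FractionRing E)
  let C : Subalgebra A (FractionRing E) := L ⊓ E'
  let ι : C →ₐ[A] E' := Subalgebra.inclusion inf_le_right
  -- elements of `C` which are units of `E'` are units of `C`
  have hunit : ∀ x : C, IsUnit (ι x) → IsUnit x := by
    intro x hx
    obtain ⟨y, hy⟩ := hx.exists_right_inv
    have h1 : (x : FractionRing E) * y = 1 := congrArg Subtype.val hy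
    have h2 : (y : FractionRing E) ∈ L := K886.FracRing.inv_mem _ htr L hL x.2.1 h1
    exact IsUnit.of_mul_eq_one (⟨y, h2, y.2⟩ : C) (Subtype.ext h1)
  -- proper ideals of `C` are contained in a contraction
  have hprop : ∀ N : Ideal C, N ≠ ⊤ → ∃ M : Ideal E', M.IsMaximal ∧ N ≤ M.comap ι := by
    intro N hN
    have h1 : (N : Set C) ⊆ ⋃ M ∈ (hfinE'.toFinset : Set (Ideal E')), (M.comap ι : Set C) := by
      intro x hx
      have hxu : ¬ IsUnit (ι x) := fun h => hN (Ideal.eq_top_of_isUnit_mem _ hx (hunit x h))
      obtain ⟨M, hM, hxM⟩ := exists_max_ideal_of_mem_nonunits hxu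
      simp only [Set.mem_iUnion]
      exact ⟨M, Finset.mem_coe.mpr (hfinE'.mem_toFinset.mpr hM), hxM⟩
    obtain ⟨M, hM, hNM⟩ := (Ideal.subset_union_prime (s := hfinE'.toFinset)
      (f := fun M : Ideal E' => M.comap ι) ⊥ ⊥
      (fun M hM _ _ => by
        have h2 : M.IsMaximal := hfinE'.mem_toFinset.mp hM
        have := h2.isPrime
        exact Ideal.IsPrime.comap _)).mp h1
    exact ⟨M, hfinE'.mem_toFinset.mp hM, hNM⟩
  have hcomp : ∀ M : Ideal E', M.IsMaximal → (M.comap ι).IsMaximal := by
    intro M hM
    have := hM
    have hMp := hM.isPrime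
    have hne : M.comap ι ≠ ⊤ := Ideal.IsPrime.ne_top (Ideal.IsPrime.comap _)
    obtain ⟨N', hN', hMN'⟩ := Ideal.exists_le_maximal _ hne
    obtain ⟨M', hM', hN'M'⟩ := hprop N' hN'.ne_top
    have hle := hMN'.trans hN'M'
    have hover : ∀ M : Ideal E', M.IsMaximal → ∀ a : A, algebraMap A E' a ∈ M ↔
        a ∈ IsLocalRing.maximalIdeal A := fun M hM a =>
      K886.Inter.algebraMap_mem_iff' (FractionRing E) M hM a
    -- contractions to `A''`
    let A'' : Subalgebra A (FractionRing E) := L ⊓ integralClosure A (FractionRing E)
    have hA''C : A'' ≤ C := fun y hy => ⟨hy.1, IsIntegral.tower_top (A := E) hy.2⟩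
    let j : A'' →ₐ[A] C := Subalgebra.inclusion hA''C
    have : Algebra.IsIntegral A A'' := ⟨fun y => by
      have h1 : IsIntegral A (y : FractionRing E) := y.2.2
      exact (isIntegral_algHom_iff A''.val Subtype.val_injective).mp h1⟩
    have hmaxA : ∀ M : Ideal E', M.IsMaximal → ((M.comap ι).comap j).IsMaximal := by
      intro M hM
      have := hM.isPrime
      have : ((M.comap ι).comap j).IsPrime :=
        Ideal.IsPrime.comap j (hK := Ideal.IsPrime.comap ι)
      refine Ideal.isMaximal_of_isIntegral_of_isMaximal_comap (R := A) ((M.comap ι).comap j) ?_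
      have : ((M.comap ι).comap j).comap (algebraMap A A'') = IsLocalRing.maximalIdeal A :=
        Ideal.ext fun a => hover M hM a
      rw [this]
      exact IsLocalRing.maximalIdeal.isMaximal A
    have heq : (M.comap ι).comap j = (M'.comap ι).comap j :=
      (hmaxA M hM).eq_of_le (hmaxA M' hM').ne_top (Ideal.comap_mono hle)
    -- conclusion
    have hle' : M'.comap ι ≤ M.comap ι := by
      intro x hx
      obtain ⟨s, hsL, hs, hsM, hsx⟩ := K886.Inter.exists_mul_isIntegral hfin hE (FractionRing E) L
        hL x.2.1 x.2.2 M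
      let sx : A'' := ⟨s * x, L.mul_mem hsL x.2.1, hsx⟩
      have h1 : sx ∈ (M'.comap ι).comap j := by
        change (⟨s * x, _⟩ : E') ∈ M'
        exact M'.mul_mem_left ⟨s, hs.tower_top⟩ hx
      rw [← heq] at h1
      have h2 : (⟨s, hs.tower_top⟩ : E') * ι x ∈ M := h1
      exact (hMp.mem_or_mem h2).resolve_left hsM
    have : M.comap ι = N' := le_antisymm hMN' (hN'M'.trans hle')
    rw [this]
    exact hN'
  refine ⟨?_, ?_, ?_, ?_⟩
  · intro x hxL hx
    refine ⟨hxL, ?_⟩
    change IsIntegral E x
    have h1 : IsIntegral (integralClosure E (FractionRing E)) x := by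
      let φ : C →+* integralClosure E (FractionRing E) := ι.toRingHom
      obtain ⟨q, hq, hq0⟩ := hx
      refine ⟨q.map φ, hq.map _, ?_⟩
      rw [Polynomial.eval₂_map]
      exact hq0
    exact isIntegral_trans (R := E) x h1
  · refine (hfinE'.image (Ideal.comap ι)).subset ?_
    intro N hN
    have hN' : N.IsMaximal := hN
    obtain ⟨M, hM, hNM⟩ := hprop N hN'.ne_top
    exact ⟨M, hM, (hN'.eq_of_le (hcomp M hM).ne_top hNM).symm⟩
  · intro N
    constructor
    · intro hN
      obtain ⟨M, hM, hNM⟩ := hprop N hN.ne_top
      exact ⟨M, hM, hN.eq_of_le (hcomp M hM).ne_top hNM⟩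
    · rintro ⟨M, hM, rfl⟩
      exact hcomp M hM
  · intro l hl
    have hTR : K886.FracRing.TR A E := K886.FracFin.tr_of_isEssentiallyEtale hfin hE
    obtain ⟨a, ha, e, he⟩ := K886.FracRing.exists_mul_eq (FractionRing E) hTR l
    obtain ⟨y, hyL, hy⟩ := hL a ha
    refine ⟨algebraMap A (FractionRing E) a * l, ⟨L.mul_mem (L.algebraMap_mem a) hl, ?_⟩, a, ha, y,
      hyL, hy, ?_⟩
    · change IsIntegral E _
      rw [he]
      exact isIntegral_algebraMap
    · linear_combination (-l) * hy

end Groth.Agent.S16447
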