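import Groth.Statements.S16449
import Groth.Agent.EGA4loc.K886.Inter
import Groth.Agent.EGA4loc.K886.FracSub
import Groth.Agent.EGA4loc.K886.EssFin
import Groth.Agent.S2654
import Groth.Agent.Ega4B.NagIntClos

set_option autoImplicit false
universe u
open EGA4loc

namespace Groth.Agent.S16449

/-- Let A be an excellent reduced local ring, E a local ring which is an essentially etale local
A-algebra with local structure map, and D an A-subalgebra of E which is a local ring dominated by E
(local inclusion). Inside the total ring of fractions K_E of E, let D' be the normalization of D —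
the elements of K_E integral over D which are carried into D by the image of some non-zero-divisor
of A (these are the elements of the total ring of fractions of D) — and let E' be the integral
closure of E. Suppose that D' has finitely many maximal ideals and that the inclusion D' → E' is a
semilocal morphism: maximal ideals of E' contract to maximal ideals of D', and every maximal ideal
of D' arises this way. Then D is essentially of finite type over A. -/
theorem result
    (A E : Type u) [CommRing A] [IsLocalRing A] [IsReduced A] (hA : EGA4.IsExcellent A)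
    [CommRing E] [IsLocalRing E] [Algebra A E] [IsLocalHom (algebraMap A E)]
    (hE : EGA4loc.IsEssentiallyEtale A E)
    (D : Subalgebra A E) [IsLocalRing D] [IsLocalHom (algebraMap D E)]
    (D' : Subalgebra A (FractionRing E))
    (hD' : ∀ x : (FractionRing E), x ∈ D' ↔ (IsIntegral D x ∧
      ∃ a ∈ nonZeroDivisors A, ∃ d ∈ D, algebraMap A (FractionRing E) a * x = algebraMap E (FractionRing E) d))
    (hle : D' ≤ ((integralClosure E (FractionRing E)).restrictScalars A))
    (hfin : {N : Ideal D' | N.IsMaximal}.Finite)
    (hmax : ∀ M : Ideal ((integralClosure E (FractionRing E)).restrictScalars A), M.IsMaximal → (M.comap (Subalgebra.inclusion hle)).IsMaximal)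
    (hsurj : ∀ N : Ideal D', N.IsMaximal →
      ∃ M : Ideal ((integralClosure E (FractionRing E)).restrictScalars A), M.IsMaximal ∧ M.comap (Subalgebra.inclusion hle) = N) :
    Algebra.EssFiniteType A D := by
  classical
  have hNoeth : IsNoetherianRing A := hA.1
  have hNag : CAlg.IsNagata A := Groth.Agent.S2654.result A ⟨hA.1, hA.2.2.1, hA.2.2.2⟩
  have hminfin := minimalPrimes.finite_of_isNoetherianRing A
  have : Algebra.EssFiniteType A E := Groth.Agent.UnramB.EssEtale.essFiniteType_of hE
  have : IsReduced E :=
    Groth.Agent.Hensel.LazardPerm.LazardEtale.isReduced (K886.LazEt.laz_of_isEssentiallyEtale hE)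
  have : IsNoetherianRing E := Algebra.EssFiniteType.isNoetherianRing A E
  have : Algebra.EssFiniteType E (FractionRing E) :=
    Algebra.EssFiniteType.of_isLocalization _ (nonZeroDivisors E)
  have : Algebra.EssFiniteType A (FractionRing E) := Algebra.EssFiniteType.comp A E _
  have : IsReduced (FractionRing E) := K886.FracRing.isReduced_of_vnr
    (K886.FracRing.vnr_fractionRing (minimalPrimes.finite_of_isNoetherianRing E) _)
  have hfinA : Module.Finite A (integralClosure A (FractionRing E)) :=
    Groth.Agent.Ega4B.NagIntClos.finite_of_isReduced hNag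
  have hreg : K886.FracRing.Reg A E := K886.FracFin.reg_of_isEssentiallyEtale hE
  have hinj : Function.Injective (algebraMap D (FractionRing E)) := fun x y hxy =>
    Subtype.ext (IsFractionRing.injective E (FractionRing E) hxy)
  have : IsLocalHom (algebraMap A D) := ⟨fun a ha => by
    have h1 : IsUnit (algebraMap A E a) := by
      have : algebraMap A E a = algebraMap D E (algebraMap A D a) := rfl
      rw [this]
      exact ha.map _
    exact isUnit_of_map_unit (algebraMap A E) a h1⟩
  let Q := FractionRing E
  let L : Subalgebra A Q := K886.FracSub.fracSub Q D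
  have hL : ∀ s ∈ nonZeroDivisors A, ∃ y ∈ L, algebraMap A Q s * y = 1 :=
    K886.FracSub.exists_inv D fun a ha => K886.FracRing.isUnit_algebraMap Q hreg ha
  let A₂ : Subalgebra A Q := L ⊓ integralClosure A Q
  have hA₂ : Module.Finite A A₂ := by
    have hle : A₂ ≤ integralClosure A Q := inf_le_right
    have : IsNoetherian A (integralClosure A (FractionRing E)) :=
      isNoetherian_of_isNoetherianRing_of_finite A _
    exact Module.Finite.of_injective (Subalgebra.inclusion hle).toLinearMap
      (Subalgebra.inclusion_injective hle)
  let D₂ : Subalgebra D Q :=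
    { carrier := D'
      mul_mem' := fun h1 h2 => D'.mul_mem h1 h2
      add_mem' := fun h1 h2 => D'.add_mem h1 h2
      algebraMap_mem' := fun d => (hD' _).mpr ⟨isIntegral_algebraMap, 1, one_mem _, d, d.2, by
        rw [map_one, one_mul]; rfl⟩ }
  have hA₂D : ∀ x ∈ L, IsIntegral A x → x ∈ D' := fun x hx hxi =>
    (hD' x).mpr ⟨hxi.tower_top, hx⟩
  refine K886.EssFin.essFiniteType hinj A₂ hA₂ D₂ (fun x hx => hA₂D x hx.1 hx.2)
    (fun x hx => ((hD' x).mp hx).1) hfin ?_
  intro x hx
  have hxD : x ∈ D' := hx
  have hxL : x ∈ L := ((hD' x).mp hxD).2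
  have hxE : IsIntegral E x := hle hxD
  obtain ⟨s, hsL, hsD, hs, hsN, hsx⟩ := K886.Inter.exists_forall (B := A) L (x := x) D' hA₂D
    (T := {N : Ideal D' | N.IsMaximal}) hfin (fun N hN => Ideal.IsMaximal.isPrime hN) (by
      intro N hN
      obtain ⟨M, hM, hMN⟩ := hsurj N hN
      have hMp := hM.isPrime
      obtain ⟨s, hsL, hs, hsM, hsx⟩ := K886.Inter.exists_mul_isIntegral hminfin hE Q L hL hxL hxE M
      refine ⟨s, hsL, hA₂D s hsL hs, hs, ?_, hsx⟩
      rw [← hMN]
      exact hsM)
  have hu : IsUnit (⟨s, hsD⟩ : D') := by
    by_contra hnu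
    obtain ⟨N, hN, hsN'⟩ := exists_max_ideal_of_mem_nonunits hnu
    exact hsN N hN hsN'
  obtain ⟨t, ht⟩ := hu.exists_right_inv
  exact ⟨s, ⟨hsL, hs⟩, t, t.2, congrArg Subtype.val ht, L.mul_mem hsL hxL, hsx⟩

end Groth.Agent.S16449
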