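import Groth.Statements.S16450
import Groth.Agent.EGA4loc.K886.Rhs
import Groth.Agent.EGA4loc.K886.TRComp
import Groth.Agent.EGA4loc.K886.Descent
import Groth.Agent.S0538

set_option autoImplicit false
universe u
open scoped TensorProduct
open EGA4loc

namespace Groth.Agent.S16450

open IsLocalRing in
/-- Let A be an excellent reduced local ring with maximal ideal m and residue field k, S a strict
henselization of A with total ring of fractions K, and D an A-subalgebra of S which is a local ring
dominated by S (local inclusion) and whose total ring of fractions is finitely generated over that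
of A. Inside K, let A' and D' be the normalizations of A and of D: the elements of K integral over A
(resp. over D) which are carried into A (resp. into D) by the image of some non-zero-divisor of A;
so A' ⊆ D', and let ι : D → D' be the inclusion. Then D is an essentially etale local A-algebra if
and only if D' has finitely many maximal ideals and the canonical map A' ⊗_A D → D'/Rad(D') is
surjective with kernel the ideal generated by Rad(A') ⊗ D and A' ⊗ m_D — in other words the residual
field products satisfy (A'/Rad A') ⊗_k (D/m_D) ≅ D'/Rad(D') via the canonical maps. -/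
theorem result
    (A S : Type u) [CommRing A] [IsLocalRing A] [IsReduced A] (hA : EGA4.IsExcellent A)
    [CommRing S] [IsLocalRing S] [Algebra A S] [IsLocalHom (algebraMap A S)]
    [Hensel.IsStrictHenselization A S] (D : Subalgebra A S) [IsLocalRing D]
    [IsLocalHom (algebraMap D S)]
    (hfg : ∃ t : Finset (FractionRing D), ∀ x : FractionRing D, ∃ a ∈ nonZeroDivisors A,
      algebraMap A (FractionRing D) a * x ∈ Algebra.adjoin A (t : Set (FractionRing D)))
    (A' D' : Subalgebra A (FractionRing S))
    (hA' : ∀ x : (FractionRing S), x ∈ A' ↔ (IsIntegral A x ∧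
      ∃ a ∈ nonZeroDivisors A, ∃ b : A, algebraMap A (FractionRing S) a * x = algebraMap A (FractionRing S) b))
    (hD' : ∀ x : (FractionRing S), x ∈ D' ↔ (IsIntegral D x ∧
      ∃ a ∈ nonZeroDivisors A, ∃ d ∈ D, algebraMap A (FractionRing S) a * x = algebraMap S (FractionRing S) d))
    (hle : A' ≤ D') (ι : D →ₐ[A] D') (hι : ∀ d : D, (ι d : (FractionRing S)) = algebraMap S (FractionRing S) d) :
    EGA4loc.IsEssentiallyEtale A D ↔
      ({N : Ideal D' | N.IsMaximal}.Finite ∧
        Function.Surjective ((Ideal.Quotient.mkₐ A (Ideal.jacobson (⊥ : Ideal D'))).comp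
          (Algebra.TensorProduct.productMap (Subalgebra.inclusion hle) ι)) ∧
        RingHom.ker ((Ideal.Quotient.mkₐ A (Ideal.jacobson (⊥ : Ideal D'))).comp
          (Algebra.TensorProduct.productMap (Subalgebra.inclusion hle) ι)) =
          (Ideal.jacobson (⊥ : Ideal A')).map
              (Algebra.TensorProduct.includeLeft : A' →ₐ[A] A' ⊗[A] D) ⊔
            (maximalIdeal D).map
              (Algebra.TensorProduct.includeRight : D →ₐ[A] A' ⊗[A] D)) := by
  classical
  have hNoeth : IsNoetherianRing A := hA.1
  have hminfin := minimalPrimes.finite_of_isNoetherianRing A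
  have hL := Groth.Agent.Hensel.Lazard.laz_of_isStrictHenselization A S
  have hflatS : Module.Flat A S := hL.flat
  have hff := Groth.Agent.Hensel.Lazard.faithfullyFlat_of_isStrictHenselization A S
  have hAS : Function.Injective (algebraMap A S) := FaithfulSMul.algebraMap_injective A S
  let Q := FractionRing S
  have hregS : K886.FracRing.Reg A S := K886.FracFin.reg_of_flat A S
  have hu : ∀ a ∈ nonZeroDivisors A, IsUnit (algebraMap A Q a) := fun a ha =>
    K886.FracRing.isUnit_algebraMap Q hregS ha
  have hSQ : Function.Injective (algebraMap S Q) := IsFractionRing.injective S Q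
  have hAQ : Function.Injective (algebraMap A Q) := by
    rw [IsScalarTower.algebraMap_eq A S Q]
    exact hSQ.comp hAS
  have hfinA := K886.Fwd.finite_nrm A Q hA hu hAQ
  have hmS : (maximalIdeal A).map (algebraMap A S) = maximalIdeal S :=
    Groth.Agent.S0538.result A S
  have hAD : IsLocalHom (algebraMap A D) := K886.Residue.isLocalHom_of_subalgebra D
  have hDQ : Function.Injective (algebraMap D Q) := fun x y hxy =>
    Subtype.ext (hSQ hxy)
  rw [K886.Rhs.rhs_iff hL hmS hu hSQ hfinA A' D' (fun x => (hA' x).trans and_comm)
    (fun x => (hD' x).trans ⟨fun h => ⟨by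
      obtain ⟨-, a, ha, d, hd, had⟩ := h
      exact ⟨a, ha, ⟨d, hd⟩, had⟩, h.1⟩, fun h => ⟨h.2, by
      obtain ⟨⟨a, ha, d, had⟩, -⟩ := h
      exact ⟨a, ha, d, d.2, had⟩⟩⟩) hle ι hι]
  constructor
  · intro hD
    exact K886.Fwd.surj_of_laz (C := D) (K886.LazEt.laz_of_isEssentiallyEtale hD) hu hDQ
  · intro hsurj
    obtain ⟨E, hDE, hE⟩ := K886.FracFin.exists_le_of_fg hminfin hL D (FractionRing D) hfg
    have : IsLocalRing E := Groth.Agent.UnramB.EssEtale.isLocalRing_of hE
    have hES : IsLocalHom (algebraMap E S) := K886.Union.isLocalHom_subalgebra E hE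
    let _ : Algebra D E := (Subalgebra.inclusion hDE).toRingHom.toAlgebra
    have : IsScalarTower A D E := IsScalarTower.of_algebraMap_eq fun a => rfl
    have : IsLocalHom (algebraMap D E) := by
      constructor
      intro d hd
      have h1 : IsUnit (algebraMap D S d) := hd.map E.val
      exact isUnit_of_map_unit (algebraMap D S) d h1
    have : IsLocalHom (algebraMap A E) := K886.Basic.isLocalHom_algebraMap hE
    have : Algebra.EssFiniteType A E := Groth.Agent.UnramB.EssEtale.essFiniteType_of hE
    have hNE : IsNoetherianRing E := Algebra.EssFiniteType.isNoetherianRing A E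
    have hminD : (minimalPrimes D).Finite := K886.TRComp.finite_minimalPrimes_of_injective
      (Subalgebra.inclusion hDE).toRingHom (Subalgebra.inclusion_injective hDE)
      (minimalPrimes.finite_of_isNoetherianRing E)
    have hredS : IsReduced S := Groth.Agent.Hensel.LazardPerm.LazardEtale.isReduced hL
    have hredD : IsReduced D := isReduced_of_injective D.val Subtype.val_injective
    have hTRD : K886.FracRing.TR A D := (K886.FracRing.tr_of_laz A S hminfin hL).subalgebra D
    refine K886.Descent.isEssentiallyEtale_of_top hA hE
      (K886.Descent.etale_of_forall_injective hE ?_)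
    intro T _ _ _ _ _ ι' χ hT hχι hχ x hx
    let _ : Algebra T S := (E.val.toRingHom.comp χ.toRingHom).toAlgebra
    have hDTS : ∀ d : D, algebraMap T S (algebraMap D T d) = algebraMap D S d := by
      intro d
      change E.val (χ (algebraMap D T d)) = _
      rw [χ.commutes]
      rfl
    have : IsScalarTower D T S := IsScalarTower.of_algebraMap_eq fun d => (hDTS d).symm
    have : IsScalarTower A T S := IsScalarTower.of_algebraMap_eq fun a => by
      rw [IsScalarTower.algebraMap_apply A D T, hDTS]
      rfl
    have : IsScalarTower D T Q := IsScalarTower.of_algebraMap_eq fun d => by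
      rw [IsScalarTower.algebraMap_apply T S Q, hDTS]
      rfl
    have : IsScalarTower A T Q := IsScalarTower.of_algebraMap_eq fun a => by
      rw [IsScalarTower.algebraMap_apply T S Q, ← IsScalarTower.algebraMap_apply A T S,
        ← IsScalarTower.algebraMap_apply]
    have hTS : IsLocalHom (algebraMap T S) := by
      constructor
      intro t ht
      have h1 : IsUnit (χ t) := isUnit_of_map_unit (algebraMap E S) (χ t) ht
      exact isUnit_of_map_unit χ.toRingHom t h1
    have hDT : IsLocalHom (algebraMap D T) := K886.Basic.isLocalHom_algebraMap hT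
    have hLT := K886.LazEt.laz_of_isEssentiallyEtale hT
    refine K886.MainG.injective_of_surj (A := A) (D := D) (T := T) (S := S) (Q := Q)
      hL hmS hLT hu hSQ Subtype.val_injective hsurj
      (K886.TRComp.exists_mul_eq hTRD hminD hLT) x ?_
    change E.val (χ x) = 0
    rw [hx, map_zero]

end Groth.Agent.S16450
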