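import Groth.Statements.S16451
import Groth.Agent.Brnch.K580.EssHens2
import Groth.Agent.Brnch.K580.EssEt
import Groth.Agent.Brnch.K580.StrictIso
import Groth.Agent.S1797
import Groth.Agent.S2646
import Groth.Agent.S2686

set_option autoImplicit false
universe u
open scoped TensorProduct
open EGA4loc

namespace Groth.Agent.S16451

open IsLocalRing in
/-- Let A be an excellent reduced local ring with maximal ideal m and residue field k, S a strict
henselization of A with total ring of fractions K, and D an A-subalgebra of S which is a local ring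
dominated by S (local inclusion); let D^h be a henselization of D and θ : D^h → S the D-algebra map
to S (the unique one, S being henselian). Inside K, let A' and D' be the normalizations of A and of
D — the elements of K integral over A (resp. over D) and carried into A (resp. into D) by the image
of some non-zero-divisor of A — so A' ⊆ D', and let ι : D → D' be the inclusion. Then θ is injective
and its image is a directed union of A-subalgebras of S which are local rings and essentially etale
local A-algebras (that is, D^h is a direct limit of local etale extensions of A) if and only if D'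
has finitely many maximal ideals and the canonical map A' ⊗_A D → D'/Rad(D') is surjective with
kernel the ideal generated by Rad(A') ⊗ D and A' ⊗ m_D (the residual field products satisfy (A'/Rad
A') ⊗_k (D/m_D) ≅ D'/Rad(D')). -/
theorem result
    (A S : Type u) [CommRing A] [IsLocalRing A] [IsReduced A] (hA : EGA4.IsExcellent A)
    [CommRing S] [IsLocalRing S] [Algebra A S] [IsLocalHom (algebraMap A S)]
    [Hensel.IsStrictHenselization A S] (D : Subalgebra A S) [IsLocalRing D]
    [IsLocalHom (algebraMap D S)]
    (Dh : Type u) [CommRing Dh] [IsLocalRing Dh] [Algebra D Dh] [IsLocalHom (algebraMap D Dh)]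
    [Hensel.IsHenselization D Dh] [Algebra Dh S] [IsScalarTower D Dh S]
    (A' D' : Subalgebra A (FractionRing S))
    (hA' : ∀ x : (FractionRing S), x ∈ A' ↔ (IsIntegral A x ∧
      ∃ a ∈ nonZeroDivisors A, ∃ b : A, algebraMap A (FractionRing S) a * x = algebraMap A (FractionRing S) b))
    (hD' : ∀ x : (FractionRing S), x ∈ D' ↔ (IsIntegral D x ∧
      ∃ a ∈ nonZeroDivisors A, ∃ d ∈ D, algebraMap A (FractionRing S) a * x = algebraMap S (FractionRing S) d))
    (hle : A' ≤ D') (ι : D →ₐ[A] D') (hι : ∀ d : D, (ι d : (FractionRing S)) = algebraMap S (FractionRing S) d) :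
    (Function.Injective (algebraMap Dh S) ∧
        ∀ s : Finset S, (s : Set S) ⊆ Set.range (algebraMap Dh S) →
          ∃ E : Subalgebra A S, (s : Set S) ⊆ (E : Set S) ∧ (E : Set S) ⊆ Set.range (algebraMap Dh S) ∧
            ∃ _ : IsLocalRing E, EGA4loc.IsEssentiallyEtale A E) ↔
      ({N : Ideal D' | N.IsMaximal}.Finite ∧
        Function.Surjective ((Ideal.Quotient.mkₐ A (Ideal.jacobson (⊥ : Ideal D'))).comp
          (Algebra.TensorProduct.productMap (Subalgebra.inclusion hle) ι)) ∧
        RingHom.ker ((Ideal.Quotient.mkₐ A (Ideal.jacobson (⊥ : Ideal D'))).comp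
          (Algebra.TensorProduct.productMap (Subalgebra.inclusion hle) ι)) =
          (Ideal.jacobson (⊥ : Ideal A')).map
              (Algebra.TensorProduct.includeLeft : A' →ₐ[A] A' ⊗[A] D) ⊔
            (maximalIdeal D).map
              (Algebra.TensorProduct.includeRight : D →ₐ[A] A' ⊗[A] D)) := by
  have hN : IsNoetherianRing A := hA.1
  have hD'2 : ∀ x : (FractionRing S), x ∈ D' ↔ (IsIntegral D x ∧
      ∃ a ∈ nonZeroDivisors A, ∃ d : D, algebraMap A (FractionRing S) a * x = algebraMap D (FractionRing S) d) := by
    intro x
    rw [hD' x]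
    refine and_congr_right fun _ => exists_congr fun a => and_congr_right fun _ => ?_
    constructor
    · rintro ⟨d, hd, h⟩
      exact ⟨⟨d, hd⟩, h⟩
    · rintro ⟨d, h⟩
      exact ⟨d, d.2, h⟩
  have hι2 : ∀ d : D, (ι d : (FractionRing S)) = algebraMap D (FractionRing S) d := hι
  have hinjDS : Function.Injective (algebraMap D S) := Subtype.val_injective
  have hSh : HenselianLocalRing S :=
    (inferInstance : Hensel.IsStrictHenselization A S).henselian
  have hffS : Module.FaithfullyFlat A S := Groth.Agent.Hensel.Lazard.faithfullyFlat_of_isStrictHenselization A S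
  have hffD : Module.FaithfullyFlat D Dh := Groth.Agent.Hensel.Lazard.faithfullyFlat_of_isHenselization D Dh
  have hDhh : HenselianLocalRing Dh := (inferInstance : Hensel.IsHenselization D Dh).henselian
  let _ : Algebra A Dh := ((algebraMap D Dh).comp (algebraMap A D)).toAlgebra
  have tow1 : IsScalarTower A D Dh := IsScalarTower.of_algebraMap_eq fun _ => rfl
  have tow2 : IsScalarTower A Dh S := IsScalarTower.of_algebraMap_eq fun a => by
    rw [IsScalarTower.algebraMap_apply A D Dh, ← IsScalarTower.algebraMap_apply D Dh S,
      ← IsScalarTower.algebraMap_apply A D S]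
  have hlAD : IsLocalHom (algebraMap A D) := by
    refine ⟨fun a ha => ?_⟩
    have h1 : IsUnit (algebraMap A S a) := by
      rw [IsScalarTower.algebraMap_apply A D S]
      exact ha.map _
    exact isUnit_of_map_unit (algebraMap A S) a h1
  have hlADh : IsLocalHom (algebraMap A Dh) := RingHom.isLocalHom_comp (algebraMap D Dh) (algebraMap A D)
  have hlDhS : IsLocalHom (algebraMap Dh S) := K580.FlatLe.isLocalHom_of_comp
    (Groth.Agent.Hensel.Exist.map_maximalIdeal_of_isHenselization D Dh) (algebraMap D S) (algebraMap Dh S)
    (IsScalarTower.algebraMap_eq D Dh S).symm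
  constructor
  · rintro ⟨hinj, hE⟩
    have hind : Groth.Agent.CalgC.IndEtale.IsIndEtale A Dh := K580.EssEt.isIndEtale_of_essEtale hinj hE
    have hffDh : Module.FaithfullyFlat Dh S := K580.FlatLe.faithfullyFlat_of_indEtale (A := A) hind
    have hffDS : Module.FaithfullyFlat D S := Module.FaithfullyFlat.trans D Dh S
    have h1 : ∀ (p : Ideal A) [p.IsPrime], EGA4.HasGeomNormalFormalFibres (Localization.AtPrime p) := by
      intro p hp q hq k' _ _ hfin
      exact Groth.Agent.S1797.isNormalRing_of_isRegularRing _ (((hA.2.2.1.2 p).2 q).2 k' hfin)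
    have h2 : EGA4.HasGeomNormalFormalFibres A := fun p _ =>
      (Groth.Agent.S2686.result A h1 (maximalIdeal A)).2 p
    have hfinA : Module.Finite A (integralClosure A (FractionRing A)) := (Groth.Agent.S2646.result A h2).2
    exact K580.EssHens.residue_of_faithfullyFlat A D S (FractionRing S) A' D' hA' hD'2 hle ι hι2 hfinA
  · rintro ⟨-, hsurj, hker⟩
    have hDS : Hensel.IsStrictHenselization D S :=
      K580.EssHens.strict_of_residue A D S (FractionRing S) A' D' hA' hD'2 hle ι hι2 hinjDS hsurj hker
    have hffDS : Module.FaithfullyFlat D S := Groth.Agent.Hensel.Lazard.faithfullyFlat_of_isStrictHenselization D S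
    have hffDh : Module.FaithfullyFlat Dh S := K580.FlatLe.faithfullyFlat_of_indEtale (A := D)
      (Groth.Agent.Hensel.Lazard.laz_of_isHenselization D Dh)
    have hinj : Function.Injective (algebraMap Dh S) := FaithfulSMul.algebraMap_injective Dh S
    have hDhS : Hensel.IsStrictHenselization Dh S := K580.StrictIso.of_tower D Dh S
      (Groth.Agent.Hensel.Lazard.laz_of_isHenselization D Dh)
    have hind : Groth.Agent.CalgC.IndEtale.IsIndEtale A Dh := K580.StrictIso.isIndEtale_of_strict A Dh S
    exact ⟨hinj, fun s hs => K580.EssEt.exists_essEtale hind hinj s hs⟩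

end Groth.Agent.S16451
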