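import Groth.Statements.S16452

set_option autoImplicit false
universe u
open CAlg

namespace Groth.Agent.S16452

/-- For `R → S` formally étale with `R → S/J` onto, `R/Iⁿ → S/Jⁿ` is bijective. -/
theorem key (R : Type u) [CommRing R] (S : Type u)
    [CommRing S] [Algebra R S] [Algebra.FormallyEtale R S] (J : Ideal S)
    (hJ : Function.Surjective (algebraMap R (S ⧸ J))) (n : ℕ) :
    (∀ a : R, algebraMap R S a ∈ J ^ n → a ∈ (J.comap (algebraMap R S)) ^ n) ∧
      ∀ b : S, ∃ a : R, algebraMap R S a - b ∈ J ^ n := by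
  rcases Nat.eq_zero_or_pos n with hn | hn
  · subst hn
    exact ⟨fun a _ => by simp, fun b => ⟨0, by simp⟩⟩
  set I : Ideal R := J.comap (algebraMap R S) with hI
  have hIa : ∀ a ∈ I, algebraMap R (S ⧸ J) a = 0 := fun a h1 => by
    rw [IsScalarTower.algebraMap_apply R S (S ⧸ J)]
    exact Ideal.Quotient.eq_zero_iff_mem.mpr h1
  let g : (R ⧸ I ^ n) →ₐ[R] (S ⧸ J) := Ideal.Quotient.liftₐ (I ^ n) (Algebra.ofId R (S ⧸ J))
    (fun a ha => hIa a (Ideal.pow_le_self hn.ne' ha))
  have hgmk : ∀ a : R, g (Ideal.Quotient.mk _ a) = algebraMap R (S ⧸ J) a := fun a => rfl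
  have hg : Function.Surjective g := fun y => by
    obtain ⟨a, rfl⟩ := hJ y
    exact ⟨Ideal.Quotient.mk _ a, rfl⟩
  have hker : RingHom.ker (g : (R ⧸ I ^ n) →+* (S ⧸ J)) ≤ I.map (Ideal.Quotient.mk (I ^ n)) := by
    intro y hy
    obtain ⟨a, rfl⟩ := Ideal.Quotient.mk_surjective y
    refine Ideal.mem_map_of_mem _ ?_
    have h1 : algebraMap R (S ⧸ J) a = 0 := hy
    rw [IsScalarTower.algebraMap_apply R S (S ⧸ J)] at h1
    exact (Ideal.Quotient.eq_zero_iff_mem (I := J)).mp h1
  have hnil : IsNilpotent (RingHom.ker (g : (R ⧸ I ^ n) →+* (S ⧸ J))) := by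
    refine ⟨n, ?_⟩
    rw [Ideal.zero_eq_bot, eq_bot_iff]
    refine (Ideal.pow_right_mono hker n).trans ?_
    rw [← Ideal.map_pow, Ideal.map_quotient_self]
  let f : S →ₐ[R] (S ⧸ J) := Ideal.Quotient.mkₐ R J
  let σ : S →ₐ[R] (R ⧸ I ^ n) := Algebra.FormallySmooth.liftOfSurjective f g hg hnil
  have hσ : ∀ s : S, g (σ s) = Ideal.Quotient.mk J s :=
    fun s => Algebra.FormallySmooth.liftOfSurjective_apply f g hg hnil s
  have hσJ : ∀ s ∈ J ^ n, σ s = 0 := by
    intro s hs
    have h1 : J ≤ (I.map (Ideal.Quotient.mk (I ^ n))).comap σ.toRingHom := by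
      intro j hj
      apply hker
      change g (σ j) = 0
      rw [hσ]
      exact Ideal.Quotient.eq_zero_iff_mem.mpr hj
    have h2 : J ^ n ≤ ((I.map (Ideal.Quotient.mk (I ^ n))) ^ n).comap σ.toRingHom :=
      (Ideal.pow_right_mono h1 n).trans (Ideal.le_comap_pow _ _)
    have h3 := h2 hs
    rw [← Ideal.map_pow, Ideal.map_quotient_self] at h3
    exact h3
  constructor
  · intro a ha
    have h1 := hσJ _ ha
    rw [AlgHom.commutes] at h1
    exact Ideal.Quotient.eq_zero_iff_mem.mp h1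
  · let ρ : (R ⧸ I ^ n) →ₐ[R] (S ⧸ J ^ n) := Ideal.Quotient.liftₐ (I ^ n) (Algebra.ofId R (S ⧸ J ^ n))
      (fun a ha => by
        change algebraMap R (S ⧸ J ^ n) a = 0
        rw [IsScalarTower.algebraMap_apply R S (S ⧸ J ^ n)]
        refine Ideal.Quotient.eq_zero_iff_mem.mpr ?_
        have h2 : I ^ n ≤ (J ^ n).comap (algebraMap R S) := Ideal.le_comap_pow _ _
        exact h2 ha)
    have hρ : ∀ a : R, ρ (Ideal.Quotient.mk _ a) = Ideal.Quotient.mk _ (algebraMap R S a) := fun a => rfl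
    have hnil' : IsNilpotent (J.map (Ideal.Quotient.mk (J ^ n))) := by
      refine ⟨n, ?_⟩
      rw [← Ideal.map_pow, Ideal.map_quotient_self]
      rfl
    have heq : ρ.comp σ = Ideal.Quotient.mkₐ R (J ^ n) := by
      refine Algebra.FormallyUnramified.ext (J.map (Ideal.Quotient.mk (J ^ n))) hnil' (fun x => ?_)
      obtain ⟨a, ha⟩ := Ideal.Quotient.mk_surjective (σ x)
      have h1 : (algebraMap R S a) - x ∈ J := by
        rw [← Ideal.Quotient.eq_zero_iff_mem, map_sub, ← hσ x, ← ha, hgmk,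
          IsScalarTower.algebraMap_apply R S (S ⧸ J)]
        exact sub_self _
      rw [Ideal.Quotient.eq]
      change ρ (σ x) - Ideal.Quotient.mk (J ^ n) x ∈ _
      rw [← ha, hρ, ← map_sub]
      exact Ideal.mem_map_of_mem _ h1
    intro b
    obtain ⟨a, ha⟩ := Ideal.Quotient.mk_surjective (σ b)
    refine ⟨a, ?_⟩
    have h1 := AlgHom.congr_fun heq b
    change ρ (σ b) = Ideal.Quotient.mk (J ^ n) b at h1
    rw [← ha, hρ] at h1
    exact Ideal.Quotient.eq.mp h1

/-- Let R → S be formally étale and J an ideal of S such that the composite R → S → S/J is surjective;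
let I ⊆ R be its kernel, the preimage of J in R. Then the homomorphism of associated graded rings ⊕ₙ
Iⁿ/Iⁿ⁺¹ → ⊕ₙ Jⁿ/Jⁿ⁺¹ induced by R → S (which carries I into J) is bijective. -/
theorem result (R : Type u) [CommRing R] (S : Type u)
    [CommRing S] [Algebra R S] [Algebra.FormallyEtale R S] (J : Ideal S)
    (hJ : Function.Surjective (algebraMap R (S ⧸ J))) :
    Function.Bijective (AssocGr.map (AssocGr.IsFiltHom.adic
      (Ideal.map_comap_le : (J.comap (algebraMap R S)).map (algebraMap R S) ≤ J))) := by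
  constructor
  · rw [injective_iff_map_eq_zero]
    intro x hx
    obtain ⟨f, rfl⟩ := AssocGr.mkG_surjective _ x
    rw [AssocGr.map_mkG, AssocGr.mkG_eq_zero_iff, AssocGr.mem_succIdeal_iff] at hx
    rw [AssocGr.mkG_eq_zero_iff, AssocGr.mem_succIdeal_iff]
    intro n
    have h := hx n
    rw [AssocGr.coe_reesMap, Polynomial.coeff_map] at h
    exact (key R S J hJ (n + 1)).1 _ h
  · intro y
    obtain ⟨g, rfl⟩ := AssocGr.mkG_surjective _ y
    suffices h : ∀ n : ℕ, AssocGr.mkG (FiltBl.IdealFiltration.adic J)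
        (AssocGr.term (FiltBl.IdealFiltration.adic J) g n) ∈
        (AssocGr.map (AssocGr.IsFiltHom.adic
          (Ideal.map_comap_le : (J.comap (algebraMap R S)).map (algebraMap R S) ≤ J))).range by
      rw [← RingHom.mem_range, ← AssocGr.sum_term (FiltBl.IdealFiltration.adic J) g, map_sum]
      exact Subring.sum_mem _ fun n _ => h n
    intro n
    rw [AssocGr.mkG_term]
    set b : S := ((g : Polynomial S)).coeff n with hbdef
    have hb : b ∈ J ^ n := g.2 n
    obtain ⟨a, ha⟩ := (key R S J hJ (n + 1)).2 b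
    have han : a ∈ (J.comap (algebraMap R S)) ^ n := by
      apply (key R S J hJ n).1
      have h1 : algebraMap R S a - b ∈ J ^ n := Ideal.pow_le_pow_right (Nat.le_succ n) ha
      have h2 := Ideal.add_mem _ h1 hb
      rwa [sub_add_cancel] at h2
    refine ⟨(AssocGr.inDeg (FiltBl.IdealFiltration.adic (J.comap (algebraMap R S))) n ⟨a, han⟩ :
      AssocGr.GrRing _), ?_⟩
    rw [AssocGr.map_inDeg]
    rw [← sub_eq_zero, ← AddSubgroupClass.coe_sub, ← map_sub, Submodule.coe_eq_zero,
      AssocGr.inDeg_eq_zero_iff]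
    exact ha

end Groth.Agent.S16452
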