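import Groth.Statements.S16453

set_option autoImplicit false
universe u
open AdicGr

namespace Groth.Agent.S16453

/-- Let A be a commutative ring, I an ideal and Â the I-adic completion, filtered by the kernels Âₙ of
the projections Â → A/Iⁿ. Then the homomorphism of associated graded rings ⊕ₙ Iⁿ/Iⁿ⁺¹ → ⊕ₙ Âₙ/Âₙ₊₁
induced by the canonical map A → Â is bijective. No hypothesis on A or I is needed. (The published
statement is for an arbitrary filtered ring and also asserts the analogous isomorphism for a
compatibly filtered module; this row is the ring assertion for the filtration by the powers of one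
ideal.) -/
theorem result (A : Type u) [CommRing A] (I : Ideal A) :
    Function.Bijective (AssocGr.map (AssocGr.isFiltHom_kerFilt I)) := by
  constructor
  · rw [injective_iff_map_eq_zero]
    intro x hx
    obtain ⟨f, rfl⟩ := AssocGr.mkG_surjective _ x
    rw [AssocGr.map_mkG, AssocGr.mkG_eq_zero_iff, AssocGr.mem_succIdeal_iff] at hx
    rw [AssocGr.mkG_eq_zero_iff, AssocGr.mem_succIdeal_iff]
    intro n
    have h := hx n
    rw [AssocGr.coe_reesMap, Polynomial.coeff_map, AssocGr.mem_kerFilt_iff_val,
      AdicCompletion.algebraMap_apply, Algebra.algebraMap_self,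
      RingHom.id_apply, AdicCompletion.of_apply, Submodule.mkQ_apply,
      Submodule.Quotient.mk_eq_zero, AssocGr.pow_smul_top] at h
    exact h
  · intro y
    obtain ⟨g, rfl⟩ := AssocGr.mkG_surjective _ y
    suffices h : ∀ n : ℕ, AssocGr.mkG (AssocGr.kerFilt I) (AssocGr.term (AssocGr.kerFilt I) g n) ∈
        (AssocGr.map (AssocGr.isFiltHom_kerFilt I)).range by
      rw [← RingHom.mem_range, ← AssocGr.sum_term (AssocGr.kerFilt I) g, map_sum]
      exact Subring.sum_mem _ fun n _ => h n
    intro n
    rw [AssocGr.mkG_term]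
    set b : AdicCompletion I A := ((g : Polynomial (AdicCompletion I A))).coeff n with hbdef
    have hb : b ∈ (AssocGr.kerFilt I).F n := g.2 n
    obtain ⟨a, ha⟩ := Ideal.Quotient.mk_surjective (b.val (n + 1))
    have han : a ∈ I ^ n := by
      rw [AssocGr.mem_kerFilt_iff_val] at hb
      have h1 := AdicCompletion.transitionMap_comp_eval_apply I A (Nat.le_add_right n 1) b
      rw [← ha, hb] at h1
      change Ideal.Quotient.mk (I ^ n • ⊤ : Ideal A) a = 0 at h1
      rwa [Ideal.Quotient.eq_zero_iff_mem, AssocGr.pow_smul_top] at h1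
    refine ⟨(AssocGr.inDeg (FiltBl.IdealFiltration.adic I) n ⟨a, han⟩ : AssocGr.GrRing _), ?_⟩
    rw [AssocGr.map_inDeg]
    rw [← sub_eq_zero, ← AddSubgroupClass.coe_sub, ← map_sub, Submodule.coe_eq_zero,
      AssocGr.inDeg_eq_zero_iff, AssocGr.mem_kerFilt_iff_val]
    change (algebraMap A (AdicCompletion I A) a - b).val (n + 1) = 0
    rw [AdicCompletion.val_sub, Pi.sub_apply, ← ha, AdicCompletion.algebraMap_apply,
      Algebra.algebraMap_self, RingHom.id_apply, AdicCompletion.of_apply]
    exact sub_self _

end Groth.Agent.S16453
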