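import Groth.Statements.S16454
import Groth.Agent.FlatA.LocalCriterion
import Mathlib.LinearAlgebra.TensorProduct.Quotient

set_option autoImplicit false
universe u
open TensorProduct
open EGA43

namespace Groth.Agent.S16454

open Function in
/-- One step: an element of `Iⁿ ⊗ M` with zero image in `M` comes from `Iⁿ⁺¹ ⊗ M`. -/
theorem step (A : Type u) [CommRing A] (I : Ideal A)
    (M : Type u) [AddCommGroup M] [Module A M]
    (hinj : ∀ (n k : ℕ) (a : Fin k → ↥((FiltBl.IdealFiltration.adic I).F n))
      (x : Fin k → ↥((Rees.powFilt I M).N 0)),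
      (∑ i, (AssocGr.inDeg (FiltBl.IdealFiltration.adic I) n (a i) :
          AssocGr.GrRing (FiltBl.IdealFiltration.adic I)) •
        (AssocGr.inDegM (Rees.powFilt I M) 0 (x i) : AssocGr.GrMod (Rees.powFilt I M))) = 0 →
      (∑ i, (AssocGr.inDeg (FiltBl.IdealFiltration.adic I) n (a i)) ⊗ₜ[A]
          (Submodule.Quotient.mk (x i : M)) :
        ↥(AssocGr.gr (FiltBl.IdealFiltration.adic I) n) ⊗[A] (M ⧸ (I • (⊤ : Submodule A M)))) = 0)
    (n : ℕ) (hle : (FiltBl.IdealFiltration.adic I).F (n + 1) ≤ (FiltBl.IdealFiltration.adic I).F n)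
    (z : ↥((FiltBl.IdealFiltration.adic I).F n) ⊗[A] M)
    (hz : ((FiltBl.IdealFiltration.adic I).F n).subtype.rTensor M z = 0) :
    z ∈ LinearMap.range ((Submodule.inclusion hle).rTensor M) := by
  obtain ⟨k, a, x, rfl⟩ : ∃ (k : ℕ) (a : Fin k → ↥((FiltBl.IdealFiltration.adic I).F n))
      (x : Fin k → M), z = ∑ i, a i ⊗ₜ[A] x i := by
    obtain ⟨s, rfl⟩ := TensorProduct.exists_finset z
    refine ⟨s.card, fun i => (s.equivFin.symm i : ↥((FiltBl.IdealFiltration.adic I).F n) × M).1,
      fun i => (s.equivFin.symm i : ↥((FiltBl.IdealFiltration.adic I).F n) × M).2, ?_⟩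
    rw [← Finset.sum_coe_sort s (fun i => i.1 ⊗ₜ[A] i.2)]
    exact (Equiv.sum_comp s.equivFin.symm
      (fun i : s => (i : ↥((FiltBl.IdealFiltration.adic I).F n) × M).1 ⊗ₜ[A]
      (i : ↥((FiltBl.IdealFiltration.adic I).F n) × M).2)).symm
  have hz' : ∑ i, (a i : A) • x i = 0 := by
    have := congrArg (TensorProduct.lid A M) hz
    simpa [map_sum] using this
  have h0 : ∀ m : M, m ∈ (Rees.powFilt I M).N 0 := by
    intro m
    change m ∈ I ^ 0 • (⊤ : Submodule A M)
    simp
  have h1 := hinj n k a (fun i => ⟨x i, h0 _⟩) ?_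
  · -- compute the kernel of `Iⁿ ⊗ M → gr_n ⊗ M/IM`
    have hex1 : Function.Exact (Submodule.inclusion hle)
        (AssocGr.inDeg (FiltBl.IdealFiltration.adic I) n) := by
      intro b
      rw [AssocGr.inDeg_eq_zero_iff]
      constructor
      · intro hb
        exact ⟨⟨b, hb⟩, rfl⟩
      · rintro ⟨c, rfl⟩
        exact c.2
    have hex2 : Function.Exact (I • (⊤ : Submodule A M)).subtype
        (I • (⊤ : Submodule A M)).mkQ := LinearMap.exact_subtype_mkQ _
    have hker := TensorProduct.map_ker hex1 (AssocGr.inDeg_surjective _ n)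
      hex2 (Submodule.mkQ_surjective _)
    have hmem : (∑ i, a i ⊗ₜ[A] x i : ↥((FiltBl.IdealFiltration.adic I).F n) ⊗[A] M) ∈
        LinearMap.ker (TensorProduct.map (AssocGr.inDeg (FiltBl.IdealFiltration.adic I) n)
          (I • (⊤ : Submodule A M)).mkQ) := by
      rw [LinearMap.mem_ker, map_sum]
      exact h1
    rw [hker] at hmem
    refine (sup_le ?_ le_rfl : _ ≤ LinearMap.range ((Submodule.inclusion
      hle).rTensor M)) hmem
    rintro _ ⟨w, rfl⟩
    induction w with
    | zero => simp
    | add u v hu hv => rw [map_add]; exact Submodule.add_mem _ hu hv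
    | tmul b m =>
      obtain ⟨m, hm⟩ := m
      rw [LinearMap.lTensor_tmul, Submodule.subtype_apply]
      dsimp only
      induction hm using Submodule.smul_induction_on' with
      | smul r hr m hm =>
        rw [← TensorProduct.smul_tmul]
        refine ⟨⟨r * b, ?_⟩ ⊗ₜ m, ?_⟩
        · change r * (b : A) ∈ I ^ (n + 1)
          rw [pow_succ']
          exact Ideal.mul_mem_mul hr b.2
        · rw [LinearMap.rTensor_tmul]
          rfl
      | add u hu v hv h h' =>
        rw [TensorProduct.tmul_add]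
        exact Submodule.add_mem _ h h'
  · -- the relation holds in the associated graded module
    have hterm : ∀ i, (AssocGr.inDeg (FiltBl.IdealFiltration.adic I) n (a i) :
          AssocGr.GrRing (FiltBl.IdealFiltration.adic I)) •
        (AssocGr.inDegM (Rees.powFilt I M) 0 ⟨x i, h0 _⟩ : AssocGr.GrMod (Rees.powFilt I M)) =
        (AssocGr.inDegM (Rees.powFilt I M) n ⟨(a i : A) • x i,
          Submodule.smul_mem_smul (a i).2 trivial⟩ : AssocGr.GrMod (Rees.powFilt I M)) := by
      intro i
      exact AssocGr.inDeg_smul_inDegM (Rees.powFilt I M) n 0 (a i) ⟨x i, h0 _⟩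
    simp_rw [hterm]
    have hcoe : ∀ (s : Finset (Fin k)) (g : Fin k → ↥(AssocGr.grM (Rees.powFilt I M) n)),
        (∑ i ∈ s, (g i : AssocGr.GrMod (Rees.powFilt I M))) =
          ((∑ i ∈ s, g i : ↥(AssocGr.grM (Rees.powFilt I M) n)) :
            AssocGr.GrMod (Rees.powFilt I M)) := by
      intro s g
      exact (AddSubmonoidClass.coe_finsetSum g s).symm
    rw [hcoe, ← map_sum]
    have : (∑ i, (⟨(a i : A) • x i, Submodule.smul_mem_smul (a i).2 trivial⟩ :
        ↥((Rees.powFilt I M).N n))) = 0 := by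
      apply Subtype.ext
      rw [AddSubmonoidClass.coe_finsetSum]
      exact hz'
    rw [this, map_zero]
    rfl

theorem injective_of (A : Type u) [CommRing A] (I : Ideal A)
    (hI : IsNilpotent I) (M : Type u) [AddCommGroup M] [Module A M]
    (h : ∀ (n : ℕ) (z : ↥(I ^ n) ⊗[A] M), (I ^ n).subtype.rTensor M z = 0 →
      z ∈ LinearMap.range ((Submodule.inclusion (Ideal.pow_le_pow_right n.le_succ :
      I ^ (n + 1) ≤ I ^ n)).rTensor M)) (n : ℕ) :
    Function.Injective ((I ^ n).subtype.rTensor M) := by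
  obtain ⟨N, hN⟩ := hI
  rw [injective_iff_map_eq_zero]
  -- descending from `Iᴺ = 0`
  have key : ∀ (d n : ℕ), N ≤ n + d → ∀ z : ↥(I ^ n) ⊗[A] M,
      (I ^ n).subtype.rTensor M z = 0 → z = 0 := by
    intro d
    induction d with
    | zero =>
      intro n hn z _
      have : I ^ n = ⊥ := by
        rw [eq_bot_iff]
        exact (Ideal.pow_le_pow_right hn).trans (by rw [hN]; exact le_rfl)
      have hs : Subsingleton (↥(I ^ n) ⊗[A] M) := by
        have : Subsingleton ↥(I ^ n) := by rw [this]; infer_instance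
        infer_instance
      exact Subsingleton.elim _ _
    | succ d ih =>
      intro n hn z hz
      obtain ⟨w, rfl⟩ := h n z hz
      have hw : (I ^ (n + 1)).subtype.rTensor M w = 0 := by
        rw [← LinearMap.comp_apply, ← LinearMap.rTensor_comp] at hz
        exact hz
      rw [ih (n + 1) (by omega) w hw, map_zero]
  exact fun z hz => key N n (by omega) z hz

/-- Let A be a commutative ring, I a nilpotent ideal of A and M an A-module, and form the associated
graded ring G = ⊕ₙ Iⁿ/Iⁿ⁺¹ and the associated graded G-module gr_I(M) = ⊕ₙ IⁿM/Iⁿ⁺¹M. Assume that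
M/IM is flat over A/I and that the canonical homomorphism (M/IM) ⊗ G → gr_I(M), [x] ⊗ [a] ↦ [a·x],
is injective: degree by degree, whenever elements a_i ∈ Iⁿ and x_i ∈ M satisfy Σ_i [a_i]·[x_i] = 0
in gr_I(M) (that is Σ a_i x_i ∈ Iⁿ⁺¹M), the element Σ_i [a_i] ⊗ [x_i] of (Iⁿ/Iⁿ⁺¹) ⊗ (M/IM) is zero.
Then M is a flat A-module. (The published lemma is stated for any finite decreasing multiplicative
filtration A = J₀ ⊇ J₁ ⊇ … ⊇ J_N₊₁ = 0 of A with M filtered by the submodules JₙM; this row is its
case Jₙ = Iⁿ.) -/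
theorem result (A : Type u) [CommRing A] (I : Ideal A)
    (hI : IsNilpotent I) (M : Type u) [AddCommGroup M] [Module A M]
    (hflat : Module.Flat (A ⧸ I) (M ⧸ (I • (⊤ : Submodule A M))))
    (hinj : ∀ (n k : ℕ) (a : Fin k → ↥((FiltBl.IdealFiltration.adic I).F n))
      (x : Fin k → ↥((Rees.powFilt I M).N 0)),
      (∑ i, (AssocGr.inDeg (FiltBl.IdealFiltration.adic I) n (a i) :
          AssocGr.GrRing (FiltBl.IdealFiltration.adic I)) •
        (AssocGr.inDegM (Rees.powFilt I M) 0 (x i) : AssocGr.GrMod (Rees.powFilt I M))) = 0 →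
      (∑ i, (AssocGr.inDeg (FiltBl.IdealFiltration.adic I) n (a i)) ⊗ₜ[A]
          (Submodule.Quotient.mk (x i : M)) :
        ↥(AssocGr.gr (FiltBl.IdealFiltration.adic I) n) ⊗[A] (M ⧸ (I • (⊤ : Submodule A M)))) = 0) :
    Module.Flat A M := by
  have hinj' := injective_of A I hI M (fun n z hz => step A I M hinj n
    (Ideal.pow_le_pow_right n.le_succ) z hz) 1
  have h1 : Function.Injective (LinearMap.rTensor M (Submodule.subtype I)) := by
    have : ∀ J : Ideal A, J = I → Function.Injective (LinearMap.rTensor M (Submodule.subtype J)) →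
        Function.Injective (LinearMap.rTensor M (Submodule.subtype I)) := by
      rintro J rfl h
      exact h
    exact this (I ^ 1) (pow_one I) hinj'
  refine Groth.Agent.FlatA.LocalCriterion.flat_of_isNilpotent I hI h1 ?_
  exact Module.Flat.of_linearEquiv ((TensorProduct.quotTensorEquivQuotSMul M I).extendScalarsOfSurjective
    Ideal.Quotient.mk_surjective)

end Groth.Agent.S16454
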