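import Groth.Statements.S16456
import Groth.Agent.AdicGr.K887.Approx

set_option autoImplicit false
universe u
open AdicGr

namespace Groth.Agent.S16456

/-- Let φ : A → B be a ring homomorphism, I ⊆ A and J ⊆ B ideals with φ(I)B ⊆ J, so that φ is a
homomorphism of filtered rings for the I-adic and J-adic filtrations. Assume that A is I-adically
complete in the sense that every I-adically Cauchy sequence has a limit, that B is J-adically
separated, and that the induced homomorphism of associated graded rings ⊕ₙ Iⁿ/Iⁿ⁺¹ → ⊕ₙ Jⁿ/Jⁿ⁺¹ is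
surjective. Then φ is surjective, φ is strict (Jⁿ = φ(Iⁿ)B for all n, that is J = φ(I)B), and B is
J-adically separated and complete. (The published statement is for a homomorphism of filtered
modules over a filtered ring, with arbitrary compatible filtrations; this row is its case of a ring
homomorphism with adic filtrations.) -/
theorem result (A : Type u) [CommRing A] (B : Type u)
    [CommRing B] (φ : A →+* B) (I : Ideal A) (J : Ideal B) (hIJ : I.map φ ≤ J)
    [IsPrecomplete I A] [IsHausdorff J B]
    (h : Function.Surjective (AssocGr.map (AssocGr.IsFiltHom.adic hIJ))) :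
    Function.Surjective φ ∧ I.map φ = J ∧ IsAdicComplete J B := by
  letI : Algebra A B := φ.toAlgebra
  have hφ : ∀ a : A, algebraMap A B a = φ a := fun a => rfl
  have hstep : ∀ (n : ℕ) (b : B), b ∈ J ^ n → ∃ a ∈ I ^ n, b - φ a ∈ J ^ (n + 1) := by
    intro n b hb
    obtain ⟨x, hx⟩ := h (AssocGr.inDeg (FiltBl.IdealFiltration.adic J) n ⟨b, hb⟩ :
      AssocGr.GrRing (FiltBl.IdealFiltration.adic J))
    obtain ⟨f, rfl⟩ := AssocGr.mkG_surjective _ x
    rw [AssocGr.map_mkG, AssocGr.coe_inDeg, ← sub_eq_zero, ← map_sub, AssocGr.mkG_eq_zero_iff,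
      AssocGr.mem_succIdeal_iff] at hx
    refine ⟨(f : Polynomial A).coeff n, f.2 n, ?_⟩
    have h1 := hx n
    rw [Subalgebra.coe_sub, Polynomial.coeff_sub, AssocGr.coe_reesMap, Polynomial.coeff_map,
      AssocGr.coe_coe_monom, Polynomial.coeff_monomial, if_pos rfl] at h1
    change φ ((f : Polynomial A).coeff n) - b ∈ J ^ (n + 1) at h1
    rw [← neg_sub]
    exact Submodule.neg_mem _ h1
  have hlift : ∀ (n : ℕ) (b : B), b ∈ J ^ n → ∃ a ∈ I ^ n, φ a = b := by
    intro n b hb
    obtain ⟨c, hc, hc'⟩ := K887.Approx.approx (I := I) (M := B)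
      (fun n => (J ^ n).restrictScalars A)
      (fun m n hmn y hy => Ideal.pow_le_pow_right hmn hy)
      (fun m n a y ha hy => by
        change a • y ∈ J ^ (m + n)
        rw [Algebra.smul_def, pow_add]
        refine Ideal.mul_mem_mul ?_ hy
        have h1 : φ a ∈ (I ^ m).map φ := Ideal.mem_map_of_mem φ ha
        rw [Ideal.map_pow] at h1
        exact Ideal.pow_right_mono hIJ m h1)
      (fun y hy => by
        refine IsHausdorff.haus (I := J) (M := B) inferInstance y fun n => ?_
        rw [SModEq.zero, smul_eq_mul, Ideal.mul_top]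
        exact hy n)
      (ι := Unit) (fun _ => 0) (fun _ => 1)
      (fun _ => by
        change (1 : B) ∈ J ^ 0
        rw [pow_zero, Ideal.one_eq_top]
        trivial)
      (fun n y => y ∈ J ^ n) (fun n y hy => hy)
      (fun n y hy => by
        obtain ⟨a, ha, ha'⟩ := hstep n y hy
        refine ⟨fun _ => a, fun _ => ha, ?_⟩
        simpa [Algebra.smul_def, hφ] using ha') n b hb
    refine ⟨c (), hc (), ?_⟩
    rw [hc']
    simp [Algebra.smul_def, hφ]
  have hsurj : Function.Surjective φ := fun b => by
    obtain ⟨a, -, ha⟩ := hlift 0 b (by rw [pow_zero, Ideal.one_eq_top]; trivial)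
    exact ⟨a, ha⟩
  refine ⟨hsurj, le_antisymm hIJ fun b hb => ?_, ?_⟩
  · obtain ⟨a, ha, rfl⟩ := hlift 1 b (by rwa [pow_one])
    rw [pow_one] at ha
    exact Ideal.mem_map_of_mem φ ha
  · have hprec : IsPrecomplete J B := by
      refine ⟨fun f hf => ?_⟩
      have hf' : ∀ n, f (n + 1) - f n ∈ J ^ n := fun n => by
        have h1 := hf (Nat.le_succ n)
        rw [SModEq.sub_mem, smul_eq_mul, Ideal.mul_top] at h1
        rw [← neg_sub]
        exact Submodule.neg_mem _ h1
      choose a ha ha' using fun n => hlift n _ (hf' n)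
      obtain ⟨a₀, ha₀⟩ := hsurj (f 0)
      let s : ℕ → A := fun n => a₀ + ∑ l ∈ Finset.range n, a l
      have hs : ∀ n, φ (s n) = f n := by
        intro n
        induction n with
        | zero => simp [s, ha₀]
        | succ n ih =>
          have : s (n + 1) = s n + a n := by simp [s, Finset.sum_range_succ, add_assoc]
          rw [this, map_add, ih, ha']
          ring
      have hcau : ∀ {m n : ℕ}, m ≤ n → s n - s m ∈ I ^ m := by
        intro m n hmn
        induction n, hmn using Nat.le_induction with
        | base => simp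
        | succ n hn ih =>
          have : s (n + 1) - s m = (s n - s m) + a n := by
            simp [s, Finset.sum_range_succ]; ring
          rw [this]
          exact Ideal.add_mem _ ih (Ideal.pow_le_pow_right hn (ha n))
      obtain ⟨L, hL⟩ := IsPrecomplete.prec (I := I) (M := A) inferInstance (f := s)
        (fun {m n} hmn => by
          rw [SModEq.sub_mem, smul_eq_mul, Ideal.mul_top, ← neg_sub]
          exact Submodule.neg_mem _ (hcau hmn))
      refine ⟨φ L, fun n => ?_⟩
      have h1 := hL n
      rw [SModEq.sub_mem, smul_eq_mul, Ideal.mul_top] at h1 ⊢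
      rw [← hs, ← map_sub]
      have h2 : φ (s n - L) ∈ (I ^ n).map φ := Ideal.mem_map_of_mem φ h1
      rw [Ideal.map_pow] at h2
      exact Ideal.pow_right_mono hIJ n h2
    exact { toIsHausdorff := inferInstance, toIsPrecomplete := hprec }

end Groth.Agent.S16456
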