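import Groth.Statements.S16460

set_option autoImplicit false
universe u
open AdicGr

namespace Groth.Agent.S16460

/-- Let A be a commutative ring with a decreasing filtration by ideals A = F₀ ⊇ F₁ ⊇ F₂ ⊇ … satisfying
F_m·F_n ⊆ F_{m+n}, and assume the filtration is separated, ⋂ₙ Fₙ = 0. If the associated graded ring
⊕ₙ Fₙ/Fₙ₊₁ is an integral domain, then A is an integral domain. -/
theorem result (A : Type u) [CommRing A]
    (𝓕 : FiltBl.IdealFiltration A) (hsep : ⨅ n, 𝓕.F n = ⊥) [IsDomain (AssocGr.GrRing 𝓕)] :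
    IsDomain A := by
  have hmax : ∀ a : A, a ≠ 0 → ∃ n, a ∈ 𝓕.F n ∧ a ∉ 𝓕.F (n + 1) := by
    intro a ha
    by_contra hcon
    push Not at hcon
    have hall : ∀ n, a ∈ 𝓕.F n := by
      intro n
      induction n with
      | zero => rw [𝓕.zero_eq]; trivial
      | succ n ih => exact hcon n ih
    apply ha
    have : a ∈ ⨅ n, 𝓕.F n := by simpa [Submodule.mem_iInf] using hall
    rw [hsep] at this
    simpa using this
  have hnt : Nontrivial A := by
    refine ⟨⟨0, 1, fun h => ?_⟩⟩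
    have h1 : (1 : AssocGr.GrRing 𝓕) = 0 := by
      rw [← map_one (algebraMap A (AssocGr.GrRing 𝓕)), ← h, map_zero]
    exact one_ne_zero h1
  have hnzd : NoZeroDivisors A := by
    refine ⟨fun {a b} hab => ?_⟩
    by_contra hcon
    push Not at hcon
    obtain ⟨ha, hb⟩ := hcon
    obtain ⟨m, ham, ham'⟩ := hmax a ha
    obtain ⟨n, hbn, hbn'⟩ := hmax b hb
    have h := AssocGr.coe_inDeg_mul 𝓕 m n ⟨a, ham⟩ ⟨b, hbn⟩
    have h0 : (AssocGr.inDeg 𝓕 (m + n) ⟨a * b, 𝓕.mul_le m n (Ideal.mul_mem_mul ham hbn)⟩ :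
        AssocGr.GrRing 𝓕) = 0 := by
      rw [Submodule.coe_eq_zero, AssocGr.inDeg_eq_zero_iff]
      change a * b ∈ _
      rw [hab]
      exact Submodule.zero_mem _
    have h' : (AssocGr.inDeg 𝓕 m ⟨a, ham⟩ : AssocGr.GrRing 𝓕) *
        (AssocGr.inDeg 𝓕 n ⟨b, hbn⟩ : AssocGr.GrRing 𝓕) = 0 := h.trans h0
    rcases mul_eq_zero.mp h' with h1 | h1
    · rw [Submodule.coe_eq_zero, AssocGr.inDeg_eq_zero_iff] at h1
      exact ham' h1
    · rw [Submodule.coe_eq_zero, AssocGr.inDeg_eq_zero_iff] at h1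
      exact hbn' h1
  exact NoZeroDivisors.to_isDomain A

end Groth.Agent.S16460
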