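import Groth.Statements.S16470
import Groth.Agent.VBCurve.K708.MaxUniq

set_option autoImplicit false
universe u
open CategoryTheory CategoryTheory.Limits AlgebraicGeometry
open VBCurve

namespace Groth.Agent.S16470

/-- Let X be a smooth proper integral curve (integral, smooth and proper of dimension one) over an
algebraically closed field k and E a finite locally free O_X-module of rank r ≥ 1 (degree = χ −
rank·χ(O_X), slope = degree / rank). There is a finite locally free submodule E₁ ⊂ E (a monomorphism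
of O_X-modules) of some rank r₁ ≥ 1, the destabilising sub-bundle, such that: every finite locally
free submodule F ⊂ E of rank r' ≥ 1 has slope at most that of E₁ (deg F · r₁ ≤ deg E₁ · r'); and the
maximal slope drops in the quotient, i.e. every finite locally free submodule G of rank r' ≥ 1 of
the cokernel E/E₁ has deg G · r₁ < deg E₁ · r'. Moreover a submodule with these two properties is
unique: any two are the same subobject of E. (Such an E₁ is slope-semistable, every submodule of E₁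
being a submodule of E; the published statement lists semistability of E₁ as a third property, which
is therefore omitted here.) -/
theorem result (k : Type u) [Field k] [IsAlgClosed k] (X : Scheme.{u}) [X.Over (Spec (CommRingCat.of k))]
    [IsIntegral X] [IsProper (X ↘ Spec (CommRingCat.of k))] [Smooth (X ↘ Spec (CommRingCat.of k))]
    (hdim : topologicalKrullDim X = 1)
    (r : ℕ) (hr : 0 < r) (E : X.Modules) (hE : FlatMod.IsFinLocFreeOfRank r E) :
    (∃ (E₁ : X.Modules) (r₁ : ℕ) (i₁ : E₁ ⟶ E), Mono i₁ ∧ 0 < r₁ ∧ FlatMod.IsFinLocFreeOfRank r₁ E₁ ∧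
      (∀ (F : X.Modules) (r' : ℕ) (j : F ⟶ E), Mono j → 0 < r' → FlatMod.IsFinLocFreeOfRank r' F →
        Curv2.deg k X F r' * (r₁ : ℤ) ≤ Curv2.deg k X E₁ r₁ * (r' : ℤ)) ∧
      (∀ (Q : X.Modules) (s : ℕ) (j : Q ⟶ cokernel i₁), Mono j → 0 < s → FlatMod.IsFinLocFreeOfRank s Q →
        Curv2.deg k X Q s * (r₁ : ℤ) < Curv2.deg k X E₁ r₁ * (s : ℤ))) ∧
    (∀ (E₁ E₁' : X.Modules) (r₁ r₁' : ℕ) (i₁ : E₁ ⟶ E) (i₁' : E₁' ⟶ E),
      Mono i₁ → 0 < r₁ → FlatMod.IsFinLocFreeOfRank r₁ E₁ →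
      (∀ (F : X.Modules) (r' : ℕ) (j : F ⟶ E), Mono j → 0 < r' → FlatMod.IsFinLocFreeOfRank r' F →
        Curv2.deg k X F r' * (r₁ : ℤ) ≤ Curv2.deg k X E₁ r₁ * (r' : ℤ)) →
      (∀ (Q : X.Modules) (s : ℕ) (j : Q ⟶ cokernel i₁), Mono j → 0 < s → FlatMod.IsFinLocFreeOfRank s Q →
        Curv2.deg k X Q s * (r₁ : ℤ) < Curv2.deg k X E₁ r₁ * (s : ℤ)) →
      Mono i₁' → 0 < r₁' → FlatMod.IsFinLocFreeOfRank r₁' E₁' →
      (∀ (F : X.Modules) (r' : ℕ) (j : F ⟶ E), Mono j → 0 < r' → FlatMod.IsFinLocFreeOfRank r' F →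
        Curv2.deg k X F r' * (r₁' : ℤ) ≤ Curv2.deg k X E₁' r₁' * (r' : ℤ)) →
      (∀ (Q : X.Modules) (s : ℕ) (j : Q ⟶ cokernel i₁'), Mono j → 0 < s → FlatMod.IsFinLocFreeOfRank s Q →
        Curv2.deg k X Q s * (r₁' : ℤ) < Curv2.deg k X E₁' r₁' * (s : ℤ)) →
      ∃ e : E₁ ≅ E₁', e.hom ≫ i₁' = i₁) := by
  have C : K707.Base.Crv k X := K707.Base.Crv.of_smooth hdim
  have hEv := K707.Base.isFinLocFree_of_rank hE
  have key : ∀ (E₁ : X.Modules) (r₁ : ℕ) (i₁ : E₁ ⟶ E), Mono i₁ → 0 < r₁ → FlatMod.IsFinLocFreeOfRank r₁ E₁ →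
      (∀ (F : X.Modules) (r' : ℕ) (j : F ⟶ E), Mono j → 0 < r' → FlatMod.IsFinLocFreeOfRank r' F →
        Curv2.deg k X F r' * (r₁ : ℤ) ≤ Curv2.deg k X E₁ r₁ * (r' : ℤ)) →
      (∀ (Q : X.Modules) (s : ℕ) (j : Q ⟶ cokernel i₁), Mono j → 0 < s → FlatMod.IsFinLocFreeOfRank s Q →
        Curv2.deg k X Q s * (r₁ : ℤ) < Curv2.deg k X E₁ r₁ * (s : ℤ)) → K708.MaxUniq.IsMaxDest k i₁ := by
    intro E₁ r₁ i₁ hm hr₁ hE₁ h1 h2
    refine ⟨hm, K707.Base.isFinLocFree_of_rank hE₁, by rwa [K707.Base.rk_of_rank hE₁], fun F j hj hF => ?_,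
      fun F j hj hF hF0 => ?_⟩
    · have hF' := K707.Base.isFinLocFreeOfRank_rk hF
      rcases Nat.eq_zero_or_pos (Groth.Agent.VarietyA.DegRank.rk F) with h0 | h0
      · rw [K707.Semi.dg_of_vb_of_rk_eq_zero C hF h0, h0]; simp
      · have := h1 F _ j hj h0 hF'
        rw [K707.Deg.dg_of_rank k hF', K707.Deg.dg_of_rank k hE₁, K707.Base.rk_of_rank hE₁]
        exact this
    · have hF' := K707.Base.isFinLocFreeOfRank_rk hF
      have := h2 F _ j hj hF0 hF'
      rw [K707.Deg.dg_of_rank k hF', K707.Deg.dg_of_rank k hE₁, K707.Base.rk_of_rank hE₁]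
      exact this
  refine ⟨?_, fun E₁ E₁' r₁ r₁' i₁ i₁' a1 a2 a3 a4 a5 b1 b2 b3 b4 b5 =>
    (key E₁ r₁ i₁ a1 a2 a3 a4 a5).unique C (key E₁' r₁' i₁' b1 b2 b3 b4 b5) hEv⟩
  obtain ⟨G, i, h⟩ := K708.MaxUniq.exists_isMaxDest C hEv (by rwa [K707.Base.rk_of_rank hE])
  have hG := K707.Base.isFinLocFreeOfRank_rk h.vb
  refine ⟨G, _, i, h.mono, h.pos, hG, fun F r' j hj h0 hF => ?_, fun F s j hj h0 hF => ?_⟩
  · have := h.le F j hj (K707.Base.isFinLocFree_of_rank hF)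
    rwa [K707.Deg.dg_of_rank k hF, K707.Deg.dg_of_rank k hG, K707.Base.rk_of_rank hF] at this
  · have := h.lt F j hj (K707.Base.isFinLocFree_of_rank hF) (by rwa [K707.Base.rk_of_rank hF])
    rwa [K707.Deg.dg_of_rank k hF, K707.Deg.dg_of_rank k hG, K707.Base.rk_of_rank hF] at this

end Groth.Agent.S16470
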