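import Groth.Statements.S16478

set_option autoImplicit false
universe u
open GaDual

namespace Groth.Agent.S16478

open TensorProduct Coalgebra

section

variable (p : ℕ) [hp : Fact p.Prime] (A : Type u) [CommRing A] [CharP A p] (n : ℕ)

/-- The linear section `x ^ i ↦ t ^ i` (`i < p ^ n`) of the restriction map. -/
noncomputable def sec [Nontrivial A] : AlphaPn.A p n A →ₗ[A] SekSuwa.A A 0 :=
  (AlphaPn.basis p n A).constr A fun i => SekSuwa.A.t ^ (i : ℕ)

theorem sec_pow [Nontrivial A] (i : ℕ) (hi : i < p ^ n) :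
    sec p A n (AlphaPn.x p n A ^ i) = SekSuwa.A.t ^ i := by
  have h := (AlphaPn.basis p n A).constr_basis A (fun i => (SekSuwa.A.t : SekSuwa.A A 0) ^ (i : ℕ)) ⟨i, hi⟩
  rw [AlphaPn.basis_apply] at h
  exact h

theorem comul_x_pow (i : ℕ) :
    comul (R := A) (AlphaPn.x p n A ^ i) =
      ∑ m ∈ Finset.range (i + 1), (i.choose m) • ((AlphaPn.x p n A ^ m) ⊗ₜ[A] (AlphaPn.x p n A ^ (i - m))) := by
  have h : comul (R := A) (AlphaPn.x p n A ^ i) = (comul (R := A) (AlphaPn.x p n A)) ^ i :=
    map_pow (Bialgebra.comulAlgHom A (AlphaPn.A p n A)) (AlphaPn.x p n A) i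
  rw [h, AlphaPn.comul_x, add_pow]
  refine Finset.sum_congr rfl fun m _ => ?_
  rw [Algebra.TensorProduct.tmul_pow, Algebra.TensorProduct.tmul_pow, one_pow, one_pow,
    Algebra.TensorProduct.tmul_mul_tmul, one_mul, mul_one, nsmul_eq_mul, mul_comm]

theorem comul_t_pow (i : ℕ) :
    comul (R := A) ((SekSuwa.A.t : SekSuwa.A A 0) ^ i) =
      ∑ m ∈ Finset.range (i + 1), (i.choose m) •
        (((SekSuwa.A.t : SekSuwa.A A 0) ^ m) ⊗ₜ[A] ((SekSuwa.A.t : SekSuwa.A A 0) ^ (i - m))) := by
  have h : comul (R := A) ((SekSuwa.A.t : SekSuwa.A A 0) ^ i) = (comul (R := A) (SekSuwa.A.t : SekSuwa.A A 0)) ^ i :=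
    map_pow (Bialgebra.comulAlgHom A (SekSuwa.A A 0)) (SekSuwa.A.t : SekSuwa.A A 0) i
  rw [h, SekSuwa.A.comul_t, zero_smul, add_zero, add_pow]
  refine Finset.sum_congr rfl fun m _ => ?_
  rw [Algebra.TensorProduct.tmul_pow, Algebra.TensorProduct.tmul_pow, one_pow, one_pow,
    Algebra.TensorProduct.tmul_mul_tmul, one_mul, mul_one, nsmul_eq_mul, mul_comm]

theorem counit_sec [Nontrivial A] (u : AlphaPn.A p n A) :
    counit (R := A) (sec p A n u) = counit (R := A) u := by
  have h : (counit (R := A) (A := SekSuwa.A A 0)) ∘ₗ sec p A n = counit (R := A) (A := AlphaPn.A p n A) := by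
    refine (AlphaPn.basis p n A).ext fun i => ?_
    rw [LinearMap.comp_apply, AlphaPn.basis_apply, sec_pow p A n i i.2]
    have h1 : counit (R := A) ((SekSuwa.A.t : SekSuwa.A A 0) ^ (i : ℕ)) = (counit (R := A) (SekSuwa.A.t : SekSuwa.A A 0)) ^ (i : ℕ) :=
      map_pow (Bialgebra.counitAlgHom A (SekSuwa.A A 0)) (SekSuwa.A.t : SekSuwa.A A 0) (i : ℕ)
    have h2 : counit (R := A) (AlphaPn.x p n A ^ (i : ℕ)) = (counit (R := A) (AlphaPn.x p n A)) ^ (i : ℕ) :=
      map_pow (Bialgebra.counitAlgHom A (AlphaPn.A p n A)) (AlphaPn.x p n A) (i : ℕ)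
    rw [h1, h2, SekSuwa.A.counit_t, AlphaPn.counit_x]
  exact LinearMap.congr_fun h u

theorem comul_sec [Nontrivial A] (u : AlphaPn.A p n A) :
    comul (R := A) (sec p A n u) = TensorProduct.map (sec p A n) (sec p A n) (comul (R := A) u) := by
  have h : (comul (R := A) (A := SekSuwa.A A 0)) ∘ₗ sec p A n =
      TensorProduct.map (sec p A n) (sec p A n) ∘ₗ comul (R := A) (A := AlphaPn.A p n A) := by
    refine (AlphaPn.basis p n A).ext fun i => ?_
    rw [LinearMap.comp_apply, LinearMap.comp_apply, AlphaPn.basis_apply, sec_pow p A n i i.2, comul_x_pow,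
      comul_t_pow, map_sum]
    refine Finset.sum_congr rfl fun m hm => ?_
    rw [map_nsmul, TensorProduct.map_tmul, sec_pow, sec_pow]
    · exact lt_of_le_of_lt (Nat.sub_le _ _) i.2
    · exact lt_of_le_of_lt (Nat.lt_succ_iff.mp (Finset.mem_range.mp hm)) i.2
  exact LinearMap.congr_fun h u

end

/-- Let A be a commutative ring of prime characteristic p and n ≥ 1, and let φ be the comorphism of the
closed immersion α_{p^n} → G_a over A: the bialgebra map from the Hopf algebra of the additive group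
(generator t primitive) to A[x]/(x^(p^n)) (x primitive) sending t to x. Then the restriction map on
characters, from those of the additive group over A to those of α_{p^n} over A, is surjective: every
group-like element of A[x]/(x^(p^n)) is the image under φ of a group-like element of the Hopf
algebra of the additive group. -/
theorem result (p : ℕ) [Fact p.Prime] (A : Type u) [CommRing A] [CharP A p]
    (n : ℕ) (hn : 1 ≤ n) (φ : SekSuwa.A A 0 →ₐc[A] AlphaPn.A p n A) (hφ : φ SekSuwa.A.t = AlphaPn.x p n A)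
    (u : AlphaPn.A p n A) (hu : IsGroupLikeElem A u) :
    ∃ g : SekSuwa.A A 0, IsGroupLikeElem A g ∧ φ g = u := by
  have : Nontrivial A := CharP.nontrivial_of_char_ne_one (Fact.out (p := p.Prime)).ne_one
  refine ⟨sec p A n u, ⟨?_, ?_⟩, ?_⟩
  · rw [counit_sec, hu.counit_eq_one]
  · rw [comul_sec, hu.comul_eq_tmul_self, TensorProduct.map_tmul]
  · have h : (φ : SekSuwa.A A 0 →ₐ[A] AlphaPn.A p n A).toLinearMap ∘ₗ sec p A n = LinearMap.id := by
      refine (AlphaPn.basis p n A).ext fun i => ?_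
      rw [LinearMap.comp_apply, AlphaPn.basis_apply, sec_pow p A n i i.2, LinearMap.id_apply]
      change (φ : SekSuwa.A A 0 →ₐ[A] AlphaPn.A p n A) _ = _
      rw [map_pow]
      exact congrArg (· ^ (i : ℕ)) hφ
    exact LinearMap.congr_fun h u

end Groth.Agent.S16478
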