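import Groth.Statements.S16488
import Groth.Agent.SDiv.K476.HomSh4
import Groth.Agent.S1690

set_option autoImplicit false
universe u
open CategoryTheory CategoryTheory.Limits AlgebraicGeometry TopologicalSpace
open VBPn

namespace Groth.Agent.S16488

/-- Let X be an integral locally Noetherian scheme all of whose local rings are regular, and F a
coherent O_X-module which is reflexive, i.e. the canonical map F → F^** is an isomorphism. Then the
singularity set of F (the set of points at which the stalk of F is not free) has codimension at
least 3: for every point x such that F_x is not a free O_{X,x}-module, the local ring O_{X,x} has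
dimension at least 3. The published statement is for reflexive coherent analytic sheaves on a
complex manifold; this row is its statement for coherent sheaves on a regular integral locally
Noetherian scheme, where the same argument (a reflexive sheaf is locally a second syzygy sheaf)
applies. -/
theorem result (X : Scheme.{u}) [IsIntegral X] [IsLocallyNoetherian X]
    (hreg : ∀ x : X, IsRegularLocalRing (X.presheaf.stalk x)) (F : X.Modules) (hF : Coh.IsCoh F)
    (hrefl : RefHull.IsReflexive F) (x : X) (hx : ¬ Module.Free (X.presheaf.stalk x) (F.presheaf.stalk x)) :
    (3 : WithBot ℕ∞) ≤ ringKrullDim (X.presheaf.stalk x) := by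
  by_contra hd
  have hle : ringKrullDim (X.presheaf.stalk x) ≤ 2 := by
    rw [not_le] at hd
    have h2 : (3 : WithBot ℕ∞) = ((2 : ℕ) : WithBot ℕ∞) + 1 := by norm_num
    rw [h2, ENat.WithBot.lt_add_one_iff] at hd
    simpa using hd
  have h1 := hreg x
  have h2 := Groth.Agent.Divis.StalkMod.finite_stalk hF x
  have h3 : Module.IsReflexive (X.presheaf.stalk x) (F.presheaf.stalk x) :=
    (K476.HomSh4.isReflexive_iff_isReflexiveAt hF).mp hrefl x
  exact hx (Groth.Agent.Divis.ReflexAlg.free_of_isReflexive hle _)

end Groth.Agent.S16488
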