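import Groth.Statements.S16495
import Groth.Agent.ResProp.K226.TFStalk
import Groth.Agent.ResProp.K226.EvPair
import Groth.Agent.ResProp.K226.DualSurj
import Groth.Agent.ResProp.K226.BirStalk
import Groth.Agent.S3638
import Groth.Agent.S0002
import Groth.Agent.FormalB.PullCoh
import Groth.Agent.FormalA.ExPush
import Groth.Agent.Coh.K415.Birat
import Groth.Agent.Ega1.TensorRestrict

set_option autoImplicit false
universe u
open CategoryTheory CategoryTheory.Limits AlgebraicGeometry
attribute [local instance] HasDerivedCategory.standard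
open ResProp

namespace Groth.Agent.S16495

/-- Let k be a field and let X and Y be integral normal schemes, proper over k, both of dimension d; let
ω_X and ω_Y be their dualizing modules (the cohomology sheaf in degree -d of p^! O for the structure
morphism p to Spec k, assuming the derived direct image Rp_* on D_QCoh and its right adjoint exist,
which is how the prelude presents p^!), and let f : Y → X be a k-morphism which is birational (an
isomorphism over some nonempty open subset of X). Then for every coherent O_X-module F there is a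
surjective k-linear map H^d(Y, 𝓗om_{O_Y}(f^*ω_X, ω_Y) ⊗ f^*F) → H^d(X, F). The published statement
says 'd-dimensional normal schemes'; the row takes X and Y integral, the case to which the text has
reduced before the lemma. -/
theorem result (k : Type u) [Field k]
    (X Y : Scheme.{u}) [X.Over (Spec (CommRingCat.of k))] [Y.Over (Spec (CommRingCat.of k))] [IsProper (X ↘ (Spec (CommRingCat.of k)))] [IsProper (Y ↘ (Spec (CommRingCat.of k)))]
    [IsIntegral X] [IsIntegral Y] (hXn : Pi1.IsNormalScheme X) (hYn : Pi1.IsNormalScheme Y)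
    (d : ℕ) (hdX : topologicalKrullDim X = d) (hdY : topologicalKrullDim Y = d)
    (f : Y ⟶ X) (hf : f ≫ (X ↘ (Spec (CommRingCat.of k))) = Y ↘ (Spec (CommRingCat.of k)))
    (hbir : ∃ U : X.Opens, (U : Set X).Nonempty ∧ IsIso (f ∣_ U))
    [DCoh.HasRpush (X ↘ (Spec (CommRingCat.of k)))] (hX : DCoh.RpushPreservesQCoh (X ↘ (Spec (CommRingCat.of k)))) [DCoh.HasShriek (X ↘ (Spec (CommRingCat.of k))) hX]
    [DCoh.HasRpush (Y ↘ (Spec (CommRingCat.of k)))] (hY : DCoh.RpushPreservesQCoh (Y ↘ (Spec (CommRingCat.of k)))) [DCoh.HasShriek (Y ↘ (Spec (CommRingCat.of k))) hY]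
    (OS : DCoh.DQCoh (Spec (CommRingCat.of k))) (hOS : Nonempty (OS.obj ≅ DCoh.inD (Spec (CommRingCat.of k)) (Coh.structureModule (Spec (CommRingCat.of k)))))
    (F : X.Modules) (hF : Coh.IsCoh F) :
    ∃ φ : Coh.HH Y (CohB1.tensorMod
          (RefHull.homSh ((Scheme.Modules.pullback f).obj (DCoh.dualizingMod (X ↘ (Spec (CommRingCat.of k))) hX OS d))
            (DCoh.dualizingMod (Y ↘ (Spec (CommRingCat.of k))) hY OS d))
          ((Scheme.Modules.pullback f).obj F)) d →ₗ[k] Coh.HH X F d,
      Function.Surjective φ := by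
  classical
  have hpX := ‹IsProper (X ↘ (Spec (CommRingCat.of k)))›
  have cX : CompactSpace X := QuasiCompact.compactSpace_of_compactSpace (X ↘ (Spec (CommRingCat.of k)))
  have cY : CompactSpace Y := QuasiCompact.compactSpace_of_compactSpace (Y ↘ (Spec (CommRingCat.of k)))
  have nX : IsLocallyNoetherian X := LocallyOfFiniteType.isLocallyNoetherian (X ↘ (Spec (CommRingCat.of k)))
  have nY : IsLocallyNoetherian Y := LocallyOfFiniteType.isLocallyNoetherian (Y ↘ (Spec (CommRingCat.of k)))
  have nX' : IsNoetherian X := ⟨⟩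
  have nY' : IsNoetherian Y := ⟨⟩
  obtain ⟨⟨cohX, sX, suppX⟩, -⟩ := Groth.Agent.S3638.result k X (X ↘ (Spec (CommRingCat.of k))) d hdX hX
    (DCoh.shriek (X ↘ (Spec (CommRingCat.of k))) hX) (DCoh.shriekAdj (X ↘ (Spec (CommRingCat.of k))) hX) OS hOS
  obtain ⟨⟨cohY, sY, suppY⟩, -⟩ := Groth.Agent.S3638.result k Y (Y ↘ (Spec (CommRingCat.of k))) d hdY hY
    (DCoh.shriek (Y ↘ (Spec (CommRingCat.of k))) hY) (DCoh.shriekAdj (Y ↘ (Spec (CommRingCat.of k))) hY) OS hOS
  have gX : Nontrivial ((DCoh.dualizingMod (X ↘ (Spec (CommRingCat.of k))) hX OS d).presheaf.stalk (genericPoint X)) :=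
    K226.BirStalk.nontrivial_of_supp hdX _ suppX _
  have gY : Nontrivial ((DCoh.dualizingMod (Y ↘ (Spec (CommRingCat.of k))) hY OS d).presheaf.stalk (genericPoint Y)) :=
    K226.BirStalk.nontrivial_of_supp hdY _ suppY _
  have tfX : TorSh.IsTorsionFree (DCoh.dualizingMod (X ↘ (Spec (CommRingCat.of k))) hX OS d) :=
    K226.TFStalk.isTorsionFree_of_hasSk cohX gX (fun x => K966.SerreBasic.hasSk_mono (by norm_num) (sX x))
  obtain ⟨t, ht⟩ := Groth.Agent.CurvesC.DualRep.exists_form_mod k X hX OS d hdX.le hOS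
  obtain ⟨t', ht'⟩ := Groth.Agent.CurvesC.DualRep.exists_form_mod k Y hY OS d hdY.le hOS
  have fin := Groth.Agent.S0002.result k X F hF d
  have qA := Groth.Agent.FormalB.PullCoh.isCoh_pullback f cohX
  have pA := K476.HomSh3.isFP_of_isCoh qA
  obtain ⟨U, hU, hfU⟩ := hbir
  obtain ⟨hgen, hst⟩ := K415.Birat.generic_of_isIso_restrict f U hU hfU
  refine K226.DualSurj.exists_surjective t t' (ht F hF.1) (ht' _ ?_).1
    (fun ψ => K226.EvPair.evm _ ((Scheme.Modules.pullback f).map ψ)) ?_ ?_ ?_
  · exact Groth.Agent.Ega1.TensorRestrict.isQCoh_tensorMod _ _ (K476.HomSh3.isQCoh_homSh pA cohY.1)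
      (Groth.Agent.FormalB.PullCoh.isCoh_pullback f hF).1
  · have hadd : ∀ ψ ψ' : F ⟶ DCoh.dualizingMod (X ↘ (Spec (CommRingCat.of k))) hX OS d,
        K226.EvPair.evm (DCoh.dualizingMod (Y ↘ (Spec (CommRingCat.of k))) hY OS d) ((Scheme.Modules.pullback f).map (ψ + ψ')) =
        K226.EvPair.evm _ ((Scheme.Modules.pullback f).map ψ) + K226.EvPair.evm _ ((Scheme.Modules.pullback f).map ψ') := by
      intro ψ ψ'
      rw [Functor.map_add, K226.EvPair.evm_add]
    have hker : ∀ ψ : F ⟶ DCoh.dualizingMod (X ↘ (Spec (CommRingCat.of k))) hX OS d,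
        K226.EvPair.evm (DCoh.dualizingMod (Y ↘ (Spec (CommRingCat.of k))) hY OS d) ((Scheme.Modules.pullback f).map ψ) = 0 → ψ = 0 := by
      intro ψ h0
      have h1 := K226.EvPair.stalk_eq_zero _ pA _ h0 (genericPoint Y)
        (Semifield.toIsField Y.functionField) gY
      exact K226.BirStalk.eq_zero_of_pullback f hgen (ConcreteCategory.bijective_of_isIso _) cohX.1 tfX ψ h1
    intro ψ ψ' h
    have h2 := hker (ψ - ψ') ?_
    · exact sub_eq_zero.mp h2
    · have h3 := hadd (ψ - ψ') ψ'
      rw [sub_add_cancel] at h3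
      have h4 := h3.symm.trans h
      exact add_eq_right.mp h4
  · intro ψ ψ'
    change K226.EvPair.evm _ ((Scheme.Modules.pullback f).map (ψ + ψ')) = _
    rw [Functor.map_add, K226.EvPair.evm_add]
  · intro a ψ
    change K226.EvPair.evm _ ((Scheme.Modules.pullback f).map (ψ ≫ Formal.smulMod k _ a)) = _
    rw [Functor.map_comp, Groth.Agent.FormalA.ExPush.pullback_map_smulMod f hf, K226.EvPair.evm_smulMod]

end Groth.Agent.S16495
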