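import Groth.Statements.S16500
import Mathlib.Tactic

set_option autoImplicit false
universe u
open Curves

namespace Groth.Agent.S16500

lemma reflect_pow {k : Type u} [Field k] (f : Polynomial k) (N : ℕ) (hf : f.natDegree ≤ N) (h : ℕ) :
    (Polynomial.reflect N f) ^ h = Polynomial.reflect (N * h) (f ^ h) := by
  induction h with
  | zero => simp [Polynomial.reflect_one]
  | succ n ih =>
    rw [pow_succ, pow_succ, Nat.mul_succ, ih,
      Polynomial.reflect_mul (f ^ n) f (F := N * n) (G := N) ?_ hf]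
    calc (f ^ n).natDegree ≤ n * f.natDegree := Polynomial.natDegree_pow_le
      _ ≤ n * N := Nat.mul_le_mul_left _ hf
      _ = N * n := Nat.mul_comm _ _

/-- Let k be a field of odd characteristic p, g ≤ p a natural number and f ∈ k[x] of degree at most 2g +
2. Let F be f with its coefficients reversed in degrees 0, …, 2g + 2, i.e. F(X) = X^(2g+2) f(1/X)
(Mathlib's reflect (2g+2) f), and write f^((p-1)/2) = Σ_l c_l x^l and F^((p-1)/2) = Σ_l C_l X^l.
Then C_{ip-j} = c_{(g+1-i)p-(g+1-j)} for all i, j = 1, …, g; that is, the g × g Cartier–Manin matrix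
of F is that of f with the order of both rows and columns reversed (below the indices run over Fin
g, the entry at (i, j) being the coefficient of degree (i+1)p-(j+1), and reversal is Fin.rev). In
particular the two matrices have the same determinant. (The source applies this to f with f(0) = 0,
separable of degree 2g + 2 over a perfect field, so that F has odd degree 2g + 1; the identity uses
none of that.) -/
theorem result (k : Type u) [Field k] (p : ℕ) [Fact p.Prime] (hp : p ≠ 2) [CharP k p]
    (g : ℕ) (hg : g ≤ p) (f : Polynomial k) (hf : f.natDegree ≤ 2 * g + 2) :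
    (Matrix.of fun i j : Fin g =>
        ((Polynomial.reflect (2 * g + 2) f) ^ ((p - 1) / 2)).coeff (((i : ℕ) + 1) * p - ((j : ℕ) + 1))) =
      Matrix.of fun i j : Fin g =>
        (f ^ ((p - 1) / 2)).coeff (((Fin.rev i : ℕ) + 1) * p - ((Fin.rev j : ℕ) + 1)) := by
  have hodd : p % 2 = 1 := (Fact.out : p.Prime).eq_two_or_odd.resolve_left hp
  obtain ⟨h, hh⟩ : ∃ h, p = 2 * h + 1 := ⟨p / 2, by omega⟩
  have hhalf : (p - 1) / 2 = h := by omega
  ext i j
  simp only [Matrix.of_apply]
  rw [hhalf, reflect_pow f _ hf, Polynomial.coeff_reflect]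
  congr 1
  have hi := i.2
  have hj := j.2
  have e1 : (Fin.rev i : ℕ) + 1 = g - i := by rw [Fin.val_rev]; omega
  have e2 : (Fin.rev j : ℕ) + 1 = g - j := by rw [Fin.val_rev]; omega
  rw [e1, e2]
  obtain ⟨a, ha⟩ : ∃ a, g = (i : ℕ) + 1 + a := ⟨g - (i + 1), by omega⟩
  have hle : ((i : ℕ) + 1) * p - ((j : ℕ) + 1) ≤ (2 * g + 2) * h := by
    rw [Nat.sub_le_iff_le_add]
    have h1 : (2 * g + 2) * h = (i + 1) * (2 * h) + (a + 1) * (2 * h) := by
      have : (2 * g + 2) * h = (g + 1) * (2 * h) := by ring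
      rw [this, show g + 1 = ((i : ℕ) + 1) + (a + 1) by omega, add_mul]
    have h2 : ((i : ℕ) + 1) * p = (i + 1) * (2 * h) + (i + 1) := by
      conv_lhs => rw [hh]
      ring
    rw [h1, h2]
    have h3 : (a + 1) * (2 * h) ≥ 2 * h := by nlinarith
    omega
  rw [Polynomial.revAt_le hle]
  have h4 : g - (i : ℕ) = a + 1 := by omega
  rw [h4]
  have h1 : (2 * g + 2) * h = (i + 1) * (2 * h) + (a + 1) * (2 * h) := by
    have : (2 * g + 2) * h = (g + 1) * (2 * h) := by ring
    rw [this, show g + 1 = ((i : ℕ) + 1) + (a + 1) by omega, add_mul]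
  have h2 : ((i : ℕ) + 1) * p = (i + 1) * (2 * h) + (i + 1) := by
    conv_lhs => rw [hh]
    ring
  have h5 : (a + 1) * p = (a + 1) * (2 * h) + (a + 1) := by
    conv_lhs => rw [hh]
    ring
  rw [h1] at hle ⊢
  rw [h2] at hle ⊢
  rw [h5]
  have h3 : (a + 1) * (2 * h) ≥ 2 * h := by nlinarith
  have h6 : ((i : ℕ) + 1) * (2 * h) ≥ 2 * h := by nlinarith
  omega

end Groth.Agent.S16500
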