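import Groth.Statements.S16510
import Groth.Agent.Curves.K329.Core6
import Groth.Agent.Curves.K329.Num510
import Groth.Agent.Curves.K354.Sections510
import Groth.Agent.Curves.K458.Rigid

set_option autoImplicit false
attribute [-instance] CategoryTheory.catToReflQuiver
universe u
open CategoryTheory AlgebraicGeometry
open Curves

namespace Groth.Agent.S16510

/-- Over an algebraically closed field k, let X ⊆ P^N_k be a projective variety, C a smooth proper curve
and F : C × T → X a one-parameter family of k-morphisms parametrized by an integral curve T with a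
k-point t₀, f = F(−, t₀), which fixes a finite nonempty set B of closed points of C (F is constant
on {b} × T with value f(b)) and is not the constant family. Then some nonconstant rational curve g
from the projective line to X meets f(B) and satisfies deg(g^*O(1)) · Card B ≤ 2 deg(f^*O(1)). (The
published hypothesis is that Mor(C, X; B ↦ f(B)) has positive dimension at f, which yields such a
family; the ample divisor is taken to be a hyperplane class.) -/
theorem result
    (k : Type u) [Field k] [IsAlgClosed k]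
    (X : Scheme.{u}) [X.Over (Spec (CommRingCat.of k))] [IsIntegral X]
    (N : ℕ) (ι : X ⟶ CohB1.ProjSpace N k) [IsClosedImmersion ι]
    (hι : ι ≫ CohB1.ProjSpace.toSpec N k = X ↘ Spec (CommRingCat.of k))
    (C : Scheme.{u}) [C.Over (Spec (CommRingCat.of k))] (hC : Curve.IsSmoothProperCurve k C (C ↘ Spec (CommRingCat.of k)))
    (T : Scheme.{u}) [T.Over (Spec (CommRingCat.of k))] [IsIntegral T] [IsSeparated (T ↘ Spec (CommRingCat.of k))]
    [LocallyOfFiniteType (T ↘ Spec (CommRingCat.of k))] [CompactSpace T] (hT : topologicalKrullDim T = 1)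
    (t₀ : Spec (CommRingCat.of k) ⟶ T) (ht₀ : t₀ ≫ (T ↘ Spec (CommRingCat.of k)) = 𝟙 _)
    (F : Limits.pullback (C ↘ Spec (CommRingCat.of k)) (T ↘ Spec (CommRingCat.of k)) ⟶ X)
    (hF : F ≫ (X ↘ Spec (CommRingCat.of k)) = Limits.pullback.fst (C ↘ Spec (CommRingCat.of k)) (T ↘ Spec (CommRingCat.of k)) ≫ (C ↘ Spec (CommRingCat.of k)))
    (s : C ⟶ Limits.pullback (C ↘ Spec (CommRingCat.of k)) (T ↘ Spec (CommRingCat.of k))) (hs₁ : s ≫ Limits.pullback.fst (C ↘ Spec (CommRingCat.of k)) (T ↘ Spec (CommRingCat.of k)) = 𝟙 C)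
    (hs₂ : s ≫ Limits.pullback.snd (C ↘ Spec (CommRingCat.of k)) (T ↘ Spec (CommRingCat.of k)) = (C ↘ Spec (CommRingCat.of k)) ≫ t₀)
    (f : C ⟶ X) (hf : f = s ≫ F)
    (B : Finset C) (hB : B.Nonempty) (hBc : ∀ b ∈ B, IsClosed ({b} : Set C))
    (hfix : ∀ b ∈ B, ∀ z : ↥(Limits.pullback (C ↘ Spec (CommRingCat.of k)) (T ↘ Spec (CommRingCat.of k))),
      (Limits.pullback.fst (C ↘ Spec (CommRingCat.of k)) (T ↘ Spec (CommRingCat.of k))).base z = b → F.base z = f.base b)
    (hnontriv : ¬ ∃ h : C ⟶ X, F = Limits.pullback.fst (C ↘ Spec (CommRingCat.of k)) (T ↘ Spec (CommRingCat.of k)) ≫ h) :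
    ∃ g : CohB1.ProjSpace 1 k ⟶ X, g ≫ (X ↘ Spec (CommRingCat.of k)) = CohB1.ProjSpace.toSpec 1 k ∧
      (¬ ∃ x : X, Set.range g.base ⊆ {x}) ∧ (∃ b ∈ B, f.base b ∈ Set.range g.base) ∧
      Curv2.deg k (CohB1.ProjSpace 1 k)
          ((Scheme.Modules.pullback (g ≫ ι)).obj (Twist.twistProjSpace N k 1)) 1 * (B.card : ℤ) ≤
      2 * Curv2.deg k C ((Scheme.Modules.pullback (f ≫ ι)).obj (Twist.twistProjSpace N k 1)) 1 :=
  K329.Core6.main (K354.Sections510.sections k) (K458.Rigid.rigid k) (K329.Num510.numbers k) X N ι hι C hC T hT t₀ ht₀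
    F hF s hs₁ hs₂ f hf B hB hBc hfix hnontriv

end Groth.Agent.S16510
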