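import Groth.Statements.S16503
import Groth.Agent.S16510
import Groth.Agent.Curves.K756.Mori503
-- import your own Groth.Agent.* helpers here

set_option autoImplicit false
attribute [-instance] CategoryTheory.catToReflQuiver
universe u
open CategoryTheory AlgebraicGeometry
open Curves

namespace Groth.Agent.S16503

/-- Over an algebraically closed field k, let X ⊆ P^N_k be a projective variety of dimension n, let f :
C → X be a k-morphism from a smooth proper curve whose image lies in an open subscheme of X that is
smooth over k, and assume that the pullback f^*Ω_{X/k} (locally free of rank n on C) has negative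
degree. Then through the image of every closed point of C there passes a rational curve g : P^1_k →
X, nonconstant, with deg(g^*L) · (−deg f^*Ω_{X/k}) ≤ 2 n · deg(f^*L), where L is the restriction to
X of O(1). (The ample divisor of the published statement is taken to be a hyperplane class; the
general case follows by scaling.) -/
theorem result
    (k : Type u) [Field k] [IsAlgClosed k]
    (X : Scheme.{u}) [X.Over (Spec (CommRingCat.of k))] [IsIntegral X]
    (N : ℕ) (ι : X ⟶ CohB1.ProjSpace N k) [IsClosedImmersion ι]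
    (hι : ι ≫ CohB1.ProjSpace.toSpec N k = X ↘ Spec (CommRingCat.of k))
    (n : ℕ) (hn : topologicalKrullDim X = n)
    (C : Scheme.{u}) [C.Over (Spec (CommRingCat.of k))] (hC : Curve.IsSmoothProperCurve k C (C ↘ Spec (CommRingCat.of k)))
    (f : C ⟶ X) (hf : f ≫ (X ↘ Spec (CommRingCat.of k)) = C ↘ Spec (CommRingCat.of k))
    (U : X.Opens) (hU : Set.range f.base ⊆ (U : Set X))
    (hUs : Smooth (U.ι ≫ (X ↘ Spec (CommRingCat.of k))))
    (hK : Curv2.deg k C ((Scheme.Modules.pullback f).obj (Omega.sheaf (X ↘ Spec (CommRingCat.of k)))) n < 0)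
    (c : C) (hc : IsClosed ({c} : Set C)) :
    ∃ g : CohB1.ProjSpace 1 k ⟶ X, g ≫ (X ↘ Spec (CommRingCat.of k)) = CohB1.ProjSpace.toSpec 1 k ∧
      (¬ ∃ x : X, Set.range g.base ⊆ {x}) ∧ f.base c ∈ Set.range g.base ∧
      Curv2.deg k (CohB1.ProjSpace 1 k)
          ((Scheme.Modules.pullback (g ≫ ι)).obj (Twist.twistProjSpace N k 1)) 1 *
        (- Curv2.deg k C ((Scheme.Modules.pullback f).obj (Omega.sheaf (X ↘ Spec (CommRingCat.of k)))) n) ≤
      2 * n * Curv2.deg k C ((Scheme.Modules.pullback (f ≫ ι)).obj (Twist.twistProjSpace N k 1)) 1 :=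
  K756.Mori503.all (fun k _ _ => fun X _ _ N ι _ hι C _ hC T _ _ _ _ _ hT t₀ ht₀ F hF s hs₁ hs₂ f hf B hB hBc hfix hnt =>
    Groth.Agent.S16510.result k X N ι hι C hC T hT t₀ ht₀ F hF s hs₁ hs₂ f hf B hB hBc hfix hnt)
    k X N ι hι n hn C hC f hf U hU hUs hK c hc

end Groth.Agent.S16503
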