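import Groth.Statements.S16505
import Groth.Agent.S16503
import Groth.Agent.Curves.K792.NefMain
-- import your own Groth.Agent.* helpers here

set_option autoImplicit false
attribute [-instance] CategoryTheory.catToReflQuiver
universe u
open CategoryTheory AlgebraicGeometry
open Curves

namespace Groth.Agent.S16505

/-- Over an algebraically closed field k, let X be a smooth projective variety of dimension n such that
−K_X is nef, expressed through curves: for every k-morphism f : C → X from a smooth proper curve,
deg f^*Ω_{X/k} ≤ 0. Then either K_X is numerically trivial (deg f^*Ω_{X/k} = 0 for all such f) or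
through every closed point of X there passes a rational curve (a nonconstant k-morphism from the
projective line). (The published statement adds, in the second case, a bound on the degree of these
curves with respect to a suitable ample divisor; this row omits that bound.) -/
theorem result
    (k : Type u) [Field k] [IsAlgClosed k]
    (X : Scheme.{u}) [X.Over (Spec (CommRingCat.of k))] [IsIntegral X] [Smooth (X ↘ Spec (CommRingCat.of k))]
    (hX : ∃ (N : ℕ) (ι : X ⟶ CohB1.ProjSpace N k), IsClosedImmersion ι ∧
      ι ≫ CohB1.ProjSpace.toSpec N k = X ↘ Spec (CommRingCat.of k))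
    (n : ℕ) (hn : topologicalKrullDim X = n)
    (hnef : ∀ (C : Scheme.{u}) [C.Over (Spec (CommRingCat.of k))],
      Curve.IsSmoothProperCurve k C (C ↘ Spec (CommRingCat.of k)) →
      ∀ f : C ⟶ X, f ≫ (X ↘ Spec (CommRingCat.of k)) = C ↘ Spec (CommRingCat.of k) →
        Curv2.deg k C ((Scheme.Modules.pullback f).obj (Omega.sheaf (X ↘ Spec (CommRingCat.of k)))) n ≤ 0) :
    (∀ (C : Scheme.{u}) [C.Over (Spec (CommRingCat.of k))],
      Curve.IsSmoothProperCurve k C (C ↘ Spec (CommRingCat.of k)) →
      ∀ f : C ⟶ X, f ≫ (X ↘ Spec (CommRingCat.of k)) = C ↘ Spec (CommRingCat.of k) →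
        Curv2.deg k C ((Scheme.Modules.pullback f).obj (Omega.sheaf (X ↘ Spec (CommRingCat.of k)))) n = 0) ∨
    (∀ x : X, IsClosed ({x} : Set X) → ∃ g : CohB1.ProjSpace 1 k ⟶ X,
      g ≫ (X ↘ Spec (CommRingCat.of k)) = CohB1.ProjSpace.toSpec 1 k ∧
      (¬ ∃ y : X, Set.range g.base ⊆ {y}) ∧ x ∈ Set.range g.base) :=
  K792.NefMain.main
    (fun k _ _ X _ _ N i _ h n hn C _ hC f hf U hU hUs hK c hc =>
      Groth.Agent.S16503.result k X N i h n hn C hC f hf U hU hUs hK c hc)
    k X hX n hn hnef

end Groth.Agent.S16505
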