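import Groth.Statements.S16509
import Groth.Agent.Curves.K329.TwoPts
import Groth.Agent.Curves.K329.OtherPt

set_option autoImplicit false
universe u
open CategoryTheory AlgebraicGeometry
open Curves

namespace Groth.Agent.S16509

/-- Over an algebraically closed field k, let f : Y → X be a birational k-morphism from a projective
variety to a smooth projective variety, and let Exc(f) be its exceptional locus, the set of points
of Y over no neighbourhood of whose image f restricts to an isomorphism. Then through a general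
point of each component of Exc(f) there is a rational curve contracted by f: some subset of Exc(f),
open and dense in it, consists of points each of whose closed points lies on the image of a
nonconstant k-morphism from the projective line that f maps to a single point. (The base field is
taken algebraically closed here.) -/
theorem result
    (k : Type u) [Field k] [IsAlgClosed k]
    (Y : Scheme.{u}) [Y.Over (Spec (CommRingCat.of k))] [IsIntegral Y]
    (hY : ∃ (n : ℕ) (ι : Y ⟶ CohB1.ProjSpace n k), IsClosedImmersion ι ∧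
      ι ≫ CohB1.ProjSpace.toSpec n k = Y ↘ Spec (CommRingCat.of k))
    (X : Scheme.{u}) [X.Over (Spec (CommRingCat.of k))] [IsIntegral X] [Smooth (X ↘ Spec (CommRingCat.of k))]
    (hX : ∃ (n : ℕ) (ι : X ⟶ CohB1.ProjSpace n k), IsClosedImmersion ι ∧
      ι ≫ CohB1.ProjSpace.toSpec n k = X ↘ Spec (CommRingCat.of k))
    (f : Y ⟶ X) (hf : f ≫ (X ↘ Spec (CommRingCat.of k)) = Y ↘ Spec (CommRingCat.of k))
    (hbir : ∃ V : X.Opens, (V : Set X).Nonempty ∧ IsIso (f ∣_ V))
    (Exc : Set Y) (hExc : Exc = {y : Y | ∀ V : X.Opens, f.base y ∈ V → ¬ IsIso (f ∣_ V)}) :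
    ∃ O : Set Y, O ⊆ Exc ∧ IsOpen (Subtype.val ⁻¹' O : Set Exc) ∧ Dense (Subtype.val ⁻¹' O : Set Exc) ∧
      ∀ y ∈ O, IsClosed ({y} : Set Y) → ∃ g : CohB1.ProjSpace 1 k ⟶ Y,
        g ≫ (Y ↘ Spec (CommRingCat.of k)) = CohB1.ProjSpace.toSpec 1 k ∧
        (¬ ∃ z : Y, Set.range g.base ⊆ {z}) ∧ y ∈ Set.range g.base ∧
        ∃ x : X, Set.range (g ≫ f).base ⊆ {x} := by
  subst hExc
  obtain ⟨n, ι, hι, hιs⟩ := hY
  obtain ⟨n', ι', hι', hιs'⟩ := hX
  have hpr : ∀ n, IsProper (CohB1.ProjSpace.toSpec n k) := fun n =>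
    Groth.Agent.VarietyB.ProjSpaceProper.isProper_toSpec n k
  have hYp : IsProper (Y ↘ Spec (CommRingCat.of k)) := by
    rw [← hιs]
    have := hpr n
    infer_instance
  have hXp : IsProper (X ↘ Spec (CommRingCat.of k)) := by
    rw [← hιs']
    have := hpr n'
    infer_instance
  have hfp : IsProper f := by
    have : IsProper (f ≫ (X ↘ Spec (CommRingCat.of k))) := by rwa [hf]
    exact IsProper.of_comp f (X ↘ Spec (CommRingCat.of k))
  obtain ⟨V, hV, hiso⟩ := hbir
  refine ⟨_, subset_rfl, ?_, ?_, ?_⟩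
  · rw [Subtype.coe_preimage_self]
    exact isOpen_univ
  · rw [Subtype.coe_preimage_self]
    exact dense_univ
  · intro y hyE hy
    obtain ⟨y', hy', hne, hfy⟩ := K329.OtherPt.exists_other (X ↘ Spec (CommRingCat.of k)) f V hV hiso y hy hyE
    have hV' : (f ⁻¹ᵁ V : Set Y).Nonempty := by
      obtain ⟨v, hv⟩ := hV
      refine ⟨(f ⁻¹ᵁ V).ι (inv (f ∣_ V) ⟨v, hv⟩), ?_⟩
      rw [← Scheme.Opens.range_ι]
      exact ⟨_, rfl⟩
    obtain ⟨r, hr1, hr2, hr3, hr4⟩ := K329.TwoPts.two_points (X ↘ Spec (CommRingCat.of k)) f V hV'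
      (Y ↘ Spec (CommRingCat.of k)) ι hιs (𝟙 Y) (by rw [Category.id_comp, hf]) y y' hy hy' hfy.symm
      (by simpa using hne.symm)
    refine ⟨r, hr1, hr2, by simpa using hr3, hr4 f hf (Category.id_comp f)⟩


end Groth.Agent.S16509
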