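import Groth.Statements.S17162
import Groth.Agent.MorSch.K327.SepUni

set_option autoImplicit false
universe u
open CategoryTheory CategoryTheory.Limits AlgebraicGeometry
open MorSch

namespace Groth.Agent.S17162

/-- Let X be a quasi-projective variety over an algebraically closed field k. If X contains a free
rational curve, i.e. a nonconstant k-morphism f from the projective line to X whose image lies in
the smooth locus of X over k and such that f^*T_X is globally generated (T_X the dual of the sheaf
of differentials), then X is separably uniruled: there is a k-variety M and a rational map from the
product of the projective line with M to X, defined on a dense open subset, which is dominant,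
smooth on a dense open subset of its domain, and does not contract some curve of the family. (The
published statement is for any variety; its proof first replaces X by a quasi-projective variety,
and this row assumes X quasi-projective.) -/
theorem result
    (k : Type u) [Field k] [IsAlgClosed k] (X : Scheme.{u}) (pX : X ⟶ Spec (CommRingCat.of k))
    [IsIntegral X] [IsSeparated pX] [LocallyOfFinitePresentation pX] [QuasiCompact pX]
    (hqp : ∃ (N : ℕ) (ι : X ⟶ CohB1.ProjSpace N k), IsImmersion ι ∧ ι ≫ CohB1.ProjSpace.toSpec N k = pX)
    (f : CohB1.ProjSpace 1 k ⟶ X) (hf : f ≫ pX = CohB1.ProjSpace.toSpec 1 k)
    (hnc : ¬ ∃ x : X, Set.range f.base ⊆ {x})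
    (hsm : Set.range f.base ⊆ (pX.smoothLocus : Set X)) (hfree : MorSch.IsFree pX f) :
    MorSch.IsSepUniruled k pX := by
  exact K327.SepUni.main k X pX hqp f hf hnc hsm hfree

end Groth.Agent.S17162
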