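import Groth.Statements.S17163
import Groth.Agent.MorSch.K921.DoubFam

set_option autoImplicit false
universe u
open CategoryTheory CategoryTheory.Limits AlgebraicGeometry
open MorSch

namespace Groth.Agent.S17163

/-- Let X be a smooth projective variety over an algebraically closed field k which is separably
uniruled. Then a general point of X lies on a free rational curve: there is a nonempty open subset U
of X such that every closed point of U lies on the image of a nonconstant k-morphism g from the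
projective line with g^*T_X globally generated (T_X the dual of the sheaf of differentials). (The
published statement has X smooth and proper; this row takes X projective.) -/
theorem result
    (k : Type u) [Field k] [IsAlgClosed k] (X : Scheme.{u}) (pX : X ⟶ Spec (CommRingCat.of k))
    [IsIntegral X] [Smooth pX]
    (hproj : ∃ (N : ℕ) (ι : X ⟶ CohB1.ProjSpace N k), IsClosedImmersion ι ∧ ι ≫ CohB1.ProjSpace.toSpec N k = pX)
    (h : MorSch.IsSepUniruled k pX) :
    ∃ U : X.Opens, (U : Set X).Nonempty ∧ ∀ x ∈ (U : Set X), IsClosed ({x} : Set X) →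
      ∃ g : CohB1.ProjSpace 1 k ⟶ X, g ≫ pX = CohB1.ProjSpace.toSpec 1 k ∧ (¬ ∃ y : X, Set.range g.base ⊆ {y}) ∧
        x ∈ Set.range g.base ∧ MorSch.IsFree pX g := by
  obtain ⟨N₀, ι₀, hι₀, hι₀'⟩ := hproj
  have hprop : IsProper pX := by
    rw [← hι₀']
    infer_instance
  obtain ⟨F, hdom, ⟨t, t', htt, hne⟩, V, hV, hsm⟩ := h
  obtain ⟨hMi, hMs, hMl, hMq⟩ := F.isVar
  let U := F.e.domain
  let g : (U : Scheme.{u}) ⟶ X := F.e.hom
  have hUne : (U : Set ↥(pullback (CohB1.ProjSpace.toSpec 1 k) F.m)).Nonempty := ⟨t.1, t.2⟩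
  obtain ⟨N, hN, hNs, e, he, hext⟩ := K921.ExtFam.exists_family F.m (pX := pX) U hUne g F.comm
  obtain ⟨N', hN', hnc⟩ := K921.DoubFam.exists_nonconst (N := N) (e := e) F.comm hN he hext t t' htt hne
  -- the open subset of `U` over `N'` where `g` is smooth
  let N'' : F.M.Opens := N.ι ''ᵁ N'
  have hN'' : (N'' : Set F.M).Nonempty := by
    obtain ⟨x, hx⟩ := hN'
    exact ⟨_, x, hx, rfl⟩
  have hI := K921.P1Pts.isIntegral_prod F.m
  let W : (U : Scheme.{u}).Opens := V ⊓ (U.ι ≫ pullback.snd _ _) ⁻¹ᵁ N''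
  have hW : (W : Set ↥(U : Scheme.{u})).Nonempty := by
    obtain ⟨x, hxU, hxN⟩ := K921.DoubFam.exists_mem_over (m := F.m) (U := U) (N := N'') hUne hN''
    obtain ⟨y, hy1, hy2⟩ := hV.inter_open_nonempty _
      ((U.ι ≫ pullback.snd _ _) ⁻¹ᵁ N'').isOpen ⟨⟨x, hxU⟩, hxN⟩
    exact ⟨y, hy2, hy1⟩
  have hop : IsOpenMap (V.ι ≫ g) := (V.ι ≫ g).isOpenMap
  let W' : (V : Scheme.{u}).Opens := V.ι ⁻¹ᵁ W
  refine ⟨⟨(V.ι ≫ g) '' W', hop _ W'.isOpen⟩, ?_, ?_⟩
  · obtain ⟨y, hy⟩ := hW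
    exact ⟨_, ⟨y, hy.1⟩, hy, rfl⟩
  · rintro x ⟨y, hy, rfl⟩ hx
    have hlf : LocallyOfFiniteType (U.ι ≫ pullback.fst (CohB1.ProjSpace.toSpec 1 k) F.m ≫
        CohB1.ProjSpace.toSpec 1 k) := inferInstance
    obtain ⟨w, hw1, hw2, hw3⟩ := K921.DoubFam.exists_kpoint
      (U.ι ≫ pullback.fst (CohB1.ProjSpace.toSpec 1 k) F.m ≫ CohB1.ProjSpace.toSpec 1 k)
      (Z := (W : Set ↥(U : Scheme.{u})) ∩ g ⁻¹' {(V.ι ≫ g) y})
      (W.isOpen.isLocallyClosed.inter (hx.preimage g.continuous).isLocallyClosed)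
      ⟨V.ι y, hy, by
        rw [Scheme.Hom.comp_apply]
        rfl⟩
    obtain ⟨n, hn⟩ := K921.DoubFam.exists_lift_open (N := N) (w ≫ U.ι ≫ pullback.snd _ _) (by
      rw [Scheme.Hom.comp_apply]
      exact N.ι_image_le N' hw2.2)
    have hnN' : n (IsLocalRing.closedPoint k) ∈ N' := by
      obtain ⟨z, hz, hz'⟩ := hw2.2
      have h1 : N.ι (n (IsLocalRing.closedPoint k)) = N.ι z := by
        rw [← Scheme.Hom.comp_apply, hn, Scheme.Hom.comp_apply]
        exact hz'.symm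
      rw [N.ι.isOpenEmbedding.injective h1]
      exact hz
    have hn1 : n ≫ N.ι ≫ F.m = 𝟙 _ := by
      rw [reassoc_of% hn, ← pullback.condition]
      exact hw1
    obtain ⟨i, hi₁, hi₂⟩ := K921.DoubFam.exists_fibre (N := N) n hn1
    have hwf : (w ≫ U.ι ≫ pullback.fst (CohB1.ProjSpace.toSpec 1 k) F.m) ≫ CohB1.ProjSpace.toSpec 1 k = 𝟙 _ := by
      simp only [Category.assoc]
      exact hw1
    refine ⟨i ≫ e, ?_, hnc n hn1 hnN' i hi₁ hi₂, ?_, ?_⟩
    · rw [Category.assoc, he, reassoc_of% hi₁]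
    · have h2 := K921.DoubFam.comp_fibre hext n i hi₁ hi₂ w hn.symm hwf
      have h3 : g (w (IsLocalRing.closedPoint k)) = (V.ι ≫ g) y := hw3
      have h4 : (i ≫ e) ((w ≫ U.ι ≫ pullback.fst (CohB1.ProjSpace.toSpec 1 k) F.m) (IsLocalRing.closedPoint k)) =
          (V.ι ≫ g) y := by
        rw [← h3, ← Scheme.Hom.comp_apply, ← Scheme.Hom.comp_apply, h2]
      exact ⟨_, h4⟩
    · exact K921.DoubFam.isFree_of_fam he hext n i hi₁ hi₂ w hn.symm hwf V hw2.1

end Groth.Agent.S17163
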