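import Groth.Statements.S16512
import Groth.Agent.S17162
import Groth.Agent.S17163
import Groth.Agent.Curves.K251.FreeH0

set_option autoImplicit false
universe u
open CategoryTheory AlgebraicGeometry
open Curves

namespace Groth.Agent.S16512

/-- Over an algebraically closed field k, a smooth projective variety with one free rational curve (a
nonconstant k-morphism f from the projective line such that the twist of f^*Ω_{X/k} by O(−1) has no
nonzero global sections) has a free rational curve through a general point: every closed point of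
some nonempty open subset lies on the image of a free rational curve. (The two published parts say
that such a variety is separably uniruled, and that a smooth proper separably uniruled variety has
free rational curves through a general point; this row is their composite.) -/
theorem result
    (k : Type u) [Field k] [IsAlgClosed k]
    (X : Scheme.{u}) [X.Over (Spec (CommRingCat.of k))] [IsIntegral X] [Smooth (X ↘ Spec (CommRingCat.of k))]
    (hX : ∃ (N : ℕ) (ι : X ⟶ CohB1.ProjSpace N k), IsClosedImmersion ι ∧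
      ι ≫ CohB1.ProjSpace.toSpec N k = X ↘ Spec (CommRingCat.of k))
    (f : CohB1.ProjSpace 1 k ⟶ X) (hf : f ≫ (X ↘ Spec (CommRingCat.of k)) = CohB1.ProjSpace.toSpec 1 k)
    (hnc : ¬ ∃ x : X, Set.range f.base ⊆ {x})
    (hfree : Subsingleton (Coh.HH (CohB1.ProjSpace 1 k)
        (CohB1.tensorMod ((Scheme.Modules.pullback f).obj (Omega.sheaf (X ↘ Spec (CommRingCat.of k)))) (Twist.twistProjSpace 1 k (-1))) 0)) :
    ∃ U : X.Opens, (U : Set X).Nonempty ∧ ∀ x ∈ (U : Set X), IsClosed ({x} : Set X) →
      ∃ g : CohB1.ProjSpace 1 k ⟶ X, g ≫ (X ↘ Spec (CommRingCat.of k)) = CohB1.ProjSpace.toSpec 1 k ∧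
        (¬ ∃ y : X, Set.range g.base ⊆ {y}) ∧ x ∈ Set.range g.base ∧
        Subsingleton (Coh.HH (CohB1.ProjSpace 1 k)
        (CohB1.tensorMod ((Scheme.Modules.pullback g).obj (Omega.sheaf (X ↘ Spec (CommRingCat.of k)))) (Twist.twistProjSpace 1 k (-1))) 0) := by
  obtain ⟨N, ι, hι, hw⟩ := hX
  have hsep : IsSeparated (X ↘ Spec (CommRingCat.of k)) := by rw [← hw]; infer_instance
  have hqc : QuasiCompact (X ↘ Spec (CommRingCat.of k)) := by rw [← hw]; infer_instance
  have hsm : Set.range f.base ⊆ ((X ↘ Spec (CommRingCat.of k)).smoothLocus : Set X) := by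
    have h1 : (X ↘ Spec (CommRingCat.of k)).smoothLocus = ⊤ := Scheme.Hom.smoothLocus_eq_top_iff.mpr inferInstance
    rw [h1]
    exact Set.subset_univ _
  have h2 : MorSch.IsSepUniruled k (X ↘ Spec (CommRingCat.of k)) :=
    Groth.Agent.S17162.result k X (X ↘ Spec (CommRingCat.of k)) ⟨N, ι, inferInstance, hw⟩ f hf hnc hsm
      ((K251.FreeH0.isFree_iff (X ↘ Spec (CommRingCat.of k)) f).2 hfree)
  obtain ⟨U, hU, h3⟩ := Groth.Agent.S17163.result k X (X ↘ Spec (CommRingCat.of k)) ⟨N, ι, hι, hw⟩ h2
  refine ⟨U, hU, fun x hx hxc => ?_⟩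
  obtain ⟨g, hg1, hg2, hg3, hg4⟩ := h3 x hx hxc
  exact ⟨g, hg1, hg2, hg3, (K251.FreeH0.isFree_iff (X ↘ Spec (CommRingCat.of k)) g).1 hg4⟩

end Groth.Agent.S16512
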