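import Groth.Statements.S16513
import Groth.Agent.S16502

set_option autoImplicit false
universe u
open CategoryTheory AlgebraicGeometry
open Curves

namespace Groth.Agent.S16513

/-- Over an algebraically closed field k, a birational self-map of a smooth projective variety X
containing no rational curve (every k-morphism from the projective line to X is constant) is an
automorphism: a k-isomorphism between two nonempty open subschemes of X extends to a k-automorphism
of X. (The base field is taken algebraically closed here.) -/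
theorem result
    (k : Type u) [Field k] [IsAlgClosed k]
    (X : Scheme.{u}) [X.Over (Spec (CommRingCat.of k))] [IsIntegral X] [Smooth (X ↘ Spec (CommRingCat.of k))]
    (hX : ∃ (n : ℕ) (ι : X ⟶ CohB1.ProjSpace n k), IsClosedImmersion ι ∧
      ι ≫ CohB1.ProjSpace.toSpec n k = X ↘ Spec (CommRingCat.of k))
    (hnorat : ∀ g : CohB1.ProjSpace 1 k ⟶ X,
      g ≫ (X ↘ Spec (CommRingCat.of k)) = CohB1.ProjSpace.toSpec 1 k → ∃ x : X, Set.range g.base ⊆ {x})
    (U V : X.Opens) (hU : (U : Set X).Nonempty) (φ : (U : Scheme.{u}) ≅ (V : Scheme.{u}))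
    (hφ : φ.hom ≫ V.ι ≫ (X ↘ Spec (CommRingCat.of k)) = U.ι ≫ (X ↘ Spec (CommRingCat.of k))) :
    ∃ e : X ≅ X, U.ι ≫ e.hom = φ.hom ≫ V.ι ∧
      e.hom ≫ (X ↘ Spec (CommRingCat.of k)) = X ↘ Spec (CommRingCat.of k) := by
  obtain ⟨n, ι, hι, hιs⟩ := id hX
  have hXp : IsSeparated (X ↘ Spec (CommRingCat.of k)) := by
    rw [← hιs]
    have : IsProper (CohB1.ProjSpace.toSpec n k) := Groth.Agent.VarietyB.ProjSpaceProper.isProper_toSpec n k
    infer_instance
  have hV : (V : Set X).Nonempty := by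
    obtain ⟨x, hx⟩ := hU
    exact ⟨_, (φ.hom.base ⟨x, hx⟩).2⟩
  have hφ' : (φ.inv ≫ U.ι) ≫ (X ↘ Spec (CommRingCat.of k)) = V.ι ≫ (X ↘ Spec (CommRingCat.of k)) := by
    rw [Category.assoc, ← hφ, Iso.inv_hom_id_assoc]
  obtain ⟨g, hg1, hg2⟩ := Groth.Agent.S16502.result k X hX X hX hnorat U hU (φ.hom ≫ V.ι)
    (by rw [Category.assoc]; exact hφ)
  obtain ⟨h, hh1, hh2⟩ := Groth.Agent.S16502.result k X hX X hX hnorat V hV (φ.inv ≫ U.ι) hφ'
  have hdom : ∀ W : X.Opens, (W : Set X).Nonempty → IsDominant W.ι := fun W hW =>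
    ⟨by
      rw [DenseRange, Scheme.Opens.range_ι]
      exact W.isOpen.dense hW⟩
  have h1 : g ≫ h = 𝟙 X := by
    have := hdom U hU
    refine ext_of_isDominant_of_isSeparated (X ↘ Spec (CommRingCat.of k)) ?_ U.ι ?_
    · rw [Category.assoc, hh2, hg2, Category.id_comp]
    · rw [reassoc_of% hg1, hh1, Iso.hom_inv_id_assoc, Category.comp_id]
  have h2 : h ≫ g = 𝟙 X := by
    have := hdom V hV
    refine ext_of_isDominant_of_isSeparated (X ↘ Spec (CommRingCat.of k)) ?_ V.ι ?_
    · rw [Category.assoc, hg2, hh2, Category.id_comp]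
    · rw [reassoc_of% hh1, hg1, Iso.inv_hom_id_assoc, Category.comp_id]
  exact ⟨⟨g, h, h1, h2⟩, hg1, hg2⟩

end Groth.Agent.S16513
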