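import Groth.Statements.S16516
import Groth.Agent.RatCurv.K888.BinForm

set_option autoImplicit false
universe u
open RatCurv

namespace Groth.Agent.S16516

/-- A smooth nondegenerate rational quintic curve C ⊂ P^4 has exactly one 3-secant line. Stated for C
given as the image of P^1 under a 5-dimensional linear series V of binary quintic forms which
separates every length-2 subscheme of P^1 (for every nonzero quadratic form e the forms of V
together with the multiples of e span all quintic forms), so that P^1 → P(V^*) = P^4 is a closed
embedding with nondegenerate image; the linear forms on P^4 are the elements of V, a line L ⊂ P^4 is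
recorded by the 3-dimensional space of linear forms vanishing on it, and L ∩ C has length at least 3
exactly when that space consists of the multiples g · K[s,t]_2 of a cubic form g. The conclusion: a
nonzero cubic g with g · K[s,t]_2 ⊆ V exists and is unique up to a scalar. (That such a line meets C
in length exactly 3, i.e. is not 4-secant, is immediate in this description and is not restated; the
ground field is algebraically closed of characteristic zero in place of the complex numbers.) -/
theorem result (K : Type u) [Field K] [IsAlgClosed K]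
    [CharZero K] (V : Submodule K (MvPolynomial (Fin 2) K))
    (hV : V ≤ MvPolynomial.homogeneousSubmodule (Fin 2) K 5) (hdim : Module.finrank K ↥V = 5)
    (hsep : ∀ e ∈ MvPolynomial.homogeneousSubmodule (Fin 2) K 2, e ≠ 0 →
      ∀ F ∈ MvPolynomial.homogeneousSubmodule (Fin 2) K 5, ∃ v ∈ V,
        ∃ h ∈ MvPolynomial.homogeneousSubmodule (Fin 2) K 3, F = v + e * h) :
    ∃ g ∈ MvPolynomial.homogeneousSubmodule (Fin 2) K 3, g ≠ 0 ∧
      (∀ h ∈ MvPolynomial.homogeneousSubmodule (Fin 2) K 2, g * h ∈ V) ∧
      ∀ g' ∈ MvPolynomial.homogeneousSubmodule (Fin 2) K 3,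
        (∀ h ∈ MvPolynomial.homogeneousSubmodule (Fin 2) K 2, g' * h ∈ V) → ∃ c : K, g' = c • g := by
  open K888.BinForm in
  let V' : Submodule K (S K 5) := V.submoduleOf (S K 5)
  have hV' : Module.finrank K V' = 5 := by rw [(Submodule.submoduleOfEquivOfLe hV).finrank_eq, hdim]
  have hann : Module.finrank K V'.dualAnnihilator = 1 := by
    have := Subspace.finrank_add_finrank_dualAnnihilator_eq V'
    rw [hV', finrank_S] at this
    omega
  obtain ⟨l, hl, hl0'⟩ := exists_ne_zero_of_finrank_eq V'.dualAnnihilator 0 hann
  have hlV : ∀ v : S K 5, v.1 ∈ V → l v = 0 := fun v hv => (Submodule.mem_dualAnnihilator l).mp hl v hv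
  have hker : LinearMap.ker l = V' := by
    symm
    apply Submodule.eq_of_le_of_finrank_eq
    · intro v hv
      exact hlV v hv
    · have h1 := LinearMap.finrank_range_add_finrank_ker l
      rw [LinearMap.range_eq_top.mpr (LinearMap.surjective hl0'), finrank_top, Module.finrank_self, finrank_S] at h1
      omega
  have h1 := finrank_ker_cat 3 2 5 rfl l (fun b hb => exists_ne_zero_of_sep V hsep hV l hlV hl0' b hb)
  have h2 : Module.finrank K (LinearMap.ker (cat 3 2 5 rfl l)) = 1 := by omega
  obtain ⟨g, hgm, hg0, hg⟩ := exists_gen_of_finrank_eq_one _ h2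
  refine ⟨g.1, g.2, fun h => hg0 (Subtype.ext h), fun h hh => ?_, fun g' hg' hall => ?_⟩
  · have : mulS 3 2 5 rfl g ⟨h, hh⟩ ∈ V' := by
      rw [← hker, LinearMap.mem_ker]
      exact LinearMap.congr_fun (LinearMap.mem_ker.mp hgm) ⟨h, hh⟩
    exact this
  · obtain ⟨c, hc⟩ := hg ⟨g', hg'⟩ (by
      rw [LinearMap.mem_ker]
      ext h
      exact hlV _ (hall h.1 h.2))
    exact ⟨c, congrArg Subtype.val hc⟩

end Groth.Agent.S16516
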