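import Groth.Statements.S16517
import Groth.Agent.CAlg.K90.TorQuot
import Groth.Agent.CAlg.K90.GorLink
import Groth.Agent.FibDim.K582.RingDim
import Groth.Agent.S2082
import Groth.Agent.S0390
import Groth.Agent.S0559
import Mathlib.RingTheory.Regular.Flat

set_option autoImplicit false
universe u
open CAlg

namespace Groth.Agent.S16517

/-- Let R be a regular local ring, A a Gorenstein local ring which is a flat R-algebra through a local
homomorphism, I ⊂ A an ideal of codimension zero (the Krull dimension of A/I equals that of A) with
A/I Cohen–Macaulay, and J = (0 : I) the annihilator of I in A (the ideal of the residual subscheme).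
Then A/I and A/J are flat over R. -/
theorem result (R A : Type u)
    [CommRing R] [IsRegularLocalRing R] [CommRing A] [Algebra R A] [LocCoh.IsGorensteinLocalRing A]
    [IsLocalHom (algebraMap R A)] [Module.Flat R A] (I : Ideal A)
    (hI : ringKrullDim (A ⧸ I) = ringKrullDim A) [LocCoh.IsCohenMacaulayLocalRing (A ⧸ I)] :
    Module.Flat R (A ⧸ I) ∧ Module.Flat R (A ⧸ (Submodule.annihilator I)) := by
  have hne : I ≠ ⊤ := by
    rintro rfl
    have : Nontrivial (A ⧸ (⊤ : Ideal A)) := inferInstance
    exact (Ideal.Quotient.nontrivial_iff.mp this) rfl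
  constructor
  · -- `A/I` is flat by miracle flatness
    have hloc : IsLocalHom (algebraMap R (A ⧸ I)) := by
      have h1 : IsLocalHom (Ideal.Quotient.mk I) :=
        IsLocalHom.of_surjective _ Ideal.Quotient.mk_surjective
      have h2 : algebraMap R (A ⧸ I) = (Ideal.Quotient.mk I).comp (algebraMap R A) := rfl
      rw [h2]
      exact RingHom.isLocalHom_comp _ _
    apply Groth.Agent.S2082.result
    apply le_antisymm
    · exact (K582.RingDim.ringKrullDim_add R (A ⧸ I)).1
    · rw [hI, (K582.RingDim.ringKrullDim_add R A).2 inferInstance]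
      gcongr
      refine ringKrullDim_le_of_surjective
        (Ideal.Quotient.lift ((IsLocalRing.maximalIdeal R).map (algebraMap R A))
          ((Ideal.Quotient.mk ((IsLocalRing.maximalIdeal R).map (algebraMap R (A ⧸ I)))).comp
            (Ideal.Quotient.mk I)) ?_) ?_
      · intro a ha
        have h3 : Ideal.Quotient.mk I a ∈
            (IsLocalRing.maximalIdeal R).map (algebraMap R (A ⧸ I)) := by
          have h4 := Ideal.mem_map_of_mem (Ideal.Quotient.mk I) ha
          rwa [Ideal.map_map] at h4
        exact Ideal.Quotient.eq_zero_iff_mem.mpr h3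
      · refine Ideal.Quotient.lift_surjective_of_surjective _ _ ?_
        exact Ideal.Quotient.mk_surjective.comp Ideal.Quotient.mk_surjective
  · -- `A/J` is flat by the local criterion
    refine Groth.Agent.S0390.result (R := R) (S := A) (M := A ⧸ Submodule.annihilator I)
      (K90.TorQuot.rTensor_injective _ _ ?_)
    intro x hx hx'
    obtain ⟨d, hd⟩ : ∃ d : ℕ, ringKrullDim R = d := by
      have h5 : ringKrullDim R < ⊤ := ringKrullDim_lt_top
      have h6 : (0 : WithBot ℕ∞) ≤ ringKrullDim R := ringKrullDim_nonneg_of_nontrivial
      generalize ringKrullDim R = x at *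
      induction x using WithBot.recBotCoe with
      | bot => simp at h6
      | coe x =>
        induction x using ENat.recTopCoe with
        | top => exact absurd h5 (by simp)
        | coe n => exact ⟨n, rfl⟩
    obtain ⟨x', hx'm⟩ : ∃ x' : Fin d → R,
        Ideal.span (Set.range x') = IsLocalRing.maximalIdeal R := by
      obtain ⟨s, hs1, hs2⟩ := Submodule.FG.exists_span_finset_card_eq_spanFinrank
        (IsNoetherian.noetherian (IsLocalRing.maximalIdeal R))
      have h7 : s.card = d := by
        have h8 := IsRegularLocalRing.spanFinrank_maximalIdeal (R := R)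
        rw [hd] at h8
        rw [hs1]
        exact_mod_cast h8
      refine ⟨fun i => (s.equivFinOfCardEq h7).symm i, ?_⟩
      rw [← hs2]
      congr 1
      ext y
      constructor
      · rintro ⟨i, rfl⟩
        exact ((s.equivFinOfCardEq h7).symm i).2
      · intro hy
        exact ⟨s.equivFinOfCardEq h7 ⟨y, hy⟩, by simp⟩
    have hreg := Groth.Agent.S0559.result R d hd x' hx'm
    have hof : Ideal.ofList (List.ofFn x') = IsLocalRing.maximalIdeal R := by
      rw [← hx'm, Ideal.ofList]
      congr 1
      ext y
      simp [List.mem_ofFn]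
    have hreg' : RingTheory.Sequence.IsWeaklyRegular A ((List.ofFn x').map (algebraMap R A)) :=
      hreg.1.of_flat
    have hm : ∀ a ∈ (List.ofFn x').map (algebraMap R A), a ∈ IsLocalRing.maximalIdeal A := by
      intro a ha
      obtain ⟨b, hb, rfl⟩ := List.mem_map.mp ha
      have hb' : b ∈ IsLocalRing.maximalIdeal R := by
        rw [← hof]
        exact Ideal.subset_span hb
      rw [IsLocalRing.mem_maximalIdeal, mem_nonunits_iff] at hb' ⊢
      exact fun h => hb' (isUnit_of_map_unit (algebraMap R A) b h)
    obtain ⟨_, h2⟩ := K90.GorLink.main _ A I hI ((List.ofFn x').map (algebraMap R A)) rfl hreg' hm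
    rw [← Ideal.map_ofList, hof] at h2
    exact h2 x hx hx'

end Groth.Agent.S16517
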