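import Groth.Statements.S16518
import Groth.Agent.CAlg.K90.GorLink
import Mathlib.RingTheory.Regular.Flat

set_option autoImplicit false
universe u
open CAlg

namespace Groth.Agent.S16518

/-- Let R be a Noetherian local ring, A a Gorenstein local ring which is a flat R-algebra through a
local homomorphism, I ⊂ A an ideal of codimension zero (the Krull dimension of A/I equals that of A)
with A/I Cohen–Macaulay, and J = (0 : I) its annihilator. For every R-regular sequence r_1, …, r_n
generating an ideal 𝔯 of R, the module J/𝔯J is the annihilator of the image of I in A/𝔯A: the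
natural map J/𝔯J → A/𝔯A is injective (J ∩ 𝔯A = 𝔯J) with image the ideal quotient (𝔯A : I) modulo 𝔯A
(J + 𝔯A = (𝔯A : I)). -/
theorem result (R A : Type u)
    [CommRing R] [IsNoetherianRing R] [IsLocalRing R] [CommRing A] [Algebra R A]
    [LocCoh.IsGorensteinLocalRing A] [IsLocalHom (algebraMap R A)] [Module.Flat R A] (I : Ideal A)
    (hI : ringKrullDim (A ⧸ I) = ringKrullDim A) [LocCoh.IsCohenMacaulayLocalRing (A ⧸ I)]
    (rs : List R) (hrs : RingTheory.Sequence.IsRegular R rs) :
    Submodule.annihilator I ⊔ (Ideal.ofList rs).map (algebraMap R A) =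
        Submodule.colon ((Ideal.ofList rs).map (algebraMap R A)) (I : Set A) ∧
      Submodule.annihilator I ⊓ (Ideal.ofList rs).map (algebraMap R A) =
        (Ideal.ofList rs).map (algebraMap R A) * Submodule.annihilator I := by
  have hreg : RingTheory.Sequence.IsWeaklyRegular A (rs.map (algebraMap R A)) := hrs.1.of_flat
  have hm : ∀ a ∈ rs.map (algebraMap R A), a ∈ IsLocalRing.maximalIdeal A := by
    intro a ha
    obtain ⟨b, hb, rfl⟩ := List.mem_map.mp ha
    have hb' : b ∈ IsLocalRing.maximalIdeal R := by
      by_contra hcon
      rw [IsLocalRing.notMem_maximalIdeal] at hcon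
      apply hrs.2
      have : Ideal.ofList rs = ⊤ := Ideal.eq_top_of_isUnit_mem _ (Ideal.subset_span hb) hcon
      rw [this]
      simp
    rw [IsLocalRing.mem_maximalIdeal, mem_nonunits_iff] at hb' ⊢
    exact fun h => hb' (isUnit_of_map_unit (algebraMap R A) b h)
  obtain ⟨h1, h2⟩ := K90.GorLink.main _ A I hI (rs.map (algebraMap R A)) rfl hreg hm
  rw [← Ideal.map_ofList] at h1 h2
  constructor
  · apply le_antisymm
    · refine sup_le ?_ ?_
      · intro x hx
        rw [Submodule.mem_colon]
        intro a ha
        have : x • a = 0 := by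
          have h3 := Submodule.mem_annihilator.mp hx a ha
          exact h3
        rw [this]
        exact Submodule.zero_mem _
      · intro x hx
        rw [Submodule.mem_colon]
        intro a _
        exact Ideal.mul_mem_right _ _ hx
    · intro x hx
      rw [Submodule.mem_colon] at hx
      exact h1 x hx
  · apply le_antisymm
    · rintro x ⟨hx, hx'⟩
      exact h2 x hx hx'
    · exact le_inf Ideal.mul_le_right Ideal.mul_le_left

end Groth.Agent.S16518
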