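import Groth.Statements.S16519
import Mathlib.Tactic.Linarith
import Mathlib.Tactic.Positivity
import Mathlib.Tactic.Ring
import Mathlib.Tactic.IntervalCases
import Mathlib.Tactic.FinCases
import Mathlib.Tactic.NormNum

set_option autoImplicit false
open CubicSurf

namespace Groth.Agent.S16519

private theorem cs5 (x y z u v : ℤ) :
    (x + y + z + u + v) ^ 2 ≤ 5 * (x ^ 2 + y ^ 2 + z ^ 2 + u ^ 2 + v ^ 2) := by
  nlinarith [sq_nonneg (x - y), sq_nonneg (x - z), sq_nonneg (x - u), sq_nonneg (x - v),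
    sq_nonneg (y - z), sq_nonneg (y - u), sq_nonneg (y - v), sq_nonneg (z - u), sq_nonneg (z - v),
    sq_nonneg (u - v)]

private theorem cs6 (x y z u v w : ℤ) :
    (x + y + z + u + v + w) ^ 2 ≤ 6 * (x ^ 2 + y ^ 2 + z ^ 2 + u ^ 2 + v ^ 2 + w ^ 2) := by
  nlinarith [sq_nonneg (x - y), sq_nonneg (x - z), sq_nonneg (x - u), sq_nonneg (x - v),
    sq_nonneg (y - z), sq_nonneg (y - u), sq_nonneg (y - v), sq_nonneg (z - u), sq_nonneg (z - v),
    sq_nonneg (u - v), sq_nonneg (x - w), sq_nonneg (y - w), sq_nonneg (z - w), sq_nonneg (u - w),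
    sq_nonneg (v - w)]

private theorem rng_a (a x y z u v w : ℤ) (h1 : 3 * a - (x + y + z + u + v + w) = 3)
    (h2 : a ^ 2 - (x ^ 2 + y ^ 2 + z ^ 2 + u ^ 2 + v ^ 2 + w ^ 2) = 1) : 1 ≤ a ∧ a ≤ 5 := by
  have h := cs6 x y z u v w
  have e1 : x + y + z + u + v + w = 3 * (a - 1) := by linarith
  have e2 : x ^ 2 + y ^ 2 + z ^ 2 + u ^ 2 + v ^ 2 + w ^ 2 = a ^ 2 - 1 := by linarith
  rw [e1, e2] at h
  have h3 : (a - 1) * (a - 5) ≤ 0 := by nlinarith
  constructor
  · by_contra hc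
    push Not at hc
    nlinarith
  · by_contra hc
    push Not at hc
    nlinarith

private theorem rng_b (a x y z u v w : ℤ) (ha : 1 ≤ a ∧ a ≤ 5) (h1 : 3 * a - (x + y + z + u + v + w) = 3)
    (h2 : a ^ 2 - (x ^ 2 + y ^ 2 + z ^ 2 + u ^ 2 + v ^ 2 + w ^ 2) = 1) : 0 ≤ w ∧ w ≤ 2 := by
  have h := cs5 x y z u v
  have e1 : x + y + z + u + v = 3 * (a - 1) - w := by linarith
  have e2 : x ^ 2 + y ^ 2 + z ^ 2 + u ^ 2 + v ^ 2 = a ^ 2 - 1 - w ^ 2 := by linarith
  rw [e1, e2] at h
  obtain ⟨ha1, ha2⟩ := ha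
  constructor
  · by_contra hc
    push Not at hc
    interval_cases a <;> nlinarith
  · by_contra hc
    push Not at hc
    interval_cases a <;> nlinarith

/-- the finite model: all (a, b) with 1 ≤ a ≤ 5 and 0 ≤ b_i ≤ 2. -/
private def emb : Fin 5 × (Fin 6 → Fin 3) → ℤ × (Fin 6 → ℤ) :=
  fun q => (((q.1 : ℕ) : ℤ) + 1, fun i => ((q.2 i : ℕ) : ℤ))

private theorem emb_inj : Function.Injective emb := by
  rintro ⟨a, b⟩ ⟨a', b'⟩ h
  simp only [emb, Prod.mk.injEq] at h
  obtain ⟨h1, h2⟩ := h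
  refine Prod.ext ?_ ?_
  · apply Fin.ext
    simp only
    omega
  · funext i
    have := congrFun h2 i
    apply Fin.ext
    simp only at this ⊢
    omega

private def good (q : Fin 5 × (Fin 6 → Fin 3)) : Bool :=
  decide (3 * (q.1 : ℕ) = (q.2 0 : ℕ) + (q.2 1 : ℕ) + (q.2 2 : ℕ) + (q.2 3 : ℕ) + (q.2 4 : ℕ) + (q.2 5 : ℕ)) &&
  decide ((q.1 : ℕ) ^ 2 + 2 * (q.1 : ℕ) = (q.2 0 : ℕ) ^ 2 + (q.2 1 : ℕ) ^ 2 + (q.2 2 : ℕ) ^ 2 + (q.2 3 : ℕ) ^ 2
    + (q.2 4 : ℕ) ^ 2 + (q.2 5 : ℕ) ^ 2)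

private theorem card_good : (Finset.univ.filter (fun q : Fin 5 × (Fin 6 → Fin 3) => good q = true)).card = 72 := by
  decide +kernel

/-- On a smooth cubic surface there are exactly 72 divisor classes L with L² = 1 and L · K = −3. Stated
in the lattice ℤ^{1,6} with basis l, e_1, …, e_6 (l² = 1, e_i² = −1, K = −3l + Σ e_i): the integer
vectors (a, b) ∈ ℤ × ℤ^6, standing for a·l − Σ b_i e_i, with 3a − Σ b_i = 3 and a² − Σ b_i² = 1 form
a set of exactly 72 elements. -/
theorem result :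
    {p : ℤ × (Fin 6 → ℤ) | 3 * p.1 - (Finset.univ.sum fun i => p.2 i) = 3 ∧
        p.1 ^ 2 - (Finset.univ.sum fun i => p.2 i ^ 2) = 1}.ncard = 72 := by
  have key : {p : ℤ × (Fin 6 → ℤ) | 3 * p.1 - (Finset.univ.sum fun i => p.2 i) = 3 ∧
        p.1 ^ 2 - (Finset.univ.sum fun i => p.2 i ^ 2) = 1} =
      ((Finset.univ.filter (fun q : Fin 5 × (Fin 6 → Fin 3) => good q = true)).map ⟨emb, emb_inj⟩ :
        Finset (ℤ × (Fin 6 → ℤ))) := by
    ext ⟨a, b⟩
    simp only [Set.mem_setOf_eq, Finset.coe_map, Function.Embedding.coeFn_mk, Finset.coe_filter,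
      Finset.mem_univ, true_and, Set.mem_image, Fin.sum_univ_six]
    constructor
    · rintro ⟨h1, h2⟩
      have ha := rng_a a (b 0) (b 1) (b 2) (b 3) (b 4) (b 5) h1 h2
      have h5 := rng_b a (b 0) (b 1) (b 2) (b 3) (b 4) (b 5) ha h1 h2
      have h4 := rng_b a (b 0) (b 1) (b 2) (b 3) (b 5) (b 4) ha (by linarith) (by linarith)
      have h3 := rng_b a (b 0) (b 1) (b 2) (b 4) (b 5) (b 3) ha (by linarith) (by linarith)
      have h2' := rng_b a (b 0) (b 1) (b 3) (b 4) (b 5) (b 2) ha (by linarith) (by linarith)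
      have h1' := rng_b a (b 0) (b 2) (b 3) (b 4) (b 5) (b 1) ha (by linarith) (by linarith)
      have h0 := rng_b a (b 1) (b 2) (b 3) (b 4) (b 5) (b 0) ha (by linarith) (by linarith)
      have hb : ∀ i : Fin 6, 0 ≤ b i ∧ b i ≤ 2 := by
        intro i
        fin_cases i
        · exact h0
        · exact h1'
        · exact h2'
        · exact h3
        · exact h4
        · exact h5
      refine ⟨⟨⟨(a - 1).toNat, by omega⟩, fun i => ⟨(b i).toNat, by have := hb i; omega⟩⟩, ?_, ?_⟩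
      · have e : ∀ i, (((b i).toNat : ℕ) : ℤ) = b i := fun i => Int.toNat_of_nonneg (hb i).1
        have ea : (((a - 1).toNat : ℕ) : ℤ) = a - 1 := Int.toNat_of_nonneg (by omega)
        simp only [good, Bool.and_eq_true, decide_eq_true_eq]
        constructor
        · zify
          rw [ea, e, e, e, e, e, e]
          linarith
        · zify
          rw [ea, e, e, e, e, e, e]
          linarith
      · simp only [emb]
        refine Prod.ext ?_ ?_
        · simp only
          omega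
        · funext i
          have := hb i
          simp only
          omega
    · rintro ⟨⟨x, y⟩, h, hx⟩
      simp only [emb, Prod.mk.injEq] at hx
      obtain ⟨rfl, rfl⟩ := hx
      simp only [good, Bool.and_eq_true, decide_eq_true_eq] at h
      obtain ⟨h1, h2⟩ := h
      zify at h1 h2
      constructor
      · linarith
      · linarith
  rw [key, Set.ncard_coe_finset, Finset.card_map, card_good]

end Groth.Agent.S16519
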