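import Groth.Statements.S16521
import Groth.Agent.Fano.K475.RatClass
import Groth.Agent.Fano.K475.ConHom
import Groth.Agent.Fano.K287.ConDeg
import Groth.Agent.Fano.K714.ConSplit

set_option autoImplicit false
universe u
open CategoryTheory CategoryTheory.Limits AlgebraicGeometry
open Fano

namespace Groth.Agent.S16521

/-- Let X = V_+(f) ⊂ P^4 be a smooth cubic hypersurface over an algebraically closed field k of
characteristic zero (in place of the complex numbers), f a nonzero cubic form in five variables with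
X smooth over k, and let C ⊂ X be a smooth conic, given as a closed immersion i : P^1_k → X over k
along which O_{P^4}(1) pulls back to O_{P^1}(2). Then the normal bundle of C in X is O(1) ⊕ O(1) or
O ⊕ O(2); stated on the conormal sheaf of i: it is isomorphic either to O(−1) ⊕ O(−1) or to O ⊕
O(−2) (existence of an isomorphism of O-modules on P^1_k). -/
theorem result (k : Type u) [Field k] [IsAlgClosed k]
    [CharZero k] (f : LefPen.Form 4 k 3) (hf : f ≠ 0)
    [Smooth ((LefPen.hypIdeal f).subschemeι ≫ CohB1.ProjSpace.toSpec 4 k)]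
    (i : CohB1.ProjSpace 1 k ⟶ (LefPen.hypIdeal f).subscheme) [IsClosedImmersion i]
    (hi : i ≫ (LefPen.hypIdeal f).subschemeι ≫ CohB1.ProjSpace.toSpec 4 k = CohB1.ProjSpace.toSpec 1 k)
    (hdeg : Nonempty ((Scheme.Modules.pullback (i ≫ (LefPen.hypIdeal f).subschemeι)).obj
      (Twist.twistProjSpace 4 k 1) ≅ Twist.twistProjSpace 1 k 2)) :
    Nonempty (Omega.conormal i ≅ ∐ fun j : Fin 2 => Twist.twistProjSpace 1 k (![-1, -1] j)) ∨
      Nonempty (Omega.conormal i ≅ ∐ fun j : Fin 2 => Twist.twistProjSpace 1 k (![0, -2] j)) := by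
  obtain ⟨c, hc, hp⟩ := K475.RatClass.exists_par f (Or.inl rfl) i hi hdeg
  obtain ⟨a, b, h1, h2, h3, h4, h5⟩ := Groth.Agent.Fano.K714.ConSplit.exists_split
    (Groth.Agent.Fano.K287.ConDeg.locFree_conormal f hf i hi) (-2) (-3)
    (fun a ha => by
      have := Groth.Agent.Fano.K287.ConDeg.extPow_conormal f hf i hi 2 hdeg a ha
      rw [this]; norm_num)
    (fun θ => K475.ConHom.hom_conormal_conic f hf i c hc hp θ)
  rcases (by omega : (a = -1 ∧ b = -1) ∨ (a = -2 ∧ b = 0)) with ⟨rfl, rfl⟩ | ⟨rfl, rfl⟩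
  · exact Or.inl h4
  · exact Or.inr h5

end Groth.Agent.S16521
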