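import Groth.Statements.S16523
import Groth.Agent.Fano.K714.RatAsm
import Groth.Agent.Fano.K714.TwIrr
import Groth.Agent.S16522

set_option autoImplicit false
universe u
open CategoryTheory CategoryTheory.Limits AlgebraicGeometry
open Fano

namespace Groth.Agent.S16523

/-- For a smooth cubic threefold X ⊂ P^4 over an algebraically closed field k of characteristic zero (in
place of the complex numbers), the space H^{3,0}(X) of twisted cubic curves on X is a smooth
irreducible variety of dimension 6. Here X is given by a nonzero cubic form f in five variables with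
V_+(f) smooth over k; (H, Z) is a Hilbert scheme of X over k — H locally Noetherian over k and Z ⊆ X
×_k H closed, proper and flat over H, such that every closed subscheme of X ×_k T proper and flat
over a locally Noetherian k-scheme T is the pullback of Z along a unique k-morphism T → H — and T ⊆
H is the set of k-points of H classifying twisted cubics, i.e. closed immersions P^1_k → X over k
along which O_{P^4}(1) pulls back to O_{P^1}(3) (the closed points of the open subscheme the source
studies). The conclusion: T is an irreducible subset of H (so nonempty), and at each point of T the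
local ring of H is regular of Krull dimension 6. -/
theorem result (k : Type u) [Field k] [IsAlgClosed k]
    [CharZero k] (f : LefPen.Form 4 k 3) (hf : f ≠ 0)
    [Smooth ((LefPen.hypIdeal f).subschemeι ≫ CohB1.ProjSpace.toSpec 4 k)]
    (H : Over (Spec (CommRingCat.of k))) (Z : FGA.HilbSet ((LefPen.hypIdeal f).subschemeι ≫ CohB1.ProjSpace.toSpec 4 k) H)
    (hH : FGA.HilbRepresentedBy ((LefPen.hypIdeal f).subschemeι ≫ CohB1.ProjSpace.toSpec 4 k) H Z)
    (T : Set ↥H.left)
    (hT : T = {x | ∃ (h : Over.mk (𝟙 (Spec (CommRingCat.of k))) ⟶ H)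
      (i : CohB1.ProjSpace 1 k ⟶ (LefPen.hypIdeal f).subscheme),
      x = h.left.base (IsLocalRing.closedPoint k) ∧ IsClosedImmersion i ∧
      i ≫ (LefPen.hypIdeal f).subschemeι ≫ CohB1.ProjSpace.toSpec 4 k = CohB1.ProjSpace.toSpec 1 k ∧
      Nonempty ((Scheme.Modules.pullback (i ≫ (LefPen.hypIdeal f).subschemeι)).obj
        (Twist.twistProjSpace 4 k 1) ≅ Twist.twistProjSpace 1 k 3) ∧
      FGA.hilbPull ((LefPen.hypIdeal f).subschemeι ≫ CohB1.ProjSpace.toSpec 4 k) h Z.1 =
        i.ker.comap (pullback.fst ((LefPen.hypIdeal f).subschemeι ≫ CohB1.ProjSpace.toSpec 4 k) (Over.mk (𝟙 (Spec (CommRingCat.of k)))).hom)}) :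
    IsIrreducible T ∧ ∀ x ∈ T, IsRegularLocalRing (H.left.presheaf.stalk x) ∧
      ringKrullDim (H.left.presheaf.stalk x) = 6 := by
  refine Groth.Agent.Fano.K714.RatAsm.main (d := 3) (n := 6) f hf H Z hH (Or.inr rfl)
    (K714.TwIrr.par3_irr f hf) ?_ T hT
  intro i _ hi hdeg
  obtain ⟨a, ha2, ha5, h⟩ := Groth.Agent.S16522.result k f hf i hi hdeg
  refine ⟨![-a, a - 4], ?_, ?_, h⟩
  · intro j
    fin_cases j
    · change -a ≤ 1; omega
    · change a - 4 ≤ 1; omega
  · change ((6 : ℕ) : ℤ) = 2 - (-a) - (a - 4)
    push_cast; ring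

end Groth.Agent.S16523
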