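import Groth.Statements.S16524
import Groth.Agent.Fano.K714.RatAsm
import Groth.Agent.S16521

set_option autoImplicit false
universe u
open CategoryTheory CategoryTheory.Limits AlgebraicGeometry
open Fano

namespace Groth.Agent.S16524

/-- For a smooth cubic threefold X ⊂ P^4 over an algebraically closed field k of characteristic zero (in
place of the complex numbers), the space H^{2,0}(X) of smooth conics on X is smooth and connected of
dimension 4. Here X is given by a nonzero cubic form f in five variables with V_+(f) smooth over k;
(H, Z) is a Hilbert scheme of X over k — H locally Noetherian over k and Z ⊆ X ×_k H closed, proper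
and flat over H, such that every closed subscheme of X ×_k T proper and flat over a locally
Noetherian k-scheme T is the pullback of Z along a unique k-morphism T → H — and T ⊆ H is the set of
k-points of H classifying smooth conics, i.e. closed immersions P^1_k → X over k along which
O_{P^4}(1) pulls back to O_{P^1}(2) (the closed points of the open subscheme the source studies).
The conclusion: T is an irreducible subset of H, and at each point of T the local ring of H is
regular of Krull dimension 4. (The source's further description of H^{2,0}(X) as an open subset of a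
P^2-bundle over the Fano surface, and of that bundle as the normalization of Hilb_{2t+1}(X), is not
restated.) -/
theorem result (k : Type u) [Field k] [IsAlgClosed k]
    [CharZero k] (f : LefPen.Form 4 k 3) (hf : f ≠ 0)
    [Smooth ((LefPen.hypIdeal f).subschemeι ≫ CohB1.ProjSpace.toSpec 4 k)]
    (H : Over (Spec (CommRingCat.of k))) (Z : FGA.HilbSet ((LefPen.hypIdeal f).subschemeι ≫ CohB1.ProjSpace.toSpec 4 k) H)
    (hH : FGA.HilbRepresentedBy ((LefPen.hypIdeal f).subschemeι ≫ CohB1.ProjSpace.toSpec 4 k) H Z)
    (T : Set ↥H.left)
    (hT : T = {x | ∃ (h : Over.mk (𝟙 (Spec (CommRingCat.of k))) ⟶ H)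
      (i : CohB1.ProjSpace 1 k ⟶ (LefPen.hypIdeal f).subscheme),
      x = h.left.base (IsLocalRing.closedPoint k) ∧ IsClosedImmersion i ∧
      i ≫ (LefPen.hypIdeal f).subschemeι ≫ CohB1.ProjSpace.toSpec 4 k = CohB1.ProjSpace.toSpec 1 k ∧
      Nonempty ((Scheme.Modules.pullback (i ≫ (LefPen.hypIdeal f).subschemeι)).obj
        (Twist.twistProjSpace 4 k 1) ≅ Twist.twistProjSpace 1 k 2) ∧
      FGA.hilbPull ((LefPen.hypIdeal f).subschemeι ≫ CohB1.ProjSpace.toSpec 4 k) h Z.1 =
        i.ker.comap (pullback.fst ((LefPen.hypIdeal f).subschemeι ≫ CohB1.ProjSpace.toSpec 4 k) (Over.mk (𝟙 (Spec (CommRingCat.of k)))).hom)}) :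
    IsIrreducible T ∧ ∀ x ∈ T, IsRegularLocalRing (H.left.presheaf.stalk x) ∧
      ringKrullDim (H.left.presheaf.stalk x) = 4 := by
  refine Groth.Agent.Fano.K714.RatAsm.main (d := 2) (n := 4) f hf H Z hH (Or.inl rfl)
    (Groth.Agent.Fano.K714.RatTop.par2_irr f hf) ?_ T hT
  intro i _ hi hdeg
  rcases Groth.Agent.S16521.result k f hf i hi hdeg with h | h
  · exact ⟨![-1, -1], by intro j; fin_cases j <;> decide, by norm_num, h⟩
  · exact ⟨![0, -2], by intro j; fin_cases j <;> decide, by norm_num, h⟩

end Groth.Agent.S16524
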