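import Groth.Statements.S16525
import Groth.Agent.Fano.K470.Asm
import Groth.Agent.Fano.K470.Curves
import Groth.Agent.Fano.K913.IncGen
import Groth.Agent.Fano.K459.EmbOpen
import Groth.Agent.Fano.K501.RankEmb
import Groth.Agent.Fano.K475.RatPar
import Groth.Agent.Fano.K475.QuartHom
import Groth.Agent.Fano.K483.QuartEx
import Groth.Agent.Fano.K468.Locus

set_option autoImplicit false
open CategoryTheory CategoryTheory.Limits AlgebraicGeometry
open Fano

namespace Groth.Agent.S16525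

/-- For a smooth cubic threefold X ⊂ P^4 over the complex numbers, the space H^{4,0}(X) of smooth
rational quartic curves on X is irreducible of dimension 8. Here X is given by a nonzero cubic form
f in five variables with V_+(f) smooth over ℂ; (H, Z) is a Hilbert scheme of X over ℂ — H locally
Noetherian over ℂ and Z ⊆ X ×_ℂ H closed, proper and flat over H, such that every closed subscheme
of X ×_ℂ T proper and flat over a locally Noetherian ℂ-scheme T is the pullback of Z along a unique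
ℂ-morphism T → H — and T ⊆ H is the set of ℂ-points of H classifying smooth rational quartics, i.e.
closed immersions P^1_ℂ → X over ℂ along which O_{P^4}(1) pulls back to O_{P^1}(4) (the closed
points of the open subscheme the source studies). The conclusion: T is an irreducible subset of H,
and at each point of T the local ring of H has Krull dimension 8 (smoothness is not asserted). -/
theorem result (f : LefPen.Form 4 ℂ 3) (hf : f ≠ 0)
    [Smooth ((LefPen.hypIdeal f).subschemeι ≫ CohB1.ProjSpace.toSpec 4 ℂ)]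
    (H : Over (Spec (CommRingCat.of ℂ))) (Z : FGA.HilbSet ((LefPen.hypIdeal f).subschemeι ≫ CohB1.ProjSpace.toSpec 4 ℂ) H)
    (hH : FGA.HilbRepresentedBy ((LefPen.hypIdeal f).subschemeι ≫ CohB1.ProjSpace.toSpec 4 ℂ) H Z)
    (T : Set ↥H.left)
    (hT : T = {x | ∃ (h : Over.mk (𝟙 (Spec (CommRingCat.of ℂ))) ⟶ H)
      (i : CohB1.ProjSpace 1 ℂ ⟶ (LefPen.hypIdeal f).subscheme),
      x = h.left.base (IsLocalRing.closedPoint ℂ) ∧ IsClosedImmersion i ∧
      i ≫ (LefPen.hypIdeal f).subschemeι ≫ CohB1.ProjSpace.toSpec 4 ℂ = CohB1.ProjSpace.toSpec 1 ℂ ∧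
      Nonempty ((Scheme.Modules.pullback (i ≫ (LefPen.hypIdeal f).subschemeι)).obj
        (Twist.twistProjSpace 4 ℂ 1) ≅ Twist.twistProjSpace 1 ℂ 4) ∧
      FGA.hilbPull ((LefPen.hypIdeal f).subschemeι ≫ CohB1.ProjSpace.toSpec 4 ℂ) h Z.1 =
        i.ker.comap (pullback.fst ((LefPen.hypIdeal f).subschemeι ≫ CohB1.ProjSpace.toSpec 4 ℂ) (Over.mk (𝟙 (Spec (CommRingCat.of ℂ)))).hom)}) :
    IsIrreducible T ∧ ∀ x ∈ T, ringKrullDim (H.left.presheaf.stalk x) = 8 := by
  subst hT
  have hf' : ∀ (i : CohB1.ProjSpace 1 ℂ ⟶ Groth.Agent.Fano.K714.Rat.Xf f) (_ : IsClosedImmersion i)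
      (_ : i ≫ Groth.Agent.Fano.K714.Rat.ps f = CohB1.ProjSpace.toSpec 1 ℂ)
      (_ : Nonempty ((Scheme.Modules.pullback (i ≫ Groth.Agent.Fano.K714.Rat.emb f)).obj
        (Twist.twistProjSpace 4 ℂ 1) ≅ Twist.twistProjSpace 1 ℂ ((4 : ℕ) : ℤ))),
      ∃ c ∈ K470.Asm.EmbSet f 4, Groth.Agent.Fano.K714.Rat.IsPar f 4 c i := by
    intro i hi hp hd
    obtain ⟨c, hc, -, -, h0⟩ := K475.RatPar.exists_par_gen f (d := 4) (by norm_num) i hp hd
    exact ⟨c, ⟨h0, i, hc, hi⟩, hc⟩
  refine K470.Asm.main (k := ℂ) f (d := 4) (N := 8) ?_ ?_ hf' ?_ ?_ H Z hH ?_ ?_ _ rfl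
  · exact fun h => K470.Curves.irr_rank
      (K913.IncGen.exists_irr_inc (K656.Trilin.tri_sym f.1) (Groth.Agent.Fano.K714.JacSm.smoothOn_tri f hf inferInstance))
      (K656.Trilin.tri_sym f.1) (Groth.Agent.Fano.K714.JacSm.smoothOn_tri f hf inferInstance) h
  · exact fun c hc => K501.RankEmb.rank_emb f (by norm_num) hc
  · exact fun c i hi => K501.RankEmb.deg_of_isPar f hi
  · obtain ⟨c, i, hi, hci⟩ := K483.RatEx.exists_quartic f hf
    exact ⟨c, fun s t => K475.RatPar.eval_cpt f (by norm_num) hi s t, i, hi, hci⟩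
  · exact fun A c₀ hc₀ x₀ hx₀ hA => K459.Emb.exists_poly_emb f H Z hH (by norm_num) A hc₀ hx₀ hA
  · intro c i hi hc h hh
    have h1 := (Groth.Agent.Fano.K468.Locus.regular_ratSet f hf H Z hH 4 (fun i' hi' hp' hd' θ => by
      obtain ⟨c', hc', -⟩ := K475.RatPar.exists_par_gen f (d := 4) (by norm_num) i' hp' hd'
      exact K475.QuartHom.hom_conormal_quartic f i' c' hc' θ) _
      ⟨h, i, rfl, hi, hc.1, K501.RankEmb.deg_of_isPar f hc, hh⟩).2
    rw [h1]
    norm_num
end Groth.Agent.S16525
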