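import Groth.Statements.S16526
import Groth.Agent.Fano.K470.RatFive
import Groth.Agent.Fano.K496.QuintShf

set_option autoImplicit false
open CategoryTheory CategoryTheory.Limits AlgebraicGeometry
open Fano

namespace Groth.Agent.S16526

/-- For a smooth cubic threefold X ⊂ P^4 over the complex numbers, the space H^{5,0}(X) of smooth
rational quintic curves on X is irreducible of dimension 10. Here X is given by a nonzero cubic form
f in five variables with V_+(f) smooth over ℂ; (H, Z) is a Hilbert scheme of X over ℂ — H locally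
Noetherian over ℂ and Z ⊆ X ×_ℂ H closed, proper and flat over H, such that every closed subscheme
of X ×_ℂ T proper and flat over a locally Noetherian ℂ-scheme T is the pullback of Z along a unique
ℂ-morphism T → H — and T ⊆ H is the set of ℂ-points of H classifying smooth rational quintics, i.e.
closed immersions P^1_ℂ → X over ℂ along which O_{P^4}(1) pulls back to O_{P^1}(5) (the closed
points of the open subscheme the source studies). The conclusion: T is an irreducible subset of H,
and at each point of T the local ring of H has Krull dimension 10. (The source's second assertion,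
on the residual curve of a general member in its cubic scroll, is not restated.) -/
theorem result (f : LefPen.Form 4 ℂ 3) (hf : f ≠ 0)
    [Smooth ((LefPen.hypIdeal f).subschemeι ≫ CohB1.ProjSpace.toSpec 4 ℂ)]
    (H : Over (Spec (CommRingCat.of ℂ))) (Z : FGA.HilbSet ((LefPen.hypIdeal f).subschemeι ≫ CohB1.ProjSpace.toSpec 4 ℂ) H)
    (hH : FGA.HilbRepresentedBy ((LefPen.hypIdeal f).subschemeι ≫ CohB1.ProjSpace.toSpec 4 ℂ) H Z)
    (T : Set ↥H.left)
    (hT : T = {x | ∃ (h : Over.mk (𝟙 (Spec (CommRingCat.of ℂ))) ⟶ H)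
      (i : CohB1.ProjSpace 1 ℂ ⟶ (LefPen.hypIdeal f).subscheme),
      x = h.left.base (IsLocalRing.closedPoint ℂ) ∧ IsClosedImmersion i ∧
      i ≫ (LefPen.hypIdeal f).subschemeι ≫ CohB1.ProjSpace.toSpec 4 ℂ = CohB1.ProjSpace.toSpec 1 ℂ ∧
      Nonempty ((Scheme.Modules.pullback (i ≫ (LefPen.hypIdeal f).subschemeι)).obj
        (Twist.twistProjSpace 4 ℂ 1) ≅ Twist.twistProjSpace 1 ℂ 5) ∧
      FGA.hilbPull ((LefPen.hypIdeal f).subschemeι ≫ CohB1.ProjSpace.toSpec 4 ℂ) h Z.1 =
        i.ker.comap (pullback.fst ((LefPen.hypIdeal f).subschemeι ≫ CohB1.ProjSpace.toSpec 4 ℂ) (Over.mk (𝟙 (Spec (CommRingCat.of ℂ)))).hom)}) :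
    IsIrreducible T ∧ ∀ x ∈ T, ringKrullDim (H.left.presheaf.stalk x) = 10 := by
  exact K470.RatFive.main5 f hf (fun c i hcl hi θ => K496.QuintShf.hom_conormal_quintic f hf i c hi θ) H Z hH T hT

end Groth.Agent.S16526
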