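import Groth.Statements.S16527
import Groth.Agent.Fano.K430.QuartAsm
import Groth.Agent.Fano.K931.QuartClass
import Groth.Agent.Fano.K324.QuartIrr
import Groth.Agent.Fano.K870.QuartEx
import Groth.Agent.Fano.K560.QuartReg

set_option autoImplicit false
universe u
open CategoryTheory CategoryTheory.Limits AlgebraicGeometry
open Fano

namespace Groth.Agent.S16527

/-- For a smooth cubic threefold X ⊂ P^4 over an algebraically closed field k of characteristic zero (in
place of the complex numbers), the space H^{4,1}(X) of smooth quartic elliptic curves on X is smooth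
and connected of dimension 8. Here X is given by a nonzero cubic form f in five variables with
V_+(f) smooth over k; (H, Z) is a Hilbert scheme of X over k — H locally Noetherian over k and Z ⊆ X
×_k H closed, proper and flat over H, such that every closed subscheme of X ×_k T proper and flat
over a locally Noetherian k-scheme T is the pullback of Z along a unique k-morphism T → H — and T ⊆
H is the set of k-points of H classifying smooth connected curves of genus 1 and degree 4, i.e.
closed immersions i : C → X over k with C smooth, proper and integral of dimension one over k, dim_k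
H^1(C, O_C) = 1 and deg i^*O_{P^4}(1) = χ(i^*O(1)) − χ(O_C) = 4 (the closed points of the open
subscheme the source studies). The conclusion: T is an irreducible subset of H, and at each point of
T the local ring of H is regular of Krull dimension 8. (The source's description of the incidence
variety I_{4,1} as a P^1-bundle over H^{4,1}(X) is not restated.) -/
theorem result (k : Type u) [Field k] [IsAlgClosed k]
    [CharZero k] (f : LefPen.Form 4 k 3) (hf : f ≠ 0)
    [Smooth ((LefPen.hypIdeal f).subschemeι ≫ CohB1.ProjSpace.toSpec 4 k)]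
    (H : Over (Spec (CommRingCat.of k))) (Z : FGA.HilbSet ((LefPen.hypIdeal f).subschemeι ≫ CohB1.ProjSpace.toSpec 4 k) H)
    (hH : FGA.HilbRepresentedBy ((LefPen.hypIdeal f).subschemeι ≫ CohB1.ProjSpace.toSpec 4 k) H Z)
    (T : Set ↥H.left)
    (hT : T = {x | ∃ (h : Over.mk (𝟙 (Spec (CommRingCat.of k))) ⟶ H) (C : Scheme.{u}) (p : C ⟶ Spec (CommRingCat.of k))
      (i : C ⟶ (LefPen.hypIdeal f).subscheme),
      x = h.left.base (IsLocalRing.closedPoint k) ∧ IsClosedImmersion i ∧
      i ≫ (LefPen.hypIdeal f).subschemeι ≫ CohB1.ProjSpace.toSpec 4 k = p ∧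
      Smooth p ∧ IsProper p ∧ IsIntegral C ∧ topologicalKrullDim C = 1 ∧
      @Curv2.genus k _ C ⟨p⟩ = 1 ∧
      @Curv2.deg k _ C ⟨p⟩ ((Scheme.Modules.pullback (i ≫ (LefPen.hypIdeal f).subschemeι)).obj
        (Twist.twistProjSpace 4 k 1)) 1 = 4 ∧
      FGA.hilbPull ((LefPen.hypIdeal f).subschemeι ≫ CohB1.ProjSpace.toSpec 4 k) h Z.1 =
        i.ker.comap (pullback.fst ((LefPen.hypIdeal f).subschemeι ≫ CohB1.ProjSpace.toSpec 4 k) (Over.mk (𝟙 (Spec (CommRingCat.of k)))).hom)}) :
    IsIrreducible T ∧ ∀ x ∈ T, IsRegularLocalRing (H.left.presheaf.stalk x) ∧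
      ringKrullDim (H.left.presheaf.stalk x) = 8 :=
  K430.QuartAsm.main f (Groth.Agent.Fano.K931.QuartClass.exists_sol f hf)
    (K324.QuartIrr.irreducible_sol f hf).2 (K870.QuartEx.exists_good f hf) H Z hH
    (fun q hq hg x hx => K560.QuartReg.regular_quart f hf H Z hH q hq hg x hx) T hT

end Groth.Agent.S16527
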