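import Groth.Statements.S16528
import Groth.Agent.Fano.K972.Row28

set_option autoImplicit false
open CategoryTheory CategoryTheory.Limits AlgebraicGeometry
open Fano

namespace Groth.Agent.S16528

/-- For a smooth cubic threefold X ⊂ P^4 over the complex numbers, the space H^{5,1}(X) of smooth
quintic elliptic curves on X is irreducible of dimension 10. Here X is given by a nonzero cubic form
f in five variables with V_+(f) smooth over ℂ; (H, Z) is a Hilbert scheme of X over ℂ — H locally
Noetherian over ℂ and Z ⊆ X ×_ℂ H closed, proper and flat over H, such that every closed subscheme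
of X ×_ℂ T proper and flat over a locally Noetherian ℂ-scheme T is the pullback of Z along a unique
ℂ-morphism T → H — and T ⊆ H is the set of ℂ-points of H classifying smooth connected curves of
genus 1 and degree 5, i.e. closed immersions i : C → X over ℂ with C smooth, proper and integral of
dimension one over ℂ, dim_ℂ H^1(C, O_C) = 1 and deg i^*O_{P^4}(1) = χ(i^*O(1)) − χ(O_C) = 5 (the
closed points of the open subscheme the source studies). The conclusion: T is an irreducible subset
of H, and at each point of T the local ring of H has Krull dimension 10 (smoothness is not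
asserted). -/
theorem result (f : LefPen.Form 4 ℂ 3) (hf : f ≠ 0)
    [Smooth ((LefPen.hypIdeal f).subschemeι ≫ CohB1.ProjSpace.toSpec 4 ℂ)]
    (H : Over (Spec (CommRingCat.of ℂ))) (Z : FGA.HilbSet ((LefPen.hypIdeal f).subschemeι ≫ CohB1.ProjSpace.toSpec 4 ℂ) H)
    (hH : FGA.HilbRepresentedBy ((LefPen.hypIdeal f).subschemeι ≫ CohB1.ProjSpace.toSpec 4 ℂ) H Z)
    (T : Set ↥H.left)
    (hT : T = {x | ∃ (h : Over.mk (𝟙 (Spec (CommRingCat.of ℂ))) ⟶ H) (C : Scheme.{0}) (p : C ⟶ Spec (CommRingCat.of ℂ))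
      (i : C ⟶ (LefPen.hypIdeal f).subscheme),
      x = h.left.base (IsLocalRing.closedPoint ℂ) ∧ IsClosedImmersion i ∧
      i ≫ (LefPen.hypIdeal f).subschemeι ≫ CohB1.ProjSpace.toSpec 4 ℂ = p ∧
      Smooth p ∧ IsProper p ∧ IsIntegral C ∧ topologicalKrullDim C = 1 ∧
      @Curv2.genus ℂ _ C ⟨p⟩ = 1 ∧
      @Curv2.deg ℂ _ C ⟨p⟩ ((Scheme.Modules.pullback (i ≫ (LefPen.hypIdeal f).subschemeι)).obj
        (Twist.twistProjSpace 4 ℂ 1)) 1 = 5 ∧
      FGA.hilbPull ((LefPen.hypIdeal f).subschemeι ≫ CohB1.ProjSpace.toSpec 4 ℂ) h Z.1 =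
        i.ker.comap (pullback.fst ((LefPen.hypIdeal f).subschemeι ≫ CohB1.ProjSpace.toSpec 4 ℂ) (Over.mk (𝟙 (Spec (CommRingCat.of ℂ)))).hom)}) :
    IsIrreducible T ∧ ∀ x ∈ T, ringKrullDim (H.left.presheaf.stalk x) = 10 := by
  subst hT
  exact K972.Row28.main f hf H Z hH

end Groth.Agent.S16528
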