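import Groth.Statements.S16529
import Groth.Agent.Fano.K715.QuintAsm
import Groth.Agent.Fano.K113.QuintClass
import Groth.Agent.Fano.K162.QuintGood
import Groth.Agent.Fano.K544.QuintFam
import Groth.Agent.Fano.K335.QuintReg
import Groth.Agent.Fano.K496.OpenCurves
import Groth.Agent.Fano.K271.QuintExist
import Groth.Agent.Fano.K324.QuartIrr

set_option autoImplicit false
universe u
open CategoryTheory CategoryTheory.Limits AlgebraicGeometry
open Fano

namespace Groth.Agent.S16529

/-- For a smooth cubic threefold X ⊂ P^4 over an algebraically closed field k of characteristic zero (in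
place of the complex numbers), the space H^{5,2}(X) of smooth quintic curves of genus 2 on X is
irreducible of dimension 10. Here X is given by a nonzero cubic form f in five variables with V_+(f)
smooth over k; (H, Z) is a Hilbert scheme of X over k — H locally Noetherian over k and Z ⊆ X ×_k H
closed, proper and flat over H, such that every closed subscheme of X ×_k T proper and flat over a
locally Noetherian k-scheme T is the pullback of Z along a unique k-morphism T → H — and T ⊆ H is
the set of k-points of H classifying smooth connected curves of genus 2 and degree 5, i.e. closed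
immersions i : C → X over k with C smooth, proper and integral of dimension one over k, dim_k H^1(C,
O_C) = 2 and deg i^*O_{P^4}(1) = χ(i^*O(1)) − χ(O_C) = 5 (the closed points of the open subscheme
the source studies). The conclusion: T is an irreducible subset of H, and at each point of T the
local ring of H has Krull dimension 10. (The published statement is stronger: the normalization of
H^{5,2}(X) is smooth and connected, of dimension 10; this row records the consequence for H^{5,2}(X)
itself.) -/
theorem result (k : Type u) [Field k] [IsAlgClosed k]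
    [CharZero k] (f : LefPen.Form 4 k 3) (hf : f ≠ 0)
    [Smooth ((LefPen.hypIdeal f).subschemeι ≫ CohB1.ProjSpace.toSpec 4 k)]
    (H : Over (Spec (CommRingCat.of k))) (Z : FGA.HilbSet ((LefPen.hypIdeal f).subschemeι ≫ CohB1.ProjSpace.toSpec 4 k) H)
    (hH : FGA.HilbRepresentedBy ((LefPen.hypIdeal f).subschemeι ≫ CohB1.ProjSpace.toSpec 4 k) H Z)
    (T : Set ↥H.left)
    (hT : T = {x | ∃ (h : Over.mk (𝟙 (Spec (CommRingCat.of k))) ⟶ H) (C : Scheme.{u}) (p : C ⟶ Spec (CommRingCat.of k))
      (i : C ⟶ (LefPen.hypIdeal f).subscheme),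
      x = h.left.base (IsLocalRing.closedPoint k) ∧ IsClosedImmersion i ∧
      i ≫ (LefPen.hypIdeal f).subschemeι ≫ CohB1.ProjSpace.toSpec 4 k = p ∧
      Smooth p ∧ IsProper p ∧ IsIntegral C ∧ topologicalKrullDim C = 1 ∧
      @Curv2.genus k _ C ⟨p⟩ = 2 ∧
      @Curv2.deg k _ C ⟨p⟩ ((Scheme.Modules.pullback (i ≫ (LefPen.hypIdeal f).subschemeι)).obj
        (Twist.twistProjSpace 4 k 1)) 1 = 5 ∧
      FGA.hilbPull ((LefPen.hypIdeal f).subschemeι ≫ CohB1.ProjSpace.toSpec 4 k) h Z.1 =
        i.ker.comap (pullback.fst ((LefPen.hypIdeal f).subschemeι ≫ CohB1.ProjSpace.toSpec 4 k) (Over.mk (𝟙 (Spec (CommRingCat.of k)))).hom)}) :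
    IsIrreducible T ∧ ∀ x ∈ T, ringKrullDim (H.left.presheaf.stalk x) = 10 := by
  have hT' : T = Groth.Agent.Fano.K715.Quint.curveSet f H Z 2 5 := hT
  rw [hT']
  exact K715.QuintAsm.assemble f H Z hH
    (fun C p i h1 h2 h3 h4 h5 h6 h7 h8 =>
      Groth.Agent.Fano.K113.QuintClass.exists_solG f hf C p i h1 h2 h3 h4 h5 h6 h7 h8)
    (fun q hq hgood => K162.QuintGood.of_goodG f q hq hgood)
    (fun A q₀ hq₀ hgood x₀ hx₀ hA => K544.QuintFam.exists_poly_of_mem_openG f H Z hH A hq₀ hgood hx₀ hA)
    (fun q hq hgood ht x hx => (K335.QuintReg.regular_quint_of f hf H Z hH q hq hgood ht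
      (K162.QuintGood.of_goodG f q hq hgood) x hx).2)
    (K496.OpenCurves.exists_open_curveSet f hf H Z hH 2 5)
    (K271.QuintExist.exists_goodG f hf)
    (K324.QuartIrr.irreducible_sol f hf).2

end Groth.Agent.S16529
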