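import Groth.Statements.S16533
import Groth.Agent.Fano.K715.NormalH
import Groth.Agent.Fano.K715.Hyp

set_option autoImplicit false
universe u
open CategoryTheory CategoryTheory.Limits AlgebraicGeometry
attribute [local instance] HasDerivedCategory.standard
open Fano

namespace Groth.Agent.S16533

/-- Over an algebraically closed field k of characteristic zero (in place of the complex numbers), let Σ
⊂ P^4 be the union of a 2-plane Σ₁ and a smooth quadric surface Σ₂ meeting along a line; then the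
normal sheaf N_{Σ/P^4} has H^1(Σ, N) = H^2(Σ, N) = 0. Here Σ₁ = V_+(l₁, l₂) and Σ₂ = V_+(m, q) for
linearly independent linear forms l₁, l₂, m and a quadratic form q in the ideal (l₁, l₂, m) (so Σ₁ ∩
Σ₂ is the line V_+(l₁, l₂, m)), with V_+(m, q) smooth of dimension 2 over k; Σ is the closed
subscheme whose ideal sheaf is the intersection of those of Σ₁ and Σ₂, with inclusion ι, and N =
Hom(I/I², O_Σ) is the sheaf Hom of the conormal sheaf of ι into O_Σ (assumed to exist as the right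
adjoint of tensoring with the conormal sheaf). -/
theorem result (k : Type u) [Field k]
    [IsAlgClosed k] [CharZero k] (l₁ l₂ m : LefPen.Form 4 k 1) (hlin : LinearIndependent k ![l₁, l₂, m])
    (q : LefPen.Form 4 k 2) (a b c : LefPen.Form 4 k 1) (hq : q.1 = a.1 * l₁.1 + b.1 * l₂.1 + c.1 * m.1)
    [Smooth ((LefPen.hypIdeal m ⊔ LefPen.hypIdeal q).subschemeι ≫ CohB1.ProjSpace.toSpec 4 k)]
    (hdim : topologicalKrullDim ↥(LefPen.hypIdeal m ⊔ LefPen.hypIdeal q).subscheme = 2)
    [DCoh.HasSheafHom (Omega.conormal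
      ((LefPen.hypIdeal l₁ ⊔ LefPen.hypIdeal l₂) ⊓ (LefPen.hypIdeal m ⊔ LefPen.hypIdeal q)).subschemeι)] :
    Subsingleton (Coh.HH ((LefPen.hypIdeal l₁ ⊔ LefPen.hypIdeal l₂) ⊓ (LefPen.hypIdeal m ⊔ LefPen.hypIdeal q)).subscheme
      ((DCoh.sheafHom (Omega.conormal ((LefPen.hypIdeal l₁ ⊔ LefPen.hypIdeal l₂) ⊓
        (LefPen.hypIdeal m ⊔ LefPen.hypIdeal q)).subschemeι)).obj (Coh.structureModule _)) 1) ∧
    Subsingleton (Coh.HH ((LefPen.hypIdeal l₁ ⊔ LefPen.hypIdeal l₂) ⊓ (LefPen.hypIdeal m ⊔ LefPen.hypIdeal q)).subscheme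
      ((DCoh.sheafHom (Omega.conormal ((LefPen.hypIdeal l₁ ⊔ LefPen.hypIdeal l₂) ⊓
        (LefPen.hypIdeal m ⊔ LefPen.hypIdeal q)).subschemeι)).obj (Coh.structureModule _)) 2) := by
  have H := K715.Hyp.hb_of_dim l₁ l₂ m hlin q a b c hq hdim
  exact ⟨K715.NormalH.hh_normal _ 1 (K715.NormalH.hh_homIQ hq H (by norm_num) 1 le_rfl),
    K715.NormalH.hh_normal _ 2 (K715.NormalH.hh_homIQ hq H (by norm_num) 2 (by norm_num))⟩

end Groth.Agent.S16533
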