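import Groth.Statements.S16530
import Groth.Agent.DefT.K693.HilbPn
import Groth.Agent.Fano.K715.Lci
import Groth.Agent.S16533
import Groth.Agent.Dcoh.MonClosed

set_option autoImplicit false
universe u
open CategoryTheory CategoryTheory.Limits AlgebraicGeometry
open Fano

namespace Groth.Agent.S16530

/-- Over an algebraically closed field k of characteristic zero (in place of the complex numbers), the
Hilbert scheme of P^4 is smooth at every point representing a surface Σ = Σ₁ ∪ Σ₂ with Σ₁ a 2-plane,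
Σ₂ a smooth quadric surface and Σ₁ ∩ Σ₂ a line. Here Σ₁ = V_+(l₁, l₂) and Σ₂ = V_+(m, q) for
linearly independent linear forms l₁, l₂, m and a quadratic form q in the ideal (l₁, l₂, m) (so that
Σ₁ ∩ Σ₂ is exactly the line V_+(l₁, l₂, m)), with V_+(m, q) smooth of dimension 2 over k; Σ is the
closed subscheme whose ideal sheaf is the intersection of those of Σ₁ and Σ₂; (H, Z) is a Hilbert
scheme of P^4 over k — H locally Noetherian over k, Z ⊆ P^4 ×_k H closed, proper and flat over H,
such that every closed subscheme of P^4 ×_k T proper and flat over a locally Noetherian k-scheme T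
is the pullback of Z along a unique k-morphism T → H — and h : Spec k → H is the k-point classifying
Σ. The conclusion: the local ring of H at h is regular. -/
theorem result (k : Type u) [Field k] [IsAlgClosed k]
    [CharZero k] (l₁ l₂ m : LefPen.Form 4 k 1) (hlin : LinearIndependent k ![l₁, l₂, m])
    (q : LefPen.Form 4 k 2) (a b c : LefPen.Form 4 k 1) (hq : q.1 = a.1 * l₁.1 + b.1 * l₂.1 + c.1 * m.1)
    [Smooth ((LefPen.hypIdeal m ⊔ LefPen.hypIdeal q).subschemeι ≫ (CohB1.ProjSpace.toSpec 4 k))]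
    (hdim : topologicalKrullDim ↥(LefPen.hypIdeal m ⊔ LefPen.hypIdeal q).subscheme = 2)
    (H : Over (Spec (CommRingCat.of k))) (Z : FGA.HilbSet (CohB1.ProjSpace.toSpec 4 k) H) (hH : FGA.HilbRepresentedBy (CohB1.ProjSpace.toSpec 4 k) H Z)
    (h : Over.mk (𝟙 (Spec (CommRingCat.of k))) ⟶ H)
    (hh : FGA.hilbPull (CohB1.ProjSpace.toSpec 4 k) h Z.1 =
      ((LefPen.hypIdeal l₁ ⊔ LefPen.hypIdeal l₂) ⊓ (LefPen.hypIdeal m ⊔ LefPen.hypIdeal q)).comap
        (pullback.fst (CohB1.ProjSpace.toSpec 4 k) (Over.mk (𝟙 (Spec (CommRingCat.of k)))).hom)) :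
    IsRegularLocalRing (H.left.presheaf.stalk (h.left.base (IsLocalRing.closedPoint k))) := by
  set J := (LefPen.hypIdeal l₁ ⊔ LefPen.hypIdeal l₂) ⊓ (LefPen.hypIdeal m ⊔ LefPen.hypIdeal q) with hJ
  have hHB := K715.Hyp.hb_of_dim l₁ l₂ m hlin q a b c hq hdim
  have hl : l₁.1 ≠ 0 := fun h0 => hlin.ne_zero 0 (Subtype.ext h0)
  have hm : m.1 ≠ 0 := fun h0 => hlin.ne_zero 2 (Subtype.ext h0)
  have hqq : a.1 * l₁.1 + b.1 * l₂.1 ≠ 0 := by
    intro h0
    obtain ⟨t, ht⟩ := hHB.k3 1 0 (by rw [h0]; ring)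
    have h1 : m.1.IsHomogeneous 1 := (MvPolynomial.mem_homogeneousSubmodule _ _).mp m.2
    have h2 : MvPolynomial.constantCoeff m.1 = 0 := by
      rw [MvPolynomial.constantCoeff_eq]
      exact h1.coeff_eq_zero (by simp)
    have h3 := congrArg MvPolynomial.constantCoeff ht
    rw [map_mul, h2, zero_mul, map_one] at h3
    exact one_ne_zero h3
  have hreg := K715.Lci.isRegularClosedImmersion hq hHB inferInstance hl hqq
  have hker : J.subschemeι.ker = J := J.ker_subschemeι
  letI hO : J.subscheme.Over (Spec (CommRingCat.of k)) := ⟨J.subschemeι ≫ CohB1.ProjSpace.toSpec 4 k⟩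
  have hY : J.subscheme ↘ Spec (CommRingCat.of k) = J.subschemeι ≫ CohB1.ProjSpace.toSpec 4 k := rfl
  have hpr : IsProper (J.subschemeι ≫ CohB1.ProjSpace.toSpec 4 k) := inferInstance
  have hfin := K693.HilbPn.finite_normal (i := J.subschemeι) (x := CohB1.ProjSpace.toSpec 4 k) hY hpr 1
  have hm := K693.HilbMain.main (i := J.subschemeι) (x := CohB1.ProjSpace.toSpec 4 k) hH hY hpr h
    (by rw [hker]; exact hh) (fun p hp I => K693.HilbPn.locLift_reg hreg p hp I)
  have hv := (Groth.Agent.S16533.result k l₁ l₂ m hlin q a b c hq hdim).1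
  exact (hm.2.2.1 Module.finrank_zero_of_subsingleton).1

end Groth.Agent.S16530
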