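import Groth.Statements.S16531
import Groth.Agent.Fano.K51.DegPt
import Groth.Agent.Fano.K51.DegClass
import Groth.Agent.Fano.K714.JacSm
import Groth.Agent.Fano.K484.DimLe
import Groth.Agent.Fano.K484.Repar

set_option autoImplicit false
universe u
open CategoryTheory CategoryTheory.Limits AlgebraicGeometry
open Fano

namespace Groth.Agent.S16531

/-- For a smooth cubic threefold X ⊂ P^4 over an algebraically closed field k of characteristic zero (in
place of the complex numbers), every irreducible component of the closed subset of H^{4,0}(X)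
parametrizing degenerate smooth rational quartic curves C (span(C) ≠ P^4) has dimension at most 7.
Here X is given by a nonzero cubic form f in five variables with V_+(f) smooth over k; (H, Z) is a
Hilbert scheme of X over k — H locally Noetherian over k and Z ⊆ X ×_k H closed, proper and flat
over H, such that every closed subscheme of X ×_k T proper and flat over a locally Noetherian
k-scheme T is the pullback of Z along a unique k-morphism T → H — and T ⊆ H is the set of k-points
of H classifying degenerate smooth rational quartics, i.e. closed immersions i : P^1_k → X over k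
along which O_{P^4}(1) pulls back to O_{P^1}(4) and such that the composite P^1_k → X → P^4 factors
through a hyperplane V_+(l) for some nonzero linear form l (the closed points of the open subscheme
the source studies). The conclusion: the topological Krull dimension of T in the subspace topology
is at most 7. -/
theorem result (k : Type u) [Field k] [IsAlgClosed k]
    [CharZero k] (f : LefPen.Form 4 k 3) (hf : f ≠ 0)
    [Smooth ((LefPen.hypIdeal f).subschemeι ≫ CohB1.ProjSpace.toSpec 4 k)]
    (H : Over (Spec (CommRingCat.of k))) (Z : FGA.HilbSet ((LefPen.hypIdeal f).subschemeι ≫ CohB1.ProjSpace.toSpec 4 k) H)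
    (hH : FGA.HilbRepresentedBy ((LefPen.hypIdeal f).subschemeι ≫ CohB1.ProjSpace.toSpec 4 k) H Z)
    (T : Set ↥H.left)
    (hT : T = {x | ∃ (h : Over.mk (𝟙 (Spec (CommRingCat.of k))) ⟶ H)
      (i : CohB1.ProjSpace 1 k ⟶ (LefPen.hypIdeal f).subscheme),
      x = h.left.base (IsLocalRing.closedPoint k) ∧ IsClosedImmersion i ∧
      i ≫ (LefPen.hypIdeal f).subschemeι ≫ CohB1.ProjSpace.toSpec 4 k = CohB1.ProjSpace.toSpec 1 k ∧
      Nonempty ((Scheme.Modules.pullback (i ≫ (LefPen.hypIdeal f).subschemeι)).obj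
        (Twist.twistProjSpace 4 k 1) ≅ Twist.twistProjSpace 1 k 4) ∧
      (∃ (l : LefPen.Form 4 k 1) (j : CohB1.ProjSpace 1 k ⟶ (LefPen.hypIdeal l).subscheme), l ≠ 0 ∧
        j ≫ (LefPen.hypIdeal l).subschemeι = i ≫ (LefPen.hypIdeal f).subschemeι) ∧
      FGA.hilbPull ((LefPen.hypIdeal f).subschemeι ≫ CohB1.ProjSpace.toSpec 4 k) h Z.1 =
        i.ker.comap (pullback.fst ((LefPen.hypIdeal f).subschemeι ≫ CohB1.ProjSpace.toSpec 4 k) (Over.mk (𝟙 (Spec (CommRingCat.of k)))).hom)}) :
    topologicalKrullDim ↥T ≤ 7 := by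
  have hinf : Infinite k := IsAlgClosed.instInfinite
  have hf3 : f.1.IsHomogeneous 3 := (MvPolynomial.mem_homogeneousSubmodule 3 _).1 f.2
  have hsm := Groth.Agent.Fano.K714.JacSm.smoothOn_tri f hf ‹_›
  have hT3 := K656.Trilin.tri_sym f.1
  refine K484.DimLe.dim_le (d := 4) f H Z hH (by norm_num) 7
    (Groth.Agent.Fano.K51.DegPt.RR (K656.Trilin.tri f.1))
    (Groth.Agent.Fano.K51.DegPt.dim_RR hT3 hsm)
    (Groth.Agent.Fano.K51.DegPt.cc (K656.Trilin.tri f.1))
    (Groth.Agent.Fano.K51.DegPt.aeval_cc hf3) T ?_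
  intro x hx
  rw [hT] at hx
  obtain ⟨h, i, hxh, hcl, hi, hdeg, ⟨l, j, hl, hj⟩, hpull⟩ := hx
  obtain ⟨c, hc, hs, hn, hfc⟩ := Groth.Agent.Fano.K51.DegClass.exists_par' (d := 4) f (by norm_num) i hi hdeg
  obtain ⟨ν, hν, hν'⟩ := Groth.Agent.Fano.K51.DegClass.exists_rel hc l hl j hj
  obtain ⟨γ, c', hγ, hcc, hch⟩ := Groth.Agent.Fano.K51.DegChart.exists_chart hT3 hsm hs hn ν hν hν' (fun s t => by
    rw [K656.Trilin.tri_diag hf3]; exact hfc s t)
  obtain ⟨α, m, hm⟩ := Groth.Agent.Fano.K51.DegPt.exists_point hch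
  obtain ⟨i', hcl', hi', hker⟩ := K484.Repar.repar f (d := 4) (by norm_num) c c' γ hγ hcc i hc
  refine ⟨α, m, h, i', hcl', ?_, hxh, ?_⟩
  · have : (fun a j => m (Groth.Agent.Fano.K51.DegPt.cc (K656.Trilin.tri f.1) α a j)) = c' := by
      funext a j
      exact hm a j
    rw [this]
    exact hi'
  · rw [hker]; exact hpull

end Groth.Agent.S16531
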