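import Groth.Statements.S16537
import Groth.Agent.Disp.K789.Vdual

set_option autoImplicit false
universe u v
open Disp

namespace Groth.Agent.S16537

/-- Let p be a prime and R a commutative ring in which p is nilpotent; write W = W(R) with Frobenius σ
and, for n ≥ 0, I_n ⊆ W for the kernel of the truncation W → W_n(R). Let (P, Q, F, V⁻¹) be a display
over R: a 3n-display whose operator V# : P → W ⊗_{σ,W} P (the W-linear map with V#(w·F x) = p·(w ⊗
x) and V#(w·V⁻¹ y) = w ⊗ y) satisfies the nilpotence condition. Then for every n there is an N such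
that the iterate V^{(N+1)#} : P → W ⊗_{σ^(N+1),W} P has image in I_n·(W ⊗_{σ^(N+1),W} P);
equivalently the map W_n(R) ⊗_W P → W_n(R) ⊗_{σ^(N+1),W} P induced by V^{(N+1)#} is zero. -/
theorem result (p : ℕ) [Fact p.Prime]
    (R : Type u) [CommRing R] (hp : IsNilpotent (p : R))
    (P : Type v) [AddCommGroup P] [Module (WittVector p R) P] (D : W4c1extbt610.Display3n p R P)
    (Vs : P →ₗ[WittVector p R] Dieu.BC (WittVector.frobenius : WittVector p R →+* WittVector p R) P) (hVs : Dieu.IsVSharp D Vs)
    (hnil : Dieu.IsVNilpotent Vs) (n : ℕ) :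
    ∃ N : ℕ, ∀ x : P, Dieu.vSharpPow Vs N x ∈
      (RingHom.ker (WittVector.truncate (p := p) (R := R) n)) •
        (⊤ : Submodule (WittVector p R) (Dieu.BC ((WittVector.frobenius : WittVector p R →+* WittVector p R) ^ (N + 1)) P)) := by
  have := D.finite
  have := D.projective
  obtain ⟨m, hm⟩ := (K789.Vdual.isVNilpotent_iff Vs).1 hnil
  obtain ⟨a, ha⟩ := hp
  have key := K789.Vdual.iterate_Vd_mem Vs (Nat.succ_pos m) hm (a * n)
  refine ⟨(m + 1) * (a * n + 1) - 1, fun x => ?_⟩
  rw [K789.Vdual.vSharpPow_mem_iff]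
  intro φ
  have h1 : (m + 1) * (a * n + 1) - 1 + 1 = (m + 1) * (a * n + 1) := by
    have : 0 < (m + 1) * (a * n + 1) := by positivity
    omega
  rw [h1]
  have h2 := key φ x
  refine (Ideal.span_le.2 ?_) h2
  rw [Set.singleton_subset_iff]
  exact K789.WittComplete.p_pow_mem_ker_truncate ha n

end Groth.Agent.S16537
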