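import Groth.Statements.S16541
import Mathlib.RingTheory.Flat.FaithfullyFlat.Basic
import Mathlib.RingTheory.Flat.Basic
import Mathlib.RingTheory.Flat.Stability
import Mathlib.RingTheory.Flat.FaithfullyFlat.Algebra

set_option autoImplicit false
universe u v
open CAlg

namespace Groth.Agent.S16541

open TensorProduct

/-- Faithfully flat descent of elements. -/
theorem mem_range_of_tmul_eq {R B : Type*} [CommRing R] [CommRing B] [Algebra R B]
    [Module.FaithfullyFlat R B] (x : B) (h : (1 : B) ⊗ₜ[R] x = x ⊗ₜ[R] 1) :
    x ∈ LinearMap.range (Algebra.linearMap R B) := by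
  let D : Submodule R B := LinearMap.range (Algebra.linearMap R B)
  have h1 : (1 : B) ⊗ₜ[R] (D.mkQ x) = 0 := by
    have h2 := congrArg (LinearMap.lTensor B D.mkQ) h
    rw [LinearMap.lTensor_tmul, LinearMap.lTensor_tmul] at h2
    have h3 : D.mkQ (1 : B) = 0 := by
      rw [← LinearMap.mem_ker, Submodule.ker_mkQ]
      exact ⟨1, by simp⟩
    rw [h3, TensorProduct.tmul_zero] at h2
    exact h2
  have h4 := Module.FaithfullyFlat.tensorProduct_mk_injective (A := R) (B := B) (B ⧸ D)
    (a₁ := D.mkQ x) (a₂ := 0) (by simpa using h1)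
  rwa [← LinearMap.mem_ker, Submodule.ker_mkQ] at h4

section abs

variable {A : Type u} {B : Type u} {C : Type u} [CommRing A] [CommRing B] [CommRing C]
  (g : A →+* B) (h₁ h₂ : B →+* C) (e : h₁.comp g = h₂.comp g)
  (M : Type v) [AddCommGroup M] [Module A M]

/-- the structure map `A → B` as an `A`-linear map. -/
noncomputable def i : A →ₗ[A] Dieu.Res g where
  toFun a := Dieu.Res.mk g (g a)
  map_add' a b := by rw [map_add]; rfl
  map_smul' a b := by rw [smul_eq_mul, map_mul]; rfl

/-- the map `b ↦ h b` as an `A`-linear map. -/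
noncomputable def d (h : B →+* C) (k : A →+* C) (e : h.comp g = k) : Dieu.Res g →ₗ[A] Dieu.Res k where
  toFun t := Dieu.Res.mk k (h t.val)
  map_add' s t := by apply Dieu.Res.ext; simp
  map_smul' a t := by
    apply Dieu.Res.ext
    simp [← e]

theorem push_eq (h : B →+* C) (k : A →+* C) (e : h.comp g = k) (z : Dieu.BC g M) :
    Dieu.BC.castHom e (Dieu.BC.push g h z) = (((d g h k e).rTensor M) z : Dieu.Res k ⊗[A] M) := by
  induction z using Dieu.BC.induction_on g with
  | zero => rw [map_zero, map_zero]; exact (map_zero _).symm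
  | tmul b x =>
    rw [Dieu.BC.push_tmul, Dieu.BC.castHom_tmul]
    rfl
  | add z₁ z₂ hz₁ hz₂ =>
    rw [map_add, map_add, hz₁, hz₂]
    exact (map_add _ _ _).symm

theorem main [Module.Flat A M] (hg : Function.Injective g)
    (heq : ∀ b : B, h₁ b = h₂ b → ∃ a, g a = b) :
    Function.Injective (Dieu.BC.ι g M) ∧ ∀ z : Dieu.BC g M,
      (Dieu.BC.castHom e (Dieu.BC.push g h₁ z) = Dieu.BC.push g h₂ z ↔
        z ∈ Set.range (Dieu.BC.ι g M)) := by
  have hι : ∀ x : M, Dieu.BC.ι g M x = ((i g).rTensor M) ((TensorProduct.lid A M).symm x) := by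
    intro x
    rw [TensorProduct.lid_symm_apply, LinearMap.rTensor_tmul, Dieu.BC.ι_apply]
    change Dieu.Res.mk g 1 ⊗ₜ[A] x = Dieu.Res.mk g (g 1) ⊗ₜ[A] x
    rw [map_one]
  have hi : Function.Injective (i g) := fun a b hab => hg hab
  have hιinj : Function.Injective (Dieu.BC.ι g M) := by
    intro x y hxy
    rw [hι, hι] at hxy
    exact (TensorProduct.lid A M).symm.injective
      (Module.Flat.rTensor_preserves_injective_linearMap (M := M) (i g) hi hxy)
  refine ⟨hιinj, fun z => ?_⟩
  have hex : Function.Exact (i g) (d g h₁ _ e - d g h₂ _ rfl) := by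
    intro t
    constructor
    · intro ht
      rw [LinearMap.sub_apply, sub_eq_zero] at ht
      obtain ⟨a, ha⟩ := heq t.val ht
      exact ⟨a, ha⟩
    · rintro ⟨a, rfl⟩
      rw [LinearMap.sub_apply, sub_eq_zero]
      exact RingHom.congr_fun e a
  have hex' := Module.Flat.rTensor_exact M hex
  have h1 : Dieu.BC.push g h₂ z = (((d g h₂ _ rfl).rTensor M) z : Dieu.Res (h₂.comp g) ⊗[A] M) := by
    rw [← push_eq g M h₂ _ rfl z]
    rfl
  rw [push_eq g M h₁ _ e z, h1]
  have key : ∀ w : Dieu.Res g ⊗[A] M, (d g h₁ _ e).rTensor M w = (d g h₂ _ rfl).rTensor M w ↔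
      w ∈ Set.range ((i g).rTensor M) := by
    intro w
    rw [← hex' w, LinearMap.rTensor_sub, LinearMap.sub_apply, sub_eq_zero]
  refine (key z).trans ?_
  constructor
  · rintro ⟨w, hw⟩
    refine ⟨TensorProduct.lid A M w, ?_⟩
    rw [hι, LinearEquiv.symm_apply_apply]
    exact hw
  · rintro ⟨x, hx⟩
    exact ⟨_, (hι x).symm.trans hx⟩

end abs

/-- Let p be a prime, S → R a faithfully flat homomorphism of commutative rings and M a flat
W(S)-module; write ι₁, ι₂ : R → R ⊗_S R for the two coprojections, M_R = W(R) ⊗_{W(S)} M and M_{R ⊗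
R} = W(R ⊗_S R) ⊗_{W(S)} M for the scalar extensions along W(S) → W(R) and W(S) → W(R ⊗_S R). Then 0
→ M → M_R ⇉ M_{R ⊗ R} is exact: the map x ↦ 1 ⊗ x from M to M_R is injective, and an element of M_R
has the same image under the two maps w ⊗ x ↦ W(ι₁)(w) ⊗ x and w ⊗ x ↦ W(ι₂)(w) ⊗ x exactly when it
is of the form 1 ⊗ x. The hypothesis e records that the two composite ring maps W(S) → W(R) → W(R
⊗_S R) agree (both coprojections are S-algebra maps); it serves to identify the two targets. -/
theorem result (p : ℕ) [Fact p.Prime]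
    (S R : Type u) [CommRing S] [CommRing R] [Algebra S R] [Module.FaithfullyFlat S R]
    (M : Type v) [AddCommGroup M] [Module (WittVector p S) M] [Module.Flat (WittVector p S) M]
    (e : (WittVector.map (Algebra.TensorProduct.includeLeftRingHom : R →+* TensorProduct S R R) : WittVector p R →+* WittVector p (TensorProduct S R R)).comp (WittVector.map (algebraMap S R) : WittVector p S →+* WittVector p R) = (WittVector.map ((Algebra.TensorProduct.includeRight : R →ₐ[S] TensorProduct S R R) : R →+* TensorProduct S R R) : WittVector p R →+* WittVector p (TensorProduct S R R)).comp (WittVector.map (algebraMap S R) : WittVector p S →+* WittVector p R)) :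
    Function.Injective (Dieu.BC.ι (WittVector.map (algebraMap S R) : WittVector p S →+* WittVector p R) M) ∧
      ∀ z : Dieu.BC (WittVector.map (algebraMap S R) : WittVector p S →+* WittVector p R) M,
        (Dieu.BC.castHom e (Dieu.BC.push (WittVector.map (algebraMap S R) : WittVector p S →+* WittVector p R) (WittVector.map (Algebra.TensorProduct.includeLeftRingHom : R →+* TensorProduct S R R) : WittVector p R →+* WittVector p (TensorProduct S R R)) z) = Dieu.BC.push (WittVector.map (algebraMap S R) : WittVector p S →+* WittVector p R) (WittVector.map ((Algebra.TensorProduct.includeRight : R →ₐ[S] TensorProduct S R R) : R →+* TensorProduct S R R) : WittVector p R →+* WittVector p (TensorProduct S R R)) z ↔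
          z ∈ Set.range (Dieu.BC.ι (WittVector.map (algebraMap S R) : WittVector p S →+* WittVector p R) M)) := by
  refine main _ _ _ e M ?_ ?_
  · intro x y hxy
    have hinj : Function.Injective (algebraMap S R) := FaithfulSMul.algebraMap_injective S R
    ext n
    apply hinj
    have := congrArg (fun z => WittVector.coeff z n) hxy
    simpa [WittVector.map_coeff] using this
  · intro b hb
    have h1 : ∀ n, ∃ s : S, algebraMap S R s = b.coeff n := by
      intro n
      have h2 := congrArg (fun z => WittVector.coeff z n) hb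
      simp only [WittVector.map_coeff] at h2
      exact mem_range_of_tmul_eq (b.coeff n) h2.symm
    choose s hs using h1
    refine ⟨WittVector.mk p s, ?_⟩
    ext n
    rw [WittVector.map_coeff, WittVector.coeff_mk, hs]

end Groth.Agent.S16541
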