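import Groth.Statements.S16544
import Groth.Agent.Disp.K789.QuasiLift

set_option autoImplicit false
universe u v
open Disp

namespace Groth.Agent.S16544

/-- Let p be a prime and S a commutative ring in which p is nilpotent and whose nilradical (the ideal of
nilpotent elements) is a nilpotent ideal; let (P, Q, F, V⁻¹) and (P', Q', F', V'⁻¹) be displays over
S, i.e. 3n-displays whose operators V# satisfy the nilpotence condition. Then the group of
homomorphisms of displays from P to P' has no p-torsion: a W(S)-linear ψ : P → P' which is a
homomorphism of 3n-displays and satisfies p·ψ = 0 is zero. (The published statement says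
torsion-free; primes other than p are units in S, and the published proof treats the prime p.) -/
theorem result (p : ℕ) [Fact p.Prime]
    (S : Type u) [CommRing S] (hp : IsNilpotent (p : S)) (hn : IsNilpotent (nilradical S))
    (P P' : Type v) [AddCommGroup P] [Module (WittVector p S) P] [AddCommGroup P'] [Module (WittVector p S) P']
    (D : W4c1extbt610.Display3n p S P) (D' : W4c1extbt610.Display3n p S P')
    (hD : Dieu.IsDisplay D) (hD' : Dieu.IsDisplay D')
    (ψ : P →ₗ[WittVector p S] P') (hψ : W4c1extbt610.IsHom D D' ψ)
    (h : (p : WittVector p S) • ψ = 0) : ψ = 0 := by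
  have := D'.finite
  have := D'.projective
  have hW : ∀ z : WittVector p S, (p : WittVector p S) * z = 0 → z ∈ K789.WittIdeal.WI p (nilradical S) := by
    intro z hz
    rw [K789.WittIdeal.mem_WI]
    intro n
    obtain ⟨c, -, hc⟩ := K789.WittIdeal.coeff_frobenius_sub_pow_mem (𝔠 := ⊤)
      (x := WittVector.verschiebung z) (by rw [K789.WittIdeal.WI_top]; trivial) (n + 1)
    rw [K789.DispBasic.frobenius_verschiebung', hz, WittVector.zero_coeff,
      WittVector.verschiebung_coeff_succ] at hc
    have h1 : z.coeff n ^ p = -((p : S) * c) := by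
      rw [eq_neg_iff_add_eq_zero]; exact hc.symm
    have h2 : z.coeff n ^ p ∈ nilradical S := by
      rw [h1]
      exact (Ideal.neg_mem_iff _).2 (Ideal.mul_mem_right _ _ (mem_nilradical.2 hp))
    rw [mem_nilradical] at h2 ⊢
    exact h2.of_pow
  obtain ⟨b'⟩ := K789.DualBasis.exists_db (A := WittVector p S) (M := P')
  refine K789.Rigid.eq_zero_of_mem (D := D) (D' := D') hp hn hD ψ (fun y => hψ.mapsTo y y.2)
    (fun y => hψ.comm_Vinv y) (fun x => ?_)
  refine b'.mem_smul_top_iff.2 fun i => hW _ ?_
  have h1 := LinearMap.congr_fun h x
  rw [LinearMap.smul_apply, LinearMap.zero_apply] at h1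
  rw [← smul_eq_mul, ← map_smul, h1, map_zero]

end Groth.Agent.S16544
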