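import Groth.Statements.S16547
import Groth.Agent.CAlg.K90.GalPrin
import Groth.Agent.CAlg.K90.Formanek
import Groth.Agent.S0560

set_option autoImplicit false
universe u
open CAlg

namespace Groth.Agent.S16547

/-- Let A be a Noetherian factorial local domain and G a finite group acting faithfully on A by ring
automorphisms; let B be a ring with an injective ring map to A whose image is exactly the ring of
invariants of G, and assume A is a finite B-module. Let q be a prime ideal of B of height one and p
a prime ideal of A lying over q such that the extension of residue fields of the local rings B_q and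
A_p is trivial (every element of A is congruent modulo p to some c⁻¹b with b, c in B, c outside q).
Then q is a principal ideal; and if moreover B/q is a regular local ring, then B is a regular local
ring. -/
theorem result
    {A B G : Type u} [CommRing A] [IsDomain A] [IsNoetherianRing A] [IsLocalRing A]
    [UniqueFactorizationMonoid A]
    [CommRing B] [Algebra B A] [FaithfulSMul B A] [Module.Finite B A]
    [Group G] [Finite G] [MulSemiringAction G A] [FaithfulSMul G A] [SMulCommClass G B A]
    [Algebra.IsInvariant B A G]
    (q : Ideal B) [q.IsPrime] (hq : q.height = 1) (p : Ideal A) [p.IsPrime] [p.LiesOver q]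
    (hres : ∀ a : A, ∃ b c : B, c ∉ q ∧ algebraMap B A c * a - algebraMap B A b ∈ p) :
    Submodule.IsPrincipal q ∧ (IsRegularLocalRing (B ⧸ q) → IsRegularLocalRing B) := by
  classical
  have hG : Fintype G := Fintype.ofFinite G
  have hinj : Function.Injective (algebraMap B A) := FaithfulSMul.algebraMap_injective B A
  have hdom : IsDomain B := hinj.isDomain _
  have hint : Algebra.IsIntegral B A := inferInstance
  have hpq : p.comap (algebraMap B A) = q := (Ideal.LiesOver.over (P := p) (p := q)).symm
  -- `q` is nonzero
  have hqbot : q ≠ ⊥ := by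
    rintro rfl
    have h0 : (⊥ : Ideal B).height = 0 := Ideal.height_bot
    rw [h0] at hq
    exact absurd hq (by norm_num)
  have hpbot : p ≠ ⊥ := by
    rintro rfl
    apply hqbot
    rw [← hpq, ← RingHom.ker_eq_comap_bot, (RingHom.injective_iff_ker_eq_bot _).mp hinj]
  -- `p` is generated by a prime element
  obtain ⟨a, hap, ha⟩ := Ideal.IsPrime.exists_mem_prime_of_ne_bot (I := p) inferInstance hpbot
  have hale : Ideal.span {a} ≤ p := (Ideal.span_singleton_le_iff_mem p).mpr hap
  have haprime : (Ideal.span {a}).IsPrime := (Ideal.span_singleton_prime ha.ne_zero).mpr ha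
  have hacomap : (Ideal.span {a}).comap (algebraMap B A) = q := by
    have h1 : (Ideal.span {a}).comap (algebraMap B A) ≤ q := by
      rw [← hpq]; exact Ideal.comap_mono hale
    have h2 : (Ideal.span {a}).comap (algebraMap B A) ≠ ⊥ :=
      Ideal.comap_ne_bot_of_integral_mem ha.ne_zero (Ideal.mem_span_singleton_self a)
        (Algebra.IsIntegral.isIntegral a)
    by_contra hne
    have h3 : (Ideal.span {a}).comap (algebraMap B A) < q := lt_of_le_of_ne h1 hne
    have h4 : (⊥ : Ideal B) < (Ideal.span {a}).comap (algebraMap B A) := bot_lt_iff_ne_bot.mpr h2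
    have h5 := Ideal.height_add_one_le_of_lt_of_isPrime h3
    have h6 := Ideal.height_add_one_le_of_lt_of_isPrime h4
    rw [hq] at h5
    have h7 : (1 : ℕ∞) ≤ ((Ideal.span {a}).comap (algebraMap B A)).height :=
      le_trans le_add_self h6
    have h8 : (1 : ℕ∞) + 1 ≤ 1 := (add_le_add_left h7 1).trans h5
    exact absurd h8 (by decide)
  have hpa : Ideal.span {a} = p := by
    by_contra hne
    have h1 : Ideal.span {a} < p := lt_of_le_of_ne hale hne
    have h2 := Ideal.IsIntegral.comap_lt_comap (R := B) h1
    rw [hacomap, hpq] at h2
    exact lt_irrefl _ h2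
  have hmem : ∀ y : A, y ∈ p ↔ a ∣ y := by
    intro y
    rw [← hpa, Ideal.mem_span_singleton]
  obtain ⟨t, htq, ht0, ht⟩ := K90.GalPrin.main G a ha q (fun b => by
      rw [← hmem, ← hpq, Ideal.mem_comap]) (fun y => by
      obtain ⟨b, c, hc, h⟩ := hres y
      exact ⟨b, c, hc, (hmem _).mp h⟩)
  have hqt : q = Ideal.span {t} := by
    apply le_antisymm
    · intro x hx
      obtain ⟨y, hy⟩ := ht x hx
      -- `y` is invariant
      obtain ⟨b, rfl⟩ := Algebra.IsInvariant.isInvariant (A := B) (G := G) y (fun g => by
        have h1 := congrArg (fun z => g • z) hy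
        simp only [smul_mul', smul_algebraMap] at h1
        rw [hy] at h1
        exact (mul_left_cancel₀ ht0 h1).symm)
      rw [← map_mul] at hy
      rw [hinj hy]
      exact Ideal.mul_mem_right _ _ (Ideal.mem_span_singleton_self t)
    · exact (Ideal.span_singleton_le_iff_mem q).mpr htq
  refine ⟨⟨t, hqt⟩, fun hreg => ?_⟩
  -- regularity
  have hNoeth : IsNoetherianRing B := K90.Formanek.isNoetherianRing hinj
  have hloc : IsLocalHom (algebraMap B A) := by
    constructor
    intro b hb
    obtain ⟨y, hy⟩ := hb.exists_right_inv
    obtain ⟨c, rfl⟩ := Algebra.IsInvariant.isInvariant (A := B) (G := G) y (fun g => by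
      have h1 := congrArg (fun z => g • z) hy
      simp only [smul_mul', smul_algebraMap, smul_one] at h1
      exact hb.mul_left_cancel (h1.trans hy.symm))
    rw [← map_mul, ← map_one (algebraMap B A)] at hy
    exact IsUnit.of_mul_eq_one _ (hinj hy)
  have hlocB : IsLocalRing B := RingHom.domain_isLocalRing (algebraMap B A)
  have htm : t ∈ IsLocalRing.maximalIdeal B := IsLocalRing.le_maximalIdeal
    (Ideal.IsPrime.ne_top (I := q) inferInstance) htq
  have ht0' : t ∈ nonZeroDivisors B := by
    refine mem_nonZeroDivisors_of_ne_zero fun h => ht0 ?_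
    rw [h, map_zero]
  rw [hqt] at hreg
  exact Groth.Agent.S0560.result B t htm ht0'

end Groth.Agent.S16547
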