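import Groth.Statements.S16549
import Groth.Agent.Models.K378.ExtMain

set_option autoImplicit false
universe u
open CategoryTheory CategoryTheory.Limits AlgebraicGeometry
open Models

namespace Groth.Agent.S16549

/-- Let R be a discrete valuation ring with fraction field K, X and Y smooth proper integral curves over
K with H^0(X, O_X) = K = H^0(Y, O_Y), f : X -> Y a finite K-morphism, and assume the genus dim_K
H^1(Y, O_Y) of Y is at least 1. If X has a smooth proper model over R — a smooth proper R-scheme
whose generic fibre is identified with X — then Y has a smooth proper model over R and f extends to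
a finite R-morphism between these models, compatibly with the identifications of the generic fibres. -/
theorem result
    (R : Type u) [CommRing R] [IsDomain R] [IsDiscreteValuationRing R]
    (X Y : Scheme.{u}) (fX : X ⟶ Spec (CommRingCat.of (FractionRing R))) (fY : Y ⟶ Spec (CommRingCat.of (FractionRing R)))
    (hX : Curve.IsSmoothProperCurve (FractionRing R) X fX) (hX0 : IsIso fX.appTop)
    (hY : Curve.IsSmoothProperCurve (FractionRing R) Y fY) (hY0 : IsIso fY.appTop)
    (f : X ⟶ Y) [IsFinite f] (hf : f ≫ fY = fX)
    (hg : 1 ≤ Models.curveGenus (FractionRing R) Y fY)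
    (XR : Scheme.{u}) (p : XR ⟶ Spec (CommRingCat.of R)) [IsProper p] [Smooth p] (i : X ⟶ XR)
    (hi : IsPullback i fX p (Spec.map (CommRingCat.ofHom (algebraMap R (FractionRing R))))) :
    ∃ (YR : Scheme.{u}) (q : YR ⟶ Spec (CommRingCat.of R)) (j : Y ⟶ YR) (φ : XR ⟶ YR),
      IsProper q ∧ Smooth q ∧ IsPullback j fY q (Spec.map (CommRingCat.ofHom (algebraMap R (FractionRing R)))) ∧
        IsFinite φ ∧ φ ≫ q = p ∧ i ≫ φ = f ≫ j := by
  exact Groth.Agent.Models.K378.ExtModel.Data.exists_model
    { X := X, Y := Y, fX := fX, fY := fY, hX := hX, hX0 := hX0, hY := hY, hY0 := hY0, f := f,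
      isFinite := inferInstance, hf := hf, hg := hg, XR := XR, p := p, isProper := inferInstance,
      isSmooth := inferInstance, i := i, hi := hi }

end Groth.Agent.S16549
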