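import Groth.Statements.S16550
import Groth.Agent.Models.K954.Assem
import Groth.Agent.S16553
import Groth.Agent.S16748
import Groth.Agent.S16750

set_option autoImplicit false
universe u
open CategoryTheory CategoryTheory.Limits AlgebraicGeometry
open Models

namespace Groth.Agent.S16550

attribute [-instance] CategoryTheory.catToReflQuiver

/-- Let R be a discrete valuation ring with fraction field K, X and Y smooth proper integral curves over
K with H^0(X, O_X) = K = H^0(Y, O_Y), and f : X -> Y a finite K-morphism, with dim_K H^1(Y, O_Y) ≥
2. If X has semistable reduction over R (it has a proper model over R which is an at-worst-nodal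
family of curves; for genus at least 2 this is the same as admitting a stable model), then Y has
semistable reduction over R. (The published statement also extends f to a morphism between the
stable models; that part is not stated here.) -/
theorem result
    (R : Type u) [CommRing R] [IsDomain R] [IsDiscreteValuationRing R]
    (X Y : Scheme.{u}) (fX : X ⟶ Spec (CommRingCat.of (FractionRing R))) (fY : Y ⟶ Spec (CommRingCat.of (FractionRing R)))
    (hX : Curve.IsSmoothProperCurve (FractionRing R) X fX) (hX0 : IsIso fX.appTop)
    (hY : Curve.IsSmoothProperCurve (FractionRing R) Y fY) (hY0 : IsIso fY.appTop)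
    (f : X ⟶ Y) [IsFinite f] (hf : f ≫ fY = fX)
    (hg : 2 ≤ Models.curveGenus (FractionRing R) Y fY)
    (h : Models.HasSemistableReduction R X fX) :
    Models.HasSemistableReduction R Y fY := by
  refine K954.Assem.main ?_ ?_ ?_ R X Y fX fY hX hX0 hY hY0 f hf hg h
  · intro R _ _ _ X Y fX fY hX hX0 hY hY0 hg f _ hf XR p _ hp hps iX hiX YR q _ hq hqs iY hiY
    exact Groth.Agent.S16553.result R X Y fX fY hX hX0 hY hY0 hg f hf XR p hp hps iX hiX YR q hq hqs iY hiY
  · intro R _ _ _ C f hC hH0 hg
    exact Groth.Agent.S16748.result R C f hC hH0 hg
  · intro R _ _ _ C f hC hH0 hg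
    exact Groth.Agent.S16750.result R C f hC hH0 hg

end Groth.Agent.S16550
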