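import Groth.Statements.S16551
import Groth.Agent.Models.K381.FinGen
import Groth.Agent.Models.K381.FibComp

set_option autoImplicit false
universe u
open CategoryTheory CategoryTheory.Limits AlgebraicGeometry
open Models

namespace Groth.Agent.S16551

/-- Let R be a discrete valuation ring, W and Z integral normal schemes which are flat, of finite type
and of dimension 2 over Spec R, and ψ : W -> Z a finite surjective R-morphism. Let z be a closed
point of Z lying in the special fibre, w a point of W with ψ(w) = z, and Δ an irreducible component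
of the special fibre of Z with z ∈ Δ. Then some irreducible component Γ of the special fibre of W
contains w and satisfies ψ(Γ) = Δ. (The published statement asks W and Z only to be normal; they are
taken integral as well here.) -/
theorem result
    (R : Type u) [CommRing R] [IsDomain R] [IsDiscreteValuationRing R]
    (W Z : Over (Spec (CommRingCat.of R))) [IsIntegral W.left] [IsIntegral Z.left]
    (hWn : Pi1.IsNormalScheme W.left) (hZn : Pi1.IsNormalScheme Z.left)
    [Flat W.hom] [LocallyOfFiniteType W.hom] [QuasiCompact W.hom]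
    [Flat Z.hom] [LocallyOfFiniteType Z.hom] [QuasiCompact Z.hom]
    (hdW : topologicalKrullDim W.left = 2) (hdZ : topologicalKrullDim Z.left = 2)
    (ψ : W ⟶ Z) [IsFinite ψ.left] [Surjective ψ.left]
    (z : Z.left) (hzc : IsClosed ({z} : Set Z.left)) (hz : z ∈ Models.specialFibreSet R Z)
    (w : W.left) (hw : ψ.left.base w = z)
    (Δ : Set Z.left) (hΔ : Δ ∈ Models.fibreComponents R Z) (hzΔ : z ∈ Δ) :
    ∃ Γ ∈ Models.fibreComponents R W, w ∈ Γ ∧ ψ.left.base '' Γ = Δ := by
  obtain ⟨ξ, hξ, rfl⟩ := (K381.FibComp.mem_fibreComponents_iff Δ).mp hΔ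
  have hξw : ξ ⤳ ψ.left w := by
    have : ψ.left w = z := hw
    rw [this, specializes_iff_mem_closure]
    exact hzΔ
  obtain ⟨w', hw', hξ'⟩ := K381.FinGen.generalizingMap_of_isIntegralHom hZn ψ.left hξw
  have hcomm : ∀ x : W.left, Z.hom (ψ.left x) = W.hom x := fun x => by
    rw [← Scheme.Hom.comp_apply, Over.w]
  have hξ'' : ψ.left w' = ξ := hξ'
  have hgen : K381.FibComp.IsGen W w' := by
    refine ⟨by rw [← hcomm, hξ'']; exact hξ.1, fun v hv hvs => ?_⟩
    have h1 : ψ.left v ⤳ ξ := by
      rw [← hξ'']
      exact hv.map ψ.left.continuous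
    have h2 := hξ.2 _ h1 (by rw [hcomm]; exact hvs)
    exact K381.FinGen.eq_of_specializes ψ.left hv (h2.trans hξ''.symm)
  refine ⟨closure {w'}, (K381.FibComp.closure_mem_iff w').mpr hgen, ?_, ?_⟩
  · rw [← specializes_iff_mem_closure]
    exact hw'
  · have h1 : IsClosedMap ψ.left := ψ.left.isClosedMap
    have h2 := h1.closure_image_eq_of_continuous ψ.left.continuous {w'}
    rw [Set.image_singleton, hξ''] at h2
    exact h2.symm

end Groth.Agent.S16551
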