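import Groth.Statements.S16556
import Groth.Agent.Models.K364.Fin
import Groth.Agent.Sga7.H592.SncFinM

set_option autoImplicit false
universe u
open CategoryTheory CategoryTheory.Limits AlgebraicGeometry
open Models

namespace Groth.Agent.S16556

/-- For a Galois group of order 2 or 3, let R be a discrete valuation ring with perfect residue field
and fraction field K, X and Y smooth proper curves over K with H^0(X, O_X) = K = H^0(Y, O_Y), and f
: X -> Y a finite locally free K-morphism of prime degree ℓ ∈ {2, 3} admitting a non-trivial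
automorphism σ of X over Y (so f is a Galois cover with group of order ℓ generated by σ). Suppose X
has a regular proper model WR over R — integral, with regular local rings, proper and flat over Spec
R, generic fibre identified with X through iW — such that σ extends to an R-automorphism of WR. Then
f extends to a finite morphism between regular proper models: there are integral schemes XR, YR with
regular local rings, proper and flat over Spec R, with generic fibres identified with X and Y, and a
finite R-morphism XR -> YR compatible with f. (The published statement allows any Dedekind domain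
with perfect residue fields as base and any Galois group acting on the regular model with all
inertia groups of order at most 3 — automatic for a group of order 2 or 3 — and produces a G-cover
of regular models; the G-cover structure is not asserted here.) -/
theorem result
    (R : Type u) [CommRing R] [IsDomain R] [IsDiscreteValuationRing R]
    [PerfectField (IsLocalRing.ResidueField R)]
    (X Y : Scheme.{u}) (fX : X ⟶ Spec (CommRingCat.of (FractionRing R))) (fY : Y ⟶ Spec (CommRingCat.of (FractionRing R)))
    (hX : Curve.IsSmoothProperCurve (FractionRing R) X fX) (hX0 : IsIso fX.appTop)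
    (hY : Curve.IsSmoothProperCurve (FractionRing R) Y fY) (hY0 : IsIso fY.appTop)
    (f : X ⟶ Y) (hf : f ≫ fY = fX) (ℓ : ℕ) (hℓ : ℓ = 2 ∨ ℓ = 3) (hdeg : Mor2.IsFinLocFreeOfDeg ℓ f)
    (σ : X ≅ X) (hσ : σ.hom ≠ 𝟙 X) (hσf : σ.hom ≫ f = f)
    (WR : Scheme.{u}) (w : WR ⟶ Spec (CommRingCat.of R)) [IsProper w] [Flat w] [IsIntegral WR]
    (hWreg : ∀ x : WR, IsRegularLocalRing (WR.presheaf.stalk x))
    (iW : X ⟶ WR) (hiW : IsPullback iW fX w (Spec.map (CommRingCat.ofHom (algebraMap R (FractionRing R)))))
    (σW : WR ≅ WR) (hσW : σW.hom ≫ w = w) (hσWX : iW ≫ σW.hom = σ.hom ≫ iW) :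
    ∃ (XR YR : Scheme.{u}) (p : XR ⟶ Spec (CommRingCat.of R)) (q : YR ⟶ Spec (CommRingCat.of R))
      (jX : X ⟶ XR) (jY : Y ⟶ YR) (φ : XR ⟶ YR),
      IsProper p ∧ Flat p ∧ IsIntegral XR ∧ (∀ x : XR, IsRegularLocalRing (XR.presheaf.stalk x)) ∧
      IsPullback jX fX p (Spec.map (CommRingCat.ofHom (algebraMap R (FractionRing R)))) ∧
      IsProper q ∧ Flat q ∧ IsIntegral YR ∧ (∀ y : YR, IsRegularLocalRing (YR.presheaf.stalk y)) ∧
      IsPullback jY fY q (Spec.map (CommRingCat.ofHom (algebraMap R (FractionRing R)))) ∧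
      IsFinite φ ∧ φ ≫ q = p ∧ jX ≫ φ = f ≫ jY := by
  obtain ⟨hXp, hXs, hXi, hXd⟩ := id hX
  obtain ⟨hYp, hYs, hYi, hYd⟩ := id hY
  obtain ⟨⟨hffin, hfflat, hffp⟩, hfrk⟩ := id hdeg
  set i := Spec.map (CommRingCat.ofHom (algebraMap R (FractionRing R))) with hi
  have hgo : IsOpenImmersion iW := by
    have hio : IsOpenImmersion i := Groth.Agent.Models.DVRGeneric.isOpenImmersion_generic R (FractionRing R)
    exact Groth.Agent.Models.DVRGeneric.isOpenImmersion_of_isPullback hiW
  have hgd : IsDominant iW := by
    refine ⟨?_⟩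
    have h1 : IsOpen (Set.range iW) := iW.isOpenEmbedding.isOpen_range
    exact h1.dense ⟨iW (genericPoint X), genericPoint X, rfl⟩
  let σA : Aut X := σ
  let WA : Aut WR := σW
  have hσℓ : σA ^ ℓ = 1 := Groth.Agent.Models.K364.GenDeg.aut_pow_eq_one f hfrk σA hσf
  have hWℓ : WA ^ ℓ = 1 :=
    Groth.Agent.Models.K364.Fin.pow_eq_one_of_generic iW w σA WA hσW hσWX hσℓ
  have hord : σW.hom ≫ σW.hom = 𝟙 WR ∨ σW.hom ≫ σW.hom ≫ σW.hom = 𝟙 WR := by
    rcases hℓ with rfl | rfl
    · left
      rw [pow_two] at hWℓ
      exact congrArg (fun e : Aut WR => (e : WR ≅ WR).hom) hWℓ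
    · right
      rw [pow_succ, pow_two] at hWℓ
      exact congrArg (fun e : Aut WR => (e : WR ≅ WR).hom) hWℓ
  have hE : Groth.Agent.Models.K364.EMod.EM fX σ.hom w σW.hom :=
    ⟨inferInstance, inferInstance, inferInstance, hWreg, hσW, ⟨iW, hiW, hσWX⟩, hord⟩
  obtain ⟨Z, p, τ, hZ, hbad⟩ := Groth.Agent.Models.K364.EInd.exists_bad_eq_empty
    (fun c => Groth.Agent.Sga7.H592.SncFinM.ringKrullDim_C_le_one hX c) hE
  exact Groth.Agent.Models.K364.Fin.main hX hY hf hℓ hdeg σA hσ hσf hZ hbad

end Groth.Agent.S16556
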