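import Groth.Statements.S16557
import Groth.Agent.Surf.K461.SerreCl

set_option autoImplicit false
universe u
open CategoryTheory CategoryTheory.Limits AlgebraicGeometry TopologicalSpace
open Surf

namespace Groth.Agent.S16557

/-- Let X be a smooth proper integral surface over an algebraically closed field k, W = Λ²Ω_{X/k} a
canonical module, and suppose H⁰(X, W) = 0 (the source states this for smooth rational surfaces and
uses exactly the vanishing of H⁰(X, K_X)). If L is an invertible O_X-module with H⁰(X, L) ≠ 0, then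
H²(X, L) = 0. -/
theorem result (k : Type u) [Field k] [IsAlgClosed k]
    (X : Scheme.{u}) [X.Over (Spec (CommRingCat.of k))] [IsIntegral X] [IsProper (X ↘ (Spec (CommRingCat.of k)))] [Smooth (X ↘ (Spec (CommRingCat.of k)))]
    (hdim : topologicalKrullDim X = 2)
    (W : X.Modules) (hW : ExtPow.IsExtPow 2 (Omega.sheaf (X ↘ (Spec (CommRingCat.of k)))) W)
    (hpg : Subsingleton (Coh.HH X W 0))
    (L : X.Modules) (hL : PicF.IsInvertible L) (h0 : Nontrivial (Coh.HH X L 0)) :
    Subsingleton (Coh.HH X L 2) := by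
  have hr : SmoothOfRelativeDimension 2 (X ↘ Spec (CommRingCat.of k)) :=
    Picfga.CurveRelDim.smoothOfRelativeDimension_of_topologicalKrullDim_eq k X _ 2 hdim
  have hWi := K461.Canon.isInvertible_of_smooth 2 _ hW
  let w := Pic13.H11.Cls.unit hWi
  let u := Pic13.H11.Cls.unit hL
  have hw : (w : Fga.PicMon.MC X) = Fga.PicMon.mc W := Pic13.H11.Cls.unit_val hWi
  -- H²(O) = H⁰(W)^* = 0
  have h1 : Pic13.H11.Cls.V 2 ((1 : (Fga.PicMon.MC X)ˣ) : Fga.PicMon.MC X) := by
    rw [K461.SerreCl.V_dual k 2 hW w hw 1 0 2 rfl, inv_one, mul_one, hw, Pic13.H11.Cls.V_mc]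
    exact hpg
  rw [Units.val_one, ← Fga.PicMon.mc_one, Pic13.H11.Cls.V_mc] at h1
  have := Fga.HodgeSec.finite_HH k hL 0
  obtain ⟨s, hs⟩ := Fga.HodgeSec.exists_section k (L := L) Module.finrank_pos
  have h2 := Fga.HodgeSec.finrank_two_le k hdim.le hL (CurvesC.UnitCoh.isCoh_unit X) s hs
  have h3 : Module.finrank k (Coh.HH X (Coh.structureModule X) 2) = 0 := Module.finrank_zero_of_subsingleton
  have h4 := (Fga.PicMon.hmapEquiv k X (Ega2.Tens.runit L) 2).finrank_eq
  have := Fga.HodgeSec.finite_HH k hL 2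
  have h5 : Module.finrank k (Coh.HH X L 2) = 0 := by omega
  exact Module.finrank_zero_iff.1 h5

end Groth.Agent.S16557
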