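import Groth.Statements.S16564
import Groth.Agent.Surf.K461.NegTwo

set_option autoImplicit false
universe u
open CategoryTheory CategoryTheory.Limits AlgebraicGeometry TopologicalSpace
open Surf

namespace Groth.Agent.S16564

/-- Let k be an algebraically closed field, p_1, …, p_r distinct closed points of the projective plane
P²_k and σ : X → P²_k the blow-up of P²_k in the ideal of the reduced finite set {p_1, …, p_r}
(universal property), X being regarded over k through σ; X is then an integral smooth proper surface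
(carried as hypotheses). Write H = σ^*O(1), (L·M) = χ(O_X) − χ(L) − χ(M) + χ(L ⊗ M) for the
intersection number of invertible modules L, M, and for a closed subscheme C ⊆ X with ideal I_C
write (L·C) = χ(O_C ⊗ L) − χ(O_C) and C² = (I_C·I_C). A (−1)-curve is an integral closed
one-dimensional subscheme E ⊆ X with H¹(E, O_E) = 0 and E² = −1. Call an invertible module M
non-special when at most one of H⁰(X, M), H¹(X, M), H²(X, M) is nonzero. Suppose every invertible M
with (M·E) ≥ −1 for every (−1)-curve E is non-special (the non-speciality hypothesis for X). Then no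
integral closed one-dimensional subscheme C ⊆ X has C² ≤ −2. (The source concludes that the curves
of negative self-intersection are exactly the (−1)-curves; its argument treats C² ≤ −2, which is
what is stated here.) (The source takes the points in general position; that assumption plays no
role here.) -/
theorem result (k : Type u) [Field k] [IsAlgClosed k]
    (r : ℕ) (P : Fin r → ↥(CohB1.ProjSpace 2 k)) (hP : Function.Injective P)
    (hPc : ∀ i, IsClosed ({P i} : Set ↥(CohB1.ProjSpace 2 k))) (hZ : IsClosed (Set.range P))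
    (X : Scheme.{u}) [X.Over (Spec (CommRingCat.of k))] (σ : X ⟶ CohB1.ProjSpace 2 k)
    (hσk : σ ≫ CohB1.ProjSpace.toSpec 2 k = X ↘ (Spec (CommRingCat.of k)))
    (hσ : BlowUp.IsBlowUp σ (Scheme.IdealSheafData.vanishingIdeal ⟨Set.range P, hZ⟩))
    [IsIntegral X] [IsProper (X ↘ (Spec (CommRingCat.of k)))] [Smooth (X ↘ (Spec (CommRingCat.of k)))] (hdim : topologicalKrullDim X = 2)
    (hconj : ∀ (M : X.Modules), PicF.IsInvertible M →
      (∀ (E : X.IdealSheafData), IsIntegral E.subscheme → topologicalKrullDim (E.support : Set X) = 1 →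
        Subsingleton (Coh.HH E.subscheme (Coh.structureModule E.subscheme) 1) →
        FGA.intNum k X 2 ![ClSub.idealMod E, ClSub.idealMod E] (Coh.structureModule X) = -1 →
        -1 ≤ (Curv2.euler k X (CohB1.tensorMod (ClSub.quotMod E) M) - Curv2.euler k X (ClSub.quotMod E))) →
      ((Subsingleton (Coh.HH X M 0) ∧ Subsingleton (Coh.HH X M 1)) ∨ (Subsingleton (Coh.HH X M 0) ∧ Subsingleton (Coh.HH X M 2)) ∨
        (Subsingleton (Coh.HH X M 1) ∧ Subsingleton (Coh.HH X M 2))))
    (C : X.IdealSheafData) (hCi : IsIntegral C.subscheme) (hC1 : topologicalKrullDim (C.support : Set X) = 1) :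
    -1 ≤ FGA.intNum k X 2 ![ClSub.idealMod C, ClSub.idealMod C] (Coh.structureModule X) := by
  obtain ⟨hI, hx⟩ := K461.Curve.exists_unit_ideal k hdim hCi hC1
  have hd : topologicalKrullDim X ≤ (2 : ℕ) := hdim.le
  by_contra hlt
  obtain ⟨N, hN, hNx⟩ := K461.Neg.exists_unit (Pic13.H11.Cls.unit hI)⁻¹
  have hns := hconj N hN (fun E hEi hE1 hEg hEE => by
    have hne : E ≠ C := by
      rintro rfl
      exact hlt hEE.ge
    have h1 := K461.NegTwo.dg_ideal_nonpos k hdim hCi hC1 hEi hE1 hne hI
    obtain ⟨hIE, hxE⟩ := K461.Curve.exists_unit_ideal k hdim hEi hE1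
    have h2 := K461.Neg.dg_inv k hd E hxE (Pic13.H11.Cls.unit hI)
    rw [hNx, K461.Neg.dg_unit] at h2
    omega)
  rw [K461.Neg.intNum_eq_form k hI hI] at hlt
  have h1 := K461.NegTwo.one_le_h_zero_inv k C hx
  have h2 := K461.NegTwo.chi_inv k C hx hd
  have h3 := K461.Neg.chi_quot k C hCi hC1
  have h4 := K461.Plane.chi_one k hPc hZ σ hσk hσ
  have h5 := K461.SerreCl.chi_eq_three k hd (Pic13.H11.Cls.unit hI)⁻¹
  have h0 : ¬ Subsingleton (Coh.HH X N 0) := by
    intro h
    rw [hNx, Pic13.H11.Cls.unit_val, Pic13.H11.Cls.h_mc, Module.finrank_zero_of_subsingleton] at h1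
    omega
  have h6 : Subsingleton (Coh.HH X N 1) ∧ Subsingleton (Coh.HH X N 2) := by
    rcases hns with h | h | h
    · exact absurd h.1 h0
    · exact absurd h.1 h0
    · exact h
  have h7 : Pic13.H11.Cls.h k 1 (((Pic13.H11.Cls.unit hI)⁻¹ : (Fga.PicMon.MC X)ˣ) : Fga.PicMon.MC X) = 0 := by
    have := h6.1
    rw [hNx, Pic13.H11.Cls.unit_val, Pic13.H11.Cls.h_mc]
    exact Module.finrank_zero_of_subsingleton
  have h8 : Pic13.H11.Cls.h k 2 (((Pic13.H11.Cls.unit hI)⁻¹ : (Fga.PicMon.MC X)ˣ) : Fga.PicMon.MC X) = 0 := by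
    have := h6.2
    rw [hNx, Pic13.H11.Cls.unit_val, Pic13.H11.Cls.h_mc]
    exact Module.finrank_zero_of_subsingleton
  rw [h7, h8] at h5
  have h9 : (0 : ℤ) ≤ (Pic13.H11.Cls.h k 1 (Fga.PicMon.mc (ClSub.quotMod C)) : ℤ) := by positivity
  omega

end Groth.Agent.S16564
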