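import Groth.Statements.S16568
import Groth.Agent.Surf.K461.PencilF

set_option autoImplicit false
universe u
open CategoryTheory CategoryTheory.Limits AlgebraicGeometry TopologicalSpace
open Surf

namespace Groth.Agent.S16568

/-- Let k be an algebraically closed field, p_1, …, p_r distinct closed points of the projective plane
P²_k and σ : X → P²_k the blow-up of P²_k in the ideal of the reduced finite set {p_1, …, p_r}
(universal property), X being regarded over k through σ; X is then an integral smooth proper surface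
(carried as hypotheses). Write H = σ^*O(1), (L·M) = χ(O_X) − χ(L) − χ(M) + χ(L ⊗ M) for the
intersection number of invertible modules L, M, and for a closed subscheme C ⊆ X with ideal I_C
write (L·C) = χ(O_C ⊗ L) − χ(O_C) and C² = (I_C·I_C). A (−1)-curve is an integral closed
one-dimensional subscheme E ⊆ X with H¹(E, O_E) = 0 and E² = −1. Write E_j for the exceptional curve
over p_j and let π : X → P¹_k be a k-morphism with π^*O(1) ≅ H ⊗ I_{E_j} (the resolved projection
from p_j, up to an automorphism of P¹_k), with fibre class F = π^*O(1). Let E be a (−1)-curve with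
ideal I_E, N = O_X(E) a tensor inverse of I_E, and R = (E·F) = deg F|_E. Then π_*N ≅ O(−1)^{⊕R} ⊕ O
(isomorphism class of the locally free sheaf π_*N), and π_*I_E ≅ O(−1) when R = 0 while π_*I_E = 0
when R > 0. (The source takes the points in general position; that assumption plays no role here.) -/
theorem result (k : Type u) [Field k] [IsAlgClosed k]
    (r : ℕ) (P : Fin r → ↥(CohB1.ProjSpace 2 k)) (hP : Function.Injective P)
    (hPc : ∀ i, IsClosed ({P i} : Set ↥(CohB1.ProjSpace 2 k))) (hZ : IsClosed (Set.range P))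
    (X : Scheme.{u}) [X.Over (Spec (CommRingCat.of k))] (σ : X ⟶ CohB1.ProjSpace 2 k)
    (hσk : σ ≫ CohB1.ProjSpace.toSpec 2 k = X ↘ (Spec (CommRingCat.of k)))
    (hσ : BlowUp.IsBlowUp σ (Scheme.IdealSheafData.vanishingIdeal ⟨Set.range P, hZ⟩))
    [IsIntegral X] [IsProper (X ↘ (Spec (CommRingCat.of k)))] [Smooth (X ↘ (Spec (CommRingCat.of k)))] (hdim : topologicalKrullDim X = 2)
    [HasInjectiveResolutions X.Modules] (j : Fin r)
    (π : X ⟶ CohB1.ProjSpace 1 k) (hπk : π ≫ CohB1.ProjSpace.toSpec 1 k = X ↘ (Spec (CommRingCat.of k)))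
    (hπ : Nonempty (((Scheme.Modules.pullback π).obj (Twist.twistProjSpace 1 k 1)) ≅ CohB1.tensorMod ((Scheme.Modules.pullback σ).obj (Twist.twistProjSpace 2 k 1)) (ClSub.idealMod ((Scheme.IdealSheafData.vanishingIdeal ⟨{P j}, hPc j⟩).comap σ))))
    (E : X.IdealSheafData) (hEi : IsIntegral E.subscheme) (hE1 : topologicalKrullDim (E.support : Set X) = 1)
    (hEg : Subsingleton (Coh.HH E.subscheme (Coh.structureModule E.subscheme) 1))
    (hEE : FGA.intNum k X 2 ![ClSub.idealMod E, ClSub.idealMod E] (Coh.structureModule X) = -1) (N : X.Modules) (hN : ClSub.IsInverseOf N (ClSub.idealMod E))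
    (R : ℕ) (hR : (R : ℤ) = (Curv2.euler k X (CohB1.tensorMod (ClSub.quotMod E) ((Scheme.Modules.pullback π).obj (Twist.twistProjSpace 1 k 1))) - Curv2.euler k X (ClSub.quotMod E))) :
    Nonempty ((Coh.push π).obj N ≅ (∐ fun _ : Fin R => Twist.twistProjSpace 1 k (-1)) ⨿ Coh.structureModule (CohB1.ProjSpace 1 k)) ∧
      (R = 0 → Nonempty ((Coh.push π).obj (ClSub.idealMod E) ≅ Twist.twistProjSpace 1 k (-1))) ∧
      (0 < R → IsZero ((Coh.push π).obj (ClSub.idealMod E))) :=
  K461.PencilF.main_push k hP hPc hZ σ hσk hσ hdim j π hπk hπ E hEi hE1 hEg hEE N hN R hR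

end Groth.Agent.S16568
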