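import Groth.Statements.S16572
import Groth.Agent.CAlg.K90.RootsAll

set_option autoImplicit false
universe u
open CAlg

namespace Groth.Agent.S16572

section

variable (A : Type u) [CommRing A]

/-- the index type -/
abbrev Idx := {P : Polynomial A // P.Monic ∧ 0 < P.natDegree}

/-- the ideal of relations -/
noncomputable abbrev rel : Ideal (MvPolynomial (Idx A) A) :=
  Ideal.span (Set.range fun P : Idx A => Polynomial.aeval (MvPolynomial.X (R := A) P) P.1)

/-- the ring with all roots -/
abbrev TT : Type u := MvPolynomial (Idx A) A ⧸ rel A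

theorem root (P : Idx A) :
    Polynomial.aeval (Ideal.Quotient.mk (rel A) (MvPolynomial.X P)) P.1 = 0 := by
  have h : Polynomial.aeval (Ideal.Quotient.mkₐ A (rel A) (MvPolynomial.X (R := A) P)) P.1 =
      Ideal.Quotient.mkₐ A (rel A) (Polynomial.aeval (MvPolynomial.X (R := A) P) P.1) :=
    Polynomial.aeval_algHom_apply _ _ _
  exact h.trans (Ideal.Quotient.eq_zero_iff_mem.mpr (Ideal.subset_span ⟨P, rfl⟩))

theorem isIntegral (t : TT A) : IsIntegral A t := by
  obtain ⟨f, rfl⟩ := Ideal.Quotient.mk_surjective t
  induction f using MvPolynomial.induction_on with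
  | C a => exact isIntegral_algebraMap (R := A) (A := TT A) (x := a)
  | add f g hf hg => rw [map_add]; exact hf.add hg
  | mul_X f P hf =>
    rw [map_mul]
    exact hf.mul ⟨P.1, P.2.1, root A P⟩

theorem surj : Function.Surjective (PrimeSpectrum.comap (algebraMap A (TT A))) := by
  intro p
  let K := AlgebraicClosure p.asIdeal.ResidueField
  have hx : ∀ P : Idx A, ∃ x : K, Polynomial.aeval x P.1 = 0 := by
    intro P
    have hdeg : (P.1.map (algebraMap A K)).degree ≠ 0 := by
      rw [P.2.1.degree_map]
      intro h
      have h2 := P.2.2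
      rw [Polynomial.natDegree_pos_iff_degree_pos, h] at h2
      exact lt_irrefl _ h2
    obtain ⟨x, hx⟩ := IsAlgClosed.exists_root _ hdeg
    refine ⟨x, ?_⟩
    rw [Polynomial.IsRoot.def, Polynomial.eval_map] at hx
    exact hx
  choose x hx using hx
  let φ : MvPolynomial (Idx A) A →ₐ[A] K := MvPolynomial.aeval x
  have hφ : ∀ a ∈ rel A, φ a = 0 := by
    have : rel A ≤ RingHom.ker φ := by
      rw [Ideal.span_le]
      rintro _ ⟨P, rfl⟩
      change φ _ = 0
      rw [← Polynomial.aeval_algHom_apply]
      have h1 : φ (MvPolynomial.X P) = x P := MvPolynomial.aeval_X _ _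
      rw [h1]
      exact hx P
    exact fun a ha => this ha
  let ψ : TT A →ₐ[A] K := Ideal.Quotient.liftₐ (rel A) φ hφ
  refine ⟨⟨RingHom.ker ψ, RingHom.ker_isPrime _⟩, ?_⟩
  ext a
  change ψ (algebraMap A (TT A) a) = 0 ↔ a ∈ p.asIdeal
  rw [AlgHom.commutes, IsScalarTower.algebraMap_apply A p.asIdeal.ResidueField K, map_eq_zero,
    Ideal.algebraMap_residueField_eq_zero]

end

/-- Let A be a commutative ring and T the quotient of the polynomial ring over A in indeterminates X_P,
one for each monic polynomial P over A of positive degree, by the ideal generated by the elements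
P(X_P). Then the map on prime spectra Spec T → Spec A is surjective, and for every prime ideal Q of
T, with p its contraction to A, the residue field of Q is algebraically closed and integral over the
residue field of p under the induced map of residue fields (so it is an algebraic closure of it). -/
theorem result (A : Type u) [CommRing A] :
    Function.Surjective (PrimeSpectrum.comap (algebraMap A (MvPolynomial {P : Polynomial A // P.Monic ∧ 0 < P.natDegree} A ⧸
      Ideal.span (Set.range fun P : {P : Polynomial A // P.Monic ∧ 0 < P.natDegree} =>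
        Polynomial.aeval (MvPolynomial.X (R := A) P) P.1)))) ∧
    ∀ (Q : Ideal (MvPolynomial {P : Polynomial A // P.Monic ∧ 0 < P.natDegree} A ⧸
      Ideal.span (Set.range fun P : {P : Polynomial A // P.Monic ∧ 0 < P.natDegree} =>
        Polynomial.aeval (MvPolynomial.X (R := A) P) P.1))) [Q.IsPrime],
      IsAlgClosed Q.ResidueField ∧
      (Ideal.ResidueField.map (Q.comap (algebraMap A (MvPolynomial {P : Polynomial A // P.Monic ∧ 0 < P.natDegree} A ⧸
      Ideal.span (Set.range fun P : {P : Polynomial A // P.Monic ∧ 0 < P.natDegree} =>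
        Polynomial.aeval (MvPolynomial.X (R := A) P) P.1)))) Q (algebraMap A (MvPolynomial {P : Polynomial A // P.Monic ∧ 0 < P.natDegree} A ⧸
      Ideal.span (Set.range fun P : {P : Polynomial A // P.Monic ∧ 0 < P.natDegree} =>
        Polynomial.aeval (MvPolynomial.X (R := A) P) P.1))) rfl).IsIntegral := by
  refine ⟨surj A, fun Q _ => ⟨?_, ?_⟩⟩
  · exact K90.RootsAll.isAlgClosed (A := A) (isIntegral A)
      (fun P hP hdeg => ⟨_, root A ⟨P, hP, hdeg⟩⟩) Q
  · exact K90.RootsAll.isIntegral_map (A := A) (isIntegral A) Q

end Groth.Agent.S16572
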