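import Groth.Statements.S9304
import Groth.Agent.S2125
import Groth.Agent.S0539
import Groth.Agent.Hensel.Exist
import Groth.Agent.Hensel.EtaleNbhd

set_option autoImplicit false
universe u
open CAlg

namespace Groth.Agent.S9304

open TensorProduct

open TensorProduct in
/-- Let A be a local ring with finitely many minimal primes, A' the integral closure of A_red in its
total ring of fractions and A^sh a strict henselization of A. Then contraction along A^sh → A' ⊗_A
A^sh is a bijection from the minimal primes of A' ⊗_A A^sh onto the minimal primes of A^sh. -/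
theorem result {A Ash : Type u} [CommRing A]
    [IsLocalRing A] (hfin : (minimalPrimes A).Finite) [CommRing Ash] [IsLocalRing Ash] [Algebra A Ash]
    [IsLocalHom (algebraMap A Ash)] [Hensel.IsStrictHenselization A Ash] :
    Set.BijOn (fun P : Ideal ((CAlg2.normRed A) ⊗[A] Ash) =>
        P.comap (Algebra.TensorProduct.includeRight.toRingHom :
          Ash →+* (CAlg2.normRed A) ⊗[A] Ash))
      (minimalPrimes ((CAlg2.normRed A) ⊗[A] Ash))
      (minimalPrimes Ash) := by
  have hff : Module.FaithfullyFlat A Ash := Groth.Agent.S0539.result A Ash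
  have hcov := (Groth.Agent.Hensel.Exist.isHull_of_isStrictHenselization A Ash).exists_etale_finset
  have hmap : ∀ r : A, algebraMap A (CAlg2.normRed A) r =
      algebraMap (CAlg2.red A) (CAlg2.normRed A) (Ideal.Quotient.mk (nilradical A) r) := fun r => rfl
  have hnt : Nontrivial (CAlg2.red A) := by
    refine Ideal.Quotient.nontrivial_iff.2 ?_
    intro h
    have h1 : (1 : A) ∈ nilradical A := h ▸ Submodule.mem_top
    obtain ⟨n, hn⟩ := h1
    rw [one_pow] at hn
    exact one_ne_zero hn
  have hint : Algebra.IsIntegral A (CAlg2.normRed A) := by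
    constructor
    intro a
    have h1 : IsIntegral (CAlg2.red A) a := Algebra.IsIntegral.isIntegral a
    obtain ⟨f, hf, hfa⟩ := h1
    have hfl : f ∈ Polynomial.lifts (Ideal.Quotient.mk (nilradical A)) := by
      obtain ⟨g, hg⟩ := Polynomial.map_surjective (Ideal.Quotient.mk (nilradical A)) Ideal.Quotient.mk_surjective f
      exact ⟨g, hg⟩
    obtain ⟨g, hg, -, hgm⟩ := Polynomial.lifts_and_degree_eq_and_monic hfl hf
    refine ⟨g, hgm, ?_⟩
    rw [← hg, Polynomial.eval₂_map] at hfa
    exact hfa
  have hinj : Function.Injective (algebraMap (CAlg2.red A) (CAlg2.normRed A)) := by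
    have h1 : Function.Injective (algebraMap (CAlg2.red A) (FractionRing (CAlg2.red A))) :=
      IsFractionRing.injective _ _
    exact Function.Injective.of_comp (f := ((↑) : CAlg2.normRed A → FractionRing (CAlg2.red A))) h1
  refine Groth.Agent.S2125.bijOn_of (fun P Q _ _ hle h => Groth.Agent.Hensel.EtaleNbhd.eq_of_le_of_comap_eq hcov P Q hle h)
    ((nonZeroDivisors (CAlg2.red A)).comap (Ideal.Quotient.mk (nilradical A)).toMonoidHom) ?_ ?_ ?_ ?_
  · intro s hs
    rw [hmap, mem_nonZeroDivisors_iff_right]
    intro x hx
    have h1 : IsUnit (algebraMap (CAlg2.red A) (FractionRing (CAlg2.red A)) (Ideal.Quotient.mk (nilradical A) s)) :=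
      IsLocalization.map_units (M := nonZeroDivisors (CAlg2.red A)) (FractionRing (CAlg2.red A))
        ⟨Ideal.Quotient.mk (nilradical A) s, hs⟩
    have h2 : (x : FractionRing (CAlg2.red A)) *
        algebraMap (CAlg2.red A) (FractionRing (CAlg2.red A)) (Ideal.Quotient.mk (nilradical A) s) = 0 :=
      congrArg (fun y : CAlg2.normRed A => (y : FractionRing (CAlg2.red A))) hx
    exact Subtype.ext ((h1.mul_left_eq_zero).1 h2)
  · intro p hp h
    exact Groth.Agent.S2125.mem_minimalPrimes_of_forall_notMem hfin p h
  · intro a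
    obtain ⟨⟨r, s⟩, h⟩ := IsLocalization.surj (nonZeroDivisors (CAlg2.red A)) (a : FractionRing (CAlg2.red A))
    obtain ⟨r', hr'⟩ := Ideal.Quotient.mk_surjective r
    obtain ⟨s', hs'⟩ := Ideal.Quotient.mk_surjective (s : CAlg2.red A)
    refine ⟨s', ?_, r', ?_⟩
    · have h1 : Ideal.Quotient.mk (nilradical A) s' ∈ nonZeroDivisors (CAlg2.red A) := by
        rw [hs']; exact s.2
      exact h1
    · rw [hmap, hmap, hs', hr', mul_comm]
      exact Subtype.ext h
  · intro x hx
    have h1 : ((1 : CAlg2.normRed A) ⊗ₜ[A] x : (CAlg2.normRed A) ⊗[A] Ash) = 0 := hx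
    let i : CAlg2.red A →ₗ[A] CAlg2.normRed A :=
      (Algebra.linearMap (CAlg2.red A) (CAlg2.normRed A)).restrictScalars A
    have h2 : Function.Injective (LinearMap.rTensor Ash i) :=
      Module.Flat.rTensor_preserves_injective_linearMap i hinj
    have h3 : ((1 : CAlg2.red A) ⊗ₜ[A] x : (CAlg2.red A) ⊗[A] Ash) = 0 := by
      apply h2
      rw [map_zero, LinearMap.rTensor_tmul]
      have : i 1 = 1 := map_one (algebraMap (CAlg2.red A) (CAlg2.normRed A))
      rw [this, h1]
    have h4 := congrArg (TensorProduct.quotTensorEquivQuotSMul Ash (nilradical A)) h3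
    rw [map_zero] at h4
    have h5 : (Submodule.Quotient.mk x : Ash ⧸ (nilradical A • (⊤ : Submodule A Ash))) = 0 := by
      rw [← h4]
      have := TensorProduct.quotTensorEquivQuotSMul_mk_tmul (nilradical A) (1 : A) x
      rw [one_smul] at this
      exact this.symm
    rw [Submodule.Quotient.mk_eq_zero] at h5
    have h6 : (nilradical A • (⊤ : Submodule A Ash)) ≤ (nilradical Ash).restrictScalars A := by
      rw [Submodule.smul_le]
      intro r hr y _
      rw [Algebra.smul_def]
      exact Ideal.mul_mem_right _ _ (by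
        change IsNilpotent _
        exact IsNilpotent.map (show IsNilpotent r from hr) (algebraMap A Ash))
    exact h6 h5

end Groth.Agent.S9304
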