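import Groth.Statements.S16575
import Groth.Agent.CAlg.K90.C2Norm
import Groth.Agent.S2125
import Groth.Agent.S9304
import Groth.Agent.S9305
import Groth.Agent.S0507
import Groth.Agent.S0509
import Groth.Agent.S0511
import Groth.Agent.S0538
import Groth.Agent.S0539
import Groth.Agent.S0540

set_option autoImplicit false
universe u
open CAlg

namespace Groth.Agent.S16575

/-- Let A be a Noetherian local ring, S a henselization of A, S' a strict henselization of A, A' the
integral closure of the reduction of A in its total ring of fractions, and Â the completion of A at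
its maximal ideal. The following are equivalent: (i) for every maximal ideal m' of A' the local ring
of A' at m' has Krull dimension at least 2; (ii) every irreducible component of Spec S has dimension
at least 2; (ii bis) every irreducible component of Spec S' has dimension at least 2; (iii) every
irreducible component of Spec Â has dimension at least 2. (A closed subscheme Z of a Noetherian
scheme X is called c_2 when these hold at the local ring of every point of Z; condition (i) at all
points of Z says that the preimage of Z in the normalization has codimension at least 2.) -/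
theorem result
    (A : Type u) [CommRing A] [IsNoetherianRing A] [IsLocalRing A]
    (S : Type u) [CommRing S] [IsLocalRing S] [Algebra A S] [IsLocalHom (algebraMap A S)]
    [Hensel.IsHenselization A S]
    (S' : Type u) [CommRing S'] [IsLocalRing S'] [Algebra A S'] [IsLocalHom (algebraMap A S')]
    [Hensel.IsStrictHenselization A S'] :
    List.TFAE [
      ∀ m' : MaximalSpectrum (CAlg2.normRed A), (2 : WithBot ℕ∞) ≤ ringKrullDim (Localization.AtPrime m'.asIdeal),
      ∀ p ∈ minimalPrimes S, (2 : WithBot ℕ∞) ≤ ringKrullDim (S ⧸ p),
      ∀ p ∈ minimalPrimes S', (2 : WithBot ℕ∞) ≤ ringKrullDim (S' ⧸ p),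
      ∀ q ∈ minimalPrimes (AdicCompletion (IsLocalRing.maximalIdeal A) A), (2 : WithBot ℕ∞) ≤ ringKrullDim (AdicCompletion (IsLocalRing.maximalIdeal A) A ⧸ q)] := by
  have hfin : (minimalPrimes A).Finite := minimalPrimes.finite_of_isNoetherianRing A
  have hNint : Algebra.IsIntegral A (CAlg2.normRed A) := by
    constructor
    intro a
    obtain ⟨f, hf, hfa⟩ : IsIntegral (CAlg2.red A) a := Algebra.IsIntegral.isIntegral a
    have hfl : f ∈ Polynomial.lifts (Ideal.Quotient.mk (nilradical A)) := by
      obtain ⟨g, hg⟩ := Polynomial.map_surjective (Ideal.Quotient.mk (nilradical A))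
        Ideal.Quotient.mk_surjective f
      exact ⟨g, hg⟩
    obtain ⟨g, hg, -, hgm⟩ := Polynomial.lifts_and_degree_eq_and_monic hfl hf
    refine ⟨g, hgm, ?_⟩
    rw [← hg, Polynomial.eval₂_map] at hfa
    exact hfa
  have hnorm := K71.NormRed.isNormalRing_normRed hfin
  -- henselization
  have hS : HenselianLocalRing S := Hensel.IsHenselization.henselian A
  have hffS : Module.FaithfullyFlat A S := Groth.Agent.S0509.result A S
  have hNS : IsNoetherianRing S := (Groth.Agent.S0511.result A S).mp inferInstance
  have hcoreS := Groth.Agent.S9305.core hS hnorm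
    (Groth.Agent.Hensel.HenselPerm.lazardEtale_of_isHenselization A S)
  have h12 := K90.C2Norm.main (A := A) (A' := CAlg2.normRed A) (S := S)
    (Groth.Agent.Hensel.Exist.isHull_of_isHenselization A S).exists_etale_finset
    (Groth.Agent.S2125.result hfin) hcoreS.1 hcoreS.2
  have h24 := K90.C2Cpl.iff_cpl (A := A) (S := S) (Groth.Agent.S0507.result A S)
  -- strict henselization
  have hS' : HenselianLocalRing S' := Hensel.IsStrictHenselization.henselian A
  have hffS' : Module.FaithfullyFlat A S' := Groth.Agent.S0539.result A S'
  have hNS' : IsNoetherianRing S' := (Groth.Agent.S0540.result A S').mp inferInstance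
  have h34 := K90.C2Cpl.iff_cpl (A := A) (S := S') (Groth.Agent.S0538.result A S')
  tfae_have 1 ↔ 2 := h12
  tfae_have 2 ↔ 4 := h24
  tfae_have 3 ↔ 4 := h34
  tfae_finish

end Groth.Agent.S16575
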