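import Groth.Statements.S16577
import Groth.Agent.Hensel.EtaleNbhd
import Groth.Agent.Hensel.Lazard

set_option autoImplicit false
universe u
open Hensel

namespace Groth.Agent.S16577

/-- Let A be a Noetherian local ring with a strict henselization S', and p a prime ideal of A. Call p an
immediate étale generization of the closed point when the strict henselization S'/pS' of A/p has an
irreducible component of dimension 1, that is, some minimal prime P over pS' has dim S'/P = 1. Then
p is an immediate étale generization of the closed point if and only if p is the contraction of some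
prime ideal P of S' with dim S'/P = 1. -/
theorem result
    (A : Type u) [CommRing A] [IsNoetherianRing A] [IsLocalRing A]
    (S' : Type u) [CommRing S'] [IsLocalRing S'] [Algebra A S'] [IsLocalHom (algebraMap A S')]
    [Hensel.IsStrictHenselization A S']
    (p : Ideal A) [p.IsPrime] :
    (∃ P ∈ (p.map (algebraMap A S')).minimalPrimes, ringKrullDim (S' ⧸ P) = 1) ↔
    (∃ P : Ideal S', P.IsPrime ∧ P.comap (algebraMap A S') = p ∧ ringKrullDim (S' ⧸ P) = 1) := by
  have hcov : Groth.Agent.Hensel.EtaleNbhd.IsEtaleCovered A S' :=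
    Groth.Agent.Hensel.Lazard.exists_etale_of_isStrictHenselization A S'
  have hff : Module.FaithfullyFlat A S' :=
    Groth.Agent.Hensel.Lazard.faithfullyFlat_of_isStrictHenselization A S'
  have key : ∀ P ∈ (p.map (algebraMap A S')).minimalPrimes, P.comap (algebraMap A S') = p := by
    intro P hP
    have hPp : P.IsPrime := hP.1.1
    have hle : p ≤ P.comap (algebraMap A S') := Ideal.map_le_iff_le_comap.1 hP.1.2
    by_contra hne
    have hlt : p < P.under A := lt_of_le_of_ne hle (Ne.symm hne)
    obtain ⟨P', hP'lt, hP'p, hP'o⟩ := Ideal.exists_ideal_lt_liesOver_of_lt P hlt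
    have h1 : p.map (algebraMap A S') ≤ P' := by
      rw [Ideal.map_le_iff_le_comap]
      exact hP'o.over.le
    exact absurd (hP.2 ⟨hP'p, h1⟩ hP'lt.le) (not_le_of_gt hP'lt)
  constructor
  · rintro ⟨P, hP, hdim⟩
    exact ⟨P, hP.1.1, key P hP, hdim⟩
  · rintro ⟨P, hP, hc, hdim⟩
    have hle : p.map (algebraMap A S') ≤ P := Ideal.map_le_iff_le_comap.2 hc.ge
    obtain ⟨P0, hP0, hP0le⟩ := Ideal.exists_minimalPrimes_le hle
    have hP0p : P0.IsPrime := hP0.1.1
    have h := Groth.Agent.Hensel.EtaleNbhd.eq_of_le_of_comap_eq hcov P0 P hP0le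
      ((key P0 hP0).trans hc.symm)
    subst h
    exact ⟨P0, hP0, hdim⟩

end Groth.Agent.S16577
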