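import Groth.Statements.S16580
import Groth.Agent.Hensel.K141.Chain

set_option autoImplicit false
universe u
open CategoryTheory AlgebraicGeometry
open FEt

namespace Groth.Agent.S16580

/-- The case of the ind-finite stack of finite étale covers. Let (A, I) be a henselian pair with I
finitely generated (A not necessarily Noetherian), Â the I-adic completion of A, π : Spec Â → Spec A
the completion morphism, U a quasi-compact open subscheme of Spec A containing the complement of
V(I), and Û = π⁻¹(U). Then base change along Û → U is an equivalence of categories from finite étale
schemes over U to finite étale schemes over Û. -/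
theorem result
    (A : Type u) [CommRing A] (I : Ideal A) (hI : I.FG) [HenselianRing A I]
    (U : (Spec (CommRingCat.of A)).Opens) (hU : IsCompact (U : Set (Spec (CommRingCat.of A))))
    (hUI : ∀ x : Spec (CommRingCat.of A), x ∉ U → I ≤ x.asIdeal) :
    (FEt.restrict ((Spec.map (CommRingCat.ofHom (algebraMap A (AdicCompletion I A)))) ∣_ U)).IsEquivalence := by
  exact K141.FEq.completion A I hI U hU hUI _ (K730.CP.of_adicCompletion I hI)

end Groth.Agent.S16580
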