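import Groth.Statements.S16584
import Groth.Agent.EtCoh.K215.Final
import Groth.Agent.Sga4B.PurityMainB

set_option autoImplicit false
universe u
open CategoryTheory CategoryTheory.Limits MonoidalCategory CartesianMonoidalCategory MonObj GrpObj AlgebraicGeometry
open EtCoh

namespace Groth.Agent.S16584

/-- Let R be a strictly Henselian local ring, let d > 0 be invertible in R, and let G be a commutative
finite étale R((t))-group scheme whose underlying scheme splits into n copies of the base after the
substitution t ↦ t^d, with n invertible in R. Then the fppf cohomology groups H^i(R((t)), G) of the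
sheaf of points of G on the big fppf site vanish for all i ≥ 2. (The published statement is for a
commutative finite étale G of order invertible in R that becomes constant over some finite étale
cover of R((t)) tamely ramified relative to R; the covers t ↦ t^d with d invertible in R are cofinal
among those, and a finite étale group with split underlying scheme over the connected base
R((t^{1/d})) is constant, so the hypothesis here describes the same class of groups. The
accompanying identification of the cohomology of G over R((t)) with that over k((t)), k the residue
field, in all degrees is not part of this row.) -/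
theorem result (R : Type u) [CommRing R]
    [HenselianLocalRing R] [IsSepClosed (IsLocalRing.ResidueField R)]
    (d : ℕ) (hd : 0 < d) (hdu : IsUnit (d : R))
    (hinj : Function.Injective (AddMonoidHom.mulLeft (d : ℤ)))
    (hmono : ∀ g g' : ℤ, AddMonoidHom.mulLeft (d : ℤ) g ≤ AddMonoidHom.mulLeft (d : ℤ) g' ↔ g ≤ g')
    (G : Over (Spec (CommRingCat.of (LaurentSeries R)))) [GrpObj G] [IsCommMonObj G]
    [IsFinite G.hom] [Etale G.hom]
    (hsplit : ∃ (n : ℕ) (e : pullback G.hom (Spec.map (CommRingCat.ofHom
        (HahnSeries.embDomainRingHom (R := R) (AddMonoidHom.mulLeft (d : ℤ)) hinj hmono))) ≅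
        (∐ fun _ : Fin n => Spec (CommRingCat.of (LaurentSeries R)))),
      IsUnit (n : R) ∧
      e.hom ≫ Sigma.desc (fun _ : Fin n => 𝟙 (Spec (CommRingCat.of (LaurentSeries R)))) =
        pullback.snd G.hom (Spec.map (CommRingCat.ofHom
        (HahnSeries.embDomainRingHom (R := R) (AddMonoidHom.mulLeft (d : ℤ)) hinj hmono))))
    (i : ℕ) (hi : 2 ≤ i) :
    Subsingleton
      (BigSite.H Scheme.fppfPrecoverage (Spec (CommRingCat.of (LaurentSeries R)))
        (CGrpSh.pts Scheme.fppfPrecoverage G) i) := by
  obtain ⟨n, e, hn, he⟩ := hsplit
  exact Groth.Agent.EtCoh.K215.Final.final Groth.Agent.Sga4B.PurityMainB.stmtLine R d hd hdu G n hn e he i hi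

end Groth.Agent.S16584
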