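import Groth.Statements.S16590
import Groth.Agent.Red.K216.LG

set_option autoImplicit false
open CategoryTheory MonoidalCategory CartesianMonoidalCategory MonObj GrpObj AlgebraicGeometry
universe u
open Red

namespace Groth.Agent.S16590

/-- Let R be an LG-ring and G a reductive group scheme over S = Spec R. Then G admits a maximal torus
over S: there is a subgroup scheme T of G which is a torus and whose geometric fibres are maximal
tori of the geometric fibres of G. (This extends the semilocal case.) -/
theorem result {R : Type u} [CommRing R] (hR : LGRing.IsLGRing R)
    (G : Over (Spec (CommRingCat.of R))) [GrpObj G] (hG : Red.IsReductive G) :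
    ∃ (T : Over (Spec (CommRingCat.of R))) (_ : GrpObj T) (t : T ⟶ G), Red.IsMaximalTorus t := by
  obtain ⟨T, hT, t, ht, -⟩ := K216.LG.exists_maximalTorus hR hG
  exact ⟨T, hT, t, ht⟩

end Groth.Agent.S16590
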