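import Groth.Statements.S16591
import Groth.Agent.S2997
import Groth.Agent.Sga3B.MT.Levi

set_option autoImplicit false
open CategoryTheory MonoidalCategory CartesianMonoidalCategory MonObj GrpObj AlgebraicGeometry
universe u
open Par

namespace Groth.Agent.S16591

/-- Let R be a commutative ring over which every reductive group scheme admits a maximal torus (for
instance an LG-ring), G a reductive group scheme over S = Spec R and P a parabolic subgroup of G.
Then there is a maximal torus of G contained in P. -/
theorem result {R : Type u} [CommRing R]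
    (hR : ∀ (H : Over (Spec (CommRingCat.of R))) [GrpObj H], Red.IsReductive H →
      ∃ (T : Over (Spec (CommRingCat.of R))) (_ : GrpObj T) (t : T ⟶ H), Red.IsMaximalTorus t)
    (G P : Over (Spec (CommRingCat.of R))) [GrpObj G] [GrpObj P] (hG : Red.IsReductive G) (p : P ⟶ G)
    (hp : Red.IsParabolic p) :
    ∃ (T : Over (Spec (CommRingCat.of R))) (_ : GrpObj T) (t : T ⟶ P), IsMonHom t ∧ Red.IsMaximalTorus (t ≫ p) := by
  obtain ⟨L, _, l, hl⟩ := S2997.result G P hG p hp
  obtain ⟨T, hT, t, ht⟩ := hR L hl.2.2.1
  have h1 := ht.1
  have h2 := hl.1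
  refine ⟨T, hT, t ≫ l, inferInstance, ?_⟩
  rw [Category.assoc]
  exact Sga3B.MT.Levi.isMaximalTorus_comp_levi hG p hp l hl t ht

end Groth.Agent.S16591
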