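import Groth.Statements.S16592
import Groth.Agent.RedSub.K200.LGConj
import Groth.Agent.RedSub.H663.KeyInf

set_option autoImplicit false
open CategoryTheory MonoidalCategory CartesianMonoidalCategory MonObj GrpObj AlgebraicGeometry
universe u
open RedSub

namespace Groth.Agent.S16592

/-- Let R be an LG-ring, S = Spec R, G a reductive S-group, P and P' two opposite parabolic subgroups of
G (their intersection L is a Levi subgroup of both) with unipotent radicals U and U', and Q a
parabolic subgroup of G of the same type as P, that is, whose geometric fibre at every point of S is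
conjugate to that of P. Then there are sections u ∈ U(S) and u' ∈ U'(S) with Q = int(u u') P. (This
extends the semilocal case.) -/
theorem result {A : Type u} [CommRing A] (hA : LGRing.IsLGRing A)
    {G P P' U U' L Q : Over (Spec (CommRingCat.of A))} [GrpObj G] [GrpObj P] [GrpObj P'] [GrpObj U] [GrpObj U']
    [GrpObj L] [GrpObj Q] (hG : Red.IsReductive G) (p : P ⟶ G) (p' : P' ⟶ G) (q : Q ⟶ G) (hP : Red.IsParabolic p)
    (hP' : Red.IsParabolic p') (hQ : Red.IsParabolic q) (l : L ⟶ P) (l' : L ⟶ P') [IsMonHom l] [IsMonHom l']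
    (hL : IsPullback l l' p p') (hl : Par.IsLevi l) (hl' : Par.IsLevi l') (uU : U ⟶ P) (hU : Par.IsUnipotentRadical uU)
    (uU' : U' ⟶ P') (hU' : Par.IsUnipotentRadical uU')
    (hconj : ∀ s : Spec (CommRingCat.of A), ∃ g : 𝟙_ _ ⟶ Red.geomFibre s G,
      RedSub.ConjEq ((Over.pullback (Red.geomPt s)).map p) ((Over.pullback (Red.geomPt s)).map q) g) :
    ∃ (u : 𝟙_ _ ⟶ U) (u' : 𝟙_ _ ⟶ U') (e : P ≅ Q),
      e.hom ≫ q = (toUnit P ≫ ((u ≫ uU ≫ p) * (u' ≫ uU' ≫ p'))) * p * (toUnit P ≫ ((u ≫ uU ≫ p) * (u' ≫ uU' ≫ p')))⁻¹ := by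
  obtain ⟨lam, hlam, h1, -, h2, -, h3⟩ :=
    Groth.Agent.RedSub.H663.DynPair.exists_pair hG p p' hP hP' l l' hL hl uU hU uU' hU'
  exact Groth.Agent.RedSub.K200.LGConj.main hA
    (fun s _ => Groth.Agent.RedSub.H663.KeyInf.keyQ _) lam hG p q h1 hP hQ (uU ≫ p) h2 (uU' ≫ p') h3
    hconj

end Groth.Agent.S16592
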