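import Groth.Statements.S16593
import Groth.Agent.RedSub.K200.LGDec
import Groth.Agent.RedSub.H663.DynPair
import Groth.Agent.RedSub.H662.KeyAt

set_option autoImplicit false
open CategoryTheory MonoidalCategory CartesianMonoidalCategory MonObj GrpObj AlgebraicGeometry
universe u
open RedSub

namespace Groth.Agent.S16593

/-- Let R be an LG-ring, S = Spec R, G a reductive S-group and P, P' two opposite parabolic subgroups of
G (their intersection L is a Levi subgroup of both) with unipotent radicals U and U'. Then G(S) =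
U(S) U'(S) P(S): every section of G over S is a product u u' x of sections of U, U' and P. -/
theorem result {A : Type u} [CommRing A]
    (hA : LGRing.IsLGRing A)
    {G P P' U U' L : Over (Spec (CommRingCat.of A))} [GrpObj G] [GrpObj P] [GrpObj P'] [GrpObj U] [GrpObj U']
    [GrpObj L] (hG : Red.IsReductive G) (p : P ⟶ G) (p' : P' ⟶ G) (hP : Red.IsParabolic p)
    (hP' : Red.IsParabolic p') (l : L ⟶ P) (l' : L ⟶ P') [IsMonHom l] [IsMonHom l']
    (hL : IsPullback l l' p p') (hl : Par.IsLevi l) (hl' : Par.IsLevi l') (uU : U ⟶ P) (hU : Par.IsUnipotentRadical uU)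
    (uU' : U' ⟶ P') (hU' : Par.IsUnipotentRadical uU') (g : 𝟙_ (Over (Spec (CommRingCat.of A))) ⟶ G) :
    ∃ (u : 𝟙_ _ ⟶ U) (u' : 𝟙_ _ ⟶ U') (x : 𝟙_ _ ⟶ P), g = (u ≫ uU ≫ p) * (u' ≫ uU' ≫ p') * (x ≫ p) := by
  obtain ⟨lam, hlam, h1, -, h2, -, h3⟩ :=
    Groth.Agent.RedSub.H663.DynPair.exists_pair hG p p' hP hP' l l' hL hl uU hU uU' hU'
  obtain ⟨a, b, x, h⟩ := Groth.Agent.RedSub.K200.LGDec.main hA
    (fun k _ => Groth.Agent.RedSub.H662.KeyAt.keyAt k) hG lam p (uU ≫ p) (uU' ≫ p') h1 h2 h3 g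
  exact ⟨a, b, x, h⟩

end Groth.Agent.S16593
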