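import Groth.Statements.S16594
import Groth.Agent.RedSub.K200.LGTrans
import Groth.Agent.RedSub.H663.D5All

set_option autoImplicit false
open CategoryTheory MonoidalCategory CartesianMonoidalCategory MonObj GrpObj AlgebraicGeometry
universe u
open RedSub

namespace Groth.Agent.S16594

/-- Let R be an LG-ring, S = Spec R, G a reductive S-group and P, P', Q three parabolic subgroups of G.
Then there is a section g ∈ G(S) such that int(g)Q is in transversal (general) position relative to
P and to P': the multiplication morphisms P ×_S int(g)Q ⟶ G and P' ×_S int(g)Q ⟶ G are smooth. (This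
extends the semilocal case.) -/
theorem result {A : Type u} [CommRing A]
    (hA : LGRing.IsLGRing A) {G P P' Q : Over (Spec (CommRingCat.of A))} [GrpObj G] [GrpObj P]
    [GrpObj P'] [GrpObj Q] (hG : Red.IsReductive G) (p : P ⟶ G) (p' : P' ⟶ G) (q : Q ⟶ G) (hP : Red.IsParabolic p)
    (hP' : Red.IsParabolic p') (hQ : Red.IsParabolic q) :
    ∃ g : 𝟙_ _ ⟶ G,
      Smooth ((p ⊗ₘ ((toUnit Q ≫ g) * q * (toUnit Q ≫ g)⁻¹)) ≫ μ[G]).left ∧
      Smooth ((p' ⊗ₘ ((toUnit Q ≫ g) * q * (toUnit Q ≫ g)⁻¹)) ≫ μ[G]).left := by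
  exact Groth.Agent.RedSub.K200.LGTrans.main
    (fun k _ _ => Groth.Agent.RedSub.H663.D5All.d5All_finite k)
    (fun K _ _ => Groth.Agent.RedSub.H663.D5All.d5All_algClosed K) hA hG p p' q hP hP' hQ

end Groth.Agent.S16594
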