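import Groth.Statements.S16596
import Groth.Agent.S16595
-- import your own Groth.Agent.* helpers here

set_option autoImplicit false
open CategoryTheory MonoidalCategory CartesianMonoidalCategory MonObj GrpObj AlgebraicGeometry
universe u
open Par
open Groth.Agent.RedSub.H664

namespace Groth.Agent.S16596

/-- Let R be an LG-ring with S = Spec R connected, G a reductive S-group and P, Q two minimal parabolic
subgroups of G (every parabolic subgroup of G contained in P, resp. Q, is all of it). Then P and Q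
are conjugate under G(S): there is g ∈ G(S) with int(g)P = Q. -/
theorem result {A : Type u} [CommRing A] (hA : LGRing.IsLGRing A)
    [ConnectedSpace ↥(Spec (CommRingCat.of A))]
    {G P Q : Over (Spec (CommRingCat.of A))} [GrpObj G] [GrpObj P] [GrpObj Q] (hG : Red.IsReductive G)
    (p : P ⟶ G) (q : Q ⟶ G) (hP : Red.IsParabolic p) (hQ : Red.IsParabolic q)
    (hPmin : ∀ (P₁ : Over (Spec (CommRingCat.of A))) [GrpObj P₁] (p₁ : P₁ ⟶ G) (f : P₁ ⟶ P),
      Red.IsParabolic p₁ → f ≫ p = p₁ → IsIso f)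
    (hQmin : ∀ (Q₁ : Over (Spec (CommRingCat.of A))) [GrpObj Q₁] (q₁ : Q₁ ⟶ G) (f : Q₁ ⟶ Q),
      Red.IsParabolic q₁ → f ≫ q = q₁ → IsIso f) :
    ∃ g : 𝟙_ (Over (Spec (CommRingCat.of A))) ⟶ G, RedSub.ConjEq p q g := by
  obtain ⟨g, I, _, m, m', hm', hI, hpar⟩ := S16595.result hA hG p q hP hQ
  have hpm : IsMonHom p := hP.1
  have hqm : IsMonHom q := hQ.1
  have h1 : IsIso m' := hQmin I (m' ≫ q) m' hpar rfl
  have hw : m ≫ Ad.ad g p = m' ≫ q := hI.w
  have h2 : Red.IsParabolic (m ≫ p) := by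
    have h3 := Transp.isParabolic_ad hpar g⁻¹
    rwa [← hw, Ad.comp_ad, Ad.ad_inv_ad] at h3
  have h3 : IsIso m := hPmin I (m ≫ p) m h2 rfl
  refine ⟨g, fun X' x => ⟨fun h => ⟨h ≫ inv m ≫ m', ?_⟩, fun h' => ⟨h' ≫ inv m' ≫ m, ?_⟩⟩⟩
  · have h4 : h ≫ Ad.ad g p = (h ≫ inv m ≫ m') ≫ q := by
      rw [Category.assoc, Category.assoc, ← hw, IsIso.inv_hom_id_assoc]
    rw [← h4, Ad.comp_ad, Ad.ad, toUnit_unique x (toUnit X')]
  · have h4 : (h' ≫ inv m' ≫ m) ≫ Ad.ad g p = h' ≫ q := by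
      rw [Category.assoc, Category.assoc, hw, IsIso.inv_hom_id_assoc]
    rw [← h4, Ad.comp_ad, Ad.ad, toUnit_unique x (toUnit X')]
    group

end Groth.Agent.S16596
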