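import Groth.Statements.S16597
import Groth.Agent.LGRing.K888.Basic

set_option autoImplicit false
universe u v
open LGRing

namespace Groth.Agent.S16597

/-- Let R be an LG-ring and M a finite locally free (finitely generated projective) R-module of constant
rank. Then M is free. In particular invertible R-modules are trivial: Pic(R) = 0. -/
theorem result {R : Type u} [CommRing R] (hR : LGRing.IsLGRing R)
    (M : Type v) [AddCommGroup M] [Module R M] [Module.Finite R M] [Module.Projective R M] (d : ℕ)
    (hd : ∀ p : PrimeSpectrum R, Module.rankAtStalk M p = d) : Module.Free R M := by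
  obtain ⟨e⟩ := K888.LG.nonempty_linearEquiv_of_rankAtStalk_eq hR M (Fin d → R) (fun m hm => by
    have : Nontrivial R := by
      by_contra hcon
      rw [not_nontrivial_iff_subsingleton] at hcon
      exact hm.ne_top (Subsingleton.elim _ _)
    rw [hd, Module.rankAtStalk_eq_finrank_of_free]
    simp)
  exact Module.Free.of_equiv e.symm

end Groth.Agent.S16597
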