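import Groth.Statements.S16598
import Groth.Agent.LGRing.K888.Basic

set_option autoImplicit false
universe u v
open LGRing

namespace Groth.Agent.S16598

/-- Let R be an LG-ring and M a faithfully projective R-module (finitely generated projective and
faithful). Then M contains a unimodular element: there are m ∈ M and a linear form f on M with f(m)
= 1 (so R·m is a free direct summand of M of rank one). -/
theorem result {R : Type u} [CommRing R] (hR : LGRing.IsLGRing R)
    (M : Type v) [AddCommGroup M] [Module R M] [Module.Finite R M] [Module.Projective R M] [FaithfulSMul R M] :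
    ∃ (m : M) (f : Module.Dual R M), f m = 1 := by
  apply K888.LG.exists_unimodular_of_rankAtStalk_pos hR M
  intro m hm
  by_contra hcon
  push Not at hcon
  -- all values of linear forms lie in `m`, so `M = mM`
  obtain ⟨a, i, π, hiπ⟩ := K888.LG.exists_split (R := R) (M := M)
  have h' : ∀ x, π (i x) = x := fun x => LinearMap.congr_fun hiπ x
  have htop : (⊤ : Submodule R M) ≤ m • ⊤ := by
    intro x _
    have hx : x = ∑ r : Fin a, (i x) r • π (Pi.single r 1) := by
      conv_lhs => rw [← h' x, LinearMap.pi_apply_eq_sum_univ π (i x)]
      refine Finset.sum_congr rfl fun r _ => ?_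
      congr 2
      funext j
      rw [Pi.single_apply]
      simp only [eq_comm]
    rw [hx]
    refine Submodule.sum_mem _ fun r _ => Submodule.smul_mem_smul ?_ Submodule.mem_top
    exact hcon x (LinearMap.proj r ∘ₗ i)
  obtain ⟨r, hr1, hr2⟩ := Submodule.exists_sub_one_mem_and_smul_eq_zero_of_fg_of_le_smul m ⊤
    Module.Finite.fg_top htop
  have hr0 : r = 0 := by
    apply FaithfulSMul.eq_of_smul_eq_smul (M := R) (α := M)
    intro x
    rw [hr2 x Submodule.mem_top, zero_smul]
  apply hm.ne_top
  rw [Ideal.eq_top_iff_one]
  have := m.neg_mem hr1
  simpa [hr0] using this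

end Groth.Agent.S16598
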