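import Groth.Statements.S16599
import Groth.Agent.LGRing.K888.Points

set_option autoImplicit false
open AlgebraicGeometry
universe u
open LGRing

namespace Groth.Agent.S16599

/-- Let R be an LG-ring, n ≥ 0, and U an open quasi-compact subscheme of affine n-space Spec R[X₁, …,
Xₙ]. If U has an (R ⧸ m)-valued point over R for every maximal ideal m of R, then U has an R-valued
point: some n-tuple x over R defines a section Spec R ⟶ Spec R[X₁, …, Xₙ] with image inside U. -/
theorem result {R : Type u} [CommRing R] (hR : LGRing.IsLGRing R)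
    (n : ℕ) (U : (Spec (CommRingCat.of (MvPolynomial (Fin n) R))).Opens)
    (hU : IsCompact (U : Set ↥(Spec (CommRingCat.of (MvPolynomial (Fin n) R)))))
    (h : ∀ (m : Ideal R) [m.IsMaximal], ∃ x : Fin n → R ⧸ m,
      Set.range (Spec.map (CommRingCat.ofHom (MvPolynomial.eval₂Hom (Ideal.Quotient.mk m) x))).base ⊆
        (U : Set ↥(Spec (CommRingCat.of (MvPolynomial (Fin n) R))))) :
    ∃ x : Fin n → R, Set.range (Spec.map (CommRingCat.ofHom (MvPolynomial.eval x))).base ⊆
      (U : Set ↥(Spec (CommRingCat.of (MvPolynomial (Fin n) R)))) := by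
  obtain ⟨t, ht⟩ := PrimeSpectrum.isCompact_isOpen_iff.mp ⟨hU, U.isOpen⟩
  obtain ⟨x, hx⟩ := K888.LG.exists_point hR t (fun m hm => by
    obtain ⟨x, hx⟩ := h m
    rw [K888.LG.range_subset_iff _ t ht] at hx
    have hfield : IsField (R ⧸ m) := (Ideal.Quotient.maximal_ideal_iff_isField_quotient m).mp hm
    let := hfield.toField
    obtain ⟨f, hf, hne⟩ := (K888.LG.map_span_eq_top_iff_field t _).mp hx
    have hsurj : ∀ j : Fin n, ∃ r : R, Ideal.Quotient.mk m r = x j := fun j => Ideal.Quotient.mk_surjective _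
    choose y hy using hsurj
    refine ⟨y, f, hf, fun hmem => hne ?_⟩
    rw [← Ideal.Quotient.eq_zero_iff_mem, ← MvPolynomial.eval₂_id, MvPolynomial.hom_eval₂] at hmem
    have e : (fun i => Ideal.Quotient.mk m (y i)) = x := funext hy
    rw [e] at hmem
    exact hmem)
  exact ⟨x, (K888.LG.range_subset_iff _ t ht _).mpr hx⟩

end Groth.Agent.S16599
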