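import Groth.Statements.S16600
import Groth.Agent.LGRing.K888.Points
import Mathlib.LinearAlgebra.Dual.Lemmas

set_option autoImplicit false
open AlgebraicGeometry
universe u
open LGRing

namespace Groth.Agent.S16600

/-- Let R be an LG-ring, M a finite locally free R-module, W(M) = Spec Sym(M^∨) the vector bundle of M
(its points with values in an R-algebra R' are the R-algebra maps Sym(M^∨) → R', i.e. the R-linear
maps M^∨ → R'), and U ⊆ W(M) an open quasi-compact subscheme. Then U(R) is non-empty if and only if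
U(R ⧸ m) is non-empty for every maximal ideal m of R. -/
theorem result {R : Type u} [CommRing R]
    (hR : LGRing.IsLGRing R) (M : Type u) [AddCommGroup M] [Module R M] [Module.Finite R M] [Module.Projective R M]
    (U : (Spec (CommRingCat.of (SymmetricAlgebra R (Module.Dual R M)))).Opens)
    (hU : IsCompact (U : Set ↥(Spec (CommRingCat.of (SymmetricAlgebra R (Module.Dual R M)))))) :
    (∃ φ : Module.Dual R M →ₗ[R] R,
      Set.range (Spec.map (CommRingCat.ofHom (SymmetricAlgebra.lift φ).toRingHom)).base ⊆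
        (U : Set ↥(Spec (CommRingCat.of (SymmetricAlgebra R (Module.Dual R M)))))) ↔
    ∀ (m : Ideal R) [m.IsMaximal], ∃ φ : Module.Dual R M →ₗ[R] (R ⧸ m),
      Set.range (Spec.map (CommRingCat.ofHom (SymmetricAlgebra.lift φ).toRingHom)).base ⊆
        (U : Set ↥(Spec (CommRingCat.of (SymmetricAlgebra R (Module.Dual R M))))) := by
  obtain ⟨t, ht⟩ := PrimeSpectrum.isCompact_isOpen_iff.mp ⟨hU, U.isOpen⟩
  constructor
  · rintro ⟨φ, hφ⟩ m hm
    rw [K888.LG.range_subset_iff _ t ht] at hφ
    refine ⟨(Ideal.Quotient.mkₐ R m).toLinearMap ∘ₗ φ, ?_⟩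
    rw [K888.LG.range_subset_iff _ t ht]
    have e : (SymmetricAlgebra.lift ((Ideal.Quotient.mkₐ R m).toLinearMap ∘ₗ φ)).toRingHom =
        (Ideal.Quotient.mk m).comp (SymmetricAlgebra.lift φ).toRingHom := by
      have : SymmetricAlgebra.lift ((Ideal.Quotient.mkₐ R m).toLinearMap ∘ₗ φ) =
          (Ideal.Quotient.mkₐ R m).comp (SymmetricAlgebra.lift φ) := by
        apply SymmetricAlgebra.algHom_ext
        refine LinearMap.ext fun x => ?_
        change SymmetricAlgebra.lift ((Ideal.Quotient.mkₐ R m).toLinearMap ∘ₗ φ) (SymmetricAlgebra.ι R _ x) =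
          Ideal.Quotient.mkₐ R m (SymmetricAlgebra.lift φ (SymmetricAlgebra.ι R _ x))
        rw [SymmetricAlgebra.lift_ι_apply, SymmetricAlgebra.lift_ι_apply]
        rfl
      rw [this]
      rfl
    rw [e, ← Ideal.map_map, hφ, Ideal.map_top]
  · intro h
    obtain ⟨φ, hφ⟩ := K888.LG.exists_bundle_point hR (Module.Dual R M) t (fun m hm => by
      obtain ⟨φ, hφ⟩ := h m
      rw [K888.LG.range_subset_iff _ t ht] at hφ
      have hfield : IsField (R ⧸ m) := (Ideal.Quotient.maximal_ideal_iff_isField_quotient m).mp hm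
      let := hfield.toField
      obtain ⟨f, hf, hne⟩ := (K888.LG.map_span_eq_top_iff_field t _).mp hφ
      exact ⟨φ, f, hf, hne⟩)
    exact ⟨φ, (K888.LG.range_subset_iff _ t ht _).mpr hφ⟩

end Groth.Agent.S16600
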