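import Groth.Statements.S16601
import Groth.Agent.LGRing.K888.Points
import Mathlib.LinearAlgebra.Dual.Lemmas

set_option autoImplicit false
open AlgebraicGeometry
universe u
open LGRing

namespace Groth.Agent.S16601

/-- Let R be an LG-ring whose residue fields at maximal ideals are all infinite (R satisfies the
primitive criterion), M a finite locally free R-module with vector bundle W(M) = Spec Sym(M^∨), and
U ⊆ W(M) an open quasi-compact subscheme which is fibrewise dense over the closed points of Spec R
(for every maximal ideal m, the trace of U on the closed fibre Spec (Sym(M^∨) ⧸ m Sym(M^∨)) is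
dense). Then U has an R-valued point. (The source asks U to be R-dense in W(M); only density of the
closed fibres is used, which is what is assumed here.) -/
theorem result {R : Type u} [CommRing R]
    (hR : LGRing.IsLGRing R) (hinf : ∀ (m : Ideal R) [m.IsMaximal], Infinite (R ⧸ m))
    (M : Type u) [AddCommGroup M] [Module R M] [Module.Finite R M] [Module.Projective R M]
    (U : (Spec (CommRingCat.of (SymmetricAlgebra R (Module.Dual R M)))).Opens)
    (hU : IsCompact (U : Set ↥(Spec (CommRingCat.of (SymmetricAlgebra R (Module.Dual R M))))))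
    (hdense : ∀ (m : Ideal R) [m.IsMaximal],
      Dense ((Spec.map (CommRingCat.ofHom (Ideal.Quotient.mk
        (Ideal.map (algebraMap R (SymmetricAlgebra R (Module.Dual R M))) m)))).base ⁻¹'
          (U : Set ↥(Spec (CommRingCat.of (SymmetricAlgebra R (Module.Dual R M))))))) :
    ∃ φ : Module.Dual R M →ₗ[R] R,
      Set.range (Spec.map (CommRingCat.ofHom (SymmetricAlgebra.lift φ).toRingHom)).base ⊆
        (U : Set ↥(Spec (CommRingCat.of (SymmetricAlgebra R (Module.Dual R M))))) := by
  obtain ⟨t, ht⟩ := PrimeSpectrum.isCompact_isOpen_iff.mp ⟨hU, U.isOpen⟩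
  obtain ⟨φ, hφ⟩ := K888.LG.exists_bundle_point hR (Module.Dual R M) t (fun m hm => by
    set J := Ideal.map (algebraMap R (SymmetricAlgebra R (Module.Dual R M))) m with hJ
    have hJtop : J ≠ ⊤ := by
      intro hcon
      have h1 : Ideal.map (SymmetricAlgebra.algebraMapInv (R := R) (M := Module.Dual R M)).toRingHom J = ⊤ := by
        rw [hcon, Ideal.map_top]
      rw [hJ, Ideal.map_map] at h1
      have h2 : (SymmetricAlgebra.algebraMapInv (R := R) (M := Module.Dual R M)).toRingHom.comp
          (algebraMap R (SymmetricAlgebra R (Module.Dual R M))) = RingHom.id R :=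
        RingHom.ext fun r => SymmetricAlgebra.algebraMap_leftInverse (R := R) (M := Module.Dual R M) r
      rw [h2, Ideal.map_id] at h1
      exact hm.ne_top h1
    obtain ⟨q, hq, hle⟩ := Ideal.exists_le_maximal _ hJtop
    have hprime : (Ideal.map (Ideal.Quotient.mk J) q).IsPrime :=
      Ideal.map_isPrime_of_surjective Ideal.Quotient.mk_surjective (by rwa [Ideal.mk_ker])
    have hne : Nonempty ↥(Spec (CommRingCat.of (SymmetricAlgebra R (Module.Dual R M) ⧸ J))) :=
      ⟨(⟨Ideal.map (Ideal.Quotient.mk J) q, hprime⟩ : PrimeSpectrum (SymmetricAlgebra R (Module.Dual R M) ⧸ J))⟩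
    obtain ⟨y, hy⟩ := (hdense m).nonempty
    have hy' : (Spec.map (CommRingCat.ofHom (Ideal.Quotient.mk J))).base y ∈
      (PrimeSpectrum.zeroLocus (t : Set (SymmetricAlgebra R (Module.Dual R M))))ᶜ := by
      rw [ht]; exact hy
    obtain ⟨f, hf, hfy⟩ := Set.not_subset.mp
      (show ¬ ((t : Set (SymmetricAlgebra R (Module.Dual R M))) ⊆
        (((Spec.map (CommRingCat.ofHom (Ideal.Quotient.mk J))).base y : PrimeSpectrum _).asIdeal : Set _)) from hy')
    have hfJ : f ∉ J := by
      intro hmem
      apply hfy
      change f ∈ Ideal.comap (Ideal.Quotient.mk J) (y : PrimeSpectrum _).asIdeal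
      rw [Ideal.mem_comap, Ideal.Quotient.eq_zero_iff_mem.mpr hmem]
      exact Ideal.zero_mem _
    obtain ⟨φ, hφ⟩ := K888.LG.exists_lift_ne_zero (Module.Dual R M) m hm (hinf m) f hfJ
    exact ⟨φ, f, hf, hφ⟩)
  exact ⟨φ, (K888.LG.range_subset_iff _ t ht _).mpr hφ⟩

end Groth.Agent.S16601
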