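import Groth.Statements.S16604
import Groth.Agent.Par.K546.StdPos
import Groth.Agent.S16590
import Groth.Agent.S16591
-- import your own Groth.Agent.* helpers here

set_option autoImplicit false
open CategoryTheory MonoidalCategory CartesianMonoidalCategory MonObj GrpObj AlgebraicGeometry
universe u
open Par

namespace Groth.Agent.S16604

/-- Let R be an LG-ring, S = Spec R, G a reductive S-group and P, Q two parabolic subgroups of G in
standard position, with intersection K = P ∩ Q (a fibre product over G with its induced group
structure): every point of S has an open neighbourhood V such that K_V contains a maximal torus of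
G_V. Then K contains a maximal torus of G over S. (The source phrases standard position as
containing a maximal torus fpqc-locally, which it records as equivalent to the Zariski-local form
used here.) -/
theorem result {A : Type u} [CommRing A]
    (hA : LGRing.IsLGRing A) {G P Q K : Over (Spec (CommRingCat.of A))} [GrpObj G] [GrpObj P] [GrpObj Q] [GrpObj K]
    (hG : Red.IsReductive G) (p : P ⟶ G) (q : Q ⟶ G) (hP : Red.IsParabolic p) (hQ : Red.IsParabolic q)
    (m : K ⟶ P) (m' : K ⟶ Q) [IsMonHom m] (hK : IsPullback m m' p q)
    (hloc : ∀ s : ↥(Spec (CommRingCat.of A)), ∃ V : (Spec (CommRingCat.of A)).Opens, s ∈ V ∧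
      ∃ (T : Over (V : Scheme.{u})) (_ : GrpObj T) (t : T ⟶ Red.bc V.ι K),
        IsMonHom t ∧ Red.IsMaximalTorus (t ≫ (Over.pullback V.ι).map (m ≫ p))) :
    ∃ (T : Over (Spec (CommRingCat.of A))) (_ : GrpObj T) (t : T ⟶ K),
      IsMonHom t ∧ Red.IsMaximalTorus (t ≫ m ≫ p) := by
  exact K546.StdPos.exists_torus_of_base
    (fun P' _ p' hP' => S16591.result (fun H _ hH => S16590.result hA H hH) G P' hG p' hP')
    hG hP hQ inferInstance hK (fun s => by
      obtain ⟨V, hV, hT⟩ := hloc s
      exact ⟨V, V.ι, inferInstance, ⟨⟨s, hV⟩, rfl⟩, hT⟩)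

end Groth.Agent.S16604
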