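import Groth.Statements.S16610
import Groth.Agent.RedSub.K200.TorsInj

set_option autoImplicit false
open CategoryTheory MonoidalCategory CartesianMonoidalCategory MonObj GrpObj AlgebraicGeometry
universe u
open RedSub

namespace Groth.Agent.S16610

/-- Let R be an LG-ring, S = Spec R, G a reductive S-group with a pair (P, P') of opposite parabolic
subgroups (their intersection L is a Levi subgroup of both). Then the map H¹(S, P) → H¹(S, G) on
classes of fppf torsors induced by the inclusion P ⊆ G is injective: two P-torsors whose associated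
G-torsors are isomorphic are isomorphic. -/
theorem result {A : Type u} [CommRing A]
    (hA : LGRing.IsLGRing A) {G P P' L : Over (Spec (CommRingCat.of A))} [GrpObj G] [GrpObj P] [GrpObj P']
    [GrpObj L] (hG : Red.IsReductive G) (p : P ⟶ G) (p' : P' ⟶ G) (hP : Red.IsParabolic p)
    (hP' : Red.IsParabolic p') (l : L ⟶ P) (l' : L ⟶ P') [IsMonHom l] [IsMonHom l'] (hL : IsPullback l l' p p')
    (hl : Par.IsLevi l) (hl' : Par.IsLevi l')
    (X₁ X₂ : NonAbH1.TorsorSch P Scheme.fppfPrecoverage.{u}) (Y₁ Y₂ : NonAbH1.TorsorSch G Scheme.fppfPrecoverage.{u})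
    (h₁ : NonAbH1.IsPushforwardAlongSch p X₁.act Y₁.act) (h₂ : NonAbH1.IsPushforwardAlongSch p X₂.act Y₂.act)
    (hY : Nonempty (NonAbH1.EquivIso Y₁.act Y₂.act)) : Nonempty (NonAbH1.EquivIso X₁.act X₂.act) := by
  obtain ⟨f₁, hf₁⟩ := h₁
  obtain ⟨f₂, hf₂⟩ := h₂
  obtain ⟨e⟩ := hY
  refine Groth.Agent.RedSub.K200.TorsInj.main hA hG p hP X₁ X₂ Y₁ f₁
    (Groth.Agent.RedSub.K200.TorsPar.eqv_of_push hf₁) (f₂ ≫ (K551.Tors.equivIsoSymm e).iso.hom) ?_
  intro T g x
  rw [← Category.assoc, Groth.Agent.RedSub.K200.TorsPar.eqv_of_push hf₂,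
    K551.Tors.equivIso_sm, Category.assoc]

end Groth.Agent.S16610
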