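import Groth.Statements.S16612
import Groth.Agent.SGA3x.K19.SplitTor

set_option autoImplicit false
open CategoryTheory MonoidalCategory CartesianMonoidalCategory MonObj GrpObj AlgebraicGeometry
universe u
open SGA3x

namespace Groth.Agent.S16612

/-- Let S be a connected scheme and G an S-group of finite multiplicative type. Then G admits a unique
maximal split subtorus; equivalently, since split subtori form a directed family, a greatest one: a
monomorphism T ⟶ G from a split torus T ≅ D_S(ℤ^r) through which every split subtorus T' ⟶ G of G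
factors. -/
theorem result {S : Scheme.{u}} [ConnectedSpace ↥S]
    {G : Over S} [GrpObj G] (hG : SGA3x.IsMultTypeFT G) :
    ∃ (T : Over S) (_ : GrpObj T) (j : T ⟶ G) (r : ℕ), IsMonHom j ∧ Mono j ∧ Red.IsSplitTorusWith (Fin r → ℤ) T ∧
      ∀ (T' : Over S) [GrpObj T'] (j' : T' ⟶ G) [IsMonHom j'] [Mono j'] (r' : ℕ),
        Red.IsSplitTorusWith (Fin r' → ℤ) T' → ∃ g : T' ⟶ T, g ≫ j = j' := by
  obtain ⟨T₀, _, i, hi, hmax⟩ := S4148.result S G hG
  have h1 : IsMonHom i := hi.1
  have h2 : Mono i := hi.2.1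
  obtain ⟨r, j, hj, hjm, hgr⟩ := K19.SplitTor.exists_greatest hi.2.2.1
  refine ⟨Red.DS S (Fin r → ℤ), inferInstance, j ≫ i, r, inferInstance, mono_comp _ _,
    K19.SplitTor.isSplit_DS S _, fun T' _ j' _ _ r' hT' => ?_⟩
  obtain ⟨f, hf⟩ := hmax T' j' (Sga3B.BorSpan613.isTorus_of_isSplitTorusWith hT')
  have h3 : IsMonHom f := K19.SplitTor.isMonHom_of_comp f i (by rw [hf]; infer_instance)
  obtain ⟨g, hg⟩ := hgr T' f r' hT'
  exact ⟨g, by rw [← Category.assoc, hg, hf]⟩

end Groth.Agent.S16612
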