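import Groth.Statements.S16614
import Groth.Agent.SGA3x.K19.SplitTor

set_option autoImplicit false
open CategoryTheory MonoidalCategory CartesianMonoidalCategory MonObj GrpObj AlgebraicGeometry
universe u
open SGA3x

namespace Groth.Agent.S16614

/-- Over an arbitrary scheme S, an S-group G of finite multiplicative type admits a maximal split
subtorus: a monomorphism T ⟶ G from a split torus T ≅ D_S(ℤ^r) which is maximal among split subtori
(if T factors through a split subtorus T' ⟶ G then the factoring morphism is an isomorphism). -/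
theorem result {S : Scheme.{u}} {G : Over S} [GrpObj G]
    (hG : SGA3x.IsMultTypeFT G) :
    ∃ (T : Over S) (_ : GrpObj T) (j : T ⟶ G) (r : ℕ), IsMonHom j ∧ Mono j ∧ Red.IsSplitTorusWith (Fin r → ℤ) T ∧
      ∀ (T' : Over S) [GrpObj T'] (j' : T' ⟶ G) [IsMonHom j'] [Mono j'] (r' : ℕ) (g : T ⟶ T'),
        Red.IsSplitTorusWith (Fin r' → ℤ) T' → g ≫ j' = j → IsIso g := by
  obtain ⟨T₀, _, i, hi, hmax⟩ := S4148.result S G hG
  have h1 : IsMonHom i := hi.1
  have h2 : Mono i := hi.2.1
  rcases isEmpty_or_nonempty S with hS | hS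
  · -- the empty base: everything is an isomorphism
    obtain ⟨j, hj, hjm⟩ : ∃ j : Red.DS S (Fin 0 → ℤ) ⟶ G, IsMonHom j ∧ Mono j := by
      have h1 : IsMonHom (1 : Red.DS S (Fin 0 → ℤ) ⟶ G) := Sga3B.Pts.isMonHom_of_points _ fun X x y => by simp
      refine ⟨1, h1, ⟨fun {X} a b _ => ?_⟩⟩
      have hX : IsEmpty X.left := ⟨fun x => hS.elim (X.hom x)⟩
      ext1
      exact isInitialOfIsEmpty.hom_ext _ _
    refine ⟨Red.DS S (Fin 0 → ℤ), inferInstance, j, 0, hj, hjm, K19.SplitTor.isSplit_DS S _,
      fun T' _ j' _ _ r' g _ _ => ?_⟩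
    have hX : IsEmpty T'.left := ⟨fun x => hS.elim (T'.hom x)⟩
    have hg : IsIso g.left := inferInstance
    have : IsIso ((Over.forget S).map g) := hg
    exact isIso_of_reflects_iso g (Over.forget S)
  · obtain ⟨r, j, hj, hjm, hgr⟩ := K19.SplitTor.exists_max hi.2.2.1
    refine ⟨Red.DS S (Fin r → ℤ), inferInstance, j ≫ i, r, inferInstance, mono_comp _ _,
      K19.SplitTor.isSplit_DS S _, fun T' _ j' _ _ r' g hT' hg => ?_⟩
    obtain ⟨f, hf⟩ := hmax T' j' (Sga3B.BorSpan613.isTorus_of_isSplitTorusWith hT')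
    have h3 : IsMonHom f := K19.SplitTor.isMonHom_of_comp f i (by rw [hf]; infer_instance)
    have h4 : Mono f := by
      have : Mono (f ≫ i) := by rw [hf]; infer_instance
      exact mono_of_mono f i
    have h5 := hgr T' f r' hT'
    have h6 : IsMonHom g := K19.SplitTor.isMonHom_of_comp g j' (by rw [hg]; infer_instance)
    have h7 : Mono g := by
      have : Mono (g ≫ j') := by rw [hg]; exact mono_comp _ _
      exact mono_of_mono g j'
    exact K19.SplitTor.isIso_of_mono g h5 (K19.SplitTor.isSplit_DS S _) hT'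

end Groth.Agent.S16614
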