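import Groth.Statements.S16618
import Groth.Agent.Par.K546.DimPar

set_option autoImplicit false
open CategoryTheory MonoidalCategory CartesianMonoidalCategory MonObj GrpObj AlgebraicGeometry
universe u
open Par

namespace Groth.Agent.S16618

/-- A reductive group scheme G over a connected scheme S admits a minimal parabolic subgroup P (every
parabolic subgroup of G contained in P is equal to P). -/
theorem result {S : Scheme.{u}} [ConnectedSpace ↥S] {G : Over S} [GrpObj G]
    (hG : Red.IsReductive G) :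
    ∃ (P : Over S) (_ : GrpObj P) (p : P ⟶ G), Red.IsParabolic p ∧
      ∀ (P₁ : Over S) [GrpObj P₁] (p₁ : P₁ ⟶ G) (f : P₁ ⟶ P), Red.IsParabolic p₁ → f ≫ p = p₁ → IsIso f := by
  let s₀ : S := Classical.arbitrary S
  let D : Set ℕ := {d | ∃ (P : Over S) (_ : GrpObj P) (p : P ⟶ G), Red.IsParabolic p ∧
    topologicalKrullDim (Red.geomFibre s₀ P).left = (d : WithBot ℕ∞)}
  have hfin : ∀ (P : Over S) [GrpObj P] (p : P ⟶ G), Red.IsParabolic p → ∃ d : ℕ,
      topologicalKrullDim (Red.geomFibre s₀ P).left = (d : WithBot ℕ∞) := by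
    intro P _ p hp
    have h1 := K546.DimPar.isAffineHom hG hp
    have h2 : IsAffineHom (Red.geomFibre s₀ P).hom :=
      inferInstanceAs (IsAffineHom (Limits.pullback.snd P.hom _))
    have h3 : IsAffine (Red.geomFibre s₀ P).left := isAffine_of_isAffineHom (Red.geomFibre s₀ P).hom
    have h4 : Smooth P.hom := hp.2.2.1
    have h5 : LocallyOfFiniteType (Red.geomFibre s₀ P).hom :=
      inferInstanceAs (LocallyOfFiniteType (Limits.pullback.snd P.hom _))
    have h6 := K546.DimPar.dim_lt_top (Red.geomFibre s₀ P)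
    have h7 := K546.DimPar.connectedSpace_geomFibre hG hp s₀
    have h8 : (0 : WithBot ℕ∞) ≤ topologicalKrullDim (Red.geomFibre s₀ P).left := by
      obtain ⟨x⟩ : Nonempty (Red.geomFibre s₀ P).left := inferInstance
      have : Nonempty (TopologicalSpace.IrreducibleCloseds (Red.geomFibre s₀ P).left) :=
        ⟨⟨closure {x}, isIrreducible_singleton.closure, isClosed_closure⟩⟩
      exact Order.krullDim_nonneg
    generalize topologicalKrullDim (Red.geomFibre s₀ P).left = n at *
    induction n with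
    | bot => exact absurd h8 (by simp)
    | coe m =>
      induction m with
      | top => exact absurd h6 (by simp)
      | coe d => exact ⟨d, rfl⟩
  have hne : D.Nonempty := by
    obtain ⟨d, hd⟩ := hfin G (𝟙 G) (K546.DimPar.isParabolic_id hG)
    exact ⟨d, G, inferInstance, 𝟙 G, K546.DimPar.isParabolic_id hG, hd⟩
  obtain ⟨P, gP, p, hp, hd⟩ := Nat.sInf_mem hne
  refine ⟨P, gP, p, hp, fun P₁ _ p₁ f hp₁ hf => ?_⟩
  obtain ⟨d₁, hd₁⟩ := hfin P₁ p₁ hp₁
  have h0 : topologicalKrullDim (Red.geomFibre s₀ P).left ≤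
      topologicalKrullDim (Red.geomFibre s₀ P₁).left := by
    rw [hd, hd₁]
    exact_mod_cast Nat.sInf_le (show d₁ ∈ D from ⟨P₁, inferInstance, p₁, hp₁, hd₁⟩)
  have h1 : Smooth P.hom := hp.2.2.1
  have h2 : Smooth P₁.hom := hp₁.2.2.1
  have h3 : Flat P.hom := inferInstance
  have h4 : Flat P₁.hom := inferInstance
  have c := Sga3B.DimFib.isLocallyConstant_dim_geomFibre S P
  have c₁ := Sga3B.DimFib.isLocallyConstant_dim_geomFibre S P₁
  refine K546.DimPar.isIso_of_dim_parabolic hG hp₁ hp f hf fun s => ?_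
  have e := c.apply_eq_of_preconnectedSpace s s₀
  have e₁ := c₁.apply_eq_of_preconnectedSpace s s₀
  rw [e, e₁]
  exact h0

end Groth.Agent.S16618
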