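import Groth.Statements.S16622
import Groth.Agent.Par.K546.ProdGlob

set_option autoImplicit false
open CategoryTheory MonoidalCategory CartesianMonoidalCategory MonObj GrpObj AlgebraicGeometry
universe u
open Par

open Groth.Agent.Sga3B Groth.Agent.Sga3B.Parab Groth.Agent.Sga3B.Parab.ConjPt

namespace Groth.Agent.S16622

/-- Let G be a reductive group scheme over a scheme S, P and Q two parabolic subgroups of G in standard
position — their intersection K = P ∩ Q (a fibre product over G with its induced group structure)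
contains a maximal torus of G Zariski-locally on S — and U = rad^u(P) the unipotent radical of P.
Then there is a parabolic subgroup P' of G through which the multiplication morphism U ×_S K ⟶ G,
(u, h) ↦ u h, factors, the induced morphism U ×_S K ⟶ P' being smooth and surjective; thus P' = K ·
rad^u(P) represents the image sheaf of the multiplication. (The source assumes standard position
fpqc-locally, which it records as equivalent to the Zariski-local form used here.) -/
theorem result {S : Scheme.{u}} {G P Q K U : Over S}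
    [GrpObj G] [GrpObj P] [GrpObj Q] [GrpObj K] [GrpObj U] (hG : Red.IsReductive G) (p : P ⟶ G) (q : Q ⟶ G)
    (hP : Red.IsParabolic p) (hQ : Red.IsParabolic q) (m : K ⟶ P) (m' : K ⟶ Q) [IsMonHom m]
    (hK : IsPullback m m' p q) (uU : U ⟶ P) (hU : Par.IsUnipotentRadical uU)
    (hloc : ∀ s : ↥S, ∃ V : S.Opens, s ∈ V ∧
      ∃ (T : Over (V : Scheme.{u})) (_ : GrpObj T) (t : T ⟶ Red.bc V.ι K),
        IsMonHom t ∧ Red.IsMaximalTorus (t ≫ (Over.pullback V.ι).map (m ≫ p))) :
    ∃ (P' : Over S) (_ : GrpObj P') (p' : P' ⟶ G) (f' : U ⊗ K ⟶ P'), Red.IsParabolic p' ∧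
      f' ≫ p' = (fst U K ≫ uU ≫ p) * (snd U K ≫ m ≫ p) ∧ Smooth f'.left ∧ Surjective f'.left := by
  have hp := hP.1
  have hq := hQ.1
  have hqm : Mono q := OppRow172.mono_of_closed q hQ.2.1
  have hm' : IsMonHom m' := by
    have : IsMonHom (m' ≫ q) := by rw [← hK.w]; infer_instance
    exact OppS172.isMonHom_of_comp m' q this
  have hLF : ∀ s : S, K546.LocPQ.LocForm p q s := by
    intro s
    obtain ⟨V, hsV, T, _, t, ht, hT⟩ := hloc s
    have hs : ((⟨s, hsV⟩ : V) : S) = V.ι ⟨s, hsV⟩ := rfl
    change K546.LocPQ.LocForm p q ((⟨s, hsV⟩ : V) : S)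
    rw [hs]
    refine K546.LocPQ.LocForm.of_bc V.ι ?_
    refine K546.LocPQ.locForm_of_torus (RedBcAny636.isReductive_bc V.ι hG)
      (RedSub.H648.BorBc.isParabolic_bc V.ι hG hP) (RedSub.H648.BorBc.isParabolic_bc V.ι hG hQ)
      (t ≫ (Over.pullback V.ι).map m) (t ≫ (Over.pullback V.ι).map m') inferInstance inferInstance
      ?_ ?_ _
    · rw [Category.assoc, Category.assoc, ← CategoryTheory.Functor.map_comp,
        ← CategoryTheory.Functor.map_comp, hK.w]
    · rw [Category.assoc, ← CategoryTheory.Functor.map_comp]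
      exact hT
  obtain ⟨P', hP'g, p', a, b, hP', ha, hb, hap, hbp, h1, h2, -⟩ :=
    K546.ProdGlob.main hG hP hQ hK hU hLF
  have hp' := hP'.1
  refine ⟨P', hP'g, p', (a ⊗ₘ b) ≫ μ[P'], hP', ?_, h1, h2⟩
  rw [K546.MulSec.tensorHom_mul, MonObj.mul_comp, Category.assoc, Category.assoc, hap, hbp]

end Groth.Agent.S16622
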