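import Groth.Statements.S16623
import Groth.Agent.Par.K547.InterRadGlob

set_option autoImplicit false
open CategoryTheory MonoidalCategory CartesianMonoidalCategory MonObj GrpObj AlgebraicGeometry
universe u
open Par

namespace Groth.Agent.S16623

/-- Let G be a reductive group scheme over a scheme S, P and Q two parabolic subgroups of G whose
intersection K = P ∩ Q (a fibre product over G with its induced group structure) contains a maximal
torus of G Zariski-locally on S, U = rad^u(P) the unipotent radical of P, and P' a parabolic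
subgroup of G containing K through which the multiplication morphism U ×_S K ⟶ G, (u, h) ↦ u h,
factors by a surjective morphism U ×_S K ⟶ P' (so that P' = K · rad^u(P)). Then for unipotent
radicals rad^u(P') of P' and rad^u(K) of K one has rad^u(K) = rad^u(P') ∩ K: rad^u(K) maps into
rad^u(P') and the resulting square over P' is cartesian. (The identity is stated for the parabolic
subgroup P' = K · rad^u(P), the form the published proof establishes; read with rad^u(P) in place of
rad^u(P') it fails, for instance for P = G and Q a Borel subgroup, where rad^u(P) is trivial and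
rad^u(K) = rad^u(Q) is not. Standard position is taken in its Zariski-local form, which the source
records as equivalent to the fpqc-local one.) -/
theorem result {S : Scheme.{u}} {G P Q K U UK P' U' : Over S}
    [GrpObj G] [GrpObj P] [GrpObj Q] [GrpObj K] [GrpObj U] [GrpObj UK] [GrpObj P'] [GrpObj U']
    (hG : Red.IsReductive G) (p : P ⟶ G) (q : Q ⟶ G) (hP : Red.IsParabolic p) (hQ : Red.IsParabolic q)
    (m : K ⟶ P) (m' : K ⟶ Q) [IsMonHom m] (hK : IsPullback m m' p q) (uU : U ⟶ P)
    (hU : Par.IsUnipotentRadical uU)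
    (hloc : ∀ s : ↥S, ∃ V : S.Opens, s ∈ V ∧
      ∃ (T : Over (V : Scheme.{u})) (_ : GrpObj T) (t : T ⟶ Red.bc V.ι K),
        IsMonHom t ∧ Red.IsMaximalTorus (t ≫ (Over.pullback V.ι).map (m ≫ p)))
    (p' : P' ⟶ G) (hP' : Red.IsParabolic p') (f' : U ⊗ K ⟶ P')
    (hf' : f' ≫ p' = (fst U K ≫ uU ≫ p) * (snd U K ≫ m ≫ p)) (hsurj : Surjective f'.left)
    (k' : K ⟶ P') (hk' : k' ≫ p' = m ≫ p) (u' : U' ⟶ P') (hU' : Par.IsUnipotentRadical u')
    (v : UK ⟶ K) (hV : Par.IsUnipotentRadical v) :
    ∃ a : UK ⟶ U', IsPullback a v u' k' := by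
  have hp := hP.1
  have hq := hQ.1
  have hqm : Mono q := Groth.Agent.Sga3B.Parab.OppRow172.mono_of_closed q hQ.2.1
  have hm' : IsMonHom m' := by
    have : IsMonHom (m' ≫ q) := by rw [← hK.w]; infer_instance
    exact Groth.Agent.Sga3B.Parab.OppS172.isMonHom_of_comp m' q this
  have hLF : ∀ s : S, K546.LocPQ.LocForm p q s := by
    intro s
    obtain ⟨V, hsV, T, _, t, ht, hT⟩ := hloc s
    have hs : ((⟨s, hsV⟩ : V) : S) = V.ι ⟨s, hsV⟩ := rfl
    change K546.LocPQ.LocForm p q ((⟨s, hsV⟩ : V) : S)
    rw [hs]
    refine K546.LocPQ.LocForm.of_bc V.ι ?_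
    refine K546.LocPQ.locForm_of_torus (Groth.Agent.Sga3B.RedBcAny636.isReductive_bc V.ι hG)
      (Groth.Agent.RedSub.H648.BorBc.isParabolic_bc V.ι hG hP)
      (Groth.Agent.RedSub.H648.BorBc.isParabolic_bc V.ι hG hQ)
      (t ≫ (Over.pullback V.ι).map m) (t ≫ (Over.pullback V.ι).map m') inferInstance inferInstance
      ?_ ?_ _
    · rw [Category.assoc, Category.assoc, ← CategoryTheory.Functor.map_comp,
        ← CategoryTheory.Functor.map_comp, hK.w]
    · rw [Category.assoc, ← CategoryTheory.Functor.map_comp]
      exact hT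
  exact Groth.Agent.K547.InterRad.main hG hP hQ hK hP'
    (Groth.Agent.K547.InterRad.locProd_of_surjective hG hP hQ hK hU hLF hP' f' hf' hsurj)
    k' hk' u' hU' v hV

end Groth.Agent.S16623
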