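import Groth.Statements.S16624
import Groth.Agent.FGA.K277.GenTw
import Groth.Agent.PerfA.CohSerre
import Groth.Agent.CohqB.SerTw
import Groth.Agent.Ega2.QCohLocal
import Groth.Agent.Ega3B.ProjTwist

set_option autoImplicit false
universe u
open FGA

namespace Groth.Agent.S16624

open Groth.Agent K277.Frames K277.GenTw K277.GlobRep Fga.QT6a CategoryTheory CategoryTheory.Limits AlgebraicGeometry

instance additive_flip {X : Scheme.{u}} (N : X.Modules) : (DCoh.tensorBi.flip.obj N).Additive where
  map_add := by
    intro A B f g
    have h : DCoh.tensorBi.map (f + g) = DCoh.tensorBi.map f + DCoh.tensorBi.map g := Functor.map_add _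
    exact congrArg (fun t => t.app N) h

open AlgebraicGeometry CategoryTheory in
/-- Let S be a Noetherian scheme, n and r natural numbers, l an integer, and E the module O^r ⊗ O(-l) on
projective n-space P^n_S over S. The Quot functor of E over S — sending a locally Noetherian
S-scheme T to the set of submodules K of E_T (the pullback of E to P^n_S ×_S T) whose quotient E_T/K
is coherent and flat over T, with pullback of submodules as transition maps — is represented by an
S-scheme Q with a universal submodule, and Q is a disjoint union of S-schemes each admitting a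
closed immersion over S into some projective space P^m_S. (The source states this for each fixed
Hilbert polynomial; the indexing of the pieces by Hilbert polynomials is not recorded here.) -/
theorem result (S : Scheme.{u}) [IsNoetherian S]
    (n r : ℕ) (l : ℤ) :
    ∃ (Q : Over S) (K : FGA.QuotSet (CohB1.ProjSpaceOver.toBase n S)
        (CohB1.tensorMod (FlatMod.freeMod (CohB1.ProjSpaceOver n S) r) (Twist.twistOver n S (-l))) Q),
      FGA.QuotRepresentedBy (CohB1.ProjSpaceOver.toBase n S)
        (CohB1.tensorMod (FlatMod.freeMod (CohB1.ProjSpaceOver n S) r) (Twist.twistOver n S (-l))) Q K ∧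
      ∃ (ι : Type u) (P : ι → Scheme.{u}) (e : (∐ P) ≅ Q.left) (m : ι → ℕ)
        (c : ∀ a, P a ⟶ CohB1.ProjSpaceOver (m a) S),
        ∀ a, IsClosedImmersion (c a) ∧
          c a ≫ CohB1.ProjSpaceOver.toBase (m a) S = Limits.Sigma.ι P a ≫ e.hom ≫ Q.hom := by
  have hc : IsClosedImmersion (toPS (prZ n S) (CohB1.ProjSpaceOver.toBase n S)) := by
    have h : toPS (prZ n S) (CohB1.ProjSpaceOver.toBase n S) = 𝟙 _ := by
      apply PS_hom_ext
      · rw [toPS_prZ, Category.id_comp]
      · rw [toPS_toBase, Category.id_comp]
    rw [h]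
    infer_instance
  have hinv : PicF.IsInvertible (Twist.twistOver n S (-l)) := Fdesc.LocGen.isInvertible_pullback _
    (Ega3B.ProjTwist.isInvertible_twistProjSpace n (ULift.{u} ℤ) (-l))
  have hE : Coh.IsCoh (CohB1.tensorMod (FlatMod.freeMod (CohB1.ProjSpaceOver n S) r) (Twist.twistOver n S (-l))) :=
    CohqB.SerTw.isCoh_tensorMod (PerfA.CohSerre.isCoh_freeMod r) hinv
  have T : TwFr (prZ n S) (Twist.twistOver n S (-l)) (-l) := TwFr.of (prZ n S) (-l)
  have D : K277.GenTw.SumDec r (Twist.twistOver n S (-l))
      (CohB1.tensorMod (FlatMod.freeMod (CohB1.ProjSpaceOver n S) r) (Twist.twistOver n S (-l))) :=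
    ((K277.GenTw.SumDec.sigma r (Coh.structureModule (CohB1.ProjSpaceOver n S))).map
      (DCoh.tensorBi.flip.obj (Twist.twistOver n S (-l)))).congr (Ega2.Tens.lunit (Twist.twistOver n S (-l)))
  exact exists_quot hE (globGen (f := CohB1.ProjSpaceOver.toBase n S) T D (𝟙 _) hE.1 hE.1)

end Groth.Agent.S16624
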