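import Groth.Statements.S16625
import Groth.Agent.S2385
import Groth.Agent.S3755
import Groth.Agent.S1027
import Groth.Agent.Krr.H455.RelCast
import Groth.Agent.Ega3B.FlatTensInv
import Groth.Agent.Ega3B.RpushAbCmp
import Groth.Agent.PerfA.Restrict
import Groth.Agent.PerfB.StructFlat
import Groth.Agent.Pic13.H969.StalkFree
import Groth.Agent.Ega3B.ProjProper
import Groth.Agent.Fga.TwistCoh

set_option autoImplicit false
universe u
open FGA

namespace Groth.Agent.S16625

open AlgebraicGeometry CategoryTheory CategoryTheory.Limits in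
theorem isFinLocFree_of_iso {X : Scheme.{u}} {M N : X.Modules} (e : M ≅ N) (h : FlatMod.IsFinLocFree M) :
    FlatMod.IsFinLocFree N := Dcoh.FinLocFree.isFinLocFree_of_iso e h

open AlgebraicGeometry CategoryTheory CategoryTheory.Limits in
/-- Let S be a Noetherian scheme with projective n-space π : P^n_S → S, Q a coherent module on P^n_S
which is flat over S, and m > 0 an integer such that for every point s of S the restriction Q_s of Q
to the fibre P^n_S ×_S Spec κ(s) is m-regular: H^i of the restriction of Q(m - i) = Q ⊗ O(m - i) to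
that fibre vanishes for every i ≥ 1. Then for every integer d ≥ m: (1) π_*(Q(d)) is a finite locally
free O_S-module; (2) R^i π_*(Q(d)) = 0 for every i ≥ 1 (higher direct images of the underlying
abelian sheaf); (3) the counit π^*π_*(Q(d)) → Q(d) is an epimorphism. (The source's (1) also says
that the formation of π_*(Q(d)) commutes with arbitrary base change T → S; that clause is not
recorded here.) -/
theorem result (S : Scheme.{u}) [IsNoetherian S] (n : ℕ)
    (Q : (CohB1.ProjSpaceOver n S).Modules) (hQ : Coh.IsCoh Q)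
    (hflat : FlatMod.IsFlatOver (CohB1.ProjSpaceOver.toBase n S) Q) (m : ℤ) (hm : 0 < m)
    (hreg : ∀ (s : S) (i : ℕ), 1 ≤ i →
      Subsingleton (Coh.HH (pullback (CohB1.ProjSpaceOver.toBase n S) (S.fromSpecResidueField s))
        ((Scheme.Modules.pullback
            (pullback.fst (CohB1.ProjSpaceOver.toBase n S) (S.fromSpecResidueField s))).obj
          (CohB1.tensorMod Q (Twist.twistOver n S (m - i)))) i))
    (d : ℤ) (hd : m ≤ d) :
    FlatMod.IsFinLocFree ((Coh.push (CohB1.ProjSpaceOver.toBase n S)).obj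
        (CohB1.tensorMod Q (Twist.twistOver n S d))) ∧
      (∀ i : ℕ, 1 ≤ i → IsZero ((Coh.RpushAb (CohB1.ProjSpaceOver.toBase n S) i).obj
        (Coh.toAb (CohB1.tensorMod Q (Twist.twistOver n S d))))) ∧
      Epi ((Scheme.Modules.pullbackPushforwardAdjunction (CohB1.ProjSpaceOver.toBase n S)).counit.app
        (CohB1.tensorMod Q (Twist.twistOver n S d))) := by
  have hinj : HasInjectiveResolutions (CohB1.ProjSpaceOver n S).Modules :=
    Dcoh.DerSch.hasInjectiveResolutions _
  have hprop : IsProper (CohB1.ProjSpaceOver.toBase n S) := Ega3B.ProjProper.isProper_toBase n S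
  have hlfp : LocallyOfFinitePresentation (CohB1.ProjSpaceOver.toBase n S) := inferInstance
  have hPN : IsLocallyNoetherian (CohB1.ProjSpaceOver n S) :=
    LocallyOfFiniteType.isLocallyNoetherian (CohB1.ProjSpaceOver.toBase n S)
  have hcoh : ∀ c : ℤ, Coh.IsCoh (CohB1.tensorMod Q (Twist.twistOver n S c)) := fun c =>
    Fga.TwistCoh.isCoh_tensor hQ (Ega3B.ProjFrame.isInvertible_twistOver n c)
  have hfl : ∀ c : ℤ, FlatMod.IsFlatOver (CohB1.ProjSpaceOver.toBase n S)
      (CohB1.tensorMod Q (Twist.twistOver n S c)) := fun c =>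
    Ega3B.FlatTensInv.isFlatOver_tensor _ (Ega3B.ProjFrame.isInvertible_twistOver n c) hflat
  -- vanishing of the higher direct images of `Q(m - i)`
  have hvan : ∀ i : ℕ, 1 ≤ i → Krr.H455.RelCast.Van (CohB1.ProjSpaceOver.toBase n S) i
      (CohB1.tensorMod Q (Twist.twistOver n S (m - i))) := by
    intro i hi
    rw [Krr.H455.RelCast.van_iff, Ega3B.RpushAbCmp.isZero_RpushAb_iff]
    refine PerfA.Restrict.isZero_of_restrict_opens _ fun s => ?_
    exact S2385.result (CohB1.ProjSpaceOver.toBase n S) _ (hcoh _) (hfl _) s i (hreg s i hi)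
  have hR : Krr.H455.RelCast.Reg (CohB1.ProjSpaceOver.toBase n S) ((Sga67.TwistOver.tw n S m).obj Q) := by
    intro i hi
    obtain ⟨e⟩ := Sga67.TwistOver.nonempty_tw_tw n S (-(i : ℤ)) m Q
    refine Krr.H455.RelCast.van_of_iso _ i (Krr.H455.RelCast.swapTw Q _ ≪≫ e.symm) ?_
    have h := hvan i hi
    have e1 : m - (i : ℤ) = -(i : ℤ) + m := by ring
    rwa [e1] at h
  obtain ⟨t, ht⟩ : ∃ t : ℕ, d = t + m := ⟨(d - m).toNat, by omega⟩
  have hR' := Krr.H455.RelCast.reg_twist hR t
  obtain ⟨e0⟩ := Sga67.TwistOver.nonempty_tw_tw n S (t : ℤ) m Q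
  let e : (Sga67.TwistOver.tw n S (t : ℤ)).obj ((Sga67.TwistOver.tw n S m).obj Q) ≅
      CohB1.tensorMod Q (Twist.twistOver n S d) :=
    e0 ≪≫ eqToIso (by rw [ht]) ≪≫ (Krr.H455.RelCast.swapTw Q d).symm
  have hv : ∀ i : ℕ, 1 ≤ i → IsZero ((Coh.RpushAb (CohB1.ProjSpaceOver.toBase n S) i).obj
      (Coh.toAb (CohB1.tensorMod Q (Twist.twistOver n S d)))) := fun i hi =>
    Krr.H455.RelCast.van_of_iso _ i e (Krr.H455.RelCast.van_self_of_reg hR' i hi)
  refine ⟨?_, hv, ?_⟩
  · have hfp := Pic13.H969.StalkFree.isFP_of_isCoh (hcoh d)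
    refine S1027.result _ _ hfp (hfl d) (PerfB.StructFlat.isProperOver_support _ hfp) fun i hi => ?_
    rw [← Ega3B.RpushAbCmp.isZero_RpushAb_iff]
    exact hv i hi
  · have h1 := (S3755.result n S _ (Sga67.CohBasic.isCoh_of_iso e.symm (hcoh d)) hR').1
    have h2 := (Scheme.Modules.pullbackPushforwardAdjunction (CohB1.ProjSpaceOver.toBase n S)).counit.naturality e.hom
    have h3 : Epi ((Scheme.Modules.pullbackPushforwardAdjunction (CohB1.ProjSpaceOver.toBase n S)).counit.app
      ((Sga67.TwistOver.tw n S (t : ℤ)).obj ((Sga67.TwistOver.tw n S m).obj Q)) ≫ (𝟭 _).map e.hom) := epi_comp _ _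
    rw [← h2] at h3
    exact @epi_of_epi _ _ _ _ _ ((Scheme.Modules.pushforward (CohB1.ProjSpaceOver.toBase n S) ⋙
      Scheme.Modules.pullback (CohB1.ProjSpaceOver.toBase n S)).map e.hom) _ h3

end Groth.Agent.S16625
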