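import Groth.Statements.S16627
import Groth.Agent.S1642
import Groth.Agent.VarietyB.EulerBinom
import Groth.Agent.Sga67.TwistProj

set_option autoImplicit false
universe u
open Variety

namespace Groth.Agent.S16627

open AlgebraicGeometry CategoryTheory CategoryTheory.Limits in
/-- Let k be a field, F a coherent module on projective n-space P^n_k which is m-regular, and ι : F ⊗
O(-1) → F a monomorphism of O-modules (such as multiplication by a linear form that is a
nonzerodivisor on F, i.e. a hyperplane avoiding the associated points of F). Then the cokernel of ι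
— the restriction of F to the hyperplane, as a module on P^n_k — is again m-regular. (Stated for an
arbitrary monomorphism F(-1) → F and an arbitrary ground field.) -/
theorem result (k : Type u) [Field k] (n : ℕ)
    (F : (CohB1.ProjSpace n k).Modules) (hF : Coh.IsCoh F) (m : ℤ) (hreg : Curv2.IsMRegular k n F m)
    (ι : CohB1.tensorMod F (Twist.twistProjSpace n k (-1)) ⟶ F) [Mono ι] :
    Curv2.IsMRegular k n (cokernel ι) m := by
  intro i hi hin
  have hS : (ShortComplex.mk ι (cokernel.π ι) (cokernel.condition ι)).ShortExact :=
    { exact := ShortComplex.exact_cokernel ι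
      mono_f := inferInstance
      epi_g := (inferInstance : Epi (cokernel.π ι)) }
  have hT := Groth.Agent.VarietyB.EulerBinom.shortExact_twist k n hS (m - i)
  refine Groth.Agent.Fga.HShift.subsingleton₃ hT i (hreg i hi hin) ?_
  have h1 := Groth.Agent.S1642.subsingleton_of_isMRegular hF.1 hreg (i + 1) (by omega)
  obtain ⟨e⟩ := Groth.Agent.Sga67.TwistProj.nonempty_mul n k (-1) (m - i)
  have e2 : CohB1.tensorMod (CohB1.tensorMod F (Twist.twistProjSpace n k (-1))) (Twist.twistProjSpace n k (m - i)) ≅
      CohB1.tensorMod F (Twist.twistProjSpace n k (m - ((i + 1 : ℕ) : ℤ))) :=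
    Groth.Agent.Ega2.Tens.assoc F (Twist.twistProjSpace n k (-1)) (Twist.twistProjSpace n k (m - i)) ≪≫
      Groth.Agent.Ega2.Tens.mapTIso (Iso.refl F) (e ≪≫ eqToIso (by congr 1; push_cast; ring))
  exact Groth.Agent.Fga.HShift.subsingleton_of_iso e2.symm (i + 1) h1

end Groth.Agent.S16627
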