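import Groth.Statements.S19960
import Groth.Agent.ShStab.K849.HomFib
import Groth.Agent.ShStab.K849.HilbFacts
import Groth.Agent.Sga5.AmpleFib
import Groth.Agent.ShStab.K847.HilbBasic
import Groth.Agent.Ega2.AmpleAff

set_option autoImplicit false
open CategoryTheory CategoryTheory.Limits AlgebraicGeometry Polynomial
universe u
open ShStab

namespace Groth.Agent.S19960

open Groth.Agent K849.HomFib

/-- The pullback of an ample module to the base change along a morphism from an affine scheme. -/
theorem isAmple_comp {X S Z : Scheme.{u}} {R : CommRingCat.{u}} (p : X ⟶ Spec R) (q : S ⟶ Spec R) (i : Z ⟶ S)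
    [IsAffine Z] {L : X.Modules} (hL : CohB1.IsAmple L) :
    CohB1.IsAmple ((Scheme.Modules.pullback (pullback.fst (pullback.snd p q) i)).obj
      ((Scheme.Modules.pullback (pullback.fst p q)).obj L)) := by
  have sq := (IsPullback.of_hasPullback (pullback.snd p q) i).paste_horiz (IsPullback.of_hasPullback p q)
  have h1 : IsAffineHom (i ≫ q) := inferInstance
  have h2 : IsAffineHom (pullback.fst (pullback.snd p q) i ≫ pullback.fst p q) :=
    MorphismProperty.of_isPullback sq.flip h1
  exact Ega2.Weight.isAmple_of_iso (Ega3B.AcycNbhd.compIso _ _ _ rfl L).symm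
    (Sga5.AmpleFib.isAmple_pullback _ hL)

theorem zero_of_isZero {Y S : Scheme.{u}} (f : Y ⟶ S) (L F : Y.Modules) (s : S) (P : ℚ[X])
    (h0 : IsZero (CohIII.fiberMod f F s))
    (hP : ShStab.IsHilbPoly (S.residueField s) (Over.mk (f.fiberToSpecResidueField s)).left
      (CohIII.fiberMod f L s) (CohIII.fiberMod f F s) P) : P = 0 :=
  K847.HilbBasic.hilbPoly_eq_zero (X := (Over.mk (f.fiberToSpecResidueField s)).left) _ h0 hP

theorem pos_of_not_isZero {Y S : Scheme.{u}} (f : Y ⟶ S) [IsProper f] (L F : Y.Modules) (s : S) (P : ℚ[X])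
    (hL : CohB1.IsAmple (CohIII.fiberMod f L s)) (hF : Coh.IsCoh F) (h0 : ¬ IsZero (CohIII.fiberMod f F s))
    (hP : ShStab.IsHilbPoly (S.residueField s) (Over.mk (f.fiberToSpecResidueField s)).left
      (CohIII.fiberMod f L s) (CohIII.fiberMod f F s) P) : P ≠ 0 := by
  have hp : IsProper ((Over.mk (f.fiberToSpecResidueField s)).left ↘ Spec (CommRingCat.of (S.residueField s))) :=
    inferInstanceAs (IsProper (pullback.snd f (S.fromSpecResidueField s)))
  obtain ⟨d, hd⟩ := K847.HilbBasic.exists_dim_support_eq (S.residueField s)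
    (X := (Over.mk (f.fiberToSpecResidueField s)).left) h0
  have h1 := K847.HilbBasic.coeff_pos (S.residueField s) (X := (Over.mk (f.fiberToSpecResidueField s)).left)
    hL (FormalB.PullCoh.isCoh_pullback _ hF) hd hP
  rintro rfl
  simp at h1

/-- Let k be a field and X an integral scheme, smooth and proper over k, with a closed immersion ι into
projective N-space over k compatible with the structure maps, polarised by the ample O_X(1) =
ι^*O(1). Let S be a k-scheme of finite type and F a coherent sheaf on X ×_k S, flat over S, whose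
fibres F_s on X_s = (X ×_k S) ×_S Spec κ(s) have a fixed Hilbert polynomial P with respect to
O_X(1)|_{X_s}. Then the set of points s of S for which F_s is simple over κ(s) is open, where F_s
simple means that End(F_s) is one-dimensional over κ(s): F_s is nonzero and every endomorphism of
F_s is multiplication by a scalar c ∈ κ(s) on the sections over every open of X_s. -/
theorem result (k : Type u) [Field k]
    (X : Scheme.{u}) [X.Over (Spec (CommRingCat.of k))] [IsIntegral X]
    [Smooth (X ↘ Spec (CommRingCat.of k))] [IsProper (X ↘ Spec (CommRingCat.of k))]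
    (N : ℕ) (ι : X ⟶ CohB1.ProjSpace N k) [IsClosedImmersion ι]
    (hι : ι ≫ CohB1.ProjSpace.toSpec N k = X ↘ Spec (CommRingCat.of k))
    (hL : CohB1.IsAmple ((Scheme.Modules.pullback ι).obj (Twist.twistProjSpace N k 1)))
    (S : Scheme.{u}) (q : S ⟶ Spec (CommRingCat.of k)) [LocallyOfFiniteType q] [CompactSpace S]
    (F : (pullback (X ↘ Spec (CommRingCat.of k)) q).Modules) (hF : Coh.IsCoh F)
    (hfl : FlatMod.IsFlatOver (pullback.snd (X ↘ Spec (CommRingCat.of k)) q) F) (P : ℚ[X])
    (hP : ∀ s : S, ShStab.IsHilbPoly (S.residueField s) (Over.mk ((pullback.snd (X ↘ Spec (CommRingCat.of k)) q).fiberToSpecResidueField s)).left (CohIII.fiberMod (pullback.snd (X ↘ Spec (CommRingCat.of k)) q) ((Scheme.Modules.pullback (pullback.fst (X ↘ Spec (CommRingCat.of k)) q)).obj ((Scheme.Modules.pullback ι).obj (Twist.twistProjSpace N k 1))) s) (CohIII.fiberMod (pullback.snd (X ↘ Spec (CommRingCat.of k)) q) F s) P) :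
    IsOpen {s : S | ¬ IsZero (CohIII.fiberMod (pullback.snd (X ↘ Spec (CommRingCat.of k)) q) F s) ∧
      ∀ φ : (CohIII.fiberMod (pullback.snd (X ↘ Spec (CommRingCat.of k)) q) F s) ⟶ (CohIII.fiberMod (pullback.snd (X ↘ Spec (CommRingCat.of k)) q) F s), ∃ c : ↥(S.residueField s),
        ∀ (V : ((pullback.snd (X ↘ Spec (CommRingCat.of k)) q).fiber s).Opens) (x : (CohIII.fiberMod (pullback.snd (X ↘ Spec (CommRingCat.of k)) q) F s).val.obj (Opposite.op V)),
          (φ.app V) x = (((pullback.snd (X ↘ Spec (CommRingCat.of k)) q).fiber s).ringCatSheaf.obj.map (homOfLE (le_top : V ≤ ⊤)).op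
            (Coh.toGlobal ((pullback.snd (X ↘ Spec (CommRingCat.of k)) q).fiberToSpecResidueField s) c)) • x} := by
  set f := pullback.snd (X ↘ Spec (CommRingCat.of k)) q with hf
  have hproper : IsProper f := inferInstance
  have hN : IsLocallyNoetherian S := LocallyOfFiniteType.isLocallyNoetherian q
  rw [isOpen_iff_forall_mem_open]
  rintro s₀ ⟨hs₀, hs₀'⟩
  -- the fibres are all nonzero
  have hz : ∀ s : S, ¬ IsZero (CohIII.fiberMod f F s) := by
    intro s hs
    have hP0 : P = 0 := zero_of_isZero f _ F s P hs (hP s)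
    exact pos_of_not_isZero f _ F s₀ P (isAmple_comp _ q (S.fromSpecResidueField s₀) hL) hF hs₀ (hP s₀) hP0
  obtain ⟨V, hV, hsV⟩ : ∃ V : S.Opens, IsAffineOpen V ∧ s₀ ∈ V := by
    obtain ⟨V, hV, hsV, -⟩ := TopologicalSpace.Opens.isBasis_iff_nbhd.1 S.isBasis_affineOpens (TopologicalSpace.Opens.mem_top s₀)
    exact ⟨V, hV, hsV⟩
  have hA : IsNoetherianRing Γ(S, V) := IsLocallyNoetherian.component_noetherian ⟨V, hV⟩
  let j : Spec (CommRingCat.of Γ(S, V)) ⟶ S := hV.fromSpec
  have hj : IsOpenImmersion j := inferInstanceAs (IsOpenImmersion hV.fromSpec)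
  obtain ⟨n, hn, hn'⟩ := K849.HomFib.exists_fun f j (isAmple_comp _ q j hL) F F hF hF hfl
  obtain ⟨y₀, hy₀⟩ : s₀ ∈ Set.range j := by
    rw [hV.range_fromSpec]
    exact hsV
  refine ⟨j '' {y | n y ≤ 1}, ?_, j.isOpenEmbedding.isOpenMap _ (hn 1), ?_⟩
  · rintro _ ⟨y, hy, rfl⟩
    exact ⟨hz _, (simple_iff' f F (j y) (n y) (hn' y) (hz _)).2 hy⟩
  · refine ⟨y₀, ?_, hy₀⟩
    subst hy₀
    exact (simple_iff' f F _ (n y₀) (hn' y₀) (hz _)).1 hs₀'

end Groth.Agent.S19960
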