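import Groth.Statements.S16633
import Groth.Agent.TFCurv.K334.Def
import Groth.Agent.TFCurv.K334.Row33
-- import your own Groth.Agent.* helpers here

set_option autoImplicit false
universe u
open CategoryTheory CategoryTheory.Limits AlgebraicGeometry
open TFCurv

namespace Groth.Agent.S16633

/-- Let X be an integral proper curve (integral, proper, of dimension one) over an algebraically closed
field k with normalisation ν : X~ → X of genus g(X~) ≥ 2, L an ample invertible module on X, n ≥ 1
and d an integer. Then there is a finite locally free module E of rank n on X~ such that ν_*E is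
stable on X (as a pure one-dimensional sheaf polarised by L, i.e. slope-stable with respect to
torsion-free subsheaves) and has degree d as a module of rank n, the degree being the Euler
characteristic minus n times that of the structure sheaf. So the locus of stable sheaves locally
isomorphic to the n-th power of the normalised local rings is not empty, in every rank and degree. -/
theorem result (k : Type u) [Field k] [IsAlgClosed k] (X : Scheme.{u}) [X.Over (Spec (CommRingCat.of k))] [IsIntegral X] [IsProper (X ↘ Spec (CommRingCat.of k))] (hdim : topologicalKrullDim X = 1) [QuasiCompact (X.fromSpecStalk (genericPoint X))] [QuasiSeparated (X.fromSpecStalk (genericPoint X))] (L : X.Modules) (hL : CohB1.IsAmple L)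
    (hg : letI : (Curv2.normalization X).Over (Spec (CommRingCat.of k)) := ⟨Curv2.normalizationι X ≫ X ↘ Spec (CommRingCat.of k)⟩
      2 ≤ Curv2.genus k (Curv2.normalization X))
    (n : ℕ) (hn : 1 ≤ n) (d : ℤ) :
    ∃ E : (Curv2.normalization X).Modules, FlatMod.IsFinLocFreeOfRank n E ∧ ShStab.IsStable k X L ((Coh.push (Curv2.normalizationι X)).obj E) 1 ∧ Curv2.deg k X ((Coh.push (Curv2.normalizationι X)).obj E) n = d :=
  K334.Row33.main k (fun Y _ _ _ _ h1 h2 => K334.Fam.def_holds h1 h2) X hdim L hL hg n hn d

end Groth.Agent.S16633
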