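import Groth.Statements.S16634
import Groth.Agent.RedSub.K200.BorLocus

set_option autoImplicit false
open CategoryTheory MonoidalCategory CartesianMonoidalCategory MonObj GrpObj AlgebraicGeometry
universe u
open RedSub

namespace Groth.Agent.S16634

/-- For a reductive group scheme G over a scheme S and a parabolic subgroup P of G (closed smooth
subgroup scheme with parabolic geometric fibres), the locus of points of S at which the geometric
fibre of P is a Borel subgroup of the geometric fibre of G is open and closed in S. -/
theorem result {S : Scheme.{u}} {G P : Over S} [GrpObj G] [GrpObj P]
    (hG : Red.IsReductive G) (p : P ⟶ G) (hP : Red.IsParabolic p) :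
    IsClopen {s : S | Red.IsBorelOver (AlgebraicClosure (S.residueField s)) ((Over.pullback (Red.geomPt s)).map p)} :=
  Groth.Agent.RedSub.K200.BorLocus.isClopen_borLocus hG p hP

end Groth.Agent.S16634
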