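import Groth.Statements.S16635
import Groth.Agent.Red.K216.HensSmooth
import Groth.Agent.S2958
import Groth.Agent.S3922
import Groth.Agent.S3964
import Groth.Agent.RedSub.H648.TypeR
import Groth.Agent.RedSub.H648.ClosedBor
import Groth.Agent.Sga3B.RedBcAny636
import Groth.Agent.Sga3B.MaxTorBc505
import Groth.Agent.Sga3B.Par.CanBc

set_option autoImplicit false
open CategoryTheory MonoidalCategory CartesianMonoidalCategory MonObj GrpObj AlgebraicGeometry
universe u
open Red

namespace Groth.Agent.S16635

open Groth.Agent.Sga3B Groth.Agent.Sga3B.RedIso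

/-- A reductive group over a henselian local ring with finite residue field has a Borel subgroup. -/
theorem exists_borel
    (A : Type u) [CommRing A] [HenselianLocalRing A] [Finite (IsLocalRing.ResidueField A)]
    (G : Over (Spec (CommRingCat.of A))) [GrpObj G] (hG : Red.IsReductive G) :
    ∃ (B : Over (Spec (CommRingCat.of A))) (_ : GrpObj B) (b : B ⟶ G), Red.IsBorel b := by
  let r : Spec (CommRingCat.of (IsLocalRing.ResidueField A)) ⟶ Spec (CommRingCat.of A) :=
    Spec.map (CommRingCat.ofHom (IsLocalRing.residue A))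
  have hGk : Red.IsReductive (Red.bc r G) := RedBcAny636.isReductive_bc r hG
  have haff : IsAffine (Red.bc r G).left := by
    have := hGk.1
    exact isAffine_of_isAffineHom (Red.bc r G).hom
  have hsm : Smooth (Red.bc r G).hom := hGk.2.1
  have hcon : ConnectedSpace (Red.bc r G).left := MaxTorBc505.connectedSpace_bc hG r
  obtain ⟨B₀, _, b₀, _, _, _, hb₀, -⟩ := Groth.Agent.S3922.result (IsLocalRing.ResidueField A) (Red.bc r G)
  have hb₀' : RedSub.IsBorelSub b₀ := RedSub.H648.TypeR.isBorelSub_of_isBorel hGk hb₀
  obtain ⟨M, H, _, h, ⟨hh, hrep⟩, hM, -, -, -⟩ := Groth.Agent.S3964.result G hG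
  obtain ⟨x, ⟨hx, -⟩, -⟩ := hrep _ r B₀ b₀ hb₀'
  obtain ⟨s, hs, -⟩ := K216.HensSmooth.exists_section M.hom x hx
  have hGM : Red.IsReductive (Red.bc M.hom G) := RedBcAny636.isReductive_bc M.hom hG
  have h1 : RedSub.IsBorelSub ((Over.pullback s).map h) := RedSub.H648.BorBc.isBorelSub_bc s hGM hh
  let ψ : Grp.mk (Red.bc s (Red.bc M.hom G)) ≅ Grp.mk G :=
    (BcIso.bcCompIso s M.hom G).symm ≪≫ BcIso.bcCongrIso hs G ≪≫ BcIso.bcIdIso G
  have h2 : RedSub.IsBorelSub ((Over.pullback s).map h ≫ (und ψ).hom) :=
    RedSub.H648.TypeR.isBorelSub_of_arrow (Iso.refl _) ψ (Category.id_comp _).symm h1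
  exact ⟨Red.bc s H, inferInstance, _, RedSub.H648.TypeR.isBorel_of_isBorelSub h2
    (RedSub.H648.ClosedBor.closed_and_selfNorm hG _ h2).1⟩

/-- A reductive group over a henselian local ring is split by a local finite étale algebra. -/
theorem exists_split
    (A : Type u) [CommRing A] [HenselianLocalRing A]
    (G : Over (Spec (CommRingCat.of A))) [GrpObj G] (hG : Red.IsReductive G) :
    ∃ (A' : Type u) (_ : CommRing A') (_ : Algebra A A') (_ : IsLocalRing A'),
      Module.Finite A A' ∧ Algebra.Etale A A' ∧
      Nonempty (Red.SplitRed (Red.bc (Spec.map (CommRingCat.ofHom (algebraMap A A'))) G)) := by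
  obtain ⟨U, f, _, ⟨x, hx⟩, ⟨D⟩⟩ := Groth.Agent.S2958.result G hG (IsLocalRing.closedPoint A)
  obtain ⟨A', _, _, _, h1, h2, g, hg⟩ := K216.HensSmooth.exists_local_etale f x hx
  refine ⟨A', inferInstance, inferInstance, inferInstance, h1, h2, ?_⟩
  rw [← hg]
  exact ⟨Par.splitBcComp g f D⟩


/-- A reductive group scheme G over a henselian local ring A with finite residue field is quasi-split
(it has a Borel subgroup: a closed smooth subgroup scheme with Borel geometric fibres), and it
becomes split over some local finite etale A-algebra A' (the base change to Spec A' admits a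
splitting: a split maximal torus with its root datum, root homomorphisms for all roots and
representatives of the reflections). -/
theorem result
    (A : Type u) [CommRing A] [HenselianLocalRing A] [Finite (IsLocalRing.ResidueField A)]
    (G : Over (Spec (CommRingCat.of A))) [GrpObj G] (hG : Red.IsReductive G) :
    (∃ (B : Over (Spec (CommRingCat.of A))) (_ : GrpObj B) (b : B ⟶ G), Red.IsBorel b) ∧
    ∃ (A' : Type u) (_ : CommRing A') (_ : Algebra A A') (_ : IsLocalRing A'),
      Module.Finite A A' ∧ Algebra.Etale A A' ∧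
      Nonempty (Red.SplitRed (Red.bc (Spec.map (CommRingCat.ofHom (algebraMap A A'))) G)) :=
  ⟨exists_borel A G hG, exists_split A G hG⟩

end Groth.Agent.S16635
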