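import Groth.Agent.Red.K216.Isogeny

set_option autoImplicit false
open CategoryTheory MonoidalCategory CartesianMonoidalCategory MonObj GrpObj AlgebraicGeometry
universe u
open Red

namespace Groth.Agent.S16636

/-- Let f : G' → G be a homomorphism of reductive group schemes over a scheme S. If on every fibre over
S the induced morphism G'_s → G_s is finite, flat and surjective, then f is finite, flat and
surjective (an isogeny: the point is that the quasi-finite kernel is finite over S). -/
theorem result {S : Scheme.{u}} {G' G : Over S} [GrpObj G'] [GrpObj G]
    (hG' : Red.IsReductive G') (hG : Red.IsReductive G) (f : G' ⟶ G) [IsMonHom f]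
    (hfib : ∀ s : S, IsFinite (Limits.pullback.snd f.left (G.hom.fiberι s)) ∧
      Flat (Limits.pullback.snd f.left (G.hom.fiberι s)) ∧ Surjective (Limits.pullback.snd f.left (G.hom.fiberι s))) :
    IsFinite f.left ∧ Flat f.left ∧ Surjective f.left :=
  K216.Isogeny.main hG' hG f hfib

end Groth.Agent.S16636
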