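import Groth.Statements.S16638
import Groth.Agent.RedSub.K979.ClosedFib
import Groth.Agent.RedSub.K979.EmptyBase
import Groth.Agent.S5522

set_option autoImplicit false
open CategoryTheory MonoidalCategory CartesianMonoidalCategory MonObj GrpObj AlgebraicGeometry
universe u
open RedSub

namespace Groth.Agent.S16638

/-- Let G be a reductive group scheme over a scheme S with a splitting D, and let Ψ be a closed set of
roots (a, b ∈ Ψ with a + b a root forces a + b ∈ Ψ) containing no pair of opposite roots. Then the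
root groups U_a, a ∈ Ψ, directly span, in any order, one and the same closed subgroup scheme U_Ψ of
G: U_Ψ is smooth over S with connected geometric fibres containing no non-trivial subtorus, it is
normalised by the torus of the splitting, and for every enumeration of Ψ the ordered product of the
root homomorphisms is an isomorphism from a power of the additive group onto U_Ψ. -/
theorem result {S : Scheme.{u}} {G : Over S} [GrpObj G]
    (D : Red.SplitRed G) (Ψ : Set D.idx)
    (hcl : ∀ a b c : D.idx, a ∈ Ψ → b ∈ Ψ → D.P.root a + D.P.root b = D.P.root c → c ∈ Ψ)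
    (hneg : ∀ a b : D.idx, a ∈ Ψ → D.P.root b = -D.P.root a → b ∉ Ψ) :
    ∃ (U : Over S) (_ : GrpObj U) (v : U ⟶ G), IsMonHom v ∧ IsClosedImmersion v.left ∧ Smooth U.hom ∧
      (∀ s : S, ConnectedSpace (Red.geomFibre s U).left ∧
        Red.HasNoSubtorus (AlgebraicClosure (S.residueField s)) (Red.geomFibre s U)) ∧
      (∀ (X : Over S) (t : X ⟶ D.T) (x : X ⟶ U), ∃ x' : X ⟶ U, (t ≫ D.i) * (x ≫ v) * (t ≫ D.i)⁻¹ = x' ≫ v) ∧
      ∀ {m : ℕ} (e : Fin m → D.idx), RedSub.Enumerates Ψ e →
        ∃ ψ : RedSub.pow (Red.Ga S) m ≅ U, ψ.hom ≫ v = RedSub.prodMap (Red.Ga S) m (fun k => D.u (e k)) := by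
  by_cases hS : Nonempty S
  · obtain ⟨b, hb⟩ := S5522.result D Ψ hcl (fun a ha ha' => hneg a _ ha (by
      rw [RootPairing.root_reflectionPerm, RootPairing.reflection_apply_self]) ha')
    obtain ⟨U, gU, v, h1, h2, h3, h4⟩ := K979.ClosedSet.exists_grp b hb hcl
    have hm : Mono v.left := inferInstance
    have hm' : Mono v := (Over.forget S).mono_of_mono_map hm
    obtain ⟨m, e, he⟩ := RedSub.H637.PosRoots.exists_enumerates Ψ
    obtain ⟨ψ, -⟩ := h4 e he
    obtain ⟨mu, -, hmu, -⟩ := RedSub.H633.PosRoots.exists_lam b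
    refine ⟨U, gU, v, h1, h2, K979.ClosedSet.smooth_of_iso_pow ψ, fun s =>
      ⟨K979.ClosedSet.connected_geomFibre (K979.ClosedSet.conn_of_iso_pow ψ) s,
        K979.ClosedSet.hasNoSubtorus (mu := mu) (fun a ha => (hmu a).1 (hb ha)) ((h3 U v).1 ⟨𝟙 _, Category.id_comp _⟩) s⟩,
      fun X t x => ?_, h4⟩
    obtain ⟨y, hy⟩ := (h3 X _).2 (K979.ClosedSet.conj_torus_mem t ((h3 X (x ≫ v)).1 ⟨x, rfl⟩))
    exact ⟨y, hy.symm⟩
  · have hE : IsEmpty S := not_nonempty_iff.1 hS
    have hsub : ∀ X Y : Over S, Subsingleton (X ⟶ Y) := K979.EmptyBase.subsingleton_hom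
    have h1 : IsIso (K979.EmptyBase.hom (𝟙_ (Over S)) G) := K979.EmptyBase.isIso_hom _
    have h2 : IsIso (K979.EmptyBase.hom (𝟙_ (Over S)) G).left :=
      (Over.forget S).map_isIso (K979.EmptyBase.hom (𝟙_ (Over S)) G)
    refine ⟨𝟙_ (Over S), inferInstance, K979.EmptyBase.hom _ _, ⟨(hsub _ _).elim _ _, (hsub _ _).elim _ _⟩,
      inferInstance, ?_, fun s => hE.elim s, fun X t x => ⟨K979.EmptyBase.hom _ _, (hsub _ _).elim _ _⟩,
      fun e _ => ⟨K979.EmptyBase.iso _ _, (hsub _ _).elim _ _⟩⟩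
    change Smooth (𝟙 S)
    infer_instance

end Groth.Agent.S16638
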