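import Groth.Statements.S16639
import Groth.Agent.Red.K216.Complement

set_option autoImplicit false
open CategoryTheory MonoidalCategory CartesianMonoidalCategory MonObj GrpObj AlgebraicGeometry
universe u
open Red

namespace Groth.Agent.S16639

open K216.Complement K216.Comm K216.Fppf

/-- A smaller complement contained in a larger one is everything. -/
lemma isIso_of_le {k : Type u} [Field k]
    {G N N' N'' : Over (Spec (CommRingCat.of k))} [GrpObj G] [GrpObj N] [GrpObj N'] [GrpObj N'']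
    (hG : Red.IsSemisimple G) (i : N ⟶ G) (i' : N' ⟶ G) (i'' : N'' ⟶ G) [IsMonHom i'] [IsMonHom i'']
    (hi' : IsClosedImmersion i'.left)
    (hi'' : IsClosedImmersion i''.left) (hs : Smooth N''.hom) (hc : ConnectedSpace N''.left)
    (hn : AlgGrp.IsNormalHom i'') (hcom : Com i i'') (f : N' ⟶ N'') (hf : f ≫ i'' = i')
    (h : ∀ (X : Over (Spec (CommRingCat.of k))) (z₁ z₂ : X ⟶ G), Com i z₁ → Com i z₂ →
        ∃ y : X ⟶ N', y ≫ i' = z₁ * z₂ * z₁⁻¹ * z₂⁻¹) : IsIso f := by
  have hm : Mono i'' := mono_of_closed i'' hi''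
  have hmon : IsMonHom f := by
    refine Groth.Agent.Sga3B.Pts.isMonHom_of_points _ fun X x y => ?_
    rw [← cancel_mono i'', Category.assoc, hf, MonObj.mul_comp, MonObj.mul_comp, Category.assoc, Category.assoc, hf]
  have hcl : IsClosedImmersion f.left := by
    have : IsClosedImmersion (f.left ≫ i''.left) := by
      rw [← Over.comp_left, hf]
      exact hi'
    exact IsClosedImmersion.of_comp f.left i''.left
  refine K216.Perfect.isIso_of_commutators f hcl
    (K216.NormalSub.isSemisimple_of_normal i'' hi'' hs hc hn hG) fun X g g' => ?_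
  obtain ⟨y, hy⟩ := h X (g ≫ i'') (g' ≫ i'') (hcom.comp g) (hcom.comp g')
  refine ⟨y, ?_⟩
  rw [← cancel_mono i'', Category.assoc, hf, hy, MonObj.mul_comp, MonObj.mul_comp, MonObj.mul_comp,
    GrpObj.inv_comp, GrpObj.inv_comp]

/-- Let G be a non-trivial semisimple group scheme over a field k and N a normal smooth connected closed
k-subgroup scheme of G. Then there is a unique normal smooth connected closed k-subgroup scheme N'
of G which commutes with N and for which the multiplication homomorphism N × N' → G is a central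
isogeny: finite, flat and surjective, with every point (x, y) of the kernel having x central in N
and y central in N'. Uniqueness: any normal smooth connected closed subgroup commuting with N whose
multiplication map to G is finite, flat and surjective is the same subgroup as N'. -/
theorem result (k : Type u) [Field k]
    {G N : Over (Spec (CommRingCat.of k))} [GrpObj G] [GrpObj N] (hG : Red.IsSemisimple G) (hnt : ¬ Red.IsTrivialGrp G)
    (i : N ⟶ G) [IsMonHom i] (hi : IsClosedImmersion i.left) (hNs : Smooth N.hom) (hNc : ConnectedSpace N.left)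
    (hNn : AlgGrp.IsNormalHom i) :
    ∃ (N' : Over (Spec (CommRingCat.of k))) (_ : GrpObj N') (i' : N' ⟶ G), IsMonHom i' ∧ IsClosedImmersion i'.left ∧
      Smooth N'.hom ∧ ConnectedSpace N'.left ∧ AlgGrp.IsNormalHom i' ∧
      (∀ (X : Over (Spec (CommRingCat.of k))) (x : X ⟶ N) (y : X ⟶ N'), (x ≫ i) * (y ≫ i') = (y ≫ i') * (x ≫ i)) ∧
      IsFinite ((i ⊗ₘ i') ≫ μ[G]).left ∧ Flat ((i ⊗ₘ i') ≫ μ[G]).left ∧ Surjective ((i ⊗ₘ i') ≫ μ[G]).left ∧
      (∀ (X : Over (Spec (CommRingCat.of k))) (x : X ⟶ N) (y : X ⟶ N'), (x ≫ i) * (y ≫ i') = 1 →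
        ∀ (X' : Over (Spec (CommRingCat.of k))) (z : X' ⟶ X) (x₁ : X' ⟶ N) (y₁ : X' ⟶ N'),
          (z ≫ x) * x₁ = x₁ * (z ≫ x) ∧ (z ≫ y) * y₁ = y₁ * (z ≫ y)) ∧
      ∀ (N'' : Over (Spec (CommRingCat.of k))) [GrpObj N''] (i'' : N'' ⟶ G) [IsMonHom i''],
        IsClosedImmersion i''.left → Smooth N''.hom → ConnectedSpace N''.left → AlgGrp.IsNormalHom i'' →
        (∀ (X : Over (Spec (CommRingCat.of k))) (x : X ⟶ N) (y : X ⟶ N''), (x ≫ i) * (y ≫ i'') = (y ≫ i'') * (x ≫ i)) →
        IsFinite ((i ⊗ₘ i'') ≫ μ[G]).left → Flat ((i ⊗ₘ i'') ≫ μ[G]).left → Surjective ((i ⊗ₘ i'') ≫ μ[G]).left →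
        ∃ e : N'' ≅ N', e.hom ≫ i' = i'' := by
  obtain ⟨N', _, i', h1, h2, h3, h4, h5, h6, h7, h8, h9, h10⟩ := exists_compl hG i hi hNs hNc hNn
  have hmi : Mono i := mono_of_closed i hi
  have hmi' : Mono i' := mono_of_closed i' h2
  have hcomm : ∀ (X : Over (Spec (CommRingCat.of k))) (x : X ⟶ N) (y : X ⟶ N'),
      (x ≫ i) * (y ≫ i') = (y ≫ i') * (x ≫ i) := fun X x y => (h6 X y x).symm
  refine ⟨N', inferInstance, i', h1, h2, h3, h4, h5, hcomm, h8, h7.flat, h7.surj, ?_, ?_⟩
  · intro X x y hxy X' z x₁ y₁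
    have e1 : (z ≫ x ≫ i) * (z ≫ y ≫ i') = 1 := by
      rw [← MonObj.comp_mul, hxy, MonObj.comp_one]
    constructor
    · rw [← cancel_mono i, MonObj.mul_comp, MonObj.mul_comp, Category.assoc, eq_inv_of_mul_eq_one_left e1]
      have h11 := hcomm X' x₁ (z ≫ y)
      rw [Category.assoc] at h11
      have h12 : Commute (x₁ ≫ i) (z ≫ y ≫ i') := h11
      exact h12.inv_right.symm.eq
    · rw [← cancel_mono i', MonObj.mul_comp, MonObj.mul_comp, Category.assoc, eq_inv_of_mul_eq_one_right e1]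
      have h11 := hcomm X' (z ≫ x) y₁
      rw [Category.assoc] at h11
      have h12 : Commute (z ≫ x ≫ i) (y₁ ≫ i') := h11
      exact h12.inv_left.eq
  · intro N'' _ i'' _ hcl hs hc hn hcomm'' _ hfl hsu
    have hGs : Smooth G.hom := hG.2.1
    have hcom'' : Com i i'' := fun X x y => (hcomm'' X y x).symm
    have hlft : LocallyOfFiniteType (N ⊗ N'').hom := by
      change LocallyOfFiniteType (Limits.pullback.fst N.hom N''.hom ≫ N.hom)
      infer_instance
    have hcov : Cov ((i ⊗ₘ i'') ≫ μ[G]) := K216.Perfect.cov_of_flat _ hfl hsu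
    obtain ⟨f, hf⟩ := h10 N'' i'' hcl hcom'' hcov
    have hiso := isIso_of_le hG i i' i'' h2 hcl hs hc hn hcom'' f hf h9
    refine ⟨(asIso f).symm, ?_⟩
    change inv f ≫ i' = i''
    rw [← hf, IsIso.inv_hom_id_assoc]

end Groth.Agent.S16639
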