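import Groth.Statements.S16640
import Groth.Agent.RedSub.K200.ParDer

set_option autoImplicit false
open CategoryTheory MonoidalCategory CartesianMonoidalCategory MonObj GrpObj AlgebraicGeometry
universe u
open RedSub

namespace Groth.Agent.S16640

/-- Fix a scheme S, a reductive S-group scheme G, and its derived group D ⊂ G (pinned here as the kernel
of a homomorphism to a commutative S-group scheme that is killed by every homomorphism from G to a
commutative S-group scheme). Then P ↦ P ∩ D is a bijection from the parabolic subgroups of G onto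
the parabolic subgroups of D: (a) for P parabolic in G, any fibre product P ×_G D is parabolic in D;
(b) every parabolic subgroup Q of D is such a fibre product for some parabolic P of G; (c) P is
unique: two parabolic subgroups of G with the same intersection with D (as subgroups of D) coincide
as subgroups of G. -/
theorem result {S : Scheme.{u}} {G D : Over S} [GrpObj G] [GrpObj D]
    (hG : Red.IsReductive G) (d : D ⟶ G) [IsMonHom d]
    (hker : ∃ (C : Over S) (_ : GrpObj C) (f₀ : G ⟶ C), IsMonHom f₀ ∧ (∀ (X : Over S) (a b : X ⟶ C), a * b = b * a) ∧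
      AlgGrp.IsKernel d f₀)
    (hkill : RedSub.KilledByCommutative d) :
    (∀ (P P' : Over S) [GrpObj P] [GrpObj P'] (p : P ⟶ G) (a : P' ⟶ P) (b : P' ⟶ D) [IsMonHom a] [IsMonHom b],
        Red.IsParabolic p → IsPullback a b p d → Red.IsParabolic b) ∧
    (∀ (Q : Over S) [GrpObj Q] (q : Q ⟶ D) [IsMonHom q], Red.IsParabolic q →
        ∃ (P : Over S) (_ : GrpObj P) (p : P ⟶ G) (a : Q ⟶ P), IsMonHom p ∧ IsMonHom a ∧
          Red.IsParabolic p ∧ IsPullback a q p d) ∧
    (∀ (P₁ P₂ Q : Over S) [GrpObj P₁] [GrpObj P₂] [GrpObj Q] (p₁ : P₁ ⟶ G) (p₂ : P₂ ⟶ G)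
        (a₁ : Q ⟶ P₁) (a₂ : Q ⟶ P₂) (q : Q ⟶ D) [IsMonHom p₁] [IsMonHom p₂],
        Red.IsParabolic p₁ → Red.IsParabolic p₂ → IsPullback a₁ q p₁ d → IsPullback a₂ q p₂ d →
        ∃ e : P₁ ≅ P₂, e.hom ≫ p₂ = p₁) := by
  obtain ⟨C, _, f₀, _, hC, hkr⟩ := hker
  obtain ⟨C₁, _, q₁, hq₁, ⟨L⟩⟩ := Groth.Agent.RedSub.H654.Coradical.exists_LQ hG
  have hd := K197.Corad.isKernel_of L hC hkr hkill
  have hD := K197.BorSec.isReductive_der hG L hd
  refine ⟨?_, ?_, ?_⟩
  · intro P P' _ _ p a b _ _ hp hsq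
    exact Groth.Agent.RedSub.K200.ParDer.isParabolic_inter L hd hG hp hsq
  · intro Q _ b _ hb
    obtain ⟨Z, R, _, _, j, r, hZ, -, hR⟩ := K545.Centre.exists_radical hG
    obtain ⟨P, _, p, hp, hpc, hP⟩ := Groth.Agent.RedSub.K200.ParDer.exists_norm L hd hZ hR hD b hb
    have hpm : Mono p := Groth.Agent.Sga3C.ClosedSub.mono_of_left p
    obtain ⟨hps, ⟨mZ, hmZ⟩, mQ, hmQ, hsq⟩ := Groth.Agent.RedSub.K200.ParDer.norm_props L hd hZ hR hD b hb p hP
    refine ⟨P, inferInstance, p, mQ, hp, ?_, ?_, hsq⟩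
    · exact K198.Rad.isMonHom_of_comp hmQ
    · exact Groth.Agent.RedSub.K200.ParDer.isParabolic_norm L hd hG hD hZ b hb p hpc hps mZ hmZ mQ hmQ
  · intro P₁ P₂ Q _ _ _ p₁ p₂ a₁ a₂ b _ _ h₁ h₂ hsq₁ hsq₂
    have hc₁ := h₁.2.1
    have hc₂ := h₂.2.1
    have hM₁ : Mono p₁ := Groth.Agent.Sga3C.ClosedSub.mono_of_left p₁
    have hM₂ : Mono p₂ := Groth.Agent.Sga3C.ClosedSub.mono_of_left p₂
    obtain ⟨e, he⟩ := Groth.Agent.RedSub.K200.ParDer.exists_hom hG h₁ h₂ hsq₁ hsq₂ L hd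
    obtain ⟨e', he'⟩ := Groth.Agent.RedSub.K200.ParDer.exists_hom hG h₂ h₁ hsq₂ hsq₁ L hd
    refine ⟨⟨e, e', ?_, ?_⟩, he⟩
    · rw [← cancel_mono p₁, Category.assoc, he', he, Category.id_comp]
    · rw [← cancel_mono p₂, Category.assoc, he, he', Category.id_comp]

end Groth.Agent.S16640
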