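import Groth.Statements.S16641
import Groth.Agent.Par.K547.Kill

set_option autoImplicit false
open CategoryTheory MonoidalCategory CartesianMonoidalCategory MonObj GrpObj AlgebraicGeometry
universe u
open Par

namespace Groth.Agent.S16641

/-- Let G be a reductive group scheme over a scheme S, P a parabolic subgroup of G and U ⊂ P its
unipotent radical. (i) U is the only smooth closed normal subgroup scheme of P whose geometric
fibres are the unipotent radicals of the geometric fibres of P. (ii) Every surjective homomorphism
from P onto a reductive S-group is trivial on U (so it factors through P/U). -/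
theorem result {S : Scheme.{u}}
    {G P U : Over S} [GrpObj G] [GrpObj P] [GrpObj U] (hG : Red.IsReductive G) (p : P ⟶ G) (hP : Red.IsParabolic p)
    (u : U ⟶ P) (hU : Par.IsUnipotentRadical u) :
    (∀ (U' : Over S) [GrpObj U'] (u' : U' ⟶ P) [IsMonHom u'], IsClosedImmersion u'.left → Smooth U'.hom →
        AlgGrp.IsNormalHom u' →
        (∀ s : S, Par.IsUnipotentRadical ((Over.pullback (Red.geomPt s)).map u')) →
        ∃ e : U' ≅ U, e.hom ≫ u = u') ∧
    (∀ (L : Over S) [GrpObj L] (f : P ⟶ L) [IsMonHom f], Red.IsReductive L → Surjective f.left → u ≫ f = 1) := by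
  refine ⟨fun U' _ u' _ hcl hs hn h => Groth.Agent.K547.Kill.unique_rad hG p hP u hU u' hcl hs hn h, ?_⟩
  intro L _ f _ hL hf
  exact Groth.Agent.K547.Kill.kill hG p hP u hU f hL hf

end Groth.Agent.S16641
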