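import Groth.Statements.S16643
import Groth.Agent.RedSub.K200.ConjLoc

set_option autoImplicit false
open CategoryTheory MonoidalCategory CartesianMonoidalCategory MonObj GrpObj AlgebraicGeometry
universe u
open RedSub

namespace Groth.Agent.S16643

/-- Let G be a reductive group scheme over a scheme S with a splitting D (torus T) and B a Borel
subgroup of G. (1) Zariski-locally on S some G-conjugate of B contains T: every point has an open
neighbourhood V with a V-point g of G such that g⁻¹ T_V g ⊂ B_V. (2) Two Borel subgroups of G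
containing T are conjugate, Zariski-locally on S, by a point of G normalising T. -/
theorem result {S : Scheme.{u}} {G B : Over S} [GrpObj G]
    [GrpObj B] (D : Red.SplitRed G) (b : B ⟶ G) (hB : Red.IsBorel b) (s : S) :
    (∃ (V : S.Opens), s ∈ V ∧ ∃ g : 𝟙_ (Over (V : Scheme.{u})) ⟶ Red.bc V.ι G,
      ∀ (X : Over (V : Scheme.{u})) (t : X ⟶ Red.bc V.ι D.T), ∃ y : X ⟶ Red.bc V.ι B,
        (toUnit X ≫ g)⁻¹ * (t ≫ (Over.pullback V.ι).map D.i) * (toUnit X ≫ g) = y ≫ (Over.pullback V.ι).map b) ∧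
    ∀ (B₁ B₂ : Over S) [GrpObj B₁] [GrpObj B₂] (b₁ : B₁ ⟶ G) (b₂ : B₂ ⟶ G) (t₁ : D.T ⟶ B₁) (t₂ : D.T ⟶ B₂),
      Red.IsBorel b₁ → Red.IsBorel b₂ → t₁ ≫ b₁ = D.i → t₂ ≫ b₂ = D.i →
      ∃ (V : S.Opens), s ∈ V ∧ ∃ n : 𝟙_ (Over (V : Scheme.{u})) ⟶ Red.bc V.ι G,
        RedSub.ConjEq ((Over.pullback V.ι).map D.i) ((Over.pullback V.ι).map D.i) n ∧
        RedSub.ConjEq ((Over.pullback V.ι).map b₁) ((Over.pullback V.ι).map b₂) n := by
  refine ⟨Groth.Agent.RedSub.K200.ConjLoc.exists_conj_torus D b hB s, ?_⟩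
  intro B₁ B₂ _ _ b₁ b₂ t₁ t₂ hB₁ hB₂ ht₁ ht₂
  exact Groth.Agent.RedSub.K200.ConjLoc.exists_conj_norm D b₁ b₂ t₁ t₂ hB₁ hB₂ ht₁ ht₂ s

end Groth.Agent.S16643
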