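import Groth.Prelude.Def_Red2
import Groth.Prelude.Def_WeilRes
import Mathlib.AlgebraicGeometry.Morphisms.Etale
import Mathlib.AlgebraicGeometry.Morphisms.Finite
import Groth.Agent.Red.K216.DecMain

set_option autoImplicit false
open CategoryTheory MonoidalCategory CartesianMonoidalCategory MonObj GrpObj AlgebraicGeometry
universe u
open Red

namespace Groth.Agent.S16645

/-- A semisimple group scheme G over a non-empty scheme S whose geometric fibres are non-trivial and
simply connected is a Weil restriction: there are a finite etale cover S' → S, a semisimple S'-group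
G' with non-trivial, simply connected, absolutely simple geometric fibres, and a homomorphism G ×_S
S' → G' over S' making G the Weil restriction of G' along S' → S. (Simply connected is expressed
through splittings of the geometric fibres: the coroots span the dual lattice; simple: every normal
smooth connected closed subgroup of the geometric fibre is trivial or the whole group.) -/
theorem result {S : Scheme.{u}} [Nonempty S] {G : Over S} [GrpObj G]
    (hG : Red.IsSemisimple G) (hnt : ∀ s : S, ¬ Red.IsTrivialGrp (Red.geomFibre s G))
    (hsc : ∀ (s : S) (D : Red.SplitRed (Red.geomFibre s G)), Submodule.span ℤ (Set.range D.P.coroot) = ⊤) :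
    ∃ (S' : Scheme.{u}) (f : S' ⟶ S), IsFinite f ∧ Etale f ∧ Surjective f ∧
      ∃ (G' : Over S') (_ : GrpObj G') (q : Red.bc f G ⟶ G') (_ : IsMonHom q),
        Red.IsSemisimple G' ∧ (∀ s' : S', ¬ Red.IsTrivialGrp (Red.geomFibre s' G')) ∧
        (∀ (s' : S') (D' : Red.SplitRed (Red.geomFibre s' G')), Submodule.span ℤ (Set.range D'.P.coroot) = ⊤) ∧
        (∀ (s' : S') (N : Over (Spec (CommRingCat.of (AlgebraicClosure (S'.residueField s'))))) [GrpObj N]
            (j : N ⟶ Red.geomFibre s' G') [IsMonHom j], IsClosedImmersion j.left → Smooth N.hom → ConnectedSpace N.left →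
            AlgGrp.IsNormalHom j → Red.IsTrivialGrp N ∨ IsIso j) ∧
        WeilRes.IsWeilRes f G' G q := by
  obtain ⟨S', f, h1, h2, h3, G', _, q, hq, h4, h5, h6, h7⟩ := K216.DecMain.main hG hnt hsc
  exact ⟨S', f, h1, h2, h3, G', inferInstance, q, hq, h4, fun s' => (h5 _ (Red.geomPt s')).1, h6,
    fun s' N _ j _ => (h5 _ (Red.geomPt s')).2 N j, h7⟩

end Groth.Agent.S16645
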