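import Groth.Statements.S16646
import Groth.Agent.Red.K216.Minimal

set_option autoImplicit false
open CategoryTheory MonoidalCategory CartesianMonoidalCategory MonObj GrpObj AlgebraicGeometry
universe u
open Red

namespace Groth.Agent.S16646

open K216.Minimal

/-- Let G be a non-trivial semisimple group scheme over a field k. Consider the normal smooth connected
closed k-subgroup schemes of G that are non-trivial and minimal for these properties. Then there are
finitely many of them (a finite family through which every such subgroup factors isomorphically),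
each of them is k-simple (it has no normal smooth connected closed k-subgroup other than itself and
the trivial one), and any two of them that differ as subgroups of G commute with each other. The
statement that the multiplication map from the product of these subgroups to G is a central isogeny
is not included here. -/
theorem result (k : Type u) [Field k]
    {G : Over (Spec (CommRingCat.of k))} [GrpObj G] (hG : Red.IsSemisimple G) (hnt : ¬ Red.IsTrivialGrp G)
    (nsc : ∀ (N : Over (Spec (CommRingCat.of k))) [GrpObj N], (N ⟶ G) → Prop)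
    (hnsc : ∀ (N : Over (Spec (CommRingCat.of k))) [GrpObj N] (i : N ⟶ G), nsc N i ↔
      IsMonHom i ∧ IsClosedImmersion i.left ∧ Smooth N.hom ∧ ConnectedSpace N.left ∧ AlgGrp.IsNormalHom i)
    (mnl : ∀ (N : Over (Spec (CommRingCat.of k))) [GrpObj N], (N ⟶ G) → Prop)
    (hmnl : ∀ (N : Over (Spec (CommRingCat.of k))) [GrpObj N] (i : N ⟶ G), mnl N i ↔
      nsc N i ∧ ¬ Red.IsTrivialGrp N ∧
        ∀ (N' : Over (Spec (CommRingCat.of k))) [GrpObj N'] (i' : N' ⟶ G) (f : N' ⟶ N) [IsMonHom f],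
          nsc N' i' → f ≫ i = i' → Red.IsTrivialGrp N' ∨ IsIso f) :
    (∃ (r : ℕ) (N : Fin r → Over (Spec (CommRingCat.of k))) (_ : ∀ a, GrpObj (N a)) (j : ∀ a, N a ⟶ G),
      (∀ a, mnl (N a) (j a)) ∧
      ∀ (M : Over (Spec (CommRingCat.of k))) [GrpObj M] (i : M ⟶ G), mnl M i → ∃ (a : Fin r) (e : M ≅ N a), e.hom ≫ j a = i) ∧
    (∀ (N : Over (Spec (CommRingCat.of k))) [GrpObj N] (i : N ⟶ G), mnl N i →
      ∀ (N' : Over (Spec (CommRingCat.of k))) [GrpObj N'] (f : N' ⟶ N) [IsMonHom f], IsClosedImmersion f.left →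
        Smooth N'.hom → ConnectedSpace N'.left → AlgGrp.IsNormalHom f → Red.IsTrivialGrp N' ∨ IsIso f) ∧
    (∀ (N₁ N₂ : Over (Spec (CommRingCat.of k))) [GrpObj N₁] [GrpObj N₂] (i₁ : N₁ ⟶ G) (i₂ : N₂ ⟶ G),
      mnl N₁ i₁ → mnl N₂ i₂ → (¬ ∃ e : N₁ ≅ N₂, e.hom ≫ i₂ = i₁) →
      ∀ (X : Over (Spec (CommRingCat.of k))) (x : X ⟶ N₁) (y : X ⟶ N₂), (x ≫ i₁) * (y ≫ i₂) = (y ≫ i₂) * (x ≫ i₁)) := by
  have hm : ∀ (N : Over (Spec (CommRingCat.of k))) [GrpObj N] (i : N ⟶ G), mnl N i ↔ Mnl i := by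
    intro N _ i
    rw [hmnl]
    constructor
    · rintro ⟨h1, h2, h3⟩
      exact ⟨(hnsc N i).1 h1, h2, fun N' _ i' f _ h4 h5 => h3 N' i' f ((hnsc N' i').2 h4) h5⟩
    · rintro ⟨h1, h2, h3⟩
      exact ⟨(hnsc N i).2 h1, h2, fun N' _ i' f _ h4 h5 => h3 N' i' f ((hnsc N' i').1 h4) h5⟩
  refine ⟨?_, fun N _ i hi N' _ f _ h1 h2 h3 h4 => simple hG i ((hm N i).1 hi) N' f h1 h2 h3 h4,
    fun N₁ N₂ _ _ i₁ i₂ h1 h2 h3 X x y => commute hG i₁ i₂ ((hm N₁ i₁).1 h1) ((hm N₂ i₂).1 h2) h3 X x y⟩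
  have hfin := finite_range hG
  have hfin' := hfin.to_subtype
  obtain ⟨r, ⟨e⟩⟩ := Finite.exists_equiv_fin {Z : Set G.left | ∃ (N : Over (Spec (CommRingCat.of k))) (_ : GrpObj N)
    (i : N ⟶ G), Mnl i ∧ Set.range i.left = Z}
  choose N gN j hj hr using fun a => (e.symm a).2
  refine ⟨r, N, gN, j, fun a => (hm _ _).2 (hj a), fun M _ i hi => ?_⟩
  have hi' := (hm M i).1 hi
  let a := e ⟨Set.range i.left, M, inferInstance, i, hi', rfl⟩
  refine ⟨a, iso_of_range i (j a) hi'.1 (hj a).1 ?_⟩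
  rw [hr a, Equiv.symm_apply_apply]

end Groth.Agent.S16646
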