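import Groth.Statements.S16647
import Groth.Agent.Etbase.FpqcDescent
import Groth.Agent.GrpSch.K270.Ker
import Groth.Agent.GrpSch.K270.Shear

set_option autoImplicit false
open CategoryTheory MonoidalCategory CartesianMonoidalCategory MonObj GrpObj AlgebraicGeometry
universe u
open GrpSch

namespace Groth.Agent.S16647

open Limits in
/-- In a commutative diagram of short exact sequences of S-group schemes that are flat, separated and of
finite presentation over a scheme S (in each row the first homomorphism is the kernel of the second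
and the second is a flat surjection), if the two outer vertical homomorphisms are closed immersions
then so is the middle one. -/
theorem result {S : Scheme.{u}}
    {H₁' H₁ H₁'' H₂' H₂ H₂'' : Over S} [GrpObj H₁'] [GrpObj H₁] [GrpObj H₁''] [GrpObj H₂'] [GrpObj H₂] [GrpObj H₂'']
    [Flat H₁'.hom] [Flat H₁.hom] [Flat H₁''.hom] [Flat H₂'.hom] [Flat H₂.hom] [Flat H₂''.hom]
    [IsSeparated H₁'.hom] [IsSeparated H₁.hom] [IsSeparated H₁''.hom]
    [IsSeparated H₂'.hom] [IsSeparated H₂.hom] [IsSeparated H₂''.hom]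
    [QuasiCompact H₁'.hom] [QuasiCompact H₁.hom] [QuasiCompact H₁''.hom]
    [QuasiCompact H₂'.hom] [QuasiCompact H₂.hom] [QuasiCompact H₂''.hom]
    [LocallyOfFinitePresentation H₁'.hom] [LocallyOfFinitePresentation H₁.hom] [LocallyOfFinitePresentation H₁''.hom]
    [LocallyOfFinitePresentation H₂'.hom] [LocallyOfFinitePresentation H₂.hom] [LocallyOfFinitePresentation H₂''.hom]
    (a₁ : H₁' ⟶ H₁) (b₁ : H₁ ⟶ H₁'') (a₂ : H₂' ⟶ H₂) (b₂ : H₂ ⟶ H₂'')
    [IsMonHom a₁] [IsMonHom b₁] [IsMonHom a₂] [IsMonHom b₂]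
    (h₁ : AlgGrp.IsKernel a₁ b₁) (hb₁ : Flat b₁.left ∧ Surjective b₁.left)
    (h₂ : AlgGrp.IsKernel a₂ b₂) (hb₂ : Flat b₂.left ∧ Surjective b₂.left)
    (j' : H₁' ⟶ H₂') (j : H₁ ⟶ H₂) (j'' : H₁'' ⟶ H₂'') [IsMonHom j'] [IsMonHom j] [IsMonHom j'']
    (sq₁ : a₁ ≫ j = j' ≫ a₂) (sq₂ : b₁ ≫ j'' = j ≫ b₂)
    (hj' : IsClosedImmersion j'.left) (hj'' : IsClosedImmersion j''.left) :
    IsClosedImmersion j.left := by
  have hm₁ := K270.Ker.mono h₁
  have hm₂ := K270.Ker.mono h₂
  have e₁ : ∀ {T : Over S} (n : T ⟶ H₁'), (n ≫ a₁) ≫ b₁ = 1 := fun n => by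
    rw [Category.assoc]; exact K270.Ker.comp_eq_one h₁ n
  have e₂ : ∀ {T : Over S} (n : T ⟶ H₂'), (n ≫ a₂) ≫ b₂ = 1 := fun n => by
    rw [Category.assoc]; exact K270.Ker.comp_eq_one h₂ n
  let jP : H₁ ⟶ pullback b₂ j'' := pullback.lift j b₁ sq₂.symm
  let α : H₁' ⊗ H₁ ⟶ H₁ := (fst _ _ ≫ a₁) * snd _ _
  have hφw : ((fst H₂' H₁ ≫ a₂) * (snd H₂' H₁ ≫ j)) ≫ b₂ = (snd H₂' H₁ ≫ b₁) ≫ j'' := by
    rw [MonObj.mul_comp, e₂, _root_.one_mul, Category.assoc, Category.assoc, sq₂]
  let φ : H₂' ⊗ H₁ ⟶ pullback b₂ j'' := pullback.lift ((fst _ _ ≫ a₂) * (snd _ _ ≫ j)) (snd _ _ ≫ b₁) hφw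
  have hφ1 : φ ≫ pullback.fst b₂ j'' = (fst _ _ ≫ a₂) * (snd _ _ ≫ j) := pullback.lift_fst _ _ _
  have hφ2 : φ ≫ pullback.snd b₂ j'' = snd _ _ ≫ b₁ := pullback.lift_snd _ _ _
  have hj1 : jP ≫ pullback.fst b₂ j'' = j := pullback.lift_fst _ _ _
  have hj2 : jP ≫ pullback.snd b₂ j'' = b₁ := pullback.lift_snd _ _ _
  have sqA : IsPullback α (j' ▷ H₁) jP φ := by
    refine ⟨⟨?_⟩, ⟨PullbackCone.IsLimit.mk _
      (fun s => lift (K270.Ker.lift h₁ (s.fst * (s.snd ≫ snd _ _)⁻¹) ?_) (s.snd ≫ snd _ _)) ?_ ?_ ?_⟩⟩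
    · apply pullback.hom_ext
      · simp only [Category.assoc, hj1, hφ1, α]
        rw [MonObj.mul_comp, MonObj.comp_mul, Category.assoc, sq₁]
        simp
      · simp only [Category.assoc, hj2, hφ2, α]
        rw [MonObj.mul_comp, e₁, _root_.one_mul]
        simp
    · have h := congrArg (fun t => t ≫ pullback.snd b₂ j'') s.condition
      simp only [Category.assoc, hj2, hφ2] at h
      rw [MonObj.mul_comp, GrpObj.inv_comp, h, Category.assoc, mul_inv_cancel]
    · intro s
      simp only [α, MonObj.comp_mul, lift_fst_assoc, lift_snd, K270.Ker.lift_comp]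
      rw [inv_mul_cancel_right]
    · intro s
      ext1
      · rw [← cancel_mono a₂]
        have h := congrArg (fun t => t ≫ pullback.fst b₂ j'') s.condition
        simp only [Category.assoc, hj1, hφ1, MonObj.comp_mul] at h
        simp only [Category.assoc, whiskerRight_fst, lift_fst_assoc, ← sq₁, K270.Ker.lift_comp_assoc]
        rw [MonObj.mul_comp, GrpObj.inv_comp, h, Category.assoc]
        simp
      · simp
    · intro s m hm1 hm2
      have h2 : m ≫ snd _ _ = s.snd ≫ snd _ _ := by rw [← hm2]; simp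
      ext1
      · rw [← cancel_mono a₁, lift_fst, K270.Ker.lift_comp, ← hm1, ← h2]
        simp [α, MonObj.comp_mul]
      · simpa using h2
  have sqB : IsPullback φ (snd H₂' H₁) (pullback.snd b₂ j'') b₁ := by
    refine ⟨⟨hφ2⟩, ⟨PullbackCone.IsLimit.mk _
      (fun s => lift (K270.Ker.lift h₂ ((s.fst ≫ pullback.fst b₂ j'') * (s.snd ≫ j)⁻¹) ?_) s.snd) ?_ ?_ ?_⟩⟩
    · have h := s.condition
      rw [MonObj.mul_comp, GrpObj.inv_comp, Category.assoc, Category.assoc, pullback.condition, ← sq₂,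
        reassoc_of% h, mul_inv_cancel]
    · intro s
      apply pullback.hom_ext
      · simp only [Category.assoc, hφ1, MonObj.comp_mul, lift_fst_assoc, lift_snd_assoc, K270.Ker.lift_comp]
        simp
      · simp only [Category.assoc, hφ2, lift_snd_assoc]
        exact s.condition.symm
    · intro s
      simp
    · intro s m hm1 hm2
      ext1
      · rw [← cancel_mono a₂, lift_fst, K270.Ker.lift_comp, ← hm1, ← hm2, Category.assoc m φ, hφ1]
        simp [MonObj.comp_mul]
      · simpa using hm2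
  have sqA' := sqA.map (Over.forget S)
  have sqB' := sqB.map (Over.forget S)
  have hqc : QuasiCompact b₁.left := by
    have : QuasiCompact (b₁.left ≫ H₁''.hom) := by rw [Over.w]; infer_instance
    exact QuasiCompact.of_comp b₁.left H₁''.hom
  have hfl : (@Surjective ⊓ @Flat ⊓ @QuasiCompact : MorphismProperty Scheme.{u}) φ.left :=
    MorphismProperty.of_isPullback (P := (@Surjective ⊓ @Flat ⊓ @QuasiCompact : MorphismProperty Scheme.{u}))
      sqB'.flip ⟨⟨hb₁.2, hb₁.1⟩, hqc⟩
  have hcl : IsClosedImmersion (j' ▷ H₁).left := K270.Shear.whiskerRight_left_mem @IsClosedImmersion j' H₁ hj'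
  have := Groth.Agent.Etbase.FpqcDescent.descendsAlong_isClosedImmersion.{u}
  have hjP : IsClosedImmersion jP.left :=
    MorphismProperty.of_isPullback_of_descendsAlong (P := @IsClosedImmersion)
      (Q := (@Surjective ⊓ @Flat ⊓ @QuasiCompact : MorphismProperty Scheme.{u})) sqA'.flip hfl hcl
  have hfst : IsClosedImmersion (pullback.fst b₂ j'').left := by
    have h3 := (IsPullback.of_hasPullback b₂ j'').map (Over.forget S)
    exact MorphismProperty.of_isPullback (P := @IsClosedImmersion) h3.flip hj''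
  rw [← hj1, Over.comp_left]
  infer_instance

end Groth.Agent.S16647
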