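import Groth.Statements.S16648
import Groth.Agent.RedSub.K200.TransTors
import Groth.Agent.Sga3B.Parab.TorRank156

set_option autoImplicit false
open CategoryTheory MonoidalCategory CartesianMonoidalCategory MonObj GrpObj AlgebraicGeometry
universe u
open RedSub

namespace Groth.Agent.S16648

/-- Over an affine connected base S = Spec A with trivial Picard group, any two pairs (B, T) consisting
of a split maximal torus T of a reductive S-group G and a Borel subgroup B of G containing T are
conjugate by an S-point of G. -/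
theorem result (A : Type u) [CommRing A]
    [ConnectedSpace ↥(Spec (CommRingCat.of A))] [Subsingleton (CommRing.Pic A)]
    {G T T' B B' : Over (Spec (CommRingCat.of A))} [GrpObj G] [GrpObj T] [GrpObj T'] [GrpObj B] [GrpObj B']
    (hG : Red.IsReductive G) (i : T ⟶ G) (i' : T' ⟶ G) (hT : Red.IsMaximalTorus i) (hT' : Red.IsMaximalTorus i')
    (M M' : Type) [AddCommGroup M] [AddCommGroup M'] (hs : Red.IsSplitTorusWith M T) (hs' : Red.IsSplitTorusWith M' T')
    (b : B ⟶ G) (b' : B' ⟶ G) (hB : Red.IsBorel b) (hB' : Red.IsBorel b')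
    (t : T ⟶ B) (t' : T' ⟶ B') (ht : t ≫ b = i) (ht' : t' ≫ b' = i') :
    ∃ g : 𝟙_ (Over (Spec (CommRingCat.of A))) ⟶ G, RedSub.ConjEq i i' g ∧ RedSub.ConjEq b b' g := by
  have hne : Nonempty (Spec (CommRingCat.of A)) := inferInstance
  obtain ⟨r, ⟨eM⟩⟩ := Groth.Agent.Sga3B.Parab.TorRank156.finite_free hT'.2.2.1 hs'
  have hM1 : Module.Free ℤ M' := Module.Free.of_equiv eM.toIntLinearEquiv.symm
  have hM2 : Module.Finite ℤ M' := Module.Finite.equiv eM.toIntLinearEquiv.symm
  subst ht ht'
  obtain ⟨g, h1, h2⟩ := Groth.Agent.RedSub.K200.TransTors.exists_conj_pair hG b b' hB hB' t t' hT hT'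
    (Groth.Agent.RedSub.K200.TorsSplit.triv_borel hG b' hB' t' hT' M' hs')
  exact ⟨g, (Groth.Agent.RedSub.H645.ConjEqIff.conjEq_iff g).2 h1,
    (Groth.Agent.RedSub.H645.ConjEqIff.conjEq_iff g).2 h2⟩

end Groth.Agent.S16648
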