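import Groth.Statements.S16649
import Groth.Agent.Red.K918.BorelPair
import Groth.Agent.Sga3B.RootFinal136
import Groth.Agent.Sga3B.Parab.TorRank156

set_option autoImplicit false
open CategoryTheory MonoidalCategory CartesianMonoidalCategory MonObj GrpObj AlgebraicGeometry
universe u
open Red

namespace Groth.Agent.S16649

/-- Over an affine base, let S = Spec A be connected with trivial Picard group and G, G' reductive
S-groups that become isomorphic over some etale cover of S. If T ⊂ G and T' ⊂ G' are split maximal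
tori then the pairs (G, T) and (G', T') are isomorphic, and for Borel subgroups B ⊃ T, B' ⊃ T' so
are the triples (G, B, T) and (G', B', T'): some isomorphism of S-groups G ≅ G' restricts to
isomorphisms T ≅ T' and B ≅ B'. (Printed for any connected base with trivial Picard group; stated
here for an affine one.) -/
theorem result (A : Type u) [CommRing A]
    [ConnectedSpace ↥(Spec (CommRingCat.of A))] [Subsingleton (CommRing.Pic A)]
    {G G' T T' : Over (Spec (CommRingCat.of A))} [GrpObj G] [GrpObj G'] [GrpObj T] [GrpObj T']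
    (hG : Red.IsReductive G) (hG' : Red.IsReductive G')
    (hloc : ∃ (S₁ : Scheme.{u}) (f : S₁ ⟶ Spec (CommRingCat.of A)), Etale f ∧ Surjective f ∧
      Nonempty (Grp.mk (Red.bc f G) ≅ Grp.mk (Red.bc f G')))
    (i : T ⟶ G) (i' : T' ⟶ G') (hT : Red.IsMaximalTorus i) (hT' : Red.IsMaximalTorus i')
    (M M' : Type) [AddCommGroup M] [AddCommGroup M'] (hs : Red.IsSplitTorusWith M T) (hs' : Red.IsSplitTorusWith M' T') :
    (∃ (e : Grp.mk G ≅ Grp.mk G') (eT : T ≅ T'), eT.hom ≫ i' = i ≫ e.hom.hom.hom) ∧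
    ∀ (B B' : Over (Spec (CommRingCat.of A))) [GrpObj B] [GrpObj B'] (b : B ⟶ G) (b' : B' ⟶ G')
      (t : T ⟶ B) (t' : T' ⟶ B'), Red.IsBorel b → Red.IsBorel b' → t ≫ b = i → t' ≫ b' = i' →
      ∃ (e : Grp.mk G ≅ Grp.mk G') (eT : T ≅ T') (eB : B ≅ B'),
        eT.hom ≫ i' = i ≫ e.hom.hom.hom ∧ eB.hom ≫ b' = b ≫ e.hom.hom.hom := by
  have hne : Nonempty ↥(Spec (CommRingCat.of A)) := inferInstance
  have hnt : Nontrivial A := PrimeSpectrum.nonempty_iff_nontrivial.1 hne
  have hpre : PreconnectedSpace (PrimeSpectrum A) :=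
    (inferInstance : ConnectedSpace ↥(Spec (CommRingCat.of A))).toPreconnectedSpace
  have key : ∀ (N : Type) [AddCommGroup N] (H R : Over (Spec (CommRingCat.of A))) [GrpObj H] [GrpObj R]
      (_ : Red.IsReductive H) (j : R ⟶ H) (_ : Red.IsMaximalTorus j) (_ : Red.IsSplitTorusWith N R),
      ∃ D : Red.SplitRed H, D.T = R ∧ HEq D.i j := by
    intro N _ H R _ _ hH j hj hN
    obtain ⟨r, ⟨ε⟩⟩ := Groth.Agent.Sga3B.Parab.TorRank156.finite_free hj.2.2.1 hN
    have h1 : Module.Finite ℤ N := Module.Finite.equiv ε.symm.toIntLinearEquiv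
    have h2 : Module.Free ℤ N := Module.Free.of_equiv ε.symm.toIntLinearEquiv
    obtain ⟨D, h3, h4, -⟩ := Groth.Agent.Sga3B.RootFinal136.exists_splitRed hH j hj hN
    exact ⟨D, h3, h4⟩
  obtain ⟨D, hD, hDi⟩ := key M G T hG i hT hs
  obtain ⟨D', hD', hDi'⟩ := key M' G' T' hG' i' hT' hs'
  subst hD hD'
  have e1 : D.i = i := eq_of_heq hDi
  have e2 : D'.i = i' := eq_of_heq hDi'
  subst e1 e2
  obtain ⟨S₁, f, hf, hf', hiso⟩ := hloc
  obtain ⟨h⟩ := K918.BorelPair.exists_equiv D D' f hiso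
  refine ⟨K918.BorelPair.exists_iso_pair D D' h, ?_⟩
  intro B B' _ _ b b' t t' hb hb' ht ht'
  exact K918.BorelPair.exists_iso D D' h b hb t ht b' hb' t' ht'

end Groth.Agent.S16649
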