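import Groth.Statements.S16653
import Groth.Agent.BunMod.K670.Row2
import Groth.Agent.BunMod.K140.Atlas
import Groth.Agent.BunMod.K325.ZInt
import Groth.Agent.BunMod.K356.ThetaFin

set_option autoImplicit false
universe u
open CategoryTheory CategoryTheory.Limits AlgebraicGeometry
open BunMod

attribute [-instance] CategoryTheory.catToReflQuiver

namespace Groth.Agent.S16653

/-- Let k be an algebraically closed field of characteristic zero and X a smooth proper geometrically
connected curve over k (topological dimension one) of genus g ≥ 2 (the text's standing setting is a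
smooth projective complex curve of genus at least 2). Fix r ≥ 2 and let M, with φ, be the moduli
space U_X(r,0): a k-scheme corepresenting on all k-schemes the functor of families of rank-r,
degree-0, slope-semistable vector bundles on X modulo twisting by a line bundle from the base, whose
geometric points are the S-equivalence classes, and having a point over every algebraically closed
field over k; let N be an invertible O_X-module of degree g − 1 and Θ an invertible O_M-module which
is a tensor inverse of the ideal of the theta locus Θ_N (the closure, with its reduced structure, of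
the locus of slope-stable E with H^0(E ⊗ N) ≠ 0), so that Θ is the line bundle O(Θ_N). Then H^0(M,
Θ) is one-dimensional over k: h^0(U_X(r,0), O(Θ_N)) = 1. -/
theorem result (k : Type u) [Field k] [IsAlgClosed k] [CharZero k]
    (X : Scheme.{u}) [X.Over (Spec (CommRingCat.of k))]
    [IsProper (X ↘ Spec (CommRingCat.of k))] [Smooth (X ↘ Spec (CommRingCat.of k))]
    [GeometricallyConnected (X ↘ Spec (CommRingCat.of k))] (hdim : topologicalKrullDim ↥X = 1)
    (g : ℕ) (hg : Curv2.genus k X = g) (hg2 : 2 ≤ g)
    (r : ℕ) (hr : 2 ≤ r) (N : X.Modules) (hN : PicF.IsInvertible N) (hNdeg : Curv2.deg k X N 1 = (g : ℤ) - 1)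
    (M : Over (Spec (CommRingCat.of k))) (φ : (BunMod.USS (X ↘ Spec (CommRingCat.of k)) r 0).Hom ⊤ M)
    (hM : BunMod.IsModSS (X ↘ Spec (CommRingCat.of k)) ⊤ r 0 M φ)
    (hne : ∀ (Ω : Type u) [Field Ω] [IsAlgClosed Ω] (t : Spec (CommRingCat.of Ω) ⟶ Spec (CommRingCat.of k)),
      Nonempty (Over.mk t ⟶ M))
    (Θ : M.left.Modules) (hΘ : BunMod.IsThetaLB (X ↘ Spec (CommRingCat.of k))
      (BunMod.ussOK (X ↘ Spec (CommRingCat.of k)) r 0) φ N Θ) :
    @Module.finrank k (Coh.HH M.left Θ 0) _ _ (@Coh.moduleOver k _ M.left ⟨M.hom⟩ Θ 0) = 1 := by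
  obtain ⟨A⟩ := K140.BM.exists_atlasC (k := k) (X := X) hdim (r := r) (by omega)
  obtain ⟨h1, h2⟩ := Groth.Agent.BunMod.K356.ThetaFin.uss hdim (by omega) hN (by rw [hNdeg, hg]) (by omega : 1 ≤ r) hM.2.1
  exact K670.Row2.main hdim hg hr hN hNdeg A (K325.ZInt.isIntegral_Z hdim (by omega) A)
    (K325.ZInt.isIntegral_M hdim (by omega) A) φ hM.2.1 h1 h2 Θ hΘ

end Groth.Agent.S16653
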