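import Groth.Statements.S16654
import Groth.Agent.BunMod.K596.RowUtil
import Groth.Agent.BunMod.K596.JB
import Groth.Agent.BunMod.K28.Rows
import Groth.Agent.BunMod.K808.Verl
import Groth.Agent.BunMod.K479.DetMapEx
import Groth.Agent.BunMod.K957.ThetaLBJ

set_option autoImplicit false
attribute [-instance] CategoryTheory.catToReflQuiver
universe u
open CategoryTheory CategoryTheory.Limits AlgebraicGeometry
open BunMod

namespace Groth.Agent.S16654

open Groth.Agent.BunMod.K596

/-- Let k be an algebraically closed field of characteristic zero and X a smooth proper geometrically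
connected curve over k (topological dimension one) of genus g ≥ 2 (the text's standing setting is a
smooth projective complex curve of genus at least 2). Fix n ≥ 2, r ≥ 1, an invertible O_X-module N
of degree g − 1 and an invertible O_X-module L of degree 0. Let M, with φ, be the moduli space
U_X(n,0) (corepresenting on all k-schemes the functor of families of slope-semistable vector bundles
of rank n and degree 0 on X modulo twisting from the base, geometric points the S-equivalence
classes) and M', with φ', the moduli space SU_X(n,L) (the same for semistable bundles of rank n with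
determinant identified with L), each having a point over every algebraically closed field over k.
Let Θ on M and Θ' on M' be invertible modules inverse to the ideals of the respective theta loci of
N (closures of the loci of stable E with H^0(E ⊗ N) ≠ 0), so Θ = O(Θ_N) and Θ' is the determinant
bundle. Then h^0(M', Θ'^{⊗ r}) · r^g = h^0(M, Θ^{⊗ r}) · n^g (dimensions over k). -/
theorem result (k : Type u) [Field k] [IsAlgClosed k] [CharZero k]
    (X : Scheme.{u}) [X.Over (Spec (CommRingCat.of k))]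
    [IsProper (X ↘ Spec (CommRingCat.of k))] [Smooth (X ↘ Spec (CommRingCat.of k))]
    [GeometricallyConnected (X ↘ Spec (CommRingCat.of k))] (hdim : topologicalKrullDim ↥X = 1)
    (g : ℕ) (hg : Curv2.genus k X = g) (hg2 : 2 ≤ g)
    (n : ℕ) (hn : 2 ≤ n) (r : ℕ) (hr : 1 ≤ r) (N : X.Modules) (hN : PicF.IsInvertible N) (hNdeg : Curv2.deg k X N 1 = (g : ℤ) - 1)
    (L : X.Modules) (hL : PicF.IsInvertible L) (hLdeg : Curv2.deg k X L 1 = 0)
    (M : Over (Spec (CommRingCat.of k))) (φ : (BunMod.USS (X ↘ Spec (CommRingCat.of k)) n 0).Hom ⊤ M)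
    (hM : BunMod.IsModSS (X ↘ Spec (CommRingCat.of k)) ⊤ n 0 M φ)
    (hne : ∀ (Ω : Type u) [Field Ω] [IsAlgClosed Ω] (t : Spec (CommRingCat.of Ω) ⟶ Spec (CommRingCat.of k)),
      Nonempty (Over.mk t ⟶ M))
    (Θ : M.left.Modules) (hΘ : BunMod.IsThetaLB (X ↘ Spec (CommRingCat.of k))
      (BunMod.ussOK (X ↘ Spec (CommRingCat.of k)) n 0) φ N Θ)
    (M' : Over (Spec (CommRingCat.of k))) (φ' : (BunMod.USSdet (X ↘ Spec (CommRingCat.of k)) n L).Hom ⊤ M')
    (hM' : BunMod.IsModSSdet (X ↘ Spec (CommRingCat.of k)) ⊤ n L M' φ')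
    (hne' : ∀ (Ω : Type u) [Field Ω] [IsAlgClosed Ω] (t : Spec (CommRingCat.of Ω) ⟶ Spec (CommRingCat.of k)),
      Nonempty (Over.mk t ⟶ M'))
    (Θ' : M'.left.Modules) (hΘ' : BunMod.IsThetaLB (X ↘ Spec (CommRingCat.of k))
      (BunMod.ussDetOK (X ↘ Spec (CommRingCat.of k)) n L) φ' N Θ') :
    @Module.finrank k (Coh.HH M'.left (CohB1.tensorPow Θ' r) 0) _ _ (@Coh.moduleOver k _ M'.left ⟨M'.hom⟩ (CohB1.tensorPow Θ' r) 0) * r ^ g =
      @Module.finrank k (Coh.HH M.left (CohB1.tensorPow Θ r) 0) _ _ (@Coh.moduleOver k _ M.left ⟨M.hom⟩ (CohB1.tensorPow Θ r) 0) * n ^ g := by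
  obtain ⟨J, _, _, ψ, hJ⟩ := Groth.Agent.BunMod.K957.ThetaLBJ.exists_jacobian k X hdim
  obtain ⟨ΘJ, hΘJ⟩ := Groth.Agent.BunMod.K957.ThetaLBJ.exists_thetaLB k X hdim g hg (by omega) N hN hNdeg J ψ hJ
  obtain ⟨dm, hdm⟩ := K479.DetMapEx.exists_detMap k X hdim n (by omega) M φ hM J ψ hJ.coarse
  have hP := JB.ppav k X hdim g hg (by omega) N hN hNdeg J ψ hJ ΘJ hΘJ
  obtain ⟨S, e, ⟨eA⟩⟩ := K28.Rows.exists_str_of_det k X hdim g hg hg2 n hn N hN hNdeg M φ hM hne Θ hΘ
    L hL hLdeg M' φ' hM' hne' Θ' hΘ' J ψ hJ ΘJ hΘJ dm hdm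
  have hE := F1.verD_of_str hP hΘ.1 (by omega : 1 ≤ n) S r
  have h1 := K808.Verl.h0_of_verD hP (by omega) hr hE
  rw [F1.finrank_push, RowUtil.finrank_pow_of_iso e hΘ'.1 eA r] at h1
  exact h1.symm

end Groth.Agent.S16654
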