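import Groth.Statements.S16655
import Groth.Agent.BunMod.K325.FmDual
import Groth.Agent.BunMod.K596.JB
import Groth.Agent.BunMod.K957.ThetaLBJ
import Groth.Agent.BunMod.K28.Rows
import Groth.Agent.BunMod.K325.ThetaOne

set_option autoImplicit false
attribute [-instance] CategoryTheory.catToReflQuiver
universe u
open CategoryTheory CategoryTheory.Limits AlgebraicGeometry
open BunMod

namespace Groth.Agent.S16655

/-- Let k be an algebraically closed field of characteristic zero and X a smooth proper geometrically
connected curve over k (topological dimension one) of genus g ≥ 2 (the text's standing setting is a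
smooth projective complex curve of genus at least 2). Fix r ≥ 2 and let M, with φ, be the moduli
space U_X(r,0): a k-scheme corepresenting on all k-schemes the functor of families of rank-r,
degree-0, slope-semistable vector bundles on X modulo twisting by a line bundle from the base, whose
geometric points are the S-equivalence classes, and having a point over every algebraically closed
field over k; let N be an invertible O_X-module of degree g − 1 and Θ an invertible O_M-module which
is a tensor inverse of the ideal of the theta locus Θ_N (the closure, with its reduced structure, of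
the locus of slope-stable E with H^0(E ⊗ N) ≠ 0), so that Θ is the line bundle O(Θ_N); let J, with
ψ, be a coarse moduli scheme on all k-schemes for line bundles of degree 0 on X (the Jacobian) and
det : M → J the determinant morphism, i.e. the morphism induced by sending a family of bundles to
its top exterior power. Then the Verlinde bundle E_{r,1} := det_* Θ on J is simple: every
endomorphism of the O_J-module det_* Θ acts on the underlying abelian sheaf as multiplication by a
scalar c ∈ k. -/
theorem result (k : Type u) [Field k] [IsAlgClosed k] [CharZero k]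
    (X : Scheme.{u}) [X.Over (Spec (CommRingCat.of k))]
    [IsProper (X ↘ Spec (CommRingCat.of k))] [Smooth (X ↘ Spec (CommRingCat.of k))]
    [GeometricallyConnected (X ↘ Spec (CommRingCat.of k))] (hdim : topologicalKrullDim ↥X = 1)
    (g : ℕ) (hg : Curv2.genus k X = g) (hg2 : 2 ≤ g)
    (r : ℕ) (hr : 2 ≤ r) (N : X.Modules) (hN : PicF.IsInvertible N) (hNdeg : Curv2.deg k X N 1 = (g : ℤ) - 1)
    (M : Over (Spec (CommRingCat.of k))) (φ : (BunMod.USS (X ↘ Spec (CommRingCat.of k)) r 0).Hom ⊤ M)
    (hM : BunMod.IsModSS (X ↘ Spec (CommRingCat.of k)) ⊤ r 0 M φ)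
    (hne : ∀ (Ω : Type u) [Field Ω] [IsAlgClosed Ω] (t : Spec (CommRingCat.of Ω) ⟶ Spec (CommRingCat.of k)),
      Nonempty (Over.mk t ⟶ M))
    (Θ : M.left.Modules) (hΘ : BunMod.IsThetaLB (X ↘ Spec (CommRingCat.of k))
      (BunMod.ussOK (X ↘ Spec (CommRingCat.of k)) r 0) φ N Θ)
    (J : Over (Spec (CommRingCat.of k))) (ψ : (ModFun.PicDeg (X ↘ Spec (CommRingCat.of k)) 0).Hom ⊤ J)
    (hJ : ModFun.IsCoarseModuli ⊤ (ModFun.PicDeg (X ↘ Spec (CommRingCat.of k)) 0) J ψ)
    (dm : M ⟶ J) (hdm : BunMod.IsDetMap (X ↘ Spec (CommRingCat.of k))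
      (BunMod.ussOK (X ↘ Spec (CommRingCat.of k)) r 0) φ 0 ψ dm)
    (e : ((Scheme.Modules.pushforward dm.left).obj Θ) ⟶ ((Scheme.Modules.pushforward dm.left).obj Θ)) :
    ∃ c : k, (SheafOfModules.toSheaf J.left.ringCatSheaf).map e =
      Coh.smulAb ((Scheme.Modules.pushforward dm.left).obj Θ) (Coh.toGlobal J.hom c) := by
  obtain ⟨_, _, hJac⟩ := Groth.Agent.BunMod.K596.JB.exists_isJacobian k X hdim J ψ hJ
  obtain ⟨ΘJ, hΘJ⟩ := Groth.Agent.BunMod.K957.ThetaLBJ.exists_thetaLB k X hdim g hg (by omega) N hN hNdeg J ψ hJac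
  have hP := Groth.Agent.BunMod.K596.JB.ppav k X hdim g hg (by omega) N hN hNdeg J ψ hJac ΘJ hΘJ
  obtain ⟨S⟩ := K28.Rows.exists_str k X hdim g hg hg2 r hr N hN hNdeg M φ hM hne Θ hΘ J ψ hJac
    ΘJ hΘJ dm hdm
  exact K325.FmDual.scalar_of_str hP (by omega) hΘ.1 S
    (K325.ThetaOne.main k X hdim g hg hg2 r hr N hN hNdeg M φ hM.2.1 Θ hΘ) e

end Groth.Agent.S16655
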