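import Groth.Agent.BunMod.K28.Rows
import Groth.Agent.BunMod.K596.F1
import Groth.Agent.BunMod.K596.JB
import Groth.Agent.BunMod.K957.ThetaLBJ
import Groth.Agent.BunMod.K169.PolyJ

set_option autoImplicit false
attribute [-instance] CategoryTheory.catToReflQuiver CategoryTheory.Limits.hasCoproduct_of_hasBiproduct
  Groth.Agent.Dcoh.MonInst.hasCoproducts₀ Groth.Agent.Dcoh.MonCx.TensorGood.coprod Groth.Agent.Dcoh.MonCx.TensorGood.zero
universe u
open CategoryTheory CategoryTheory.Limits AlgebraicGeometry
open BunMod

namespace Groth.Agent.S16656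

/-- Let k be an algebraically closed field of characteristic zero and X a smooth proper geometrically
connected curve over k (topological dimension one) of genus g ≥ 2 (the text's standing setting is a
smooth projective complex curve of genus at least 2). Fix r ≥ 2, m ≥ 1 and let M, with φ, be the
moduli space U_X(r,0): a k-scheme corepresenting on all k-schemes the functor of families of rank-r,
degree-0, slope-semistable vector bundles on X modulo twisting by a line bundle from the base, whose
geometric points are the S-equivalence classes, and having a point over every algebraically closed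
field over k; let N be an invertible O_X-module of degree g − 1 and Θ an invertible O_M-module which
is a tensor inverse of the ideal of the theta locus Θ_N (the closure, with its reduced structure, of
the locus of slope-stable E with H^0(E ⊗ N) ≠ 0), so that Θ is the line bundle O(Θ_N); let J, with
ψ, be a coarse moduli scheme on all k-schemes for line bundles of degree 0 on X (the Jacobian) and
det : M → J the determinant morphism, i.e. the morphism induced by sending a family of bundles to
its top exterior power; assume J is proper over k of dimension g. Then for every ample invertible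
O_J-module H the Verlinde bundle E_{r,m} := det_*(Θ^{⊗ m}) is slope-polystable of dimension g with
respect to H: it is slope-semistable of dimension g and isomorphic to a finite direct sum of
slope-stable modules of dimension g. (The published statement also asserts that E_{r,m} is an ample
vector bundle; that part is not stated here.) -/
theorem result (k : Type u) [Field k] [IsAlgClosed k] [CharZero k]
    (X : Scheme.{u}) [X.Over (Spec (CommRingCat.of k))]
    [IsProper (X ↘ Spec (CommRingCat.of k))] [Smooth (X ↘ Spec (CommRingCat.of k))]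
    [GeometricallyConnected (X ↘ Spec (CommRingCat.of k))] (hdim : topologicalKrullDim ↥X = 1)
    (g : ℕ) (hg : Curv2.genus k X = g) (hg2 : 2 ≤ g)
    (r : ℕ) (hr : 2 ≤ r) (m : ℕ) (hm : 1 ≤ m) (N : X.Modules) (hN : PicF.IsInvertible N) (hNdeg : Curv2.deg k X N 1 = (g : ℤ) - 1)
    (M : Over (Spec (CommRingCat.of k))) (φ : (BunMod.USS (X ↘ Spec (CommRingCat.of k)) r 0).Hom ⊤ M)
    (hM : BunMod.IsModSS (X ↘ Spec (CommRingCat.of k)) ⊤ r 0 M φ)
    (hne : ∀ (Ω : Type u) [Field Ω] [IsAlgClosed Ω] (t : Spec (CommRingCat.of Ω) ⟶ Spec (CommRingCat.of k)),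
      Nonempty (Over.mk t ⟶ M))
    (Θ : M.left.Modules) (hΘ : BunMod.IsThetaLB (X ↘ Spec (CommRingCat.of k))
      (BunMod.ussOK (X ↘ Spec (CommRingCat.of k)) r 0) φ N Θ)
    (J : Over (Spec (CommRingCat.of k))) (ψ : (ModFun.PicDeg (X ↘ Spec (CommRingCat.of k)) 0).Hom ⊤ J)
    (hJ : ModFun.IsCoarseModuli ⊤ (ModFun.PicDeg (X ↘ Spec (CommRingCat.of k)) 0) J ψ) [IsProper J.hom] (hJdim : topologicalKrullDim ↥J.left = g)
    (dm : M ⟶ J) (hdm : BunMod.IsDetMap (X ↘ Spec (CommRingCat.of k))
      (BunMod.ussOK (X ↘ Spec (CommRingCat.of k)) r 0) φ 0 ψ dm)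
    (H : J.left.Modules) (hH : CohB1.IsAmple H) :
    @ShStab.IsMuSemistable k _ J.left ⟨J.hom⟩ H ((Scheme.Modules.pushforward dm.left).obj (CohB1.tensorPow Θ m)) g ∧
      ∃ (n : ℕ) (G : Fin n → J.left.Modules), (∀ i, @ShStab.IsMuStable k _ J.left ⟨J.hom⟩ H (G i) g) ∧
        Nonempty (((Scheme.Modules.pushforward dm.left).obj (CohB1.tensorPow Θ m)) ≅ ∐ G) := by
  obtain ⟨_, _, hJac⟩ := Groth.Agent.BunMod.K596.JB.exists_isJacobian k X hdim J ψ hJ
  obtain ⟨ΘJ, hΘJ⟩ := BunMod.K957.ThetaLBJ.exists_thetaLB k X hdim g hg (by omega) N hN hNdeg J ψ hJac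
  obtain ⟨S⟩ := K28.Rows.exists_str k X hdim g hg hg2 r hr N hN hNdeg M φ hM hne Θ hΘ J ψ hJac ΘJ hΘJ
    dm hdm
  have hP : Groth.Agent.BunMod.K596.PPAV g J ΘJ :=
    Groth.Agent.BunMod.K596.JB.ppav k X hdim g hg (by omega) N hN hNdeg J ψ hJac ΘJ hΘJ
  exact K169.PolyJ.polystable_of_verD hP (by omega) (Groth.Agent.BunMod.K596.F1.verD_of_str hP hΘ.1 (by omega) S m) H hH

end Groth.Agent.S16656
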