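import Groth.Statements.S16657
import Groth.Agent.BunMod.K231.Rows
import Groth.Agent.BunMod.K28.Rows

set_option autoImplicit false
attribute [-instance] CategoryTheory.catToReflQuiver CategoryTheory.Limits.hasCoproduct_of_hasBiproduct Groth.Agent.Dcoh.MonInst.hasCoproducts₀ Groth.Agent.Dcoh.MonCx.TensorGood.coprod Groth.Agent.Dcoh.MonCx.TensorGood.zero
universe u
open CategoryTheory CategoryTheory.Limits AlgebraicGeometry
open BunMod

namespace Groth.Agent.S16657

/-- Let k be an algebraically closed field of characteristic zero and X a smooth proper geometrically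
connected curve over k (topological dimension one) of genus g ≥ 2 (the text's standing setting is a
smooth projective complex curve of genus at least 2). Fix r ≥ 2, m ≥ 1 and a theta characteristic N:
an invertible O_X-module of degree g − 1 with N ⊗ N isomorphic to the sheaf of differentials
Ω_{X/k}. Let M, with φ, be the moduli space U_X(r,0): a k-scheme corepresenting on all k-schemes the
functor of families of rank-r, degree-0, slope-semistable vector bundles on X modulo twisting by a
line bundle from the base, whose geometric points are the S-equivalence classes, and having a point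
over every algebraically closed field over k; let Θ be an invertible O_M-module inverse to the ideal
of the theta locus Θ_N (closure, with reduced structure, of the locus of slope-stable E with H^0(E ⊗
N) ≠ 0); let J, with ψ₁, be the Jacobian presented as the moduli space U_X(1,0) (corepresenting on
all k-schemes the functor of families of line bundles of degree 0 on X modulo twisting from the
base, geometric points the isomorphism classes), Θ_J an invertible O_J-module inverse to the ideal
of the theta locus of N on J (closure of the locus of degree-0 line bundles ξ with H^0(ξ ⊗ N) ≠ 0),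
and det : M → J the determinant morphism: every family admissible for U_X(r,0) has a top exterior
power admissible for U_X(1,0), and ψ₁ at any top exterior power of a family E equals φ at E followed
by det. Then the Verlinde bundle E_{r,mr} := det_*(Θ^{⊗ mr}) is isomorphic to a finite direct sum of
line bundles Θ_J^{⊗ m} ⊗ P_i = O_J(mΘ_N) ⊗ P_i with each P_i an invertible O_J-module whose r-th
tensor power is trivial (existence of an isomorphism; the number of summands, a Verlinde number, is
left unspecified). (The published statement has every summand equal to O_J(mΘ_N) itself. That is not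
correct: the group of r-torsion points of J acts on the level-mr sections over SU_X(r) through
several distinct characters in general — for g = 2, r = 2, m = 1 through ten of them — and the
descent along multiplication by r on J carried out in the printed argument turns the eigenspace of
each character into copies of the twist of O_J(mΘ_N) by the corresponding r-torsion line bundle;
already for m = 1 a product of r theta sections of complementary line bundles gives a section of
det_*(Θ^{⊗ r}) which does not vanish at a point of the theta divisor of J, as every section of a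
direct sum of copies of O_J(Θ_N) does. The row states the twisted decomposition, which is what that
descent argument proves.) -/
theorem result (k : Type u) [Field k] [IsAlgClosed k] [CharZero k]
    (X : Scheme.{u}) [X.Over (Spec (CommRingCat.of k))]
    [IsProper (X ↘ Spec (CommRingCat.of k))] [Smooth (X ↘ Spec (CommRingCat.of k))]
    [GeometricallyConnected (X ↘ Spec (CommRingCat.of k))] (hdim : topologicalKrullDim ↥X = 1)
    (g : ℕ) (hg : Curv2.genus k X = g) (hg2 : 2 ≤ g)
    (r : ℕ) (hr : 2 ≤ r) (m : ℕ) (hm : 1 ≤ m) (N : X.Modules) (hN : PicF.IsInvertible N) (hNdeg : Curv2.deg k X N 1 = (g : ℤ) - 1)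
    (hNth : Nonempty (CohB1.tensorMod N N ≅ Omega.sheaf (X ↘ Spec (CommRingCat.of k))))
    (M : Over (Spec (CommRingCat.of k))) (φ : (BunMod.USS (X ↘ Spec (CommRingCat.of k)) r 0).Hom ⊤ M)
    (hM : BunMod.IsModSS (X ↘ Spec (CommRingCat.of k)) ⊤ r 0 M φ)
    (hne : ∀ (Ω : Type u) [Field Ω] [IsAlgClosed Ω] (t : Spec (CommRingCat.of Ω) ⟶ Spec (CommRingCat.of k)),
      Nonempty (Over.mk t ⟶ M))
    (Θ : M.left.Modules) (hΘ : BunMod.IsThetaLB (X ↘ Spec (CommRingCat.of k))
      (BunMod.ussOK (X ↘ Spec (CommRingCat.of k)) r 0) φ N Θ)
    (J : Over (Spec (CommRingCat.of k))) (ψ₁ : (BunMod.USS (X ↘ Spec (CommRingCat.of k)) 1 0).Hom ⊤ J)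
    (hJ : BunMod.IsModSS (X ↘ Spec (CommRingCat.of k)) ⊤ 1 0 J ψ₁)
    (ΘJ : J.left.Modules) (hΘJ : BunMod.IsThetaLB (X ↘ Spec (CommRingCat.of k))
      (BunMod.ussOK (X ↘ Spec (CommRingCat.of k)) 1 0) ψ₁ N ΘJ)
    (dm : M ⟶ J)
    (hdet : ∀ (T : Over (Spec (CommRingCat.of k))) (E : (ModFun.modProb (X ↘ Spec (CommRingCat.of k))).Fam T),
      (BunMod.USS (X ↘ Spec (CommRingCat.of k)) r 0).ok T E →
        ∃ D : (ModFun.modProb (X ↘ Spec (CommRingCat.of k))).Fam T, (∃ n : ℕ, FlatMod.IsFinLocFreeOfRank n E ∧ ExtPow.IsExtPow n E D) ∧
          (BunMod.USS (X ↘ Spec (CommRingCat.of k)) 1 0).ok T D)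
    (hdm : ModFun.Induces φ ψ₁
      (fun T (E D : (ModFun.modProb (X ↘ Spec (CommRingCat.of k))).Fam T) => ∃ n : ℕ, FlatMod.IsFinLocFreeOfRank n E ∧ ExtPow.IsExtPow n E D) dm) :
    ∃ (s : ℕ) (P : Fin s → J.left.Modules),
      (∀ i, PicF.IsInvertible (P i) ∧ Nonempty (CohB1.tensorPow (P i) r ≅ Coh.structureModule J.left)) ∧
      Nonempty (((Scheme.Modules.pushforward dm.left).obj (CohB1.tensorPow Θ (m * r))) ≅
        ∐ fun i : Fin s => CohB1.tensorMod (CohB1.tensorPow ΘJ m) (P i)) := by
  exact K231.Rows.row16657 k X hdim g hg hg2 r hr m hm N hN hNdeg hNth M φ Θ hΘ.1 J ψ₁ hJ ΘJ hΘJ dm hdet hdm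
    (fun ψ _ _ hJac hΘJ' hdm' => K28.Rows.exists_str k X hdim g hg hg2 r hr N hN hNdeg M φ hM hne Θ hΘ J ψ hJac ΘJ hΘJ' dm hdm')

end Groth.Agent.S16657
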