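import Groth.Statements.S16659
import Groth.Agent.VBCurve.K658.BasePts
import Groth.Agent.VBCurve.K705.Setup
import Groth.Agent.JacVar.K533.CurveBasic
import Groth.Agent.VBCurve.K706.TensSS

set_option autoImplicit false
universe u
open CategoryTheory CategoryTheory.Limits AlgebraicGeometry
open VBCurve

namespace Groth.Agent.S16659

/-- Let k be an algebraically closed field of characteristic zero and X a smooth proper geometrically
connected curve over k (topological dimension one) of genus g ≥ 5. Then (i) there is a rank p such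
that for every r ≥ p there exists a slope-semistable finite locally free O_X-module E of rank r with
trivial determinant (some r-th exterior power of E is isomorphic to O_X) such that H^0(X, E ⊗ L') ≠
0 for every invertible O_X-module L' of degree g − 1; and (ii) for some rank r ≥ 2 there is such an
E which is moreover slope-stable. In terms of the moduli space SU_X(r) these say that the
determinant linear series has base points for all large r, some of them stable points for suitable
r. (The published statement is the base-point form and is asserted for every genus g ≥ 2; the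
bundles exhibited in the printed argument have slope at most g − 1, as required, only from genus 4
or 5 on, depending on the reading of an integer part, so this row assumes g ≥ 5. Degrees are χ −
rank · χ(O_X).) -/
theorem result (k : Type u) [Field k] [IsAlgClosed k] [CharZero k]
    (X : Scheme.{u}) [X.Over (Spec (CommRingCat.of k))]
    [IsProper (X ↘ Spec (CommRingCat.of k))] [Smooth (X ↘ Spec (CommRingCat.of k))]
    [GeometricallyConnected (X ↘ Spec (CommRingCat.of k))] (hdim : topologicalKrullDim ↥X = 1)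
    (g : ℕ) (hg : Curv2.genus k X = g) (hg5 : 5 ≤ g) :
    (∃ p : ℕ, ∀ r : ℕ, p ≤ r → ∃ E : X.Modules, FlatMod.IsFinLocFreeOfRank r E ∧ ModFun.IsSlopeSemistable k X E r ∧
        (∃ D : X.Modules, ExtPow.IsExtPow r E D ∧ Nonempty (D ≅ Coh.structureModule X)) ∧
        ∀ L' : X.Modules, PicF.IsInvertible L' → Curv2.deg k X L' 1 = (g : ℤ) - 1 →
          ¬ Subsingleton (Coh.HH X (CohB1.tensorMod E L') 0)) ∧
      ∃ (r : ℕ) (E : X.Modules), 2 ≤ r ∧ FlatMod.IsFinLocFreeOfRank r E ∧ ModFun.IsSlopeStable k X E r ∧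
        (∃ D : X.Modules, ExtPow.IsExtPow r E D ∧ Nonempty (D ≅ Coh.structureModule X)) ∧
        ∀ L' : X.Modules, PicF.IsInvertible L' → Curv2.deg k X L' 1 = (g : ℤ) - 1 →
          ¬ Subsingleton (Coh.HH X (CohB1.tensorMod E L') 0) := by
  have hint : IsIntegral X := K705.Setup.isIntegral_of_geomConn k X
  have C : K707.Base.Crv k X := K707.Base.Crv.of_smooth hdim
  have h0 := K533.CurveBasic.h0_one k X
  have hgen : (Curv2.genus k X : ℤ) = (K658.NoSec.Cd k hdim).g := rfl
  have hgg : (K658.NoSec.Cd k hdim).g = g := by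
    have : ((K658.NoSec.Cd k hdim).g : ℤ) = (g : ℤ) := by rw [← hgen, hg]
    exact_mod_cast this
  have hTP : ∀ E F : X.Modules, FlatMod.IsFinLocFree E → FlatMod.IsFinLocFree F → K707.Semi.SS k E →
      K707.Semi.SS k F → K707.Semi.SS k (CohB1.tensorMod E F) :=
    fun _ _ hE hF h h' => K706.TensSS.ss_tensor hdim hE hF h h'
  obtain ⟨E₀, hE₀⟩ := K658.BasePts.exists_good k hdim h0 (by omega) hgen hTP
  have sec : ∀ E : X.Modules, K658.NoSec.HasSec k hdim E → ∀ L' : X.Modules, PicF.IsInvertible L' →
      Curv2.deg k X L' 1 = (g : ℤ) - 1 → ¬ Subsingleton (Coh.HH X (CohB1.tensorMod E L') 0) := by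
    intro E hE L' hL' hd hsub
    refine hE (Additive.ofMul (Groth.Agent.Grpsch.PicGrp.mk L' hL')) ?_ ?_
    · rw [K658.NoSec.deg_cls, K707.Deg.dg_of_rank k (K707.TensL.rank_one_iff.mpr hL'), hd, hgg]
    · rw [K658.NoSec.noSec_iff]
      intro s
      exact (K704.HomK.homEquiv k (CohB1.tensorMod E L')).injective (Subsingleton.elim _ _)
  constructor
  · refine ⟨Groth.Agent.VarietyA.DegRank.rk E₀, fun r hr => ?_⟩
    obtain ⟨E₁, hE₁, hr₁⟩ := hE₀.exists_ge hdim (r - Groth.Agent.VarietyA.DegRank.rk E₀)
    have hr' : Groth.Agent.VarietyA.DegRank.rk E₁ = r := by omega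
    obtain ⟨N, hN, hdN, D, hD, hDO⟩ := K658.Stable.exists_trivDet hdim hE₁.vb hE₁.pos hE₁.dg
    have h2 := hE₁.twist hdim hN hdN
    obtain ⟨-, e2, -⟩ := K658.Stable.numbers_twist hdim hN hdN hE₁.vb
    have h3 := K707.Base.isFinLocFreeOfRank_rk h2.vb
    rw [e2, hr'] at h3
    rw [hr'] at hD
    exact ⟨_, h3, (K707.Semi.ss_iff C h3).mp h2.ss, ⟨D, hD, hDO⟩, sec _ h2.sec⟩
  · obtain ⟨E₁, hE₁, hst⟩ := K658.Stable.exists_stable hdim h0 hE₀
    obtain ⟨N, hN, hdN, D, hD, hDO⟩ := K658.Stable.exists_trivDet hdim hE₁.vb hE₁.pos hE₁.dg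
    have h2 := hE₁.twist hdim hN hdN
    obtain ⟨-, e2, -⟩ := K658.Stable.numbers_twist hdim hN hdN hE₁.vb
    have h3 := K707.Base.isFinLocFreeOfRank_rk h2.vb
    rw [e2] at h3
    exact ⟨_, _, hE₁.two_le hdim, h3,
      (K707.Semi.st_iff h3).mp (K658.Stable.st_twist hdim hN hE₁.vb hst), ⟨D, hD, hDO⟩, sec _ h2.sec⟩

end Groth.Agent.S16659
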