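import Groth.Statements.S16660
import Groth.Agent.BunMod.K596.JB
import Groth.Agent.BunMod.K429.Row660

set_option autoImplicit false
attribute [-instance] CategoryTheory.catToReflQuiver
universe u
open CategoryTheory CategoryTheory.Limits AlgebraicGeometry
open BunMod

namespace Groth.Agent.S16660

/-- Let k be an algebraically closed field of characteristic zero, X a smooth proper geometrically
connected curve over k (topological dimension one) of genus g ≥ 5, N an invertible O_X-module of
degree g − 1 and q ≥ 2 an integer. Then there is a rank p such that for every r ≥ p the following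
holds for the moduli space SU_X(r) of semistable bundles of rank r with trivial determinant — any
k-scheme M', with φ', corepresenting on all k-schemes the functor of families of slope-semistable
vector bundles of rank r with determinant identified with O_X modulo twisting from the base, whose
geometric points are the S-equivalence classes, and having a point over every algebraically closed
field — and for its determinant bundle Θ' (an invertible O_{M'}-module inverse to the ideal of the
theta locus of N): the base locus of Θ', the set of points of M' at which every global section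
O_{M'} → Θ' fails to generate (with the subspace topology), has topological Krull dimension at least
(q − 1)g. (The published statement is asserted for every genus g ≥ 2; as for part (a), the families
exhibited in the printed argument have the required slope only from genus 4 or 5 on, so this row
assumes g ≥ 5.) -/
theorem result (k : Type u) [Field k] [IsAlgClosed k] [CharZero k]
    (X : Scheme.{u}) [X.Over (Spec (CommRingCat.of k))]
    [IsProper (X ↘ Spec (CommRingCat.of k))] [Smooth (X ↘ Spec (CommRingCat.of k))]
    [GeometricallyConnected (X ↘ Spec (CommRingCat.of k))] (hdim : topologicalKrullDim ↥X = 1)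
    (g : ℕ) (hg : Curv2.genus k X = g) (hg5 : 5 ≤ g) (N : X.Modules) (hN : PicF.IsInvertible N) (hNdeg : Curv2.deg k X N 1 = (g : ℤ) - 1)
    (q : ℕ) (hq : 2 ≤ q) :
    ∃ p : ℕ, ∀ r : ℕ, p ≤ r →
      ∀ (M' : Over (Spec (CommRingCat.of k))) (φ' : (BunMod.USSdet (X ↘ Spec (CommRingCat.of k)) r (Coh.structureModule X)).Hom ⊤ M'),
        BunMod.IsModSSdet (X ↘ Spec (CommRingCat.of k)) ⊤ r (Coh.structureModule X) M' φ' →
        (∀ (Ω : Type u) [Field Ω] [IsAlgClosed Ω] (t : Spec (CommRingCat.of Ω) ⟶ Spec (CommRingCat.of k)),
          Nonempty (Over.mk t ⟶ M')) →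
        ∀ (Θ' : M'.left.Modules), BunMod.IsThetaLB (X ↘ Spec (CommRingCat.of k)) (BunMod.ussDetOK (X ↘ Spec (CommRingCat.of k)) r (Coh.structureModule X)) φ' N Θ' →
          (((q - 1) * g : ℕ) : WithBot ℕ∞) ≤
            topologicalKrullDim {x : ↥M'.left // ∀ s : Coh.structureModule M'.left ⟶ Θ', x ∉ CohB1.genLocus Θ' s} := by
  obtain ⟨J, _, _, ψ, hJ⟩ := Groth.Agent.BunMod.K957.ThetaLBJ.exists_jacobian k X hdim
  obtain ⟨ΘJ, hΘJ⟩ := Groth.Agent.BunMod.K957.ThetaLBJ.exists_thetaLB k X hdim g hg (by omega) N hN hNdeg J ψ hJ
  exact K429.Final.final k X hdim g hg (by omega) N hN hNdeg q (by omega) J ψ hJ ΘJ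
    (Groth.Agent.BunMod.K596.JB.ppav k X hdim g hg (by omega) N hN hNdeg J ψ hJ ΘJ hΘJ)
    (K429.Row660.hasU k X hdim g hg (by omega) N hN hNdeg J ψ hJ ΘJ hΘJ)

end Groth.Agent.S16660
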