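import Groth.Statements.S16663
import Groth.Agent.Conn.K892.Hom

set_option autoImplicit false
universe v u
open TensorProduct
open Conn

namespace Groth.Agent.S16663

/-- Let B be an A-algebra with a receptacle of differentials (Ω, δ), Ω a finite free B-module (the local
form of a weakly smooth scheme), and let M be a finitely ℤ-graded B-module presented as a finite
family of finite free B-modules M_i with integer degrees deg i (the local form of a graded vector
bundle), with total module Π_i M_i. Let ∇ be a connection on Π_i M_i preserving the grading, in the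
sense that (pr_j ⊗ 1)(∇(ι_i m)) = 0 for m ∈ M_i whenever deg i ≠ deg j, and let ∇_E be the induced
connection on the B-linear endomorphisms, the one with (ev_m ⊗ 1)(∇_E φ) = ∇(φ m) − (φ ⊗ 1)(∇ m).
Give B the connection b ↦ 1 ⊗ δ b. Then the supertrace, φ ↦ tr(ε ∘ φ) with ε = Σ_i (−1)^{deg i} ι_i
∘ pr_i the grading involution, is a horizontal map End_B(Π_i M_i) → B. -/
theorem result {A : Type v} {B Ω ι : Type u}
    [CommRing A] [CommRing B] [Algebra A B]
    [AddCommGroup Ω] [Module B Ω] [Module A Ω] [IsScalarTower A B Ω] [Module.Finite B Ω] [Module.Free B Ω]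
    [Fintype ι] [DecidableEq ι] (deg : ι → ℤ) (M : ι → Type u)
    [∀ i, AddCommGroup (M i)] [∀ i, Module B (M i)] [∀ i, Module A (M i)] [∀ i, IsScalarTower A B (M i)]
    [∀ i, Module.Free B (M i)] [∀ i, Module.Finite B (M i)]
    (δ : Derivation A B Ω) (nabla : (Π k, M k) →ₗ[A] (Π k, M k) ⊗[B] Ω) (hc : Conn.IsConn δ nabla)
    (hgr : ∀ i j : ι, deg i ≠ deg j → ∀ m : M i,
      TensorProduct.map (LinearMap.proj j : (Π k, M k) →ₗ[B] M j) LinearMap.id (nabla (LinearMap.single B M i m)) = 0)
    (nablaE : ((Π k, M k) →ₗ[B] (Π k, M k)) →ₗ[A] ((Π k, M k) →ₗ[B] (Π k, M k)) ⊗[B] Ω)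
    (hE : Conn.IsHomConn nabla nabla nablaE) :
    Conn.IsHorizontal nablaE (Conn.triv δ)
      (LinearMap.trace B (Π k, M k) ∘ₗ LinearMap.llcomp B (Π k, M k) (Π k, M k) (Π k, M k)
        (∑ i : ι, (LinearMap.single B M i) ∘ₗ (((-1 : B) ^ (deg i).natAbs) • (LinearMap.proj i : (Π k, M k) →ₗ[B] M i)))) := by
  rw [K892.Along.isHorizontal_iff]
  intro θ φ
  set ε : (Π k, M k) →ₗ[B] (Π k, M k) := ∑ i : ι, (LinearMap.single B M i) ∘ₗ
        (((-1 : B) ^ (deg i).natAbs) • (LinearMap.proj i : (Π k, M k) →ₗ[B] M i)) with hεdef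
  have hεx : ∀ (x : Π k, M k), ε x = ∑ i, (-1 : B) ^ (deg i).natAbs • LinearMap.single B M i (x i) := by
    intro x
    rw [hεdef, LinearMap.sum_apply]
    refine Finset.sum_congr rfl (fun i _ => ?_)
    rw [LinearMap.comp_apply, LinearMap.smul_apply, map_smul, LinearMap.proj_apply]
  have hεj : ∀ (x : Π k, M k) (j : ι), ε x j = (-1 : B) ^ (deg j).natAbs • x j := by
    intro x j
    rw [hεx, Finset.sum_apply, Finset.sum_eq_single j]
    · simp
    · intro i _ hij
      simp [hij.symm]
    · intro h
      exact absurd (Finset.mem_univ j) h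
  have hδ : ∀ k : ℕ, δ ((-1 : B) ^ k) = 0 := by
    intro k
    rcases Nat.even_or_odd k with h | h
    · rw [h.neg_one_pow, Derivation.map_one_eq_zero]
    · rw [h.neg_one_pow, Derivation.map_neg, Derivation.map_one_eq_zero, neg_zero]
  have hzero : ∀ (i j : ι), deg i ≠ deg j → ∀ m : M i,
      Conn.along nabla θ (LinearMap.single B M i m) j = 0 := by
    intro i j hij m
    have h := hgr i j hij m
    have h2 := congrArg (K892.Along.ev (M j) θ) h
    rw [K892.Along.ev_map, map_zero] at h2
    exact h2
  have hx : ∀ (x : Π k, M k) (j : ι), Conn.along nabla θ x j =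
      ∑ i, Conn.along nabla θ (LinearMap.single B M i (x i)) j := by
    intro x j
    have h1 : x = ∑ i, LinearMap.single B M i (x i) := by
      ext j
      rw [Finset.sum_apply, Finset.sum_eq_single j]
      · simp
      · intro i _ hij
        simp [hij.symm]
      · intro h
        exact absurd (Finset.mem_univ j) h
    conv_lhs => rw [h1, map_sum, Finset.sum_apply]
  have hcomm : ∀ x : Π k, M k, Conn.along nabla θ (ε x) = ε (Conn.along nabla θ x) := by
    intro x
    ext j
    rw [hεj, hεx, map_sum, Finset.sum_apply, hx x j, Finset.smul_sum]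
    refine Finset.sum_congr rfl (fun i _ => ?_)
    rw [K892.Along.along_smul δ hc, hδ, map_zero, zero_smul, add_zero, Pi.smul_apply]
    by_cases hij : deg i = deg j
    · rw [hij]
    · rw [hzero i j hij, smul_zero, smul_zero]
  have hεzero : Conn.along nablaE θ ε = 0 := by
    refine LinearMap.ext (fun x => ?_)
    rw [K892.Along.along_hom hE, hcomm, sub_self, LinearMap.zero_apply]
  rw [K892.Along.along_triv, LinearMap.comp_apply, LinearMap.comp_apply, LinearMap.llcomp_apply',
    LinearMap.llcomp_apply', ← K892.Hom.trace_along δ hc hE, K892.Hom.along_comp hE hE hE, hεzero,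
    LinearMap.zero_comp, zero_add]

end Groth.Agent.S16663
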