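import Groth.Statements.S16667
import Groth.Agent.Ega4dB.DepthReg

set_option autoImplicit false
universe u
open CAlg

namespace Groth.Agent.S16667

open Groth.Agent.Ega4dB.DepthReg in
/-- If `p` is an associated prime of `A/bA` with `b` a non-zero-divisor then `depth A_p = 1`. -/
theorem depth_eq_one {A : Type u} [CommRing A] [IsNoetherianRing A] (b : A)
    (hb : IsSMulRegular A b) (p : Ideal A) [p.IsPrime] (hp : p ∈ associatedPrimes A (QuotSMulTop b A)) :
    LocCoh.depth (Localization.AtPrime p) (Localization.AtPrime p) = 1 := by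
  have hbp : b ∈ p := by
    apply IsAssociatedPrime.annihilator_le hp
    rw [Submodule.mem_annihilator]
    intro x _
    obtain ⟨y, rfl⟩ := Submodule.mkQ_surjective _ x
    rw [← map_smul, Submodule.mkQ_apply, Submodule.Quotient.mk_eq_zero]
    exact Submodule.smul_mem_pointwise_smul _ _ _ trivial
  have h1 := idealDepth_quotSMulTop_add_one
    (IsLocalRing.maximalIdeal (Localization.AtPrime p)) (LocalizedModule p.primeCompl A)
    (x := algebraMap A (Localization.AtPrime p) b)
    ((IsLocalization.AtPrime.to_map_mem_maximal_iff _ p b).mpr hbp)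
    (hb.of_isLocalizedModule (Localization.AtPrime p) p.primeCompl
      (LocalizedModule.mkLinearMap p.primeCompl A))
  have h2 := (one_le_depth_localized_iff (QuotSMulTop b A) p).not.mpr (not_not.mpr hp)
  unfold LocCoh.depth at h2
  rw [← idealDepth_congr _ (localizedQuotSMulTopEquiv p.primeCompl A b), not_le, Order.lt_one_iff] at h2
  erw [h2, zero_add] at h1
  rw [h1, LocCoh.depth]

/-- Let A be a Noetherian integral domain satisfying Serre's condition (S_2), with fraction field K. An
element of K which lies in the localization A_p for every prime p of A with depth(A_p) = 1 lies in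
A. -/
theorem result {A : Type u} [CommRing A] [IsDomain A]
    [IsNoetherianRing A] (hS2 : LocCoh.HasSk 2 A A) (x : FractionRing A)
    (hx : ∀ (p : Ideal A) [p.IsPrime],
      LocCoh.depth (Localization.AtPrime p) (Localization.AtPrime p) = 1 →
        x ∈ Set.range (algebraMap (Localization.AtPrime p) (FractionRing A))) :
    x ∈ Set.range (algebraMap A (FractionRing A)) := by
  obtain ⟨a, b, hb, rfl⟩ := IsFractionRing.div_surjective (A := A) x
  have hb0 : b ≠ 0 := nonZeroDivisors.ne_zero hb
  by_contra hcon
  let M := QuotSMulTop b A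
  have hmem : ∀ c : A, (Submodule.Quotient.mk c : M) = 0 ↔ ∃ d, c = b * d := by
    intro c
    rw [Submodule.Quotient.mk_eq_zero, Submodule.mem_smul_pointwise_iff_exists]
    constructor
    · rintro ⟨d, -, hd⟩
      exact ⟨d, hd.symm⟩
    · rintro ⟨d, hd⟩
      exact ⟨d, trivial, hd.symm⟩
  have hne : (Submodule.Quotient.mk a : M) ≠ 0 := by
    intro h0
    obtain ⟨d, rfl⟩ := (hmem a).mp h0
    apply hcon
    refine ⟨d, ?_⟩
    have hb' : algebraMap A (FractionRing A) b ≠ 0 := by
      simpa using hb0
    rw [map_mul, mul_comm, mul_div_assoc, div_self hb', mul_one]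
  obtain ⟨p, hp, hle⟩ := exists_le_isAssociatedPrime_of_isNoetherianRing A _ hne
  have hpp : p.IsPrime := hp.isPrime
  obtain ⟨y, hy⟩ := hx p (depth_eq_one b (fun c d h => mul_left_cancel₀ hb0 h) p hp)
  obtain ⟨c, s, rfl⟩ := IsLocalization.exists_mk'_eq p.primeCompl y
  apply s.2
  apply hle
  rw [Submodule.mem_colon_singleton, Submodule.mem_bot]
  rw [← Submodule.Quotient.mk_smul, hmem]
  refine ⟨c, ?_⟩
  have hb' : algebraMap A (FractionRing A) b ≠ 0 := by
    simpa using hb0
  have h3 := congrArg (algebraMap (Localization.AtPrime p) (FractionRing A))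
    (IsLocalization.mk'_spec (Localization.AtPrime p) c s)
  rw [map_mul, hy, ← IsScalarTower.algebraMap_apply, ← IsScalarTower.algebraMap_apply,
    div_mul_eq_mul_div, div_eq_iff hb', ← map_mul, ← map_mul] at h3
  have h4 := IsFractionRing.injective A (FractionRing A) h3
  rw [smul_eq_mul, mul_comm _ a, h4, mul_comm]

end Groth.Agent.S16667
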