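import Groth.Statements.S16668
import Groth.Agent.Lef.K183.PowDepth
import Groth.Agent.Ega4dB.DepthExt2
import Groth.Agent.Grpsch.CMFibre
import Groth.Agent.S2611

set_option autoImplicit false
universe u
open CategoryTheory AlgebraicGeometry
open Lef

namespace Groth.Agent.S16668

/-- Let A be an excellent normal domain, J the radical ideal of A whose zero set is the set of
non-regular points of Spec A, and p a prime ideal of A generated by an A-regular sequence, such that
A/p is normal and ht(p) + ht(J) ≤ ht(p + J). Let U be an open subset of Spec A which contains every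
regular point of V(p) and whose complement consists of points of height at least 2. Then for every m
≥ 1 the restriction map from Γ(Spec(A/p^m), O) to the sections of O over the inverse image of U in
Spec(A/p^m) is bijective. (The published lemma asserts the corresponding bijection after p-adic
completion, for every finitely generated reflexive A-module in place of A; stated here, for A
itself, is the bijection at each finite level m which its proof establishes.) -/
theorem result
    (A : Type u) [CommRing A] [IsDomain A] [IsIntegrallyClosed A] (hA : EGA4.IsExcellent A)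
    (J : Ideal A) (hJrad : J.IsRadical)
    (hJ : ∀ x : PrimeSpectrum A, J ≤ x.asIdeal ↔ x ∉ EGA4.regLocus A)
    (p : Ideal A) [p.IsPrime] (rs : List A) (hrs : RingTheory.Sequence.IsRegular A rs)
    (hp : Ideal.ofList rs = p) (hnorm : IsIntegrallyClosed (A ⧸ p))
    (hht : p.height + J.height ≤ (p ⊔ J).height)
    (U : (Spec (CommRingCat.of A)).Opens)
    (hUreg : ∀ x : PrimeSpectrum A, p ≤ x.asIdeal → x ∈ EGA4.regLocus A → x ∈ U.1)
    (hUcodim : ∀ x : PrimeSpectrum A, x ∉ U.1 → (2 : ℕ∞) ≤ x.asIdeal.height)
    (m : ℕ) (hm : 1 ≤ m) :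
    Function.Bijective ((Spec (CommRingCat.of (A ⧸ p ^ m))).presheaf.map
      (homOfLE (le_top : Spec.map (CommRingCat.ofHom (Ideal.Quotient.mk (p ^ m))) ⁻¹ᵁ U ≤ ⊤)).op).hom := by
  have hN : IsNoetherianRing A := hA.1
  have hJht : (2 : ℕ∞) ≤ J.height := by
    rw [Ideal.height_eq_inf_minimalPrimes]
    refine le_iInf₂ (fun P hP => ?_)
    have hPp : P.IsPrime := hP.isPrime
    by_contra hlt
    have h1 : P.height ≤ 1 := Order.le_of_lt_add_one (by
      have : (2 : ℕ∞) = 1 + 1 := rfl
      rw [← this]; exact not_le.1 hlt)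
    have h2 : IsRegularLocalRing (Localization.AtPrime P) :=
      (Groth.Agent.S2611.normal_r1_s2 A).1 P h1
    exact (hJ ⟨P, hPp⟩).1 hP.1.2 h2
  have hN' : IsNoetherianRing (CommRingCat.of (A ⧸ p ^ m)) :=
    inferInstanceAs (IsNoetherianRing (A ⧸ p ^ m))
  refine Groth.Agent.Ega4dB.DepthExt2.res_bijective_of_le
    (X := Spec (CommRingCat.of (A ⧸ p ^ m))) le_top ?_
  intro x _ hx
  let Q : Ideal (A ⧸ p ^ m) := PrimeSpectrum.asIdeal x
  have hQp : Q.IsPrime := x.isPrime
  have hpQ : p ≤ Q.comap (Ideal.Quotient.mk (p ^ m)) := by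
    refine (Ideal.IsPrime.pow_le_iff (n := m) (by omega)).1 ?_
    intro y hy
    change Ideal.Quotient.mk (p ^ m) y ∈ Q
    rw [Ideal.Quotient.eq_zero_iff_mem.2 hy]
    exact Q.zero_mem
  let y : PrimeSpectrum A := ⟨Q.comap (Ideal.Quotient.mk (p ^ m)), inferInstance⟩
  have hyU : y ∉ U.1 := fun h => hx h
  have hyreg : y ∉ EGA4.regLocus A := fun h => hyU (hUreg y hpQ h)
  have hJy : J ≤ y.asIdeal := (hJ y).2 hyreg
  have hht' : p.height + 2 ≤ (Q.comap (Ideal.Quotient.mk (p ^ m))).height :=
    calc p.height + 2 ≤ p.height + J.height := by gcongr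
      _ ≤ (p ⊔ J).height := hht
      _ ≤ _ := Ideal.height_mono (sup_le hpQ hJy)
  have key := K183.PowDepth.two_le_depth_quotient_pow p rs hrs.toIsWeaklyRegular hp hnorm m Q hpQ hht'
  refine key.trans_eq ?_
  exact Groth.Agent.Grpsch.CMFibre.depth_eq_of_ringEquiv
    (StructureSheaf.stalkIso (A ⧸ p ^ m) x).toRingEquiv

end Groth.Agent.S16668
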