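import Groth.Statements.S16669
import Groth.Agent.Lef.K780.OpenFull
import Groth.Agent.Lef.K780.HomFull
import Groth.Agent.Lef.K780.OpenCodim
import Groth.Agent.S9806
import Groth.Agent.Dcoh.DualFLF
import Groth.Agent.PerfA.CohSerre

set_option autoImplicit false
universe u
open CategoryTheory CategoryTheory.Limits AlgebraicGeometry TopologicalSpace
open Lef

namespace Groth.Agent.S16669

/-- Let k be a field and X an integral normal proper k-scheme of dimension d ≥ 3 carrying an ample
invertible module L, and let s be a global section of L whose zero scheme Y is integral and normal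
of dimension d - 1, is regular at every point where X is regular, and contains no irreducible
component of the non-regular locus of X. Let X° be the open subscheme of regular points of X and Y°
= Y ∩ X°. Then the Lefschetz condition Lef(X°, Y°) holds: for every open U of X° containing Y° and
every finite locally free O_U-module D, the map Hom(D, O_U) → lim_n Hom(D, O_U/I^{n+1}) is
bijective, where I is the ideal of Y° in U. (The published statement takes X ⊂ P^N_k projective and
Y cut out by e = codim(Y, X) general hypersurfaces meeting the singular locus properly; here only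
the case e = 1 is treated, Y is allowed to be the zero scheme of any global section of any ample
invertible module on a proper X, which is wider, and the generality of the hypersurface is replaced
by the listed properties of Y.) -/
theorem result
    (k : Type u) [Field k] (X : Scheme.{u}) (f : X ⟶ Spec (CommRingCat.of k)) [IsProper f]
    [IsIntegral X] (hXn : Pi1.IsNormalScheme X)
    (d : ℕ) (hd : topologicalKrullDim X = d) (h3 : 3 ≤ d)
    (L : X.Modules) (hL : CohB1.IsAmple L) (s : Coh.structureModule X ⟶ L)
    [IsIntegral (PicF2.zeroScheme L s).subscheme]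
    (hYn : Pi1.IsNormalScheme (PicF2.zeroScheme L s).subscheme)
    (hYdim : topologicalKrullDim (PicF2.zeroScheme L s).subscheme = (d - 1 : ℕ))
    (Xreg : X.Opens) (hXreg : ∀ x : X, x ∈ Xreg ↔ IsRegularLocalRing (X.presheaf.stalk x))
    (hYreg : ∀ y : (PicF2.zeroScheme L s).subscheme, (PicF2.zeroScheme L s).subschemeι.base y ∈ Xreg →
      IsRegularLocalRing ((PicF2.zeroScheme L s).subscheme.presheaf.stalk y))
    (hYsing : ∀ Z ∈ irreducibleComponents {x : X // x ∉ Xreg},
      ¬ (Subtype.val '' Z ⊆ ((PicF2.zeroScheme L s).support : Set X))) :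
    Lef.LefCond (Xreg : Scheme.{u}) ((PicF2.zeroScheme L s).comap Xreg.ι) := by
  intro V hV D hD
  obtain ⟨D', ⟨hDD'⟩⟩ := Groth.Agent.Dcoh.DualFLF.exists_exactPairing hD
  have hD' : FlatMod.IsFinLocFree D' := Groth.Agent.Dcoh.DualFLF.isFinLocFree_dual hD D'
  have hcoh : Coh.IsCoh D' := Groth.Agent.PerfA.CohSerre.isCoh_of_isFinLocFree hD'
  have hrefl : ∀ x : (V : Scheme.{u}), Module.IsReflexive ((V : Scheme.{u}).presheaf.stalk x)
      (D'.presheaf.stalk x) := by
    intro x
    have h1 := ((Groth.Agent.S9806.result _ D' hcoh.1).2 hD').2 x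
    have h2 := Groth.Agent.Fdesc.FinStalk.finite_stalk_of_isCoh D' hcoh x
    infer_instance
  rw [← Scheme.IdealSheafData.comap_comp]
  apply K780.HomFull.homToFormalBijective_of_full _ D D'
  have hmem : ∀ x : X, x ∈ (PicF2.zeroScheme L s).support → x ∈ Xreg →
      x ∈ Set.range (V.ι ≫ Xreg.ι).base := by
    intro x hx hxr
    have h1 : (⟨x, hxr⟩ : (Xreg : Scheme.{u})) ∈ (V : Set (Xreg : Scheme.{u})) := by
      apply hV
      rw [Scheme.IdealSheafData.support_comap]
      exact hx
    exact ⟨⟨⟨x, hxr⟩, h1⟩, rfl⟩
  have key := K780.OpenFull.full_open k X f hXn d hd h3 L hL s hYn hYdim (V : Scheme.{u}) (V.ι ≫ Xreg.ι)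
    (fun x hx hr => hmem x hx ((hXreg x).2 hr))
    (fun x hx => K780.OpenCodim.two_le_of_nhd f hXn d hd h3 hL s Xreg hXreg hYsing
      (V.ι ≫ Xreg.ι).opensRange hmem x hx)
    D' hcoh hrefl
  exact key.of_iso _ (Iso.refl D')

end Groth.Agent.S16669
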