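import Groth.Statements.S16670
import Groth.Agent.Lef.K780.OpenFull

set_option autoImplicit false
universe u
open CategoryTheory CategoryTheory.Limits AlgebraicGeometry TopologicalSpace
open Lef

namespace Groth.Agent.S16670

/-- Let k be a field, X an integral normal proper k-scheme of dimension d ≥ 3 carrying an ample
invertible module L, and s a global section of L whose zero scheme Y is integral and normal of
dimension d - 1, is regular at every point where X is regular, and contains no irreducible component
of the non-regular locus of X. Let j : U → X be an open immersion whose image contains every regular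
point of X lying on Y and whose complement consists of points with local rings of dimension at least
2, and let E be a coherent O_U-module all of whose stalks are reflexive. Let 𝓙 be the ideal of Y ×_X
U in U and U_n the closed subscheme defined by 𝓙^(n+1), with inclusion ι_n. Then the canonical map
Γ(U, E) → lim_n Γ(U_n, E|_{U_n}) is bijective; here Γ(U_n, E|_{U_n}) is written as the global
sections of ι_n,* ι_n^* E, the map from Γ(U, E) is induced by the units E → ι_n,* ι_n^* E, and the
transition maps come from the units of the inclusions U_n → U_(n+1) together with the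
identifications of the formal-completion system. (The published statement takes X ⊂ P^N_k projective
and Y cut out by e = codim(Y, X) general hypersurfaces; here only the case e = 1 is treated, Y is
allowed to be the zero scheme of any global section of any ample invertible module on a proper X,
which is wider, and the generality of the hypersurfaces is replaced by the listed properties of Y.) -/
theorem result
    (k : Type u) [Field k] (X : Scheme.{u}) (f : X ⟶ Spec (CommRingCat.of k)) [IsProper f]
    [IsIntegral X] (hXn : Pi1.IsNormalScheme X)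
    (d : ℕ) (hd : topologicalKrullDim X = d) (h3 : 3 ≤ d)
    (L : X.Modules) (hL : CohB1.IsAmple L) (s : Coh.structureModule X ⟶ L)
    [IsIntegral (PicF2.zeroScheme L s).subscheme]
    (hYn : Pi1.IsNormalScheme (PicF2.zeroScheme L s).subscheme)
    (hYdim : topologicalKrullDim (PicF2.zeroScheme L s).subscheme = (d - 1 : ℕ))
    (hYreg : ∀ y : (PicF2.zeroScheme L s).subscheme,
      IsRegularLocalRing (X.presheaf.stalk ((PicF2.zeroScheme L s).subschemeι.base y)) →
        IsRegularLocalRing ((PicF2.zeroScheme L s).subscheme.presheaf.stalk y))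
    (hYsing : ∀ Z ∈ irreducibleComponents {x : X // ¬ IsRegularLocalRing (X.presheaf.stalk x)},
      ¬ (Subtype.val '' Z ⊆ ((PicF2.zeroScheme L s).support : Set X)))
    (U : Scheme.{u}) (j : U ⟶ X) [IsOpenImmersion j]
    (hUY : ∀ x : X, x ∈ ((PicF2.zeroScheme L s).support : Set X) → IsRegularLocalRing (X.presheaf.stalk x) →
      x ∈ Set.range j.base)
    (hUcodim : ∀ x : X, x ∉ Set.range j.base → (2 : WithBot ℕ∞) ≤ ringKrullDim (X.presheaf.stalk x))
    (E : U.Modules) (hE : Coh.IsCoh E)
    (hEr : ∀ x : U, Module.IsReflexive (U.presheaf.stalk x) (E.presheaf.stalk x))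
    (𝓙 : U.IdealSheafData) (h𝓙 : 𝓙 = (PicF2.zeroScheme L s).comap j) :
    (∀ σ : (Scheme.Modules.presheaf E).obj (Opposite.op ⊤),
      (∀ n : ℕ, Scheme.Modules.Hom.app ((Scheme.Modules.pullbackPushforwardAdjunction (FSch.completionToX U 𝓙 n)).unit.app E) ⊤ σ = 0) → σ = 0) ∧
    (∀ y : (∀ n : ℕ, (Scheme.Modules.presheaf ((Scheme.Modules.pushforward (FSch.completionToX U 𝓙 n)).obj ((FSch.completionMod 𝓙 E).F n))).obj (Opposite.op ⊤)),
      (∀ n : ℕ, Scheme.Modules.Hom.app
          ((Scheme.Modules.pushforward (FSch.completionToX U 𝓙 (n + 1))).map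
            ((Scheme.Modules.pullbackPushforwardAdjunction ((FSch.completionAlong U 𝓙).ι n)).unit.app ((FSch.completionMod 𝓙 E).F (n + 1))) ≫
          (Scheme.Modules.pushforwardComp ((FSch.completionAlong U 𝓙).ι n) (FSch.completionToX U 𝓙 (n + 1))).hom.app ((Scheme.Modules.pullback ((FSch.completionAlong U 𝓙).ι n)).obj ((FSch.completionMod 𝓙 E).F (n + 1))) ≫
          (Scheme.Modules.pushforwardCongr (Scheme.IdealSheafData.inclusion_subschemeι (FSch.pow_succ_le U 𝓙 n))).hom.app ((Scheme.Modules.pullback ((FSch.completionAlong U 𝓙).ι n)).obj ((FSch.completionMod 𝓙 E).F (n + 1))) ≫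
          (Scheme.Modules.pushforward (FSch.completionToX U 𝓙 n)).map ((FSch.completionMod 𝓙 E).e n).hom) ⊤ (y (n + 1)) = y n) →
        ∃ σ : (Scheme.Modules.presheaf E).obj (Opposite.op ⊤),
          ∀ n : ℕ, Scheme.Modules.Hom.app ((Scheme.Modules.pullbackPushforwardAdjunction (FSch.completionToX U 𝓙 n)).unit.app E) ⊤ σ = y n) := by
  subst h𝓙
  have key := K780.OpenFull.full_open k X f hXn d hd h3 L hL s hYn hYdim U j hUY hUcodim E hE hEr
  refine ⟨fun σ hσ => key.inj σ hσ, fun y hy => ?_⟩
  exact key.surj y ((K780.SectBij.isFam_canSys_iff _ hE.1 ⊤ y).2 hy)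

end Groth.Agent.S16670
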