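import Groth.Statements.S16672
import Groth.Agent.Lef.K780.SectBij

set_option autoImplicit false
universe u
open CategoryTheory CategoryTheory.Limits AlgebraicGeometry TopologicalSpace
open Lef

namespace Groth.Agent.S16672

/-- Let X be an integral normal scheme whose affine opens have excellent coordinate rings, 𝓘 a
quasi-coherent ideal which is locally generated by a regular sequence and whose closed subscheme Y
is integral and normal, U an open subset of X containing every point of Y at which X is regular and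
such that the local ring of X at every point outside U has dimension at least 2, and E a coherent
O_X-module all of whose stalks are reflexive. Write Y_n for the closed subscheme of 𝓘^(n+1) with
inclusion ι_n, and E_n = ι_n^* E. Then restriction from X to U induces a bijection between
compatible families (σ_n ∈ Γ(Y_n, E_n))_n and compatible families (σ_n ∈ Γ(U ∩ Y_n, E_n))_n, i.e.
between the global sections of the completion of E along Y and those of the completion of E|_U along
U ∩ Y: a compatible family vanishing on U is zero, and every compatible family over U extends.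
Sections of E_n over Y_n, resp. U ∩ Y_n, are written as sections of ι_n,* ι_n^* E over X, resp. U,
and the transition maps come from the units of the inclusions Y_n → Y_(n+1) together with the
identifications of the formal-completion system. -/
theorem result
    (X : Scheme.{u}) [IsIntegral X] (hXn : Pi1.IsNormalScheme X)
    (hexc : ∀ V : X.affineOpens, EGA4.IsExcellent Γ(X, V.1))
    (𝓘 : X.IdealSheafData) (hreg : RegImm.IsRegularIdeal RegImm.Kind.regular 𝓘)
    [IsIntegral 𝓘.subscheme] (hYn : Pi1.IsNormalScheme 𝓘.subscheme)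
    (U : X.Opens)
    (hUY : ∀ x : X, x ∈ (𝓘.support : Set X) → IsRegularLocalRing (X.presheaf.stalk x) → x ∈ U)
    (hUcodim : ∀ x : X, x ∉ U → (2 : WithBot ℕ∞) ≤ ringKrullDim (X.presheaf.stalk x))
    (E : X.Modules) (hE : Coh.IsCoh E)
    (hEr : ∀ x : X, Module.IsReflexive (X.presheaf.stalk x) (E.presheaf.stalk x)) :
    (∀ y : (∀ n : ℕ, (Scheme.Modules.presheaf ((Scheme.Modules.pushforward (FSch.completionToX X 𝓘 n)).obj ((FSch.completionMod 𝓘 E).F n))).obj (Opposite.op ⊤)),
      (∀ n : ℕ, Scheme.Modules.Hom.app (((Scheme.Modules.pushforward (FSch.completionToX X 𝓘 (n + 1))).map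
            ((Scheme.Modules.pullbackPushforwardAdjunction ((FSch.completionAlong X 𝓘).ι n)).unit.app ((FSch.completionMod 𝓘 E).F (n + 1))) ≫
          (Scheme.Modules.pushforwardComp ((FSch.completionAlong X 𝓘).ι n) (FSch.completionToX X 𝓘 (n + 1))).hom.app ((Scheme.Modules.pullback ((FSch.completionAlong X 𝓘).ι n)).obj ((FSch.completionMod 𝓘 E).F (n + 1))) ≫
          (Scheme.Modules.pushforwardCongr (Scheme.IdealSheafData.inclusion_subschemeι (FSch.pow_succ_le X 𝓘 n))).hom.app ((Scheme.Modules.pullback ((FSch.completionAlong X 𝓘).ι n)).obj ((FSch.completionMod 𝓘 E).F (n + 1))) ≫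
          (Scheme.Modules.pushforward (FSch.completionToX X 𝓘 n)).map ((FSch.completionMod 𝓘 E).e n).hom)) ⊤ (y (n + 1)) = y n) →
      (∀ n : ℕ, (Scheme.Modules.presheaf ((Scheme.Modules.pushforward (FSch.completionToX X 𝓘 n)).obj ((FSch.completionMod 𝓘 E).F n))).map (homOfLE (le_top : U ≤ ⊤)).op (y n) = 0) →
        ∀ n : ℕ, y n = 0) ∧
    (∀ z : (∀ n : ℕ, (Scheme.Modules.presheaf ((Scheme.Modules.pushforward (FSch.completionToX X 𝓘 n)).obj ((FSch.completionMod 𝓘 E).F n))).obj (Opposite.op U)),
      (∀ n : ℕ, Scheme.Modules.Hom.app (((Scheme.Modules.pushforward (FSch.completionToX X 𝓘 (n + 1))).map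
            ((Scheme.Modules.pullbackPushforwardAdjunction ((FSch.completionAlong X 𝓘).ι n)).unit.app ((FSch.completionMod 𝓘 E).F (n + 1))) ≫
          (Scheme.Modules.pushforwardComp ((FSch.completionAlong X 𝓘).ι n) (FSch.completionToX X 𝓘 (n + 1))).hom.app ((Scheme.Modules.pullback ((FSch.completionAlong X 𝓘).ι n)).obj ((FSch.completionMod 𝓘 E).F (n + 1))) ≫
          (Scheme.Modules.pushforwardCongr (Scheme.IdealSheafData.inclusion_subschemeι (FSch.pow_succ_le X 𝓘 n))).hom.app ((Scheme.Modules.pullback ((FSch.completionAlong X 𝓘).ι n)).obj ((FSch.completionMod 𝓘 E).F (n + 1))) ≫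
          (Scheme.Modules.pushforward (FSch.completionToX X 𝓘 n)).map ((FSch.completionMod 𝓘 E).e n).hom)) U (z (n + 1)) = z n) →
        ∃ y : (∀ n : ℕ, (Scheme.Modules.presheaf ((Scheme.Modules.pushforward (FSch.completionToX X 𝓘 n)).obj ((FSch.completionMod 𝓘 E).F n))).obj (Opposite.op ⊤)),
          (∀ n : ℕ, Scheme.Modules.Hom.app (((Scheme.Modules.pushforward (FSch.completionToX X 𝓘 (n + 1))).map
            ((Scheme.Modules.pullbackPushforwardAdjunction ((FSch.completionAlong X 𝓘).ι n)).unit.app ((FSch.completionMod 𝓘 E).F (n + 1))) ≫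
          (Scheme.Modules.pushforwardComp ((FSch.completionAlong X 𝓘).ι n) (FSch.completionToX X 𝓘 (n + 1))).hom.app ((Scheme.Modules.pullback ((FSch.completionAlong X 𝓘).ι n)).obj ((FSch.completionMod 𝓘 E).F (n + 1))) ≫
          (Scheme.Modules.pushforwardCongr (Scheme.IdealSheafData.inclusion_subschemeι (FSch.pow_succ_le X 𝓘 n))).hom.app ((Scheme.Modules.pullback ((FSch.completionAlong X 𝓘).ι n)).obj ((FSch.completionMod 𝓘 E).F (n + 1))) ≫
          (Scheme.Modules.pushforward (FSch.completionToX X 𝓘 n)).map ((FSch.completionMod 𝓘 E).e n).hom)) ⊤ (y (n + 1)) = y n) ∧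
          (∀ n : ℕ, (Scheme.Modules.presheaf ((Scheme.Modules.pushforward (FSch.completionToX X 𝓘 n)).obj ((FSch.completionMod 𝓘 E).F n))).map (homOfLE (le_top : U ≤ ⊤)).op (y n) = z n)) := by
  have hN : IsLocallyNoetherian X := ⟨fun V => (hexc V).1⟩
  have key := K780.SectBij.bij 𝓘 hreg hYn hE hEr (K780.SectBij.canSys 𝓘 hE.1) hUY (le_top : U ≤ ⊤)
  refine ⟨fun y hy hy0 => ?_, fun z hz => ?_⟩
  · exact key.inj y ((K780.SectBij.isFam_canSys_iff 𝓘 hE.1 ⊤ y).2 hy) hy0
  · obtain ⟨y, hy, hyz⟩ := key.surj z ((K780.SectBij.isFam_canSys_iff 𝓘 hE.1 U z).2 hz)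
    exact ⟨y, (K780.SectBij.isFam_canSys_iff 𝓘 hE.1 ⊤ y).1 hy, hyz⟩

end Groth.Agent.S16672
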