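-- Statement S16673: AbVar.pRank_eq_of_isogeny
import Groth.Statements.S16673
import Groth.Agent.AbVar.K521.GeomPts
import Mathlib.GroupTheory.Index
import Mathlib.SetTheory.Cardinal.Finite
import Mathlib.FieldTheory.IsAlgClosed.AlgebraicClosure

set_option autoImplicit false
universe u
open CategoryTheory CategoryTheory.Limits MonoidalCategory CartesianMonoidalCategory MonObj GrpObj AlgebraicGeometry
open AbVar

namespace Groth.Agent.S16673

section GroupTheory

variable {G H : Type*} [CommGroup G] [CommGroup H]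

theorem finite_of_ker_of_range {A B : Type*} [Group A] [Group B] (ψ : A →* B) [Finite ψ.ker] [Finite B] :
    Finite A := by
  have h1 : ψ.ker.FiniteIndex := by
    constructor
    rw [Subgroup.index_ker]
    exact Nat.card_pos.ne'
  have : Finite (A ⧸ ψ.ker) := Subgroup.finite_quotient_of_finiteIndex
  exact Finite.of_equiv _ (Subgroup.groupEquivQuotientProdSubgroup (s := ψ.ker)).symm

theorem card_le_ker_mul {A B : Type*} [Group A] [Group B] (ψ : A →* B) [Finite ψ.ker] [Finite B] :
    Nat.card A ≤ Nat.card ψ.ker * Nat.card B := by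
  rw [← Subgroup.card_mul_index ψ.ker, Subgroup.index_ker]
  exact Nat.mul_le_mul_left _ (Nat.card_le_card_of_injective _ Subtype.val_injective)

/-- `G[n]` -/
abbrev tors (G : Type*) [CommGroup G] (n : ℕ) : Subgroup G := (powMonoidHom n : G →* G).ker

theorem card_tors_le (φ : G →* H) [Finite φ.ker] (n : ℕ) [Finite (tors H n)] :
    Nat.card (tors G n) ≤ Nat.card φ.ker * Nat.card (tors H n) := by
  let ψ : tors G n →* tors H n := (φ.comp (tors G n).subtype).codRestrict (tors H n) (fun x => by
    have := x.2
    simp only [tors, MonoidHom.mem_ker, powMonoidHom_apply] at this ⊢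
    change φ x.1 ^ n = 1
    rw [← map_pow, this, map_one])
  let j : ψ.ker → φ.ker := fun x => ⟨x.1.1, by
    have := x.2
    rw [MonoidHom.mem_ker] at this
    exact congrArg Subtype.val this⟩
  have hj : Function.Injective j := by
    intro a b hab
    have h1 : (j a).1 = (j b).1 := by rw [hab]
    exact Subtype.ext (Subtype.ext h1)
  have : Finite ψ.ker := Finite.of_injective j hj
  exact (card_le_ker_mul ψ).trans (Nat.mul_le_mul_right _ (Nat.card_le_card_of_injective j hj))

theorem card_tors_le' (φ : G →* H) (hφ : Function.Surjective φ) [Finite φ.ker] (n : ℕ) [Finite (tors G n)] :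
    Nat.card (tors H n) ≤ Nat.card φ.ker * Nat.card (tors G n) := by
  let S : Subgroup G := (tors H n).comap φ
  have hS : ∀ x : S, (x.1 ^ n) ∈ φ.ker := by
    intro x
    have h := x.2
    have h' : φ x.1 ^ n = 1 := h
    rw [MonoidHom.mem_ker, map_pow, h']
  let ψ : S →* φ.ker := ((powMonoidHom n : G →* G).comp S.subtype).codRestrict φ.ker hS
  let j : ψ.ker → tors G n := fun x => ⟨x.1.1, by
    have := x.2
    rw [MonoidHom.mem_ker] at this
    exact congrArg Subtype.val this⟩
  have hj : Function.Injective j := by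
    intro a b hab
    have h1 : (j a).1 = (j b).1 := by rw [hab]
    exact Subtype.ext (Subtype.ext h1)
  have : Finite ψ.ker := Finite.of_injective j hj
  have h1 := card_le_ker_mul ψ
  have h2 : Nat.card ψ.ker ≤ Nat.card (tors G n) := Nat.card_le_card_of_injective j hj
  have hfin : Finite S := finite_of_ker_of_range ψ
  let q : S → tors H n := fun x => ⟨φ x.1, x.2⟩
  have hq : Function.Surjective q := by
    intro y
    obtain ⟨x, hx⟩ := hφ y.1
    exact ⟨⟨x, by change φ x ∈ tors H n; rw [hx]; exact y.2⟩, Subtype.ext hx⟩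
  have h3 : Nat.card (tors H n) ≤ Nat.card S := Nat.card_le_card_of_surjective q hq
  calc Nat.card (tors H n) ≤ Nat.card S := h3
    _ ≤ Nat.card ψ.ker * Nat.card φ.ker := h1
    _ ≤ Nat.card (tors G n) * Nat.card φ.ker := Nat.mul_le_mul_right _ h2
    _ = _ := Nat.mul_comm _ _

end GroupTheory

theorem le_of_pow_le (p N i j : ℕ) (hp : 2 ≤ p) (h : ∀ m : ℕ, (p ^ m) ^ i ≤ N * (p ^ m) ^ j) : i ≤ j := by
  by_contra hlt
  push Not at hlt
  obtain ⟨d, rfl⟩ := Nat.exists_eq_add_of_lt hlt
  have h1 : ∀ m : ℕ, p ^ m ≤ N := by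
    intro m
    have hpos : 0 < (p ^ m) ^ j := by positivity
    have h2 := h m
    have h3 : (p ^ m) * (p ^ m) ^ j ≤ (p ^ m) ^ (j + d + 1) := by
      rw [← pow_succ']
      exact Nat.pow_le_pow_right (by positivity) (by omega)
    exact Nat.le_of_mul_le_mul_right (h3.trans h2) hpos
  have h2 : N < p ^ N := Nat.lt_pow_self (by omega)
  exact absurd (h1 N) (not_le.2 h2)

/-- Let k be a field of characteristic p > 0 with an algebraic closure k̄, let X and Y be abelian
varieties over k (proper, geometrically integral, commutative k-group schemes) and let h : X → Y be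
a homomorphism which is finite and surjective (an isogeny). If i and j are natural numbers such that
for every m ≥ 0 the group X[p^m](k̄) of k̄-valued points of X killed by p^m (k̄-valued points being
the k-morphisms Spec k̄ → X, a group under the group law of X) is isomorphic to (ℤ/p^m)^i and the
group Y[p^m](k̄) is isomorphic to (ℤ/p^m)^j (groups of points written multiplicatively), then i = j:
the p-rank is an isogeny invariant. -/
theorem result (k : Type u) [Field k] (p : ℕ) [Fact p.Prime] [CharP k p]
    (X Y : Over (Spec (CommRingCat.of k)))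
    [GrpObj X] [IsCommMonObj X] [IsProper X.hom] [GeometricallyIntegral X.hom]
    [GrpObj Y] [IsCommMonObj Y] [IsProper Y.hom] [GeometricallyIntegral Y.hom]
    (h : X ⟶ Y) [IsMonHom h] [IsFinite h.left] [Surjective h.left]
    (i j : ℕ)
    (hi : ∀ m : ℕ, Nonempty (AbDual.torsPts X (p ^ m)
      (Over.mk (Spec.map (CommRingCat.ofHom (algebraMap k (AlgebraicClosure k))))) ≃*
      Multiplicative (Fin i → ZMod (p ^ m))))
    (hj : ∀ m : ℕ, Nonempty (AbDual.torsPts Y (p ^ m)
      (Over.mk (Spec.map (CommRingCat.ofHom (algebraMap k (AlgebraicClosure k))))) ≃*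
      Multiplicative (Fin j → ZMod (p ^ m)))) :
    i = j := by
  have hp : 2 ≤ p := (Fact.out : p.Prime).two_le
  let T : Over (Spec (CommRingCat.of k)) :=
    Over.mk (Spec.map (CommRingCat.ofHom (algebraMap k (AlgebraicClosure k))))
  let φ : (T ⟶ X) →* (T ⟶ Y) := K521.GeomPts.post h T
  have hsurj : Function.Surjective φ := fun b =>
    K521.GeomPts.exists_lift_over (Ω := AlgebraicClosure k) h _ b
  have hker : Finite φ.ker := by
    have h1 := K521.GeomPts.finite_lifts_over (Ω := AlgebraicClosure k) h
      (Spec.map (CommRingCat.ofHom (algebraMap k (AlgebraicClosure k)))) (1 : T ⟶ Y)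
    exact Finite.of_injective (β := {a : T ⟶ X // a ≫ h = 1}) (fun a => ⟨a.1, a.2⟩)
      (fun a b hab => Subtype.ext (congrArg Subtype.val hab))
  have hne : ∀ m : ℕ, NeZero (p ^ m) := fun m => ⟨pow_ne_zero m (by omega)⟩
  have cX : ∀ m : ℕ, Nat.card (tors (T ⟶ X) (p ^ m)) = (p ^ m) ^ i := by
    intro m
    obtain ⟨e⟩ := hi m
    have h1 := Nat.card_congr e.toEquiv
    have := hne m
    rw [Nat.card_congr (Multiplicative.toAdd (α := Fin i → ZMod (p ^ m))), Nat.card_pi] at h1
    refine Eq.trans h1 ?_
    simp
  have cY : ∀ m : ℕ, Nat.card (tors (T ⟶ Y) (p ^ m)) = (p ^ m) ^ j := by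
    intro m
    obtain ⟨e⟩ := hj m
    have h1 := Nat.card_congr e.toEquiv
    have := hne m
    rw [Nat.card_congr (Multiplicative.toAdd (α := Fin j → ZMod (p ^ m))), Nat.card_pi] at h1
    refine Eq.trans h1 ?_
    simp
  have fX : ∀ m : ℕ, Finite (tors (T ⟶ X) (p ^ m)) := by
    intro m
    apply Nat.finite_of_card_ne_zero
    rw [cX]; positivity
  have fY : ∀ m : ℕ, Finite (tors (T ⟶ Y) (p ^ m)) := by
    intro m
    apply Nat.finite_of_card_ne_zero
    rw [cY]; positivity
  refine le_antisymm (le_of_pow_le p (Nat.card φ.ker) i j hp fun m => ?_)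
    (le_of_pow_le p (Nat.card φ.ker) j i hp fun m => ?_)
  · have := fY m
    rw [← cX, ← cY]
    exact card_tors_le φ (p ^ m)
  · have := fX m
    rw [← cX, ← cY]
    exact card_tors_le' φ hsurj (p ^ m)

end Groth.Agent.S16673
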