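import Groth.Statements.S16674
import Groth.Agent.S4113
import Mathlib.RingTheory.Unramified.Finite

set_option autoImplicit false
universe u
open CartDual

namespace Groth.Agent.S16674

section

open TensorProduct

/-- An étale algebra over a field with an augmentation has an idempotent spanning the annihilator of the
augmentation ideal. -/
theorem exists_integral (k : Type u) [Field k] (A : Type u) [CommRing A] [Algebra k A] [Module.Finite k A]
    [Algebra.Etale k A] (ε : A →ₐ[k] k) : ∃ e : A, (∀ a : A, a * e = ε a • e) ∧ ε e = 1 := by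
  obtain ⟨t, ht, ht1⟩ := (Algebra.FormallyUnramified.iff_exists_tensorProduct (R := k) (S := A)).1 inferInstance
  let φ : A ⊗[k] A →ₐ[k] A := Algebra.TensorProduct.lift ((Algebra.ofId k A).comp ε) (AlgHom.id k A)
    (fun _ _ => Commute.all _ _)
  have hφ : ∀ x y : A, φ (x ⊗ₜ y) = ε x • y := by
    intro x y
    simp [φ, Algebra.smul_def, Algebra.ofId_apply]
  refine ⟨φ t, ?_, ?_⟩
  · intro a
    have h := congrArg φ (ht a)
    rw [map_mul, map_sub, hφ, hφ, map_one, one_smul, map_zero, sub_mul, sub_eq_zero] at h
    rw [h, Algebra.smul_mul_assoc, one_mul]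
  · have h : ε.comp φ = ε.comp (Algebra.TensorProduct.lmul' k (S := A)) := by
      ext x
      · simp [hφ]
      · simp [hφ]
    have h2 := congrArg (fun f : A ⊗[k] A →ₐ[k] k => f t) h
    simp only [AlgHom.comp_apply] at h2
    rw [h2, ht1, map_one]

theorem mul'_tmul_trace (k : Type u) [Field k] (A : Type u) [CommRing A] [HopfAlgebra k A] [Module.Finite k A]
    (t : A ⊗[k] A) : Algebra.trace A (A ⊗[k] A) t =
      LinearMap.mul' k A (TensorProduct.map LinearMap.id (Algebra.linearMap k A ∘ₗ Algebra.trace k A) t) := by
  induction t using TensorProduct.induction_on with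
  | zero => simp
  | add x y hx hy => rw [map_add, hx, hy, map_add, map_add]
  | tmul x y =>
    rw [Groth.Agent.S4113.trace_tmul]
    simp

theorem trace_invariant (k : Type u) [Field k] (A : Type u) [CommRing A] [HopfAlgebra k A] [Module.Finite k A]
    (a : A) : LinearMap.mul' k A (TensorProduct.map LinearMap.id (Algebra.linearMap k A ∘ₗ Algebra.trace k A)
      (Coalgebra.comul (R := k) a)) = algebraMap k A (Algebra.trace k A a) := by
  rw [← mul'_tmul_trace]
  have h : Coalgebra.comul (R := k) a = Groth.Agent.S4113.shearEquiv k A (1 ⊗ₜ a) := by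
    change _ = Groth.Agent.S4113.shear k A (1 ⊗ₜ a)
    rw [Groth.Agent.S4113.shear_tmul, ← Algebra.TensorProduct.one_def, _root_.one_mul]
  rw [h, Algebra.trace_eq_of_algEquiv, Groth.Agent.S4113.trace_tmul, one_mul]

theorem conv_trace (k : Type u) [Field k] (A : Type u) [CommRing A] [HopfAlgebra k A] [Module.Finite k A]
    (x : CartDual.D k A) :
    x * (WithConv.toConv (Algebra.trace k A) : CartDual.D k A) = x 1 • WithConv.toConv (Algebra.trace k A) := by
  apply WithConv.ext
  apply LinearMap.ext
  intro a
  rw [LinearMap.convMul_apply]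
  have h := congrArg (x.ofConv) (trace_invariant k A a)
  rw [Algebra.algebraMap_eq_smul_one, map_smul, smul_eq_mul] at h
  rw [WithConv.ofConv_smul, LinearMap.smul_apply, smul_eq_mul, WithConv.ofConv_toConv, mul_comm, ← h]
  generalize Coalgebra.comul (R := k) a = t
  induction t using TensorProduct.induction_on with
  | zero => simp
  | add y z hy hz => simp only [map_add, hy, hz]
  | tmul y z =>
    simp only [TensorProduct.map_tmul, LinearMap.mul'_apply, LinearMap.id_apply, LinearMap.comp_apply,
      Algebra.linearMap_apply, Algebra.algebraMap_eq_smul_one, mul_smul_comm, mul_one, map_smul, smul_eq_mul]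
    ring

theorem trace_rank_one (k : Type u) [Field k] (A : Type u) [CommRing A] [Algebra k A] [Module.Finite k A]
    (ε : A →ₐ[k] k) (e : A) (he : ∀ a : A, a * e = ε a • e) : Algebra.trace k A e = ε e := by
  rw [Algebra.trace_apply]
  have h : Algebra.lmul k A e = LinearMap.smulRight ε.toLinearMap e := by
    ext a
    simp [mul_comm e a, he a]
  rw [h, LinearMap.trace_smulRight]; rfl

end

/-- Let k be a field of characteristic p > 0 and A a finite-dimensional commutative and cocommutative
Hopf algebra over k, the coordinate ring of a finite commutative k-group scheme G, with Cartier dual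
the convolution Hopf algebra Hom_k(A, k). Then G is étale-étale, i.e. both A and its dual are étale
k-algebras, if and only if p does not divide the rank dim_k A of G. -/
theorem result (k : Type u) [Field k] (p : ℕ) [Fact p.Prime] [CharP k p]
    (A : Type u) [CommRing A] [HopfAlgebra k A] [Coalgebra.IsCocomm k A] [FiniteDimensional k A] :
    (Algebra.Etale k A ∧ Algebra.Etale k (CartDual.D k A)) ↔ ¬ p ∣ Module.finrank k A := by
  constructor
  · rintro ⟨h1, h2⟩ hp
    obtain ⟨e, he, he1⟩ := exists_integral k A (Bialgebra.counitAlgHom k A)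
    obtain ⟨l, hl, hl1⟩ := exists_integral k (CartDual.D k A) (Bialgebra.counitAlgHom k (CartDual.D k A))
    have htr : Algebra.trace k A e = 1 := by
      rw [trace_rank_one k A (Bialgebra.counitAlgHom k A) e he, he1]
    let τ : CartDual.D k A := WithConv.toConv (Algebra.trace k A)
    have hτ1 : τ 1 = 0 := by
      change Algebra.trace k A 1 = 0
      rw [← map_one (algebraMap k A), Algebra.trace_algebraMap, nsmul_eq_mul, mul_one]
      exact (CharP.cast_eq_zero_iff k p _).2 hp
    have h3 : τ * l = τ 1 • l := hl τ
    have h4 : l * τ = l 1 • τ := conv_trace k A l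
    have h5 : l 1 = 1 := hl1
    rw [hτ1, zero_smul] at h3
    rw [h5, one_smul, mul_comm, h3] at h4
    have h6 : τ e = 1 := htr
    rw [← h4] at h6
    simp [CartDual.coe_apply] at h6
  · intro hp
    have hk : (Module.finrank k A : k) ≠ 0 := fun h => hp ((CharP.cast_eq_zero_iff k p _).1 h)
    refine ⟨Groth.Agent.S4113.result k A hk, ?_⟩
    apply Groth.Agent.S4113.result k (CartDual.D k A)
    rw [LinearEquiv.finrank_eq (CartDual.toDual k A)]
    rw [Subspace.dual_finrank_eq]
    exact hk

end Groth.Agent.S16674
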