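import Groth.Statements.S16677
import Groth.Agent.AbVar.K581.TorsDense
import Groth.Agent.AbVar.K510.DenseAny

set_option autoImplicit false
universe u
open CategoryTheory CategoryTheory.Limits MonoidalCategory CartesianMonoidalCategory MonObj GrpObj AlgebraicGeometry
open AbVar

namespace Groth.Agent.S16677

/-- Let X be an abelian variety over a field k (a proper, geometrically integral k-group scheme) and p a
prime number, not necessarily different from the characteristic of k. For m ≥ 1 let X[p^m] → X be
the kernel of multiplication by p^m (the p^m-th power of the identity in the group of endomorphisms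
of X), realised as the fibre product of the unit section with that endomorphism. Then the family of
closed subgroup schemes X[p^m], m ≥ 1, is scheme-theoretically dense in X: if c : Z → X is a closed
immersion through which every inclusion X[p^m] → X factors, then c is an isomorphism. -/
theorem result (k : Type u) [Field k]
    (X : Over (Spec (CommRingCat.of k))) [GrpObj X] [IsProper X.hom] [GeometricallyIntegral X.hom]
    (p : ℕ) (hp : p.Prime) (Z : Scheme.{u}) (c : Z ⟶ X.left) [IsClosedImmersion c]
    (hc : ∀ m : ℕ, 0 < m →
      ∃ t : pullback η[X].left ((𝟙 X ^ (p ^ m)).left) ⟶ Z,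
        t ≫ c = pullback.snd η[X].left ((𝟙 X ^ (p ^ m)).left)) :
    IsIso c := by
  have hint : IsIntegral X.left := GeometricallyIntegral.isIntegral_of_subsingleton X.hom
  have hN : IsLocallyNoetherian X.left := LocallyOfFiniteType.isLocallyNoetherian X.hom
  by_cases hpk : (p : k) = 0
  · have h1 : Surjective c := K581.TorsDense.surjective_of_frob p hpk Z c hc
    exact isIso_of_isClosedImmersion_of_surjective c
  · let W : Over (Spec (CommRingCat.of k)) := Over.mk (c ≫ X.hom)
    let i : W ⟶ X := Over.homMk c rfl
    have hi : IsClosedImmersion i.left := inferInstanceAs (IsClosedImmersion c)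
    have h1 : Surjective i.left := K510.DenseAny.surjective_of_torsion X p hpk hp.two_le W i (by
      intro n T x hx
      have hx1 : x ^ (p ^ (n + 1)) = 1 := by rw [pow_succ, pow_mul, hx, one_pow]
      obtain ⟨t, ht⟩ := hc (n + 1) n.succ_pos
      have hx2 : T.hom ≫ η[X].left = x.left ≫ (𝟙 X ^ (p ^ (n + 1))).left := by
        rw [← Over.comp_left, MonObj.comp_pow, Category.comp_id, hx1, Hom.one_def, Over.comp_left]
        congr 1
      have h3 : (pullback.lift _ _ hx2 ≫ t) ≫ c = x.left := by
        rw [Category.assoc, ht, pullback.lift_snd]
      refine ⟨Over.homMk (pullback.lift _ _ hx2 ≫ t) ?_, ?_⟩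
      · change _ ≫ c ≫ X.hom = _
        rw [← Category.assoc, h3, Over.w]
      · ext1
        exact h3)
    have h2 : Surjective c := h1
    exact isIso_of_isClosedImmersion_of_surjective c

end Groth.Agent.S16677
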