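-- Statement S16680: AbVar.two_mul_dim_le_of_isClosedImmersion_projSpace
import Groth.Statements.S16680
import Groth.Agent.AbVar.K521.EmbLow
import Groth.Agent.CohqB.ProjBC

set_option autoImplicit false
universe u
open CategoryTheory CategoryTheory.Limits MonoidalCategory CartesianMonoidalCategory MonObj GrpObj AlgebraicGeometry
open AbVar

namespace Groth.Agent.S16680

/-- Fix a field k and a g-dimensional abelian variety X over k (a proper, geometrically integral k-group
scheme whose underlying space has Krull dimension g). Then X admits no closed immersion into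
projective (2g − 1)-space over k: if f : X → P^n_k is a closed immersion compatible with the
structure morphisms to Spec k, then 2g ≤ n. -/
theorem result (k : Type u) [Field k]
    (X : Over (Spec (CommRingCat.of k))) [GrpObj X] [IsProper X.hom] [GeometricallyIntegral X.hom]
    (g : ℕ) (hg : topologicalKrullDim ↥X.left = g)
    (n : ℕ) (f : X.left ⟶ CohB1.ProjSpace n k) [IsClosedImmersion f]
    (hf : f ≫ CohB1.ProjSpace.toSpec n k = X.hom) :
    2 * g ≤ n := by
  refine AbVar.K521.EmbLow.le X g hg (f ≫ (Groth.Agent.CohqB.ProjBC.projSpaceOverIso n k).inv) ?_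
  rw [Category.assoc]
  exact (congrArg (f ≫ ·) (Groth.Agent.CohqB.ProjBC.projSpaceOverIso_inv_toBase n k)).trans hf

end Groth.Agent.S16680
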