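-- Statement S16682: AbVar.exists_invertible_on_base_of_fibrewise_iso
import Groth.Statements.S16682
import Groth.Agent.AbVar.K521.SeesawRed

set_option autoImplicit false
universe u
open CategoryTheory CategoryTheory.Limits MonoidalCategory CartesianMonoidalCategory AlgebraicGeometry
open AbVar

namespace Groth.Agent.S16682

open Groth.Agent.Grpsch.PicGrp

/-- Let k be a field, X a proper geometrically integral k-scheme (a complete variety), Y a variety over
k (separated, of finite type, geometrically integral), and L, M two invertible modules on X ×_k Y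
(the product in the category of k-schemes). If for every closed point y of Y the restrictions of L
and M to the fibre X ×_k Spec k(y) are isomorphic, then there is an invertible O_Y-module N with L
isomorphic to M ⊗ p^*N, where p : X ×_k Y → Y is the second projection (existence of an isomorphism;
N is determined only up to isomorphism). -/
theorem result (k : Type u) [Field k]
    (X Y : Over (Spec (CommRingCat.of k)))
    [IsProper X.hom] [GeometricallyIntegral X.hom]
    [IsSeparated Y.hom] [QuasiCompact Y.hom] [LocallyOfFiniteType Y.hom] [GeometricallyIntegral Y.hom]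
    (L M : (X ⊗ Y).left.Modules) (hL : PicF.IsInvertible L) (hM : PicF.IsInvertible M)
    (h : ∀ y : ↥Y.left, IsClosed ({y} : Set ↥Y.left) →
      Nonempty ((Scheme.Modules.pullback (pullback.fst (snd X Y).left (Y.left.fromSpecResidueField y))).obj L ≅
        (Scheme.Modules.pullback (pullback.fst (snd X Y).left (Y.left.fromSpecResidueField y))).obj M)) :
    ∃ N : Y.left.Modules, PicF.IsInvertible N ∧
      Nonempty (L ≅ CohB1.tensorMod M ((Scheme.Modules.pullback (snd X Y).left).obj N)) := by
  have hsnd : (snd X Y).left = pullback.snd X.hom Y.hom := rfl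
  have i1 : Flat (snd X Y).left := by rw [hsnd]; infer_instance
  have i2 : IsProper (snd X Y).left := by rw [hsnd]; infer_instance
  have i3 : LocallyOfFinitePresentation (snd X Y).left := by rw [hsnd]; infer_instance
  have i4 : GeometricallyIntegral (snd X Y).left := by rw [hsnd]; infer_instance
  have i5 : IsIntegral Y.left :=
    GeometricallyIntegral.geometrically_isIntegral (f := Y.hom) (𝟙 (Spec (CommRingCat.of k))) (𝟙 _) Y.hom
      (IsPullback.of_horiz_isIso ⟨by simp⟩)
  have i6 : JacobsonSpace ↥Y.left := LocallyOfFiniteType.jacobsonSpace Y.hom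
  obtain ⟨d, hd⟩ := K521.SeesawRed.exists_pull (snd X Y).left (mk L hL * (mk M hM)⁻¹) (closedPoints ↥Y.left)
    (by rw [dense_iff_closure_eq]; exact closure_closedPoints) (by
      intro y hy
      obtain ⟨e⟩ := h y hy
      have h1 : pull ((snd X Y).left.fiberι y) (mk L hL) = pull ((snd X Y).left.fiberι y) (mk M hM) := by
        rw [pull_mk, pull_mk, mk_eq_iff]
        exact ⟨e⟩
      rw [map_mul, map_inv, h1, mul_inv_cancel])
  obtain ⟨N, hN, rfl⟩ := exists_mk d
  refine ⟨N, hN, ?_⟩
  have h2 : mk L hL = mk M hM * pull (snd X Y).left (mk N hN) := by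
    rw [hd, mul_comm (mk L hL), mul_inv_cancel_left]
  rw [pull_mk, mk_mul_mk, mk_eq_iff] at h2
  exact h2

end Groth.Agent.S16682
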