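import Groth.Statements.S16684
import Groth.Agent.GIT.K690.GeomQuot
import Groth.Agent.GIT.K690.QuotShLoc

set_option autoImplicit false
universe u
open CategoryTheory CategoryTheory.Limits MonoidalCategory CartesianMonoidalCategory MonObj AlgebraicGeometry
open GIT

namespace Groth.Agent.S16684

open K690.LocSec K690.QuotShLoc

/-- Let S be a scheme, G a group scheme over S acting through σ : G ×_S X → X on an S-scheme X, and q :
X → Y an S-morphism which is an fppf quotient of X by G: q coequalises σ and the second projection
and the induced map from the quotient sheaf G\X (coequalizer of the two maps h_{G × X} ⇉ h_X of fppf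
sheaves of sets on schemes over S) to h_Y is an isomorphism. Then q is also a geometric quotient: q
is invariant and surjective, the map G ×_S X → X ×_Y X is surjective, q is universally submersive,
and for every open U of Y the sections of O_Y over U map injectively onto the G-invariant sections
of O_X over q⁻¹U. No freeness of the action is assumed. -/
theorem result {S : Scheme.{u}} (G X Y : Over S) [GrpObj G]
    (a : AlgGrp.Action G X) (q : X ⟶ Y)
    (hq : QuotSh.IsQuotient Scheme.fppfPrecoverage a.act (snd G X) q) :
    GIT.IsGeomQuot a q := by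
  have hinv : GIT.IsInvariant a q := hq.choose
  have h1 : LS q.left := by
    obtain ⟨R, hR, hRs⟩ := section_sieve_mem Scheme.fppfPrecoverage a q hq
    obtain ⟨Q, hQ, hQs⟩ := exists_covering hR
    refine ⟨Q, Scheme.fppfPrecoverage_le_fpqcPrecoverage _ hQ, ?_⟩
    intro W f hf
    obtain ⟨s, hs⟩ := hRs _ (hQs f hf)
    exact ⟨s.left, congrArg CommaMorphism.left hs⟩
  have h2 : LS (GIT.PsiY a q hinv) := by
    let T : Over S := Over.mk (pullback.fst q.left q.left ≫ X.hom)
    let x : T ⟶ X := Over.homMk (pullback.fst q.left q.left) rfl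
    let x' : T ⟶ X := Over.homMk (pullback.snd q.left q.left) (by
      change pullback.snd q.left q.left ≫ X.hom = pullback.fst q.left q.left ≫ X.hom
      rw [← Over.w q, ← pullback.condition_assoc])
    have hx : x ≫ q = x' ≫ q := by
      ext1
      exact pullback.condition
    obtain ⟨R, hR, hRs⟩ := orbit_sieve_mem Scheme.fppfPrecoverage a q hq x x' hx
    obtain ⟨Q, hQ, hQs⟩ := exists_covering hR
    refine ⟨Q, Scheme.fppfPrecoverage_le_fpqcPrecoverage _ hQ, ?_⟩
    intro W f hf
    obtain ⟨g, hg⟩ := hRs _ (hQs f hf)
    refine ⟨(lift g ((Over.homMk f : Over.mk (f ≫ T.hom) ⟶ T) ≫ x')).left, ?_⟩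
    change (lift g ((Over.homMk f : Over.mk (f ≫ T.hom) ⟶ T) ≫ x')).left ≫
      GIT.PsiY a q hinv = f
    apply pullback.hom_ext
    · rw [Category.assoc, K957.Bundle.psiY_fst, ← Over.comp_left, ← hg]
      rfl
    · rw [Category.assoc, K957.Bundle.psiY_snd, ← Over.comp_left, lift_snd]
      rfl
  exact K690.GeomQuot.isGeomQuot_of_LS a q hinv h1 h2

end Groth.Agent.S16684
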