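-- Statement S16686: AbVar.exists_etale_representing_groupHomFamilies
import Groth.Statements.S16686
import Groth.Agent.AbVar.K521.HomEt

set_option autoImplicit false
universe u
open CategoryTheory CategoryTheory.Limits MonoidalCategory CartesianMonoidalCategory MonObj GrpObj AlgebraicGeometry
open AbVar

namespace Groth.Agent.S16686

/-- Let X and Y be abelian varieties over a field k (proper, geometrically integral k-group schemes).
For a k-scheme T, a family of homomorphisms parametrised by T is a k-morphism φ : X ×_k T → Y which
is multiplicative in the first variable, i.e. a homomorphism of T-group schemes X_T → Y_T. Then the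
functor T ↦ {families of homomorphisms parametrised by T} is representable by an étale k-scheme:
there exist a k-scheme H, étale over k, and a family u : X ×_k H → Y of homomorphisms such that
every family φ over every k-scheme T is the pull-back (id_X × t)^*u for a unique k-morphism t : T →
H. (The group structure on H, pointwise product of homomorphisms, is then induced; the published
statement says 'étale commutative group scheme'.) -/
theorem result (k : Type u) [Field k]
    (X Y : Over (Spec (CommRingCat.of k)))
    [GrpObj X] [IsProper X.hom] [GeometricallyIntegral X.hom]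
    [GrpObj Y] [IsProper Y.hom] [GeometricallyIntegral Y.hom] :
    ∃ (H : Over (Spec (CommRingCat.of k))) (u : X ⊗ H ⟶ Y), Etale H.hom ∧
      (μ[X] ▷ H) ≫ u = ((fst X X ▷ H) ≫ u) * ((snd X X ▷ H) ≫ u) ∧
      ∀ (T : Over (Spec (CommRingCat.of k))) (φ : X ⊗ T ⟶ Y),
        (μ[X] ▷ T) ≫ φ = ((fst X X ▷ T) ≫ φ) * ((snd X X ▷ T) ≫ φ) →
        ∃! t : T ⟶ H, (X ◁ t) ≫ u = φ := by
  obtain ⟨A, υ, hA, hE⟩ := AbVar.K521.HomEt.exists_etale X Y
  refine ⟨A, υ, hE, (AbVar.K521.HomEt.isHomFamily_iff υ).1 hA.1, fun T φ hφ =>
    hA.2 T φ ((AbVar.K521.HomEt.isHomFamily_iff φ).2 hφ)⟩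

end Groth.Agent.S16686
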