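-- Statement S16687: AbVar.mulPullback_iso_of_pullback_pow_iso_tensorPow
import Groth.Statements.S16687
import Groth.Agent.AbVar.K521.Lam

set_option autoImplicit false
universe u
open CategoryTheory CategoryTheory.Limits MonoidalCategory CartesianMonoidalCategory MonObj GrpObj AlgebraicGeometry
open AbVar

namespace Groth.Agent.S16687

open Groth.Agent.Grpsch.PicGrp Groth.Agent.Grpsch.Cube K521.Lam

/-- Let X be an abelian variety over a field k (a proper, geometrically integral k-group scheme) with
group law m : X ×_k X → X and projections p₁, p₂, let L be an invertible O_X-module, and let n ≥ 2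
be an integer such that n^*L ≅ L^{⊗ n}, where n : X → X is multiplication by n (the n-th power of
the identity in the group of endomorphisms). Then the class of L lies in Pic⁰_{X/k}, i.e. the
Mumford module of L is trivial: m^*L ≅ p₁^*L ⊗ p₂^*L (existence of an isomorphism of modules on X
×_k X). (The published statement allows any integer n other than 0 and 1, negative n included; this
row takes n a natural number with n ≥ 2. The converse implication also holds; this row is the
direction from one such n.) -/
theorem result (k : Type u) [Field k]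
    (X : Over (Spec (CommRingCat.of k))) [GrpObj X] [IsProper X.hom] [GeometricallyIntegral X.hom]
    (L : X.left.Modules) (hL : PicF.IsInvertible L) (n : ℕ) (hn : 2 ≤ n)
    (h : Nonempty ((Scheme.Modules.pullback (𝟙 X ^ n).left).obj L ≅ CohB1.tensorPow L n)) :
    Nonempty ((Scheme.Modules.pullback μ[X].left).obj L ≅
      CohB1.tensorMod ((Scheme.Modules.pullback (fst X X).left).obj L)
        ((Scheme.Modules.pullback (snd X X).left).obj L)) := by
  have h1 : pl (𝟙 X ^ n) (mk L hL) = mk L hL ^ n := by
    rw [pl, pull_mk, ← mk_tensorPow, mk_eq_iff]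
    exact h
  have h2 : (mk L hL * pl (𝟙 X)⁻¹ (mk L hL)) ^ (n * (n - 1) / 2) = 1 := by
    rw [pl_pow] at h1
    have h3 : pl (𝟙 X) (mk L hL) = mk L hL := pull_id _
    have h4 : n * (n + 1) / 2 = n * (n - 1) / 2 + n := by
      obtain ⟨m, rfl⟩ : ∃ m, n = m + 1 := ⟨n - 1, by omega⟩
      rw [Nat.add_sub_cancel, ← Nat.add_mul_div_right _ _ (by norm_num : 0 < 2)]
      congr 1
      ring
    rw [h3, h4, pow_add, _root_.mul_assoc, mul_comm (mk L hL ^ n), ← _root_.mul_assoc, _root_.mul_eq_right, ← mul_pow] at h1
    exact h1
  have h5 : lam (mk L hL) (fst X X) (snd X X) ^ (2 * (n * (n - 1) / 2)) = 1 := by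
    have h6 := congrArg (fun c ↦ lam c (fst X X) (snd X X)) h2
    simp only [lam_class_pow, lam_class_mul, lam_pl_inv, lam_class_one] at h6
    rw [pow_mul, pow_two]
    exact h6
  have h7 : 1 ≤ 2 * (n * (n - 1) / 2) := by
    have : 2 ≤ n * (n - 1) := by nlinarith [Nat.sub_add_cancel (show 1 ≤ n by omega), show 1 ≤ n - 1 by omega]
    omega
  have h8 := lam_eq_one_of_pow _ _ h7 h5
  have h9 : pl μ[X] (mk L hL) = pl (fst X X) (mk L hL) * pl (snd X X) (mk L hL) := by
    have h10 : (fst X X * snd X X : X ⊗ X ⟶ X) = μ[X] := by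
      rw [Hom.mul_def, lift_fst_snd, Category.id_comp]
    rw [lam, _root_.mul_assoc, ← _root_.mul_inv_rev, mul_inv_eq_one, h10] at h8
    rw [h8, mul_comm]
  rw [pl, pl, pl, pull_mk, pull_mk, pull_mk, mk_mul_mk, mk_eq_iff] at h9
  exact h9

end Groth.Agent.S16687
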