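import Groth.Statements.S16698
import Groth.Agent.AlgSt.K746.WnaMod
import Groth.Agent.AlgSt.K746.ModUniq
-- import your own Groth.Agent.* helpers here

set_option autoImplicit false
universe u
open AlgSt AlgSt.IsWellNighAffine

namespace Groth.Agent.S16698

open CategoryTheory AlgebraicGeometry in
/-- A well-nigh affine algebraic stack which is an algebraic space is an affine scheme. -/
theorem result (S : Scheme.{u}) (𝒳 : AlgSt.Cat S)
    (h𝒳 : AlgSt.IsAlgStack Scheme.fppfPrecoverage 𝒳) (hw : AlgSt.IsWellNighAffine 𝒳)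
    (hsp : AlgSt.RepByAlgSp 𝒳) :
    ∃ (U : Over S) (e : AlgSt.ofSch U ⥤ᵇ 𝒳), IsAffine U.left ∧ FibCat.IsEquivOver e := by
  obtain ⟨M, π, hM, h1, -⟩ := K746.exists_wna_moduli h𝒳 hw
  obtain ⟨e, he, -, -⟩ := K734.Fib.exists_inverse (K746.isEquivOver_of_repByAlgSp h1.1 hsp)
  exact ⟨M, e, hM, he⟩

end Groth.Agent.S16698
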