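import Groth.Statements.S16708
import Groth.Agent.HopfRep.K191.Reductive

set_option autoImplicit false
universe u
open HopfRep

namespace Groth.Agent.S16708

/-- Let G be a finite group and k a field in which the order of G is a nonzero element. Then the
constant group scheme of G over k is linearly reductive: every finite-dimensional comodule over its
coordinate Hopf algebra (the algebra of functions G → k with the Hopf structure of the constant
group) is semisimple, i.e. every subcomodule admits a complementary subcomodule. -/
theorem result (k : Type u) [Field k] (G : Type u) [Group G]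
    [Fintype G] [DecidableEq G] (hG : ((Fintype.card G : ℕ) : k) ≠ 0) :
    HopfRep.IsLinearlyReductive k (ConstGrp.F k G) := by
  classical
  refine K191.Reductive.isLinearlyReductive_of_isInt
    ⟨(ConstGrp.basis k G).constr k fun _ => ((Fintype.card G : ℕ) : k)⁻¹, ?_, ?_⟩
  · intro a
    have he : ∀ g : G, ((ConstGrp.basis k G).constr k fun _ => ((Fintype.card G : ℕ) : k)⁻¹)
        (ConstGrp.e k g) = ((Fintype.card G : ℕ) : k)⁻¹ := by
      intro g
      rw [← ConstGrp.basis_apply, Module.Basis.constr_basis]
    have h : ((ConstGrp.basis k G).constr k fun _ => ((Fintype.card G : ℕ) : k)⁻¹).rTensor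
        (ConstGrp.F k G) ∘ₗ Coalgebra.comul (R := k) (A := ConstGrp.F k G) =
        (TensorProduct.mk k k (ConstGrp.F k G)).flip 1 ∘ₗ
          ((ConstGrp.basis k G).constr k fun _ => ((Fintype.card G : ℕ) : k)⁻¹) := by
      refine ConstGrp.linearMap_ext fun g => ?_
      rw [LinearMap.comp_apply, ConstGrp.comul_e, map_sum]
      simp only [LinearMap.rTensor_tmul, he, LinearMap.comp_apply, LinearMap.flip_apply,
        TensorProduct.mk_apply]
      rw [← TensorProduct.tmul_sum]
      congr 1
      rw [← ConstGrp.sum_e (R := k) (G := G)]
      exact Fintype.sum_equiv ((Equiv.inv G).trans (Equiv.mulRight g)) _ _ fun γ => rfl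
    exact LinearMap.congr_fun h a
  · rw [← ConstGrp.sum_e (R := k) (G := G), map_sum]
    have he : ∀ g : G, ((ConstGrp.basis k G).constr k fun _ => ((Fintype.card G : ℕ) : k)⁻¹)
        (ConstGrp.e k g) = ((Fintype.card G : ℕ) : k)⁻¹ := by
      intro g
      rw [← ConstGrp.basis_apply, Module.Basis.constr_basis]
    simp only [he, Finset.sum_const, Finset.card_univ, nsmul_eq_mul]
    exact mul_inv_cancel₀ hG
end Groth.Agent.S16708
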