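import Groth.Statements.S16710
import Groth.Agent.Variety.K432.AmpCurve
import Groth.Agent.S2329

set_option autoImplicit false
universe u
open CategoryTheory CategoryTheory.Limits AlgebraicGeometry TopologicalSpace
open Variety

namespace Groth.Agent.S16710

/-- Let X be a proper scheme over a field k and L an invertible O_X-module. Then L is ample if and only
if (i) L is strictly nef, meaning χ(O_C ⊗ L) - χ(O_C) > 0 for every integral closed subscheme C ⊆ X
of dimension one, and (ii) L is semiample, meaning some positive tensor power of L is generated by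
its global sections (is a quotient of a free O_X-module). -/
theorem result (k : Type u) [Field k] (X : Scheme.{u})
    [X.Over (Spec (CommRingCat.of k))] [IsProper (X ↘ (Spec (CommRingCat.of k)))]
    (L : X.Modules) (hL : PicF.IsInvertible L) :
    CohB1.IsAmple L ↔
      ((∀ C : X.IdealSheafData, IsIntegral C.subscheme →
          topologicalKrullDim (C.support : Set X) = 1 →
            0 < Curv2.euler k X (CohB1.tensorMod (ClSub.quotMod C) L) - Curv2.euler k X (ClSub.quotMod C)) ∧
        ∃ m : ℕ, Curv2.IsGloballyGenerated (CohB1.tensorPow L (m + 1))) := by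
  constructor
  · intro h
    refine ⟨fun C hC hdim => ?_, ?_⟩
    · rw [K432.CurveDeg.euler_quotMod_sub C L hL]
      exact K432.AmpCurve.dg_pos_of_isAmple _ (by rw [K432.NefBasic.topologicalKrullDim_subscheme, hdim]) _ h
    · have hcX : CompactSpace X := h.2.1
      have hsX : X.IsSeparated := by
        rw [Scheme.isSeparated_iff, ← terminal.comp_from (X ↘ (Spec (CommRingCat.of k))), IsSeparated.comp_iff]
        infer_instance
      obtain ⟨n, hn, hn'⟩ := Groth.Agent.S2329.result X L L h hL
      exact ⟨n, (hn' n le_rfl).2⟩
  · rintro ⟨h1, m, hm⟩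
    refine K432.AmpCurve.isAmple_of_semiample (X ↘ (Spec (CommRingCat.of k))) hL (Nat.succ_pos m) hm
      fun C hC hdim => ?_
    rw [← K432.CurveDeg.euler_quotMod_sub C L hL]
    exact h1 C hC hdim

end Groth.Agent.S16710
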