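import Groth.Statements.S16713
import Groth.Agent.CotT.K96.LciH1
import Groth.Agent.CotT.K96.Push

set_option autoImplicit false
universe u
open CotT

namespace Groth.Agent.S16713

/-- The final assertion, in the case where the base is a field. Let k be a field and A a k-algebra which
is a local complete intersection over k (of finite type, presented by a polynomial algebra in
finitely many variables with Koszul-regular kernel) and generically smooth over k, in the sense that
the localization of A at each of its minimal primes is formally smooth over k. Then H^1 of the naive
cotangent complex L_{A/k} vanishes: for the presentation A = P/I by the polynomial k-algebra P on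
the elements of A, the conormal map I/I² → Ω_{P/k} ⊗_P A is injective, so that L_{A/k} is
quasi-isomorphic to Ω_{A/k}. (The published statement is for a generically smooth syntomic morphism
over an arbitrary base, where it fails when the base has embedded points: over B = k[s,t]/(s², st)
with 2 invertible in k, the algebra B[x]/(x² − t) is a relative complete intersection, free of rank
two and smooth where x is invertible, yet the class of s·x·(x² − t) is a non-zero element of the
kernel of its conormal map. This row states the case of an algebra of finite type over a field.) -/
theorem result (k : Type u) [Field k]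
    (A : Type u) [CommRing A] [Algebra k A] (hlci : LCI.IsLCI k A)
    (hgs : ∀ (p : Ideal A) [p.IsPrime], p ∈ minimalPrimes A → Algebra.FormallySmooth k (Localization.AtPrime p)) :
    Subsingleton (Algebra.H1Cotangent k A) := by
  have hk : LocCoh.IsGorensteinRing k := Groth.Agent.LoccohB.GorBasic.isGorensteinRing_of_field k
  have hA : LocCoh.IsGorensteinRing A := Groth.Agent.LoccohB.GorLci.isGorensteinRing_of_isLCI k A hk hlci
  have hAN : IsNoetherianRing A := inferInstance
  obtain ⟨-, n, f, hf, hI⟩ := hlci
  let P : Algebra.Generators k A (Fin n) := Algebra.Generators.ofSurjective (fun i => f (MvPolynomial.X i)) (by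
    have : MvPolynomial.aeval (fun i => f (MvPolynomial.X i)) = f := by ext; simp
    rw [this]
    exact hf)
  have hker : P.toExtension.ker = RingHom.ker f.toRingHom := by
    ext x
    have h1 : MvPolynomial.aeval (fun i => f (MvPolynomial.X i)) = f := by ext; simp
    have h2 : algebraMap P.toExtension.Ring A x = f x := by
      exact (K96.Push.algebraMap_ext P x).trans (DFunLike.congr_fun h1 x)
    change algebraMap P.toExtension.Ring A x = 0 ↔ f x = 0
    rw [h2]
  rw [← hker] at hI
  have hRN : IsNoetherianRing P.toExtension.Ring := inferInstanceAs (IsNoetherianRing (MvPolynomial (Fin n) k))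
  obtain ⟨m, j, hj⟩ := K96.LciH1.exists_injection P.toExtension hI
  have hfs : Algebra.FormallySmooth k P.toExtension.Ring :=
    inferInstanceAs (Algebra.FormallySmooth k (MvPolynomial (Fin n) k))
  let e := P.toExtension.equivH1CotangentOfFormallySmooth
  refine K96.LciH1.subsingleton_of_generic (Algebra.H1Cotangent k A) m
    (j ∘ₗ P.toExtension.h1Cotangentι ∘ₗ e.symm.toLinearMap)
    (hj.comp (Algebra.Extension.h1Cotangentι_injective.comp e.symm.injective)) ?_
  intro p hp x
  have hpp : p.IsPrime := hp.1
  have hCM : LocCoh.IsCohenMacaulayLocalRing (Localization.AtPrime p) := by
    have := hA.isGorensteinLocalRing_localization p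
    exact Groth.Agent.S0341.result _
  have hmin := Groth.Agent.Ega4A.CMAss.mem_minimalPrimes_of_isCohenMacaulayLocalRing p hCM hp
  have h1 := hgs p hmin
  have h2 := ((Algebra.formallySmooth_iff _ _).1 h1).2
  have h3 := IsLocalizedModule.iso p.primeCompl (Algebra.H1Cotangent.map k k A (Localization.AtPrime p))
  have h4 : Subsingleton (LocalizedModule p.primeCompl (Algebra.H1Cotangent k A)) := h3.toEquiv.subsingleton
  rw [LocalizedModule.subsingleton_iff] at h4
  obtain ⟨s, hs, hsx⟩ := h4 x
  exact ⟨s, hs, hsx⟩

end Groth.Agent.S16713
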