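import Groth.Statements.S16714
import Groth.Agent.Variety.K432.NefFam

set_option autoImplicit false
universe u
open CategoryTheory CategoryTheory.Limits AlgebraicGeometry TopologicalSpace
open Variety

namespace Groth.Agent.S16714

/-- Let R be a discrete valuation ring, p : X → Spec R a proper flat morphism and L an invertible
O_X-module. If the restriction L_0 of L to the closed fibre X_0 is nef (χ(O_C ⊗ L_0) - χ(O_C) ≥ 0
for every integral closed subscheme C ⊆ X_0 of dimension one, computed over the residue field), then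
the restriction L_η to the generic fibre X_η is nef over the fraction field in the same sense. -/
theorem result (R : Type u) [CommRing R] [IsDomain R]
    [IsDiscreteValuationRing R] (X : Scheme.{u}) (p : X ⟶ Spec (CommRingCat.of R)) [IsProper p] [Flat p]
    (L : X.Modules) (hL : PicF.IsInvertible L)
    (h0 : ∀ C : (p.fiber (IsLocalRing.closedPoint R)).IdealSheafData, IsIntegral C.subscheme →
        topologicalKrullDim (C.support : Set ↥(p.fiber (IsLocalRing.closedPoint R))) = 1 →
          0 ≤ @Curv2.euler ((Spec (CommRingCat.of R)).residueField (IsLocalRing.closedPoint R)) _ (p.fiber (IsLocalRing.closedPoint R)) ⟨p.fiberToSpecResidueField (IsLocalRing.closedPoint R)⟩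
                (CohB1.tensorMod (ClSub.quotMod C) ((Scheme.Modules.pullback (p.fiberι (IsLocalRing.closedPoint R))).obj L)) -
              @Curv2.euler ((Spec (CommRingCat.of R)).residueField (IsLocalRing.closedPoint R)) _ (p.fiber (IsLocalRing.closedPoint R)) ⟨p.fiberToSpecResidueField (IsLocalRing.closedPoint R)⟩ (ClSub.quotMod C)) :
    ∀ C' : (p.fiber (⟨⊥, Ideal.isPrime_bot⟩ : PrimeSpectrum R)).IdealSheafData, IsIntegral C'.subscheme →
        topologicalKrullDim (C'.support : Set ↥(p.fiber (⟨⊥, Ideal.isPrime_bot⟩ : PrimeSpectrum R))) = 1 →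
          0 ≤ @Curv2.euler ((Spec (CommRingCat.of R)).residueField (⟨⊥, Ideal.isPrime_bot⟩ : PrimeSpectrum R)) _ (p.fiber (⟨⊥, Ideal.isPrime_bot⟩ : PrimeSpectrum R)) ⟨p.fiberToSpecResidueField (⟨⊥, Ideal.isPrime_bot⟩ : PrimeSpectrum R)⟩
                (CohB1.tensorMod (ClSub.quotMod C') ((Scheme.Modules.pullback (p.fiberι (⟨⊥, Ideal.isPrime_bot⟩ : PrimeSpectrum R))).obj L)) -
              @Curv2.euler ((Spec (CommRingCat.of R)).residueField (⟨⊥, Ideal.isPrime_bot⟩ : PrimeSpectrum R)) _ (p.fiber (⟨⊥, Ideal.isPrime_bot⟩ : PrimeSpectrum R)) ⟨p.fiberToSpecResidueField (⟨⊥, Ideal.isPrime_bot⟩ : PrimeSpectrum R)⟩ (ClSub.quotMod C') := by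
  let S := Spec (CommRingCat.of R)
  let c : S := IsLocalRing.closedPoint R
  let η : S := (⟨⊥, Ideal.isPrime_bot⟩ : PrimeSpectrum R)
  have h0' : K432.NefBasic.Nef (k := S.residueField c) (p.fiberToSpecResidueField c)
      ((Scheme.Modules.pullback (p.fiberι c)).obj L) := by
    let _ : (p.fiber c).Over (Spec (CommRingCat.of (S.residueField c))) := ⟨p.fiberToSpecResidueField c⟩
    exact (K432.NefBasic.nef_iff_hyp (k := S.residueField c) (X := p.fiber c)
      ((Scheme.Modules.pullback (p.fiberι c)).obj L)
      (Groth.Agent.Fdesc.LocGen.isInvertible_pullback _ hL)).mp h0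
  have h1 := K432.NefFam.nef_generic_fiber p L hL c η rfl h0'
  let _ : (p.fiber η).Over (Spec (CommRingCat.of (S.residueField η))) := ⟨p.fiberToSpecResidueField η⟩
  exact (K432.NefBasic.nef_iff_hyp (k := S.residueField η) (X := p.fiber η)
      ((Scheme.Modules.pullback (p.fiberι η)).obj L)
      (Groth.Agent.Fdesc.LocGen.isInvertible_pullback _ hL)).mpr h1

end Groth.Agent.S16714
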