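import Groth.Statements.S16717
import Groth.Agent.HopfRep.K191.Reductive

set_option autoImplicit false
universe u v
open HopfRep

namespace Groth.Agent.S16717

open TensorProduct in
/-- Equivalence of the exactness of invariants with complete reducibility of finite-dimensional
representations. Let k be a field and A a finitely generated commutative Hopf algebra over k (the
coordinate ring of an affine algebraic group G). Then every finite-dimensional A-comodule is
semisimple if and only if taking fixed vectors is exact, i.e. for every surjective comodule map φ :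
V → W between A-comodules (of any dimension; φ k-linear with (φ ⊗ id) ∘ ρ_V = ρ_W ∘ φ) every fixed
vector of W is the image of a fixed vector of V. -/
theorem result (k : Type u) [Field k] (A : Type v)
    [CommRing A] [HopfAlgebra k A] (hA : Algebra.FiniteType k A) :
    HopfRep.IsLinearlyReductive k A ↔
      ∀ (V W : Type v) [AddCommGroup V] [Module k V] [HopfRep.Comod k A V]
        [AddCommGroup W] [Module k W] [HopfRep.Comod k A W] (φ : V →ₗ[k] W),
        LinearMap.rTensor A φ ∘ₗ HopfRep.Comod.coact (k := k) (A := A) (V := V) =
            HopfRep.Comod.coact (k := k) (A := A) (V := W) ∘ₗ φ →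
          Function.Surjective φ →
            ∀ w ∈ HopfRep.fixedPts k A W, ∃ v ∈ HopfRep.fixedPts k A V, φ v = w := by
  constructor
  · intro hG V W _ _ _ _ _ _ φ hφ hsurj w hw
    obtain ⟨v, hv⟩ := hsurj w
    exact Groth.Agent.Books.ComodInv.exists_fixed_lift hG
      (fun v => (LinearMap.congr_fun hφ v).symm) hw hv
  · intro h
    rw [K191.Reductive.isLinearlyReductive_iff_lift]
    intro V _ _ _ _ f hf hf0
    have hS : HopfRep.IsSubcomod (k := k) (A := A) (Submodule.span k {(1 : A)}) :=
      Groth.Agent.Books.ComodHom.isSubcomod_span_singleton (a := 1)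
        (show _ = _ from Bialgebra.comul_one)
    letI := Groth.Agent.Books.ComodHom.subComod (Submodule.span k {(1 : A)}) hS
    have hs : Groth.Agent.Books.ComodHom.IsComodHom k A (Submodule.span k {(1 : A)}).subtype :=
      Groth.Agent.Books.ComodHom.isComodHom_subtype _ hS
    let o : (Submodule.span k {(1 : A)} : Submodule k A) := ⟨1, Submodule.mem_span_singleton_self _⟩
    let φ : V →ₗ[k] (Submodule.span k {(1 : A)} : Submodule k A) := LinearMap.toSpanSingleton k _ o ∘ₗ f
    have hφ : ∀ v, φ v = f v • o := fun v => rfl
    have ho : HopfRep.Comod.coact (k := k) (A := A) o = o ⊗ₜ[k] (1 : A) := by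
      refine Groth.Agent.Books.ComodHom.rTensor_subtype_injective (A := A) _ ?_
      rw [LinearMap.rTensor_tmul, ← hs]
      exact Bialgebra.comul_one
    have hone : (1 : A) ≠ 0 := fun h => by
      have h3 := congrArg (CoalgebraStruct.counit (R := k)) h
      rw [map_zero, show CoalgebraStruct.counit (R := k) (1 : A) = 1 from Bialgebra.counit_one] at h3
      exact one_ne_zero h3
    obtain ⟨v, hv, hv1⟩ := h V (Submodule.span k {(1 : A)} : Submodule k A) φ (by
      refine LinearMap.ext fun v => ?_
      rw [LinearMap.comp_apply, LinearMap.comp_apply, hφ, map_smul, ho]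
      change (LinearMap.toSpanSingleton k _ o ∘ₗ f).rTensor A _ = _
      rw [LinearMap.rTensor_comp, LinearMap.comp_apply, hf v, LinearMap.rTensor_tmul,
        LinearMap.toSpanSingleton_apply, TensorProduct.smul_tmul']) (by
      rintro ⟨x, hx⟩
      obtain ⟨c, rfl⟩ := Submodule.mem_span_singleton.1 hx
      obtain ⟨v, hv⟩ := LinearMap.surjective hf0 c
      exact ⟨v, Subtype.ext (by rw [hφ, hv]; rfl)⟩) o ho
    refine ⟨v, hv, fun h0 => hone ?_⟩
    rw [hφ, h0, zero_smul] at hv1
    exact (congrArg Subtype.val hv1).symm
end Groth.Agent.S16717
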