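import Groth.Statements.S16718
import Groth.Agent.Books.ComodBasic
import Mathlib.RingTheory.FiniteType
import Mathlib.RingTheory.Polynomial.Basic

set_option autoImplicit false
universe u v w
open TensorProduct
open GLin

namespace Groth.Agent.S16718

open Groth.Agent.Books.ComodBasic in
/-- Let k be a field, A a finitely generated commutative Hopf algebra over k (an affine algebraic group
G), R a finitely generated commutative k-algebra carrying an A-comodule structure whose coaction is
an algebra homomorphism (an action of G on X = Spec R), and I an ideal of R which is a subcomodule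
(a G-invariant closed subscheme Z of X). Then there is a finite-dimensional subcomodule W of R with
W ⊆ I generating I as an ideal; equivalently there is a G-equivariant morphism f from X to the
affine space of a finite-dimensional G-representation with f⁻¹(0) = Z as closed subschemes. -/
theorem result (k : Type u) [Field k]
    (A : Type v) [CommRing A] [HopfAlgebra k A] (hA : Algebra.FiniteType k A)
    (R : Type w) [CommRing R] [Algebra k R] [HopfRep.Comod k A R] [GLin.IsCoactAlg k A R]
    (hR : Algebra.FiniteType k R) (I : Ideal R)
    (hI : HopfRep.IsSubcomod (k := k) (A := A) (I.restrictScalars k)) :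
    ∃ W : Submodule k R, Module.Finite k W ∧ HopfRep.IsSubcomod (k := k) (A := A) W ∧
      W ≤ I.restrictScalars k ∧ Ideal.span (W : Set R) = I := by
  have hN : IsNoetherianRing R := Algebra.FiniteType.isNoetherianRing k R
  obtain ⟨s, hs⟩ := hN.noetherian I
  refine ⟨⨆ x ∈ s, gen k A x, ?_, ?_, ?_, ?_⟩
  · rw [Module.Finite.iff_fg]
    exact Submodule.fg_biSup s _ fun x _ => Module.Finite.iff_fg.1 (finite_gen (k := k) (A := A) x)
  · exact IsSubcomod.iSup fun x => IsSubcomod.iSup fun _ => isSubcomod_gen x
  · refine iSup₂_le fun x hx => gen_le hI ?_
    rw [← hs]
    exact Submodule.subset_span hx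
  · apply le_antisymm
    · rw [Ideal.span_le]
      have : (⨆ x ∈ s, gen k A x) ≤ I.restrictScalars k := by
        refine iSup₂_le fun x hx => gen_le hI ?_
        rw [← hs]
        exact Submodule.subset_span hx
      exact this
    · conv_lhs => rw [← hs]
      rw [← Ideal.span, Ideal.span_le]
      intro x hx
      exact Ideal.subset_span ((le_iSup₂ (f := fun x (_ : x ∈ s) => gen k A x) x hx)
        (self_mem_gen (k := k) (A := A) x))

end Groth.Agent.S16718
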