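import Groth.Statements.S16860
import Groth.Agent.Gerb.K894.Ifc
import Groth.Agent.Gerb.K894.LocQ
import Groth.Agent.Gerb.K894.Iff

set_option autoImplicit false
universe u
open CategoryTheory AlgebraicGeometry
open Gerb

namespace Groth.Agent.S16860

/-- For a morphism f of algebraic stacks, the source is a gerbe over the target along f if and only if f
and its diagonal are both surjective, flat and locally of finite presentation. -/
theorem result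
    (S : Scheme.{u}) (𝒳 𝒴 : AlgSt.Cat S)
    (h𝒳 : AlgSt.IsAlgStack Scheme.fppfPrecoverage 𝒳) (h𝒴 : AlgSt.IsAlgStack Scheme.fppfPrecoverage 𝒴)
    (f : 𝒳 ⥤ᵇ 𝒴) :
    Gerb.IsGerbeOver (QuotSh.J Scheme.fppfPrecoverage S) f ↔
      (AlgSt.IsSurjective f ∧ AlgSt.LocQ (AlgSp.LocP @Flat) f ∧
        AlgSt.LocQ (AlgSp.LocP @LocallyOfFinitePresentation) f) ∧
      (AlgSt.IsSurjective (FibCat.diag f) ∧ AlgSt.LocQ (AlgSp.LocP @Flat) (FibCat.diag f) ∧
        AlgSt.LocQ (AlgSp.LocP @LocallyOfFinitePresentation) (FibCat.diag f)) := by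
  have i1 := h𝒳.isStack.1
  have i2 := h𝒴.isStack.1
  constructor
  · intro hf
    have h1 := K894.Diag.flat_diag h𝒳 h𝒴 f hf
    have h2 := K894.Diag.lfp_diag h𝒳 h𝒴 f hf
    have h3 := K894.Diag.surjective_diag_pts h𝒳 h𝒴 f hf
    have hfp := K894.Ifc.isAlgStack_fp h𝒳 h𝒳 h𝒴 f f
    exact ⟨⟨K894.Surj.isSurjective_of_locSurjObj _ hf.1, K894.Iff.locQ_flat_of h𝒳 h𝒴 f hf.1 h1 h2 h3,
      K894.Iff.locQ_lfp_of h𝒳 h𝒴 f hf.1 h1 h2 h3⟩, h3, K894.LocQ.locQ_flat h𝒳 hfp _ h1, K894.LocQ.locQ_lfp h𝒳 hfp _ h2⟩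
  · rintro ⟨⟨a, b, c⟩, d, e, g⟩
    exact K894.Iff.isGerbeOver_of_locQ i1 i2 f a b c d e g

end Groth.Agent.S16860
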