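import Groth.Statements.S16720
import Groth.Agent.S16860
import Groth.Agent.S12994
import Groth.Agent.S10553
import Groth.Agent.Gerb.K894.SmST
import Groth.Agent.Gerb.K894.Ifc
import Groth.Agent.AlgSt.K742.EvQ3

set_option autoImplicit false
universe u
open Gerb

namespace Groth.Agent.S16720

open CategoryTheory AlgebraicGeometry in
/-- Let `S` be a scheme and `f : 𝒳 ⟶ 𝒴` a morphism of algebraic stacks over `(Sch/S)` (fppf topology).
If `𝒳` is a gerbe over `𝒴` along `f` (objects of `𝒴` lift to `𝒳` fppf-locally on their base scheme,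
and every morphism between images of objects of `𝒳` lying over an identity lifts fppf-locally to a
pair of morphisms out of a common object of `𝒳`), then `f` is surjective on points and smooth,
smoothness being read on one smooth chart square. -/
theorem result (S : Scheme.{u}) (𝒳 𝒴 : AlgSt.Cat S)
    (h𝒳 : AlgSt.IsAlgStack Scheme.fppfPrecoverage 𝒳) (h𝒴 : AlgSt.IsAlgStack Scheme.fppfPrecoverage 𝒴)
    (f : 𝒳 ⥤ᵇ 𝒴) (hf : Gerb.IsGerbeOver (QuotSh.J Scheme.fppfPrecoverage S) f) :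
    AlgSt.IsSurjective f ∧ AlgSt.LocQ (AlgSp.LocP @Smooth) f := by
  have i1 := h𝒳.isStack.1
  have i2 := h𝒴.isStack.1
  obtain ⟨⟨a, b, c⟩, d, e, g⟩ := (Groth.Agent.S16860.result S 𝒳 𝒴 h𝒳 h𝒴 f).1 hf
  refine ⟨a, ?_⟩
  have hfp := K894.Ifc.isAlgStack_fp h𝒳 h𝒳 h𝒴 f f
  have hid : BasedFunctor.comp (FibCat.diag f) (FibCat.fpFst f f) = BasedFunctor.id 𝒳 := rfl
  have h1 : AlgSt.LocQ (AlgSp.LocP @Smooth) (BasedFunctor.comp (FibCat.diag f) (FibCat.fpFst f f)) := by
    rw [hid]; exact K742.EvQ.locQ_id K742.nice_smooth h𝒳.atlas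
  have h2 : AlgSt.LocQ (AlgSp.LocP @Smooth) (FibCat.fpFst f f) :=
    K742.EvQ.locQ_of_comp_surjective₂ K742.nice_flat K742.nice_lfp K742.nice_smooth K742.nice_smooth
      (fun A B C a b h1 h2 h3 h4 => K629.SchDesc.smooth a b h1 h2 h3 h4)
      i1 hfp.isStack.1 i1 h𝒳.atlas hfp.atlas h𝒳.atlas _ _ e g d h1
  have hst : AlgSp.IsSmoothLocalST (AlgSp.LocP (S := S) @Smooth) :=
    Groth.Agent.S10567.result _ (Groth.Agent.S10553.result S) (K894.SmST.isLocalOnBase_smooth K742.nice_smooth.fppf)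
      (fun {X Y Z} f g hf hg => K742.SmComp.stableComp_locP K742.nice_smooth.et X.property Y.property Z.property _ _ hf hg)
  exact Groth.Agent.S12994.result S _ hst K742.nice_smooth.fppf 𝒳 𝒴 h𝒳 h𝒴 f 𝒳 h𝒳 f b c a h2

end Groth.Agent.S16720
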