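import Groth.Statements.S16725
import Groth.Agent.CurvSt.K896.MbarFinal

set_option autoImplicit false
universe u
open CurvSt

namespace Groth.Agent.S16725

open CategoryTheory AlgebraicGeometry in
/-- Let S be a scheme and g, n natural numbers with 2g - 2 + n > 0. The category over (Sch/S) of stable
n-pointed curves of genus g is an algebraic stack for the big etale topology whose structure functor
to (Sch/S) is smooth (there are a smooth surjective chart U of the stack and a smooth S-scheme V
with a smooth S-morphism U → V compatible with the charts), and it has an object over every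
algebraically closed field over S. (The source states smoothness over the integers; smoothness over
a general S is its base change.) -/
theorem result (S : Scheme.{u}) (g n : ℕ) (h : 3 ≤ 2 * g + n) :
    AlgSt.IsAlgStack Scheme.etalePrecoverage (CurvSt.Mbar S g n) ∧
      AlgSt.LocQ (AlgSp.LocP @Smooth) (FibCat.toSelf (CurvSt.Mbar S g n)) ∧
      ∀ (Ω : Type u) [Field Ω] [IsAlgClosed Ω] (t : Spec (CommRingCat.of Ω) ⟶ S),
        Nonempty ((CurvSt.Mbar S g n).p.Fiber (Over.mk t)) := by
  exact ⟨K316.MbarAlg.isAlgStack_mbar_etale S h, K896.MbarFinal.locQ_smooth_mbar S h,
    fun Ω _ _ t => K310.ExistsCurve.nonempty_Mbar_fiber t g n h⟩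

end Groth.Agent.S16725
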