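import Groth.Statements.S16727
import Groth.Agent.CurvSt.K508.Row16727
import Groth.Agent.S16723
import Groth.Agent.S16726

set_option autoImplicit false
universe u
open CurvSt

namespace Groth.Agent.S16727

open CategoryTheory AlgebraicGeometry in
/-- Let S be a locally Noetherian scheme and g, n natural numbers with 2g - 2 + n > 0. The category over
(Sch/S) of stable n-pointed curves of genus g admits a coarse moduli space which is an algebraic
space proper over S: there are an algebraic space M over S and a morphism π from the stack to M,
categorical among morphisms to algebraic spaces and bijective on isomorphism classes of objects over
every algebraically closed field, such that the structure morphism from M to the final sheaf h_S is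
proper; moreover the stack has an object over every algebraically closed field over S. (The source
states this over the integers and obtains the coarse space from the Keel–Mori result for
Deligne–Mumford stacks of finite type and separated over a Noetherian base; the base is taken
locally Noetherian here, the case that argument covers — for stacks with finite inertia over a base
that is not locally Noetherian a coarse space exists but need not be of finite type over the base.) -/
theorem result (S : Scheme.{u}) [IsLocallyNoetherian S] (g n : ℕ) (h : 3 ≤ 2 * g + n) :
    (∃ (M : AlgSp.Sp S) (π : CurvSt.Mbar S g n ⥤ᵇ AlgSt.ofSp M), AlgSt.IsCoarseModuli π ∧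
        ∀ s : M ⟶ (AlgSp.yon S).obj (Over.mk (𝟙 S)), AlgSp.IsProperMor s) ∧
      ∀ (Ω : Type u) [Field Ω] [IsAlgClosed Ω] (t : Spec (CommRingCat.of Ω) ⟶ S),
        Nonempty ((CurvSt.Mbar S g n).p.Fiber (Over.mk t)) := by
  exact K508.CoarseP.main16727 S g n (Groth.Agent.S16723.result S g n h) (Groth.Agent.S16726.result S g n h)

end Groth.Agent.S16727
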