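import Groth.Statements.S16736
import Groth.Agent.CurvSt.K760.All
import Groth.Agent.S16748

set_option autoImplicit false
universe u
open CurvSt

namespace Groth.Agent.S16736

attribute [-instance] CategoryTheory.catToReflQuiver

open CategoryTheory CategoryTheory.Limits AlgebraicGeometry in
/-- Let k be an algebraically closed field of characteristic 0 and X a smooth, proper, connected scheme
over k of dimension one with dim H^1(X, O_X) = g ≥ 2. Then there are a smooth connected scheme T
over k of dimension one, k-points s and t of T, and a morphism f : C → T which is a stable family of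
genus-g curves (no marked points), together with a cartesian square exhibiting X as the fibre of f
over s, such that the fibre of f over t is not smooth over k (X degenerates to a singular stable
curve). -/
theorem result (k : Type u) [Field k] [IsAlgClosed k] [CharZero k]
    (X : Scheme.{u}) [X.Over (Spec (CommRingCat.of k))] [Smooth (X ↘ Spec (CommRingCat.of k))]
    [IsProper (X ↘ Spec (CommRingCat.of k))] [ConnectedSpace X] (hdim : topologicalKrullDim X = 1)
    (g : ℕ) (hg : Curv2.genus k X = g) (h2 : 2 ≤ g) :
    ∃ (T : Scheme.{u}) (p : T ⟶ Spec (CommRingCat.of k)) (s t : Spec (CommRingCat.of k) ⟶ T)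
      (C : Scheme.{u}) (f : C ⟶ T) (i : X ⟶ C),
      Smooth p ∧ ConnectedSpace T ∧ topologicalKrullDim T = 1 ∧ s ≫ p = 𝟙 _ ∧ t ≫ p = 𝟙 _ ∧
      CurvSt.IsStableFam f (fun j : Fin 0 => j.elim0) (fun j : Fin 0 => j.elim0) g ∧
      IsPullback i (X ↘ Spec (CommRingCat.of k)) f s ∧
      ∀ (Y : Scheme.{u}) (j : Y ⟶ C) (r : Y ⟶ Spec (CommRingCat.of k)), IsPullback j r f t → ¬ Smooth r := by
  exact K760.Final.final K760.All.simple K760.All.t1 K603.Hurw.p1BC K603.Hurw.fam K641.HurwAsm.main K760.All.bad
    Groth.Agent.S16748.result k X (X ↘ Spec (CommRingCat.of k)) hdim g hg h2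

end Groth.Agent.S16736
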