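import Groth.Statements.S16728
import Groth.Agent.CurvSt.K896.Final2
import Groth.Agent.CurvSt.K253.Num
import Groth.Agent.CurvSt.K742.SepMain
import Groth.Agent.S16736
-- import your own Groth.Agent.* helpers here

set_option autoImplicit false
universe u
open CurvSt

namespace Groth.Agent.S16728

open CategoryTheory AlgebraicGeometry in
/-- Let k be a field and g, n natural numbers with 2g - 2 + n > 0. The category over (Sch/Spec k) of
stable n-pointed curves of genus g is a Deligne–Mumford algebraic stack for the big etale topology
whose space of points (equivalence classes of objects over fields, with the topology read on smooth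
scheme charts) is irreducible; and it has an object over every algebraically closed field over k. -/
theorem result (k : Type u) [Field k] (g n : ℕ) (h : 3 ≤ 2 * g + n) :
    AlgSt.IsDM Scheme.etalePrecoverage (CurvSt.Mbar (Spec (CommRingCat.of k)) g n) ∧
      IrreducibleSpace (AlgSt.Points (CurvSt.Mbar (Spec (CommRingCat.of k)) g n)) ∧
      ∀ (Ω : Type u) [Field Ω] [IsAlgClosed Ω] (t : Spec (CommRingCat.of Ω) ⟶ Spec (CommRingCat.of k)),
        Nonempty ((CurvSt.Mbar (Spec (CommRingCat.of k)) g n).p.Fiber (Over.mk t)) := by
  exact K896.Final2.s16728
    { num := fun k _ _ _ => by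
        intro Z r z h1 h2
        exact K253.Num.genus_pos r h1 (Set.finite_singleton z) (by simp)
      deg := fun k _ _ _ => K896.Final.degStmt k fun X _ _ _ _ hdim g hg h2 =>
        Groth.Agent.S16736.result k X hdim g hg h2
      sep := fun S _ g hg => K742.SepMain.sepZero g hg S } k g n h

end Groth.Agent.S16728
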