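import Groth.Statements.S16730
import Groth.Agent.CurvSt.K896.Stabil

set_option autoImplicit false
universe u
open CurvSt

namespace Groth.Agent.S16730

open CategoryTheory CategoryTheory.Limits AlgebraicGeometry in
/-- Let k be an algebraically closed field and (X, x_1, …, x_n) an n-pointed prestable curve of genus g
over k — X proper over k, connected, of dimension one, with at-worst-nodal singularities and dim
H^1(X, O_X) = g, the x_i pairwise distinct closed points each having an open neighbourhood smooth
over k — with 2g - 2 + n > 0. Then there is a morphism c : X → Y of schemes over k such that (Y,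
c(x_1), …, c(x_n)) is a stable n-pointed curve of genus g over k, the unit O_Y → c_*O_X is an
isomorphism and R^1 c_*O_X vanishes (c contracts the rational tails and bridges). -/
theorem result (k : Type u) [Field k] [IsAlgClosed k] (X : Scheme.{u})
    (q : X ⟶ Spec (CommRingCat.of k)) [IsProper q] [ConnectedSpace X] (hdim : topologicalKrullDim X = 1)
    (g n : ℕ) (hX : letI : X.Over (Spec (CommRingCat.of k)) := ⟨q⟩; Curv2.AtWorstNodal k X ∧ Curv2.genus k X = g)
    (x : Fin n → X) (hx : Function.Injective x)
    (hxs : ∀ i, IsClosed ({x i} : Set X) ∧ ∃ U : X.Opens, x i ∈ U ∧ Smooth (U.ι ≫ q)) (h : 3 ≤ 2 * g + n)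
    [HasInjectiveResolutions X.Modules] :
    ∃ (Y : Scheme.{u}) (qY : Y ⟶ Spec (CommRingCat.of k)) (c : X ⟶ Y), c ≫ qY = q ∧
      CurvSt.IsStablePtd k Y qY g (fun i => c.base (x i)) ∧
      IsIso (ClSub.unitToPush c) ∧ IsZero ((Coh.Rpush c 1).obj (Coh.structureModule X)) := by
  obtain ⟨Y, qY, c, hq, hst, hcon⟩ := K896.Stabil.main k q g n x
    ⟨inferInstance, inferInstance, hdim, hX.1, hX.2, hx, fun i => (hxs i).1, fun i => (hxs i).2⟩ h
  exact ⟨Y, qY, c, hq, hst, hcon.isIso_unit, hcon.isZero_Rpush 1 Nat.one_pos⟩

end Groth.Agent.S16730
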