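import Groth.Statements.S16732
import Groth.Agent.Curves.K330.GlueFam

set_option autoImplicit false
universe u
open Curves

namespace Groth.Agent.S16732

open CategoryTheory CategoryTheory.Limits AlgebraicGeometry in
/-- Let f : C → S be a proper morphism of schemes which is at-worst-nodal of relative dimension one,
such that any two points of C in the same fibre of f lie in a common affine open subscheme of C (as
holds when f is projective), and let σ, τ : S → C be two sections of f such that for every s the
points σ(s), τ(s) are distinct and each has an open neighbourhood in C smooth over S. Then there are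
a scheme C', a morphism f' : C' → S and a finite morphism g : C → C' over S with σ ≫ g = τ ≫ g, such
that: (i) g is universal — for every scheme Z and every u : C → Z with σ ≫ u = τ ≫ u there is a
unique v : C' → Z with g ≫ v = u (C' is the pushout gluing σ and τ); (ii) f' is proper and
at-worst-nodal of relative dimension one; (iii) g restricts to an isomorphism over every open subset
of C' disjoint from the image of the section ν := σ ≫ g; (iv) for every s the point ν(s) has no open
neighbourhood in C' smooth over S (it is a node of its fibre). -/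
theorem result {C S : Scheme.{u}} (f : C ⟶ S) [IsProper f]
    (hf : Curv2.IsNodalFamily f)
    (haff : ∀ x y : C, f.base x = f.base y → ∃ U : C.Opens, IsAffineOpen U ∧ x ∈ U ∧ y ∈ U)
    (σ τ : S ⟶ C) (hσ : σ ≫ f = 𝟙 S) (hτ : τ ≫ f = 𝟙 S) (hne : ∀ s : S, σ.base s ≠ τ.base s)
    (hσs : ∀ s : S, ∃ U : C.Opens, σ.base s ∈ U ∧ Smooth (U.ι ≫ f))
    (hτs : ∀ s : S, ∃ U : C.Opens, τ.base s ∈ U ∧ Smooth (U.ι ≫ f)) :
    ∃ (C' : Scheme.{u}) (f' : C' ⟶ S) (g : C ⟶ C'), g ≫ f' = f ∧ IsFinite g ∧ σ ≫ g = τ ≫ g ∧
      (∀ (Z : Scheme.{u}) (u : C ⟶ Z), σ ≫ u = τ ≫ u → ∃! v : C' ⟶ Z, g ≫ v = u) ∧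
      IsProper f' ∧ Curv2.IsNodalFamily f' ∧
      (∀ U : C'.Opens, Disjoint (U : Set C') (Set.range (σ ≫ g).base) → IsIso (g ∣_ U)) ∧
      (∀ s : S, ¬ ∃ U : C'.Opens, (σ ≫ g).base s ∈ U ∧ Smooth (U.ι ≫ f')) := by
  have hfp : LocallyOfFinitePresentation f := hf.2.1
  obtain ⟨P, f', g, b, h⟩ := K330.GlueSq.exists_glue f haff σ τ hσ hτ hne
  have hlfp := h.locallyOfFinitePresentation
  have hσg : σ ≫ g = b := h.comp₁
  refine ⟨P, f', g, h.fac, h.isFinite, h.comp₁.trans h.comp₂.symm, h.existsUnique, h.isProper inferInstance,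
    h.isNodalFamily hf hne hσs hτs, fun U hU => ?_, fun s => ?_⟩
  · rw [hσg] at hU
    exact h.isIso_restrict U hU
  · rw [hσg]
    exact h.not_smooth hf hne hσs hτs s

end Groth.Agent.S16732
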