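import Groth.Statements.S16734
import Groth.Agent.CurvSt.K742.Row34
import Groth.Agent.S17201

set_option autoImplicit false
universe u
open CurvSt

namespace Groth.Agent.S16734

attribute [-instance] CategoryTheory.catToReflQuiver

open CategoryTheory CategoryTheory.Limits AlgebraicGeometry in
/-- Let R be a discrete valuation ring which is a ℚ-algebra, K its fraction field, and X a smooth proper
K-scheme of dimension one with dim_K H^0(X, O_X) = 1 and dim_K H^1(X, O_X) = g; let x_1, …, x_n be
pairwise distinct K-points of X and assume 2g - 2 + n > 0. Then there are a discrete valuation ring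
R' with a local injective homomorphism R → R', a field K' which is the fraction field of R' and an
extension of K compatibly with R → R', a scheme C' with a morphism f' : C' → Spec R' and sections
σ_1, …, σ_n forming a stable n-pointed family of genus g, and a morphism i : X_{K'} → C' from the
base change X_{K'} = X ×_K K' making X_{K'} the fibre of f' over Spec K' → Spec R', such that for
each j the K'-point of X_{K'} induced by x_j is carried by i to the restriction of σ_j to Spec K'. -/
theorem result (R : Type u) [CommRing R] [IsDomain R] [IsDiscreteValuationRing R]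
    [Algebra ℚ R] (K : Type u) [Field K] [Algebra R K] [IsFractionRing R K]
    (X : Scheme.{u}) [X.Over (Spec (CommRingCat.of K))] [Smooth (X ↘ Spec (CommRingCat.of K))] [IsProper (X ↘ Spec (CommRingCat.of K))]
    (hdim : topologicalKrullDim X = 1) (h0 : Module.finrank K (Coh.HH X (Coh.structureModule X) 0) = 1) (g : ℕ)
    (hg : Curv2.genus K X = g)
    (n : ℕ) (x : Fin n → (Spec (CommRingCat.of K) ⟶ X)) (hx : ∀ j, x j ≫ (X ↘ Spec (CommRingCat.of K)) = 𝟙 _) (hinj : Function.Injective x)
    (h : 3 ≤ 2 * g + n) :
    ∃ (R' K' : Type u) (_ : CommRing R') (_ : IsDomain R') (_ : IsDiscreteValuationRing R') (_ : Field K')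
      (_ : Algebra R R') (_ : Algebra R' K') (_ : IsFractionRing R' K') (_ : Algebra K K'),
      IsLocalHom (algebraMap R R') ∧ Function.Injective (algebraMap R R') ∧
      (algebraMap R' K').comp (algebraMap R R') = (algebraMap K K').comp (algebraMap R K) ∧
      ∃ (C' : Scheme.{u}) (f' : C' ⟶ Spec (CommRingCat.of R')) (σ : Fin n → (Spec (CommRingCat.of R') ⟶ C'))
        (hσ : ∀ j, σ j ≫ f' = 𝟙 _) (i : pullback (X ↘ Spec (CommRingCat.of K)) (Spec.map (CommRingCat.ofHom (algebraMap K K'))) ⟶ C'),
        CurvSt.IsStableFam f' σ hσ g ∧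
        IsPullback i (pullback.snd (X ↘ Spec (CommRingCat.of K)) (Spec.map (CommRingCat.ofHom (algebraMap K K')))) f' (Spec.map (CommRingCat.ofHom (algebraMap R' K'))) ∧
        ∀ j, ∃ y : Spec (CommRingCat.of K') ⟶ pullback (X ↘ Spec (CommRingCat.of K)) (Spec.map (CommRingCat.ofHom (algebraMap K K'))),
          y ≫ pullback.fst (X ↘ Spec (CommRingCat.of K)) (Spec.map (CommRingCat.ofHom (algebraMap K K'))) = (Spec.map (CommRingCat.ofHom (algebraMap K K'))) ≫ x j ∧
            y ≫ i = Spec.map (CommRingCat.ofHom (algebraMap R' K')) ≫ σ j := by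
  exact K742.Row34.main Groth.Agent.S17201.result R K X hdim h0 g hg n x hx hinj h

end Groth.Agent.S16734
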