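import Groth.Statements.S16735
import Groth.Agent.CurvSt.K896.ConNodal

set_option autoImplicit false
universe u
open Curves

namespace Groth.Agent.S16735

open CategoryTheory CategoryTheory.Limits AlgebraicGeometry in
/-- Let X be a proper scheme over a field k of dimension one with dim_k H^0(X, O_X) = 1 and
at-worst-nodal singularities, and let C be an irreducible component of X which is a rational tail or
a rational bridge. Then there are a scheme Y over k and a k-morphism c : X → Y such that c(C) is a
single point, c restricts to an isomorphism over every open subset of Y not meeting c(C), the unit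
O_Y → c_*O_X is an isomorphism, R^1 c_*O_X = 0, and Y is proper over k of dimension one with
at-worst-nodal singularities. (The source's contraction is a specific pushout; here only the
existence of such a contraction is asserted. The published statement takes the rational component
smooth over k; here a rational tail, resp. a rational bridge, is any irreducible component C with
H^1(C, O_C) = 0 whose complement's closure X' is non-empty and meets C in a single reduced point
with residue field H^0(C, O_C), resp. in a finite subscheme whose ring of functions has k-dimension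
twice that of H^0(C, O_C), with no smoothness asked — the same pushout construction contracts
these.) -/
theorem result (k : Type u) [Field k] (X : Scheme.{u}) [X.Over (Spec (CommRingCat.of k))]
    [IsProper (X ↘ Spec (CommRingCat.of k))] (hdim : topologicalKrullDim X = 1)
    (h0 : Module.finrank k (Coh.HH X (Coh.structureModule X) 0) = 1) (hX : Curv2.AtWorstNodal k X)
    (C : Set X) (hC : C ∈ irreducibleComponents (X : Type u))
    (h : Curv2.IsRationalTail X C hC ∨ Curv2.IsRationalBridge k X C hC) [HasInjectiveResolutions X.Modules] :
    ∃ (Y : Scheme.{u}) (_ : Y.Over (Spec (CommRingCat.of k))) (c : X ⟶ Y),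
      c ≫ (Y ↘ Spec (CommRingCat.of k)) = X ↘ Spec (CommRingCat.of k) ∧
      (c.base '' C).Subsingleton ∧
      (∀ U : Y.Opens, Disjoint (U : Set Y) (c.base '' C) → IsIso (c ∣_ U)) ∧
      IsIso (ClSub.unitToPush c) ∧ IsZero ((Coh.Rpush c 1).obj (Coh.structureModule X)) ∧
      IsProper (Y ↘ Spec (CommRingCat.of k)) ∧ topologicalKrullDim Y = 1 ∧ Curv2.AtWorstNodal k Y := by
  have hconn : ConnectedSpace X := Groth.Agent.CurvesC.GenusOne512.connectedSpace_of_h0 k X h0
  have hred : IsReduced X := Groth.Agent.CurvesC.GenusOne512.isReduced_of_atWorstNodal k X hX
  obtain ⟨Y, qY, c, b, hq, hP, hcon, hcon', hdY, hnY, -, -⟩ :=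
    K896.ConNodal.exists_main k (hC := hC) hdim hX h
  have hs := K896.CompG.subsingleton_specΓ k X C hC
  exact ⟨Y, ⟨qY⟩, c, hq, K896.ConNodal.subsingleton_image hcon hs,
    fun U hU => hcon.isIso_restrict (K896.CompG.inf_eq_bot k X C hC) U
      (K896.ConNodal.preimage_eq_bot hcon hs U hU),
    hcon'.isIso_unit, hcon'.isZero_Rpush 1 Nat.one_pos, hP, hdY, hnY⟩

end Groth.Agent.S16735
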