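import Groth.Statements.S16737
import Mathlib.RingTheory.Kaehler.Polynomial
import Mathlib.Algebra.MvPolynomial.Expand
import Mathlib.Algebra.MvPolynomial.PDeriv
import Mathlib.Algebra.CharP.Lemmas
import Mathlib.Data.ZMod.Basic

set_option autoImplicit false
universe u v
open DeRham

namespace Groth.Agent.S16737

/-- The case of affine space over an affine base of characteristic p, in degree zero. Let p be a prime
and R a commutative ring with p = 0 in R. For a polynomial f over R in any set of variables t_i, the
Kähler differential df in Ω_{R[t]/R} vanishes if and only if f is a polynomial in the p-th powers of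
the variables, f = g(t_i^p). Equivalently, the functions on affine space over R killed by the
differential of the de Rham complex are exactly the functions on its Frobenius twist. (The published
computation is for finitely many variables over a noetherian base of characteristic p; the statement
here allows any commutative ring with p = 0 and any set of variables.) -/
theorem result (p : ℕ) [Fact p.Prime]
    (R : Type u) [CommRing R] [CharP R p] (σ : Type v) (f : MvPolynomial σ R) :
    KaehlerDifferential.D R (MvPolynomial σ R) f = 0 ↔
      ∃ g : MvPolynomial σ R, f = MvPolynomial.expand p g := by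
  classical
  have hp : p.Prime := Fact.out
  have hnat : ∀ n : ℕ, ¬ p ∣ n → IsUnit (n : R) := by
    intro n hn
    have h2 : IsUnit ((n : ZMod p)) := (ZMod.isUnit_iff_coprime n p).mpr
      ((Nat.Prime.coprime_iff_not_dvd hp).mpr hn).symm
    have h3 := h2.map (ZMod.castHom (dvd_refl p) R)
    simpa using h3
  have hiff : KaehlerDifferential.D R (MvPolynomial σ R) f = 0 ↔ ∀ i, MvPolynomial.pderiv i f = 0 := by
    constructor
    · intro h i
      rw [← KaehlerDifferential.mvPolynomialBasis_repr_apply, h, map_zero]; rfl
    · intro h
      apply (KaehlerDifferential.mvPolynomialBasis R σ).repr.injective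
      ext1 i
      rw [KaehlerDifferential.mvPolynomialBasis_repr_apply, h i, map_zero]; rfl
  rw [hiff]
  clear hiff
  constructor
  · intro h
    have hdvd : ∀ m ∈ f.support, ∀ i, p ∣ m i := by
      intro m hm i
      by_contra hi
      have hmi : m i ≠ 0 := fun h0 => hi (h0 ▸ dvd_zero p)
      have h1 := MvPolynomial.coeff_pderiv (i := i) f (m - Finsupp.single i 1)
      rw [h i, MvPolynomial.coeff_zero] at h1
      have hm1 : m - Finsupp.single i 1 + Finsupp.single i 1 = m :=
        tsub_add_cancel_of_le (by
          rw [Finsupp.single_le_iff]; omega)
      rw [hm1] at h1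
      have h2 : (((m - Finsupp.single i 1 : σ →₀ ℕ) i : ℕ) : R) + 1 = ((m i : ℕ) : R) := by
        rw [← Nat.cast_succ, Finsupp.tsub_apply, Finsupp.single_eq_same]
        congr 1; omega
      rw [h2] at h1
      have h3 := (hnat (m i) hi).mul_left_eq_zero.mp h1.symm
      exact (MvPolynomial.mem_support_iff.mp hm) h3
    refine ⟨∑ m ∈ f.support, MvPolynomial.monomial (m.mapRange (· / p) (Nat.zero_div p))
      (MvPolynomial.coeff m f), ?_⟩
    rw [map_sum]
    conv_lhs => rw [← MvPolynomial.support_sum_monomial_coeff f]
    refine Finset.sum_congr rfl fun m hm => ?_
    rw [MvPolynomial.expand_monomial]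
    congr 2
    ext i
    simp only [Finsupp.smul_apply, Finsupp.mapRange_apply, smul_eq_mul]
    exact (Nat.mul_div_cancel' (hdvd m hm i)).symm
  · rintro ⟨g, rfl⟩ i
    induction g using MvPolynomial.induction_on' with
    | monomial m a =>
      rw [MvPolynomial.expand_monomial, MvPolynomial.pderiv_monomial]
      simp
    | add g g' hg hg' => rw [map_add, map_add, hg, hg', add_zero]

end Groth.Agent.S16737
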