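import Groth.Statements.S16738
import Groth.Agent.DelIll.K516.Kod
import Groth.Agent.DelIll.K904.LogCxT
import Groth.Agent.S5005

set_option autoImplicit false
universe u
open CategoryTheory CategoryTheory.Limits AlgebraicGeometry
open DelIll

namespace Groth.Agent.S16738

/-- The case without boundary divisor. Let k be a perfect field of characteristic p > 0 and X an
irreducible proper smooth k-scheme of dimension n which admits a lifting to the Witt vectors of
length two, given here as a flat morphism g : X~ → Spec W_2(k) and a morphism i : X → X~ forming a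
cartesian square over Spec k → Spec W_2(k). For an ample invertible module L with tensor inverse L⁻¹
and an a-th exterior power Ω^a of the sheaf of differentials of X over k, the cohomology group
H^b(X, Ω^a ⊗ L⁻¹) vanishes whenever a + b < min(p, n). (The published statement is for a proper
smooth k-scheme; X is taken irreducible here so that n is the dimension of every component, which
the Serre-duality step of the argument uses.) -/
theorem result (p : ℕ) [Fact p.Prime] (k : Type u) [Field k] [CharP k p] [PerfectRing k p]
    (X : Scheme.{u}) [X.Over (Spec (CommRingCat.of k))] [IsProper (X ↘ Spec (CommRingCat.of k))]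
    [Smooth (X ↘ Spec (CommRingCat.of k))]
    (Xl : Scheme.{u}) (g : Xl ⟶ Spec (CommRingCat.of (FrobAlg.W2 p k))) [Flat g] (i : X ⟶ Xl)
    (hlift : IsPullback i (X ↘ Spec (CommRingCat.of k)) g
      (Spec.map (CommRingCat.ofHom (FrobAlg.res p k))))
    [IrreducibleSpace X] (n : ℕ) (hn : topologicalKrullDim X = n)
    (L Linv : X.Modules) (hL : CohB1.IsAmple L) (hLinv : ClSub.IsInverseOf Linv L)
    (a b : ℕ) (Om : X.Modules) (hOm : ExtPow.IsExtPow a (Omega.sheaf (X ↘ Spec (CommRingCat.of k))) Om)
    (habn : a + b < n) (habp : a + b < p) :
    Subsingleton (Coh.HH X (CohB1.tensorMod Om Linv) b) := by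
  let D : Fin 0 → X.IdealSheafData := fun j => j.elim0
  let Dl : Fin 0 → Xl.IdealSheafData := fun j => j.elim0
  exact K516.Kod.main (D := D) (Dl := Dl) hlift
    (K922.Univ.affUniv (Groth.Agent.S5005.result (X ↘ Spec (CommRingCat.of k)))) (K904.LogCxT.isNCD_empty _ D)
    (fun j => j.elim0) (fun j => j.elim0) (K904.LogCxT.triv (OmegaSh.dOmega (X ↘ Spec (CommRingCat.of k))) D)
    n hn L Linv hL hLinv a b Om hOm habn habp

end Groth.Agent.S16738
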