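import Groth.Statements.S16740
import Groth.Agent.DelIll.K516.Pow
import Groth.Agent.S5005

set_option autoImplicit false
universe u
open CategoryTheory CategoryTheory.Limits AlgebraicGeometry
open DelIll

namespace Groth.Agent.S16740

/-- The case without boundary divisor. Let k be a perfect field of characteristic p > 0 and X a proper
smooth k-scheme admitting a lifting to the Witt vectors of length two (a flat g : X~ → Spec W_2(k)
with i : X → X~ cartesian over Spec k → Spec W_2(k)). Let M be an invertible module on X and Ω^a a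
chosen a-th exterior power of the sheaf of differentials of X over k for each a. Then for every l <
p, Σ_{a+b=l} dim_k H^b(X, Ω^a ⊗ M) ≤ Σ_{a+b=l} dim_k H^b(X, Ω^a ⊗ M^{⊗p}). -/
theorem result (p : ℕ) [Fact p.Prime] (k : Type u) [Field k] [CharP k p] [PerfectRing k p]
    (X : Scheme.{u}) [X.Over (Spec (CommRingCat.of k))] [IsProper (X ↘ Spec (CommRingCat.of k))]
    [Smooth (X ↘ Spec (CommRingCat.of k))]
    (Xl : Scheme.{u}) (g : Xl ⟶ Spec (CommRingCat.of (FrobAlg.W2 p k))) [Flat g] (i : X ⟶ Xl)
    (hlift : IsPullback i (X ↘ Spec (CommRingCat.of k)) g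
      (Spec.map (CommRingCat.ofHom (FrobAlg.res p k))))
    (M : X.Modules) (hM : PicF.IsInvertible M)
    (Om : ℕ → X.Modules) (hOm : ∀ a, ExtPow.IsExtPow a (Omega.sheaf (X ↘ Spec (CommRingCat.of k))) (Om a))
    (l : ℕ) (hl : l < p) :
    ∑ a ∈ Finset.range (l + 1), Module.finrank k (Coh.HH X (CohB1.tensorMod (Om a) M) (l - a)) ≤
      ∑ a ∈ Finset.range (l + 1), Module.finrank k
        (Coh.HH X (CohB1.tensorMod (Om a) (CohB1.tensorPow M p)) (l - a)) := by
  let D : Fin 0 → X.IdealSheafData := fun j => j.elim0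
  let Dl : Fin 0 → Xl.IdealSheafData := fun j => j.elim0
  exact K516.Pow.main (D := D) (Dl := Dl) hlift
    (K922.Univ.affUniv (Groth.Agent.S5005.result (X ↘ Spec (CommRingCat.of k)))) (K904.LogCxT.isNCD_empty _ D)
    (fun j => j.elim0) (fun j => j.elim0) (K904.LogCxT.triv (OmegaSh.dOmega (X ↘ Spec (CommRingCat.of k))) D) M hM Om hOm
    l hl

end Groth.Agent.S16740
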