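import Groth.Statements.S16742
import Groth.Agent.FlatA.TorVanish
import Mathlib.RingTheory.Flat.EquationalCriterion
import Mathlib.RingTheory.TensorProduct.Quotient

set_option autoImplicit false
universe u
open CAlg

namespace Groth.Agent.S16742

open TensorProduct

theorem zmod_aux (p : ℕ) (hp : p.Prime) (a : ZMod (p ^ 2)) (h : (p : ZMod (p ^ 2)) * a = 0) :
    ∃ c, a = (p : ZMod (p ^ 2)) * c := by
  have : NeZero (p ^ 2) := ⟨pow_ne_zero 2 hp.ne_zero⟩
  have h1 : a = ((a.val : ℕ) : ZMod (p ^ 2)) := by simp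
  rw [h1, ← Nat.cast_mul, ZMod.natCast_eq_zero_iff] at h
  have h2 : p * p ∣ p * a.val := (pow_two p) ▸ h
  obtain ⟨c, hc⟩ := Nat.dvd_of_mul_dvd_mul_left hp.pos h2
  refine ⟨(c : ZMod (p ^ 2)), ?_⟩
  rw [h1, hc, Nat.cast_mul]

theorem ann_of_flat (p : ℕ) (hp : p.Prime) (B : Type u) [CommRing B] [Algebra (ZMod (p ^ 2)) B]
    [Module.Flat (ZMod (p ^ 2)) B] (b : B) (hb : (p : B) * b = 0) : b ∈ Ideal.span {(p : B)} := by
  have h1 : ∑ i : Unit, (fun _ : Unit => (p : ZMod (p ^ 2))) i • (fun _ : Unit => b) i = 0 := by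
    simp [Algebra.smul_def, hb]
  obtain ⟨n, a, y, hx, ha⟩ := Module.Flat.isTrivialRelation_of_sum_smul_eq_zero h1
  have h2 := hx ()
  simp only at h2
  rw [h2]
  refine Ideal.sum_mem _ fun j _ => ?_
  have h3 := ha j
  simp only [Finset.univ_unique, Finset.sum_singleton] at h3
  obtain ⟨c, hc⟩ := zmod_aux p hp _ h3
  have h4 : a () j = (p : ZMod (p ^ 2)) * c := hc
  rw [h4, mul_smul, Algebra.smul_def, map_natCast]
  exact Ideal.mul_mem_right _ _ (Ideal.mem_span_singleton_self _)

/-- The equivalence in affine form, with flatness of the reduction in place of smoothness. Let p be a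
prime, A~ a commutative ring flat over Z/p^2 and B~ an A~-algebra such that B~/pB~ is flat over
A~/pA~. Then B~ is flat over A~ if and only if every element of B~ killed by p is a multiple of p;
equivalently multiplication by p identifies B~/pB~ with pB~. (The published statement assumes the
reduction smooth over A~/pA~ and the schemes noetherian, and phrases (b) as B~ being a lifting, that
is flat over A~; the statement here assumes only that the reduction is flat, where the equivalence
still holds by the local flatness criterion for the square-zero ideal generated by p.) -/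
theorem result (p : ℕ) [Fact p.Prime]
    (Al : Type u) [CommRing Al] [Algebra (ZMod (p ^ 2)) Al] [Module.Flat (ZMod (p ^ 2)) Al]
    (Bl : Type u) [CommRing Bl] [Algebra Al Bl]
    (hB : Module.Flat (Al ⧸ Ideal.span {(p : Al)})
      (Bl ⧸ (Ideal.span {(p : Al)}).map (algebraMap Al Bl))) :
    Module.Flat Al Bl ↔ ∀ b : Bl, (p : Bl) * b = 0 → b ∈ Ideal.span {(p : Bl)} := by
  have hp : p.Prime := Fact.out
  constructor
  · intro hflat b hb
    let _ : Algebra (ZMod (p ^ 2)) Bl :=
      ((algebraMap Al Bl).comp (algebraMap (ZMod (p ^ 2)) Al)).toAlgebra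
    have : IsScalarTower (ZMod (p ^ 2)) Al Bl := IsScalarTower.of_algebraMap_eq' rfl
    have : Module.Flat (ZMod (p ^ 2)) Bl := Module.Flat.trans (ZMod (p ^ 2)) Al Bl
    exact ann_of_flat p hp Bl b hb
  · intro h
    have hpp : (p : Al) * (p : Al) = 0 := by
      have h1 : ((p ^ 2 : ℕ) : Al) = algebraMap (ZMod (p ^ 2)) Al ((p ^ 2 : ℕ) : ZMod (p ^ 2)) := by
        rw [map_natCast]
      rw [ZMod.natCast_self, map_zero] at h1
      rw [← h1]; push_cast; ring
    have hnil : IsNilpotent (Ideal.span {(p : Al)}) := by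
      refine ⟨2, ?_⟩
      rw [pow_two, Ideal.span_singleton_mul_span_singleton, hpp]
      simp
    have : Module.Flat (Al ⧸ Ideal.span {(p : Al)}) ((Al ⧸ Ideal.span {(p : Al)}) ⊗[Al] Bl) :=
      Module.Flat.of_linearEquiv
        (Algebra.TensorProduct.quotIdealMapEquivQuotTensor Bl (Ideal.span {(p : Al)})).symm.toLinearEquiv
    refine Groth.Agent.FlatA.TorVanish.flat_of_isNilpotent hnil ?_
    have hgen : ∀ z : (Ideal.span {(p : Al)}) ⊗[Al] Bl, ∃ b : Bl,
        z = (⟨(p : Al), Ideal.mem_span_singleton_self _⟩ : Ideal.span {(p : Al)}) ⊗ₜ[Al] b := by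
      intro z
      induction z with
      | zero => exact ⟨0, by simp⟩
      | tmul x b =>
        obtain ⟨x, hx⟩ := x
        obtain ⟨a, rfl⟩ := Ideal.mem_span_singleton'.mp hx
        refine ⟨a • b, ?_⟩
        rw [← TensorProduct.smul_tmul]
        congr 1
      | add x y hx hy =>
        obtain ⟨b, rfl⟩ := hx
        obtain ⟨c, rfl⟩ := hy
        exact ⟨b + c, by rw [TensorProduct.tmul_add]⟩
    rw [injective_iff_map_eq_zero]
    intro z hz
    obtain ⟨b, rfl⟩ := hgen z
    rw [LinearMap.rTensor_tmul] at hz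
    have h1 := congrArg (TensorProduct.lid Al Bl) hz
    rw [map_zero, TensorProduct.lid_tmul, Submodule.subtype_apply, Algebra.smul_def,
      map_natCast] at h1
    obtain ⟨c, rfl⟩ := Ideal.mem_span_singleton'.mp (h b h1)
    have h2 : c * (p : Bl) = (p : Al) • c := by
      rw [Algebra.smul_def, map_natCast, mul_comm]
    rw [h2, ← TensorProduct.smul_tmul]
    have h3 : (p : Al) • (⟨(p : Al), Ideal.mem_span_singleton_self _⟩ : Ideal.span {(p : Al)}) = 0 :=
      Subtype.ext hpp
    rw [h3, TensorProduct.zero_tmul]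

end Groth.Agent.S16742
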