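import Groth.Statements.S19854
import Groth.Agent.DelIll.K905.DimP

set_option autoImplicit false
universe u
open DelIll

namespace Groth.Agent.S19854

open CategoryTheory CategoryTheory.Limits AlgebraicGeometry TopologicalSpace in
/-- The case of a perfect base field and no boundary divisor, in dimension form. Let p be a prime, k a
perfect field of characteristic p, and X a smooth proper k-scheme of dimension at most p admitting a
lifting over the Witt vectors of length two, namely a flat morphism g : X~ → Spec W_2(k) and a
morphism i : X → X~ making X the base change of X~ along Spec k → Spec W_2(k). Let D be a de Rham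
complex of the sheaf of differentials of X over k with k-linear differentials, k acting through the
structure map, and write Ω^a for its a-th term. Then for every natural number l the algebraic de
Rham cohomology H^l_dR(X/k) = H^l(X, D) is a finite-dimensional k-vector space whose dimension is
the sum over a = 0, …, l of dim_k H^{l−a}(X, Ω^a); equivalently the Hodge to de Rham spectral
sequence degenerates at the first page. (The published statement is over any noetherian base of
characteristic p equipped with liftings of itself and of its Frobenius to Z/p^2, allows a relative
normal crossing divisor A + B, assumes a lifting of the Frobenius twist X' with its divisor, and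
asserts local freeness of the relative Hodge and de Rham sheaves with the degeneration; over a
perfect field a lifting of X' amounts to a lifting of X. The k-linearity of the differentials holds
for the de Rham complex and is carried as a hypothesis.) -/
theorem result
    (p : ℕ) [Fact p.Prime] (k : Type u) [Field k] [CharP k p] [PerfectRing k p]
    (X : Scheme.{u}) [X.Over (Spec (CommRingCat.of k))] [IsProper (X ↘ Spec (CommRingCat.of k))] [Smooth (X ↘ Spec (CommRingCat.of k))]
    (hdim : topologicalKrullDim ↥X ≤ p)
    (Xl : Scheme.{u}) (g : Xl ⟶ Spec (CommRingCat.of (FrobAlg.W2 p k))) [Flat g] (i : X ⟶ Xl)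
    (hlift : IsPullback i (X ↘ Spec (CommRingCat.of k)) g (Spec.map (CommRingCat.ofHom (FrobAlg.res p k))))
    (D : DeRhamSh.OmegaCx (X ↘ Spec (CommRingCat.of k)))
    (h : KLinDR.TermwiseLinear (Coh.toGlobal (X ↘ Spec (CommRingCat.of k))) D.K D.term D.iso)
    [HasDerivedCategory.{u} (Sheaf (Opens.grothendieckTopology X) AddCommGrpCat.{u})] (l : ℕ) :
    Module.Finite k (KLinDR.HdR (Coh.toGlobal (X ↘ Spec (CommRingCat.of k))) D h l) ∧
      Module.finrank k (KLinDR.HdR (Coh.toGlobal (X ↘ Spec (CommRingCat.of k))) D h l) =
        ∑ a ∈ Finset.range (l + 1), Module.finrank k (Coh.HH X (D.term a) (l - a)) := by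
  have hδ := K136.UnivOmega.isUniversal_dOmega (X ↘ Spec (CommRingCat.of k))
  have hfin := K905.FinSch.finite_HH hδ D
  have h1 := (K905.HTSch.count h hfin (p + 1) (fun i hi =>
    K905.FinSch.isZero_term (X ↘ Spec (CommRingCat.of k)) hδ D p hdim i hi) l).1
  exact ⟨h1, K905.DimP.formula hdim hlift hδ D h l⟩

end Groth.Agent.S19854
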