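import Groth.Statements.S16743
import Groth.Agent.S19854
import Groth.Agent.DelIll.K527.Row16741

set_option autoImplicit false
universe u
open DelIll

namespace Groth.Agent.S16743

open CategoryTheory CategoryTheory.Limits AlgebraicGeometry TopologicalSpace in
/-- The case S = Spec k with k finite and no boundary divisor. Let k be a finite field of characteristic
p and X a smooth proper k-scheme of dimension at most p admitting a lifting to the Witt vectors of
length two (a flat g : X~ → Spec W_2(k) with i : X → X~ cartesian over Spec k → Spec W_2(k)). For
every de Rham complex of X over k, every choice of a-th exterior powers Ω^a of the sheaf of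
differentials and every l ≥ 0, the de Rham cohomology H^l_dR(X/k) is additively isomorphic to k^r
with r = Σ_{a+b=l} dim_k H^b(X, Ω^a); that is, the Hodge-to-de Rham spectral sequence degenerates at
E_1. (The published statement is over any noetherian base of characteristic p carrying liftings of
itself and of its Frobenius to Z/p^2, and asserts local freeness and degeneration for the relative
Hodge and de Rham sheaves; the additive form used here pins the integer r only for a finite base
field.) -/
theorem result
    (p : ℕ) [Fact p.Prime] (k : Type u) [Field k] [Finite k] [CharP k p]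
    (X : Scheme.{u}) [X.Over (Spec (CommRingCat.of k))] [IsProper (X ↘ Spec (CommRingCat.of k))]
    [Smooth (X ↘ Spec (CommRingCat.of k))] [QuasiSeparated (X ↘ Spec (CommRingCat.of k))]
    (hdim : topologicalKrullDim X ≤ p)
    (Xl : Scheme.{u}) (g : Xl ⟶ Spec (CommRingCat.of (FrobAlg.W2 p k))) [Flat g] (i : X ⟶ Xl)
    (hlift : IsPullback i (X ↘ Spec (CommRingCat.of k)) g
      (Spec.map (CommRingCat.ofHom (FrobAlg.res p k))))
    (D : DeRhamSh.OmegaCx (X ↘ Spec (CommRingCat.of k)))
    [HasDerivedCategory.{u} (Sheaf (Opens.grothendieckTopology ↥X) AddCommGrpCat.{u})]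
    (Om : ℕ → X.Modules) (hOm : ∀ a, ExtPow.IsExtPow a (Omega.sheaf (X ↘ Spec (CommRingCat.of k))) (Om a))
    (l : ℕ) :
    Nonempty (DeRhamSh.HdR D (l : ℤ) ≃+
      (Fin (∑ a ∈ Finset.range (l + 1), Module.finrank k (Coh.HH X (Om a) (l - a))) → k)) := by
  have hperf : PerfectRing k p := inferInstance
  exact K527.Row16741.exists_addEquiv k X D Om hOm l fun h =>
    Groth.Agent.S19854.result p k X hdim Xl g i hlift D h l

end Groth.Agent.S16743
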