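import Groth.Statements.S16744
import Groth.Agent.DeRham.K852.LogPoly2

set_option autoImplicit false
universe u
open DeRham

namespace Groth.Agent.S16744

open exteriorPower in
/-- The case of affine n-space over an affine base of characteristic p with boundary divisor t_1⋯t_r =
0, all degrees. Let p be a prime, R a commutative ring with p = 0 in R, B = R[t_1, …, t_n] and r ≤
n. Let (L, ι, dl) be the module of differentials of B over R with logarithmic poles along t_1, …,
t_r, pinned by its defining properties (t_i · dl_i = ι(dt_i); ι(Ω_{B/R}) and the dl_i generate; no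
(t_1⋯t_r)-torsion; the kernel of ι is the (t_1⋯t_r)-power torsion), and let d be the logarithmic de
Rham differential on the exterior powers of L (the de Rham rule for ι ∘ d together with d(dl_i) = 0,
and d ∘ d = 0). Put w_ν = dl_ν for ν < r and w_ν = ι(t_ν^{p-1} dt_ν) for ν ≥ r (indices from 0), and
for an a-element set s of indices let e_s be the wedge of the w_ν, ν ∈ s, in increasing order. Then
an a-form with logarithmic poles is closed exactly when it is an exact form plus a combination Σ_s
g_s(t_1^p, …, t_n^p) · e_s with coefficients polynomials in the p-th powers of the variables, and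
such a combination is exact only if every g_s vanishes: the a-th cohomology of the logarithmic de
Rham complex of affine n-space is free over R[t_1^p, …, t_n^p] on the classes of the e_s. -/
theorem result (p : ℕ) [Fact p.Prime]
    (R : Type u) [CommRing R] [CharP R p] (n r a : ℕ) (hr : r ≤ n)
    (L : Type u) [AddCommGroup L] [Module (MvPolynomial (Fin n) R) L] [Module R L]
    [IsScalarTower R (MvPolynomial (Fin n) R) L]
    (ι : (Ω[MvPolynomial (Fin n) R⁄R]) →ₗ[MvPolynomial (Fin n) R] L) (dl : Fin r → L)
    (hL : LogDiff.IsLog (KaehlerDifferential.D R (MvPolynomial (Fin n) R))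
      (fun i : Fin r => (MvPolynomial.X (Fin.castLE hr i) : MvPolynomial (Fin n) R)) ι dl)
    (d : ∀ q : ℕ, ↥(⋀[MvPolynomial (Fin n) R]^q L) →ₗ[R] ↥(⋀[MvPolynomial (Fin n) R]^(q + 1) L))
    (hd : DeRham.IsDiff (ι.compDer (KaehlerDifferential.D R (MvPolynomial (Fin n) R))) d)
    (hlog : LogDiff.IsLogRule (KaehlerDifferential.D R (MvPolynomial (Fin n) R)) ι dl d)
    (w : Fin n → L) (hw : ∀ i : Fin r, w (Fin.castLE hr i) = dl i)
    (hw' : ∀ ν : Fin n, r ≤ (ν : ℕ) → w ν = ι (((MvPolynomial.X ν : MvPolynomial (Fin n) R) ^ (p - 1)) •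
      KaehlerDifferential.D R (MvPolynomial (Fin n) R) (MvPolynomial.X ν)))
    (e : Finset (Fin n) → ↥(⋀[MvPolynomial (Fin n) R]^a L))
    (he : ∀ (s : Finset (Fin n)) (hs : s.card = a),
      e s = exteriorPower.ιMulti (MvPolynomial (Fin n) R) a (fun j => w (s.orderEmbOfFin hs j))) :
    (∀ ω, ω ∈ DeRham.cocycles d a ↔
      ∃ (g : Finset (Fin n) → MvPolynomial (Fin n) R) (η : ↥(⋀[MvPolynomial (Fin n) R]^a L)),
        η ∈ DeRham.coboundaries d a ∧
          ω = η + ∑ s ∈ Finset.powersetCard a Finset.univ, MvPolynomial.expand p (g s) • e s) ∧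
    (∀ g : Finset (Fin n) → MvPolynomial (Fin n) R,
      (∑ s ∈ Finset.powersetCard a Finset.univ, MvPolynomial.expand p (g s) • e s) ∈ DeRham.coboundaries d a →
        ∀ s ∈ Finset.powersetCard a (Finset.univ : Finset (Fin n)), g s = 0) := by
  classical
  have hp : p.Prime := Fact.out
  have hdd : ∀ (q : ℕ) (x : ↥(⋀[MvPolynomial (Fin n) R]^q L)), d (q + 1) (d q x) = 0 :=
    fun q x => LinearMap.congr_fun (hd.2 q) x
  -- the forms `w ν`
  have hwν : ∀ ν : Fin n, w ν = K852.LogPoly.tc R p r ν • K852.LogPoly.lb hr hL ν := by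
    intro ν
    rw [K852.LogPoly.lb_apply, K852.LogPoly.tc]
    by_cases h : (ν : ℕ) < r
    · rw [if_pos h, one_smul, K852.LogPoly.bv_of_lt ι dl ν h]
      exact hw ⟨ν, h⟩
    · rw [if_neg h, K852.LogPoly.bv_of_le ι dl ν (not_lt.mp h), hw' ν (not_lt.mp h), map_smul]
  have he' : ∀ (s : Finset (Fin n)) (hs : s.card = a),
      e s = (∏ j, K852.LogPoly.tc R p r (s.orderEmbOfFin hs j)) •
        ιMulti (MvPolynomial (Fin n) R) a (fun j => K852.LogPoly.lb hr hL (s.orderEmbOfFin hs j)) := by
    intro s hs
    rw [he s hs, ← AlternatingMap.map_smul_univ]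
    congr 1
    funext j
    exact hwν _
  have hmem := K852.LogPoly.mem_P0_iff hr hL hp.pos a e he'
  have hcl : ∀ x, x ∈ K852.LogPoly.P0 hr hL p a → d a x = 0 :=
    K852.LogPoly.d_eq_zero_of_mem_P0 hr hL hlog a
  constructor
  · intro ω
    constructor
    · intro hω
      have h1 := K852.DR.sub_pl_mem (φ := K852.LogPoly.φ hr hL) hp.one_lt hdd Finset.univ.toList a ω hω
      obtain ⟨g, hg⟩ := (hmem _).mp (K852.LogPoly.pl_mem_P0 hr hL hlog hp a ω)
      exact ⟨g, _, h1, by rw [← hg, sub_add_cancel]⟩
    · rintro ⟨g, η, hη, rfl⟩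
      have h1 : d a η = 0 := K852.DR.coboundaries_le_cocycles hdd a hη
      have h2 := hcl _ ((hmem _).mpr ⟨g, rfl⟩)
      change d a _ = 0
      rw [map_add, h1, h2, add_zero]
  · intro g hg s hs
    -- the sum vanishes
    have h0 : (∑ s ∈ Finset.powersetCard a Finset.univ, MvPolynomial.expand p (g s) • e s) = 0 := by
      have hP := K852.LogPoly.pl_eq_of_mem_P0 hr hL hlog hp a _ ((hmem _).mpr ⟨g, rfl⟩)
      cases a with
      | zero => exact hg
      | succ a =>
        obtain ⟨z, hz⟩ := hg
        rw [← hz, K852.DR.pl_d hdd] at hP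
        rw [← hz, ← hP]
        exact K852.LogPoly.d_eq_zero_of_mem_P0 hr hL hlog a _ (K852.LogPoly.pl_mem_P0 hr hL hlog hp a z)
    -- linear independence
    have hcard := (Finset.mem_powersetCard.mp hs).2
    let B := (K852.LogPoly.lb hr hL).exteriorPower a
    have h1 : ∀ s' ∈ Finset.powersetCard a (Finset.univ : Finset (Fin n)),
        B.repr (MvPolynomial.expand p (g s') • e s') ⟨s, hcard⟩ =
          if s' = s then MvPolynomial.expand p (g s) * ∏ j, K852.LogPoly.tc R p r (s.orderEmbOfFin hcard j)
          else 0 := by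
      intro s' hs'
      have hcard' := (Finset.mem_powersetCard.mp hs').2
      have h2 : ιMulti (MvPolynomial (Fin n) R) a
          (fun j => K852.LogPoly.lb hr hL (s'.orderEmbOfFin hcard' j)) = B ⟨s', hcard'⟩ := by
        rw [basis_apply]; rfl
      rw [he' s' hcard', h2, map_smul, map_smul, B.repr_self, Finsupp.smul_apply, Finsupp.smul_apply,
        Finsupp.single_apply]
      by_cases h : s' = s
      · subst h; rw [if_pos rfl, if_pos rfl]; simp
      · rw [if_neg h, if_neg (fun h' => h (congrArg Subtype.val h'))]; simp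
    have h3 := congrArg (fun t => B.repr t ⟨s, hcard⟩) h0
    simp only [map_sum, Finsupp.finsetSum_apply, map_zero, Finsupp.zero_apply] at h3
    rw [Finset.sum_congr rfl h1, Finset.sum_ite_eq', if_pos hs] at h3
    have h4 : IsRegular (∏ j, K852.LogPoly.tc R p r (s.orderEmbOfFin hcard j)) := by
      refine Finset.prod_induction _ (fun x => IsRegular x) (fun _ _ h h' => h.mul h') isRegular_one
        fun i _ => ?_
      rw [K852.LogPoly.tc]
      split_ifs
      · exact isRegular_one
      · exact MvPolynomial.isRegular_X_pow _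
    have h5 : MvPolynomial.expand p (g s) = 0 := h4.right (by simpa using h3)
    exact (MvPolynomial.expand_eq_zero hp.pos).mp h5

end Groth.Agent.S16744
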