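import Groth.Statements.S16745
import Groth.Agent.CurvSt.K742.SepMain
import Groth.Agent.CurvSt.K310.ExistsCurve

set_option autoImplicit false
universe u
open CurvSt

namespace Groth.Agent.S16745

attribute [-instance] CategoryTheory.catToReflQuiver

open CategoryTheory AlgebraicGeometry in
/-- Let S be a scheme and g ≥ 2. Then the category over schemes over S whose objects over T are the
stable curves of genus g over T (flat proper finitely presented morphisms of schemes C → T whose
geometric fibres are connected nodal curves of dimension one and arithmetic genus g in which every
smooth rational component meets the other components in at least three points), with cartesian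
squares as morphisms, is an algebraic stack for the fppf topology which is separated over S: its
diagonal over S is representable by algebraic spaces and proper. Moreover it has an object over
every algebraically closed field over S. The source states separatedness over the spectrum of the
integers; over a base scheme S the statement is its base change. -/
theorem result (S : Scheme.{u}) (g : ℕ) (hg : 2 ≤ g) :
    AlgSt.IsAlgStack Scheme.fppfPrecoverage (CurvSt.Mbar S g 0) ∧ AlgSt.IsSeparatedOver (CurvSt.Mbar S g 0) ∧
      ∀ (Ω : Type u) [Field Ω] [IsAlgClosed Ω] (t : Spec (CommRingCat.of Ω) ⟶ S),
        Nonempty ((CurvSt.Mbar S g 0).p.Fiber (Over.mk t)) := by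
  have h : 3 ≤ 2 * g + 0 := by omega
  exact ⟨K316.MbarAlg.isAlgStack_mbar S h, K508.SepFinal.isSeparatedOver K742.SepMain.sepZero S h,
    fun Ω _ _ t => K310.ExistsCurve.nonempty_Mbar_fiber t g 0 h⟩

end Groth.Agent.S16745
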