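import Groth.Agent.CurvSt.K169.Row46
import Groth.Agent.CurvSt.K742.SepMain

set_option autoImplicit false
attribute [-instance] CategoryTheory.catToReflQuiver
universe u
open CurvSt

namespace Groth.Agent.S16746

open CategoryTheory AlgebraicGeometry in
/-- Let S be a scheme and g ≥ 2. Then the category over schemes over S whose objects over T are the
stable curves of genus g over T (flat proper finitely presented morphisms of schemes C → T whose
geometric fibres are connected nodal curves of dimension one and arithmetic genus g in which every
smooth rational component meets the other components in at least three points), with cartesian
squares as morphisms, is an algebraic stack for the fppf topology whose structure functor to (Sch/S)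
is locally of finite type and quasi-compact, and every base change of it to an fppf algebraic stack
over S is a closed map on spaces of points (universally closed over S). Moreover it has an object
over every algebraically closed field over S. The source asserts that this stack is proper over the
base; separatedness over S (its diagonal over S representable by algebraic spaces and proper) is the
neighbouring result, and together with the present assertions it is exactly properness over S. The
same result also asserts that this stack is Deligne–Mumford and smooth over the base with the smooth
curves dense; those assertions are stated separately. The source works over the spectrum of the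
integers; over a base scheme S the statement is its base change. -/
theorem result (S : Scheme.{u}) (g : ℕ) (hg : 2 ≤ g) :
    AlgSt.IsAlgStack Scheme.fppfPrecoverage (CurvSt.Mbar S g 0) ∧
      AlgSt.LocQ (AlgSp.LocP @LocallyOfFiniteType) (FibCat.toSelf (CurvSt.Mbar S g 0)) ∧
      AlgSt.IsQuasiCompactMor Scheme.fppfPrecoverage (FibCat.toSelf (CurvSt.Mbar S g 0)) ∧
      AlgSt.IsUnivClosed Scheme.fppfPrecoverage (FibCat.toSelf (CurvSt.Mbar S g 0)) ∧
      ∀ (Ω : Type u) [Field Ω] [IsAlgClosed Ω] (t : Spec (CommRingCat.of Ω) ⟶ S),
        Nonempty ((CurvSt.Mbar S g 0).p.Fiber (Over.mk t)) := by
  exact K169.Row46.main K742.SepMain.sepZero S g hg

end Groth.Agent.S16746
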