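import Groth.Statements.S16747
import Groth.Agent.CurvSt.K744.DensFinal

set_option autoImplicit false
universe u
open CurvSt

namespace Groth.Agent.S16747

open CategoryTheory AlgebraicGeometry in
/-- Let S be a scheme and g ≥ 2. In the category over schemes over S whose objects over T are the stable
curves of genus g over T (flat proper finitely presented morphisms of schemes C → T whose geometric
fibres are connected nodal curves of dimension one and arithmetic genus g in which every smooth
rational component meets the other components in at least three points), with cartesian squares as
morphisms, the objects whose structure morphism is smooth (the smooth curves of genus g) form an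
open substack for the fppf topology: that condition is closed under isomorphism, the full
subcategory on it is an fppf algebraic stack and its inclusion is representable by open immersions;
the image of its space of points in the space of points of the whole stack is dense; and the open
substack has an object over every algebraically closed field over S. The source states this over the
spectrum of the integers, in every characteristic; over a base scheme S the statement is its base
change. -/
theorem result (S : Scheme.{u}) (g : ℕ) (hg : 2 ≤ g) :
    AlgSt.IsOpenSubstack (CurvSt.Mbar S g 0) (fun A => Smooth A.obj.f) Scheme.fppfPrecoverage ∧
      Dense (Set.range (AlgSt.Points.map (AlgSt.subIncl (CurvSt.Mbar S g 0) (fun A => Smooth A.obj.f)))) ∧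
      ∀ (Ω : Type u) [Field Ω] [IsAlgClosed Ω] (t : Spec (CommRingCat.of Ω) ⟶ S),
        Nonempty ((AlgSt.fullSub (CurvSt.Mbar S g 0) (fun A => Smooth A.obj.f)).p.Fiber (Over.mk t)) := by
  exact K744.Dens.main_fppf (by omega) (K316.MbarAlg.isAlgStack_mbar S (by omega)) (K896.MbarFinal.locQ_lfp_mbar S (by omega))

end Groth.Agent.S16747
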