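import Groth.Statements.S16749
import Groth.Agent.CurvSt.K263.StabInt
import Groth.Agent.S16750

set_option autoImplicit false
universe u
open CurvSt

namespace Groth.Agent.S16749

open CategoryTheory CategoryTheory.Limits AlgebraicGeometry in
/-- Part (2): (stable reduction over the integral closure): for a discrete valuation ring R, K its field
of fractions, and a curve C over K which is proper, smooth, integral and of dimension one (the
source says projective, which for curves over a field is the same) and has H^0(C, O_C) = K and genus
g = dim_K H^1(C, O_C) ≥ 2, there are a finite separable extension L of K and, writing A for the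
integral closure of R in L, a morphism Y → Spec A which is a stable curve of genus g over Spec A in
the sense of a flat proper finitely presented morphism of schemes Y → Spec A whose geometric fibres
are connected nodal curves of dimension one and arithmetic genus g in which every smooth rational
component meets the other components in at least three points, together with a cartesian square
identifying the base change C_L with the fibre of Y over Spec L → Spec A. -/
theorem result (R : Type u) [CommRing R] [IsDomain R] [IsDiscreteValuationRing R]
    (C : Scheme.{u}) (f : C ⟶ Spec (CommRingCat.of (FractionRing R)))
    (hC : Curve.IsSmoothProperCurve (FractionRing R) C f) (hH0 : IsIso f.appTop)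
    (hg : 2 ≤ Models.curveGenus (FractionRing R) C f) :
    ∃ (L : Type u) (_ : Field L) (_ : Algebra (FractionRing R) L) (_ : Algebra R L)
      (_ : IsScalarTower R (FractionRing R) L),
      FiniteDimensional (FractionRing R) L ∧ Algebra.IsSeparable (FractionRing R) L ∧
      ∃ (Y : Scheme.{u}) (q : Y ⟶ Spec (CommRingCat.of ↥(integralClosure R L)))
        (i : pullback f (Spec.map (CommRingCat.ofHom (algebraMap (FractionRing R) L))) ⟶ Y),
        IsPullback i (pullback.snd f (Spec.map (CommRingCat.ofHom (algebraMap (FractionRing R) L)))) q
          (Spec.map (CommRingCat.ofHom (algebraMap ↥(integralClosure R L) L))) ∧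
        CurvSt.IsStableFam q (Fin.elim0 : Fin 0 → (Spec (CommRingCat.of ↥(integralClosure R L)) ⟶ Y))
          (fun i => i.elim0) (Models.curveGenus (FractionRing R) C f) := by

  exact K263.StabInt.main R C f (fun R' _ _ _ C' f' hC' hH' hg' =>
    (Groth.Agent.S16750.result R' C' f' hC' hH' hg').1) hC hH0 hg

end Groth.Agent.S16749
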