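import Groth.Statements.S16752
import Groth.Agent.S0404
import Groth.Agent.S1025
import Groth.Agent.S0002
import Groth.Agent.PerfB.StructFlat
import Groth.Agent.CurvesB.HZero
import Groth.Agent.CurvesB.UnitCoh
import Groth.Agent.CurvesA.HHMap

set_option autoImplicit false
universe u
open CurvSt

namespace Groth.Agent.S16752

section

open CategoryTheory CategoryTheory.Limits AlgebraicGeometry

theorem betti_eq_hRank {X S : Scheme.{u}} (f : X ⟶ S) (s : S) (i : ℕ) :
    PerfAux.betti f (Coh.structureModule X) s i =
      Models.hRank ↥(S.residueField s) (f.fiber s) (f.fiberToSpecResidueField s)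
        (Coh.structureModule (f.fiber s)) i := by
  let _ : (f.fiber s).Over (Spec (CommRingCat.of (S.residueField s))) :=
    ⟨f.fiberToSpecResidueField s⟩
  exact (Groth.Agent.CurvesA.HHMap.equivOver (S.residueField s)
    (Groth.Agent.CurvesA.HHMap.pullbackUnit (f.fiberι s)) i).finrank_eq

theorem one_le_of_pos (d : WithBot ℕ∞) (h : 0 < d) : 1 ≤ d := by
  induction d using WithBot.recBotCoe with
  | bot => simp at h
  | coe n => exact_mod_cast Order.one_le_iff_pos.2 (by exact_mod_cast h)

theorem hRank_pos (k : Type u) [Field k] (X : Scheme.{u}) (g : X ⟶ Spec (CommRingCat.of k)) [IsProper g]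
    [Nonempty X] : 0 < Models.hRank k X g (Coh.structureModule X) 0 := by
  let _ : X.Over (Spec (CommRingCat.of k)) := ⟨g⟩
  have : IsProper (X ↘ Spec (CommRingCat.of k)) := ‹IsProper g›
  have hfin : Module.Finite k (Coh.HH X (Coh.structureModule X) 0) :=
    Groth.Agent.S0002.result k X _ (Groth.Agent.CurvesB.UnitCoh.isCoh_structureModule X) 0
  change 0 < Module.finrank k (Coh.HH X (Coh.structureModule X) 0)
  have : Nonempty (⊤ : X.Opens) := (inferInstance : Nonempty X).map fun x => ⟨x, trivial⟩
  have : Nontrivial Γ(X, ⊤) := inferInstance
  have : Nontrivial (Coh.HH X (Coh.structureModule X) 0) :=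
    (Groth.Agent.CurvesB.HZero.equivO X).toEquiv.nontrivial
  exact Module.finrank_pos

end

open CategoryTheory CategoryTheory.Limits AlgebraicGeometry in
/-- Let f : X → S be a flat, proper morphism of schemes, locally of finite presentation, all of whose
fibres have dimension at most one (a family of curves whose total space is a scheme). Then the set
of points s of S such that the fibre X_s has dimension one and dim_{κ(s)} H^0(X_s, O_{X_s}) = 1 (the
conditions under which the genus of X_s is defined) is open in S. The source allows the total space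
to be an algebraic space and phrases the result as the existence of an open substack of the stack of
curves with this membership condition. -/
theorem result (X S : Scheme.{u}) (f : X ⟶ S)
    [Flat f] [IsProper f] [LocallyOfFinitePresentation f]
    (hdim : ∀ s : S, topologicalKrullDim ↥(f.fiber s) ≤ 1) :
    IsOpen {s : S | topologicalKrullDim ↥(f.fiber s) = 1 ∧
      Models.hRank ↥(S.residueField s) (f.fiber s) (f.fiberToSpecResidueField s)
        (Coh.structureModule (f.fiber s)) 0 = 1} := by
  have key : {s : S | topologicalKrullDim ↥(f.fiber s) = 1 ∧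
      Models.hRank ↥(S.residueField s) (f.fiber s) (f.fiberToSpecResidueField s)
        (Coh.structureModule (f.fiber s)) 0 = 1} =
      {s : S | 0 < topologicalKrullDim ↥(f.fiber s)} ∩
        {s : S | PerfAux.betti f (Coh.structureModule X) s 0 < 2} := by
    ext s
    rw [Set.mem_inter_iff, Set.mem_ofPred_eq, Set.mem_ofPred_eq, Set.mem_ofPred_eq, betti_eq_hRank]
    constructor
    · rintro ⟨h1, h2⟩
      rw [h1, h2]
      exact ⟨by norm_num, by norm_num⟩
    · rintro ⟨h1, h2⟩
      have h3 : topologicalKrullDim ↥(f.fiber s) = 1 := le_antisymm (hdim s) (one_le_of_pos _ h1)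
      refine ⟨h3, ?_⟩
      have hne : Nonempty (f.fiber s) := by
        by_contra hcon
        rw [not_nonempty_iff] at hcon
        have : IsEmpty (TopologicalSpace.IrreducibleCloseds (f.fiber s)) :=
          ⟨fun Z => Z.isIrreducible.nonempty.elim fun x _ => hcon.elim x⟩
        have h : topologicalKrullDim (f.fiber s) = ⊥ := Order.krullDim_eq_bot
        rw [h] at h3
        simp at h3
      have : IsProper (f.fiberToSpecResidueField s) :=
        inferInstanceAs (IsProper (pullback.snd f (S.fromSpecResidueField s)))
      have h4 := hRank_pos (S.residueField s) (f.fiber s) (f.fiberToSpecResidueField s)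
      omega
  rw [key]
  exact (Groth.Agent.S0404.result f 0).inter (Groth.Agent.S1025.result f _
    Groth.Agent.PerfB.StructFlat.isFP_structure
    (Groth.Agent.PerfB.StructFlat.isFlatOver_structure f) 0 2)

end Groth.Agent.S16752
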