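import Groth.Statements.S16755
import Groth.Agent.CurvSt.K898.ContrIso

set_option autoImplicit false
universe u
open CurvSt

namespace Groth.Agent.S16755

open CategoryTheory CategoryTheory.Limits AlgebraicGeometry in
/-- Let S be a scheme and s a point of S; let f : X → S, g₁ : Y₁ → S, g₂ : Y₂ → S be families of curves
with X, Y₁, Y₂ schemes (flat, proper, locally of finite presentation, all fibres of dimension at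
most one) and c₁ : X → Y₁, c₂ : X → Y₂ morphisms over S. Fix the fibres X_s, Y_{1,s}, Y_{2,s} over
the residue field κ(s) (cartesian squares over Spec κ(s) → S), the morphisms d₁ : X_s → Y_{1,s}, d₂
: X_s → Y_{2,s} induced by c₁, c₂, and an isomorphism e : Y_{1,s} ≅ Y_{2,s} over κ(s) with d₁
followed by e equal to d₂. Assume O_{Y_{1,s}} → d_{1,*} O_{X_s} is an isomorphism (on sections over
every open) and R^1 d_{1,*} O_{X_s} = 0 (the first cohomology of the structure sheaf of X_s vanishes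
on the preimage of every affine open of Y_{1,s}). Then there are an open neighbourhood U of s in S
and an isomorphism e' between the open subschemes g₁^{-1}(U) of Y₁ and g₂^{-1}(U) of Y₂, over S,
compatible with c₁ and c₂ (a T-valued point of X whose images under c₁ and c₂ lie in these opens has
those images matched by e') and restricting to e on the fibres over s. The source allows
algebraic-space total spaces. -/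
theorem result {X Y₁ Y₂ S : Scheme.{u}}
    (f : X ⟶ S) (g₁ : Y₁ ⟶ S) (g₂ : Y₂ ⟶ S) (c₁ : X ⟶ Y₁) (c₂ : X ⟶ Y₂) (hc₁ : c₁ ≫ g₁ = f) (hc₂ : c₂ ≫ g₂ = f)
    [Flat f] [IsProper f] [LocallyOfFinitePresentation f]
    [Flat g₁] [IsProper g₁] [LocallyOfFinitePresentation g₁]
    [Flat g₂] [IsProper g₂] [LocallyOfFinitePresentation g₂]
    (hX : ∀ t : S, topologicalKrullDim ↥(f.fiber t) ≤ 1) (hY₁ : ∀ t : S, topologicalKrullDim ↥(g₁.fiber t) ≤ 1)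
    (hY₂ : ∀ t : S, topologicalKrullDim ↥(g₂.fiber t) ≤ 1)
    (s : S) (Xs Ys₁ Ys₂ : Scheme.{u})
    (iX : Xs ⟶ X) (qX : Xs ⟶ Spec (S.residueField s)) (hXs : IsPullback iX qX f (S.fromSpecResidueField s))
    (i₁ : Ys₁ ⟶ Y₁) (q₁ : Ys₁ ⟶ Spec (S.residueField s)) (hYs₁ : IsPullback i₁ q₁ g₁ (S.fromSpecResidueField s))
    (i₂ : Ys₂ ⟶ Y₂) (q₂ : Ys₂ ⟶ Spec (S.residueField s)) (hYs₂ : IsPullback i₂ q₂ g₂ (S.fromSpecResidueField s))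
    (d₁ : Xs ⟶ Ys₁) (hd₁ : d₁ ≫ i₁ = iX ≫ c₁) (hd₁q : d₁ ≫ q₁ = qX)
    (d₂ : Xs ⟶ Ys₂) (hd₂ : d₂ ≫ i₂ = iX ≫ c₂) (hd₂q : d₂ ≫ q₂ = qX)
    (e : Ys₁ ≅ Ys₂) (he : e.hom ≫ q₂ = q₁) (hec : d₁ ≫ e.hom = d₂)
    (hiso : ∀ U : Ys₁.Opens, IsIso (d₁.app U))
    (hR1 : ∀ U : Ys₁.Opens, IsAffineOpen U → Subsingleton (Coh.HHon Xs (Coh.structureModule Xs) (d₁ ⁻¹ᵁ U) 1)) :
    ∃ U : S.Opens, s ∈ U ∧ ∃ e' : ((g₁ ⁻¹ᵁ U : Scheme.{u})) ≅ (g₂ ⁻¹ᵁ U : Scheme.{u}),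
      e'.hom ≫ (g₂ ⁻¹ᵁ U).ι ≫ g₂ = (g₁ ⁻¹ᵁ U).ι ≫ g₁ ∧
      (∀ (T : Scheme.{u}) (a : T ⟶ X) (a₁ : T ⟶ (g₁ ⁻¹ᵁ U : Scheme.{u})) (a₂ : T ⟶ (g₂ ⁻¹ᵁ U : Scheme.{u})),
          a ≫ c₁ = a₁ ≫ (g₁ ⁻¹ᵁ U).ι → a ≫ c₂ = a₂ ≫ (g₂ ⁻¹ᵁ U).ι → a₁ ≫ e'.hom = a₂) ∧
      (∀ (b₁ : Ys₁ ⟶ (g₁ ⁻¹ᵁ U : Scheme.{u})) (b₂ : Ys₂ ⟶ (g₂ ⁻¹ᵁ U : Scheme.{u})),
          b₁ ≫ (g₁ ⁻¹ᵁ U).ι = i₁ → b₂ ≫ (g₂ ⁻¹ᵁ U).ι = i₂ → b₁ ≫ e'.hom = e.hom ≫ b₂) := by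
  subst hc₁
  have p1 : IsProper c₁ := IsProper.of_comp c₁ g₁
  have p2 : IsProper (c₂ ≫ g₂) := by rw [hc₂]; infer_instance
  have p3 : IsProper c₂ := IsProper.of_comp c₂ g₂
  have hfl2 : Flat (c₂ ≫ g₂) := by rw [hc₂]; infer_instance
  have hfp2 : LocallyOfFinitePresentation (c₂ ≫ g₂) := by rw [hc₂]; infer_instance
  have hd1 : K898.ContrFib.IsContr d₁ := ⟨hiso, hR1⟩
  have hd2 : K898.ContrFib.IsContr d₂ := by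
    rw [← hec]
    exact hd1.comp_iso e
  have ac1 : ∀ y, g₁ y = s → K898.ContrUniv.AcycAt c₁ g₁ y :=
    K898.ContrFib.acycAt_of_isContr (hX s)
      (K898.ContrFib.isContr_fiberMap hXs hYs₁ hd₁ hd₁q hd1)
  have ac2 : ∀ y, g₂ y = s → K898.ContrUniv.AcycAt c₂ g₂ y := by
    refine K898.ContrFib.acycAt_of_isContr ?_
      (K898.ContrFib.isContr_fiberMap (by rw [hc₂]; exact hXs) hYs₂ hd₂ hd₂q hd2)
    rw [hc₂]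
    exact hX s
  have hec' : d₂ ≫ e.inv = d₁ := by rw [← hec, Category.assoc, e.hom_inv_id, Category.comp_id]
  have k1 := K898.ContrFib.exists_point_const rfl hXs hYs₁ hd₁ hd₂ hec
  have k2 := K898.ContrFib.exists_point_const hc₂ hXs hYs₂ hd₂ hd₁ hec'
  obtain ⟨U₁, hs₁, hU₁⟩ := K898.ContrIso.exists_hom_near (c₁ := c₁) (c₂ := c₂) hc₂.symm s ac1 k1
  obtain ⟨U₂, hs₂, hU₂⟩ := K898.ContrIso.exists_hom_near (c₁ := c₂) (c₂ := c₁) hc₂ s ac2 k2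
  obtain ⟨u1, H, hH, hH'⟩ := hU₁ (U₁ ⊓ U₂) inf_le_left
  obtain ⟨u2, H', hK, hK'⟩ := hU₂ (U₁ ⊓ U₂) inf_le_right
  let U : S.Opens := U₁ ⊓ U₂
  -- lifts
  have l2 : ∀ (T : Scheme.{u}) (a : T ⟶ X) (a₁ : T ⟶ ((g₁ ⁻¹ᵁ U : Y₁.Opens) : Scheme.{u})),
      a ≫ c₁ = a₁ ≫ (g₁ ⁻¹ᵁ U).ι →
        ∃ a₂ : T ⟶ ((g₂ ⁻¹ᵁ U : Y₂.Opens) : Scheme.{u}), a ≫ c₂ = a₂ ≫ (g₂ ⁻¹ᵁ U).ι := by
    intro T a a₁ ha
    refine ⟨IsOpenImmersion.lift (g₂ ⁻¹ᵁ U).ι (a ≫ c₂) ?_, (IsOpenImmersion.lift_fac _ _ _).symm⟩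
    rintro _ ⟨t, rfl⟩
    rw [Scheme.Opens.range_ι]
    change g₂ ((a ≫ c₂) t) ∈ U
    rw [← Scheme.Hom.comp_apply, Category.assoc, hc₂, ← Category.assoc, ha, Category.assoc,
      Scheme.Hom.comp_apply, Scheme.Hom.comp_apply]
    exact (a₁ t).2
  have l1 : ∀ (T : Scheme.{u}) (a : T ⟶ X) (a₂ : T ⟶ ((g₂ ⁻¹ᵁ U : Y₂.Opens) : Scheme.{u})),
      a ≫ c₂ = a₂ ≫ (g₂ ⁻¹ᵁ U).ι →
        ∃ a₁ : T ⟶ ((g₁ ⁻¹ᵁ U : Y₁.Opens) : Scheme.{u}), a ≫ c₁ = a₁ ≫ (g₁ ⁻¹ᵁ U).ι := by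
    intro T a a₂ ha
    refine ⟨IsOpenImmersion.lift (g₁ ⁻¹ᵁ U).ι (a ≫ c₁) ?_, (IsOpenImmersion.lift_fac _ _ _).symm⟩
    rintro _ ⟨t, rfl⟩
    rw [Scheme.Opens.range_ι]
    change g₁ ((a ≫ c₁) t) ∈ U
    rw [← Scheme.Hom.comp_apply, Category.assoc, ← hc₂, ← Category.assoc, ha, Category.assoc,
      Scheme.Hom.comp_apply, Scheme.Hom.comp_apply]
    exact (a₂ t).2
  have hHK : H ≫ H' = 𝟙 _ := by
    refine u1 _ _ _ fun T a a₁ ha => ?_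
    obtain ⟨a₂, ha₂⟩ := l2 T a a₁ ha
    rw [Category.comp_id, ← Category.assoc, hH' T a a₁ a₂ ha ha₂, hK' T a a₂ a₁ ha₂ ha]
  have hKH : H' ≫ H = 𝟙 _ := by
    refine u2 _ _ _ fun T a a₂ ha => ?_
    obtain ⟨a₁, ha₁⟩ := l1 T a a₂ ha
    rw [Category.comp_id, ← Category.assoc, hK' T a a₂ a₁ ha ha₁, hH' T a a₁ a₂ ha₁ ha]
  refine ⟨U, ⟨hs₁, hs₂⟩, ⟨H, H', hHK, hKH⟩, hH, hH', fun b₁ b₂ hb₁ hb₂ => ?_⟩
  have p4 : IsProper qX := MorphismProperty.of_isPullback hXs inferInstance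
  have p5 : IsProper q₁ := MorphismProperty.of_isPullback hYs₁ inferInstance
  have p6 : IsProper d₁ := by
    have : IsProper (d₁ ≫ q₁) := by rw [hd₁q]; infer_instance
    exact IsProper.of_comp d₁ q₁
  have p7 : Surjective d₁ := K898.Factor.surjective_of_isIso_app d₁ d₁.isClosedMap hiso
  have p8 : Epi d₁ := K898.Factor.epi_of_isIso_app d₁ hiso
  rw [← cancel_epi d₁, ← Category.assoc, ← Category.assoc, hec]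
  refine hH' Xs iX (d₁ ≫ b₁) (d₂ ≫ b₂) ?_ ?_
  · rw [Category.assoc, hb₁, hd₁]
  · rw [Category.assoc, hb₂, hd₂]

end Groth.Agent.S16755
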