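import Groth.Statements.S16756
import Groth.Agent.CurvSt.K898.MbarR1
import Groth.Agent.CurvSt.K310.ExistsCurve

set_option autoImplicit false
universe u
open CurvSt

namespace Groth.Agent.S16756

open CategoryTheory CategoryTheory.Limits AlgebraicGeometry in
/-- Let S be a scheme and g ≥ 2. For every object of the category over schemes over S whose objects over
T are the stable curves of genus g over T (flat proper finitely presented morphisms of schemes C → T
whose geometric fibres are connected nodal curves of dimension one and arithmetic genus g in which
every smooth rational component meets the other components in at least three points), with cartesian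
squares as morphisms — that is for every such family f : C → T over a scheme T over S — the map
O_{T'} → f'_* O_{C'} is an isomorphism for the base change f' : C' → T' of f along any morphism of
schemes T' → T, and R^1 f_* O_C is a finite locally free O_T-module of rank g. Moreover the category
has an object over every algebraically closed field over S. (In the source, membership of a family
in this stack is defined through the stack of all curves and the local freeness of rank g is part of
its characterisation; here membership is defined through the geometric fibres, so the content is the
passage from fibrewise genus g to the rank of R^1 f_* O.) -/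
theorem result (S : Scheme.{u}) (g : ℕ) (hg : 2 ≤ g) :
    (∀ (A : (CurvSt.Mbar S g 0).obj) [HasInjectiveResolutions A.obj.C.Modules],
        (∀ (T' : Scheme.{u}) (b : T' ⟶ A.obj.base.left), IsIso (ClSub.unitToPush (pullback.snd A.obj.f b))) ∧
          FlatMod.IsFinLocFreeOfRank g ((Coh.Rpush A.obj.f 1).obj (Coh.structureModule A.obj.C))) ∧
      ∀ (Ω : Type u) [Field Ω] [IsAlgClosed Ω] (t : Spec (CommRingCat.of Ω) ⟶ S),
        Nonempty ((CurvSt.Mbar S g 0).p.Fiber (Over.mk t)) := by
  refine ⟨fun A => K898.MbarR1.mbar_part A, fun Ω _ _ t => ?_⟩
  exact K310.ExistsCurve.nonempty_Mbar_fiber t g 0 (by omega)

end Groth.Agent.S16756
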