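import Groth.Statements.S16757
import Groth.Agent.CurvSt.K316.MbarAlg

set_option autoImplicit false
universe u
open CurvSt

namespace Groth.Agent.S16757

attribute [-instance] CategoryTheory.catToReflQuiver

open CategoryTheory AlgebraicGeometry in
/-- Let S be a scheme and g ≥ 2. Then the category over schemes over S whose objects over T are the
stable curves of genus g over T (flat proper finitely presented morphisms of schemes C → T whose
geometric fibres are connected nodal curves of dimension one and arithmetic genus g in which every
smooth rational component meets the other components in at least three points), with cartesian
squares as morphisms, is an algebraic stack for the fppf topology which is DM over S: its diagonal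
over S is representable by algebraic spaces and unramified, that is locally of finite type and
formally unramified. Moreover it has an object over every algebraically closed field over S. The
same result also asserts that this stack has a surjective etale morphism from a scheme; that
assertion is stated elsewhere. The source works over the spectrum of the integers; over a base
scheme S the statement is its base change. -/
theorem result (S : Scheme.{u}) (g : ℕ) (hg : 2 ≤ g) :
    AlgSt.IsAlgStack Scheme.fppfPrecoverage (CurvSt.Mbar S g 0) ∧ AlgSt.IsDMOver (CurvSt.Mbar S g 0) ∧
      ∀ (Ω : Type u) [Field Ω] [IsAlgClosed Ω] (t : Spec (CommRingCat.of Ω) ⟶ S),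
        Nonempty ((CurvSt.Mbar S g 0).p.Fiber (Over.mk t)) := by
  have h : 3 ≤ 2 * g + 0 := by omega
  exact ⟨K316.MbarAlg.isAlgStack_mbar S h, K316.MbarAlg.isDMOver_mbar S h,
    fun Ω _ _ t => K310.ExistsCurve.nonempty_Mbar_fiber t g 0 h⟩

end Groth.Agent.S16757
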