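import Groth.Statements.S5303
import Groth.Agent.SGA3x.K9.MTSubMain

set_option autoImplicit false
open CategoryTheory MonoidalCategory CartesianMonoidalCategory MonObj GrpObj AlgebraicGeometry
universe u
open CategoryTheory.Limits
open SGA3x

namespace Groth.Agent.S5303

/-- Let G be an S-group which is smooth and affine over S. Then the functor which to an S-scheme T
assigns the set of subgroup schemes of multiplicative type of G ×_S T (homomorphisms which are
immersions from a T-group of multiplicative type and of finite type — finite type being automatic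
here) is representable by an S-scheme M which is smooth and separated over S: M carries a universal
such subgroup K ⟶ G ×_S M, and for every S-morphism f : T ⟶ S and every such subgroup K' of G ×_S T
there is exactly one S-morphism v : T ⟶ M under which the pull-back of K equals K' as a subscheme of
G ×_S T (compared through their maps to G and to T). -/
theorem result {S : Scheme.{u}} (G : Over S) [GrpObj G]
    (hG : Smooth G.hom) (hGa : IsAffineHom G.hom) :
    ∃ (M : Over S) (K : Over M.left) (_ : GrpObj K) (j : K ⟶ Red.bc M.hom G),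
      Smooth M.hom ∧ IsSeparated M.hom ∧ IsMonHom j ∧ IsImmersion j.left ∧ SGA3x.IsMultTypeFT K ∧
      ∀ (T : Scheme.{u}) (f : T ⟶ S) (K' : Over T) [GrpObj K'] (j' : K' ⟶ Red.bc f G),
        IsMonHom j' → IsImmersion j'.left → SGA3x.IsMultTypeFT K' →
        ∃! v : T ⟶ M.left, v ≫ M.hom = f ∧
          ∃ φ : K'.left ≅ (Red.bc v K).left,
            φ.hom ≫ (Red.bc v K).hom = K'.hom ∧
            φ.hom ≫ ((Over.pullback v).map j).left ≫ pullback.fst (Red.bc M.hom G).hom v ≫ pullback.fst G.hom M.hom =
              j'.left ≫ pullback.fst G.hom f := by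
  obtain ⟨M, K, gK, j, h1, h2, h3, h4, h5, h6⟩ := K9.MTSubMain.main G
  have hj : Mono j := Groth.Agent.Sga3C.ClosedSub.mono_of_left j
  refine ⟨M, K, gK, j, h1, h2, h3, inferInstance, h5, fun T f K' _ j' a1 a2 a3 => ?_⟩
  have hj' : Mono j' := by
    have : Mono j'.left := inferInstance
    exact Over.mono_of_mono_left _
  obtain ⟨v, ⟨hv1, hv2⟩, hv3⟩ := h6 T f K' j' a1 hj' a3
  refine ⟨v, ⟨hv1, K204.SubRep.exists_iso_of_same j' M j v hv2⟩, ?_⟩
  rintro w ⟨hw1, φ, hw2, hw3⟩
  exact hv3 w ⟨hw1, K204.SubRep.same_of_iso j' M j w φ hw2 hw3⟩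

end Groth.Agent.S5303
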