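import Groth.Statements.S16767
import Groth.Agent.SGA3x.K20.ImgQuot
import Groth.Agent.SGA3x.K12.HomDS
import Groth.Agent.SGA3x.K5.CentNorm
import Groth.Agent.SGA3x.K5.MTNorm
import Groth.Agent.SGA3x.K5.MTTransp
import Groth.Agent.SGA3x.K5.WeylFin
import Groth.Agent.SGA3x.K6.TwConstClopen
import Groth.Agent.TwC.K983.TwIrr
import Groth.Agent.SGA3x.K10.MTLoc
import Groth.Agent.S5236
import Groth.Agent.Sga3.H771.QcDesc

set_option autoImplicit false
open CategoryTheory MonoidalCategory CartesianMonoidalCategory MonObj GrpObj AlgebraicGeometry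
universe u
open SGA3x

namespace Groth.Agent.S16767

/-- For a smooth affine group scheme G over a scheme S and a subgroup scheme H of multiplicative type
(of finite type) with centralizer Z and normalizer N, Z being a subgroup of N, the fppf quotient N/Z
is representable by an S-group scheme which is separated, etale and quasi-compact over S (a
separated etale S-group of finite presentation). -/
theorem result {S : Scheme.{u}} (H G Z N : Over S)
    [GrpObj H] [GrpObj G] [GrpObj Z] [GrpObj N]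
    (hH : SGA3x.IsMultTypeFT H) (hG : Smooth G.hom) (hGa : IsAffineHom G.hom) (i : H ⟶ G) [IsMonHom i] [Mono i]
    (j : Z ⟶ G) (k : N ⟶ G) (hj : Red.IsCentralizerOf i j) (hk : Red.IsNormalizerOf i k)
    (f : Z ⟶ N) [IsMonHom f] (hf : f ≫ k = j) :
    ∃ (W : Over S) (_ : GrpObj W) (q : N ⟶ W) (_ : IsMonHom q), RedSub.IsQuotient f q ∧
      IsSeparated W.hom ∧ Etale W.hom ∧ QuasiCompact W.hom := by
  classical
  have hsm : Smooth G.hom := hG
  have haf : IsAffineHom G.hom := hGa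
  obtain ⟨hjm, hjmono, hj'⟩ := id hj
  obtain ⟨hkm, hkmono, hk'⟩ := id hk
  -- the scheme of endomorphisms of `H`
  have hloc : TwC.Locally S TwC.Topology.etale (fun S' f => ∃ (M : Type) (_ : AddCommGroup M),
      AddGroup.FG M ∧ Nonempty (Grp.mk (Red.bc f H) ≅ Grp.mk (Red.DS S' M))) := by
    intro s
    obtain ⟨B, _, v, M, _, hv, hs, hM, he⟩ := K10.MTLoc.exists_etale_split hH s
    exact ⟨_, v, hv, hs, M, _, hM, he⟩
  have hloc' : TwC.Locally S TwC.Topology.etale (fun S' f => ∃ (M : Type) (_ : AddCommGroup M),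
      Nonempty (Grp.mk (Red.bc f H) ≅ Grp.mk (Red.DS S' M))) := by
    intro s
    obtain ⟨V, v, hv, hs, M, _, _, he⟩ := hloc s
    exact ⟨_, v, hv, hs, M, _, he⟩
  obtain ⟨A, υ, hA, hAt⟩ := K12.HomDS.exists_representsHom_etale H H hloc' hloc
  have hAe : Etale A.hom := K6.TwConstClopen.etale_of_isTwConst A hAt
  have hAs : IsSeparated A.hom := K983.TwIrr.isSeparated_of_isTwConst A hAt
  -- the conjugation family
  obtain ⟨φ, hφ⟩ : ∃ φ : H ⊗ N ⟶ H, ((snd H N ≫ k) * (fst H N ≫ i) * (snd H N ≫ k)⁻¹) = φ ≫ i := by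
    have := ((hk' N k).mp ⟨𝟙 N, Category.id_comp k⟩ (H ⊗ N) (snd H N) (fst H N)).1
    exact this
  have hφ' : ∀ (T : Over S) (h : T ⟶ H) (n : T ⟶ N), (lift h n ≫ φ) ≫ i = (n ≫ k) * (h ≫ i) * (n ≫ k)⁻¹ := by
    intro T h n
    rw [Category.assoc, ← hφ, comp_mul, comp_mul, GrpObj.comp_inv, lift_snd_assoc, lift_fst_assoc]
  have hφf : AutFam.IsHomFamily H H φ := by
    intro T h₁ h₂ n
    rw [← cancel_mono i, hφ', MonObj.mul_comp, MonObj.mul_comp, hφ', hφ']
    group
  obtain ⟨c, hc, -⟩ := hA.2 N φ hφf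
  have hcx : ∀ (T : Over S) (x : T ⟶ N), (H ◁ (x ≫ c)) ≫ υ = (H ◁ x) ≫ φ := by
    intro T x
    rw [whiskerLeft_comp, Category.assoc, hc]
  have hNs : Smooth N.hom := by
    have hcl : IsClosedImmersion i.left := Groth.Agent.SGA3x.K5.MTNorm.isClosedImmersion_of_mono i hH
    obtain ⟨N', _, n', hn', -, hN', -⟩ := Groth.Agent.SGA3x.K5.MTNorm.exists_normalizer i hH
    obtain ⟨e, he⟩ := Groth.Agent.SGA3x.K5.WeylFin.exists_iso_of_isNormalizerOf hk hn'
    have : IsIso e.hom.left := inferInstance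
    rw [← Over.w e.hom]
    infer_instance
  have hNqc : QuasiCompact N.hom := by
    have hcl : IsClosedImmersion i.left := Groth.Agent.SGA3x.K5.MTNorm.isClosedImmersion_of_mono i hH
    obtain ⟨N', _, n', hn', hcn, hN', -⟩ := Groth.Agent.SGA3x.K5.MTNorm.exists_normalizer i hH
    obtain ⟨e, he⟩ := Groth.Agent.SGA3x.K5.WeylFin.exists_iso_of_isNormalizerOf hk hn'
    have : IsIso e.hom.left := inferInstance
    rw [← Over.w e.hom, ← Over.w n']
    infer_instance
  have hcs : Smooth c.left := K20.ImgQuot.smooth_of_etale c hNs hAe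
  have hfm : Mono f := by
    have : Mono (f ≫ k) := by rw [hf]; exact hjmono
    exact mono_of_mono f k
  obtain ⟨W, q, m, hqm, hm, hqs, hq⟩ := K20.ImgQuot.exists_quotient_openImage f c hcs (by
    intro T n z
    refine (hA.2 T ((H ◁ n) ≫ φ) ?_).unique ?_ ?_
    · intro X g₁ g₂ t
      simp only [lift_whiskerLeft_assoc]
      exact hφf X g₁ g₂ (t ≫ n)
    · rw [hcx]
      have h3 := (hj' Z j).mp ⟨𝟙 Z, Category.id_comp j⟩
      have e1 : ∀ (X : Over S) (t : X ⟶ H ⊗ T), t = lift (t ≫ fst _ _) (t ≫ snd _ _) := by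
        intro X t
        rw [← comp_lift, lift_fst_snd, Category.comp_id]
      rw [← cancel_mono i]
      have e2 : ∀ (x : T ⟶ N), (H ◁ x) ≫ φ = lift (fst H T) (snd H T ≫ x) ≫ φ := by
        intro x
        congr 1
      rw [e2, e2, hφ', hφ', comp_mul, MonObj.mul_comp]
      have h4 := h3 (H ⊗ T) (snd H T ≫ z) (fst H T)
      have e3 : (snd H T ≫ z ≫ f) ≫ k = (snd H T ≫ z) ≫ j := by
        rw [Category.assoc, Category.assoc, hf, Category.assoc]
      rw [e3, _root_.mul_inv_rev]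
      have e5 : ((snd H T ≫ n) ≫ k) * ((snd H T ≫ z) ≫ j) * (fst H T ≫ i) *
          ((((snd H T ≫ z) ≫ j))⁻¹ * ((snd H T ≫ n) ≫ k)⁻¹) =
          ((snd H T ≫ n) ≫ k) * ((((snd H T ≫ z) ≫ j) * (fst H T ≫ i)) *
          (((snd H T ≫ z) ≫ j))⁻¹) * ((snd H T ≫ n) ≫ k)⁻¹ := by group
      rw [e5, h4]
      group
    · rw [hcx]) (by
    intro T g g' h
    have h3 : (H ◁ g) ≫ φ = (H ◁ g') ≫ φ := by rw [← hcx, ← hcx, h]
    obtain ⟨z, hz⟩ := (hj' T ((g⁻¹ * g') ≫ k)).mpr (by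
      intro X x y
      have h4 : lift y (x ≫ g) ≫ φ = lift y (x ≫ g') ≫ φ := by
        have e1 : ∀ (g : T ⟶ N), lift y (x ≫ g) ≫ φ = lift y x ≫ (H ◁ g) ≫ φ := by
          intro g
          rw [lift_whiskerLeft_assoc]
        rw [e1, e1, h3]
      have h5 := congrArg (· ≫ i) h4
      simp only [hφ'] at h5
      rw [MonObj.mul_comp, comp_mul, GrpObj.inv_comp, GrpObj.comp_inv, ← Category.assoc, ← Category.assoc]
      generalize (x ≫ g) ≫ k = a at h5 ⊢
      generalize (x ≫ g') ≫ k = b at h5 ⊢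
      generalize y ≫ i = w at h5 ⊢
      have h6 : a⁻¹ * (a * w * a⁻¹) * b = a⁻¹ * (b * w * b⁻¹) * b := by rw [h5]
      have h7 : a⁻¹ * (a * w * a⁻¹) * b = w * (a⁻¹ * b) := by group
      have h8 : a⁻¹ * (b * w * b⁻¹) * b = (a⁻¹ * b) * w := by group
      rw [← h7, ← h8, h6])
    refine ⟨z, ?_⟩
    have h9 : z ≫ f = g⁻¹ * g' := by
      rw [← cancel_mono k, Category.assoc, hf, hz]
    rw [h9, mul_inv_cancel_left])
  have hnorm : AlgGrp.IsNormalHom f := by
    intro T n z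
    obtain ⟨z', hz'⟩ := (hj' T ((n * (z ≫ f) * n⁻¹) ≫ k)).mpr (by
      intro X x y
      obtain ⟨y', hy'⟩ := ((hk' N k).mp ⟨𝟙 N, Category.id_comp k⟩ X (x ≫ n) y).2
      have h3 := (hj' Z j).mp ⟨𝟙 Z, Category.id_comp j⟩ X (x ≫ z) y'
      have e3 : (x ≫ z ≫ f) ≫ k = (x ≫ z) ≫ j := by
        rw [Category.assoc, Category.assoc, hf, Category.assoc]
      rw [← Category.assoc]
      rw [comp_mul, comp_mul, GrpObj.comp_inv, MonObj.mul_comp, MonObj.mul_comp, GrpObj.inv_comp, e3]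
      generalize (x ≫ n) ≫ k = a at hy' ⊢
      generalize (x ≫ z) ≫ j = b at h3 ⊢
      rw [← hy'] at h3
      generalize y ≫ i = w at h3 ⊢
      have h6 : a * (b * (a⁻¹ * w * a)) * a⁻¹ = a * ((a⁻¹ * w * a) * b) * a⁻¹ := by rw [h3]
      have h7 : a * (b * (a⁻¹ * w * a)) * a⁻¹ = a * b * a⁻¹ * w := by group
      have h8 : a * ((a⁻¹ * w * a) * b) * a⁻¹ = w * (a * b * a⁻¹) := by group
      rw [← h7, ← h8, h6])
    refine ⟨z', ?_⟩
    rw [← cancel_mono k, Category.assoc, hf, hz']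
  obtain ⟨gW, hqW, -⟩ := Groth.Agent.S5236.result f hnorm q hq
  refine ⟨W, gW, q, hqW, hq, ?_, ?_, ?_⟩
  · rw [← Over.w m]
    infer_instance
  · rw [← Over.w m]
    infer_instance
  · have h1 : Surjective q.left := hq.1
    have h2 : QuasiCompact (q.left ≫ W.hom) := by rw [Over.w]; exact hNqc
    exact Groth.Agent.Sga3.H771.QcDesc.quasiCompact_of_surjective_comp q.left W.hom

end Groth.Agent.S16767
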