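import Groth.Statements.S16768
import Groth.Agent.SGA3x.K20.CExtHopf

set_option autoImplicit false
universe u
open SGA3x

namespace Groth.Agent.S16768

/-- Let k be a commutative ring, A a finitely presented commutative Hopf k-algebra and ψ : O(SL_2) → A a
bialgebra map which is flat and surjective on spectra (an fppf surjection of affine k-groups Spec A
→ SL_2) whose kernel is central (every point of Spec A mapping to the identity of SL_2 commutes with
every point). Then there is exactly one bialgebra map σ : A → O(SL_2) with σ ∘ ψ = id: a central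
extension of SL_2 by an affine group splits uniquely. -/
theorem result (k : Type u) [CommRing k]
    (A : Type u) [CommRing A] [HopfAlgebra k A] [Algebra.FinitePresentation k A]
    (ψ : CoordGrp.SLn 2 k →ₐc[k] A) (hfl : (ψ : CoordGrp.SLn 2 k →+* A).Flat)
    (hsurj : Function.Surjective (PrimeSpectrum.comap (ψ : CoordGrp.SLn 2 k →+* A)))
    (hcen : ∀ (R : Type u) [CommRing R] [Algebra k R] (g z : A →ₐ[k] R),
      z.comp (ψ : CoordGrp.SLn 2 k →ₐ[k] A) = (Algebra.ofId k R).comp (Bialgebra.counitAlgHom k (CoordGrp.SLn 2 k)) →
      WithConv.toConv g * WithConv.toConv z = WithConv.toConv z * WithConv.toConv g) :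
    ∃! σ : A →ₐc[k] CoordGrp.SLn 2 k, σ.comp ψ = BialgHom.id k (CoordGrp.SLn 2 k) := by
  exact K20.CExtHopf.main ψ hfl hsurj hcen

end Groth.Agent.S16768
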