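import Groth.Statements.S16769
import Groth.Agent.Red.K217.ConnFib

set_option autoImplicit false
open CategoryTheory MonoidalCategory CartesianMonoidalCategory MonObj GrpObj AlgebraicGeometry
universe u
open Red

namespace Groth.Agent.S16769

/-- Let G be a smooth affine group scheme over a scheme S such that the identity component of every
geometric fibre of G is reductive (each geometric fibre has an open subgroup scheme which is affine,
smooth, connected and reductive). Then the locus of points of S with connected fibre G_s is closed
in S. -/
theorem result {S : Scheme.{u}} (G : Over S) [GrpObj G]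
    (hG : Smooth G.hom) (hGa : IsAffineHom G.hom)
    (h0 : ∀ s : S, ∃ (U : Over (Spec (CommRingCat.of (AlgebraicClosure (S.residueField s))))) (_ : GrpObj U)
      (i : U ⟶ Red.geomFibre s G) (_ : IsMonHom i), IsOpenImmersion i.left ∧
        Red.IsReductiveOver (AlgebraicClosure (S.residueField s)) U) :
    IsClosed {s : S | _root_.IsConnected (G.hom.base ⁻¹' {s})} := by
  obtain ⟨G0, _, u, _, hu2, hu3, hred⟩ := K217.RedNeutral.exists_reductive_neutral G h0
  have hmono : Mono u := Over.mono_of_mono_left u
  have hcl : IsClosedImmersion u.left := (Groth.Agent.S4127.result S G0 G hred u).2 inferInstance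
  refine K217.ConnFib.isClosed_setOf G ?_
  rw [← hu3]
  exact u.left.isClosedEmbedding.isClosed_range

end Groth.Agent.S16769
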