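import Groth.Statements.S16773
import Groth.Agent.Red.K217.CentKer
import Groth.Agent.Flat2B.SmoothGeom
import Groth.Agent.Flat2E.Thick

set_option autoImplicit false
open CategoryTheory MonoidalCategory CartesianMonoidalCategory MonObj GrpObj AlgebraicGeometry
universe u
open Red

namespace Groth.Agent.S16773

/-- Let f : G' → G be a homomorphism of reductive group schemes over a scheme S which is surjective,
with kernel K. If for every s ∈ S the fibre K_s is finite and central in G'_s, then f is flat, K is
finite over S and K is central in G' (f is a central isogeny). -/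
theorem result {S : Scheme.{u}} {G' G K : Over S}
    [GrpObj G'] [GrpObj G] (hG' : Red.IsReductive G') (hG : Red.IsReductive G) (f : G' ⟶ G) [IsMonHom f]
    (hf : Surjective f.left) (i : K ⟶ G') (hK : AlgGrp.IsKernel i f)
    (hfin : ∀ s : S, IsFinite (K.hom.fiberToSpecResidueField s))
    (hcen : ∀ (s : S) (X : Over (Spec (S.residueField s))) (x : X ⟶ Red.bc (S.fromSpecResidueField s) K)
      (g : X ⟶ Red.bc (S.fromSpecResidueField s) G'),
      (x ≫ (Over.pullback (S.fromSpecResidueField s)).map i) * g = g * (x ≫ (Over.pullback (S.fromSpecResidueField s)).map i)) :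
    Flat f.left ∧ IsFinite K.hom ∧
      ∀ (X : Over S) (x : X ⟶ K) (g : X ⟶ G'), (x ≫ i) * g = g * (x ≫ i) := by
  have h1 : IsAffineHom G'.hom := hG'.1
  have h2 : Smooth G'.hom := hG'.2.1
  have h3 : IsAffineHom G.hom := hG.1
  have h4 : Smooth G.hom := hG.2.1
  have h5 : GeometricallyReduced G.hom := Groth.Agent.Flat2B.SmoothGeom.geometricallyReduced_of_smooth _
  have hqc : QuasiCompact f.left := by
    have : QuasiCompact (f.left ≫ G.hom) := by rw [Over.w f]; infer_instance
    exact QuasiCompact.of_comp _ G.hom
  have hfl : Flat f.left := K449.FlatHom.flat_of_surjective f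
  have hlfp : LocallyOfFinitePresentation f.left := by
    have : LocallyOfFinitePresentation (f.left ≫ G.hom) := by rw [Over.w f]; infer_instance
    exact Groth.Agent.Flat2E.Thick.locallyOfFinitePresentation_of_comp f.left G.hom
  have hK' : IsPullback i.left (toUnit K).left f.left (η[G] : 𝟙_ (Over S) ⟶ G).left :=
    hK.map (Over.forget S)
  have hKfp : LocallyOfFinitePresentation K.hom := by
    have h6 : LocallyOfFinitePresentation (toUnit K).left :=
      MorphismProperty.of_isPullback (P := @LocallyOfFinitePresentation) hK' hlfp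
    have h7 : (toUnit K).left ≫ (𝟙_ (Over S)).hom = K.hom := Over.w (toUnit K)
    have h8 : IsIso (𝟙_ (Over S)).hom := inferInstanceAs (IsIso (𝟙 S))
    rw [← h7]
    infer_instance
  have hF := K217.CentKer.fibFin_of_residue K hfin
  have hC := K217.CentKer.fibCen_of_residue i hcen
  have key := fun s => K217.CentKer.local_result hG' f hK hF hC s
  refine ⟨hfl, ?_, ?_⟩
  · choose W w he hs hf' hc' using key
    exact Sga3.H804.EtFam.of_etale_family (P := @IsFinite) K.hom W w he (fun s => ⟨s, hs s⟩)
      (fun s => IsPullback.of_hasPullback K.hom (w s)) hf'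
  · exact K217.CentKer.cen_of_family fun s => by
      obtain ⟨W, w, he, hs, -, hc'⟩ := key s
      exact ⟨W, w, inferInstance, hs, hc'⟩

end Groth.Agent.S16773
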