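import Groth.Statements.S16774
import Groth.Agent.Red.K217.Pointwise
import Groth.Agent.Sga3B.TorClosed636
import Groth.Agent.Sga3B.SplitBc264
import Groth.Agent.Sga3B.RadOpen.Main

set_option autoImplicit false
open CategoryTheory MonoidalCategory CartesianMonoidalCategory MonObj GrpObj AlgebraicGeometry
universe u
open Red

namespace Groth.Agent.S16774

open Groth.Agent.Sga3B Groth.Agent.Sga3B.RedIso Groth.Agent.Sga3B.BcNat Groth.Agent.Sga3B.AlgBc
  Groth.Agent.Sga3B.MaxTorBc636

/-- Let G be a smooth affine group scheme with connected fibres over a scheme S, T ⊆ G a subtorus with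
centralizer Z = Z_G(T) ⊇ T, and s ∈ S a point at which the geometric fibre of G is reductive and the
geometric fibre of T is a maximal torus. Then over some open neighbourhood U of s the inclusion T →
Z_G(T) is an isomorphism and T is a maximal torus of G. (The published statement allows disconnected
fibres and concerns identity components; here the fibres of G are connected.) -/
theorem result {S : Scheme.{u}} {G T Z : Over S} [GrpObj G] [GrpObj T] [GrpObj Z]
    (hG : Smooth G.hom) (hGa : IsAffineHom G.hom) (hconn : ∀ s : S, _root_.IsConnected (G.hom.base ⁻¹' {s}))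
    (i : T ⟶ G) [IsMonHom i] [Mono i] (hT : Red.IsTorus T) (z : Z ⟶ G) (hz : Red.IsCentralizerOf i z)
    (f : T ⟶ Z) (hf : f ≫ z = i) (s : S)
    (hs : Red.IsReductiveOver (AlgebraicClosure (S.residueField s)) (Red.geomFibre s G))
    (hTs : Red.IsMaximalTorus ((Over.pullback (Red.geomPt s)).map i)) :
    ∃ U : S.Opens, s ∈ U ∧ IsIso ((Over.pullback U.ι).map f) ∧ Red.IsMaximalTorus ((Over.pullback U.ι).map i) := by
  have hcl : IsClosedImmersion i.left := TorClosed636.isClosedImmersion_of_isTorus i hT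
  have hself := selfC_of_isReductiveOver hs hTs
  obtain ⟨V, hsV, hV⟩ := MaxTorNear900.exists_open_isMaximalTorus hT i s (fun X g hg => by
    obtain ⟨t, ht⟩ := hself X g hg
    exact ⟨t, ht.symm⟩)
  let W : S.Opens := ⟨RadOpen.redLocus G, RadOpen.isOpen_redLocus G hconn⟩
  have hsW : s ∈ W := hs
  have hred : Red.IsReductive (Red.bc (V ⊓ W).ι G) :=
    K217.Pointwise.isReductive_restrict G hGa hG _ (fun t ht => ht.2)
  have hmax : Red.IsMaximalTorus ((Over.pullback (V ⊓ W).ι).map i) :=
    K217.Pointwise.isMaximalTorus_restrict i hT _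
      (fun t ht => K217.Pointwise.isMaxTorOver_of_restrict hV t ht.1)
  refine ⟨V ⊓ W, ⟨hsV, hsW⟩, ?_, hmax⟩
  have hc1 := TorClosed636.isCentralizerOf_self hred hmax
  have hc2 := SplitBc264.isCentralizerOf_bc (f := (V ⊓ W).ι) hz
  have hmz : Mono ((Over.pullback (V ⊓ W).ι).map z) := hc2.2.1
  have hmi : Mono ((Over.pullback (V ⊓ W).ι).map i) := hmax.2.1
  obtain ⟨r, hr⟩ := (hc1.2.2 _ ((Over.pullback (V ⊓ W).ι).map z)).2
    ((hc2.2.2 _ _).1 ⟨𝟙 _, Category.id_comp _⟩)
  have hfz : (Over.pullback (V ⊓ W).ι).map f ≫ (Over.pullback (V ⊓ W).ι).map z =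
      (Over.pullback (V ⊓ W).ι).map i := by rw [← Functor.map_comp, hf]
  refine ⟨r, ?_, ?_⟩
  · rw [← cancel_mono ((Over.pullback (V ⊓ W).ι).map i), Category.assoc, hr, hfz, Category.id_comp]
  · rw [← cancel_mono ((Over.pullback (V ⊓ W).ι).map z), Category.assoc, hfz, hr, Category.id_comp]

end Groth.Agent.S16774
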