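import Groth.Statements.S16775
import Groth.Agent.SGA3x.K983.PreimMT
import Groth.Agent.SGA3x.K16.PreimMain
import Groth.Agent.S5431
set_option autoImplicit false
open CategoryTheory MonoidalCategory CartesianMonoidalCategory MonObj GrpObj AlgebraicGeometry
universe u
open SGA3x

namespace Groth.Agent.S16775

/-- Let G be a smooth affine group scheme with connected fibres over a scheme S, H ⊆ G a normal subgroup
scheme of multiplicative type (of finite type), G → Q = G/H the quotient, and H' ⊆ Q a central
subgroup scheme of multiplicative type (of finite type). Then the preimage of H' in G is a central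
subgroup scheme of G of multiplicative type. -/
theorem result {S : Scheme.{u}} {G H Q H' P : Over S}
    [GrpObj G] [GrpObj H] [GrpObj Q] [GrpObj H'] [GrpObj P]
    (hG : Smooth G.hom) (hGa : IsAffineHom G.hom) (hconn : ∀ s : S, _root_.IsConnected (G.hom.base ⁻¹' {s}))
    (i : H ⟶ G) [IsMonHom i] [Mono i] (hH : SGA3x.IsMultTypeFT H) (hHn : AlgGrp.IsNormalHom i)
    (q : G ⟶ Q) [IsMonHom q] (hq : RedSub.IsQuotient i q) (hker : AlgGrp.IsKernel i q)
    (j : H' ⟶ Q) [IsMonHom j] [Mono j] (hH' : SGA3x.IsMultTypeFT H')
    (hcenH' : ∀ (X : Over S) (x : X ⟶ H') (g : X ⟶ Q), (x ≫ j) * g = g * (x ≫ j))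
    (i' : P ⟶ G) [IsMonHom i'] (p : P ⟶ H') (hP : IsPullback i' p q j) :
    SGA3x.IsMultTypeFT P ∧ ∀ (X : Over S) (x : X ⟶ P) (g : X ⟶ G), (x ≫ i') * g = g * (x ≫ i') := by
  obtain ⟨q1, q2, q3, q4⟩ := hq
  have hHa : IsAffineHom H.hom := K10.MTLoc.isAffineHom hH
  have q5 : QuasiCompact q.left := by
    have hsq : IsPullback (fst G H).left ((G ◁ i) ≫ μ[G]).left q.left q.left := q4.map (Over.forget S)
    have h1 : QuasiCompact (fst G H).left := by
      have h2 : IsPullback (fst G H).left (snd G H).left G.hom H.hom := IsPullback.of_hasPullback _ _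
      exact MorphismProperty.of_isPullback (P := @QuasiCompact) h2.flip inferInstance
    exact K500.QcDesc.quasiCompact_of_isPullback_open hsq.flip q.left.isOpenMap
  have hpj : IsMonHom (p ≫ j) := by
    rw [← hP.w]
    infer_instance
  have hp : IsMonHom p := K16.PreimMain.isMonHom_of_comp p j
  have hcen := K983.PreimMT.central_preimage hconn i hH q hker j hH' hcenH' i' p hP
  refine ⟨?_, hcen⟩
  have hpb : IsPullback i'.left p.left q.left j.left := hP.map (Over.forget S)
  have f1 : Flat p.left := MorphismProperty.of_isPullback (P := @Flat) hpb inferInstance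
  have f2 : Surjective p.left := MorphismProperty.of_isPullback (P := @Surjective) hpb inferInstance
  have f3 : QuasiCompact p.left := MorphismProperty.of_isPullback (P := @QuasiCompact) hpb inferInstance
  have hmi : Mono i' := MorphismProperty.of_isPullback (P := MorphismProperty.monomorphisms (Over S)) hP.flip
    (MorphismProperty.monomorphisms.infer_property _)
  -- the kernel of `p`
  have hw : i ≫ q = (1 : H ⟶ H') ≫ j := by
    rw [hker.w, one_comp]
    rfl
  let k : H ⟶ P := hP.lift i 1 hw
  have hk1 : k ≫ i' = i := hP.lift_fst _ _ _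
  have hk2 : k ≫ p = 1 := hP.lift_snd _ _ _
  have hkm : IsMonHom (k ≫ i') := by rw [hk1]; infer_instance
  have hk : IsMonHom k := K16.PreimMain.isMonHom_of_comp k i'
  have hkk : AlgGrp.IsKernel k p := by
    refine ⟨⟨by rw [hk2]; rfl⟩, ⟨Limits.PullbackCone.IsLimit.mk _ (fun s => hker.lift (s.fst ≫ i') s.snd ?_) ?_ ?_ ?_⟩⟩
    · have h1 : s.fst ≫ p = s.snd ≫ η[H'] := s.condition
      have h2 : η[H'] ≫ j = η[Q] := IsMonHom.one_hom j
      rw [Category.assoc, hP.w, ← Category.assoc, h1, Category.assoc, h2]
    · intro s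
      rw [← cancel_mono i', Category.assoc, hk1]
      exact hker.lift_fst _ _ _
    · intro s
      exact toUnit_unique _ _
    · intro s m h1 h2
      refine hker.hom_ext ?_ (toUnit_unique _ _)
      rw [hker.lift_fst, ← h1, Category.assoc, hk1]
  have hcomm : IsCommMonObj P := by
    have h0 : fst P P * snd P P = snd P P * fst P P := by
      rw [← cancel_mono i', mul_comp, mul_comp, hcen]
    refine ⟨?_⟩
    have h1 : μ[P] = fst P P * snd P P := by
      rw [Hom.mul_def, lift_fst_snd, Category.id_comp]
    rw [h1, MonObj.comp_mul, braiding_hom_fst, braiding_hom_snd, h0]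
  exact Groth.Agent.S5431.result S P H H' p k hkk hH hH' (Or.inl hcomm)

end Groth.Agent.S16775
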