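import Groth.Statements.S16778
import Groth.Agent.Red.K217.LimKit
import Groth.Agent.Sga3B.RedBcAny636
import Groth.Agent.Sga3.H806.ApproxConn
import Groth.Agent.Sga3.H430.NoethAff
import Groth.Agent.Sga3.H778.NeutralOpen

set_option autoImplicit false
open CategoryTheory MonoidalCategory CartesianMonoidalCategory MonObj GrpObj AlgebraicGeometry
universe u
open Red

namespace Groth.Agent.S16778

open Groth.Agent.Sga3B Groth.Agent.Sga3B.RadOpen Groth.Agent.Sga3B.AlgBc Limits

section

variable {J : Type u} [Preorder J] [IsDirected J (fun a b => a ≤ b)]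
    (F : J ⥤ CommRingCat.{u}) (c : Limits.Cocone F)

/-- transitivity of base change, from the colimit -/
noncomputable def isoColim {i₀ i : J} (h : i₀ ≤ i) (G₀ : Over (Spec (F.obj i₀))) [GrpObj G₀] :
    Grp.mk (Red.bc (Spec.map (c.ι.app i₀)) G₀) ≅
      Grp.mk (Red.bc (Spec.map (c.ι.app i)) (Red.bc (Spec.map (F.map (homOfLE h))) G₀)) :=
  BcIso.bcCongrIso (by rw [← Spec.map_comp, c.w]) G₀ ≪≫ BcIso.bcCompIso _ _ G₀

/-- transitivity of base change -/
noncomputable def isoStage {i₀ i j : J} (h : i₀ ≤ i) (h' : i ≤ j) (G₀ : Over (Spec (F.obj i₀))) [GrpObj G₀] :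
    Grp.mk (Red.bc (Spec.map (F.map (homOfLE h'))) (Red.bc (Spec.map (F.map (homOfLE h))) G₀)) ≅
      Grp.mk (Red.bc (Spec.map (F.map (homOfLE (h.trans h')))) G₀) :=
  (BcIso.bcCompIso _ _ G₀).symm ≪≫ BcIso.bcCongrIso (by
    rw [← Spec.map_comp, ← F.map_comp, homOfLE_comp]) G₀

variable {F c}

/-- Connectedness of the fibres passes to a finite stage. -/
theorem exists_conn (hc : Limits.IsColimit c) {i₀ : J} (G₀ : Over (Spec (F.obj i₀))) [GrpObj G₀] [Smooth G₀.hom]
    [QuasiCompact G₀.hom]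
    (hconn : ∀ s, _root_.IsConnected ((Red.bc (Spec.map (c.ι.app i₀)) G₀).hom ⁻¹' {s})) :
    ∃ (i : J) (h : i₀ ≤ i),
      ∀ s, _root_.IsConnected ((Red.bc (Spec.map (F.map (homOfLE h))) G₀).hom ⁻¹' {s}) := by
  have hs : Smooth ((⊤ : G₀.left.Opens).ι ≫ G₀.hom) := inferInstance
  have hopen := Sga3.H778.NeutralOpen.isOpen_neutralSet G₀ ⊤ (fun _ => trivial)
  obtain ⟨i, h, hi⟩ := K217.LimKit.exists_top F c hc i₀ G₀.hom ⟨SGA3x.neutralSet G₀, hopen⟩ (by
    change pullback.fst G₀.hom _ ⁻¹' SGA3x.neutralSet G₀ = Set.univ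
    rw [Sga3.H806.ApproxConn.preimage_neutralSet]
    exact Sga3.H806.ApproxConn.neutralSet_eq_univ _ hconn)
  refine ⟨i, h, Sga3.H430.NoethAff.conn_of_neutralSet_eq_univ _ ?_⟩
  rw [← Sga3.H806.ApproxConn.preimage_neutralSet]
  exact hi

theorem isReductive_iff_locus {S : Scheme.{u}} {G : Over S} [GrpObj G] (h1 : IsAffineHom G.hom) (h2 : Smooth G.hom) :
    Red.IsReductive G ↔ redLocus G = Set.univ :=
  ⟨fun h => Set.eq_univ_of_forall h.2.2, fun h => ⟨h1, h2, fun s => (h ▸ Set.mem_univ s : s ∈ redLocus G)⟩⟩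

theorem isSemisimple_iff_locus {S : Scheme.{u}} {G : Over S} [GrpObj G] (h1 : IsAffineHom G.hom) (h2 : Smooth G.hom) :
    Red.IsSemisimple G ↔ ssLocus G = Set.univ :=
  ⟨fun h => Set.eq_univ_of_forall h.2.2, fun h => ⟨h1, h2, fun s => (h ▸ Set.mem_univ s : s ∈ ssLocus G)⟩⟩

end

/-- For a directed system of rings (A_i) with colimit A and a smooth affine group scheme G₀ over some
A_{i₀}, the base change of G₀ to A is reductive (resp. semisimple) if and only if its base change to
A_i is reductive (resp. semisimple) for some i ≥ i₀. (The published statement also treats the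
identity components of the fibres of groups whose fibres may be disconnected; that clause is not
stated here.) -/
theorem result {J : Type u} [Preorder J] [IsDirected J (fun a b => a ≤ b)]
    (F : J ⥤ CommRingCat.{u}) (c : Limits.Cocone F) (hc : Limits.IsColimit c) (i₀ : J)
    (G₀ : Over (Spec (F.obj i₀))) [GrpObj G₀] (hG₀ : Smooth G₀.hom) (hG₀a : IsAffineHom G₀.hom) :
    (Red.IsReductive (Red.bc (Spec.map (c.ι.app i₀)) G₀) ↔
      ∃ (i : J) (h : i₀ ≤ i), Red.IsReductive (Red.bc (Spec.map (F.map (homOfLE h))) G₀)) ∧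
    (Red.IsSemisimple (Red.bc (Spec.map (c.ι.app i₀)) G₀) ↔
      ∃ (i : J) (h : i₀ ≤ i), Red.IsSemisimple (Red.bc (Spec.map (F.map (homOfLE h))) G₀)) := by
  have hbc : ∀ {S' : Scheme.{u}} (f : S' ⟶ Spec (F.obj i₀)), IsAffineHom (Red.bc f G₀).hom ∧ Smooth (Red.bc f G₀).hom :=
    fun f => ⟨MorphismProperty.pullback_snd (P := @IsAffineHom) _ _ hG₀a,
      MorphismProperty.pullback_snd (P := @Smooth) _ _ hG₀⟩
  constructor
  · constructor
    · intro hred
      obtain ⟨i, h, hconn⟩ := exists_conn hc G₀ fun s => IsoFam.isConnected_fibre_of_isReductive hred s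
      let G := Red.bc (Spec.map (F.map (homOfLE h))) G₀
      obtain ⟨ha, hsm⟩ := hbc (Spec.map (F.map (homOfLE h)))
      have hred' : Red.IsReductive (Red.bc (Spec.map (c.ι.app i)) G) :=
        isReductive_of_iso (isoColim F c h G₀) hred
      obtain ⟨j, h', hj⟩ := K217.LimKit.exists_base_top F c hc i ⟨redLocus G, isOpen_redLocus G hconn⟩ (by
        ext s
        simp only [Set.mem_univ, iff_true]
        exact (RedBcAny636.isReductiveOver_geomFibre_bc_iff hconn (Spec.map (c.ι.app i)) s).mp (hred'.2.2 s))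
      refine ⟨j, h.trans h', isReductive_of_iso (isoStage F h h' G₀) ⟨?_, ?_, fun s => ?_⟩⟩
      · exact MorphismProperty.pullback_snd (P := @IsAffineHom) _ _ ha
      · exact MorphismProperty.pullback_snd (P := @Smooth) _ _ hsm
      · refine (RedBcAny636.isReductiveOver_geomFibre_bc_iff hconn (Spec.map (F.map (homOfLE h'))) s).mpr ?_
        have : s ∈ (Spec.map (F.map (homOfLE h'))) ⁻¹' redLocus G := by
          have h0 : (Spec.map (F.map (homOfLE h'))) ⁻¹' redLocus G = Set.univ := hj
          rw [h0]; trivial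
        exact this
    · rintro ⟨i, h, hred⟩
      exact isReductive_of_iso (isoColim F c h G₀).symm (RedBcAny636.isReductive_bc _ hred)
  · constructor
    · intro hred
      obtain ⟨i, h, hconn⟩ := exists_conn hc G₀ fun s => IsoFam.isConnected_fibre _ s (hred.2.2 s).1.2.2.1
      let G := Red.bc (Spec.map (F.map (homOfLE h))) G₀
      obtain ⟨ha, hsm⟩ := hbc (Spec.map (F.map (homOfLE h)))
      have hred' : Red.IsSemisimple (Red.bc (Spec.map (c.ι.app i)) G) :=
        isSemisimple_of_iso (isoColim F c h G₀) hred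
      obtain ⟨j, h', hj⟩ := K217.LimKit.exists_base_top F c hc i ⟨ssLocus G, isOpen_ssLocus G hconn⟩ (by
        ext s
        simp only [Set.mem_univ, iff_true]
        exact (RedBcAny636.isSemisimpleOver_geomFibre_bc_iff hconn (Spec.map (c.ι.app i)) s).mp (hred'.2.2 s))
      refine ⟨j, h.trans h', isSemisimple_of_iso (isoStage F h h' G₀) ⟨?_, ?_, fun s => ?_⟩⟩
      · exact MorphismProperty.pullback_snd (P := @IsAffineHom) _ _ ha
      · exact MorphismProperty.pullback_snd (P := @Smooth) _ _ hsm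
      · refine (RedBcAny636.isSemisimpleOver_geomFibre_bc_iff hconn (Spec.map (F.map (homOfLE h'))) s).mpr ?_
        have : s ∈ (Spec.map (F.map (homOfLE h'))) ⁻¹' ssLocus G := by
          have h0 : (Spec.map (F.map (homOfLE h'))) ⁻¹' ssLocus G = Set.univ := hj
          rw [h0]; trivial
        exact this
    · rintro ⟨i, h, hred⟩
      exact isSemisimple_of_iso (isoColim F c h G₀).symm (RedBcAny636.isSemisimple_bc _ hred)

end Groth.Agent.S16778
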