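import Groth.Statements.S16779
import Groth.Agent.Red.K918.RankOne

set_option autoImplicit false
open CategoryTheory MonoidalCategory CartesianMonoidalCategory MonObj GrpObj AlgebraicGeometry
universe u
open Red

namespace Groth.Agent.S16779

/-- Let G be a reductive group scheme over a scheme S with a split maximal torus of rank 1, whose
geometric fibres have dimension 3 and centre isomorphic to μ_2 (that is, semisimple-rank 1 and
centre of order 2). Then every point of S has an affine open neighbourhood Spec R over which G
becomes isomorphic, as a group scheme, to SL_2 over R. (The published statement also chooses the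
isomorphism carrying the torus to the diagonal torus; that refinement is not stated here.) -/
theorem result {S : Scheme.{u}} {G T : Over S} [GrpObj G] [GrpObj T]
    (hG : Red.IsReductive G) (i : T ⟶ G) (hT : Red.IsMaximalTorus i) (hspl : Red.IsSplitTorusWith ℤ T)
    (hdim : ∀ s : S, topologicalKrullDim ↥(Red.geomFibre s G).left = 3)
    (hZ : ∀ s : S, ∃ (Z : Over (Spec (CommRingCat.of (AlgebraicClosure (S.residueField s))))) (_ : GrpObj Z)
      (z : Z ⟶ Red.geomFibre s G), Red.IsCentre z ∧
        Nonempty (Grp.mk Z ≅ Grp.mk (Red.DS (Spec (CommRingCat.of (AlgebraicClosure (S.residueField s)))) (ZMod 2)))) :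
    ∀ s : S, ∃ (R : Type u) (_ : CommRing R) (u : Spec (CommRingCat.of R) ⟶ S), IsOpenImmersion u ∧ s ∈ Set.range u.base ∧
      Nonempty (Grp.mk (Red.bc u G) ≅ Grp.mk (CoactBr.sp R (CoordGrp.SLn 2 R))) := by
  intro s
  obtain ⟨R, u, hu, hs, h⟩ := K918.RankOne.main hG i hT hspl s (hdim s) (hZ s)
  exact ⟨R, inferInstance, u, hu, hs, h⟩

end Groth.Agent.S16779
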