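import Groth.Statements.S16781
import Groth.Agent.Red.K217.LimKit
import Groth.Agent.Red.K217.RankLoc

set_option autoImplicit false
open CategoryTheory MonoidalCategory CartesianMonoidalCategory MonObj GrpObj AlgebraicGeometry
universe u
open Red

namespace Groth.Agent.S16781

open Groth.Agent.Sga3B K217.RankLoc K217.LimKit Limits Opposite

/-- For a directed system of rings (A_i) with colimit A, a smooth affine group scheme G₀ over some
A_{i₀} and a subtorus T₀ ⊆ G₀, if the base change of T₀ to A is a maximal torus of the base change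
of G₀ then already its base change to some A_i (i ≥ i₀) is a maximal torus there. -/
theorem result {J : Type u} [Preorder J] [IsDirected J (fun a b => a ≤ b)]
    (F : J ⥤ CommRingCat.{u}) (c : Limits.Cocone F) (hc : Limits.IsColimit c) (i₀ : J)
    {G₀ T₀ : Over (Spec (F.obj i₀))} [GrpObj G₀] [GrpObj T₀] (hG₀ : Smooth G₀.hom) (hG₀a : IsAffineHom G₀.hom)
    (j₀ : T₀ ⟶ G₀) [IsMonHom j₀] [Mono j₀] (hT₀ : Red.IsTorus T₀)
    (hmax : Red.IsMaximalTorus ((Over.pullback (Spec.map (c.ι.app i₀))).map j₀)) :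
    ∃ (i : J) (h : i₀ ≤ i), Red.IsMaximalTorus ((Over.pullback (Spec.map (F.map (homOfLE h)))).map j₀) := by
  have hlft : LocallyOfFiniteType G₀.hom := inferInstance
  have hcs : CompactSpace (Spec (F.obj i₀)) := inferInstance
  -- the bad locus
  let B : Set (Spec (F.obj i₀)) := ⋃ n, torRk T₀ n ∩ rkGe G₀ (n + 1)
  have hBo : IsOpen B := isOpen_iUnion fun n => (isOpen_torRk T₀ hT₀ n).inter (isOpen_rkGe G₀ (n + 1))
  have hBc : IsCompact B := by
    obtain ⟨I, hI⟩ := isCompact_univ.elim_finite_subcover (fun n => torRk T₀ n) (isOpen_torRk T₀ hT₀)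
      (fun s _ => Set.mem_iUnion.mpr (exists_torRk T₀ hT₀ s))
    have hB : B = ⋃ n ∈ I, torRk T₀ n ∩ rkGe G₀ (n + 1) := by
      ext s
      simp only [B, Set.mem_iUnion, exists_prop]
      constructor
      · rintro ⟨n, h1, h2⟩
        obtain ⟨m, hm⟩ := Set.mem_iUnion.mp (hI (Set.mem_univ s))
        obtain ⟨hm1, hm2⟩ := Set.mem_iUnion.mp hm
        have := torRk_unique T₀ h1 hm2
        subst this
        exact ⟨n, hm1, h1, h2⟩
      · rintro ⟨n, -, h⟩
        exact ⟨n, h⟩
    rw [hB]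
    refine I.isCompact_biUnion fun n _ => ?_
    exact (isCompact_rkGe G₀ (n + 1)).inter_left (isClosed_torRk T₀ hT₀ n)
  -- the preimage over the colimit is empty
  have hpre : (Spec.map (c.ι.app i₀)) ⁻¹' B = ∅ := by
    rw [Set.eq_empty_iff_forall_notMem]
    intro x hx
    obtain ⟨n, h1, r, hr, hn⟩ := Set.mem_iUnion.mp hx
    have h2 := torRk_bc T₀ (Spec.map (c.ι.app i₀)) h1
    have h3 := hasRedRank_bc G₀ (Spec.map (c.ι.app i₀)) x hr
    have i1 : LocallyOfFiniteType (Red.bc (Spec.map (c.ι.app i₀)) G₀).hom :=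
      MorphismProperty.pullback_snd (P := @LocallyOfFiniteType) _ _ hlft
    have i2 : IsAffineHom (Red.bc (Spec.map (c.ι.app i₀)) G₀).hom :=
      MorphismProperty.pullback_snd (P := @IsAffineHom) _ _ hG₀a
    have h4 : SGA3x.HasRedRank (Red.bc (Spec.map (c.ι.app i₀)) G₀) x n :=
      Sga3.H795.RankEt.hasRedRank_of_split _ (Sga3.H799.Bc.isMaximalTorus_bc (Red.geomPt x) hmax) h2
    have h5 := hasRedRank_unique _ h3 h4
    rw [h5] at hn
    have h6 : n + 1 ≤ n := by exact_mod_cast hn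
    omega
  -- pass to a finite stage
  have hne : Nonempty J := ⟨i₀⟩
  have hfil : IsFiltered J := inferInstance
  have hcof : IsCofiltered Jᵒᵖ := inferInstance
  have haff : ∀ {i j : Jᵒᵖ} (f : i ⟶ j), IsAffineHom ((D F).map f) := fun {i j} f =>
    inferInstanceAs (IsAffineHom (Spec.map (F.map f.unop)))
  have hcpt : ∀ i, CompactSpace ((D F).obj i) := fun i => inferInstanceAs (CompactSpace (Spec (F.obj i.unop)))
  obtain ⟨j, f, hj⟩ := exists_map_preimage_le_map_preimage (D F) (cone F c) (K217.LimKit.isLimit F c hc)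
    (i := op i₀) (U := ⟨B, hBo⟩) (V := ⊥) hBc (by
      intro x hx
      have : x ∈ (Spec.map (c.ι.app i₀)) ⁻¹' B := hx
      rw [hpre] at this
      exact this.elim)
  refine ⟨j.unop, leOfHom f.unop, ?_⟩
  let q := Spec.map (F.map (homOfLE (leOfHom f.unop)))
  have i1 : LocallyOfFiniteType (Red.bc q G₀).hom :=
    MorphismProperty.pullback_snd (P := @LocallyOfFiniteType) _ _ hlft
  have i2 : IsAffineHom (Red.bc q G₀).hom := MorphismProperty.pullback_snd (P := @IsAffineHom) _ _ hG₀a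
  refine Sga3.H819.LocalTorus.isMaximalTorus_of_dim (G := Red.bc q G₀) (T := Red.bc q T₀)
    ((Over.pullback q).map j₀) (TorusBc.isTorus_bc q hT₀) fun s => ?_
  have hs : q s ∉ B := fun h => by
    have h1 : s ∈ (D F).map f ⁻¹ᵁ (⟨B, hBo⟩ : ((D F).obj (op i₀)).Opens) := h
    exact (hj h1).elim
  obtain ⟨m, hm⟩ := exists_hasRedRank G₀ (q s)
  obtain ⟨n, hn⟩ := exists_torRk T₀ hT₀ (q s)
  refine ⟨m, hasRedRank_bc G₀ q s hm, ?_⟩
  rw [Sga3.H795.MaxTorDim.topologicalKrullDim_of_split (torRk_bc T₀ q hn)]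
  by_contra hlt
  apply hs
  refine Set.mem_iUnion.mpr ⟨n, hn, m, hm, ?_⟩
  have h1 : ¬ (m ≤ n) := fun h => hlt (by exact_mod_cast h)
  have h2 : n + 1 ≤ m := by omega
  exact_mod_cast h2

end Groth.Agent.S16781
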