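import Groth.Statements.S16786
import Groth.Agent.S5303
import Groth.Agent.SGA3x.K20.FibLift
import Groth.Agent.SGA3x.K5.MTNorm

set_option autoImplicit false
open CategoryTheory MonoidalCategory CartesianMonoidalCategory MonObj GrpObj AlgebraicGeometry
universe u
open CategoryTheory.Limits
open SGA3x

namespace Groth.Agent.S16786

/-- Let G be a smooth affine group scheme over a scheme S, s ∈ S, and H₀ a subgroup scheme of
multiplicative type of the fibre G_s. Then H₀ lifts to a subgroup scheme of multiplicative type of G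
over an etale neighbourhood of s with trivial residue field extension: there are an etale S' → S, a
κ(s)-point of S' over s and a multiplicative type subgroup of G_{S'} restricting to H₀ along that
point. -/
theorem result {S : Scheme.{u}} (G : Over S) [GrpObj G]
    (hG : Smooth G.hom) (hGa : IsAffineHom G.hom) (s : S)
    (H₀ : Over (Spec (S.residueField s))) [GrpObj H₀] (i₀ : H₀ ⟶ Red.bc (S.fromSpecResidueField s) G)
    [IsMonHom i₀] [Mono i₀] (hH₀ : SGA3x.IsMultTypeFT H₀) :
    ∃ (S' : Scheme.{u}) (e : S' ⟶ S) (σ : Spec (S.residueField s) ⟶ S'), Etale e ∧ σ ≫ e = S.fromSpecResidueField s ∧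
      ∃ (H' : Over S') (_ : GrpObj H') (i' : H' ⟶ Red.bc e G) (_ : IsMonHom i') (_ : Mono i'), SGA3x.IsMultTypeFT H' ∧
        ∃ φ : H₀.left ≅ (Red.bc σ H').left, φ.hom ≫ (Red.bc σ H').hom = H₀.hom ∧
          φ.hom ≫ ((Over.pullback σ).map i').left ≫ pullback.fst (Red.bc e G).hom σ ≫ pullback.fst G.hom e =
            i₀.left ≫ pullback.fst G.hom (S.fromSpecResidueField s) := by
  obtain ⟨M, K, _, j, hM1, hM2, hj1, hj2, hK, hU⟩ := Groth.Agent.S5303.result G hG hGa
  have h2 : IsAffineHom (Red.bc (S.fromSpecResidueField s) G).hom := MorphismProperty.pullback_snd _ _ hGa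
  have h3 : IsClosedImmersion i₀.left := Groth.Agent.SGA3x.K5.MTNorm.isClosedImmersion_of_mono i₀ hH₀
  exact K20.FibLift.exists_lift j hM1 hj1 hj2 hK hU s H₀ i₀ inferInstance inferInstance hH₀

end Groth.Agent.S16786
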