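import Groth.Statements.S16787
import Groth.Agent.Red.K609.OpenNorm
import Groth.Agent.Red.K217.ConnFib
import Groth.Agent.S4596

set_option autoImplicit false
open CategoryTheory MonoidalCategory CartesianMonoidalCategory MonObj GrpObj AlgebraicGeometry
universe u
open Red

namespace Groth.Agent.S16787

/-- Let G be a smooth separated group scheme of finite presentation over a scheme S whose geometric
fibres have reductive identity components. Then G has an open and closed subgroup scheme G⁰ which is
a reductive S-group (its fibres are the identity components), and G/G⁰ is representable by a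
separated etale S-group scheme of finite presentation. -/
theorem result {S : Scheme.{u}} (G : Over S) [GrpObj G]
    (hG : Smooth G.hom) (hGs : IsSeparated G.hom) (hGq : QuasiCompact G.hom)
    (h0 : ∀ s : S, ∃ (U : Over (Spec (CommRingCat.of (AlgebraicClosure (S.residueField s))))) (_ : GrpObj U)
      (i : U ⟶ Red.geomFibre s G) (_ : IsMonHom i), IsOpenImmersion i.left ∧
        Red.IsReductiveOver (AlgebraicClosure (S.residueField s)) U) :
    ∃ (G0 : Over S) (_ : GrpObj G0) (j : G0 ⟶ G) (_ : IsMonHom j), IsOpenImmersion j.left ∧ IsClosedImmersion j.left ∧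
      Red.IsReductive G0 ∧
      ∃ (E : Over S) (_ : GrpObj E) (q : G ⟶ E) (_ : IsMonHom q), RedSub.IsQuotient j q ∧
        IsSeparated E.hom ∧ Etale E.hom ∧ QuasiCompact E.hom := by
  have := hG
  obtain ⟨G0, _, u, _, hu2, hu3, hred⟩ := K217.RedNeutral.exists_reductive_neutral G h0
  have hmono : Mono u := Over.mono_of_mono_left u
  have hcl : IsClosedImmersion u.left := (Groth.Agent.S4127.result S G0 G hred u).2 inferInstance
  have hsm : Smooth G0.hom := by
    rw [← Over.w u]
    infer_instance
  obtain ⟨E, q, hq, het, hsep⟩ := K609.OpenNorm.exists_quotient u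
  have hconn : _root_.RedSub.HasConnectedFibres G0 := fun s =>
    Groth.Agent.Sga3B.IsoFam.isConnected_fibre_of_isReductive hred s
  have hn : AlgGrp.IsNormalHom u := K609.OpenNorm.isNormalHom u hu3 hconn
  obtain ⟨hE, hqE, -⟩ := Groth.Agent.S5236.result u hn q hq
  have hsurj : Surjective q.left := hq.1
  have hqc : QuasiCompact E.hom := by
    have : QuasiCompact (q.left ≫ E.hom) := by rw [Over.w]; exact hGq
    exact Groth.Agent.S4596.result q.left E.hom
  exact ⟨G0, inferInstance, u, inferInstance, hu2, hcl, hred, E, hE, q, hqE, hq, hsep, het, hqc⟩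

end Groth.Agent.S16787
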