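import Groth.Statements.S16793
import Groth.Agent.Conn.K892.Along
import Mathlib.Tactic.Ring

set_option autoImplicit false
universe v u
open PCurv

namespace Groth.Agent.S16793

open TensorProduct in
/-- Let B be a commutative algebra over a commutative ring A whose module Ω of Kähler differentials over
A is free of rank one on a form ω, and let ∇ be a connection on the free module B^r whose connection
matrix with respect to the standard basis e₁, …, e_r and ω is T, that is ∇(e_j) = Σ_i T_{ij} e_i ⊗
ω. Then for every A-derivation θ of B, writing f_θ ∈ B for the value on ω of the B-linear functional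
Ω → B attached to θ, the covariant derivative along θ is given by ∇_θ(s) = f_θ · (T s) + θ(s) for
all s ∈ B^r, where θ(s) is θ applied to each coordinate of s. -/
theorem result {A : Type v} {B : Type u} [CommRing A] [CommRing B] [Algebra A B]
    (bΩ : Module.Basis (Fin 1) B (KaehlerDifferential A B)) {r : ℕ} (T : Matrix (Fin r) (Fin r) B)
    (nabla : (Fin r → B) →ₗ[A] (Fin r → B) ⊗[B] KaehlerDifferential A B)
    (hc : Conn.IsConn (KaehlerDifferential.D A B) nabla)
    (hT : ∀ j : Fin r, nabla (Pi.single j 1) = ∑ i : Fin r, T i j • (Pi.single i (1 : B) ⊗ₜ[B] bΩ 0))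
    (θ : Derivation A B B) (s : Fin r → B) :
    Conn.alongDer nabla θ s = θ.liftKaehlerDifferential (bΩ 0) • T.mulVec s + (fun i => θ (s i)) := by
  have hs : s = ∑ j : Fin r, s j • (Pi.single j (1 : B) : Fin r → B) := by
    funext i
    simp [Finset.sum_apply, Pi.single_apply]
  have hj : ∀ j : Fin r, Conn.alongDer nabla θ (Pi.single j (1 : B)) =
      θ.liftKaehlerDifferential (bΩ 0) • (fun i => T i j) := by
    intro j
    unfold Conn.alongDer
    rw [K892.Along.along_eq_ev, hT j, map_sum]
    funext i
    simp only [map_smul, K892.Along.ev_tmul, Finset.sum_apply, Pi.smul_apply, Pi.single_apply,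
      smul_eq_mul]
    simp [mul_comm]
  conv_lhs => rw [hs, map_sum]
  have hl : ∀ j : Fin r, Conn.alongDer nabla θ (s j • (Pi.single j (1 : B) : Fin r → B)) =
      s j • θ.liftKaehlerDifferential (bΩ 0) • (fun i => T i j) + θ (s j) • Pi.single j (1 : B) := by
    intro j
    have := K892.Along.along_smul (KaehlerDifferential.D A B) hc θ.liftKaehlerDifferential (s j)
      (Pi.single j (1 : B) : Fin r → B)
    rw [Derivation.liftKaehlerDifferential_comp_D] at this
    rw [← hj j]
    exact this
  simp only [hl]
  funext i
  simp only [Finset.sum_apply, Pi.add_apply, Pi.smul_apply, smul_eq_mul, Finset.sum_add_distrib,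
    Pi.single_apply, Matrix.mulVec, dotProduct, Finset.mul_sum]
  congr 1
  · refine Finset.sum_congr rfl (fun j _ => ?_)
    ring
  · simp

end Groth.Agent.S16793
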