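import Groth.Statements.S16807
import Groth.Agent.Gerb.K893.MonoPt
import Groth.Agent.Gerb.K893.RowsA
import Groth.Agent.S12794
import Groth.Agent.Gerb.K893.Chart

set_option autoImplicit false
universe u
open CategoryTheory AlgebraicGeometry
open Gerb

namespace Groth.Agent.S16807

/-- Let 𝒵' → 𝒵 be a monomorphism of algebraic stacks and suppose 𝒵 receives a locally finitely
presented, surjective, flat morphism from the spectrum of a field. Then either 𝒵' is empty (has no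
points) or 𝒵' → 𝒵 is an equivalence. -/
theorem result
    (S : Scheme.{u}) (𝒵' 𝒵 : AlgSt.Cat S) (h𝒵' : AlgSt.IsAlgStack Scheme.fppfPrecoverage 𝒵')
    (h𝒵 : AlgSt.IsAlgStack Scheme.fppfPrecoverage 𝒵) (f : 𝒵' ⥤ᵇ 𝒵) (hf : AlgSt.IsMono f)
    (k : Type u) [Field k] (a : Spec (CommRingCat.of k) ⟶ S)
    (z : FibCat.overCat (Over.mk a) ⥤ᵇ 𝒵)
    (hzp : AlgSt.RepByAlgSpWith (AlgSp.LocP @LocallyOfFinitePresentation) z)
    (hzs : AlgSt.RepByAlgSpWith AlgSp.IsSurjectiveMor z) (hzf : AlgSt.RepByAlgSpWith (AlgSp.LocP @Flat) z) :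
    IsEmpty (AlgSt.Points 𝒵') ∨ FibCat.IsEquivOver f := by
  by_cases hne : IsEmpty (AlgSt.Points 𝒵')
  · exact Or.inl hne
  right
  rw [not_isEmpty_iff] at hne
  obtain ⟨q⟩ := hne
  obtain ⟨q, rfl⟩ := AlgSt.Points.mk_surjective q
  have hF := h𝒵.isStack.1
  have hF' := h𝒵'.isStack.1
  have hO : FibCat.IsFibGrpd (FibCat.overCat (Over.mk a)).p := K735.Fp.isFibGrpd_overCat _
  obtain ⟨r, hr⟩ := K893.Pt.surjective_of_rep hF hzs (AlgSt.Points.mk (q.map f))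
  obtain ⟨r, rfl⟩ := AlgSt.Points.mk_surjective r
  obtain ⟨w, -, -, -⟩ := K735.Pts.exists_fp_of_rel hF' hO hF z f r q ((K735.Pts.mk_eq_mk_iff hF).1 hr)
  obtain ⟨ζ, φ, hφ⟩ := K893.Pt.exists_of_mono' hf a z w
  obtain ⟨h1, h2⟩ := K893.RowsA.ff_of_isMono hF' hF f hf
  refine (Groth.Agent.S12794.result _ h𝒵'.isStack h𝒵.isStack f).2 fun ξ => ?_
  obtain ⟨R, hR, h⟩ := K893.Chart.locSurjObj hO hF hzs hzf hzp ξ
  refine ⟨R, hR, fun V g hg => ?_⟩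
  obtain ⟨T, ψ, hψ⟩ := h g hg
  have hT : T.left = V := (z.w_obj T).symm.trans (K895.Fib.obj_eq_of_lift_left hψ)
  subst hT
  let j : T ⟶ Over.mk (𝟙 (Over.mk a)) := Over.homMk T.hom (by simp)
  have hj : 𝒵.p.IsHomLift T.hom (z.map j) :=
    K895.Fib.lift_map z (IsHomLift.map (FibCat.overCat (Over.mk a)).p j)
  have hζ : 𝒵'.p.obj ζ = Over.mk a := (f.w_obj ζ).symm.trans (K895.Fib.obj_eq_of_lift_right hφ)
  obtain ⟨ζ', χ, hχ⟩ := K895.Fib.exists_lift hF' T.hom ζ hζ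
  obtain ⟨i, -, hi, -, -⟩ := K895.Fib.exists_iso hF T.hom (f.map χ) (z.map j ≫ φ.hom)
    (K895.Fib.lift_map f hχ) (K895.Fib.lift_comp_id hj hφ)
  exact ⟨ζ', i.inv ≫ ψ, K895.Fib.lift_id_comp hi hψ⟩

end Groth.Agent.S16807
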