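import Groth.Statements.S16808
import Groth.Agent.Gerb.K893.ResField
import Groth.Agent.Gerb.K893.Uniq

set_option autoImplicit false
universe u
open CategoryTheory AlgebraicGeometry
open Gerb

namespace Groth.Agent.S16808

/-- Let the algebraic stack 𝒵 receive a surjective flat morphism from the spectrum of a field. Then
there is a unique strictly full subcategory of 𝒵 which is an algebraic stack receiving a locally
finitely presented, surjective, flat morphism from the spectrum of a field; its inclusion into 𝒵 is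
a monomorphism. -/
theorem result
    (S : Scheme.{u}) (𝒵 : AlgSt.Cat S) (h𝒵 : AlgSt.IsAlgStack Scheme.fppfPrecoverage 𝒵)
    (k : Type u) [Field k] (a : Spec (CommRingCat.of k) ⟶ S)
    (z : FibCat.overCat (Over.mk a) ⥤ᵇ 𝒵)
    (hzs : AlgSt.RepByAlgSpWith AlgSp.IsSurjectiveMor z) (hzf : AlgSt.RepByAlgSpWith (AlgSp.LocP @Flat) z) :
    ∃ Q : 𝒵.obj → Prop,
      (ObjectProperty.IsClosedUnderIsomorphisms Q ∧ AlgSt.IsAlgStack Scheme.fppfPrecoverage (AlgSt.fullSub 𝒵 Q) ∧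
        (∃ (k' : Type u) (_ : Field k') (a' : Spec (CommRingCat.of k') ⟶ S)
          (z' : FibCat.overCat (Over.mk a') ⥤ᵇ AlgSt.fullSub 𝒵 Q),
          AlgSt.RepByAlgSpWith (AlgSp.LocP @LocallyOfFinitePresentation) z' ∧
            AlgSt.RepByAlgSpWith AlgSp.IsSurjectiveMor z' ∧ AlgSt.RepByAlgSpWith (AlgSp.LocP @Flat) z') ∧
        AlgSt.IsMono (AlgSt.subIncl 𝒵 Q)) ∧
      ∀ Q' : 𝒵.obj → Prop, ObjectProperty.IsClosedUnderIsomorphisms Q' → AlgSt.IsAlgStack Scheme.fppfPrecoverage (AlgSt.fullSub 𝒵 Q') →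
        (∃ (k' : Type u) (_ : Field k') (a' : Spec (CommRingCat.of k') ⟶ S)
          (z' : FibCat.overCat (Over.mk a') ⥤ᵇ AlgSt.fullSub 𝒵 Q'),
          AlgSt.RepByAlgSpWith (AlgSp.LocP @LocallyOfFinitePresentation) z' ∧
            AlgSt.RepByAlgSpWith AlgSp.IsSurjectiveMor z' ∧ AlgSt.RepByAlgSpWith (AlgSp.LocP @Flat) z') →
        ∀ ξ : 𝒵.obj, Q' ξ ↔ Q ξ := by
  have hF := h𝒵.isStack.1
  have hd := K893.RowsA.charts_rep h𝒵
  obtain ⟨h1, h2, h3⟩ := K893.Singleton.two_imp_one hF z hzs hzf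
  obtain ⟨k', _, a', z', hz1, hz2, hz3⟩ := K893.Singleton.one_imp_three hF hd h𝒵.atlas h1 h2 h3
  have hlft : K735.Rep.RepOver (AlgSp.LocP @LocallyOfFiniteType) (FibCat.fpFst z' z') := hz1 _ z'
  have hA := K893.ResField.isAlgStack h𝒵 hlft
  refine ⟨K893.ImSub.Q z', ⟨K893.ImSub.Q_iso hF, hA, ⟨k', inferInstance, a', K893.ImSub.lift z',
    K893.ResField.lfp_lift h𝒵 hlft, K893.ImSub.surjective_lift h𝒵, K893.ResField.flat_lift h𝒵⟩,
    K893.ResField.isMono h𝒵 hlft⟩, ?_⟩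
  rintro Q' hiso' hA' ⟨k'', _, a'', z'', hp'', hs'', hf''⟩ ξ
  constructor
  · intro hξ
    exact K893.Uniq.mem_of_chart hA'.isStack.1 h𝒵 (K893.ImSub.Q_iso hF) hA z'' hp'' hs'' hf''
      (AlgSt.subIncl 𝒵 Q') ⟨AlgSt.Points.mk (K893.Pt.topPt (K893.ImSub.lift z')), Subsingleton.elim _ _⟩ ⟨ξ, hξ⟩
  · intro hξ
    exact K893.Uniq.mem_of_chart hA.isStack.1 h𝒵 hiso' hA' (K893.ImSub.lift z') (K893.ResField.lfp_lift h𝒵 hlft)
      (K893.ImSub.surjective_lift h𝒵) (K893.ResField.flat_lift h𝒵) (AlgSt.subIncl 𝒵 (K893.ImSub.Q z'))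
      ⟨AlgSt.Points.mk (K893.Pt.topPt z''), Subsingleton.elim _ _⟩ ⟨ξ, hξ⟩

end Groth.Agent.S16808
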