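import Groth.Statements.S16809
import Groth.Agent.Gerb.K893.PtInj
import Groth.Agent.Gerb.K893.RowE
import Groth.Agent.AlgSt.K737.SubDesc
import Groth.Agent.Gerb.K893.RowsA
import Groth.Agent.Gerb.K893.Singleton
import Groth.Agent.AlgSt.K737.RepW

set_option autoImplicit false
universe u
open CategoryTheory AlgebraicGeometry
open Gerb

namespace Groth.Agent.S16809

/-- (1)⇔(2)⇔(3): for a point x of an algebraic stack 𝒳 the following are equivalent: some algebraic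
stack with exactly one point maps monomorphically to 𝒳 onto x; some reduced algebraic stack with
exactly one point does; some algebraic stack 𝒵 with a monomorphism f : 𝒵 → 𝒳 receives a surjective
flat morphism z from the spectrum of a field with f(z) = x. -/
theorem result
    (S : Scheme.{u}) (𝒳 : AlgSt.Cat S) (h𝒳 : AlgSt.IsAlgStack Scheme.fppfPrecoverage 𝒳) (x : AlgSt.Points 𝒳) :
    [Gerb.ResGerbeExists Scheme.fppfPrecoverage 𝒳 x,
      ∃ (𝒵 : AlgSt.Cat S) (f : 𝒵 ⥤ᵇ 𝒳), AlgSt.IsAlgStack Scheme.fppfPrecoverage 𝒵 ∧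
        AlgSt.SmoothLocally (fun T => IsReduced T) 𝒵 ∧ AlgSt.IsMono f ∧
        Nonempty (AlgSt.Points 𝒵) ∧ Subsingleton (AlgSt.Points 𝒵) ∧ ∀ p, AlgSt.Points.map f p = x,
      ∃ (𝒵 : AlgSt.Cat S) (f : 𝒵 ⥤ᵇ 𝒳) (k : Type u) (_ : Field k) (a : Spec (CommRingCat.of k) ⟶ S)
        (z : FibCat.overCat (Over.mk a) ⥤ᵇ 𝒵), AlgSt.IsAlgStack Scheme.fppfPrecoverage 𝒵 ∧ AlgSt.IsMono f ∧
        AlgSt.RepByAlgSpWith AlgSp.IsSurjectiveMor z ∧ AlgSt.RepByAlgSpWith (AlgSp.LocP @Flat) z ∧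
        ∀ t : ↥(Over.mk a).left, AlgSt.Points.map f (AlgSt.Points.ofChart z t) = x].TFAE := by
  tfae_have 1 → 2 := by
    rintro ⟨𝒵, i, hA, hm, hne, hsub, hx⟩
    obtain ⟨Q, ⟨hiso, hA', himm⟩, hrange, hred⟩ := K737.SubDesc.exists_reduced_closed hA Set.univ isClosed_univ
    refine ⟨AlgSt.fullSub 𝒵 Q, BasedFunctor.comp (AlgSt.subIncl 𝒵 Q) i, hA', hred, ?_, ?_, ?_, fun p => ?_⟩
    · exact K893.RowE.mono_comp hA' hA h𝒳 _ i
        (K737.RepW.isMono_of_repWith (fun f hf => by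
          have : IsClosedImmersion f := hf
          infer_instance) _ himm) hm
    · obtain ⟨p⟩ := hne
      obtain ⟨q, -⟩ : p ∈ Set.range (AlgSt.Points.map (AlgSt.subIncl 𝒵 Q)) := by rw [hrange]; trivial
      exact ⟨q⟩
    · exact ⟨fun p q => K893.Pt.points_map_injective hA.isStack.1 hiso hA'.isStack.1 (Subsingleton.elim _ _)⟩
    · rw [K735.Pts.map_comp]
      exact hx _
  tfae_have 2 → 3 := by
    rintro ⟨𝒵, f, hA, hred, hm, hne, hsub, hx⟩
    obtain ⟨k, _, a, z, -, hz2, hz3⟩ := K893.Singleton.one_imp_three hA.isStack.1 (K893.RowsA.charts_rep hA)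
      hA.atlas hred hne hsub
    exact ⟨𝒵, f, k, inferInstance, a, z, hA, hm, hz2, hz3, fun t => hx _⟩
  tfae_have 3 → 1 := by
    rintro ⟨𝒵, f, k, _, a, z, hA, hm, hz2, hz3, hx⟩
    obtain ⟨-, h1, h2⟩ := K893.Singleton.two_imp_one hA.isStack.1 z hz2 hz3
    refine ⟨𝒵, f, hA, hm, h1, h2, fun p => ?_⟩
    have t : ↥(Over.mk a).left := IsLocalRing.closedPoint k
    rw [← hx t]
    congr 1
    exact Subsingleton.elim _ _
  tfae_finish

end Groth.Agent.S16809
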