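import Groth.Statements.S16810
import Groth.Agent.S16806
import Groth.Agent.S16808
import Groth.Agent.S16812
import Groth.Agent.Gerb.K893.RowE
import Groth.Agent.Gerb.K893.Uniq

set_option autoImplicit false
universe u
open CategoryTheory AlgebraicGeometry
open Gerb

namespace Groth.Agent.S16810

/-- If some reduced algebraic stack with exactly one point admits a monomorphism to the algebraic stack
𝒳 with image the point x, then there is a unique strictly full subcategory of 𝒳 which is a reduced,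
locally Noetherian algebraic stack with exactly one point mapping to x. -/
theorem result
    (S : Scheme.{u}) (𝒳 : AlgSt.Cat S) (h𝒳 : AlgSt.IsAlgStack Scheme.fppfPrecoverage 𝒳) (x : AlgSt.Points 𝒳)
    (𝒵 : AlgSt.Cat S) (h𝒵 : AlgSt.IsAlgStack Scheme.fppfPrecoverage 𝒵)
    (hred : AlgSt.SmoothLocally (fun T => IsReduced T) 𝒵)
    (hne : Nonempty (AlgSt.Points 𝒵)) (hsub : Subsingleton (AlgSt.Points 𝒵))
    (f : 𝒵 ⥤ᵇ 𝒳) (hf : AlgSt.IsMono f) (hfx : ∀ p : AlgSt.Points 𝒵, AlgSt.Points.map f p = x) :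
    ∃ Q : 𝒳.obj → Prop, Gerb.IsResGerbe Scheme.fppfPrecoverage 𝒳 x Q ∧
      ∀ Q' : 𝒳.obj → Prop, Gerb.IsResGerbe Scheme.fppfPrecoverage 𝒳 x Q' → ∀ ξ : 𝒳.obj, Q' ξ ↔ Q ξ := by
  obtain ⟨k, _, a, z, hz1, hz2, hz3⟩ := K893.Singleton.one_imp_three h𝒵.isStack.1 (K893.RowsA.charts_rep h𝒵)
    h𝒵.atlas hred hne hsub
  obtain ⟨Q₀, ⟨-, hA₀, ⟨k', _, a', z', hp', hs', hf'⟩, hm₀⟩, -⟩ := Groth.Agent.S16808.result S 𝒵 h𝒵 k a z hz2 hz3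
  obtain ⟨r1, r2, r3, r4⟩ := (Groth.Agent.S16806.result S _ hA₀).2 ⟨k', inferInstance, a', z', hp', hs', hf'⟩
  obtain ⟨Q, hQ, -⟩ := Groth.Agent.S16812.result S 𝒳 h𝒳 x (AlgSt.fullSub 𝒵 Q₀) hA₀ r1 r2 r3 r4
    (BasedFunctor.comp (AlgSt.subIncl 𝒵 Q₀) f) (K893.RowE.mono_comp hA₀ h𝒵 h𝒳 _ f hm₀ hf)
    (fun p => by rw [K735.Pts.map_comp]; exact hfx _)
  have key : ∀ Q₁ Q₂ : 𝒳.obj → Prop, Gerb.IsResGerbe Scheme.fppfPrecoverage 𝒳 x Q₁ →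
      Gerb.IsResGerbe Scheme.fppfPrecoverage 𝒳 x Q₂ → ∀ ξ : 𝒳.obj, Q₁ ξ → Q₂ ξ := by
    rintro Q₁ Q₂ ⟨i1, A1, s1, t1, u1, v1, w1⟩ ⟨i2, A2, -, -, ⟨u2⟩, -, w2⟩ ξ hξ
    obtain ⟨k₁, _, a₁, z₁, hp₁, hs₁, hf₁⟩ := (Groth.Agent.S16806.result S _ A1).1 ⟨s1, t1, u1, v1⟩
    exact K893.Uniq.mem_of_chart A1.isStack.1 h𝒳 i2 A2 z₁ hp₁ hs₁ hf₁ (AlgSt.subIncl 𝒳 Q₁)
      ⟨u2, (w2 u2).trans (w1 (AlgSt.Points.mk (K893.Pt.topPt z₁))).symm⟩ ⟨ξ, hξ⟩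
  exact ⟨Q, hQ, fun Q' hQ' ξ => ⟨key Q' Q hQ' hQ ξ, key Q Q' hQ hQ' ξ⟩⟩

end Groth.Agent.S16810
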