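import Groth.Statements.S16813
import Groth.Agent.Gerb.K893.Pt

set_option autoImplicit false
universe u
open CategoryTheory AlgebraicGeometry
open Gerb

namespace Groth.Agent.S16813

/-- If the residual gerbe 𝒵_x of the algebraic stack 𝒳 at the point x exists, then every morphism from
the spectrum of a field to 𝒳 in the class of x factors through the inclusion 𝒵_x → 𝒳. -/
theorem result
    (S : Scheme.{u}) (𝒳 : AlgSt.Cat S) (h𝒳 : AlgSt.IsAlgStack Scheme.fppfPrecoverage 𝒳) (x : AlgSt.Points 𝒳)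
    (Q : 𝒳.obj → Prop) (hQ : Gerb.IsResGerbe Scheme.fppfPrecoverage 𝒳 x Q)
    (K : Type u) [Field K] (a : Spec (CommRingCat.of K) ⟶ S)
    (p : FibCat.overCat (Over.mk a) ⥤ᵇ 𝒳)
    (hp : ∀ t : ↥(Over.mk a).left, AlgSt.Points.ofChart p t = x) :
    ∃ q : FibCat.overCat (Over.mk a) ⥤ᵇ AlgSt.fullSub 𝒳 Q,
      Nonempty (BasedFunctor.comp q (AlgSt.subIncl 𝒳 Q) ≅ p) := by
  obtain ⟨hiso, hA, -, -, ⟨z⟩, -, hz⟩ := hQ
  have h1 : AlgSt.Points.mk (K893.Pt.topPt p) ∈ Set.range (AlgSt.Points.map (AlgSt.subIncl 𝒳 Q)) := by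
    refine ⟨z, ?_⟩
    have t : ↥(Over.mk a).left := IsLocalRing.closedPoint K
    rw [hz z, ← hp t, K893.Pt.ofChart_eq_topPt]
  exact ⟨K901.SubStack.liftFun p (K893.Pt.chart_mem h𝒳 hiso hA p h1), ⟨Iso.refl _⟩⟩

end Groth.Agent.S16813
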