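import Groth.Statements.S16814
import Groth.Agent.Gerb.K893.Uniq
import Groth.Agent.S16806

set_option autoImplicit false
universe u
open CategoryTheory AlgebraicGeometry
open Gerb

namespace Groth.Agent.S16814

/-- Let f : 𝒳 → 𝒴 be a morphism of algebraic stacks and x a point of 𝒳 with image y. If the residual
gerbes 𝒵_x ⊂ 𝒳 and 𝒵_y ⊂ 𝒴 exist, then f induces a morphism 𝒵_x → 𝒵_y making the square with the
inclusions commute up to 2-isomorphism. -/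
theorem result
    (S : Scheme.{u}) (𝒳 𝒴 : AlgSt.Cat S) (h𝒳 : AlgSt.IsAlgStack Scheme.fppfPrecoverage 𝒳) (h𝒴 : AlgSt.IsAlgStack Scheme.fppfPrecoverage 𝒴)
    (f : 𝒳 ⥤ᵇ 𝒴) (x : AlgSt.Points 𝒳)
    (Q : 𝒳.obj → Prop) (hQ : Gerb.IsResGerbe Scheme.fppfPrecoverage 𝒳 x Q)
    (Q' : 𝒴.obj → Prop) (hQ' : Gerb.IsResGerbe Scheme.fppfPrecoverage 𝒴 (AlgSt.Points.map f x) Q') :
    ∃ g : AlgSt.fullSub 𝒳 Q ⥤ᵇ AlgSt.fullSub 𝒴 Q',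
      Nonempty (BasedFunctor.comp g (AlgSt.subIncl 𝒴 Q') ≅ BasedFunctor.comp (AlgSt.subIncl 𝒳 Q) f) := by
  obtain ⟨hiso, hA, h1, h2, h3, h4, hx⟩ := hQ
  obtain ⟨hiso', hA', -, -, ⟨z'⟩, -, hz'⟩ := hQ'
  obtain ⟨k, _, a, z, hzp, hzs, hzf⟩ := (Groth.Agent.S16806.result S _ hA).1 ⟨h1, h2, h3, h4⟩
  have key : ∀ ξ : (AlgSt.fullSub 𝒳 Q).obj, Q' (f.obj ξ.obj) := fun ξ =>
    K893.Uniq.mem_of_chart hA.isStack.1 h𝒴 hiso' hA' z hzp hzs hzf (BasedFunctor.comp (AlgSt.subIncl 𝒳 Q) f)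
      ⟨z', by
        rw [hz' z', ← hx (AlgSt.Points.mk (K893.Pt.topPt z)), ← K735.Pts.map_comp]
        rfl⟩ ξ
  exact ⟨K901.SubStack.liftFun (BasedFunctor.comp (AlgSt.subIncl 𝒳 Q) f) key, ⟨Iso.refl _⟩⟩

end Groth.Agent.S16814
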