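import Groth.Statements.S16815
import Groth.Agent.S16806
import Groth.Agent.S16807
import Groth.Agent.S16813
import Groth.Agent.S16814
import Groth.Agent.Gerb.K893.BijSp
import Groth.Agent.Gerb.K893.MonoFF
import Groth.Agent.Gerb.K893.RowsA
import Groth.Agent.Gerb.K893.Common
import Groth.Agent.Stk.K751.Test

set_option autoImplicit false
universe u
open CategoryTheory AlgebraicGeometry
open Gerb

namespace Groth.Agent.S16815

/-- Let f : 𝒳 → 𝒴 be a morphism of algebraic stacks, x a point of 𝒳 with image y, with residual gerbes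
𝒵_x and 𝒵_y. Suppose some morphism p from the spectrum of a field k to 𝒳, representing x, makes the
comparison map from Spec k ×_𝒳 Spec k to Spec k ×_𝒴 Spec k an isomorphism. Then the induced 𝒵_x →
𝒵_y is an isomorphism (an equivalence). -/
theorem result
    (S : Scheme.{u}) (𝒳 𝒴 : AlgSt.Cat S) (h𝒳 : AlgSt.IsAlgStack Scheme.fppfPrecoverage 𝒳) (h𝒴 : AlgSt.IsAlgStack Scheme.fppfPrecoverage 𝒴)
    (f : 𝒳 ⥤ᵇ 𝒴) (x : AlgSt.Points 𝒳)
    (Q : 𝒳.obj → Prop) (hQ : Gerb.IsResGerbe Scheme.fppfPrecoverage 𝒳 x Q)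
    (Q' : 𝒴.obj → Prop) (hQ' : Gerb.IsResGerbe Scheme.fppfPrecoverage 𝒴 (AlgSt.Points.map f x) Q')
    (k : Type u) [Field k] (a : Spec (CommRingCat.of k) ⟶ S)
    (p : FibCat.overCat (Over.mk a) ⥤ᵇ 𝒳)
    (hp : ∀ t : ↥(Over.mk a).left, AlgSt.Points.ofChart p t = x)
    (e : BasedFunctor.comp (FibCat.fpFst p p) (BasedFunctor.comp p f) ≅
      BasedFunctor.comp (FibCat.fpSnd p p) (BasedFunctor.comp p f))
    (he : ∀ c, e.hom.toNatTrans.app c = f.map c.obj.iso.hom)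
    (hiso : FibCat.IsEquivOver (FibCat.fpLift (FibCat.fpFst p p) (FibCat.fpSnd p p) e)) :
    ∃ g : AlgSt.fullSub 𝒳 Q ⥤ᵇ AlgSt.fullSub 𝒴 Q',
      Nonempty (BasedFunctor.comp g (AlgSt.subIncl 𝒴 Q') ≅ BasedFunctor.comp (AlgSt.subIncl 𝒳 Q) f) ∧
      FibCat.IsEquivOver g := by
  obtain ⟨g, ⟨i⟩⟩ := Groth.Agent.S16814.result S 𝒳 𝒴 h𝒳 h𝒴 f x Q hQ Q' hQ'
  obtain ⟨p', ⟨j⟩⟩ := Groth.Agent.S16813.result S 𝒳 h𝒳 x Q hQ k a p hp
  refine ⟨g, ⟨i⟩, ?_⟩
  obtain ⟨hiso₁, hA, h1, h2, h3, h4, hx⟩ := hQ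
  obtain ⟨hiso₂, hA', r1, r2, r3, r4, hx'⟩ := hQ'
  obtain ⟨k₀, _, a₀, z₀, hp₀, hs₀, hf₀⟩ := (Groth.Agent.S16806.result S _ hA).1 ⟨h1, h2, h3, h4⟩
  obtain ⟨k₁, _, a₁, z₁, hp₁, hs₁, hf₁⟩ := (Groth.Agent.S16806.result S _ hA').1 ⟨r1, r2, r3, r4⟩
  have hO : FibCat.IsFibGrpd (FibCat.overCat (Over.mk a₀)).p := K735.Fp.isFibGrpd_overCat _
  have b1 : K893.Bij.Bij p p f := K893.Bij.of_isEquivOver e he hiso
  have b2 : K893.Bij.Bij (BasedFunctor.comp p' (AlgSt.subIncl 𝒳 Q)) (BasedFunctor.comp p' (AlgSt.subIncl 𝒳 Q)) f :=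
    (b1.of_iso_left j.symm).of_iso_right j.symm
  have b3 : K893.Bij.Bij p' p' (BasedFunctor.comp (AlgSt.subIncl 𝒳 Q) f) :=
    K893.Bij.of_fullyFaithful inferInstance inferInstance b2
  have hpt : AlgSt.Points.mk (K893.Pt.topPt p') = AlgSt.Points.mk (K893.Pt.topPt z₀) := Subsingleton.elim _ _
  obtain ⟨K, _, c, b, b', ⟨J⟩⟩ := K893.Common.exists_common hA.isStack.1 p' z₀ hpt
  have b5 := ((b3.comp_left (AlgSt.overMap b)).comp_right (AlgSt.overMap b)).of_iso_left J |>.of_iso_right J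
  have b6 : K893.Bij.Bij z₀ z₀ (BasedFunctor.comp (AlgSt.subIncl 𝒳 Q) f) := by
    refine K893.BijSp.bij_of_both (K893.RowsA.charts_rep hA) (K893.RowsA.charts_rep h𝒴) b'
      ?_ ?_ ?_ b5
    · exact K893.Common.isAffineHom_spec (A := CommRingCat.of K) (B := CommRingCat.of k₀) b'.left
    · exact K893.FieldPt.flat_to_field (k := k₀) b'.left
    · exact K893.Common.surjective_of_field (K := K) (k := k₀) b'.left
  obtain ⟨c1, c2⟩ := K893.Bij.full_faithful (K751.Test.isPrestack_of_isStack hA.isStack)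
    (K751.Test.isPrestack_of_isStack h𝒴.isStack) (K893.Chart.locSurjObj hO hA.isStack.1 hs₀ hf₀ hp₀) b6
  have c3 := K734.Fib.full_of_iso i.symm c1
  have c4 := K734.Fib.faithful_of_iso i.symm c2
  have c5 : g.toFunctor.Faithful := by
    have : (g.toFunctor ⋙ (AlgSt.subIncl 𝒴 Q').toFunctor).Faithful := c4
    exact Functor.Faithful.of_comp g.toFunctor (AlgSt.subIncl 𝒴 Q').toFunctor
  have c6 : g.toFunctor.Full := by
    have : (g.toFunctor ⋙ (AlgSt.subIncl 𝒴 Q').toFunctor).Full := c3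
    exact Functor.Full.of_comp_faithful g.toFunctor (AlgSt.subIncl 𝒴 Q').toFunctor
  have hm := K893.MonoFF.isMono_of_ff hA hA' g c6 c5
  rcases Groth.Agent.S16807.result S _ _ hA hA' g hm k₁ a₁ z₁ hp₁ hs₁ hf₁ with h | h
  · obtain ⟨q⟩ := h3
    exact (h.false q).elim
  · exact h

end Groth.Agent.S16815
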