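import Groth.Statements.S16817
import Groth.Agent.CurvSt.K316.MbarAlg

set_option autoImplicit false
universe u
open CurvSt

namespace Groth.Agent.S16817

attribute [-instance] CategoryTheory.catToReflQuiver

open CategoryTheory AlgebraicGeometry in
/-- Let S be a scheme and g ≥ 2. The category over (Sch/S) whose objects over T are the families of
smooth curves of genus g over T (smooth proper morphisms of schemes C → T, geometrically
irreducible, every geometric fibre one-dimensional of genus g) and whose morphisms are cartesian
squares is an algebraic stack for the big etale topology: a stack in groupoids with diagonal
representable by algebraic spaces and a smooth surjective presentation by a scheme. It has an object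
over the spectrum of every algebraically closed field over S (smooth curves of every genus exist),
so the statement is not about an empty stack. The source works over the integers; the category over
a general base S is the restriction of that one to schemes over S. -/
theorem result (S : Scheme.{u}) (g : ℕ) (hg : 2 ≤ g) :
    AlgSt.IsAlgStack Scheme.etalePrecoverage (CurvSt.Mgn S g 0) ∧
      ∀ (Ω : Type u) [Field Ω] [IsAlgClosed Ω] (t : Spec (CommRingCat.of Ω) ⟶ S),
        Nonempty ((CurvSt.Mgn S g 0).p.Fiber (Over.mk t)) := by
  have h : 3 ≤ 2 * g + 0 := by omega
  exact ⟨(K316.MbarAlg.isDM_mgn S h).1, fun Ω _ _ t => K310.ExistsCurve.nonempty_Mgn_fiber t g 0⟩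

end Groth.Agent.S16817
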