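import Groth.Statements.S16818
import Groth.Agent.AlgSt.K743.Coarse818
import Groth.Agent.S16692
import Groth.Agent.S16693
import Groth.Agent.S16695
import Groth.Agent.S16706
import Groth.Agent.S16822
import Groth.Agent.S10104

set_option autoImplicit false
universe u
open AlgSt

namespace Groth.Agent.S16818

open CategoryTheory AlgebraicGeometry in
/-- Let S be an affine Noetherian scheme and 𝒳 a Deligne–Mumford stack over (Sch/S) for the etale
topology which is separated over S (diagonal over S representable by algebraic spaces and proper),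
locally of finite type over S and quasi-compact. Then there are an algebraic space M over S and a
functor π : 𝒳 → M over (Sch/S) such that: π is a coarse moduli space (every functor from 𝒳 to an
algebraic space factors uniquely through π, and π is bijective on isomorphism classes of objects
over every algebraically closed field); M is separated and of finite type over S; π is separated,
locally of finite type and a universal homeomorphism; and for every flat morphism of algebraic
spaces M' → M the first projection 𝒳 ×_M M' → M' is again a coarse moduli space. The source states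
the result over a Noetherian algebraic space as base and adds that the structure sheaf of M is the
direct image of that of 𝒳; the base is taken affine here, the case the text proves completely, and
the direct-image clause is not stated. -/
theorem result (S : Scheme.{u}) [IsAffine S]
    [IsNoetherian S] (𝒳 : AlgSt.Cat S) (h𝒳 : AlgSt.IsDM Scheme.etalePrecoverage 𝒳)
    (hsep : AlgSt.IsSeparatedOver 𝒳)
    (hft : AlgSt.LocQ (AlgSp.LocP @LocallyOfFiniteType) (FibCat.toSelf 𝒳))
    (hqc : AlgSt.IsQuasiCompact 𝒳) :
    ∃ (M : AlgSp.Sp S) (π : 𝒳 ⥤ᵇ AlgSt.ofSp M), AlgSt.IsCoarseModuli π ∧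
      AlgSp.IsSeparatedSp M ∧
      (∀ q : M ⟶ (AlgSp.yon S).obj (Over.mk (𝟙 S)), AlgSp.IsFiniteTypeMor q) ∧
      AlgSt.IsSeparatedMor π ∧ AlgSt.LocQ (AlgSp.LocP @LocallyOfFiniteType) π ∧
      AlgSt.IsUnivHomeo Scheme.etalePrecoverage π ∧
      ∀ (M' : AlgSp.Sp S), AlgSp.IsAlgSpace M' → ∀ g : M' ⟶ M, AlgSp.LocP @Flat g →
        AlgSt.IsCoarseModuli (FibCat.fpFst (AlgSt.ofSpMap g) π) := by
  exact K743.KM818.main 𝒳 (fun F U p hp => Groth.Agent.S10104.result S F U p hp)
    (fun h => (Groth.Agent.S16822.result 𝒳 h.1).1 h) (fun h1 h2 => Groth.Agent.S16692.result S 𝒳 h1 h2)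
    (fun h1 Y h2 h3 p h4 M π h5 g h6 => Groth.Agent.S16693.result S 𝒳
      ((K747.EtFppf.isAlgStack_iff (fun F U p hp => Groth.Agent.S10104.result S F U p hp)).1 h𝒳.1) h1 Y h2 h3 p h4 M π h5 g h6)
    (fun h1 M π h2 h3 => Groth.Agent.S16695.result S 𝒳
      ((K747.EtFppf.isAlgStack_iff (fun F U p hp => Groth.Agent.S10104.result S F U p hp)).1 h𝒳.1) h1 M π h2 h3)
    (fun h1 M π h2 => Groth.Agent.S16706.result S 𝒳
      ((K747.EtFppf.isAlgStack_iff (fun F U p hp => Groth.Agent.S10104.result S F U p hp)).1 h𝒳.1) h1 M π h2)
    h𝒳 hsep hft hqc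

end Groth.Agent.S16818
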