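import Groth.Statements.S16820
import Groth.Agent.CurvSt.K316.MgnFinal

set_option autoImplicit false
universe u
open CurvSt

namespace Groth.Agent.S16820

attribute [-instance] CategoryTheory.catToReflQuiver

open CategoryTheory AlgebraicGeometry in
/-- Let S be a scheme and g ≥ 2, and let 𝒳 be the category over (Sch/S) of families of smooth curves of
genus g (smooth proper geometrically irreducible morphisms of schemes C → T whose geometric fibres
are one-dimensional of genus g; morphisms are cartesian squares). If 𝒳 is an algebraic stack for the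
etale topology, then 𝒳 has an etale surjective presentation by a scheme (so 𝒳 is a Deligne–Mumford
stack), the diagonal 𝒳 → 𝒳 ×_{(Sch/S)} 𝒳 is affine, 𝒳 is locally of finite type over S and
quasi-compact over S, and 𝒳 has an object over the spectrum of every algebraically closed field over
S. The source works over the integers; the category over S is the restriction of that one. -/
theorem result (S : Scheme.{u}) (g : ℕ) (hg : 2 ≤ g)
    (h : AlgSt.IsAlgStack Scheme.etalePrecoverage (CurvSt.Mgn S g 0)) :
    AlgSt.HasAtlas AlgSp.IsEtaleMor (CurvSt.Mgn S g 0) ∧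
      AlgSt.RepByAlgSpWith AlgSp.IsAffineMor (FibCat.diag (FibCat.toSelf (CurvSt.Mgn S g 0))) ∧
      AlgSt.LocQ (AlgSp.LocP @LocallyOfFiniteType) (FibCat.toSelf (CurvSt.Mgn S g 0)) ∧
      AlgSt.IsQuasiCompactMor Scheme.etalePrecoverage (FibCat.toSelf (CurvSt.Mgn S g 0)) ∧
      ∀ (Ω : Type u) [Field Ω] [IsAlgClosed Ω] (t : Spec (CommRingCat.of Ω) ⟶ S),
        Nonempty ((CurvSt.Mgn S g 0).p.Fiber (Over.mk t)) := by
  exact K316.MgnFinal.main S g hg

end Groth.Agent.S16820
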