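import Groth.Statements.S16821
import Groth.Agent.CurvSt.K679.MgnSmooth

set_option autoImplicit false
universe u
open CurvSt

namespace Groth.Agent.S16821

attribute [-instance] CategoryTheory.catToReflQuiver

open CategoryTheory AlgebraicGeometry in
/-- Let S be a scheme and g ≥ 2. The category over (Sch/S) of families of smooth curves of genus g
(smooth proper geometrically irreducible morphisms of schemes C → T with one-dimensional geometric
fibres of genus g; cartesian squares as morphisms) is smooth over S: there are schemes U, V over S,
a functor (Sch/U) → 𝒳 over (Sch/S) that is representable by algebraic spaces, smooth and surjective,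
a smooth (Sch/V) → (Sch/S) and a smooth morphism U → V making the square commute up to isomorphism.
It has an object over every algebraically closed field over S. The source also computes the relative
dimension 3g − 3, which is not stated here, and works over the integers. -/
theorem result (S : Scheme.{u}) (g : ℕ) (hg : 2 ≤ g) :
    AlgSt.LocQ (AlgSp.LocP @Smooth) (FibCat.toSelf (CurvSt.Mgn S g 0)) ∧
      ∀ (Ω : Type u) [Field Ω] [IsAlgClosed Ω] (t : Spec (CommRingCat.of Ω) ⟶ S),
        Nonempty ((CurvSt.Mgn S g 0).p.Fiber (Over.mk t)) := by
  exact ⟨K679.MgnSmooth.locQ_smooth_mgn S (by omega), fun Ω _ _ t => K310.ExistsCurve.nonempty_Mgn_fiber t g 0⟩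

end Groth.Agent.S16821
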