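import Groth.Statements.S16824
import Groth.Agent.AlgSt.K736.Zmt.Main
-- import your own Groth.Agent.* helpers here

set_option autoImplicit false
universe u
open AlgSt

namespace Groth.Agent.S16824

open CategoryTheory AlgebraicGeometry in
/-- Let S be a quasi-separated scheme and f : 𝒳 → 𝒴 a functor over (Sch/S) between Deligne–Mumford
stacks for the etale topology which are Noetherian (every smooth scheme chart locally Noetherian,
quasi-compact, and quasi-separated over S). Assume f is representable by algebraic spaces,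
separated, quasi-finite (locally quasi-finite, locally of finite type and quasi-compact). Then there
are a category 𝒴' over (Sch/S), an open immersion j : 𝒳 → 𝒴' and a functor g : 𝒴' → 𝒴 representable
by algebraic spaces and finite, with j followed by g isomorphic to f over (Sch/S). The source
asserts moreover that j has dense image; that is not stated here. -/
theorem result (S : Scheme.{u})
    [QuasiSeparatedSpace ↥S] (𝒳 𝒴 : AlgSt.Cat S)
    (h𝒳 : AlgSt.IsDM Scheme.etalePrecoverage 𝒳) (h𝒴 : AlgSt.IsDM Scheme.etalePrecoverage 𝒴)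
    (hn𝒳 : AlgSt.SmoothLocally (fun T => IsLocallyNoetherian T) 𝒳 ∧ AlgSt.IsQuasiCompact 𝒳 ∧
      AlgSt.IsQuasiSeparatedOver 𝒳)
    (hn𝒴 : AlgSt.SmoothLocally (fun T => IsLocallyNoetherian T) 𝒴 ∧ AlgSt.IsQuasiCompact 𝒴 ∧
      AlgSt.IsQuasiSeparatedOver 𝒴)
    (f : 𝒳 ⥤ᵇ 𝒴) (hrep : AlgSt.RepByAlgSp1 f) (hsep : AlgSt.RepByAlgSpWith AlgSp.IsSeparatedMor f)
    (hqf : AlgSt.RepByAlgSpWith (AlgSp.LocP (@LocallyQuasiFinite ⊓ @LocallyOfFiniteType)) f)
    (hqc : AlgSt.RepByAlgSpWith AlgSp.IsQuasiCompactMor f) :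
    ∃ (𝒴' : AlgSt.Cat S) (j : 𝒳 ⥤ᵇ 𝒴') (g : 𝒴' ⥤ᵇ 𝒴),
      Nonempty (BasedFunctor.comp j g ≅ f) ∧ AlgSt.IsOpenImm j ∧
        AlgSt.RepByAlgSpWith AlgSp.IsFiniteMor g := by
  exact K736.Zmt.main16824 S 𝒳 𝒴 h𝒳 h𝒴 hn𝒴 f hsep hqf hqc

end Groth.Agent.S16824
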