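import Groth.Statements.S16828
import Groth.Agent.S10260
import Groth.Agent.AlgSp.K596.QC
import Groth.Agent.AlgSp.K595.DiagBasic
import Groth.Agent.AlgSp.K597.LocP
import Groth.Agent.AlgSp.K597.EtLoc
import Groth.Agent.AlgSt.K746.AffFin
import Groth.Agent.AlgSt.K747.DMDiag

set_option autoImplicit false
universe u
open AlgSt

namespace Groth.Agent.S16828

open CategoryTheory AlgebraicGeometry in
/-- Let 𝒳 be a Deligne–Mumford stack over (Sch/S) for the etale topology whose diagonal 𝒳 → 𝒳
×_{(Sch/S)} 𝒳 is separated and quasi-compact (representable by algebraic spaces with these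
properties). Then the diagonal is quasi-affine: representable by algebraic spaces with every base
change to a scheme a quasi-affine morphism. The source states this for the absolute diagonal; the
diagonal over S is used here. -/
theorem result {S : Scheme.{u}} (𝒳 : AlgSt.Cat S)
    (h𝒳 : AlgSt.IsDM Scheme.etalePrecoverage 𝒳)
    (hsep : AlgSt.RepByAlgSpWith AlgSp.IsSeparatedMor (FibCat.diag (FibCat.toSelf 𝒳)))
    (hqc : AlgSt.RepByAlgSpWith AlgSp.IsQuasiCompactMor (FibCat.diag (FibCat.toSelf 𝒳))) :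
    AlgSt.RepByAlgSpWith AlgSp.IsQuasiAffineMor (FibCat.diag (FibCat.toSelf 𝒳)) := by
  have hl : AlgSt.RepByAlgSpWith (AlgSp.LocP (@LocallyQuasiFinite ⊓ @LocallyOfFiniteType))
      (FibCat.diag (FibCat.toSelf 𝒳)) :=
    K740.SpIso.repByAlgSpWith_imp (K747.DM.isDMOver_of_isDM h𝒳) fun F U q hq =>
      K597.locP_mono (fun A B f hf => ⟨by
        have := hf.1
        have := hf.2
        exact K597.locallyQuasiFinite_of_unramified f, hf.1⟩) hq
  have h1 := K740.SpIso.repByAlgSpWith_inf hl (K740.SpIso.repByAlgSpWith_inf hsep hqc)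
  refine K740.SpIso.repByAlgSpWith_imp h1 fun F U q hq Z hZ g => ?_
  obtain ⟨hq1, hq2, hq3⟩ := hq
  have hrep : AlgSp.Representable q :=
    K613.representable_of_lqf F.property (AlgSp.IsAlgSpace.yon_obj U) q hq1 hq2
  have hl' : AlgSp.RepWith (@LocallyQuasiFinite ⊓ @LocallyOfFiniteType) q := by
    have := K597.stableBC_inf @LocallyQuasiFinite.{u} @LocallyOfFiniteType.{u}
    exact (K597.locP_iff_repWith K597.etLoc_lqf (AlgSp.IsAlgSpace.yon_obj U).hasAtlas hrep).1 hq1
  have hs' := (K595.DiagBasic.isSeparatedMor_iff_repWith hrep).1 hq2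
  have hc' := (K596.QC.repWith_quasiCompact_iff hrep).2 hq3
  obtain ⟨W, i, fst, sq⟩ := hrep g
  have i1 : LocallyQuasiFinite i.left ∧ LocallyOfFiniteType i.left := hl'.2 _ _ _ sq
  obtain ⟨i1, i2⟩ := i1
  have i3 : IsSeparated i.left := hs'.2 _ _ _ sq
  have i4 : QuasiCompact i.left := hc'.2 _ _ _ sq
  have i5 : CompactSpace W.left := (HasAffineProperty.iff_of_isAffine (P := @QuasiCompact) (f := i.left)).1 i4
  exact ⟨W, i, fst, sq, K746.AffFin.isQuasiAffine i.left⟩

end Groth.Agent.S16828
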