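import Groth.Statements.S16831
import Groth.Agent.InvTh.K672.EtaleSpread

set_option autoImplicit false
universe u
open InvTh

namespace Groth.Agent.S16831

/-- Let R be a Noetherian commutative ring, A and B commutative R-algebras of finite type on which a
finite group G acts by R-algebra automorphisms, and B → A a G-equivariant homomorphism of
R-algebras. Let x be a maximal ideal of A such that A is etale over B at x (the localization of A at
x is formally etale over B) and such that the inertia subgroup of x in G (elements acting trivially
on A/x) equals the inertia subgroup of the contraction of x to B. Give the invariant subalgebra A^G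
the algebra structure over B^G induced by B → A (the structure compatible with B^G → B → A through
A^G → A). Then A^G is etale over B^G at the contraction of x to A^G. The source also identifies the
quotient stack of Spec A over a neighbourhood of the image point with a base change of that of Spec
B; that clause is not stated. -/
theorem result (R : Type u) [CommRing R]
    [IsNoetherianRing R] (A B : Type u) [CommRing A] [CommRing B] [Algebra R A] [Algebra R B]
    [Algebra.FiniteType R A] [Algebra.FiniteType R B]
    (G : Type u) [Group G] [Finite G] [MulSemiringAction G A] [MulSemiringAction G B]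
    [SMulCommClass G R A] [SMulCommClass G R B]
    [Algebra B A] [IsScalarTower R B A]
    (hGeq : ∀ (g : G) (b : B), algebraMap B A (g • b) = g • algebraMap B A b)
    [Algebra (FixedPoints.subalgebra R B G) (FixedPoints.subalgebra R A G)]
    [IsScalarTower (FixedPoints.subalgebra R B G) (FixedPoints.subalgebra R A G) A]
    (x : Ideal A) [x.IsMaximal] (hx : Algebra.IsEtaleAt B x)
    (hin : x.inertia G = (x.comap (algebraMap B A)).inertia G) :
    Algebra.IsEtaleAt (FixedPoints.subalgebra R B G)
      (x.comap (algebraMap (FixedPoints.subalgebra R A G) A)) := by
  have hB : IsNoetherianRing B := Algebra.FiniteType.isNoetherianRing R B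
  have hft : Algebra.FiniteType B A := Algebra.FiniteType.of_restrictScalars_finiteType R B A
  have hfp : Algebra.FinitePresentation B A :=
    Algebra.FinitePresentation.of_finiteType.1 hft
  obtain ⟨h, hinv, hhx, hU, hstab⟩ := K672.EtaleSpread.exists_invariant_stab hGeq x hx hin
  have het : Algebra.Etale (FixedPoints.subalgebra R B G)
      (Localization.Away (⟨h, hinv⟩ : FixedPoints.subalgebra R A G)) := by
    refine K672.EtaleInert.etale_away (G := G) (B := B) (A := A)
      Subtype.val_injective Subtype.val_injective
      (fun b => ⟨fun hb => ⟨⟨b, hb⟩, rfl⟩, ?_⟩) (fun a => ⟨fun ha => ⟨⟨a, ha⟩, rfl⟩, ?_⟩)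
      (fun c => ?_) hGeq _ (Algebra.basicOpen_subset_etaleLocus_iff_etale.1 hU)
      (fun P hP g hhP => hstab P g hhP)
    · rintro ⟨c, rfl⟩
      exact c.2
    · rintro ⟨c, rfl⟩
      exact c.2
    · exact (IsScalarTower.algebraMap_apply (FixedPoints.subalgebra R B G)
        (FixedPoints.subalgebra R A G) A c).symm
  have hsub := Algebra.basicOpen_subset_etaleLocus_iff.2 het.formallyEtale
  exact @hsub ⟨x.comap (algebraMap (FixedPoints.subalgebra R A G) A),
    Ideal.comap_isPrime _ _⟩ hhx

end Groth.Agent.S16831
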