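import Groth.Statements.S16832
import Groth.Agent.S12761
import Groth.Agent.S10104
import Groth.Agent.AlgSt.K747.AutO
import Groth.Agent.AlgSt.K747.Inert
import Groth.Agent.AlgSt.K747.EtFppf2
import Groth.Agent.AlgSt.K738.LftDiag

set_option autoImplicit false
universe u
open AlgSt

namespace Groth.Agent.S16832

open CategoryTheory AlgebraicGeometry in
/-- Let 𝒳 be an algebraic stack over (Sch/S) for the etale topology. Then 𝒳 is an algebraic space
(equivalent over (Sch/S) to the category of sections of an algebraic space) if and only if every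
point of 𝒳 has trivial stabilizer: for every field k, every morphism Spec k → S and every functor x
: (Sch/Spec k) → 𝒳 over (Sch/S), the group of automorphisms over the identity of the object x(T) is
trivial for every scheme T over Spec k (the stabilizer of x, a group algebraic space over k, has
only the identity section over every T). -/
theorem result {S : Scheme.{u}} (𝒳 : AlgSt.Cat S)
    (h𝒳 : AlgSt.IsAlgStack Scheme.etalePrecoverage 𝒳) :
    AlgSt.RepByAlgSp 𝒳 ↔
      ∀ (k : Type u) [Field k] (sk : Spec (CommRingCat.of k) ⟶ S)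
        (x : FibCat.overCat (Over.mk sk) ⥤ᵇ 𝒳) (T : Over (Over.mk sk)),
        Subsingleton (Gerb.AutO (x.obj T)) := by
  have hg : FibCat.IsFibGrpd 𝒳.p := h𝒳.isStack.1
  constructor
  · rintro ⟨F, e, he⟩ k _ sk x T
    rw [K747.AutO.subsingleton_iff hg]
    intro φ hφ
    obtain ⟨e', he', -⟩ := K734.Fib.exists_inverse he
    have := K734.Fib.faithful_of he'
    refine e'.toFunctor.map_injective ?_
    rw [e'.toFunctor.map_id]
    exact Stk.EltObj.hom_ext (hφ.map e').map_eq
  · intro h
    have h1 : K747.Sc.NoAutField 𝒳 := fun k _ sk x T φ hφ =>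
      (K747.AutO.subsingleton_iff hg _).1 (h k sk x T) φ hφ
    have h2 := (K747.EtFppf.isAlgStack_iff (fun F U p hp => Groth.Agent.S10104.result S F U p hp)).1 h𝒳
    exact (Groth.Agent.S12761.result h2).1
      (K747.Sc.isFibSetoid_of_points hg (K738.Lft.repByAlgSpWith_lft_diag_toSelf h𝒳) h1)

end Groth.Agent.S16832
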