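import Groth.Statements.S16835
import Groth.Agent.InvTh.K672.EtaleInert

set_option autoImplicit false
universe u
open InvTh

namespace Groth.Agent.S16835

/-- étale at all maximal ideals -/
theorem etale_of_forall_maximal {B A : Type*} [CommRing A] [CommRing B] [Algebra B A]
    [Algebra.FinitePresentation B A]
    (h : ∀ (x : Ideal A) (_ : x.IsMaximal), Algebra.IsEtaleAt B x) : Algebra.Etale B A := by
  rw [← Algebra.etaleLocus_eq_univ_iff_etale, Set.eq_univ_iff_forall]
  intro P
  obtain ⟨M, hM, hPM⟩ := Ideal.exists_le_maximal P.asIdeal P.2.ne_top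
  have h1 : (⟨M, hM.isPrime⟩ : PrimeSpectrum A) ∈ Algebra.etaleLocus B A := h M hM
  have h2 : P ⤳ (⟨M, hM.isPrime⟩ : PrimeSpectrum A) :=
    (PrimeSpectrum.le_iff_specializes _ _).1 hPM
  exact h2.mem_open Algebra.isOpen_etaleLocus h1

/-- Let R be a Noetherian commutative ring, A and B commutative R-algebras of finite type on which a
finite group G acts by R-algebra automorphisms, and B → A a G-equivariant homomorphism of
R-algebras. Assume that at every maximal ideal x of A, A is etale over B at x and the inertia
subgroup of x in G equals the inertia subgroup of its contraction to B. Give A^G the B^G-algebra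
structure induced by B → A (compatible with B^G → B → A through A^G → A). Then A^G is etale over
B^G. The source also asserts that the square formed by the quotient stacks and the invariant
quotients is cartesian; that clause is not stated. -/
theorem result (R : Type u)
    [CommRing R] [IsNoetherianRing R] (A B : Type u) [CommRing A] [CommRing B] [Algebra R A] [Algebra R B]
    [Algebra.FiniteType R A] [Algebra.FiniteType R B]
    (G : Type u) [Group G] [Finite G] [MulSemiringAction G A] [MulSemiringAction G B]
    [SMulCommClass G R A] [SMulCommClass G R B]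
    [Algebra B A] [IsScalarTower R B A]
    (hGeq : ∀ (g : G) (b : B), algebraMap B A (g • b) = g • algebraMap B A b)
    [Algebra (FixedPoints.subalgebra R B G) (FixedPoints.subalgebra R A G)]
    [IsScalarTower (FixedPoints.subalgebra R B G) (FixedPoints.subalgebra R A G) A]
    (h : ∀ (x : Ideal A) (_ : x.IsMaximal),
      Algebra.IsEtaleAt B x ∧ x.inertia G = (x.comap (algebraMap B A)).inertia G) :
    Algebra.Etale (FixedPoints.subalgebra R B G) (FixedPoints.subalgebra R A G) := by
  have hB : IsNoetherianRing B := Algebra.FiniteType.isNoetherianRing R B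
  have hft : Algebra.FiniteType B A := Algebra.FiniteType.of_restrictScalars_finiteType R B A
  have hfp : Algebra.FinitePresentation B A :=
    Algebra.FinitePresentation.of_finiteType.1 hft
  have het : Algebra.Etale B A := etale_of_forall_maximal fun x hx => (h x hx).1
  refine K672.EtaleInert.etale_of_invariants (G := G) (B := B) (A := A)
    Subtype.val_injective Subtype.val_injective
    (fun b => ⟨fun hb => ⟨⟨b, hb⟩, rfl⟩, ?_⟩) (fun a => ⟨fun ha => ⟨⟨a, ha⟩, rfl⟩, ?_⟩)
    (fun c => ?_) hGeq ?_
  · rintro ⟨c, rfl⟩
    exact c.2
  · rintro ⟨c, rfl⟩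
    exact c.2
  · exact (IsScalarTower.algebraMap_apply (FixedPoints.subalgebra R B G)
      (FixedPoints.subalgebra R A G) A c).symm
  · intro P hP g hg a
    obtain ⟨e, he1, he2⟩ := K672.EtaleInert.exists_elem_end (B := B) (A := A)
      (MulSemiringAction.toRingHom G A g)
    simp only [MulSemiringAction.toRingHom_apply] at he1 he2
    have hI : Ideal.span (Set.range fun b : B => g • algebraMap B A b - algebraMap B A b) ≤ P := by
      rw [Ideal.span_le]
      rintro _ ⟨b, rfl⟩
      exact hg b
    obtain ⟨M, hM, hPM⟩ := Ideal.exists_le_maximal P hP.ne_top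
    have h1 : g ∈ (M.comap (algebraMap B A)).inertia G := by
      intro b
      change algebraMap B A (g • b - b) ∈ M
      rw [map_sub, hGeq]
      exact hPM (hg b)
    rw [← (h M hM).2] at h1
    have h2 : 1 - e ∈ M := by
      refine (Ideal.span_le.2 ?_ : Ideal.span (Set.range fun a : A => g • a - a) ≤ M) he2
      rintro _ ⟨b, rfl⟩
      exact h1 b
    have h3 : e ∉ P := by
      intro he
      apply hM.ne_top
      rw [Ideal.eq_top_iff_one]
      have := M.add_mem h2 (hPM he)
      simpa using this
    exact (hP.mem_or_mem (hI (he1 a))).resolve_right h3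

end Groth.Agent.S16835
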