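import Groth.Statements.S16842
import Groth.Agent.AbVar.K522.PtCount
import Groth.Agent.AbVar.K522.IsogCrit
import Groth.Agent.S14935

set_option autoImplicit false
universe u
open CategoryTheory MonoidalCategory CartesianMonoidalCategory MonObj GrpObj AlgebraicGeometry
open AbVar

attribute [-instance] Module.Flat.isTorsionFree IsDomain.of_isSimpleRing CategoryTheory.catToReflQuiver
namespace Groth.Agent.S16842

/-- (a) ⇔ (e2): fix a finite field k and abelian varieties X and Y over it (proper, geometrically
integral commutative group schemes over k). Then X and Y are isogenous over k — there exist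
homomorphisms u : X → Y and v : Y → X and an integer n > 0 with v ∘ u = [n]_X and u ∘ v = [n]_Y — if
and only if X and Y have the same number of k'-valued points for every finite extension field k' of
k (equivalently, the same zeta function). -/
theorem result (k : Type u) [Field k] [Finite k]
    (X : Over (Spec (CommRingCat.of k)))
    [GrpObj X] [IsCommMonObj X] [IsProper X.hom] [GeometricallyIntegral X.hom]
    (Y : Over (Spec (CommRingCat.of k)))
    [GrpObj Y] [IsCommMonObj Y] [IsProper Y.hom] [GeometricallyIntegral Y.hom] :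
    (∃ (u : X ⟶ Y) (_ : IsMonHom u) (v : Y ⟶ X) (_ : IsMonHom v) (n : ℕ), 0 < n ∧
        u ≫ v = (𝟙 X) ^ n ∧ v ≫ u = (𝟙 Y) ^ n) ↔
      ∀ (k' : Type u) [Field k'] [Algebra k k'] [Finite k'],
        Nat.card (Over.mk (Spec.map (CommRingCat.ofHom (algebraMap k k'))) ⟶ X) = Nat.card (Over.mk (Spec.map (CommRingCat.ofHom (algebraMap k k'))) ⟶ Y) := by
  obtain ⟨l, hlp, hl⟩ := K510.TateHom.exists_prime k
  haveI : Fact l.Prime := ⟨hlp⟩
  let Ω := AlgebraicClosure k
  haveI : IsAlgClosed Ω := IsAlgClosure.isAlgClosed k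
  haveI := K522.FFThm.finite_tate (l := l) Ω hl X
  haveI := K522.FFThm.free_tate (l := l) Ω hl X
  haveI := K522.FFThm.finite_tate (l := l) Ω hl Y
  haveI := K522.FFThm.free_tate (l := l) Ω hl Y
  have hX := K520.Frob.isFrob_fr k X
  have hY := K520.Frob.isFrob_fr k Y
  rw [← K522.PtCount.charpoly_eq_iff Ω (l := l) hl (K520.Frob.fr k X) hX (K520.Frob.fr k Y) hY]
  constructor
  · rintro ⟨u, _, v, _, n, hn, h1, h2⟩
    exact K522.IsogCrit.charpoly_eq_of_isogeny (Ω := Ω) _ hX _ hY u v n hn h1 h2
  · intro h
    exact K522.IsogCrit.exists_isogeny_of_charpoly_eq (Ω := Ω) hl _ hX _ hY (fun u hu =>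
      Groth.Agent.S14935.result k Ω l hl X Y _ K522.HomRank.isGal_rho _ K522.HomRank.isGal_rho u hu) h

end Groth.Agent.S16842
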