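import Groth.Statements.S16854
import Groth.Agent.Sga67.QLinear
import Groth.Agent.Ega1.LimitSystem
import Mathlib.RingTheory.WittVector.Complete
import Mathlib.RingTheory.WittVector.DiscreteValuationRing
import Mathlib.FieldTheory.Perfect
import Mathlib.RingTheory.AdicCompletion.Functoriality
import Mathlib.LinearAlgebra.Dimension.OrzechProperty
import Mathlib.RingTheory.Nakayama

set_option autoImplicit false
universe u v
open CAlg

namespace Groth.Agent.S16854

theorem coeff_zero_iterate (k : Type u) [Field k] (p : ℕ) [Fact p.Prime] [CharP k p] (ν : ℕ)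
    (a : WittVector p k) :
    ((⇑(WittVector.frobenius : WittVector p k →+* WittVector p k))^[ν] a).coeff 0 =
      (a.coeff 0) ^ (p ^ ν) := by
  induction ν with
  | zero => simp
  | succ ν ih =>
    rw [Function.iterate_succ_apply', WittVector.coeff_frobenius_charP, ih, ← pow_mul, pow_succ]

theorem natCast_smul_map (k : Type u) [Field k] 
    (p : ℕ) [Fact p.Prime]
    (M : Type v) [AddCommGroup M] [Module (WittVector p k) M] (F : M →+ M) (m : M) :
    F ((p : WittVector p k) • m) = (p : WittVector p k) • F m := by
  rw [Nat.cast_smul_eq_nsmul, Nat.cast_smul_eq_nsmul, map_nsmul]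

/-- Let k be an algebraically closed field of characteristic p > 0, ν ≥ 1, W = W(k) the ring of
p-typical Witt vectors with its Frobenius endomorphism σ, M a finitely generated free W-module and F
: M → M a bijective additive map that is σ^ν-semilinear, F(a·m) = σ^ν(a)·F(m). Then M admits a
W-basis consisting of F-fixed elements; in particular M is spanned over W by M₀ = {m | F(m) = m}, a
module over the Witt vectors of F_{p^ν}. (The copy allows ν < 0 as well, reducing to F⁻¹; stated
here for ν ≥ 1.) -/
theorem result (k : Type u) [Field k] [IsAlgClosed k]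
    (p : ℕ) [Fact p.Prime] [CharP k p] (ν : ℕ) (hν : 1 ≤ ν)
    (M : Type v) [AddCommGroup M] [Module (WittVector p k) M]
    [Module.Finite (WittVector p k) M] [Module.Free (WittVector p k) M]
    (F : M →+ M)
    (hF : ∀ (a : WittVector p k) (m : M), F (a • m) = ((⇑(WittVector.frobenius : WittVector p k →+* WittVector p k))^[ν] a) • F m)
    (hbij : Function.Bijective F) :
    ∃ (ι : Type v) (b : Module.Basis ι (WittVector p k) M), ∀ i, F (b i) = b i := by
  classical
  have hp : 1 < p := (Fact.out : p.Prime).one_lt
  have hq : 1 < p ^ ν := Nat.one_lt_pow (by omega) hp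
  have hqk : ((p ^ ν : ℕ) : k) = 0 := by
    rw [Nat.cast_pow, CharP.cast_eq_zero, zero_pow (by omega)]
  have hnoeth : IsNoetherianRing (WittVector p k) := inferInstance
  have hac : IsAdicComplete (Ideal.span {(p : WittVector p k)}) M :=
    Groth.Agent.Ega1.LimitSystem.isAdicComplete_of_finite
  -- reduction modulo `p`
  let d := Module.finrank (WittVector p k) M
  let c : Module.Basis (Fin d) (WittVector p k) M := Module.finBasis _ _
  let π : M →+ (Fin d → k) :=
    { toFun := fun m i => WittVector.constantCoeff (c.repr m i)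
      map_zero' := by ext i; simp
      map_add' := fun x y => by
        ext i
        rw [map_add, Finsupp.add_apply, map_add]
        rfl }
  have hπ_apply : ∀ m i, π m i = WittVector.constantCoeff (c.repr m i) := fun _ _ => rfl
  have hπsmul : ∀ (a : WittVector p k) m, π (a • m) = WittVector.constantCoeff a • π m := by
    intro a m
    ext i
    rw [hπ_apply, map_smul, Finsupp.smul_apply, smul_eq_mul, map_mul]
    rfl
  have hπker : ∀ m, π m = 0 → ∃ n : M, m = (p : WittVector p k) • n := by
    intro m hm
    have h1 : ∀ i, ∃ y : WittVector p k, c.repr m i = p * y := by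
      intro i
      have h2 : c.repr m i ∈ Ideal.span {(p : WittVector p k)} := by
        rw [WittVector.mem_span_p_iff_coeff_zero_eq_zero]
        exact congrFun hm i
      obtain ⟨y, hy⟩ := Ideal.mem_span_singleton'.mp h2
      exact ⟨y, by rw [← hy, mul_comm]⟩
    choose y hy using h1
    refine ⟨∑ i, y i • c i, ?_⟩
    rw [Finset.smul_sum]
    conv_lhs => rw [← c.sum_repr m]
    refine Finset.sum_congr rfl fun i _ => ?_
    rw [hy, smul_smul]
  have hπp : ∀ n : M, π ((p : WittVector p k) • n) = 0 := by
    intro n
    rw [hπsmul, map_natCast, CharP.cast_eq_zero, zero_smul]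
  have hπsurj : Function.Surjective π := by
    intro v
    refine ⟨∑ i, WittVector.teichmuller p (v i) • c i, ?_⟩
    rw [map_sum]
    ext j
    rw [Finset.sum_apply]
    simp only [hπ_apply, map_smul, Finsupp.smul_apply, Module.Basis.repr_self]
    rw [Finset.sum_eq_single j]
    · simp
    · intro b _ hb
      rw [Finsupp.single_eq_of_ne hb.symm, smul_zero, map_zero]
    · simp
  have hkerle : π.ker ≤ (π.comp F).ker := by
    intro m hm
    obtain ⟨n, rfl⟩ := hπker m hm
    rw [AddMonoidHom.mem_ker, AddMonoidHom.comp_apply, natCast_smul_map, hπp]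
  let φ : (Fin d → k) →+ (Fin d → k) := π.liftOfSurjective hπsurj ⟨π.comp F, hkerle⟩
  have hφπ : ∀ m, φ (π m) = π (F m) := fun m =>
    AddMonoidHom.liftOfRightInverse_comp_apply π _ _ ⟨π.comp F, hkerle⟩ m
  have hφ : ∀ (a : k) (v : Fin d → k), φ (a • v) = a ^ (p ^ ν) • φ v := by
    intro a v
    obtain ⟨m, rfl⟩ := hπsurj v
    have h1 : a = WittVector.constantCoeff (WittVector.teichmuller p a) := by simp
    have h2 : π (WittVector.teichmuller p a • m) = a • π m := by rw [hπsmul, ← h1]
    rw [← h2, hφπ, hφπ, hF, hπsmul]
    congr 1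
    change (_ : WittVector p k).coeff 0 = _
    rw [coeff_zero_iterate]
    simp
  have hφspan : Submodule.span k (Set.range φ) = ⊤ := by
    have h1 : Function.Surjective φ := by
      intro v
      obtain ⟨m, rfl⟩ := hπsurj v
      obtain ⟨n, rfl⟩ := hbij.2 m
      exact ⟨π n, hφπ n⟩
    rw [h1.range_eq, Submodule.span_univ]
  -- `1 - F` is surjective
  have hsub : Function.Surjective (fun m : M => m - F m) := by
    let D : M →ₗ[ℤ] M := (AddMonoidHom.id M - F).toIntLinearMap
    have hmap : (Ideal.span {(p : ℤ)}).map (algebraMap ℤ (WittVector p k)) =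
        Ideal.span {(p : WittVector p k)} := by
      rw [Ideal.map_span, Set.image_singleton, map_natCast]
    have hpre : IsPrecomplete (Ideal.span {(p : ℤ)}) M := by
      rw [← IsPrecomplete.map_algebraMap_iff (S := WittVector p k), hmap]
      exact hac.toIsPrecomplete
    have hhau : IsHausdorff (Ideal.span {(p : ℤ)}) M := by
      rw [← IsHausdorff.map_algebraMap_iff (S := WittVector p k), hmap]
      exact hac.toIsHausdorff
    have : Function.Surjective D := by
      apply surjective_of_mkQ_comp_surjective (I := Ideal.span {(p : ℤ)})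
      intro y
      obtain ⟨m, rfl⟩ := Submodule.mkQ_surjective _ y
      obtain ⟨v, hv⟩ := Groth.Agent.Sga67.QLinear.sub_surjective k (p ^ ν) hqk (Fin d → k) φ hφ (π m)
      obtain ⟨x, rfl⟩ := hπsurj v
      refine ⟨x, ?_⟩
      rw [LinearMap.comp_apply, ← sub_eq_zero, ← map_sub, Submodule.mkQ_apply,
        Submodule.Quotient.mk_eq_zero]
      obtain ⟨n, hn⟩ := hπker (D x - m) (by
        change π ((x - F x) - m) = 0
        rw [map_sub, map_sub, ← hφπ, sub_eq_zero]
        exact hv)
      rw [hn, Nat.cast_smul_eq_nsmul]
      have h3 : p • n = (p : ℤ) • n := (natCast_zsmul n p).symm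
      rw [h3]
      exact Submodule.smul_mem_smul (Ideal.mem_span_singleton_self _) trivial
    exact this
  obtain ⟨b, hb, -⟩ := Groth.Agent.Sga67.QLinear.exists_basis_fixed (p ^ ν) hq hqk φ hφ hφspan
  have hlift : ∀ i, ∃ m : M, π m = b i ∧ F m = m := by
    intro i
    obtain ⟨m, hm⟩ := hπsurj (b i)
    obtain ⟨n, hn⟩ := hπker (F m - m) (by rw [map_sub, ← hφπ, hm, hb, sub_self])
    obtain ⟨x, hx⟩ := hsub n
    refine ⟨m + (p : WittVector p k) • x, ?_, ?_⟩
    · rw [map_add, hπp, add_zero, hm]
    · rw [map_add, natCast_smul_map]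
      have h1 : F m = m + (p : WittVector p k) • n := by rw [← hn]; abel
      have h2 : n = x - F x := hx.symm
      rw [h1, h2, smul_sub]
      abel
  choose m hm hFm using hlift
  have hspan : ⊤ ≤ Submodule.span (WittVector p k) (Set.range m) := by
    apply Submodule.le_of_le_smul_of_le_jacobson_bot (I := Ideal.span {(p : WittVector p k)})
      Module.Finite.fg_top (IsAdicComplete.le_jacobson_bot _)
    intro x _
    have h1 : ∃ a : Fin (Module.finrank k (Fin d → k)) → WittVector p k, π x = π (∑ i, a i • m i) := by
      refine ⟨fun i => WittVector.teichmuller p (b.repr (π x) i), ?_⟩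
      rw [map_sum]
      conv_lhs => rw [← b.sum_repr (π x)]
      refine Finset.sum_congr rfl fun i _ => ?_
      rw [hπsmul, hm]
      simp
    obtain ⟨a, ha⟩ := h1
    obtain ⟨n, hn⟩ := hπker (x - ∑ i, a i • m i) (by rw [map_sub, ha, sub_self])
    have h2 : x = ∑ i, a i • m i + (p : WittVector p k) • n := by rw [← hn]; abel
    rw [h2]
    refine Submodule.add_mem_sup ?_ ?_
    · exact Submodule.sum_mem _ fun i _ => Submodule.smul_mem _ _ (Submodule.subset_span ⟨i, rfl⟩)
    · exact Submodule.smul_mem_smul (Ideal.mem_span_singleton_self _) trivial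
  have hcard : Fintype.card (Fin (Module.finrank k (Fin d → k))) = Module.finrank (WittVector p k) M := by
    simp [d]
  let e := basisOfTopLeSpanOfCardEqFinrank m hspan hcard
  refine ⟨Set.range e, e.reindexRange, fun i => ?_⟩
  obtain ⟨_, j, rfl⟩ := i
  rw [Module.Basis.reindexRange_self]
  have : e j = m j := by
    simp [e]
  rw [this]
  exact hFm j

end Groth.Agent.S16854
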