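import Groth.Statements.S16855
import Groth.Agent.S16843
import Groth.Agent.AbVar.K523.AdjField
import Groth.Agent.AbVar.K523.RankTate
import Groth.Agent.AbVar.K523.PolyZ
import Groth.Agent.AbVar.K521.MinChar

set_option autoImplicit false
universe u
open CategoryTheory MonoidalCategory CartesianMonoidalCategory MonObj GrpObj AlgebraicGeometry
open AbVar

namespace Groth.Agent.S16855

/-- Let k be a finite field with q elements and algebraic closure Ω, ℓ a prime invertible in k, and X an
abelian variety over k (a proper, geometrically integral commutative group scheme over k) of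
dimension g, with geometric Frobenius π_X (the endomorphism that is the identity on points and the
q-th power map on sections); assume, as is the case, that the ℓ-adic Tate module of Ω-points T_ℓ X
is free of finite rank over ℤ_ℓ, and let f_X ∈ ℤ[t] be the polynomial mapping to the characteristic
polynomial of T_ℓ(π_X) (the characteristic polynomial of Frobenius). Assume X is elementary in the
sense that ℚ[π_X] ⊆ End⁰(X) = ℚ ⊗ End_k(X) is a field, of degree e over ℚ, and let h ∈ ℚ[t] be the
minimal polynomial of π_X. Then [End⁰(X) : ℚ[π_X]] is a square d², and d·e = 2g and f_X = h^d: there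
is a natural number d with dim_ℚ End⁰(X) = e·d², d·e = 2g and f_X = h^d in ℚ[t]. -/
theorem result (k Ω : Type u) [Field k] [Finite k] [Field Ω] [Algebra k Ω] [IsAlgClosure k Ω]
    (l : ℕ) [Fact l.Prime] (hl : (l : k) ≠ 0) (X : Over (Spec (CommRingCat.of k)))
    [GrpObj X] [IsCommMonObj X] [IsProper X.hom] [GeometricallyIntegral X.hom]
    (g : ℕ) (hg : topologicalKrullDim X.left = g)
    (πX : X ⟶ X) [IsMonHom πX] (hπb : πX.left.base = 𝟙 _)
    (hπle : ∀ U : X.left.Opens, U ≤ πX.left ⁻¹ᵁ U)
    (hπapp : ∀ (U : X.left.Opens) (s : Γ(X.left, U)), (πX.left.appLE U U (hπle U)).hom s = s ^ Nat.card k)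
    [Module.Free ℤ_[l] (AbDual.TateMod X l (SGA7.pt Ω))] [Module.Finite ℤ_[l] (AbDual.TateMod X l (SGA7.pt Ω))]
    (P : Polynomial ℤ) (hP : (AbDual.tateMapₗ (l := l) (T := SGA7.pt Ω) πX).charpoly = P.map (Int.castRingHom ℤ_[l]))
    (hK : IsField (EndAV.QAdj (EndAV.End.of πX))) :
    ∃ d : ℕ, Module.finrank ℚ (EndAV.End0 X) = Module.finrank ℚ (EndAV.QAdj (EndAV.End.of πX)) * d ^ 2 ∧
      d * Module.finrank ℚ (EndAV.QAdj (EndAV.End.of πX)) = 2 * g ∧
      P.map (Int.castRingHom ℚ) = (minpoly ℚ (EndAV.toEnd0 (EndAV.End.of πX))) ^ d := by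
  have hac : IsAlgClosed Ω := IsAlgClosure.isAlgClosed k
  have hmon : P.Monic := K523.PolyZ.monic_of_map_eq_charpoly l _ P hP
  have hdeg : P.natDegree = 2 * g := by
    rw [K523.PolyZ.natDegree_of_map_eq_charpoly l _ P hP]
    exact K523.RankTate.finrank_tate Ω X l hl g hg
  have hirr : Irreducible (minpoly ℚ (EndAV.toEnd0 (EndAV.End.of πX))) := K523.AdjField.irreducible_of_isField _ hK
  have hmp : (minpoly ℚ (EndAV.toEnd0 (EndAV.End.of πX))).Monic := by
    refine minpoly.monic ?_
    by_contra h
    rw [minpoly.eq_zero h] at hirr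
    exact not_irreducible_zero hirr
  have h1 := K521.MinChar.map_eq_pow l (SGA7.pt Ω) (EndAV.End.of πX) hirr P hmon hP
  set d := P.natDegree / (minpoly ℚ (EndAV.toEnd0 (EndAV.End.of πX))).natDegree with hd
  have hnd : (P.map (Int.castRingHom ℚ)).natDegree = 2 * g := by
    rw [Polynomial.natDegree_map_eq_of_injective (Int.cast_injective (α := ℚ)), hdeg]
  have hde : d * (minpoly ℚ (EndAV.toEnd0 (EndAV.End.of πX))).natDegree = 2 * g := by
    rw [← hnd, h1, Polynomial.natDegree_pow]
  have h2 := S16843.result k Ω l hl X X πX hπb hπle hπapp πX hπb hπle hπapp P hP P hP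
  have h3 : Module.finrank ℤ (EndAV.Hom X X) = (minpoly ℚ (EndAV.toEnd0 (EndAV.End.of πX))).natDegree * d ^ 2 := by
    rw [h2, h1, UniqueFactorizationMonoid.normalizedFactors_pow,
      UniqueFactorizationMonoid.normalizedFactors_irreducible hirr, hmp.normalize_eq_self]
    rcases Nat.eq_zero_or_pos d with h0 | h0
    · rw [h0]; simp
    · rw [Multiset.toFinset_nsmul _ _ h0.ne', Multiset.toFinset_singleton, Finset.sum_singleton,
        Multiset.count_nsmul, Multiset.count_singleton_self]
      ring
  refine ⟨d, ?_, ?_, h1⟩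
  · rw [K523.AdjField.finrank_adjoin, ← h3]
    exact K523.AdjField.finrank_rat_tensor (EndAV.End X)
  · rw [K523.AdjField.finrank_adjoin, hde]


end Groth.Agent.S16855
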