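import Groth.Statements.S16859
import Groth.Agent.AlgSt.K748.AutSch
import Groth.Agent.S3020

set_option autoImplicit false
universe u
open CategoryTheory CategoryTheory.Limits AlgebraicGeometry
open AlgSt

namespace Groth.Agent.S16859

/-- Let `𝒳` be an algebraic stack over a scheme `S` (fppf topology) whose diagonal over `S` is
representable by algebraic spaces and quasi-affine. Let `k` be a field with a morphism `Spec k → S`,
let `x : (Sch/Spec k) → 𝒳` be a functor over `(Sch/S)` (a `k`-valued point of `𝒳`), and let `G` be a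
group scheme over `Spec k` representing the automorphism presheaf of `x` on schemes over `Spec k`
(the stabilizer group scheme of `x`). Then `G` is affine and locally of finite type over `k`, i.e.
an affine algebraic group. (The published statement is over the base `Spec ℤ`; the same argument
applies to the diagonal over any base scheme.) -/
theorem result (S : Scheme.{u})
    (𝒳 : AlgSt.Cat S) (h𝒳 : AlgSt.IsAlgStack Scheme.fppfPrecoverage 𝒳)
    (hΔ : AlgSt.RepByAlgSpWith AlgSp.IsQuasiAffineMor (FibCat.diag (FibCat.toSelf 𝒳)))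
    (k : Type u) [Field k] (p : Spec (CommRingCat.of k) ⟶ S)
    (x : FibCat.overCat (Over.mk p) ⥤ᵇ 𝒳) (G : Over (Over.mk p).left) [GrpObj G]
    (hG : Gerb.AutRep x (Gerb.ptsGrp (Over.mk p) G)) :
    IsAffine G.left ∧ LocallyOfFiniteType G.hom := by
  rw [K748.El.isQuasiAffineMor_eq] at hΔ
  have h1 := K748.El.prop_aut hG h𝒳.isStack.1 hΔ
  have h2 := K748.El.prop_aut hG h𝒳.isStack.1 (K738.Lft.repByAlgSpWith_lft_diag_toSelf h𝒳)
  have h3 : Groth.Agent.Ega2.QuasiAffine.QAff G.hom := (AlgSp.repWith_yon_map_iff _ _).1 h1
  have h4 : LocallyOfFiniteType G.hom := AlgSp.locP_yon_map h2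
  have h5 : QuasiCompact G.hom := h3.1
  have h6 : G.left.IsQuasiAffine := K597.QAff.isQuasiAffine_of_qaff' G.hom h3
    (inferInstanceAs (IsAffine (Spec (CommRingCat.of k))))
  let G' : Over (Spec (CommRingCat.of k)) := G
  let _ : GrpObj G' := inferInstanceAs (GrpObj G)
  have h7 : LocallyOfFiniteType G'.hom := h4
  have h8 : QuasiCompact G'.hom := h5
  have h9 : G'.left.IsQuasiAffine := h6
  exact ⟨Groth.Agent.S3020.result k G', h4⟩

end Groth.Agent.S16859
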