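import Groth.Statements.S16861
import Groth.Agent.Gerb.K894.IsoSpB
import Groth.Agent.Gerb.K894.Ifc2
import Groth.Agent.Gerb.K894.LocQ

set_option autoImplicit false
universe u
open CategoryTheory AlgebraicGeometry
open Gerb

namespace Groth.Agent.S16861

/-- An algebraic stack is a gerbe (over some algebraic space) exactly when its inertia is flat and
locally of finite presentation over it. -/
theorem result
    (S : Scheme.{u}) (𝒳 : AlgSt.Cat S) (h𝒳 : AlgSt.IsAlgStack Scheme.fppfPrecoverage 𝒳) :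
    Gerb.IsAlgGerbe Scheme.fppfPrecoverage 𝒳 ↔
      AlgSt.LocQ (AlgSp.LocP @Flat) (FibCat.inertiaToBase (FibCat.toSelf 𝒳)) ∧
        AlgSt.LocQ (AlgSp.LocP @LocallyOfFinitePresentation) (FibCat.inertiaToBase (FibCat.toSelf 𝒳)) := by
  have i1 : FibCat.IsFibGrpd 𝒳.p := h𝒳.isStack.1
  have hIalg : AlgSt.IsAlgStack Scheme.fppfPrecoverage (FibCat.inertia (FibCat.toSelf 𝒳)) :=
    K894.Ifc.isAlgStack_of_rep (K735.Setoid.isFibGrpd_inertia i1 K735.Fp.isFibGrpd_selfOver _) h𝒳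
      (FibCat.inertiaToBase (FibCat.toSelf 𝒳)) (K894.Core.repByAlgSp1_inertia h𝒳.diag)
  have hI1 : AlgSt.RepByAlgSp1 (FibCat.inertiaToBase (FibCat.toSelf 𝒳)) := K894.Core.repByAlgSp1_inertia h𝒳.diag
  rw [K894.LocQ.locQ_flat_iff hIalg h𝒳 _ hI1, K894.LocQ.locQ_lfp_iff hIalg h𝒳 _ hI1]
  constructor
  · rintro ⟨X, π, hπ⟩
    exact ⟨K894.IsoSp.repByAlgSpWith_inertia_ofSp' π
        (K894.Core.repByAlgSpWith_inertia (K894.GoodP.good_flat S) K597.etLoc_flat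
          (fun _ _ _ h _ => h) h𝒳 (K894.Ifc.isAlgStack_ofSp X) π hπ),
      K894.IsoSp.repByAlgSpWith_inertia_ofSp' π
        (K894.Core.repByAlgSpWith_inertia (K894.GoodP.good_lfp S) K597.etLoc_lfp
          (fun _ _ _ _ h => h) h𝒳 (K894.Ifc.isAlgStack_ofSp X) π hπ)⟩
  · rintro ⟨h1, h2⟩
    let η := toSheafify (AlgSp.J S) (Gerb.isoClPsh 𝒳)
    let F : AlgSp.Sp S := (presheafToSheaf (AlgSp.J S) (Type (u + 1))).obj (Gerb.isoClPsh 𝒳)
    let π : 𝒳 ⥤ᵇ AlgSt.ofSp F := K894.IsoSh.toPsh η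
    have hπ : Gerb.IsGerbeOver (QuotSh.J Scheme.fppfPrecoverage S) π := K894.IsoSh.isGerbeOver_toPsh (AlgSp.J S) η
    exact ⟨⟨F, K894.IsoSp.isAlgSpace_of_gerbe h𝒳 π hπ h1 h2⟩, π, hπ⟩

end Groth.Agent.S16861
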