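import Groth.Statements.S16879
import Groth.Agent.Gerb.K895.LocEquiv
import Groth.Agent.AlgSt.K750.TwistBG
import Groth.Agent.S12836

set_option autoImplicit false
universe u
open CategoryTheory AlgebraicGeometry
open Gerb
open K895.Fib

namespace Groth.Agent.S16879

/-- A gerbe over the base scheme S with a section x is a classifying stack: if G is a group scheme
affine over S representing the automorphism functor of x, then 𝒳 is equivalent over (Sch/S) to
[S/G], the stack of fppf G-torsors. (The source allows any algebraic space as the base, lets G be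
the group algebraic space of automorphisms, and its equivalence is a named one; here the base is S
itself, G is an affine group scheme, and existence of an equivalence is asserted.) -/
theorem result
    (S : Scheme.{u}) (𝒳 : AlgSt.Cat S) (h𝒳 : AlgSt.IsAlgStack Scheme.fppfPrecoverage 𝒳)
    (π : 𝒳 ⥤ᵇ FibCat.overCat (Over.mk (𝟙 S)))
    (hπ : Gerb.IsGerbeOver (QuotSh.J Scheme.fppfPrecoverage S) π)
    (x : FibCat.overCat (Over.mk (𝟙 S)) ⥤ᵇ 𝒳)
    (e : BasedFunctor.comp x π ≅ BasedFunctor.id (FibCat.overCat (Over.mk (𝟙 S))))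
    (G : Over S) [GrpObj G] [IsAffineHom G.hom]
    (r : Gerb.AutRep x (Gerb.ptsGrp (Over.mk (𝟙 S)) G)) :
    AlgSt.IsQuotientOf Scheme.fppfPrecoverage G (AlgSt.trivAction G) 𝒳 := by
  obtain ⟨F, hfull, hfaith, ⟨i⟩⟩ := K750.TwistBG.exists_fullyFaithful (K := Scheme.fppfPrecoverage) x r h𝒳.isStack
  refine ⟨F, K895.LocEquiv.isEquivOver_of_locSurjObj (Groth.Agent.S12836.result S G _ _)
    (K895.LocEquiv.isPrestack_of_isStack h𝒳.isStack) F ?_⟩
  have hX : FibCat.IsFibGrpd 𝒳.p := h𝒳.isStack.1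
  intro z
  have h1 : (FibCat.overCat (Over.mk (𝟙 S))).p.IsHomLift (𝟙 (𝒳.p.obj z)) (appIso e (π.obj z)).inv :=
    appIso_inv_lift e (π.w_obj z)
  obtain ⟨R, hR, h⟩ := hπ.2 z (x.obj (π.obj z)) (appIso e (π.obj z)).inv h1
  refine ⟨R, hR, fun V f hf => ?_⟩
  obtain ⟨x₀, φ, ψ, hφ, hψ, -⟩ := h f hf
  obtain ⟨χ, hχ, -, -, -⟩ := exists_iso hX f ψ (x.map (π.map φ)) hψ (lift_map x (lift_map π hφ))
  have hx₀ : (FibCat.overCat (Over.mk (𝟙 S))).p.obj (π.obj x₀) = V :=
    (π.w_obj x₀).trans (obj_eq_of_lift_left hφ)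
  let a := (AlgSt.ofOverCat (Over.mk (𝟙 S))).obj (π.obj x₀)
  let σ : (AlgSt.toOverCat (Over.mk (𝟙 S))).obj a ⟶ π.obj x₀ := Over.homMk (𝟙 _) (Category.id_comp _)
  have hσ : (FibCat.overCat (Over.mk (𝟙 S))).p.IsHomLift (𝟙 ((FibCat.overCat (Over.mk (𝟙 S))).p.obj (π.obj x₀))) σ :=
    (inferInstance : (FibCat.overCat (Over.mk (𝟙 S))).p.IsHomLift
      ((FibCat.overCat (Over.mk (𝟙 S))).p.map σ) σ)
  rw [hx₀] at hσ
  exact ⟨(AlgSt.quotMap Scheme.fppfPrecoverage G (AlgSt.trivAction G)).obj a,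
    (appIso i a).hom ≫ x.map σ ≫ χ.hom ≫ φ,
    lift_id_comp (appIso_hom_lift i hx₀) (lift_id_comp (lift_map x hσ) (lift_id_comp hχ hφ))⟩

end Groth.Agent.S16879
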