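import Groth.Statements.S16881
import Groth.Agent.Gerb.K895.SpBGEq
import Groth.Agent.AlgSt.K741.Loc
import Groth.Agent.AlgSt.K742.SmComp
import Groth.Agent.S16866

set_option autoImplicit false
universe u
open CategoryTheory AlgebraicGeometry
open Gerb

namespace Groth.Agent.S16881

/-- Existence form, together with the flatness of the group: if π : 𝒳 → U makes the algebraic stack 𝒳 a
gerbe over the algebraic space U and π has a section, then 𝒳 is equivalent over U to a classifying
stack [U/G], where G is a group algebraic space over U that is flat over U and locally of finite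
presentation ([U/G]: fppf-locally trivial G-torsors given as fppf sheaves over U). (G can be taken
to be the automorphism group of the section, with a specific equivalence; here G and the equivalence
are only asserted to exist.) -/
theorem result
    (S : Scheme.{u}) (𝒳 : AlgSt.Cat S) (h𝒳 : AlgSt.IsAlgStack Scheme.fppfPrecoverage 𝒳)
    (U : AlgSp.Space S) (π : 𝒳 ⥤ᵇ AlgSt.ofSp U.obj)
    (hπ : Gerb.IsGerbeOver (QuotSh.J Scheme.fppfPrecoverage S) π)
    (x : AlgSt.ofSp U.obj ⥤ᵇ 𝒳) (ex : BasedFunctor.comp x π ≅ BasedFunctor.id (AlgSt.ofSp U.obj)) :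
    ∃ (G : Over U.obj) (_ : GrpObj G),
      AlgSp.IsAlgSpace G.left ∧ AlgSp.LocP @Flat G.hom ∧ AlgSp.LocP @LocallyOfFinitePresentation G.hom ∧
      ∃ e : AlgSt.SpBG Scheme.fppfPrecoverage G ⥤ᵇ 𝒳,
        FibCat.IsEquivOver e ∧
        Nonempty (BasedFunctor.comp e π ≅
          W4stkstmgerbes.spQuotToBase Scheme.fppfPrecoverage G (AlgSt.trivGAction G)) := by
  obtain ⟨h1, h2, -⟩ := Groth.Agent.S16866.result S 𝒳 h𝒳 U π hπ x ex
  have hfib : FibCat.IsFibGrpd 𝒳.p := h𝒳.1.1
  obtain ⟨F, π', hF, hrep⟩ := K734.Rep.exists_isRep (Stk.isFibGrpd_ofPsh U.obj.obj) hfib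
    (K735.Rep.repByAlgSp1_of_with h1) U.property x
  obtain ⟨hG, e, he, he'⟩ := K895.SpBGEq.exists_spBG h𝒳.1 π hπ.2 x ex hrep
  exact ⟨Over.mk π', hG, hF,
    hrep.prop (K742.SmComp.stableBC_locP K597.etLoc_flat) K741.isLocalOnBase_flat h1 U.property,
    hrep.prop (K742.SmComp.stableBC_locP K597.etLoc_lfp) K741.isLocalOnBase_lfp h2 U.property, e, he, he'⟩

end Groth.Agent.S16881
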