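import Groth.Statements.S16880
import Groth.Agent.Gerb.K895.SpBGGerbe
import Groth.Agent.Gerb.K894.Ifc
import Groth.Agent.Gerb.K894.LocSurj
import Groth.Agent.AlgSt.K743.FlatCover
import Groth.Agent.AlgSt.K734.Atlas
import Groth.Agent.S16860
import Groth.Agent.S16864
import Groth.Agent.S16881

set_option autoImplicit false
universe u
open CategoryTheory AlgebraicGeometry
open Gerb

namespace Groth.Agent.S16880

/-- A morphism π : 𝒳 → 𝒴 of algebraic stacks makes 𝒳 a gerbe over 𝒴 if and only if, after base change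
along some surjective, flat, locally finitely presented morphism U → 𝒴 from an algebraic space, 𝒳
becomes equivalent over U to a classifying stack [U/G], where G is a group algebraic space over U
that is flat over U and locally of finite presentation. (Here [U/G] is the stack of fppf-locally
trivial G-torsors given as fppf sheaves over U; 'over U' means the equivalence followed by the
projection to U is 2-isomorphic to the structure functor of [U/G].) -/
theorem result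
    (S : Scheme.{u}) (𝒳 𝒴 : AlgSt.Cat S)
    (h𝒳 : AlgSt.IsAlgStack Scheme.fppfPrecoverage 𝒳) (h𝒴 : AlgSt.IsAlgStack Scheme.fppfPrecoverage 𝒴)
    (π : 𝒳 ⥤ᵇ 𝒴) :
    Gerb.IsGerbeOver (QuotSh.J Scheme.fppfPrecoverage S) π ↔
      ∃ (U : AlgSp.Space S) (G : Over U.obj) (_ : GrpObj G),
        AlgSp.IsAlgSpace G.left ∧ AlgSp.LocP @Flat G.hom ∧ AlgSp.LocP @LocallyOfFinitePresentation G.hom ∧
        ∃ u : AlgSt.ofSp U.obj ⥤ᵇ 𝒴,
          AlgSt.RepByAlgSpWith (AlgSp.LocP @Flat) u ∧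
          AlgSt.RepByAlgSpWith (AlgSp.LocP @LocallyOfFinitePresentation) u ∧
          AlgSt.RepByAlgSpWith AlgSp.IsSurjectiveMor u ∧
          ∃ e : AlgSt.SpBG Scheme.fppfPrecoverage G ⥤ᵇ FibCat.fp u π,
            FibCat.IsEquivOver e ∧
            Nonempty (BasedFunctor.comp e (FibCat.fpFst u π) ≅
              W4stkstmgerbes.spQuotToBase Scheme.fppfPrecoverage G (AlgSt.trivGAction G)) := by
  constructor
  · intro hπ
    obtain ⟨⟨hs, hf, hp⟩, -⟩ := (Groth.Agent.S16860.result S 𝒳 𝒴 h𝒳 h𝒴 π).1 hπ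
    obtain ⟨W, w, hw, hw1, hw2⟩ := K743.FlatCover.exists_atlas₂ K597.etLoc_flat K597.etLoc_lfp
      (fun _ _ f _ => inferInstance) (fun _ _ f _ => inferInstance) h𝒳.1.1 hf hp
    let U : AlgSp.Space S := ⟨(AlgSp.yon S).obj W, AlgSp.IsAlgSpace.yon_obj W⟩
    let w' : AlgSt.ofSp U.obj ⥤ᵇ 𝒳 := BasedFunctor.comp (AlgSt.toOverCat W) w
    let u : AlgSt.ofSp U.obj ⥤ᵇ 𝒴 := BasedFunctor.comp w' π
    have hE := K735.Rep.isEquivOver_toOverCat W
    have hw3 : AlgSt.RepByAlgSpWith AlgSp.IsSurjectiveMor (BasedFunctor.comp w π) := by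
      refine (K735.Top.repByAlgSpWith_surjective_iff h𝒴.1.1 (K735.Fp.isFibGrpd_overCat W)
        (K735.Rep.repByAlgSp1_of_with hw1)).1 fun q => ?_
      obtain ⟨p, rfl⟩ := hs q
      obtain ⟨r, rfl⟩ := hw p
      exact ⟨r, K735.Pts.map_comp w π r⟩
    have hu1 : AlgSt.RepByAlgSpWith (AlgSp.LocP @Flat) u :=
      (K734.Rep.repByAlgSpWith_precomp_iff hE (BasedFunctor.comp w π)).2 hw1
    have hu2 : AlgSt.RepByAlgSpWith (AlgSp.LocP @LocallyOfFinitePresentation) u :=
      (K734.Rep.repByAlgSpWith_precomp_iff hE (BasedFunctor.comp w π)).2 hw2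
    have hu3 : AlgSt.RepByAlgSpWith AlgSp.IsSurjectiveMor u :=
      (K734.Rep.repByAlgSpWith_precomp_iff hE (BasedFunctor.comp w π)).2 hw3
    let x : AlgSt.ofSp U.obj ⥤ᵇ FibCat.fp u π := FibCat.fpLift (BasedFunctor.id _) w' (Iso.refl _)
    let ex : BasedFunctor.comp x (FibCat.fpFst u π) ≅ BasedFunctor.id _ := Iso.refl _
    have hU := K894.Ifc.isAlgStack_ofSp U
    obtain ⟨G, hG, h1, h2, h3, e, he, he'⟩ := Groth.Agent.S16881.result S (FibCat.fp u π)
      (K894.Ifc.isAlgStack_fp hU h𝒳 h𝒴 u π) U (FibCat.fpFst u π)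
      (Groth.Agent.S16864.result S 𝒳 𝒴 _ h𝒳 h𝒴 hU π u hπ) x ex
    exact ⟨U, G, hG, h1, h2, h3, u, hu1, hu2, hu3, e, he, he'⟩
  · rintro ⟨U, G, hG, -, -, -, u, h1, h2, h3, e, he, ⟨i⟩⟩
    have := h𝒳.1.1
    have := h𝒴.1.1
    have : FibCat.IsFibGrpd (AlgSt.ofSp U.obj).p := Stk.isFibGrpd_ofPsh U.obj.obj
    exact K894.Formal.isGerbeOver_of_fpFst (K894.LocSurj.locSurjObj_of_rep u h1 h2 h3)
      (K895.SpBGGerbe.isGerbeOver_of_spBG (FibCat.fpFst u π) G e he i)

end Groth.Agent.S16880
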