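import Groth.Statements.S16889
import Groth.Agent.Vanish.K909.KodAkn
-- import your own Groth.Agent.* helpers here

set_option autoImplicit false
universe u
open CategoryTheory CategoryTheory.Limits AlgebraicGeometry
open Vanish

namespace Groth.Agent.S16889

/-- Let k be an algebraically closed field of characteristic zero, X an irreducible proper smooth
k-scheme of dimension n and L an ample invertible O_X-module (so X is projective) with tensor
inverse L⁻¹. For every a-th exterior power Ω^a of the sheaf of differentials Ω_{X/k} (in the
affine-local sense) one has H^b(X, Ω^a ⊗ L⁻¹) = 0 whenever a + b < n. (The published corollary also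
treats twists by logarithmic differentials along a reduced normal crossing divisor; only the first
assertion is stated.) -/
theorem result (k : Type u) [Field k] [IsAlgClosed k] [CharZero k]
    (X : Scheme.{u}) [X.Over (Spec (CommRingCat.of k))] [IsProper (X ↘ Spec (CommRingCat.of k))]
    [Smooth (X ↘ Spec (CommRingCat.of k))] [IrreducibleSpace X] (n : ℕ) (hn : topologicalKrullDim X = n)
    (L Linv : X.Modules) (hL : CohB1.IsAmple L) (hLinv : ClSub.IsInverseOf Linv L)
    (a b : ℕ) (Om : X.Modules) (hOm : ExtPow.IsExtPow a (Omega.sheaf (X ↘ Spec (CommRingCat.of k))) Om)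
    (hab : a + b < n) :
    Subsingleton (Coh.HH X (CohB1.tensorMod Om Linv) b) :=
  K909.KodAkn.akn k X n hn L Linv hL hLinv a b Om hOm hab

end Groth.Agent.S16889
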