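import Groth.Statements.S16891
import Groth.Agent.Vanish.K660.GRTF
import Groth.Agent.Vanish.K660.AltThm

set_option autoImplicit false
universe u
open CategoryTheory CategoryTheory.Limits AlgebraicGeometry
open Vanish

namespace Groth.Agent.S16891

/-- Let k be an algebraically closed field of characteristic zero, X an integral smooth k-scheme of
dimension n and Z an integral separated k-scheme of finite type; let f : X → Z be a proper
surjective k-morphism and ω an n-th exterior power of Ω_{X/k} (a canonical sheaf of X). Then for
every b the higher direct image R^b f_* ω has no torsion: all its stalks are torsion-free modules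
over the (integral) local rings of Z. (This is the case of the trivial invertible sheaf and the
empty divisor of the published corollary, which twists ω by integral parts of a relatively
semi-ample Q-divisor.) -/
theorem result (k : Type u) [Field k] [IsAlgClosed k] [CharZero k]
    (X : Scheme.{u}) [X.Over (Spec (CommRingCat.of k))] [IsIntegral X] [Smooth (X ↘ Spec (CommRingCat.of k))]
    (n : ℕ) (hn : topologicalKrullDim X = n)
    (Z : Scheme.{u}) [Z.Over (Spec (CommRingCat.of k))] [IsIntegral Z] [IsSeparated (Z ↘ Spec (CommRingCat.of k))]
    [LocallyOfFiniteType (Z ↘ Spec (CommRingCat.of k))] [CompactSpace Z]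
    (f : X ⟶ Z) (hf : f ≫ (Z ↘ Spec (CommRingCat.of k)) = X ↘ Spec (CommRingCat.of k)) [IsProper f] [Surjective f]
    (ω : X.Modules) (hω : ExtPow.IsExtPow n (Omega.sheaf (X ↘ Spec (CommRingCat.of k))) ω)
    [HasInjectiveResolutions X.Modules]
    (b : ℕ) :
    TorSh.IsTorsionFree ((Coh.Rpush f b).obj ω) := by
  exact K660.GR.row16891 k (K660.AltThm.alt k) (K660.AltThm.desc k) (K660.AltThm.ev k) X n hn Z f hf ω hω b

end Groth.Agent.S16891
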