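import Groth.Statements.S16892
import Groth.Agent.Vanish.K660.Rows
import Groth.Agent.Vanish.K660.AltThm

set_option autoImplicit false
universe u
open CategoryTheory CategoryTheory.Limits AlgebraicGeometry
open Vanish

namespace Groth.Agent.S16892

/-- Let k be an algebraically closed field of characteristic zero and X an irreducible proper smooth
k-scheme of dimension n. Let L be an invertible O_X-module which is semi-ample (some L^⊗μ with μ > 0
is globally generated) and of Iitaka dimension n, the latter expressed as: some L^⊗ν with ν > 0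
receives a monomorphism from an ample invertible module A (so that L^⊗ν ≅ A(C) for an effective
divisor C, and X is projective). Then H^b(X, L⁻¹) = 0 for every tensor inverse L⁻¹ of L and every b
< n. -/
theorem result (k : Type u) [Field k] [IsAlgClosed k] [CharZero k]
    (X : Scheme.{u}) [X.Over (Spec (CommRingCat.of k))] [IsProper (X ↘ Spec (CommRingCat.of k))]
    [Smooth (X ↘ Spec (CommRingCat.of k))] [IrreducibleSpace X] (n : ℕ) (hn : topologicalKrullDim X = n)
    (L Linv : X.Modules) (hL : PicF.IsInvertible L) (hLinv : ClSub.IsInverseOf Linv L)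
    (hsa : ∃ μ : ℕ, 0 < μ ∧ Curv2.IsGloballyGenerated (CohB1.tensorPow L μ))
    (hbig : ∃ (ν : ℕ) (A : X.Modules) (φ : A ⟶ CohB1.tensorPow L ν), 0 < ν ∧ CohB1.IsAmple A ∧ Mono φ)
    (b : ℕ) (hb : b < n) :
    Subsingleton (Coh.HH X Linv b) := by
  exact K660.Rows.row16892 k (K660.AltThm.alt k) (K660.AltThm.desc k) (K660.AltThm.ev k) X n hn L Linv hL hLinv hsa hbig b hb

end Groth.Agent.S16892
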