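import Groth.Statements.S16893
import Groth.Agent.Vanish.K660.Rows
import Groth.Agent.Vanish.K660.AltThm

set_option autoImplicit false
universe u
open CategoryTheory CategoryTheory.Limits AlgebraicGeometry
open Vanish

namespace Groth.Agent.S16893

/-- Let k be an algebraically closed field of characteristic zero and X an irreducible proper smooth
k-scheme of dimension n with an ample invertible module (a projective manifold). Let L be a
semi-ample invertible O_X-module (some L^⊗μ, μ > 0, is globally generated) with tensor inverse L⁻¹,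
and let I ⊂ O_X be the ideal sheaf of an effective Cartier divisor B (a quasi-coherent ideal whose
ideal sheaf is an invertible module) such that H^0(X, L^⊗ν ⊗ I) ≠ 0 for some ν > 0, i.e. some
positive power of L has a nonzero section vanishing along B. Then for every b the natural map H^b(X,
L⁻¹ ⊗ I) → H^b(X, L⁻¹), induced by I ⊂ O_X and the unit isomorphism L⁻¹ ⊗ O_X ≅ L⁻¹, is surjective.
(The published statement adds the equivalent dual form: H^b(X, L ⊗ ω_X(B)) → H^b(B, L ⊗ ω_B) is
surjective.) -/
theorem result (k : Type u) [Field k] [IsAlgClosed k] [CharZero k]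
    (X : Scheme.{u}) [X.Over (Spec (CommRingCat.of k))] [IsProper (X ↘ Spec (CommRingCat.of k))]
    [Smooth (X ↘ Spec (CommRingCat.of k))] [IrreducibleSpace X] (n : ℕ) (hn : topologicalKrullDim X = n)
    (H : X.Modules) (hH : CohB1.IsAmple H)
    (L Linv : X.Modules) (hL : PicF.IsInvertible L) (hLinv : ClSub.IsInverseOf Linv L)
    (hsa : ∃ μ : ℕ, 0 < μ ∧ Curv2.IsGloballyGenerated (CohB1.tensorPow L μ))
    (I : X.IdealSheafData) (hI : PicF.IsInvertible (ClSub.idealMod I))
    (hsec : ∃ ν : ℕ, 0 < ν ∧ Nontrivial (Coh.HH X (CohB1.tensorMod (CohB1.tensorPow L ν) (ClSub.idealMod I)) 0))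
    (b : ℕ) :
    Function.Surjective (Sheaf.H.map ((SheafOfModules.toSheaf X.ringCatSheaf).map
      (KoszTw.tensorMap (𝟙 Linv) (ClSub.idealModι I) ≫ (SecTwist.unitorR Linv).hom)) b) := by
  exact K660.Rows.row16893 k (K660.AltThm.alt k) (K660.AltThm.desc k) (K660.AltThm.ev k) X n hn H hH L Linv hL hLinv hsa I hI hsec b

end Groth.Agent.S16893
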