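import Groth.Statements.S16895
import Groth.Agent.Vanish.K909.NefGrowth
import Groth.Agent.Variety.K424.NakMain
import Groth.Agent.S16888
-- import your own Groth.Agent.* helpers here

set_option autoImplicit false
universe u
open CategoryTheory CategoryTheory.Limits AlgebraicGeometry
open Vanish

namespace Groth.Agent.S16895

/-- Let k be an algebraically closed field of characteristic zero and X an irreducible proper smooth
k-scheme of dimension n with an ample invertible O_X-module (a projective manifold). Let L be a
numerically effective invertible O_X-module (non-negative degree on every integral one-dimensional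
closed subscheme of X), F an invertible O_X-module and b a natural number. Then there is a constant
c such that dim_k H^b(X, F ⊗ L^⊗ν) ≤ c · ν^(n − b) for all ν ≥ 1. (The published bound is asserted
for all natural numbers ν; at ν = 0 and b < n it would force H^b(X, F) = 0, which fails for instance
for F = O_X, b = 1 on a curve of positive genus, so ν ≥ 1 is required here; the exponent n − b is a
truncated difference, giving a constant bound for b ≥ n. Only the characteristic-zero case is
stated; the positive-characteristic case assumes a lifting to the Witt vectors of length two.) -/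
theorem result (k : Type u) [Field k] [IsAlgClosed k] [CharZero k]
    (X : Scheme.{u}) [X.Over (Spec (CommRingCat.of k))] [IsProper (X ↘ Spec (CommRingCat.of k))]
    [Smooth (X ↘ Spec (CommRingCat.of k))] [IrreducibleSpace X] (n : ℕ) (hn : topologicalKrullDim X = n)
    (A : X.Modules) (hA : CohB1.IsAmple A) (L : X.Modules) (hL : PicF.IsInvertible L)
    (hnef : (∀ (Y : Scheme.{u}) (i : Y ⟶ X) [IsClosedImmersion i], IsIntegral Y → topologicalKrullDim Y = 1 →
      0 ≤ Pic13.curveDeg k (i ≫ (X ↘ Spec (CommRingCat.of k))) ((Scheme.Modules.pullback i).obj L)))
    (F : X.Modules) (hF : PicF.IsInvertible F) (b : ℕ) :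
    ∃ c : ℕ, ∀ ν : ℕ, 1 ≤ ν →
      Module.finrank k (Coh.HH X (CohB1.tensorMod F (CohB1.tensorPow L ν)) b) ≤ c * ν ^ (n - b) :=
  K909.NefGrowth.growth_main k (K424.NakMain.nak k)
    (fun X _ _ _ _ n hn L Linv hL hLinv b hb => Groth.Agent.S16888.result k X n hn L Linv hL hLinv b hb)
    X n hn hA hL hnef F hF b

end Groth.Agent.S16895
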