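import Groth.Statements.S16896
import Groth.Agent.PosLin.K931.NefMain
import Groth.Agent.PosLin.K931.NakC
import Groth.Agent.Etcore.SmoothRed

set_option autoImplicit false
universe u
open CategoryTheory CategoryTheory.Limits AlgebraicGeometry
open Vanish

namespace Groth.Agent.S16896

attribute [-instance] CategoryTheory.catToReflQuiver

/-- Let k be an algebraically closed field of characteristic zero and X an irreducible proper smooth
k-scheme of dimension n with an ample invertible O_X-module (a projective manifold). Let L be a
numerically effective invertible O_X-module (non-negative degree on every integral one-dimensional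
closed subscheme) and L⁻¹ a tensor inverse of L. Then the Iitaka dimension of L equals n, expressed
by the equivalent condition that some L^⊗ν with ν > 0 receives a monomorphism from an ample
invertible module (L^⊗ν ≅ A(C) with A ample and C effective), if and only if the self-intersection
number c_1(L)^n = ∫ c_1(L)^n · [O_X] (the alternating sum of Euler characteristics attached to n
copies of L⁻¹) is positive. (Only the characteristic-zero case is stated; the
positive-characteristic case assumes a lifting to the Witt vectors of length two.) -/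
theorem result (k : Type u) [Field k] [IsAlgClosed k] [CharZero k]
    (X : Scheme.{u}) [X.Over (Spec (CommRingCat.of k))] [IsProper (X ↘ Spec (CommRingCat.of k))]
    [Smooth (X ↘ Spec (CommRingCat.of k))] [IrreducibleSpace X] (n : ℕ) (hn : topologicalKrullDim X = n)
    (H : X.Modules) (hH : CohB1.IsAmple H) (L Linv : X.Modules) (hL : PicF.IsInvertible L) (hLinv : ClSub.IsInverseOf Linv L)
    (hnef : (∀ (Y : Scheme.{u}) (i : Y ⟶ X) [IsClosedImmersion i], IsIntegral Y → topologicalKrullDim Y = 1 →
      0 ≤ Pic13.curveDeg k (i ≫ (X ↘ Spec (CommRingCat.of k))) ((Scheme.Modules.pullback i).obj L))) :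
    (∃ (ν : ℕ) (A : X.Modules) (φ : A ⟶ CohB1.tensorPow L ν), 0 < ν ∧ CohB1.IsAmple A ∧ Mono φ) ↔
      0 < FGA.intNum k X n (fun _ : Fin n => Linv) (Coh.structureModule X) := by
  have hred : IsReduced X := Groth.Agent.Etcore.SmoothRed.isReduced_of_smooth (X ↘ Spec (CommRingCat.of k))
  have hint : IsIntegral X := isIntegral_of_irreducibleSpace_of_isReduced X
  have := K931.Basic.isNoetherian k X
  have := K931.Basic.isSeparated k X
  have hLi : PicF.IsInvertible Linv := by
    obtain ⟨e⟩ := hLinv
    exact Fga.IntAdd.isInvertible_of_tensor (Ega2.Tens.swap _ _ ≪≫ e)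
  rw [← K909.InterML.inter_mk k X n (Coh.structureModule X) (fun _ : Fin n => L) (fun _ => Linv) (fun _ => hL)
    (fun _ => hLi) (fun _ => hLinv.map fun e => Ega2.Tens.swap _ _ ≪≫ e)]
  rw [← K931.NefMain.growth_iff_pos (K931.NakC.nak k) hH hL hnef hn]
  constructor
  · rintro ⟨ν, A, φ, hν, hA, hφ⟩
    refine K931.BigGrowth.growth_of_big k n hn hH hL ((K931.Eff.big_mk_iff hL).mp ?_)
    refine K931.Eff.big_of_exists (a := Grpsch.PicGrp.mk A hA.1) ((K931.Eff.amp_mk hA.1).mpr hA) hν ?_
    rw [← Grpsch.PicGrp.mk_tensorPow, ← K931.Eff.exists_mono_iff]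
    exact ⟨φ, hφ⟩
  · intro h
    obtain ⟨m, φ, hm, hφ⟩ := K931.BigGrowth.big_of_growth k n hn hH hL h H hH
    exact ⟨m, H, φ, hm, hH, hφ⟩

end Groth.Agent.S16896
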