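import Groth.Statements.S16897
import Groth.Agent.Vanish.K660.Rows2
import Groth.Agent.Vanish.K660.AltThm

set_option autoImplicit false
universe u
open CategoryTheory CategoryTheory.Limits AlgebraicGeometry
open Vanish

namespace Groth.Agent.S16897

/-- Let k be an algebraically closed field of characteristic zero and X an irreducible proper smooth
k-scheme of dimension n with an ample invertible O_X-module (a projective manifold). Let L be an
invertible O_X-module which is numerically effective (non-negative degree on every integral
one-dimensional closed subscheme of X) and whose self-intersection number c_1(L)^n (the alternating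
sum of Euler characteristics attached to n copies of a tensor inverse L⁻¹) is positive. Then H^b(X,
L⁻¹) = 0 for every b < n. (This is the case of the empty divisor of the published corollary, whose
general form replaces L by L^N(−D) for a normal crossing divisor D with multiplicities between 1 and
N − 1.) -/
theorem result (k : Type u) [Field k] [IsAlgClosed k] [CharZero k]
    (X : Scheme.{u}) [X.Over (Spec (CommRingCat.of k))] [IsProper (X ↘ Spec (CommRingCat.of k))]
    [Smooth (X ↘ Spec (CommRingCat.of k))] [IrreducibleSpace X] (n : ℕ) (hn : topologicalKrullDim X = n)
    (H : X.Modules) (hH : CohB1.IsAmple H) (L Linv : X.Modules) (hL : PicF.IsInvertible L) (hLinv : ClSub.IsInverseOf Linv L)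
    (hnef : (∀ (Y : Scheme.{u}) (i : Y ⟶ X) [IsClosedImmersion i], IsIntegral Y → topologicalKrullDim Y = 1 →
      0 ≤ Pic13.curveDeg k (i ≫ (X ↘ Spec (CommRingCat.of k))) ((Scheme.Modules.pullback i).obj L)))
    (hbig : 0 < FGA.intNum k X n (fun _ : Fin n => Linv) (Coh.structureModule X))
    (b : ℕ) (hb : b < n) :
    Subsingleton (Coh.HH X Linv b) := by
  exact K660.Rows.row16897 k (K660.AltThm.alt k) (K660.AltThm.desc k) (K660.AltThm.ev k) X n hn H hH L Linv hL hLinv hnef hbig b hb

end Groth.Agent.S16897
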