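import Groth.Statements.S16898
import Groth.Agent.Vanish.K95.KolGlue

set_option autoImplicit false
universe u
open CategoryTheory CategoryTheory.Limits AlgebraicGeometry
open Vanish

namespace Groth.Agent.S16898

/-- Let k be an algebraically closed field of characteristic zero, X an irreducible proper smooth
k-scheme of dimension n with an ample invertible O_X-module, Z an integral proper k-scheme with an
ample invertible O_Z-module K (so f below is a surjective morphism of projective varieties with
non-singular source), f : X → Z a surjective k-morphism and ω an n-th exterior power of Ω_{X/k} (a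
canonical sheaf of X). Then H^c(Z, K ⊗ R^b f_* ω) = 0 for all b ≥ 0 and c > 0. (This is the case of
the trivial invertible sheaf on X, the empty divisor and an ample K of the published corollary,
which allows K numerically effective of maximal Iitaka dimension and twists ω by integral parts of
Q-divisors.) -/
theorem result (k : Type u) [Field k] [IsAlgClosed k] [CharZero k]
    (X : Scheme.{u}) [X.Over (Spec (CommRingCat.of k))] [IsProper (X ↘ Spec (CommRingCat.of k))]
    [Smooth (X ↘ Spec (CommRingCat.of k))] [IrreducibleSpace X] (n : ℕ) (hn : topologicalKrullDim X = n)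
    (HX : X.Modules) (hHX : CohB1.IsAmple HX)
    (Z : Scheme.{u}) [Z.Over (Spec (CommRingCat.of k))] [IsIntegral Z] [IsProper (Z ↘ Spec (CommRingCat.of k))]
    (K : Z.Modules) (hK : CohB1.IsAmple K)
    (f : X ⟶ Z) (hf : f ≫ (Z ↘ Spec (CommRingCat.of k)) = X ↘ Spec (CommRingCat.of k)) [Surjective f]
    (ω : X.Modules) (hω : ExtPow.IsExtPow n (Omega.sheaf (X ↘ Spec (CommRingCat.of k))) ω)
    [HasInjectiveResolutions X.Modules] (b c : ℕ) (hc : 0 < c) :
    Subsingleton (Coh.HH Z (CohB1.tensorMod K ((Coh.Rpush f b).obj ω)) c) := by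
  have hX : IsIntegral X := K802.GoodPoint.isIntegral_of_smooth (X ↘ Spec (CommRingCat.of k))
  have hfK : PicF.IsInvertible ((Scheme.Modules.pullback f).obj K) := Fdesc.LocGen.isInvertible_pullback f hK.1
  have hE0 : BlowUp.IsEffCartierIdeal (∏ j : Fin 0, (Fin.elim0 j : X.IdealSheafData) ^ (Fin.elim0 j : ℕ)) := by
    rw [Finset.univ_eq_empty, Finset.prod_empty]
    exact Divis.EffCartier.isEff_top
  have hcl : Grpsch.PicGrp.mk _ hfK ^ 1 * Fga.JacFactor.dcl _ hE0 = Grpsch.PicGrp.pull f (Grpsch.PicGrp.mk K hK.1) := by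
    have h2 : ∀ (D : X.IdealSheafData) (hD : BlowUp.IsEffCartierIdeal D), D = ⊤ → Fga.JacFactor.dcl D hD = 1 := by
      rintro _ hD rfl
      exact Fga.JacFactor.dcl_top
    rw [pow_one, h2 _ _ (by rw [Finset.univ_eq_empty, Finset.prod_empty]; rfl), mul_one, Grpsch.PicGrp.pull_mk]
  have hsa : K660.Semi.SA (Grpsch.PicGrp.mk K hK.1) := by
    have hZc : CompactSpace Z := hK.2.1
    have hZs : Z.IsSeparated := K95.KolVD.isSeparated k Z
    exact K660.Semi.Amp.sa ((K931.Eff.amp_mk hK.1).2 hK)
  have h1 := K95.KolVD.main (K660.AltThm.alt k) (K661.TwDescMain.twDesc k) (K660.AltThm.ev k) n X hn HX hHX Z K hK f hf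
    ω hω ((Scheme.Modules.pullback f).obj K) hfK 1 le_rfl (fun j : Fin 0 => (Fin.elim0 j : X.IdealSheafData))
    (fun x hx => hx.elim fun i => i.1.elim0) (fun j : Fin 0 => (Fin.elim0 j : ℕ)) (fun j => j.elim0) hE0
    ⟨X, 𝟙 X, HX, hX, by rw [Category.id_comp]; infer_instance, inferInstance, inferInstance, rfl, hHX, by
      rw [hcl, Grpsch.PicGrp.pull_id]
      exact K95.PosPull.posP_of_sa (K95.PosPull.sa_pull f hsa)⟩ 1 (by
      rw [hcl, pow_one, div_self']
      exact K931.Eff.eff_one) b c hc
  obtain ⟨i⟩ := Groth.Agent.S0927.result f ω K (Groth.Agent.S5683.isFinLocFree_of_isInvertible hK.1) b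
  obtain ⟨j⟩ : Nonempty (CohB1.tensorMod ((Scheme.Modules.pullback f).obj K) ω ≅
      CohB1.tensorMod ω ((Scheme.Modules.pullback f).obj K)) := by
    rw [← Fga.PicMon.mc_eq_iff, Fga.PicMon.mc_tensor, Fga.PicMon.mc_tensor, mul_comm]
  exact (Fga.PicMon.hmapEquiv k Z (i ≪≫ (Coh.Rpush f b).mapIso j) c).toEquiv.subsingleton

end Groth.Agent.S16898
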