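import Groth.Statements.S16899
import Groth.Agent.Vanish.K621.ReiderNef

set_option autoImplicit false
universe u
open CategoryTheory CategoryTheory.Limits AlgebraicGeometry
open Vanish

namespace Groth.Agent.S16899

/-- Let k be an algebraically closed field of characteristic zero and S an irreducible proper smooth
k-scheme of dimension 2 with an ample invertible O_S-module (a non-singular projective surface); let
p be a closed point of S and L a numerically effective invertible O_S-module (non-negative degree on
every integral curve in S) with tensor inverse L⁻¹, such that c_1(L)² > 4 (self-intersection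
computed as the alternating sum of Euler characteristics attached to two copies of L⁻¹) and c_1(L)·C
> 1 for every integral one-dimensional closed subscheme C ⊆ S containing p. Then for ω a second
exterior power of Ω_{S/k} there is a global section σ of L ⊗ ω with σ(p) ≠ 0, i.e. p is not in the
support of the zero scheme of σ. -/
theorem result (k : Type u) [Field k] [IsAlgClosed k] [CharZero k]
    (S : Scheme.{u}) [S.Over (Spec (CommRingCat.of k))] [IsProper (S ↘ Spec (CommRingCat.of k))]
    [Smooth (S ↘ Spec (CommRingCat.of k))] [IrreducibleSpace S] (hdim : topologicalKrullDim S = 2)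
    (H : S.Modules) (hH : CohB1.IsAmple H) (p : S) (hp : IsClosed ({p} : Set S))
    (L Linv : S.Modules) (hL : PicF.IsInvertible L) (hLinv : ClSub.IsInverseOf Linv L)
    (hnef : (∀ (Y : Scheme.{u}) (i : Y ⟶ S) [IsClosedImmersion i], IsIntegral Y → topologicalKrullDim Y = 1 →
      0 ≤ Pic13.curveDeg k (i ≫ (S ↘ Spec (CommRingCat.of k))) ((Scheme.Modules.pullback i).obj L)))
    (hself : 4 < FGA.intNum k S 2 (fun _ : Fin 2 => Linv) (Coh.structureModule S))
    (hp2 : ∀ (Y : Scheme.{u}) (i : Y ⟶ S) [IsClosedImmersion i], IsIntegral Y → topologicalKrullDim Y = 1 →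
      p ∈ Set.range (fun y : Y => i.base y) →
      1 < Pic13.curveDeg k (i ≫ (S ↘ Spec (CommRingCat.of k))) ((Scheme.Modules.pullback i).obj L))
    (ω : S.Modules) (hω : ExtPow.IsExtPow 2 (Omega.sheaf (S ↘ Spec (CommRingCat.of k))) ω) :
    ∃ σ : Coh.structureModule S ⟶ CohB1.tensorMod L ω, p ∉ (PicF2.zeroScheme (CohB1.tensorMod L ω) σ).support := by
  have hInt := K801.Stmt.isIntegral k S
  have hnef' := K801.Stmt.nef k hdim hL hnef
  rw [K801.Stmt.intNum_inv_inv' hdim hL hLinv] at hself
  have hωi : PicF.IsInvertible ω := by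
    have := K801.BlowY.smoothOfRel (k := k) hdim
    exact K455.Canon.isInvertible (S ↘ Spec (CommRingCat.of k)) 2 hω
  by_contra hcon
  push Not at hcon
  obtain ⟨D, hD, hxD, h, -, -⟩ := K801.Reider.main hdim hH hL hnef' (by linarith) hω p hp (fun σ =>
    (Groth.Agent.Pi1C.ZeroScheme.mem_support_iff σ (Fdesc.LocGen.isInvertible_tensorMod hL hωi) p).1 (hcon σ))
  have h2 : 2 ≤ K464.Curves.degOn k S D (Groth.Agent.Grpsch.PicGrp.mk L hL) := by
    refine K621.ReiderNef.le_degOn k hdim hnef' p 2 (fun C hC hpC => ?_) hD hxD
    have hCd : topologicalKrullDim C.subscheme = 1 := (K464.Curves.dim_sub S C).trans hC.dim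
    have h3 := hp2 C.subscheme C.subschemeι hC.integral hCd (by
      have h4 : p ∈ Set.range C.subschemeι := by
        rw [Scheme.IdealSheafData.range_subschemeι]; exact hpC
      exact h4)
    rw [K801.Bridge.curveDeg_eq k hdim.le C.subschemeι hCd hL, K464.Curves.ker_subschemeι] at h3
    linarith
  rw [K464.Curves.degOn_eq_neg_dot k S hD, K464.Base.dot_comm] at h2
  rcases h with ⟨h1, -⟩ | ⟨h1, -⟩ <;> linarith

end Groth.Agent.S16899
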