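import Groth.Statements.S16901
import Groth.Agent.Vanish.K910.Kodaira
import Groth.Agent.S2327

set_option autoImplicit false
universe u
open CategoryTheory CategoryTheory.Limits AlgebraicGeometry
open Vanish

namespace Groth.Agent.S16901

open Groth.Agent Groth.Agent.Fga Groth.Agent.Fga.PicMon Groth.Agent.Fga.RegSec K910.HZ K910.Growth K910.Kodaira

/-- Let k be an algebraically closed field and X an integral proper k-scheme of dimension n with an
ample invertible O_X-module (a projective variety, not assumed non-singular), and let L be an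
invertible O_X-module. The Iitaka dimension of L is n, in the growth form the text adopts as its
working definition (for some ν > 0 there is a constant a > 0 with μ^n ≤ a · dim_k H^0(X, L^⊗νμ) for
all μ ≥ 1), if and only if for some ν > 0 there are an ample invertible module A and a monomorphism
A → L^⊗ν (that is, L^⊗ν(−C) is ample for some effective divisor C). -/
theorem result (k : Type u) [Field k] [IsAlgClosed k]
    (X : Scheme.{u}) [X.Over (Spec (CommRingCat.of k))] [IsIntegral X] [IsProper (X ↘ Spec (CommRingCat.of k))]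
    (n : ℕ) (hn : topologicalKrullDim X = n) (H : X.Modules) (hH : CohB1.IsAmple H)
    (L : X.Modules) (hL : PicF.IsInvertible L) :
    (∃ ν a : ℕ, 0 < ν ∧ 0 < a ∧ ∀ μ : ℕ, 1 ≤ μ →
        μ ^ n ≤ a * Module.finrank k (Coh.HH X (CohB1.tensorPow L (ν * μ)) 0)) ↔
      ∃ (ν : ℕ) (A : X.Modules) (φ : A ⟶ CohB1.tensorPow L ν), 0 < ν ∧ CohB1.IsAmple A ∧ Mono φ := by
  have hHZ : ∀ m, Module.finrank k (Coh.HH X (CohB1.tensorPow L m) 0) = HZ k X (mc L ^ m) := by
    intro m
    rw [← mc_tensorPow, HZ_mc]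
  simp only [hHZ]
  constructor
  · rintro ⟨ν, a, hν, ha, hgrow⟩
    have := HypSec.isNoetherian k X
    have := HypSec.isSeparated k X
    obtain ⟨j, B, hB, s, hs0⟩ : ∃ (j : ℕ) (B : X.Modules) (_ : B = CohB1.tensorPow H (j + 1))
        (s : Coh.structureModule X ⟶ B), s ≠ 0 := by
      obtain ⟨j, s, hs, -⟩ := S2324.result X H hH {genericPoint X} (Set.finite_singleton _) ⊤
        (fun x _ => TopologicalSpace.Opens.mem_top x)
      refine ⟨j, _, rfl, s, ?_⟩
      rintro rfl
      have h1 : genericPoint X ∈ CohB1.genLocus (CohB1.tensorPow H (j + 1)) 0 := hs rfl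
      rw [Ega2.FiniteSet.genLocus_zero] at h1
      exact h1
    have hBi : PicF.IsInvertible B := hB ▸ Fdesc.LocGen.isInvertible_tensorPow hH.1 _
    have hBa : CohB1.IsAmple B := hB ▸ (S2327.result X H hH.1 (j + 1) (Nat.succ_pos j)).1 hH
    obtain ⟨B', hB', hBB'⟩ := exists_inv hBi
    obtain ⟨μ₀, hμ₀⟩ := exists_pos k n hn hH hL hBi hB' hBB' s hs0 hν ha hgrow
    set μ := μ₀ + 1 with hμ
    have h1 := hμ₀ μ (Nat.le_succ _)
    have hN : PicF.IsInvertible (CohB1.tensorMod (CohB1.tensorPow L (ν * μ)) B') :=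
      Fdesc.LocGen.isInvertible_tensorMod (Fdesc.LocGen.isInvertible_tensorPow hL _) hB'
    obtain ⟨t, ht⟩ := HodgeSec.exists_section (k := k)
      (L := CohB1.tensorMod (CohB1.tensorPow L (ν * μ)) B') (by
        rw [← HZ_mc, mc_tensor, mc_tensorPow]
        exact h1)
    have hm := HodgeSec.mono_mulS hN hBi t ht
    obtain ⟨e⟩ := (mc_eq_iff (CohB1.tensorMod (CohB1.tensorMod (CohB1.tensorPow L (ν * μ)) B') B)
      (CohB1.tensorPow L (ν * μ))).1 (by
        rw [mc_tensor, mc_tensor, mul_assoc, hBB', mul_one])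
    exact ⟨ν * μ, B, mulS t B ≫ e.hom, by positivity, hBa, mono_comp _ _⟩
  · rintro ⟨ν, A, φ, hν, hA, hφ⟩
    exact lower_of_mono k n hn hL hν hA φ hφ

end Groth.Agent.S16901
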