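import Groth.Statements.S16902
import Groth.Agent.Vanish.K661.Rows
import Groth.Agent.Vanish.K910.DescNZ
import Groth.Agent.S17103
import Groth.Agent.Vanish.K909.AltFinal
import Groth.Agent.Resolve.K284.NodeB

set_option autoImplicit false
universe u
open CategoryTheory CategoryTheory.Limits AlgebraicGeometry
open Vanish

namespace Groth.Agent.S16902

/-- Let k be an algebraically closed field of characteristic zero and X an irreducible proper smooth
k-scheme of dimension n with an ample invertible O_X-module (a projective manifold). Let L be a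
numerically effective invertible O_X-module (non-negative degree on every integral one-dimensional
closed subscheme) with tensor inverse L⁻¹, and let κ₀ be a natural number not exceeding the Iitaka
dimension of L, in the growth form: for some ν > 0 there is a > 0 with μ^κ₀ ≤ a · dim_k H^0(X,
L^⊗νμ) for all μ ≥ 1. Then H^b(X, L⁻¹) = 0 for all b < κ₀. (This is the case of the empty divisor of
the published corollary, whose general form replaces L by L^N(−D) for a normal crossing divisor D
with multiplicities between 1 and N − 1 in the nefness hypothesis.) -/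
theorem result (k : Type u) [Field k] [IsAlgClosed k] [CharZero k]
    (X : Scheme.{u}) [X.Over (Spec (CommRingCat.of k))] [IsProper (X ↘ Spec (CommRingCat.of k))]
    [Smooth (X ↘ Spec (CommRingCat.of k))] [IrreducibleSpace X] (n : ℕ) (hn : topologicalKrullDim X = n)
    (H : X.Modules) (hH : CohB1.IsAmple H) (L Linv : X.Modules) (hL : PicF.IsInvertible L) (hLinv : ClSub.IsInverseOf Linv L)
    (hnef : (∀ (Y : Scheme.{u}) (i : Y ⟶ X) [IsClosedImmersion i], IsIntegral Y → topologicalKrullDim Y = 1 →
      0 ≤ Pic13.curveDeg k (i ≫ (X ↘ Spec (CommRingCat.of k))) ((Scheme.Modules.pullback i).obj L)))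
    (κ₀ : ℕ) (hκ : ∃ ν a : ℕ, 0 < ν ∧ 0 < a ∧ ∀ μ : ℕ, 1 ≤ μ →
        μ ^ κ₀ ≤ a * Module.finrank k (Coh.HH X (CohB1.tensorPow L (ν * μ)) 0))
    (b : ℕ) (hb : b < κ₀) :
    Subsingleton (Coh.HH X Linv b) := by
  have ev : K660.KolUp.EV k := fun X _ _ _ _ n hn H hH L Linv hL hLinv N hN r D hD α hα h μ b =>
    Groth.Agent.S17103.result k X n hn H hH L Linv hL hLinv N hN D hD α hα h μ b
  exact K661.Rows.s16902 (K909.AltFinal.alt k (K284.NodeB.nodeB k)) (K910.DescNZ.desc k) ev X n hn H hH L Linv hL hLinv hnef κ₀ hκ b hb

end Groth.Agent.S16902
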