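import Groth.Statements.S16903
import Groth.Agent.Vanish.K910.NoGrowth
import Groth.Agent.Vanish.K909.NefIff
import Groth.Agent.PosLin.K931.NakC

set_option autoImplicit false
universe u
open CategoryTheory CategoryTheory.Limits AlgebraicGeometry
open Vanish

namespace Groth.Agent.S16903

open Groth.Agent.Fga Groth.Agent.Fga.PicMon K910.HZ K910.IL K910.Nef K910.Growth K910.NoGrowth

/-- Let k be an algebraically closed field of characteristic zero and X an irreducible proper smooth
k-scheme of dimension n with an ample invertible O_X-module (a projective manifold); let L be a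
numerically effective invertible O_X-module with tensor inverse L⁻¹ and m a natural number such that
c_1(L)^m is numerically trivial, i.e. the intersection number (L^m · V) = ∫ c_1(L)^m [O_V] vanishes
for every integral closed subscheme V ⊆ X of dimension m. Then κ(L) < m, in the growth form: there
are no ν > 0 and a > 0 with μ^m ≤ a · dim_k H^0(X, L^⊗νμ) for all μ ≥ 1. (This expresses ν(L) ≥
κ(L); only the characteristic-zero case is stated.) -/
theorem result (k : Type u) [Field k] [IsAlgClosed k] [CharZero k]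
    (X : Scheme.{u}) [X.Over (Spec (CommRingCat.of k))] [IsProper (X ↘ Spec (CommRingCat.of k))]
    [Smooth (X ↘ Spec (CommRingCat.of k))] [IrreducibleSpace X] (n : ℕ) (hn : topologicalKrullDim X = n)
    (H : X.Modules) (hH : CohB1.IsAmple H) (L Linv : X.Modules) (hL : PicF.IsInvertible L) (hLinv : ClSub.IsInverseOf Linv L)
    (hnef : (∀ (Y : Scheme.{u}) (i : Y ⟶ X) [IsClosedImmersion i], IsIntegral Y → topologicalKrullDim Y = 1 →
      0 ≤ Pic13.curveDeg k (i ≫ (X ↘ Spec (CommRingCat.of k))) ((Scheme.Modules.pullback i).obj L)))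
    (m : ℕ) (hm : (∀ (V : Scheme.{u}) (i : V ⟶ X) [IsClosedImmersion i], IsIntegral V → topologicalKrullDim V = (m : ℕ) →
      FGA.intNum k X n (fun _ : Fin m => Linv) ((Scheme.Modules.pushforward i).obj (Coh.structureModule V)) = 0)) :
    ¬ (∃ ν a : ℕ, 0 < ν ∧ 0 < a ∧ ∀ μ : ℕ, 1 ≤ μ →
        μ ^ m ≤ a * Module.finrank k (Coh.HH X (CohB1.tensorPow L (ν * μ)) 0)) := by
  have hNoeth := IntAdd.isNoetherian k X
  have hne : Nonempty X := inferInstance
  have hLi : PicF.IsInvertible Linv := by
    obtain ⟨e⟩ := hLinv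
    exact IntAdd.isInvertible_of_tensor (Ega2.Tens.swap L Linv ≪≫ e)
  have hLL' : mc Linv * mc L = 1 := by
    rw [← mc_tensor, ← mc_one]
    exact (mc_eq_iff _ _).2 hLinv
  obtain ⟨H', hH', hHH'⟩ := exists_inv hH.1
  have hHZ : ∀ m, Module.finrank k (Coh.HH X (CohB1.tensorPow L m) 0) = HZ k X (mc L ^ m) := by
    intro m
    rw [← mc_tensorPow, HZ_mc]
  simp only [hHZ]
  have hN : NefA (mc H') (mc Linv) := by
    refine ⟨inv_mc hLi, fun ν hν => ⟨_, K909.Kleiman.isAmple_tensorPow_tensor k (K931.NakC.nak k) X n hn.le L H hnef hL hH ν, ?_⟩⟩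
    rw [mc_tensor, mc_tensorPow]
    calc mc L ^ ν * mc H * (mc Linv ^ ν * mc H') = (mc Linv * mc L) ^ ν * (mc H' * mc H) := by
          rw [mul_pow]; simp only [mul_assoc, mul_comm, mul_left_comm]
      _ = 1 := by rw [hLL', hHH', one_pow, one_mul]
  refine not_growth k hn.le hH hH' hHH' hL hLi hLL' hN m ?_
  intro V i _ hV hdim
  rw [IL_replicate]
  exact hm V i hV hdim

end Groth.Agent.S16903
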