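import Groth.Statements.S16904
import Groth.Agent.Vanish.K910.NoGrowth

set_option autoImplicit false
universe u
open CategoryTheory CategoryTheory.Limits AlgebraicGeometry
open Vanish

namespace Groth.Agent.S16904

open Groth.Agent.Fga Groth.Agent.Fga.PicMon K910.HZ K910.IL K910.Nef K910.Growth K910.NoGrowth

/-- Let k be an algebraically closed field of characteristic zero and X an irreducible proper smooth
k-scheme of dimension n with an ample invertible O_X-module (a projective manifold); let L be a
semi-ample invertible O_X-module (some L^⊗μ with μ > 0 is globally generated; such L is numerically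
effective) with tensor inverse L⁻¹. Then for every natural number m, c_1(L)^m is numerically trivial
— (L^m · V) = 0 for every integral closed subscheme V ⊆ X of dimension m — if and only if κ(L) < m
in the growth form: there are no ν > 0 and a > 0 with μ^m ≤ a · dim_k H^0(X, L^⊗νμ) for all μ ≥ 1.
(This expresses ν(L) = κ(L) for semi-ample L; characteristic zero only.) -/
theorem result (k : Type u) [Field k] [IsAlgClosed k] [CharZero k]
    (X : Scheme.{u}) [X.Over (Spec (CommRingCat.of k))] [IsProper (X ↘ Spec (CommRingCat.of k))]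
    [Smooth (X ↘ Spec (CommRingCat.of k))] [IrreducibleSpace X] (n : ℕ) (hn : topologicalKrullDim X = n)
    (H : X.Modules) (hH : CohB1.IsAmple H) (L Linv : X.Modules) (hL : PicF.IsInvertible L) (hLinv : ClSub.IsInverseOf Linv L)
    (hsa : ∃ μ : ℕ, 0 < μ ∧ Curv2.IsGloballyGenerated (CohB1.tensorPow L μ))
    (m : ℕ) :
    (∀ (V : Scheme.{u}) (i : V ⟶ X) [IsClosedImmersion i], IsIntegral V → topologicalKrullDim V = (m : ℕ) →
      FGA.intNum k X n (fun _ : Fin m => Linv) ((Scheme.Modules.pushforward i).obj (Coh.structureModule V)) = 0) ↔ ¬ (∃ ν a : ℕ, 0 < ν ∧ 0 < a ∧ ∀ μ : ℕ, 1 ≤ μ →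
        μ ^ m ≤ a * Module.finrank k (Coh.HH X (CohB1.tensorPow L (ν * μ)) 0)) := by
  have hNoeth := IntAdd.isNoetherian k X
  have hne : Nonempty X := inferInstance
  have hLi : PicF.IsInvertible Linv := by
    obtain ⟨e⟩ := hLinv
    exact IntAdd.isInvertible_of_tensor (Ega2.Tens.swap L Linv ≪≫ e)
  have hLL' : mc Linv * mc L = 1 := by
    rw [← mc_tensor, ← mc_one]
    exact (mc_eq_iff _ _).2 hLinv
  obtain ⟨H', hH', hHH'⟩ := exists_inv hH.1
  obtain ⟨μ₀, hμ₀, hgg⟩ := hsa
  have hHZ : ∀ m, Module.finrank k (Coh.HH X (CohB1.tensorPow L m) 0) = HZ k X (mc L ^ m) := by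
    intro m
    rw [← mc_tensorPow, HZ_mc]
  simp only [hHZ]
  constructor
  · intro hm
    refine not_growth k hn.le hH hH' hHH' hL hLi hLL' (nefA_of_gg k hH hHH' hL hLi hLL' hμ₀ hgg) m ?_
    intro V i _ hV hdim
    rw [IL_replicate]
    exact hm V i hV hdim
  · intro hg V i _ hV hdim
    by_contra hne'
    refine hg (growth_of_semiample k hn.le hL hLi hLL' hμ₀ hgg m V i hdim ?_)
    rw [IL_replicate]
    exact hne'

end Groth.Agent.S16904
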