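import Groth.Statements.S16905
import Groth.Agent.Vanish.K88.Row
import Groth.Agent.Vanish.K88.Sat
import Groth.Agent.Vanish.K480.Iit
import Groth.Agent.Resolve.K588.WThm
import Groth.Agent.Resolve.K284.NodeB

set_option autoImplicit false
universe u
open CategoryTheory CategoryTheory.Limits AlgebraicGeometry
open Vanish

namespace Groth.Agent.S16905

/-- Let k be an algebraically closed field of characteristic zero and X an irreducible proper smooth
k-scheme of dimension n with an ample invertible O_X-module (a projective manifold); let N be an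
invertible O_X-module with tensor inverse N⁻¹. The following are equivalent. (a) N is numerically
effective (non-negative degree on every integral one-dimensional closed subscheme) and ν(N) = κ(N):
for some natural number m, the intersection numbers (N^(m+1) · V) vanish for all integral closed
subschemes V of dimension m + 1 while (N^m · V) ≠ 0 for some integral closed V of dimension m, and
for some ν > 0 the dimensions dim_k H^0(X, N^⊗νμ) are bounded below by a positive constant times μ^m
for μ ≥ 1 while no such bound with exponent m + 1 holds for any ν. (b) There are an irreducible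
proper smooth k-scheme Z carrying an ample invertible O_Z-module (a projective manifold) with a
birational k-morphism τ : Z → X (equivalently, a blowing up of X along a nonzero coherent ideal
whose total space is non-singular), an integer μ₀ > 0 and a quasi-coherent ideal I ⊆ O_Z which is an
invertible module (an effective divisor C) such that τ^*(N^⊗μ) ⊗ I is semi-ample (some positive
tensor power globally generated) for every μ > 0 divisible by μ₀. -/
theorem result (k : Type u) [Field k] [IsAlgClosed k] [CharZero k]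
    (X : Scheme.{u}) [X.Over (Spec (CommRingCat.of k))] [IsProper (X ↘ Spec (CommRingCat.of k))]
    [Smooth (X ↘ Spec (CommRingCat.of k))] [IrreducibleSpace X] (n : ℕ) (hn : topologicalKrullDim X = n)
    (H : X.Modules) (hH : CohB1.IsAmple H) (N Ninv : X.Modules) (hN : PicF.IsInvertible N) (hNinv : ClSub.IsInverseOf Ninv N) :
    ((∀ (Y : Scheme.{u}) (i : Y ⟶ X) [IsClosedImmersion i], IsIntegral Y → topologicalKrullDim Y = 1 →
      0 ≤ Pic13.curveDeg k (i ≫ (X ↘ Spec (CommRingCat.of k))) ((Scheme.Modules.pullback i).obj N)) ∧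
      ∃ m : ℕ, ((∀ (V : Scheme.{u}) (i : V ⟶ X) [IsClosedImmersion i], IsIntegral V → topologicalKrullDim V = ((m + 1) : ℕ) →
          FGA.intNum k X n (fun _ : Fin (m + 1) => Ninv) ((Scheme.Modules.pushforward i).obj (Coh.structureModule V)) = 0) ∧ ¬ (∀ (V : Scheme.{u}) (i : V ⟶ X) [IsClosedImmersion i], IsIntegral V → topologicalKrullDim V = ((m) : ℕ) →
          FGA.intNum k X n (fun _ : Fin (m) => Ninv) ((Scheme.Modules.pushforward i).obj (Coh.structureModule V)) = 0)) ∧
        ((∃ ν a : ℕ, 0 < ν ∧ 0 < a ∧ ∀ μ : ℕ, 1 ≤ μ →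
          μ ^ (m) ≤ a * Module.finrank k (Coh.HH X (CohB1.tensorPow N (ν * μ)) 0)) ∧ ¬ (∃ ν a : ℕ, 0 < ν ∧ 0 < a ∧ ∀ μ : ℕ, 1 ≤ μ →
          μ ^ (m + 1) ≤ a * Module.finrank k (Coh.HH X (CohB1.tensorPow N (ν * μ)) 0)))) ↔
    ∃ (Z : Scheme.{u}) (g : Z ⟶ Spec (CommRingCat.of k)) (τ : Z ⟶ X), IsProper g ∧ Smooth g ∧ IrreducibleSpace Z ∧
      (∃ A : Z.Modules, CohB1.IsAmple A) ∧ τ ≫ (X ↘ Spec (CommRingCat.of k)) = g ∧ RadPt.IsBirational τ ∧
      ∃ (μ₀ : ℕ) (I : Z.IdealSheafData), 0 < μ₀ ∧ PicF.IsInvertible (ClSub.idealMod I) ∧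
        ∀ μ : ℕ, 0 < μ → μ₀ ∣ μ → ∃ s : ℕ, 0 < s ∧
          Curv2.IsGloballyGenerated (CohB1.tensorPow
            (CohB1.tensorMod ((Scheme.Modules.pullback τ).obj (CohB1.tensorPow N μ)) (ClSub.idealMod I)) s) := by
  refine K88.Row.row k ?_ ?_ (fun n => K588.WThm.wThm k (K284.NodeB.nodeB k) n) X n hn H hH N Ninv hN hNinv
  · intro X _ _ _ H hH L hL m hg
    obtain ⟨e, he, X', π, h1, h2, h3, H', hH', φ, hφ, hs, E', hE', hO, heq⟩ := K480.Iit.iit k X hH hL m hg
    exact ⟨e, X', π, H', φ, E', hE', hO, he, h1, h2, h3, hH', hs, hφ, heq⟩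
  · intro X Y _ _ _ _ _ _ ψ _ hconn
    exact K88.Sat.sat ψ fun z _ => hconn z

end Groth.Agent.S16905
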