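import Groth.Statements.S16907
import Groth.Agent.Vanish.K912.KolFin
-- import your own Groth.Agent.* helpers here

set_option autoImplicit false
universe u
open CategoryTheory CategoryTheory.Limits AlgebraicGeometry
open Vanish

namespace Groth.Agent.S16907

/-- Let k be an algebraically closed field of characteristic zero, X an irreducible proper smooth
k-scheme of dimension n with an ample invertible O_X-module and Z an integral proper k-scheme with
an ample invertible O_Z-module (so f below is a surjective morphism of projective varieties with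
non-singular source); let f : X → Z be a surjective k-morphism, ω an n-th exterior power of Ω_{X/k},
and L a numerically effective invertible O_X-module with tensor inverse L⁻¹ such that ν(L) = κ(L) —
for some natural number m, (L^(m+1) · V) = 0 for all integral closed V of dimension m + 1 while (L^m
· V) ≠ 0 for some integral closed V of dimension m, and dim_k H^0(X, L^⊗νμ) is bounded below by a
positive multiple of μ^m for some ν > 0 and all μ ≥ 1 but admits no such bound with exponent m + 1 —
and such that some L^⊗μ with μ > 0 receives a monomorphism from f^*𝓗 for an ample invertible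
O_Z-module 𝓗. Then H^c(Z, R^b f_*(ω ⊗ L)) = 0 for every b and every c > 0. (Case of the empty
divisor of the published statement.) -/
theorem result (k : Type u) [Field k] [IsAlgClosed k] [CharZero k]
    (X : Scheme.{u}) [X.Over (Spec (CommRingCat.of k))] [IsProper (X ↘ Spec (CommRingCat.of k))]
    [Smooth (X ↘ Spec (CommRingCat.of k))] [IrreducibleSpace X] (n : ℕ) (hn : topologicalKrullDim X = n)
    (HX : X.Modules) (hHX : CohB1.IsAmple HX)
    (Z : Scheme.{u}) [Z.Over (Spec (CommRingCat.of k))] [IsIntegral Z] [IsProper (Z ↘ Spec (CommRingCat.of k))]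
    (HZ : Z.Modules) (hHZ : CohB1.IsAmple HZ)
    (f : X ⟶ Z) (hf : f ≫ (Z ↘ Spec (CommRingCat.of k)) = X ↘ Spec (CommRingCat.of k)) [Surjective f]
    (ω : X.Modules) (hω : ExtPow.IsExtPow n (Omega.sheaf (X ↘ Spec (CommRingCat.of k))) ω)
    (L Linv : X.Modules) (hL : PicF.IsInvertible L) (hLinv : ClSub.IsInverseOf Linv L)
    (hnef : (∀ (Y : Scheme.{u}) (i : Y ⟶ X) [IsClosedImmersion i], IsIntegral Y → topologicalKrullDim Y = 1 →
      0 ≤ Pic13.curveDeg k (i ≫ (X ↘ Spec (CommRingCat.of k))) ((Scheme.Modules.pullback i).obj L)))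
    (hgood : ∃ m : ℕ, ((∀ (V : Scheme.{u}) (i : V ⟶ X) [IsClosedImmersion i], IsIntegral V → topologicalKrullDim V = ((m + 1) : ℕ) →
          FGA.intNum k X n (fun _ : Fin (m + 1) => Linv) ((Scheme.Modules.pushforward i).obj (Coh.structureModule V)) = 0) ∧ ¬ (∀ (V : Scheme.{u}) (i : V ⟶ X) [IsClosedImmersion i], IsIntegral V → topologicalKrullDim V = ((m) : ℕ) →
          FGA.intNum k X n (fun _ : Fin (m) => Linv) ((Scheme.Modules.pushforward i).obj (Coh.structureModule V)) = 0)) ∧ ((∃ ν a : ℕ, 0 < ν ∧ 0 < a ∧ ∀ μ : ℕ, 1 ≤ μ →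
          μ ^ (m) ≤ a * Module.finrank k (Coh.HH X (CohB1.tensorPow L (ν * μ)) 0)) ∧ ¬ (∃ ν a : ℕ, 0 < ν ∧ 0 < a ∧ ∀ μ : ℕ, 1 ≤ μ →
          μ ^ (m + 1) ≤ a * Module.finrank k (Coh.HH X (CohB1.tensorPow L (ν * μ)) 0))))
    (hcont : ∃ (μ : ℕ) (Ha : Z.Modules) (φ : (Scheme.Modules.pullback f).obj Ha ⟶ CohB1.tensorPow L μ), 0 < μ ∧ CohB1.IsAmple Ha ∧ Mono φ)
    [HasInjectiveResolutions X.Modules] (b c : ℕ) (hc : 0 < c) :
    Subsingleton (Coh.HH Z ((Coh.Rpush f b).obj (CohB1.tensorMod ω L)) c) :=
  Vanish.K912.KolRows.row16907 k (Vanish.K912.KolFin.kolvD k) (K909.AltThm.alt k) (Vanish.K912.KolFin.dlem k) (K31.GoodIit.iit k) X n hn HX hHX Z HZ hHZ f hf ω hω L Linv hL hLinv hnef hgood hcont b c hc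

end Groth.Agent.S16907
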