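import Groth.Statements.S16909
import Groth.Agent.CurvesC.GGSec
import Groth.Agent.PerfA.IdealModule
import Groth.Agent.PerfA.FGIdeal
import Mathlib.AlgebraicGeometry.QuasiAffine

set_option autoImplicit false
universe u
open CategoryTheory CategoryTheory.Limits AlgebraicGeometry
open ResProp

namespace Groth.Agent.S16909

open Groth.Agent.CohqB.QC2 Groth.Agent.CohqB.FiniteType2 Groth.Agent.PerfA Groth.Agent.CurvesC.GGSec

/-- Around every point of `X` there is an affine open of the form `X_s`. -/
theorem exists_basicOpen (X : Scheme.{u}) [CompactSpace X]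
    [QuasiSeparatedSpace X] (h : ∀ M : X.Modules, Coh.IsQCoh M → Curv2.IsGloballyGenerated M) (x : X) :
    ∃ r : Γ(X, ⊤), IsAffineOpen (X.basicOpen r) ∧ x ∈ X.basicOpen r := by
  obtain ⟨U, hU, hxU, -⟩ := exists_isAffineOpen_mem_and_subset (X := X) (x := x) (U := ⊤) trivial
  obtain ⟨J, hJfg, hJV, hJ, -⟩ := FGIdeal.exists_fg_of_isCompact U hU.isCompact
  obtain ⟨ι, e, he⟩ := exists_sections_of_isGloballyGenerated (h (ClSub.idealMod J) inferInstance)
  have hspan := spanOn_eq_top (M := ClSub.idealMod J) (e := e) inferInstance he hU
  obtain ⟨m, hm⟩ := IdealModule.exists_val_eq J ⟨U, hU⟩ (a := 1) (by rw [hJV ⟨U, hU⟩ le_rfl]; trivial)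
  have hle : ∀ i, X.basicOpen (IdealModule.val J (e i)) ≤ U := by
    intro i z hz
    obtain ⟨A, hA, hzA, -⟩ := exists_isAffineOpen_mem_and_subset (X := X) (x := z) (U := ⊤) trivial
    refine hJ ⟨A, hA⟩ _ (IdealModule.val_mem J ⟨A, hA⟩ (res _ (le_top : A ≤ ⊤) (e i))) ?_
    rw [IdealModule.val_res]
    change z ∈ X.basicOpen ((X.presheaf.map (homOfLE (le_top : A ≤ ⊤)).op) (IdealModule.val J (e i)))
    rw [Scheme.basicOpen_res]
    exact ⟨hzA, hz⟩
  have hx : ∃ i, x ∈ X.basicOpen (IdealModule.val J (e i)) := by
    by_contra hcon
    push Not at hcon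
    have h1 : ∀ t ∈ spanOn (ClSub.idealMod J) e U, x ∉ X.basicOpen (IdealModule.val J t) := by
      intro t ht
      unfold spanOn at ht
      induction ht using Submodule.span_induction with
      | mem t ht =>
        obtain ⟨i, rfl⟩ := ht
        rw [IdealModule.val_res]
        change x ∉ X.basicOpen ((X.presheaf.map (homOfLE (le_top : U ≤ ⊤)).op) (IdealModule.val J (e i)))
        rw [Scheme.basicOpen_res]
        exact fun h => hcon i h.2
      | zero => rw [IdealModule.val_zero, Scheme.basicOpen_zero]; exact fun h => h
      | add s t _ _ ihs iht =>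
        intro hst
        have h2 : IdealModule.val J (s + t) = IdealModule.val J s + IdealModule.val J t :=
          map_add (appLinear (ClSub.idealModι J) U) s t
        rw [h2] at hst
        rcases (Scheme.basicOpen_add_le X _ _ hst) with h | h
        · exact ihs h
        · exact iht h
      | smul a t _ iht =>
        rw [IdealModule.val_smul, Scheme.basicOpen_mul]
        exact fun h => iht h.2
    refine h1 m (by rw [hspan]; trivial) ?_
    rw [hm, X.basicOpen_of_isUnit isUnit_one]
    exact hxU
  obtain ⟨i, hi⟩ := hx
  refine ⟨_, ?_, hi⟩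
  have h2 : X.basicOpen (IdealModule.val J (e i)) =
      X.basicOpen (X.presheaf.map (homOfLE (le_top : U ≤ ⊤)).op (IdealModule.val J (e i))) := by
    rw [Scheme.basicOpen_res]
    exact (inf_eq_right.mpr (hle i)).symm
  rw [h2]
  exact hU.basicOpen _

/-- Let `X` be a quasi-compact and quasi-separated scheme on which every quasi-coherent module is
globally generated (a quotient of a free module on some index type, i.e. the structure sheaf is a
generating family). Then `X` is quasi-affine. No separatedness hypothesis is made; it follows. (The
published statement is for an algebraic stack over an algebraic space with affine stabilizer groups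
at closed points and concludes that it is representable by a quasi-affine morphism; that general
case rests on results outside this text, and this row is the final step of its proof, the case of a
scheme.) -/
theorem result (X : Scheme.{u}) [CompactSpace X]
    [QuasiSeparatedSpace X] (h : ∀ M : X.Modules, Coh.IsQCoh M → Curv2.IsGloballyGenerated M) :
    X.IsQuasiAffine :=
  Scheme.IsQuasiAffine.of_forall_exists_mem_basicOpen X (exists_basicOpen X h)

end Groth.Agent.S16909
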