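import Groth.Statements.S16912
import Groth.Agent.ResProp.EF.K799.Last5
import Groth.Agent.ResProp.EF.K90.StmtGen

set_option autoImplicit false
universe u
open CategoryTheory CategoryTheory.Limits AlgebraicGeometry
open ResProp

namespace Groth.Agent.S16912

/-- For algebraic stacks, let `S` be an affine scheme and `𝒳` an algebraic stack over `S` (fppf
topology) that is quasi-compact and has affine diagonal over `S` (the diagonal is representable by
algebraic spaces and affine; over an affine base this is the absolute condition of the text). Then
every quasi-coherent module `M` on `𝒳` is a quotient of a flat quasi-coherent module: there are a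
quasi-coherent `F`, flat at every object (all stalks of every restriction `F_ξ` are flat), and a
morphism `F ⟶ M` surjective on sections over every object whose scheme is affine. (The case of
schemes is stated separately in this collection; this is the statement for stacks.) -/
theorem result (S : Scheme.{u}) [IsAffine S]
    (𝒳 : AlgSt.Cat S) (h𝒳 : AlgSt.IsAlgStack Scheme.fppfPrecoverage 𝒳) (hqc : AlgSt.IsQuasiCompact 𝒳)
    (hΔ : AlgSt.RepByAlgSpWith AlgSp.IsAffineMor (FibCat.diag (FibCat.toSelf 𝒳)))
    (M : StMod.QCoh 𝒳) :
    ∃ (F : StMod.QCoh 𝒳) (q : F ⟶ M),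
      (∀ ξ : 𝒳.obj, FlatMod.IsFlat (F.obj.obj ξ)) ∧ StMod.Mod.IsSurj q.hom := by
  exact Groth.Agent.ResProp.EF.K799.result_of_prod Groth.Agent.ResProp.EF.K90.stmtProd S 𝒳 h𝒳 hqc hΔ M

end Groth.Agent.S16912
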