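import Groth.Statements.S16913
import Groth.Agent.ResProp.K863.ResX
import Groth.Agent.ResProp.K863.QuotDiagConv
import Groth.Agent.AlgSt.K744.TorsProp
import Groth.Agent.AlgSt.K744.QuotFib

set_option autoImplicit false
universe u
open CategoryTheory CategoryTheory.Limits AlgebraicGeometry MonoidalCategory
open ResProp

namespace Groth.Agent.S16913

theorem isAffineMor_yon_map {S : Scheme.{u}} {U V : Over S} (f : U ⟶ V) (hf : IsAffineHom f.left) :
    AlgSp.IsAffineMor ((AlgSp.yon S).map f) := by
  intro Z hZ g
  obtain ⟨g, rfl⟩ := (AlgSp.yon S).map_surjective g
  refine ⟨pullback f g, pullback.snd f g, (AlgSp.yon S).map (pullback.fst f g),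
    (IsPullback.of_hasPullback f g).map (AlgSp.yon S), ?_⟩
  have sq := (IsPullback.of_hasPullback f g).map (Over.forget S)
  have h1 : IsAffineHom (pullback.snd f g).left :=
    MorphismProperty.of_isPullback (P := @IsAffineHom) sq hf
  have h2 : IsAffine Z.left := hZ
  exact isAffine_of_isAffineHom (pullback.snd f g).left

/-- Over an affine base scheme `S`, let `G` be a group scheme over `S`, affine, flat and locally of
finite presentation over `S`, and `X` a scheme quasi-compact and quasi-separated over `S` with an
action of `G`. If the quotient stack `[X/G]` (fppf `G`-torsors given as schemes, with an equivariant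
map to `X`) has the resolution property — its locally free quasi-coherent modules of finite type
form a generating family: two morphisms of quasi-coherent modules `M ⟶ N` on `[X/G]` that agree
after composition with every morphism from such a module into `M` are equal — then the scheme `X`
has the resolution property: every quasi-coherent module of finite type on `X` is a quotient of a
finite locally free module. (The published statement is over an algebraic stack `S` with `G → S`
quasi-affine and concerns the resolution property relative to `S`; over an affine base the relative
notion is the absolute one, and `G` is taken affine here.) -/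
theorem result (S : Scheme.{u}) [IsAffine S]
    (G : Over S) [GrpObj G] [IsAffineHom G.hom] [Flat G.hom] [LocallyOfFinitePresentation G.hom]
    (X : Over S) [QuasiCompact X.hom] [QuasiSeparated X.hom] (aX : AlgGrp.Action G X)
    (h : ∀ (M N : StMod.QCoh (AlgSt.QuotSt Scheme.fppfPrecoverage G aX)) (a b : M ⟶ N),
      (∀ E : StMod.QCoh (AlgSt.QuotSt Scheme.fppfPrecoverage G aX),
        E.obj.IsLocFree → E.obj.IsFinType → ∀ φ : E ⟶ M, φ ≫ a = φ ≫ b) → a = b) :
    PerfAux.HasResolutionProperty X.left := by
  have : CompactSpace X.left := (quasiCompact_iff_compactSpace X.hom).1 inferInstance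
  refine K863.ResX.hasResolutionProperty K744.QuotFib.isFibGrpd (p := K744.QuotFp.chart Scheme.fppfPrecoverage G aX) ?_ h
  refine K908.Aff.isAff_of_repByAlgSpWith K744.QuotFib.isFibGrpd _ ?_
  refine K744.TorsProp.repByAlgSpWith_chart _ fun A => ?_
  exact isAffineMor_yon_map A.π (K744.TorsProp.isAffineHom_of_torsor A)

end Groth.Agent.S16913
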