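import Groth.Statements.S16914
import Groth.Agent.ResProp.K863.GeomMono
import Groth.Agent.IsoNat.K862.Isom
import Groth.Agent.AlgSt.K738.LftDiag
import Groth.Agent.AlgSt.K734.Boot
import Groth.Agent.S10104

set_option autoImplicit false
set_option backward.isDefEq.respectTransparency false
set_option backward.isDefEq.respectTransparency.types false
universe u
open CategoryTheory CategoryTheory.Limits AlgebraicGeometry
open ResProp

namespace Groth.Agent.S16914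

section aux

open Opposite AlgSp K862 K862.Fib K862.Yon

variable {S : Scheme.{u}} {𝒳 : AlgSt.Cat S}

/-- Automorphisms of objects over a scheme mapping to the spectrum of an algebraically closed field
are trivial. -/
def Triv (𝒳 : AlgSt.Cat S) : Prop :=
  ∀ (k : Type u) [Field k] [IsAlgClosed k] (x : 𝒳.obj)
    (_ : (𝒳.p.obj x).left ≅ Spec (CommRingCat.of k))
    (ξ : 𝒳.obj) (_ : ξ ⟶ x) (σ : ξ ⟶ ξ), 𝒳.p.map σ = 𝟙 (𝒳.p.obj ξ) → σ = 𝟙 ξ

theorem sec_eq_of_triv (hX : FibCat.IsFibGrpd 𝒳.p) (H : Triv 𝒳) {T : Over S} (s : 𝒳.p.Fiber T)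
    {F : Sp S} (R : IsomRep s s F) (k : Type u) [Field k] [IsAlgClosed k]
    (str : Spec (.of k) ⟶ S) (t : Over.mk str ⟶ T) (W : Over S) (w : W ⟶ Over.mk str)
    (σ τ : F.obj.obj (op W)) (hσ : R.π.hom.app (op W) σ = ⟨w ≫ t⟩)
    (hτ : R.π.hom.app (op W) τ = ⟨w ≫ t⟩) : σ = τ := by
  obtain ⟨g, z, p, q, hp, hq, rfl⟩ := R.sec_surj σ
  obtain ⟨g', z', p', q', hp', hq', rfl⟩ := R.sec_surj τ
  rw [R.sec_π] at hσ hτ
  obtain rfl : g = w ≫ t := congrArg ULift.down hσ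
  obtain rfl : g' = w ≫ t := congrArg ULift.down hτ
  rw [R.sec_eq_iff]
  let θ : z ⟶ z' := cmpHom (w ≫ t) p p'
  have hθ : 𝒳.p.IsHomLift (w ≫ t) (θ.1 ≫ q') := IsHomLift.comp_lift_id_left 𝒳.p _ q' θ.1
  let β : z ⟶ z := cmpHom (w ≫ t) (θ.1 ≫ q') q
  refine ⟨θ, cmp_comp (w ≫ t) p p', ?_⟩
  have h1 : β.1 ≫ q = θ.1 ≫ q' := cmp_comp (w ≫ t) (θ.1 ≫ q') q
  have h2 : β.1 = 𝟙 z.1 := by
    refine H k (pull t s).1 ?_ z.1 (fill 𝒳.p t w rfl (pullHom t s) q) β.1 ?_
    · exact eqToIso (congrArg (fun Y : Over S => Y.left) (pull t s).2)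
    · have h3 := IsHomLift.fac' 𝒳.p (𝟙 W) β.1
      rw [h3]
      obtain ⟨z, rfl⟩ := z
      simp
  rw [← h1, h2, Category.id_comp]

theorem aut_eq_one (h𝒳 : AlgSt.IsAlgStack Scheme.fppfPrecoverage 𝒳) (H : Triv 𝒳) {T : Over S}
    (s : 𝒳.p.Fiber T) (α : s ⟶ s) : α = 𝟙 s := by
  have hX : FibCat.IsFibGrpd 𝒳.p := h𝒳.isStack.1
  obtain ⟨F, R, hR⟩ := exists_isomRep s s (K738.Lft.repByAlgSpWith_lft_diag_toSelf h𝒳)
  let a (α : s ⟶ s) : (yon S).obj T ⟶ F.obj :=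
    (J S).uliftYonedaEquiv.symm (R.isoSec (𝟙 T) (𝟙 s.1) (𝟙 s.1) (𝟙 s : s ⟶ s).2 (𝟙 s : s ⟶ s).2 α)
  have ha (α : s ⟶ s) : a α ≫ R.π = 𝟙 _ := by
    apply (J S).uliftYonedaEquiv.injective
    rw [GrothendieckTopology.uliftYonedaEquiv_comp, Equiv.apply_symm_apply, R.isoSec_π]
    rfl
  have hm : Mono R.π := by
    refine K863.GeomMono.mono_of_geom F.property hR (ha (𝟙 s)) ?_
    intro k _ _ str t W w b c hb hc
    apply (J S).uliftYonedaEquiv.injective
    refine sec_eq_of_triv hX H s R k str t W w _ _ ?_ ?_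
    · have := congrArg (J S).uliftYonedaEquiv hb
      rw [GrothendieckTopology.uliftYonedaEquiv_comp] at this
      exact this
    · have := congrArg (J S).uliftYonedaEquiv hc
      rw [GrothendieckTopology.uliftYonedaEquiv_comp] at this
      exact this
  have h1 : a α = a (𝟙 s) := by
    rw [← cancel_mono R.π, ha, ha]
  exact R.isoSec_inj _ _ _ _ _ ((J S).uliftYonedaEquiv.symm.injective h1)

theorem isFibSetoid (h𝒳 : AlgSt.IsAlgStack Scheme.fppfPrecoverage 𝒳) (H : Triv 𝒳) :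
    FibCat.IsFibSetoid 𝒳.p := by
  refine ⟨h𝒳.isStack.1, fun U A B => ⟨fun f g => ?_⟩⟩
  have hX : FibCat.IsFibGrpd 𝒳.p := h𝒳.isStack.1
  have := aut_eq_one h𝒳 H A (f ≫ inv g)
  rw [← Category.id_comp g, ← this, Category.assoc, IsIso.inv_hom_id, Category.comp_id]

end aux

/-- Let `𝒳` be an algebraic stack over `S` (fppf topology) whose diagonal is representable by algebraic
spaces, separated and quasi-compact. Then `𝒳` is representable by an algebraic space over `S` if and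
only if its stabilizer groups vanish at all geometric points: whenever `x` is an object of `𝒳` whose
scheme is the spectrum of an algebraically closed field, `ξ` an object with a morphism to `x` (a
pullback of `x` to some scheme) and `σ` an endomorphism of `ξ` lying over the identity, `σ` is the
identity. -/
theorem result (S : Scheme.{u}) (𝒳 : AlgSt.Cat S)
    (h𝒳 : AlgSt.IsAlgStack Scheme.fppfPrecoverage 𝒳)
    (hΔ : AlgSt.RepByAlgSpWith (AlgSp.IsSeparatedMor ⊓ AlgSp.IsQuasiCompactMor) (FibCat.diag (FibCat.toSelf 𝒳))) :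
    AlgSt.RepByAlgSp 𝒳 ↔
      ∀ (k : Type u) [Field k] [IsAlgClosed k] (x : 𝒳.obj) (e : (𝒳.p.obj x).left ≅ Spec (CommRingCat.of k))
        (ξ : 𝒳.obj) (φ : ξ ⟶ x) (σ : ξ ⟶ ξ), 𝒳.p.map σ = 𝟙 (𝒳.p.obj ξ) → σ = 𝟙 ξ := by
  rw [← K734.Rep.isFibSetoid_iff_repByAlgSp (Groth.Agent.S10104.result S) h𝒳]
  constructor
  · intro h k _ _ x e ξ φ σ hσ
    exact K734.Fib.eq_of_setoid h (hσ.trans (𝒳.p.map_id ξ).symm)
  · intro H
    exact isFibSetoid h𝒳 (fun k _ _ x e ξ φ σ hσ => H k x e ξ φ σ hσ)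

end Groth.Agent.S16914
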