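import Groth.Statements.S16917
import Groth.Agent.Variety.K432.CountDecomp

set_option autoImplicit false
open CategoryTheory AlgebraicGeometry
universe u
open Variety

namespace Groth.Agent.S16917

/-- Let k be an uncountable algebraically closed field, X a k-scheme of finite type and Z₀, Z₁, …
countably many closed subsets of X. Then the countable union of the Zₙ, read through closed points,
has a unique irredundant decomposition: there is exactly one countable family S of irreducible
closed subsets of X, pairwise not contained in one another, such that a closed point of X lies in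
some member of S if and only if it lies in some Zₙ. (The published statement is the existence and
uniqueness of the irredundant decomposition of a countable union of algebraic varieties into
c-components, a variety being read through its closed points; with all points of the scheme the
uniqueness would not need the uncountable field.) -/
theorem result (k : Type u) [Field k] [IsAlgClosed k]
    [Uncountable k] (X : Scheme.{u}) (sX : X ⟶ Spec (CommRingCat.of k)) [LocallyOfFiniteType sX]
    [QuasiCompact sX] (Z : ℕ → TopologicalSpace.Closeds X) :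
    ∃! S : Set (TopologicalSpace.Closeds X), S.Countable ∧ (∀ T ∈ S, IsIrreducible (T : Set X)) ∧
      IsAntichain (· ≤ ·) S ∧
      {x : X | IsClosed ({x} : Set X) ∧ ∃ T ∈ S, x ∈ T} =
        {x : X | IsClosed ({x} : Set X) ∧ ∃ n, x ∈ Z n} := by
  have hN : AlgebraicGeometry.IsNoetherian X := by
    have : IsLocallyNoetherian X := LocallyOfFiniteType.isLocallyNoetherian sX
    have : CompactSpace X := by
      have := QuasiCompact.compactSpace_of_compactSpace sX
      exact this
    exact { }
  -- the family of all components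
  have hdec : ∀ n, ∃ S : Set (TopologicalSpace.Closeds X), S.Finite ∧
      (∀ t ∈ S, IsIrreducible (t : Set X)) ∧ Z n = sSup S := fun n =>
    TopologicalSpace.NoetherianSpace.exists_finite_set_closeds_irreducible (Z n)
  choose D hDfin hDirr hDsup using hdec
  let C : Set (TopologicalSpace.Closeds X) := ⋃ n, D n
  have hCirr : ∀ T ∈ C, IsIrreducible (T : Set X) := by
    intro T hT
    obtain ⟨n, hn⟩ := Set.mem_iUnion.mp hT
    exact hDirr n T hn
  have hCc : C.Countable := Set.countable_iUnion fun n => (hDfin n).countable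
  have hmem : ∀ n x, x ∈ Z n ↔ ∃ T ∈ D n, x ∈ T := by
    intro n x
    rw [hDsup n]
    constructor
    · intro hx
      have h1 : ((sSup (D n) : TopologicalSpace.Closeds X) : Set X) = ⋃ T ∈ D n, (T : Set X) := by
        rw [TopologicalSpace.Closeds.coe_sSup]
        have h3 : IsClosed (⋃₀ ((fun T : TopologicalSpace.Closeds X => (T : Set X)) '' (D n))) := by
          rw [Set.sUnion_image]
          exact (hDfin n).isClosed_biUnion fun T _ => T.isClosed
        rw [h3.closure_eq, Set.sUnion_image]
      have h2 : x ∈ ((sSup (D n) : TopologicalSpace.Closeds X) : Set X) := hx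
      rw [h1] at h2
      simpa using h2
    · rintro ⟨T, hT, hx⟩
      exact (le_sSup hT : T ≤ sSup (D n)) hx
  let S : Set (TopologicalSpace.Closeds X) := {M | M ∈ C ∧ ∀ T' ∈ C, M ≤ T' → T' = M}
  have hSset : {x : X | IsClosed ({x} : Set X) ∧ ∃ T ∈ S, x ∈ T} =
        {x : X | IsClosed ({x} : Set X) ∧ ∃ n, x ∈ Z n} := by
    ext x
    constructor
    · rintro ⟨hx, T, ⟨hTC, -⟩, hxT⟩
      obtain ⟨n, hn⟩ := Set.mem_iUnion.mp hTC
      exact ⟨hx, n, (hmem n x).mpr ⟨T, hn, hxT⟩⟩
    · rintro ⟨hx, n, hxn⟩
      obtain ⟨T, hT, hxT⟩ := (hmem n x).mp hxn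
      obtain ⟨M, hM, hTM, hmax⟩ := K432.CountDecomp.exists_le_maximal C hCirr T (Set.mem_iUnion.mpr ⟨n, hT⟩)
      exact ⟨hx, M, ⟨hM, hmax⟩, hTM hxT⟩
  refine ⟨S, ⟨hCc.mono fun _ h => h.1, fun T hT => hCirr T hT.1, ?_, hSset⟩, ?_⟩
  · intro M hM M' hM' hne hle
    exact hne (hM.2 M' hM'.1 hle).symm
  · rintro S' ⟨hS'c, hS'irr, hS'anti, hS'set⟩
    have hset : {x : X | IsClosed ({x} : Set X) ∧ ∃ T ∈ S', x ∈ T} =
        {x : X | IsClosed ({x} : Set X) ∧ ∃ T ∈ S, x ∈ T} := hS'set.trans hSset.symm
    have hSc : S.Countable := hCc.mono fun _ h => h.1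
    have hSirr : ∀ T ∈ S, IsIrreducible (T : Set X) := fun T hT => hCirr T hT.1
    have hSanti : IsAntichain (· ≤ ·) S := by
      intro M hM M' hM' hne hle
      exact hne (hM.2 M' hM'.1 hle).symm
    have key : ∀ (A B : Set (TopologicalSpace.Closeds X)), A.Countable → B.Countable →
        (∀ T ∈ A, IsIrreducible (T : Set X)) → (∀ T ∈ B, IsIrreducible (T : Set X)) →
        IsAntichain (· ≤ ·) A →
        {x : X | IsClosed ({x} : Set X) ∧ ∃ T ∈ A, x ∈ T} =
          {x : X | IsClosed ({x} : Set X) ∧ ∃ T ∈ B, x ∈ T} → A ⊆ B := by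
      intro A B hA hB hAi hBi hAa hAB T hT
      obtain ⟨T', hT', hTT'⟩ := K432.CountDecomp.exists_le_of_closedPoints sX T (hAi T hT) B hB (by
        intro x hxT hx
        have : x ∈ {x : X | IsClosed ({x} : Set X) ∧ ∃ T ∈ A, x ∈ T} := ⟨hx, T, hT, hxT⟩
        rw [hAB] at this
        exact this.2)
      obtain ⟨T'', hT'', hT'T''⟩ := K432.CountDecomp.exists_le_of_closedPoints sX T' (hBi T' hT') A hA (by
        intro x hxT hx
        have : x ∈ {x : X | IsClosed ({x} : Set X) ∧ ∃ T ∈ B, x ∈ T} := ⟨hx, T', hT', hxT⟩
        rw [← hAB] at this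
        exact this.2)
      have h1 : T = T'' := by
        by_contra hne
        exact hAa hT hT'' hne (hTT'.trans hT'T'')
      have h2 : T = T' := le_antisymm hTT' (h1 ▸ hT'T'')
      rw [h2]
      exact hT'
    exact Set.Subset.antisymm (key S' S hS'c hSc hS'irr hSirr hS'anti hset)
      (key S S' hSc hS'c hSirr hS'irr hSanti hset.symm)

end Groth.Agent.S16917
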