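import Groth.Statements.S16918
import Groth.Agent.GrpSch.K270.SubIrr

set_option autoImplicit false
universe u
open CategoryTheory MonoidalCategory CartesianMonoidalCategory MonObj GrpObj AlgebraicGeometry
open GrpSch
open Groth.Agent.Books.AlgPts K270.SubIrr TopologicalSpace

namespace Groth.Agent.S16918

/-- Let k be an uncountable algebraically closed field, A an abelian variety over k (a proper,
geometrically integral group scheme over k) and K a subgroup of the group of k-points of A (sections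
of A over Spec k, a group through the group structure of A) which is the trace of a countable union
of closed subsets: a k-point belongs to K exactly when its image point lies in some Zₙ. Call an
irreducible closed subset T of A admissible when every k-point whose image lies in T belongs to K.
Then there is exactly one maximal admissible T containing the image of the neutral element; that T
is contained in some Zₙ, and the k-points landing in T are closed under x, y ↦ x·y⁻¹, so that T is a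
closed irreducible subgroup variety of A lying in one of the Zₙ. (The published statement says that
the irredundant decomposition of K has a unique component through 0 and that it is an abelian
subvariety; the maximal admissible subsets are exactly the components of that decomposition, each of
which lies in some Zₙ, and this containment is the part of the conclusion that uses the
uncountability of k.) -/
theorem result (k : Type u)
    [Field k] [IsAlgClosed k] [Uncountable k] (A : Over (Spec (CommRingCat.of k))) [GrpObj A]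
    [IsProper A.hom] [GeometricallyIntegral A.hom]
    (K : Subgroup (𝟙_ (Over (Spec (CommRingCat.of k))) ⟶ A))
    (Z : ℕ → TopologicalSpace.Closeds ↥A.left)
    (hK : ∀ x : 𝟙_ (Over (Spec (CommRingCat.of k))) ⟶ A,
      x ∈ K ↔ Set.range ⇑x.left.base ⊆ ⋃ n, (Z n : Set ↥A.left)) :
    (∃! T : TopologicalSpace.Closeds ↥A.left,
      Maximal (fun T : TopologicalSpace.Closeds ↥A.left => IsIrreducible (T : Set ↥A.left) ∧
        ∀ x : 𝟙_ (Over (Spec (CommRingCat.of k))) ⟶ A, Set.range ⇑x.left.base ⊆ (T : Set ↥A.left) → x ∈ K) T ∧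
      Set.range ⇑(1 : 𝟙_ (Over (Spec (CommRingCat.of k))) ⟶ A).left.base ⊆ (T : Set ↥A.left)) ∧
    ∀ T : TopologicalSpace.Closeds ↥A.left,
      Maximal (fun T : TopologicalSpace.Closeds ↥A.left => IsIrreducible (T : Set ↥A.left) ∧
        ∀ x : 𝟙_ (Over (Spec (CommRingCat.of k))) ⟶ A, Set.range ⇑x.left.base ⊆ (T : Set ↥A.left) → x ∈ K) T →
      Set.range ⇑(1 : 𝟙_ (Over (Spec (CommRingCat.of k))) ⟶ A).left.base ⊆ (T : Set ↥A.left) →
      (∃ n, (T : Set ↥A.left) ⊆ (Z n : Set ↥A.left)) ∧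
      ∀ x y : 𝟙_ (Over (Spec (CommRingCat.of k))) ⟶ A,
        Set.range ⇑x.left.base ⊆ (T : Set ↥A.left) → Set.range ⇑y.left.base ⊆ (T : Set ↥A.left) →
        Set.range ⇑(x * y⁻¹).left.base ⊆ (T : Set ↥A.left) := by
  simp only [range_subset_iff]
  have hK' : ∀ x : 𝟙_ (Over (Spec (CommRingCat.of k))) ⟶ A, x ∈ K ↔ ∃ n, pt x ∈ Z n := by
    intro x
    rw [hK, range_subset_iff]
    simp
  have hsep : IsSeparated A.hom := inferInstance
  let P : Closeds A.left → Prop := fun T => IsIrreducible (T : Set A.left) ∧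
    ∀ x : 𝟙_ (Over (Spec (CommRingCat.of k))) ⟶ A, pt x ∈ (T : Set A.left) → x ∈ K
  have hN : IsLocallyNoetherian A.left := LocallyOfFiniteType.isLocallyNoetherian A.hom
  -- the difference of two admissible subsets
  have hdiff : ∀ T₁ T₂, P T₁ → P T₂ → ∃ D, P D ∧
      (∀ x y : 𝟙_ (Over (Spec (CommRingCat.of k))) ⟶ A, pt x ∈ T₁ → pt y ∈ T₂ → pt (x * y⁻¹) ∈ D) := by
    intro T₁ T₂ h₁ h₂
    obtain ⟨D, hD, hD'⟩ := exists_diff A T₁ T₂ h₁.1 h₂.1
    refine ⟨D, ⟨hD, fun z hz => ?_⟩, fun x y hx hy => (hD' _).mpr ⟨x, y, hx, hy, rfl⟩⟩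
    obtain ⟨x, y, hx, hy, rfl⟩ := (hD' z).mp hz
    exact K.mul_mem (h₁.2 x hx) (K.inv_mem (h₂.2 y hy))
  -- the point subset
  let T0 : Closeds A.left := ⟨{pt (1 : 𝟙_ (Over (Spec (CommRingCat.of k))) ⟶ A)}, isClosed_pt _⟩
  have hT0 : P T0 := by
    refine ⟨isIrreducible_singleton, fun x hx => ?_⟩
    have : x = 1 := pt_injective hx
    rw [this]
    exact K.one_mem
  have hle : ∀ (T D : Closeds A.left), (∀ x : 𝟙_ (Over (Spec (CommRingCat.of k))) ⟶ A, pt x ∈ T → pt x ∈ D) →
      T ≤ D := by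
    intro T D h
    exact subset_of_forall_pt (X := A) T.isClosed.isLocallyClosed D.isClosed h
  -- negation
  have hneg : ∀ T, P T → ∃ D, P D ∧
      (∀ y : 𝟙_ (Over (Spec (CommRingCat.of k))) ⟶ A, pt y ∈ T → pt (y⁻¹) ∈ D) := by
    intro T hT
    obtain ⟨D, hD, hD'⟩ := hdiff T0 T hT0 hT
    refine ⟨D, hD, fun y hy => ?_⟩
    have := hD' 1 y rfl hy
    rwa [_root_.one_mul] at this
  -- an upper bound of two admissible subsets through the origin
  have hub : ∀ T₁ T₂, P T₁ → P T₂ → pt (1 : 𝟙_ (Over (Spec (CommRingCat.of k))) ⟶ A) ∈ T₁ →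
      pt (1 : 𝟙_ (Over (Spec (CommRingCat.of k))) ⟶ A) ∈ T₂ → ∃ D, P D ∧ T₁ ≤ D ∧ T₂ ≤ D := by
    intro T₁ T₂ h₁ h₂ h1 h2
    obtain ⟨E, hE, hE'⟩ := hneg T₂ h₂
    obtain ⟨D, hD, hD'⟩ := hdiff T₁ E h₁ hE
    refine ⟨D, hD, hle _ _ fun x hx => ?_, hle _ _ fun x hx => ?_⟩
    · have := hD' x _ hx (hE' 1 h2)
      rwa [_root_.inv_inv, _root_.mul_one] at this
    · have := hD' 1 _ h1 (hE' x hx)
      rwa [_root_.inv_inv, _root_.one_mul] at this
  have hmaxeq : ∀ T₁ T₂, Maximal P T₁ → Maximal P T₂ →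
      pt (1 : 𝟙_ (Over (Spec (CommRingCat.of k))) ⟶ A) ∈ T₁ →
      pt (1 : 𝟙_ (Over (Spec (CommRingCat.of k))) ⟶ A) ∈ T₂ → T₁ = T₂ := by
    intro T₁ T₂ h₁ h₂ h1 h2
    obtain ⟨D, hD, hD1, hD2⟩ := hub T₁ T₂ h₁.1 h₂.1 h1 h2
    rw [h₁.eq_of_le hD hD1, h₂.eq_of_le hD hD2]
  constructor
  · obtain ⟨M, hM, hM0, hM'⟩ := K432.CountDecomp.exists_le_maximal {T | P T} (fun T hT => hT.1) T0 hT0
    have hMmax : Maximal P M := ⟨hM, fun T hT hle' => (hM' T hT hle').le⟩
    refine ⟨M, ⟨hMmax, hM0 rfl⟩, fun T hT => ?_⟩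
    exact hmaxeq T M hT.1 hMmax hT.2 (hM0 rfl)
  · intro T hT h1
    constructor
    · obtain ⟨T', ⟨n, rfl⟩, hT'⟩ := K432.CountDecomp.exists_le_of_closedPoints A.hom T hT.1.1 (Set.range Z)
        (Set.countable_range Z) (fun x hx hxc => by
          obtain ⟨x', rfl⟩ := exists_pt x hxc
          obtain ⟨n, hn⟩ := (hK' x').mp (hT.1.2 x' hx)
          exact ⟨Z n, ⟨n, rfl⟩, hn⟩)
      exact ⟨n, hT'⟩
    · intro x y hx hy
      obtain ⟨D, hD, hD'⟩ := hdiff T T hT.1 hT.1
      have h2 : T ≤ D := by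
        refine hle _ _ fun x hx => ?_
        have := hD' x 1 hx h1
        rwa [inv_one, _root_.mul_one] at this
      have h3 : T = D := hT.eq_of_le hD h2
      have := hD' x y hx hy
      rwa [← h3] at this

end Groth.Agent.S16918
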