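import Groth.Statements.S16919
import Mathlib.FieldTheory.IsAlgClosed.Classification
import Mathlib.RingTheory.AlgebraicIndependent.TranscendenceBasis
import Mathlib.RingTheory.Flat.Basic
import Mathlib.RingTheory.TensorProduct.Basic
import Mathlib.RingTheory.FiniteStability

set_option autoImplicit false
universe u
open TensorProduct
open CAlg

namespace Groth.Agent.S16919

open Cardinal in
theorem eq_of_add {a b c : Cardinal.{u}} (ha : a < ℵ₀) (hc : ℵ₀ ≤ c) (h : a + b = c) : b = c := by
  have hb : ℵ₀ ≤ b := by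
    by_contra hb
    rw [not_le] at hb
    exact absurd (h ▸ Cardinal.add_lt_aleph0 ha hb) (not_lt.mpr hc)
  rw [← h]
  exact (Cardinal.add_eq_right hb (ha.le.trans hb)).symm

open Cardinal in
theorem eq_of_add' {a b c : Cardinal.{u}} (ha : a < ℵ₀) (hc : ℵ₀ ≤ c) (h : c + a = b) : b = c := by
  rw [← h]
  exact Cardinal.add_eq_left hc (ha.le.trans hc)

/-- Algebraically closed extensions of the same transcendence degree are isomorphic. -/
theorem exists_algEquiv (F K L : Type u) [Field F] [Field K] [Field L] [Algebra F K] [Algebra F L]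
    [IsAlgClosed K] [IsAlgClosed L] (h : Algebra.trdeg F K = Algebra.trdeg F L) :
    ∃ e : K ≃+* L, ∀ r : F, e (algebraMap F K r) = algebraMap F L r := by
  obtain ⟨s, hs⟩ := exists_isTranscendenceBasis F K
  obtain ⟨t, ht⟩ := exists_isTranscendenceBasis F L
  have hcard : Cardinal.mk s = Cardinal.mk t := by
    rw [hs.cardinalMk_eq_trdeg, ht.cardinalMk_eq_trdeg, h]
  obtain ⟨σ⟩ := Cardinal.eq.mp hcard
  let _ := IsAlgClosed.isAlgClosure_of_transcendence_basis _ hs
  let _ := IsAlgClosed.isAlgClosure_of_transcendence_basis _ ht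
  let e₀ : Algebra.adjoin F (Set.range ((↑) : s → K)) ≃ₐ[F] Algebra.adjoin F (Set.range ((↑) : t → L)) :=
    (hs.1.aevalEquiv.symm.trans (MvPolynomial.renameEquiv F σ)).trans ht.1.aevalEquiv
  refine ⟨IsAlgClosure.equivOfEquiv K L e₀.toRingEquiv, fun r => ?_⟩
  rw [IsScalarTower.algebraMap_apply F (Algebra.adjoin F (Set.range ((↑) : s → K))) K,
    IsAlgClosure.equivOfEquiv_algebraMap]
  change algebraMap _ L (e₀ (algebraMap F _ r)) = _
  rw [e₀.commutes, ← IsScalarTower.algebraMap_apply]

theorem abs (k₀ k R₀ Ω : Type u) [Field k₀] [Field k] [IsAlgClosed k] [Field Ω] [IsAlgClosed Ω]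
    [CommRing R₀] [IsDomain R₀] [Algebra k₀ k] [Algebra k₀ R₀] [Algebra.FiniteType k₀ R₀]
    [Algebra k Ω] [Algebra k₀ Ω] [IsScalarTower k₀ k Ω]
    (hκ : Cardinal.aleph0 ≤ Algebra.trdeg k₀ k) (hR : Algebra.trdeg k Ω < Cardinal.aleph0)
    (g₁ : R₀ →ₐ[k₀] Ω) (hg₁ : Function.Injective g₁) (g₂ : R₀ →ₐ[k₀] k)
    (hg₂ : Function.Injective g₂) : ∃ e : Ω ≃+* k, ∀ r, e (g₁ r) = g₂ r := by
  let K₀ := FractionRing R₀
  let f₁ : K₀ →+* Ω := IsFractionRing.lift (g := g₁.toRingHom) hg₁
  let f₂ : K₀ →+* k := IsFractionRing.lift (g := g₂.toRingHom) hg₂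
  have hf₁ : ∀ r : R₀, f₁ (algebraMap R₀ K₀ r) = g₁ r := fun r =>
    IsFractionRing.lift_algebraMap (g := g₁.toRingHom) hg₁ r
  have hf₂ : ∀ r : R₀, f₂ (algebraMap R₀ K₀ r) = g₂ r := fun r =>
    IsFractionRing.lift_algebraMap (g := g₂.toRingHom) hg₂ r
  let _ : Algebra K₀ Ω := f₁.toAlgebra
  let _ : Algebra K₀ k := f₂.toAlgebra
  have t₁ : IsScalarTower k₀ K₀ Ω := by
    apply IsScalarTower.of_algebraMap_eq
    intro c
    change _ = f₁ _
    rw [IsScalarTower.algebraMap_apply k₀ R₀ K₀, hf₁, AlgHom.commutes]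
  have t₂ : IsScalarTower k₀ K₀ k := by
    apply IsScalarTower.of_algebraMap_eq
    intro c
    change _ = f₂ _
    rw [IsScalarTower.algebraMap_apply k₀ R₀ K₀, hf₂, AlgHom.commutes]
  have hK₀ : Algebra.trdeg k₀ K₀ < Cardinal.aleph0 := by
    have h0 : Algebra.trdeg R₀ K₀ = 0 :=
      trdeg_eq_zero_iff.mpr (IsLocalization.isAlgebraic (FractionRing R₀) (nonZeroDivisors R₀))
    rw [← trdeg_add_eq k₀ R₀ (A := K₀), h0, add_zero]
    exact trdeg_lt_aleph0_of_finiteType
  have h1 : Algebra.trdeg K₀ k = Algebra.trdeg k₀ k :=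
    eq_of_add hK₀ hκ (trdeg_add_eq k₀ K₀ (A := k))
  have h2 : Algebra.trdeg k₀ Ω = Algebra.trdeg k₀ k :=
    eq_of_add' hR hκ (trdeg_add_eq k₀ k (A := Ω))
  have h3 : Algebra.trdeg K₀ Ω = Algebra.trdeg k₀ k :=
    eq_of_add hK₀ hκ ((trdeg_add_eq k₀ K₀ (A := Ω)).trans h2)
  obtain ⟨e, he⟩ := exists_algEquiv K₀ Ω k (h3.trans h1.symm)
  refine ⟨e, fun r => ?_⟩
  have h4 := he (algebraMap R₀ K₀ r)
  change e (f₁ _) = f₂ _ at h4
  rw [hf₁, hf₂] at h4
  exact h4

/-- Let k₀ → k be an extension of fields with k algebraically closed and of infinite transcendence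
degree over k₀, R₀ a finitely generated k₀-algebra whose base change R = k ⊗ R₀ is an integral
domain (so Spec R is an integral affine k-scheme of finite type with the model Spec R₀ over k₀), and
P a k-point of Spec R, i.e. a k-algebra homomorphism ev : R → k, lying over the generic point of
Spec R₀, i.e. with ev injective on R₀. Then there is a field isomorphism e from an algebraic closure
of the fraction field of R (the function field of Spec R) onto k such that e(1 ⊗ r) = ev(1 ⊗ r) for
every r in R₀: e extends evaluation at P on R₀. (The published setting has k algebraically closed of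
characteristic zero and of infinite transcendence degree over its prime field, and k₀ the subfield
generated by the coefficients of equations of Spec R, which is finitely generated over the prime
field, so that k has infinite transcendence degree over k₀; only this last property and no
characteristic assumption enter here. The isomorphism is not canonical.) -/
theorem result (k₀ k : Type u)
    [Field k₀] [Field k] [Algebra k₀ k] [IsAlgClosed k] (hinf : ∃ x : ℕ → k, AlgebraicIndependent k₀ x)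
    (R₀ : Type u) [CommRing R₀] [Algebra k₀ R₀] [Algebra.FiniteType k₀ R₀] [IsDomain (k ⊗[k₀] R₀)]
    (ev : k ⊗[k₀] R₀ →ₐ[k] k) (hP : Function.Injective fun r : R₀ => ev (1 ⊗ₜ[k₀] r)) :
    ∃ e : AlgebraicClosure (FractionRing (k ⊗[k₀] R₀)) ≃+* k,
      ∀ r : R₀, e (algebraMap (k ⊗[k₀] R₀) (AlgebraicClosure (FractionRing (k ⊗[k₀] R₀)))
        (1 ⊗ₜ[k₀] r)) = ev (1 ⊗ₜ[k₀] r) := by
  let R := k ⊗[k₀] R₀
  let φ : R₀ →ₐ[k₀] R := Algebra.TensorProduct.includeRight
  have hφ : Function.Injective φ := Algebra.TensorProduct.includeRight_injective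
    (algebraMap k₀ k).injective
  have hdom : IsDomain R₀ := hφ.isDomain φ.toRingHom
  let Ω := AlgebraicClosure (FractionRing R)
  have hRΩ : Function.Injective (algebraMap R Ω) := by
    rw [IsScalarTower.algebraMap_eq R (FractionRing R) Ω]
    exact (algebraMap (FractionRing R) Ω).injective.comp (IsFractionRing.injective R _)
  have hκ : Cardinal.aleph0 ≤ Algebra.trdeg k₀ k := by
    obtain ⟨x, hx⟩ := hinf
    have := hx.lift_cardinalMk_le_trdeg
    simpa using this
  have hfaith : FaithfulSMul R Ω := (faithfulSMul_iff_algebraMap_injective R Ω).mpr hRΩ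
  have hR : Algebra.trdeg k Ω < Cardinal.aleph0 := by
    have h00 : Algebra.IsAlgebraic R (FractionRing R) := IsLocalization.isAlgebraic (FractionRing R) (nonZeroDivisors R)
    have h0 : Algebra.trdeg R Ω = 0 :=
      trdeg_eq_zero_iff.mpr (Algebra.IsAlgebraic.trans R (FractionRing R) Ω)
    rw [← trdeg_add_eq k R (A := Ω), h0, add_zero]
    exact trdeg_lt_aleph0_of_finiteType
  exact abs k₀ k R₀ Ω hκ hR ((IsScalarTower.toAlgHom k₀ R Ω).comp φ) (hRΩ.comp hφ)
    ((ev.restrictScalars k₀).comp φ) hP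

end Groth.Agent.S16919
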