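import Groth.Statements.S16922
import Groth.Agent.BunMod.K319.Fin2
import Groth.Agent.BunMod.K356.ThetaBest
import Groth.Agent.BunMod.K562.ThetaAt

set_option autoImplicit false
attribute [-instance] CategoryTheory.catToReflQuiver
universe u
open CategoryTheory CategoryTheory.Limits AlgebraicGeometry MonoidalCategory CartesianMonoidalCategory MonObj
open Jac

namespace Groth.Agent.S16922

/-- Let k be an algebraically closed field of characteristic zero and X a smooth proper geometrically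
connected curve over k (topological dimension one) of genus g ≥ 2 (the text works over the complex
numbers). Let J, with ψ, be the Jacobian of X: a commutative k-group scheme which, on all k-schemes,
is a coarse moduli scheme for line bundles of degree zero on X modulo twisting from the base and
whose group law is the tensor product of line bundles. Let N be an invertible O_X-module of degree g
− 1 and Θ_J an invertible O_J-module inverse to the ideal of the theta locus of N on J (the closure,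
with reduced structure, of the locus of degree-zero classes ξ with H^0(ξ ⊗ N) ≠ 0), so that Θ_J =
O_J(Θ_N); let φ_J identify J with its own fppf dual in such a way that the homomorphism J → J
attached to Θ_J is the identity (the principal polarisation), and let P be an invertible module on J
×_k J whose class is the Poincaré class of this self-duality (the normalised Poincaré bundle). Fix
r, m ≥ 1 and let M₁ = U_X(r,0), M₂ = U_X(m,0), M₃ = U_X(mr,0), with φ₁, φ₂, φ₃, be the moduli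
spaces: k-schemes corepresenting on all k-schemes the functors of families of rank-r (resp. rank-m,
rank-mr), degree-0, slope-semistable vector bundles on X modulo twisting from the base, whose
geometric points are the S-equivalence classes, each with a point over every algebraically closed
field over k. Let Θ₁, Θ₂, Θ₃ be invertible modules on them inverse to the ideals of the respective
theta loci of N (closures of the loci of stable E with H^0(E ⊗ N) ≠ 0), d₁ : M₁ → J and d₂ : M₂ → J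
the determinant morphisms (induced by top exterior powers of families), and τ : M₁ ×_k M₂ → M₃ the
tensor-product morphism: every pair of admissible families over a k-scheme has an admissible tensor
product, and the classifying morphism of a tensor product is the pair of classifying morphisms
followed by τ. Then τ^*Θ₃ ≅ p₁^*(Θ₁^{⊗ m}) ⊗ p₂^*(Θ₂^{⊗ r}) ⊗ (d₁ × d₂)^*P as O-modules on M₁ ×_k M₂
(existence of an isomorphism). -/
theorem result (k : Type u) [Field k] [IsAlgClosed k] [CharZero k]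
    (X : Scheme.{u}) [X.Over (Spec (CommRingCat.of k))]
    [IsProper (X ↘ Spec (CommRingCat.of k))] [Smooth (X ↘ Spec (CommRingCat.of k))]
    [GeometricallyConnected (X ↘ Spec (CommRingCat.of k))] (hdim : topologicalKrullDim ↥X = 1)
    (g : ℕ) (hg : Curv2.genus k X = g) (hg2 : 2 ≤ g)
    (r m : ℕ) (hr : 1 ≤ r) (hm : 1 ≤ m) (N : X.Modules) (hN : PicF.IsInvertible N) (hNdeg : Curv2.deg k X N 1 = (g : ℤ) - 1)
    (J : Over (Spec (CommRingCat.of k))) [GrpObj J] [IsCommMonObj J]
    (ψ : (ModFun.PicDeg (X ↘ Spec (CommRingCat.of k)) 0).Hom ⊤ J) (hJ : Jac.IsJacobian (X ↘ Spec (CommRingCat.of k)) ⊤ J ψ)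
    (ΘJ : J.left.Modules) (hΘJ : Jac.IsThetaLB (X ↘ Spec (CommRingCat.of k)) 0 ψ N ΘJ)
    (φJ : AgPol.DualMap J J) (hsd : Jac.IsSelfDual Scheme.fppfPrecoverage J φJ ΘJ)
    (P : (J ⊗ J).left.Modules) (hP : PicF.IsInvertible P) (hPP : AbDual.IsPoincareCl J J φJ (PicF.cl P))
    (M₁ : Over (Spec (CommRingCat.of k))) (φ₁ : (BunMod.USS (X ↘ Spec (CommRingCat.of k)) r 0).Hom ⊤ M₁)
    (hM₁ : BunMod.IsModSS (X ↘ Spec (CommRingCat.of k)) ⊤ r 0 M₁ φ₁)
    (hne₁ : ∀ (Ω : Type u) [Field Ω] [IsAlgClosed Ω] (t : Spec (CommRingCat.of Ω) ⟶ Spec (CommRingCat.of k)),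
      Nonempty (Over.mk t ⟶ M₁))
    (M₂ : Over (Spec (CommRingCat.of k))) (φ₂ : (BunMod.USS (X ↘ Spec (CommRingCat.of k)) m 0).Hom ⊤ M₂)
    (hM₂ : BunMod.IsModSS (X ↘ Spec (CommRingCat.of k)) ⊤ m 0 M₂ φ₂)
    (hne₂ : ∀ (Ω : Type u) [Field Ω] [IsAlgClosed Ω] (t : Spec (CommRingCat.of Ω) ⟶ Spec (CommRingCat.of k)),
      Nonempty (Over.mk t ⟶ M₂))
    (M₃ : Over (Spec (CommRingCat.of k))) (φ₃ : (BunMod.USS (X ↘ Spec (CommRingCat.of k)) (m * r) 0).Hom ⊤ M₃)
    (hM₃ : BunMod.IsModSS (X ↘ Spec (CommRingCat.of k)) ⊤ (m * r) 0 M₃ φ₃)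
    (hne₃ : ∀ (Ω : Type u) [Field Ω] [IsAlgClosed Ω] (t : Spec (CommRingCat.of Ω) ⟶ Spec (CommRingCat.of k)),
      Nonempty (Over.mk t ⟶ M₃))
    (τ : M₁ ⊗ M₂ ⟶ M₃) (hτ : Jac.IsBinOpMap φ₁ φ₂ φ₃ (Jac.tensorRel (X ↘ Spec (CommRingCat.of k))) τ)
    (d₁ : M₁ ⟶ J) (hd₁ : BunMod.IsDetMap (X ↘ Spec (CommRingCat.of k)) (BunMod.ussOK (X ↘ Spec (CommRingCat.of k)) r 0) φ₁ 0 ψ d₁)
    (d₂ : M₂ ⟶ J) (hd₂ : BunMod.IsDetMap (X ↘ Spec (CommRingCat.of k)) (BunMod.ussOK (X ↘ Spec (CommRingCat.of k)) m 0) φ₂ 0 ψ d₂)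
    (Θ₁ : M₁.left.Modules) (hΘ₁ : BunMod.IsThetaLB (X ↘ Spec (CommRingCat.of k)) (BunMod.ussOK (X ↘ Spec (CommRingCat.of k)) r 0) φ₁ N Θ₁)
    (Θ₂ : M₂.left.Modules) (hΘ₂ : BunMod.IsThetaLB (X ↘ Spec (CommRingCat.of k)) (BunMod.ussOK (X ↘ Spec (CommRingCat.of k)) m 0) φ₂ N Θ₂)
    (Θ₃ : M₃.left.Modules) (hΘ₃ : BunMod.IsThetaLB (X ↘ Spec (CommRingCat.of k)) (BunMod.ussOK (X ↘ Spec (CommRingCat.of k)) (m * r) 0) φ₃ N Θ₃) :
    Nonempty ((Scheme.Modules.pullback τ.left).obj Θ₃ ≅
      CohB1.tensorMod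
        (CohB1.tensorMod ((Scheme.Modules.pullback (fst M₁ M₂).left).obj (CohB1.tensorPow Θ₁ m))
          ((Scheme.Modules.pullback (snd M₁ M₂).left).obj (CohB1.tensorPow Θ₂ r)))
        ((Scheme.Modules.pullback (d₁ ⊗ₘ d₂).left).obj P)) := by
  have hNd : Curv2.deg k X N 1 = (Curv2.genus k X : ℤ) - 1 := by rw [hg]; exact hNdeg
  have hth : ∀ n : ℕ, 1 ≤ n → ∀ (M : Over (K140.BM.B0 k)) (φ : (BunMod.USS (K140.BM.st k X) n 0).Hom ⊤ M),
      ModFun.IsBestApprox ⊤ (BunMod.USS (K140.BM.st k X) n 0) M φ → K319.Main.IsTheta φ N := by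
    intro n hn M φ h
    refine (Groth.Agent.BunMod.K356.ThetaBest.uss hdim hN hNd hn (fun A hs hl => ?_) h).fam
    have := hs
    exact (K562.ThetaAt.facts_uss hdim (by rw [hg]; exact hg2) hN hNd hn A hl).dens
  exact K319.Fin2.main hdim hr hm hN hNd hth hJ hΘJ φJ hsd hP hPP hM₁ hM₂ hM₃ hτ hd₁ hd₂ hΘ₁ hΘ₂ hΘ₃

end Groth.Agent.S16922
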