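import Groth.Statements.S16923
import Groth.Agent.BunMod.K231.Rows
import Groth.Agent.BunMod.K28.Rows

set_option autoImplicit false
attribute [-instance] CategoryTheory.catToReflQuiver
universe u
open CategoryTheory CategoryTheory.Limits AlgebraicGeometry MonoidalCategory CartesianMonoidalCategory MonObj
open BunMod

namespace Groth.Agent.S16923

/-- Let k be an algebraically closed field of characteristic zero and X a smooth proper geometrically
connected curve over k (topological dimension one) of genus g ≥ 2 (the text works over the complex
numbers). Fix r ≥ 2 and let M, with φ, be the moduli space U_X(r,0): a k-scheme corepresenting on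
all k-schemes the functor of families of rank-r, degree-0, slope-semistable vector bundles on X
modulo twisting by a line bundle from the base, whose geometric points are the S-equivalence
classes, and having a point over every algebraically closed field over k; let N be an invertible
O_X-module of degree g − 1 and Θ an invertible O_M-module inverse to the ideal of the theta locus
Θ_N (closure, with reduced structure, of the locus of slope-stable E with H^0(E ⊗ N) ≠ 0), so that Θ
= O(Θ_N); let J, with ψ, be a coarse moduli scheme on all k-schemes for line bundles of degree 0 on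
X (the Jacobian) and det : M → J the determinant morphism, induced by sending a family to its top
exterior power. Then the level-one Verlinde bundle E_{r,1} := det_* Θ satisfies E_{r,1} ⊗ P ≅
E_{r,1} for every invertible O_J-module P whose r-th tensor power is isomorphic to O_J. (The text
states this for the line bundle P_ξ on J attached to an r-torsion degree-zero class ξ of X under the
usual identification of degree-zero classes of X and of J; those are exactly the invertible
O_J-modules with trivial r-th tensor power, a torsion line bundle on an abelian variety being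
algebraically equivalent to zero.) -/
theorem result (k : Type u) [Field k] [IsAlgClosed k] [CharZero k]
    (X : Scheme.{u}) [X.Over (Spec (CommRingCat.of k))]
    [IsProper (X ↘ Spec (CommRingCat.of k))] [Smooth (X ↘ Spec (CommRingCat.of k))]
    [GeometricallyConnected (X ↘ Spec (CommRingCat.of k))] (hdim : topologicalKrullDim ↥X = 1)
    (g : ℕ) (hg : Curv2.genus k X = g) (hg2 : 2 ≤ g)
    (r : ℕ) (hr : 2 ≤ r) (N : X.Modules) (hN : PicF.IsInvertible N) (hNdeg : Curv2.deg k X N 1 = (g : ℤ) - 1)
    (M : Over (Spec (CommRingCat.of k))) (φ : (BunMod.USS (X ↘ Spec (CommRingCat.of k)) r 0).Hom ⊤ M)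
    (hM : BunMod.IsModSS (X ↘ Spec (CommRingCat.of k)) ⊤ r 0 M φ)
    (hne : ∀ (Ω : Type u) [Field Ω] [IsAlgClosed Ω] (t : Spec (CommRingCat.of Ω) ⟶ Spec (CommRingCat.of k)),
      Nonempty (Over.mk t ⟶ M))
    (Θ : M.left.Modules) (hΘ : BunMod.IsThetaLB (X ↘ Spec (CommRingCat.of k)) (BunMod.ussOK (X ↘ Spec (CommRingCat.of k)) r 0) φ N Θ)
    (J : Over (Spec (CommRingCat.of k))) (ψ : (ModFun.PicDeg (X ↘ Spec (CommRingCat.of k)) 0).Hom ⊤ J)
    (hJ : ModFun.IsCoarseModuli ⊤ (ModFun.PicDeg (X ↘ Spec (CommRingCat.of k)) 0) J ψ)
    (dm : M ⟶ J) (hdm : BunMod.IsDetMap (X ↘ Spec (CommRingCat.of k)) (BunMod.ussOK (X ↘ Spec (CommRingCat.of k)) r 0) φ 0 ψ dm)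
    (P : J.left.Modules) (hP : PicF.IsInvertible P)
    (hPr : Nonempty (CohB1.tensorPow P r ≅ Coh.structureModule J.left)) :
    Nonempty (CohB1.tensorMod ((Scheme.Modules.pushforward dm.left).obj Θ) P ≅
      (Scheme.Modules.pushforward dm.left).obj Θ) := by
  exact K231.Rows.row16923 hdim hg hg2 hr hN hNdeg hΘ.1 hJ
    (fun _ _ hJac ΘJ hΘJ => K28.Rows.exists_str k X hdim g hg hg2 r hr N hN hNdeg M φ hM hne Θ hΘ J ψ hJac ΘJ hΘJ dm hdm) P hP hPr

end Groth.Agent.S16923
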