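import Groth.Statements.S16924
import Groth.Agent.BunMod.K231.Rows
import Groth.Agent.BunMod.K28.Rows

set_option autoImplicit false
attribute [-instance] CategoryTheory.catToReflQuiver
universe u
open CategoryTheory CategoryTheory.Limits AlgebraicGeometry MonoidalCategory CartesianMonoidalCategory MonObj
open BunMod

namespace Groth.Agent.S16924

/-- Let k be an algebraically closed field of characteristic zero and X a smooth proper geometrically
connected curve over k (topological dimension one) of genus g ≥ 2 (the text works over the complex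
numbers). Fix r ≥ 2, m ≥ 1 and let M, with φ, be the moduli space U_X(r,0): a k-scheme
corepresenting on all k-schemes the functor of families of rank-r, degree-0, slope-semistable vector
bundles on X modulo twisting by a line bundle from the base, whose geometric points are the
S-equivalence classes, and having a point over every algebraically closed field over k; let N be an
invertible O_X-module of degree g − 1 and Θ an invertible O_M-module inverse to the ideal of the
theta locus Θ_N (closure, with reduced structure, of the locus of slope-stable E with H^0(E ⊗ N) ≠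
0), so that Θ = O(Θ_N); let J, with ψ, be a coarse moduli scheme on all k-schemes for line bundles
of degree 0 on X (the Jacobian) and det : M → J the determinant morphism, induced by top exterior
powers of families. Then the Verlinde bundle E_{r,m} := det_*(Θ^{⊗ m}) satisfies the index condition
with index 0: H^i(J, E_{r,m} ⊗ α) = 0 for every i > 0 and every invertible O_J-module α
algebraically equivalent to zero (deformable to O_J along a connected k-scheme of finite type
through k-points). (The text adds that the Fourier–Mukai transform of E_{r,m} is then a vector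
bundle of rank h^0(U_X(r,0), O(mΘ_N)) with index g; that consequence is not stated here.) -/
theorem result (k : Type u) [Field k] [IsAlgClosed k] [CharZero k]
    (X : Scheme.{u}) [X.Over (Spec (CommRingCat.of k))]
    [IsProper (X ↘ Spec (CommRingCat.of k))] [Smooth (X ↘ Spec (CommRingCat.of k))]
    [GeometricallyConnected (X ↘ Spec (CommRingCat.of k))] (hdim : topologicalKrullDim ↥X = 1)
    (g : ℕ) (hg : Curv2.genus k X = g) (hg2 : 2 ≤ g)
    (r : ℕ) (hr : 2 ≤ r) (m : ℕ) (hm : 1 ≤ m) (N : X.Modules) (hN : PicF.IsInvertible N) (hNdeg : Curv2.deg k X N 1 = (g : ℤ) - 1)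
    (M : Over (Spec (CommRingCat.of k))) (φ : (BunMod.USS (X ↘ Spec (CommRingCat.of k)) r 0).Hom ⊤ M)
    (hM : BunMod.IsModSS (X ↘ Spec (CommRingCat.of k)) ⊤ r 0 M φ)
    (hne : ∀ (Ω : Type u) [Field Ω] [IsAlgClosed Ω] (t : Spec (CommRingCat.of Ω) ⟶ Spec (CommRingCat.of k)),
      Nonempty (Over.mk t ⟶ M))
    (Θ : M.left.Modules) (hΘ : BunMod.IsThetaLB (X ↘ Spec (CommRingCat.of k)) (BunMod.ussOK (X ↘ Spec (CommRingCat.of k)) r 0) φ N Θ)
    (J : Over (Spec (CommRingCat.of k))) (ψ : (ModFun.PicDeg (X ↘ Spec (CommRingCat.of k)) 0).Hom ⊤ J)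
    (hJ : ModFun.IsCoarseModuli ⊤ (ModFun.PicDeg (X ↘ Spec (CommRingCat.of k)) 0) J ψ)
    (dm : M ⟶ J) (hdm : BunMod.IsDetMap (X ↘ Spec (CommRingCat.of k)) (BunMod.ussOK (X ↘ Spec (CommRingCat.of k)) r 0) φ 0 ψ dm)
    (α : J.left.Modules) (hα : PicF.IsInvertible α) (hα0 : @Pic13.IsAlgEquivZero k _ J.left ⟨J.hom⟩ α)
    (i : ℕ) (hi : 0 < i) :
    Subsingleton (Coh.HH J.left
      (CohB1.tensorMod ((Scheme.Modules.pushforward dm.left).obj (CohB1.tensorPow Θ m)) α) i) := by
  exact K231.Rows.row16924 hdim hg hg2 hr hN hNdeg hΘ.1 hJ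
    (fun _ _ hJac ΘJ hΘJ => K28.Rows.exists_str k X hdim g hg hg2 r hr N hN hNdeg M φ hM hne Θ hΘ J ψ hJac ΘJ hΘJ dm hdm) m hm α hα hα0 i hi

end Groth.Agent.S16924
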