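import Groth.Statements.S16925
import Groth.Agent.BunMod.K325.FmDual
import Groth.Agent.BunMod.K596.JB
import Groth.Agent.AbVar.K81.Split
import Groth.Agent.BunMod.K28.Rows
import Groth.Agent.BunMod.K325.ThetaOne

set_option autoImplicit false
attribute [-instance] CategoryTheory.catToReflQuiver CategoryTheory.Limits.hasCoproduct_of_hasBiproduct Groth.Agent.Dcoh.MonInst.hasCoproducts₀ Groth.Agent.Dcoh.MonCx.TensorGood.coprod Groth.Agent.Dcoh.MonCx.TensorGood.zero
universe u
open CategoryTheory CategoryTheory.Limits AlgebraicGeometry MonoidalCategory CartesianMonoidalCategory MonObj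
open BunMod

namespace Groth.Agent.S16925

/-- Let k be an algebraically closed field of characteristic zero and X a smooth proper geometrically
connected curve over k (topological dimension one) of genus g ≥ 2 (the text works over the complex
numbers). Fix r ≥ 2 and N a theta characteristic: an invertible O_X-module of degree g − 1 with N ⊗
N isomorphic to the sheaf of differentials of X over k. Let M, with φ, be the moduli space U_X(r,0):
a k-scheme M, with its classifying morphism, corepresenting on all k-schemes the functor of families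
of rank-r, degree-0, slope-semistable vector bundles on X modulo twisting by a line bundle from the
base, whose geometric points are the S-equivalence classes, and having a point over every
algebraically closed field over k; let Θ be an invertible O_M-module inverse to the ideal of the
theta locus Θ_N (closure, with reduced structure, of the locus of slope-stable E with H^0(E ⊗ N) ≠
0), so Θ = O(Θ_N). Let J, with ψ, be the Jacobian of X: a commutative k-group scheme which, on all
k-schemes, is a coarse moduli scheme for line bundles of degree zero on X modulo twisting from the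
base and whose group law is the tensor product of line bundles; let Θ_J an invertible O_J-module
inverse to the ideal of the theta locus of N on J (closure, with reduced structure, of the locus of
degree-zero classes ξ with H^0(ξ ⊗ N) ≠ 0), so that Θ_J = O_J(Θ_N); let φ_J identify J with its own
fppf dual so that the homomorphism J → J attached to Θ_J is the identity (the principal
polarisation; this is the identification of J with its dual used for all Fourier–Mukai transforms),
and let P be an invertible module on J ×_k J whose class is the Poincaré class of this self-duality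
(the normalised Poincaré bundle); assume, as holds, that the category of O-modules on J ×_k J has
injective resolutions. Let det : M → J be the determinant morphism (induced by top exterior powers
of families) and E_{r,1} := det_* Θ the level-one Verlinde bundle. Then the dual O_J-module of
E_{r,1} is isomorphic to the Fourier–Mukai transform of O_J(rΘ_N), namely R^0 p_{2*}(p_1^*(Θ_J^{⊗
r}) ⊗ P) computed on O-modules (existence of an isomorphism). -/
theorem result (k : Type u) [Field k] [IsAlgClosed k] [CharZero k]
    (X : Scheme.{u}) [X.Over (Spec (CommRingCat.of k))]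
    [IsProper (X ↘ Spec (CommRingCat.of k))] [Smooth (X ↘ Spec (CommRingCat.of k))]
    [GeometricallyConnected (X ↘ Spec (CommRingCat.of k))] (hdim : topologicalKrullDim ↥X = 1)
    (g : ℕ) (hg : Curv2.genus k X = g) (hg2 : 2 ≤ g)
    (r : ℕ) (hr : 2 ≤ r) (N : X.Modules) (hN : PicF.IsInvertible N) (hNdeg : Curv2.deg k X N 1 = (g : ℤ) - 1)
    (hNth : Nonempty (CohB1.tensorMod N N ≅ Omega.sheaf (X ↘ Spec (CommRingCat.of k))))
    (M : Over (Spec (CommRingCat.of k))) (φ : (BunMod.USS (X ↘ Spec (CommRingCat.of k)) r 0).Hom ⊤ M)
    (hM : BunMod.IsModSS (X ↘ Spec (CommRingCat.of k)) ⊤ r 0 M φ)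
    (hne : ∀ (Ω : Type u) [Field Ω] [IsAlgClosed Ω] (t : Spec (CommRingCat.of Ω) ⟶ Spec (CommRingCat.of k)),
      Nonempty (Over.mk t ⟶ M))
    (Θ : M.left.Modules) (hΘ : BunMod.IsThetaLB (X ↘ Spec (CommRingCat.of k)) (BunMod.ussOK (X ↘ Spec (CommRingCat.of k)) r 0) φ N Θ)
    (J : Over (Spec (CommRingCat.of k))) [GrpObj J] [IsCommMonObj J]
    (ψ : (ModFun.PicDeg (X ↘ Spec (CommRingCat.of k)) 0).Hom ⊤ J) (hJ : Jac.IsJacobian (X ↘ Spec (CommRingCat.of k)) ⊤ J ψ)
    (ΘJ : J.left.Modules) (hΘJ : Jac.IsThetaLB (X ↘ Spec (CommRingCat.of k)) 0 ψ N ΘJ)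
    (φJ : AgPol.DualMap J J) (hsd : Jac.IsSelfDual Scheme.fppfPrecoverage J φJ ΘJ)
    (P : (pullback J.hom J.hom).Modules) (hP : PicF.IsInvertible P) (hPP : AbDual.IsPoincareCl J J φJ (PicF.cl P))
    [HasInjectiveResolutions (pullback J.hom J.hom).Modules]
    (dm : M ⟶ J) (hdm : BunMod.IsDetMap (X ↘ Spec (CommRingCat.of k)) (BunMod.ussOK (X ↘ Spec (CommRingCat.of k)) r 0) φ 0 ψ dm) :
    Nonempty (RefHull.dual ((Scheme.Modules.pushforward dm.left).obj Θ) ≅
      (Coh.Rpush (pullback.snd J.hom J.hom) 0).obj
        (CohB1.tensorMod ((Scheme.Modules.pullback (pullback.fst J.hom J.hom)).obj (CohB1.tensorPow ΘJ r)) P)) := by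
  have hA := Groth.Agent.BunMod.K596.JB.ppav k X hdim g hg (by omega) N hN hNdeg J ψ hJ ΘJ hΘJ
  obtain ⟨S⟩ := K28.Rows.exists_str k X hdim g hg hg2 r hr N hN hNdeg M φ hM hne Θ hΘ J ψ hJ
    ΘJ hΘJ dm hdm
  have := hA.proper
  have := hA.gint
  exact K325.FmDual.dual_of_str hA (by omega) hΘ.1 S
    (K325.ThetaOne.main k X hdim g hg hg2 r hr N hN hNdeg M φ hM.2.1 Θ hΘ) hsd hP hPP
    (K81.Split.exists_split hA.dim r (by omega))

end Groth.Agent.S16925
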