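import Groth.Statements.S16926
import Groth.Agent.BunMod.K536.RowS
import Groth.Agent.BunMod.K890.RegFinal
import Groth.Agent.BunMod.K506.SeedMain
import Groth.Agent.BunMod.K977.KsMain
import Groth.Agent.BunMod.K171.Cokd

set_option autoImplicit false
attribute [-instance] CategoryTheory.catToReflQuiver Groth.Agent.Dcoh.MonCx.TensorGood.zero
universe u
open CategoryTheory CategoryTheory.Limits AlgebraicGeometry MonoidalCategory CartesianMonoidalCategory MonObj
open BunMod

namespace Groth.Agent.S16926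

/-- The cokernel data with the local estimate and the seeds. -/
theorem cokernel_data {k : Type u} [Field k] [IsAlgClosed k] [CharZero k]
    {X : Scheme.{u}} [X.Over (Spec (CommRingCat.of k))]
    [IsProper (X ↘ Spec (CommRingCat.of k))] [Smooth (X ↘ Spec (CommRingCat.of k))]
    [GeometricallyConnected (X ↘ Spec (CommRingCat.of k))] (hdim : topologicalKrullDim ↥X = 1)
    {g : ℕ} (hg : Curv2.genus k X = g) (hg2 : 2 ≤ g) {r m : ℕ} (hr : 2 ≤ r) (hm : 2 ≤ m) {N : X.Modules}
    (hN : PicF.IsInvertible N) (hNdeg : Curv2.deg k X N 1 = (g : ℤ) - 1)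
    {J : Over (Spec (CommRingCat.of k))} [GrpObj J] [IsCommMonObj J]
    {ψ : (ModFun.PicDeg (X ↘ Spec (CommRingCat.of k)) 0).Hom ⊤ J} (hJ : Jac.IsJacobian (X ↘ Spec (CommRingCat.of k)) ⊤ J ψ)
    {M₁ : Over (Spec (CommRingCat.of k))} {φ₁ : (BunMod.USS (X ↘ Spec (CommRingCat.of k)) r 0).Hom ⊤ M₁}
    (hM₁ : BunMod.IsModSS (X ↘ Spec (CommRingCat.of k)) ⊤ r 0 M₁ φ₁)
    {d₁ : M₁ ⟶ J} (hd₁ : BunMod.IsDetMap (X ↘ Spec (CommRingCat.of k)) (BunMod.ussOK (X ↘ Spec (CommRingCat.of k)) r 0) φ₁ 0 ψ d₁)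
    (D₀ : X.Modules) (hD₀ : PicF.IsInvertible D₀) (hD₀d : Curv2.deg k X D₀ 1 = m * ((g : ℤ) - 1)) :
    ∃ C : K276.Data k X r m N D₀, K536.Asm.REG (k := k) C.e N r m ∧ K536.Asm.SEED C.e N φ₁ m := by
  have hX : IsIntegral X := K705.Setup.isIntegral_of_geomConn k X
  have hg' : 2 ≤ Curv2.genus k X := by omega
  have hNd : Curv2.deg k X N 1 = (Curv2.genus k X : ℤ) - 1 := by rw [hg]; exact hNdeg
  have hr1 : 1 ≤ r := by omega
  have t := Groth.Agent.BunMod.K356.ThetaFin.uss hdim hg' hN hNd hr1 hM₁.2.1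
  obtain ⟨A₁⟩ := K140.BM.exists_atlasC (X := X) (k := k) hdim hr1
  have I₁ := K319.Fin.inp hdim hJ hr1 hM₁ hd₁ A₁ t.fam
  have := I₁.proper
  have hft : LocallyOfFiniteType M₁.hom := inferInstance
  obtain ⟨C⟩ := K171.Cokd.exists_data (k := k) (X := X) (N := N) (D₀ := D₀) hdim hr1 (by omega : 1 ≤ m) hN hD₀
  exact ⟨C, K890.RegFinal.reg_ks hdim (by omega) (by omega) hg2 hg hN hNdeg hD₀ hD₀d C
    (fun A _ _ _ _ c hV hm' h1 => K977.KsMain.ks hdim.le C A c hV hm' h1),
    K506.SeedMain.seed_of_data hdim hg hN hNdeg hr1 hm hD₀ hD₀d C φ₁ hM₁ t.fam t.eff⟩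

/-- Let k be an algebraically closed field of characteristic zero and X a smooth proper geometrically
connected curve over k (topological dimension one) of genus g ≥ 2 (the text works over the complex
numbers). Fix r, m ≥ 2 and N a theta characteristic: an invertible O_X-module of degree g − 1 with N
⊗ N isomorphic to the sheaf of differentials of X over k. Let J, with ψ, be the Jacobian of X: a
commutative k-group scheme which, on all k-schemes, is a coarse moduli scheme for line bundles of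
degree zero on X modulo twisting from the base and whose group law is the tensor product of line
bundles; let Θ_J an invertible O_J-module inverse to the ideal of the theta locus of N on J
(closure, with reduced structure, of the locus of degree-zero classes ξ with H^0(ξ ⊗ N) ≠ 0), so
that Θ_J = O_J(Θ_N); let φ_J identify J with its own fppf dual so that the homomorphism J → J
attached to Θ_J is the identity (the principal polarisation; this is the identification of J with
its dual used for all Fourier–Mukai transforms), and let P be an invertible module on J ×_k J whose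
class is the Poincaré class of this self-duality (the normalised Poincaré bundle); assume, as holds,
that the category of O-modules on J ×_k J has injective resolutions. Let M₁ = U_X(r,0) and M₂ =
U_X(m,0), with φ₁, φ₂, be the moduli spaces (k-schemes corepresenting on all k-schemes the functors
of families of rank-r, resp. rank-m, degree-0, slope-semistable vector bundles on X modulo twisting
from the base, geometric points the S-equivalence classes, each with a point over every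
algebraically closed field over k), Θ₁, Θ₂ invertible modules on them inverse to the ideals of the
respective theta loci of N, d₁ : M₁ → J and d₂ : M₂ → J the determinant morphisms, and E_{r,m} :=
d₁_*(Θ₁^{⊗ m}), E_{m,r} := d₂_*(Θ₂^{⊗ r}) the Verlinde bundles. Write r_J : J → J for multiplication
by r (the r-th power of the identity in the group of endomorphisms). Then the pull back along r_J of
the dual of E_{r,m} is isomorphic to the pull back along r_J of the Fourier–Mukai transform R^0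
p_{2*}(p_1^* E_{m,r} ⊗ P) of E_{m,r} (existence of an isomorphism of O_J-modules). -/
theorem result (k : Type u) [Field k] [IsAlgClosed k] [CharZero k]
    (X : Scheme.{u}) [X.Over (Spec (CommRingCat.of k))]
    [IsProper (X ↘ Spec (CommRingCat.of k))] [Smooth (X ↘ Spec (CommRingCat.of k))]
    [GeometricallyConnected (X ↘ Spec (CommRingCat.of k))] (hdim : topologicalKrullDim ↥X = 1)
    (g : ℕ) (hg : Curv2.genus k X = g) (hg2 : 2 ≤ g)
    (r m : ℕ) (hr : 2 ≤ r) (hm : 2 ≤ m) (N : X.Modules) (hN : PicF.IsInvertible N) (hNdeg : Curv2.deg k X N 1 = (g : ℤ) - 1)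
    (hNth : Nonempty (CohB1.tensorMod N N ≅ Omega.sheaf (X ↘ Spec (CommRingCat.of k))))
    (J : Over (Spec (CommRingCat.of k))) [GrpObj J] [IsCommMonObj J]
    (ψ : (ModFun.PicDeg (X ↘ Spec (CommRingCat.of k)) 0).Hom ⊤ J) (hJ : Jac.IsJacobian (X ↘ Spec (CommRingCat.of k)) ⊤ J ψ)
    (ΘJ : J.left.Modules) (hΘJ : Jac.IsThetaLB (X ↘ Spec (CommRingCat.of k)) 0 ψ N ΘJ)
    (φJ : AgPol.DualMap J J) (hsd : Jac.IsSelfDual Scheme.fppfPrecoverage J φJ ΘJ)
    (P : (pullback J.hom J.hom).Modules) (hP : PicF.IsInvertible P) (hPP : AbDual.IsPoincareCl J J φJ (PicF.cl P))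
    [HasInjectiveResolutions (pullback J.hom J.hom).Modules]
    (M₁ : Over (Spec (CommRingCat.of k))) (φ₁ : (BunMod.USS (X ↘ Spec (CommRingCat.of k)) r 0).Hom ⊤ M₁)
    (hM₁ : BunMod.IsModSS (X ↘ Spec (CommRingCat.of k)) ⊤ r 0 M₁ φ₁)
    (hne₁ : ∀ (Ω : Type u) [Field Ω] [IsAlgClosed Ω] (t : Spec (CommRingCat.of Ω) ⟶ Spec (CommRingCat.of k)),
      Nonempty (Over.mk t ⟶ M₁))
    (Θ₁ : M₁.left.Modules) (hΘ₁ : BunMod.IsThetaLB (X ↘ Spec (CommRingCat.of k)) (BunMod.ussOK (X ↘ Spec (CommRingCat.of k)) r 0) φ₁ N Θ₁)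
    (d₁ : M₁ ⟶ J) (hd₁ : BunMod.IsDetMap (X ↘ Spec (CommRingCat.of k)) (BunMod.ussOK (X ↘ Spec (CommRingCat.of k)) r 0) φ₁ 0 ψ d₁)
    (M₂ : Over (Spec (CommRingCat.of k))) (φ₂ : (BunMod.USS (X ↘ Spec (CommRingCat.of k)) m 0).Hom ⊤ M₂)
    (hM₂ : BunMod.IsModSS (X ↘ Spec (CommRingCat.of k)) ⊤ m 0 M₂ φ₂)
    (hne₂ : ∀ (Ω : Type u) [Field Ω] [IsAlgClosed Ω] (t : Spec (CommRingCat.of Ω) ⟶ Spec (CommRingCat.of k)),
      Nonempty (Over.mk t ⟶ M₂))
    (Θ₂ : M₂.left.Modules) (hΘ₂ : BunMod.IsThetaLB (X ↘ Spec (CommRingCat.of k)) (BunMod.ussOK (X ↘ Spec (CommRingCat.of k)) m 0) φ₂ N Θ₂)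
    (d₂ : M₂ ⟶ J) (hd₂ : BunMod.IsDetMap (X ↘ Spec (CommRingCat.of k)) (BunMod.ussOK (X ↘ Spec (CommRingCat.of k)) m 0) φ₂ 0 ψ d₂) :
    Nonempty ((Scheme.Modules.pullback ((𝟙 J) ^ r : J ⟶ J).left).obj
        (RefHull.dual ((Scheme.Modules.pushforward d₁.left).obj (CohB1.tensorPow Θ₁ m))) ≅
      (Scheme.Modules.pullback ((𝟙 J) ^ r : J ⟶ J).left).obj
        ((Coh.Rpush (pullback.snd J.hom J.hom) 0).obj
        (CohB1.tensorMod ((Scheme.Modules.pullback (pullback.fst J.hom J.hom)).obj ((Scheme.Modules.pushforward d₂.left).obj (CohB1.tensorPow Θ₂ r))) P))) := by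
  exact K536.RowS.row k X hdim g hg hg2 r m hr hm N hN hNdeg hNth J ψ hJ ΘJ hΘJ φJ hsd P hP hPP M₁ φ₁ hM₁ hne₁ Θ₁ hΘ₁
    d₁ hd₁ M₂ φ₂ hM₂ hne₂ Θ₂ hΘ₂ d₂ hd₂ (cokernel_data hdim hg hg2 hr hm hN hNdeg hJ hM₁ hd₁)
    (cokernel_data hdim hg hg2 hm hr hN hNdeg hJ hM₂ hd₂)

end Groth.Agent.S16926
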