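import Groth.Statements.S16928
import Groth.Agent.BunMod.K442.Rows
import Groth.Agent.BunMod.K28.Rows

set_option autoImplicit false
attribute [-instance] CategoryTheory.catToReflQuiver Groth.Agent.Dcoh.MonCx.TensorGood.zero
universe u
open CategoryTheory CategoryTheory.Limits AlgebraicGeometry MonoidalCategory CartesianMonoidalCategory MonObj
open BunMod

namespace Groth.Agent.S16928

/-- Let k be an algebraically closed field of characteristic zero and X a smooth proper geometrically
connected curve over k (topological dimension one) of genus g ≥ 2 (the text works over the complex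
numbers). Fix r ≥ 1, m ≥ 2 and N a theta characteristic: an invertible O_X-module of degree g − 1
with N ⊗ N isomorphic to the sheaf of differentials of X over k. Let J, with ψ, be the Jacobian of
X: a commutative k-group scheme which, on all k-schemes, is a coarse moduli scheme for line bundles
of degree zero on X modulo twisting from the base and whose group law is the tensor product of line
bundles; let Θ_J an invertible O_J-module inverse to the ideal of the theta locus of N on J
(closure, with reduced structure, of the locus of degree-zero classes ξ with H^0(ξ ⊗ N) ≠ 0), so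
that Θ_J = O_J(Θ_N); let φ_J identify J with its own fppf dual so that the homomorphism J → J
attached to Θ_J is the identity (the principal polarisation; this is the identification of J with
its dual used for all Fourier–Mukai transforms), and let P be an invertible module on J ×_k J whose
class is the Poincaré class of this self-duality (the normalised Poincaré bundle); assume, as holds,
that the category of O-modules on J ×_k J has injective resolutions. Let M₂ = U_X(m,0), with φ₂, be
the moduli space U_X(m,0): a k-scheme M₂, with its classifying morphism, corepresenting on all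
k-schemes the functor of families of rank-m, degree-0, slope-semistable vector bundles on X modulo
twisting by a line bundle from the base, whose geometric points are the S-equivalence classes, and
having a point over every algebraically closed field over k; Θ₂ an invertible O_{M₂}-module inverse
to the ideal of the theta locus of N, d₂ : M₂ → J the determinant morphism and E_{m,r} := d₂_*(Θ₂^{⊗
r}) the Verlinde bundle. Let F := R^g p_{2*}(p_1^*(E_{m,r}^*) ⊗ P) be the Fourier–Mukai transform
(index g) of the dual of E_{m,r}, and let j : X → J be an Abel map of degree zero (the morphism the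
coarse moduli property attaches to a family O(Δ) ⊗ pr_1^*M of degree-zero line bundles on X
parametrised by X; the text allows any embedding of X in J, and its degree computation is the one
for Abel maps). Let E := j^*F be the restriction of F to X. Then E is finite locally free of rank n
= h^0(U_X(m,0), O(rΘ_N)) = dim_k H^0(M₂, Θ₂^{⊗ r}) (the Verlinde number, equal to h^0 of the r-th
power of the determinant bundle on SU_X(m) as the text states it) and its slope is gm/r: deg E · r =
g · m · n (degree computed from Euler characteristics). -/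
theorem result (k : Type u) [Field k] [IsAlgClosed k] [CharZero k]
    (X : Scheme.{u}) [X.Over (Spec (CommRingCat.of k))]
    [IsProper (X ↘ Spec (CommRingCat.of k))] [Smooth (X ↘ Spec (CommRingCat.of k))]
    [GeometricallyConnected (X ↘ Spec (CommRingCat.of k))] (hdim : topologicalKrullDim ↥X = 1)
    (g : ℕ) (hg : Curv2.genus k X = g) (hg2 : 2 ≤ g)
    (r m : ℕ) (hr : 1 ≤ r) (hm : 2 ≤ m) (N : X.Modules) (hN : PicF.IsInvertible N) (hNdeg : Curv2.deg k X N 1 = (g : ℤ) - 1)
    (hNth : Nonempty (CohB1.tensorMod N N ≅ Omega.sheaf (X ↘ Spec (CommRingCat.of k))))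
    (J : Over (Spec (CommRingCat.of k))) [GrpObj J] [IsCommMonObj J]
    (ψ : (ModFun.PicDeg (X ↘ Spec (CommRingCat.of k)) 0).Hom ⊤ J) (hJ : Jac.IsJacobian (X ↘ Spec (CommRingCat.of k)) ⊤ J ψ)
    (ΘJ : J.left.Modules) (hΘJ : Jac.IsThetaLB (X ↘ Spec (CommRingCat.of k)) 0 ψ N ΘJ)
    (φJ : AgPol.DualMap J J) (hsd : Jac.IsSelfDual Scheme.fppfPrecoverage J φJ ΘJ)
    (P : (pullback J.hom J.hom).Modules) (hP : PicF.IsInvertible P) (hPP : AbDual.IsPoincareCl J J φJ (PicF.cl P))
    [HasInjectiveResolutions (pullback J.hom J.hom).Modules]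
    (M₂ : Over (Spec (CommRingCat.of k))) (φ₂ : (BunMod.USS (X ↘ Spec (CommRingCat.of k)) m 0).Hom ⊤ M₂)
    (hM₂ : BunMod.IsModSS (X ↘ Spec (CommRingCat.of k)) ⊤ m 0 M₂ φ₂)
    (hne₂ : ∀ (Ω : Type u) [Field Ω] [IsAlgClosed Ω] (t : Spec (CommRingCat.of Ω) ⟶ Spec (CommRingCat.of k)),
      Nonempty (Over.mk t ⟶ M₂))
    (Θ₂ : M₂.left.Modules) (hΘ₂ : BunMod.IsThetaLB (X ↘ Spec (CommRingCat.of k)) (BunMod.ussOK (X ↘ Spec (CommRingCat.of k)) m 0) φ₂ N Θ₂)
    (d₂ : M₂ ⟶ J) (hd₂ : BunMod.IsDetMap (X ↘ Spec (CommRingCat.of k)) (BunMod.ussOK (X ↘ Spec (CommRingCat.of k)) m 0) φ₂ 0 ψ d₂)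
    (j : Over.mk (X ↘ Spec (CommRingCat.of k)) ⟶ J) (hj : Jac.IsAbelJacobi (X ↘ Spec (CommRingCat.of k)) 0 ψ j) :
    ∃ n : ℕ, FlatMod.IsFinLocFreeOfRank n ((Scheme.Modules.pullback j.left).obj
        ((Coh.Rpush (pullback.snd J.hom J.hom) g).obj
        (CohB1.tensorMod ((Scheme.Modules.pullback (pullback.fst J.hom J.hom)).obj (RefHull.dual ((Scheme.Modules.pushforward d₂.left).obj (CohB1.tensorPow Θ₂ r)))) P))) ∧
      (n : ℤ) = (@Module.finrank k (Coh.HH M₂.left (CohB1.tensorPow Θ₂ r) 0) _ _
        (@Coh.moduleOver k _ M₂.left ⟨M₂.hom⟩ (CohB1.tensorPow Θ₂ r) 0) : ℤ) ∧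
      Curv2.deg k X ((Scheme.Modules.pullback j.left).obj
        ((Coh.Rpush (pullback.snd J.hom J.hom) g).obj
        (CohB1.tensorMod ((Scheme.Modules.pullback (pullback.fst J.hom J.hom)).obj (RefHull.dual ((Scheme.Modules.pushforward d₂.left).obj (CohB1.tensorPow Θ₂ r)))) P))) n * (r : ℤ) = (g : ℤ) * (m : ℤ) * (n : ℤ) := by
  have hstr := K28.Rows.exists_str k X hdim g hg hg2 m hm N hN hNdeg M₂ φ₂ hM₂ hne₂ Θ₂ hΘ₂ J ψ hJ
    ΘJ hΘJ d₂ hd₂
  obtain ⟨n, h1, -, h3, h4⟩ := K442.Rows.rows k X hdim g hg (by omega) r m hr (by omega) N hN hNdeg hNth J ψ hJ ΘJ hΘJ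
    φJ hsd P hP hPP M₂ Θ₂ hΘ₂.1 d₂ hstr j hj
  exact ⟨n, h1, h3, h4⟩

end Groth.Agent.S16928
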