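import Groth.Statements.S16929
import Groth.Agent.BunMod.K28.Rows
import Groth.Agent.BunMod.K596.F1
import Groth.Agent.BunMod.K596.JB
import Groth.Agent.BunMod.K808.Verl

set_option autoImplicit false
attribute [-instance] CategoryTheory.catToReflQuiver Groth.Agent.Dcoh.MonCx.TensorGood.zero
universe u
open CategoryTheory CategoryTheory.Limits AlgebraicGeometry MonoidalCategory CartesianMonoidalCategory MonObj
open BunMod

namespace Groth.Agent.S16929

/-- Let k be an algebraically closed field of characteristic zero and X a smooth proper geometrically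
connected curve over k (topological dimension one) of genus g ≥ 2 (the text works over the complex
numbers). Fix r ≥ 2 and let M, with φ, be the moduli space U_X(r,0): a k-scheme M, with its
classifying morphism, corepresenting on all k-schemes the functor of families of rank-r, degree-0,
slope-semistable vector bundles on X modulo twisting by a line bundle from the base, whose geometric
points are the S-equivalence classes, and having a point over every algebraically closed field over
k; let N be an invertible O_X-module of degree g − 1, Θ an invertible O_M-module inverse to the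
ideal of the theta locus Θ_N (so Θ = O(Θ_N)), J, with ψ, a coarse moduli scheme on all k-schemes for
line bundles of degree 0 on X (the Jacobian), Θ_J an invertible O_J-module inverse to the ideal of
the theta locus of N on J (closure, with reduced structure, of the locus of degree-zero classes ξ
with H^0(ξ ⊗ N) ≠ 0), so that Θ_J = O_J(Θ_N), and det : M → J the determinant morphism (induced by
top exterior powers). Assume the cohomological criterion for global generation on J, which the text
quotes without proof: every finite locally free O_J-module E such that H^i(J, E ⊗ α) = 0 for all i >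
0 and all invertible α algebraically equivalent to zero satisfies that E ⊗ L is globally generated
for every ample invertible O_J-module L. Then the Verlinde bundle E_{r,m} := det_*(Θ^{⊗ m}) is
globally generated (a quotient of a free O_J-module) for every m ≥ r + 1. (The text also asserts the
converse, that E_{r,m} is not globally generated for m ≤ r; that direction is not stated here.) -/
theorem result (k : Type u) [Field k] [IsAlgClosed k] [CharZero k]
    (X : Scheme.{u}) [X.Over (Spec (CommRingCat.of k))]
    [IsProper (X ↘ Spec (CommRingCat.of k))] [Smooth (X ↘ Spec (CommRingCat.of k))]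
    [GeometricallyConnected (X ↘ Spec (CommRingCat.of k))] (hdim : topologicalKrullDim ↥X = 1)
    (g : ℕ) (hg : Curv2.genus k X = g) (hg2 : 2 ≤ g)
    (r : ℕ) (hr : 2 ≤ r) (N : X.Modules) (hN : PicF.IsInvertible N) (hNdeg : Curv2.deg k X N 1 = (g : ℤ) - 1)
    (M : Over (Spec (CommRingCat.of k))) (φ : (BunMod.USS (X ↘ Spec (CommRingCat.of k)) r 0).Hom ⊤ M)
    (hM : BunMod.IsModSS (X ↘ Spec (CommRingCat.of k)) ⊤ r 0 M φ)
    (hne : ∀ (Ω : Type u) [Field Ω] [IsAlgClosed Ω] (t : Spec (CommRingCat.of Ω) ⟶ Spec (CommRingCat.of k)),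
      Nonempty (Over.mk t ⟶ M))
    (Θ : M.left.Modules) (hΘ : BunMod.IsThetaLB (X ↘ Spec (CommRingCat.of k)) (BunMod.ussOK (X ↘ Spec (CommRingCat.of k)) r 0) φ N Θ)
    (J : Over (Spec (CommRingCat.of k))) (ψ : (ModFun.PicDeg (X ↘ Spec (CommRingCat.of k)) 0).Hom ⊤ J)
    (hJ : ModFun.IsCoarseModuli ⊤ (ModFun.PicDeg (X ↘ Spec (CommRingCat.of k)) 0) J ψ)
    (ΘJ : J.left.Modules) (hΘJ : Jac.IsThetaLB (X ↘ Spec (CommRingCat.of k)) 0 ψ N ΘJ)
    (dm : M ⟶ J) (hdm : BunMod.IsDetMap (X ↘ Spec (CommRingCat.of k)) (BunMod.ussOK (X ↘ Spec (CommRingCat.of k)) r 0) φ 0 ψ dm)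
    (hB1 : ∀ (E : J.left.Modules), FlatMod.IsFinLocFree E →
      (∀ (α : J.left.Modules), PicF.IsInvertible α → @Pic13.IsAlgEquivZero k _ J.left ⟨J.hom⟩ α →
        ∀ i : ℕ, 0 < i → Subsingleton (Coh.HH J.left (CohB1.tensorMod E α) i)) →
      ∀ (L : J.left.Modules), CohB1.IsAmple L → Curv2.IsGloballyGenerated (CohB1.tensorMod E L))
    (m : ℕ) (hm : r + 1 ≤ m) :
    Curv2.IsGloballyGenerated ((Scheme.Modules.pushforward dm.left).obj (CohB1.tensorPow Θ m)) := by
  obtain ⟨hgrp, hcomm, hJac⟩ := Groth.Agent.BunMod.K596.JB.exists_isJacobian k X hdim J ψ hJ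
  have hP := Groth.Agent.BunMod.K596.JB.ppav k X hdim g hg (by omega) N hN hNdeg J ψ hJac ΘJ hΘJ
  obtain ⟨S⟩ := K28.Rows.exists_str k X hdim g hg hg2 r hr N hN hNdeg M φ hM hne Θ hΘ J ψ hJac ΘJ
    hΘJ dm hdm
  exact K808.Verl.gg_of_verD hP hB1 (by omega) hm
    (Groth.Agent.BunMod.K596.F1.verD_of_str hP hΘ.1 (by omega) S m)

end Groth.Agent.S16929
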