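import Groth.Statements.S16930
import Groth.Agent.AbVar.K845.Theta
import Groth.Agent.AbDual.K732.RR

set_option autoImplicit false
universe u
open CategoryTheory CategoryTheory.Limits AlgebraicGeometry MonoidalCategory CartesianMonoidalCategory MonObj
open Jac

namespace Groth.Agent.S16930

/-- Let k be an algebraically closed field of characteristic zero and X a smooth proper geometrically
connected curve over k (topological dimension one) of genus g ≥ 2 (the text works over the complex
numbers). Let J, with ψ, be the Jacobian of X: a commutative k-group scheme which, on all k-schemes,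
is a coarse moduli scheme for line bundles of degree zero on X modulo twisting from the base and
whose group law is the tensor product of line bundles; assume J is proper and smooth over k with
geometrically connected structure morphism and has dimension g. Fix r ≥ 1, let N be an invertible
O_X-module of degree g − 1 and Θ_J an invertible O_J-module inverse to the ideal of the theta locus
of N on J (closure, with reduced structure, of the locus of degree-zero classes ξ with H^0(ξ ⊗ N) ≠
0), so that Θ_J = O_J(Θ_N); let φ_J identify J with its own fppf dual so that the homomorphism J → J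
attached to Θ_J is the identity (the principal polarisation; this is the identification of J with
its dual used for all Fourier–Mukai transforms), and let P be an invertible module on J ×_k J whose
class is the Poincaré class of this self-duality (the normalised Poincaré bundle); assume, as holds,
that the category of O-modules on J ×_k J has injective resolutions. Then for every ample invertible
O_J-module H the Fourier–Mukai transform of O_J(rΘ_N), namely the O_J-module R^0 p_{2*}(p_1^*(Θ_J^{⊗
r}) ⊗ P) computed on O-modules, is slope-stable of dimension g with respect to H. -/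
theorem result (k : Type u) [Field k] [IsAlgClosed k] [CharZero k]
    (X : Scheme.{u}) [X.Over (Spec (CommRingCat.of k))]
    [IsProper (X ↘ Spec (CommRingCat.of k))] [Smooth (X ↘ Spec (CommRingCat.of k))]
    [GeometricallyConnected (X ↘ Spec (CommRingCat.of k))] (hdim : topologicalKrullDim ↥X = 1)
    (g : ℕ) (hg : Curv2.genus k X = g) (hg2 : 2 ≤ g)
    (J : Over (Spec (CommRingCat.of k))) [GrpObj J] [IsCommMonObj J]
    (ψ : (ModFun.PicDeg (X ↘ Spec (CommRingCat.of k)) 0).Hom ⊤ J) (hJ : Jac.IsJacobian (X ↘ Spec (CommRingCat.of k)) ⊤ J ψ)
    [IsProper J.hom] [Smooth J.hom] [GeometricallyConnected J.hom] (hJdim : topologicalKrullDim ↥J.left = g)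
    (r : ℕ) (hr : 1 ≤ r) (N : X.Modules) (hN : PicF.IsInvertible N) (hNdeg : Curv2.deg k X N 1 = (g : ℤ) - 1)
    (ΘJ : J.left.Modules) (hΘJ : Jac.IsThetaLB (X ↘ Spec (CommRingCat.of k)) 0 ψ N ΘJ)
    (φJ : AgPol.DualMap J J) (hsd : Jac.IsSelfDual Scheme.fppfPrecoverage J φJ ΘJ)
    (P : (pullback J.hom J.hom).Modules) (hP : PicF.IsInvertible P) (hPP : AbDual.IsPoincareCl J J φJ (PicF.cl P))
    [HasInjectiveResolutions (pullback J.hom J.hom).Modules]
    (H : J.left.Modules) (hH : CohB1.IsAmple H) :
    @ShStab.IsMuStable k _ J.left ⟨J.hom⟩ H
      ((Coh.Rpush (pullback.snd J.hom J.hom) 0).obj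
        (CohB1.tensorMod ((Scheme.Modules.pullback (pullback.fst J.hom J.hom)).obj (CohB1.tensorPow ΘJ r)) P)) g := by
  have hgi := K732.AV.geomInt J
  refine K845.Theta.main g hJdim r hr hΘJ.1 hΘJ.2 hsd P hP hPP ?_ ?_ H hH
  · intro c hf d hd
    exact K732.RR.chi_sq hsd.1 g hJdim c hf d hd
  · intro c
    rw [← zpow_neg_one, K732.RR.chi_zpow g hJdim, Int.natAbs_mul, Int.natAbs_pow]
    simp

end Groth.Agent.S16930
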