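import Groth.Statements.S16931
import Groth.Agent.BunMod.K231.Rows
import Groth.Agent.BunMod.K28.Rows

set_option autoImplicit false
attribute [-instance] CategoryTheory.catToReflQuiver
universe u
open CategoryTheory CategoryTheory.Limits AlgebraicGeometry MonoidalCategory CartesianMonoidalCategory MonObj
open BunMod

namespace Groth.Agent.S16931

/-- Let k be an algebraically closed field of characteristic zero and X a smooth proper geometrically
connected curve over k (topological dimension one) of genus g ≥ 2 (the text works over the complex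
numbers). Fix r ≥ 2, m ≥ 1 and let M, with φ, be the moduli space U_X(r,0): a k-scheme M, with its
classifying morphism, corepresenting on all k-schemes the functor of families of rank-r, degree-0,
slope-semistable vector bundles on X modulo twisting by a line bundle from the base, whose geometric
points are the S-equivalence classes, and having a point over every algebraically closed field over
k; let N be an invertible O_X-module of degree g − 1 and Θ an invertible O_M-module inverse to the
ideal of the theta locus Θ_N (so Θ = O(Θ_N)); let J, with ψ, be a coarse moduli scheme on all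
k-schemes for line bundles of degree 0 on X (the Jacobian, of dimension g) and det : M → J the
determinant morphism (induced by top exterior powers). Then the dual E_{r,m}^* of the Verlinde
bundle E_{r,m} := det_*(Θ^{⊗ m}) satisfies the index condition with index g: H^i(J, E_{r,m}^* ⊗ α) =
0 for every i < g and every invertible O_J-module α algebraically equivalent to zero (deformable to
O_J along a connected k-scheme of finite type through k-points). (The text obtains this from the
index-zero statement for E_{r,m} by Serre duality and adds that the Fourier–Mukai transform of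
E_{r,m}^* is a vector bundle of rank h^0(U_X(r,0), O(mΘ_N)) with index 0; that consequence is not
stated here.) -/
theorem result (k : Type u) [Field k] [IsAlgClosed k] [CharZero k]
    (X : Scheme.{u}) [X.Over (Spec (CommRingCat.of k))]
    [IsProper (X ↘ Spec (CommRingCat.of k))] [Smooth (X ↘ Spec (CommRingCat.of k))]
    [GeometricallyConnected (X ↘ Spec (CommRingCat.of k))] (hdim : topologicalKrullDim ↥X = 1)
    (g : ℕ) (hg : Curv2.genus k X = g) (hg2 : 2 ≤ g)
    (r : ℕ) (hr : 2 ≤ r) (m : ℕ) (hm : 1 ≤ m) (N : X.Modules) (hN : PicF.IsInvertible N) (hNdeg : Curv2.deg k X N 1 = (g : ℤ) - 1)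
    (M : Over (Spec (CommRingCat.of k))) (φ : (BunMod.USS (X ↘ Spec (CommRingCat.of k)) r 0).Hom ⊤ M)
    (hM : BunMod.IsModSS (X ↘ Spec (CommRingCat.of k)) ⊤ r 0 M φ)
    (hne : ∀ (Ω : Type u) [Field Ω] [IsAlgClosed Ω] (t : Spec (CommRingCat.of Ω) ⟶ Spec (CommRingCat.of k)),
      Nonempty (Over.mk t ⟶ M))
    (Θ : M.left.Modules) (hΘ : BunMod.IsThetaLB (X ↘ Spec (CommRingCat.of k)) (BunMod.ussOK (X ↘ Spec (CommRingCat.of k)) r 0) φ N Θ)
    (J : Over (Spec (CommRingCat.of k))) (ψ : (ModFun.PicDeg (X ↘ Spec (CommRingCat.of k)) 0).Hom ⊤ J)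
    (hJ : ModFun.IsCoarseModuli ⊤ (ModFun.PicDeg (X ↘ Spec (CommRingCat.of k)) 0) J ψ)
    (dm : M ⟶ J) (hdm : BunMod.IsDetMap (X ↘ Spec (CommRingCat.of k)) (BunMod.ussOK (X ↘ Spec (CommRingCat.of k)) r 0) φ 0 ψ dm)
    (α : J.left.Modules) (hα : PicF.IsInvertible α) (hα0 : @Pic13.IsAlgEquivZero k _ J.left ⟨J.hom⟩ α)
    (i : ℕ) (hi : i < g) :
    Subsingleton (Coh.HH J.left
      (CohB1.tensorMod (RefHull.dual ((Scheme.Modules.pushforward dm.left).obj (CohB1.tensorPow Θ m))) α) i) := by
  exact K231.Rows.row16931 hdim hg hg2 hr hN hNdeg hΘ.1 hJ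
    (fun _ _ hJac ΘJ hΘJ => K28.Rows.exists_str k X hdim g hg hg2 r hr N hN hNdeg M φ hM hne Θ hΘ J ψ hJac ΘJ hΘJ dm hdm) m hm α hα hα0 i hi

end Groth.Agent.S16931
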