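import Groth.Statements.S16932
import Groth.Agent.BunMod.K596.RowGG
import Groth.Agent.BunMod.K596.RowUtil
import Groth.Agent.BunMod.K596.JB
import Groth.Agent.BunMod.K28.Rows

set_option autoImplicit false
attribute [-instance] CategoryTheory.catToReflQuiver
universe u
open CategoryTheory CategoryTheory.Limits AlgebraicGeometry MonoidalCategory CartesianMonoidalCategory MonObj
open BunMod

namespace Groth.Agent.S16932

open Groth.Agent.BunMod.K596

/-- Let k be an algebraically closed field of characteristic zero and X a smooth proper geometrically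
connected curve over k (topological dimension one) of genus g ≥ 2 (the text works over the complex
numbers). Fix r ≥ 2 and let M, with φ, be the moduli space U_X(r,0): a k-scheme M, with its
classifying morphism, corepresenting on all k-schemes the functor of families of rank-r, degree-0,
slope-semistable vector bundles on X modulo twisting by a line bundle from the base, whose geometric
points are the S-equivalence classes, and having a point over every algebraically closed field over
k; let M', with φ', be the moduli space SU_X(r) (the same for semistable bundles of rank r with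
determinant identified with O_X, also with a point over every algebraically closed field). Let N be
an invertible O_X-module of degree g − 1, Θ on M and Θ' on M' invertible modules inverse to the
ideals of the respective theta loci of N (so Θ = O(Θ_N) and Θ' is the determinant bundle), J, with
ψ, a coarse moduli scheme on all k-schemes for line bundles of degree 0 on X (the Jacobian), Θ_J an
invertible O_J-module inverse to the ideal of the theta locus of N on J (closure, with reduced
structure, of the locus of degree-zero classes ξ with H^0(ξ ⊗ N) ≠ 0), so that Θ_J = O_J(Θ_N), and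
det : M → J the determinant morphism. Assume the cohomological criterion for global generation on J,
which the text quotes without proof: every finite locally free O_J-module E with H^i(J, E ⊗ α) = 0
for all i > 0 and all invertible α algebraically equivalent to zero has E ⊗ L globally generated for
every ample invertible O_J-module L. If m ≥ r + 1 and Θ'^{⊗ m} is globally generated on M', then
O(mΘ_N) = Θ^{⊗ m} is globally generated on M. (The text's second assertion, that O(rΘ_N) is not
globally generated, is not stated here.) -/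
theorem result (k : Type u) [Field k] [IsAlgClosed k] [CharZero k]
    (X : Scheme.{u}) [X.Over (Spec (CommRingCat.of k))]
    [IsProper (X ↘ Spec (CommRingCat.of k))] [Smooth (X ↘ Spec (CommRingCat.of k))]
    [GeometricallyConnected (X ↘ Spec (CommRingCat.of k))] (hdim : topologicalKrullDim ↥X = 1)
    (g : ℕ) (hg : Curv2.genus k X = g) (hg2 : 2 ≤ g)
    (r : ℕ) (hr : 2 ≤ r) (N : X.Modules) (hN : PicF.IsInvertible N) (hNdeg : Curv2.deg k X N 1 = (g : ℤ) - 1)
    (M : Over (Spec (CommRingCat.of k))) (φ : (BunMod.USS (X ↘ Spec (CommRingCat.of k)) r 0).Hom ⊤ M)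
    (hM : BunMod.IsModSS (X ↘ Spec (CommRingCat.of k)) ⊤ r 0 M φ)
    (hne : ∀ (Ω : Type u) [Field Ω] [IsAlgClosed Ω] (t : Spec (CommRingCat.of Ω) ⟶ Spec (CommRingCat.of k)),
      Nonempty (Over.mk t ⟶ M))
    (Θ : M.left.Modules) (hΘ : BunMod.IsThetaLB (X ↘ Spec (CommRingCat.of k)) (BunMod.ussOK (X ↘ Spec (CommRingCat.of k)) r 0) φ N Θ)
    (M' : Over (Spec (CommRingCat.of k))) (φ' : (BunMod.USSdet (X ↘ Spec (CommRingCat.of k)) r (Coh.structureModule X)).Hom ⊤ M')
    (hM' : BunMod.IsModSSdet (X ↘ Spec (CommRingCat.of k)) ⊤ r (Coh.structureModule X) M' φ')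
    (hne' : ∀ (Ω : Type u) [Field Ω] [IsAlgClosed Ω] (t : Spec (CommRingCat.of Ω) ⟶ Spec (CommRingCat.of k)),
      Nonempty (Over.mk t ⟶ M'))
    (Θ' : M'.left.Modules) (hΘ' : BunMod.IsThetaLB (X ↘ Spec (CommRingCat.of k)) (BunMod.ussDetOK (X ↘ Spec (CommRingCat.of k)) r (Coh.structureModule X)) φ' N Θ')
    (J : Over (Spec (CommRingCat.of k))) (ψ : (ModFun.PicDeg (X ↘ Spec (CommRingCat.of k)) 0).Hom ⊤ J)
    (hJ : ModFun.IsCoarseModuli ⊤ (ModFun.PicDeg (X ↘ Spec (CommRingCat.of k)) 0) J ψ)
    (ΘJ : J.left.Modules) (hΘJ : Jac.IsThetaLB (X ↘ Spec (CommRingCat.of k)) 0 ψ N ΘJ)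
    (dm : M ⟶ J) (hdm : BunMod.IsDetMap (X ↘ Spec (CommRingCat.of k)) (BunMod.ussOK (X ↘ Spec (CommRingCat.of k)) r 0) φ 0 ψ dm)
    (hB1 : ∀ (E : J.left.Modules), FlatMod.IsFinLocFree E →
      (∀ (α : J.left.Modules), PicF.IsInvertible α → @Pic13.IsAlgEquivZero k _ J.left ⟨J.hom⟩ α →
        ∀ i : ℕ, 0 < i → Subsingleton (Coh.HH J.left (CohB1.tensorMod E α) i)) →
      ∀ (L : J.left.Modules), CohB1.IsAmple L → Curv2.IsGloballyGenerated (CohB1.tensorMod E L))
    (m : ℕ) (hm : r + 1 ≤ m) (hgg : Curv2.IsGloballyGenerated (CohB1.tensorPow Θ' m)) :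
    Curv2.IsGloballyGenerated (CohB1.tensorPow Θ m) := by
  obtain ⟨_, _, hJac⟩ := JB.exists_isJacobian k X hdim J ψ hJ
  have hP := JB.ppav k X hdim g hg (by omega) N hN hNdeg J ψ hJac ΘJ hΘJ
  obtain ⟨S, e, ⟨eA⟩⟩ := K28.Rows.exists_str_of_det k X hdim g hg hg2 r hr N hN hNdeg M φ hM hne Θ hΘ
    (Coh.structureModule X) (RowUtil.isInvertible_structureModule X) (RowUtil.deg_structureModule k X)
    M' φ' hM' hne' Θ' hΘ' J ψ hJac ΘJ hΘJ dm hdm
  exact RowGG.gg_pow hP hB1 hΘ.1 (by omega) S m hm (RowUtil.gg_pow_of_iso e eA hgg)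

end Groth.Agent.S16932
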