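import Groth.Agent.BunMod.K28.Rows
import Groth.Agent.BunMod.K596.F1
import Groth.Agent.BunMod.K596.JB
import Groth.Agent.BunMod.K527.SymTheta
import Groth.Agent.BunMod.K524.MulSurj

set_option autoImplicit false
attribute [-instance] CategoryTheory.catToReflQuiver Groth.Agent.Dcoh.MonCx.TensorGood.zero
universe u
open CategoryTheory CategoryTheory.Limits AlgebraicGeometry MonoidalCategory CartesianMonoidalCategory MonObj
open BunMod

namespace Groth.Agent.S16933

/-- Let k be an algebraically closed field of characteristic zero and X a smooth proper geometrically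
connected curve over k (topological dimension one) of genus g ≥ 2 (the text works over the complex
numbers). Fix r ≥ 2 and N a theta characteristic: an invertible O_X-module of degree g − 1 with N ⊗
N isomorphic to the sheaf of differentials of X over k. Let M, with φ, be the moduli space U_X(r,0):
a k-scheme M, with its classifying morphism, corepresenting on all k-schemes the functor of families
of rank-r, degree-0, slope-semistable vector bundles on X modulo twisting by a line bundle from the
base, whose geometric points are the S-equivalence classes, and having a point over every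
algebraically closed field over k; Θ an invertible O_M-module inverse to the ideal of the theta
locus of N (so Θ = O(Θ_N)). Let J, with ψ, be the Jacobian of X: a commutative k-group scheme which,
on all k-schemes, is a coarse moduli scheme for line bundles of degree zero on X modulo twisting
from the base and whose group law is the tensor product of line bundles; let Θ_J an invertible
O_J-module inverse to the ideal of the theta locus of N on J (closure, with reduced structure, of
the locus of degree-zero classes ξ with H^0(ξ ⊗ N) ≠ 0), so that Θ_J = O_J(Θ_N); let φ_J identify J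
with its own fppf dual so that the homomorphism J → J attached to Θ_J is the identity (the principal
polarisation; this is the identification of J with its dual used for all Fourier–Mukai transforms),
and let P be an invertible module on J ×_k J whose class is the Poincaré class of this self-duality
(the normalised Poincaré bundle); assume, as holds, that the category of O-modules on J ×_k J has
injective resolutions. Let det : M → J be the determinant morphism and E_{r,m} := det_*(Θ^{⊗ m}) the
Verlinde bundle. Assume the cohomological criterion for global generation on J, which the text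
quotes without proof: every finite locally free O_J-module E with H^i(J, E ⊗ α) = 0 for all i > 0
and all invertible α algebraically equivalent to zero has E ⊗ L globally generated for every ample
invertible O_J-module L. Then for every m ≥ 2r + 1 the multiplication map H^0(J, E_{r,m}) ⊗ H^0(J,
E_{r,m}) → H^0(J, E_{r,m} ⊗ E_{r,m}) is surjective; the map is written as the map from the global
sections of the sectionwise tensor-product presheaf of E_{r,m} with itself to the global sections of
its sheafification. -/
theorem result (k : Type u) [Field k] [IsAlgClosed k] [CharZero k]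
    (X : Scheme.{u}) [X.Over (Spec (CommRingCat.of k))]
    [IsProper (X ↘ Spec (CommRingCat.of k))] [Smooth (X ↘ Spec (CommRingCat.of k))]
    [GeometricallyConnected (X ↘ Spec (CommRingCat.of k))] (hdim : topologicalKrullDim ↥X = 1)
    (g : ℕ) (hg : Curv2.genus k X = g) (hg2 : 2 ≤ g)
    (r : ℕ) (hr : 2 ≤ r) (N : X.Modules) (hN : PicF.IsInvertible N) (hNdeg : Curv2.deg k X N 1 = (g : ℤ) - 1)
    (hNth : Nonempty (CohB1.tensorMod N N ≅ Omega.sheaf (X ↘ Spec (CommRingCat.of k))))
    (M : Over (Spec (CommRingCat.of k))) (φ : (BunMod.USS (X ↘ Spec (CommRingCat.of k)) r 0).Hom ⊤ M)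
    (hM : BunMod.IsModSS (X ↘ Spec (CommRingCat.of k)) ⊤ r 0 M φ)
    (hne : ∀ (Ω : Type u) [Field Ω] [IsAlgClosed Ω] (t : Spec (CommRingCat.of Ω) ⟶ Spec (CommRingCat.of k)),
      Nonempty (Over.mk t ⟶ M))
    (Θ : M.left.Modules) (hΘ : BunMod.IsThetaLB (X ↘ Spec (CommRingCat.of k)) (BunMod.ussOK (X ↘ Spec (CommRingCat.of k)) r 0) φ N Θ)
    (J : Over (Spec (CommRingCat.of k))) [GrpObj J] [IsCommMonObj J]
    (ψ : (ModFun.PicDeg (X ↘ Spec (CommRingCat.of k)) 0).Hom ⊤ J) (hJ : Jac.IsJacobian (X ↘ Spec (CommRingCat.of k)) ⊤ J ψ)
    (ΘJ : J.left.Modules) (hΘJ : Jac.IsThetaLB (X ↘ Spec (CommRingCat.of k)) 0 ψ N ΘJ)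
    (φJ : AgPol.DualMap J J) (hsd : Jac.IsSelfDual Scheme.fppfPrecoverage J φJ ΘJ)
    (P : (pullback J.hom J.hom).Modules) (hP : PicF.IsInvertible P) (hPP : AbDual.IsPoincareCl J J φJ (PicF.cl P))
    [HasInjectiveResolutions (pullback J.hom J.hom).Modules]
    (dm : M ⟶ J) (hdm : BunMod.IsDetMap (X ↘ Spec (CommRingCat.of k)) (BunMod.ussOK (X ↘ Spec (CommRingCat.of k)) r 0) φ 0 ψ dm)
    (hB1 : ∀ (E : J.left.Modules), FlatMod.IsFinLocFree E →
      (∀ (α : J.left.Modules), PicF.IsInvertible α → @Pic13.IsAlgEquivZero k _ J.left ⟨J.hom⟩ α →
        ∀ i : ℕ, 0 < i → Subsingleton (Coh.HH J.left (CohB1.tensorMod E α) i)) →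
      ∀ (L : J.left.Modules), CohB1.IsAmple L → Curv2.IsGloballyGenerated (CohB1.tensorMod E L))
    (m : ℕ) (hm : 2 * r + 1 ≤ m) :
    Function.Surjective ((toSheafify (Opens.grothendieckTopology J.left)
      (CohB1.tensorPre ((Scheme.Modules.pushforward dm.left).obj (CohB1.tensorPow Θ m))
        ((Scheme.Modules.pushforward dm.left).obj (CohB1.tensorPow Θ m))).presheaf).app
        (Opposite.op ⊤)) := by
  obtain ⟨S⟩ := K28.Rows.exists_str k X hdim g hg hg2 r hr N hN hNdeg M φ hM hne Θ hΘ J ψ hJ ΘJ hΘJ
    dm hdm
  have hP : Groth.Agent.BunMod.K596.PPAV g J ΘJ :=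
    Groth.Agent.BunMod.K596.JB.ppav k X hdim g hg (by omega) N hN hNdeg J ψ hJ ΘJ hΘJ
  have hs : Groth.Agent.BunMod.K596.Sym J ΘJ :=
    K527.SymTheta.sym k X hdim g hg (by omega) N hN hNdeg hNth J ψ hJ ΘJ hΘJ
  exact K524.MulSurj.mulSurj_of_verD hP hs hB1 (by omega) hm
    (Groth.Agent.BunMod.K596.F1.verD_of_str hP hΘ.1 (by omega) S m)

end Groth.Agent.S16933
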