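import Groth.Statements.S16934
import Groth.Agent.BunMod.K28.Rows
import Groth.Agent.BunMod.K596.F1
import Groth.Agent.BunMod.K596.JB
import Groth.Agent.BunMod.K527.SymTheta
import Groth.Agent.BunMod.K242.FMFinal
import Groth.Agent.BunMod.K532.FmSec

set_option autoImplicit false
attribute [-instance] CategoryTheory.catToReflQuiver Groth.Agent.Dcoh.MonCx.TensorGood.zero
universe u
open CategoryTheory CategoryTheory.Limits AlgebraicGeometry MonoidalCategory CartesianMonoidalCategory MonObj
open BunMod

namespace Groth.Agent.S16934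

/-- Let k be an algebraically closed field of characteristic zero and X a smooth proper geometrically
connected curve over k (topological dimension one) of genus g ≥ 2 (the text works over the complex
numbers). Fix r ≥ 1, m ≥ 2 and N a theta characteristic: an invertible O_X-module of degree g − 1
with N ⊗ N isomorphic to the sheaf of differentials of X over k. Let J, with ψ, be the Jacobian of
X: a commutative k-group scheme which, on all k-schemes, is a coarse moduli scheme for line bundles
of degree zero on X modulo twisting from the base and whose group law is the tensor product of line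
bundles; let Θ_J an invertible O_J-module inverse to the ideal of the theta locus of N on J
(closure, with reduced structure, of the locus of degree-zero classes ξ with H^0(ξ ⊗ N) ≠ 0), so
that Θ_J = O_J(Θ_N); let φ_J identify J with its own fppf dual so that the homomorphism J → J
attached to Θ_J is the identity (the principal polarisation; this is the identification of J with
its dual used for all Fourier–Mukai transforms), and let P be an invertible module on J ×_k J whose
class is the Poincaré class of this self-duality (the normalised Poincaré bundle); assume, as holds,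
that the category of O-modules on J ×_k J has injective resolutions. Let M₂ = U_X(m,0), with φ₂, be
the moduli space U_X(m,0): a k-scheme M₂, with its classifying morphism, corepresenting on all
k-schemes the functor of families of rank-m, degree-0, slope-semistable vector bundles on X modulo
twisting by a line bundle from the base, whose geometric points are the S-equivalence classes, and
having a point over every algebraically closed field over k; Θ₂ an invertible O_{M₂}-module inverse
to the ideal of the theta locus of N, d₂ : M₂ → J the determinant morphism, E_{m,r} := d₂_*(Θ₂^{⊗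
r}), and F := R^g p_{2*}(p_1^*(E_{m,r}^*) ⊗ P) the Fourier–Mukai transform (index g) of the dual of
E_{m,r}. Let j : X → J be an Abel map of degree zero. Then some translate of j embeds X in J so that
the restriction E of F satisfies H^0(X, E ⊗ L) ≠ 0 for L in a non-empty open subset of the
degree-zero line bundles on X: there are a k-point ξ₀ of J and a non-empty open subset U of J such
that, for j' := j followed by translation by ξ₀, for every k-point ξ of J lying in U and every line
bundle P_ξ of the point ξ through Θ_J (an invertible O_J-module with Θ_J ⊗ P_ξ ≅ t_ξ^*Θ_J), the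
space H^0(X, j'^*(F ⊗ P_ξ)) is nonzero. (Degree-zero line bundles on X are written as pull backs
j'^*P_ξ, which realises the identification of degree-zero classes of X and of J up to the sign of ξ;
genericity is unaffected.) -/
theorem result (k : Type u) [Field k] [IsAlgClosed k] [CharZero k]
    (X : Scheme.{u}) [X.Over (Spec (CommRingCat.of k))]
    [IsProper (X ↘ Spec (CommRingCat.of k))] [Smooth (X ↘ Spec (CommRingCat.of k))]
    [GeometricallyConnected (X ↘ Spec (CommRingCat.of k))] (hdim : topologicalKrullDim ↥X = 1)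
    (g : ℕ) (hg : Curv2.genus k X = g) (hg2 : 2 ≤ g)
    (r m : ℕ) (hr : 1 ≤ r) (hm : 2 ≤ m) (N : X.Modules) (hN : PicF.IsInvertible N) (hNdeg : Curv2.deg k X N 1 = (g : ℤ) - 1)
    (hNth : Nonempty (CohB1.tensorMod N N ≅ Omega.sheaf (X ↘ Spec (CommRingCat.of k))))
    (J : Over (Spec (CommRingCat.of k))) [GrpObj J] [IsCommMonObj J]
    (ψ : (ModFun.PicDeg (X ↘ Spec (CommRingCat.of k)) 0).Hom ⊤ J) (hJ : Jac.IsJacobian (X ↘ Spec (CommRingCat.of k)) ⊤ J ψ)
    (ΘJ : J.left.Modules) (hΘJ : Jac.IsThetaLB (X ↘ Spec (CommRingCat.of k)) 0 ψ N ΘJ)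
    (φJ : AgPol.DualMap J J) (hsd : Jac.IsSelfDual Scheme.fppfPrecoverage J φJ ΘJ)
    (P : (pullback J.hom J.hom).Modules) (hP : PicF.IsInvertible P) (hPP : AbDual.IsPoincareCl J J φJ (PicF.cl P))
    [HasInjectiveResolutions (pullback J.hom J.hom).Modules]
    (M₂ : Over (Spec (CommRingCat.of k))) (φ₂ : (BunMod.USS (X ↘ Spec (CommRingCat.of k)) m 0).Hom ⊤ M₂)
    (hM₂ : BunMod.IsModSS (X ↘ Spec (CommRingCat.of k)) ⊤ m 0 M₂ φ₂)
    (hne₂ : ∀ (Ω : Type u) [Field Ω] [IsAlgClosed Ω] (t : Spec (CommRingCat.of Ω) ⟶ Spec (CommRingCat.of k)),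
      Nonempty (Over.mk t ⟶ M₂))
    (Θ₂ : M₂.left.Modules) (hΘ₂ : BunMod.IsThetaLB (X ↘ Spec (CommRingCat.of k)) (BunMod.ussOK (X ↘ Spec (CommRingCat.of k)) m 0) φ₂ N Θ₂)
    (d₂ : M₂ ⟶ J) (hd₂ : BunMod.IsDetMap (X ↘ Spec (CommRingCat.of k)) (BunMod.ussOK (X ↘ Spec (CommRingCat.of k)) m 0) φ₂ 0 ψ d₂)
    (j : Over.mk (X ↘ Spec (CommRingCat.of k)) ⟶ J) (hj : Jac.IsAbelJacobi (X ↘ Spec (CommRingCat.of k)) 0 ψ j) :
    ∃ (ξ₀ : 𝟙_ (Over (Spec (CommRingCat.of k))) ⟶ J) (U : J.left.Opens), (U : Set ↥J.left).Nonempty ∧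
      ∀ (ξ : 𝟙_ (Over (Spec (CommRingCat.of k))) ⟶ J), Set.range ξ.left.base ⊆ (U : Set ↥J.left) →
        ∀ (Pξ : J.left.Modules), Jac.IsPtBundle J ΘJ ξ Pξ →
          ¬ Subsingleton (Coh.HH X ((Scheme.Modules.pullback (j ≫ Jac.transl J ξ₀).left).obj
            (CohB1.tensorMod ((Coh.Rpush (pullback.snd J.hom J.hom) g).obj
        (CohB1.tensorMod ((Scheme.Modules.pullback (pullback.fst J.hom J.hom)).obj (RefHull.dual ((Scheme.Modules.pushforward d₂.left).obj (CohB1.tensorPow Θ₂ r)))) P)) Pξ)) 0) := by
  have hg1 : 1 ≤ g := by omega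
  have hm1 : 1 ≤ m := by omega
  have hA := Groth.Agent.BunMod.K596.JB.ppav k X hdim g hg hg1 N hN hNdeg J ψ hJ ΘJ hΘJ
  have hs := K527.SymTheta.sym k X hdim g hg hg1 N hN hNdeg hNth J ψ hJ ΘJ hΘJ
  obtain ⟨S⟩ := K28.Rows.exists_str k X hdim g hg hg2 m hm N hN hNdeg M₂ φ₂ hM₂ hne₂ Θ₂ hΘ₂ J ψ hJ
    ΘJ hΘJ d₂ hd₂
  have hE := Groth.Agent.BunMod.K596.F1.verD_of_str hA hΘ₂.1 hm1 S r
  have hv := hE.pos
  obtain ⟨n, hn, hF, hiso⟩ := K242.FMFinal.fm_of_verD hA hs φJ hsd P hP hPP hr hm1 hE
  have hn1 : 1 ≤ n := by
    have h1 := K808.Verl.h0_of_verD hA hm1 hr hE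
    rw [← hn] at h1
    have h2 : 0 < n * m ^ g := by
      rw [h1]
      exact Nat.mul_pos hv (pow_pos hr g)
    exact Nat.pos_of_mul_pos_right h2
  have hX' := K532.Base.isSmoothProperCurve (X ↘ Spec (CommRingCat.of k)) hdim
  have hXc := K532.CurvePic.isCurve_of_isAlgClosed k X hX'
  have hint := hXc.integral
  obtain ⟨x, -⟩ := K532.CurvePts.exists_kpt hXc (⊤ : X.Opens) ⟨genericPoint X, trivial⟩
  have : IsProper (Over.mk (X ↘ Spec (CommRingCat.of k))).hom := ‹IsProper (X ↘ Spec (CommRingCat.of k))›
  exact K532.FmSec.main hA (Nat.mul_pos hr hm1) (Nat.mul_pos (pow_pos hm1 3) hr) hn1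
    (fun x => (hF x).imp fun U h => ⟨n, h⟩) hiso
    (Over.mk (X ↘ Spec (CommRingCat.of k))) (Over.homMk x.1 x.2) j


end Groth.Agent.S16934
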