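import Groth.Statements.S16935
import Groth.Agent.BunMod.K307.Row35
import Groth.Agent.BunMod.K28.Rows
import Groth.Agent.VBCurve.K708.Deg
import Groth.Agent.ASBun.K790.Twist

set_option autoImplicit false
attribute [-instance] CategoryTheory.catToReflQuiver
universe u
open CategoryTheory CategoryTheory.Limits AlgebraicGeometry MonoidalCategory CartesianMonoidalCategory MonObj
open BunMod

namespace Groth.Agent.S16935

/-- Let k be an algebraically closed field of characteristic zero and X a smooth proper geometrically
connected curve over k (topological dimension one) of genus g ≥ 2 (the text works over the complex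
numbers). Fix r ≥ 2 and let M, with φ, be the moduli space U_X(r,0): a k-scheme M, with its
classifying morphism, corepresenting on all k-schemes the functor of families of rank-r, degree-0,
slope-semistable vector bundles on X modulo twisting by a line bundle from the base, whose geometric
points are the S-equivalence classes, and having a point over every algebraically closed field over
k; let M', with φ', be the moduli space SU_X(r) (the same for semistable bundles of rank r with
determinant identified with O_X, with a point over every algebraically closed field). Let N be an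
invertible O_X-module of degree g − 1, Θ on M and Θ' on M' invertible modules inverse to the ideals
of the respective theta loci of N (Θ = O(Θ_N), Θ' the determinant bundle), J, with ψ, a coarse
moduli scheme on all k-schemes for line bundles of degree 0 on X (the Jacobian), Θ_J an invertible
O_J-module inverse to the ideal of the theta locus of N on J (closure, with reduced structure, of
the locus of degree-zero classes ξ with H^0(ξ ⊗ N) ≠ 0), so that Θ_J = O_J(Θ_N), det : M → J the
determinant morphism and L an invertible O_J-module. Assume the cohomological criterion for global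
generation on J, which the text quotes without proof: every finite locally free O_J-module E with
H^i(J, E ⊗ α) = 0 for all i > 0 and all invertible α algebraically equivalent to zero has E ⊗ A
globally generated for every ample invertible O_J-module A. Let m ≥ r. If Θ'^{⊗ m} is globally
generated on M' and H^i(J, Θ_J^{⊗ (mr − r²)} ⊗ L^{⊗ r²} ⊗ α) = 0 for every i > 0 and every
invertible α algebraically equivalent to zero, then O(mΘ_N) ⊗ det^*L = Θ^{⊗ m} ⊗ det^*L is globally
generated on M. (The published statement has, in place of the global generation of Θ'^{⊗ m} on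
SU_X(r), the numerical bound m ≥ (r+1)²/4 under which the text obtains that generation elsewhere;
the criterion form stated here is what the printed argument establishes from the generation on
SU_X(r), and m ≥ r keeps the power of Θ_J non-negative.) -/
theorem result (k : Type u) [Field k] [IsAlgClosed k] [CharZero k]
    (X : Scheme.{u}) [X.Over (Spec (CommRingCat.of k))]
    [IsProper (X ↘ Spec (CommRingCat.of k))] [Smooth (X ↘ Spec (CommRingCat.of k))]
    [GeometricallyConnected (X ↘ Spec (CommRingCat.of k))] (hdim : topologicalKrullDim ↥X = 1)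
    (g : ℕ) (hg : Curv2.genus k X = g) (hg2 : 2 ≤ g)
    (r : ℕ) (hr : 2 ≤ r) (N : X.Modules) (hN : PicF.IsInvertible N) (hNdeg : Curv2.deg k X N 1 = (g : ℤ) - 1)
    (M : Over (Spec (CommRingCat.of k))) (φ : (BunMod.USS (X ↘ Spec (CommRingCat.of k)) r 0).Hom ⊤ M)
    (hM : BunMod.IsModSS (X ↘ Spec (CommRingCat.of k)) ⊤ r 0 M φ)
    (hne : ∀ (Ω : Type u) [Field Ω] [IsAlgClosed Ω] (t : Spec (CommRingCat.of Ω) ⟶ Spec (CommRingCat.of k)),
      Nonempty (Over.mk t ⟶ M))
    (Θ : M.left.Modules) (hΘ : BunMod.IsThetaLB (X ↘ Spec (CommRingCat.of k)) (BunMod.ussOK (X ↘ Spec (CommRingCat.of k)) r 0) φ N Θ)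
    (M' : Over (Spec (CommRingCat.of k))) (φ' : (BunMod.USSdet (X ↘ Spec (CommRingCat.of k)) r (Coh.structureModule X)).Hom ⊤ M')
    (hM' : BunMod.IsModSSdet (X ↘ Spec (CommRingCat.of k)) ⊤ r (Coh.structureModule X) M' φ')
    (hne' : ∀ (Ω : Type u) [Field Ω] [IsAlgClosed Ω] (t : Spec (CommRingCat.of Ω) ⟶ Spec (CommRingCat.of k)),
      Nonempty (Over.mk t ⟶ M'))
    (Θ' : M'.left.Modules) (hΘ' : BunMod.IsThetaLB (X ↘ Spec (CommRingCat.of k)) (BunMod.ussDetOK (X ↘ Spec (CommRingCat.of k)) r (Coh.structureModule X)) φ' N Θ')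
    (J : Over (Spec (CommRingCat.of k))) (ψ : (ModFun.PicDeg (X ↘ Spec (CommRingCat.of k)) 0).Hom ⊤ J)
    (hJ : ModFun.IsCoarseModuli ⊤ (ModFun.PicDeg (X ↘ Spec (CommRingCat.of k)) 0) J ψ)
    (ΘJ : J.left.Modules) (hΘJ : Jac.IsThetaLB (X ↘ Spec (CommRingCat.of k)) 0 ψ N ΘJ)
    (dm : M ⟶ J) (hdm : BunMod.IsDetMap (X ↘ Spec (CommRingCat.of k)) (BunMod.ussOK (X ↘ Spec (CommRingCat.of k)) r 0) φ 0 ψ dm)
    (L : J.left.Modules) (hL : PicF.IsInvertible L)
    (hB1 : ∀ (E : J.left.Modules), FlatMod.IsFinLocFree E →
      (∀ (α : J.left.Modules), PicF.IsInvertible α → @Pic13.IsAlgEquivZero k _ J.left ⟨J.hom⟩ α →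
        ∀ i : ℕ, 0 < i → Subsingleton (Coh.HH J.left (CohB1.tensorMod E α) i)) →
      ∀ (L : J.left.Modules), CohB1.IsAmple L → Curv2.IsGloballyGenerated (CohB1.tensorMod E L))
    (m : ℕ) (hmr : r ≤ m) (hgg : Curv2.IsGloballyGenerated (CohB1.tensorPow Θ' m))
    (hvan : ∀ (α : J.left.Modules), PicF.IsInvertible α → @Pic13.IsAlgEquivZero k _ J.left ⟨J.hom⟩ α →
      ∀ i : ℕ, 0 < i → Subsingleton (Coh.HH J.left
        (CohB1.tensorMod (CohB1.tensorMod (CohB1.tensorPow ΘJ (m * r - r ^ 2)) (CohB1.tensorPow L (r ^ 2))) α) i)) :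
    Curv2.IsGloballyGenerated (CohB1.tensorMod (CohB1.tensorPow Θ m) ((Scheme.Modules.pullback dm.left).obj L)) := by
  exact K307.Row35.main k X hdim g hg hg2 r hr N hN hNdeg M Θ hΘ.1 M' Θ' J ψ hJ ΘJ hΘJ dm L hL hB1 m hmr hgg hvan
    (fun {_} {_} hJac => K28.Rows.exists_str_of_det k X hdim g hg hg2 r hr N hN hNdeg M φ hM hne
      Θ hΘ (Coh.structureModule X) (K790.Twist.isInvertible_structureModule X) (K708.Deg.deg_structureModule k)
      M' φ' hM' hne' Θ' hΘ' J ψ hJac ΘJ hΘJ dm hdm)

end Groth.Agent.S16935
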