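import Groth.Statements.S16936
import Groth.Agent.BunMod.K139.F7
import Groth.Agent.BunMod.K28.Rows

set_option autoImplicit false
attribute [-instance] CategoryTheory.catToReflQuiver
universe u
open CategoryTheory CategoryTheory.Limits AlgebraicGeometry MonoidalCategory CartesianMonoidalCategory MonObj
open BunMod

namespace Groth.Agent.S16936

/-- Let k be an algebraically closed field of characteristic zero and X a smooth proper geometrically
connected curve over k (topological dimension one) of genus g ≥ 2 (the text works over the complex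
numbers). Fix r ≥ 2 and let M, with φ, be the moduli space U_X(r,0): a k-scheme M, with its
classifying morphism, corepresenting on all k-schemes the functor of families of rank-r, degree-0,
slope-semistable vector bundles on X modulo twisting by a line bundle from the base, whose geometric
points are the S-equivalence classes, and having a point over every algebraically closed field over
k; let N be an invertible O_X-module of degree g − 1, Θ an invertible O_M-module inverse to the
ideal of the theta locus Θ_N (so Θ = O(Θ_N)), J, with ψ, a coarse moduli scheme on all k-schemes for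
line bundles of degree 0 on X (the Jacobian), Θ_J an invertible O_J-module inverse to the ideal of
the theta locus of N on J (closure, with reduced structure, of the locus of degree-zero classes ξ
with H^0(ξ ⊗ N) ≠ 0), so that Θ_J = O_J(Θ_N), and det : M → J the determinant morphism. Assume the
criterion for multiplication maps on J which the text quotes without proof: for every finite locally
free O_J-module E, every ample invertible O_J-module L with an inverse L⁻¹ (L ⊗ L⁻¹ ≅ O_J) and every
n ≥ 2, if H^i(J, E ⊗ L^{⊗ l} ⊗ α) = 0 for all i > 0, all integers l ≥ −2 (written with L⁻¹ and L⁻¹ ⊗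
L⁻¹ for the negative values) and all invertible α algebraically equivalent to zero, then the
multiplication map H^0(J, L^{⊗ n}) ⊗ H^0(J, E) → H^0(J, L^{⊗ n} ⊗ E) is surjective. Then for every n
≥ 2 and every m ≥ 2r + 1 the multiplication map H^0(M, Θ^{⊗ m}) ⊗ H^0(M, det^*(Θ_J^{⊗ n})) → H^0(M,
Θ^{⊗ m} ⊗ det^*(Θ_J^{⊗ n})) is surjective. Multiplication maps are written as the map from the
global sections of the sectionwise tensor-product presheaf to the global sections of its
sheafification. -/
theorem result (k : Type u) [Field k] [IsAlgClosed k] [CharZero k]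
    (X : Scheme.{u}) [X.Over (Spec (CommRingCat.of k))]
    [IsProper (X ↘ Spec (CommRingCat.of k))] [Smooth (X ↘ Spec (CommRingCat.of k))]
    [GeometricallyConnected (X ↘ Spec (CommRingCat.of k))] (hdim : topologicalKrullDim ↥X = 1)
    (g : ℕ) (hg : Curv2.genus k X = g) (hg2 : 2 ≤ g)
    (r : ℕ) (hr : 2 ≤ r) (N : X.Modules) (hN : PicF.IsInvertible N) (hNdeg : Curv2.deg k X N 1 = (g : ℤ) - 1)
    (M : Over (Spec (CommRingCat.of k))) (φ : (BunMod.USS (X ↘ Spec (CommRingCat.of k)) r 0).Hom ⊤ M)
    (hM : BunMod.IsModSS (X ↘ Spec (CommRingCat.of k)) ⊤ r 0 M φ)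
    (hne : ∀ (Ω : Type u) [Field Ω] [IsAlgClosed Ω] (t : Spec (CommRingCat.of Ω) ⟶ Spec (CommRingCat.of k)),
      Nonempty (Over.mk t ⟶ M))
    (Θ : M.left.Modules) (hΘ : BunMod.IsThetaLB (X ↘ Spec (CommRingCat.of k)) (BunMod.ussOK (X ↘ Spec (CommRingCat.of k)) r 0) φ N Θ)
    (J : Over (Spec (CommRingCat.of k))) (ψ : (ModFun.PicDeg (X ↘ Spec (CommRingCat.of k)) 0).Hom ⊤ J)
    (hJ : ModFun.IsCoarseModuli ⊤ (ModFun.PicDeg (X ↘ Spec (CommRingCat.of k)) 0) J ψ)
    (ΘJ : J.left.Modules) (hΘJ : Jac.IsThetaLB (X ↘ Spec (CommRingCat.of k)) 0 ψ N ΘJ)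
    (dm : M ⟶ J) (hdm : BunMod.IsDetMap (X ↘ Spec (CommRingCat.of k)) (BunMod.ussOK (X ↘ Spec (CommRingCat.of k)) r 0) φ 0 ψ dm)
    (hB4 : ∀ (E : J.left.Modules), FlatMod.IsFinLocFree E → ∀ (L Linv : J.left.Modules), CohB1.IsAmple L →
      Nonempty (CohB1.tensorMod L Linv ≅ Coh.structureModule J.left) → ∀ n : ℕ, 2 ≤ n →
      (∀ (α : J.left.Modules), PicF.IsInvertible α → @Pic13.IsAlgEquivZero k _ J.left ⟨J.hom⟩ α → ∀ i : ℕ, 0 < i →
        (∀ l : ℕ, Subsingleton (Coh.HH J.left (CohB1.tensorMod (CohB1.tensorMod E (CohB1.tensorPow L l)) α) i)) ∧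
        Subsingleton (Coh.HH J.left (CohB1.tensorMod (CohB1.tensorMod E Linv) α) i) ∧
        Subsingleton (Coh.HH J.left (CohB1.tensorMod (CohB1.tensorMod E (CohB1.tensorPow Linv 2)) α) i)) →
      Function.Surjective ((toSheafify (Opens.grothendieckTopology J.left) (CohB1.tensorPre (CohB1.tensorPow L n) E).presheaf).app (Opposite.op ⊤)))
    (n : ℕ) (hn : 2 ≤ n) (m : ℕ) (hm : 2 * r + 1 ≤ m) :
    Function.Surjective ((toSheafify (Opens.grothendieckTopology M.left) (CohB1.tensorPre (CohB1.tensorPow Θ m) ((Scheme.Modules.pullback dm.left).obj (CohB1.tensorPow ΘJ n))).presheaf).app (Opposite.op ⊤)) := by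
  exact K139.F7.row16936 hdim hg hg2 hr hN hNdeg hΘ.1 hJ hΘJ (fun hG hC hJac =>
    K28.Rows.exists_str k X hdim g hg hg2 r hr N hN hNdeg M φ hM hne Θ hΘ J ψ hJac ΘJ hΘJ dm hdm)
    hB4 n hn m hm

end Groth.Agent.S16936
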