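import Groth.Statements.S16937
import Groth.Agent.BunMod.K139.F7
import Groth.Agent.BunMod.K596.RowUtil
import Groth.Agent.BunMod.K28.Rows

set_option autoImplicit false
attribute [-instance] CategoryTheory.catToReflQuiver Groth.Agent.Dcoh.MonCx.TensorGood.zero
universe u
open CategoryTheory CategoryTheory.Limits AlgebraicGeometry MonoidalCategory CartesianMonoidalCategory MonObj
open BunMod

namespace Groth.Agent.S16937

/-- Let k be an algebraically closed field of characteristic zero and X a smooth proper geometrically
connected curve over k (topological dimension one) of genus g ≥ 2 (the text works over the complex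
numbers). Fix r ≥ 2 and N a theta characteristic: an invertible O_X-module of degree g − 1 with N ⊗
N isomorphic to the sheaf of differentials of X over k. Let M, with φ, be the moduli space U_X(r,0):
a k-scheme M, with its classifying morphism, corepresenting on all k-schemes the functor of families
of rank-r, degree-0, slope-semistable vector bundles on X modulo twisting by a line bundle from the
base, whose geometric points are the S-equivalence classes, and having a point over every
algebraically closed field over k; let M', with φ', be the moduli space SU_X(r) (the same for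
semistable bundles of rank r with determinant identified with O_X, with a point over every
algebraically closed field); Θ on M and Θ' on M' invertible modules inverse to the ideals of the
respective theta loci of N (Θ = O(Θ_N), Θ' the determinant bundle). Let J, with ψ, be the Jacobian
of X: a commutative k-group scheme which, on all k-schemes, is a coarse moduli scheme for line
bundles of degree zero on X modulo twisting from the base and whose group law is the tensor product
of line bundles; let Θ_J an invertible O_J-module inverse to the ideal of the theta locus of N on J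
(closure, with reduced structure, of the locus of degree-zero classes ξ with H^0(ξ ⊗ N) ≠ 0), so
that Θ_J = O_J(Θ_N); let φ_J identify J with its own fppf dual so that the homomorphism J → J
attached to Θ_J is the identity (the principal polarisation; this is the identification of J with
its dual used for all Fourier–Mukai transforms), and let P be an invertible module on J ×_k J whose
class is the Poincaré class of this self-duality (the normalised Poincaré bundle); assume, as holds,
that the category of O-modules on J ×_k J has injective resolutions. Let det : M → J be the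
determinant morphism. Assume the cohomological criterion for global generation on J, which the text
quotes without proof: every finite locally free O_J-module E with H^i(J, E ⊗ α) = 0 for all i > 0
and all invertible α algebraically equivalent to zero has E ⊗ L globally generated for every ample
invertible O_J-module L. Let m ≥ 2r + 1 and assume that Θ'^{⊗ m} is globally generated on M' and
that the multiplication map H^0(M', Θ'^{⊗ m}) ⊗ H^0(M', Θ'^{⊗ m}) → H^0(M', Θ'^{⊗ m} ⊗ Θ'^{⊗ m}) is
surjective. Then the multiplication map H^0(M, Θ^{⊗ m}) ⊗ H^0(M, Θ^{⊗ m}) → H^0(M, Θ^{⊗ m} ⊗ Θ^{⊗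
m}) is surjective. Multiplication maps are written as the map from the global sections of the
sectionwise tensor-product presheaf to the global sections of its sheafification. -/
theorem result (k : Type u) [Field k] [IsAlgClosed k] [CharZero k]
    (X : Scheme.{u}) [X.Over (Spec (CommRingCat.of k))]
    [IsProper (X ↘ Spec (CommRingCat.of k))] [Smooth (X ↘ Spec (CommRingCat.of k))]
    [GeometricallyConnected (X ↘ Spec (CommRingCat.of k))] (hdim : topologicalKrullDim ↥X = 1)
    (g : ℕ) (hg : Curv2.genus k X = g) (hg2 : 2 ≤ g)
    (r : ℕ) (hr : 2 ≤ r) (N : X.Modules) (hN : PicF.IsInvertible N) (hNdeg : Curv2.deg k X N 1 = (g : ℤ) - 1)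
    (hNth : Nonempty (CohB1.tensorMod N N ≅ Omega.sheaf (X ↘ Spec (CommRingCat.of k))))
    (M : Over (Spec (CommRingCat.of k))) (φ : (BunMod.USS (X ↘ Spec (CommRingCat.of k)) r 0).Hom ⊤ M)
    (hM : BunMod.IsModSS (X ↘ Spec (CommRingCat.of k)) ⊤ r 0 M φ)
    (hne : ∀ (Ω : Type u) [Field Ω] [IsAlgClosed Ω] (t : Spec (CommRingCat.of Ω) ⟶ Spec (CommRingCat.of k)),
      Nonempty (Over.mk t ⟶ M))
    (Θ : M.left.Modules) (hΘ : BunMod.IsThetaLB (X ↘ Spec (CommRingCat.of k)) (BunMod.ussOK (X ↘ Spec (CommRingCat.of k)) r 0) φ N Θ)
    (M' : Over (Spec (CommRingCat.of k))) (φ' : (BunMod.USSdet (X ↘ Spec (CommRingCat.of k)) r (Coh.structureModule X)).Hom ⊤ M')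
    (hM' : BunMod.IsModSSdet (X ↘ Spec (CommRingCat.of k)) ⊤ r (Coh.structureModule X) M' φ')
    (hne' : ∀ (Ω : Type u) [Field Ω] [IsAlgClosed Ω] (t : Spec (CommRingCat.of Ω) ⟶ Spec (CommRingCat.of k)),
      Nonempty (Over.mk t ⟶ M'))
    (Θ' : M'.left.Modules) (hΘ' : BunMod.IsThetaLB (X ↘ Spec (CommRingCat.of k)) (BunMod.ussDetOK (X ↘ Spec (CommRingCat.of k)) r (Coh.structureModule X)) φ' N Θ')
    (J : Over (Spec (CommRingCat.of k))) [GrpObj J] [IsCommMonObj J]
    (ψ : (ModFun.PicDeg (X ↘ Spec (CommRingCat.of k)) 0).Hom ⊤ J) (hJ : Jac.IsJacobian (X ↘ Spec (CommRingCat.of k)) ⊤ J ψ)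
    (ΘJ : J.left.Modules) (hΘJ : Jac.IsThetaLB (X ↘ Spec (CommRingCat.of k)) 0 ψ N ΘJ)
    (φJ : AgPol.DualMap J J) (hsd : Jac.IsSelfDual Scheme.fppfPrecoverage J φJ ΘJ)
    (P : (pullback J.hom J.hom).Modules) (hP : PicF.IsInvertible P) (hPP : AbDual.IsPoincareCl J J φJ (PicF.cl P))
    [HasInjectiveResolutions (pullback J.hom J.hom).Modules]
    (dm : M ⟶ J) (hdm : BunMod.IsDetMap (X ↘ Spec (CommRingCat.of k)) (BunMod.ussOK (X ↘ Spec (CommRingCat.of k)) r 0) φ 0 ψ dm)
    (hB1 : ∀ (E : J.left.Modules), FlatMod.IsFinLocFree E →
      (∀ (α : J.left.Modules), PicF.IsInvertible α → @Pic13.IsAlgEquivZero k _ J.left ⟨J.hom⟩ α →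
        ∀ i : ℕ, 0 < i → Subsingleton (Coh.HH J.left (CohB1.tensorMod E α) i)) →
      ∀ (L : J.left.Modules), CohB1.IsAmple L → Curv2.IsGloballyGenerated (CohB1.tensorMod E L))
    (m : ℕ) (hm : 2 * r + 1 ≤ m) (hgg : Curv2.IsGloballyGenerated (CohB1.tensorPow Θ' m))
    (hmul' : Function.Surjective ((toSheafify (Opens.grothendieckTopology M'.left) (CohB1.tensorPre (CohB1.tensorPow Θ' m) (CohB1.tensorPow Θ' m)).presheaf).app (Opposite.op ⊤))) :
    Function.Surjective ((toSheafify (Opens.grothendieckTopology M.left) (CohB1.tensorPre (CohB1.tensorPow Θ m) (CohB1.tensorPow Θ m)).presheaf).app (Opposite.op ⊤)) := by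
  exact K139.F7.row16937 hdim hg hg2 hr hN hNdeg hNth hΘ.1 hΘ'.1 hJ hΘJ hB1
    (K28.Rows.exists_str_of_det k X hdim g hg hg2 r hr N hN hNdeg M φ hM hne Θ hΘ
      (Coh.structureModule X) (Groth.Agent.BunMod.K596.RowUtil.isInvertible_structureModule X)
      (Groth.Agent.BunMod.K596.RowUtil.deg_structureModule k X) M' φ' hM' hne' Θ' hΘ' J ψ hJ ΘJ hΘJ dm hdm)
    m hm hmul'

end Groth.Agent.S16937
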