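import Groth.Statements.S16938
import Groth.Agent.Fano.K188.Dim
import Groth.Agent.Fano.K655.StdStable
import Groth.Agent.Fano.K980.IsoP1
import Mathlib.Analysis.Complex.Polynomial.Basic

set_option autoImplicit false
open CategoryTheory AlgebraicGeometry
open Fano

namespace Groth.Agent.S16938

/-- Let 1 ≤ d ≤ n − 3. For a general hypersurface X of degree d in P^n over ℂ, the projection to X of
the scheme of pointed lines on X (pairs consisting of a line contained in X and a point on it) is
flat with all fibres of dimension n − d − 1. Here X = V(G) for a degree-d form G, genericity is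
Zariski-genericity of G in the space of forms, the scheme of pointed lines is written as the
category over (Sch/ℂ) of stable 1-pointed genus-0 maps to X of degree 1 for O(1)|_X, flatness of its
evaluation functor is read on smooth charts, and the fibre over a closed point x of X is the full
subcategory of families whose evaluation factors through Spec κ(x) → X, its dimension being the
Krull dimension of its space of points. -/
theorem result (n d : ℕ) (hd : 1 ≤ d) (hdn : d + 3 ≤ n) :
    LefPen.IsGeneric ℂ {G : LefPen.Form n ℂ d |
      AlgSt.LocQ (AlgSp.LocP @Flat)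
          (StMap.MapSt.ev (Spec (CommRingCat.of ℂ)) (W4swstmapratcurves.hypOver G)
            (W4swstmapratcurves.hypO1 G) 0 1 1 0) ∧
        ∀ x : ↥(W4swstmapratcurves.hypOver G).left,
          IsClosed ({x} : Set ↥(W4swstmapratcurves.hypOver G).left) →
            topologicalKrullDim (AlgSt.Points (AlgSt.fullSub
              (StMap.MapSt (Spec (CommRingCat.of ℂ)) (W4swstmapratcurves.hypOver G)
                (W4swstmapratcurves.hypO1 G) 0 1 1)
              (fun B => StMap.MapsThrough 0
                ((W4swstmapratcurves.hypOver G).left.fromSpecResidueField x) B.obj))) = (n - d - 1 : ℕ)} := by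
  have hB : K188.FamIso.GeoFib ℂ n := fun Ω _ _ C q x μ a ha h hdeg =>
    K980.IsoP1.exists_iso_of_isStableMap Ω q x μ a ha h hdeg
  obtain ⟨f, hf, hv, hfv⟩ := K105.ConeDim.isGeneric_good (k := ℂ) hd hdn
  refine ⟨f, hf, hv, fun G hG => ?_⟩
  have hgood : K188.LineRing.Good G := hfv G hG
  have hA : K188.Line.StdStable G := fun T m v c i j hv hc hcj h =>
    K655.StdStable.isStable_std G m v c i j hv hc hcj h
  exact ⟨K188.Loc.locQ_flat hA hB hgood hd hdn, fun x hx => K188.Dim.dim_fibre hA hB hgood hd hdn x hx⟩

end Groth.Agent.S16938
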