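import Groth.Statements.S16939
import Groth.Agent.Fano.K745.Main

set_option autoImplicit false
open CategoryTheory AlgebraicGeometry
open Fano

namespace Groth.Agent.S16939

/-- Let d and n satisfy 1 ≤ d ≤ n − 3 and 2d ≤ n + 1. For a general hypersurface X of degree d in P^n
over ℂ, the moduli stack of stable unpointed genus-0 maps of degree 2 to X is irreducible of
dimension 3n − 2d − 2 and generically unobstructed: a general stable map μ : C → X in it has H^1(C,
μ^*T_X) = 0. Here X = V(G) for a degree-d form G, genericity is Zariski-genericity of G in the space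
of forms, the moduli stack is the category over (Sch/ℂ) of stable genus-0 maps to X of degree 2 for
O(1)|_X, irreducibility and dimension are those of its topological space of points, T_X is the dual
module of Ω_{X/ℂ}, and generic unobstructedness is stated as: some nonempty open set of points
consists of points whose representatives over algebraically closed fields are unobstructed maps. -/
theorem result (n d : ℕ) (hd : 1 ≤ d) (hdn : d + 3 ≤ n)
    (h2d : 2 * d ≤ n + 1) :
    LefPen.IsGeneric ℂ {G : LefPen.Form n ℂ d |
      IrreducibleSpace (AlgSt.Points (StMap.MapSt (Spec (CommRingCat.of ℂ)) (W4swstmapratcurves.hypOver G) (W4swstmapratcurves.hypO1 G) 0 0 2)) ∧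
      topologicalKrullDim (AlgSt.Points (StMap.MapSt (Spec (CommRingCat.of ℂ)) (W4swstmapratcurves.hypOver G) (W4swstmapratcurves.hypO1 G) 0 0 2)) = (3 * n - 2 * d - 2 : ℕ) ∧
      ∃ U : Set (AlgSt.Points (StMap.MapSt (Spec (CommRingCat.of ℂ)) (W4swstmapratcurves.hypOver G) (W4swstmapratcurves.hypO1 G) 0 0 2)), IsOpen U ∧ U.Nonempty ∧
        ∀ p : AlgSt.FPt (StMap.MapSt (Spec (CommRingCat.of ℂ)) (W4swstmapratcurves.hypOver G) (W4swstmapratcurves.hypO1 G) 0 0 2), IsAlgClosed p.K → AlgSt.Points.mk p ∈ U →
          Subsingleton (Coh.HH p.obj.obj.C ((Scheme.Modules.pullback p.obj.obj.map).obj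
            (RefHull.dual (Omega.sheaf (W4swstmapratcurves.hypOver G).hom))) 1)} := by
  exact K745.Main.main hd hdn

end Groth.Agent.S16939
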