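import Groth.Statements.S16940
import Groth.Agent.Fano.K239.SliceFin

set_option autoImplicit false
open CategoryTheory AlgebraicGeometry
open Fano

namespace Groth.Agent.S16940

/-- Let n ≥ 6 and 1 ≤ d ≤ (n + 1)/2. For a general hypersurface X of degree d in P^n over ℂ, for every e
≥ 1 and every r ≥ 0 the moduli stack of stable r-pointed genus-0 maps of degree e to X is
irreducible of dimension (n + 1 − d)e + (n − 4) + r. Here X = V(G) for a degree-d form G, genericity
is Zariski-genericity of G in the space of forms (one generic set serving all e and r), the moduli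
stack is the category over (Sch/ℂ) of stable r-pointed genus-0 maps to X of degree e for O(1)|_X,
and irreducibility and dimension are those of its topological space of points. (The published
statement also asserts that this stack is a local complete intersection; that clause is not part of
this row.) -/
theorem result (n d : ℕ) (hn : 6 ≤ n) (hd : 1 ≤ d)
    (h2d : 2 * d ≤ n + 1) :
    LefPen.IsGeneric ℂ {G : LefPen.Form n ℂ d | ∀ (e r : ℕ), 1 ≤ e →
      IrreducibleSpace (AlgSt.Points (StMap.MapSt (Spec (CommRingCat.of ℂ)) (W4swstmapratcurves.hypOver G)
        (W4swstmapratcurves.hypO1 G) 0 r (e : ℤ))) ∧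
      topologicalKrullDim (AlgSt.Points (StMap.MapSt (Spec (CommRingCat.of ℂ)) (W4swstmapratcurves.hypOver G)
        (W4swstmapratcurves.hypO1 G) 0 r (e : ℤ))) = ((n + 1 - d) * e + (n - 4) + r : ℕ)} := by
  exact K723.Fin40.isGeneric hd (by omega) h2d fun G hG e r he =>
    K723.HonIn.honInput hG hd (by omega) h2d (K239.SliceFin.sliceP G r e he)

end Groth.Agent.S16940
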