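import Groth.Statements.S16941
import Groth.Agent.MorSch.K314.FreeOpen

set_option autoImplicit false
universe u
open CategoryTheory CategoryTheory.Limits AlgebraicGeometry
open Curves

namespace Groth.Agent.S16941

/-- Let f : X → T be a smooth projective morphism with T locally Noetherian. Then the set of points t of
T such that the geometric fibre of f at t contains a free rational curve is open. Here the geometric
fibre is the fibre product of f with Spec of an algebraic closure Ω of the residue field κ(t), and a
free rational curve on it is a nonconstant Ω-morphism g from the projective line such that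
g^*Ω_{X_t̄/Ω} twisted by O(−1) has no nonzero global sections (equivalently g^*T is globally
generated). (The published statement is for a smooth proper morphism over an arbitrary base and says
that the fibre is separably uniruled; for a smooth proper variety over an algebraically closed field
separable uniruledness amounts to the existence of a free rational curve. This row assumes in
addition that f is projective and T locally Noetherian.) -/
theorem result
    (T X : Scheme.{u}) (f : X ⟶ T) [IsLocallyNoetherian T] [Smooth f]
    (hproj : ∃ (N : ℕ) (ι : X ⟶ CohB1.ProjSpaceOver N T), IsClosedImmersion ι ∧ ι ≫ CohB1.ProjSpaceOver.toBase N T = f) :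
    IsOpen {t : ↥T | ∃ g : CohB1.ProjSpace 1 (AlgebraicClosure ↥(T.residueField t)) ⟶ pullback f (Spec.map (CommRingCat.ofHom (algebraMap ↥(T.residueField t) (AlgebraicClosure ↥(T.residueField t)))) ≫ T.fromSpecResidueField t),
      g ≫ pullback.snd f (Spec.map (CommRingCat.ofHom (algebraMap ↥(T.residueField t) (AlgebraicClosure ↥(T.residueField t)))) ≫ T.fromSpecResidueField t) = CohB1.ProjSpace.toSpec 1 (AlgebraicClosure ↥(T.residueField t)) ∧
      (¬ ∃ x : ↥(pullback f (Spec.map (CommRingCat.ofHom (algebraMap ↥(T.residueField t) (AlgebraicClosure ↥(T.residueField t)))) ≫ T.fromSpecResidueField t)), Set.range g.base ⊆ {x}) ∧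
      Subsingleton (Coh.HH (CohB1.ProjSpace 1 (AlgebraicClosure ↥(T.residueField t)))
        (CohB1.tensorMod ((Scheme.Modules.pullback g).obj (Omega.sheaf (pullback.snd f (Spec.map (CommRingCat.ofHom (algebraMap ↥(T.residueField t) (AlgebraicClosure ↥(T.residueField t)))) ≫ T.fromSpecResidueField t))))
          (Twist.twistProjSpace 1 (AlgebraicClosure ↥(T.residueField t)) (-1))) 0)} := by
  obtain ⟨N, ι, hι, hιf⟩ := id hproj
  have hpT : IsProper (CohB1.ProjSpaceOver.toBase N T) := Dix.ProjProper.isProper_toBase N T
  have hfs : IsProper f := by rw [← hιf]; infer_instance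
  have h1 := K314.FreeLocus.isOpen_has f hproj (-1) (by norm_num) True
  convert h1 using 1
  ext t
  rw [Set.mem_ofPred_eq, Set.mem_ofPred_eq]
  have H : IsPullback (pullback.fst f (K314.FreeLocus.gpt T t)) (pullback.snd f (K314.FreeLocus.gpt T t)) f
      (K314.FreeLocus.gpt T t) := IsPullback.of_hasPullback _ _
  have h2 := K314.FreeLocus.has_iff H (-1) True (AlgebraicClosure ↥(T.residueField t)) (𝟙 _)
  rw [Category.id_comp] at h2
  rw [← h2]
  constructor
  · rintro ⟨g, hg1, hg2, hg3⟩
    refine ⟨g, by rw [Category.comp_id]; exact hg1, fun _ hc => hg2 ?_, hg3⟩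
    exact (K314.NonConst.isConst_iff_range (pullback.snd f (K314.FreeLocus.gpt T t)) g hg1).1 hc
  · rintro ⟨g, hg1, hg2, hg3⟩
    rw [Category.comp_id] at hg1
    refine ⟨g, hg1, fun hc => hg2 trivial ?_, hg3⟩
    exact (K314.NonConst.isConst_iff_range (pullback.snd f (K314.FreeLocus.gpt T t)) g hg1).2 hc

end Groth.Agent.S16941
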