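import Groth.Statements.S16951
import Groth.Agent.PicF.K248.GiDesc
import Groth.Agent.S2122

set_option autoImplicit false
universe u
open PicF

namespace Groth.Agent.S16951

open Groth.Agent.Fdesc.LocGen Groth.Agent.Grpsch AlgebraicGeometry CategoryTheory in
/-- The inverse of a module from the base comes from the base. -/
theorem inverse_of_pull {X S : Scheme.{u}} (f : X ⟶ S) {L M : X.Modules} (hL : PicF.IsInvertible L)
    (hM : PicF.IsInvertible M) (e : CohB1.tensorMod L M ≅ Coh.structureModule X) {L₀ : S.Modules}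
    (hL₀ : PicF.IsInvertible L₀) (e₀ : L ≅ (Scheme.Modules.pullback f).obj L₀) :
    Nonempty ((Scheme.Modules.pullback f).obj (PicGrp.dual L₀) ≅ M) := by
  have h0 : PicGrp.mk L hL * PicGrp.mk M hM = 1 := (PicGrp.mk_eq_one_iff _).2 ⟨e⟩
  have h1 : PicGrp.mk L hL = PicGrp.pull f (PicGrp.mk L₀ hL₀) := PicGrp.mk_congr e₀
  have h2 : PicGrp.pull f (PicGrp.mk (PicGrp.dual L₀) (PicGrp.isInvertible_dual hL₀)) =
      PicGrp.mk M hM := by
    rw [← PicGrp.inv_mk hL₀, map_inv, ← h1]
    exact inv_eq_of_mul_eq_one_right h0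
  exact (PicGrp.mk_eq_iff _ _).1 h2

open AlgebraicGeometry CategoryTheory Scheme.Modules in
/-- Let f : X → S be a proper flat morphism of locally Noetherian schemes whose fibres are geometrically
integral, and let L be an invertible O_X-module with an inverse M (an isomorphism L ⊗ M ≅ O_X). Then
the following are equivalent: (a) L ≅ f^* L₀ for some invertible O_S-module L₀; (b) for N = L and
for N = M, at every point s of S the space H^0(X_s, N|_{X_s}) of sections over the scheme-theoretic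
fibre is nonzero and the degree-0 base change map of the fibre square, κ(s)^* f_* N → (X_s → Spec
κ(s))_* (N|_{X_s}), is an epimorphism. When this holds, dim_{κ(s)} H^0(X_s, N|_{X_s}) = 1 for every
s and both N, the counit f^* f_* L → L is an isomorphism, and any invertible L₀ with L ≅ f^* L₀ is
isomorphic to f_* L. -/
theorem result
    {X S : Scheme.{u}} (f : X ⟶ S) [IsProper f] [Flat f] [IsLocallyNoetherian X] [IsLocallyNoetherian S]
    [GeometricallyIntegral f] (L M : X.Modules) (hL : PicF.IsInvertible L)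
    (hM : Nonempty (CohB1.tensorMod L M ≅ Coh.structureModule X)) :
    ((∃ L₀ : S.Modules, PicF.IsInvertible L₀ ∧ Nonempty (L ≅ (pullback f).obj L₀)) ↔
      ((∀ s : S, Nontrivial (CohIII.fiberH f L s 0)) ∧ (∀ s : S, Nontrivial (CohIII.fiberH f M s 0)) ∧
        (∀ s : S, Epi (CohBC.bc0 f (S.fromSpecResidueField s) (f.fiberToSpecResidueField s) (f.fiberι s) (f.fiber_fac s) L)) ∧ (∀ s : S, Epi (CohBC.bc0 f (S.fromSpecResidueField s) (f.fiberToSpecResidueField s) (f.fiberι s) (f.fiber_fac s) M)))) ∧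
    (((∀ s : S, Nontrivial (CohIII.fiberH f L s 0)) ∧ (∀ s : S, Nontrivial (CohIII.fiberH f M s 0)) ∧
        (∀ s : S, Epi (CohBC.bc0 f (S.fromSpecResidueField s) (f.fiberToSpecResidueField s) (f.fiberι s) (f.fiber_fac s) L)) ∧ (∀ s : S, Epi (CohBC.bc0 f (S.fromSpecResidueField s) (f.fiberToSpecResidueField s) (f.fiberι s) (f.fiber_fac s) M))) →
      (∀ s : S, CohIII.fiberRank f L 0 s = 1 ∧ CohIII.fiberRank f M 0 s = 1) ∧
      IsIso ((pullbackPushforwardAdjunction f).counit.app L) ∧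
      ∀ L₀ : S.Modules, PicF.IsInvertible L₀ → Nonempty (L ≅ (pullback f).obj L₀) →
        Nonempty (L₀ ≅ (pushforward f).obj L)) := by
  have hlfp : LocallyOfFinitePresentation f :=
    LocallyOfFinitePresentation.iff_locallyOfFiniteType.mpr inferInstance
  obtain ⟨e⟩ := hM
  have hMi : PicF.IsInvertible M := Groth.Agent.S2122.result M L (Groth.Agent.Ega2.Tens.swap M L ≪≫ e)
  have hf : ∀ U : S.Opens, IsIso (f.app U) := fun U => Groth.Agent.Grpsch.CubeData.isIso_app f U
  have key : (∀ s : S, Nontrivial (CohIII.fiberH f L s 0)) →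
      (∀ s : S, Nontrivial (CohIII.fiberH f M s 0)) →
      (∀ s : S, Epi (CohBC.bc0 f (S.fromSpecResidueField s) (f.fiberToSpecResidueField s)
        (f.fiberι s) (f.fiber_fac s) L)) →
      IsIso ((pullbackPushforwardAdjunction f).counit.app L) ∧
        PicF.IsInvertible ((pushforward f).obj L) := by
    intro h1 h2 h3
    have hgen := fun s : S => K248.GiDesc.exists_gen f hL hMi e s (h1 s) (h2 s) (h3 s)
    exact ⟨K248.BCInv.isIso_counit_of_isGen f hf hgen, K248.BCInv.isInvertible_push_of_isGen f hf hgen⟩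
  have key2 : ∀ L₀ : S.Modules, PicF.IsInvertible L₀ → Nonempty (L ≅ (pullback f).obj L₀) →
      (∀ s : S, (Nontrivial (CohIII.fiberH f L s 0) ∧ CohIII.fiberRank f L 0 s = 1 ∧
        IsIso (CohBC.bc0 f (S.fromSpecResidueField s) (f.fiberToSpecResidueField s) (f.fiberι s)
        (f.fiber_fac s) L)) ∧ (Nontrivial (CohIII.fiberH f M s 0) ∧ CohIII.fiberRank f M 0 s = 1 ∧
        IsIso (CohBC.bc0 f (S.fromSpecResidueField s) (f.fiberToSpecResidueField s) (f.fiberι s)
        (f.fiber_fac s) M))) := by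
    rintro L₀ hL₀ ⟨e₀⟩ s
    obtain ⟨e₁⟩ := inverse_of_pull f hL hMi e hL₀ e₀
    exact ⟨K248.GiDesc.fibre_of_pull f hL₀ e₀.symm s,
      K248.GiDesc.fibre_of_pull f (Groth.Agent.Grpsch.PicGrp.isInvertible_dual hL₀) e₁ s⟩
  refine ⟨⟨?_, ?_⟩, ?_⟩
  · rintro ⟨L₀, hL₀, e₀⟩
    have h := key2 L₀ hL₀ e₀
    refine ⟨fun s => (h s).1.1, fun s => (h s).2.1, fun s => ?_, fun s => ?_⟩
    · have := (h s).1.2.2
      infer_instance
    · have := (h s).2.2.2
      infer_instance
  · rintro ⟨h1, h2, h3, -⟩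
    obtain ⟨h4, h5⟩ := key h1 h2 h3
    exact ⟨(pushforward f).obj L, h5, ⟨(asIso ((pullbackPushforwardAdjunction f).counit.app L)).symm⟩⟩
  · rintro ⟨h1, h2, h3, -⟩
    obtain ⟨h4, h5⟩ := key h1 h2 h3
    have h := key2 ((pushforward f).obj L) h5
      ⟨(asIso ((pullbackPushforwardAdjunction f).counit.app L)).symm⟩
    refine ⟨fun s => ⟨(h s).1.2.1, (h s).2.2.1⟩, h4, ?_⟩
    rintro L₀ hL₀ ⟨e₀⟩
    exact K248.Descend.push_iso_of_pull f hf hL₀ e₀.symm

end Groth.Agent.S16951
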