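import Groth.Statements.S16962
import Groth.Agent.ConstAct.K915.Coaction

set_option autoImplicit false
universe u
open ConstAct

namespace Groth.Agent.S16962

open TensorProduct K915.ConstActCoaction

theorem msa_ext {M B : Type u} [Monoid M] [Semiring B] (a b : MulSemiringAction M B)
    (h : ∀ (m : M) (r : B), a.toDistribMulAction.toMulAction.toSMul.smul m r =
      b.toDistribMulAction.toMulAction.toSMul.smul m r) : a = b := by
  rcases a with ⟨⟩
  rcases b with ⟨⟩
  congr 1
  refine DistribMulAction.ext ?_
  funext m r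
  exact h m r

open TensorProduct in
/-- Let R be a commutative ring, Γ a finite group and B a commutative R-algebra equipped with a comodule
structure over the Hopf algebra of R-valued functions on Γ (the coordinate ring of the constant
group scheme of Γ over Spec R, with basis the indicator functions e_γ) whose coaction B → B ⊗ Fun(Γ,
R) is a homomorphism of algebras, i.e. an action of the constant group scheme on Spec B. Then there
is exactly one action of Γ on B by R-algebra automorphisms whose associated coaction b ↦ Σ_γ (γ · b)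
⊗ e_γ is the given coaction; and for that action the ring of invariants of the comodule algebra (the
b whose coaction is b ⊗ 1) equals the ring of elements fixed by Γ. (That the coaction associated
with an action is a comodule algebra structure is the other direction of the published equivalence
and is a construction here.) -/
theorem result (R : Type u) [CommRing R]
    (B : Type u) [CommRing B] [Algebra R B] (Γ : Type u) [Group Γ] [Fintype Γ] [DecidableEq Γ]
    [HopfRep.Comod R (ConstGrp.F R Γ) B] [GLin.IsCoactAlg R (ConstGrp.F R Γ) B] :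
    ∃! a : MulSemiringAction Γ B, ∃ _ : SMulCommClass Γ R B,
      ConstAct.coactLin R B Γ = HopfRep.Comod.coact (k := R) (A := ConstGrp.F R Γ) (V := B) ∧
        GLin.invariants R (ConstGrp.F R Γ) B = ConstAct.inv R B Γ := by
  classical
  -- the coaction in coordinates
  let ρ : B →ₗ[R] B ⊗[R] ConstGrp.F R Γ := HopfRep.Comod.coact (k := R) (A := ConstGrp.F R Γ) (V := B)
  have hρ : ρ = HopfRep.Comod.coact (k := R) (A := ConstGrp.F R Γ) (V := B) := rfl
  have hsum : ∀ b, ρ b = ∑ γ : Γ, evc R B γ (ρ b) ⊗ₜ[R] ConstGrp.e R γ := fun b => (sum_evc R B (ρ b)).symm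
  have hone : ∀ b, evc R B (1 : Γ) (ρ b) = b := by
    intro b
    have h := LinearMap.congr_fun (HopfRep.Comod.counit_comp (k := R) (A := ConstGrp.F R Γ) (V := B)) b
    have h2 := congrArg (TensorProduct.rid R B) h
    simp only [LinearMap.flip_apply, TensorProduct.mk_apply, TensorProduct.rid_tmul, one_smul] at h2
    exact h2
  have hmul : ∀ (γ δ : Γ) b, evc R B γ (ρ (evc R B δ (ρ b))) = evc R B (γ * δ) (ρ b) := by
    intro γ δ b
    have h : (TensorProduct.assoc R B (ConstGrp.F R Γ) (ConstGrp.F R Γ)) ((ρ.rTensor (ConstGrp.F R Γ)) (ρ b)) =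
        (CoalgebraStruct.comul (R := R) (A := ConstGrp.F R Γ)).lTensor B (ρ b) :=
      LinearMap.congr_fun (HopfRep.Comod.coassoc (k := R) (A := ConstGrp.F R Γ) (V := B)) b
    -- evaluate at (γ, δ)
    let E : B ⊗[R] (ConstGrp.F R Γ ⊗[R] ConstGrp.F R Γ) →ₗ[R] B :=
      evc R B γ ∘ₗ evc R (B ⊗[R] ConstGrp.F R Γ) δ ∘ₗ
        (TensorProduct.assoc R B (ConstGrp.F R Γ) (ConstGrp.F R Γ)).symm.toLinearMap
    have hE : ∀ (b : B) (f g : ConstGrp.F R Γ), E (b ⊗ₜ[R] (f ⊗ₜ[R] g)) = g δ • f γ • b := by
      intro b f g
      simp [E]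
    have h2 := congrArg E h
    have h3 : E ((TensorProduct.assoc R B (ConstGrp.F R Γ) (ConstGrp.F R Γ))
        ((ρ.rTensor (ConstGrp.F R Γ)) (ρ b))) = evc R B γ (ρ (evc R B δ (ρ b))) := by
      change evc R B γ (evc R (B ⊗[R] ConstGrp.F R Γ) δ ((TensorProduct.assoc R B (ConstGrp.F R Γ)
        (ConstGrp.F R Γ)).symm ((TensorProduct.assoc R B (ConstGrp.F R Γ) (ConstGrp.F R Γ))
        ((ρ.rTensor (ConstGrp.F R Γ)) (ρ b))))) = _
      rw [LinearEquiv.symm_apply_apply]
      congr 1
      conv_lhs => rw [hsum b]
      rw [map_sum, map_sum]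
      simp only [LinearMap.rTensor_tmul, evc_e, Finset.sum_ite_eq, Finset.mem_univ, if_true]
    have h4 : E ((CoalgebraStruct.comul (R := R) (A := ConstGrp.F R Γ)).lTensor B (ρ b)) =
        evc R B (γ * δ) (ρ b) := by
      conv_lhs => rw [hsum b]
      rw [map_sum, map_sum]
      rw [Finset.sum_eq_single (γ * δ)]
      · rw [LinearMap.lTensor_tmul]
        change E (_ ⊗ₜ[R] Coalgebra.comul (R := R) (ConstGrp.e R (γ * δ))) = _
        rw [ConstGrp.comul_e, TensorProduct.tmul_sum, map_sum, Finset.sum_eq_single γ]
        · rw [hE, ConstGrp.e_apply_self, inv_mul_cancel_left, ConstGrp.e_apply_self, one_smul, one_smul]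
        · intro a _ ha
          rw [hE, ConstGrp.e_apply_of_ne (Ne.symm ha), zero_smul, smul_zero]
        · intro hh; exact absurd (Finset.mem_univ _) hh
      · intro g _ hg
        rw [LinearMap.lTensor_tmul]
        change E (_ ⊗ₜ[R] Coalgebra.comul (R := R) (ConstGrp.e R g)) = _
        rw [ConstGrp.comul_e, TensorProduct.tmul_sum, map_sum]
        refine Finset.sum_eq_zero fun a _ => ?_
        rw [hE]
        by_cases ha : γ = a
        · subst ha
          have : δ ≠ γ⁻¹ * g := by
            rintro rfl
            exact hg (by rw [mul_inv_cancel_left])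
          rw [ConstGrp.e_apply_of_ne this, zero_smul]
        · rw [ConstGrp.e_apply_of_ne ha, zero_smul, smul_zero]
      · intro hh; exact absurd (Finset.mem_univ _) hh
    rw [h3, h4] at h2
    exact h2
  let a : MulSemiringAction Γ B :=
    { smul := fun γ b => evc R B γ (ρ b)
      one_smul := hone
      mul_smul := fun γ δ b => (hmul γ δ b).symm
      smul_zero := fun γ => by
        change evc R B γ (ρ 0) = 0
        rw [map_zero, map_zero]
      smul_add := fun γ x y => by
        change evc R B γ (ρ (x + y)) = evc R B γ (ρ x) + evc R B γ (ρ y)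
        rw [map_add, map_add]
      smul_one := fun γ => by
        change evc R B γ (ρ 1) = 1
        rw [hρ, GLin.IsCoactAlg.coact_one (k := R) (A := ConstGrp.F R Γ) (R := B), evc_one]
      smul_mul := fun γ x y => by
        change evc R B γ (ρ (x * y)) = evc R B γ (ρ x) * evc R B γ (ρ y)
        rw [hρ, GLin.IsCoactAlg.coact_mul (k := R) (A := ConstGrp.F R Γ) (R := B), evc_mul] }
  have ha : ∀ (γ : Γ) (b : B), γ • b = evc R B γ (ρ b) := fun _ _ => rfl
  have hcomm : SMulCommClass Γ R B := ⟨fun γ r b => by
    rw [ha, ha, map_smul, map_smul]⟩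
  refine ⟨a, ⟨hcomm, ?_, ?_⟩, ?_⟩
  · apply LinearMap.ext
    intro b
    rw [ConstAct.coactLin_apply]
    exact (hsum b).symm
  · ext b
    rw [GLin.mem_invariants_iff, ConstAct.mem_inv]
    constructor
    · intro h γ
      rw [ha, hρ, h, evc_tmul, ConstGrp.one_apply, one_smul]
    · intro h
      refine ext_evc R B fun γ => ?_
      rw [evc_tmul, ConstGrp.one_apply, one_smul]
      exact h γ
  · rintro a' ⟨hc, hco, -⟩
    refine msa_ext _ _ fun γ b => ?_
    have h := LinearMap.congr_fun hco b
    rw [ConstAct.coactLin_apply] at h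
    have h2 := congrArg (evc R B γ) h
    rw [map_sum] at h2
    simp only [evc_e, Finset.sum_ite_eq, Finset.mem_univ, if_true] at h2
    exact h2

end Groth.Agent.S16962
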