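import Groth.Statements.S16963
import Groth.Agent.ConstAct.K915.Coaction

set_option autoImplicit false
universe u
open scoped BigOperators
open ConstAct

namespace Groth.Agent.S16963

open TensorProduct K915.ConstActCoaction

open TensorProduct in
/-- Let R be a commutative ring and Γ a finite group acting on a commutative R-algebra B by R-algebra
automorphisms; regard B as a comodule algebra over the Hopf algebra of R-valued functions on Γ (the
constant group scheme of Γ acting on Spec B) through the coaction b ↦ Σ_γ (γ · b) ⊗ e_γ. Then the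
action is tame — there is a comodule map α from the Hopf algebra, with its regular coaction, to B
with α(1) = 1 (a total integral) — if and only if the trace b ↦ Σ_γ γ · b, which takes values in the
ring of invariants B^Γ, maps B onto B^Γ. -/
theorem result (R : Type u) [CommRing R]
    (B : Type u) [CommRing B] [Algebra R B] (Γ : Type u) [Group Γ] [Fintype Γ] [DecidableEq Γ]
    [MulSemiringAction Γ B] [SMulCommClass Γ R B] :
    letI := ConstAct.comod R B Γ
    (∃ α : ConstGrp.F R Γ →ₗ[R] B, Hoch.IsComodHom (ConstGrp.F R Γ) α ∧ α 1 = 1) ↔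
      ∀ c : B, c ∈ ConstAct.inv R B Γ → ∃ b : B, ∑ γ : Γ, γ • b = c := by
  classical
  let _ := ConstAct.comod R B Γ
  constructor
  · rintro ⟨α, hα, hα1⟩ c hc
    -- the value at the indicator function of `1`
    have h1 : ∀ g γ : Γ, γ • α (ConstGrp.e R g) = α (ConstGrp.e R (g * γ⁻¹)) := by
      intro g γ
      have h : ConstAct.coactLin R B Γ (α (ConstGrp.e R g)) =
          (α.rTensor (ConstGrp.F R Γ)) (Coalgebra.comul (R := R) (ConstGrp.e R g)) :=
        LinearMap.congr_fun hα (ConstGrp.e R g)
      rw [ConstAct.coactLin_apply, ConstGrp.comul_e, map_sum] at h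
      have h2 := congrArg (evc R B γ) h
      rw [map_sum, map_sum] at h2
      simp only [LinearMap.rTensor_tmul, evc_e, Finset.sum_ite_eq, Finset.mem_univ, if_true] at h2
      rw [h2, Finset.sum_eq_single (g * γ⁻¹)]
      · rw [if_pos]; group
      · intro a _ ha
        rw [if_neg]
        rintro rfl
        apply ha
        group
      · intro hh; exact absurd (Finset.mem_univ _) hh
    have h2 : ∑ γ : Γ, γ • α (ConstGrp.e R 1) = 1 := by
      rw [← hα1, ← ConstGrp.sum_e (R := R) (G := Γ), map_sum]
      refine Fintype.sum_equiv (Equiv.inv Γ) _ _ fun γ => ?_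
      rw [h1, one_mul]; rfl
    refine ⟨α (ConstGrp.e R 1) * c, ?_⟩
    have h3 : ∀ γ : Γ, γ • (α (ConstGrp.e R 1) * c) = (γ • α (ConstGrp.e R 1)) * c := by
      intro γ
      rw [smul_mul', hc γ]
    simp only [h3]
    rw [← Finset.sum_mul, h2, one_mul]
  · intro h
    obtain ⟨b, hb⟩ := h 1 (by intro γ; exact smul_one γ)
    refine ⟨(ConstGrp.basis R Γ).constr R fun g => g⁻¹ • b, ?_, ?_⟩
    · change ConstAct.coactLin R B Γ ∘ₗ _ = _ ∘ₗ Coalgebra.comul (R := R) (A := ConstGrp.F R Γ)
      refine ConstGrp.linearMap_ext fun g => ?_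
      have he : ∀ g : Γ, ((ConstGrp.basis R Γ).constr R fun g => g⁻¹ • b) (ConstGrp.e R g) = g⁻¹ • b := by
        intro g
        rw [← ConstGrp.basis_apply, Module.Basis.constr_basis]
      rw [LinearMap.comp_apply, he, ConstAct.coactLin_apply, LinearMap.comp_apply, ConstGrp.comul_e, map_sum]
      simp only [LinearMap.rTensor_tmul, he]
      refine Fintype.sum_equiv ((Equiv.inv Γ).trans (Equiv.mulLeft g)) _ _ fun γ => ?_
      change _ = ((g * γ⁻¹)⁻¹ • b) ⊗ₜ[R] ConstGrp.e R ((g * γ⁻¹)⁻¹ * g)
      rw [mul_inv_rev, inv_inv, mul_smul, inv_mul_cancel_right]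
    · rw [← ConstGrp.sum_e (R := R) (G := Γ), map_sum, ← hb]
      refine Fintype.sum_equiv (Equiv.inv Γ) _ _ fun γ => ?_
      rw [← ConstGrp.basis_apply, Module.Basis.constr_basis]; rfl

end Groth.Agent.S16963
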