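import Groth.Statements.S16964
import Groth.Agent.AlgSt.K743.Main964

set_option autoImplicit false
universe u
open AlgSt

namespace Groth.Agent.S16964

open CategoryTheory AlgebraicGeometry in
/-- Let R be a commutative ring and 𝒳 a Deligne–Mumford stack over (Sch/Spec R) for the etale topology
which is separated over Spec R (its diagonal over Spec R is representable by algebraic spaces and
proper; as Spec R is affine this is the same as separatedness of the absolute diagonal). Let x be a
point of 𝒳 of finite type, i.e. represented by a functor ξ₀ : (Sch/Spec k₀) → 𝒳 over (Sch/Spec R)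
for a field k₀ that is representable by algebraic spaces and locally of finite type; let k be an
algebraically closed field and Spec k → Spec k₀ a morphism over Spec R, so that the composite ξ :
(Sch/Spec k) → (Sch/Spec k₀) → 𝒳 is a geometric point over x; and let G be a finite group together
with an isomorphism onto the group of automorphisms over the identity of the object ξ(Spec k) (the
geometric stabilizer of x). Then there are a commutative R-algebra A with an action of G by
R-algebra automorphisms, a functor f : [Spec A/G] → 𝒳 over (Sch/Spec R) from the quotient stack of
Spec A by the constant group scheme of G (torsors locally trivial for the etale topology with an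
equivariant morphism to Spec A), and a functor w : (Sch/Spec k) → [Spec A/G] over (Sch/Spec R) with
a 2-isomorphism between f ∘ w and ξ, such that f is representable by algebraic spaces, etale and
affine, and for every scheme T over Spec k the map that f induces from the automorphisms over the
identity of w(T) to those of f(w(T)) is bijective (that is, w and its image under f have the same
stabilizer group scheme over k; for a Deligne–Mumford stack these stabilizers are etale group
schemes over the algebraically closed field k, so the condition amounts to a bijection between the
geometric stabilizer group of w and that of x). The published statement has no base scheme (stacks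
over all schemes); the row takes an affine base Spec R, over which the quotient stacks by constant
groups are formed. -/
theorem result
    (R : Type u) [CommRing R] (𝒳 : AlgSt.Cat (Spec (CommRingCat.of R)))
    (h𝒳 : AlgSt.IsDM Scheme.etalePrecoverage 𝒳) (hsep : AlgSt.IsSeparatedOver 𝒳)
    (k₀ : Type u) [Field k₀] (s₀ : Spec (CommRingCat.of k₀) ⟶ Spec (CommRingCat.of R))
    (ξ₀ : FibCat.overCat (Over.mk s₀) ⥤ᵇ 𝒳)
    (hξ₀ : AlgSt.RepByAlgSpWith (AlgSp.LocP @LocallyOfFiniteType) ξ₀)
    (k : Type u) [Field k] [IsAlgClosed k] (s : Spec (CommRingCat.of k) ⟶ Spec (CommRingCat.of R))
    (ι : Over.mk s ⟶ Over.mk s₀)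
    (G : Type u) [Group G] [Fintype G] [DecidableEq G]
    (eG : G ≃* Gerb.AutO ((BasedFunctor.comp (AlgSt.overMap ι) ξ₀).obj (Over.mk (𝟙 (Over.mk s))))) :
    ∃ (A : Type u) (_ : CommRing A) (_ : Algebra R A) (_ : MulSemiringAction G A) (_ : SMulCommClass G R A)
      (f : ConstAct.quotSt R A G Scheme.etalePrecoverage ⥤ᵇ 𝒳)
      (w : FibCat.overCat (Over.mk s) ⥤ᵇ ConstAct.quotSt R A G Scheme.etalePrecoverage)
      (_ : BasedFunctor.comp w f ≅ BasedFunctor.comp (AlgSt.overMap ι) ξ₀),
      AlgSt.RepByAlgSpWith AlgSp.IsEtaleMor f ∧ AlgSt.RepByAlgSpWith AlgSp.IsAffineMor f ∧
        ∀ T : Over (Over.mk s), Function.Bijective (Gerb.autMap f (w.obj T)) := by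
  exact K743.Main964.main R h𝒳 hsep k s (BasedFunctor.comp (AlgSt.overMap ι) ξ₀) G eG


end Groth.Agent.S16964
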