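import Groth.Statements.S16974
import Groth.Agent.Surf.K458.Fib1
import Groth.Agent.Surf.K455.Canon
import Groth.Agent.Surf.K455.Pos
import Groth.Agent.Surf.K457.Form
import Groth.Agent.Surf.K458.BigSec

set_option autoImplicit false
universe u
open CategoryTheory CategoryTheory.Limits AlgebraicGeometry TopologicalSpace
open Surf

namespace Groth.Agent.S16974

open Groth.Agent Groth.Agent.Grpsch.PicGrp Groth.Agent.Fga.PicMon
open K464.Base K464.Curves K464.PtCurve K464.FibCurve K464.DivLat

/-- Degrees through a tensor inverse. -/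
theorem intNum_inv (k : Type u) [Field k] {X : Scheme.{u}} [X.Over (Spec (CommRingCat.of k))]
    [IsProper (X ↘ Spec (CommRingCat.of k))] (hdim : topologicalKrullDim X ≤ (2 : ℕ)) {L L' : X.Modules}
    (hL : PicF.IsInvertible L) (hL' : ClSub.IsInverseOf L L') {D : X.IdealSheafData}
    (hD : BlowUp.IsEffCartierIdeal D) :
    FGA.intNum k X 2 ![L'] (ClSub.quotMod D) = degOn k X D (mk L hL) := by
  have hLi : PicF.IsInvertible L' := K457.Form.isInvertible_of_inverse (K457.Form.inverse_symm hL')
  have h1 : mk L' hLi = (mk L hL)⁻¹ := K457.Form.mk_eq_inv hL hLi hL'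
  have h2 := K458.Fib1.degOn_inv' k hdim hD (mk L hL)
  rw [← h1, degOn_mk] at h2
  rw [K455.Pos.intNum_one_eq, Fga.IntAdd.eulerCharLE_eq k X 2 hdim, Fga.IntAdd.eulerCharLE_eq k X 2 hdim,
    euler_congr k X (Ega2.Tens.swap L' (ClSub.quotMod D))]
  linarith

/-- Let f : S ⟶ B be a relatively minimal fibration of genus at least 2 over an algebraically closed
field k of characteristic 0: S is a smooth projective integral surface, B a smooth projective
integral curve, f a surjective k-morphism with O_B ⟶ f_*O_S an isomorphism (connected fibres), every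
closed fibre F = f⁻¹(p) has χ(O_F) < 0 (arithmetic genus ≥ 2), and no fibre contains a (-1)-curve:
for every integral closed curve E ⊆ S with regular local rings, mapped to a point of B and with
χ(O_E) = 1, the self-intersection E.E (the intersection number of its ideal sheaf with itself) is
not -1. Let L be an invertible O_S-module with a tensor inverse L' such that (1) deg L|_F > 0 for
every closed fibre F, and (2) for every integral closed curve C ⊆ S mapped to a point of B, deg L|_C
≥ 0, with deg L|_C > 0 unless C is a (-2)-curve (regular local rings, χ(O_C) = 1 and C.C = -2);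
degrees on F and C are the intersection numbers ∫ c_1(L)·[O_F], ∫ c_1(L)·[O_C] computed on S through
L'. Then the first higher direct image R^1 f_*(L^{⊗ h}) vanishes for all sufficiently large h. -/
theorem result (k : Type u) [Field k] [IsAlgClosed k] [CharZero k]
    (S : Scheme.{u}) [S.Over (Spec (CommRingCat.of k))] [IsProper (S ↘ (Spec (CommRingCat.of k)))]
    [Smooth (S ↘ (Spec (CommRingCat.of k)))] [IsIntegral S] (hdimS : topologicalKrullDim S = 2)
    (B : Scheme.{u}) [B.Over (Spec (CommRingCat.of k))] [IsProper (B ↘ (Spec (CommRingCat.of k)))]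
    [Smooth (B ↘ (Spec (CommRingCat.of k)))] [IsIntegral B] (hdimB : topologicalKrullDim B = 1)
    (f : S ⟶ B) [f.IsOver (Spec (CommRingCat.of k))] [Surjective f] (hconn : IsIso (ClSub.unitToPush f))
    (hg : ∀ p : B, IsClosed ({p} : Set B) → Curv2.euler k S (ClSub.quotMod (f.fiberι p).ker) < 0)
    (hmin : ∀ (E : Scheme.{u}) (j : E ⟶ S), IsClosedImmersion j → IsIntegral E → topologicalKrullDim E = 1 →
      (∀ e : E, IsRegularLocalRing (E.presheaf.stalk e)) → (∃ p : B, Set.range (j ≫ f).base ⊆ {p}) →
      Curv2.euler k S (ClSub.quotMod j.ker) = 1 →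
      FGA.intNum k S 2 ![ClSub.idealMod j.ker, ClSub.idealMod j.ker] (Coh.structureModule S) ≠ -1)
    [HasInjectiveResolutions S.Modules]
    (L L' : S.Modules) (hL : PicF.IsInvertible L) (hL' : ClSub.IsInverseOf L L')
    (hpos : ∀ p : B, IsClosed ({p} : Set B) → 0 < FGA.intNum k S 2 ![L'] (ClSub.quotMod (f.fiberι p).ker))
    (hcomp : ∀ (C : Scheme.{u}) (i : C ⟶ S), IsClosedImmersion i → IsIntegral C → topologicalKrullDim C = 1 →
      (∃ p : B, Set.range (i ≫ f).base ⊆ {p}) →
      0 ≤ FGA.intNum k S 2 ![L'] (ClSub.quotMod i.ker) ∧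
        (FGA.intNum k S 2 ![L'] (ClSub.quotMod i.ker) = 0 →
          (∀ c : C, IsRegularLocalRing (C.presheaf.stalk c)) ∧ Curv2.euler k S (ClSub.quotMod i.ker) = 1 ∧
            FGA.intNum k S 2 ![ClSub.idealMod i.ker, ClSub.idealMod i.ker] (Coh.structureModule S) = -2)) :
    ∃ h₀ : ℕ, ∀ h : ℕ, h₀ ≤ h → IsZero ((Coh.Rpush f 1).obj (CohB1.tensorPow L h)) := by
  have hf : f ≫ (B ↘ Spec (CommRingCat.of k)) = S ↘ Spec (CommRingCat.of k) := comp_over f _
  have : AlgebraicGeometry.IsNoetherian S := CurvesB.CurveRR.isNoetherian_of_proper k S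
  have : AlgebraicGeometry.IsNoetherian B := CurvesB.CurveRR.isNoetherian_of_proper k B
  have := K464.FibCurve.isProper k f hf
  have hlfp := K464.FibCurve.locallyOfFinitePresentation k f hf
  have hsm : SmoothOfRelativeDimension 2 (S ↘ Spec (CommRingCat.of k)) :=
    Picfga.CurveRelDim.smoothOfRelativeDimension_of_topologicalKrullDim_eq k S _ 2 hdimS
  have hregB : ∀ b : B, IsRegularLocalRing (B.presheaf.stalk b) := fun b => S1535.result k B b
  have hflat : Flat f := K456.FlatCurve.flat_of_dominant f hregB hdimB.le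
  obtain ⟨W, hW, hWi⟩ := K455.Canon.exists_canonical (n := 2) (S ↘ Spec (CommRingCat.of k))
  refine ⟨(fd f W).toNat + 1, fun h hh => ?_⟩
  have hM : PicF.IsInvertible (CohB1.tensorPow L h) := Fdesc.LocGen.isInvertible_tensorPow hL h
  have hMq : Coh.IsQCoh (CohB1.tensorPow L h) := Ega2.QCohLocal.isQCoh_of_isInvertible hM
  have hfp := Ega3B.ChiFib.isFP_of_isInvertible hM
  have hfl := Ega3B.ChiFib.isFlatOver_of_isInvertible f hM
  -- closed points
  have hb0 : ∀ b : B, IsClosed ({b} : Set B) → PerfAux.betti f (CohB1.tensorPow L h) b 1 = 0 := by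
    intro b hb
    have hptE : BlowUp.IsEffCartierIdeal (pt hb) := isEff_pt k (B ↘ Spec (CommRingCat.of k)) hdimB hregB hb
    have hFE : BlowUp.IsEffCartierIdeal ((pt hb).comap f) := isEff_fibre f hdimB hb hptE
    have hrange : ∀ C : S.IdealSheafData, (pt hb).comap f ≤ C → ∃ p : B,
        Set.range (C.subschemeι ≫ f).base ⊆ {p} := by
      intro C hC
      refine ⟨b, ?_⟩
      rintro _ ⟨x, rfl⟩
      have h1 : C.subschemeι x ∈ (C.support : Set S) := by
        rw [← Scheme.IdealSheafData.range_subschemeι]; exact Set.mem_range_self x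
      have h2 := Scheme.IdealSheafData.support_antitone hC h1
      have h3 : C.subschemeι x ∈ f ⁻¹' {b} := by rw [← K458.FibZar.support_fibre f hb]; exact h2
      exact h3
    have key := K458.Fib1.h1_fibre k f hf hdimS hdimB hW hWi hconn hb
      (by rw [← K458.RelMin.ker_fiberι f hb]; exact hg b hb)
      (fun C hC hle hreg hχ hE => by
        have h1 := hmin C.subscheme C.subschemeι inferInstance hC.integral ((dim_sub S C).trans hC.dim) hreg
          (hrange C hle) (by rw [Scheme.IdealSheafData.ker_subschemeι]; exact hχ)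
        rw [Scheme.IdealSheafData.ker_subschemeι, intNum_eq_dot k S hdimS.le
          (Dix.IdealModCartier.isInvertible_idealMod hE) (Dix.IdealModCartier.isInvertible_idealMod hE)] at h1
        exact h1) hL
      (by
        have h1 := hpos b hb
        rw [K458.RelMin.ker_fiberι f hb, intNum_inv k hdimS.le hL hL' hFE] at h1
        exact h1)
      (fun C hC hle => by
        have hE : BlowUp.IsEffCartierIdeal C := isEff_of_smooth k hdimS hC
        obtain ⟨h1, h2⟩ := hcomp C.subscheme C.subschemeι inferInstance hC.integral ((dim_sub S C).trans hC.dim)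
          (hrange C hle)
        rw [Scheme.IdealSheafData.ker_subschemeι, intNum_inv k hdimS.le hL hL' hE] at h1 h2
        refine ⟨h1, fun h3 => ?_⟩
        obtain ⟨-, h4, h5⟩ := h2 h3
        refine ⟨h4, fun hC' => ?_⟩
        rw [intNum_eq_dot k S hdimS.le (Dix.IdealModCartier.isInvertible_idealMod hE)
          (Dix.IdealModCartier.isInvertible_idealMod hE)] at h5
        exact h5) h
      (by
        rw [degOn_fibre k f hf hb hWi hdimS.le]
        omega)
    obtain ⟨τ, hτ, H⟩ := exists_isPullback_fibre k f hf hb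
    letI := overC k S ((pt hb).comap f)
    have h1 := Pic13.H952.FibrePt.finrank_eq_betti f τ ((pt hb).comap f).subschemeι H b hτ
      (CohB1.tensorPow L h) hMq 1
    rw [← h1]
    have h2 : Subsingleton (Coh.HH S (CohB1.tensorMod (ClSub.quotMod ((pt hb).comap f)) (CohB1.tensorPow L h)) 1) :=
      K464.Cohom.hh_congr (Ega2.Tens.swap _ _) 1 key
    have h3 : Subsingleton (Coh.HH ((pt hb).comap f).subscheme
        ((Scheme.Modules.pullback ((pt hb).comap f).subschemeι).obj (CohB1.tensorPow L h)) 1) :=
      (K464.Cohom.hhSub k ((pt hb).comap f) hM 1).symm.toEquiv.subsingleton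
    exact Module.finrank_zero_of_subsingleton
  -- all points
  have hall : ∀ y : B, PerfAux.betti f (CohB1.tensorPow L h) y 1 = 0 := by
    intro y
    by_contra hy
    have hopen := S1025.result f (CohB1.tensorPow L h) hfp hfl 1 1
    have hy' : y ∈ {s : B | PerfAux.betti f (CohB1.tensorPow L h) s 1 < 1}ᶜ := by
      simp only [Set.mem_compl_iff, Set.mem_setOf_eq]
      omega
    obtain ⟨z, hz, hzc⟩ := hopen.isClosed_compl.exists_closed_singleton ⟨y, hy'⟩
    have h1 := hb0 z hzc
    simp only [Set.mem_compl_iff, Set.mem_setOf_eq] at hz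
    omega
  have hq' : Coh.IsQCoh (CohB1.tensorPow L h) := hMq
  refine @S15985.result S B f _ _ _ (CohB1.tensorPow L h) hq' hfp hfl 1 (fun y => ?_)
  let _ : (f.fiber y).Over (Spec (CommRingCat.of (B.residueField y))) := ⟨f.fiberToSpecResidueField y⟩
  have hP : IsProper ((f.fiber y) ↘ Spec (CommRingCat.of (B.residueField y))) :=
    inferInstanceAs (IsProper (pullback.snd f (B.fromSpecResidueField y)))
  have hfin : Module.Finite (B.residueField y) (Coh.HH (f.fiber y)
      ((Scheme.Modules.pullback (f.fiberι y)).obj (CohB1.tensorPow L h)) 1) :=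
    K464.Cohom.finite_HH (B.residueField y)
      (isCoh_of_isInvertible (B.residueField y) (f.fiber y) (Fdesc.LocGen.isInvertible_pullback _ hM)) 1
  have h1 : Module.finrank (B.residueField y) (Coh.HH (f.fiber y)
      ((Scheme.Modules.pullback (f.fiberι y)).obj (CohB1.tensorPow L h)) 1) = 0 := hall y
  exact Module.finrank_zero_iff.1 h1

end Groth.Agent.S16974
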