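import Groth.Statements.S16975
import Groth.Agent.Surf.K458.FibZar
import Groth.Agent.Surf.K458.FibDiv

set_option autoImplicit false
universe u
open CategoryTheory CategoryTheory.Limits AlgebraicGeometry TopologicalSpace
open Surf

namespace Groth.Agent.S16975

/-- Let f : S ⟶ B be a relatively minimal fibration of genus at least 2 over an algebraically closed
field k of characteristic 0 (S a smooth projective integral surface, B a smooth projective integral
curve, f a surjective k-morphism with O_B ⟶ f_*O_S an isomorphism, every closed fibre with χ(O_F) <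
0, and no (-1)-curve in a fibre: every integral closed curve E ⊆ S with regular local rings, mapped
to a point and with χ(O_E) = 1, has E.E ≠ -1). Let p be a closed point of B, F = f⁻¹(p) its fibre, r
≥ 1, and D = rF the closed subscheme of S whose ideal sheaf is the r-th power of the ideal sheaf
m_p·O_S of F. Let N be an invertible O_D-module with negative total degree, χ(N) - χ(O_D) < 0, and
with deg N|_C ≤ 0 for every integral closed curve C ⊆ D. Then H^0(D, N) = 0. -/
theorem result (k : Type u) [Field k] [IsAlgClosed k] [CharZero k]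
    (S : Scheme.{u}) [S.Over (Spec (CommRingCat.of k))] [IsProper (S ↘ (Spec (CommRingCat.of k)))]
    [Smooth (S ↘ (Spec (CommRingCat.of k)))] [IsIntegral S] (hdimS : topologicalKrullDim S = 2)
    (B : Scheme.{u}) [B.Over (Spec (CommRingCat.of k))] [IsProper (B ↘ (Spec (CommRingCat.of k)))]
    [Smooth (B ↘ (Spec (CommRingCat.of k)))] [IsIntegral B] (hdimB : topologicalKrullDim B = 1)
    (f : S ⟶ B) [f.IsOver (Spec (CommRingCat.of k))] [Surjective f] (hconn : IsIso (ClSub.unitToPush f))
    (hg : ∀ p : B, IsClosed ({p} : Set B) → Curv2.euler k S (ClSub.quotMod (f.fiberι p).ker) < 0)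
    (hmin : ∀ (E : Scheme.{u}) (j : E ⟶ S), IsClosedImmersion j → IsIntegral E → topologicalKrullDim E = 1 →
      (∀ e : E, IsRegularLocalRing (E.presheaf.stalk e)) → (∃ p : B, Set.range (j ≫ f).base ⊆ {p}) →
      Curv2.euler k S (ClSub.quotMod j.ker) = 1 →
      FGA.intNum k S 2 ![ClSub.idealMod j.ker, ClSub.idealMod j.ker] (Coh.structureModule S) ≠ -1)
    (p : B) (hp : IsClosed ({p} : Set B)) (r : ℕ) (hr : 1 ≤ r)
    (D : Scheme.{u}) [D.Over (Spec (CommRingCat.of k))] (ιD : D ⟶ S) [IsClosedImmersion ιD]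
    (hιD : ιD ≫ (S ↘ Spec (CommRingCat.of k)) = D ↘ Spec (CommRingCat.of k))
    (hD : ιD.ker = ((Scheme.IdealSheafData.vanishingIdeal ⟨{p}, hp⟩).comap f) ^ r)
    (N : D.Modules) (hN : PicF.IsInvertible N) (hneg : Curv2.deg k D N 1 < 0)
    (hcompD : ∀ (C : Scheme.{u}) [C.Over (Spec (CommRingCat.of k))] (i : C ⟶ D), IsClosedImmersion i →
      IsIntegral C → topologicalKrullDim C = 1 → i ≫ (D ↘ Spec (CommRingCat.of k)) = C ↘ Spec (CommRingCat.of k) →
      Curv2.deg k C ((Scheme.Modules.pullback i).obj N) 1 ≤ 0) :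
    Subsingleton (Coh.HH D N 0) := by
  have hf : f ≫ (B ↘ Spec (CommRingCat.of k)) = S ↘ Spec (CommRingCat.of k) := comp_over f _
  have hPD : IsProper (D ↘ Spec (CommRingCat.of k)) := by rw [← hιD]; infer_instance
  refine K458.FibDiv.h0_of_neg k f hf hdimS hdimB hconn hp r ιD hιD hD hN hneg fun Γ hΓ => ?_
  let _ := K464.Curves.overC k D Γ
  have h1 := hcompD Γ.subscheme Γ.subschemeι inferInstance hΓ.integral
    ((K464.Curves.dim_sub D Γ).trans hΓ.dim) rfl
  rw [K464.Curves.degOn_eq_deg]
  exact h1

end Groth.Agent.S16975
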