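import Groth.Statements.S16976
import Groth.Agent.Surf.K458.FibZar
import Groth.Agent.Flat2C.StrictTr2
import Groth.Agent.AlgSp.K647.CartDesc

set_option autoImplicit false
universe u
open CategoryTheory CategoryTheory.Limits AlgebraicGeometry TopologicalSpace
open Surf

namespace Groth.Agent.S16976

open Groth.Agent Groth.Agent.Grpsch.PicGrp
open K464.Base K464.Curves K464.DegCurve K464.Cohom K464.PtCurve K464.FibCurve K464.DivLat K464.NegDef

theorem isEff_left {X : Scheme.{u}} {E F : X.IdealSheafData} (hE : Curv2.IsLocPrincipal E)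
    (h : BlowUp.IsEffCartierIdeal (E * F)) : BlowUp.IsEffCartierIdeal E :=
  Groth.Agent.Flat2C.StrictTr2.isEff_left_of_mul (K647.CartDesc.isLocPrincipal_iff.1 hE) h

/-- Let f : S ⟶ B be a relatively minimal fibration of genus at least 2 over an algebraically closed
field k of characteristic 0 (S a smooth projective integral surface, B a smooth projective integral
curve, f a surjective k-morphism with O_B ⟶ f_*O_S an isomorphism, every closed fibre with χ(O_F) <
0, and no (-1)-curve in a fibre: every integral closed curve E ⊆ S with regular local rings, mapped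
to a point and with χ(O_E) = 1, has E.E ≠ -1). Let F = f⁻¹(p) be the fibre over a closed point, with
ideal sheaf I_F = m_p·O_S. Then F is a positive multiple m·E of a 1-connected effective divisor E:
for every m ≥ 1 and every locally principal ideal sheaf I_E with I_E^m = I_F that is not the n-th
power (n ≥ 2) of a locally principal ideal sheaf (so that E = F/m with m the greatest common divisor
of the multiplicities of F), and for every factorisation I_E = I_A · I_B with I_A, I_B locally
principal ideal sheaves different from O_S (an effective decomposition E = A + B), the intersection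
number A.B — computed as the intersection number of the ideal sheaves I_A, I_B on S — is at least 1. -/
theorem result (k : Type u) [Field k] [IsAlgClosed k] [CharZero k]
    (S : Scheme.{u}) [S.Over (Spec (CommRingCat.of k))] [IsProper (S ↘ (Spec (CommRingCat.of k)))]
    [Smooth (S ↘ (Spec (CommRingCat.of k)))] [IsIntegral S] (hdimS : topologicalKrullDim S = 2)
    (B : Scheme.{u}) [B.Over (Spec (CommRingCat.of k))] [IsProper (B ↘ (Spec (CommRingCat.of k)))]
    [Smooth (B ↘ (Spec (CommRingCat.of k)))] [IsIntegral B] (hdimB : topologicalKrullDim B = 1)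
    (f : S ⟶ B) [f.IsOver (Spec (CommRingCat.of k))] [Surjective f] (hconn : IsIso (ClSub.unitToPush f))
    (hg : ∀ p : B, IsClosed ({p} : Set B) → Curv2.euler k S (ClSub.quotMod (f.fiberι p).ker) < 0)
    (hmin : ∀ (E : Scheme.{u}) (j : E ⟶ S), IsClosedImmersion j → IsIntegral E → topologicalKrullDim E = 1 →
      (∀ e : E, IsRegularLocalRing (E.presheaf.stalk e)) → (∃ p : B, Set.range (j ≫ f).base ⊆ {p}) →
      Curv2.euler k S (ClSub.quotMod j.ker) = 1 →
      FGA.intNum k S 2 ![ClSub.idealMod j.ker, ClSub.idealMod j.ker] (Coh.structureModule S) ≠ -1)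
    (p : B) (hp : IsClosed ({p} : Set B))
    (m : ℕ) (hm : 1 ≤ m) (IE : S.IdealSheafData) (hIE : Curv2.IsLocPrincipal IE)
    (hpow : IE ^ m = (Scheme.IdealSheafData.vanishingIdeal ⟨{p}, hp⟩).comap f)
    (hprim : ∀ n : ℕ, 2 ≤ n → ∀ J : S.IdealSheafData, Curv2.IsLocPrincipal J → J ^ n ≠ IE)
    (IA IB : S.IdealSheafData) (hIA : Curv2.IsLocPrincipal IA) (hIB : Curv2.IsLocPrincipal IB)
    (hA : IA ≠ ⊤) (hB : IB ≠ ⊤) (hAB : IA * IB = IE) :
    1 ≤ FGA.intNum k S 2 ![ClSub.idealMod IA, ClSub.idealMod IB] (Coh.structureModule S) := by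
  have hf : f ≫ (B ↘ Spec (CommRingCat.of k)) = S ↘ Spec (CommRingCat.of k) := comp_over f _
  have : AlgebraicGeometry.IsNoetherian S := CurvesB.CurveRR.isNoetherian_of_proper k S
  obtain ⟨r, C, n, hE, hC, hinj, hn, hF, hG, hrow⟩ := K458.FibZar.exists_decomp k f hf hdimS hdimB hconn hp
  have hcn : BlowUp.IsEffCartierIdeal (cyc C n) := isEff_cyc hE n
  have hpow' : IE ^ m = cyc C n := hpow.trans hF
  obtain ⟨m', rfl⟩ : ∃ m', m = m' + 1 := ⟨m - 1, by omega⟩
  have hIEe : BlowUp.IsEffCartierIdeal IE := isEff_left (F := IE ^ m') hIE (by rw [← pow_succ', hpow']; exact hcn)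
  have hIAe : BlowUp.IsEffCartierIdeal IA := isEff_left hIA (hAB ▸ hIEe)
  have hIBe : BlowUp.IsEffCartierIdeal IB := isEff_left (F := IA) hIB (by rw [mul_comm, hAB]; exact hIEe)
  have hsup : ((cyc C n).support : Set S) ⊆ ⋃ i, ((C i).support : Set S) := support_cyc_subset n
  have hmono : ∀ {I J : S.IdealSheafData}, I ≤ J → (J.support : Set S) ⊆ (I.support : Set S) := fun h =>
    Scheme.IdealSheafData.support_antitone h
  have hle : cyc C n ≤ IE := by rw [← hpow', pow_succ']; exact K464.DivLat.mul_le_left _ _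
  have hleA : IE ≤ IA := by rw [← hAB]; exact K464.DivLat.mul_le_left _ _
  have hleB : IE ≤ IB := by rw [← hAB]; exact K464.DivLat.mul_le_right' _ _
  obtain ⟨e, rfl⟩ := exists_cyc hC hE hIEe ((hmono hle).trans hsup)
  obtain ⟨a, rfl⟩ := exists_cyc hC hE hIAe ((hmono (hle.trans hleA)).trans hsup)
  obtain ⟨b, rfl⟩ := exists_cyc hC hE hIBe ((hmono (hle.trans hleB)).trans hsup)
  rw [← cyc_nsmul] at hpow'
  have hme : (m' + 1) • e = n := cyc_injective hC hE hinj hpow'
  rw [← cyc_add] at hAB
  have habe : a + b = e := cyc_injective hC hE hinj hAB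
  have hepos : ∀ i, 0 < e i := by
    intro i
    have h1 : (m' + 1) * e i = n i := congrFun hme i
    have h2 := hn i
    rw [← h1] at h2
    exact Nat.pos_of_mul_pos_left h2
  have hrow' : ∀ j, ∑ i, (e i : ℤ) * gram k hE i j = 0 := by
    intro j
    have h1 := hrow j
    have h2 : ∑ i, (n i : ℤ) * gram k hE i j = ((m' + 1 : ℕ) : ℤ) * ∑ i, (e i : ℤ) * gram k hE i j := by
      rw [Finset.mul_sum]
      refine Finset.sum_congr rfl fun i _ => ?_
      have h3 : (m' + 1) * e i = n i := congrFun hme i
      rw [← h3]; push_cast; ring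
    rw [h2] at h1
    rcases mul_eq_zero.1 h1 with h | h
    · exfalso
      have : (m' + 1 : ℕ) ≠ 0 := Nat.succ_ne_zero _
      exact this (by exact_mod_cast h)
    · exact h
  have ha0 : a ≠ 0 := by rintro rfl; exact hA (cyc_zero C)
  have hb0 : b ≠ 0 := by rintro rfl; exact hB (cyc_zero C)
  have hsymm : ∀ i j, gram k hE i j = gram k hE j i := gram_comm k hE
  have hoff : ∀ i j, i ≠ j → 0 ≤ gram k hE i j := gram_nonneg k hE hC hinj
  have hz : ∀ i, (0 : ℤ) < (e i : ℤ) := fun i => by exact_mod_cast hepos i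
  have hint : FGA.intNum k S 2 ![ClSub.idealMod (cyc C a), ClSub.idealMod (cyc C b)] (Coh.structureModule S) =
      - ∑ i, ∑ j, (a i : ℤ) * a j * gram k hE i j := by
    rw [intNum_eq_dot k S hdimS.le (Groth.Agent.Dix.IdealModCartier.isInvertible_idealMod (isEff_cyc hE a)) (Groth.Agent.Dix.IdealModCartier.isInvertible_idealMod (isEff_cyc hE b))]
    have h1 := dot_cyc_cyc k hE hdimS.le a b
    change dot k S (ic (cyc C a) (isEff_cyc hE a)) (ic (cyc C b) (isEff_cyc hE b)) = _
    rw [h1, eq_neg_iff_add_eq_zero, ← Finset.sum_add_distrib]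
    refine Finset.sum_eq_zero fun i _ => ?_
    rw [← Finset.sum_add_distrib]
    have h2 := hrow' i
    have h3 : ∑ j, ((a i : ℤ) * b j * gram k hE i j + (a i : ℤ) * a j * gram k hE i j) =
        (a i : ℤ) * ∑ j, (e j : ℤ) * gram k hE j i := by
      rw [Finset.mul_sum]
      refine Finset.sum_congr rfl fun j _ => ?_
      have h4 : a j + b j = e j := congrFun habe j
      rw [← h4, hsymm i j]; push_cast; ring
    rw [h3, h2, mul_zero]
  rw [hint]
  have hq := K458.ZarLem.quad_nonpos hsymm hoff (fun i => (e i : ℤ)) hz hrow' (fun i => (a i : ℤ))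
  by_contra hcon
  have hq0 : ∑ i, ∑ j, (a i : ℤ) * a j * gram k hE i j = 0 := by
    beta_reduce at hq
    omega
  obtain ⟨q, c, hq2, hqc⟩ := K458.ZarLem.exists_multiple habe hepos ha0 hb0
    (K458.ZarLem.proportional hsymm hoff hG (fun i => (e i : ℤ)) hz hrow' (fun i => (a i : ℤ)) hq0)
  refine hprim q hq2 (cyc C c) (K647.CartDesc.isLocPrincipal_of_isEff (isEff_cyc hE c)) ?_
  rw [← cyc_nsmul, ← hqc]

end Groth.Agent.S16976
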