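import Groth.Statements.S16977
import Groth.Agent.Curves.K331.ProjSer
-- import your own Groth.Agent.* helpers here

set_option autoImplicit false
universe u
open CategoryTheory CategoryTheory.Limits AlgebraicGeometry Opposite
open Curves

open Groth.Agent.Grpsch.PicGrp K532.CurvePic K319.PicCD

namespace Groth.Agent.S16977

/-- Let X be a smooth projective curve over an algebraically closed field k of characteristic 0
(integral, proper over k, of dimension one, all local rings regular) of genus g, and L an invertible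
O_X-module of degree d which is special (dim_k H^1(X, L) ≥ 1) with dim_k H^0(X, L) = r + 1. Suppose
the map given by the complete linear system of L is birational onto its image: there are an integral
closed subscheme j : Y ⟶ P^r_k, a morphism φ : X ⟶ Y over k which restricts to an isomorphism over
some nonempty open subset of Y, and a monomorphism ι from the pullback of O(1) along φ ≫ j into L,
such that every nonzero global section of O(1) on P^r_k pulls back to a nonzero section (so the r +
1 coordinate sections span H^0(X, L) and φ ≫ j is the map of the complete linear system, base points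
allowed). Then: (a) if L ⊗ L is special (dim_k H^1(X, L ⊗ L) ≥ 1), 3r - 1 ≤ d; (b) if L ⊗ L is
non-special, 3r - 1 + g ≤ 2d. Degrees are χ(·) - χ(O_X). -/
theorem result (k : Type u) [Field k] [IsAlgClosed k] [CharZero k] (X : Scheme.{u}) [X.Over (Spec (CommRingCat.of k))]
    [IsIntegral X] [IsProper (X ↘ (Spec (CommRingCat.of k)))] (hdim : topologicalKrullDim X = 1)
    (hreg : ∀ x : X, IsRegularLocalRing (X.presheaf.stalk x))
    (L : X.Modules) (hL : PicF.IsInvertible L) (r : ℕ)
    (h0 : Module.finrank k (Coh.HH X L 0) = r + 1) (h1 : 1 ≤ Module.finrank k (Coh.HH X L 1))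
    (Y : Scheme.{u}) [IsIntegral Y] (j : Y ⟶ CohB1.ProjSpace r k) [IsClosedImmersion j] (φ : X ⟶ Y)
    (hφ : φ ≫ j ≫ CohB1.ProjSpace.toSpec r k = X ↘ Spec (CommRingCat.of k))
    (hbir : ∃ U : Y.Opens, (U : Set Y).Nonempty ∧ IsIso (φ ∣_ U))
    (ι : (Scheme.Modules.pullback (φ ≫ j)).obj (Twist.twistProjSpace r k 1) ⟶ L) [Mono ι]
    (hnd : ∀ s : LinSer.Sect (CohB1.ProjSpace r k) (Twist.twistProjSpace r k 1), s ≠ 0 → OmegaSh.pullSect (φ ≫ j) (Twist.twistProjSpace r k 1) ⊤ s ≠ 0) :
    (1 ≤ Module.finrank k (Coh.HH X (CohB1.tensorMod L L) 1) → 3 * (r : ℤ) - 1 ≤ Curv2.deg k X L 1) ∧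
      (Module.finrank k (Coh.HH X (CohB1.tensorMod L L) 1) = 0 →
        3 * (r : ℤ) - 1 + Curv2.genus k X ≤ 2 * Curv2.deg k X L 1) := by
  have hX : Reg X := ⟨hdim, hreg⟩
  have hC := hX.isCurve (k := k)
  let F : X ⟶ CohB1.ProjSpace r k := φ ≫ j
  have hF : F ≫ CohB1.ProjSpace.toSpec r k = X ↘ Spec (CommRingCat.of k) := (Category.assoc _ _ _).trans hφ
  have hnd' := K331.ProjSer.nondeg F hF hnd
  have hN : PicF.IsInvertible ((Scheme.Modules.pullback (φ ≫ j)).obj (Twist.twistProjSpace r k 1)) :=
    Groth.Agent.Ega2.H296.PnGen.isInvertible_pullback_twist F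
  set c := mk _ hN with hc
  set a := mk L hL with ha
  have hd : h k X 0 (a / c) ≠ 0 :=
    (K319.HomSub.h_div_ne_zero_iff k hX hN hL).2 ⟨ι, K319.HomSub.ne_zero_of_mono hN ι⟩
  have hd' := Nat.pos_of_ne_zero hd
  have hac : c * (a / c) = a := mul_div_cancel c a
  have e0 : h k X 0 a = r + 1 := h0
  have e1 : 1 ≤ h k X 1 a := h1
  have f1 : r + 1 ≤ h k X 0 c := K331.ProjSer.le_finrank F hX hnd'
  have f2 : h k X 0 c ≤ h k X 0 a := by
    have := h0_le_mul hC c (a / c) hd'
    rwa [hac] at this
  have f3 : h k X 1 a ≤ h k X 1 c := by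
    have := h1_mul_le hC c (a / c) hd'
    rwa [hac] at this
  have hj : IsClosedImmersion (Y := Proj (MvPolynomial.homogeneousSubmodule (Fin (r + 1)) k)) j := ‹_›
  have key : 3 * r ≤ h k X 0 (c * c) :=
    K331.ProjSer.three_mul_le F hX hF φ hbir j rfl (r := r) (le_antisymm (f2.trans e0.le) f1) (by
      change 0 < h k X 1 c
      omega)
  have f4 : h k X 0 (c * c) ≤ h k X 0 (a * a) := by
    have := h0_le_mul hC (c * c) (a / c * (a / c)) (h0_mul_pos hC hd' hd')
    rwa [mul_mul_mul_comm, hac] at this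
  have f5 : 0 < h k X 0 (a * a) := h0_mul_pos hC (by omega) (by omega)
  have hLL := Groth.Agent.Fdesc.LocGen.isInvertible_tensorMod hL hL
  have e2 : mk (CohB1.tensorMod L L) hLL = a * a := (mk_mul_mk hL hL).symm
  have e3 : deg k X (a * a) = 2 * Curv2.deg k X L 1 := by
    rw [deg_mul hC, ha, deg_mk k X hdim hL]
    ring
  constructor
  · intro hs
    have g1 := K334.Clifford.clifford k hdim.le hLL (by rw [← h_mk k X 0 hLL, e2]; exact f5) hs
    rw [← h_mk k X 0 hLL, ← deg_mk k X hdim hLL, e2, e3] at g1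
    omega
  · intro hs
    have g1 := rr hC (a * a)
    rw [← h_mk k X 1 hLL, e2] at hs
    rw [hs, e3] at g1
    change _ = 2 * Curv2.deg k X L 1 + 1 - (Curv2.genus k X : ℤ) at g1
    omega

end Groth.Agent.S16977
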