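import Groth.Statements.S16978
import Groth.Agent.Curves.K331.ProjSer
import Groth.Agent.AgPol.K814.CurveHom
-- import your own Groth.Agent.* helpers here

set_option autoImplicit false
universe u
open CategoryTheory CategoryTheory.Limits AlgebraicGeometry Opposite
open Curves

open Groth.Agent.Grpsch.PicGrp K532.CurvePic K319.PicCD

namespace Groth.Agent.S16978

/-- Let X be a smooth projective curve over an algebraically closed field k of characteristic 0
(integral, proper over k, of dimension one, all local rings regular), and L an invertible O_X-module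
of degree d which is special (dim_k H^1(X, L) ≥ 1) with dim_k H^0(X, L) = r + 1. Suppose the map of
the complete linear system of L factors as X ⟶ Γ ⟶ Y ⟶ P^r_k where π : X ⟶ Γ is a k-morphism, finite
and flat of constant rank a, onto a smooth projective curve Γ over k of genus γ, Y ⟶ P^r_k is an
integral closed subscheme, ψ : Γ ⟶ Y restricts to an isomorphism over a nonempty open subset of Y,
the pullback of O(1) along the composite embeds in L by a monomorphism ι, and every nonzero global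
section of O(1) pulls back to a nonzero section (so the composite is the map of the complete linear
system, through an a-sheeted cover followed by a birational map). Then: (1) if a = 2, either 2r + 2γ
≤ d or 4r ≤ d; (2) if a ≥ 3, 3r ≤ d. Degrees are χ(·) - χ(O_X). -/
theorem result (k : Type u) [Field k] [IsAlgClosed k] [CharZero k] (X : Scheme.{u}) [X.Over (Spec (CommRingCat.of k))]
    [IsIntegral X] [IsProper (X ↘ (Spec (CommRingCat.of k)))] (hdim : topologicalKrullDim X = 1)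
    (hreg : ∀ x : X, IsRegularLocalRing (X.presheaf.stalk x))
    (L : X.Modules) (hL : PicF.IsInvertible L) (r : ℕ)
    (h0 : Module.finrank k (Coh.HH X L 0) = r + 1) (h1 : 1 ≤ Module.finrank k (Coh.HH X L 1))
    (Γ : Scheme.{u}) [Γ.Over (Spec (CommRingCat.of k))] [IsIntegral Γ] [IsProper (Γ ↘ (Spec (CommRingCat.of k)))]
    (hdimΓ : topologicalKrullDim Γ = 1) (hregΓ : ∀ y : Γ, IsRegularLocalRing (Γ.presheaf.stalk y))
    (π : X ⟶ Γ) (hπ : π ≫ (Γ ↘ Spec (CommRingCat.of k)) = X ↘ Spec (CommRingCat.of k))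
    [IsFinite π] [Flat π] (a : ℕ) (ha : ∀ y : Γ, Scheme.Hom.finrank π y = a)
    (Y : Scheme.{u}) [IsIntegral Y] (j : Y ⟶ CohB1.ProjSpace r k) [IsClosedImmersion j] (ψ : Γ ⟶ Y)
    (hψ : ψ ≫ j ≫ CohB1.ProjSpace.toSpec r k = Γ ↘ Spec (CommRingCat.of k))
    (hbir : ∃ U : Y.Opens, (U : Set Y).Nonempty ∧ IsIso (ψ ∣_ U))
    (ι : (Scheme.Modules.pullback (π ≫ ψ ≫ j)).obj (Twist.twistProjSpace r k 1) ⟶ L) [Mono ι]
    (hnd : ∀ s : LinSer.Sect (CohB1.ProjSpace r k) (Twist.twistProjSpace r k 1), s ≠ 0 → OmegaSh.pullSect (π ≫ ψ ≫ j) (Twist.twistProjSpace r k 1) ⊤ s ≠ 0) :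
    (a = 2 → 2 * (r : ℤ) + 2 * Curv2.genus k Γ ≤ Curv2.deg k X L 1 ∨ 4 * (r : ℤ) ≤ Curv2.deg k X L 1) ∧
      (3 ≤ a → 3 * (r : ℤ) ≤ Curv2.deg k X L 1) := by
  have hX : Reg X := ⟨hdim, hreg⟩
  have hC := hX.isCurve (k := k)
  have hXΓ : Reg Γ := ⟨hdimΓ, hregΓ⟩
  have hCΓ := hXΓ.isCurve (k := k)
  have hG : (ψ ≫ j) ≫ CohB1.ProjSpace.toSpec r k = Γ ↘ Spec (CommRingCat.of k) := (Category.assoc _ _ _).trans hψ
  have hN : PicF.IsInvertible ((Scheme.Modules.pullback (ψ ≫ j)).obj (Twist.twistProjSpace r k 1)) :=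
    Groth.Agent.Ega2.H296.PnGen.isInvertible_pullback_twist (ψ ≫ j)
  have hNX : PicF.IsInvertible ((Scheme.Modules.pullback (π ≫ ψ ≫ j)).obj (Twist.twistProjSpace r k 1)) :=
    Groth.Agent.Ega2.H296.PnGen.isInvertible_pullback_twist (π ≫ ψ ≫ j)
  have hndG : ∀ s : LinSer.Sect (CohB1.ProjSpace r k) (Twist.twistProjSpace r k 1), s ≠ 0 →
      OmegaSh.pullSect (ψ ≫ j) (Twist.twistProjSpace r k 1) ⊤ s ≠ 0 := by
    intro s hs h0
    apply hnd s hs
    have h1 := Groth.Agent.Fdesc.LocGen.pullSec_comp π (ψ ≫ j) (M := Twist.twistProjSpace r k 1) (U := ⊤) s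
    have h2 : Groth.Agent.Fdesc.LocGen.pullSec (ψ ≫ j) (M := Twist.twistProjSpace r k 1) (U := ⊤) s = 0 := h0
    rw [h2] at h1
    have h3 : Groth.Agent.Fdesc.LocGen.pullSec π (M := (Scheme.Modules.pullback (ψ ≫ j)).obj
      (Twist.twistProjSpace r k 1)) (U := (ψ ≫ j) ⁻¹ᵁ ⊤) 0 = 0 := map_zero _
    rw [h3] at h1
    have h4 : Function.Injective
        (((Scheme.Modules.pullbackComp π (ψ ≫ j)).inv.app (Twist.twistProjSpace r k 1)).app
          ((π ≫ ψ ≫ j) ⁻¹ᵁ ⊤)) :=
      (ConcreteCategory.bijective_of_isIso _).1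
    apply h4
    rw [map_zero]
    exact h1
  have hnd' := K331.ProjSer.nondeg (ψ ≫ j) hG hndG
  have f1 : r + 1 ≤ h k Γ 0 (mk _ hN) := K331.ProjSer.le_finrank (ψ ≫ j) hXΓ hnd'
  have hd : h k X 0 (mk L hL / mk _ hNX) ≠ 0 :=
    (K319.HomSub.h_div_ne_zero_iff k hX hNX hL).2 ⟨ι, K319.HomSub.ne_zero_of_mono hNX ι⟩
  have hd' := deg_nonneg hC (Nat.pos_of_ne_zero hd)
  rw [div_eq_mul_inv, deg_mul hC, deg_inv hC, deg_mk k X hdim hL] at hd'
  obtain ⟨y⟩ : Nonempty Γ := inferInstance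
  have hN2 : IsLocallyNoetherian Γ := LocallyOfFiniteType.isLocallyNoetherian (Γ ↘ Spec (CommRingCat.of k))
  have hπfp : LocallyOfFinitePresentation π := inferInstance
  have hdeg : deg k X (mk _ hNX) = a * deg k Γ (mk _ hN) := by
    have e1 : mk _ hNX = mk ((Scheme.Modules.pullback π).obj
        ((Scheme.Modules.pullback (ψ ≫ j)).obj (Twist.twistProjSpace r k 1)))
        (Groth.Agent.Fdesc.LocGen.isInvertible_pullback π hN) := by
      rw [mk_eq_iff]
      exact ⟨((Scheme.Modules.pullbackComp π (ψ ≫ j)).app _).symm⟩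
    rw [e1, deg_mk k X hdim, deg_mk k Γ hdimΓ, K814.CurveHom.deg_pullback k hdim hdimΓ π hπ _ hN y, ha]
  rw [hdeg] at hd'
  have f2 := h0_le_deg hCΓ (c := mk _ hN) (by omega)
  have f3 := rr hCΓ (mk _ hN)
  constructor
  · rintro rfl
    by_cases hs : 0 < h k Γ 1 (mk _ hN)
    · right
      have g1 := K334.Clifford.clifford k hdimΓ.le hN (by rw [← h_mk k Γ 0 hN]; omega) hs
      rw [← h_mk k Γ 0 hN, ← deg_mk k Γ hdimΓ hN] at g1
      push_cast at hd'
      omega
    · left
      change _ = _ + 1 - (Curv2.genus k Γ : ℤ) at f3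
      push_cast at hd'
      omega
  · intro h3
    have h4 : (3 : ℤ) ≤ a := by exact_mod_cast h3
    nlinarith

end Groth.Agent.S16978
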