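import Groth.Statements.S16979
import Mathlib.LinearAlgebra.Matrix.Charpoly.Coeff
import Mathlib.LinearAlgebra.Matrix.ToLinearEquiv
import Mathlib.LinearAlgebra.Eigenspace.Minpoly
import Mathlib.FieldTheory.IsAlgClosed.AlgebraicClosure
import Mathlib.RingTheory.Localization.FractionRing
import Mathlib.LinearAlgebra.Matrix.Charpoly.Minpoly

set_option autoImplicit false
universe u v
open CAlg

namespace Groth.Agent.S16979

open Polynomial in
theorem field_case {K : Type u} [Field K] [IsAlgClosed K] {n : Type v} [Fintype n] [DecidableEq n]
    (φ : Matrix n n K) (hsep : φ.charpoly.Separable) (f : K[X]) (hf : Polynomial.aeval φ f = 0) :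
    φ.charpoly ∣ f := by
  by_cases hf0 : f = 0
  · rw [hf0]; exact dvd_zero _
  have hsplit : φ.charpoly.Splits := IsAlgClosed.splits _
  rw [hsplit.eq_prod_roots_of_monic (Matrix.charpoly_monic φ),
    Multiset.prod_X_sub_C_dvd_iff_le_roots hf0]
  rw [Multiset.le_iff_subset (Polynomial.nodup_roots hsep)]
  intro μ hμ
  rw [Polynomial.mem_roots hf0, Polynomial.IsRoot.def]
  rw [Polynomial.mem_roots (Matrix.charpoly_monic φ).ne_zero, Polynomial.IsRoot.def,
    Matrix.eval_charpoly] at hμ
  obtain ⟨v, hv0, hv⟩ := Matrix.exists_mulVec_eq_zero_iff.mpr hμ
  have hev : Module.End.HasEigenvector (Matrix.toLin' φ) μ v := by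
    refine ⟨?_, hv0⟩
    rw [Module.End.mem_eigenspace_iff, Matrix.toLin'_apply]
    rw [Matrix.sub_mulVec, sub_eq_zero] at hv
    rw [← hv]
    simp
  have h1 := Module.End.aeval_apply_of_hasEigenvector (p := f) hev
  have h2 : Polynomial.aeval (Matrix.toLin' φ) f = 0 := by
    have := Polynomial.aeval_algHom_apply (Matrix.toLinAlgEquiv' : Matrix n n K ≃ₐ[K] _).toAlgHom φ f
    rw [hf, map_zero] at this
    exact this
  rw [h2, LinearMap.zero_apply] at h1
  exact (smul_eq_zero.mp h1.symm).resolve_right hv0

/-- Let R be an integral domain with fraction field K and φ a square matrix over R whose characteristic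
polynomial becomes separable in K[T] (equivalently, K[T] modulo the characteristic polynomial is
geometrically reduced over K). Then a polynomial f over R satisfies f(φ) = 0 exactly when the
characteristic polynomial of φ divides f in R[T]: the kernel of evaluation at φ (the minimal ideal
of φ) is the principal ideal generated by the characteristic polynomial. -/
theorem result
    {R : Type u} [CommRing R] [IsDomain R] {n : Type v} [Fintype n] [DecidableEq n]
    (φ : Matrix n n R)
    (hsep : (φ.charpoly.map (algebraMap R (FractionRing R))).Separable) :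
    RingHom.ker (Polynomial.aeval (R := R) φ) = Ideal.span {φ.charpoly} := by
  apply le_antisymm
  · intro f hf
    rw [RingHom.mem_ker] at hf
    rw [Ideal.mem_span_singleton]
    let K := AlgebraicClosure (FractionRing R)
    have hinj : Function.Injective (algebraMap R K) := by
      rw [IsScalarTower.algebraMap_eq R (FractionRing R) K]
      exact (algebraMap (FractionRing R) K).injective.comp (IsFractionRing.injective R _)
    rw [← Polynomial.map_dvd_map _ hinj (Matrix.charpoly_monic φ), ← Matrix.charpoly_map]
    apply field_case
    · rw [Matrix.charpoly_map, IsScalarTower.algebraMap_eq R (FractionRing R) K, ← Polynomial.map_map]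
      exact hsep.map
    · have h1 := Polynomial.map_aeval_eq_aeval_map (S := Matrix n n R) (T := K) (U := Matrix n n K)
        (φ := algebraMap R K) (ψ := (algebraMap R K).mapMatrix) (by
          ext r i j
          by_cases hij : i = j
          · simp [Matrix.algebraMap_matrix_apply, hij]
          · simp [Matrix.algebraMap_matrix_apply, hij]) f φ
      rw [hf, map_zero] at h1
      exact h1.symm
  · rw [Ideal.span_singleton_le_iff_mem, RingHom.mem_ker]
    exact Matrix.aeval_self_charpoly φ

end Groth.Agent.S16979
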