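import Groth.Statements.S16980
import Groth.Agent.CAlg.K90.KerTensor

set_option autoImplicit false
universe u
open CAlg

namespace Groth.Agent.S16980

/-- Let A be a commutative ring, J an A-module, A′ = A ⊕ εJ the trivial square-zero extension of A by J,
and τ any element of A′. Let B′ be the A′-algebra A′[x,y]/(xy − τ), presented by two generators x, y
with the evaluation map from the polynomial ring in two variables over A′ surjective and with kernel
generated by XY − τ. Let I ⊆ B′ be the ideal generated by the square-zero ideal J of A′, so that B =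
B′/I is A[x,y]/(xy − t) with t the A-component of τ. Then the first map of the conormal sequence of
B′ → B relative to A, namely I → B ⊗_{B′} Ω_{B′/A}, i ↦ 1 ⊗ di, is injective (so the sequence 0 → I
→ B ⊗_{B′} Ω_{B′/A} → Ω_{B/A} → 0 is exact on the left as well; this is the local computation at a
node for first-order deformations of nodal curves). -/
theorem result
    (A : Type u) [CommRing A] (J : Type u) [AddCommGroup J] [Module A J] [Module Aᵐᵒᵖ J]
    [IsCentralScalar A J] (τ : TrivSqZeroExt A J)
    (B' : Type u) [CommRing B'] [Algebra (TrivSqZeroExt A J) B'] [Algebra A B']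
    [IsScalarTower A (TrivSqZeroExt A J) B'] (x y : B')
    (hsurj : Function.Surjective
      (MvPolynomial.aeval ![x, y] : MvPolynomial (Fin 2) (TrivSqZeroExt A J) →ₐ[TrivSqZeroExt A J] B'))
    (hker : RingHom.ker
      (MvPolynomial.aeval ![x, y] : MvPolynomial (Fin 2) (TrivSqZeroExt A J) →ₐ[TrivSqZeroExt A J] B') =
      Ideal.span {MvPolynomial.X 0 * MvPolynomial.X 1 - MvPolynomial.C τ}) :
    Function.Injective (KaehlerDifferential.kerToTensor A B'
      (B' ⧸ Ideal.map (algebraMap (TrivSqZeroExt A J) B') (TrivSqZeroExt.kerIdeal A J))) := by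
  have hJJ : ∀ a ∈ RingHom.ker (TrivSqZeroExt.fstHom A A J : TrivSqZeroExt A J →+* A),
      ∀ b ∈ RingHom.ker (TrivSqZeroExt.fstHom A A J : TrivSqZeroExt A J →+* A), a * b = 0 := by
    intro a ha b hb
    have h1 : a * b ∈ (TrivSqZeroExt.kerIdeal A J) ^ 2 := by
      rw [pow_two]; exact Ideal.mul_mem_mul ha hb
    rw [TrivSqZeroExt.kerIdeal_sq] at h1
    exact h1
  exact K90.KerTensor.main (A := A) (R := TrivSqZeroExt A J) (B := B')
    (TrivSqZeroExt.fstHom A A J : TrivSqZeroExt A J →+* A) (fun a => rfl)
    (MvPolynomial.aeval ![x, y]) hJJ τ hsurj hker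

end Groth.Agent.S16980
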