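import Groth.Statements.S16982
import Groth.Agent.CAlg.K91.SqZero
import Groth.Agent.Ega41.PowEval
import Groth.Agent.Ega41.MvPS
import Mathlib.RingTheory.MvPowerSeries.Inverse

set_option autoImplicit false
universe u v w w'
open CAlg

namespace Groth.Agent.S16982

/-- Let R be a commutative ring, A a complete Noetherian local R-algebra written as a quotient of a
power series ring over R in finitely many variables by a surjective R-algebra map π, and f : E → A a
surjective R-algebra map whose kernel has square zero and is finitely generated. Then π lifts along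
f to an R-algebra map λ from the power series ring to E with f ∘ λ = π. (The published statement
takes R Artinian local and asks for a lift that is continuous for the adic topologies; this row
allows any commutative R and asks for any lift.) -/
theorem result
    {R : Type u} [CommRing R] {σ : Type v} [Finite σ]
    {A : Type w} {E : Type w'} [CommRing A] [CommRing E] [Algebra R A] [Algebra R E]
    [IsNoetherianRing A] [IsLocalRing A] [IsAdicComplete (IsLocalRing.maximalIdeal A) A]
    (π : MvPowerSeries σ R →ₐ[R] A) (hπ : Function.Surjective π)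
    (f : E →ₐ[R] A) (hf : Function.Surjective f)
    (hsq : RingHom.ker f.toRingHom ^ 2 = ⊥) (hfg : (RingHom.ker f.toRingHom).FG) :
    ∃ l : MvPowerSeries σ R →ₐ[R] E, f.comp l = π := by
  have hE := K91.SqZero.isAdicComplete_comap f.toRingHom hf hsq hfg
  -- the images of the variables lie in the maximal ideal
  have hX : ∀ i : σ, π (MvPowerSeries.X i) ∈ IsLocalRing.maximalIdeal A := by
    intro i
    rw [IsLocalRing.mem_maximalIdeal, mem_nonunits_iff]
    intro hu
    obtain ⟨b, hb⟩ := hu.exists_right_inv
    obtain ⟨g, rfl⟩ := hπ b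
    have h1 : IsUnit (1 - MvPowerSeries.X i * g : MvPowerSeries σ R) := by
      rw [MvPowerSeries.isUnit_iff_constantCoeff]
      simp
    have h2 := h1.map π
    rw [map_sub, map_mul, hb, map_one, sub_self] at h2
    exact not_isUnit_zero h2
  choose e he using fun i : σ => hf (π (MvPowerSeries.X i))
  have heJ : ∀ i, e i ∈ (IsLocalRing.maximalIdeal A).comap f.toRingHom := by
    intro i
    change f (e i) ∈ IsLocalRing.maximalIdeal A
    rw [he]
    exact hX i
  let l : MvPowerSeries σ R →ₐ[R] E := Groth.Agent.Ega41.PowEval.powEval _ e heJ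
  refine ⟨l, ?_⟩
  -- both sides agree on polynomials
  have hpoly : ∀ p : MvPolynomial σ R, f (l (p : MvPowerSeries σ R)) = π (p : MvPowerSeries σ R) := by
    intro p
    have h1 : l (p : MvPowerSeries σ R) = MvPolynomial.aeval e p :=
      Groth.Agent.Ega41.PowEval.powEval_coe _ e heJ p
    rw [h1]
    induction p using MvPolynomial.induction_on with
    | C r =>
      have hC : ((MvPolynomial.C r : MvPolynomial σ R) : MvPowerSeries σ R) =
          algebraMap R (MvPowerSeries σ R) r := by
        rw [MvPolynomial.coe_C]
        rfl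
      rw [hC, AlgHom.commutes, MvPolynomial.aeval_C, AlgHom.commutes]
    | add p q hp hq =>
      rw [map_add, map_add, hp (Groth.Agent.Ega41.PowEval.powEval_coe _ e heJ p),
        hq (Groth.Agent.Ega41.PowEval.powEval_coe _ e heJ q), ← map_add, ← MvPolynomial.coe_add]
    | mul_X p i hp =>
      rw [map_mul, map_mul, hp (Groth.Agent.Ega41.PowEval.powEval_coe _ e heJ p),
        MvPolynomial.aeval_X, he, ← map_mul, MvPolynomial.coe_mul, MvPolynomial.coe_X]
  have hmap : ∀ (φ : MvPowerSeries σ R →ₐ[R] A), (∀ i, φ (MvPowerSeries.X i) ∈ IsLocalRing.maximalIdeal A) →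
      ∀ (n : ℕ) (g : MvPowerSeries σ R), g ∈ Groth.Agent.Ega41.MvPS.varIdeal σ R ^ n →
        φ g ∈ IsLocalRing.maximalIdeal A ^ n := by
    intro φ hφ n g hg
    have h1 : (Groth.Agent.Ega41.MvPS.varIdeal σ R).map φ.toRingHom ≤ IsLocalRing.maximalIdeal A := by
      rw [Ideal.map_span, Ideal.span_le]
      rintro _ ⟨_, ⟨i, rfl⟩, rfl⟩
      exact hφ i
    have h2 : (Groth.Agent.Ega41.MvPS.varIdeal σ R ^ n).map φ.toRingHom ≤
        IsLocalRing.maximalIdeal A ^ n := by
      rw [Ideal.map_pow]
      exact Ideal.pow_right_mono h1 n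
    exact h2 (Ideal.mem_map_of_mem _ hg)
  refine AlgHom.ext fun g => ?_
  rw [IsHausdorff.eq_iff_smodEq (I := IsLocalRing.maximalIdeal A)]
  intro n
  rw [SModEq.sub_mem, smul_eq_mul, Ideal.mul_top]
  have h1 := Groth.Agent.Ega41.MvPS.sub_truncTotal_mem n g
  have h2 := hmap π hX n _ h1
  have h3 := hmap (f.comp l) (by
    intro i
    have : l (MvPowerSeries.X i) = e i := Groth.Agent.Ega41.PowEval.powEval_X _ e heJ i
    rw [AlgHom.comp_apply, this, he]
    exact hX i) n _ h1
  have h4 := Ideal.sub_mem _ h3 h2
  rw [map_sub, map_sub] at h4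
  have h5 : (f.comp l) ((MvPowerSeries.truncTotal n g : MvPolynomial σ R) : MvPowerSeries σ R) =
      π ((MvPowerSeries.truncTotal n g : MvPolynomial σ R) : MvPowerSeries σ R) := hpoly _
  rw [h5, sub_sub_sub_cancel_right] at h4
  exact h4

end Groth.Agent.S16982
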