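-- Proof of statement S16983 (DeformData.sum_fract_eq_one_and_floor_eq_of_special_signature).
import Groth.Statements.S16983
import Mathlib

set_option autoImplicit false
universe u
open DeformData

namespace Groth.Agent.S16983

/-- Let p be a prime, s ≥ 1, B a finite index set with a subset B₀ of exactly three elements, m_j ≥ 1
integers coprime to p, and σ_{i,j} (i < s, j ∈ B) rational numbers with m_j σ_{i,j} an integer, such
that Σ_j (σ_{i,j} − 1) = −2 for every i, the fractional part of σ_{i,j} equals that of p^i σ_{0,j},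
no σ_{i,j} equals 1, and the minimum over i of ⌊σ_{i,j}⌋ is 0 for j ∈ B₀ and 1 for j ∉ B₀. Then for
every i the fractional parts ⟨σ_{i,j}⟩ sum over j to 1 (purity), and ⌊σ_{i,j}⌋ is 0 on B₀ and 1 off
B₀ for every i. (The hypotheses are exactly the properties of the signature of a special deformation
datum on the projective line: each entry is an integer divided by a stabilizer order m_j in a group
of order prime to p, the degree identity coming from Riemann–Hurwitz, the Frobenius-twist relation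
between fractional parts, and the speciality conditions; the statement is given here for any such
tuple.) -/
theorem result
    {B : Type u} [Fintype B] [DecidableEq B] (B₀ : Finset B) (hB₀ : B₀.card = 3)
    (p : ℕ) (hp : p.Prime) (s : ℕ) (hs : 0 < s)
    (m : B → ℕ) (hm : ∀ j, 0 < m j) (hmp : ∀ j, Nat.Coprime (m j) p)
    (σ : Fin s → B → ℚ) (hint : ∀ i j, ∃ h : ℤ, σ i j = (h : ℚ) / (m j : ℚ))
    (hsum : ∀ i, ∑ j, (σ i j - 1) = -2)
    (hfract : ∀ i j, Int.fract (σ i j) = Int.fract ((p : ℚ) ^ (i : ℕ) * σ ⟨0, hs⟩ j))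
    (hne : ∀ i j, σ i j ≠ 1)
    (hB₀min : ∀ j ∈ B₀, (∃ i, ⌊σ i j⌋ = 0) ∧ ∀ i, 0 ≤ ⌊σ i j⌋)
    (hBmin : ∀ j ∉ B₀, (∃ i, ⌊σ i j⌋ = 1) ∧ ∀ i, 1 ≤ ⌊σ i j⌋) :
    (∀ i, ∑ j, Int.fract (σ i j) = 1) ∧ (∀ i j, ⌊σ i j⌋ = if j ∈ B₀ then 0 else 1) := by
  classical
  -- the target value of the floor
  set c : B → ℤ := fun j => if j ∈ B₀ then 0 else 1 with hc
  have hcle : ∀ i j, c j ≤ ⌊σ i j⌋ := by
    intro i j
    by_cases hj : j ∈ B₀
    · simp only [hc, if_pos hj]; exact (hB₀min j hj).2 i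
    · simp only [hc, if_neg hj]; exact (hBmin j hj).2 i
  -- the sum of `c`
  have hcsum : (∑ j, c j) = (Fintype.card B : ℤ) - 3 := by
    have h1 : (∑ j, c j) = ∑ j, ((1 : ℤ) - if j ∈ B₀ then 1 else 0) := by
      refine Finset.sum_congr rfl fun j _ => ?_
      by_cases hj : j ∈ B₀ <;> simp [hc, hj]
    rw [h1, Finset.sum_sub_distrib, Finset.sum_boole]
    simp only [Finset.sum_const, Finset.card_univ, nsmul_eq_mul, mul_one]
    have : (Finset.univ.filter fun j => j ∈ B₀) = B₀ := by ext j; simp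
    rw [this, hB₀]; norm_num
  -- floors plus fractional parts
  have htot : ∀ i, ((∑ j, ⌊σ i j⌋ : ℤ) : ℚ) + ∑ j, Int.fract (σ i j) = (Fintype.card B : ℚ) - 2 := by
    intro i
    have h1 := hsum i
    rw [Finset.sum_sub_distrib] at h1
    simp only [Finset.sum_const, Finset.card_univ, nsmul_eq_mul, mul_one] at h1
    have h2 : ∑ j, σ i j = ((∑ j, ⌊σ i j⌋ : ℤ) : ℚ) + ∑ j, Int.fract (σ i j) := by
      push_cast
      rw [← Finset.sum_add_distrib]
      exact Finset.sum_congr rfl fun j _ => (Int.floor_add_fract (σ i j)).symm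
    rw [← h2]; linarith
  have hfloorge : ∀ i, (Fintype.card B : ℤ) - 3 ≤ ∑ j, ⌊σ i j⌋ := by
    intro i
    rw [← hcsum]
    exact Finset.sum_le_sum fun j _ => hcle i j
  -- integrality propagates
  have hintprop : ∀ i j, Int.fract (σ i j) = 0 → ∀ i', Int.fract (σ i' j) = 0 := by
    intro i j h i'
    rw [hfract i j] at h
    obtain ⟨h0, hh0⟩ := hint ⟨0, hs⟩ j
    have hmj : (m j : ℚ) ≠ 0 := by exact_mod_cast (hm j).ne'
    -- `p^i σ_0j` is an integer
    have h1 : ∃ z : ℤ, (p : ℚ) ^ (i : ℕ) * σ ⟨0, hs⟩ j = z :=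
      ⟨⌊(p : ℚ) ^ (i : ℕ) * σ ⟨0, hs⟩ j⌋, by
        have := Int.floor_add_fract ((p : ℚ) ^ (i : ℕ) * σ ⟨0, hs⟩ j)
        rw [h, add_zero] at this
        exact this.symm⟩
    obtain ⟨z, hz⟩ := h1
    have h2 : ((p : ℤ) ^ (i : ℕ) * h0 : ℤ) = z * (m j : ℤ) := by
      rw [hh0] at hz
      have : (p : ℚ) ^ (i : ℕ) * (h0 : ℚ) = z * (m j : ℚ) := by
        field_simp at hz
        linarith
      exact_mod_cast this
    have h3 : (m j : ℤ) ∣ h0 := by
      have h4 : IsCoprime (m j : ℤ) ((p : ℤ) ^ (i : ℕ)) :=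
        ((Nat.isCoprime_iff_coprime).mpr (hmp j)).pow_right
      exact h4.dvd_of_dvd_mul_left ⟨z, by rw [h2]; ring⟩
    obtain ⟨w, hw⟩ := h3
    rw [hfract i' j, hh0, hw]
    have : (p : ℚ) ^ (i' : ℕ) * (((m j : ℤ) * w : ℤ) / (m j : ℚ)) = (((p : ℤ) ^ (i' : ℕ) * w : ℤ) : ℚ) := by
      push_cast
      field_simp
    rw [this, Int.fract_intCast]
  -- the sum of the fractional parts is positive
  have hpos : ∀ i, ∑ j, Int.fract (σ i j) ≠ 0 := by
    intro i h0
    have h1 : ∀ j, Int.fract (σ i j) = 0 := fun j =>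
      (Finset.sum_eq_zero_iff_of_nonneg fun j _ => Int.fract_nonneg _).mp h0 j (Finset.mem_univ j)
    have h2 : ∀ i' j, σ i' j = ⌊σ i' j⌋ := by
      intro i' j
      have := Int.floor_add_fract (σ i' j)
      rw [hintprop i j (h1 j) i', add_zero] at this
      exact this.symm
    -- B = B₀
    have h3 : ∀ j, j ∈ B₀ := by
      intro j
      by_contra hj
      obtain ⟨i', hi'⟩ := (hBmin j hj).1
      have := h2 i' j
      rw [hi'] at this
      exact hne i' j (by rw [this]; norm_num)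
    have h4 : B₀ = Finset.univ := Finset.eq_univ_iff_forall.mpr h3
    have h5 : Fintype.card B = 3 := by rw [← Finset.card_univ, ← h4, hB₀]
    have h6 : ∑ j, ⌊σ i j⌋ = 1 := by
      have := htot i
      rw [h0, h5] at this
      have h7 : ((∑ j, ⌊σ i j⌋ : ℤ) : ℚ) = 1 := by
        rw [add_zero] at this
        rw [this]; norm_num
      exact_mod_cast h7
    -- some floor is 1
    have h7 : ∀ j, ⌊σ i j⌋ ≤ 0 := by
      intro j
      by_contra hj
      push Not at hj
      have h8 : ⌊σ i j⌋ ≤ ∑ j, ⌊σ i j⌋ :=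
        Finset.single_le_sum (fun j _ => (hB₀min j (h3 j)).2 i) (Finset.mem_univ j)
      have h9 : ⌊σ i j⌋ = 1 := by omega
      have h10 := h2 i j
      rw [h9] at h10
      exact hne i j (by rw [h10]; norm_num)
    have h8 : ∑ j, ⌊σ i j⌋ ≤ 0 := Finset.sum_nonpos fun j _ => h7 j
    omega
  -- the sum of the floors
  have hfl : ∀ i, ∑ j, ⌊σ i j⌋ = (Fintype.card B : ℤ) - 3 := by
    intro i
    have h1 := htot i
    have h2 : 0 ≤ ∑ j, Int.fract (σ i j) := Finset.sum_nonneg fun j _ => Int.fract_nonneg _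
    have h3 : 0 < ∑ j, Int.fract (σ i j) := lt_of_le_of_ne h2 (hpos i).symm
    have h4 : ((∑ j, ⌊σ i j⌋ : ℤ) : ℚ) < (((Fintype.card B : ℤ) - 2 : ℤ) : ℚ) := by
      push_cast at h1 ⊢
      linarith
    have h5 : (∑ j, ⌊σ i j⌋ : ℤ) < (Fintype.card B : ℤ) - 2 := by exact_mod_cast h4
    have h6 := hfloorge i
    omega
  refine ⟨fun i => ?_, fun i j => ?_⟩
  · have h1 := htot i
    rw [hfl i] at h1
    push_cast at h1
    linarith
  · have h1 : ∑ j, c j = ∑ j, ⌊σ i j⌋ := by rw [hcsum, hfl i]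
    have h2 := (Finset.sum_eq_sum_iff_of_le fun j _ => hcle i j).mp h1 j (Finset.mem_univ j)
    exact h2.symm

end Groth.Agent.S16983
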