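-- Proof of statement S16984 (Hoch.range_tmul_one_eq_fixedPts_ind).
import Groth.Statements.S16984

set_option autoImplicit false
universe u v w
open Hoch

namespace Groth.Agent.S16984

open TensorProduct in
/-- Let k be a commutative ring, A a commutative k-bialgebra that is flat over k (the coordinate ring of
a flat affine group scheme over Spec k; flatness and commutativity are the standing hypotheses of
the appendix and are not needed for the assertion) and P a k-module. Then p ↦ p ⊗ 1 is an injection
of P into the induced comodule P ⊗ A (coaction id ⊗ Δ) whose image is exactly the submodule of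
invariants, i.e. the elements with coaction x ↦ x ⊗ 1. (The published statement writes the
coordinate-ring factor on the left and calls this module coinduced; this row is its degree-zero
part, the identification of P with the invariants of the coinduced module.) -/
theorem result (k : Type u) [CommRing k] (A : Type v) [CommRing A] [Bialgebra k A]
    [Module.Flat k A] (P : Type w) [AddCommGroup P] [Module k P] :
    Function.Injective ((Hoch.Ind.equiv k A P).toLinearMap ∘ₗ (TensorProduct.mk k P A).flip (1 : A)) ∧
    LinearMap.range ((Hoch.Ind.equiv k A P).toLinearMap ∘ₗ (TensorProduct.mk k P A).flip (1 : A)) =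
      HopfRep.fixedPts k A (Hoch.Ind k A P) := by
  refine ⟨fun p q h => ?_, le_antisymm ?_ ?_⟩
  · have h1 := congrArg (Hoch.Ind.counit k A P) h
    simpa [Hoch.Ind.counit_equiv_tmul] using h1
  · rintro _ ⟨p, rfl⟩
    change HopfRep.Comod.coact (k := k) (A := A) (Hoch.Ind.equiv k A P (p ⊗ₜ[k] (1 : A))) =
      (Hoch.Ind.equiv k A P (p ⊗ₜ[k] (1 : A))) ⊗ₜ[k] (1 : A)
    have := Hoch.Ind.coact_equiv_tmul k A P p (1 : A)
    rw [Bialgebra.comul_one, Algebra.TensorProduct.one_def, TensorProduct.assoc_symm_tmul] at this
    exact this
  · intro x hx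
    -- apply `id ⊗ ε ⊗ id`
    have hx' : (TensorProduct.assoc k P A A).symm ((Coalgebra.comul (R := k) (A := A)).lTensor P
        ((Hoch.Ind.equiv k A P).symm x)) = ((Hoch.Ind.equiv k A P).symm x) ⊗ₜ[k] (1 : A) := hx
    set y : P ⊗[k] A := (Hoch.Ind.equiv k A P).symm x with hy
    -- the map `(P ⊗ A) ⊗ A → P ⊗ A`, `(p ⊗ a) ⊗ b ↦ ε(a) p ⊗ b`
    let e : P ⊗[k] A →ₗ[k] P := (TensorProduct.rid k P).toLinearMap ∘ₗ
      (Coalgebra.counit (R := k) (A := A)).lTensor P
    have key : ∀ z : P ⊗[k] A, (e.rTensor A) ((TensorProduct.assoc k P A A).symm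
        ((Coalgebra.comul (R := k) (A := A)).lTensor P z)) = z := by
      intro z
      induction z using TensorProduct.induction_on with
      | zero => simp
      | add z₁ z₂ h₁ h₂ => simp only [map_add, h₁, h₂]
      | tmul p a =>
        rw [LinearMap.lTensor_tmul]
        have h1 : ∀ w : A ⊗[k] A, (e.rTensor A) ((TensorProduct.assoc k P A A).symm (p ⊗ₜ[k] w)) =
            p ⊗ₜ[k] (TensorProduct.lid k A ((Coalgebra.counit (R := k) (A := A)).rTensor A w)) := by
          intro w
          induction w using TensorProduct.induction_on with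
          | zero => simp
          | add z₁ z₂ h₁ h₂ => simp only [map_add, TensorProduct.tmul_add, h₁, h₂]
          | tmul a b =>
            simp [e, TensorProduct.smul_tmul]
        rw [h1, Coalgebra.rTensor_counit_comul]
        simp
    have h2 := congrArg (e.rTensor A) hx'
    rw [key y, LinearMap.rTensor_tmul] at h2
    refine ⟨e y, ?_⟩
    change Hoch.Ind.equiv k A P ((e y) ⊗ₜ[k] (1 : A)) = x
    rw [← h2, hy, LinearEquiv.apply_symm_apply]

end Groth.Agent.S16984
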