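import Groth.Statements.S16986
import Groth.Agent.QuadGrp.K916.NotSmooth
import Groth.Agent.QuadGrp.K916.CoordRep

set_option autoImplicit false
universe u
open CategoryTheory AlgebraicGeometry
open QuadGrp

namespace Groth.Agent.S16986

/-- Let Q be a quadratic form on R^n, n ≥ 1, over a commutative ring R, non-degenerate in the sense that
its polar form is a perfect pairing when n is even and its half-discriminant (in the standard basis)
is a unit when n is odd, and let G be a group scheme over Spec R which is the orthogonal group of Q
(its A-valued points are the isometries of the base change Q_A, naturally in the R-algebra A). Then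
G is smooth over Spec R if and only if n is even or 2 is a unit in R. (The published statement is
for a line-bundle-valued form on a vector bundle over an arbitrary scheme; the case of a free module
over an affine base with trivialised values is stated.) -/
theorem result (R : Type u) [CommRing R] (n : ℕ) (hn : 1 ≤ n)
    (Q : QuadraticForm R (Fin n → R))
    (hQ : QuadGrp.IsNondeg (Pi.basisFun R (Fin n)) (LinearEquiv.refl R R) Q)
    (G : Over (Spec (CommRingCat.of R))) [GrpObj G] (D : QuadGrp.OrthRep Q G) :
    AlgebraicGeometry.Smooth G.hom ↔ (Even n ∨ IsUnit (2 : R)) := by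
  rw [K916.RepC.smooth_iff D _ _ (K916.CoordRep.isUniv_O Q)]
  rcases Nat.even_or_odd n with he | ho
  · refine ⟨fun _ => Or.inl he, fun _ => ?_⟩
    exact K916.Coord.smooth _ _ (K916.LiftEven.lifts_of_isUnit_det _ (K916.Bridge.isUnit_det_of_isRegular Q (hQ.1 he)))
  · have hs := hQ.2 ho
    obtain ⟨m, rfl⟩ := ho
    have ha : IsUnit (QuadGrp.halfDisc (Pi.basisFun R (Fin (2 * m + 1))) (LinearEquiv.refl R R)
        (K917.Coef.qf (K917.Coef.cf Q))) := by
      rw [K917.Coef.qf_cf]; exact hs
    constructor
    · intro h
      exact Or.inr (K916.NotSmooth.isUnit_two_of_smooth _ ha h.formallySmooth)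
    · rintro (h | h)
      · exact absurd h (by rw [Nat.not_even_iff_odd]; exact ⟨m, rfl⟩)
      · have hreg : QuadGrp.IsRegular Q := by
          rw [K917.Base.isRegular_iff (Pi.basisFun R (Fin (2 * m + 1)))]
          have h1 : QuadGrp.disc (Pi.basisFun R (Fin (2 * m + 1))) (LinearEquiv.refl R R) Q =
              2 * QuadGrp.halfDisc (Pi.basisFun R (Fin (2 * m + 1))) (LinearEquiv.refl R R) Q := by
            rw [QuadGrp.disc, QuadGrp.halfDisc, ← K918.HalfDisc.two_mul_halfDiscUniv ⟨m, rfl⟩, MvPolynomial.eval₂_mul]
            congr 1
            rw [show (2 : MvPolynomial (Sym2 (Fin (2 * m + 1))) ℤ) = MvPolynomial.C 2 from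
              (map_ofNat MvPolynomial.C 2).symm, MvPolynomial.eval₂_C]
            simp
          rw [h1]
          exact h.mul hs
        exact K916.Coord.smooth _ _ (K916.LiftEven.lifts_of_isUnit_det _ (K916.Bridge.isUnit_det_of_isRegular Q hreg))

end Groth.Agent.S16986
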