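import Groth.Statements.S16990
import Groth.Agent.QuadGrp.K916.DicksonGlob

set_option autoImplicit false
universe u v
open QuadGrp

namespace Groth.Agent.S16990

/-- Comparison with SO′: over a commutative ring in which 2 is invertible, for a quadratic form Q on a
finite free module of even rank 2m ≥ 2 whose polar form is a perfect pairing, the isometries
satisfying the Dickson condition are exactly the isometries of determinant one. -/
theorem result {R : Type u} [CommRing R] [Invertible (2 : R)]
    {M : Type v} [AddCommGroup M] [Module R M] [Module.Free R M] [Module.Finite R M]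
    (m : ℕ) (hm : 1 ≤ m) (hM : Module.finrank R M = 2 * m) (Q : QuadraticForm R M) (hQ : QuadGrp.IsRegular Q) :
    QuadGrp.SOeven Q = QuadGrp.SO' Q := by
  apply le_antisymm
  · rintro g ⟨hg, hD⟩
    obtain ⟨e, -, hdet, hiff⟩ := K916.DicksonGlob.exists_dickson' hm hM Q hQ g hg
    refine ⟨hg, ?_⟩
    change LinearEquiv.det g = 1
    ext
    rw [hdet, hiff.1 hD, mul_zero, sub_zero, Units.val_one]
  · rintro g ⟨hg, hdet1⟩
    obtain ⟨e, -, hdet, hiff⟩ := K916.DicksonGlob.exists_dickson' hm hM Q hQ g hg
    refine ⟨hg, hiff.2 ?_⟩
    change LinearEquiv.det g = 1 at hdet1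
    rw [hdet1, Units.val_one] at hdet
    have h2 : (2 : R) * e = 0 := by linear_combination hdet
    exact ((isUnit_of_invertible (2 : R)).mul_right_eq_zero).1 h2

end Groth.Agent.S16990
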