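import Groth.Statements.S17006
import Groth.Agent.QuadGrp.K918.CentralizerEven

set_option autoImplicit false
universe u
open scoped TensorProduct
open QuadGrp

namespace Groth.Agent.S17006

/-- Let Q be a quadratic form on R^{2m}, m ≥ 2, over a commutative ring R, whose polar form is a perfect
pairing. An isometry g of Q satisfying the Dickson condition commutes, after base change to every
R-algebra A, with every isometry of Q_A satisfying the Dickson condition if and only if g is
multiplication by a scalar whose square is one. (Points-level form of: for even rank at least 4 the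
functorial centre of the special orthogonal group is the central μ₂ and coincides with that of the
naive one.) -/
theorem result (R : Type u) [CommRing R] (m : ℕ) (hm : 2 ≤ m)
    (Q : QuadraticForm R (Fin (2 * m) → R)) (hQ : QuadGrp.IsRegular Q)
    (g : (Fin (2 * m) → R) ≃ₗ[R] (Fin (2 * m) → R)) (hg : g ∈ QuadGrp.SO Q) :
    (∀ (A : Type u) [CommRing A] [Algebra R A], ∀ h ∈ QuadGrp.sorth Q A,
        g.baseChange R A (Fin (2 * m) → R) (Fin (2 * m) → R) * h = h * g.baseChange R A (Fin (2 * m) → R) (Fin (2 * m) → R)) ↔
      ∃ c : R, c * c = 1 ∧ ∀ v, g v = c • v := by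
  constructor
  · intro hcomm
    cases subsingleton_or_nontrivial R
    · exact ⟨1, Subsingleton.elim _ _, fun v => Subsingleton.elim _ _⟩
    have hfin : Module.finrank R (Fin (2 * m) → R) = 2 * m := by
      rw [Module.finrank_pi, Fintype.card_fin]
    have hgO : g ∈ QuadGrp.O Q := by
      rw [QuadGrp.SO, hfin, if_pos (even_two_mul m)] at hg
      exact hg.1
    have hc : ∀ v w x : Fin (2 * m) → R,
        QuadraticMap.polar Q v x • g w - QuadraticMap.polar Q w x • g v =
          QuadraticMap.polar Q v (g x) • w - QuadraticMap.polar Q w (g x) • v := by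
      intro v w x
      refine K918.Cliff.commutes_of_rot g v w (hcomm (DualNumber R) _ ?_) x
      have hfin' : Module.finrank (DualNumber R) (DualNumber R ⊗[R] (Fin (2 * m) → R)) = 2 * m := by
        rw [Module.finrank_baseChange, hfin]
      rw [QuadGrp.sorth, QuadGrp.SO, hfin', if_pos (even_two_mul m)]
      exact K918.Cliff.rot_mem_SOeven _ _ _ _
    let b := Pi.basisFun R (Fin (2 * m))
    obtain ⟨c, hc'⟩ := K918.Cliff.exists_scalar_of_commutes (by omega) b hQ g.toLinearMap hc
    refine ⟨c, ?_, hc'⟩
    let i0 : Fin (2 * m) := ⟨0, by omega⟩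
    have h1 := LinearMap.congr_fun (K918.Cliff.polarBilin_db b hQ i0) (b i0)
    rw [QuadraticMap.polarBilin_apply_apply, Module.Basis.coord_apply,
      b.repr_self, Finsupp.single_eq_same] at h1
    have h2 : ∀ x y, QuadraticMap.polar Q (g x) (g y) = QuadraticMap.polar Q x y := fun x y => by
      simp only [QuadraticMap.polar]
      rw [← map_add, hgO, hgO, hgO]
    have h3 := h2 (K918.Cliff.db b hQ i0) (b i0)
    have h4 : ∀ v, g v = c • v := hc'
    rw [h4, h4, QuadraticMap.polar_smul_left, QuadraticMap.polar_smul_right, h1] at h3
    simpa using h3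
  · rintro ⟨c, _, hc⟩ A _ _ h _
    have h1 : ∀ x, g.baseChange R A (Fin (2 * m) → R) (Fin (2 * m) → R) x = algebraMap R A c • x := by
      intro x
      induction x with
      | zero => rw [map_zero, smul_zero]
      | tmul a v =>
        rw [LinearEquiv.baseChange_tmul, hc, TensorProduct.tmul_smul, algebraMap_smul]
      | add x y hx hy => rw [map_add, hx, hy, smul_add]
    apply LinearEquiv.ext
    intro x
    rw [LinearEquiv.mul_apply, LinearEquiv.mul_apply, h1, h1, map_smul]

end Groth.Agent.S17006
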