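import Groth.Statements.S17009
import Groth.Agent.QuadGrp.K918.Center

set_option autoImplicit false
universe u v
open QuadGrp

namespace Groth.Agent.S17009

/-- For a quadratic form Q on a finite free module M of even rank 2m ≥ 2 over a commutative ring whose
polar form is a perfect pairing, every unit of the Clifford algebra normalising M is locally
homogeneous for the ℤ/2-grading (some idempotent e of the base has e u even and (1 − e) u odd), so
the naive Clifford group is contained in, hence equal to, the Clifford group of locally homogeneous
normalising units. (False for degenerate forms: for the zero form on a rank-two module over the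
field with two elements, 1 + v normalises the module and is not locally homogeneous.) -/
theorem result {R : Type u} [CommRing R] {M : Type v} [AddCommGroup M] [Module R M] [Module.Free R M] [Module.Finite R M]
    (m : ℕ) (hm : 1 ≤ m) (hM : Module.finrank R M = 2 * m) (Q : QuadraticForm R M) (hQ : QuadGrp.IsRegular Q) :
    QuadGrp.GPin' Q ≤ QuadGrp.LH Q := by
  cases subsingleton_or_nontrivial R
  · intro u _
    have : Subsingleton (CliffordAlgebra Q) := Module.subsingleton R _
    refine ⟨0, Subsingleton.elim _ _, ?_, ?_⟩
    · rw [Subsingleton.elim ((0 : R) • (u : CliffordAlgebra Q)) 0]; exact Submodule.zero_mem _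
    · rw [Subsingleton.elim ((1 - 0 : R) • (u : CliffordAlgebra Q)) 0]; exact Submodule.zero_mem _
  · intro u hu
    rw [K918.Cliff.mem_GPin'_iff] at hu
    exact K918.Cliff.isLocHomog_of_normalises (Module.finBasisOfFinrankEq R M hM) hQ
      (even_two_mul m) u.isUnit hu.1 hu.2

end Groth.Agent.S17009
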