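import Groth.Statements.S17021
import Groth.Agent.PicF.K247.ExtDesc
import Groth.Agent.QGor.K966.SerreBasic

set_option autoImplicit false
universe u
open CategoryTheory CategoryTheory.Limits AlgebraicGeometry
open PicF

namespace Groth.Agent.S17021

open Groth.Agent.Ega4dA.GenSec Groth.Agent.Ega4dA.ParaCrit Groth.Agent.Ega4dA.ParaBig
open Groth.Agent.Ega4dA.FlatBC Groth.Agent.Ega4dA.FlatDesc K247.ExtDesc

/-- Over a Noetherian local ring of dimension two `(S₂)` gives depth at least two. -/
theorem two_le_depth {R : Type u} [CommRing R] [IsLocalRing R] [IsNoetherianRing R]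
    (hS : LocCoh.HasSk 2 R R) (hd : ringKrullDim R = 2) : 2 ≤ LocCoh.depth R R := by
  refine K966.SerreBasic.le_idealDepth_of_hasSk 2 R _ hS fun p hp _ => ?_
  have hpm : p.asIdeal = IsLocalRing.maximalIdeal R :=
    ((IsLocalRing.maximalIdeal.isMaximal R).eq_of_le p.isPrime.ne_top hp).symm
  let e : LocalizedModule p.asIdeal.primeCompl R ≃ₗ[Localization.AtPrime p.asIdeal]
    Localization.AtPrime p.asIdeal := LinearEquiv.refl _ _
  rw [Module.supportDim_eq_of_equiv e, Module.supportDim_self_eq_ringKrullDim,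
    IsLocalization.AtPrime.ringKrullDim_eq_height p.asIdeal _, hpm,
    IsLocalRing.maximalIdeal_height_eq_ringKrullDim, hd]
  rfl

/-- Let X be a locally Noetherian scheme all of whose local rings satisfy Serre's condition (S₂), p a
closed point of X whose local ring has Krull dimension 2, U the open complement of p and L an
invertible O_U-module. Suppose L extends to an invertible module over an étale neighbourhood of p:
there are an étale morphism j : V → X, a point q of V with j(q) = p and an invertible O_V-module M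
whose pullback to j⁻¹(U) is isomorphic to the pullback of L along j⁻¹(U) → U. Then L extends to X:
some invertible O_X-module has pullback to U isomorphic to L. (Stated for schemes; the published
statement is for a Deligne–Mumford stack of dimension 2 satisfying (S₂) and its proof passes to a
scheme on an étale chart. Dimension 2 is imposed here on the local ring at p. The published setting
takes everything essentially of finite type over a field of characteristic zero; here X is only
assumed locally Noetherian.) -/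
theorem result {X : Scheme.{u}} [IsLocallyNoetherian X]
    (hS2 : ∀ x : X, LocCoh.HasSk 2 (X.presheaf.stalk x) (X.presheaf.stalk x))
    (p : X) (hp : IsClosed ({p} : Set X)) (hdim : ringKrullDim (X.presheaf.stalk p) = 2)
    (U : X.Opens) (hU : (U : Set X) = {p}ᶜ)
    (L : (U : Scheme.{u}).Modules) (hL : PicF.IsInvertible L)
    {V : Scheme.{u}} (j : V ⟶ X) [Etale j] (q : V) (hq : j.base q = p)
    (M : V.Modules) (hM : PicF.IsInvertible M)
    (e : (Scheme.Modules.pullback (j ⁻¹ᵁ U).ι).obj M ≅ (Scheme.Modules.pullback (j ∣_ U)).obj L) :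
    ∃ N : X.Modules, PicF.IsInvertible N ∧ Nonempty ((Scheme.Modules.pullback U.ι).obj N ≅ L) := by
  have hV : ∀ x : X, x ∉ U → 2 ≤ LocCoh.depth (X.presheaf.stalk x) (X.presheaf.stalk x) := by
    intro x hx
    have hxp : x = p := by
      by_contra hne
      exact hx (show x ∈ (U : Set X) from hU ▸ hne)
    subst hxp
    exact two_le_depth (hS2 x) hdim
  have hX : FunExt X U := fun W => Groth.Agent.Pi1A.DepthSpread.bijective_res_of_depth U hV (𝟙 X) W
  have hX' : FunExt V (j ⁻¹ᵁ U) := fun W => Groth.Agent.Pi1A.DepthSpread.bijective_res_of_depth U hV j W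
  have hfun : FunBij U.ι := by
    rw [funBij_iff, Scheme.Opens.opensRange_ι]
    exact hX
  let F := (Scheme.Modules.pushforward U.ι).obj L
  obtain ⟨e₁⟩ := nonempty_restrict_pushforward_iso U.ι L
  obtain ⟨e₂⟩ := restrict_pullback_iso j U F
  have e₃ : M.restrict (j ⁻¹ᵁ U).ι ≅ ((Scheme.Modules.pullback j).obj F).restrict (j ⁻¹ᵁ U).ι :=
    (Scheme.Modules.restrictFunctorIsoPullback (j ⁻¹ᵁ U).ι).app _ ≪≫ e ≪≫
      (Scheme.Modules.pullback (j ∣_ U)).mapIso (e₁.symm ≪≫ (Scheme.Modules.restrictFunctorIsoPullback U.ι).app F) ≪≫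
      e₂.symm
  have hFV : InvOn F U := by
    have := invOn_pushforward U.ι hL
    rwa [Scheme.Opens.opensRange_ι] at this
  have hc : ∀ W : X.Opens, IsAffineOpen W → IsCompact ((W ⊓ U : X.Opens) : Set X) := by
    intro W hW
    have : IsNoetherian (W : Scheme.{u}) := by
      have : IsAffine (W : Scheme.{u}) := hW
      have : IsLocallyNoetherian (W : Scheme.{u}) := isLocallyNoetherian_of_isOpenImmersion W.ι
      exact {}
    have h1 : IsCompact ((W.ι ⁻¹ᵁ U : (W : Scheme.{u}).Opens) : Set (W : Scheme.{u})) :=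
      TopologicalSpace.NoetherianSpace.isCompact _
    have h2 := h1.image W.ι.continuous
    convert h2 using 1
    change _ = ((W.ι ''ᵁ (W.ι ⁻¹ᵁ U) : X.Opens) : Set X)
    rw [Scheme.Hom.image_preimage_eq_opensRange_inf, Scheme.Opens.opensRange_ι]
  have hinv : PicF.IsInvertible F := by
    rw [isInvertible_pushforward_iff U.ι hfun]
    intro x
    by_cases hxU : x ∈ U
    · obtain ⟨W₁, hxW₁, s₁, hs₁⟩ := isInvertible_iff.mp hL ⟨x, hxU⟩
      refine ⟨U.ι ''ᵁ W₁, ⟨⟨x, hxU⟩, hxW₁, rfl⟩, ?_⟩
      have h4 : U.ι ⁻¹ᵁ (U.ι ''ᵁ W₁) ≤ W₁ := by rw [Scheme.Hom.preimage_image_eq]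
      exact ⟨_, hs₁.mono h4⟩
    · have hxp : x = p := by
        by_contra hne
        exact hxU (show x ∈ (U : Set X) from hU ▸ hne)
      have hx' : j q = x := by rw [hxp]; exact hq
      obtain ⟨_, ⟨W, hW, rfl⟩, hxW, -⟩ := X.isBasis_affineOpens.exists_subset_of_mem_open
        (show x ∈ (⊤ : X.Opens) from trivial) (⊤ : X.Opens).isOpen
      obtain ⟨W₁, hx'W₁, s₁, hs₁⟩ := isInvertible_iff.mp hM q
      have hx'W : q ∈ W₁ ⊓ j ⁻¹ᵁ W := ⟨hx'W₁, by change j q ∈ W; rw [hx']; exact hxW⟩
      obtain ⟨s', hs'⟩ := exists_isGen_of_restrict_iso (j ⁻¹ᵁ U) e₃ _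
        (hs₁.mono (inf_le_left : W₁ ⊓ j ⁻¹ᵁ W ≤ W₁))
      obtain ⟨W₂, -, hxW₂, s, hs⟩ := exists_gen_near j hc hX' hW F (hFV.mono inf_le_right) x hxW q hx'
        inf_le_right hx'W s' hs'
      refine ⟨W₂, hxW₂, ?_⟩
      have h3 := (isGen_pushforward_iff_of_le U.ι L (W := W₂ ⊓ U) (by
        rw [Scheme.Opens.opensRange_ι]; exact inf_le_right) s).mp hs
      have h4 : U.ι ⁻¹ᵁ W₂ ≤ U.ι ⁻¹ᵁ (W₂ ⊓ U) := fun z hz => ⟨hz, z.2⟩
      exact ⟨_, h3.mono h4⟩
  exact ⟨F, hinv, ⟨(Scheme.Modules.restrictFunctorIsoPullback U.ι).symm.app _ ≪≫ e₁⟩⟩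

end Groth.Agent.S17021
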