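import Groth.Statements.S17022
import Groth.Agent.Curves.K321.FibDeg
import Groth.Agent.Curves.K321.HurwEt
import Groth.Agent.S0219
import Groth.Agent.S0023
import Groth.Agent.Models.K382.RatFib
import Groth.Agent.AbVar.K507.SmoothFacts
import Groth.Agent.Models.H59.P1Fibre
import Groth.Agent.VarietyA.CurveFin
import Groth.Agent.Curves.K318.GeomInt
import Groth.Agent.AlgEqCyc.K824.DegZero

set_option autoImplicit false
universe u
open CategoryTheory CategoryTheory.Limits AlgebraicGeometry
open Curves

namespace Groth.Agent.S17022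

open Groth.Agent Groth.Agent.Divis.NormSheaf TopologicalSpace
open K321.HurwLoc K321.HurwBase K321.HurwEt

attribute [local instance] Curv2.resAlgebra

theorem ram_eq_one_of_restrict {X Y : Scheme.{u}} (f : X ⟶ Y) [LocallyOfFiniteType f] (W : Y.Opens)
    [FormallyUnramified (f ∣_ W)] (x : X) (hx : f x ∈ W) (hS0 : IsDomain (X.presheaf.stalk x))
    (hS : IsDiscreteValuationRing (X.presheaf.stalk x)) : ram f x = 1 := by
  have h1 : ((f ∣_ W).stalkMap ⟨x, hx⟩).hom.FormallyUnramified := FormallyUnramified.stalkMap (f ∣_ W) ⟨x, hx⟩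
  have := RingHom.toMorphismProperty_respectsIso_iff.mp RingHom.FormallyUnramified.respectsIso
  have h2 : (f.stalkMap x).hom.FormallyUnramified :=
    (MorphismProperty.arrow_mk_iso_iff (RingHom.toMorphismProperty RingHom.FormallyUnramified)
      (morphismRestrictStalkMap f W ⟨x, hx⟩)).1 h1
  let := (f.stalkMap x).hom.toAlgebra
  have hloc : IsLocalHom (algebraMap (Y.presheaf.stalk (f x)) (X.presheaf.stalk x)) :=
    inferInstanceAs (IsLocalHom (f.stalkMap x).hom)
  have : Algebra.EssFiniteType (Y.presheaf.stalk (f x)) (X.presheaf.stalk x) := by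
    rw [← RingHom.essFiniteType_algebraMap, RingHom.algebraMap_toAlgebra]
    exact LocallyOfFiniteType.stalkMap f x
  have : Algebra.FormallyUnramified (Y.presheaf.stalk (f x)) (X.presheaf.stalk x) := by
    rw [← RingHom.formallyUnramified_algebraMap, RingHom.algebraMap_toAlgebra]
    exact h2
  have : (IsLocalRing.maximalIdeal (X.presheaf.stalk x)).LiesOver (IsLocalRing.maximalIdeal (Y.presheaf.stalk (f x))) := by
    constructor
    ext x
    rw [Ideal.mem_comap, IsLocalRing.mem_maximalIdeal, IsLocalRing.mem_maximalIdeal, mem_nonunits_iff,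
      mem_nonunits_iff, isUnit_map_iff]
  refine Lefpen.H534.RamAlg.ramificationIdx_eq (IsLocalRing.maximalIdeal (Y.presheaf.stalk (f x))) 1 ?_
  rw [pow_one]
  exact Algebra.FormallyUnramified.map_maximalIdeal

/-- Let k be an algebraically closed field of characteristic zero, C a connected scheme which is proper
and smooth of relative dimension 1 over k, and f : C → P¹_k a surjective morphism over k which is
étale over the complement of two closed points p, q of P¹_k (p = q is allowed). Then C is isomorphic
to P¹_k over k, and f has exactly one point over p and exactly one point over q. (Existence of an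
isomorphism only; the published statement moreover identifies f, in suitable coordinates, with (a :
b) ↦ (aⁿ : bⁿ) for some n. The published statement leaves implicit that the ground field is
algebraically closed and that C is a connected smooth proper curve; its argument uses both, and over
a non-closed field the projective line over a finite extension is a connected cover with no
ramification.) -/
theorem result (k : Type u) [Field k]
    [IsAlgClosed k] [CharZero k] {C : Scheme.{u}} (s : C ⟶ Spec (CommRingCat.of k))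
    [IsProper s] [SmoothOfRelativeDimension 1 s] [ConnectedSpace C]
    (f : C ⟶ CohB1.ProjSpace 1 k) (hf : f ≫ CohB1.ProjSpace.toSpec 1 k = s) [Surjective f]
    (p q : ↥(CohB1.ProjSpace 1 k)) (hp : IsClosed ({p} : Set ↥(CohB1.ProjSpace 1 k))) (hq : IsClosed ({q} : Set ↥(CohB1.ProjSpace 1 k)))
    (W : (CohB1.ProjSpace 1 k).Opens) (hW : (W : Set ↥(CohB1.ProjSpace 1 k)) = {p, q}ᶜ) [Etale (f ∣_ W)] :
    (∃ e : C ≅ CohB1.ProjSpace 1 k, e.hom ≫ CohB1.ProjSpace.toSpec 1 k = s) ∧
      (∀ x y : C, f.base x = p → f.base y = p → x = y) ∧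
      (∀ x y : C, f.base x = q → f.base y = q → x = y) := by
  classical
  let iC : C.Over (Spec (CommRingCat.of k)) := ⟨s⟩
  let iP : (CohB1.ProjSpace 1 k).Over (Spec (CommRingCat.of k)) := ⟨CohB1.ProjSpace.toSpec 1 k⟩
  have hpC : IsProper (C ↘ Spec (CommRingCat.of k)) := ‹IsProper s›
  have hpP : IsProper (CohB1.ProjSpace 1 k ↘ Spec (CommRingCat.of k)) := Ega3B.ProjProper.isProper_toSpec 1 k
  have hpP' : IsProper (CohB1.ProjSpace.toSpec 1 k) := hpP
  have hsm : Smooth s := SmoothOfRelativeDimension.smooth 1 s
  have hI : IsIntegral C := K318.GeomInt.isIntegral_of_connected s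
  have hdC : topologicalKrullDim C = 1 := K507.SmoothFacts.topologicalKrullDim_eq_one s
  have hdP : topologicalKrullDim (CohB1.ProjSpace 1 k) = 1 := Models.H59.P1Fibre.topologicalKrullDim_P1 k
  have hIP : IsIntegral (CohB1.ProjSpace 1 k) := inferInstance
  have hsmP : Smooth (CohB1.ProjSpace.toSpec 1 k) := Models.H59.P1Fibre.smooth_toSpec k
  have : IsLocallyNoetherian C := LocallyOfFiniteType.isLocallyNoetherian s
  have : IsLocallyNoetherian (CohB1.ProjSpace 1 k) :=
    LocallyOfFiniteType.isLocallyNoetherian (CohB1.ProjSpace.toSpec 1 k)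
  have hnC : Pi1.IsNormalScheme C := isNormal_of_smooth s hdC.le
  have hnP : Pi1.IsNormalScheme (CohB1.ProjSpace 1 k) := isNormal_of_smooth (CohB1.ProjSpace.toSpec 1 k) hdP.le
  obtain ⟨hC1, hC2, -⟩ := K321.LatSum.points k C hdC
  obtain ⟨hP1, hP2, -⟩ := K321.LatSum.points k (CohB1.ProjSpace 1 k) hdP
  have hfin : IsFinite f := by
    refine S0219.result k C (CohB1.ProjSpace 1 k) s (CohB1.ProjSpace.toSpec 1 k) f hf hdC.le ?_
    intro Z hZ _
    have hZ' : Z = Set.univ := by
      rw [irreducibleComponents_eq_singleton] at hZ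
      exact hZ
    rw [hZ', Set.image_univ, f.surjective.range_eq]
    exact ⟨p, trivial, genericPoint _, trivial, fun h => hP2 (h ▸ hp)⟩
  have hgen := map_genericPoint f
  let := alg f
  have hfd := finite_functionField f
  -- characteristic zero
  have hch : ∀ (X : Scheme.{u}) [X.Over (Spec (CommRingCat.of k))] (x : X), CharZero (X.residueField x) := by
    intro X _ x
    exact charZero_of_injective_algebraMap (algebraMap k (X.residueField x)).injective
  have hchP : CharZero (CohB1.ProjSpace 1 k).functionField := by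
    have := hch (CohB1.ProjSpace 1 k) (genericPoint _)
    exact charZero_of_injective_ringHom (sX (CohB1.ProjSpace 1 k)).symm.toRingHom.injective
  have hsep : Algebra.IsSeparable (CohB1.ProjSpace 1 k).functionField C.functionField := inferInstance
  -- the points
  have hDC : ∀ x : C, IsClosed ({x} : Set C) → IsDiscreteValuationRing (C.presheaf.stalk x) := by
    intro x hx
    refine K321.NormPid.isDiscreteValuationRing hnC hdC.le ?_
    rintro rfl
    exact hC2 hx
  have hDP : ∀ y : ↥(CohB1.ProjSpace 1 k), IsClosed ({y} : Set ↥(CohB1.ProjSpace 1 k)) →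
      IsDiscreteValuationRing ((CohB1.ProjSpace 1 k).presheaf.stalk y) := by
    intro y hy
    refine K321.NormPid.isDiscreteValuationRing hnP hdP.le ?_
    rintro rfl
    exact hP2 hy
  have hcl : ∀ x : C, IsClosed ({x} : Set C) ↔ IsClosed ({f x} : Set ↥(CohB1.ProjSpace 1 k)) :=
    K321.Hurw.isClosed_iff k f hdC hdP
  have hrd : ∀ x : C, IsClosed ({x} : Set C) → Module.finrank k (C.residueField x) = 1 := by
    intro x hx
    rw [finrank_residueField]
    exact K824.DegZero.residueDegree_eq_one s x hx
  have hfd1 : ∀ x : C, IsClosed ({x} : Set C) → f.residueDegree x = 1 := by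
    intro x hx
    have h1 := CycB.Push.residueDegree_comp f (CohB1.ProjSpace.toSpec 1 k) x
    rw [hf, K824.DegZero.residueDegree_eq_one s x hx] at h1
    exact Nat.eq_one_of_mul_eq_one_left h1.symm
  have hpos : ∀ x, IsClosed ({x} : Set C) → 1 ≤ ram f x := fun x hx =>
    ram_pos f x (hDC x hx) (hDP _ ((hcl x).1 hx))
  have hfin' : ∀ y : ↥(CohB1.ProjSpace 1 k), (f ⁻¹' {y}).Finite := f.finite_preimage_singleton
  have hcount : ∀ y : ↥(CohB1.ProjSpace 1 k), IsClosed ({y} : Set ↥(CohB1.ProjSpace 1 k)) →
      ∑ x ∈ (hfin' y).toFinset, ((ram f x - 1 : ℕ) : ℤ) =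
        (Module.finrank (CohB1.ProjSpace 1 k).functionField C.functionField : ℤ) - ((hfin' y).toFinset.card : ℤ) := by
    intro y hy
    have h1 := K321.FibDeg.sum_ram f y (hDP y hy) (fun x hx => hDC x ((hcl x).2 (hx.symm ▸ hy)))
    have h2 : ∑ᶠ x : {x : C // f x = y}, (f.residueDegree x.1 : ℤ) * (ram f x.1 : ℤ) =
        ∑ x ∈ (hfin' y).toFinset, (f.residueDegree x : ℤ) * (ram f x : ℤ) :=
      (finsum_set_coe_eq_finsum_mem (f := fun x => (f.residueDegree x : ℤ) * (ram f x : ℤ)) (f ⁻¹' {y})).trans
        (finsum_mem_eq_finite_toFinset_sum _ (hfin' y))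
    rw [← h1, h2, Finset.card_eq_sum_ones, Nat.cast_sum, ← Finset.sum_sub_distrib]
    refine Finset.sum_congr rfl fun x hx => ?_
    rw [Set.Finite.mem_toFinset] at hx
    have hx' : IsClosed ({x} : Set C) := (hcl x).2 (by rw [show f x = y from hx]; exact hy)
    have h3 := hpos x hx'
    rw [hfd1 x hx']
    push_cast [h3]
    ring
  have hcard : ∀ y : ↥(CohB1.ProjSpace 1 k), 1 ≤ (hfin' y).toFinset.card := by
    intro y
    obtain ⟨x, hx⟩ := f.surjective y
    exact Finset.card_pos.2 ⟨x, by rw [Set.Finite.mem_toFinset]; exact hx⟩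
  -- the Hurwitz formula
  have htame : ∀ x : C, IsClosed ({x} : Set C) → Tame f x := by
    intro x hx
    have h1 := hch (CohB1.ProjSpace 1 k) (f x)
    let := (f.residueFieldMap x).hom.toAlgebra
    refine ⟨?_, ?_⟩
    · have h2 := hfd1 x hx
      unfold Scheme.Hom.residueDegree at h2
      have h3 : Module.Finite ((CohB1.ProjSpace 1 k).residueField (f x)) (C.residueField x) :=
        Module.finite_of_finrank_pos (by rw [h2]; exact Nat.one_pos)
      infer_instance
    · exact Nat.cast_ne_zero.2 (by have := hpos x hx; omega)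
  obtain ⟨-, hH⟩ := K321.HurwMain.main k C (CohB1.ProjSpace 1 k) hdC hdP hnC hnP f hf hsep
  have hH1 := hH.2 htame
  have hW1 : ∀ x : C, IsClosed ({x} : Set C) → f x ≠ p → f x ≠ q → ram f x = 1 := by
    intro x hx h1 h2
    refine ram_eq_one_of_restrict f W x ?_ inferInstance (hDC x hx)
    rw [← SetLike.mem_coe, hW]
    simp [h1, h2]
  have hS : ∑ᶠ x : C, (if IsClosed ({x} : Set C) then
        (((ram f x - 1 : ℕ) : ℤ) * (Module.finrank k (C.residueField x) : ℤ)) else 0) =
      ∑ x ∈ (hfin' p).toFinset ∪ (hfin' q).toFinset, ((ram f x - 1 : ℕ) : ℤ) := by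
    rw [finsum_eq_sum_of_support_subset (s := (hfin' p).toFinset ∪ (hfin' q).toFinset)]
    · refine Finset.sum_congr rfl fun x hx => ?_
      rw [Finset.mem_union, Set.Finite.mem_toFinset, Set.Finite.mem_toFinset] at hx
      have hx' : IsClosed ({x} : Set C) := by
        rw [hcl]
        rcases hx with h | h
        · rw [show f x = p from h]; exact hp
        · rw [show f x = q from h]; exact hq
      rw [if_pos hx', hrd x hx', Nat.cast_one, mul_one]
    · intro x hx
      rw [Finset.coe_union, Set.Finite.coe_toFinset, Set.Finite.coe_toFinset]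
      by_contra hcon
      rw [Set.mem_union, not_or] at hcon
      refine hx ?_
      dsimp only
      split_ifs with hc
      · rw [hW1 x hc hcon.1 hcon.2]
        simp
      · rfl
  have hχP : Curv2.euler k (CohB1.ProjSpace 1 k) (Coh.structureModule (CohB1.ProjSpace 1 k)) = 1 := by
    have h1 : Subsingleton (Coh.HH (CohB1.ProjSpace 1 k) (Coh.structureModule _) 1) := S0023.result 1 k 1 Nat.one_pos
    have h2 := CurvesC.CurveCoh.euler_eq k (CohB1.ProjSpace 1 k) hdP (Coh.structureModule (CohB1.ProjSpace 1 k))
    rw [VarietyA.CurveFin.finrank_h0_structure, Module.finrank_zero_of_subsingleton] at h2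
    simpa using h2
  have hχC := CurvesC.CurveCoh.euler_eq k C hdC (Coh.structureModule C)
  rw [VarietyA.CurveFin.finrank_h0_structure] at hχC
  rw [hS, hχP, hχC] at hH1
  have hn : 0 < Module.finrank (CohB1.ProjSpace 1 k).functionField C.functionField := Module.finrank_pos
  have key : (hfin' p).toFinset.card = 1 ∧ (hfin' q).toFinset.card = 1 ∧
      Module.finrank k (Coh.HH C (Coh.structureModule C) 1) = 0 := by
    have h1 := hcount p hp
    have h2 := hcount q hq
    have h3 := hcard p
    have h4 := hcard q
    by_cases hpq : p = q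
    · subst hpq
      rw [Finset.union_self] at hH1
      omega
    · rw [Finset.sum_union] at hH1
      · omega
      · rw [Finset.disjoint_left]
        intro x hx hx'
        rw [Set.Finite.mem_toFinset] at hx hx'
        exact hpq ((show f x = p from hx).symm.trans hx')
  obtain ⟨k1, k2, k3⟩ := key
  refine ⟨?_, ?_, ?_⟩
  · refine K382.RatFib.exists_iso_projLine s hdC ?_
    have := S0002.result k C (Coh.structureModule C) (Fdesc.StructMod.isCoh_structureModule C) 1
    exact Module.finrank_zero_iff.1 k3
  · intro x y hx hy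
    exact Finset.card_le_one.1 k1.le x (by rw [Set.Finite.mem_toFinset]; exact hx) y
      (by rw [Set.Finite.mem_toFinset]; exact hy)
  · intro x y hx hy
    exact Finset.card_le_one.1 k2.le x (by rw [Set.Finite.mem_toFinset]; exact hx) y
      (by rw [Set.Finite.mem_toFinset]; exact hy)

end Groth.Agent.S17022
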