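import Groth.Statements.S17023
import Groth.Agent.CalgB.AdicReg
import Groth.Agent.S0549
import Mathlib.RingTheory.AdicCompletion.LocalRing
import Mathlib.RingTheory.LocalRing.ResidueField.Ideal

set_option autoImplicit false
universe u
open FlatMor

namespace Groth.Agent.S17023

/-- Let B be a discrete valuation ring, A a B-algebra of finite type and p a prime ideal of A which lies
over the maximal ideal of B (a point of the special fibre), at which A is smooth over B (the
localization A_p is formally smooth over B), and such that B maps onto the residue field κ(p). Then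
there are a discrete valuation ring B' and a ring map ψ : A → B' pulling the maximal ideal of B'
back to p, such that the composite B → A → B' is injective, the maximal ideal of B generates the
maximal ideal of B', and B maps onto the residue field of B'; in other words Spec B' → Spec A → Spec
B is surjective and unramified with trivial residue field extension. (The published statement does
not say that the closed point of Spec B' goes to p; it is required here. The published setting takes
A essentially of finite type over a field of characteristic zero; here A is taken of finite type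
over B, with no ground field.) -/
theorem result
    (B : Type u) [CommRing B] [IsDomain B] [IsDiscreteValuationRing B]
    (A : Type u) [CommRing A] [Algebra B A] [Algebra.FiniteType B A]
    (p : Ideal A) [p.IsPrime] (hp : p.comap (algebraMap B A) = IsLocalRing.maximalIdeal B)
    [Algebra.IsSmoothAt B p]
    (hres : Function.Surjective ((algebraMap A p.ResidueField).comp (algebraMap B A))) :
    ∃ (B' : Type u) (_ : CommRing B') (_ : IsDomain B') (_ : IsDiscreteValuationRing B') (ψ : A →+* B'),
      Ideal.comap ψ (IsLocalRing.maximalIdeal B') = p ∧
      Function.Injective (ψ.comp (algebraMap B A)) ∧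
      Ideal.map (ψ.comp (algebraMap B A)) (IsLocalRing.maximalIdeal B) = IsLocalRing.maximalIdeal B' ∧
      Function.Surjective ((IsLocalRing.residue B').comp (ψ.comp (algebraMap B A))) := by
  classical
  let C := AdicCompletion (IsLocalRing.maximalIdeal B) B
  let mC : Ideal C := IsLocalRing.maximalIdeal C
  obtain ⟨hCd, hCdvr⟩ := (Groth.Agent.S0549.result B).mp ⟨inferInstance, inferInstance⟩
  let L := Localization.AtPrime p
  -- the residue field of `p` is the residue field of `B`
  let f : B →+* p.ResidueField := (algebraMap A p.ResidueField).comp (algebraMap B A)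
  let g : B →+* C ⧸ mC := (Ideal.Quotient.mk mC).comp (algebraMap B C)
  have hker : RingHom.ker f ≤ RingHom.ker g := by
    intro x hx
    have h1 : algebraMap A p.ResidueField (algebraMap B A x) = 0 := hx
    rw [Ideal.algebraMap_residueField_eq_zero] at h1
    have h2 : x ∈ IsLocalRing.maximalIdeal B := by rw [← hp]; exact h1
    have h3 : algebraMap B C x ∈ mC := by
      change algebraMap B C x ∈ IsLocalRing.maximalIdeal C
      rw [AdicCompletion.maximalIdeal_eq_map]
      exact Ideal.mem_map_of_mem _ h2
    exact Ideal.Quotient.eq_zero_iff_mem.mpr h3
  let θ : p.ResidueField →+* C ⧸ mC := RingHom.liftOfSurjective f hres ⟨g, hker⟩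
  have hθ : ∀ b : B, θ (algebraMap A p.ResidueField (algebraMap B A b)) = Ideal.Quotient.mk mC (algebraMap B C b) :=
    fun b => RingHom.liftOfRightInverse_comp_apply f _ (Function.rightInverse_surjInv hres) ⟨g, hker⟩ b
  have hnt : Nontrivial (C ⧸ mC) := Ideal.Quotient.nontrivial_iff.mpr (IsLocalRing.maximalIdeal.isMaximal C).ne_top
  let u : L →ₐ[B] C ⧸ mC :=
    { θ.comp (IsLocalRing.residue L) with
      commutes' := fun b => by
        change θ (IsLocalRing.residue L (algebraMap B L b)) = _
        rw [IsScalarTower.algebraMap_apply B A L]
        exact hθ b }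
  have hfs : CAlgX.IsAdicFormallySmooth B L (⊥ : Ideal L) := by
    intro R' _ _ J hJ χ _
    exact Algebra.FormallySmooth.exists_lift (R := B) (A := L) J ⟨2, hJ⟩ χ
  obtain ⟨v, hv⟩ := Groth.Agent.CalgB.AdicReg.exists_lift hfs mC mC le_rfl u (by
    intro x hx
    rw [Ideal.mem_bot] at hx
    rw [hx, map_zero]
    exact Ideal.zero_mem _)
  let ψ : A →+* C := v.toRingHom.comp (algebraMap A L)
  have hψ : ∀ a : A, Ideal.Quotient.mk mC (ψ a) = θ (algebraMap A p.ResidueField a) := fun a =>
    DFunLike.congr_fun hv (algebraMap A L a)
  have hψB : ψ.comp (algebraMap B A) = algebraMap B C := by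
    refine RingHom.ext fun b => ?_
    change v (algebraMap A L (algebraMap B A b)) = _
    rw [← IsScalarTower.algebraMap_apply B A L, AlgHom.commutes]
  refine ⟨C, inferInstance, hCd, hCdvr, ψ, ?_, ?_, ?_, ?_⟩
  · ext a
    rw [Ideal.mem_comap, ← Ideal.algebraMap_residueField_eq_zero (I := p), ← map_eq_zero_iff θ θ.injective, ← hψ,
      Ideal.Quotient.eq_zero_iff_mem]
  · rw [hψB]
    exact AdicCompletion.of_injective (IsLocalRing.maximalIdeal B) B
  · rw [hψB]
    exact AdicCompletion.maximalIdeal_eq_map.symm
  · rw [hψB]
    intro z
    obtain ⟨y, hy⟩ := (AdicCompletion.residueField_map_bijective (R := B)).2 z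
    obtain ⟨b, rfl⟩ := IsLocalRing.residue_surjective y
    exact ⟨b, hy⟩

end Groth.Agent.S17023
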