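import Groth.Statements.S17036
import Groth.Agent.FSch.K181.PushVan

set_option autoImplicit false
open CategoryTheory CategoryTheory.Limits
universe u
open FSch

namespace Groth.Agent.S17036

/-- Let g : 𝔛 ⟶ 𝔜 be a morphism of locally Noetherian formal schemes (adic systems of thickenings with
locally Noetherian levels) whose morphism of smallest levels is an affine morphism of schemes. Then
for every O_𝔛-module M that is a small filtered colimit of coherent O_𝔛-modules, the higher direct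
images R^i g_* M vanish for all i > 0. -/
theorem result (𝔛 𝔜 : FSch.Sys.{u}) (h𝔛 : 𝔛.IsLocNoethFormal) (h𝔜 : 𝔜.IsLocNoethFormal)
    (g : 𝔛 ⟶ 𝔜) [AlgebraicGeometry.IsAffineHom ((g : FSch.Hom 𝔛 𝔜).app 0)]
    [HasInjectiveResolutions (FSch.ModF 𝔛 h𝔛.1)]
    (𝔐 : FSch.ModF 𝔛 h𝔛.1) (h𝔐 : (ObjectProperty.ind.{u} fun 𝔊 : FSch.ModF 𝔛 h𝔛.1 => FSch.IsCohF 𝔛 h𝔛.1 𝔊) 𝔐) (i : ℕ) (hi : 0 < i) :
    IsZero ((FSch.RpushF g h𝔛.1 h𝔜.1 i).obj 𝔐) := by
  have : SiteCmp.HasRpushD (FSch.homMor g h𝔛.1 h𝔜.1) := K578.Der.hasRpushD _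
  refine (K578.LocZero.isZero_homologySingle_of_local (FSch.homMor g h𝔛.1 h𝔜.1) 𝔐 i
    {W | AlgebraicGeometry.IsAffineOpen W} ?_ ?_).of_iso (K578.RpushSingle.homologySingle _ 𝔐 i).symm
  · refine K181.PushVan.exists_cover _ fun U y hy => ?_
    obtain ⟨W, hW, hyW, hWU⟩ := AlgebraicGeometry.exists_isAffineOpen_mem_and_subset hy
    exact ⟨W, hW, hyW, hWU⟩
  · intro W hW
    obtain ⟨q, rfl⟩ : ∃ q, i = q + 1 := ⟨i - 1, by omega⟩
    exact K181.Formal.subsingleton_HU_of_indCoh h𝔛 h𝔐 (AlgebraicGeometry.IsAffineOpen.preimage hW ((g : FSch.Hom 𝔛 𝔜).app 0)) q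

end Groth.Agent.S17036
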