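import Groth.Statements.S17042
import Groth.Agent.FSch.K181.HomCart
import Groth.Agent.FSch.K181.Formal

set_option autoImplicit false
open CategoryTheory CategoryTheory.Limits
universe u
open FSch

namespace Groth.Agent.S17042

/-- On a locally Noetherian formal scheme 𝔛 (an adic system of thickenings with locally Noetherian
levels), for a coherent O_𝔛-module F and a quasi-coherent O_𝔛-module G the sheaf Hom(F, G) of
O_𝔛-modules is quasi-coherent, and it is coherent if G is also coherent. -/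
theorem result (𝔛 : FSch.Sys.{u}) (h𝔛 : 𝔛.IsLocNoethFormal)
    (𝔉 𝔊 : FSch.ModF 𝔛 h𝔛.1) (h𝔉 : FSch.IsCohF 𝔛 h𝔛.1 𝔉) [SheafOfModules.IsQuasicoherent.{u} 𝔊]
    [ModSite.HasSheafHom 𝔉] :
    SheafOfModules.IsQuasicoherent.{u} ((ModSite.sheafHom 𝔉).obj 𝔊) ∧
      (FSch.IsCohF 𝔛 h𝔛.1 𝔊 → FSch.IsCohF 𝔛 h𝔛.1 ((ModSite.sheafHom 𝔉).obj 𝔊)) := by
  have e := K181.HomSh.homShIso 𝔉 𝔊
  have hN : ∀ U ∈ (K181.Formal.fcov h𝔛).B, IsNoetherianRing (K29.RSec.O (K181.Formal.RR h𝔛) U) :=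
    fun _ hU => K181.Formal.isNoetherianRing_O h𝔛 hU
  have h𝔊' : SheafOfModules.IsQuasicoherent.{u} 𝔊 := inferInstance
  refine ⟨?_, fun h𝔊 => ?_⟩
  · refine (K181.Good.qc_iff (K181.Formal.fcov h𝔛) _).2 fun x => ?_
    obtain ⟨U, hxU, hU⟩ := (K181.Good.qc_iff (K181.Formal.fcov h𝔛) _).1
      (K181.HomSh.isQuasicoherent_homSh (K181.Formal.fcov h𝔛) h𝔉 h𝔊') x
    exact ⟨U, hxU, hU.of_iso e⟩
  · refine (K181.Good.fp_iff (K181.Formal.fcov h𝔛) hN _).2 fun x => ?_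
    obtain ⟨U, hxU, hU⟩ := (K181.Good.fp_iff (K181.Formal.fcov h𝔛) hN _).1
      (K181.HomSh.isFinitePresentation_homSh (K181.Formal.fcov h𝔛) hN h𝔉 h𝔊) x
    exact ⟨U, hxU, hU.of_iso e⟩

end Groth.Agent.S17042
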