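import Groth.Statements.S17044
import Groth.Agent.FSch.K181.RHomMain
import Groth.Agent.FSch.K181.IndCoh

set_option autoImplicit false
open CategoryTheory CategoryTheory.Limits
universe u
attribute [local instance] HasDerivedCategory.standard
open FSch

namespace Groth.Agent.S17044

/-- Let 𝔛 be a locally Noetherian formal scheme (an adic system of thickenings with locally Noetherian
levels), F a cohomologically bounded-above complex of O_𝔛-modules with coherent cohomology sheaves,
and G ∈ D(O_𝔛) cohomologically bounded below with quasi-coherent cohomology sheaves. Then the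
internal derived Hom RHom(F, G) (the right adjoint of the derived tensor with F, assumed to exist)
has quasi-coherent cohomology sheaves. (The published statement takes F in the derived category of
bounded-above complexes with coherent cohomology, the range its proof treats.) -/
theorem result (𝔛 : FSch.Sys.{u}) (h𝔛 : 𝔛.IsLocNoethFormal)
    (F : CochainComplex (FSch.ModF 𝔛 h𝔛.1) ℤ) [ModSite.HasLTensorCx F] [DerComp.HasRHom F]
    (hF : ∀ i : ℤ, FSch.IsCohF 𝔛 h𝔛.1 (SiteCmp.HMod (DerivedCategory.Q.obj F) i))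
    (m : ℤ) (hFm : ∀ i : ℤ, m ≤ i → IsZero (SiteCmp.HMod (DerivedCategory.Q.obj F) i))
    (G : DerivedCategory (FSch.ModF 𝔛 h𝔛.1)) (hG : ∀ i : ℤ, SheafOfModules.IsQuasicoherent.{u} (SiteCmp.HMod G i))
    (n : ℤ) (hGn : ∀ i : ℤ, i ≤ n → IsZero (SiteCmp.HMod G i)) (i : ℤ) :
    SheafOfModules.IsQuasicoherent.{u} (SiteCmp.HMod ((DerComp.RHom F).obj G) i) := by
  obtain ⟨e⟩ := K181.RAdj.nonempty_RHom_iso F
  have hLE := K181.RHomMain.isLE_of _ m hFm
  refine (K181.Good.qc_iff (K181.Formal.fcov h𝔛) _).2 fun x => ?_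
  obtain ⟨W, hxW, hW⟩ := K181.RHomMain.exists_common (K181.Formal.fcov h𝔛) G n hGn hG x (i + m + 1)
  obtain ⟨U, hU, hxU, hUW⟩ := (K181.Formal.fcov h𝔛).exists_mem hxW
  refine ⟨U, hxU, ?_⟩
  have h1 := K181.RHomMain.main hU (K181.Formal.isNoetherianRing_O h𝔛 hU) G n hGn (i + m + 1)
    (K181.PQZInst.pqz_cart hU) (fun j hj => hW U hU hUW j hj) m i le_rfl (DerivedCategory.Q.obj F)
    (fun j => K181.Formal.cartF_of_coh h𝔛 (hF j) hU)
  exact h1.of_iso ((DerivedCategory.homologyFunctor _ i).mapIso (e.app G).symm)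

end Groth.Agent.S17044
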