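import Groth.Statements.S17047
import Groth.Agent.FSch.K477.Main47
import Groth.Agent.S17049

set_option autoImplicit false
open CategoryTheory CategoryTheory.Limits AlgebraicGeometry
universe u
attribute [local instance] HasDerivedCategory.standard
open FSch

namespace Groth.Agent.S17047

/-- Let 𝔛 be properly algebraic, i.e. the completion of a proper scheme X over a Noetherian ring B along
the inverse-image ideal of an ideal J of B, and let A be the full subcategory of O_𝔛-modules that
are small filtered colimits of coherent ones (assumed, as holds here, to contain 0, to be closed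
under kernels, cokernels and finite products, and to have exact inclusion). Then the induced functor
D(A) ⥤ D(O_𝔛) is fully faithful, and an object of D(O_𝔛) is in its essential image exactly when all
its cohomology sheaves lie in A. -/
theorem result (B : Type u) [CommRing B] [IsNoetherianRing B] (J : Ideal B)
    {X : Scheme.{u}} (f : X ⟶ Spec (CommRingCat.of B)) [IsProper f]
    (𝓘 : X.IdealSheafData) (h𝓘 : 𝓘 = (FSch.idealSpec B J).comap f)
    (hX : (FSch.completionAlong X 𝓘).IsFormal)
    [(ObjectProperty.ind.{u} fun 𝔊 : FSch.ModF (FSch.completionAlong X 𝓘) hX => FSch.IsCohF (FSch.completionAlong X 𝓘) hX 𝔊).ContainsZero] [(ObjectProperty.ind.{u} fun 𝔊 : FSch.ModF (FSch.completionAlong X 𝓘) hX => FSch.IsCohF (FSch.completionAlong X 𝓘) hX 𝔊).IsClosedUnderKernels]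
    [(ObjectProperty.ind.{u} fun 𝔊 : FSch.ModF (FSch.completionAlong X 𝓘) hX => FSch.IsCohF (FSch.completionAlong X 𝓘) hX 𝔊).IsClosedUnderCokernels] [(ObjectProperty.ind.{u} fun 𝔊 : FSch.ModF (FSch.completionAlong X 𝓘) hX => FSch.IsCohF (FSch.completionAlong X 𝓘) hX 𝔊).IsClosedUnderFiniteProducts]
    [PreservesFiniteLimits (ObjectProperty.ind.{u} fun 𝔊 : FSch.ModF (FSch.completionAlong X 𝓘) hX => FSch.IsCohF (FSch.completionAlong X 𝓘) hX 𝔊).ι] [PreservesFiniteColimits (ObjectProperty.ind.{u} fun 𝔊 : FSch.ModF (FSch.completionAlong X 𝓘) hX => FSch.IsCohF (FSch.completionAlong X 𝓘) hX 𝔊).ι] :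
    (ObjectProperty.ind.{u} fun 𝔊 : FSch.ModF (FSch.completionAlong X 𝓘) hX => FSch.IsCohF (FSch.completionAlong X 𝓘) hX 𝔊).ι.mapDerivedCategory.Full ∧ (ObjectProperty.ind.{u} fun 𝔊 : FSch.ModF (FSch.completionAlong X 𝓘) hX => FSch.IsCohF (FSch.completionAlong X 𝓘) hX 𝔊).ι.mapDerivedCategory.Faithful ∧
      ∀ G : DerivedCategory (FSch.ModF (FSch.completionAlong X 𝓘) hX),
        (ObjectProperty.ind.{u} fun 𝔊 : FSch.ModF (FSch.completionAlong X 𝓘) hX => FSch.IsCohF (FSch.completionAlong X 𝓘) hX 𝔊).ι.mapDerivedCategory.essImage G ↔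
          ∀ i : ℤ, (ObjectProperty.ind.{u} fun 𝔊 : FSch.ModF (FSch.completionAlong X 𝓘) hX => FSch.IsCohF (FSch.completionAlong X 𝓘) hX 𝔊) (SiteCmp.HMod G i) := by
  obtain ⟨A, _, _, I, _, X', f', _, 𝓘', h𝓘', ⟨e⟩⟩ := Groth.Agent.K477.CompBC.exists_complete B J f 𝓘 h𝓘
  have h1 : IsLocallyNoetherian X' := by
    have : IsNoetherianRing (CommRingCat.of A) := ‹IsNoetherianRing A›
    exact LocallyOfFiniteType.isLocallyNoetherian f'
  have h2 : CompactSpace X' := QuasiCompact.compactSpace_of_compactSpace f'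
  have h3 : IsNoetherian X' := {}
  have hX' : (FSch.completionAlong X' 𝓘').IsFormal := (Groth.Agent.S3854.result X' 𝓘').1
  have h4 : PreservesFiniteLimits (FSch.toSchemeMor (FSch.completionAlong X' 𝓘') hX' (FSch.completionToX X' 𝓘')
      (FSch.completionToX_comm X' 𝓘')).pull := K920.KapFlat.preservesFiniteLimits_pull hX'
  obtain ⟨r1, r2⟩ := Groth.Agent.S17049.result A I f' 𝓘' h𝓘' hX'
  exact Groth.Agent.K477.Main47.transport 𝓘' hX' r1 r2 hX e

end Groth.Agent.S17047
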