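import Groth.Statements.S17050
import Groth.Agent.S17035
import Groth.Agent.FSch.K180.DerRes
import Groth.Agent.FTors.K919.QCTAdj
import Groth.Agent.FTors.K919.IndCoh
import Groth.Agent.SiteCmp.K578.Der
import Groth.Agent.LoccohB.RpushTri

set_option autoImplicit false
open CategoryTheory CategoryTheory.Limits
universe u
attribute [local instance] HasDerivedCategory.standard
open FTors

namespace Groth.Agent.S17050

/-- Let f : 𝔛 ⟶ 𝔜 be a morphism of Noetherian formal schemes (adic systems of thickenings with locally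
Noetherian levels and quasi-compact underlying spaces), and assume the total right derived functor
Rf_* exists on unbounded derived categories of modules. Let A_qct be the full subcategory of
quasi-coherent torsion O_𝔛-modules, assumed (as holds) to contain 0, to be closed under kernels,
cokernels and finite products and to have exact inclusion; assume further that the induced functor
D(A_qct) ⥤ D(O_𝔛) is fully faithful with essential image D_qct(𝔛), the complexes with quasi-coherent
torsion cohomology sheaves — the case the published proof establishes first, valid when 𝔛 is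
separated or of finite Krull dimension. Then the restriction of Rf_* to D_qct(𝔛) has a right
adjoint. (The published statement also removes the hypothesis on 𝔛 when f is separated, by gluing
over an open cover, and gives a bounded-below right adjoint compatible with the triangulated
structures.) -/
theorem result (𝔛 𝔜 : FSch.Sys.{u}) (h𝔛 : 𝔛.IsLocNoethFormal) (h𝔜 : 𝔜.IsLocNoethFormal)
    [CompactSpace (𝔛.X 0)] [CompactSpace (𝔜.X 0)] (f : 𝔛 ⟶ 𝔜)
    [SiteCmp.HasRpushD (FSch.homMor f h𝔛.1 h𝔜.1)]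
    [(FTors.IsQCT 𝔛 h𝔛.1).ContainsZero] [(FTors.IsQCT 𝔛 h𝔛.1).IsClosedUnderKernels]
    [(FTors.IsQCT 𝔛 h𝔛.1).IsClosedUnderCokernels] [(FTors.IsQCT 𝔛 h𝔛.1).IsClosedUnderFiniteProducts]
    [PreservesFiniteLimits (FTors.IsQCT 𝔛 h𝔛.1).ι] [PreservesFiniteColimits (FTors.IsQCT 𝔛 h𝔛.1).ι]
    (hj : (FTors.IsQCT 𝔛 h𝔛.1).ι.mapDerivedCategory.Full ∧ (FTors.IsQCT 𝔛 h𝔛.1).ι.mapDerivedCategory.Faithful ∧
      ∀ G : DerivedCategory (FSch.ModF 𝔛 h𝔛.1),
        (FTors.IsQCT 𝔛 h𝔛.1).ι.mapDerivedCategory.essImage G ↔ FTors.IsDQCT 𝔛 h𝔛.1 G) :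
    ((FTors.IsDQCT 𝔛 h𝔛.1).ι ⋙ SiteCmp.RpushD (FSch.homMor f h𝔛.1 h𝔜.1)).IsLeftAdjoint := by
  obtain ⟨hfull, hfaith, hess⟩ := hj
  let g := FSch.homMor f h𝔛.1 h𝔜.1
  let _ := K578.Der.rpushCommShift g
  have : (SiteCmp.RpushD g).IsTriangulated := K578.Der.rpush_isTriangulated g
  have : LocallySmall.{u} (DerivedCategory (FSch.ModF 𝔜 h𝔜.1)) :=
    Groth.Agent.LoccohB.RpushTri.locallySmall_derivedCategory
      Groth.Agent.LoccohB.RpushTri.hasKInj
  have := K919.SerreQCT.isClosedUnderIso h𝔛
  have := K919.QCTAdj.isGrothendieckAbelian_qct h𝔛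
  have h := K180.DerRes.comp_isLeftAdjoint (FTors.IsQCT 𝔛 h𝔛.1)
    (fun J _ => K919.QCTColim.isClosedUnderColimits_QCT h𝔛 J) (SiteCmp.RpushD g) fun J E hE =>
      Groth.Agent.S17035.result 𝔛 𝔜 h𝔛 h𝔜.1 f J E fun j i => K919.IndCoh.indCoh_of_qct h𝔛 (hE j i)
  exact K180.DerRes.restrict_isLeftAdjoint _ _ hess _ h

end Groth.Agent.S17050
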