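import Groth.Statements.S17059
import Groth.Agent.FTors.K72.RfQCT
import Groth.Agent.FTors.K72.Asm
import Groth.Agent.FTors.K72.QCTCoh
-- import your own Groth.Agent.* helpers here

set_option autoImplicit false
open CategoryTheory CategoryTheory.Limits
universe u
attribute [local instance] HasDerivedCategory.standard
open FTors

namespace Groth.Agent.S17059

/-- Let f : 𝔛 ⟶ 𝔜 be a pseudo-proper morphism of Noetherian formal schemes (adic systems of thickenings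
with locally Noetherian levels, quasi-compact underlying spaces; the morphism of smallest levels is
proper, adicness not assumed), and assume Rf_* exists on unbounded derived categories of modules. If
F ∈ D(O_𝔛) has quasi-coherent torsion cohomology sheaves which are coherent, then Rf_* F has
coherent cohomology sheaves. -/
theorem result (𝔛 𝔜 : FSch.Sys.{u}) (h𝔛 : 𝔛.IsLocNoethFormal) (h𝔜 : 𝔜.IsLocNoethFormal)
    [CompactSpace (𝔛.X 0)] [CompactSpace (𝔜.X 0)] (f : 𝔛 ⟶ 𝔜)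
    [AlgebraicGeometry.IsProper ((f : FSch.Hom 𝔛 𝔜).app 0)]
    [SiteCmp.HasRpushD (FSch.homMor f h𝔛.1 h𝔜.1)] (F : DerivedCategory (FSch.ModF 𝔛 h𝔛.1))
    (hF : FTors.IsDQCT 𝔛 h𝔛.1 F) (hFc : ∀ i : ℤ, FSch.IsCohF 𝔛 h𝔛.1 (SiteCmp.HMod F i)) (i : ℤ) :
    FSch.IsCohF 𝔜 h𝔜.1 (SiteCmp.HMod ((SiteCmp.RpushD (FSch.homMor f h𝔛.1 h𝔜.1)).obj F) i) := by
  have := K578.Der.hasInjectiveResolutions (𝔛.Osh h𝔛.1)
  have := K72.QCTCoh.isWeakSerre h𝔛
  have := K72.QCTCoh.isWeakSerre h𝔜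
  exact (K72.Asm.cohIn_RpushD h𝔛 h𝔜 f (K72.QCTCoh.IsQCTCoh h𝔛) (K72.QCTCoh.IsQCTCoh h𝔜) (fun _ h => h.1)
    (fun _ h => h.1) (fun F hF q => ⟨K72.RfQCT.qct_Rpush h𝔛 h𝔜 f hF.1 q, K72.RfQCT.isCohF_Rpush h𝔛 h𝔜 f hF.1 hF.2 q⟩)
    F (fun i => ⟨hF i, hFc i⟩) i).2

end Groth.Agent.S17059
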