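import Groth.Statements.S17064
import Groth.Agent.FSch.K785.KapBC

set_option autoImplicit false
open CategoryTheory CategoryTheory.Limits AlgebraicGeometry
universe u
attribute [local instance] HasDerivedCategory.standard
open FSch

namespace Groth.Agent.S17064

/-- Let f : X ⟶ Y be a proper morphism of locally Noetherian schemes, 𝓘 an ideal of O_Y with closed
subset W, 𝓚 = 𝓘O_X, Ŷ and X̂ the completions along W and f⁻¹(W), f̂ : X̂ ⟶ Ŷ the induced morphism,
and κ_Y : Ŷ ⟶ Y, κ_X : X̂ ⟶ X the completion morphisms of ringed spaces, with κ^* exact (flatness,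
assumed) and Rf_*, Rf̂_* existing on unbounded derived categories. Then for every E ∈ D(O_X) with
quasi-coherent cohomology sheaves (no boundedness), κ_Y^* Rf_* E ≅ Rf̂_* κ_X^* E in D(O_Ŷ). Only the
existence of an isomorphism is asserted; the published statement says the base-change morphism
adjoint to Rf_*E ⟶ Rf_* κ_{X*} κ_X^* E is an isomorphism. -/
theorem result (X Y : Scheme.{u}) [IsLocallyNoetherian X]
    [IsLocallyNoetherian Y] (f : X ⟶ Y) [IsProper f] (𝓘 : Y.IdealSheafData) (𝓚 : X.IdealSheafData)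
    (h𝓚 : 𝓚 = 𝓘.comap f) (hpc : FSch.PowCompat f 𝓚 𝓘) (hX : (FSch.completionAlong X 𝓚).IsFormal)
    (hY : (FSch.completionAlong Y 𝓘).IsFormal)
    [PreservesFiniteLimits (FSch.toSchemeMor (FSch.completionAlong X 𝓚) hX (FSch.completionToX X 𝓚) (FSch.completionToX_comm X 𝓚)).pull] [PreservesFiniteLimits (FSch.toSchemeMor (FSch.completionAlong Y 𝓘) hY (FSch.completionToX Y 𝓘) (FSch.completionToX_comm Y 𝓘)).pull]
    [SiteCmp.HasRpushD (ModSite.RMor.ofScheme f)]
    [SiteCmp.HasRpushD (FSch.homMor (FSch.completionMap f 𝓚 𝓘 hpc) hX hY)]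
    (E : DerivedCategory (ModSite.Mod X.sheaf)) (hE : ∀ i : ℤ, SheafOfModules.IsQuasicoherent.{u} (SiteCmp.HMod E i)) :
    Nonempty ((SiteCmp.pullD (FSch.toSchemeMor (FSch.completionAlong Y 𝓘) hY (FSch.completionToX Y 𝓘) (FSch.completionToX_comm Y 𝓘))).obj ((SiteCmp.RpushD (ModSite.RMor.ofScheme f)).obj E) ≅
      (SiteCmp.RpushD (FSch.homMor (FSch.completionMap f 𝓚 𝓘 hpc) hX hY)).obj ((SiteCmp.pullD (FSch.toSchemeMor (FSch.completionAlong X 𝓚) hX (FSch.completionToX X 𝓚) (FSch.completionToX_comm X 𝓚))).obj E)) := by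
  exact K785.KapBC.nonempty_iso f 𝓘 𝓚 hpc hX hY h𝓚 E hE

end Groth.Agent.S17064
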