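import Groth.Statements.S17065
import Mathlib.RingTheory.AdicCompletion.Algebra
import Mathlib.RingTheory.Ideal.IdempotentFG
import Mathlib.RingTheory.Spectrum.Prime.Topology

set_option autoImplicit false
universe u
open CAlg

namespace Groth.Agent.S17065

/-- The local algebraic statement its proof establishes: let A be a Noetherian ring, I ≤ J radical
ideals and Â the J-adic completion of A. If J^n Â ⊆ I Â for some n, then the closed set V(J) is open
inside V(I) ⊆ Spec A. (Globally: if X₂ ⊆ X₁ are the completions of a locally Noetherian scheme along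
nested closed subsets Z₂ ⊆ Z₁ and the ideal of Z₁ generates an ideal of definition of X₂, then X₂ is
a union of connected components of X₁.) -/
theorem result (A : Type u) [CommRing A] [IsNoetherianRing A]
    (I J : Ideal A) (hIJ : I ≤ J) (hI : I.IsRadical) (hJ : J.IsRadical) (n : ℕ)
    (h : (J ^ n).map (algebraMap A (AdicCompletion J A)) ≤ I.map (algebraMap A (AdicCompletion J A))) :
    IsOpen ((fun x : PrimeSpectrum.zeroLocus (I : Set A) => (x : PrimeSpectrum A)) ⁻¹'
      PrimeSpectrum.zeroLocus (J : Set A)) := by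
  classical
  -- `J ^ (n+1) ≤ I ⊔ J ^ m` for all `m`
  have key : ∀ m : ℕ, J ^ (n + 1) ≤ I ⊔ J ^ m := by
    intro m x hx
    have h1 : algebraMap A (AdicCompletion J A) x ∈ I.map (algebraMap A (AdicCompletion J A)) :=
      h (Ideal.mem_map_of_mem _ (Ideal.pow_le_pow_right n.le_succ hx))
    let ev : AdicCompletion J A →+* A ⧸ J ^ m := (AdicCompletion.evalₐ J m).toRingHom
    have h3 : ev.comp (algebraMap A (AdicCompletion J A)) = Ideal.Quotient.mk (J ^ m) :=
      RingHom.ext fun y => (AdicCompletion.evalₐ J m).commutes y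
    have h2 := Ideal.mem_map_of_mem ev h1
    rw [Ideal.map_map, h3, ← RingHom.comp_apply, h3] at h2
    rw [← Ideal.mem_comap, Ideal.comap_map_of_surjective' _ Ideal.Quotient.mk_surjective,
      Ideal.mk_ker] at h2
    exact h2
  let mk := Ideal.Quotient.mk I
  let K : Ideal (A ⧸ I) := (J ^ (n + 1)).map mk
  have hidem : IsIdempotentElem K := by
    apply le_antisymm
    · exact Ideal.mul_le_left
    · have h1 := Ideal.map_mono (f := mk) (key (n + 1 + (n + 1)))
      have h2 : I.map mk = ⊥ := Ideal.map_quotient_self I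
      rw [Ideal.map_sup, h2, bot_sup_eq, pow_add J (n + 1) (n + 1), Ideal.map_mul] at h1
      exact h1
  obtain ⟨e, he, hKe⟩ := (K.isIdempotentElem_iff_of_fg
    (Ideal.FG.map (IsNoetherian.noetherian (J ^ (n + 1))) mk)).1 hidem
  obtain ⟨a, rfl⟩ := Ideal.Quotient.mk_surjective e
  have ha : a * (1 - a) ∈ I := by
    rw [← Ideal.Quotient.eq_zero_iff_mem, map_mul, map_sub, map_one, mul_sub, mul_one, he, sub_self]
  have hmem : ∀ p : PrimeSpectrum A, I ≤ p.asIdeal → (J ≤ p.asIdeal ↔ 1 - a ∉ p.asIdeal) := by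
    intro p hp
    have hap : a * (1 - a) ∈ p.asIdeal := hp ha
    have h1 : J ≤ p.asIdeal ↔ a ∈ p.asIdeal := by
      rw [← p.2.pow_le_iff (n := n + 1) (by omega)]
      have h2 : J ^ (n + 1) ≤ p.asIdeal ↔ K ≤ p.asIdeal.map mk := by
        rw [Ideal.map_le_iff_le_comap, Ideal.comap_map_of_surjective' _ Ideal.Quotient.mk_surjective,
          Ideal.mk_ker, sup_eq_left.2 hp]
      rw [h2, hKe, Ideal.submodule_span_eq, Ideal.span_singleton_le_iff_mem, ← Ideal.mem_comap,
        Ideal.comap_map_of_surjective' _ Ideal.Quotient.mk_surjective, Ideal.mk_ker,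
        sup_eq_left.2 hp]
    rw [h1]
    constructor
    · intro h2 h3
      have h4 := Ideal.add_mem _ h2 h3
      rw [add_sub_cancel] at h4
      exact (Ideal.ne_top_iff_one _).1 p.2.ne_top h4
    · intro h2
      exact (p.2.mem_or_mem hap).resolve_right h2
  have hset : ((fun x : PrimeSpectrum.zeroLocus (I : Set A) => (x : PrimeSpectrum A)) ⁻¹'
      PrimeSpectrum.zeroLocus (J : Set A)) =
      ((fun x : PrimeSpectrum.zeroLocus (I : Set A) => (x : PrimeSpectrum A)) ⁻¹'
      (PrimeSpectrum.basicOpen (1 - a) : Set (PrimeSpectrum A))) := by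
    ext ⟨p, hp⟩
    exact hmem p hp
  rw [hset]
  exact (PrimeSpectrum.basicOpen (1 - a)).2.preimage continuous_subtype_val

end Groth.Agent.S17065
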