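import Groth.Statements.S17075
-- import your own Groth.Agent.* helpers here

set_option autoImplicit false
universe u
open CategoryTheory CategoryTheory.Limits AlgebraicGeometry
open MorSch

namespace Groth.Agent.S17075

/-- Let g : X → S be a proper morphism, i : V → X a closed immersion and j : U → X an open immersion.
Then there is an open subset S₀ of S such that, for every scheme S' and every morphism f : S' → S,
the image of f lies in S₀ if and only if the base change V ×_S S' → X ×_S S' of i factors through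
the open subscheme U ×_S S', equivalently the composite V ×_S S' → V → X has image contained in the
image of j. -/
theorem result
    {V X U S : Scheme.{u}} (g : X ⟶ S) [IsProper g] (i : V ⟶ X) [IsClosedImmersion i]
    (j : U ⟶ X) [IsOpenImmersion j] :
    ∃ S₀ : S.Opens, ∀ (S' : Scheme.{u}) (f : S' ⟶ S),
      Set.range f ⊆ (S₀ : Set S) ↔
        Set.range (pullback.fst (i ≫ g) f ≫ i) ⊆ Set.range j := by
  let C : Set S := g '' (Set.range i \ Set.range j)
  have hC : IsClosed C := by
    apply g.isClosedMap
    exact (i.isClosedEmbedding.isClosed_range).sdiff (j.isOpenEmbedding.isOpen_range)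
  refine ⟨⟨Cᶜ, hC.isOpen_compl⟩, fun S' f => ?_⟩
  constructor
  · rintro h _ ⟨z, rfl⟩
    by_contra hz
    have h1 : pullback.fst (i ≫ g) f z ∈ (i ≫ g) ⁻¹' Set.range f := by
      rw [← Scheme.Pullback.range_fst]; exact ⟨z, rfl⟩
    obtain ⟨s', hs'⟩ := h1
    have h2 : f s' ∈ Cᶜ := h ⟨s', rfl⟩
    apply h2
    refine ⟨i (pullback.fst (i ≫ g) f z), ⟨⟨_, rfl⟩, ?_⟩, ?_⟩
    · simpa using hz
    · rw [hs']; simp
  · rintro h _ ⟨s', rfl⟩ ⟨x, ⟨⟨v, rfl⟩, hx⟩, hs⟩
    apply hx
    obtain ⟨z, hz, -⟩ := Scheme.Pullback.exists_preimage_pullback (f := i ≫ g) (g := f) v s' (by simpa using hs)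
    have := h ⟨z, rfl⟩
    simpa [hz] using this

end Groth.Agent.S17075
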