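import Groth.Statements.S17078
import Groth.Agent.RatCurve.K915.BinaryForms

set_option autoImplicit false
universe u
open RatCurve

namespace Groth.Agent.S17078

open K915.BinaryForms

open MvPolynomial in
/-- `homogeneousComponent m (F * f) = F * homogeneousComponent (m - a) f` for `F` homogeneous of degree `a ≤ m`. -/
theorem homogeneousComponent_mul_of_isHomogeneous {σ : Type} {k : Type u} [Field k] {F : MvPolynomial σ k} {a : ℕ}
    (hF : F.IsHomogeneous a) (f : MvPolynomial σ k) {m : ℕ} (hm : a ≤ m) :
    homogeneousComponent m (F * f) = F * homogeneousComponent (m - a) f := by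
  classical
  obtain ⟨e, rfl⟩ := Nat.exists_eq_add_of_le hm
  rw [Nat.add_sub_cancel_left]
  conv_lhs => rw [← sum_homogeneousComponent f, Finset.mul_sum, map_sum]
  have h1 : ∀ i, homogeneousComponent (a + e) (F * homogeneousComponent i f) =
      if i = e then F * homogeneousComponent e f else 0 := by
    intro i
    rw [homogeneousComponent_of_mem ((mem_homogeneousSubmodule _ _).mpr
      (hF.mul (homogeneousComponent_isHomogeneous i f)))]
    by_cases h : i = e
    · subst h; simp
    · rw [if_neg (by omega), if_neg h]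
  simp_rw [h1]
  rw [Finset.sum_ite_eq' ]
  split_ifs with h
  · rfl
  · rw [Finset.mem_range, not_lt] at h
    rw [homogeneousComponent_eq_zero _ _ (by omega), mul_zero]

/-- Let k be an algebraically closed field and F_0, …, F_{n-1} homogeneous polynomials of degree d in
k[u, v]. Then the F_i have no common factor other than units if and only if there is an integer m ≥
d such that every homogeneous polynomial of degree m can be written Σ_i F_i G_i with each G_i
homogeneous of degree m − d, i.e. the k-linear map (G_i)_i ↦ Σ_i F_i G_i from n copies of k[u,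
v]_{m−d} to k[u, v]_m is surjective. -/
theorem result
    {k : Type u} [Field k] [IsAlgClosed k] {n : ℕ} (F : Fin n → MvPolynomial (Fin 2) k)
    (d : ℕ) (hF : ∀ i, (F i).IsHomogeneous d) :
    (¬ ∃ H : MvPolynomial (Fin 2) k, ¬ IsUnit H ∧ ∀ i, H ∣ F i) ↔
      ∃ m : ℕ, d ≤ m ∧ ∀ P : MvPolynomial (Fin 2) k, P.IsHomogeneous m →
        ∃ G : Fin n → MvPolynomial (Fin 2) k, (∀ i, (G i).IsHomogeneous (m - d)) ∧
          P = ∑ i, F i * G i := by
  classical
  constructor
  · intro h
    -- no common zero
    have h1 : ∀ a : Fin 2 → k, (∀ G ∈ Set.range F, MvPolynomial.eval a G = 0) → a = 0 := by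
      intro a ha
      by_contra ha0
      obtain ⟨L, hL, hdvd⟩ := exists_linear a ha0
      exact h ⟨L, hL, fun i => hdvd (F i) d (hF i) (ha _ ⟨i, rfl⟩)⟩
    obtain ⟨N0, hN0⟩ := exists_pow_mem_of_forall_eq_zero (Set.range F) h1 0
    obtain ⟨N1, hN1⟩ := exists_pow_mem_of_forall_eq_zero (Set.range F) h1 1
    refine ⟨max (N0 + N1) d, le_max_right _ _, fun P hP => ?_⟩
    set m := max (N0 + N1) d with hm
    -- `P` lies in the ideal
    have h2 : P ∈ Ideal.span (Set.range F) := by
      rw [MvPolynomial.as_sum P]
      refine Ideal.sum_mem _ fun e he => ?_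
      have hdeg : e 0 + e 1 = m := by
        have := hP.degree_eq_sum_deg_support he
        have h3 : ∑ i ∈ e.support, e i = ∑ i : Fin 2, e i :=
          Finset.sum_subset (Finset.subset_univ _) fun i _ hi => Finsupp.notMem_support_iff.mp hi
        rw [this, h3, Fin.sum_univ_two]
      have h4 : N0 ≤ e 0 ∨ N1 ≤ e 1 := by
        have := le_max_left (N0 + N1) d
        omega
      rw [MvPolynomial.monomial_eq]
      refine Ideal.mul_mem_left _ _ ?_
      rw [Finsupp.prod_fintype _ _ fun i => pow_zero _, Fin.prod_univ_two]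
      rcases h4 with h4 | h4
      · refine Ideal.mul_mem_right _ _ ?_
        obtain ⟨c, hc⟩ := Nat.exists_eq_add_of_le h4
        rw [hc, pow_add]
        exact Ideal.mul_mem_right _ _ hN0
      · refine Ideal.mul_mem_left _ _ ?_
        obtain ⟨c, hc⟩ := Nat.exists_eq_add_of_le h4
        rw [hc, pow_add]
        exact Ideal.mul_mem_right _ _ hN1
    obtain ⟨G, hG⟩ := (Ideal.mem_span_range_iff_exists_fun).mp h2
    refine ⟨fun i => MvPolynomial.homogeneousComponent (m - d) (G i),
      fun i => MvPolynomial.homogeneousComponent_isHomogeneous _ _, ?_⟩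
    have h3 : MvPolynomial.homogeneousComponent m P = P := by
      rw [MvPolynomial.homogeneousComponent_eq_self hP]
    rw [← h3, ← hG, map_sum]
    refine Finset.sum_congr rfl fun i _ => ?_
    rw [mul_comm (G i)]
    exact homogeneousComponent_mul_of_isHomogeneous (hF i) (G i) (le_max_right _ _)
  · rintro ⟨m, hm, hsurj⟩ ⟨H, hH, hdvd⟩
    obtain ⟨a, ha, h0⟩ := exists_zero_of_not_isUnit H hH
    obtain ⟨i, hi⟩ : ∃ i, a i ≠ 0 := by
      by_contra h
      push Not at h
      exact ha (funext h)
    obtain ⟨G, -, hG⟩ := hsurj (MvPolynomial.X i ^ m) (MvPolynomial.isHomogeneous_X_pow i m)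
    have h1 := congrArg (MvPolynomial.eval a) hG
    rw [map_pow, MvPolynomial.eval_X, map_sum] at h1
    have h2 : ∀ j, MvPolynomial.eval a (F j * G j) = 0 := by
      intro j
      obtain ⟨K, hK⟩ := hdvd j
      rw [hK, map_mul, map_mul, h0, zero_mul, zero_mul]
    rw [Finset.sum_eq_zero fun j _ => h2 j] at h1
    exact hi (eq_zero_of_pow_eq_zero h1)

end Groth.Agent.S17078
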