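import Groth.Statements.S17079
-- import your own Groth.Agent.* helpers here

set_option autoImplicit false
universe u
open CategoryTheory CategoryTheory.Limits AlgebraicGeometry
open MorSch

namespace Groth.Agent.S17079


/-- for `T` over `S'`: `T ×_{S'} (X ×_S S') ≅ T ×_S X`. -/
theorem isPb {X S S' : Scheme.{u}} (gX : X ⟶ S) (h : S' ⟶ S) (T : Over S') :
    IsPullback (pullback.fst T.hom (pullback.snd gX h))
      (pullback.snd T.hom (pullback.snd gX h) ≫ pullback.fst gX h) (T.hom ≫ h) gX :=
  ((IsPullback.of_hasPullback T.hom (pullback.snd gX h)).flip.paste_horiz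
    (IsPullback.of_hasPullback gX h)).flip

/-- the natural version. -/
noncomputable def pullMapIso {X S S' : Scheme.{u}} (gX : X ⟶ S) (h : S' ⟶ S) :
    Over.pullback (pullback.snd gX h) ⋙ Over.map (pullback.snd gX h) ⋙ Over.map h ≅
      Over.map h ⋙ Over.pullback gX ⋙ Over.map gX :=
  NatIso.ofComponents (fun T => Over.isoMk (isPb gX h T).isoPullback (by
      dsimp
      rw [← Category.assoc, (isPb gX h T).isoPullback_hom_snd, Category.assoc, Category.assoc,
        pullback.condition])) (by
    intro T T' φ
    apply Over.OverMorphism.ext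
    dsimp
    apply pullback.hom_ext
    · have h1 : ((Over.pullback (pullback.snd gX h)).map φ).left ≫
          pullback.fst T'.hom (pullback.snd gX h) =
          pullback.fst T.hom (pullback.snd gX h) ≫ φ.left := pullback.lift_fst _ _ _
      have h2 : ((Over.pullback gX).map ((Over.map h).map φ)).left ≫
          pullback.fst (T'.hom ≫ h) gX = pullback.fst (T.hom ≫ h) gX ≫ φ.left :=
        pullback.lift_fst _ _ _
      have e1 := (isPb gX h T').isoPullback_hom_fst
      have e2 := (isPb gX h T).isoPullback_hom_fst
      calc _ = ((Over.pullback (pullback.snd gX h)).map φ).left ≫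
            ((isPb gX h T').isoPullback.hom ≫ pullback.fst (T'.hom ≫ h) gX) :=
            Category.assoc _ _ _
        _ = _ := congrArg (((Over.pullback (pullback.snd gX h)).map φ).left ≫ ·) e1
        _ = _ := h1
        _ = _ := congrArg (· ≫ φ.left) e2.symm
        _ = _ := Category.assoc _ _ _
        _ = _ := congrArg ((isPb gX h T).isoPullback.hom ≫ ·) h2.symm
        _ = _ := (Category.assoc _ _ _).symm
    · have h1 : ((Over.pullback (pullback.snd gX h)).map φ).left ≫
          pullback.snd T'.hom (pullback.snd gX h) =
          pullback.snd T.hom (pullback.snd gX h) := pullback.lift_snd _ _ _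
      have h2 : ((Over.pullback gX).map ((Over.map h).map φ)).left ≫
          pullback.snd (T'.hom ≫ h) gX = pullback.snd (T.hom ≫ h) gX :=
        pullback.lift_snd _ _ _
      have e1 := (isPb gX h T').isoPullback_hom_snd
      have e2 := (isPb gX h T).isoPullback_hom_snd
      calc _ = ((Over.pullback (pullback.snd gX h)).map φ).left ≫
            ((isPb gX h T').isoPullback.hom ≫ pullback.snd (T'.hom ≫ h) gX) :=
            Category.assoc _ _ _
        _ = _ := congrArg (((Over.pullback (pullback.snd gX h)).map φ).left ≫ ·) e1
        _ = _ := (Category.assoc _ _ _).symm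
        _ = _ := congrArg (· ≫ pullback.fst gX h) h1
        _ = _ := e2.symm
        _ = _ := congrArg ((isPb gX h T).isoPullback.hom ≫ ·) h2.symm
        _ = _ := (Category.assoc _ _ _).symm)

/-- Let gX : X → S and gY : Y → S be morphisms and suppose the functor Mor_S(X, Y) — sending an S-scheme
T to the set of S-morphisms T ×_S X → Y, with base change as transition maps — is represented by an
S-scheme M. Then for every morphism h : S' → S the functor Mor_{S'}(X ×_S S', Y ×_S S') on
S'-schemes is represented by M ×_S S'. (The published statement assumes X and Y projective over S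
with X flat and S, S' locally Noetherian; this row assumes only that the functor is represented by
M. Only the existence of a representing structure on M ×_S S' is asserted, not its compatibility
with the one on M.) -/
theorem result
    {X Y S S' : Scheme.{u}} (gX : X ⟶ S) (gY : Y ⟶ S) (h : S' ⟶ S)
    (M : Over S) (e : (Flatn.morS gX gY).RepresentableBy M) :
    Nonempty ((Flatn.morS (pullback.snd gX h) (pullback.snd gY h)).RepresentableBy
      (Over.mk (pullback.snd M.hom h))) := by
  let F₁ : (Over S')ᵒᵖ ⥤ Type u := (Over.map h).op ⋙ Flatn.morS gX gY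
  have r : F₁.RepresentableBy (Over.mk (pullback.snd M.hom h)) :=
    ((Over.mapPullbackAdj h).representableBy M).ofIso (Functor.isoWhiskerLeft (Over.map h).op e.toIso)
  have i₁ : F₁ ≅ (Over.pullback (pullback.snd gX h) ⋙ Over.map (pullback.snd gX h)).op ⋙
      ((Over.map h).op ⋙ yoneda.obj (Over.mk gY)) :=
    Functor.isoWhiskerRight (NatIso.op (pullMapIso gX h)) (yoneda.obj (Over.mk gY))
  have i₂ : (Over.map h).op ⋙ yoneda.obj (Over.mk gY) ≅
      yoneda.obj (Over.mk (pullback.snd gY h)) :=
    (((Over.mapPullbackAdj h).representableBy (Over.mk gY)).toIso).symm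
  exact ⟨r.ofIso (i₁ ≪≫ Functor.isoWhiskerLeft _ i₂)⟩

end Groth.Agent.S17079
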