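import Groth.Statements.S17080
-- import your own Groth.Agent.* helpers here

set_option autoImplicit false
universe u
open CategoryTheory CategoryTheory.Limits AlgebraicGeometry
open MorSch

namespace Groth.Agent.S17080


/-- morphisms over `S` into an open subscheme = morphisms with image in the open. -/
noncomputable def liftEquiv {S Y U : Scheme.{u}} (gY : Y ⟶ S) (j : U ⟶ Y) [IsOpenImmersion j]
    (A : Over S) :
    (A ⟶ Over.mk (j ≫ gY)) ≃ {c : A ⟶ Over.mk gY // Set.range c.left ⊆ Set.range j} where
  toFun b := ⟨b ≫ (Over.homMk j rfl : Over.mk (j ≫ gY) ⟶ Over.mk gY), by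
    rintro _ ⟨x, rfl⟩
    exact ⟨b.left x, by simp⟩⟩
  invFun c := Over.homMk (IsOpenImmersion.lift j c.1.left c.2) (by
    have := Over.w c.1
    dsimp at this ⊢
    rw [IsOpenImmersion.lift_fac_assoc, this])
  left_inv b := by
    apply Over.OverMorphism.ext
    rw [← cancel_mono j]
    exact IsOpenImmersion.lift_fac _ _ _
  right_inv c := by
    apply Subtype.ext
    apply Over.OverMorphism.ext
    exact IsOpenImmersion.lift_fac _ _ _

/-- Let gX : X → S be proper and flat, gY : Y → S separated and j : U → Y an open immersion, and suppose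
the functor Mor_S(X, Y) — S-schemes T ↦ S-morphisms T ×_S X → Y — is represented by an S-scheme M
via e. Then there are an open subset M₀ of M and a representation e₀ of Mor_S(X, U) by the open
subscheme M₀ (viewed over S through M) which is compatible with e: for every S-morphism φ : T → M₀,
the S-morphism T ×_S X → Y classified by φ followed by the inclusion M₀ → M is the S-morphism T ×_S
X → U classified by φ, followed by j. In particular the morphism Mor_S(X, U) → Mor_S(X, Y) induced
by j is an open immersion. (Published for X projective and flat and Y quasi-projective over a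
locally Noetherian S, which is how M is known to exist there; representability is taken as a
hypothesis here.) -/
theorem result
    {X Y U S : Scheme.{u}} (gX : X ⟶ S) [IsProper gX] [Flat gX] (gY : Y ⟶ S) [IsSeparated gY]
    (j : U ⟶ Y) [IsOpenImmersion j] (M : Over S) (e : (Flatn.morS gX gY).RepresentableBy M) :
    ∃ (M₀ : M.left.Opens)
      (e₀ : (Flatn.morS gX (j ≫ gY)).RepresentableBy (Over.mk (M₀.ι ≫ M.hom))),
      ∀ (T : Over S) (φ : T ⟶ Over.mk (M₀.ι ≫ M.hom)),
        (e.homEquiv (φ ≫ Over.homMk M₀.ι rfl) :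
            (Over.map gX).obj ((Over.pullback gX).obj T) ⟶ Over.mk gY) =
          (e₀.homEquiv φ : (Over.map gX).obj ((Over.pullback gX).obj T) ⟶ Over.mk (j ≫ gY)) ≫
            (Over.homMk j rfl : Over.mk (j ≫ gY) ⟶ Over.mk gY) := by
  let u : (Over.map gX).obj ((Over.pullback gX).obj M) ⟶ Over.mk gY := e.homEquiv (𝟙 M)
  let uu : pullback M.hom gX ⟶ Y := u.left
  let C : Set M.left := pullback.fst M.hom gX '' (uu ⁻¹' (Set.range j)ᶜ)
  have hC : IsClosed C := by
    apply (pullback.fst M.hom gX).isClosedMap
    exact (j.isOpenEmbedding.isOpen_range).isClosed_compl.preimage uu.continuous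
  let M₀ : M.left.Opens := ⟨Cᶜ, hC.isOpen_compl⟩
  have hrange : Set.range M₀.ι = (M₀ : Set M.left) := by simp
  have hval : ∀ {T : Over S} (g : T ⟶ M),
      (show (Over.map gX).obj ((Over.pullback gX).obj T) ⟶ Over.mk gY from e.homEquiv g).left =
        ((Over.pullback gX).map g).left ≫ uu := by
    intro T g
    rw [e.homEquiv_eq]
    rfl
  have hpb : ∀ {T : Over S} (g : T ⟶ M), IsPullback (pullback.fst T.hom gX)
      ((Over.pullback gX).map g).left g.left (pullback.fst M.hom gX) := by
    intro T g
    have h1 : IsPullback (pullback.fst M.hom gX) (pullback.snd M.hom gX) M.hom gX :=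
      IsPullback.of_hasPullback _ _
    have h2 : IsPullback (pullback.fst T.hom gX)
        (((Over.pullback gX).map g).left ≫ pullback.snd M.hom gX) (g.left ≫ M.hom) gX := by
      have e1 : ((Over.pullback gX).map g).left ≫ pullback.snd M.hom gX = pullback.snd T.hom gX :=
        pullback.lift_snd _ _ _
      rw [e1, Over.w g]
      exact IsPullback.of_hasPullback _ _
    have e2 : ((Over.pullback gX).map g).left ≫ pullback.fst M.hom gX =
        pullback.fst T.hom gX ≫ g.left := pullback.lift_fst _ _ _
    exact (IsPullback.of_right h2.flip e2 h1.flip).flip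
  have key : ∀ {T : Over S} (g : T ⟶ M), Set.range g.left ⊆ Set.range M₀.ι ↔
      Set.range (show (Over.map gX).obj ((Over.pullback gX).obj T) ⟶ Over.mk gY from
        e.homEquiv g).left ⊆ Set.range j := by
    intro T g
    rw [hval, hrange]
    constructor
    · rintro h _ ⟨z, rfl⟩
      by_contra hz
      have h1 : g.left (pullback.fst T.hom gX z) ∈ Cᶜ := h ⟨_, rfl⟩
      apply h1
      refine ⟨((Over.pullback gX).map g).left z, ?_, ?_⟩
      · simpa using hz
      · rw [← Scheme.Hom.comp_apply, ← Scheme.Hom.comp_apply, (hpb g).w]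
    · rintro h _ ⟨t, rfl⟩ ⟨y, hy, hyt⟩
      apply hy
      obtain ⟨z, hz⟩ : y ∈ Set.range ((Over.pullback gX).map g).left := by
        obtain ⟨w, -, hw⟩ := Scheme.Pullback.exists_preimage_pullback (f := g.left)
          (g := pullback.fst M.hom gX) t y hyt.symm
        refine ⟨(hpb g).isoPullback.inv w, ?_⟩
        rw [← Scheme.Hom.comp_apply, (hpb g).isoPullback_inv_snd, hw]
      have := h ⟨z, rfl⟩
      simpa [← hz] using this
  let F := Over.pullback gX ⋙ Over.map gX
  let ιM : Over.mk (M₀.ι ≫ M.hom) ⟶ M := Over.homMk M₀.ι rfl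
  let jj : Over.mk (j ≫ gY) ⟶ Over.mk gY := Over.homMk j rfl
  haveI : Mono jj := by
    refine ⟨fun a b hab => ?_⟩
    apply Over.OverMorphism.ext
    rw [← cancel_mono j]
    exact congrArg (fun z => z.left) hab
  let E : ∀ {T : Over S}, (T ⟶ Over.mk (M₀.ι ≫ M.hom)) ≃ (F.obj T ⟶ Over.mk (j ≫ gY)) :=
    fun {T} => (liftEquiv M.hom M₀.ι T).trans
        ((Equiv.subtypeEquiv e.homEquiv (fun g => key g)).trans
          (liftEquiv gY j ((Over.map gX).obj ((Over.pullback gX).obj T))).symm)
  have hE : ∀ {T : Over S} (φ : T ⟶ Over.mk (M₀.ι ≫ M.hom)),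
      (e.homEquiv (φ ≫ ιM) : F.obj T ⟶ Over.mk gY) = E φ ≫ jj := by
    intro T φ
    have := (liftEquiv gY j ((Over.map gX).obj ((Over.pullback gX).obj T))).apply_symm_apply
      ((Equiv.subtypeEquiv e.homEquiv (fun g => key g)) (liftEquiv M.hom M₀.ι T φ))
    exact (congrArg Subtype.val this).symm
  have hcomp : ∀ {T T' : Over S} (f : T ⟶ T') (g : T' ⟶ Over.mk (M₀.ι ≫ M.hom)),
      E (f ≫ g) = F.map f ≫ E g := by
    intro T T' f g
    rw [← cancel_mono jj, ← hE, Category.assoc, Category.assoc, ← hE, e.homEquiv_comp]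
    rfl
  exact ⟨M₀, ⟨E, fun f g => hcomp f g⟩, fun T φ => hE φ⟩

end Groth.Agent.S17080
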