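import Groth.Statements.S17081
import Groth.Agent.Fga.HilbClosed

set_option autoImplicit false
universe u
open CategoryTheory CategoryTheory.Limits AlgebraicGeometry
open MorSch

namespace Groth.Agent.S17081


open Groth.Agent.Fga.HilbClosed

section

variable {X S S' : Scheme.{u}} (f : X ⟶ S) (h : S' ⟶ S)

theorem isPbT (T : Over S') :
    IsPullback (pullback.fst (pullback.snd f h) T.hom ≫ pullback.fst f h)
      (pullback.snd (pullback.snd f h) T.hom) f (T.hom ≫ h) :=
  ((IsPullback.of_hasPullback (pullback.snd f h) T.hom).flip.paste_vert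
    (IsPullback.of_hasPullback f h).flip).flip

/-- `X' ×_{S'} T ≅ X ×_S T`. -/
noncomputable def κ (T : Over S') :
    PicF.XT (pullback.snd f h) T ≅ PicF.XT f ((Over.map h).obj T) :=
  (isPbT f h T).isoPullback

theorem κ_fst (T : Over S') : (κ f h T).hom ≫ pullback.fst f (T.hom ≫ h) =
    pullback.fst (pullback.snd f h) T.hom ≫ pullback.fst f h :=
  (isPbT f h T).isoPullback_hom_fst

theorem κ_snd (T : Over S') : (κ f h T).hom ≫ pullback.snd f (T.hom ≫ h) =
    pullback.snd (pullback.snd f h) T.hom :=
  (isPbT f h T).isoPullback_hom_snd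

/-- comap along an isomorphism -/
theorem comap_iso_subscheme {A B : Scheme.{u}} (e : A ≅ B) (I : B.IdealSheafData) :
    ∃ i : (I.comap e.hom).subscheme ≅ I.subscheme,
      i.hom ≫ I.subschemeι = (I.comap e.hom).subschemeι ≫ e.hom := by
  have hp := Groth.Agent.Fga.RelCart.isPullback_comap I e.hom
  have : IsIso ((I.comapIso e.hom).hom ≫ pullback.snd e.hom I.subschemeι) := by infer_instance
  exact ⟨asIso _, hp.w.symm⟩

theorem comap_mem (T : Over S') (I : (PicF.XT f ((Over.map h).obj T)).IdealSheafData) :
    (IsProper ((I.comap (κ f h T).hom).subschemeι ≫ PicF.XTproj (pullback.snd f h) T) ∧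
      Flat ((I.comap (κ f h T).hom).subschemeι ≫ PicF.XTproj (pullback.snd f h) T)) ↔
    (IsProper (I.subschemeι ≫ PicF.XTproj f ((Over.map h).obj T)) ∧
      Flat (I.subschemeι ≫ PicF.XTproj f ((Over.map h).obj T))) := by
  obtain ⟨i, hi⟩ := comap_iso_subscheme (κ f h T) I
  have e : (I.comap (κ f h T).hom).subschemeι ≫ PicF.XTproj (pullback.snd f h) T =
      i.hom ≫ I.subschemeι ≫ PicF.XTproj f ((Over.map h).obj T) := by
    rw [← Category.assoc, hi, Category.assoc]
    exact congrArg _ (κ_snd f h T).symm
  rw [e, MorphismProperty.cancel_left_of_respectsIso @IsProper,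
      MorphismProperty.cancel_left_of_respectsIso @Flat]

theorem comap_comap_inv {A B : Scheme.{u}} (e : A ≅ B) (I : A.IdealSheafData) :
    (I.comap e.inv).comap e.hom = I := by
  rw [← Scheme.IdealSheafData.comap_comp, e.hom_inv_id, Scheme.IdealSheafData.comap_id]

theorem comap_inv_comap {A B : Scheme.{u}} (e : A ≅ B) (I : B.IdealSheafData) :
    (I.comap e.hom).comap e.inv = I := by
  rw [← Scheme.IdealSheafData.comap_comp, e.inv_hom_id, Scheme.IdealSheafData.comap_id]

/-- The adjunction `Over.map h ⊣ Over.pullback h`, explicitly. -/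
noncomputable def adjE (H : Over S) (T : Over S') :
    ((Over.map h).obj T ⟶ H) ≃ (T ⟶ Over.mk (pullback.snd H.hom h)) where
  toFun u := Over.homMk (pullback.lift u.left T.hom (Over.w u)) (pullback.lift_snd _ _ _)
  invFun v := Over.homMk (v.left ≫ pullback.fst H.hom h) (by
    have := Over.w v
    dsimp at this ⊢
    rw [Category.assoc, pullback.condition, ← Category.assoc, this])
  left_inv u := Over.OverMorphism.ext (pullback.lift_fst _ _ _)
  right_inv v := Over.OverMorphism.ext (pullback.hom_ext (pullback.lift_fst _ _ _)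
    ((pullback.lift_snd _ _ _).trans (Over.w v).symm))

end

/-- Let S and S' be Noetherian schemes, h : S' → S and f : X → S morphisms, and (H, Z) a pair
representing the Hilbert functor of X over S on locally Noetherian S-schemes (H locally Noetherian
over S; Z ⊆ X ×_S H closed, proper and flat over H; every closed subscheme of X ×_S T proper and
flat over a locally Noetherian S-scheme T is the pullback of Z along a unique S-morphism T → H),
with H locally of finite type over S. Write X' = X ×_S S' → S' and H' = H ×_S S' → S', and let Z' ⊆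
X' ×_{S'} H' be the closed subscheme pulled back from Z along the morphism X' ×_{S'} H' → X ×_S H
induced by the projections X' → X and H' → H. Then (H', Z') represents the Hilbert functor of X'
over S'. (Published for X flat and projective over S, which is how (H, Z) is known to exist there;
representability is taken as a hypothesis here; the hypothesis that H is locally of finite type over
S is added here (it holds for the Hilbert scheme of a flat projective scheme) so that H ×_S S' is
locally Noetherian.) -/
theorem result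
    {X S S' : Scheme.{u}} [IsNoetherian S] [IsNoetherian S'] (f : X ⟶ S) (h : S' ⟶ S)
    (H : Over S) (Z : FGA.HilbSet f H) (hH : FGA.HilbRepresentedBy f H Z)
    [LocallyOfFiniteType H.hom]
    (Z' : FGA.HilbSet (pullback.snd f h) (Over.mk (pullback.snd H.hom h)))
    (hZ' : Z'.1 = Z.1.comap (pullback.map (pullback.snd f h) (pullback.snd H.hom h) f H.hom
      (pullback.fst f h) (pullback.fst H.hom h) h pullback.condition.symm pullback.condition.symm)) :
    FGA.HilbRepresentedBy (pullback.snd f h) (Over.mk (pullback.snd H.hom h)) Z' := by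
  have hHN := hH.1
  have hN : IsLocallyNoetherian (pullback H.hom h) :=
    LocallyOfFiniteType.isLocallyNoetherian (pullback.snd H.hom h)
  refine ⟨hN, fun T _ Y => ?_⟩
  let f' := pullback.snd f h
  let T' : Over S := (Over.map h).obj T
  let m : PicF.XT f' (Over.mk (pullback.snd H.hom h)) ⟶ PicF.XT f H :=
    pullback.map (pullback.snd f h) (pullback.snd H.hom h) f H.hom
      (pullback.fst f h) (pullback.fst H.hom h) h pullback.condition.symm pullback.condition.symm
  -- the adjunction
  let A : (T' ⟶ H) ≃ (T ⟶ Over.mk (pullback.snd H.hom h)) := adjE h H T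
  have hA : ∀ g : T' ⟶ H, (A g).left ≫ pullback.fst H.hom h = g.left := by
    intro g
    exact pullback.lift_fst _ _ _
  have hm : ∀ g : T' ⟶ H, PicF.XTmap f' (A g) ≫ m = (κ f h T).hom ≫ PicF.XTmap f g := by
    intro g
    apply pullback.hom_ext
    · rw [Category.assoc, Category.assoc, FGA.XTmap_fst]
      refine Eq.trans (congrArg _ (pullback.lift_fst _ _ _)) ?_
      refine Eq.trans ?_ (κ_fst f h T).symm
      rw [← Category.assoc]
      exact congrArg (· ≫ pullback.fst f h) (FGA.XTmap_fst f' (A g))
    · have h1 := (Groth.Agent.Fga.RelCart.isPullback_XTmap f' (A g)).w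
      have h2 := (Groth.Agent.Fga.RelCart.isPullback_XTmap f g).w
      have h3 : m ≫ pullback.snd f H.hom = pullback.snd f' (pullback.snd H.hom h) ≫ pullback.fst H.hom h :=
        pullback.lift_snd _ _ _
      calc _ = PicF.XTmap f' (A g) ≫ (m ≫ pullback.snd f H.hom) := Category.assoc _ _ _
        _ = (PicF.XTmap f' (A g) ≫ pullback.snd f' (pullback.snd H.hom h)) ≫ pullback.fst H.hom h := by
          rw [h3, Category.assoc]
        _ = (PicF.XTproj f' T ≫ (A g).left) ≫ pullback.fst H.hom h := congrArg (· ≫ pullback.fst H.hom h) h1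
        _ = PicF.XTproj f' T ≫ g.left := by rw [Category.assoc, hA]
        _ = ((κ f h T).hom ≫ PicF.XTproj f T') ≫ g.left := congrArg (· ≫ g.left) (κ_snd f h T).symm
        _ = (κ f h T).hom ≫ (PicF.XTproj f T' ≫ g.left) := Category.assoc _ _ _
        _ = (κ f h T).hom ≫ (PicF.XTmap f g ≫ PicF.XTproj f H) := congrArg _ h2.symm
        _ = _ := (Category.assoc _ _ _).symm
  have key : ∀ g : T' ⟶ H, FGA.hilbPull f' (A g) Z'.1 = (FGA.hilbPull f g Z.1).comap (κ f h T).hom := by
    intro g
    rw [Groth.Agent.Fga.RelCart.hilbPull_eq_comap, Groth.Agent.Fga.RelCart.hilbPull_eq_comap, hZ',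
      ← Scheme.IdealSheafData.comap_comp, ← Scheme.IdealSheafData.comap_comp]
    exact congrArg _ (hm g)
  have hT' : IsLocallyNoetherian T'.left := inferInstanceAs (IsLocallyNoetherian T.left)
  let W : FGA.HilbSet f T' := ⟨Y.1.comap (κ f h T).inv, by
    rw [← comap_mem f h T, comap_comap_inv]
    exact Y.2⟩
  obtain ⟨g, hg, hguniq⟩ := hH.2 T' W
  have hW : W.1 = Y.1.comap (κ f h T).inv := rfl
  refine ⟨A g, ?_, fun a ha => ?_⟩
  · change FGA.hilbPull f' (A g) Z'.1 = _
    rw [key, hg, hW, comap_comap_inv]
  · obtain ⟨a', rfl⟩ := A.surjective a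
    congr 1
    apply hguniq
    change FGA.hilbPull f' (A a') Z'.1 = _ at ha
    rw [key] at ha
    change _ = W.1
    rw [hW, ← ha, comap_inv_comap]

end Groth.Agent.S17081
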