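import Groth.Statements.S17084
-- import your own Groth.Agent.* helpers here

set_option autoImplicit false
universe u
open CategoryTheory CategoryTheory.Limits AlgebraicGeometry
open MorSch

namespace Groth.Agent.S17084

/-- Let (X_i)_{i ∈ ι} be a finite family of schemes over S with structure morphisms g_i : X_i → S, let Y
→ S be a scheme over S and T an S-scheme. Then for every family of S-morphisms a_i : T ×_S X_i → Y
there is a unique S-morphism b : T ×_S (∐_i X_i) → Y whose restriction along each T ×_S X_i → T ×_S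
(∐_i X_i) is a_i. In other words the canonical map Mor_S(∐_i X_i, Y) → ∏_i Mor_S(X_i, Y) of functors
on S-schemes is an isomorphism. -/
theorem result
    {S Y : Scheme.{u}} {ι : Type u} [Finite ι] (X : ι → Scheme.{u}) (g : ∀ i, X i ⟶ S)
    (gY : Y ⟶ S) (T : Over S) (a : ∀ i, (Flatn.morS (g i) gY).obj (Opposite.op T)) :
    ∃! b : (Flatn.morS (Sigma.desc g) gY).obj (Opposite.op T),
      ∀ i, pullback.map T.hom (g i) T.hom (Sigma.desc g) (𝟙 T.left) (Sigma.ι X i) (𝟙 S)
          ((Category.comp_id _).trans (Category.id_comp _).symm)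
          ((Category.comp_id _).trans (Sigma.ι_desc g i).symm) ≫ b.left = (a i).left := by
  let D : Scheme.{u} := pullback T.hom (Sigma.desc g)
  let m : ∀ i, pullback T.hom (g i) ⟶ D := fun i =>
    pullback.map T.hom (g i) T.hom (Sigma.desc g) (𝟙 T.left) (Sigma.ι X i) (𝟙 S)
          ((Category.comp_id _).trans (Category.id_comp _).symm)
          ((Category.comp_id _).trans (Sigma.ι_desc g i).symm)
  have hm1 : ∀ i, m i ≫ pullback.fst T.hom (Sigma.desc g) = pullback.fst T.hom (g i) := by
    intro i
    exact (pullback.lift_fst _ _ _).trans (Category.comp_id _)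
  have hm2 : ∀ i, m i ≫ pullback.snd T.hom (Sigma.desc g) =
      pullback.snd T.hom (g i) ≫ Sigma.ι X i := by
    intro i
    exact pullback.lift_snd _ _ _
  have hpb : ∀ i, IsPullback (m i) (pullback.snd T.hom (g i)) (pullback.snd T.hom (Sigma.desc g))
      (Sigma.ι X i) := by
    intro i
    have h1 : IsPullback (pullback.fst T.hom (Sigma.desc g)) (pullback.snd T.hom (Sigma.desc g))
      T.hom (Sigma.desc g) := IsPullback.of_hasPullback _ _
    refine IsPullback.of_right ?_ (hm2 i) h1
    rw [hm1, Sigma.ι_desc]
    exact IsPullback.of_hasPullback _ _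
  let c' : Cofan (fun i => pullback T.hom (g i)) := Cofan.mk D m
  have hc' : Nonempty (IsColimit c') := by
    refine FinitaryPreExtensive.isUniversal_finiteCoproducts (coproductIsCoproduct X) c'
      (Discrete.natTrans fun i => pullback.snd T.hom (g i.as)) (pullback.snd T.hom (Sigma.desc g))
      ?_ (NatTrans.Equifibered.of_discrete _) ?_
    · ext i
      exact (hm2 i.as).symm
    · intro i
      exact hpb i.as
  obtain ⟨hc⟩ := hc'
  let b₀ : D ⟶ Y := Cofan.IsColimit.desc hc (fun i => (a i).left)
  have hb₀ : ∀ i, m i ≫ b₀ = (a i).left := fun i => Cofan.IsColimit.fac hc _ i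
  have hw : b₀ ≫ gY = pullback.snd T.hom (Sigma.desc g) ≫ Sigma.desc g := by
    apply Cofan.IsColimit.hom_ext hc
    intro i
    change m i ≫ _ = m i ≫ _
    rw [← Category.assoc, hb₀, ← Category.assoc, hm2, Category.assoc, Sigma.ι_desc]
    exact Over.w (a i)
  refine ⟨Over.homMk b₀ hw, fun i => hb₀ i, fun b hb => ?_⟩
  apply Over.OverMorphism.ext
  apply Cofan.IsColimit.hom_ext hc
  intro i
  exact (hb i).trans (hb₀ i).symm

end Groth.Agent.S17084
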