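import Groth.Statements.S17086
import Groth.Agent.RatCurve.K915.P1Basic

set_option autoImplicit false
universe u
open CategoryTheory CategoryTheory.Limits AlgebraicGeometry
open RatCurve

namespace Groth.Agent.S17086

/-- Let k be an algebraically closed field, X a closed subscheme of P^n_k, Z ⊆ X a closed subscheme and
σ : B → X a blow-up of X along Z (the inverse image ideal of Z is effective Cartier and σ is final
with this property). Then every k-morphism f : P^1_k → X whose image is not contained in Z lifts
uniquely along σ: there is exactly one morphism g : P^1_k → B with g ≫ σ = f. Equivalently, over the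
open locus of morphisms meeting X ∖ Z, the morphism Mor(P^1_k, B) → Mor(P^1_k, X) induced by σ is a
bijection on k-points. -/
theorem result
    {k : Type u} [Field k] [IsAlgClosed k] {n : ℕ} (X : Scheme.{u})
    (c : X ⟶ CohB1.ProjSpace n k) [IsClosedImmersion c]
    (Z : Scheme.{u}) (iZ : Z ⟶ X) [IsClosedImmersion iZ]
    (B : Scheme.{u}) (σ : B ⟶ X) (hσ : BlowUp.IsBlowUp σ iZ.ker)
    (f : CohB1.ProjSpace 1 k ⟶ X)
    (hf : f ≫ c ≫ CohB1.ProjSpace.toSpec n k = CohB1.ProjSpace.toSpec 1 k)
    (hfZ : ¬ Set.range f ⊆ Set.range iZ) :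
    ∃! g : CohB1.ProjSpace 1 k ⟶ B, g ≫ σ = f := by
  have : IsIntegral (CohB1.ProjSpace 1 k) := inferInstance
  have : IsLocallyNoetherian (CohB1.ProjSpace 1 k) := inferInstance
  apply hσ.2 (CohB1.ProjSpace 1 k) f
  apply K915.P1Basic.isEffCartierIdeal_of_support_ne
    (fun x => (Groth.Agent.Lefpen.H723.P1Flat.stalk_pid k x).2)
  intro htop
  apply hfZ
  rintro _ ⟨x, rfl⟩
  have hx : x ∈ (iZ.ker.comap f).support := by rw [htop]; trivial
  rw [Scheme.IdealSheafData.support_comap] at hx
  have hx' : f x ∈ (iZ.ker.support : Set X) := hx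
  rw [Scheme.Hom.support_ker, iZ.isClosedEmbedding.isClosed_range.closure_eq] at hx'
  exact hx'

end Groth.Agent.S17086
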