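import Groth.Statements.S17087
import Groth.Agent.MorSch.K921.IsoLocus
import Groth.Agent.Fga.HilbClosed

set_option autoImplicit false
universe u
open CategoryTheory CategoryTheory.Limits AlgebraicGeometry
open MorSch

namespace Groth.Agent.S17087


open Groth.Agent.Fga.HilbClosed Groth.Agent.Fga.RelCart

section

variable {X Y S : Scheme.{u}} (gX : X ⟶ S) (gY : Y ⟶ S)

/-- `(X ×_S Y) ×_S T ⟶ T ×_S X` -/
noncomputable def r (T : Over S) :
    PicF.XT (pullback.fst gX gY ≫ gX) T ⟶ pullback T.hom gX :=
  pullback.lift (pullback.snd (pullback.fst gX gY ≫ gX) T.hom)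
    (pullback.fst (pullback.fst gX gY ≫ gX) T.hom ≫ pullback.fst gX gY)
    (by rw [Category.assoc, ← pullback.condition])

theorem r_fst (T : Over S) : r gX gY T ≫ pullback.fst T.hom gX =
    pullback.snd (pullback.fst gX gY ≫ gX) T.hom := pullback.lift_fst _ _ _

theorem r_snd (T : Over S) : r gX gY T ≫ pullback.snd T.hom gX =
    pullback.fst (pullback.fst gX gY ≫ gX) T.hom ≫ pullback.fst gX gY := pullback.lift_snd _ _ _

/-- `r` is a base change of `gY`. -/
theorem isPullback_r (T : Over S) :
    IsPullback (pullback.fst (pullback.fst gX gY ≫ gX) T.hom ≫ pullback.snd gX gY) (r gX gY T)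
      gY (pullback.snd T.hom gX ≫ gX) := by
  have h1 : IsPullback (pullback.fst (pullback.fst gX gY ≫ gX) T.hom)
      (pullback.snd (pullback.fst gX gY ≫ gX) T.hom) (pullback.fst gX gY ≫ gX) T.hom :=
    IsPullback.of_hasPullback _ _
  have h2 : IsPullback (pullback.snd T.hom gX) (pullback.fst T.hom gX) gX T.hom :=
    (IsPullback.of_hasPullback _ _).flip
  have h3 : IsPullback (pullback.snd gX gY) (pullback.fst gX gY) gY gX :=
    (IsPullback.of_hasPullback _ _).flip
  have h4 : IsPullback (pullback.fst (pullback.fst gX gY ≫ gX) T.hom) (r gX gY T)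
      (pullback.fst gX gY) (pullback.snd T.hom gX) := by
    refine (IsPullback.of_right (h₁₂ := pullback.fst T.hom gX) (h₂₂ := gX) ?_ (r_snd gX gY T) h2.flip).flip
    rw [r_fst]
    exact h1.flip
  exact h4.paste_horiz h3

/-- the graph -/
noncomputable def Γ (T : Over S) (a : (Flatn.morS gX gY).obj (Opposite.op T)) :
    pullback T.hom gX ⟶ PicF.XT (pullback.fst gX gY ≫ gX) T :=
  pullback.lift
              (pullback.lift (pullback.snd T.hom gX) a.left (Over.w a).symm)
              (pullback.fst T.hom gX)
              ((pullback.lift_fst_assoc _ _ _ _).trans pullback.condition.symm)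

theorem Γ_r (T : Over S) (a : (Flatn.morS gX gY).obj (Opposite.op T)) :
    Γ gX gY T a ≫ r gX gY T = 𝟙 _ := by
  apply pullback.hom_ext
  · rw [Category.assoc, r_fst, Category.id_comp]
    exact pullback.lift_snd _ _ _
  · rw [Category.assoc, r_snd, Category.id_comp, ← Category.assoc]
    refine Eq.trans (congrArg (· ≫ pullback.fst gX gY) (pullback.lift_fst _ _ _)) ?_
    exact pullback.lift_fst _ _ _

theorem Γ_y (T : Over S) (a : (Flatn.morS gX gY).obj (Opposite.op T)) :
    Γ gX gY T a ≫ pullback.fst (pullback.fst gX gY ≫ gX) T.hom ≫ pullback.snd gX gY = a.left := by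
  rw [← Category.assoc]
  refine Eq.trans (congrArg (· ≫ pullback.snd gX gY) (pullback.lift_fst _ _ _)) ?_
  exact pullback.lift_snd _ _ _

theorem Γ_ext {T : Over S} {W : Scheme.{u}} {u v : W ⟶ PicF.XT (pullback.fst gX gY ≫ gX) T}
    (h1 : u ≫ r gX gY T = v ≫ r gX gY T)
    (h2 : u ≫ pullback.fst (pullback.fst gX gY ≫ gX) T.hom ≫ pullback.snd gX gY =
      v ≫ pullback.fst (pullback.fst gX gY ≫ gX) T.hom ≫ pullback.snd gX gY) : u = v :=
  (isPullback_r gX gY T).hom_ext h2 h1

theorem isClosedImmersion_Γ [IsSeparated gY] (T : Over S)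
    (a : (Flatn.morS gX gY).obj (Opposite.op T)) : IsClosedImmersion (Γ gX gY T a) := by
  have h1 : IsSeparated (r gX gY T) :=
    MorphismProperty.of_isPullback (P := @IsSeparated) (isPullback_r gX gY T) inferInstance
  have h2 : IsClosedImmersion (Γ gX gY T a ≫ r gX gY T) := by
    rw [Γ_r]
    infer_instance
  exact IsClosedImmersion.of_comp (Γ gX gY T a) (r gX gY T)

theorem isIso_ker_Γ [IsSeparated gY] (T : Over S)
    (a : (Flatn.morS gX gY).obj (Opposite.op T)) :
    IsIso ((Γ gX gY T a).ker.subschemeι ≫ r gX gY T) := by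
  have h0 := isClosedImmersion_Γ gX gY T a
  have h1 : (Γ gX gY T a).toImage ≫ (Γ gX gY T a).ker.subschemeι = Γ gX gY T a :=
    (Γ gX gY T a).toImage_imageι
  have h2 : ∀ {Z W : Scheme.{u}} (d : Z ⟶ W) [IsClosedImmersion d], IsIso d.toImage :=
      fun d _ => inferInstance
  have h3 : IsIso (Γ gX gY T a).toImage := h2 _
  have h4 : (Γ gX gY T a).toImage ≫ ((Γ gX gY T a).ker.subschemeι ≫ r gX gY T) = 𝟙 _ := by
    rw [← Category.assoc, h1, Γ_r]
  exact @IsIso.of_isIso_comp_left _ _ _ _ _ _ _ h3 (by rw [h4]; infer_instance)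

theorem isPullback_XTmap_r {T H : Over S} (g : T ⟶ H) :
    IsPullback (PicF.XTmap (pullback.fst gX gY ≫ gX) g) (r gX gY T) (r gX gY H)
      ((Over.pullback gX).map g).left ∧
    IsPullback ((Over.pullback gX).map g).left (pullback.fst T.hom gX) (pullback.fst H.hom gX)
      g.left := by
  have e1 : ((Over.pullback gX).map g).left ≫ pullback.fst H.hom gX =
      pullback.fst T.hom gX ≫ g.left := pullback.lift_fst _ _ _
  have e2 : ((Over.pullback gX).map g).left ≫ pullback.snd H.hom gX =
      pullback.snd T.hom gX := pullback.lift_snd _ _ _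
  have h1 : IsPullback ((Over.pullback gX).map g).left (pullback.fst T.hom gX)
      (pullback.fst H.hom gX) g.left := by
    have h1 : IsPullback (pullback.fst H.hom gX) (pullback.snd H.hom gX) H.hom gX :=
      IsPullback.of_hasPullback _ _
    have h2 : IsPullback (pullback.fst T.hom gX)
        (((Over.pullback gX).map g).left ≫ pullback.snd H.hom gX) (g.left ≫ H.hom) gX := by
      rw [e2, Over.w g]
      exact IsPullback.of_hasPullback _ _
    exact IsPullback.of_right h2.flip e1 h1.flip
  refine ⟨?_, h1⟩
  refine IsPullback.of_bot ?_ ?_ h1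
  · rw [r_fst, r_fst]
    exact isPullback_XTmap (pullback.fst gX gY ≫ gX) g
  · apply pullback.hom_ext
    · have h2 := (isPullback_XTmap (pullback.fst gX gY ≫ gX) g).w
      rw [Category.assoc, Category.assoc, r_fst, h2, e1, ← Category.assoc, r_fst]
    · have h3 : PicF.XTmap (pullback.fst gX gY ≫ gX) g ≫
          pullback.fst (pullback.fst gX gY ≫ gX) H.hom =
          pullback.fst (pullback.fst gX gY ≫ gX) T.hom := FGA.XTmap_fst _ g
      rw [Category.assoc, Category.assoc, r_snd, e2, r_snd, ← Category.assoc, h3]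

end

/-- Let S be a locally Noetherian scheme, gX : X → S proper and flat, gY : Y → S separated, and (H, Z) a
pair representing the Hilbert functor of X ×_S Y over S on locally Noetherian S-schemes (H locally
Noetherian; Z ⊆ (X ×_S Y) ×_S H closed, proper and flat over H; universal). For an S-morphism a : T
×_S X → Y write Γ_a : T ×_S X → (X ×_S Y) ×_S T for its graph, a closed immersion. Then there is an
open subset H₀ of H such that, for every locally Noetherian S-scheme T: every S-morphism a : T ×_S X
→ Y has exactly one S-morphism g : T → H with image in H₀ along which Z pulls back to the closed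
subscheme defined by Γ_a; and every S-morphism g : T → H with image in H₀ pulls Z back to the graph
of exactly one such a. Thus the functor Mor_S(X, Y) on locally Noetherian S-schemes is represented
by the open subscheme H₀ of the Hilbert scheme of X ×_S Y, the universal family being a graph.
(Published for X and Y projective over S, with X flat; the Hilbert scheme is taken as given here.
The published statement also asserts that each irreducible component of the representing scheme is
of finite type over S; that clause is not part of this row.) -/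
theorem result
    {X Y S : Scheme.{u}} [IsLocallyNoetherian S] (gX : X ⟶ S) [IsProper gX] [Flat gX]
    (gY : Y ⟶ S) [IsSeparated gY]
    (H : Over S) (Z : FGA.HilbSet (pullback.fst gX gY ≫ gX) H)
    (hH : FGA.HilbRepresentedBy (pullback.fst gX gY ≫ gX) H Z) :
    ∃ H₀ : H.left.Opens, ∀ (T : Over S) [IsLocallyNoetherian T.left],
      (∀ a : (Flatn.morS gX gY).obj (Opposite.op T),
        ∃! g : T ⟶ H, Set.range g.left ⊆ (H₀ : Set H.left) ∧
          FGA.hilbPull (pullback.fst gX gY ≫ gX) g Z.1 =
            (pullback.lift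
              (pullback.lift (pullback.snd T.hom gX) a.left (Over.w a).symm)
              (pullback.fst T.hom gX)
              ((pullback.lift_fst_assoc _ _ _ _).trans pullback.condition.symm)
              : pullback T.hom gX ⟶ PicF.XT (pullback.fst gX gY ≫ gX) T).ker) ∧
      (∀ g : T ⟶ H, Set.range g.left ⊆ (H₀ : Set H.left) →
        ∃! a : (Flatn.morS gX gY).obj (Opposite.op T),
          FGA.hilbPull (pullback.fst gX gY ≫ gX) g Z.1 =
            (pullback.lift
              (pullback.lift (pullback.snd T.hom gX) a.left (Over.w a).symm)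
              (pullback.fst T.hom gX)
              ((pullback.lift_fst_assoc _ _ _ _).trans pullback.condition.symm)
              : pullback T.hom gX ⟶ PicF.XT (pullback.fst gX gY ≫ gX) T).ker) := by
  let f := pullback.fst gX gY ≫ gX
  have hN := hH.1
  let A : Z.1.subscheme ⟶ pullback H.hom gX := Z.1.subschemeι ≫ r gX gY H
  have hA : A ≫ pullback.fst H.hom gX = Z.1.subschemeι ≫ PicF.XTproj f H := by
    rw [Category.assoc, r_fst]
  have hp : IsProper (Z.1.subschemeι ≫ PicF.XTproj f H) := Z.2.1
  have hfl : Flat (Z.1.subschemeι ≫ PicF.XTproj f H) := Z.2.2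
  refine ⟨K921.IsoLocus.locus A (pullback.fst H.hom gX), fun T _ => ?_⟩
  have key : ∀ g : T ⟶ H, Set.range g.left ⊆ (K921.IsoLocus.locus A (pullback.fst H.hom gX) : Set H.left) ↔
      IsIso ((FGA.hilbPull f g Z.1).subschemeι ≫ r gX gY T) := by
    intro g
    obtain ⟨h1, h2⟩ := isPullback_XTmap_r gX gY g
    rw [hilbPull_eq_comap]
    have h3 := isPullback_comap Z.1 (PicF.XTmap f g)
    have h4 := h3.flip.paste_vert h1
    exact (K921.IsoLocus.isIso_baseChange_iff A (Z.1.subschemeι ≫ PicF.XTproj f H)
      (pullback.fst H.hom gX) hA h4 h2).symm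
  have hmem : ∀ a : (Flatn.morS gX gY).obj (Opposite.op T),
      IsProper ((Γ gX gY T a).ker.subschemeι ≫ PicF.XTproj f T) ∧
      Flat ((Γ gX gY T a).ker.subschemeι ≫ PicF.XTproj f T) := by
    intro a
    have h1 := isIso_ker_Γ gX gY T a
    have h2 : (Γ gX gY T a).ker.subschemeι ≫ PicF.XTproj f T =
        ((Γ gX gY T a).ker.subschemeι ≫ r gX gY T) ≫ pullback.fst T.hom gX := by
      rw [Category.assoc, r_fst]
    rw [h2]
    exact ⟨inferInstance, inferInstance⟩
  constructor
  · intro a
    change ∃! g : T ⟶ H, _ ∧ FGA.hilbPull f g Z.1 = (Γ gX gY T a).ker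
    obtain ⟨g, hg, huniq⟩ := hH.2 T ⟨(Γ gX gY T a).ker, hmem a⟩
    refine ⟨g, ⟨?_, hg⟩, fun g' hg' => huniq g' hg'.2⟩
    rw [key]
    change FGA.hilbPull f g Z.1 = (Γ gX gY T a).ker at hg
    rw [hg]
    exact isIso_ker_Γ gX gY T a
  · intro g hg
    rw [key] at hg
    change ∃! a : (Flatn.morS gX gY).obj (Opposite.op T), FGA.hilbPull f g Z.1 = (Γ gX gY T a).ker
    set W := FGA.hilbPull f g Z.1 with hW
    let I := inv (W.subschemeι ≫ r gX gY T)
    have hI : (I ≫ W.subschemeι) ≫ r gX gY T = 𝟙 _ := by
      rw [Category.assoc]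
      exact IsIso.inv_hom_id _
    have hI2 : (I ≫ W.subschemeι) ≫ pullback.snd f T.hom = pullback.fst T.hom gX := by
      rw [← r_fst, ← Category.assoc, hI, Category.id_comp]
    have hI3 : (I ≫ W.subschemeι) ≫ pullback.fst f T.hom ≫ pullback.fst gX gY = pullback.snd T.hom gX := by
      rw [← r_snd, ← Category.assoc, hI, Category.id_comp]
    let a : (Flatn.morS gX gY).obj (Opposite.op T) :=
      (Over.homMk ((I ≫ W.subschemeι) ≫ pullback.fst f T.hom ≫ pullback.snd gX gY) (by
        change ((I ≫ W.subschemeι) ≫ pullback.fst f T.hom ≫ pullback.snd gX gY) ≫ gY =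
          pullback.snd T.hom gX ≫ gX
        have h5 : pullback.fst gX gY ≫ gX = pullback.snd gX gY ≫ gY := pullback.condition
        rw [← hI3]
        simp only [Category.assoc]
        rw [h5]) :
        (Over.map gX).obj ((Over.pullback gX).obj T) ⟶ Over.mk gY)
    have ha : a.left = (I ≫ W.subschemeι) ≫ pullback.fst f T.hom ≫ pullback.snd gX gY := rfl
    have hΓ : Γ gX gY T a = I ≫ W.subschemeι := by
      apply Γ_ext
      · rw [Γ_r, hI]
      · rw [Γ_y, ha]
    refine ⟨a, ?_, fun b hb => ?_⟩
    · change W = (Γ gX gY T a).ker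
      rw [hΓ, Scheme.Hom.ker_comp_of_isIso, Scheme.IdealSheafData.ker_subschemeι]
    · change W = (Γ gX gY T b).ker at hb
      have hc := isClosedImmersion_Γ gX gY T b
      have h1 : (Γ gX gY T b).ker ≤ (Γ gX gY T a).ker := by
        rw [← hb, hΓ, Scheme.Hom.ker_comp_of_isIso, Scheme.IdealSheafData.ker_subschemeι]
      have h2 := IsClosedImmersion.lift_fac (Γ gX gY T b) (Γ gX gY T a) h1
      have h3 : IsClosedImmersion.lift (Γ gX gY T b) (Γ gX gY T a) h1 = 𝟙 _ := by
        have := congrArg (· ≫ r gX gY T) h2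
        simp only [Category.assoc, Γ_r, Category.comp_id] at this
        exact this
      rw [h3, Category.id_comp] at h2
      apply Over.OverMorphism.ext
      rw [← Γ_y gX gY T a, ← Γ_y gX gY T b, h2]

end Groth.Agent.S17087
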