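import Groth.Statements.S17088
import Mathlib.AlgebraicGeometry.ZariskisMainTheorem


set_option autoImplicit false
universe u
open CategoryTheory CategoryTheory.Limits AlgebraicGeometry
open MorSch

namespace Groth.Agent.S17088

/-- Let f : X → S be a separated morphism, ι : W → X an immersion and T an S-scheme. For every closed
subscheme V of W ×_S T which is proper and flat over T — a T-point of the Hilbert functor of W over
S — the composite V → W ×_S T → X ×_S T is a closed immersion, and the map sending V to the ideal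
sheaf of this composite, from T-points of the Hilbert functor of W to ideal sheaves on X ×_S T, is
injective: an immersion induces a monomorphism of Hilbert functors. -/
theorem result
    {W X S : Scheme.{u}} (f : X ⟶ S) [IsSeparated f] (ι : W ⟶ X) [IsImmersion ι]
    (T : Over S) :
    (∀ V : FGA.HilbSet (ι ≫ f) T,
      IsClosedImmersion (V.1.subschemeι ≫ pullback.map (ι ≫ f) T.hom f T.hom ι (𝟙 T.left) (𝟙 S)
          (Category.comp_id _) ((Category.comp_id _).trans (Category.id_comp _).symm))) ∧
    Function.Injective (fun V : FGA.HilbSet (ι ≫ f) T =>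
      (V.1.subschemeι ≫ pullback.map (ι ≫ f) T.hom f T.hom ι (𝟙 T.left) (𝟙 S)
          (Category.comp_id _) ((Category.comp_id _).trans (Category.id_comp _).symm)).ker) := by
  let φ : PicF.XT (ι ≫ f) T ⟶ PicF.XT f T :=
    pullback.map (ι ≫ f) T.hom f T.hom ι (𝟙 T.left) (𝟙 S)
          (Category.comp_id _) ((Category.comp_id _).trans (Category.id_comp _).symm)
  have hφ2 : φ ≫ pullback.snd f T.hom = pullback.snd (ι ≫ f) T.hom :=
    (pullback.lift_snd _ _ _).trans (Category.comp_id _)
  have hφ1 : φ ≫ pullback.fst f T.hom = pullback.fst (ι ≫ f) T.hom ≫ ι :=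
    pullback.lift_fst _ _ _
  have hφm : Mono φ := by
    refine ⟨fun a b hab => ?_⟩
    apply pullback.hom_ext
    · rw [← cancel_mono ι, Category.assoc, Category.assoc, ← hφ1, ← Category.assoc,
        ← Category.assoc, hab]
    · rw [← hφ2, ← Category.assoc, ← Category.assoc, hab]
  have hcl : ∀ V : FGA.HilbSet (ι ≫ f) T, IsClosedImmersion (V.1.subschemeι ≫ φ) := by
    intro V
    rw [IsClosedImmersion.iff_isProper_and_mono]
    refine ⟨?_, inferInstance⟩
    have h1 := V.2.1
    have h2 : V.1.subschemeι ≫ PicF.XTproj (ι ≫ f) T =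
        (V.1.subschemeι ≫ φ) ≫ pullback.snd f T.hom := by
      rw [Category.assoc, hφ2]
    rw [h2] at h1
    exact IsProper.of_comp (V.1.subschemeι ≫ φ) (pullback.snd f T.hom)
  refine ⟨hcl, ?_⟩
  have key : ∀ V V' : FGA.HilbSet (ι ≫ f) T,
      (V'.1.subschemeι ≫ φ).ker ≤ (V.1.subschemeι ≫ φ).ker → V'.1 ≤ V.1 := by
    intro V V' h
    have := hcl V
    have := hcl V'
    have h1 := IsClosedImmersion.lift_fac (V'.1.subschemeι ≫ φ) (V.1.subschemeι ≫ φ) h
    rw [← Category.assoc, cancel_mono] at h1
    rw [← Scheme.IdealSheafData.ker_subschemeι V'.1, ← Scheme.IdealSheafData.ker_subschemeι V.1,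
      ← h1]
    exact Scheme.Hom.le_ker_comp _ _
  intro V V' h
  exact Subtype.ext (le_antisymm (key V' V h.le) (key V V' h.ge))

end Groth.Agent.S17088
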