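import Groth.Statements.S17089
import Groth.Agent.AGF.K501.MaxTori
import Groth.Agent.AGF.K501.NormPts

set_option autoImplicit false
universe u
open CategoryTheory MonoidalCategory CartesianMonoidalCategory MonObj GrpObj AlgebraicGeometry
open AGF
open TensorProduct
open Groth.Agent.Sga3B.RG Groth.Agent.Sga3B.RG.BrPts Groth.Agent.Sga3B.RootBridge989

namespace Groth.Agent.S17089

/-- Let k be a field, U' an affine, smooth, connected k-group scheme whose geometric fibre contains no
non-trivial subtorus (a smooth connected unipotent group), i : U ⟶ U' a closed subgroup scheme which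
is smooth and connected and whose inclusion is not an isomorphism, and n : N ⟶ U' the normalizer of
U in U'. Then N is strictly larger than U: the inclusion of N does not factor through U. -/
theorem result (k : Type u) [Field k]
    (U' : Over (Spec (CommRingCat.of k))) [GrpObj U'] [IsAffine U'.left] [Smooth U'.hom] [ConnectedSpace ↥U'.left]
    (hU' : ∀ s : ↥(Spec (CommRingCat.of k)),
      Red.HasNoSubtorus (AlgebraicClosure ((Spec (CommRingCat.of k)).residueField s)) (Red.geomFibre s U'))
    (U : Over (Spec (CommRingCat.of k))) [GrpObj U] (i : U ⟶ U') [IsMonHom i] (hi : IsClosedImmersion i.left)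
    [Smooth U.hom] [ConnectedSpace ↥U.left] (hne : ¬ IsIso i.left)
    (N : Over (Spec (CommRingCat.of k))) [GrpObj N] (n : N ⟶ U') (hn : Red.IsNormalizerOf i n) :
    ¬ ∃ f : N ⟶ U, f ≫ i = n := by
  rintro ⟨f, hf⟩
  have hne' : Nonempty ↥(Spec (CommRingCat.of k)) := inferInstanceAs (Nonempty (PrimeSpectrum k))
  obtain ⟨s⟩ := hne'
  let _ := geomAlg s
  have hs : Red.geomPt s = sm k (AlgebraicClosure ((Spec (CommRingCat.of k)).residueField s)) :=
    geomPt_eq s
  obtain ⟨A, _, _, e, he, hft⟩ := BrHc.exists_hopf_ft U'
  have hconn := Groth.Agent.Agf.H614.FieldGlue.connectedSpace_bc U'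
    (sm k (AlgebraicClosure ((Spec (CommRingCat.of k)).residueField s)))
  have hns : Red.HasNoSubtorus (AlgebraicClosure ((Spec (CommRingCat.of k)).residueField s))
      (Red.bc (sm k (AlgebraicClosure ((Spec (CommRingCat.of k)).residueField s))) U') := by
    have h1 := hU' s
    change Red.HasNoSubtorus _ (Red.bc (Red.geomPt s) U') at h1
    rwa [hs] at h1
  have hu := K501.NormPts.isUnip_of_hasNoSubtorus_bc e hconn hns
  have hred := K501.BcPts.isReduced_tensor_of_smooth
    (K := AlgebraicClosure ((Spec (CommRingCat.of k)).residueField s)) e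
  have hnil : Group.IsNilpotent (Pt (AlgebraicClosure ((Spec (CommRingCat.of k)).residueField s))
      (AlgebraicClosure ((Spec (CommRingCat.of k)).residueField s) ⊗[k] A)) := by
    have h1 := Groth.Agent.Agf.H611.NilPts.isNilpotent_of_isUnip
      (K := AlgebraicClosure ((Spec (CommRingCat.of k)).residueField s))
      (A := AlgebraicClosure ((Spec (CommRingCat.of k)).residueField s) ⊗[k] A)
      (N := ⊤) (fun g _ => hu g)
    exact (Group.isNilpotent_congr Subgroup.topEquiv).1 h1
  have hnm := hn.1
  have h1 := K501.BcPts.gmPts_le_of_factor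
    (K := AlgebraicClosure ((Spec (CommRingCat.of k)).residueField s)) e n i f hf
  rw [K501.NormPts.gmPts_normalizer e i n hn] at h1
  have h2 := (normalizerCondition_iff_only_full_group_self_normalizing.1
    Group.normalizerCondition_of_isNilpotent) _ (le_antisymm h1 Subgroup.le_normalizer)
  have h3 := K501.MaxTori.isIso_of_gmPts_eq_top e i h2
  exact hne (inferInstanceAs (IsIso ((Over.forget _).map i)))

end Groth.Agent.S17089
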