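import Groth.Statements.S17090
import Groth.Agent.AGF.K501.CodimOne
import Groth.Agent.Agf.H623.BorelSch

set_option autoImplicit false
universe u
open CategoryTheory MonoidalCategory CartesianMonoidalCategory MonObj GrpObj AlgebraicGeometry
open AGF
open TensorProduct
open Groth.Agent.Sga3B.RG Groth.Agent.Sga3B.RG.BrPts Groth.Agent.Sga3B.RootBridge989 Groth.Agent.Agf.H604.BcSub Groth.Agent.Sga3B

namespace Groth.Agent.S17090

/-- The particular case of codimension one: let k be a field, U' an affine, smooth, connected k-group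
scheme whose geometric fibre contains no non-trivial subtorus (a smooth connected unipotent group)
and i : U ⟶ U' a closed subgroup scheme which is smooth and connected. If dim U' = dim U + 1
(dimensions of the underlying topological spaces), then U is a normal subgroup of U'. -/
theorem result (k : Type u) [Field k]
    (U' : Over (Spec (CommRingCat.of k))) [GrpObj U'] [IsAffine U'.left] [Smooth U'.hom] [ConnectedSpace ↥U'.left]
    (hU' : ∀ s : ↥(Spec (CommRingCat.of k)),
      Red.HasNoSubtorus (AlgebraicClosure ((Spec (CommRingCat.of k)).residueField s)) (Red.geomFibre s U'))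
    (U : Over (Spec (CommRingCat.of k))) [GrpObj U] (i : U ⟶ U') [IsMonHom i] (hi : IsClosedImmersion i.left)
    [Smooth U.hom] [ConnectedSpace ↥U.left]
    (d : ℕ) (hd : topologicalKrullDim ↥U.left = (d : WithBot ℕ∞))
    (hd' : topologicalKrullDim ↥U'.left = ((d + 1 : ℕ) : WithBot ℕ∞)) :
    AlgGrp.IsNormalHom i := by
  obtain ⟨N, _, n, hncl, hn, -⟩ := Groth.Agent.Sga3.H817.CentRepProj.exists_normalizer i
    (K501.CentField.locProj U.hom)
  have hnm := hn.1
  have hne' : Nonempty ↥(Spec (CommRingCat.of k)) := inferInstanceAs (Nonempty (PrimeSpectrum k))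
  obtain ⟨s⟩ := hne'
  let _ := geomAlg s
  have hs : Red.geomPt s = sm k (AlgebraicClosure ((Spec (CommRingCat.of k)).residueField s)) :=
    geomPt_eq s
  obtain ⟨A, _, _, e, he, hft⟩ := BrHc.exists_hopf_ft U'
  have hconn := Groth.Agent.Agf.H614.FieldGlue.connectedSpace_bc U'
    (sm k (AlgebraicClosure ((Spec (CommRingCat.of k)).residueField s)))
  have hconnU := Groth.Agent.Agf.H614.FieldGlue.connectedSpace_bc U
    (sm k (AlgebraicClosure ((Spec (CommRingCat.of k)).residueField s)))
  have hns : Red.HasNoSubtorus (AlgebraicClosure ((Spec (CommRingCat.of k)).residueField s))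
      (Red.bc (sm k (AlgebraicClosure ((Spec (CommRingCat.of k)).residueField s))) U') := by
    have h1 := hU' s
    change Red.HasNoSubtorus _ (Red.bc (Red.geomPt s) U') at h1
    rwa [hs] at h1
  have hu := K501.NormPts.isUnip_of_hasNoSubtorus_bc e hconn hns
  have hred := K501.BcPts.isReduced_tensor_of_smooth
    (K := AlgebraicClosure ((Spec (CommRingCat.of k)).residueField s)) e
  have hnil : Group.IsNilpotent (Pt (AlgebraicClosure ((Spec (CommRingCat.of k)).residueField s))
      (AlgebraicClosure ((Spec (CommRingCat.of k)).residueField s) ⊗[k] A)) := by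
    have h1 := Groth.Agent.Agf.H611.NilPts.isNilpotent_of_isUnip
      (K := AlgebraicClosure ((Spec (CommRingCat.of k)).residueField s))
      (A := AlgebraicClosure ((Spec (CommRingCat.of k)).residueField s) ⊗[k] A)
      (N := ⊤) (fun g _ => hu g)
    exact (Group.isNilpotent_congr Subgroup.topEquiv).1 h1
  have hsm1 : Smooth (Red.bc (sm k (AlgebraicClosure
      ((Spec (CommRingCat.of k)).residueField s))) U).hom :=
    Groth.Agent.Agf.H614.FieldGlue.smooth_bc _ U
  have hsm2 : Smooth (Red.bc (sm k (AlgebraicClosure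
      ((Spec (CommRingCat.of k)).residueField s))) U').hom :=
    Groth.Agent.Agf.H614.FieldGlue.smooth_bc _ U'
  have hcl1 := isClosedImmersion_gm
    (K := AlgebraicClosure ((Spec (CommRingCat.of k)).residueField s)) e i hi
  have hdom := Groth.Agent.Agf.H623.BorelSch.isDomain_of_iso
    (A := AlgebraicClosure ((Spec (CommRingCat.of k)).residueField s) ⊗[k] A) (eK _ e)
  obtain ⟨hPcl, hI, e', -, -⟩ := exists_iso_vanIdeal
    (A := AlgebraicClosure ((Spec (CommRingCat.of k)).residueField s) ⊗[k] A)
    (gm (AlgebraicClosure ((Spec (CommRingCat.of k)).residueField s)) e i)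
  have hPc := isConn_ptsSub
    (A := AlgebraicClosure ((Spec (CommRingCat.of k)).residueField s) ⊗[k] A)
    (gm (AlgebraicClosure ((Spec (CommRingCat.of k)).residueField s)) e i)
  have h1 := K501.CodimOne.normalizer_eq_top hPcl hPc
    ((K501.CodimOne.ringKrullDim_eq e').trans hd) ((K501.CodimOne.ringKrullDim_eq (eK _ e)).trans hd')
  have h2 := K501.NormPts.gmPts_normalizer
    (K := AlgebraicClosure ((Spec (CommRingCat.of k)).residueField s)) e i n hn
  have h3 := K501.MaxTori.isIso_of_gmPts_eq_top e n (h2.trans h1)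
  intro T g m
  obtain ⟨⟨h', hh'⟩, -⟩ := (hn.2.2 T g).1 ⟨g ≫ inv n, by rw [Category.assoc, IsIso.inv_hom_id,
    Category.comp_id]⟩ T (𝟙 T) m
  exact ⟨h', by rw [← hh', Category.id_comp]⟩

end Groth.Agent.S17090
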