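import Groth.Statements.S17092
import Groth.Agent.AGF.K501.RadSch
import Groth.Agent.Sga3B.TorusAlgClosed
import Groth.Agent.Sga3B.RG.BorConj838

set_option autoImplicit false
universe u
open CategoryTheory MonoidalCategory CartesianMonoidalCategory MonObj GrpObj AlgebraicGeometry
open AGF
open Groth.Agent.Sga3B.RG Groth.Agent.Sga3B.RG.BrPts Groth.Agent.Sga3B.Parab.BorelPts172
open Groth.Agent.Agf.H614.AlgDict

namespace Groth.Agent.S17092

/-- Let k be an algebraically closed field, G an affine, smooth, connected k-group scheme, u : U ⟶ G its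
unipotent radical (the largest normal closed subgroup scheme, smooth and quasi-compact over k, whose
geometric fibre is connected and contains no non-trivial subtorus), T a maximal torus of G and j : H
⟶ G a closed subgroup scheme which is smooth and connected. If H lies in the unipotent radical of
every Borel subgroup of G containing T, then H lies in U: j factors through u. (Together with the
inclusion of U in the unipotent radical of every Borel subgroup of G, this says that the identity
component of the reduced intersection of the unipotent radicals of the Borel subgroups containing T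
is U; it is trivial when G is reductive.) -/
theorem result (k : Type u) [Field k] [IsAlgClosed k]
    (G : Over (Spec (CommRingCat.of k))) [GrpObj G] [IsAffine G.left] [Smooth G.hom] [ConnectedSpace ↥G.left]
    (U : Over (Spec (CommRingCat.of k))) [GrpObj U] (u : U ⟶ G) (hU : Par.IsUnipotentRadical u)
    (T : Over (Spec (CommRingCat.of k))) [GrpObj T] (iT : T ⟶ G) (hT : AGF.IsMaxTorus iT)
    (H : Over (Spec (CommRingCat.of k))) [GrpObj H] (j : H ⟶ G) [IsMonHom j] (hj : IsClosedImmersion j.left)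
    [Smooth H.hom] [ConnectedSpace ↥H.left]
    (hH : ∀ (B : Over (Spec (CommRingCat.of k))) [GrpObj B] (iB : B ⟶ G) (t : T ⟶ B), Red.IsBorelOver k iB → t ≫ iB = iT →
      ∀ (V : Over (Spec (CommRingCat.of k))) [GrpObj V] (v : V ⟶ B), Par.IsUnipotentRadical v → ∃ f : H ⟶ V, f ≫ v ≫ iB = j) :
    ∃ g : H ⟶ U, g ≫ u = j := by
  have hT1 := hT.1
  have hT2 := hT.2.1
  have hU1 := hU.1
  have hU2 := hU.2.1
  have hU3 := hU.2.2.2.1
  obtain ⟨A, _, _, e, he, hft, hdom⟩ := Groth.Agent.Agf.H614.FieldGlue.exists_hopf_domain G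
  obtain ⟨C, _, _, φ, hC, hdomC, hinj, hs, hredC, hk, hku⟩ :=
    Groth.Agent.Agf.H593.UnipRad.exists_red_quotient (K := k) (A := A)
  have hUR := K501.RadSch.isUR_ptsSub e hU
  have hTp := isMaxTorusSub e hT
  have hTs : Smooth T.hom := Groth.Agent.Sga3B.TorusAlgClosed.smooth_of_isTorus hT.2.2.1
  -- the key consequence of the hypothesis
  have key : ∀ B : Subgroup (Pt k A), IsBorelPt B → ptsSub (iT ≫ e.hom) ≤ B →
      ∀ g ∈ ptsSub (j ≫ e.hom), g ∈ B ∧ IsUnip g := by
    intro B hB hTB
    obtain ⟨B₀, _, iB, hiB, hcl, hsm, hpts, hconn⟩ := K501.RadSch.exists_sub e hB.isCl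
    have hB₀ : Red.IsBorelOver k iB := (isBorelOver_iff e iB).2 (by rw [hpts]; exact hB)
    obtain ⟨t, ht⟩ := exists_factor_of_ptsSub_le e iT iB (by rw [hpts]; exact hTB)
    have haff : IsAffine B₀.left := isAffine_of_isAffineHom iB.left
    obtain ⟨V, _, v, hV⟩ := K501.RadSch.exists_isUnipotentRadical B₀
    have hV1 := hV.1
    have hV2 := hV.2.1
    have hV3 := hV.2.2.2.1
    obtain ⟨hV4, hV5⟩ := (K501.RadSch.fib_iff V).1 hV.2.2.2.2.2.1
    obtain ⟨f, hf⟩ := hH B₀ iB t hB₀ ht V v hV
    have hcl' : IsClosedImmersion (v ≫ iB).left := by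
      rw [Over.comp_left]; infer_instance
    have h1 : ptsSub (j ≫ e.hom) ≤ ptsSub (iB ≫ e.hom) :=
      ptsSub_le_of_factor e j iB (f ≫ v) (by rw [Category.assoc, hf])
    have h2 : ptsSub (j ≫ e.hom) ≤ ptsSub ((v ≫ iB) ≫ e.hom) :=
      ptsSub_le_of_factor e j (v ≫ iB) f hf
    have h3 := (K501.RadSch.hasNoSubtorus_iff e (v ≫ iB)).1 hV5
    intro g hg
    exact ⟨hpts.le (h1 hg), h3 g (h2 hg)⟩
  have hCCS : IsCCS (ptsSub (iT ≫ e.hom)) := Groth.Agent.Sga3B.RG.BorConj838.isCCS_of_isTorusSub hTp.1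
  obtain ⟨B₁, hB₁, hTB₁⟩ := hCCS.exists_isBorelPt
  have h1 : ptsSub (j ≫ e.hom) ≤ (Pt.map (K := k) φ).ker := by
    intro g hg
    exact K501.RadPts.mem_ker_of_mem_borels φ hs hk hredC hTp (key B₁ hB₁ hTB₁ g hg).2
      fun B hB hTB => (key B hB hTB g hg).1
  have h2 : (Pt.map (K := k) φ).ker ≤ ptsSub (u ≫ e.hom) :=
    hUR.max _ ⟨inferInstance, hk.isCl, hk.isConn, hku⟩
  exact exists_factor_of_ptsSub_le e j u (h1.trans h2)

end Groth.Agent.S17092
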