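import Groth.Statements.S17093
import Groth.Agent.AGF.K501.HomPts

set_option autoImplicit false
universe u
open CategoryTheory MonoidalCategory CartesianMonoidalCategory MonObj GrpObj AlgebraicGeometry
open AGF
open Groth.Agent.Sga3B.RG Groth.Agent.Sga3B.RG.BrPts

namespace Groth.Agent.S17093

/-- Let k be an algebraically closed field, G and G' affine, smooth, connected k-group schemes, π : G ⟶
G' a surjective homomorphism, u : U ⟶ G the unipotent radical of G and u' : U' ⟶ G' that of G'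
(largest normal closed subgroup schemes, smooth and quasi-compact over k, with connected geometric
fibre containing no non-trivial subtorus). Then π carries U onto U': u ≫ π factors through u' by a
morphism U ⟶ U' which is surjective. -/
theorem result (k : Type u) [Field k] [IsAlgClosed k]
    (G G' : Over (Spec (CommRingCat.of k))) [GrpObj G] [GrpObj G'] [IsAffine G.left] [Smooth G.hom] [ConnectedSpace ↥G.left]
    [IsAffine G'.left] [Smooth G'.hom] [ConnectedSpace ↥G'.left]
    (π : G ⟶ G') [IsMonHom π] (hπ : Surjective π.left)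
    (U : Over (Spec (CommRingCat.of k))) [GrpObj U] (u : U ⟶ G) (hU : Par.IsUnipotentRadical u)
    (U' : Over (Spec (CommRingCat.of k))) [GrpObj U'] (u' : U' ⟶ G') (hU' : Par.IsUnipotentRadical u') :
    ∃ f : U ⟶ U', f ≫ u' = u ≫ π ∧ Surjective f.left := by
  have hU1 := hU.1
  have hU3 := hU.2.2.2.1
  have hU2 := hU.2.1
  have hU'1 := hU'.1
  have hU'2 := hU'.2.1
  obtain ⟨A, _, _, e, he, hft, hdom⟩ := Groth.Agent.Agf.H614.FieldGlue.exists_hopf_domain G
  obtain ⟨C, _, _, e', he', hft', hdom'⟩ := Groth.Agent.Agf.H614.FieldGlue.exists_hopf_domain G'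
  obtain ⟨φ, hφ⟩ := Groth.Agent.Agf.H623.BorelSch.exists_bialgHom e e' π
  have hUR := K501.RadSch.isUR_ptsSub e hU
  have hUR' := K501.RadSch.isUR_ptsSub e' hU'
  have hs := K501.HomPts.ptMap_surjective e e' hφ
  have h1 : (ptsSub (u ≫ e.hom)).map (Pt.map φ) ≤ ptsSub (u' ≫ e'.hom) := by
    refine hUR'.max _ ⟨hUR.normal.map _ hs, Groth.Agent.Agf.H593.QuotPt.isCl_map φ hUR.isCl, hUR.isConn.image_map φ, ?_⟩
    rintro _ ⟨x, hx, rfl⟩
    exact (hUR.isUnip x hx).map φ
  have h2 : ptsSub (u' ≫ e'.hom) ≤ (ptsSub (u ≫ e.hom)).map (Pt.map φ) :=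
    K501.RadPts.le_map_unipRad φ hs hUR.normal hUR.isCl hUR.isUnip hUR.max hUR'.normal hUR'.isCl
      hUR'.isConn hUR'.isUnip
  have hpts := K501.HomPts.ptsSub_comp e e' hφ u
  obtain ⟨f, hf⟩ := Groth.Agent.Agf.H614.AlgDict.exists_factor_of_ptsSub_le e' (u ≫ π) u'
    (by rw [hpts]; exact h1)
  exact ⟨f, hf, K501.HomPts.surjective_of_le e e' hφ u u' f hf h2⟩

end Groth.Agent.S17093
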