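import Groth.Statements.S17098
import Groth.Agent.S3972
import Groth.Agent.Sga3B.MaxTorNear900
import Groth.Agent.Sga3B.AlgBc2

set_option autoImplicit false
universe u
open CategoryTheory MonoidalCategory CartesianMonoidalCategory MonObj GrpObj AlgebraicGeometry
open AGF

namespace Groth.Agent.S17098

/-- Let k be a field and G a reductive k-group scheme (affine, smooth, with connected reductive
geometric fibre). If G is perfect, i.e. every homomorphism from G to a commutative k-group scheme is
trivial, then G is semisimple. (The published equivalence of the three conditions 'the geometric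
radical is trivial', 'reductive with finite centre', 'reductive with perfect identity component' is
asserted for smooth affine groups that need not be connected; the orthogonal group O_2 in
characteristic different from 2 has finite centre and unipotent radical 1 while its identity
component SO_2 is a non-trivial torus, so the equivalence holds only for connected G, where the
other implications are the finite-centre criterion and the perfectness of semisimple groups.) -/
theorem result (k : Type u) [Field k]
    (G : Over (Spec (CommRingCat.of k))) [GrpObj G] (hG : Red.IsReductive G)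
    (hperf : ∀ (H : Over (Spec (CommRingCat.of k))) [GrpObj H] [IsCommMonObj H] (f : G ⟶ H) [IsMonHom f], f = toUnit G ≫ η[H]) :
    Red.IsSemisimple G := by
  obtain ⟨C, _, f₀, D, _, d, hf₀, hC, -, -, hd, hdcl, hker, hD, -, -, -⟩ :=
    Groth.Agent.S3972.result G hG
  have hcomm : IsCommMonObj C := by
    constructor
    have h2 : μ[C] = fst C C * snd C C := MonObj.mul_eq_mul _
    have h3 : (β_ C C).hom ≫ μ[C] = snd C C * fst C C := by
      rw [h2, MonObj.comp_mul]
      simp
    rw [h3, h2, Groth.Agent.Sga3B.MaxTorNear900.mul_comm_of_isTorus hC]
  have h1 := hperf C f₀
  obtain ⟨s, hs, -⟩ := hker.exists_lift (𝟙 G) (toUnit G) (by rw [Category.id_comp]; exact h1)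
  have hm : Mono d := Groth.Agent.Books.AlgPtsGrp.mono_of_isClosedImmersion d
  have hds : d ≫ s = 𝟙 D := by
    rw [← cancel_mono d, Category.assoc, hs]
    simp
  let ε : D ≅ G := ⟨d, s, hds, hs⟩
  have hε : IsMonHom ε.hom := hd
  exact Groth.Agent.Sga3B.AlgBc.isSemisimple_of_iso (Grp.mkIso' ε) hD

end Groth.Agent.S17098
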