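import Groth.Statements.S17099
import Groth.Agent.S3936
import Groth.Agent.Agf.H609.GrothFinal
import Groth.Agent.AGF.K501.NoUnip

set_option autoImplicit false
universe u
open CategoryTheory MonoidalCategory CartesianMonoidalCategory MonObj GrpObj AlgebraicGeometry
open AGF

namespace Groth.Agent.S17099

/-- Let p be a prime, k a field of characteristic p, G a reductive k-group scheme (affine, smooth,
connected reductive geometric fibre) and z : Z ⟶ G its scheme-theoretic centre. Then Z contains
neither α_p nor Z/pZ as a subgroup scheme: no homomorphism of k-group schemes from α_p (the spectrum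
of k[X]/(X^p) with X primitive) to Z is a monomorphism, and no homomorphism from the constant
k-group scheme of the cyclic group of order p to Z is a monomorphism. (Stated over every field of
characteristic p; applied over an algebraic closure of k to the base change of G, whose centre is
the base change of Z, this is the published assertion about the geometric centre.) -/
theorem result (p : ℕ) [Fact p.Prime]
    (k : Type u) [Field k] [CharP k p]
    (G : Over (Spec (CommRingCat.of k))) [GrpObj G] (hG : Red.IsReductive G)
    (Z : Over (Spec (CommRingCat.of k))) [GrpObj Z] (z : Z ⟶ G) (hz : Red.IsCentre z) :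
    (∀ (φ : (Spec (CommRingCat.of (AlphaP.A p k))).asOver (Spec (CommRingCat.of k)) ⟶ Z), IsMonHom φ → ¬ Mono φ.left) ∧
      (∀ (ψ : (Spec (CommRingCat.of (ConstGrp.F k (Multiplicative (ZMod p))))).asOver (Spec (CommRingCat.of k)) ⟶ Z),
        IsMonHom ψ → ¬ Mono ψ.left) := by
  have hGaff : IsAffineHom G.hom := hG.1
  have hGa : IsAffine G.left := isAffine_of_isAffineHom G.hom
  have hGsm : Smooth G.hom := hG.2.1
  obtain ⟨T, _, iT, hT⟩ := Groth.Agent.Agf.H609.GrothFinal.exists_isMaximalTorus G
  obtain ⟨f, hf⟩ := Groth.Agent.S3936.result k G hG Z z hz T iT hT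
  have hzm : IsMonHom z := hz.1
  have hzmono : Mono z := hz.2.1
  have hTm : IsMonHom iT := hT.1
  have hTmono : Mono iT := hT.2.1
  have hT' : Red.IsTorus T := hT.2.2.1
  have hfm : IsMonHom f := by
    apply Groth.Agent.Sga3B.Pts.isMonHom_of_points
    intro W x y
    rw [← cancel_mono iT, Category.assoc, hf, MonObj.mul_comp, MonObj.mul_comp, Category.assoc, Category.assoc, hf]
  have hfmono : Mono f := by
    have : Mono (f ≫ iT) := by rw [hf]; exact hzmono
    exact mono_of_mono f iT
  constructor
  · intro φ hφ hm
    have h1 : Mono φ := Over.mono_of_mono_left φ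
    exact K501.NoUnip.not_mono_alphaP p hT' (φ ≫ f) inferInstance
  · intro ψ hψ hm
    have h1 : Mono ψ := Over.mono_of_mono_left ψ
    exact K501.NoUnip.not_mono_constZMod p hT' (ψ ≫ f) inferInstance

end Groth.Agent.S17099
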