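import Groth.Statements.S17104
import Groth.Agent.Vanish.K911.SurjP
import Groth.Agent.DelIll.K911.CoreProof

set_option autoImplicit false
universe u
open CategoryTheory CategoryTheory.Limits AlgebraicGeometry
open Vanish

namespace Groth.Agent.S17104

/-- Let k be an algebraically closed field of characteristic zero and X an irreducible proper smooth
k-scheme with an ample invertible O_X-module (a projective manifold); let L be an invertible
O_X-module with tensor inverse L⁻¹ and N ≥ 1. Let D_1, …, D_r be quasi-coherent ideal sheaves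
forming a strict normal crossing divisor, split by a set s of indices into a reduced divisor C =
Σ_{j ∈ s} D_j and a divisor D = Σ_{j ∉ s} α_j D_j with 0 < α_j < N (so C and D have no common
component and D + C has normal crossings), such that L^⊗N is a tensor inverse of ∏_{j} 𝓘_{D_j}^{α_j}
(with α_j = 0 for j ∈ s), i.e. L^N ≅ O_X(D). Let D' = Σ μ_j D_j be effective and supported in D (μ_j
= 0 for j ∈ s), with ideal 𝓘' = ∏ 𝓘_{D_j}^{μ_j}, and let 𝓘_C = ∏_{j ∈ s} 𝓘_{D_j}. Then for every b
and for the O_X-linear map κ : 𝓘_C·𝓘' → 𝓘_C compatible with the inclusions into O_X (there is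
exactly one), the natural map H^b(X, L⁻¹(−C−D')) → H^b(X, L⁻¹(−C)), i.e. the map H^b(X, L⁻¹ ⊗ 𝓘_C
𝓘') → H^b(X, L⁻¹ ⊗ 𝓘_C) induced by 1 ⊗ κ, is surjective. (The dual injectivity statement and the
positive-characteristic version are not stated.) -/
theorem result (k : Type u) [Field k] [IsAlgClosed k] [CharZero k]
    (X : Scheme.{u}) [X.Over (Spec (CommRingCat.of k))] [IsProper (X ↘ Spec (CommRingCat.of k))]
    [Smooth (X ↘ Spec (CommRingCat.of k))] [IrreducibleSpace X] (n : ℕ) (hn : topologicalKrullDim X = n)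
    (H : X.Modules) (hH : CohB1.IsAmple H)
    (L Linv : X.Modules) (hL : PicF.IsInvertible L) (hLinv : ClSub.IsInverseOf Linv L)
    (N : ℕ) (hN : 1 ≤ N) {r : ℕ} (D : Fin r → X.IdealSheafData) (hD : LogNCD.IsNCD D (X ↘ Spec (CommRingCat.of k)))
    (s : Finset (Fin r)) (α : Fin r → ℕ) (hα : ∀ j, j ∉ s → 0 < α j ∧ α j < N) (hαs : ∀ j, j ∈ s → α j = 0)
    (hLN : ClSub.IsInverseOf (CohB1.tensorPow L N) (ClSub.idealMod (∏ j, D j ^ α j)))
    (μ : Fin r → ℕ) (hμ : ∀ j, j ∈ s → μ j = 0)
    (κ : ClSub.idealMod ((∏ j ∈ s, D j) * ∏ j, D j ^ μ j) ⟶ ClSub.idealMod (∏ j ∈ s, D j))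
    (hκ : κ ≫ ClSub.idealModι (∏ j ∈ s, D j) = ClSub.idealModι ((∏ j ∈ s, D j) * ∏ j, D j ^ μ j))
    (b : ℕ) :
    Function.Surjective (Sheaf.H.map ((SheafOfModules.toSheaf X.ringCatSheaf).map
      (KoszTw.tensorMap (𝟙 Linv) κ)) b) := by
  exact K911.Spread104.s17104 (K911.SurjP.surjP K911.CoreProof.coreP K911.CoreProof.coreS) k X n hn H hH L Linv hL hLinv N hN
    D hD s α hα hαs hLN μ hμ κ hκ b

end Groth.Agent.S17104
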