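import Groth.Statements.S17105
import Groth.Agent.Vanish.K911.MainZero
import Groth.Agent.DelIll.K911.CoreProof

set_option autoImplicit false
universe u
open CategoryTheory CategoryTheory.Limits AlgebraicGeometry
open Vanish

namespace Groth.Agent.S17105

/-- Let k be an algebraically closed field of characteristic zero and X an irreducible proper smooth
k-scheme of dimension n with an ample invertible O_X-module (a projective manifold); let L be an
invertible O_X-module with tensor inverse L⁻¹ and N ≥ 1, and let D = Σ α_j D_j be a normal crossing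
divisor with 0 < α_j < N and L^N ≅ O_X(D): the reduced components D_1, …, D_r are quasi-coherent
ideal sheaves forming a strict normal crossing divisor and L^⊗N is a tensor inverse of ∏
𝓘_{D_j}^{α_j}. Assume there is an ample effective divisor B with B_red = D_red: multiplicities μ_j ≥
1 for every j and an ample invertible O_X-module A which is a tensor inverse of ∏ 𝓘_{D_j}^{μ_j}.
Then H^b(X, L⁻¹) = 0 for every b < n. -/
theorem result (k : Type u) [Field k] [IsAlgClosed k] [CharZero k]
    (X : Scheme.{u}) [X.Over (Spec (CommRingCat.of k))] [IsProper (X ↘ Spec (CommRingCat.of k))]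
    [Smooth (X ↘ Spec (CommRingCat.of k))] [IrreducibleSpace X] (n : ℕ) (hn : topologicalKrullDim X = n)
    (H : X.Modules) (hH : CohB1.IsAmple H)
    (L Linv : X.Modules) (hL : PicF.IsInvertible L) (hLinv : ClSub.IsInverseOf Linv L)
    (N : ℕ) (hN : 1 ≤ N) {r : ℕ} (D : Fin r → X.IdealSheafData) (hD : LogNCD.IsNCD D (X ↘ Spec (CommRingCat.of k)))
    (α : Fin r → ℕ) (hα : ∀ j, 0 < α j ∧ α j < N)
    (hLN : ClSub.IsInverseOf (CohB1.tensorPow L N) (ClSub.idealMod (∏ j, D j ^ α j)))
    (μ : Fin r → ℕ) (hμ : ∀ j, 1 ≤ μ j) (A : X.Modules) (hA : CohB1.IsAmple A)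
    (hAB : ClSub.IsInverseOf A (ClSub.idealMod (∏ j, D j ^ μ j)))
    (b : ℕ) (hb : b < n) :
    Subsingleton (Coh.HH X Linv b) := by
  exact K911.MainZero.s17105 K911.CoreProof.coreP k X n hn H hH L Linv hL hLinv N hN D hD α hα hLN μ A hA hAB b hb

end Groth.Agent.S17105
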