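import Groth.Statements.S17106
import Groth.Agent.Vanish.K911.MainZero
import Groth.Agent.DelIll.K911.CoreProof

set_option autoImplicit false
universe u
open CategoryTheory CategoryTheory.Limits AlgebraicGeometry
open Vanish

namespace Groth.Agent.S17106

/-- Second assertion, logarithmic Akizuki–Kodaira–Nakano: let k be an algebraically closed field of
characteristic zero, X an irreducible proper smooth k-scheme of dimension n and L an ample
invertible O_X-module (so X is projective) with tensor inverse L⁻¹. Let (Ω', d) be a universal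
receptacle for the differentials of X over k, let A + B be a reduced normal crossing divisor —
quasi-coherent ideal sheaves T_1, …, T_r forming a strict normal crossing divisor, the components of
B being those with index in s — let Ω¹(log(A+B)) be the pinned sheaf of differentials with
logarithmic poles along all the T_j, and Ω^a an a-th exterior power of it. Then H^b(X,
Ω^a(log(A+B))(−B) ⊗ L⁻¹) = H^b(X, (Ω^a ⊗ 𝓘_B) ⊗ L⁻¹) = 0 whenever a + b < n, where 𝓘_B = ∏_{j ∈ s}
𝓘_{T_j}. -/
theorem result (k : Type u) [Field k] [IsAlgClosed k] [CharZero k]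
    (X : Scheme.{u}) [X.Over (Spec (CommRingCat.of k))] [IsProper (X ↘ Spec (CommRingCat.of k))]
    [Smooth (X ↘ Spec (CommRingCat.of k))] [IrreducibleSpace X] (n : ℕ) (hn : topologicalKrullDim X = n)
    (L Linv : X.Modules) (hL : CohB1.IsAmple L) (hLinv : ClSub.IsInverseOf Linv L)
    {Ω' : X.Modules} (d : OmegaSh.Der (X ↘ Spec (CommRingCat.of k)) Ω') (hd : OmegaSh.IsUniversal d)
    {r : ℕ} (T : Fin r → X.IdealSheafData) (hT : LogNCD.IsNCD T (X ↘ Spec (CommRingCat.of k))) (Λ : LogNCD.LogMod d T)
    (s : Finset (Fin r)) (a : ℕ) (La : X.Modules) (hLa : ExtPow.IsExtPow a Λ.L La)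
    (b : ℕ) (hab : a + b < n) :
    Subsingleton (Coh.HH X (CohB1.tensorMod (CohB1.tensorMod La (ClSub.idealMod (∏ j ∈ s, T j))) Linv) b) := by
  exact K911.MainZero.s17106 K911.CoreProof.coreP k X n hn L Linv hL hLinv d hd T hT Λ s a La hLa b hab

end Groth.Agent.S17106
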