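import Groth.Statements.S17111
import Groth.Agent.LogNCD.K922.VanBot

set_option autoImplicit false
universe u
open CategoryTheory CategoryTheory.Limits AlgebraicGeometry Opposite TopologicalSpace
open LogNCD

namespace Groth.Agent.S17111


/-- Let k be an algebraically closed field and X an irreducible proper smooth k-scheme of dimension n (a
projective manifold: the ample module below makes X projective); let (Ω', d) be a universal
receptacle for the differentials of X over k, D_1, …, D_r quasi-coherent ideal sheaves forming a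
strict normal crossing divisor D with pinned log module Ω¹(log D), and B = Σ μ_j D_j an effective
ample divisor with B_red = D: all μ_j ≥ 1 and an ample invertible O_X-module A is a tensor inverse
of ∏ 𝓘_{D_j}^{μ_j}. Let E be a finite locally free O_X-module with an integrable logarithmic
connection ∇ along D, K its logarithmic de Rham complex, and for each j let the residue ρ_j : E → E
⊗ O_{D_j} of ∇ factor through the O_X-linear endomorphism R_j of E ⊗ O_{D_j}. Assume condition (!):
R_j + μ·id is an isomorphism for every j and every natural number μ. Then the hypercohomology ℍ^l(X,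
K) of the logarithmic de Rham complex vanishes for every integer l < n. -/
theorem result (k : Type u) [Field k] [IsAlgClosed k]
    (X : Scheme.{u}) [X.Over (Spec (CommRingCat.of k))] [IsProper (X ↘ Spec (CommRingCat.of k))]
    [Smooth (X ↘ Spec (CommRingCat.of k))] [IrreducibleSpace X] (n : ℕ) (hn : topologicalKrullDim X = n)
    {Ω' : X.Modules} (d : OmegaSh.Der (X ↘ Spec (CommRingCat.of k)) Ω') (hd : OmegaSh.IsUniversal d)
    {r : ℕ} (D : Fin r → X.IdealSheafData) (hD : LogNCD.IsNCD D (X ↘ Spec (CommRingCat.of k))) (Λ : LogNCD.LogMod d D)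
    (E : X.Modules) (hE : FlatMod.IsFinLocFree E)
    (nabla : Coh.toAb E ⟶ Coh.toAb (CohB1.tensorMod E Λ.L)) (hc : ConnSh.IsConn (LogNCD.der Λ) E nabla)
    (K : ConnSh.Cx (LogNCD.der Λ) E nabla) [HasDerivedCategory.{u} (Sheaf (Opens.grothendieckTopology X) AddCommGrpCat.{u})]
    (ρ : ∀ j : Fin r, E ⟶ CohB1.tensorMod E (ClSub.quotMod (D j))) (hρ : ∀ j, LogNCD.IsResidue Λ E nabla j (ρ j))
    (R : ∀ j : Fin r, CohB1.tensorMod E (ClSub.quotMod (D j)) ⟶ CohB1.tensorMod E (ClSub.quotMod (D j)))
    (hR : ∀ j, (SecTwist.unitorR E).inv ≫ KoszTw.tensorMap (𝟙 E) (ClSub.toSubscheme (D j)) ≫ R j = ρ j)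
    (hbang : ∀ (j : Fin r) (m : ℕ), IsIso (R j + m • 𝟙 (CohB1.tensorMod E (ClSub.quotMod (D j)))))
    (μ : Fin r → ℕ) (hμ : ∀ j, 1 ≤ μ j) (A : X.Modules) (hA : CohB1.IsAmple A)
    (hAB : ClSub.IsInverseOf A (ClSub.idealMod (∏ j, D j ^ μ j)))
    (l : ℤ) (hl : l < (n : ℤ)) :
    Subsingleton (ConnSh.HdR K l) := by
  have hch := K913.HasCharts.hasCharts hd hD Λ
  have hLf := K913.HasCharts.isFinLocFree hd hD Λ
  have hL := Groth.Agent.PerfA.QCohEpi.isQCoh_of_isFinLocFree hLf
  obtain ⟨m, hm, H⟩ := K922.VanBot.exists_negative k X n hn A hA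
  choose q₀ hq₀ using fun p : ℕ => H (K.term p) (K913.NegTwist.isFinLocFree_term hch hE K p)
  let Q := (Finset.range (l.toNat + 1)).sup q₀
  refine K922.VanTop.vanish_neg hch hE hc K hL ρ hρ R hR hbang (fun j => μ j * (m * Q)) l ?_
  intro p q hpq
  exact hq₀ p Q (Finset.le_sup (f := q₀) (by rw [Finset.mem_range]; omega)) _
    (K922.VanTop.mc_idealMod μ hAB (m * Q)) q (by omega)

end Groth.Agent.S17111
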