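import Groth.Statements.S17112
import Groth.Agent.Vanish.K911.MainZero
import Groth.Agent.DelIll.K911.CoreProof

set_option autoImplicit false
universe u
open CategoryTheory CategoryTheory.Limits AlgebraicGeometry
open Vanish

namespace Groth.Agent.S17112

/-- Let k be an algebraically closed field of characteristic zero and X an irreducible proper smooth
k-scheme of dimension n with an ample invertible O_X-module (a projective manifold); let L be an
invertible O_X-module with tensor inverse L⁻¹, N ≥ 1, and D = Σ α_j D_j a normal crossing divisor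
with 0 < α_j < N and L^N ≅ O_X(D): the reduced components D_1, …, D_r are quasi-coherent ideal
sheaves forming a strict normal crossing divisor and L^⊗N is a tensor inverse of ∏ 𝓘_{D_j}^{α_j}.
Let (Ω', d) be a universal receptacle for the differentials of X over k, Ω¹(log D) the pinned sheaf
of differentials with logarithmic poles along D_red, and Ω^a an a-th exterior power of it. Suppose
the coherent cohomological dimension cd(X, D_red) is at most c: there is an effective divisor B = Σ
β_j D_j with all β_j ≥ 1 such that for every coherent O_X-module F and every q > c some ν₀ > 0 has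
H^q(X, F ⊗ O_X(νB)) = 0 for all positive multiples ν of ν₀ (O_X(νB) meaning any tensor inverse of ∏
𝓘_{D_j}^{νβ_j}). Then H^b(X, Ω^a(log D) ⊗ L⁻¹) = 0 whenever a + b < n − c or a + b > n + c. (Part
(c) of the published statement, with an analytically defined bound, is not stated.) -/
theorem result (k : Type u) [Field k] [IsAlgClosed k] [CharZero k]
    (X : Scheme.{u}) [X.Over (Spec (CommRingCat.of k))] [IsProper (X ↘ Spec (CommRingCat.of k))]
    [Smooth (X ↘ Spec (CommRingCat.of k))] [IrreducibleSpace X] (n : ℕ) (hn : topologicalKrullDim X = n)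
    (H : X.Modules) (hH : CohB1.IsAmple H)
    (L Linv : X.Modules) (hL : PicF.IsInvertible L) (hLinv : ClSub.IsInverseOf Linv L)
    (N : ℕ) (hN : 1 ≤ N) {r : ℕ} (D : Fin r → X.IdealSheafData) (hD : LogNCD.IsNCD D (X ↘ Spec (CommRingCat.of k)))
    (α : Fin r → ℕ) (hα : ∀ j, 0 < α j ∧ α j < N)
    (hLN : ClSub.IsInverseOf (CohB1.tensorPow L N) (ClSub.idealMod (∏ j, D j ^ α j)))
    {Ω' : X.Modules} (d : OmegaSh.Der (X ↘ Spec (CommRingCat.of k)) Ω') (hd : OmegaSh.IsUniversal d) (Λ : LogNCD.LogMod d D) (a : ℕ) (La : X.Modules) (hLa : ExtPow.IsExtPow a Λ.L La)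
    (c : ℕ) (β : Fin r → ℕ) (hβ : ∀ j, 1 ≤ β j)
    (hcd : (∀ (F : X.Modules), Coh.IsCoh F → ∀ q : ℕ, c < q → ∃ ν₀ : ℕ, 0 < ν₀ ∧ ∀ ν : ℕ, 0 < ν → ν₀ ∣ ν →
        ∀ M : X.Modules, ClSub.IsInverseOf M (ClSub.idealMod (∏ j, D j ^ (ν * β j))) →
          Subsingleton (Coh.HH X (CohB1.tensorMod F M) q)))
    (b : ℕ) (hab : a + b + c < n ∨ n + c < a + b) :
    Subsingleton (Coh.HH X (CohB1.tensorMod La Linv) b) := by
  exact K911.MainZero.s17112 K911.CoreProof.coreP k X n hn H hH L Linv hL hLinv N hN D hD α hα hLN d hd Λ a La hLa c β hcd b hab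

end Groth.Agent.S17112
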