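import Groth.Statements.S17113
import Groth.Agent.Vanish.K911.MainZero
import Groth.Agent.DelIll.K911.CoreProof

set_option autoImplicit false
universe u
open CategoryTheory CategoryTheory.Limits AlgebraicGeometry
open Vanish

namespace Groth.Agent.S17113

/-- Let k be an algebraically closed field of characteristic zero and X an irreducible proper smooth
k-scheme of dimension n with an ample invertible O_X-module (a projective manifold); let L be an
invertible O_X-module with tensor inverse L⁻¹ and N ≥ 1. Let D_1, …, D_r be quasi-coherent ideal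
sheaves forming a strict normal crossing divisor, with indices sorted into three classes by cls:
class 0 carries the divisor D = Σ α_j D_j with 0 < α_j < N and L^N ≅ O_X(D) (L^⊗N is a tensor
inverse of ∏ 𝓘_{D_j}^{α_j}, where α_j = 0 outside class 0), class 1 the reduced divisor A and class
2 the reduced divisor B (so A, B, D have pairwise no common component and D + A + B has normal
crossings). Let (Ω', d) be a universal receptacle for the differentials of X over k, Ω¹(log(A+B+D))
the pinned log module of the whole family, Ω^a an a-th exterior power of it, and 𝓘_B = ∏_{cls j = 2}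
𝓘_{D_j}. Then H^b(X, Ω^a(log(A+B+D))(−B) ⊗ L⁻¹) = H^b(X, (Ω^a ⊗ 𝓘_B) ⊗ L⁻¹) = 0 for a + b < n −
cd(X, D+B) and for a + b > n + cd(X, D+A), in the form: either a + b + c < n for some c bounding the
coherent cohomological dimension of an effective divisor Σ β_j D_j supported exactly on D + B (β_j ≥
1 on classes 0 and 2, β_j = 0 on class 1), or a + b > n + c for some c bounding that of an effective
divisor supported exactly on D + A; here cohomological dimension at most c means that for every
coherent O_X-module F and every q > c some ν₀ > 0 has H^q(X, F ⊗ O_X(νB')) = 0 for all positive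
multiples ν of ν₀, O_X(νB') being any tensor inverse of ∏ 𝓘_{D_j}^{νβ_j}. -/
theorem result (k : Type u) [Field k] [IsAlgClosed k] [CharZero k]
    (X : Scheme.{u}) [X.Over (Spec (CommRingCat.of k))] [IsProper (X ↘ Spec (CommRingCat.of k))]
    [Smooth (X ↘ Spec (CommRingCat.of k))] [IrreducibleSpace X] (n : ℕ) (hn : topologicalKrullDim X = n)
    (H : X.Modules) (hH : CohB1.IsAmple H)
    (L Linv : X.Modules) (hL : PicF.IsInvertible L) (hLinv : ClSub.IsInverseOf Linv L)
    (N : ℕ) (hN : 1 ≤ N) {r : ℕ} (D : Fin r → X.IdealSheafData) (hD : LogNCD.IsNCD D (X ↘ Spec (CommRingCat.of k)))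
    (cls : Fin r → Fin 3) (α : Fin r → ℕ) (hα : ∀ j, cls j = 0 → 0 < α j ∧ α j < N) (hα' : ∀ j, cls j ≠ 0 → α j = 0)
    (hLN : ClSub.IsInverseOf (CohB1.tensorPow L N) (ClSub.idealMod (∏ j, D j ^ α j)))
    {Ω' : X.Modules} (d : OmegaSh.Der (X ↘ Spec (CommRingCat.of k)) Ω') (hd : OmegaSh.IsUniversal d) (Λ : LogNCD.LogMod d D) (a : ℕ) (La : X.Modules) (hLa : ExtPow.IsExtPow a Λ.L La)
    (b : ℕ)
    (hab : (∃ (c : ℕ) (β : Fin r → ℕ), (∀ j, (cls j = 1 → β j = 0) ∧ (cls j ≠ 1 → 1 ≤ β j)) ∧
        (∀ (F : X.Modules), Coh.IsCoh F → ∀ q : ℕ, c < q → ∃ ν₀ : ℕ, 0 < ν₀ ∧ ∀ ν : ℕ, 0 < ν → ν₀ ∣ ν →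
        ∀ M : X.Modules, ClSub.IsInverseOf M (ClSub.idealMod (∏ j, D j ^ (ν * β j))) →
          Subsingleton (Coh.HH X (CohB1.tensorMod F M) q)) ∧ a + b + c < n) ∨
      (∃ (c : ℕ) (β : Fin r → ℕ), (∀ j, (cls j = 2 → β j = 0) ∧ (cls j ≠ 2 → 1 ≤ β j)) ∧
        (∀ (F : X.Modules), Coh.IsCoh F → ∀ q : ℕ, c < q → ∃ ν₀ : ℕ, 0 < ν₀ ∧ ∀ ν : ℕ, 0 < ν → ν₀ ∣ ν →
        ∀ M : X.Modules, ClSub.IsInverseOf M (ClSub.idealMod (∏ j, D j ^ (ν * β j))) →
          Subsingleton (Coh.HH X (CohB1.tensorMod F M) q)) ∧ n + c < a + b)) :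
    Subsingleton (Coh.HH X (CohB1.tensorMod (CohB1.tensorMod La
      (ClSub.idealMod (∏ j ∈ Finset.univ.filter (fun j => cls j = 2), D j))) Linv) b) := by
  exact K911.MainZero.s17113 K911.CoreProof.coreP k X n hn H hH L Linv hL hLinv N hN D hD cls α hα hα' hLN d hd Λ a La hLa b hab

end Groth.Agent.S17113
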