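import Groth.Statements.S17114
import Groth.Agent.Vanish.K232.RootThm

set_option autoImplicit false
universe u
open CategoryTheory CategoryTheory.Limits AlgebraicGeometry
open Vanish

namespace Groth.Agent.S17114

/-- Let k be an algebraically closed field of characteristic zero, X an integral smooth k-scheme of
dimension n (a manifold), Z an integral separated k-scheme of finite type and f : X → Z a proper
surjective birational k-morphism. Let Δ be an effective Cartier divisor on Z — a quasi-coherent
ideal sheaf whose ideal is an invertible O_Z-module — such that D = f^*Δ is a normal crossing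
divisor: the pulled-back ideal sheaf on X is ∏ 𝓘_{D_j}^{α_j} for quasi-coherent ideals D_1, …, D_r
forming a strict normal crossing divisor. Let N ≥ 1 and let ω be an n-th exterior power of the sheaf
of differentials Ω_{X/k} (a canonical sheaf). Then R^b f_*(ω ⊗ O_X(−[D/N])) = 0 for every b > 0,
where [D/N] = Σ ⌊α_j/N⌋ D_j is the integral part, i.e. the twisting ideal is ∏ 𝓘_{D_j}^{⌊α_j/N⌋}. -/
theorem result (k : Type u) [Field k] [IsAlgClosed k] [CharZero k]
    (X : Scheme.{u}) [X.Over (Spec (CommRingCat.of k))] [IsIntegral X] [Smooth (X ↘ Spec (CommRingCat.of k))]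
    (n : ℕ) (hn : topologicalKrullDim X = n)
    (Z : Scheme.{u}) [Z.Over (Spec (CommRingCat.of k))] [IsIntegral Z] [IsSeparated (Z ↘ Spec (CommRingCat.of k))]
    [LocallyOfFiniteType (Z ↘ Spec (CommRingCat.of k))] [CompactSpace Z]
    (f : X ⟶ Z) (hf : f ≫ (Z ↘ Spec (CommRingCat.of k)) = X ↘ Spec (CommRingCat.of k)) [IsProper f] [Surjective f]
    (hbir : RadPt.IsBirational f)
    (Δ : Z.IdealSheafData) (hΔ : PicF.IsInvertible (ClSub.idealMod Δ))
    {r : ℕ} (D : Fin r → X.IdealSheafData) (hD : LogNCD.IsNCD D (X ↘ Spec (CommRingCat.of k))) (α : Fin r → ℕ)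
    (hΔD : Δ.comap f = ∏ j, D j ^ α j) (N : ℕ) (hN : 1 ≤ N)
    (ω : X.Modules) (hω : ExtPow.IsExtPow n (Omega.sheaf (X ↘ Spec (CommRingCat.of k))) ω)
    [HasInjectiveResolutions X.Modules] (b : ℕ) (hb : 0 < b) :
    IsZero ((Coh.Rpush f b).obj (CohB1.tensorMod ω (ClSub.idealMod (∏ j, D j ^ (α j / N))))) := by
  exact K232.RootRow.row17114 k (K909.AltThm.alt k) (K232.RootThm.gr k) (K232.RootFin.split k) X n hn Z f hf hbir Δ hΔ D hD α hΔD N
    hN ω hω b hb

end Groth.Agent.S17114
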