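import Groth.Statements.S17115
import Groth.Agent.Vanish.K31.Rows
import Groth.Agent.S17401
import Groth.Agent.S16893

set_option autoImplicit false
universe u
open CategoryTheory CategoryTheory.Limits AlgebraicGeometry
open Vanish

namespace Groth.Agent.S17115

theorem kaw (k : Type u) [Field k] [IsAlgClosed k] : K31.Cover.Kaw.{u} k :=
  fun f _ _ _ _ A hA hAmp _ D hD Nj hN hNk => Groth.Agent.S17401.result f A hA hAmp D hD Nj hN hNk

/-- Let k be an algebraically closed field of characteristic zero and X an irreducible proper smooth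
k-scheme of dimension n with an ample invertible O_X-module (a projective manifold; the published
statement is over a field of characteristic zero, and projective manifolds in these lectures live
over algebraically closed fields). Let L be an invertible O_X-module with tensor inverse L⁻¹, N ≥ 1,
and D = Σ α_j D_j a normal crossing divisor with 0 < α_j < N, the reduced components D_1, …, D_r
being quasi-coherent ideal sheaves forming a strict normal crossing divisor; write L^N(−D) for L^⊗N
⊗ ∏ 𝓘_{D_j}^{α_j}. If L^N(−D) is semi-ample (some positive tensor power is globally generated) and B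
is an effective Cartier divisor — a quasi-coherent ideal I_B whose ideal sheaf is an invertible
module — with H^0(X, (L^N(−D))^⊗ν ⊗ I_B) ≠ 0 for some ν > 0, then for every b the natural map H^b(X,
L⁻¹(−B)) = H^b(X, L⁻¹ ⊗ I_B) → H^b(X, L⁻¹), induced by I_B ⊆ O_X and the unit isomorphism, is
surjective. -/
theorem result (k : Type u) [Field k] [IsAlgClosed k] [CharZero k]
    (X : Scheme.{u}) [X.Over (Spec (CommRingCat.of k))] [IsProper (X ↘ Spec (CommRingCat.of k))]
    [Smooth (X ↘ Spec (CommRingCat.of k))] [IrreducibleSpace X] (n : ℕ) (hn : topologicalKrullDim X = n)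
    (H : X.Modules) (hH : CohB1.IsAmple H)
    (L Linv : X.Modules) (hL : PicF.IsInvertible L) (hLinv : ClSub.IsInverseOf Linv L)
    (N : ℕ) (hN : 1 ≤ N) {r : ℕ} (D : Fin r → X.IdealSheafData) (hD : LogNCD.IsNCD D (X ↘ Spec (CommRingCat.of k)))
    (α : Fin r → ℕ) (hα : ∀ j, 0 < α j ∧ α j < N)
    (hsa : ∃ μ : ℕ, 0 < μ ∧ Curv2.IsGloballyGenerated (CohB1.tensorPow (CohB1.tensorMod (CohB1.tensorPow L N) (ClSub.idealMod (∏ j, D j ^ α j))) μ))
    (I : X.IdealSheafData) (hI : PicF.IsInvertible (ClSub.idealMod I))
    (hsec : ∃ ν : ℕ, 0 < ν ∧ Nontrivial (Coh.HH X (CohB1.tensorMod (CohB1.tensorPow (CohB1.tensorMod (CohB1.tensorPow L N) (ClSub.idealMod (∏ j, D j ^ α j))) ν) (ClSub.idealMod I)) 0))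
    (b : ℕ) :
    Function.Surjective (Sheaf.H.map ((SheafOfModules.toSheaf X.ringCatSheaf).map (LogNCD.inclTwist Linv I)) b) := by

  exact K31.Rows.semi (kaw k)
    (fun X _ _ _ _ n hn H hH L Linv hL hLinv hsa I hI hsec b =>
      Groth.Agent.S16893.result k X n hn H hH L Linv hL hLinv hsa I hI hsec b)
    X n hn H hH L Linv hL hLinv N hN D hD α (fun j => (hα j).2) hsa I hI hsec b

end Groth.Agent.S17115
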