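import Groth.Statements.S17116
import Groth.Agent.Vanish.K31.Rows
import Groth.Agent.S17401
import Groth.Agent.S16897

set_option autoImplicit false
universe u
open CategoryTheory CategoryTheory.Limits AlgebraicGeometry
open Vanish

namespace Groth.Agent.S17116

theorem kaw (k : Type u) [Field k] [IsAlgClosed k] : K31.Cover.Kaw.{u} k :=
  fun f _ _ _ _ A hA hAmp _ D hD Nj hN hNk => Groth.Agent.S17401.result f A hA hAmp D hD Nj hN hNk

/-- Let k be an algebraically closed field of characteristic zero and X an irreducible proper smooth
k-scheme of dimension n with an ample invertible O_X-module (a projective manifold; the published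
statement is over a field of characteristic zero, and projective manifolds in these lectures live
over algebraically closed fields). Let L be an invertible O_X-module with tensor inverse L⁻¹, N ≥ 1,
and D = Σ α_j D_j a normal crossing divisor with 0 < α_j < N, the reduced components D_1, …, D_r
being quasi-coherent ideal sheaves forming a strict normal crossing divisor; write L^N(−D) for L^⊗N
⊗ ∏ 𝓘_{D_j}^{α_j}. Let M⁻¹ be a tensor inverse of L^N(−D). If L^N(−D) is numerically effective
(non-negative degree on every integral one-dimensional closed subscheme of X) and its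
self-intersection number c_1(L^N(−D))^n — computed as the intersection number of n copies of M⁻¹
against O_X — is positive, then H^b(X, L⁻¹) = 0 for every b < n. -/
theorem result (k : Type u) [Field k] [IsAlgClosed k] [CharZero k]
    (X : Scheme.{u}) [X.Over (Spec (CommRingCat.of k))] [IsProper (X ↘ Spec (CommRingCat.of k))]
    [Smooth (X ↘ Spec (CommRingCat.of k))] [IrreducibleSpace X] (n : ℕ) (hn : topologicalKrullDim X = n)
    (H : X.Modules) (hH : CohB1.IsAmple H)
    (L Linv : X.Modules) (hL : PicF.IsInvertible L) (hLinv : ClSub.IsInverseOf Linv L)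
    (N : ℕ) (hN : 1 ≤ N) {r : ℕ} (D : Fin r → X.IdealSheafData) (hD : LogNCD.IsNCD D (X ↘ Spec (CommRingCat.of k)))
    (α : Fin r → ℕ) (hα : ∀ j, 0 < α j ∧ α j < N)
    (Minv : X.Modules) (hMinv : ClSub.IsInverseOf Minv (CohB1.tensorMod (CohB1.tensorPow L N) (ClSub.idealMod (∏ j, D j ^ α j))))
    (hnef : (∀ (Y : Scheme.{u}) (i : Y ⟶ X) [IsClosedImmersion i], IsIntegral Y → topologicalKrullDim Y = 1 →
      0 ≤ Pic13.curveDeg k (i ≫ (X ↘ Spec (CommRingCat.of k))) ((Scheme.Modules.pullback i).obj (CohB1.tensorMod (CohB1.tensorPow L N) (ClSub.idealMod (∏ j, D j ^ α j))))))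
    (hbig : 0 < FGA.intNum k X n (fun _ : Fin n => Minv) (Coh.structureModule X))
    (b : ℕ) (hb : b < n) :
    Subsingleton (Coh.HH X Linv b) := by

  exact K31.Rows.nefBig (kaw k)
    (fun X _ _ _ _ n hn H hH L Linv hL hLinv hnef hbig b hb =>
      Groth.Agent.S16897.result k X n hn H hH L Linv hL hLinv hnef hbig b hb)
    X n hn H hH L Linv hL hLinv N hN D hD α (fun j => (hα j).2) Minv hMinv hnef hbig b hb

end Groth.Agent.S17116
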