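import Groth.Statements.S17118
import Groth.Agent.Vanish.K661.Rows
import Groth.Agent.Vanish.K910.DescNZ
import Groth.Agent.S17103
import Groth.Agent.Vanish.K661.Final
import Groth.Agent.Vanish.K909.AltFinal
import Groth.Agent.Resolve.K284.NodeB

set_option autoImplicit false
universe u
open CategoryTheory CategoryTheory.Limits AlgebraicGeometry
open Vanish

namespace Groth.Agent.S17118

/-- Let k be an algebraically closed field of characteristic zero and X an irreducible proper smooth
k-scheme of dimension n with an ample invertible O_X-module (a projective manifold; the published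
statement is over a field of characteristic zero). Let L be an invertible O_X-module with tensor
inverse L⁻¹, N ≥ 1, and D = Σ α_j D_j a normal crossing divisor with 0 < α_j < N, the reduced
components D_1, …, D_r being quasi-coherent ideal sheaves forming a strict normal crossing divisor,
such that L^N(−D) = L^⊗N ⊗ ∏ 𝓘_{D_j}^{α_j} is numerically effective (non-negative degree on every
integral one-dimensional closed subscheme). Let 𝒩 be a numerically effective invertible O_X-module
with tensor inverse 𝒩⁻¹ and κ₀ a natural number not exceeding the Iitaka dimension of L ⊗ 𝒩⁻¹ in the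
growth form: for some ν > 0 there is a > 0 with μ^κ₀ ≤ a · dim_k H^0(X, (L ⊗ 𝒩⁻¹)^⊗νμ) for all μ ≥
1. Then H^b(X, L⁻¹) = 0 for every b < κ₀. -/
theorem result (k : Type u) [Field k] [IsAlgClosed k] [CharZero k]
    (X : Scheme.{u}) [X.Over (Spec (CommRingCat.of k))] [IsProper (X ↘ Spec (CommRingCat.of k))]
    [Smooth (X ↘ Spec (CommRingCat.of k))] [IrreducibleSpace X] (n : ℕ) (hn : topologicalKrullDim X = n)
    (H : X.Modules) (hH : CohB1.IsAmple H)
    (L Linv : X.Modules) (hL : PicF.IsInvertible L) (hLinv : ClSub.IsInverseOf Linv L)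
    (N : ℕ) (hN : 1 ≤ N) {r : ℕ} (D : Fin r → X.IdealSheafData) (hD : LogNCD.IsNCD D (X ↘ Spec (CommRingCat.of k)))
    (α : Fin r → ℕ) (hα : ∀ j, 0 < α j ∧ α j < N)
    (hnef : (∀ (Y : Scheme.{u}) (i : Y ⟶ X) [IsClosedImmersion i], IsIntegral Y → topologicalKrullDim Y = 1 →
      0 ≤ Pic13.curveDeg k (i ≫ (X ↘ Spec (CommRingCat.of k))) ((Scheme.Modules.pullback i).obj (CohB1.tensorMod (CohB1.tensorPow L N) (ClSub.idealMod (∏ j, D j ^ α j))))))
    (Nn Nninv : X.Modules) (hNn : PicF.IsInvertible Nn) (hNninv : ClSub.IsInverseOf Nninv Nn)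
    (hnefN : (∀ (Y : Scheme.{u}) (i : Y ⟶ X) [IsClosedImmersion i], IsIntegral Y → topologicalKrullDim Y = 1 →
      0 ≤ Pic13.curveDeg k (i ≫ (X ↘ Spec (CommRingCat.of k))) ((Scheme.Modules.pullback i).obj (Nn))))
    (κ₀ : ℕ) (hκ : ∃ ν a : ℕ, 0 < ν ∧ 0 < a ∧ ∀ μ : ℕ, 1 ≤ μ →
        μ ^ κ₀ ≤ a * Module.finrank k (Coh.HH X (CohB1.tensorPow (CohB1.tensorMod L Nninv) (ν * μ)) 0))
    (b : ℕ) (hb : b < κ₀) :
    Subsingleton (Coh.HH X Linv b) := by
  have ev : K660.KolUp.EV k := fun X _ _ _ _ n hn H hH L Linv hL hLinv N hN r D hD α hα h μ b =>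
    Groth.Agent.S17103.result k X n hn H hH L Linv hL hLinv N hN D hD α hα h μ b
  exact K661.Rows.s17118 (K661.Final.bigCase (K909.AltFinal.alt k (K284.NodeB.nodeB k)) ev) X n hn H hH L Linv hL hLinv N hN D hD α hα hnef Nn Nninv
    hNn hNninv hnefN κ₀ hκ b hb

end Groth.Agent.S17118
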