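import Groth.Statements.S17120
import Groth.Agent.S8914
import Groth.Agent.Vanish.K911.Ncd
import Groth.Agent.Lift.K235.Chart

set_option autoImplicit false
universe u
open CategoryTheory CategoryTheory.Limits AlgebraicGeometry
open Lift

namespace Groth.Agent.S17120

/-- Let p be a prime, S~ a scheme flat over Z/p² with reduction S = S~ ×_{Z/p²} F_p (i_S : S → S~ the
cartesian closed immersion), S noetherian, and f : X → S a smooth morphism with X noetherian; let
D_1, …, D_r be quasi-coherent ideal sheaves on X forming a strict normal crossing divisor relative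
to S. Let X~ be a lifting of X to S~ (a flat g : X~ → S~ with j : X → X~ cartesian over i_S) and
D~_1, …, D~_r closed subschemes of X~, given by quasi-coherent ideal sheaves, with D~_m ×_{S~} S =
D_m, i.e. the ideal of D~_m pulled back along j is that of D_m. Then for each m the subscheme D~_m
is flat over S~ — so that it is a lifting of D_m — if and only if its ideal sheaf is an invertible
O_{X~}-module, i.e. D~_m is an effective Cartier divisor in X~. (The published lemma adds a third
equivalent condition describing the liftings by étale coordinates.) -/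
theorem result (p : ℕ) [Fact p.Prime]
    (Sl : Scheme.{u}) (gS : Sl ⟶ Spec (CommRingCat.of (ULift.{u} (ZMod (p ^ 2))))) [Flat gS]
    (S : Scheme.{u}) (iS : S ⟶ Sl) (fS : S ⟶ Spec (CommRingCat.of (ULift.{u} (ZMod p))))
    (hS : IsPullback iS fS gS (Spec.map (CommRingCat.ofHom
      ((ZMod.castHom (dvd_pow_self p two_ne_zero) (ULift.{u} (ZMod p))).comp
        (ULift.ringEquiv : ULift.{u} (ZMod (p ^ 2)) ≃+* ZMod (p ^ 2)).toRingHom))))
    [IsNoetherian S]
    (X : Scheme.{u}) (f : X ⟶ S) [Smooth f] [IsNoetherian X]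
    {r : ℕ} (D : Fin r → X.IdealSheafData) (hD : LogNCD.IsNCD D f)
    (Xl : Scheme.{u}) (g : Xl ⟶ Sl) [Flat g] (j : X ⟶ Xl) (hX : IsPullback j f g iS)
    (Dl : Fin r → Xl.IdealSheafData) (hDl : ∀ m, (Dl m).comap j = D m) (m : Fin r) :
    Flat ((Dl m).subschemeι ≫ g) ↔ PicF.IsInvertible (ClSub.idealMod (Dl m)) := by
  have hrS : K235.Thick.IsRed p iS := K235.Thick.isRed_of_isPullback p gS iS fS hS
  have hrX : K235.Thick.IsRed p j :=
    K235.Thick.isRed_of_isPullback p (g ≫ gS) j (f ≫ fS) (hX.paste_vert hS)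
  have h1 := hrS.closed
  have h2 := hrS.surjective
  have h3 := hrX.closed
  have h4 := hrX.surjective
  have hn : ∀ V : Sl.affineOpens, IsNilpotent (RingHom.ker (iS.app V.1).hom) := fun V => hrS.isNilpotent V
  rw [Groth.Agent.S8914.result]
  constructor
  · intro hfl
    have hg := K235.Chart.liftGen_of_flat hX hn (Dl m)
    rw [hDl m] at hg
    intro y
    obtain ⟨U, hyU, hU⟩ := hg y
    obtain ⟨x, rfl⟩ := j.surjective y
    obtain ⟨W₀, hxW₀, hW₀, z₀, hz₀, hz₀'⟩ :=
      Groth.Agent.Divis.EffCartier.exists_princAt (K911.Ncd.isEff_of_isNCD hD m) x (j ⁻¹ᵁ U) hyU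
    obtain ⟨W, hW⟩ := K235.Thick.exists_affineOpen j W₀
    obtain rfl : W₀ = K235.Thick.pre j W := Subtype.ext hW.symm
    have hWU : W.1 ≤ U := by
      intro y hy
      obtain ⟨x, rfl⟩ := j.surjective y
      exact hW₀ hy
    obtain ⟨z, hz, hz'⟩ := hU W hWU z₀ hz₀ hz₀'
    refine ⟨W, hxW₀, z, ?_, hz'⟩
    exact K235.Alg.mem_nonZeroDivisors_of_mod (hrX.sq W) (hrX.ann' W) (hrX.ker_app W) z (by rw [hz]; exact hz₀)
  · intro hI
    have hg := K235.Chart.liftGen_of_principal hX hn (Dl m) (fun y => by
      obtain ⟨U, hyU, ε, -, hε⟩ := hI y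
      exact ⟨U, hyU, ε, hε⟩)
    have hc := (K235.Chart.hasCharts_of_isNCD f hD).reindex (s := 1) (fun _ => m) (fun _ _ _ => Subsingleton.elim _ _)
    have hc' := K235.Chart.hasCharts_lift hX hn (Dl := fun _ : Fin 1 => Dl m) hc (fun _ => hDl m)
      (fun _ => by rw [hDl m] at hg; exact hg)
    have := hc'.smooth_subscheme 0
    infer_instance

end Groth.Agent.S17120
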