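import Groth.Statements.S17121
import Groth.Agent.Vanish.K911.MainP
import Groth.Agent.DelIll.K911.CoreProof

set_option autoImplicit false
universe u
open CategoryTheory CategoryTheory.Limits AlgebraicGeometry
open DelIll

namespace Groth.Agent.S17121

/-- Let k be a perfect field of characteristic p > 0 and X an irreducible proper smooth k-scheme of
dimension n with n ≤ p (a proper smooth variety); let D = Σ α_j D_j be an effective divisor, all α_j
≥ 1, whose components D_1, …, D_r are quasi-coherent ideal sheaves forming a strict normal crossing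
divisor, and L an invertible O_X-module with tensor inverse L⁻¹. Assume that (X, D) and L admit
liftings to the Witt vectors of length two: a flat g : X~ → Spec W_2(k) with a morphism i : X → X~
forming a cartesian square over Spec k → Spec W_2(k), closed subschemes D~_j of X~ (quasi-coherent
ideals) flat over W_2(k) whose ideals pull back along i to those of the D_j, and an invertible
O_{X~}-module L~ whose pullback along i is isomorphic to L. Assume condition (*): for some ν₀ and
every ν ≥ 0 the module L^⊗(ν₀+ν) ⊗ O_X(−D) = L^⊗(ν₀+ν) ⊗ ∏ 𝓘_{D_j}^{α_j} is ample. Let (Ω', d) be a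
universal receptacle for the differentials of X over k, Ω¹(log D) the pinned sheaf of differentials
with logarithmic poles along D_red and Ω^a an a-th exterior power of it. Then H^b(X, Ω^a(log D) ⊗
L⁻¹) = 0 whenever a + b < n. -/
theorem result (p : ℕ) [Fact p.Prime]
    (k : Type u) [Field k] [CharP k p] [PerfectRing k p]
    (X : Scheme.{u}) [X.Over (Spec (CommRingCat.of k))] [IsProper (X ↘ Spec (CommRingCat.of k))]
    [Smooth (X ↘ Spec (CommRingCat.of k))] [IrreducibleSpace X] (n : ℕ) (hn : topologicalKrullDim X = n) (hnp : n ≤ p)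
    (Xl : Scheme.{u}) (g : Xl ⟶ Spec (CommRingCat.of (FrobAlg.W2 p k))) [Flat g] (i : X ⟶ Xl)
    (hlift : IsPullback i (X ↘ Spec (CommRingCat.of k)) g (Spec.map (CommRingCat.ofHom (FrobAlg.res p k))))
    {r : ℕ} (D : Fin r → X.IdealSheafData) (hD : LogNCD.IsNCD D (X ↘ Spec (CommRingCat.of k))) (α : Fin r → ℕ) (hα : ∀ j, 1 ≤ α j)
    (Dl : Fin r → Xl.IdealSheafData) (hDl : ∀ j, (Dl j).comap i = D j) (hDlf : ∀ j, Flat ((Dl j).subschemeι ≫ g))
    (L Linv : X.Modules) (hL : PicF.IsInvertible L) (hLinv : ClSub.IsInverseOf Linv L)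
    (Ll : Xl.Modules) (hLl : PicF.IsInvertible Ll) (hLlift : Nonempty ((Scheme.Modules.pullback i).obj Ll ≅ L))
    (ν₀ : ℕ) (hamp : ∀ ν : ℕ, CohB1.IsAmple (CohB1.tensorMod (CohB1.tensorPow L (ν₀ + ν)) (ClSub.idealMod (∏ j, D j ^ α j))))
    {Ω' : X.Modules} (d : OmegaSh.Der (X ↘ Spec (CommRingCat.of k)) Ω') (hd : OmegaSh.IsUniversal d) (Λ : LogNCD.LogMod d D) (a : ℕ) (La : X.Modules) (hLa : ExtPow.IsExtPow a Λ.L La)
    (b : ℕ) (hab : a + b < n) :
    Subsingleton (Coh.HH X (CohB1.tensorMod La Linv) b) := by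
  exact K911.MainP.s17121 K911.CoreProof.coreP p k X n hn hnp Xl g i hlift D hD α Dl hDl hDlf L Linv hL hLinv ν₀ hamp d hd Λ a La hLa b hab

end Groth.Agent.S17121
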