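import Groth.Statements.S17122
import Groth.Agent.Vanish.K912.KolFin
-- import your own Groth.Agent.* helpers here

set_option autoImplicit false
universe u
open CategoryTheory CategoryTheory.Limits AlgebraicGeometry
open Vanish

namespace Groth.Agent.S17122

/-- Let k be an algebraically closed field of characteristic zero, X an irreducible proper smooth
k-scheme of dimension n with an ample invertible O_X-module and Z an integral proper k-scheme with
an ample invertible O_Z-module (so f below is a surjective morphism of projective varieties with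
non-singular source); let f : X → Z be a surjective k-morphism and ω an n-th exterior power of
Ω_{X/k}. Let L be an invertible O_X-module, N ≥ 1 and D = Σ α_j D_j a normal crossing divisor with 0
< α_j < N, the reduced components D_1, …, D_r being quasi-coherent ideal sheaves forming a strict
normal crossing divisor; write M = L^N(−D) = L^⊗N ⊗ ∏ 𝓘_{D_j}^{α_j} and let M⁻¹ be a tensor inverse
of M. Assume M is numerically effective with ν(M) = κ(M) — for some natural number m, (M^(m+1) · V)
= 0 for all integral closed V of dimension m + 1 while (M^m · V) ≠ 0 for some integral closed V of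
dimension m, and dim_k H^0(X, M^⊗νμ) is bounded below by a positive multiple of μ^m for some ν > 0
and all μ ≥ 1 but admits no such bound with exponent m + 1 (intersection numbers computed with M⁻¹)
— and that some M^⊗μ with μ > 0 receives a monomorphism from f^*𝓗 for an ample invertible O_Z-module
𝓗. Then H^c(Z, R^b f_*(ω ⊗ L)) = 0 for every b and every c > 0. -/
theorem result (k : Type u) [Field k] [IsAlgClosed k] [CharZero k]
    (X : Scheme.{u}) [X.Over (Spec (CommRingCat.of k))] [IsProper (X ↘ Spec (CommRingCat.of k))]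
    [Smooth (X ↘ Spec (CommRingCat.of k))] [IrreducibleSpace X] (n : ℕ) (hn : topologicalKrullDim X = n)
    (HX : X.Modules) (hHX : CohB1.IsAmple HX)
    (Z : Scheme.{u}) [Z.Over (Spec (CommRingCat.of k))] [IsIntegral Z] [IsProper (Z ↘ Spec (CommRingCat.of k))]
    (HZ : Z.Modules) (hHZ : CohB1.IsAmple HZ)
    (f : X ⟶ Z) (hf : f ≫ (Z ↘ Spec (CommRingCat.of k)) = X ↘ Spec (CommRingCat.of k)) [Surjective f]
    (ω : X.Modules) (hω : ExtPow.IsExtPow n (Omega.sheaf (X ↘ Spec (CommRingCat.of k))) ω)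
    (L : X.Modules) (hL : PicF.IsInvertible L)
    (N : ℕ) (hN : 1 ≤ N) {r : ℕ} (D : Fin r → X.IdealSheafData) (hD : LogNCD.IsNCD D (X ↘ Spec (CommRingCat.of k)))
    (α : Fin r → ℕ) (hα : ∀ j, 0 < α j ∧ α j < N)
    (Minv : X.Modules) (hMinv : ClSub.IsInverseOf Minv (CohB1.tensorMod (CohB1.tensorPow L N) (ClSub.idealMod (∏ j, D j ^ α j))))
    (hnef : (∀ (Y : Scheme.{u}) (i : Y ⟶ X) [IsClosedImmersion i], IsIntegral Y → topologicalKrullDim Y = 1 →
      0 ≤ Pic13.curveDeg k (i ≫ (X ↘ Spec (CommRingCat.of k))) ((Scheme.Modules.pullback i).obj (CohB1.tensorMod (CohB1.tensorPow L N) (ClSub.idealMod (∏ j, D j ^ α j))))))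
    (hgood : ∃ m : ℕ, ((∀ (V : Scheme.{u}) (i : V ⟶ X) [IsClosedImmersion i], IsIntegral V → topologicalKrullDim V = ((m + 1) : ℕ) →
          FGA.intNum k X n (fun _ : Fin (m + 1) => Minv) ((Scheme.Modules.pushforward i).obj (Coh.structureModule V)) = 0) ∧ ¬ (∀ (V : Scheme.{u}) (i : V ⟶ X) [IsClosedImmersion i], IsIntegral V → topologicalKrullDim V = ((m) : ℕ) →
          FGA.intNum k X n (fun _ : Fin (m) => Minv) ((Scheme.Modules.pushforward i).obj (Coh.structureModule V)) = 0)) ∧ ((∃ ν a : ℕ, 0 < ν ∧ 0 < a ∧ ∀ μ : ℕ, 1 ≤ μ →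
          μ ^ (m) ≤ a * Module.finrank k (Coh.HH X (CohB1.tensorPow (CohB1.tensorMod (CohB1.tensorPow L N) (ClSub.idealMod (∏ j, D j ^ α j))) (ν * μ)) 0)) ∧ ¬ (∃ ν a : ℕ, 0 < ν ∧ 0 < a ∧ ∀ μ : ℕ, 1 ≤ μ →
          μ ^ (m + 1) ≤ a * Module.finrank k (Coh.HH X (CohB1.tensorPow (CohB1.tensorMod (CohB1.tensorPow L N) (ClSub.idealMod (∏ j, D j ^ α j))) (ν * μ)) 0))))
    (hcont : ∃ (μ : ℕ) (Ha : Z.Modules) (φ : (Scheme.Modules.pullback f).obj Ha ⟶ CohB1.tensorPow (CohB1.tensorMod (CohB1.tensorPow L N) (ClSub.idealMod (∏ j, D j ^ α j))) μ), 0 < μ ∧ CohB1.IsAmple Ha ∧ Mono φ)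
    [HasInjectiveResolutions X.Modules] (b c : ℕ) (hc : 0 < c) :
    Subsingleton (Coh.HH Z ((Coh.Rpush f b).obj (CohB1.tensorMod ω L)) c) :=
  Vanish.K912.KolRows.row17122 k (Vanish.K912.KolFin.kolvD k) (K909.AltThm.alt k) (Vanish.K912.KolFin.dlem k) (K31.GoodIit.iit k) X n hn HX hHX Z HZ hHZ f hf ω hω L hL N hN D hD α hα Minv hMinv hnef hgood hcont b c hc

end Groth.Agent.S17122
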