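import Groth.Statements.S19525
import Groth.Agent.Vanish.K31.GoodRow
import Groth.Agent.Vanish.K31.GoodIit
import Groth.Agent.Vanish.K31.Dlem
import Groth.Agent.Vanish.K88.Sat
import Groth.Agent.Vanish.K909.AltThm
import Groth.Agent.S17103

set_option autoImplicit false
universe u
open CategoryTheory CategoryTheory.Limits AlgebraicGeometry
open Vanish

namespace Groth.Agent.S19525

/-- Let k be an algebraically closed field of characteristic zero and X an irreducible proper smooth
k-scheme of dimension n with an ample invertible O_X-module (a projective manifold). Let L be an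
invertible O_X-module with tensor inverse L⁻¹ which is numerically effective (non-negative degree on
every integral one-dimensional closed subscheme) and whose numerical dimension equals its Iitaka
dimension: for some natural number m the intersection numbers (L^(m+1) · V) vanish for all integral
closed subschemes V of dimension m + 1 while (L^m · V) ≠ 0 for some integral closed V of dimension
m, and for some ν > 0 the dimensions dim_k H^0(X, L^⊗νμ) are bounded below by a positive constant
times μ^m for all μ ≥ 1 while no such bound with exponent m + 1 holds for any ν. Let I ⊂ O_X be a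
quasi-coherent ideal which is an invertible O_X-module (the ideal of an effective Cartier divisor B)
such that H^0(X, L^⊗ν ⊗ I) ≠ 0 for some ν > 0. Then for every b the natural map H^b(X, L⁻¹ ⊗ I) →
H^b(X, L⁻¹), induced by I ⊂ O_X and the unit isomorphism L⁻¹ ⊗ O_X ≅ L⁻¹, is surjective. (The
published statement allows a normal crossing divisor D = Σ α_j D_j and an exponent N with 0 < α_j <
N: the numerical effectivity, the equality of numerical and Iitaka dimension and the non-vanishing
of a twisted section are asked of L^N(−D), while the conclusion is the same surjectivity for L⁻¹;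
this row takes D = 0 and N = 1.) -/
theorem result (k : Type u) [Field k] [IsAlgClosed k] [CharZero k]
    (X : Scheme.{u}) [X.Over (Spec (CommRingCat.of k))] [IsProper (X ↘ Spec (CommRingCat.of k))]
    [Smooth (X ↘ Spec (CommRingCat.of k))] [IrreducibleSpace X] (n : ℕ) (hn : topologicalKrullDim X = n)
    (H : X.Modules) (hH : CohB1.IsAmple H)
    (L Linv : X.Modules) (hL : PicF.IsInvertible L) (hLinv : ClSub.IsInverseOf Linv L)
    (hnef : (∀ (Y : Scheme.{u}) (i : Y ⟶ X) [IsClosedImmersion i], IsIntegral Y → topologicalKrullDim Y = 1 →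
      0 ≤ Pic13.curveDeg k (i ≫ (X ↘ Spec (CommRingCat.of k))) ((Scheme.Modules.pullback i).obj L)))
    (hgood : (∃ m : ℕ, ((∀ (V : Scheme.{u}) (i : V ⟶ X) [IsClosedImmersion i], IsIntegral V → topologicalKrullDim V = ((m + 1) : ℕ) →
          FGA.intNum k X n (fun _ : Fin (m + 1) => Linv) ((Scheme.Modules.pushforward i).obj (Coh.structureModule V)) = 0) ∧ ¬ (∀ (V : Scheme.{u}) (i : V ⟶ X) [IsClosedImmersion i], IsIntegral V → topologicalKrullDim V = ((m) : ℕ) →
          FGA.intNum k X n (fun _ : Fin (m) => Linv) ((Scheme.Modules.pushforward i).obj (Coh.structureModule V)) = 0)) ∧ ((∃ ν a : ℕ, 0 < ν ∧ 0 < a ∧ ∀ μ : ℕ, 1 ≤ μ →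
          μ ^ (m) ≤ a * Module.finrank k (Coh.HH X (CohB1.tensorPow L (ν * μ)) 0)) ∧ ¬ (∃ ν a : ℕ, 0 < ν ∧ 0 < a ∧ ∀ μ : ℕ, 1 ≤ μ →
          μ ^ (m + 1) ≤ a * Module.finrank k (Coh.HH X (CohB1.tensorPow L (ν * μ)) 0)))))
    (I : X.IdealSheafData) (hI : PicF.IsInvertible (ClSub.idealMod I))
    (hsec : ∃ ν : ℕ, 0 < ν ∧ Nontrivial (Coh.HH X (CohB1.tensorMod (CohB1.tensorPow L ν) (ClSub.idealMod I)) 0))
    (b : ℕ) :
    Function.Surjective (Sheaf.H.map ((SheafOfModules.toSheaf X.ringCatSheaf).map
      (KoszTw.tensorMap (𝟙 Linv) (ClSub.idealModι I) ≫ (SecTwist.unitorR Linv).hom)) b) := by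
  have hEV : K660.KolUp.EV.{u} k := fun X _ _ _ _ n hn H hH L Linv hL hLinv N hN r D hD a ha h mu b =>
    Groth.Agent.S17103.result k X n hn H hH L Linv hL hLinv N hN D hD a ha h mu b
  exact K31.GoodRow.row19525 k (K909.AltThm.alt k) hEV (K31.Dlem.dlem fun ψ _ hconn => K88.Sat.sat ψ hconn)
    (K31.GoodIit.iit k) X n hn H hH L Linv hL hLinv hnef hgood I hI hsec b

end Groth.Agent.S19525
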