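import Groth.Statements.S17123
import Groth.Agent.Vanish.K31.Rows
import Groth.Agent.S19525
import Groth.Agent.S16903
import Groth.Agent.S17401

set_option autoImplicit false
universe u
open CategoryTheory CategoryTheory.Limits AlgebraicGeometry
open Vanish

namespace Groth.Agent.S17123

/-- Let k be an algebraically closed field of characteristic zero and X an irreducible proper smooth
k-scheme of dimension n with an ample invertible O_X-module (a projective manifold; the published
statement is over a field of characteristic zero). Let L be an invertible O_X-module with tensor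
inverse L⁻¹, N ≥ 1, and D = Σ α_j D_j a normal crossing divisor with 0 < α_j < N, the reduced
components D_1, …, D_r being quasi-coherent ideal sheaves forming a strict normal crossing divisor;
write M = L^N(−D) = L^⊗N ⊗ ∏ 𝓘_{D_j}^{α_j} and let M⁻¹ be a tensor inverse. Assume M is numerically
effective (non-negative degree on every integral one-dimensional closed subscheme) with κ(M) = ν(M):
for some natural number m, (M^(m+1) · V) = 0 for all integral closed V of dimension m + 1 while (M^m
· V) ≠ 0 for some integral closed V of dimension m (intersection numbers computed with M⁻¹), and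
dim_k H^0(X, M^⊗νμ) is bounded below by a positive multiple of μ^m for some ν > 0 and all μ ≥ 1 but
admits no such bound with exponent m + 1. If B is an effective Cartier divisor — a quasi-coherent
ideal I_B whose ideal sheaf is an invertible module — with H^0(X, M^⊗ν ⊗ I_B) ≠ 0 for some ν > 0,
then for every b the natural map H^b(X, L⁻¹ ⊗ I_B) → H^b(X, L⁻¹), induced by I_B ⊆ O_X and the unit
isomorphism, is surjective. -/
theorem result (k : Type u) [Field k] [IsAlgClosed k] [CharZero k]
    (X : Scheme.{u}) [X.Over (Spec (CommRingCat.of k))] [IsProper (X ↘ Spec (CommRingCat.of k))]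
    [Smooth (X ↘ Spec (CommRingCat.of k))] [IrreducibleSpace X] (n : ℕ) (hn : topologicalKrullDim X = n)
    (H : X.Modules) (hH : CohB1.IsAmple H)
    (L Linv : X.Modules) (hL : PicF.IsInvertible L) (hLinv : ClSub.IsInverseOf Linv L)
    (N : ℕ) (hN : 1 ≤ N) {r : ℕ} (D : Fin r → X.IdealSheafData) (hD : LogNCD.IsNCD D (X ↘ Spec (CommRingCat.of k)))
    (α : Fin r → ℕ) (hα : ∀ j, 0 < α j ∧ α j < N)
    (Minv : X.Modules) (hMinv : ClSub.IsInverseOf Minv (CohB1.tensorMod (CohB1.tensorPow L N) (ClSub.idealMod (∏ j, D j ^ α j))))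
    (hnef : (∀ (Y : Scheme.{u}) (i : Y ⟶ X) [IsClosedImmersion i], IsIntegral Y → topologicalKrullDim Y = 1 →
      0 ≤ Pic13.curveDeg k (i ≫ (X ↘ Spec (CommRingCat.of k))) ((Scheme.Modules.pullback i).obj (CohB1.tensorMod (CohB1.tensorPow L N) (ClSub.idealMod (∏ j, D j ^ α j))))))
    (hgood : ∃ m : ℕ, ((∀ (V : Scheme.{u}) (i : V ⟶ X) [IsClosedImmersion i], IsIntegral V → topologicalKrullDim V = ((m + 1) : ℕ) →
          FGA.intNum k X n (fun _ : Fin (m + 1) => Minv) ((Scheme.Modules.pushforward i).obj (Coh.structureModule V)) = 0) ∧ ¬ (∀ (V : Scheme.{u}) (i : V ⟶ X) [IsClosedImmersion i], IsIntegral V → topologicalKrullDim V = ((m) : ℕ) →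
          FGA.intNum k X n (fun _ : Fin (m) => Minv) ((Scheme.Modules.pushforward i).obj (Coh.structureModule V)) = 0)) ∧ ((∃ ν a : ℕ, 0 < ν ∧ 0 < a ∧ ∀ μ : ℕ, 1 ≤ μ →
          μ ^ (m) ≤ a * Module.finrank k (Coh.HH X (CohB1.tensorPow (CohB1.tensorMod (CohB1.tensorPow L N) (ClSub.idealMod (∏ j, D j ^ α j))) (ν * μ)) 0)) ∧ ¬ (∃ ν a : ℕ, 0 < ν ∧ 0 < a ∧ ∀ μ : ℕ, 1 ≤ μ →
          μ ^ (m + 1) ≤ a * Module.finrank k (Coh.HH X (CohB1.tensorPow (CohB1.tensorMod (CohB1.tensorPow L N) (ClSub.idealMod (∏ j, D j ^ α j))) (ν * μ)) 0))))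
    (I : X.IdealSheafData) (hI : PicF.IsInvertible (ClSub.idealMod I))
    (hsec : ∃ ν : ℕ, 0 < ν ∧ Nontrivial (Coh.HH X (CohB1.tensorMod (CohB1.tensorPow (CohB1.tensorMod (CohB1.tensorPow L N) (ClSub.idealMod (∏ j, D j ^ α j))) ν) (ClSub.idealMod I)) 0))
    (b : ℕ) :
    Function.Surjective (Sheaf.H.map ((SheafOfModules.toSheaf X.ringCatSheaf).map (LogNCD.inclTwist Linv I)) b) := by
  exact K31.Rows.good (fun f _ _ _ _ A hA hAmp r D hD Nj hN hNk => Groth.Agent.S17401.result f A hA hAmp D hD Nj hN hNk) (fun X _ _ _ _ n hn H hH L Linv hL hLinv hnef hgood I hI hsec b =>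
      Groth.Agent.S19525.result k X n hn H hH L Linv hL hLinv hnef hgood I hI hsec b)
    (fun X _ _ _ _ n hn H hH L Linv hL hLinv hnef m hm => Groth.Agent.S16903.result k X n hn H hH L Linv hL hLinv hnef m hm)
    X n hn H hH L Linv hL hLinv N hN D hD α (fun j => (hα j).2) Minv hMinv hnef hgood I hI hsec b

end Groth.Agent.S17123
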