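import Groth.Statements.S17124
import Groth.Agent.Vanish.K104.Asm17124
import Groth.Agent.Vanish.K102.NcdPush
import Groth.Agent.S17114

set_option autoImplicit false
universe u
open CategoryTheory CategoryTheory.Limits AlgebraicGeometry
open Vanish

namespace Groth.Agent.S17124

/-- Let k be an algebraically closed field of characteristic zero and X an irreducible smooth separated
k-scheme of finite type (a manifold), L an invertible O_X-module with tensor inverse L⁻¹, N ≥ 1, and
D = Σ α_j D_j a divisor on X whose components D_1, …, D_r are quasi-coherent ideal sheaves forming a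
strict normal crossing divisor. Let X' be an integral smooth k-scheme and τ : X' → X a proper
birational k-morphism such that Δ = τ^*D is again a normal crossing divisor: there are
quasi-coherent ideals Δ_1, …, Δ_s on X' forming a strict normal crossing divisor with τ^*D_j = Σ_k
m_{jk} Δ_k, i.e. the ideal of D_j pulled back along τ equals ∏_k 𝓘_{Δ_k}^{m_{jk}}. For i ≥ 0 write
[iΔ/N] = Σ_k ⌊i (Σ_j α_j m_{jk}) / N⌋ Δ_k and let P be a tensor inverse of its ideal, P =
O_{X'}([iΔ/N]). Then for M = τ^*L the higher direct images of (M^{(i)})⁻¹ = M^{−i}([iΔ/N]) vanish: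
R^b τ_*(τ^*((L⁻¹)^⊗i) ⊗ P) = 0 for every b > 0. (The published claim is made for X a projective
manifold and multiplicities 0 < α_j < N; this row assumes neither, taking X a manifold and arbitrary
α_j, because the vanishing is local on X and, by the projection formula, unchanged when [iΔ/N] is
altered by an integral divisor pulled back from X. The published claim also identifies the direct
image in degree 0 with L^{−i}([iD/N]); that part is not stated.) -/
theorem result (k : Type u) [Field k] [IsAlgClosed k] [CharZero k]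
    (X : Scheme.{u}) [X.Over (Spec (CommRingCat.of k))] [IrreducibleSpace X] [Smooth (X ↘ Spec (CommRingCat.of k))]
    [IsSeparated (X ↘ Spec (CommRingCat.of k))] [LocallyOfFiniteType (X ↘ Spec (CommRingCat.of k))] [CompactSpace X]
    (L Linv : X.Modules) (hL : PicF.IsInvertible L) (hLinv : ClSub.IsInverseOf Linv L)
    (N : ℕ) (hN : 1 ≤ N) {r : ℕ} (D : Fin r → X.IdealSheafData) (hD : LogNCD.IsNCD D (X ↘ Spec (CommRingCat.of k))) (α : Fin r → ℕ)
    (X' : Scheme.{u}) [X'.Over (Spec (CommRingCat.of k))] [IsIntegral X'] [Smooth (X' ↘ Spec (CommRingCat.of k))]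
    (τ : X' ⟶ X) (hτ : τ ≫ (X ↘ Spec (CommRingCat.of k)) = X' ↘ Spec (CommRingCat.of k)) [IsProper τ]
    (hbir : RadPt.IsBirational τ)
    {s : ℕ} (Δ : Fin s → X'.IdealSheafData) (hΔ : LogNCD.IsNCD Δ (X' ↘ Spec (CommRingCat.of k)))
    (m : Fin r → Fin s → ℕ) (hm : ∀ j, (D j).comap τ = ∏ c, Δ c ^ m j c)
    (i : ℕ) (P : X'.Modules)
    (hP : ClSub.IsInverseOf P (ClSub.idealMod (∏ c, Δ c ^ ((i * ∑ j, α j * m j c) / N))))
    [HasInjectiveResolutions X'.Modules] (b : ℕ) (hb : 0 < b) :
    IsZero ((Coh.Rpush τ b).obj (CohB1.tensorMod ((Scheme.Modules.pullback τ).obj (CohB1.tensorPow Linv i)) P)) := by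
  have van : K104.Asm17124.Van.{u} k := fun X _ _ _ n hn Z _ _ _ _ _ f hf _ _ hbir Δ hΔ _ D hD α hΔD N hN ω hω _ b hb =>
    Groth.Agent.S17114.result k X n hn Z f hf hbir Δ hΔ D hD α hΔD N hN ω hω b hb
  have push : K104.Asm17124.Push.{u} k :=
    fun n X X' f τ _ _ _ _ _ _ _ hbir W hW W₁ hW₁ r D hD s Δ hΔ m hm N hN β =>
      K102.NcdPush.main n f τ hbir hW hW₁ D hD Δ hΔ m hm N hN β
  obtain ⟨e⟩ := hLinv
  have hLi : PicF.IsInvertible Linv := (Groth.Agent.Dix.IdealModCartier.isInvertible_of_isInverseOf ⟨e⟩).1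
  exact K104.Asm17124.row17124 k van push X Linv hLi N hN D hD α X' τ hτ hbir Δ hΔ m hm i P hP b hb

end Groth.Agent.S17124
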