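import Groth.Statements.S17125
import Groth.Agent.Vanish.K911.SurjP
import Groth.Agent.Vanish.K911.Row125
import Groth.Agent.DelIll.K911.CoreProof

set_option autoImplicit false
universe u
open CategoryTheory CategoryTheory.Limits AlgebraicGeometry
open Vanish

namespace Groth.Agent.S17125

/-- Let k be an algebraically closed field of characteristic p > 0 and X an irreducible proper smooth
k-scheme of dimension n with an ample invertible O_X-module (a projective manifold), with n ≤ p. Let
D_1, …, D_r be quasi-coherent ideal sheaves forming a strict normal crossing divisor such that (X,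
D) admits a lifting to the Witt vectors of length two: a flat g : X~ → Spec W_2(k) with a morphism i
: X → X~ cartesian over Spec k → Spec W_2(k), and closed subschemes D~_j of X~ flat over W_2(k)
whose ideals pull back along i to those of the D_j. Let L be an invertible O_X-module with tensor
inverse L⁻¹, N ≥ 1 prime to p, and 0 < α_j < N multiplicities with L^N ≅ O_X(Σ α_j D_j), i.e. L^⊗N
is a tensor inverse of ∏ 𝓘_{D_j}^{α_j}; let D' = Σ μ_j D_j be effective with α_j + μN not divisible
by p for all j and all 0 ≤ μ ≤ μ_j − 1. Then for every b the natural map H^b(X, L⁻¹(−D')) = H^b(X,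
L⁻¹ ⊗ ∏ 𝓘_{D_j}^{μ_j}) → H^b(X, L⁻¹) is surjective. (This is the positive-characteristic version of
part (a); the version of part (b) with an extra reduced divisor C and the dual injectivity
statements are not stated.) -/
theorem result (p : ℕ) [Fact p.Prime]
    (k : Type u) [Field k] [IsAlgClosed k] [CharP k p]
    (X : Scheme.{u}) [X.Over (Spec (CommRingCat.of k))] [IsProper (X ↘ Spec (CommRingCat.of k))]
    [Smooth (X ↘ Spec (CommRingCat.of k))] [IrreducibleSpace X] (n : ℕ) (hn : topologicalKrullDim X = n) (hnp : n ≤ p)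
    (H : X.Modules) (hH : CohB1.IsAmple H)
    (Xl : Scheme.{u}) (g : Xl ⟶ Spec (CommRingCat.of (FrobAlg.W2 p k))) [Flat g] (i : X ⟶ Xl)
    (hlift : IsPullback i (X ↘ Spec (CommRingCat.of k)) g (Spec.map (CommRingCat.ofHom (FrobAlg.res p k))))
    {r : ℕ} (D : Fin r → X.IdealSheafData) (hD : LogNCD.IsNCD D (X ↘ Spec (CommRingCat.of k)))
    (Dl : Fin r → Xl.IdealSheafData) (hDl : ∀ j, (Dl j).comap i = D j) (hDlf : ∀ j, Flat ((Dl j).subschemeι ≫ g))
    (L Linv : X.Modules) (hL : PicF.IsInvertible L) (hLinv : ClSub.IsInverseOf Linv L)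
    (N : ℕ) (hN : 1 ≤ N) (hNp : Nat.Coprime N p) (α : Fin r → ℕ) (hα : ∀ j, 0 < α j ∧ α j < N)
    (hLN : ClSub.IsInverseOf (CohB1.tensorPow L N) (ClSub.idealMod (∏ j, D j ^ α j)))
    (μ : Fin r → ℕ) (hμ : ∀ (j : Fin r) (c : ℕ), c < μ j → ¬ p ∣ α j + c * N) (b : ℕ) :
    Function.Surjective (Sheaf.H.map ((SheafOfModules.toSheaf X.ringCatSheaf).map
      (LogNCD.inclTwist Linv (∏ j, D j ^ μ j))) b) := by
  exact K911.Row125.s17125 (K911.SurjP.surjP K911.CoreProof.coreP K911.CoreProof.coreS) p k X n hn hnp H hH Xl g i hlift D hD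
    Dl hDl hDlf L Linv hL hLinv N hN hNp α hα hLN μ hμ b

end Groth.Agent.S17125
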