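import Groth.Statements.S17126
import Groth.Agent.Vanish.K95.KolGlue

set_option autoImplicit false
universe u
open CategoryTheory CategoryTheory.Limits AlgebraicGeometry
open Vanish

namespace Groth.Agent.S17126

/-- Let k be an algebraically closed field of characteristic zero, X an irreducible proper smooth
k-scheme of dimension n with an ample invertible O_X-module and Z an integral proper k-scheme of
dimension m with an ample invertible O_Z-module (so f below is a surjective morphism of projective
varieties with non-singular source); let f : X → Z be a surjective k-morphism and ω an n-th exterior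
power of Ω_{X/k}. Let L be an invertible O_X-module, N ≥ 1 and D = Σ α_j D_j a normal crossing
divisor with 0 < α_j < N, the reduced components D_1, …, D_r being quasi-coherent ideal sheaves
forming a strict normal crossing divisor, such that L^N(−D) = L^⊗N ⊗ ∏ 𝓘_{D_j}^{α_j} is semi-ample
(some positive tensor power is globally generated). Let K be a numerically effective invertible
O_Z-module (non-negative degree on every integral one-dimensional closed subscheme of Z) with κ(K) =
dim Z in the growth form: for some ν > 0 and a > 0 one has μ^m ≤ a · dim_k H^0(Z, K^⊗νμ) for all μ ≥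
1. Then H^c(Z, K ⊗ R^b f_*(ω ⊗ L)) = 0 for every b ≥ 0 and every c > 0. -/
theorem result (k : Type u) [Field k] [IsAlgClosed k] [CharZero k]
    (X : Scheme.{u}) [X.Over (Spec (CommRingCat.of k))] [IsProper (X ↘ Spec (CommRingCat.of k))]
    [Smooth (X ↘ Spec (CommRingCat.of k))] [IrreducibleSpace X] (n : ℕ) (hn : topologicalKrullDim X = n)
    (HX : X.Modules) (hHX : CohB1.IsAmple HX)
    (Z : Scheme.{u}) [Z.Over (Spec (CommRingCat.of k))] [IsIntegral Z] [IsProper (Z ↘ Spec (CommRingCat.of k))]
    (m : ℕ) (hm : topologicalKrullDim Z = m) (HZ : Z.Modules) (hHZ : CohB1.IsAmple HZ)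
    (f : X ⟶ Z) (hf : f ≫ (Z ↘ Spec (CommRingCat.of k)) = (X ↘ Spec (CommRingCat.of k))) [Surjective f]
    (ω : X.Modules) (hω : ExtPow.IsExtPow n (Omega.sheaf (X ↘ Spec (CommRingCat.of k))) ω)
    (L : X.Modules) (hL : PicF.IsInvertible L)
    (N : ℕ) (hN : 1 ≤ N) {r : ℕ} (D : Fin r → X.IdealSheafData) (hD : LogNCD.IsNCD D (X ↘ Spec (CommRingCat.of k)))
    (α : Fin r → ℕ) (hα : ∀ j, 0 < α j ∧ α j < N)
    (hsa : ∃ μ : ℕ, 0 < μ ∧ Curv2.IsGloballyGenerated (CohB1.tensorPow (CohB1.tensorMod (CohB1.tensorPow L N) (ClSub.idealMod (∏ j, D j ^ α j))) μ))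
    (K : Z.Modules) (hK : PicF.IsInvertible K)
    (hKnef : (∀ (Y : Scheme.{u}) (i : Y ⟶ Z) [IsClosedImmersion i], IsIntegral Y → topologicalKrullDim Y = 1 →
      0 ≤ Pic13.curveDeg k (i ≫ (Z ↘ Spec (CommRingCat.of k))) ((Scheme.Modules.pullback i).obj K)))
    (hKbig : ∃ ν a : ℕ, 0 < ν ∧ 0 < a ∧ ∀ μ : ℕ, 1 ≤ μ →
        μ ^ m ≤ a * Module.finrank k (Coh.HH Z (CohB1.tensorPow K (ν * μ)) 0))
    [HasInjectiveResolutions X.Modules] (b c : ℕ) (hc : 0 < c) :
    Subsingleton (Coh.HH Z (CohB1.tensorMod K ((Coh.Rpush f b).obj (CohB1.tensorMod ω L))) c) := by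
  exact Groth.Agent.Vanish.K912.KolRows.row17126 k (K95.KolGlue.kolvD k) X n hn HX hHX Z m hm HZ hHZ f hf ω hω L hL N hN D hD α hα hsa K hK
    hKnef hKbig b c hc

end Groth.Agent.S17126
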