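import Groth.Statements.S17129
import Groth.Agent.Lift.K235.LogPair

set_option autoImplicit false
universe u
open CategoryTheory CategoryTheory.Limits AlgebraicGeometry
open Lift

namespace Groth.Agent.S17129

/-- Let p be a prime, S~ a scheme flat over Z/p² with reduction S = S~ ×_{Z/p²} F_p (i : S → S~ the
cartesian closed immersion), S noetherian, and f : X → S smooth with X affine; let D_1, …, D_r be
quasi-coherent ideal sheaves on X forming a strict normal crossing divisor relative to S. Any two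
liftings of (X, D) to S~ — flat g_m : X~_m → S~ with j_m : X → X~_m cartesian over i, together with
closed subschemes D~_{m,1}, …, D~_{m,r} of X~_m flat over S~ whose ideals pull back along j_m to
those of the D_l (m = 1, 2) — are isomorphic as liftings: there is an isomorphism e : X~_1 ≅ X~_2
over S~ restricting to the identity of X (j_1 ≫ e = j_2, e ≫ g_2 = g_1) under which the ideal of the
divisor D~_2 = Σ_l D~_{2,l}, i.e. the product ∏_l 𝓘_{D~_{2,l}}, pulls back to that of D~_1. -/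
theorem result (p : ℕ) [Fact p.Prime]
    (Sl : Scheme.{u}) (gS : Sl ⟶ Spec (CommRingCat.of (ULift.{u} (ZMod (p ^ 2))))) [Flat gS]
    (S : Scheme.{u}) (iS : S ⟶ Sl) (fS : S ⟶ Spec (CommRingCat.of (ULift.{u} (ZMod p))))
    (hS : IsPullback iS fS gS (Spec.map (CommRingCat.ofHom
      ((ZMod.castHom (dvd_pow_self p two_ne_zero) (ULift.{u} (ZMod p))).comp
        (ULift.ringEquiv : ULift.{u} (ZMod (p ^ 2)) ≃+* ZMod (p ^ 2)).toRingHom))))
    [IsNoetherian S]
    (X : Scheme.{u}) [IsAffine X] (f : X ⟶ S) [Smooth f]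
    (X₁ X₂ : Scheme.{u}) (g₁ : X₁ ⟶ Sl) (g₂ : X₂ ⟶ Sl) [Flat g₁] [Flat g₂]
    (j₁ : X ⟶ X₁) (j₂ : X ⟶ X₂) (h₁ : IsPullback j₁ f g₁ iS) (h₂ : IsPullback j₂ f g₂ iS)
    {r : ℕ} (D : Fin r → X.IdealSheafData) (hD : LogNCD.IsNCD D f)
    (D₁ : Fin r → X₁.IdealSheafData) (D₂ : Fin r → X₂.IdealSheafData)
    (hD₁ : ∀ m, (D₁ m).comap j₁ = D m) (hD₂ : ∀ m, (D₂ m).comap j₂ = D m)
    (hD₁f : ∀ m, Flat ((D₁ m).subschemeι ≫ g₁)) (hD₂f : ∀ m, Flat ((D₂ m).subschemeι ≫ g₂)) :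
    ∃ e : X₁ ≅ X₂, j₁ ≫ e.hom = j₂ ∧ e.hom ≫ g₂ = g₁ ∧ (∏ m, D₂ m).comap e.hom = ∏ m, D₁ m := by
  have hrS : K235.Thick.IsRed p iS := K235.Thick.isRed_of_isPullback p gS iS fS hS
  have hr₁ : K235.Thick.IsRed p j₁ :=
    K235.Thick.isRed_of_isPullback p (g₁ ≫ gS) j₁ (f ≫ fS) (h₁.paste_vert hS)
  have hr₂ : K235.Thick.IsRed p j₂ :=
    K235.Thick.isRed_of_isPullback p (g₂ ≫ gS) j₂ (f ≫ fS) (h₂.paste_vert hS)
  have c0 := hrS.closed
  have s0 := hrS.surjective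
  have c1 := hr₁.closed
  have s1 := hr₁.surjective
  have c2 := hr₂.closed
  have s2 := hr₂.surjective
  have hn : ∀ V : Sl.affineOpens, IsNilpotent (RingHom.ker (iS.app V.1).hom) := fun V => hrS.isNilpotent V
  have hX₁ : IsAffine X₁ := Groth.Agent.Flat2C.AffineThickening.isAffine_of_thickening j₁
  have hX₂ : IsAffine X₂ := Groth.Agent.Flat2C.AffineThickening.isAffine_of_thickening j₂
  have hXl : IsLocallyNoetherian X := LocallyOfFiniteType.isLocallyNoetherian f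
  have hXn : IsNoetherian X := {}
  have hc := K235.Chart.hasCharts_of_isNCD f hD
  have hg₁ : ∀ m, K235.Chart.LiftGen j₁ (D m) (D₁ m) := fun m => by
    have := hD₁f m
    rw [← hD₁ m]
    exact K235.Chart.liftGen_of_flat h₁ hn (D₁ m)
  have hg₂ : ∀ m, K235.Chart.LiftGen j₂ (D m) (D₂ m) := fun m => by
    have := hD₂f m
    rw [← hD₂ m]
    exact K235.Chart.liftGen_of_flat h₂ hn (D₂ m)
  have hc₂ := K235.Chart.hasCharts_lift h₂ hn hc hD₂ hg₂
  obtain ⟨F, hF1, hF2, hF3⟩ := K235.LogMain.exists_log_lift p g₁ g₂ j₁ hr₁ j₂ (by rw [h₁.w, h₂.w]) D₂ hc₂ D₁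
    (K235.LogPair.exists_genAt (fun W => hr₁.isNilpotent W) hc hD₁ hg₁) (fun m => by rw [hD₁ m, hD₂ m])
  have hiso : IsIso F := K235.LogPair.isIso_of_isRed hr₁ hr₂ F hF1
  refine ⟨asIso F, hF1, hF2, ?_⟩
  rw [asIso_hom, K235.LogPair.comap_finset_prod]
  exact Finset.prod_congr rfl fun m _ => hF3 m

end Groth.Agent.S17129
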