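import Groth.Statements.S17131
import Groth.Agent.Variety.K430.Frob
import Groth.Agent.Vanish.K911.Ncd
import Groth.Agent.S13998
import Groth.Agent.Lift.K235.LogPair

set_option autoImplicit false
universe u
open CategoryTheory CategoryTheory.Limits AlgebraicGeometry
open Lift

namespace Groth.Agent.S17131

/-- Let p be a prime, S~ a scheme flat over Z/p² with reduction S = S~ ×_{Z/p²} F_p (i : S → S~ the
cartesian closed immersion), S noetherian of characteristic p, and f : X → S smooth with X affine;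
let X' = X ×_{S,F_S} S be the Frobenius twist, viewed over S by the second projection, F : X → X'
the relative Frobenius, D_1, …, D_r a relative strict normal crossing divisor on X and D'_m =
F_S^*D_m its pullback to X' (along the first projection). Let (X~, D~) be a lifting of (X, D) to S~
— g : X~ → S~ flat with j : X → X~ cartesian over i, and closed subschemes D~_m ⊂ X~ flat over S~
whose ideals pull back along j to those of the D_m — and (X~', D~') a lifting of (X', D') in the
same sense. Then the relative Frobenius lifts compatibly with the divisors: there is a finite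
morphism F~ : X~ → X~' over S~ with j ≫ F~ = F ≫ j' such that the ideal of D~' = Σ D~'_m pulls back
along F~ to the p-th power of the ideal of D~ = Σ D~_m, i.e. F~^*O(−D~') = O(−p·D~). (The section's
standing assumptions also fix a lifting of the Frobenius of S to S~; it is not used and not assumed
here.) -/
theorem result (p : ℕ) [Fact p.Prime]
    (Sl : Scheme.{u}) (gS : Sl ⟶ Spec (CommRingCat.of (ULift.{u} (ZMod (p ^ 2))))) [Flat gS]
    (S : Scheme.{u}) (iS : S ⟶ Sl) (fS : S ⟶ Spec (CommRingCat.of (ULift.{u} (ZMod p))))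
    (hS : IsPullback iS fS gS (Spec.map (CommRingCat.ofHom
      ((ZMod.castHom (dvd_pow_self p two_ne_zero) (ULift.{u} (ZMod p))).comp
        (ULift.ringEquiv : ULift.{u} (ZMod (p ^ 2)) ≃+* ZMod (p ^ 2)).toRingHom))))
    [IsNoetherian S]
    [FrobSch.IsCharP S p]
    (X : Scheme.{u}) [IsAffine X] (f : X ⟶ S) [Smooth f]
    (Xl : Scheme.{u}) (g : Xl ⟶ Sl) [Flat g] (j : X ⟶ Xl) (h : IsPullback j f g iS)
    (Xl' : Scheme.{u}) (g' : Xl' ⟶ Sl) [Flat g'] (j' : FrobSch.frobTwist f p ⟶ Xl')
    (h' : IsPullback j' (pullback.snd f (FrobSch.frob S p)) g' iS)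
    {r : ℕ} (D : Fin r → X.IdealSheafData) (hD : LogNCD.IsNCD D f)
    (Dl : Fin r → Xl.IdealSheafData) (hDl : ∀ m, (Dl m).comap j = D m) (hDlf : ∀ m, Flat ((Dl m).subschemeι ≫ g))
    (Dl' : Fin r → Xl'.IdealSheafData)
    (hDl' : ∀ m, (Dl' m).comap j' = (D m).comap (pullback.fst f (FrobSch.frob S p)))
    (hDl'f : ∀ m, Flat ((Dl' m).subschemeι ≫ g')) :
    ∃ Fl : Xl ⟶ Xl', IsFinite Fl ∧ j ≫ Fl = FrobSch.relFrob f p ≫ j' ∧ Fl ≫ g' = g ∧
      (∏ m, Dl' m).comap Fl = (∏ m, Dl m) ^ p := by
  have hrS : K235.Thick.IsRed p iS := K235.Thick.isRed_of_isPullback p gS iS fS hS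
  have hr : K235.Thick.IsRed p j :=
    K235.Thick.isRed_of_isPullback p (g ≫ gS) j (f ≫ fS) (h.paste_vert hS)
  have hr' : K235.Thick.IsRed p j' :=
    K235.Thick.isRed_of_isPullback p (g' ≫ gS) j' (pullback.snd f (FrobSch.frob S p) ≫ fS) (h'.paste_vert hS)
  have hcX : FrobSch.IsCharP X p := FrobSch.IsCharP.of_hom f p
  have c0 := hrS.closed
  have s0 := hrS.surjective
  have c1 := hr.closed
  have s1 := hr.surjective
  have c2 := hr'.closed
  have s2 := hr'.surjective
  have hn : ∀ V : Sl.affineOpens, IsNilpotent (RingHom.ker (iS.app V.1).hom) := fun V => hrS.isNilpotent V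
  have haf : IsAffineHom (FrobSch.frob S p) := K430.Frob.frob_isAffineHom S p
  have haf' : IsAffineHom (pullback.fst f (FrobSch.frob S p)) := inferInstance
  have hX' : IsAffine (FrobSch.frobTwist f p) := isAffine_of_isAffineHom (pullback.fst f (FrobSch.frob S p))
  have hXl : IsAffine Xl := Groth.Agent.Flat2C.AffineThickening.isAffine_of_thickening j
  have hXl' : IsAffine Xl' := Groth.Agent.Flat2C.AffineThickening.isAffine_of_thickening j'
  have hXn : IsLocallyNoetherian X := LocallyOfFiniteType.isLocallyNoetherian f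
  have hXn' : IsNoetherian X := {}
  have hc := K235.Chart.hasCharts_of_isNCD f hD
  have hDp : LogNCD.IsNCD (fun i => (D i).comap (pullback.fst f (FrobSch.frob S p))) (pullback.snd f (FrobSch.frob S p)) :=
    K911.Ncd.isNCD_of_isPullback (IsPullback.of_hasPullback f (FrobSch.frob S p)) hD
  have hcp := K235.Chart.hasCharts_of_isNCD _ hDp
  have hg : ∀ m, K235.Chart.LiftGen j (D m) (Dl m) := fun m => by
    have := hDlf m
    rw [← hDl m]
    exact K235.Chart.liftGen_of_flat h hn (Dl m)
  have hg' : ∀ m, K235.Chart.LiftGen j' ((D m).comap (pullback.fst f (FrobSch.frob S p))) (Dl' m) := fun m => by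
    have := hDl'f m
    rw [← hDl' m]
    exact K235.Chart.liftGen_of_flat h' hn (Dl' m)
  have hc' := K235.Chart.hasCharts_lift h' hn hcp hDl' hg'
  have hw : j ≫ g = (FrobSch.relFrob f p ≫ j') ≫ g' := by
    rw [h.w, Category.assoc, h'.w, ← Category.assoc, FrobSch.relFrob_snd]
  obtain ⟨F, hF1, hF2, hF3⟩ := K235.LogMain.exists_log_lift p g g' j hr (FrobSch.relFrob f p ≫ j') hw Dl' hc'
    (fun m => Dl m ^ p)
    (fun x => by
      obtain ⟨W, hxW, hW⟩ := K235.LogPair.exists_genAt (fun W => hr.isNilpotent W) hc hDl hg x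
      exact ⟨W, hxW, K235.LogPair.GenAt.pow hW p⟩)
    (fun m => by
      rw [Scheme.IdealSheafData.comap_comp, hDl' m, ← Scheme.IdealSheafData.comap_comp, FrobSch.relFrob_fst,
        Groth.Agent.Divis.IdealComap.comap_pow, hDl m]
      refine K235.LogPair.comap_frob p (D m) fun x => ?_
      obtain ⟨U, hxU, ε, -, hε⟩ := K911.Ncd.isEff_of_isNCD hD m x
      exact ⟨U, hxU, ε, hε⟩)
  have hcart : IsPullback (FrobSch.relFrob f p) j j' F := by
    refine IsPullback.of_right (h₁₂ := pullback.snd f (FrobSch.frob S p)) (h₂₂ := g') (v₁₃ := iS) ?_ hF1.symm h'.flip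
    rw [FrobSch.relFrob_snd, hF2]
    exact h.flip
  refine ⟨F, ?_, hF1, hF2, ?_⟩
  · refine (Groth.Agent.S13998.result F (FrobSch.relFrob f p) j j' ⟨c1, s1⟩ ⟨c2, s2⟩ (fun U => ?_) (fun U => ?_)
      (fun U => ?_) hcart).2 (K430.Frob.relFrob_isFinite p f)
    · rw [Scheme.Hom.ker_apply]
      exact hr.isNilpotent U
    · rw [Scheme.Hom.ker_apply]
      exact hr'.isNilpotent U
    · rw [hr'.ker U]
      exact ⟨{(p : Γ(Xl', U.1))}, by simp⟩
  · rw [K235.LogPair.comap_finset_prod, ← Finset.prod_pow]
    exact Finset.prod_congr rfl fun m _ => hF3 m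

end Groth.Agent.S17131
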