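import Groth.Statements.S17132
import Groth.Agent.Vanish.K911.SurjP
import Groth.Agent.DelIll.K911.CoreProof

set_option autoImplicit false
universe u
open CategoryTheory CategoryTheory.Limits AlgebraicGeometry
open Vanish

namespace Groth.Agent.S17132

/-- Let k be an algebraically closed field of characteristic p > 0 and X an irreducible proper smooth
k-scheme of dimension n ≤ p with an ample invertible O_X-module (a projective manifold). Let D_1, …,
D_r be quasi-coherent ideal sheaves forming a strict normal crossing divisor, split by a set s of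
indices into a reduced divisor C = Σ_{j ∈ s} D_j and a divisor D = Σ_{j ∉ s} α_j D_j with 0 < α_j <
N (α_j = 0 on s), such that (X, D + C) lifts to the Witt vectors of length two: a flat g : X~ → Spec
W_2(k) with i : X → X~ cartesian over Spec k → Spec W_2(k) and closed subschemes D~_j ⊂ X~ flat over
W_2(k) whose ideals pull back along i to those of the D_j. Let L be an invertible O_X-module with
tensor inverse L⁻¹ and N ≥ 1 prime to p with L^⊗N a tensor inverse of ∏ 𝓘_{D_j}^{α_j}; let D' = Σ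
μ_j D_j be effective and supported in D (μ_j = 0 on s) with α_j + μN not divisible by p for j ∉ s
and 0 ≤ μ < μ_j, and put 𝓘' = ∏ 𝓘_{D_j}^{μ_j}, 𝓘_C = ∏_{j ∈ s} 𝓘_{D_j}. Then for every b and for the
O_X-linear κ : 𝓘_C·𝓘' → 𝓘_C compatible with the inclusions into O_X, the map H^b(X, L⁻¹ ⊗ 𝓘_C 𝓘') →
H^b(X, L⁻¹ ⊗ 𝓘_C) induced by 1 ⊗ κ is surjective. -/
theorem result (p : ℕ) [Fact p.Prime]
    (k : Type u) [Field k] [IsAlgClosed k] [CharP k p]
    (X : Scheme.{u}) [X.Over (Spec (CommRingCat.of k))] [IsProper (X ↘ Spec (CommRingCat.of k))]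
    [Smooth (X ↘ Spec (CommRingCat.of k))] [IrreducibleSpace X] (n : ℕ) (hn : topologicalKrullDim X = n) (hnp : n ≤ p)
    (H : X.Modules) (hH : CohB1.IsAmple H)
    (Xl : Scheme.{u}) (g : Xl ⟶ Spec (CommRingCat.of (FrobAlg.W2 p k))) [Flat g] (i : X ⟶ Xl)
    (hlift : IsPullback i (X ↘ Spec (CommRingCat.of k)) g (Spec.map (CommRingCat.ofHom (FrobAlg.res p k))))
    {r : ℕ} (D : Fin r → X.IdealSheafData) (hD : LogNCD.IsNCD D (X ↘ Spec (CommRingCat.of k)))
    (Dl : Fin r → Xl.IdealSheafData) (hDl : ∀ j, (Dl j).comap i = D j) (hDlf : ∀ j, Flat ((Dl j).subschemeι ≫ g))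
    (L Linv : X.Modules) (hL : PicF.IsInvertible L) (hLinv : ClSub.IsInverseOf Linv L)
    (N : ℕ) (hN : 1 ≤ N) (hNp : Nat.Coprime N p)
    (s : Finset (Fin r)) (α : Fin r → ℕ) (hα : ∀ j, j ∉ s → 0 < α j ∧ α j < N) (hαs : ∀ j, j ∈ s → α j = 0)
    (hLN : ClSub.IsInverseOf (CohB1.tensorPow L N) (ClSub.idealMod (∏ j, D j ^ α j)))
    (μ : Fin r → ℕ) (hμ : ∀ j, j ∈ s → μ j = 0) (hμp : ∀ (j : Fin r) (c : ℕ), j ∉ s → c < μ j → ¬ p ∣ α j + c * N)
    (κ : ClSub.idealMod ((∏ j ∈ s, D j) * ∏ j, D j ^ μ j) ⟶ ClSub.idealMod (∏ j ∈ s, D j))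
    (hκ : κ ≫ ClSub.idealModι (∏ j ∈ s, D j) = ClSub.idealModι ((∏ j ∈ s, D j) * ∏ j, D j ^ μ j))
    (b : ℕ) :
    Function.Surjective (Sheaf.H.map ((SheafOfModules.toSheaf X.ringCatSheaf).map
      (KoszTw.tensorMap (𝟙 Linv) κ)) b) := by
  exact K911.SurjP.surjP K911.CoreProof.coreP K911.CoreProof.coreS p k X n hn hnp H hH Xl g i hlift D hD Dl hDl hDlf L Linv hL hLinv N hN
    hNp s α hα hαs hLN μ hμ hμp κ hκ b

end Groth.Agent.S17132
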