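import Groth.Statements.S17133
import Groth.Agent.Jac.K533.ThetaAbel

set_option autoImplicit false
universe u
open CategoryTheory CategoryTheory.Limits AlgebraicGeometry MonoidalCategory CartesianMonoidalCategory MonObj
open Jac

namespace Groth.Agent.S17133

/-- Let X be a smooth proper geometrically connected curve of genus g ≥ 1 over a field k, let (J', ψ')
be a coarse moduli scheme, on all k-schemes, for line bundles of degree g − 1 on X modulo twisting
from the base (the degree-(g − 1) Picard scheme), and let Θ' be the line bundle of its theta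
divisor: an invertible module on J' inverse to the ideal of the closed subset, with reduced
structure, which is the closure of the locus of classes having a nonzero global section. Let L be an
invertible module of degree g − 2 on X and let j : X → J' be the morphism which ψ' attaches to an
admissible family Lf on X × X (second factor the parameter) with Lf ⊗ I_Δ ≅ pr₁^* L, so that j sends
a point x to the class of L(x) (the Abel map followed by translation by the class of L). Then j^* Θ'
⊗ L is isomorphic to the sheaf of differentials Ω_{X/k} (existence of an isomorphism of modules;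
equivalently j^* Θ' ≅ Ω_{X/k} ⊗ L⁻¹). -/
theorem result (k : Type u) [Field k]
    (X : Scheme.{u}) [X.Over (Spec (CommRingCat.of k))]
    [IsProper (X ↘ Spec (CommRingCat.of k))] [Smooth (X ↘ Spec (CommRingCat.of k))]
    [GeometricallyConnected (X ↘ Spec (CommRingCat.of k))] (hdim : topologicalKrullDim ↥X = 1)
    (g : ℕ) (hg : Curv2.genus k X = g) (hg1 : 1 ≤ g)
    (J' : Scheme.{u}) [J'.Over (Spec (CommRingCat.of k))]
    (ψ' : (ModFun.PicDeg (X ↘ Spec (CommRingCat.of k)) ((g : ℤ) - 1)).Hom ⊤ (Over.mk (J' ↘ Spec (CommRingCat.of k))))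
    (hJ' : ModFun.IsCoarseModuli ⊤ (ModFun.PicDeg (X ↘ Spec (CommRingCat.of k)) ((g : ℤ) - 1)) (Over.mk (J' ↘ Spec (CommRingCat.of k))) ψ')
    (Θ' : J'.Modules) (hΘ' : Jac.IsThetaLB (X ↘ Spec (CommRingCat.of k)) ((g : ℤ) - 1) ψ' (Coh.structureModule X) Θ')
    (L : X.Modules) (hL : PicF.IsInvertible L) (hLdeg : Curv2.deg k X L 1 = (g : ℤ) - 2)
    (Lf : (PicF.XT (X ↘ Spec (CommRingCat.of k)) (Over.mk (X ↘ Spec (CommRingCat.of k)))).Modules)
    (hLf : Nonempty (CohB1.tensorMod Lf (ClSub.idealMod (pullback.diagonal (X ↘ Spec (CommRingCat.of k))).ker) ≅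
      (Scheme.Modules.pullback (pullback.fst (X ↘ Spec (CommRingCat.of k)) (X ↘ Spec (CommRingCat.of k)))).obj L))
    (hT : (⊤ : ObjectProperty (Over (Spec (CommRingCat.of k)))) (Over.mk (X ↘ Spec (CommRingCat.of k))))
    (hLok : (ModFun.PicDeg (X ↘ Spec (CommRingCat.of k)) ((g : ℤ) - 1)).ok (Over.mk (X ↘ Spec (CommRingCat.of k))) Lf)
    (j : Over.mk (X ↘ Spec (CommRingCat.of k)) ⟶ Over.mk (J' ↘ Spec (CommRingCat.of k)))
    (hj : ψ'.app (Over.mk (X ↘ Spec (CommRingCat.of k))) Lf hT hLok = j) :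
    Nonempty (CohB1.tensorMod ((Scheme.Modules.pullback j.left).obj Θ') L ≅ Omega.sheaf (X ↘ Spec (CommRingCat.of k))) := by
  have hs : SmoothOfRelativeDimension 1 (X ↘ Spec (CommRingCat.of k)) := K532.Base.smoothOfRelDim _ hdim
  let f := X ↘ Spec (CommRingCat.of k)
  have hLfi : PicF.IsInvertible Lf := K914.Cls.isInvertible_of_ok hLok
  let l : Groth.Agent.Grpsch.PicGrp.Pic (PicF.XT f (Over.mk f)) := Groth.Agent.Grpsch.PicGrp.mk Lf hLfi
  have hld : K914.Cls.IsDeg f ((g : ℤ) - 1) l := K914.Cls.isDeg_of_ok hLok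
  have hl : l * Groth.Agent.Fga.JacSum.gcl f Groth.Agent.Sga7.H732.Abel.idPt =
      K317.JumpPts.NT f (Groth.Agent.Grpsch.PicGrp.mk L hL) (Over.mk f) := by
    rw [K317.JumpPts.NT, Groth.Agent.Grpsch.PicGrp.pull_mk]
    refine (Groth.Agent.Grpsch.PicGrp.mk_mul_mk hLfi (Groth.Agent.Dix.IdealModCartier.isInvertible_idealMod
      (Groth.Agent.Fga.JacSum.isEff_secGraph f Groth.Agent.Sga7.H732.Abel.idPt))).trans ?_
    exact (Groth.Agent.Grpsch.PicGrp.mk_eq_iff _ _).2 hLf
  have h1 := K533.ThetaAbel.main k X hdim g hg hg1 (Over.mk (J' ↘ Spec (CommRingCat.of k))) ψ' hJ' Θ' hΘ' L hL hLdeg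
    l hld hl
  have h2 : K914.Cls.psiCl ψ' l hld = j := (K914.Cls.app_eq' ψ' hT hLok).symm.trans hj
  rw [h2, Groth.Agent.Grpsch.PicGrp.pull_mk, eq_mul_inv_iff_mul_eq] at h1
  exact (Groth.Agent.Grpsch.PicGrp.mk_eq_iff _ _).1
    ((Groth.Agent.Grpsch.PicGrp.mk_mul_mk (Groth.Agent.Fdesc.LocGen.isInvertible_pullback _ hΘ'.1) hL).symm.trans h1)

end Groth.Agent.S17133
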