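import Groth.Statements.S17134
import Groth.Agent.Jac.K532.LamDesc

set_option autoImplicit false
attribute [-instance] CategoryTheory.catToReflQuiver
universe u
open CategoryTheory CategoryTheory.Limits AlgebraicGeometry MonoidalCategory CartesianMonoidalCategory MonObj
open Jac

namespace Groth.Agent.S17134

/-- Let X be a smooth proper geometrically connected curve of genus g ≥ 1 over a field k, and let (J, ψ)
be its Jacobian: a commutative group scheme over k which is a coarse moduli scheme, on all
k-schemes, for line bundles of degree 0 on X modulo twisting from the base, whose group law is the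
tensor product of line bundles. Let N be an invertible module of degree g − 1 on X and Θ_J the line
bundle of the theta divisor Θ_N on J: an invertible module inverse to the ideal of the closed
subset, with reduced structure, which is the closure of the locus of classes M with H⁰(X, M ⊗ N) ≠
0. Let (Jt, φ) be a commutative group scheme over k presented as the fppf dual of J, and let lam : J
→ Jt be the homomorphism attached to Θ_J through φ (the Jt-valued point of J that φ attaches to the
class of m^* Θ_J ⊗ pr₁^* Θ_J⁻¹ ⊗ pr₂^* Θ_J⁻¹). Then lam is an isomorphism and Θ_J is ample: the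
theta divisor defines a principal polarization of the Jacobian. (Stated in the case where a line
bundle N of degree g − 1 exists on X over k, through which the theta divisor is translated to J; the
published statement covers any curve by descent.) -/
theorem result (k : Type u) [Field k]
    (X : Scheme.{u}) [X.Over (Spec (CommRingCat.of k))]
    [IsProper (X ↘ Spec (CommRingCat.of k))] [Smooth (X ↘ Spec (CommRingCat.of k))]
    [GeometricallyConnected (X ↘ Spec (CommRingCat.of k))] (hdim : topologicalKrullDim ↥X = 1)
    (g : ℕ) (hg : Curv2.genus k X = g) (hg1 : 1 ≤ g)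
    (J : Over (Spec (CommRingCat.of k))) [GrpObj J] [IsCommMonObj J]
    (ψ : (ModFun.PicDeg (X ↘ Spec (CommRingCat.of k)) 0).Hom ⊤ J) (hJ : Jac.IsJacobian (X ↘ Spec (CommRingCat.of k)) ⊤ J ψ)
    (N : X.Modules) (hN : PicF.IsInvertible N) (hNdeg : Curv2.deg k X N 1 = (g : ℤ) - 1)
    (ΘJ : J.left.Modules) (hΘJ : Jac.IsThetaLB (X ↘ Spec (CommRingCat.of k)) 0 ψ N ΘJ)
    (Jt : Over (Spec (CommRingCat.of k))) [GrpObj Jt] [IsCommMonObj Jt]
    (φ : AgPol.DualMap J Jt) (hJt : AbDual.IsDualAV Scheme.fppfPrecoverage J Jt φ)
    (lam : J ⟶ Jt) (hlam : AgPol.IsLambda J Jt φ ΘJ lam) :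
    IsIso lam ∧ CohB1.IsAmple ΘJ := by
  exact K532.LamDesc.main k X hdim g hg hg1 J ψ hJ N hN hNdeg ΘJ hΘJ Jt φ hJt lam hlam

end Groth.Agent.S17134
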