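import Groth.Statements.S17135
import Groth.Agent.Jac.K317.A135
import Groth.Agent.Jac.K317.Red
import Groth.Agent.Jac.K317.CoarseSep
import Groth.Agent.Jac.K317.FieldBC

set_option autoImplicit false
universe u
open CategoryTheory CategoryTheory.Limits AlgebraicGeometry MonoidalCategory CartesianMonoidalCategory MonObj
open Jac

namespace Groth.Agent.S17135

/-- Let X be a smooth proper geometrically connected curve of genus g ≥ 1 over a field k, let (J', ψ')
be a coarse moduli scheme, on all k-schemes, for line bundles of degree g − 1 on X modulo twisting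
from the base, let Θ' be the line bundle of its theta divisor (an invertible module on J' inverse to
the ideal of the closed subset, with reduced structure, which is the closure of the locus of classes
having a nonzero global section) and let Θinv be a tensor inverse of Θ'. Then the self-intersection
number (Θ'^g) — the alternating sum of Euler characteristics FGA.intNum taken in g copies of the
inverse module Θinv against the structure sheaf, with dimension bound g — equals g!, and h⁰(J', Θ')
= 1. -/
theorem result (k : Type u) [Field k]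
    (X : Scheme.{u}) [X.Over (Spec (CommRingCat.of k))]
    [IsProper (X ↘ Spec (CommRingCat.of k))] [Smooth (X ↘ Spec (CommRingCat.of k))]
    [GeometricallyConnected (X ↘ Spec (CommRingCat.of k))] (hdim : topologicalKrullDim ↥X = 1)
    (g : ℕ) (hg : Curv2.genus k X = g) (hg1 : 1 ≤ g)
    (J' : Scheme.{u}) [J'.Over (Spec (CommRingCat.of k))]
    (ψ' : (ModFun.PicDeg (X ↘ Spec (CommRingCat.of k)) ((g : ℤ) - 1)).Hom ⊤ (Over.mk (J' ↘ Spec (CommRingCat.of k))))
    (hJ' : ModFun.IsCoarseModuli ⊤ (ModFun.PicDeg (X ↘ Spec (CommRingCat.of k)) ((g : ℤ) - 1)) (Over.mk (J' ↘ Spec (CommRingCat.of k))) ψ')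
    (Θ' : J'.Modules) (hΘ' : Jac.IsThetaLB (X ↘ Spec (CommRingCat.of k)) ((g : ℤ) - 1) ψ' (Coh.structureModule X) Θ')
    (Θinv : J'.Modules) (hΘinv : Nonempty (CohB1.tensorMod Θ' Θinv ≅ Coh.structureModule J')) :
    FGA.intNum k J' g (fun _ : Fin g => Θinv) (Coh.structureModule J') = (Nat.factorial g : ℤ) ∧
      Module.finrank k (Coh.HH J' Θ' 0) = 1 :=
  open Groth.Agent Groth.Agent.Grpsch Groth.Agent.Grpsch.PicGrp Groth.Agent.Fga.RigGrp Groth.Agent.Fga.JacSum
    Groth.Agent.Ega3A.PicLocBase Groth.Agent.Fdesc.LocGen K914.Cls K317.JumpPts K317.ThetaBC K317.Trans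
    K317.CoarseBC K317.CoarseSep K317.Red K732.BC in
  by
  let f := X ↘ Spec (CommRingCat.of k)
  have hs : SmoothOfRelativeDimension 1 f := K532.Base.smoothOfRelDim _ hdim
  have hint : IsIntegral X := K914.Curve.isIntegral f
  let K := AlgebraicClosure k
  let a : Spec (CommRingCat.of K) ⟶ Spec (CommRingCat.of k) := Spec.map (CommRingCat.ofHom (algebraMap k K))
  have hsep : IsSeparated (Over.mk (J' ↘ Spec (CommRingCat.of k))).hom := isSeparated_of_coarse hJ'
  have hsh := isSh_of_coarse hJ'
  have hJK := isCoarse_psiK a hsh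
  let XK := pullback f a
  let _ : XK.Over (Spec (CommRingCat.of K)) := ⟨pullback.snd f a⟩
  have i1 : IsProper (XK ↘ Spec (CommRingCat.of K)) := inferInstanceAs (IsProper (pullback.snd f a))
  have i2 : Smooth (XK ↘ Spec (CommRingCat.of K)) := inferInstanceAs (Smooth (pullback.snd f a))
  have i3 : GeometricallyConnected (XK ↘ Spec (CommRingCat.of K)) :=
    inferInstanceAs (GeometricallyConnected (pullback.snd f a))
  have i4 : SmoothOfRelativeDimension 1 (XK ↘ Spec (CommRingCat.of K)) :=
    inferInstanceAs (SmoothOfRelativeDimension 1 (pullback.snd f a))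
  have hint' : IsIntegral XK := K914.Curve.isIntegral (pullback.snd f a)
  have hdimK : topologicalKrullDim XK = 1 := K914.Curve.curve_dim (pullback.snd f a)
  have hcs : CompactSpace X := (quasiCompact_iff_compactSpace (f := X ↘ Spec (CommRingCat.of k))).mp inferInstance
  have hqs : QuasiSeparatedSpace X := quasiSeparatedSpace_of_quasiSeparated (X ↘ Spec (CommRingCat.of k))
  have hpb : IsPullback (pullback.fst f a) (XK ↘ Spec (CommRingCat.of K)) (X ↘ Spec (CommRingCat.of k)) a :=
    IsPullback.of_hasPullback f a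
  have hgK : Curv2.genus K XK = g := (K317.FieldBC.genus_bc k K (pullback.fst f a) hpb).trans hg
  have hn : ((g - 1 : ℕ) : ℤ) = (g : ℤ) - 1 := by omega
  have hΘK := isThetaLB_bc' a (ψ := ψ') hn hΘ'
  have hΘ'' : PicF.IsInvertible Θ' := hΘ'.1
  have hi : PicF.IsInvertible Θinv := by
    obtain ⟨e⟩ := hΘinv
    exact Fga.IntAdd.isInvertible_of_tensor e
  let pJ := pullback.fst (J' ↘ Spec (CommRingCat.of k)) a
  have hLM : Nonempty (CohB1.tensorMod ((Scheme.Modules.pullback pJ).obj Θ')
      ((Scheme.Modules.pullback pJ).obj Θinv) ≅ Coh.structureModule (pullback (J' ↘ Spec (CommRingCat.of k)) a)) := by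
    obtain ⟨e1⟩ := hΘinv
    exact ⟨(Ega3B.PullTensor.pullTensorIso pJ hΘ'' hi).symm ≪≫
      (Scheme.Modules.pullback pJ).mapIso e1 ≪≫ (Ega3B.PullTensor.nonempty_pullUnitIso pJ).some⟩
  have key := K317.A135.main hdimK g hgK hg1 hJK hΘK ((Scheme.Modules.pullback pJ).obj Θinv)
    (isInvertible_pullback pJ hi) hLM
  obtain ⟨hpJ, hk1, hk2⟩ := key
  let Y := pullback (J' ↘ Spec (CommRingCat.of k)) a
  let _ : Y.Over (Spec (CommRingCat.of K)) := ⟨pullback.snd (J' ↘ Spec (CommRingCat.of k)) a⟩
  have hpY : IsProper (Y ↘ Spec (CommRingCat.of K)) := hpJ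
  have hcY : CompactSpace Y := (quasiCompact_iff_compactSpace (f := Y ↘ Spec (CommRingCat.of K))).mp inferInstance
  have hsurj : Surjective pJ := inferInstance
  have hcJ : CompactSpace J' := by
    refine ⟨?_⟩
    rw [← Set.range_eq_univ.2 pJ.surjective]
    exact isCompact_range pJ.continuous
  have hsep' : IsSeparated (J' ↘ Spec (CommRingCat.of k)) := hsep
  have hqJ : QuasiSeparatedSpace J' := quasiSeparatedSpace_of_quasiSeparated (J' ↘ Spec (CommRingCat.of k))
  have hpbJ : IsPullback pJ (Y ↘ Spec (CommRingCat.of K)) (J' ↘ Spec (CommRingCat.of k)) a :=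
    IsPullback.of_hasPullback (J' ↘ Spec (CommRingCat.of k)) a
  constructor
  · exact (K317.FieldBC.intNum_bc k K pJ hpbJ g (fun _ : Fin g => Θinv) fun _ => hi).symm.trans hk1
  · exact (K317.FieldBC.finrank_bc k K pJ hpbJ Θ' (Ega2.QCohLocal.isQCoh_of_isInvertible hΘ'') _
      (Iso.refl _) 0).symm.trans hk2

end Groth.Agent.S17135
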