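import Groth.Statements.S17136
import Groth.Agent.Jac.K532.UnivDesc

set_option autoImplicit false
universe u
open CategoryTheory CategoryTheory.Limits AlgebraicGeometry MonoidalCategory CartesianMonoidalCategory MonObj
open Jac

namespace Groth.Agent.S17136

/-- Let X be a smooth proper geometrically connected curve of genus g ≥ 1 over a field k (no rational
point is assumed), let (J_g, ψ_g) and (J', ψ') be coarse moduli schemes, on all k-schemes, for line
bundles of degree g and of degree g − 1 on X modulo twisting from the base (the Picard schemes of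
degrees g and g − 1), and let Θ' be the line bundle of the theta divisor on J': an invertible module
inverse to the ideal of the closed subset, with reduced structure, which is the closure of the locus
of classes having a nonzero global section. Let fm : X × J_g → J' be the morphism induced by the
operation (x, M) ↦ M(−x): for every k-scheme T, every T-point x of X and every admissible degree-g
family M on X_T there is an admissible degree-(g − 1) family isomorphic to M ⊗ I_{Γ_x} (I_{Γ_x} the
ideal of the graph of x in X_T), and ψ' of any such family equals the pair (x, ψ_g M) followed by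
fm. Then fm^* Θ' is a universal line bundle on X × J_g: it is an admissible degree-g family over
J_g, and every admissible degree-g family on X_T, T any k-scheme, is isomorphic up to a twist by a
line bundle from T to its pull-back along exactly one k-morphism T → J_g. -/
theorem result (k : Type u) [Field k]
    (X : Scheme.{u}) [X.Over (Spec (CommRingCat.of k))]
    [IsProper (X ↘ Spec (CommRingCat.of k))] [Smooth (X ↘ Spec (CommRingCat.of k))]
    [GeometricallyConnected (X ↘ Spec (CommRingCat.of k))] (hdim : topologicalKrullDim ↥X = 1)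
    (g : ℕ) (hg : Curv2.genus k X = g) (hg1 : 1 ≤ g)
    (Jg : Over (Spec (CommRingCat.of k)))
    (ψg : (ModFun.PicDeg (X ↘ Spec (CommRingCat.of k)) (g : ℤ)).Hom ⊤ Jg)
    (hJg : ModFun.IsCoarseModuli ⊤ (ModFun.PicDeg (X ↘ Spec (CommRingCat.of k)) (g : ℤ)) Jg ψg)
    (J' : Over (Spec (CommRingCat.of k)))
    (ψ' : (ModFun.PicDeg (X ↘ Spec (CommRingCat.of k)) ((g : ℤ) - 1)).Hom ⊤ J')
    (hJ' : ModFun.IsCoarseModuli ⊤ (ModFun.PicDeg (X ↘ Spec (CommRingCat.of k)) ((g : ℤ) - 1)) J' ψ')
    (Θ' : J'.left.Modules) (hΘ' : Jac.IsThetaLB (X ↘ Spec (CommRingCat.of k)) ((g : ℤ) - 1) ψ' (Coh.structureModule X) Θ')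
    (fm : Over.mk (X ↘ Spec (CommRingCat.of k)) ⊗ Jg ⟶ J')
    (hfm : Jac.IsBinOpMap
      (ModFun.Problem.Hom.ofNatTrans (𝟙 ((AlgSp.pyon (Spec (CommRingCat.of k))).obj (Over.mk (X ↘ Spec (CommRingCat.of k)))))) ψg ψ'
      (fun (T : Over (Spec (CommRingCat.of k))) (x : ULift.{u + 1} (T ⟶ Over.mk (X ↘ Spec (CommRingCat.of k))))
        (M N : (PicF.XT (X ↘ Spec (CommRingCat.of k)) T).Modules) =>
        Nonempty (N ≅ CohB1.tensorMod M (ClSub.idealMod
          (pullback.lift x.down.left (𝟙 T.left) ((Over.w x.down).trans (Category.id_comp T.hom).symm) :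
            T.left ⟶ PicF.XT (X ↘ Spec (CommRingCat.of k)) T).ker)))
      fm) :
    ModFun.IsUnivFamily ⊤ (ModFun.PicDeg (X ↘ Spec (CommRingCat.of k)) (g : ℤ)) Jg ((Scheme.Modules.pullback fm.left).obj Θ') := by
  exact K532.UnivDesc.main k X hdim g hg hg1 Jg ψg hJg J' ψ' hJ' Θ' hΘ' fm hfm

end Groth.Agent.S17136
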