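import Groth.Statements.S17137
import Groth.Agent.Jac.K914.SymUniv

set_option autoImplicit false
universe u
open CategoryTheory CategoryTheory.Limits AlgebraicGeometry MonoidalCategory CartesianMonoidalCategory MonObj
open Jac

namespace Groth.Agent.S17137

open Groth.Agent.Grpsch.PicGrp Groth.Agent.Fga.JacSum Groth.Agent.Fga.JacSurj
open K914.Curve K914.Cls K914.Points K914.HField K914.Sc K914.EtPic K914.HUniq K914.AbelImm K914.SymUniv

/-- Let X be a smooth proper geometrically connected curve of genus g ≥ 1 over a field k and n ≥ 1; let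
(Y, q) be the n-th symmetric power C^(n) of X over k (q : X ×_k ⋯ ×_k X → Y a quotient of the n-fold
fibre power by the symmetric group permuting the factors: affine, invariant, identifying sections of
O_Y with invariant sections, with q over k), let (J_n, ψ_n) be a coarse moduli scheme, on all
k-schemes, for line bundles of degree n on X modulo twisting from the base (the degree-n Picard
scheme), and let j_n : Y → J_n be the morphism through which the classifying map of the family O(Γ_1
+ ⋯ + Γ_n) on X × X^n factors (Γ_i the graph of the i-th projection; the family F is pinned by F ⊗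
I_{Γ_1} ⊗ ⋯ ⊗ I_{Γ_n} ≅ O), i.e. q followed by j_n is ψ_n of that family, so that j_n sends an
effective divisor D of degree n to the class of O(D). If n ≤ g, then there is a non-empty open
subscheme U of Y such that the restriction of j_n to U is an immersion: j_n is birational onto its
image W_n ⊂ J_n. (The published statement allows 0 ≤ n ≤ g; this row takes 1 ≤ n ≤ g, the case n = 0
being the one-point scheme Spec k, the zeroth symmetric power, mapping to the class of the trivial
bundle; the printed proof itself treats 1 ≤ n ≤ g.) -/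
theorem result (k : Type u) [Field k]
    (X : Scheme.{u}) [X.Over (Spec (CommRingCat.of k))]
    [IsProper (X ↘ Spec (CommRingCat.of k))] [Smooth (X ↘ Spec (CommRingCat.of k))]
    [GeometricallyConnected (X ↘ Spec (CommRingCat.of k))] (hdim : topologicalKrullDim ↥X = 1)
    (g : ℕ) (hg : Curv2.genus k X = g) (hg1 : 1 ≤ g)
    (n : ℕ) (hn : 1 ≤ n)
    (Y : Scheme.{u}) (q : SymProd.fibPow (X ↘ Spec (CommRingCat.of k)) n ⟶ Y) (gY : Y ⟶ Spec (CommRingCat.of k))
    (hq : SymProd.IsSymProd (X ↘ Spec (CommRingCat.of k)) n q gY)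
    (Jn : Over (Spec (CommRingCat.of k)))
    (ψn : (ModFun.PicDeg (X ↘ Spec (CommRingCat.of k)) (n : ℤ)).Hom ⊤ Jn)
    (hJn : ModFun.IsCoarseModuli ⊤ (ModFun.PicDeg (X ↘ Spec (CommRingCat.of k)) (n : ℤ)) Jn ψn)
    (F : (PicF.XT (X ↘ Spec (CommRingCat.of k)) (Over.mk (WidePullback.base fun (_ : Fin n) => (X ↘ Spec (CommRingCat.of k))))).Modules)
    (hF : Nonempty (CohB1.tensorMod F (FGA.tensorList (List.ofFn fun i : Fin n =>
        ClSub.idealMod (pullback.lift (WidePullback.π (fun (_ : Fin n) => (X ↘ Spec (CommRingCat.of k))) i) (𝟙 (SymProd.fibPow (X ↘ Spec (CommRingCat.of k)) n))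
          ((WidePullback.π_arrow (fun (_ : Fin n) => (X ↘ Spec (CommRingCat.of k))) i).trans (Category.id_comp _).symm) :
            SymProd.fibPow (X ↘ Spec (CommRingCat.of k)) n ⟶ PicF.XT (X ↘ Spec (CommRingCat.of k)) (Over.mk (WidePullback.base fun (_ : Fin n) => (X ↘ Spec (CommRingCat.of k))))).ker)) ≅
      Coh.structureModule _))
    (hT : (⊤ : ObjectProperty (Over (Spec (CommRingCat.of k)))) (Over.mk (WidePullback.base fun (_ : Fin n) => (X ↘ Spec (CommRingCat.of k)))))
    (hFok : (ModFun.PicDeg (X ↘ Spec (CommRingCat.of k)) (n : ℤ)).ok (Over.mk (WidePullback.base fun (_ : Fin n) => (X ↘ Spec (CommRingCat.of k)))) F)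
    (jn : Over.mk gY ⟶ Jn)
    (hjn : Over.homMk q hq.over ≫ jn = ψn.app (Over.mk (WidePullback.base fun (_ : Fin n) => (X ↘ Spec (CommRingCat.of k)))) F hT hFok)
    (hng : n ≤ g) :
    ∃ U : Y.Opens, (U : Set ↥Y).Nonempty ∧ IsImmersion (U.ι ≫ jn.left) := by
  have hX := isSmoothProperCurve (X ↘ Spec (CommRingCat.of k)) hdim
  have hrd : SmoothOfRelativeDimension 1 (X ↘ Spec (CommRingCat.of k)) := Fga.JacAlg.smoothOfRelDim hX
  obtain ⟨Z, hZ, hpull, hepi, hsurj, hprop⟩ := exists_univ hq
  obtain ⟨P, ⟨φ, hφ⟩, hsep, -⟩ := S4289.result k X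
  have hj : Jac.IsAbelMapSym q gY hq.over ψn jn := ⟨hT, F, hFok, hF, hjn⟩
  obtain ⟨gP, hgP⟩ := exists_factor hφ hJn
  -- the Abel map to the étale Picard scheme
  have hjP : jn ≫ gP = ph φ (ucl Z) := by
    have h1 := abel_eq hX hj (fun i => powPt (X ↘ Spec (CommRingCat.of k)) n i)
    have h2 : ptsHom (fun i => powPt (X ↘ Spec (CommRingCat.of k)) n i) = 𝟙 _ := by
      have h3 := ptsHom_powPt_comp (𝟙 (Jac.powOver (X ↘ Spec (CommRingCat.of k)) n))
      rw [← h3]
      congr 1
    rw [h2, Category.id_comp] at h1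
    have h4 : (Over.homMk q hq.over : Jac.powOver (X ↘ Spec (CommRingCat.of k)) n ⟶ Over.mk gY) ≫ jn ≫ gP =
        (Over.homMk q hq.over : Jac.powOver (X ↘ Spec (CommRingCat.of k)) n ⟶ Over.mk gY) ≫ ph φ (ucl Z) := by
      rw [← Category.assoc, h1, hgP, comp_ph hφ, hpull]
    have h5 : q ≫ jn.left ≫ gP.left = q ≫ (ph φ (ucl Z)).left := congrArg CommaMorphism.left h4
    rw [cancel_epi] at h5
    exact Over.OverMorphism.ext h5
  -- a point at which `h⁰ = 1`
  let K := AlgebraicClosure k
  let t : Spec (CommRingCat.of K) ⟶ Spec (CommRingCat.of k) := Spec.map (CommRingCat.ofHom (algebraMap k K))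
  obtain ⟨x, hx⟩ := K914.GenPos.exists_general (X ↘ Spec (CommRingCat.of k)) t n (by
    rw [K914.Curve.chiK_one k X, hg]
    omega)
  obtain ⟨y₀, hy₀⟩ : ∃ y₀ : Y, (ptsHom x ≫ (Over.homMk q hq.over :
      Jac.powOver (X ↘ Spec (CommRingCat.of k)) n ⟶ Over.mk gY)).left (IsLocalRing.closedPoint K) = y₀ := ⟨_, rfl⟩
  have h0 := hAt_ucl hq hpull t x 0 y₀ hy₀
  rw [hx] at h0
  have hprop' : IsProper (Over.mk gY).hom := hprop
  obtain ⟨U, hyU, hU⟩ := exists_immersion hφ hZ (hAt_pos hq hsurj hpull) y₀ (by rw [h0]; omega)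
  refine ⟨U, ⟨y₀, hyU⟩, ?_⟩
  rw [← hjP, Over.comp_left, ← Category.assoc] at hU
  exact IsImmersion.of_comp (U.ι ≫ jn.left) gP.left

end Groth.Agent.S17137
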