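import Groth.Statements.S17139
import Groth.Agent.Isoc.K923.Conn

set_option autoImplicit false
universe u v
open Isoc

namespace Groth.Agent.S17139

/-- Let k be a perfect field of characteristic p, a ∈ ℤ, and (N, F) a non-zero σ^a-F-isocrystal over k
of height h, with b an L-basis of N indexed by Fin h and d the p-adic order of the determinant
coefficient of F in the basis b. If M is a W(k)-lattice in N and r ∈ ℤ, s > 0 satisfy F^s(M) = p^r ·
M, then the first Newton slope λ₁(N, F) equals r/s, and r · h = s · d. (The published statement adds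
that F^h(M) = p^d · M for the same lattice M; that clause is not established by the published proof
and fails when gcd(r, s) ≠ 1 — for a = 0, N = L², M = W², F with matrix rows (p, 1), (0, p) and p
odd one has F^p(M) = p^p · M, h = d = 2, but F²(M) ≠ p² · M — so it is omitted here; the converse
direction is a separate statement.) -/
theorem result (p : ℕ) [Fact p.Prime] (k : Type u) [Field k] [CharP k p] [PerfectRing k p] (a : ℤ)
    (N : Type v) [AddCommGroup N] [Module (WittVector p k) N] [Module (FractionRing (WittVector p k)) N]
    [IsScalarTower (WittVector p k) (FractionRing (WittVector p k)) N]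
    [Nontrivial N] (F : N →ₛₗ[Isoc.frob p k a] N) (hF : Isoc.IsIsoc F)
    (h : ℕ) (b : Module.Basis (Fin h) (FractionRing (WittVector p k)) N)
    (d : ℤ) (hd : Isoc.IsOrdP (Isoc.detCoeff b F) d)
    (M : Submodule (WittVector p k) N) (hM : M.IsLattice (FractionRing (WittVector p k)))
    (r : ℤ) (s : ℕ) (hs : 0 < s) (hFM : Isoc.latImg F s M = Isoc.pPow r M) :
    Isoc.IsFirstSlope F ((r : ℝ) / s) ∧ r * h = s * d := by
  have hp := K923.Conn.hp p k
  have hT := K923.Conn.twBy F
  have hB := K923.Conn.bij hF
  have hO := K923.Conn.ordDet F b hd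
  have := hF.finite
  have hfin : Module.finrank (FractionRing (WittVector p k)) N = h := by
    rw [Module.finrank_eq_card_basis b, Fintype.card_fin]
  have hs' : (s : ℝ) ≠ 0 := by exact_mod_cast hs.ne'
  rw [K923.Conn.latImg_eq, K923.Conn.pPow_eq] at hFM
  constructor
  · rw [K923.Conn.isFirstSlope_iff]
    obtain ⟨lam, hlam⟩ := K923.Slope.FirstSlope.exists hp hT hB hM
    have h1 := hlam.le hp hT hB hM hs hFM.le
    obtain ⟨o, ho, hl⟩ := hlam.data hp hT hB hM
    have h2 : (s : ℝ) * lam = r := by
      have h3 : ∀ n : ℕ, o (s * n) = n * r := by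
        intro n
        have h4 := K923.Basic.im_pow_eq_sc (K923.Lat.p_ne hp) (hT.pow s) hFM n
        rw [← pow_mul] at h4
        have h5 := (ho (s * n))
        have h6 := (h5.le_iff hp).mp h4.le
        refine le_antisymm ?_ h6
        have h7 := h5.1
        rw [h4, K923.Basic.le_sc_iff (K923.Lat.p_ne hp), K923.Basic.sc_sc (K923.Lat.p_ne hp)] at h7
        have h8 := K923.Slope.ord_one hp hM
        have h9 := h8.le_iff hp (s := o (s * n) - n * r)
        rw [K923.Basic.im_one, K923.Basic.le_sc_iff (K923.Lat.p_ne hp)] at h9
        have h10 := h9.mp (by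
          rwa [show -(o (s * n) - n * r) = -o (s * n) + n * r by ring])
        linarith
      refine tendsto_nhds_unique (K923.Slope.tendsto_sub hl hs) ?_
      refine tendsto_const_nhds.congr' ?_
      filter_upwards [Filter.eventually_ge_atTop 1] with n hn
      rw [h3]
      have : (n : ℝ) ≠ 0 := by
        have : 0 < n := by omega
        exact_mod_cast this.ne'
      push_cast
      field_simp
    have h3 : (r : ℝ) / s = lam := by rw [← h2]; field_simp
    rw [h3]
    exact hlam
  · exact K923.Det.ordDet_eq hp (hT.pow s) (K923.Eff.bijective_pow hB s) hM hfin hFM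
      (hO.pow hp hT s)

end Groth.Agent.S17139
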