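import Groth.Statements.S17148
import Groth.Agent.Isoc.K923.Conn2

set_option autoImplicit false
universe u v
open Isoc

namespace Groth.Agent.S17148

/-- Let k be a perfect field of characteristic p, a ∈ ℤ, W = W(k) with fraction field L, and (N, F) a
σ^a-F-isocrystal over k (N finite-dimensional over L, F a bijective σ^a-semilinear endomorphism)
that is isoclinic of slope μ, i.e. there are a W-lattice M, r ∈ ℤ and s > 0 with r/s = μ and F^s(M)
= p^r · M. Then for every F-stable L-subspace P of N, the sub-isocrystal (P, F|P) is again isoclinic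
of slope μ. -/
theorem result (p : ℕ) [Fact p.Prime] (k : Type u) [Field k] [CharP k p] [PerfectRing k p] (a : ℤ)
    (N : Type v) [AddCommGroup N] [Module (WittVector p k) N] [Module (FractionRing (WittVector p k)) N]
    [IsScalarTower (WittVector p k) (FractionRing (WittVector p k)) N]
    (F : N →ₛₗ[Isoc.frob p k a] N) (hF : Isoc.IsIsoc F) (μ : ℚ) (hμ : Isoc.IsIsoclinic F μ)
    (P : Submodule (FractionRing (WittVector p k)) N) (hP : ∀ x ∈ P, F x ∈ P) :
    Isoc.IsIsoclinic (F.restrict hP) μ := by
  have hp := K923.Conn.hp p k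
  obtain ⟨M, hM, r, s, hs, hrs, hi⟩ := hμ
  rw [K923.Conn.latImg_eq, K923.Conn.pPow_eq] at hi
  have := hF.finite
  have hf : ∀ x : P, P.subtype (K923.Conn.op (F.restrict hP) x) =
      K923.Conn.op F (P.subtype x) := fun x => rfl
  have hinj : Function.Injective (K923.Conn.op (F.restrict hP)) := by
    intro x y hxy
    exact Subtype.ext (hF.bijective.1 (congrArg Subtype.val hxy))
  have hsurj := K923.Lat.surjective_of_injective (K923.Conn.twBy (F.restrict hP)) hinj
  refine ⟨M.comap (K923.Iso.resW _ P.subtype),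
    K923.Iso.isLattice_comap hp (Submodule.injective_subtype P) hM, r, s, hs, hrs, ?_⟩
  rw [K923.Conn.latImg_eq, K923.Conn.pPow_eq,
    K923.Iso.im_comap ((K923.Conn.twBy (F.restrict hP)).pow s) ((K923.Conn.twBy F).pow s)
      P.subtype (K923.Iso.pow_comm P.subtype hf s)
      (K923.Eff.bijective_pow ⟨hinj, hsurj⟩ s).2 (K923.Eff.bijective_pow (K923.Conn.bij hF) s).1,
    hi, K923.Iso.sc_comap (K923.Lat.p_ne hp)]

end Groth.Agent.S17148
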