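import Groth.Statements.S17150
import Groth.Agent.Isoc.K923.Conn2

set_option autoImplicit false
universe u v w
open Isoc

namespace Groth.Agent.S17150

/-- Let k be a perfect field of characteristic p and a ∈ ℤ; let (N₁, F₁) and (N₂, F₂) be
σ^a-F-isocrystals over k that are isoclinic of slopes μ₁ and μ₂ respectively (in the lattice sense:
F_i^{s_i}(M_i) = p^{r_i} · M_i with r_i/s_i = μ_i), with μ₁ ≠ μ₂. Then every morphism of isocrystals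
f : (N₁, F₁) → (N₂, F₂), i.e. every L-linear map with f ∘ F₁ = F₂ ∘ f, is zero. -/
theorem result (p : ℕ) [Fact p.Prime] (k : Type u) [Field k] [CharP k p] [PerfectRing k p] (a : ℤ)
    (N₁ : Type v) [AddCommGroup N₁] [Module (WittVector p k) N₁] [Module (FractionRing (WittVector p k)) N₁]
    [IsScalarTower (WittVector p k) (FractionRing (WittVector p k)) N₁]
    (N₂ : Type w) [AddCommGroup N₂] [Module (WittVector p k) N₂] [Module (FractionRing (WittVector p k)) N₂]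
    [IsScalarTower (WittVector p k) (FractionRing (WittVector p k)) N₂]
    (F₁ : N₁ →ₛₗ[Isoc.frob p k a] N₁) (F₂ : N₂ →ₛₗ[Isoc.frob p k a] N₂)
    (h₁ : Isoc.IsIsoc F₁) (h₂ : Isoc.IsIsoc F₂)
    (μ₁ μ₂ : ℚ) (hμ₁ : Isoc.IsIsoclinic F₁ μ₁) (hμ₂ : Isoc.IsIsoclinic F₂ μ₂) (hne : μ₁ ≠ μ₂)
    (f : N₁ →ₗ[(FractionRing (WittVector p k))] N₂) (hf : ∀ x : N₁, f (F₁ x) = F₂ (f x)) : f = 0 := by
  have hp := K923.Conn.hp p k
  have hp0 : (p : FractionRing (WittVector p k)) ≠ 0 := K923.Lat.p_ne hp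
  obtain ⟨M₁, hM₁, r₁, s₁, hs₁, hrs₁, hi₁⟩ := hμ₁
  obtain ⟨M₂, hM₂, r₂, s₂, hs₂, hrs₂, hi₂⟩ := hμ₂
  rw [K923.Conn.latImg_eq, K923.Conn.pPow_eq] at hi₁ hi₂
  have hT₁ := (K923.Conn.twBy F₁).pow s₁
  have hT₂ := (K923.Conn.twBy F₂).pow s₂
  have e₁ := K923.Basic.im_pow_eq_sc hp0 hT₁ hi₁ s₂
  have e₂ := K923.Basic.im_pow_eq_sc hp0 hT₂ hi₂ s₁
  rw [← pow_mul] at e₁ e₂
  rw [mul_comm s₂ s₁] at e₂
  refine K923.Iso.hom_zero hp ((K923.Conn.twBy F₁).pow (s₁ * s₂)) ((K923.Conn.twBy F₂).pow (s₁ * s₂))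
    (K923.Eff.bijective_pow (K923.Conn.bij h₂) _).1 hM₁ hM₂ e₁ e₂ ?_ f
    (K923.Iso.pow_comm f hf (s₁ * s₂))
  intro heq
  apply hne
  have h1 : (s₁ : ℚ) ≠ 0 := by exact_mod_cast hs₁.ne'
  have h2 : (s₂ : ℚ) ≠ 0 := by exact_mod_cast hs₂.ne'
  rw [← hrs₁, ← hrs₂, div_eq_div_iff h1 h2]
  have h3 : (s₂ : ℚ) * r₁ = s₁ * r₂ := by exact_mod_cast heq
  linarith

end Groth.Agent.S17150
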