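import Groth.Statements.S17157
import Groth.Agent.Isoc.K797.Frob

set_option autoImplicit false
universe u
open Isoc

namespace Groth.Agent.S17157

/-- Let k be a finite field of characteristic p, W = W(k), L its fraction field with Frobenius σ, and
let U be the σ-semilinear endomorphism of L² = (Fin 2 → L) determined by U(e₀) = e₀ and U(e₁) = e₀ +
e₁ on the standard basis. Then (L², U) is an F-isocrystal in which the sub-isocrystal L · e₀ admits
no U-stable complementary L-subspace; in particular the category of F-isocrystals over a finite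
field is not semisimple. (Over an algebraically closed field a complement exists.) -/
theorem result
    (p : ℕ) [Fact p.Prime] (k : Type u) [Field k] [CharP k p] [PerfectRing k p] [Finite k]
    (U : (Fin 2 → (FractionRing (WittVector p k))) →ₛₗ[Isoc.frob p k 1] (Fin 2 → (FractionRing (WittVector p k))))
    (hU0 : U (Pi.single 0 1) = Pi.single 0 1)
    (hU1 : U (Pi.single 1 1) = Pi.single 0 1 + Pi.single 1 1)
    (Q : Submodule (FractionRing (WittVector p k)) (Fin 2 → (FractionRing (WittVector p k)))) (hQ : ∀ x ∈ Q, U x ∈ Q) :
    ¬ IsCompl (Submodule.span (FractionRing (WittVector p k)) {(Pi.single 0 1 : Fin 2 → (FractionRing (WittVector p k)))}) Q := by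
  intro hc
  obtain ⟨y, hy, q, hq, hyq⟩ := Submodule.mem_sup.1
    (show (Pi.single 1 1 : Fin 2 → (FractionRing (WittVector p k))) ∈ _ ⊔ Q by
      rw [hc.sup_eq_top]; trivial)
  obtain ⟨c, rfl⟩ := Submodule.mem_span_singleton.1 hy
  have hq' : q = Pi.single 1 1 - c • Pi.single 0 1 := by rw [← hyq]; abel
  have h1 : U q - q = (1 - Isoc.frob p k 1 c + c) • Pi.single 0 1 := by
    rw [hq', map_sub, map_smulₛₗ, hU0, hU1]
    rw [add_smul, sub_smul, one_smul]; abel
  have h2 : U q - q ∈ Q := Q.sub_mem (hQ q hq) hq
  have h3 : U q - q = 0 := by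
    have := hc.disjoint
    rw [Submodule.disjoint_def] at this
    refine this _ ?_ h2
    rw [h1]
    exact Submodule.smul_mem _ _ (Submodule.mem_span_singleton_self _)
  have h4 := congrFun (h1.symm.trans h3) 0
  simp only [Pi.smul_apply, Pi.single_eq_same, smul_eq_mul, mul_one, Pi.zero_apply] at h4
  exact K797.Frob.no_solution p k c (by linear_combination -h4)

end Groth.Agent.S17157
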