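import Groth.Statements.S17159
import Groth.Agent.MorSch.K251.EvSm

set_option autoImplicit false
universe u
open CategoryTheory CategoryTheory.Limits AlgebraicGeometry
open MorSch

namespace Groth.Agent.S17159

/-- For a field k and a quasi-projective k-variety X that is smooth over k, consider the morphism scheme
(M, u) of k-morphisms from the projective line to X with its universal morphism, the evaluation map
ev from the product of the projective line with M to X (M is locally of finite type over k). If f is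
a free rational curve on X, that is a nonconstant k-morphism from the projective line to X with
f^*T_X globally generated (T_X the dual of the sheaf of differentials), then ev is smooth at every
point of the fibre of the product over the k-point [f] of M: each such point has an open
neighbourhood on which ev is smooth. -/
theorem result
    (k : Type u) [Field k] (X : Scheme.{u}) (pX : X ⟶ Spec (CommRingCat.of k)) [IsIntegral X] [Smooth pX]
    (hqp : ∃ (N : ℕ) (ι : X ⟶ CohB1.ProjSpace N k), IsImmersion ι ∧ ι ≫ CohB1.ProjSpace.toSpec N k = pX)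
    (M : Over (Spec (CommRingCat.of k))) [LocallyOfFiniteType M.hom] (u : MorSch.Obj (CohB1.ProjSpace.toSpec 1 k) pX M)
    (hM : MorSch.IsUniversal (CohB1.ProjSpace.toSpec 1 k) pX M u)
    (f : CohB1.ProjSpace 1 k ⟶ X) (hf : f ≫ pX = CohB1.ProjSpace.toSpec 1 k)
    (hnc : ¬ ∃ x : X, Set.range f.base ⊆ {x}) (hfree : MorSch.IsFree pX f)
    (z : ↥(PicF.XT (CohB1.ProjSpace.toSpec 1 k) M))
    (hz : (PicF.XTproj (CohB1.ProjSpace.toSpec 1 k) M).base z ∈
      Set.range (hM.lift (MorSch.Obj.ofHom (CohB1.ProjSpace.toSpec 1 k) pX f hf)).left.base) :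
    ∃ U : (PicF.XT (CohB1.ProjSpace.toSpec 1 k) M).Opens, z ∈ U ∧ Smooth (U.ι ≫ MorSch.ev (CohB1.ProjSpace.toSpec 1 k) pX u) := by
  have hU : K921.MorQuasi.IsUniv (CohB1.ProjSpace.toSpec 1 k) pX M u := fun T _ φ => hM T φ
  have hM' := K251.EvSm.isMor_of_isUniv hU
  have hlfp := K251.EvSm.lfp_ev hM'
  let φ := MorSch.Obj.ofHom (CohB1.ProjSpace.toSpec 1 k) pX f hf
  let g := hM.lift φ
  have hg : PicF.XTmap (CohB1.ProjSpace.toSpec 1 k) g ≫ u.1 =
      pullback.fst (CohB1.ProjSpace.toSpec 1 k) (𝟙 (Spec (CommRingCat.of k))) ≫ f := congrArg Subtype.val (hM.pull_lift φ)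
  let s : CohB1.ProjSpace 1 k ⟶ PicF.XT (CohB1.ProjSpace.toSpec 1 k) (Over.mk (𝟙 (Spec (CommRingCat.of k)))) :=
    pullback.lift (𝟙 _) (CohB1.ProjSpace.toSpec 1 k) rfl
  let x : Spec (CommRingCat.of k) ⟶ M.left := g.left
  have hx : x ≫ M.hom = 𝟙 _ := Over.w g
  let i := s ≫ PicF.XTmap (CohB1.ProjSpace.toSpec 1 k) g
  have hs1 : s ≫ pullback.fst _ _ = 𝟙 _ := pullback.lift_fst _ _ _
  have hs2 : s ≫ pullback.snd _ _ = CohB1.ProjSpace.toSpec 1 k := pullback.lift_snd _ _ _
  have hi₁ : i ≫ pullback.fst _ _ = 𝟙 _ := by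
    change (s ≫ PicF.XTmap (CohB1.ProjSpace.toSpec 1 k) g) ≫ _ = _
    rw [Category.assoc, MorSch.XTmap_fst]
    exact hs1
  have hi₂ : i ≫ pullback.snd _ _ = CohB1.ProjSpace.toSpec 1 k ≫ x := by
    change (s ≫ PicF.XTmap (CohB1.ProjSpace.toSpec 1 k) g) ≫ _ = _
    rw [Category.assoc, K921.MorQuasi.XTmap_proj, ← Category.assoc]
    exact congrArg (fun z => z ≫ g.left) hs2
  have hiu : i ≫ u.1 = f := by
    change (s ≫ PicF.XTmap (CohB1.ProjSpace.toSpec 1 k) g) ≫ _ = _
    rw [Category.assoc, hg, ← Category.assoc]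
    exact (congrArg (fun z => z ≫ f) hs1).trans (Category.id_comp f)
  have hz' : (pullback.snd (CohB1.ProjSpace.toSpec 1 k) M.hom) z = x (IsLocalRing.closedPoint k) := by
    obtain ⟨y, hy⟩ := hz
    have hy' : y = IsLocalRing.closedPoint k := Subsingleton.elim (α := PrimeSpectrum k) _ _
    rw [hy'] at hy
    exact hy.symm
  refine ⟨u.1.smoothLocus, K251.EvSm.mem_smoothLocus_of_isFree pX hU x hx i hi₁ hi₂ (by rw [hiu]; exact hfree) z hz', ?_⟩
  exact K633.SmallExtPt.smooth_smoothLocus u.1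

end Groth.Agent.S17159
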