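import Groth.Statements.S17160
import Groth.Agent.MorSch.K932.FreeOpen

set_option autoImplicit false
universe u
open CategoryTheory CategoryTheory.Limits AlgebraicGeometry
open MorSch

namespace Groth.Agent.S17160

/-- For a field k of characteristic zero and a quasi-projective k-variety X that is smooth over k, there
are dense open subsets U_0, U_1, U_2, … of X such that every rational curve on X whose image meets
all of them in one point is free: for every nonconstant k-morphism f from the projective line to X
whose image has a point lying in every U_n, f^*T_X is globally generated (T_X the dual of the sheaf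
of differentials). (Over a countable field the common part of the U_n may contain no closed point.) -/
theorem result
    (k : Type u) [Field k] [CharZero k] (X : Scheme.{u}) (pX : X ⟶ Spec (CommRingCat.of k)) [IsIntegral X] [Smooth pX]
    (hqp : ∃ (N : ℕ) (ι : X ⟶ CohB1.ProjSpace N k), IsImmersion ι ∧ ι ≫ CohB1.ProjSpace.toSpec N k = pX) :
    ∃ U : ℕ → X.Opens, (∀ n, Dense ((U n : Set X))) ∧
      ∀ (f : CohB1.ProjSpace 1 k ⟶ X), f ≫ pX = CohB1.ProjSpace.toSpec 1 k → (¬ ∃ x : X, Set.range f.base ⊆ {x}) →
        (Set.range f.base ∩ ⋂ n, (U n : Set X)).Nonempty → MorSch.IsFree pX f := by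
  have hsep : IsSeparated pX := K932.FreeOpen.isSeparated_of_qp hqp
  have hinf : Infinite k := Infinite.of_injective ((↑) : ℕ → k) Nat.cast_injective
  obtain ⟨S, hS, hSf⟩ := K932.FamP1.exists_countable hqp
  choose V hV hVs using fun F : K932.FamP1.RatF k pX => K932.FreeOpen.exists_open_smooth F
  obtain ⟨U, hU, hUV⟩ := K932.FreeOpen.exists_seq (hS.image V) (by
    rintro _ ⟨F, -, rfl⟩
    exact (V F).isOpen.dense (hV F))
  refine ⟨U, hU, fun f hf _ hfU => ?_⟩
  obtain ⟨F, hFS, hF⟩ := hSf f hf
  obtain ⟨n, hn⟩ := hUV _ ⟨F, hFS, rfl⟩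
  refine K932.FreeOpen.isFree_of_meets F (V F) (hVs F) f hF ?_
  obtain ⟨y, hy, hyU⟩ := hfU
  refine ⟨y, hy, ?_⟩
  rw [← hn]
  exact Set.mem_iInter.1 hyU n

end Groth.Agent.S17160
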