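import Groth.Statements.S17161
import Groth.Agent.MorSch.K932.FreeOpen

set_option autoImplicit false
universe u
open CategoryTheory CategoryTheory.Limits AlgebraicGeometry
open MorSch

namespace Groth.Agent.S17161

/-- For an algebraically closed field k of characteristic zero, a quasi-projective k-variety X that is
smooth over k and a closed point x of X, there are dense open subsets U_0, U_1, U_2, … of X such
that every rational curve on X through x whose image meets all of them in one point is very free: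
for every nonconstant k-morphism f from the projective line to X whose image contains x and has a
point lying in every U_n, f^*T_X ⊗ O(−1) is globally generated (T_X the dual of the sheaf of
differentials). (The published subset lies in the complement of x; removing x from each U_n keeps
them dense open unless X is a point, where there is no rational curve, so nothing changes.) -/
theorem result
    (k : Type u) [Field k] [IsAlgClosed k] [CharZero k] (X : Scheme.{u}) (pX : X ⟶ Spec (CommRingCat.of k))
    [IsIntegral X] [Smooth pX]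
    (hqp : ∃ (N : ℕ) (ι : X ⟶ CohB1.ProjSpace N k), IsImmersion ι ∧ ι ≫ CohB1.ProjSpace.toSpec N k = pX)
    (x : X) (hx : IsClosed ({x} : Set X)) :
    ∃ U : ℕ → X.Opens, (∀ n, Dense ((U n : Set X))) ∧
      ∀ (f : CohB1.ProjSpace 1 k ⟶ X), f ≫ pX = CohB1.ProjSpace.toSpec 1 k → (¬ ∃ y : X, Set.range f.base ⊆ {y}) →
        x ∈ Set.range f.base → (Set.range f.base ∩ ⋂ n, (U n : Set X)).Nonempty →
        MorSch.IsVeryFree pX f := by
  have hsep : IsSeparated pX := K932.FreeOpen.isSeparated_of_qp hqp
  have hinf : Infinite k := Infinite.of_injective ((↑) : ℕ → k) Nat.cast_injective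
  let x₀ : Spec (CommRingCat.of k) ⟶ X := pointOfClosedPoint pX x hx
  have hx₀ : x₀ ≫ pX = 𝟙 _ := pointOfClosedPoint_comp pX x hx
  have hx₀x : x₀ (IsLocalRing.closedPoint k) = x := pointOfClosedPoint_apply pX x hx _
  obtain ⟨S, hS, hSf⟩ := K932.FamP1.exists_countable hqp
  choose R hR hRf using fun F : K932.FamP1.RatF k pX => K932.FreeOpen.exists_ptFam F x₀ hx₀
  choose V hV hVs using fun F : K932.FamP1.RatF k pX => K932.FreeOpen.exists_open_smooth F
  obtain ⟨U, hU, hUV⟩ := K932.FreeOpen.exists_seq
    (S := ⋃ F ∈ S, (fun P : K932.FreeOpen.PtF x₀ pX => V P.G) '' R F)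
    (hS.biUnion fun F _ => (hR F).countable.image _) (by
    intro W hW
    simp only [Set.mem_iUnion] at hW
    obtain ⟨F, -, P, -, rfl⟩ := hW
    exact (V P.G).isOpen.dense (hV P.G))
  refine ⟨U, hU, fun f hf hnc hxf hfU => ?_⟩
  obtain ⟨F, hFS, hF⟩ := hSf f hf
  have hcpt : CompactSpace ↥(CohB1.ProjSpace 1 k) := inferInstance
  obtain ⟨p, hp, hpc⟩ := (hx.preimage f.continuous).exists_closed_singleton (by
    obtain ⟨p, hp⟩ := hxf
    exact ⟨p, hp⟩)
  let t : Spec (CommRingCat.of k) ⟶ CohB1.ProjSpace 1 k :=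
    pointOfClosedPoint (CohB1.ProjSpace.toSpec 1 k) p hpc
  have ht : t ≫ CohB1.ProjSpace.toSpec 1 k = 𝟙 _ := pointOfClosedPoint_comp _ p hpc
  have htx : t ≫ f = x₀ := by
    have h1 : t (IsLocalRing.closedPoint k) = p := pointOfClosedPoint_apply _ p hpc _
    have hp' : f p = x := hp
    exact ext_of_apply_closedPoint_eq pX (by rw [Category.assoc, hf, ht]) hx₀
      ((Scheme.Hom.comp_apply t f _).trans ((congrArg f h1).trans (hp'.trans hx₀x.symm)))
  obtain ⟨P, hPR, hP⟩ := hRf F f hF t ht htx
  obtain ⟨n, hn⟩ := hUV (V P.G) (by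
    simp only [Set.mem_iUnion]
    exact ⟨F, hFS, P, hPR, rfl⟩)
  obtain ⟨_, ⟨y, rfl⟩, hyU⟩ := hfU
  have hyV : f y ∈ V P.G := by
    rw [← hn]
    exact Set.mem_iInter.1 hyU n
  obtain ⟨m, hm, rfl⟩ := hP
  have hsm := K932.FreeOpen.smooth_of_restrict P.G.ev _ (hVs P.G)
  refine K932.FreeOpen.isVeryFree_of_mem P.σ P.hσ x₀ P.G.ev P.G.comm P.const m hm (P.G.ev ⁻¹ᵁ V P.G)
    (p := y) ?_ hnc
  rw [Scheme.Hom.comp_apply] at hyV
  exact hyV

end Groth.Agent.S17161
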