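import Groth.Statements.S17164
import Groth.Agent.MorSch.K932.RCOpen

set_option autoImplicit false
universe u
open CategoryTheory CategoryTheory.Limits AlgebraicGeometry
open MorSch

namespace Groth.Agent.S17164

/-- Let X be a projective variety over an algebraically closed field k containing a very free rational
curve, i.e. a nonconstant k-morphism f from the projective line to X whose image lies in the smooth
locus of X over k and such that f^*T_X ⊗ O(−1) is globally generated (T_X the dual of the sheaf of
differentials). Then a general pair of points of X lies on one very free rational curve: there is a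
nonempty open subset W of X ×_k X such that for every closed point w of W some nonconstant
k-morphism g from the projective line, with image in the smooth locus and g^*T_X ⊗ O(−1) globally
generated, has both projections of w in its image. (The published statement is for X proper and for
a general finite subset of any size; this row takes X projective and states the case of two points.) -/
theorem result
    (k : Type u) [Field k] [IsAlgClosed k] (X : Scheme.{u}) (pX : X ⟶ Spec (CommRingCat.of k))
    [IsIntegral X] [IsSeparated pX] [LocallyOfFinitePresentation pX] [QuasiCompact pX]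
    (hproj : ∃ (N : ℕ) (ι : X ⟶ CohB1.ProjSpace N k), IsClosedImmersion ι ∧ ι ≫ CohB1.ProjSpace.toSpec N k = pX)
    (f : CohB1.ProjSpace 1 k ⟶ X) (hf : f ≫ pX = CohB1.ProjSpace.toSpec 1 k)
    (hnc : ¬ ∃ x : X, Set.range f.base ⊆ {x})
    (hsm : Set.range f.base ⊆ (pX.smoothLocus : Set X)) (hvf : MorSch.IsVeryFree pX f) :
    ∃ W : (pullback pX pX).Opens, (W : Set ↥(pullback pX pX)).Nonempty ∧
      ∀ w ∈ (W : Set ↥(pullback pX pX)), IsClosed ({w} : Set ↥(pullback pX pX)) →
        ∃ g : CohB1.ProjSpace 1 k ⟶ X, g ≫ pX = CohB1.ProjSpace.toSpec 1 k ∧ (¬ ∃ y : X, Set.range g.base ⊆ {y}) ∧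
          Set.range g.base ⊆ (pX.smoothLocus : Set X) ∧ MorSch.IsVeryFree pX g ∧
          (pullback.fst pX pX).base w ∈ Set.range g.base ∧ (pullback.snd pX pX).base w ∈ Set.range g.base := by
  have hYs : Smooth (pX.smoothLocus.ι ≫ pX) := K633.SmallExtPt.smooth_smoothLocus pX
  obtain ⟨hY, f', hf', hnc', hvf'⟩ := K932.RCOpen.exists_lift pX pX.smoothLocus f hnc hsm hvf
  obtain ⟨M, m, P, pc, pm, u, hm, hM⟩ := K932.RCOpen.exists_mor_open pX hproj pX.smoothLocus.ι
  obtain ⟨W, hW, h⟩ := K932.RCOpen.exists_open_pair pX pX.smoothLocus.ι hM f' (by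
    rw [← Category.assoc, hf', hf]) hnc' hvf'
  refine ⟨W, hW, fun w hw hcl => ?_⟩
  obtain ⟨g, hg, hgc, hgv, h1, h2⟩ := h w hw hcl
  have hgr : Set.range (g ≫ pX.smoothLocus.ι) ⊆ (pX.smoothLocus : Set X) := by
    rintro _ ⟨y, rfl⟩
    rw [Scheme.Hom.comp_apply]
    exact (g y).2
  refine ⟨g ≫ pX.smoothLocus.ι, by rw [Category.assoc, hg], ?_, hgr,
    (K932.OpenFree.isVeryFree_iff pX pX.smoothLocus.ι g).1 hgv, h1, h2⟩
  rintro ⟨y, hy⟩
  refine hgc ⟨g (Classical.arbitrary _), ?_⟩
  rintro _ ⟨z, rfl⟩
  have key : ∀ z, pX.smoothLocus.ι (g z) = y := fun z => by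
    rw [← Scheme.Hom.comp_apply]
    exact hy ⟨z, rfl⟩
  exact pX.smoothLocus.ι.isOpenEmbedding.injective ((key z).trans (key _).symm)

end Groth.Agent.S17164
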