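import Groth.Statements.S17165
import Groth.Agent.MorSch.K932.RCFam

set_option autoImplicit false
universe u
open CategoryTheory CategoryTheory.Limits AlgebraicGeometry
open MorSch

namespace Groth.Agent.S17165

/-- Let X be a projective variety over an algebraically closed field k containing a very free rational
curve, i.e. a nonconstant k-morphism f from the projective line to X whose image lies in the smooth
locus of X over k and such that f^*T_X ⊗ O(−1) is globally generated (T_X the dual of the sheaf of
differentials). Then X is separably rationally connected: there is a k-variety M and a rational map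
e from the product of the projective line with M to X such that the doubled evaluation map (t, t',
z) ↦ (e(t, z), e(t', z)) to X ×_k X is dominant and smooth on a dense open subset of its source.
(The published statement is for X proper; this row takes X projective.) -/
theorem result
    (k : Type u) [Field k] [IsAlgClosed k] (X : Scheme.{u}) (pX : X ⟶ Spec (CommRingCat.of k))
    [IsIntegral X] [LocallyOfFinitePresentation pX] [IsProper pX]
    (hproj : ∃ (N : ℕ) (ι : X ⟶ CohB1.ProjSpace N k), IsClosedImmersion ι ∧ ι ≫ CohB1.ProjSpace.toSpec N k = pX)
    (f : CohB1.ProjSpace 1 k ⟶ X) (hf : f ≫ pX = CohB1.ProjSpace.toSpec 1 k)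
    (hnc : ¬ ∃ x : X, Set.range f.base ⊆ {x})
    (hsm : Set.range f.base ⊆ (pX.smoothLocus : Set X)) (hvf : MorSch.IsVeryFree pX f) :
    MorSch.IsSepRatConn k pX := by
  have hYs : Smooth (pX.smoothLocus.ι ≫ pX) := K633.SmallExtPt.smooth_smoothLocus pX
  obtain ⟨hY, f', hf', hnc', hvf'⟩ := K932.RCOpen.exists_lift pX pX.smoothLocus f hnc hsm hvf
  obtain ⟨M, m, P, pc, pm, u, hm, hM⟩ := K932.RCOpen.exists_mor_open pX hproj pX.smoothLocus.ι
  exact K932.RCFam.isSepRatConn pX pX.smoothLocus.ι hM f' (by rw [← Category.assoc, hf', hf]) hnc' hvf'

end Groth.Agent.S17165
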