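import Groth.Statements.S17166
import Groth.Agent.MorSch.K921.FamVery

set_option autoImplicit false
universe u
open CategoryTheory CategoryTheory.Limits AlgebraicGeometry
open MorSch

namespace Groth.Agent.S17166

/-- Let X be a smooth projective variety over an algebraically closed field k which is separably
rationally connected and which is not a point (it has two distinct points). Then a general point of
X lies on a very free rational curve: for some nonempty open subset U of X, every closed point of U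
lies on the image of a nonconstant k-morphism g from the projective line with g^*T_X ⊗ O(−1)
globally generated (T_X the dual of the sheaf of differentials). (The published statement has X
smooth and proper and does not exclude the point, where by convention the constant map is the very
free curve; this row takes X projective, assumes X is not a point and asks for a nonconstant curve.) -/
theorem result
    (k : Type u) [Field k] [IsAlgClosed k] (X : Scheme.{u}) (pX : X ⟶ Spec (CommRingCat.of k))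
    [IsIntegral X] [Smooth pX] [IsProper pX]
    (hproj : ∃ (N : ℕ) (ι : X ⟶ CohB1.ProjSpace N k), IsClosedImmersion ι ∧ ι ≫ CohB1.ProjSpace.toSpec N k = pX)
    (hpos : ∃ x y : X, x ≠ y)
    (h : MorSch.IsSepRatConn k pX) :
    ∃ U : X.Opens, (U : Set X).Nonempty ∧ ∀ x ∈ (U : Set X), IsClosed ({x} : Set X) →
      ∃ g : CohB1.ProjSpace 1 k ⟶ X, g ≫ pX = CohB1.ProjSpace.toSpec 1 k ∧ (¬ ∃ y : X, Set.range g.base ⊆ {y}) ∧
        x ∈ Set.range g.base ∧ MorSch.IsVeryFree pX g := by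
  obtain ⟨F, hdom, V, hV, hsm⟩ := h
  obtain ⟨hMi, hMs, hMl, hMq⟩ := F.isVar
  let P1p := CohB1.ProjSpace.toSpec 1 k
  let U := F.e.domain
  let g : (U : Scheme.{u}) ⟶ X := F.e.hom
  have hI := K921.P1Pts.isIntegral_prod F.m
  have hUne : (U : Set ↥(pullback (CohB1.ProjSpace.toSpec 1 k) F.m)).Nonempty := F.e.dense_domain.nonempty
  have hD : IsIntegral (pullback F.toM F.toM) := K921.DoubFam.isIntegral_double (m := F.m) hUne
  obtain ⟨N, hN, hNs, e, he, hext⟩ := K921.ExtFam.exists_family F.m (pX := pX) U hUne g F.comm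
  -- the complement of the diagonal
  let Δ : Set ↥(pullback pX pX) := Set.range (pullback.diagonal pX)
  have hΔ : IsClosed Δ := (pullback.diagonal pX).isClosedEmbedding.isClosed_range
  have hΔ' : (Δᶜ).Nonempty := by
    obtain ⟨x, y, hxy⟩ := hpos
    obtain ⟨z, hz₁, hz₂⟩ := Scheme.Pullback.exists_preimage_pullback (f := pX) (g := pX) x y
      (Subsingleton.elim (α := PrimeSpectrum k) _ _)
    refine ⟨z, ?_⟩
    rintro ⟨w, rfl⟩
    rw [← Scheme.Hom.comp_apply, pullback.diagonal_fst] at hz₁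
    rw [← Scheme.Hom.comp_apply, pullback.diagonal_snd] at hz₂
    exact hxy (hz₁.symm.trans hz₂)
  let O₁ : (pullback F.toM F.toM).Opens := F.ev₂ ⁻¹ᵁ ⟨Δᶜ, hΔ.isOpen_compl⟩
  have hO₁ : (O₁ : Set ↥(pullback F.toM F.toM)).Nonempty := by
    obtain ⟨_, hz, ⟨w, rfl⟩⟩ := F.ev₂.denseRange.inter_open_nonempty Δᶜ hΔ.isOpen_compl hΔ'
    exact ⟨w, hz⟩
  let O₂ : (pullback F.toM F.toM).Opens := (pullback.fst F.toM F.toM ≫ F.toM) ⁻¹ᵁ N
  have hO₂ : (O₂ : Set ↥(pullback F.toM F.toM)).Nonempty := by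
    obtain ⟨x, hxU, hxN⟩ := K921.DoubFam.exists_mem_over (m := F.m) (U := U) (N := N) hUne hN
    refine ⟨(pullback.lift (f := F.toM) (g := F.toM) (𝟙 (U : Scheme.{u})) (𝟙 (U : Scheme.{u})) rfl)
      (⟨x, hxU⟩ : U), ?_⟩
    change (pullback.fst F.toM F.toM ≫ F.toM) _ ∈ N
    rw [← Scheme.Hom.comp_apply, pullback.lift_fst_assoc, Category.id_comp]
    exact hxN
  let O : (pullback F.toM F.toM).Opens := V ⊓ (O₁ ⊓ O₂)
  have hO : (O : Set ↥(pullback F.toM F.toM)).Nonempty := by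
    have h12 := nonempty_preirreducible_inter O₁.isOpen O₂.isOpen hO₁ hO₂
    obtain ⟨y, hy1, hy2⟩ := hV.inter_open_nonempty _ (O₁.isOpen.inter O₂.isOpen) h12
    exact ⟨y, hy2, hy1⟩
  have hop : IsOpenMap ((V.ι ≫ F.ev₂) ≫ pullback.snd pX pX) := ((V.ι ≫ F.ev₂) ≫ pullback.snd pX pX).isOpenMap
  let W' : (V : Scheme.{u}).Opens := V.ι ⁻¹ᵁ O
  refine ⟨⟨((V.ι ≫ F.ev₂) ≫ pullback.snd pX pX) '' W', hop _ W'.isOpen⟩, ?_, ?_⟩
  · obtain ⟨y, hy⟩ := hO
    exact ⟨_, ⟨y, hy.1⟩, hy, rfl⟩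
  · rintro x ⟨y, hy, rfl⟩ hx
    have hlf : LocallyOfFiniteType (pullback.fst F.toM F.toM ≫ U.ι ≫
        pullback.fst (CohB1.ProjSpace.toSpec 1 k) F.m ≫ CohB1.ProjSpace.toSpec 1 k) := inferInstance
    obtain ⟨δ, hδ1, hδ2, hδ3⟩ := K921.DoubFam.exists_kpoint
      (pullback.fst F.toM F.toM ≫ U.ι ≫ pullback.fst (CohB1.ProjSpace.toSpec 1 k) F.m ≫ CohB1.ProjSpace.toSpec 1 k)
      (Z := (O : Set ↥(pullback F.toM F.toM)) ∩ (F.ev₂ ≫ pullback.snd pX pX) ⁻¹'
        {((V.ι ≫ F.ev₂) ≫ pullback.snd pX pX) y})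
      (O.isOpen.isLocallyClosed.inter (hx.preimage (F.ev₂ ≫ pullback.snd pX pX).continuous).isLocallyClosed)
      ⟨V.ι y, hy, by
        change (F.ev₂ ≫ pullback.snd pX pX) (V.ι y) = ((V.ι ≫ F.ev₂) ≫ pullback.snd pX pX) y
        rw [← Scheme.Hom.comp_apply, Category.assoc]⟩
    have hne : δ ≫ pullback.fst F.toM F.toM ≫ g ≠ δ ≫ pullback.snd F.toM F.toM ≫ g := by
      intro heq
      have h1 : δ ≫ F.ev₂ = (δ ≫ pullback.fst F.toM F.toM ≫ g) ≫ pullback.diagonal pX := by
        apply pullback.hom_ext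
        · rw [Category.assoc, F.ev₂_fst, Category.assoc, pullback.diagonal_fst, Category.comp_id]
        · rw [Category.assoc, F.ev₂_snd, Category.assoc, pullback.diagonal_snd, Category.comp_id]
          exact heq.symm
      have h2 : F.ev₂ (δ (IsLocalRing.closedPoint k)) ∉ Δ := hδ2.2.1
      refine h2 ⟨(δ ≫ pullback.fst F.toM F.toM ≫ g) (IsLocalRing.closedPoint k), ?_⟩
      rw [← Scheme.Hom.comp_apply, ← Scheme.Hom.comp_apply, h1]
    obtain ⟨n, hn⟩ := K921.DoubFam.exists_lift_open (N := N) (δ ≫ pullback.fst F.toM F.toM ≫ F.toM) (by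
      rw [Scheme.Hom.comp_apply]
      exact hδ2.2.2)
    have hn1 : n ≫ N.ι ≫ F.m = 𝟙 _ := by
      rw [reassoc_of% hn, ← pullback.condition]
      exact hδ1
    obtain ⟨i, hi₁, hi₂⟩ := K921.DoubFam.exists_fibre (N := N) n hn1
    have hs : ((δ ≫ pullback.fst F.toM F.toM) ≫ U.ι ≫ pullback.fst (CohB1.ProjSpace.toSpec 1 k) F.m) ≫
        CohB1.ProjSpace.toSpec 1 k = 𝟙 _ := by
      simp only [Category.assoc]
      exact hδ1
    have hδ' : (δ ≫ pullback.snd F.toM F.toM) ≫ U.ι ≫ pullback.snd (CohB1.ProjSpace.toSpec 1 k) F.m = n ≫ N.ι := by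
      rw [hn, Category.assoc, ← pullback.condition]
    have ht : ((δ ≫ pullback.snd F.toM F.toM) ≫ U.ι ≫ pullback.fst (CohB1.ProjSpace.toSpec 1 k) F.m) ≫
        CohB1.ProjSpace.toSpec 1 k = 𝟙 _ := by
      rw [← hn1, ← reassoc_of% hδ', ← pullback.condition]
      simp only [Category.assoc]
    have hse := K921.DoubFam.comp_fibre hext n i hi₁ hi₂ (δ ≫ pullback.fst F.toM F.toM)
      (by rw [hn, Category.assoc]) hs
    have hte := K921.DoubFam.comp_fibre hext n i hi₁ hi₂ (δ ≫ pullback.snd F.toM F.toM) hδ' ht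
    refine ⟨i ≫ e, ?_, ?_, ?_, ?_⟩
    · rw [Category.assoc, he, reassoc_of% hi₁]
    · intro hc
      have h7 := K921.NonConst.eq_of_const (i ≫ e) (by rw [Category.assoc, he, reassoc_of% hi₁]) hc _ _ hs ht
      rw [hse, hte, Category.assoc, Category.assoc] at h7
      exact hne h7
    · have h4 : (i ≫ e) (((δ ≫ pullback.snd F.toM F.toM) ≫ U.ι ≫
          pullback.fst (CohB1.ProjSpace.toSpec 1 k) F.m) (IsLocalRing.closedPoint k)) =
          ((V.ι ≫ F.ev₂) ≫ pullback.snd pX pX) y := by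
        have h5 : (F.ev₂ ≫ pullback.snd pX pX) (δ (IsLocalRing.closedPoint k)) =
          ((V.ι ≫ F.ev₂) ≫ pullback.snd pX pX) y := hδ3
        rw [← h5, ← Scheme.Hom.comp_apply, ← Scheme.Hom.comp_apply, hte, F.ev₂_snd, Category.assoc]
      exact ⟨_, h4⟩
    · exact K921.FamVery.isVeryFree_of_fam F.comm he hext n i hi₁ hi₂ δ hδ1 hn F.ev₂ F.ev₂_fst F.ev₂_snd V
        hδ2.1 hne

end Groth.Agent.S17166
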