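import Groth.Statements.S17167
import Groth.Agent.MorSch.K921.TanLift
import Groth.Agent.MorSch.K921.TanExt

set_option autoImplicit false
universe u
open CategoryTheory CategoryTheory.Limits AlgebraicGeometry
open MorSch

namespace Groth.Agent.S17167

/-- For a field k and a quasi-projective k-variety X that is smooth over k, let f be a rational curve on
X (a nonconstant k-morphism from the projective line). Suppose given a k-scheme M, a k-point m of M
and a k-morphism e from the product of the projective line with M to X whose restriction to the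
fibre over m is f, such that the tangent map of e is surjective at some point of that fibre. Then f
is free: f^*T_X is globally generated (T_X the dual of the sheaf of differentials). Here the point
is taken k-rational (the image of a k-point t of the projective line under the inclusion i of the
fibre over m), and surjectivity of the tangent map is stated as injectivity of the cotangent map
from m_{e(z)}/m_{e(z)}^2 to m_z/m_z^2, which is equivalent at a k-rational point; the published
statement allows any point of the fibre. -/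
theorem result
    (k : Type u) [Field k] (X : Scheme.{u}) (pX : X ⟶ Spec (CommRingCat.of k)) [IsIntegral X] [Smooth pX]
    (hqp : ∃ (N : ℕ) (ι : X ⟶ CohB1.ProjSpace N k), IsImmersion ι ∧ ι ≫ CohB1.ProjSpace.toSpec N k = pX)
    (f : CohB1.ProjSpace 1 k ⟶ X) (hf : f ≫ pX = CohB1.ProjSpace.toSpec 1 k) (hnc : ¬ ∃ x : X, Set.range f.base ⊆ {x})
    (M : Scheme.{u}) (qM : M ⟶ Spec (CommRingCat.of k)) (m : Spec (CommRingCat.of k) ⟶ M) (hm : m ≫ qM = 𝟙 (Spec (CommRingCat.of k)))
    (e : pullback (CohB1.ProjSpace.toSpec 1 k) qM ⟶ X) (he : e ≫ pX = pullback.fst (CohB1.ProjSpace.toSpec 1 k) qM ≫ CohB1.ProjSpace.toSpec 1 k)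
    (i : CohB1.ProjSpace 1 k ⟶ pullback (CohB1.ProjSpace.toSpec 1 k) qM) (hi₁ : i ≫ pullback.fst (CohB1.ProjSpace.toSpec 1 k) qM = 𝟙 (CohB1.ProjSpace 1 k))
    (hi₂ : i ≫ pullback.snd (CohB1.ProjSpace.toSpec 1 k) qM = CohB1.ProjSpace.toSpec 1 k ≫ m) (hie : i ≫ e = f)
    (t : Spec (CommRingCat.of k) ⟶ CohB1.ProjSpace 1 k) (ht : t ≫ CohB1.ProjSpace.toSpec 1 k = 𝟙 (Spec (CommRingCat.of k)))
    (hinj : Function.Injective (FixPt.cotangentMapAt e ((t ≫ i) (IsLocalRing.closedPoint k))
      (e ((t ≫ i) (IsLocalRing.closedPoint k))) rfl)) :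
    MorSch.IsFree pX f := by
  have hsep : IsSeparated pX := by
    obtain ⟨N, ι, hι, rfl⟩ := hqp
    infer_instance
  have hζ : (t ≫ i) ≫ e ≫ pX = 𝟙 _ := by
    rw [he, Category.assoc, reassoc_of% hi₁, ht]
  refine K921.TanLift.isFree_of_lift f hf t ht fun v hv hv' => ?_
  obtain ⟨w, hw, hw'⟩ := K921.TanExt.exists_tan_ext e (t ≫ i) hζ hinj v hv
    (by rw [hv', Category.assoc, hie])
  have hwT : w ≫ pullback.fst (CohB1.ProjSpace.toSpec 1 k) qM ≫ CohB1.ProjSpace.toSpec 1 k =
      K921.EpsDer.tT k := by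
    rw [← he, reassoc_of% hw, hv]
  have hwM : (w ≫ pullback.snd (CohB1.ProjSpace.toSpec 1 k) qM) ≫ qM = K921.EpsDer.tT k := by
    rw [Category.assoc, ← pullback.condition, hwT]
  let g : K921.EpsDer.PT (CohB1.ProjSpace.toSpec 1 k) ⟶ pullback (CohB1.ProjSpace.toSpec 1 k) qM :=
    pullback.lift (K921.EpsDer.pr (CohB1.ProjSpace.toSpec 1 k))
      (K921.EpsDer.qT (CohB1.ProjSpace.toSpec 1 k) ≫ w ≫ pullback.snd (CohB1.ProjSpace.toSpec 1 k) qM)
      (((pullback.condition (f := CohB1.ProjSpace.toSpec 1 k) (g := K921.EpsDer.tT k)).trans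
        (congrArg (K921.EpsDer.qT (CohB1.ProjSpace.toSpec 1 k) ≫ ·) hwM.symm)).trans
          (Category.assoc _ _ _).symm)
  have hg1 : g ≫ pullback.fst (CohB1.ProjSpace.toSpec 1 k) qM =
    K921.EpsDer.pr (CohB1.ProjSpace.toSpec 1 k) := pullback.lift_fst _ _ _
  have hg2 : g ≫ pullback.snd (CohB1.ProjSpace.toSpec 1 k) qM =
    K921.EpsDer.qT (CohB1.ProjSpace.toSpec 1 k) ≫ w ≫ pullback.snd (CohB1.ProjSpace.toSpec 1 k) qM :=
    pullback.lift_snd _ _ _
  refine ⟨g ≫ e, w ≫ pullback.fst (CohB1.ProjSpace.toSpec 1 k) qM, ?_, ?_, ?_, ?_, ?_⟩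
  · rw [Category.assoc, he, reassoc_of% hg1]
  · have h1 : K921.EpsDer.i0 (CohB1.ProjSpace.toSpec 1 k) ≫ g = i := by
      apply pullback.hom_ext
      · rw [Category.assoc, hg1, K921.EpsDer.i0_pr, hi₁]
      · rw [Category.assoc, hg2, K921.EpsDer.i0_qT_assoc, hi₂, reassoc_of% hw', hi₂, reassoc_of% ht]
    rw [← Category.assoc, h1, hie]
  · rw [Category.assoc, hwT]
  · rw [reassoc_of% hw', hi₁, Category.comp_id]
  · intro hh
    have h1 : pullback.lift (w ≫ pullback.fst (CohB1.ProjSpace.toSpec 1 k) qM) (𝟙 _) hh ≫ g = w := by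
      apply pullback.hom_ext
      · rw [Category.assoc, hg1]
        exact pullback.lift_fst _ _ _
      · rw [Category.assoc, hg2]
        exact (pullback.lift_snd_assoc _ _ _ _).trans (Category.id_comp _)
    rw [← Category.assoc, h1, hw]

end Groth.Agent.S17167
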