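import Groth.Statements.S17168
import Groth.Agent.MorSch.K130.CurveIdx
import Groth.Agent.Variety.K431.Uncount

set_option autoImplicit false
universe u
open CategoryTheory CategoryTheory.Limits AlgebraicGeometry
open MorSch

open CohB1 K130.Param K130.TupFam

namespace Groth.Agent.S17168

/-- Let k be an uncountable algebraically closed field and X a projective variety over k. If every
closed point of some nonempty open subset U of X lies on a rational curve, that is on the image of a
nonconstant k-morphism from the projective line, then X is uniruled: there is a k-variety M and a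
dominant rational map from the product of the projective line with M to X, defined on a dense open
subset, which does not contract some curve of the family. (The published remark is for X proper;
this row takes X projective. Uncountability matters: the morphism scheme has countably many
components.) -/
theorem result
    (k : Type u) [Field k] [IsAlgClosed k] [Uncountable k] (X : Scheme.{u}) (pX : X ⟶ Spec (CommRingCat.of k))
    [IsIntegral X] [IsProper pX]
    (hproj : ∃ (N : ℕ) (ι : X ⟶ CohB1.ProjSpace N k), IsClosedImmersion ι ∧ ι ≫ CohB1.ProjSpace.toSpec N k = pX)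
    (U : X.Opens) (hU : (U : Set X).Nonempty)
    (h : ∀ x ∈ (U : Set X), IsClosed ({x} : Set X) →
      ∃ g : CohB1.ProjSpace 1 k ⟶ X, g ≫ pX = CohB1.ProjSpace.toSpec 1 k ∧ (¬ ∃ y : X, Set.range g.base ⊆ {y}) ∧ x ∈ Set.range g.base) :
    MorSch.IsUniruled k pX := by
  obtain ⟨N, ι, hcl, hι⟩ := hproj
  by_contra hno
  have hJac : JacobsonSpace X := LocallyOfFiniteType.jacobsonSpace pX
  let I : Type u := Σ d : ℕ, {P : Ideal (RR k N d) // P ∈ (J k d (Set.range ι)).minimalPrimes} × Fin (N + 1)
  have hI : Countable I := by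
    have h1 : ∀ d : ℕ, Countable ({P : Ideal (RR k N d) // P ∈ (J k d (Set.range ι)).minimalPrimes} × Fin (N + 1)) := by
      intro d
      have h2 : (J k d (Set.range ι)).minimalPrimes.Finite := Ideal.finite_minimalPrimes_of_isNoetherianRing _ _
      have h3 : Finite {P : Ideal (RR k N d) // P ∈ (J k d (Set.range ι)).minimalPrimes} := h2.to_subtype
      infer_instance
    infer_instance
  let Cl : I → Set X := fun a => closure (ι ⁻¹' Set.range (Phi k (tup (cbar a.2.1.1)) a.2.2))
  let I' : Type u := {a : I // Q a.2.1.1 a.2.2}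
  have hC : ∀ a : I', Cl a.1 ≠ Set.univ := by
    intro a ha
    have hp : a.1.2.1.1.IsPrime := a.1.2.1.2.1.1
    exact hno (isUniruled_of_dense pX ι hι a.1.2.1.1 a.1.2.1.2.1.2 a.1.2.2 a.2 (dense_iff_closure_eq.2 ha))
  have hcov : ∀ x ∈ (U : Set X), IsClosed ({x} : Set X) → ∃ a : I', x ∈ Cl a.1 := by
    intro x hx hxc
    obtain ⟨g, hg, hnc, hxg⟩ := h x hx hxc
    obtain ⟨d, P, i, hP, hQ, hr⟩ := K130.CurveIdx.exists_index pX ι hι g hg hnc
    exact ⟨⟨⟨d, ⟨P, hP⟩, i⟩, hQ⟩, hr hxg⟩
  obtain ⟨x₀, hx₀U, hx₀⟩ := nonempty_inter_closedPoints hU U.2.isLocallyClosed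
  obtain ⟨a₀, -⟩ := hcov x₀ hx₀U hx₀
  have hne : Nonempty I' := ⟨a₀⟩
  obtain ⟨ν, hν⟩ := exists_surjective_nat I'
  obtain ⟨x, hxU, hx, hxn⟩ := K431.Uncount.exists_closedPoint k X pX (fun n => Cl (ν n).1)
    (fun n => isClosed_closure) (fun n => hC _) U hU
  obtain ⟨a, ha⟩ := hcov x hxU hx
  obtain ⟨n, rfl⟩ := hν a
  exact hxn n ha

end Groth.Agent.S17168
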