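import Groth.Statements.S17169
import Groth.Agent.MorSch.K130.DenseBd
import Groth.Agent.S16504

set_option autoImplicit false
universe u
open CategoryTheory CategoryTheory.Limits AlgebraicGeometry
open MorSch

namespace Groth.Agent.S17169

/-- Let X be a projective uniruled variety over an algebraically closed field k. Then there is a
rational curve through every closed point of X: for each closed point x there is a nonconstant
k-morphism g from the projective line to X whose image contains x. (The published remark is for X
proper and first gives a rational curve through a general point, then through every point by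
closedness of the locus swept by rational curves of bounded degree; this row takes X projective.) -/
theorem result
    (k : Type u) [Field k] [IsAlgClosed k] (X : Scheme.{u}) (pX : X ⟶ Spec (CommRingCat.of k))
    [IsIntegral X] [IsProper pX]
    (hproj : ∃ (N : ℕ) (ι : X ⟶ CohB1.ProjSpace N k), IsClosedImmersion ι ∧ ι ≫ CohB1.ProjSpace.toSpec N k = pX)
    (h : MorSch.IsUniruled k pX) (x : X) (hx : IsClosed ({x} : Set X)) :
    ∃ g : CohB1.ProjSpace 1 k ⟶ X, g ≫ pX = CohB1.ProjSpace.toSpec 1 k ∧ (¬ ∃ y : X, Set.range g.base ⊆ {y}) ∧ x ∈ Set.range g.base := by
  obtain ⟨N, ι, hι, hιk⟩ := hproj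
  letI : X.Over (Spec (CommRingCat.of k)) := ⟨pX⟩
  refine K130.DenseBd.exists_curve_through ι hιk h (fun d => ?_) x hx
  exact Groth.Agent.S16504.result k X N ι hιk d

end Groth.Agent.S17169
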