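import Groth.Statements.S17170
import Groth.Agent.MorSch.K921.FamGen

set_option autoImplicit false
universe u
open CategoryTheory CategoryTheory.Limits AlgebraicGeometry
open MorSch

namespace Groth.Agent.S17170

/-- For a field k of characteristic zero and a quasi-projective k-variety X that is smooth over k, let M
be an irreducible k-scheme, locally of finite type over k, and e a dominant k-morphism from the
product of the projective line with M to X which does not contract the fibre over some k-point m₀ of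
M. Then the members of the family over the points of a nonempty open part of M are free rational
curves: there is a nonempty open subset M' of M such that for every k-point m of M in M', the
restriction f_m of e to the fibre over m (through the section i of the first projection lying over
m) is nonconstant and f_m^*T_X is globally generated (T_X the dual of the sheaf of differentials).
(The published statement allows any irreducible k-scheme M; this row takes M locally of finite type
over k, the case the generic-smoothness argument covers.) -/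
theorem result
    (k : Type u) [Field k] [CharZero k] (X : Scheme.{u}) (pX : X ⟶ Spec (CommRingCat.of k)) [IsIntegral X] [Smooth pX]
    (hqp : ∃ (N : ℕ) (ι : X ⟶ CohB1.ProjSpace N k), IsImmersion ι ∧ ι ≫ CohB1.ProjSpace.toSpec N k = pX)
    (M : Scheme.{u}) [IrreducibleSpace M] (qM : M ⟶ Spec (CommRingCat.of k)) [LocallyOfFiniteType qM]
    (e : pullback (CohB1.ProjSpace.toSpec 1 k) qM ⟶ X) (he : e ≫ pX = pullback.fst (CohB1.ProjSpace.toSpec 1 k) qM ≫ CohB1.ProjSpace.toSpec 1 k) [IsDominant e]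
    (m₀ : Spec (CommRingCat.of k) ⟶ M) (hm₀ : m₀ ≫ qM = 𝟙 (Spec (CommRingCat.of k)))
    (i₀ : CohB1.ProjSpace 1 k ⟶ pullback (CohB1.ProjSpace.toSpec 1 k) qM) (hi₀₁ : i₀ ≫ pullback.fst (CohB1.ProjSpace.toSpec 1 k) qM = 𝟙 (CohB1.ProjSpace 1 k))
    (hi₀₂ : i₀ ≫ pullback.snd (CohB1.ProjSpace.toSpec 1 k) qM = CohB1.ProjSpace.toSpec 1 k ≫ m₀)
    (hnc₀ : ¬ ∃ x : X, Set.range (i₀ ≫ e).base ⊆ {x}) :
    ∃ M' : M.Opens, (M' : Set M).Nonempty ∧
      ∀ (m : Spec (CommRingCat.of k) ⟶ M), m ≫ qM = 𝟙 (Spec (CommRingCat.of k)) → m (IsLocalRing.closedPoint k) ∈ M' →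
        ∀ (i : CohB1.ProjSpace 1 k ⟶ pullback (CohB1.ProjSpace.toSpec 1 k) qM), i ≫ pullback.fst (CohB1.ProjSpace.toSpec 1 k) qM = 𝟙 (CohB1.ProjSpace 1 k) →
          i ≫ pullback.snd (CohB1.ProjSpace.toSpec 1 k) qM = CohB1.ProjSpace.toSpec 1 k ≫ m →
          (¬ ∃ x : X, Set.range (i ≫ e).base ⊆ {x}) ∧ MorSch.IsFree pX (i ≫ e) := by
  have hsep : IsSeparated pX := by
    obtain ⟨N, ι, hι, rfl⟩ := hqp
    infer_instance
  have : Infinite k := Infinite.of_injective ((↑) : ℕ → k) Nat.cast_injective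
  obtain ⟨U₁, hU₁, h₁⟩ := K921.FamGen.exists_open_isFree e he
  obtain ⟨U₂, hU₂, h₂⟩ := K921.NonConst.exists_open_nonconst e he m₀ hm₀ i₀ hi₀₁ hi₀₂ hnc₀
  refine ⟨U₁ ⊓ U₂, nonempty_preirreducible_inter U₁.isOpen U₂.isOpen hU₁ ⟨_, hU₂⟩, ?_⟩
  intro m hm hmU i hi₁ hi₂
  exact ⟨h₂ m hm hmU.2 i hi₁ hi₂, h₁ m hm hmU.1 i hi₁ hi₂⟩

end Groth.Agent.S17170
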