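import Groth.Statements.S17171
import Mathlib.Tactic

set_option autoImplicit false
open QSymFn

namespace Groth.Agent.S17171

/-- Restriction of a finitely supported function on `ℕ` to `Fin n`. -/
noncomputable def res (n : ℕ) (e : ℕ →₀ ℕ) : Fin n →₀ ℕ :=
  e.comapDomain Fin.val (Fin.val_injective.injOn)

theorem res_apply (n : ℕ) (e : ℕ →₀ ℕ) (s : Fin n) : res n e s = e s := rfl

theorem mapDomain_val_res (n : ℕ) (e : ℕ →₀ ℕ) (h : ∀ i ∈ e.support, i < n) :
    Finsupp.mapDomain Fin.val (res n e) = e := by
  apply Finsupp.mapDomain_comapDomain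
  · exact Fin.val_injective
  · intro i hi
    exact ⟨⟨i, h i hi⟩, rfl⟩

theorem res_mapDomain_val (n : ℕ) (e : Fin n →₀ ℕ) : res n (Finsupp.mapDomain Fin.val e) = e := by
  ext s
  rw [res_apply, Finsupp.mapDomain_apply Fin.val_injective]

theorem eq_sum_single {ℓ : ℕ} (e : Fin ℓ →₀ ℕ) : e = ∑ t : Fin ℓ, Finsupp.single t (e t) := by
  ext s
  simp [Finsupp.single_apply]

theorem mapDomain_sum {ℓ : ℕ} {α : Type} (i : Fin ℓ → α) (a : Fin ℓ → ℕ) :
    ∑ t : Fin ℓ, Finsupp.single (i t) (a t) =
      Finsupp.mapDomain i (∑ t : Fin ℓ, Finsupp.single t (a t)) := by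
  rw [Finsupp.mapDomain_finsetSum]
  exact Finset.sum_congr rfl fun t _ => by rw [Finsupp.mapDomain_single]

/-- A sum over the support, in increasing order. -/
theorem exists_sum {n : ℕ} (e : Fin n →₀ ℕ) : ∃ (ℓ : ℕ) (i : Fin ℓ → Fin n) (a : Fin ℓ → ℕ),
    StrictMono i ∧ (∀ t, 0 < a t) ∧ e = ∑ t : Fin ℓ, Finsupp.single (i t) (a t) := by
  classical
  refine ⟨e.support.card, e.support.orderEmbOfFin rfl, fun t => e (e.support.orderEmbOfFin rfl t),
    (e.support.orderEmbOfFin rfl).strictMono, fun t => ?_, ?_⟩
  · have := Finset.orderEmbOfFin_mem e.support rfl t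
    exact Nat.pos_of_ne_zero (Finsupp.mem_support_iff.mp this)
  · conv_lhs => rw [← Finsupp.sum_single e]
    rw [Finsupp.sum]
    have : e.support = Finset.univ.map (e.support.orderEmbOfFin rfl).toEmbedding := by
      ext x
      simp only [Finset.mem_map, Finset.mem_univ, true_and]
      constructor
      · intro hx
        have : x ∈ Set.range (e.support.orderEmbOfFin rfl) := by
          rw [Finset.range_orderEmbOfFin]; exact hx
        obtain ⟨t, ht⟩ := this
        exact ⟨t, ht⟩
      · rintro ⟨t, rfl⟩
        exact Finset.orderEmbOfFin_mem e.support rfl t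
    conv_lhs => rw [this]
    rw [Finset.sum_map]
    rfl

theorem degree_mapDomain {α β : Type} (f : α → β) (e : α →₀ ℕ) :
    (Finsupp.mapDomain f e).degree = e.degree := by
  classical
  induction e using Finsupp.induction_linear with
  | zero => simp
  | add x y hx hy => rw [Finsupp.mapDomain_add, map_add, map_add, hx, hy]
  | single a b => simp

/-- The ring QSym of quasisymmetric functions over ℤ, with its restriction maps to the polynomial rings
in finitely many ordered variables, is the limit of the diagram S ↦ ℤ[α_s : s ∈ S] over finite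
ordered sets S and order-preserving injections (an injection φ : S → T acting by α_t ↦ α_s when t =
φ s and α_t ↦ 0 otherwise), the limit being taken in graded rings. Stated here on degree-d
components, with the variables indexed by ℕ in place of the positive integers and the finite ordered
sets taken to be the Fin n: (a) if F is a formal power series over ℤ in variables indexed by ℕ which
is quasisymmetric (for strictly increasing i, j : Fin ℓ → ℕ and positive exponents a, the
coefficients of ∏ x_{i t}^{a t} and ∏ x_{j t}^{a t} agree) and all of whose monomials have degree d,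
then its restrictions to the initial segments Fin n ⊂ ℕ are compatible with every order embedding
Fin n ↪o Fin m; (b) every family of degree-d homogeneous polynomials f n ∈ ℤ[x_s : s ∈ Fin n],
compatible with all order embeddings Fin n ↪o Fin m in this sense, is the family of restrictions of
exactly one such quasisymmetric F of degree d. -/
theorem result (d : ℕ) :
    (∀ F : MvPowerSeries ℕ ℤ,
      (∀ (ℓ : ℕ) (i j : Fin ℓ → ℕ) (a : Fin ℓ → ℕ), StrictMono i → StrictMono j → (∀ t, 0 < a t) →
        MvPowerSeries.coeff (∑ t : Fin ℓ, Finsupp.single (i t) (a t)) F =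
          MvPowerSeries.coeff (∑ t : Fin ℓ, Finsupp.single (j t) (a t)) F) →
      (∀ e : ℕ →₀ ℕ, MvPowerSeries.coeff e F ≠ 0 → e.degree = d) →
      ∀ (n m : ℕ) (φ : Fin n ↪o Fin m) (e : Fin n →₀ ℕ),
        MvPowerSeries.coeff (Finsupp.mapDomain Fin.val e) F =
          MvPowerSeries.coeff (Finsupp.mapDomain Fin.val (Finsupp.mapDomain φ e)) F) ∧
    (∀ f : (n : ℕ) → MvPolynomial (Fin n) ℤ,
      (∀ n, (f n).IsHomogeneous d) →
      (∀ (n m : ℕ) (φ : Fin n ↪o Fin m) (e : Fin n →₀ ℕ),
        MvPolynomial.coeff e (f n) = MvPolynomial.coeff (Finsupp.mapDomain φ e) (f m)) →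
      ∃! F : MvPowerSeries ℕ ℤ,
        (∀ (ℓ : ℕ) (i j : Fin ℓ → ℕ) (a : Fin ℓ → ℕ), StrictMono i → StrictMono j → (∀ t, 0 < a t) →
          MvPowerSeries.coeff (∑ t : Fin ℓ, Finsupp.single (i t) (a t)) F =
            MvPowerSeries.coeff (∑ t : Fin ℓ, Finsupp.single (j t) (a t)) F) ∧
        (∀ e : ℕ →₀ ℕ, MvPowerSeries.coeff e F ≠ 0 → e.degree = d) ∧
        (∀ (n : ℕ) (e : Fin n →₀ ℕ),
          MvPowerSeries.coeff (Finsupp.mapDomain Fin.val e) F = MvPolynomial.coeff e (f n))) := by
  classical
  refine ⟨?_, ?_⟩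
  · intro F hF hd n m φ e
    obtain ⟨ℓ, i, a, hi, ha, rfl⟩ := exists_sum e
    rw [Finsupp.mapDomain_finsetSum, Finsupp.mapDomain_finsetSum, Finsupp.mapDomain_finsetSum]
    simp only [Finsupp.mapDomain_single]
    exact hF ℓ (fun t => (i t : ℕ)) (fun t => (φ (i t) : ℕ)) a (fun _ _ h => hi h)
      (fun _ _ h => φ.strictMono (hi h)) ha
  · intro f hhom hcomp
    -- the bound of a finitely supported function
    let N : (ℕ →₀ ℕ) → ℕ := fun e => e.support.sup id + 1
    have hN : ∀ e, ∀ i ∈ e.support, i < N e := fun e i hi =>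
      Nat.lt_succ_of_le (Finset.le_sup (f := id) hi)
    let F : MvPowerSeries ℕ ℤ := fun e => MvPolynomial.coeff (res (N e) e) (f (N e))
    have hFc : ∀ e, MvPowerSeries.coeff e F = MvPolynomial.coeff (res (N e) e) (f (N e)) := fun _ => rfl
    -- independence of the bound
    have key : ∀ (e : ℕ →₀ ℕ) (n : ℕ), (∀ i ∈ e.support, i < n) →
        MvPowerSeries.coeff e F = MvPolynomial.coeff (res n e) (f n) := by
      intro e n hn
      rw [hFc]
      -- compare both with the max
      have h1 : ∀ (a b : ℕ) (hab : a ≤ b), (∀ i ∈ e.support, i < a) →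
          MvPolynomial.coeff (res a e) (f a) = MvPolynomial.coeff (res b e) (f b) := by
        intro a b hab ha
        rw [hcomp a b (Fin.castLEOrderEmb hab) (res a e)]
        congr 1
        have h2 : Finsupp.mapDomain Fin.val (Finsupp.mapDomain (Fin.castLEOrderEmb hab) (res a e)) =
            Finsupp.mapDomain Fin.val (res b e) := by
          rw [← Finsupp.mapDomain_comp]
          change Finsupp.mapDomain (Fin.val : Fin a → ℕ) (res a e) = _
          rw [mapDomain_val_res a e ha, mapDomain_val_res b e fun i hi => lt_of_lt_of_le (ha i hi) hab]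
        exact Finsupp.mapDomain_injective Fin.val_injective h2
      rcases le_total (N e) n with h | h
      · exact h1 _ _ h (hN e)
      · exact (h1 _ _ h hn).symm
    have key2 : ∀ (n : ℕ) (e : Fin n →₀ ℕ),
        MvPowerSeries.coeff (Finsupp.mapDomain Fin.val e) F = MvPolynomial.coeff e (f n) := by
      intro n e
      rw [key _ n, res_mapDomain_val]
      intro i hi
      obtain ⟨s, -, rfl⟩ := Finset.mem_image.mp (Finsupp.mapDomain_support hi)
      exact s.2
    have key3 : ∀ (ℓ : ℕ) (i : Fin ℓ → ℕ) (hi : StrictMono i) (e : Fin ℓ →₀ ℕ),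
        MvPowerSeries.coeff (Finsupp.mapDomain i e) F = MvPolynomial.coeff e (f ℓ) := by
      intro ℓ i hi e
      -- a bound for `i`
      let n : ℕ := Finset.univ.sup i + 1
      have hn : ∀ t, i t < n := fun t => Nat.lt_succ_of_le (Finset.le_sup (Finset.mem_univ t))
      let φ : Fin ℓ ↪o Fin n := OrderEmbedding.ofStrictMono (fun t => (⟨i t, hn t⟩ : Fin n))
        (fun _ _ h => hi h)
      rw [hcomp ℓ n φ e, ← key2, ← Finsupp.mapDomain_comp]
      rfl
    refine ⟨F, ⟨?_, ?_, key2⟩, ?_⟩
    · intro ℓ i j a hi hj _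
      rw [mapDomain_sum i a, mapDomain_sum j a, key3 ℓ i hi, key3 ℓ j hj]
    · intro e he
      rw [hFc] at he
      have h1 := hhom (N e) he
      rw [← mapDomain_val_res (N e) e (hN e), degree_mapDomain]
      rw [Finsupp.degree_eq_weight_one]
      exact h1
    · rintro F' ⟨-, -, h3⟩
      apply MvPowerSeries.ext
      intro e
      rw [key e (N e) (hN e), ← h3, mapDomain_val_res _ _ (hN e)]

end Groth.Agent.S17171
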