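import Groth.Statements.S17173
import Groth.Agent.LabGraph.K794.BI

set_option autoImplicit false
universe u
open LabGraph

namespace Groth.Agent.S17173

open LabGraph in
/-- Let Γ be the weighted dual graph of a quasistable curve X of genus g ≥ 3 over an algebraically
closed field (vertices the irreducible components C_v with weight the geometric genus, one edge per
node, a loop for a node on a single component): Γ is connected, every weight-zero vertex without
loop is joined to the other vertices by at least two edges, and no edge joins two exceptional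
vertices (weight zero, no loop, exactly two edges to other vertices). Let d be a multidegree of any
total degree D (the combinatorial section fixes an arbitrary integer d; g ≥ 3 is the paper's
standing assumption). Then the degree class of d contains a representative satisfying the Basic
Inequality: there is a multidegree d', differing from d by the twist of some integer vertex
labelling (the multidegree of a divisor Σ φ_v C_v on the total space of a regular smoothing), such
that for every set Y of vertices 2·|(2g - 2)·d'_Y - D·canDeg Y| ≤ cut Y·(2g - 2), where canDeg Y = 2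
g_Y - 2 + cut Y is the degree of the dualizing sheaf on the subcurve Y and cut Y the number of nodes
where Y meets the rest of X. -/
theorem result {V E : Type u} [Fintype V] [Fintype E]
    [DecidableEq V] [DecidableEq E] (ends : E → V × V) (w : V → ℕ) (hX : IsQuasistableGraph ends w)
    (hg : 3 ≤ genus ends w) (d : V → ℤ) :
    ∃ d' : V → ℤ, TwistEquiv ends d' d ∧ SatisfiesBI ends w d' := by
  classical
  have hK : 0 < canDeg ends w Finset.univ := by
    rw [K794.BI.canDeg_univ]; linarith
  set K := canDeg ends w Finset.univ with hKdef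
  have hconn := hX.1.1
  obtain ⟨v₀⟩ := hconn.1
  set c : V → ℤ := fun v => K794.BI.exc ends w d {v} with hc
  have hcY : ∀ Y : Finset V, K794.BI.exc ends w d Y = ∑ v ∈ Y, c v := fun Y => K794.BI.exc_eq_sum ends w d Y
  have hc0 : ∑ v : V, c v = 0 := by
    rw [← hcY]
    unfold K794.BI.exc
    ring
  -- the energy function
  set En : (V → ℤ) → ℤ := fun φ => K * ∑ e : E, (φ (ends e).1 - φ (ends e).2) ^ 2 -
    2 * ∑ v : V, c v * φ v with hEn
  -- differences of values are controlled by the edge differences
  have hbd : ∀ v : V, ∃ M : ℕ, ∀ φ : V → ℤ, |φ v - φ v₀| ≤ M * ∑ e : E, |φ (ends e).1 - φ (ends e).2| := by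
    intro v
    have hr := hconn.reach v₀ v
    induction hr with
    | refl => exact ⟨0, fun φ => by simp⟩
    | @tail b a _ hba ih =>
      obtain ⟨M, hM⟩ := ih
      obtain ⟨e, _, he⟩ := hba
      refine ⟨M + 1, fun φ => ?_⟩
      have h1 := hM φ
      have h2 : |φ a - φ b| ≤ ∑ e : E, |φ (ends e).1 - φ (ends e).2| := by
        refine le_trans (le_of_eq ?_) (Finset.single_le_sum
          (f := fun e : E => |φ (ends e).1 - φ (ends e).2|) (fun e _ => abs_nonneg _) (Finset.mem_univ e))
        rcases he with he | he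
        · rw [he]
          exact abs_sub_comm _ _
        · rw [he]
      have h3 : |φ a - φ v₀| ≤ |φ a - φ b| + |φ b - φ v₀| := abs_sub_le _ _ _
      push_cast
      linarith
  choose M hM using hbd
  set C : ℤ := ∑ v : V, |c v| * M v with hC
  have hC0 : 0 ≤ C := Finset.sum_nonneg fun v _ => by positivity
  have hlow : ∀ φ : V → ℤ, - (Fintype.card E * C ^ 2 : ℤ) ≤ En φ := by
    intro φ
    have h1 : ∑ v : V, c v * φ v = ∑ v : V, c v * (φ v - φ v₀) := by
      simp_rw [mul_sub, Finset.sum_sub_distrib, ← Finset.sum_mul]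
      rw [hc0]
      ring
    have h2 : ∑ v : V, c v * (φ v - φ v₀) ≤ C * ∑ e : E, |φ (ends e).1 - φ (ends e).2| := by
      rw [hC, Finset.sum_mul]
      refine Finset.sum_le_sum fun v _ => ?_
      calc c v * (φ v - φ v₀) ≤ |c v * (φ v - φ v₀)| := le_abs_self _
        _ = |c v| * |φ v - φ v₀| := abs_mul _ _
        _ ≤ |c v| * (M v * ∑ e : E, |φ (ends e).1 - φ (ends e).2|) :=
          mul_le_mul_of_nonneg_left (hM v φ) (abs_nonneg _)
        _ = _ := by ring
    have h3 : ∑ e : E, (φ (ends e).1 - φ (ends e).2) ^ 2 ≤ K * ∑ e : E, (φ (ends e).1 - φ (ends e).2) ^ 2 := by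
      have h4 : 0 ≤ ∑ e : E, (φ (ends e).1 - φ (ends e).2) ^ 2 := Finset.sum_nonneg fun e _ => sq_nonneg _
      nlinarith
    have h5 : - (Fintype.card E * C ^ 2 : ℤ) ≤ ∑ e : E, (φ (ends e).1 - φ (ends e).2) ^ 2 -
        2 * (C * ∑ e : E, |φ (ends e).1 - φ (ends e).2|) := by
      rw [Finset.mul_sum, Finset.mul_sum, ← Finset.sum_sub_distrib]
      have : - (Fintype.card E * C ^ 2 : ℤ) = ∑ e : E, - C ^ 2 := by
        rw [Finset.sum_const, Finset.card_univ, nsmul_eq_mul]
        ring
      rw [this]
      refine Finset.sum_le_sum fun e _ => ?_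
      have h6 := sq_nonneg (|φ (ends e).1 - φ (ends e).2| - C)
      have h7 := sq_abs (φ (ends e).1 - φ (ends e).2)
      nlinarith
    simp only [hEn]
    rw [h1]
    linarith
  obtain ⟨m, ⟨φ, hφm⟩, hmin⟩ := Int.exists_least_of_bdd (P := fun z => ∃ φ : V → ℤ, En φ = z)
    ⟨_, fun z ⟨φ, hφ⟩ => hφ ▸ hlow φ⟩ ⟨_, fun _ => 0, rfl⟩
  refine ⟨fun v => d v + twist ends φ v, ⟨φ, fun v => by ring⟩, ?_⟩
  rw [K794.BI.satisfiesBI_iff]
  intro Y
  have htot : ∑ v, (d v + twist ends φ v) = ∑ v, d v := by
    rw [Finset.sum_add_distrib, K794.BI.sum_twist_univ, add_zero]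
  have h1 : K794.BI.exc ends w (fun v => d v + twist ends φ v) Y = ∑ v ∈ Y, c v +
      K * ∑ v ∈ Y, twist ends φ v := by
    rw [← hcY]
    unfold K794.BI.exc
    rw [htot, Finset.sum_add_distrib]
    ring
  have h2 := hmin (En fun v => φ v + K794.BI.ind Y v) ⟨fun v => φ v + K794.BI.ind Y v, rfl⟩
  rw [← hφm] at h2
  have h3 : (En fun v => φ v + K794.BI.ind Y v) - En φ = K * (cut ends Y : ℤ) -
      2 * (∑ v ∈ Y, c v + K * ∑ v ∈ Y, twist ends φ v) := by
    simp only [hEn]
    rw [K794.BI.cut_eq_sum, K794.BI.sum_twist]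
    have h4 : ∑ v ∈ Y, c v = ∑ v : V, c v * K794.BI.ind Y v := by
      unfold K794.BI.ind
      simp
    have h5 : ∑ v : V, c v * (φ v + K794.BI.ind Y v) = ∑ v : V, c v * φ v + ∑ v : V, c v * K794.BI.ind Y v := by
      rw [← Finset.sum_add_distrib]
      exact Finset.sum_congr rfl fun v _ => by ring
    have h6 : ∑ e : E, (φ (ends e).1 + K794.BI.ind Y (ends e).1 - (φ (ends e).2 + K794.BI.ind Y (ends e).2)) ^ 2 =
        ∑ e : E, (φ (ends e).1 - φ (ends e).2) ^ 2 + ∑ e : E, (K794.BI.ind Y (ends e).1 - K794.BI.ind Y (ends e).2) ^ 2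
        - 2 * ∑ e : E, (K794.BI.ind Y (ends e).1 - K794.BI.ind Y (ends e).2) * (φ (ends e).2 - φ (ends e).1) := by
      rw [Finset.mul_sum, ← Finset.sum_add_distrib, ← Finset.sum_sub_distrib]
      exact Finset.sum_congr rfl fun e _ => by ring
    rw [h4, h5, h6]
    ring
  rw [h1]
  linarith

end Groth.Agent.S17173
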