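import Groth.Statements.S17174
import Groth.Agent.LabGraph.K794.BI

set_option autoImplicit false
universe u
open LabGraph

namespace Groth.Agent.S17174

open LabGraph in
/-- Let Γ be the weighted dual graph of a Deligne–Mumford semistable curve X of genus g ≥ 3 over an
algebraically closed field (connected; every weight-zero vertex without loop is joined to the other
vertices by at least two edges), and let d, d' be two multidegrees of the same (arbitrary) total
degree D (g ≥ 3 being the paper's standing assumption) which both satisfy the Basic Inequality and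
lie in the same degree class (d - d' is a twist). Then d - d' can be written in normal form: there
is a labelling h of the vertices by natural numbers taking exactly the values 0, 1, …, q, with d -
d' equal to the twist of h (that is, d - d' = Σ_v h(v)·c_v with c_v the multidegree of O(C_v)), such
that for distinct levels i ≠ j in {0, …, q} the subcurves on h⁻¹(i) and h⁻¹(j) meet (some edge joins
the two levels) exactly when |i - j| = 1. -/
theorem result {V E : Type u} [Fintype V] [Fintype E]
    [DecidableEq V] [DecidableEq E] (ends : E → V × V) (w : V → ℕ) (hX : IsSemistableGraph ends w)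
    (hg : 3 ≤ genus ends w) (d d' : V → ℤ)
    (hBI : SatisfiesBI ends w d) (hBI' : SatisfiesBI ends w d') (heq : TwistEquiv ends d d') :
    ∃ (q : ℕ) (h : V → ℕ), (∀ v : V, h v ≤ q) ∧ (∀ i : ℕ, i ≤ q → ∃ v : V, h v = i) ∧
      (∀ v : V, d v - d' v = twist ends (fun u => (h u : ℤ)) v) ∧
      (∀ i j : ℕ, i ≤ q → j ≤ q → i ≠ j →
        ((∃ e : E, (h (ends e).1 = i ∧ h (ends e).2 = j) ∨ (h (ends e).1 = j ∧ h (ends e).2 = i)) ↔
          (i + 1 = j ∨ j + 1 = i))) := by
  classical
  have hK : 0 < canDeg ends w Finset.univ := by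
    rw [K794.BI.canDeg_univ]; linarith
  have hconn := hX.1
  obtain ⟨v₀⟩ := hconn.1
  obtain ⟨φ, hφ⟩ := heq
  have htot : ∑ v, d v = ∑ v, d' v := by
    have := K794.BI.sum_twist_univ ends φ
    rw [← sub_eq_zero, ← Finset.sum_sub_distrib, ← this]
    exact Finset.sum_congr rfl fun v _ => hφ v
  -- edges change the value by at most one
  have hstep : ∀ (i : ℤ) (e : E), (K794.BI.ind (Finset.univ.filter fun v => i ≤ φ v) (ends e).1 -
      K794.BI.ind (Finset.univ.filter fun v => i ≤ φ v) (ends e).2) * (φ (ends e).2 - φ (ends e).1) =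
      - (K794.BI.ind (Finset.univ.filter fun v => i ≤ φ v) (ends e).1 -
      K794.BI.ind (Finset.univ.filter fun v => i ≤ φ v) (ends e).2) ^ 2 := by
    intro i
    set Y : Finset V := Finset.univ.filter fun v => i ≤ φ v with hY
    have hle : ∀ e ∈ (Finset.univ : Finset E), (K794.BI.ind Y (ends e).1 - K794.BI.ind Y (ends e).2) *
        (φ (ends e).2 - φ (ends e).1) ≤ - (K794.BI.ind Y (ends e).1 - K794.BI.ind Y (ends e).2) ^ 2 := by
      intro e _
      unfold K794.BI.ind
      simp only [hY, Finset.mem_filter, Finset.mem_univ, true_and]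
      split_ifs with h1 h2 h2
      · simp
      · push Not at h2
        simp only [sub_zero, one_mul, one_pow]
        linarith
      · push Not at h1
        simp only [zero_sub, neg_mul, one_mul]
        linarith
      · simp
    have hsum : ∑ v ∈ Y, (d v - d' v) = ∑ e : E, (K794.BI.ind Y (ends e).1 - K794.BI.ind Y (ends e).2) *
        (φ (ends e).2 - φ (ends e).1) := by
      rw [← K794.BI.sum_twist]
      exact Finset.sum_congr rfl fun v _ => hφ v
    have hge : - (cut ends Y : ℤ) ≤ ∑ v ∈ Y, (d v - d' v) := by
      have h1 := (K794.BI.satisfiesBI_iff ends w d).1 hBI Yᶜ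
      have h2 := (K794.BI.satisfiesBI_iff ends w d').1 hBI' Y
      rw [K794.BI.exc_compl, K794.BI.cut_compl] at h1
      have h3 : K794.BI.exc ends w d Y - K794.BI.exc ends w d' Y =
          canDeg ends w Finset.univ * ∑ v ∈ Y, (d v - d' v) := by
        unfold K794.BI.exc
        rw [htot, Finset.sum_sub_distrib]
        ring
      have h4 : - (cut ends Y : ℤ) * canDeg ends w Finset.univ ≤
          (∑ v ∈ Y, (d v - d' v)) * canDeg ends w Finset.univ := by
        linarith
      exact le_of_mul_le_mul_right h4 hK
    have hEq : ∑ e : E, (K794.BI.ind Y (ends e).1 - K794.BI.ind Y (ends e).2) *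
        (φ (ends e).2 - φ (ends e).1) =
        ∑ e : E, - (K794.BI.ind Y (ends e).1 - K794.BI.ind Y (ends e).2) ^ 2 := by
      refine le_antisymm (Finset.sum_le_sum hle) ?_
      rw [← hsum, Finset.sum_neg_distrib, ← K794.BI.cut_eq_sum]
      exact hge
    intro e
    exact (Finset.sum_eq_sum_iff_of_le hle).1 hEq e (Finset.mem_univ e)
  have hstep1 : ∀ e, φ (ends e).1 ≤ φ (ends e).2 + 1 ∧ φ (ends e).2 ≤ φ (ends e).1 + 1 := by
    intro e
    rcases lt_trichotomy (φ (ends e).1) (φ (ends e).2) with h | h | h
    · have := hstep (φ (ends e).2) e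
      unfold K794.BI.ind at this
      have hn : ¬ (φ (ends e).2 ≤ φ (ends e).1) := not_le.2 h
      simp [hn] at this
      constructor <;> linarith
    · constructor <;> linarith
    · have := hstep (φ (ends e).1) e
      unfold K794.BI.ind at this
      have hn : ¬ (φ (ends e).1 ≤ φ (ends e).2) := not_le.2 h
      simp [hn] at this
      constructor <;> linarith
  -- minimum and maximum
  obtain ⟨vm, _, hvm⟩ := Finset.exists_min_image Finset.univ φ ⟨v₀, Finset.mem_univ _⟩
  obtain ⟨vM, _, hvM⟩ := Finset.exists_max_image Finset.univ φ ⟨v₀, Finset.mem_univ _⟩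
  set h : V → ℕ := fun v => (φ v - φ vm).toNat with hh
  have hhv : ∀ v, (h v : ℤ) = φ v - φ vm := fun v => Int.toNat_of_nonneg (by linarith [hvm v (Finset.mem_univ v)])
  have hedge : ∀ e, h (ends e).1 ≤ h (ends e).2 + 1 ∧ h (ends e).2 ≤ h (ends e).1 + 1 := by
    intro e
    have h1 := hstep1 e
    have h2 := hhv (ends e).1
    have h3 := hhv (ends e).2
    constructor <;> omega
  have h0 : h vm = 0 := by simp [hh]
  have hsurj : ∀ i : ℕ, i ≤ h vM → ∃ v : V, h v = i := by
    intro i hi
    by_contra hcon
    push Not at hcon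
    have hi0 : 0 < i := Nat.pos_of_ne_zero fun h => hcon vm (by rw [h0, h])
    obtain ⟨e, _, he⟩ := (hconn.reach vm vM).exists_cross (S := {v | h v < i})
      (by simp [h0, hi0]) (by simp [hi])
    have h1 := hedge e
    have h2 := hcon (ends e).1
    have h3 := hcon (ends e).2
    simp only [Set.mem_setOf_eq] at he
    omega
  refine ⟨h vM, h, fun v => ?_, hsurj, fun v => ?_, ?_⟩
  · have h1 := hvM v (Finset.mem_univ v)
    have h2 := hhv v
    have h3 := hhv vM
    omega
  · rw [hφ v, K794.BI.twist_congr ends hhv]
    exact (K794.BI.twist_add_const ends φ (- φ vm) v).symm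
  · have key : ∀ i, i + 1 ≤ h vM → ∃ e : E, (h (ends e).1 = i ∧ h (ends e).2 = i + 1) ∨
        (h (ends e).1 = i + 1 ∧ h (ends e).2 = i) := by
      intro i hi
      obtain ⟨a, ha⟩ := hsurj i (by omega)
      obtain ⟨b, hb⟩ := hsurj (i + 1) hi
      obtain ⟨e, _, he⟩ := (hconn.reach a b).exists_cross (S := {v | h v ≤ i})
        (by simp [ha]) (by simp [hb])
      have h1 := hedge e
      simp only [Set.mem_setOf_eq] at he
      refine ⟨e, ?_⟩
      omega
    intro i j hi hj hij
    constructor
    · rintro ⟨e, he⟩
      have h1 := hedge e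
      omega
    · rintro (rfl | rfl)
      · exact key i hj
      · obtain ⟨e, he⟩ := key j hi
        exact ⟨e, he.symm.imp id id⟩

end Groth.Agent.S17174
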