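import Groth.Statements.S17175
import Mathlib.RingTheory.PowerSeries.Order
import Mathlib.RingTheory.PowerSeries.NoZeroDivisors

set_option autoImplicit false
universe u
open CAlg

namespace Groth.Agent.S17175

open PowerSeries in
/-- Let k be a field, O₀ = k[[x, y]]/(xy) the complete local ring of a node and Õ₀ = k[[x]] × k[[y]] its
normalization, O₀ being embedded in Õ₀ by h ↦ (h(x, 0), h(0, y)) as the subring of pairs with equal
constant coefficients. Regard Õ₀ as an O₀-module: it is the rank-one torsion-free O₀-module that is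
not free. Then every O₀-linear endomorphism of this module is Õ₀-linear, i.e. it is multiplication
by a unique element of Õ₀; consequently its O₀-endomorphism ring is Õ₀ and its O₀-automorphism group
is the unit group of Õ₀. Here an O₀-linear endomorphism is an additive map of k[[X]] × k[[X]]
commuting with multiplication by every pair whose two constant coefficients agree. (The source works
over an algebraically closed field; only the field structure is used.) -/
theorem result (k : Type u) [Field k]
    (φ : (k⟦X⟧ × k⟦X⟧) →+ (k⟦X⟧ × k⟦X⟧))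
    (hφ : ∀ a s : k⟦X⟧ × k⟦X⟧, constantCoeff a.1 = constantCoeff a.2 → φ (a * s) = a * φ s) :
    ∃! b : k⟦X⟧ × k⟦X⟧, ∀ s : k⟦X⟧ × k⟦X⟧, φ s = b * s := by
  have hX0 : (PowerSeries.X : k⟦X⟧) ≠ 0 := PowerSeries.X_ne_zero
  have key : ∀ s : k⟦X⟧ × k⟦X⟧, φ s = φ 1 * s := by
    intro s
    have h1 : φ ((X, X) * s) = (X, X) * φ s := hφ _ _ rfl
    have h2 : φ (((X, X) * s) * 1) = ((X, X) * s) * φ 1 := hφ _ _ (by simp)
    rw [mul_one, h1] at h2
    have h3 := congrArg Prod.fst h2
    have h4 := congrArg Prod.snd h2
    simp only [Prod.fst_mul, Prod.snd_mul, mul_assoc] at h3 h4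
    refine Prod.ext ?_ ?_
    · rw [Prod.fst_mul, mul_comm]
      exact mul_left_cancel₀ hX0 h3
    · rw [Prod.snd_mul, mul_comm]
      exact mul_left_cancel₀ hX0 h4
  refine ⟨φ 1, key, fun b hb => ?_⟩
  have := hb 1
  rw [mul_one] at this
  exact this.symm

end Groth.Agent.S17175
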