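import Groth.Statements.S17176
import Mathlib.Tactic.Ring
import Mathlib.Tactic.Linarith
import Mathlib.RingTheory.Coprime.Lemmas
import Mathlib.Data.Int.GCD

set_option autoImplicit false
open Curves

namespace Groth.Agent.S17176

/-- Fix integers g ≥ 3 and d. For a complete subcurve Y of arithmetic genus g_Y of a nodal curve of
genus g, meeting the rest of the curve in k points, the lower extreme of the Basic Inequality for
line bundles of degree d is m = d(2g_Y - 2 + k)/(2g - 2) - k/2, which is an integer exactly when 2(g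
- 1) divides d(2g_Y - 2 + k) - k(g - 1). Then gcd(d - g + 1, 2g - 2) = 1 if and only if m is not an
integer for all integers g_Y, k with 0 < g_Y < g - 1, k ≥ 1 and k + 2g_Y - 2 < 2g - 2. (The row
makes explicit the bound 2g_Y - 2 + k < 2g - 2, which is automatic for subcurves of stable curves
and is satisfied by every subcurve to which the source applies the lemma; the source leaves the
ambient curve's class implicit.) -/
theorem result (g d : ℤ) (hg : 3 ≤ g) :
    Int.gcd (d - g + 1) (2 * g - 2) = 1 ↔
      ∀ gY k : ℤ, 0 < gY → gY < g - 1 → 1 ≤ k → k + 2 * gY - 2 < 2 * g - 2 →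
        ¬ (2 * (g - 1) ∣ d * (2 * gY - 2 + k) - k * (g - 1)) := by
  constructor
  · intro h gY k h1 h2 h3 h4 hdvd
    have e : d * (2 * gY - 2 + k) - k * (g - 1)
        = (2 * gY - 2 + k) * (d - g + 1) + (2 * (g - 1)) * (gY - 1) := by ring
    rw [e] at hdvd
    have h5 : 2 * (g - 1) ∣ (2 * gY - 2 + k) * (d - g + 1) :=
      (Int.dvd_add_left (Dvd.intro _ rfl)).mp hdvd
    have hc : IsCoprime (2 * (g - 1)) (d - g + 1) := by
      rw [Int.isCoprime_iff_gcd_eq_one, Int.gcd_comm]
      have : 2 * (g - 1) = 2 * g - 2 := by ring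
      rw [this]; exact h
    have h6 : 2 * (g - 1) ∣ (2 * gY - 2 + k) := hc.dvd_of_dvd_mul_right h5
    have h7 := Int.le_of_dvd (by omega) h6
    omega
  · intro h
    by_contra hne
    set a := Int.gcd (d - g + 1) (2 * g - 2) with ha
    have hpos : 0 < a := Int.gcd_pos_of_ne_zero_right _ (by omega)
    have h2 : 2 ≤ a := by omega
    obtain ⟨n, hn⟩ : ((a : ℕ) : ℤ) ∣ 2 * g - 2 := Int.gcd_dvd_right _ _
    obtain ⟨e, he⟩ : ((a : ℕ) : ℤ) ∣ d - g + 1 := Int.gcd_dvd_left _ _
    have ha2 : (2 : ℤ) ≤ (a : ℤ) := by exact_mod_cast h2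
    have hn1 : 1 ≤ n := by
      by_contra hlt
      have : n ≤ 0 := by omega
      nlinarith
    have hn2 : n < 2 * g - 2 := by nlinarith
    refine h 1 n (by omega) (by omega) hn1 (by omega) ?_
    have e1 : d * (2 * 1 - 2 + n) - n * (g - 1) = n * (d - g + 1) := by ring
    rw [e1, he]
    refine ⟨e, ?_⟩
    have : 2 * (g - 1) = a * n := by rw [← hn]; ring
    rw [this]; ring

end Groth.Agent.S17176
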