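import Groth.Statements.S17177
import Groth.Agent.CurvSt.K903.EulerVan
import Groth.Agent.CurvSt.K903.DualCoker
import Groth.Agent.CurvSt.K903.ConormalFree
import Groth.Agent.CurvSt.K903.CINodal
import Groth.Agent.CurvSt.K903.ExtOmega
import Groth.Agent.Krr.H495.Rank
import Groth.Agent.Krr.H463.DualLam
import Groth.Agent.Sga5.ProjSmooth
import Groth.Agent.Dual.H339.OmegaRank
import Groth.Agent.S1677

set_option autoImplicit false
universe u
open CategoryTheory CategoryTheory.Limits AlgebraicGeometry
attribute [local instance] HasDerivedCategory.standard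
open Curves

namespace Groth.Agent.S17177

/-- Let k be an algebraically closed field, r ≥ 1, and X ⊆ P^r_k a closed subscheme, cut out by a
quasi-coherent ideal sheaf I, which is a connected nodal curve: reduced, connected, of dimension
one, with at-worst-nodal singularities over k. Suppose H^1(X, O_X(1)) = 0, O_X(1) being the
pull-back of O(1). Let N = Hom_{O_X}(I/I², O_X) be the normal sheaf (the sheaf Hom, assumed to exist
as the right adjoint of tensoring with the conormal sheaf I/I²). Then H^1(X, N) = 0. (In the paper X
is a curve of degree d ≥ 20(g - 1) and genus g ≥ 3 whose Hilbert point is semistable, for which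
H^1(X, O_X(1)) = 0 holds, and the vanishing is used to conclude that the Hilbert scheme is
nonsingular of dimension r(r + 2) + 4g - 3 at the point of X; that deduction, through the
identification of the tangent space with H^0(X, N) and Riemann–Roch, is not part of this row.) -/
theorem result
    (k : Type u) [Field k] [IsAlgClosed k] (r : ℕ) (hr : 1 ≤ r)
    (I₀ : (CohB1.ProjSpace r k).IdealSheafData) [I₀.subscheme.Over (Spec (CommRingCat.of k))]
    (hX : I₀.subscheme ↘ Spec (CommRingCat.of k) = I₀.subschemeι ≫ (CohB1.ProjSpace r k ↘ Spec (CommRingCat.of k)))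
    [IsReduced I₀.subscheme] [ConnectedSpace I₀.subscheme] (hdim : topologicalKrullDim I₀.subscheme = 1)
    (hnod : Curv2.AtWorstNodal k I₀.subscheme)
    (h1 : Subsingleton (Coh.HH I₀.subscheme
      ((Scheme.Modules.pullback I₀.subschemeι).obj (Twist.twistProjSpace r k 1)) 1))
    [DCoh.HasSheafHom (Omega.conormal I₀.subschemeι)] :
    Subsingleton (Coh.HH I₀.subscheme
      ((DCoh.sheafHom (Omega.conormal I₀.subschemeι)).obj (Coh.structureModule I₀.subscheme)) 1) := by
  let X := I₀.subscheme
  let i : X ⟶ CohB1.ProjSpace r k := I₀.subschemeι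
  let w := CohB1.ProjSpace.toSpec r k
  have hfac : i ≫ w = X ↘ Spec (CommRingCat.of k) := hX.symm
  have hsm : SmoothOfRelativeDimension r w := Sga5.ProjSmooth.smooth_toSpec r k
  have hsm' : Smooth w := SmoothOfRelativeDimension.smooth r w
  have hprop : IsProper w := Ega3B.ProjProper.isProper_toSpec r k
  have hpX : IsProper (X ↘ Spec (CommRingCat.of k)) := by rw [← hfac]; infer_instance
  have hΩ : FlatMod.IsFinLocFreeOfRank r (Omega.sheaf w) :=
    Dual.H339.OmegaRank.isFinLocFreeOfRank_omega r w
  have hCI : CInt.IsCIMorphism (i ≫ w) := by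
    rw [hfac]
    exact K903.CINodal.isCIMorphism k X hdim.le hnod
  have hreg : Mor2.IsRegularClosedImmersion i := S1677.result w i hCI
  have hCf := K903.ConormalFree.isFinLocFree_conormal i hreg
  obtain ⟨c, hC⟩ := Krr.H495.Rank.exists_rank_of_connected hCf
  have hcl := K903.CINodal.isClosed_of_nonsmooth k X hdim.le
  have hlfp : LocallyOfFinitePresentation (i ≫ w) := by rw [hfac]; infer_instance
  have hqd : QuasiCompact (pullback.diagonal (i ≫ w)) := by rw [hfac]; infer_instance
  obtain ⟨hPf, hP⟩ := K903.EulerVan.main k r X hdim i h1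
  have hLN : IsLocallyNoetherian X := LocallyOfFiniteType.isLocallyNoetherian (X ↘ Spec (CommRingCat.of k))
  have hcs : CompactSpace X := HasAffineProperty.iff_of_isAffine (P := @QuasiCompact).mp
    (inferInstance : QuasiCompact (X ↘ Spec (CommRingCat.of k)))
  have hN : AlgebraicGeometry.IsNoetherian X := {}
  have hs := K903.DualCoker.surjective_h1 i w hdim.le hC hΩ (Coh.structureModule X)
    (PerfA.CohSerre.isCoh_of_isFinLocFree Krr.H492.DualK.isFinLocFree_structure)
    (PerfA.CohSerre.isCoh_of_isFinLocFree hCf) (PerfA.CohSerre.isCoh_of_isFinLocFree hPf)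
    (fun x hx => hcl x (by rwa [← K903.ExtOmega.mem_smoothLocus_congr _ _ hfac x]))
  have h2 := hs.subsingleton
  exact @Equiv.subsingleton _ _ (Groth.Agent.CurvesA.HHMap.equivOver k
    (Krr.H463.DualLam.dualIso (Omega.conormal I₀.subschemeι)) 1).toEquiv h2

end Groth.Agent.S17177
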