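import Groth.Statements.S17179
import Groth.Agent.LabGraph.K794.BI

set_option autoImplicit false
universe u
open LabGraph

namespace Groth.Agent.S17179

open LabGraph in
/-- Let Γ be the weighted dual graph of a Deligne–Mumford semistable curve X of genus g ≥ 3 (connected;
every weight-zero vertex without loop joined to the other vertices by at least two edges), d a
multidegree of total degree D satisfying the Basic Inequality, and Z a set of vertices whose degree
equals the upper extreme M_Z of the inequality, that is 2((2g - 2)·d_Z - D·canDeg Z) = cut Z·(2g -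
2). Then d + z again satisfies the Basic Inequality, where z, the multidegree of O(Z) on the total
space of a regular smoothing, is the twist of the indicator function of Z (it lowers the degree on Z
by cut Z and raises it on each outside vertex by its number of edges to Z). -/
theorem result {V E : Type u} [Fintype V] [Fintype E]
    [DecidableEq V] [DecidableEq E] (ends : E → V × V) (w : V → ℕ) (hX : IsSemistableGraph ends w)
    (hg : 3 ≤ genus ends w) (d : V → ℤ) (hBI : SatisfiesBI ends w d) (Z : Finset V)
    (hZ : 2 * (canDeg ends w Finset.univ * (∑ v ∈ Z, d v) - (∑ v : V, d v) * canDeg ends w Z) =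
      (cut ends Z : ℤ) * canDeg ends w Finset.univ) :
    SatisfiesBI ends w (fun v => d v + twist ends (fun u => if u ∈ Z then 1 else 0) v) := by
  classical
  have hK : 0 < canDeg ends w Finset.univ := by
    rw [K794.BI.canDeg_univ]; linarith
  rw [K794.BI.satisfiesBI_iff] at hBI ⊢
  intro Y
  set φ : V → ℤ := fun u => if u ∈ Z then 1 else 0 with hφ
  have hφi : ∀ v, φ v = K794.BI.ind Z v := fun v => rfl
  have htot : ∑ v, (d v + twist ends φ v) = ∑ v, d v := by
    rw [Finset.sum_add_distrib, K794.BI.sum_twist_univ, add_zero]
  have h1 : K794.BI.exc ends w (fun v => d v + twist ends φ v) Y = K794.BI.exc ends w d Y +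
      canDeg ends w Finset.univ * ∑ v ∈ Y, twist ends φ v := by
    unfold K794.BI.exc
    rw [htot, Finset.sum_add_distrib]
    ring
  have hmod := K794.BI.exc_union_add_inter ends w d Y Z
  have hU := hBI (Y ∪ Z)
  have hI := hBI (Y ∩ Z)
  have hZ' : 2 * K794.BI.exc ends w d Z = (cut ends Z : ℤ) * canDeg ends w Finset.univ := hZ
  have hcut : (cut ends (Y ∪ Z) : ℤ) + cut ends (Y ∩ Z) - cut ends Z + 2 * ∑ v ∈ Y, twist ends φ v ≤
      cut ends Y := by
    rw [K794.BI.cut_eq_sum, K794.BI.cut_eq_sum, K794.BI.cut_eq_sum, K794.BI.cut_eq_sum,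
      K794.BI.sum_twist, Finset.mul_sum, ← Finset.sum_add_distrib, ← Finset.sum_sub_distrib,
      ← Finset.sum_add_distrib]
    refine Finset.sum_le_sum fun e _ => ?_
    rw [hφi, hφi]
    unfold K794.BI.ind
    by_cases hy1 : (ends e).1 ∈ Y <;> by_cases hy2 : (ends e).2 ∈ Y <;>
      by_cases hz1 : (ends e).1 ∈ Z <;> by_cases hz2 : (ends e).2 ∈ Z <;>
      simp [hy1, hy2, hz1, hz2]
  rw [h1]
  nlinarith [mul_le_mul_of_nonneg_right hcut hK.le]

end Groth.Agent.S17179
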