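import Groth.Statements.S17180
import Groth.Agent.Surf.K332.HodgeFib2

set_option autoImplicit false
universe u
open CategoryTheory CategoryTheory.Limits AlgebraicGeometry
open Surf

namespace Groth.Agent.S17180

/-- Let k be a field, X an integral proper k-scheme of dimension 2 with regular local rings which is
geometrically irreducible over k, C an integral proper smooth k-scheme of dimension 1, and f : X → C
a surjective k-morphism. Let L be an invertible O_X-module whose intersection number with every
vertical integral curve (a closed integral one-dimensional E ⊆ X sent by f to a single point) is 0,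
and whose intersection number with some horizontal integral curve P (closed, integral,
one-dimensional, with f(P) not a single point) is 0. Then (L·L) ≤ 0, and if (L·L) = 0 then L is
numerically trivial: its intersection number with every closed integral curve of X is 0. Here (L·L)
= χ(O_X) − 2χ(L) + χ(L ⊗ L) and the number with a curve Y is χ(O_Y) − χ(L ⊗ O_Y), both packaged as
FGA.intNum. (The published assertion is the positive-definiteness of the pairing −(D·D′) on classes
of divisors of degree 0 on the generic fibre modulo classes of fibre components, after tensoring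
with the rationals; this row gives that content for divisor classes up to numerical equivalence,
which is what the printed argument establishes, and leaves aside the identification of the pairing
with a canonical height. The published setting also takes X to be the relatively minimal regular
model, projective over k, of a smooth projective geometrically irreducible curve of positive genus
over the function field of C, with C projective and geometrically irreducible; this row keeps only
the hypotheses the printed argument uses.) -/
theorem result (k : Type u) [Field k]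
    (X : Scheme.{u}) [X.Over (Spec (CommRingCat.of k))] [IsProper (X ↘ Spec (CommRingCat.of k))]
    [IsIntegral X] [GeometricallyIrreducible (X ↘ Spec (CommRingCat.of k))]
    (hreg : ∀ x : X, IsRegularLocalRing (X.presheaf.stalk x)) (hdim : topologicalKrullDim X = 2)
    (C : Scheme.{u}) [C.Over (Spec (CommRingCat.of k))] [IsProper (C ↘ Spec (CommRingCat.of k))]
    [Smooth (C ↘ Spec (CommRingCat.of k))] [IsIntegral C] (hdimC : topologicalKrullDim C = 1)
    (f : X ⟶ C) [f.IsOver (Spec (CommRingCat.of k))] [Surjective f]
    (L : X.Modules) (hL : PicF.IsInvertible L)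
    (hvert : ∀ (E : Scheme.{u}) (ι : E ⟶ X) [IsClosedImmersion ι] [IsIntegral E],
      topologicalKrullDim E = 1 → (Set.range (fun e : E => f (ι e))).Subsingleton →
      FGA.intNum k X 2 ![L] ((Coh.push ι).obj (Coh.structureModule E)) = 0)
    (P : Scheme.{u}) (ιP : P ⟶ X) [IsClosedImmersion ιP] [IsIntegral P] (hP : topologicalKrullDim P = 1)
    (hPh : (Set.range (fun q : P => f (ιP q))).Nontrivial)
    (hLP : FGA.intNum k X 2 ![L] ((Coh.push ιP).obj (Coh.structureModule P)) = 0) :
    FGA.intNum k X 2 ![L, L] (Coh.structureModule X) ≤ 0 ∧
      (FGA.intNum k X 2 ![L, L] (Coh.structureModule X) = 0 →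
        ∀ (Y : Scheme.{u}) (ι : Y ⟶ X) [IsClosedImmersion ι] [IsIntegral Y], topologicalKrullDim Y = 1 →
          FGA.intNum k X 2 ![L] ((Coh.push ι).obj (Coh.structureModule Y)) = 0) := by
  have hd : topologicalKrullDim X ≤ (2 : ℕ) := by rw [hdim]; rfl
  have hf : f ≫ (C ↘ Spec (CommRingCat.of k)) = X ↘ Spec (CommRingCat.of k) := comp_over f _
  have hN : IsLocallyNoetherian C := LocallyOfFiniteType.isLocallyNoetherian (C ↘ (Spec (CommRingCat.of k)))
  have hregC : ∀ c : C, IsRegularLocalRing (C.presheaf.stalk c) :=
    K456.FibDiv.isRegular_of_smooth (C ↘ Spec (CommRingCat.of k))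
  obtain ⟨h1, h2⟩ := K332.HodgeFib.main k f hf hreg hdim hdimC hregC (Groth.Agent.Grpsch.PicGrp.mk L hL)
    (fun D hD hs => by
      have := hD.integral
      have h := hvert D.subscheme D.subschemeι ((K464.Curves.dim_sub X D).trans hD.dim) (by
        rintro _ ⟨x, rfl⟩ _ ⟨y, rfl⟩
        exact hs ⟨D.subschemeι x, by rw [← D.range_subschemeι]; exact ⟨x, rfl⟩, rfl⟩
          ⟨D.subschemeι y, by rw [← D.range_subschemeι]; exact ⟨y, rfl⟩, rfl⟩)
      rw [K332.HodgeFib.intNum_curve k hd D.subschemeι hL, Scheme.IdealSheafData.ker_subschemeι] at h
      linarith)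
    ιP.ker (K332.HodgeFib.isCurve_ker ιP hP) (by
      obtain ⟨_, ⟨x, rfl⟩, _, ⟨y, rfl⟩, hxy⟩ := hPh
      have hr : ∀ z : P, ιP z ∈ (ιP.ker.support : Set X) := fun z =>
        (Groth.Agent.Dix.VertGeom.mem_support_ker_iff ιP _).2 ⟨z, rfl⟩
      exact ⟨_, ⟨ιP x, hr x, rfl⟩, _, ⟨ιP y, hr y, rfl⟩, hxy⟩)
    (by
      rw [K332.HodgeFib.intNum_curve k hd ιP hL] at hLP
      linarith)
  rw [K464.Base.intNum_eq_dot k X hd hL hL]
  refine ⟨h1, fun h0 Y ι _ _ hY => ?_⟩
  rw [K332.HodgeFib.intNum_curve k hd ι hL, h2 h0 Y ι hY, neg_zero]

end Groth.Agent.S17180
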