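import Groth.Statements.S17182
import Groth.Agent.CurvSt.K740.DiagAll

set_option autoImplicit false
universe u
open CurvSt

namespace Groth.Agent.S17182

open CategoryTheory AlgebraicGeometry in
/-- Let S be a scheme and consider the category over schemes over S whose objects over T are the
families of curves over T (an algebraic space X over S together with a proper, flat, finitely
presented morphism X → T all of whose fibres have dimension at most one; no marked sections) with
cartesian squares as morphisms. Assume this category is an algebraic stack for the fppf topology
(the algebraicity of the stack of curves). Then its diagonal over S is representable by algebraic
spaces and is separated and of finite presentation. The source works over the spectrum of the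
integers; over a base scheme S the statement is its base change. -/
theorem result (S : Scheme.{u})
    (hC : AlgSt.IsAlgStack Scheme.fppfPrecoverage (CurvSt.Curves S 0)) :
    AlgSt.RepByAlgSpWith (AlgSp.IsSeparatedMor ⊓ AlgSp.IsFinitePresentationMor)
      (FibCat.diag (FibCat.toSelf (CurvSt.Curves S 0))) := by
  exact K740.CurvAlg.diag_sep_fp S 0

end Groth.Agent.S17182
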