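import Groth.Statements.S17183
import Groth.Agent.CurvSt.K740.DiagAll

set_option autoImplicit false
universe u
open CurvSt

namespace Groth.Agent.S17183

open CategoryTheory AlgebraicGeometry in
/-- Let S be a scheme and consider the category over schemes over S whose objects over T are the
families of curves over T (an algebraic space X over S together with a proper, flat, finitely
presented morphism X → T all of whose fibres have dimension at most one; no marked sections) with
cartesian squares as morphisms. Assume this category is an algebraic stack for the fppf topology
(the algebraicity of the stack of curves). Then it is quasi-separated over S (its diagonal over S is
representable by algebraic spaces, quasi-compact and quasi-separated) and its structure functor to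
schemes over S is locally of finite presentation (on some smooth chart square with surjective source
chart the chart morphism is locally of finite presentation). The source works over the spectrum of
the integers; over a base scheme S the statement is its base change. -/
theorem result (S : Scheme.{u})
    (hC : AlgSt.IsAlgStack Scheme.fppfPrecoverage (CurvSt.Curves S 0)) :
    AlgSt.IsQuasiSeparatedOver (CurvSt.Curves S 0) ∧
      AlgSt.LocQ (AlgSp.LocP @LocallyOfFinitePresentation) (FibCat.toSelf (CurvSt.Curves S 0)) := by
  exact ⟨K740.CurvAlg.isQuasiSeparatedOver_curves S 0, K740.CurvAlg.locQ_lfp_toSelf S 0⟩

end Groth.Agent.S17183
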