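import Groth.Statements.S17185
import Groth.Agent.CurvSt.K902.CurvRows
import Groth.Agent.CurvSt.K740.CurvAlgFin

set_option autoImplicit false
universe u
open CurvSt

namespace Groth.Agent.S17185

open CategoryTheory AlgebraicGeometry in
/-- Let S be a scheme and consider the category over schemes over S whose objects over T are the
families of curves over T (an algebraic space X over S together with a proper, flat, finitely
presented morphism X → T all of whose fibres have dimension at most one; no marked sections) with
cartesian squares as morphisms. Assume this category is an algebraic stack for the fppf topology
(the algebraicity of the stack of curves). Then the full subcategory of families whose structure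
morphism is smooth (read etale locally on scheme charts) is smooth over S: for some smooth
surjective scheme chart of it and some smooth scheme chart of the base category of schemes over S,
compatible up to a 2-isomorphism along a morphism of schemes h, the morphism h is smooth. The source
works over the spectrum of the integers; over a base scheme S the statement is its base change. -/
theorem result (S : Scheme.{u})
    (hC : AlgSt.IsAlgStack Scheme.fppfPrecoverage (CurvSt.Curves S 0)) :
    AlgSt.LocQ (AlgSp.LocP @Smooth)
      (FibCat.toSelf (AlgSt.fullSub (CurvSt.Curves S 0) (fun A => AlgSp.LocP @Smooth A.obj.f))) := by
  exact K902.CurvRows.s17185 S hC (K740.CurvAlg.locQ_lfp_toSelf S 0)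

end Groth.Agent.S17185
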