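import Groth.Statements.S17187
import Groth.Agent.CurvSt.K902.CurvRows
import Groth.Agent.CurvSt.K740.CurvAlgFin
import Groth.Agent.S17186

set_option autoImplicit false
universe u
open CurvSt

namespace Groth.Agent.S17187

open CategoryTheory AlgebraicGeometry in
/-- Let S be a scheme and consider the category over schemes over S whose objects over T are the
families of curves over T (an algebraic space X over S together with a proper, flat, finitely
presented morphism X → T all of whose fibres have dimension at most one; no marked sections) with
cartesian squares as morphisms. Assume this category is an algebraic stack for the fppf topology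
(the algebraicity of the stack of curves). Then the full subcategory of families whose structure
morphism is at-worst-nodal of relative dimension one (read etale locally on scheme charts) is smooth
over S: for some smooth surjective scheme chart of it and some smooth scheme chart of the base
category, compatible up to a 2-isomorphism along a morphism of schemes h, the morphism h is smooth.
Moreover this subcategory has, over every algebraically closed field over S, an object all of whose
geometric fibres realised as schemes are non-empty (the empty family, which satisfies the nodal
condition vacuously, does not count). The source works over the spectrum of the integers; over a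
base scheme S the statement is its base change. -/
theorem result (S : Scheme.{u})
    (hC : AlgSt.IsAlgStack Scheme.fppfPrecoverage (CurvSt.Curves S 0)) :
    AlgSt.LocQ (AlgSp.LocP @Smooth) (FibCat.toSelf (AlgSt.fullSub (CurvSt.Curves S 0) (fun A => AlgSp.LocP CurvSt.nodalFam A.obj.f))) ∧
      ∀ (Ω : Type u) [Field Ω] [IsAlgClosed Ω] (t : Spec (CommRingCat.of Ω) ⟶ S),
        Nonempty ((AlgSt.fullSub (CurvSt.Curves S 0) (fun A => AlgSp.LocP CurvSt.nodalFam A.obj.f ∧
          CurvSt.GeomFib (fun _ _ _ X' _ _ => Nonempty ↥X') A.obj)).p.Fiber (Over.mk t)) := by
  exact ⟨K902.CurvRows.s17187 S hC (K740.CurvAlg.locQ_lfp_toSelf S 0), (Groth.Agent.S17186.result S hC).2⟩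

end Groth.Agent.S17187
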