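import Groth.Statements.S17189
import Groth.Agent.CurvSt.K902.SchInst

set_option autoImplicit false
universe u
open CurvSt

namespace Groth.Agent.S17189

open CategoryTheory AlgebraicGeometry in
/-- Let S be a scheme and consider the category over schemes over S whose objects over T are the
families of curves over T (an algebraic space X over S together with a proper, flat, finitely
presented morphism X → T all of whose fibres have dimension at most one; no marked sections) with
cartesian squares as morphisms. Assume this category is an algebraic stack for the fppf topology
(the algebraicity of the stack of curves). Then for every g ≥ 0 the families which are prestable
(etale locally on scheme charts at-worst-nodal of relative dimension one, and every geometric fibre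
realised as a scheme is connected; the source's condition that the direct image of the structure
sheaf is the structure sheaf universally is rendered by this equivalent fibre condition) and all of
whose geometric fibres have genus g (dimension of the first cohomology of the structure sheaf; the
source's condition is that the first higher direct image of the structure sheaf is locally free of
rank g, equivalent for prestable families) form an open substack: that condition is closed under
isomorphism, the full subcategory on it is an fppf algebraic stack and its inclusion is
representable by open immersions; and each of these substacks has an object over every algebraically
closed field over S. The source decomposes the prestable locus into open and closed pieces, one for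
each genus; that decomposition is represented here by the openness of every piece, and neither that
the pieces cover nor that each piece is closed is stated. The source works over the spectrum of the
integers; over a base scheme S the statement is its base change. -/
theorem result (S : Scheme.{u})
    (hC : AlgSt.IsAlgStack Scheme.fppfPrecoverage (CurvSt.Curves S 0)) :
    ∀ g : ℕ, AlgSt.IsOpenSubstack (CurvSt.Curves S 0) (fun A => CurvSt.SpIsPrestable A.obj ∧ CurvSt.SpHasGenus A.obj g) Scheme.fppfPrecoverage ∧
      ∀ (Ω : Type u) [Field Ω] [IsAlgClosed Ω] (t : Spec (CommRingCat.of Ω) ⟶ S),
        Nonempty ((AlgSt.fullSub (CurvSt.Curves S 0) (fun A => CurvSt.SpIsPrestable A.obj ∧ CurvSt.SpHasGenus A.obj g)).p.Fiber (Over.mk t)) := by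
  exact K902.SchInst.s17189 S hC

end Groth.Agent.S17189
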