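import Groth.Statements.S17190
import Groth.Agent.CurvSt.K902.CurvRows
import Groth.Agent.CurvSt.K740.CurvAlgFin

set_option autoImplicit false
universe u
open CurvSt

namespace Groth.Agent.S17190

open CategoryTheory AlgebraicGeometry in
/-- Let S be a scheme and consider the category over schemes over S whose objects over T are the
families of curves over T (an algebraic space X over S together with a proper, flat, finitely
presented morphism X → T all of whose fibres have dimension at most one; no marked sections) with
cartesian squares as morphisms. Assume this category is an algebraic stack for the fppf topology
(the algebraicity of the stack of curves). Then the full subcategory of families which are prestable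
(etale locally on scheme charts at-worst-nodal of relative dimension one, and every geometric fibre
realised as a scheme is connected; the source's condition that the direct image of the structure
sheaf is the structure sheaf universally is rendered by this equivalent fibre condition), and for
every g ≥ 0 the full subcategory of such families all of whose geometric fibres have genus g, are
smooth over S: for some smooth surjective scheme chart of the subcategory and some smooth scheme
chart of the base category, compatible up to a 2-isomorphism along a morphism of schemes h, the
morphism h is smooth. Moreover each of these subcategories has an object over every algebraically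
closed field over S. The source works over the spectrum of the integers; over a base scheme S the
statement is its base change. -/
theorem result (S : Scheme.{u})
    (hC : AlgSt.IsAlgStack Scheme.fppfPrecoverage (CurvSt.Curves S 0)) :
    (AlgSt.LocQ (AlgSp.LocP @Smooth) (FibCat.toSelf (AlgSt.fullSub (CurvSt.Curves S 0) (fun A => CurvSt.SpIsPrestable A.obj))) ∧
      ∀ (Ω : Type u) [Field Ω] [IsAlgClosed Ω] (t : Spec (CommRingCat.of Ω) ⟶ S),
        Nonempty ((AlgSt.fullSub (CurvSt.Curves S 0) (fun A => CurvSt.SpIsPrestable A.obj)).p.Fiber (Over.mk t))) ∧
    ∀ g : ℕ, AlgSt.LocQ (AlgSp.LocP @Smooth) (FibCat.toSelf (AlgSt.fullSub (CurvSt.Curves S 0) (fun A => CurvSt.SpIsPrestable A.obj ∧ CurvSt.SpHasGenus A.obj g))) ∧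
      ∀ (Ω : Type u) [Field Ω] [IsAlgClosed Ω] (t : Spec (CommRingCat.of Ω) ⟶ S),
        Nonempty ((AlgSt.fullSub (CurvSt.Curves S 0) (fun A => CurvSt.SpIsPrestable A.obj ∧ CurvSt.SpHasGenus A.obj g)).p.Fiber (Over.mk t)) := by
  exact K902.CurvRows.s17190 S hC (K740.CurvAlg.locQ_lfp_toSelf S 0)

end Groth.Agent.S17190
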