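import Groth.Statements.S17191
import Groth.Agent.CurvSt.K900.SemiRow

set_option autoImplicit false
universe u
open CurvSt

namespace Groth.Agent.S17191

open CategoryTheory AlgebraicGeometry in
/-- Let S be a scheme and consider the category over schemes over S whose objects over T are the
families of curves over T (an algebraic space X over S together with a proper, flat, finitely
presented morphism X → T all of whose fibres have dimension at most one; no marked sections) with
cartesian squares as morphisms. Assume this category is an algebraic stack for the fppf topology
(the algebraicity of the stack of curves). Then the families which are prestable (etale locally on
scheme charts at-worst-nodal of relative dimension one, and every geometric fibre realised as a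
scheme is connected; the source's condition that the direct image of the structure sheaf is the
structure sheaf universally is rendered by this equivalent fibre condition), and semistable: every
geometric fibre has genus at least one and no rational tail (the source asks this of the fibre over
each point of the base; the geometric-fibre form is equivalent) form an open substack: that
condition is closed under isomorphism, the full subcategory on it is an fppf algebraic stack and its
inclusion is representable by open immersions. Moreover this substack has an object over every
algebraically closed field over S. The source works over the spectrum of the integers; over a base
scheme S the statement is its base change. -/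
theorem result (S : Scheme.{u})
    (hC : AlgSt.IsAlgStack Scheme.fppfPrecoverage (CurvSt.Curves S 0)) :
    AlgSt.IsOpenSubstack (CurvSt.Curves S 0) (fun A => CurvSt.SpIsSemistable A.obj) Scheme.fppfPrecoverage ∧
      ∀ (Ω : Type u) [Field Ω] [IsAlgClosed Ω] (t : Spec (CommRingCat.of Ω) ⟶ S),
        Nonempty ((AlgSt.fullSub (CurvSt.Curves S 0) (fun A => CurvSt.SpIsSemistable A.obj)).p.Fiber (Over.mk t)) :=
  ⟨K899.OpenCrit.isOpenSubstack hC (K900.SemiOpen.hasOpenLocus_semistable S 0), fun _ _ _ t =>
    K900.SemiRow.exists_fiber_semistable le_rfl t _ fun _ h => h.1⟩

end Groth.Agent.S17191
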