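import Groth.Statements.S17192
import Groth.Agent.CurvSt.K900.SemiRow

set_option autoImplicit false
universe u
open CurvSt

namespace Groth.Agent.S17192

open CategoryTheory AlgebraicGeometry in
/-- Let S be a scheme and consider the category over schemes over S whose objects over T are the
families of curves over T (an algebraic space X over S together with a proper, flat, finitely
presented morphism X → T all of whose fibres have dimension at most one; no marked sections) with
cartesian squares as morphisms. Assume this category is an algebraic stack for the fppf topology
(the algebraicity of the stack of curves). Then for every g ≥ 1 the families which are prestable
(etale locally on scheme charts at-worst-nodal of relative dimension one, and every geometric fibre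
realised as a scheme is connected; the source's condition that the direct image of the structure
sheaf is the structure sheaf universally is rendered by this equivalent fibre condition), and
semistable: every geometric fibre has genus at least one and no rational tail (the source asks this
of the fibre over each point of the base; the geometric-fibre form is equivalent), and all of whose
geometric fibres have genus exactly g (the source's condition is that the first higher direct image
of the structure sheaf is locally free of rank g, equivalent here), form an open substack: that
condition is closed under isomorphism, the full subcategory on it is an fppf algebraic stack and its
inclusion is representable by open immersions; and each of these substacks has an object over every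
algebraically closed field over S. The source decomposes the semistable locus into open and closed
pieces, one for each genus; that decomposition is represented here by the openness of every piece,
and neither that the pieces cover nor that each piece is closed is stated. The source works over the
spectrum of the integers; over a base scheme S the statement is its base change. -/
theorem result (S : Scheme.{u})
    (hC : AlgSt.IsAlgStack Scheme.fppfPrecoverage (CurvSt.Curves S 0)) :
    ∀ g : ℕ, 1 ≤ g → AlgSt.IsOpenSubstack (CurvSt.Curves S 0) (fun A => CurvSt.SpIsSemistable A.obj ∧ CurvSt.SpHasGenus A.obj g) Scheme.fppfPrecoverage ∧
      ∀ (Ω : Type u) [Field Ω] [IsAlgClosed Ω] (t : Spec (CommRingCat.of Ω) ⟶ S),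
        Nonempty ((AlgSt.fullSub (CurvSt.Curves S 0) (fun A => CurvSt.SpIsSemistable A.obj ∧ CurvSt.SpHasGenus A.obj g)).p.Fiber (Over.mk t)) :=
  fun g hg => ⟨K899.OpenCrit.isOpenSubstack hC (K900.SemiRow.hasOpenLocus_semistable_genus S 0 g), fun _ _ _ t =>
    K900.SemiRow.exists_fiber_semistable hg t _ fun _ h => h⟩

end Groth.Agent.S17192
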