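import Groth.Statements.S17193
import Groth.Agent.CurvSt.K902.CurvRows
import Groth.Agent.CurvSt.K740.CurvAlgFin
import Groth.Agent.CurvSt.K900.SemiRow

set_option autoImplicit false
universe u
open CurvSt

namespace Groth.Agent.S17193

open CategoryTheory AlgebraicGeometry in
/-- Let S be a scheme and consider the category over schemes over S whose objects over T are the
families of curves over T (an algebraic space X over S together with a proper, flat, finitely
presented morphism X → T all of whose fibres have dimension at most one; no marked sections) with
cartesian squares as morphisms. Assume this category is an algebraic stack for the fppf topology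
(the algebraicity of the stack of curves). Then the full subcategory of families which are prestable
(etale locally on scheme charts at-worst-nodal of relative dimension one, and every geometric fibre
realised as a scheme is connected; the source's condition that the direct image of the structure
sheaf is the structure sheaf universally is rendered by this equivalent fibre condition), and
semistable: every geometric fibre has genus at least one and no rational tail (the source asks this
of the fibre over each point of the base; the geometric-fibre form is equivalent), and for every g ≥
1 the full subcategory of such families all of whose geometric fibres have genus g, are smooth over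
S: for some smooth surjective scheme chart of the subcategory and some smooth scheme chart of the
base category, compatible up to a 2-isomorphism along a morphism of schemes h, the morphism h is
smooth. Moreover each of these subcategories has an object over every algebraically closed field
over S. The source works over the spectrum of the integers; over a base scheme S the statement is
its base change. -/
theorem result (S : Scheme.{u})
    (hC : AlgSt.IsAlgStack Scheme.fppfPrecoverage (CurvSt.Curves S 0)) :
    (AlgSt.LocQ (AlgSp.LocP @Smooth) (FibCat.toSelf (AlgSt.fullSub (CurvSt.Curves S 0) (fun A => CurvSt.SpIsSemistable A.obj))) ∧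
      ∀ (Ω : Type u) [Field Ω] [IsAlgClosed Ω] (t : Spec (CommRingCat.of Ω) ⟶ S),
        Nonempty ((AlgSt.fullSub (CurvSt.Curves S 0) (fun A => CurvSt.SpIsSemistable A.obj)).p.Fiber (Over.mk t))) ∧
    ∀ g : ℕ, 1 ≤ g → AlgSt.LocQ (AlgSp.LocP @Smooth) (FibCat.toSelf (AlgSt.fullSub (CurvSt.Curves S 0) (fun A => CurvSt.SpIsSemistable A.obj ∧ CurvSt.SpHasGenus A.obj g))) ∧
      ∀ (Ω : Type u) [Field Ω] [IsAlgClosed Ω] (t : Spec (CommRingCat.of Ω) ⟶ S),
        Nonempty ((AlgSt.fullSub (CurvSt.Curves S 0) (fun A => CurvSt.SpIsSemistable A.obj ∧ CurvSt.SpHasGenus A.obj g)).p.Fiber (Over.mk t)) := by
  have hlfp := K740.CurvAlg.locQ_lfp_toSelf S 0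
  refine ⟨⟨K902.CurvRows.smooth_of_nodal hC hlfp (K900.SemiOpen.hasOpenLocus_semistable S 0) fun _ h => h.1.1,
    fun _ _ _ t => K900.SemiRow.exists_fiber_semistable le_rfl t _ fun _ h => h.1⟩, fun g hg =>
    ⟨K902.CurvRows.smooth_of_nodal hC hlfp (K900.SemiRow.hasOpenLocus_semistable_genus S 0 g) fun _ h => h.1.1.1,
    fun _ _ _ t => K900.SemiRow.exists_fiber_semistable hg t _ fun _ h => h⟩⟩

end Groth.Agent.S17193
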