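import Groth.Statements.S17194
import Groth.Agent.CurvSt.K900.StabRow

set_option autoImplicit false
universe u
open CurvSt

namespace Groth.Agent.S17194

open CategoryTheory AlgebraicGeometry in
/-- Let S be a scheme and consider the category over schemes over S whose objects over T are the
families of curves over T (an algebraic space X over S together with a proper, flat, finitely
presented morphism X → T all of whose fibres have dimension at most one; no marked sections) with
cartesian squares as morphisms. Assume this category is an algebraic stack for the fppf topology
(the algebraicity of the stack of curves). Then the families which are prestable (etale locally on
scheme charts at-worst-nodal of relative dimension one, and every geometric fibre realised as a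
scheme is connected; the source's condition that the direct image of the structure sheaf is the
structure sheaf universally is rendered by this equivalent fibre condition), and stable: every
geometric fibre has genus at least two and neither a rational tail nor a rational bridge (the source
asks this of the fibre over each point of the base; the geometric-fibre form is equivalent) form an
open substack: that condition is closed under isomorphism, the full subcategory on it is an fppf
algebraic stack and its inclusion is representable by open immersions. Moreover this substack has an
object over every algebraically closed field over S. The source works over the spectrum of the
integers; over a base scheme S the statement is its base change. -/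
theorem result (S : Scheme.{u})
    (hC : AlgSt.IsAlgStack Scheme.fppfPrecoverage (CurvSt.Curves S 0)) :
    AlgSt.IsOpenSubstack (CurvSt.Curves S 0) (fun A => CurvSt.SpIsStable A.obj) Scheme.fppfPrecoverage ∧
      ∀ (Ω : Type u) [Field Ω] [IsAlgClosed Ω] (t : Spec (CommRingCat.of Ω) ⟶ S),
        Nonempty ((AlgSt.fullSub (CurvSt.Curves S 0) (fun A => CurvSt.SpIsStable A.obj)).p.Fiber (Over.mk t)) :=
  ⟨K899.OpenCrit.isOpenSubstack hC (K900.StabOpen.hasOpenLocus_stable S 0), fun _ _ _ t =>
    K900.StabRow.exists_fiber_stable le_rfl t⟩

end Groth.Agent.S17194
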