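import Groth.Statements.S17195
import Groth.Agent.S17201
import Groth.Agent.CurvSt.K333.Unpt
-- import your own Groth.Agent.* helpers here

set_option autoImplicit false
universe u
open CurvSt

namespace Groth.Agent.S17195

attribute [-instance] CategoryTheory.catToReflQuiver Groth.Agent.Dcoh.MonCx.TensorGood.zero

open CategoryTheory CategoryTheory.Limits AlgebraicGeometry in
/-- Let f : C → T be a morphism of schemes which is a prestable family of curves (proper, flat and
locally of finite presentation, every fibre with all irreducible components of dimension one and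
at-worst-nodal singularities, every geometric fibre connected) and all of whose geometric fibres
have genus g, where g ≥ 2; assume injective resolutions of O_C-modules. Then f factors as a morphism
c : C → C' over T followed by g' : C' → T, where g' is again a prestable family all of whose
geometric fibres have genus g and have neither a rational tail nor a rational bridge (a stable
family of genus g), such that O_{C'} → c_* O_C is an isomorphism and R^1 c_* O_C = 0, and such that
for every morphism T₀ → T and every pair of cartesian squares of schemes producing the base change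
c₀ : C₀ → D₀ of c, again O_{D₀} → c₀_* O_{C₀} is an isomorphism and R^1 c₀_* O_{C₀} = 0. (The
published statement allows genus one; a smooth curve of genus one over a field is a prestable family
of genus one admitting no such factorization, since the two conditions on c force the target to have
the same genus while a stable family has fibres of genus at least two, so genus at least two is
required. The source allows algebraic-space total spaces; here the total space of the given family
is a scheme, which is a special case, and then the contracted family is a scheme as well.) -/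
theorem result {C T : Scheme.{u}} (f : C ⟶ T) (g : ℕ)
    (hpre : CurvSt.IsPrestableFam f)
    (hgen : ∀ (Ω : Type u) [Field Ω] [IsAlgClosed Ω] (t : Spec (CommRingCat.of Ω) ⟶ T) (X : Scheme.{u}) (i : X ⟶ C)
      (q : X ⟶ Spec (CommRingCat.of Ω)), IsPullback i q f t → Models.curveGenus Ω X q = g)
    (hg : 2 ≤ g) [HasInjectiveResolutions C.Modules] :
    ∃ (C' : Scheme.{u}) (g' : C' ⟶ T) (c : C ⟶ C'), c ≫ g' = f ∧
      (CurvSt.IsPrestableFam g' ∧
        ∀ (Ω : Type u) [Field Ω] [IsAlgClosed Ω] (t : Spec (CommRingCat.of Ω) ⟶ T) (Y : Scheme.{u}) (i : Y ⟶ C')
          (q : Y ⟶ Spec (CommRingCat.of Ω)), IsPullback i q g' t →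
          Models.curveGenus Ω Y q = g ∧ ∀ (Z : Set ↥Y) (hZ : Z ∈ irreducibleComponents (↥Y : Type u)),
            ¬ Curv2.IsRationalTail Y Z hZ ∧ ¬ @Curv2.IsRationalBridge Ω _ Y ⟨q⟩ Z hZ) ∧
      IsIso (ClSub.unitToPush c) ∧ IsZero ((Coh.Rpush c 1).obj (Coh.structureModule C)) ∧
      ∀ (T₀ C₀ D₀ : Scheme.{u}) (b : T₀ ⟶ T) (g₀ : D₀ ⟶ T₀) (c₀ : C₀ ⟶ D₀) (pD : D₀ ⟶ C') (pC : C₀ ⟶ C)
        [HasInjectiveResolutions C₀.Modules],
        IsPullback pD g₀ g' b → IsPullback pC c₀ c pD →
          IsIso (ClSub.unitToPush c₀) ∧ IsZero ((Coh.Rpush c₀ 1).obj (Coh.structureModule C₀)) := by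
  exact K333.Unpt.main (fun f n g σ hσ h1 h2 => Groth.Agent.S17201.result f n g σ hσ h1 h2) f g hpre hgen hg

end Groth.Agent.S17195
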