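import Groth.Statements.S17197
import Groth.Agent.CurvSt.K897.UniqModel
-- import your own Groth.Agent.* helpers here

set_option autoImplicit false
universe u
open CurvSt

namespace Groth.Agent.S17197

attribute [-instance] CategoryTheory.catToReflQuiver

open CategoryTheory CategoryTheory.Limits AlgebraicGeometry in
/-- For a discrete valuation ring R, K its field of fractions, and a curve C over K which is proper,
smooth, integral and of dimension one, with H^0(C, O_C) = K and genus g = dim_K H^1(C, O_C) ≥ 2,
suppose X → Spec R and X' → Spec R are two stable curves of genus g over Spec R (flat proper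
finitely presented morphisms of schemes whose geometric fibres are connected nodal curves of
dimension one and arithmetic genus g in which every smooth rational component meets the other
components in at least three points), each given with a morphism from C making C its generic fibre
(a cartesian square over Spec K → Spec R). Then there is exactly one isomorphism X ≅ X' over Spec R
whose composite with the first identification of C is the second. -/
theorem result (R : Type u) [CommRing R] [IsDomain R] [IsDiscreteValuationRing R]
    (C : Scheme.{u}) (f : C ⟶ Spec (CommRingCat.of (FractionRing R)))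
    (hC : Curve.IsSmoothProperCurve (FractionRing R) C f) (hH0 : IsIso f.appTop)
    (g : ℕ) (hgen : Models.curveGenus (FractionRing R) C f = g) (hg : 2 ≤ g)
    (X X' : Scheme.{u}) (p : X ⟶ Spec (CommRingCat.of R)) (p' : X' ⟶ Spec (CommRingCat.of R))
    (hX : CurvSt.IsStableFam p (Fin.elim0 : Fin 0 → (Spec (CommRingCat.of R) ⟶ X)) (fun i => i.elim0) g)
    (hX' : CurvSt.IsStableFam p' (Fin.elim0 : Fin 0 → (Spec (CommRingCat.of R) ⟶ X')) (fun i => i.elim0) g)
    (j : C ⟶ X) (hj : IsPullback j f p (Spec.map (CommRingCat.ofHom (algebraMap R (FractionRing R)))))
    (j' : C ⟶ X') (hj' : IsPullback j' f p' (Spec.map (CommRingCat.ofHom (algebraMap R (FractionRing R))))) :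
    ∃! e : X ≅ X', e.hom ≫ p' = p ∧ j ≫ e.hom = j' := by
  subst hgen
  exact K897.UniqModel.existsUnique_iso hC hH0 hg hX hX' j hj j' hj'

end Groth.Agent.S17197
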