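import Groth.Statements.S17198
import Groth.Agent.CurvSt.K333.MallAlg

set_option autoImplicit false
universe u
open CurvSt

namespace Groth.Agent.S17198

open CategoryTheory AlgebraicGeometry in
/-- Let S be a scheme, g an integer and n a natural number, and consider the category over schemes over
S whose objects over T are the families of n-pointed curves of genus g over T — an algebraic space X
over S with a morphism X → T which is flat, proper and of finite presentation, n sections, every
geometric fibre (realised as a scheme) of dimension exactly one and of arithmetic genus g, that is 1
− χ(O) = g — with cartesian squares compatible with the sections as morphisms. Then this category is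
an algebraic stack for the etale topology, its structure functor to schemes over S is locally of
finite type (for some smooth surjective scheme chart of it and some smooth scheme chart of the base
category, compatible up to a 2-isomorphism along a morphism of schemes h, the morphism h is locally
of finite type), and it has an object over every algebraically closed field over S. The source works
over the spectrum of the integers; over a base scheme S the statement is its base change. The genus
is allowed to be any integer here (disjoint unions of lines have negative arithmetic genus); the
source's argument does not use its sign. -/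
theorem result (S : Scheme.{u}) (g : ℤ) (n : ℕ) :
    AlgSt.IsAlgStack Scheme.etalePrecoverage (AlgSt.fullSub (CurvSt.Curves S n) (fun A => CurvSt.GeomFib (fun Ω _ _ X' q _ => topologicalKrullDim ↥X' = 1) A.obj ∧ CurvSt.SpHasArithGenus A.obj g)) ∧
      AlgSt.LocQ (AlgSp.LocP @LocallyOfFiniteType) (FibCat.toSelf (AlgSt.fullSub (CurvSt.Curves S n) (fun A => CurvSt.GeomFib (fun Ω _ _ X' q _ => topologicalKrullDim ↥X' = 1) A.obj ∧ CurvSt.SpHasArithGenus A.obj g))) ∧
      ∀ (Ω : Type u) [Field Ω] [IsAlgClosed Ω] (t : Spec (CommRingCat.of Ω) ⟶ S),
        Nonempty ((AlgSt.fullSub (CurvSt.Curves S n) (fun A => CurvSt.GeomFib (fun Ω _ _ X' q _ => topologicalKrullDim ↥X' = 1) A.obj ∧ CurvSt.SpHasArithGenus A.obj g)).p.Fiber (Over.mk t)) := by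
  exact ⟨K333.MallAlg.isAlgStack_mall S n g, K333.MallAlg.locQ_lft S n (K333.LocRows.openLocus_mall S n g),
    fun Ω _ _ t => K333.CurvObj.nonempty_fiber_mall t g⟩

end Groth.Agent.S17198
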