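import Groth.Statements.S17199
import Groth.Agent.CurvSt.K333.MallObj
import Groth.Agent.CurvSt.K333.LocRows

set_option autoImplicit false
universe u
open CurvSt

namespace Groth.Agent.S17199

open CategoryTheory AlgebraicGeometry in
/-- Let S be a scheme and g, n natural numbers, and consider the category over schemes over S whose
objects over T are the families of n-pointed curves of genus g over T — an algebraic space X over S
with a morphism X → T which is flat, proper and of finite presentation, n sections, every geometric
fibre (realised as a scheme) of dimension exactly one and of arithmetic genus g, that is 1 − χ(O) =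
g — with cartesian squares compatible with the sections as morphisms. Assume this category is an
algebraic stack for the etale topology (the algebraicity of the stack of all curves). Then, first,
if 2g − 2 + n > 0, the families all of whose geometric fibres, with the marked points induced by the
sections, are stable n-pointed curves of genus g (proper, connected, of dimension one,
at-worst-nodal, h^1(O) = g, marked points distinct, closed and in the smooth locus, every smooth
rational component carrying at least three special points) form an open substack — the condition is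
closed under isomorphism, the full subcategory is an etale algebraic stack and its inclusion is
representable by open immersions — and this substack has an object over every algebraically closed
field over S; second, the families all of whose geometric fibres with their marked points are
prestable n-pointed curves of genus g (proper, connected, of dimension one, at-worst-nodal, h^1(O) =
g, marked points distinct, closed and smooth) form an open substack with an object over every
algebraically closed field over S; third, the families whose structure morphism is, etale locally on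
scheme charts, at-worst-nodal of relative dimension one form an open substack with an object over
every algebraically closed field over S. The source's notion of a prestable pointed curve can be
read as excluding genus one with no marked points; the prestable locus here includes that case. The
source also asserts this for the semistable locus, which is not stated here, and works over the
spectrum of the integers; over a base scheme S the statement is its base change. -/
theorem result (S : Scheme.{u}) (g n : ℕ)
    (hM : AlgSt.IsAlgStack Scheme.etalePrecoverage (AlgSt.fullSub (CurvSt.Curves S n) (fun A => CurvSt.GeomFib (fun Ω _ _ X' q _ => topologicalKrullDim ↥X' = 1) A.obj ∧ CurvSt.SpHasArithGenus A.obj (g : ℤ)))) :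
    (3 ≤ 2 * g + n →
      AlgSt.IsOpenSubstack (AlgSt.fullSub (CurvSt.Curves S n) (fun A => CurvSt.GeomFib (fun Ω _ _ X' q _ => topologicalKrullDim ↥X' = 1) A.obj ∧ CurvSt.SpHasArithGenus A.obj (g : ℤ))) (fun A => CurvSt.SpIsStablePtd A.obj.obj g) Scheme.etalePrecoverage ∧
        ∀ (Ω : Type u) [Field Ω] [IsAlgClosed Ω] (t : Spec (CommRingCat.of Ω) ⟶ S),
        Nonempty ((AlgSt.fullSub (AlgSt.fullSub (CurvSt.Curves S n) (fun A => CurvSt.GeomFib (fun Ω _ _ X' q _ => topologicalKrullDim ↥X' = 1) A.obj ∧ CurvSt.SpHasArithGenus A.obj (g : ℤ))) (fun A => CurvSt.SpIsStablePtd A.obj.obj g)).p.Fiber (Over.mk t))) ∧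
    (AlgSt.IsOpenSubstack (AlgSt.fullSub (CurvSt.Curves S n) (fun A => CurvSt.GeomFib (fun Ω _ _ X' q _ => topologicalKrullDim ↥X' = 1) A.obj ∧ CurvSt.SpHasArithGenus A.obj (g : ℤ))) (fun A => CurvSt.SpIsPrestablePtd A.obj.obj g) Scheme.etalePrecoverage ∧
        ∀ (Ω : Type u) [Field Ω] [IsAlgClosed Ω] (t : Spec (CommRingCat.of Ω) ⟶ S),
        Nonempty ((AlgSt.fullSub (AlgSt.fullSub (CurvSt.Curves S n) (fun A => CurvSt.GeomFib (fun Ω _ _ X' q _ => topologicalKrullDim ↥X' = 1) A.obj ∧ CurvSt.SpHasArithGenus A.obj (g : ℤ))) (fun A => CurvSt.SpIsPrestablePtd A.obj.obj g)).p.Fiber (Over.mk t))) ∧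
    (AlgSt.IsOpenSubstack (AlgSt.fullSub (CurvSt.Curves S n) (fun A => CurvSt.GeomFib (fun Ω _ _ X' q _ => topologicalKrullDim ↥X' = 1) A.obj ∧ CurvSt.SpHasArithGenus A.obj (g : ℤ))) (fun A => AlgSp.LocP CurvSt.nodalFam A.obj.obj.f) Scheme.etalePrecoverage ∧
        ∀ (Ω : Type u) [Field Ω] [IsAlgClosed Ω] (t : Spec (CommRingCat.of Ω) ⟶ S),
        Nonempty ((AlgSt.fullSub (AlgSt.fullSub (CurvSt.Curves S n) (fun A => CurvSt.GeomFib (fun Ω _ _ X' q _ => topologicalKrullDim ↥X' = 1) A.obj ∧ CurvSt.SpHasArithGenus A.obj (g : ℤ))) (fun A => AlgSp.LocP CurvSt.nodalFam A.obj.obj.f)).p.Fiber (Over.mk t))) := by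
  refine ⟨fun hgn => ⟨?_, fun Ω _ _ t => K333.CurvObj.nonempty_fiber_stable t g hgn⟩,
    ⟨?_, fun Ω _ _ t => K333.CurvObj.nonempty_fiber_prestable t g⟩,
    ⟨?_, fun Ω _ _ t => K333.CurvObj.nonempty_fiber_nodal t g⟩⟩
  · exact K901.OpenSub.isOpenSubstack_etale hM
      (K333.LocRows.openLocus_sub _ (K333.LocRows.openLocus_stable S n g))
  · exact K901.OpenSub.isOpenSubstack_etale hM
      (K333.LocRows.openLocus_sub _ (K333.LocRows.openLocus_prestable S n g))
  · exact K901.OpenSub.isOpenSubstack_etale hM
      (K333.LocRows.openLocus_sub _ (K333.LocRows.openLocus_nodal S n))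

end Groth.Agent.S17199
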