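import Groth.Statements.S17200
import Groth.Agent.CurvSt.K900.OmegaGood

set_option autoImplicit false
universe u
attribute [local instance] HasDerivedCategory.standard
open CurvSt

namespace Groth.Agent.S17200

open CategoryTheory CategoryTheory.Limits AlgebraicGeometry in
/-- Let f : C → T be a morphism of schemes with n sections σ_i which is a prestable n-pointed family of
genus g (flat, proper and locally of finite presentation, every geometric fibre with the marked
points induced by the sections a connected at-worst-nodal curve of dimension one with h^1(O) = g and
marked points distinct, closed and in the smooth locus). Let ω denote the relative dualizing sheaf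
of f, the cohomology sheaf in degree −1 of f^! O_T computed from given duality data (the derived
direct image on complexes with quasi-coherent cohomology, preserving quasi-coherence, its right
adjoint, and an object identified with the structure sheaf of T), and let L_i be an invertible
module inverse to the ideal sheaf of the section σ_i. Then the family is stable (every geometric
fibre with its marked points is a stable n-pointed curve of genus g: in addition every smooth
rational component carries at least three special points and 2g − 2 + n > 0) if and only if ω ⊗ L_1
⊗ ⋯ ⊗ L_n is relatively ample over T. The source allows the total space to be an algebraic space;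
here it is a scheme (for stable families nothing is lost, such families being projective). -/
theorem result {C T : Scheme.{u}} (f : C ⟶ T) (n g : ℕ) (σ : Fin n → (T ⟶ C))
    (hσ : ∀ i, σ i ≫ f = 𝟙 T) (hpre : CurvSt.IsPrestablePtdFam f σ hσ g)
    [DCoh.HasRpush f] (h : DCoh.RpushPreservesQCoh f) [DCoh.HasShriek f h] (OT : DCoh.DQCoh T)
    (hOT : Nonempty (OT.obj ≅ DCoh.inD T (Coh.structureModule T)))
    (LD : Fin n → C.Modules) (hLD : ∀ i, ClSub.IsInverseOf (LD i) (ClSub.idealMod (σ i).ker)) :
    CurvSt.IsStableFam f σ hσ g ↔
      RelAmple.IsRelAmple f (Curv2.tensorPows (DCoh.dualizingMod f h OT 1) n LD (fun _ => 1)) := by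
  have hP : IsProper f := hpre.2.1
  exact K900.StabAmple.isStableFam_iff hσ hpre
    (K900.OmegaGood.goodDual f (K900.OmegaGood.isNodalFamily_of_prestable hσ hpre) h OT hOT) LD hLD

end Groth.Agent.S17200
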