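import Groth.Statements.S17202
import Groth.Agent.CurvSt.K900.OmegaGood
import Groth.Agent.CurvSt.K900.FibTail

set_option autoImplicit false
universe u
attribute [local instance] HasDerivedCategory.standard
open CurvSt

namespace Groth.Agent.S17202

open CategoryTheory CategoryTheory.Limits AlgebraicGeometry in
/-- Let f : X → S be a morphism of schemes which is a prestable family of curves (proper, flat and
locally of finite presentation, every fibre with all irreducible components of dimension one and
at-worst-nodal singularities, every geometric fibre connected) all of whose geometric fibres have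
genus g, with g ≥ 2; let ω be the relative dualizing sheaf of f, the cohomology sheaf in degree −1
of f^! O_S computed from given duality data (the derived direct image on complexes with
quasi-coherent cohomology, preserving quasi-coherence, its right adjoint, and an object identified
with the structure sheaf of S); and let s be a point of S. Then the following are equivalent: the
fibre X_s, as a scheme over the residue field of s, has no rational tail and no rational bridge; ω
restricted to f⁻¹(U) is ample for some open neighbourhood U of s in S. The source allows the total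
space to be an algebraic space; here it is a scheme, a special case. -/
theorem result {X S : Scheme.{u}} (f : X ⟶ S) (g : ℕ)
    (hpre : CurvSt.IsPrestableFam f)
    (hgen : ∀ (Ω : Type u) [Field Ω] [IsAlgClosed Ω] (t : Spec (CommRingCat.of Ω) ⟶ S) (Y : Scheme.{u}) (i : Y ⟶ X)
      (q : Y ⟶ Spec (CommRingCat.of Ω)), IsPullback i q f t → Models.curveGenus Ω Y q = g)
    (hg : 2 ≤ g)
    [DCoh.HasRpush f] (h : DCoh.RpushPreservesQCoh f) [DCoh.HasShriek f h] (OS : DCoh.DQCoh S)
    (hOS : Nonempty (OS.obj ≅ DCoh.inD S (Coh.structureModule S))) (s : ↥S) :
    (∀ (C : Set ↥(f.fiber s)) (hC : C ∈ irreducibleComponents (↥(f.fiber s) : Type u)),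
        ¬ Curv2.IsRationalTail (f.fiber s) C hC ∧
          ¬ @Curv2.IsRationalBridge ↥(S.residueField s) _ (f.fiber s) ⟨f.fiberToSpecResidueField s⟩ C hC) ↔
      ∃ U : S.Opens, s ∈ U ∧ CohB1.IsAmple ((DCoh.dualizingMod f h OS 1).restrict (f ⁻¹ᵁ U).ι) := by
  have hP : IsProper f := hpre.1
  have hG := K900.OmegaGood.goodDual f hpre.2.1 h OS hOS
  rw [K900.RelAmp.isAmple_fiber_iff f hG.inv s]
  let _ : (f.fiber s).Over (Spec (CommRingCat.of (S.residueField s))) := ⟨f.fiberToSpecResidueField s⟩
  obtain ⟨h1, h2, h3, h4, h5⟩ := K900.FibTail.fibre_facts f g hpre hgen s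
  have h1' : IsProper (f.fiber s ↘ Spec (CommRingCat.of (S.residueField s))) := h1
  obtain ⟨tr, htr⟩ := hG.pair (S.residueField s) (S.fromSpecResidueField s) (f.fiber s) (f.fiberι s)
    (f.fiberToSpecResidueField s) (K900.RelAmp.isPullback_fiber f s) h2
  exact K900.FibTail.isAmple_iff (S.residueField s) (f.fiber s) h2 h3 h4 (by rw [h5]; exact hg)
    (Groth.Agent.Models2.AmplePull.isInvertible_pullback _ hG.inv) htr

end Groth.Agent.S17202
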