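import Groth.Statements.S17203
import Groth.Agent.CurvSt.K326.CanonNear
-- import your own Groth.Agent.* helpers here

set_option autoImplicit false
universe u
attribute [local instance] HasDerivedCategory.standard
open CurvSt

namespace Groth.Agent.S17203

attribute [-instance] CategoryTheory.catToReflQuiver

open CategoryTheory CategoryTheory.Limits AlgebraicGeometry in
/-- Let f : X → S be a morphism of schemes which is a prestable family of curves (proper, flat and
locally of finite presentation, every fibre with all irreducible components of dimension one and
at-worst-nodal singularities, every geometric fibre connected) all of whose geometric fibres have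
genus g, with g ≥ 1; let ω be the relative dualizing sheaf of f, the cohomology sheaf in degree −1
of f^! O_S computed from given duality data (the derived direct image on complexes with
quasi-coherent cohomology, preserving quasi-coherence, its right adjoint, and an object identified
with the structure sheaf of S); let s be a point of S and m ≥ 2 an integer. Then the following are
equivalent: the fibre X_s, as a scheme over the residue field of s, has no rational tail; for some
open neighbourhood U of s in S the counit map f^* f_* (ω^{⊗m}) → ω^{⊗m} becomes an epimorphism of
modules after restriction to f⁻¹(U). The source allows the total space to be an algebraic space;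
here it is a scheme, a special case. -/
theorem result {X S : Scheme.{u}} (f : X ⟶ S) (g : ℕ)
    (hpre : CurvSt.IsPrestableFam f)
    (hgen : ∀ (Ω : Type u) [Field Ω] [IsAlgClosed Ω] (t : Spec (CommRingCat.of Ω) ⟶ S) (Y : Scheme.{u}) (i : Y ⟶ X)
      (q : Y ⟶ Spec (CommRingCat.of Ω)), IsPullback i q f t → Models.curveGenus Ω Y q = g)
    (hg : 1 ≤ g)
    [DCoh.HasRpush f] (h : DCoh.RpushPreservesQCoh f) [DCoh.HasShriek f h] (OS : DCoh.DQCoh S)
    (hOS : Nonempty (OS.obj ≅ DCoh.inD S (Coh.structureModule S))) (s : ↥S) (m : ℕ) (hm : 2 ≤ m) :
    (∀ (C : Set ↥(f.fiber s)) (hC : C ∈ irreducibleComponents (↥(f.fiber s) : Type u)),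
        ¬ Curv2.IsRationalTail (f.fiber s) C hC) ↔
      ∃ U : S.Opens, s ∈ U ∧
        Epi ((Scheme.Modules.restrictFunctor (f ⁻¹ᵁ U).ι).map
          ((Scheme.Modules.pullbackPushforwardAdjunction f).counit.app
            (CohB1.tensorPow (DCoh.dualizingMod f h OS 1) m))) := by
  exact ⟨fun hnt => K326.CanonNear.forward f g hpre hgen hg h OS hOS s m hm hnt,
    fun ⟨_, hs, hU⟩ => K326.CanonNear.backward f g hpre hgen h OS hOS s m hm hs hU⟩

end Groth.Agent.S17203
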