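import Groth.Statements.S17204
import Groth.Agent.CurvSt.K901.DualRel
import Groth.Agent.Dual.H318.PureDim

set_option autoImplicit false
universe u
attribute [local instance] HasDerivedCategory.standard
open CurvSt

namespace Groth.Agent.S17204

open CategoryTheory CategoryTheory.Limits AlgebraicGeometry in
/-- Let f : X → S be a flat, proper morphism of schemes, locally of finite presentation (a family of
curves whose total space is a scheme), all of whose fibres are Gorenstein (every local ring of every
fibre is a Gorenstein local ring) with every irreducible component of dimension one; the relative
dualizing complex of f is f^! O_S, computed from given duality data (the derived direct image on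
complexes with quasi-coherent cohomology, preserving quasi-coherence, its right adjoint, and an
object identified with the structure sheaf of S), and the relative dualizing sheaf ω is its
cohomology sheaf in degree −1. Then ω is an invertible O_X-module. The source allows the total space
to be an algebraic space and also states that the formation of ω commutes with arbitrary base
change; here the total space is a scheme and the base-change compatibility is not stated. -/
theorem result {X S : Scheme.{u}} (f : X ⟶ S)
    [Flat f] [IsProper f] [LocallyOfFinitePresentation f] (hG : Dual3.IsGorensteinMor f)
    (hdim : ∀ s : ↥S, ∀ Z ∈ irreducibleComponents (↥(f.fiber s) : Type u), topologicalKrullDim ↥Z = 1)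
    [DCoh.HasRpush f] (h : DCoh.RpushPreservesQCoh f) [DCoh.HasShriek f h] (OS : DCoh.DQCoh S)
    (hOS : Nonempty (OS.obj ≅ DCoh.inD S (Coh.structureModule S))) :
    PicF.IsInvertible (DCoh.dualizingMod f h OS 1) := by
  have hd : ∀ x : X, FlatMor.fibreDimAt f x = ((1 : ℕ) : WithBot ℕ∞) :=
    Groth.Agent.Dual.H318.PureDim.fibreDimAt_eq f 1 fun y Z hZ => by
      rw [hdim y Z hZ]
      rfl
  exact K901.DualRel.gor f h OS hOS 1 fun x => ⟨hG x, hd x⟩

end Groth.Agent.S17204
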