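import Groth.Statements.S17206
import Groth.Agent.CurvSt.K333.StableOpen
import Groth.Agent.CurvSt.K902.EtSchFin

set_option autoImplicit false
universe u
open CurvSt

namespace Groth.Agent.S17206

open CategoryTheory AlgebraicGeometry in
/-- Let S be a scheme and let (T, X → T, σ_1, …, σ_n) be a family of n-pointed curves over a scheme T
over S whose total space X is an algebraic space over S (a proper, flat, finitely presented morphism
all of whose fibres have dimension at most one; in the source every fibre is a curve of dimension
exactly one), and let g be a natural number. For a point s of T consider the geometric fibres over s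
realised as schemes X' over algebraically closed fields Ω (cartesian squares of sheaves over
geometric points t : Spec Ω → T with image s and scheme vertex X'), with the marked points induced
by the sections. Then the set of s such that every such geometric fibre is a stable n-pointed curve
of genus g (proper, connected, dimension one, at-worst-nodal, h^1(O) = g, marked points distinct,
closed and in the smooth locus, every smooth rational component with at least three special points,
2g − 2 + n > 0) is open in T; the set of s such that every such geometric fibre is a prestable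
n-pointed curve of genus g (the same list without the component condition and the numerical
condition) is open in T; and the set of s such that every such geometric fibre has at-worst-nodal
singularities and all irreducible components of dimension one is open in T. The source's loci do not
fix the genus; here the stable and prestable loci are taken genus by genus. The source's notion of a
prestable pointed curve can be read as excluding genus one with no marked points; the prestable
locus here includes that case. The source also asserts this for the semistable locus, not stated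
here. -/
theorem result (S : Scheme.{u}) (n g : ℕ)
    (A : CurvSt.SpFamObj S n) (hA : CurvSt.IsCurveFam A) :
    IsOpen {s : ↥A.base.left | ∀ (Ω : Type u) [Field Ω] [IsAlgClosed Ω] (t : Spec (CommRingCat.of Ω) ⟶ A.base.left),
        t.base (IsLocalRing.closedPoint Ω) = s →
        ∀ (X' : Scheme.{u}) (q : X' ⟶ Spec (CommRingCat.of Ω)) (i : (AlgSp.yon S).obj (A.ptOver (q ≫ t)) ⟶ A.X)
          (hP : IsPullback i ((AlgSp.yon S).map (A.fibHom t q)) A.f ((AlgSp.yon S).map (A.ptHom t))),
          CurvSt.IsStablePtd Ω X' q g (A.spMarkedPt hP)} ∧
    IsOpen {s : ↥A.base.left | ∀ (Ω : Type u) [Field Ω] [IsAlgClosed Ω] (t : Spec (CommRingCat.of Ω) ⟶ A.base.left),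
        t.base (IsLocalRing.closedPoint Ω) = s →
        ∀ (X' : Scheme.{u}) (q : X' ⟶ Spec (CommRingCat.of Ω)) (i : (AlgSp.yon S).obj (A.ptOver (q ≫ t)) ⟶ A.X)
          (hP : IsPullback i ((AlgSp.yon S).map (A.fibHom t q)) A.f ((AlgSp.yon S).map (A.ptHom t))),
          StMap.IsPrestablePtd Ω X' q g (A.spMarkedPt hP)} ∧
    IsOpen {s : ↥A.base.left | ∀ (Ω : Type u) [Field Ω] [IsAlgClosed Ω] (t : Spec (CommRingCat.of Ω) ⟶ A.base.left),
        t.base (IsLocalRing.closedPoint Ω) = s →
        ∀ (X' : Scheme.{u}) (q : X' ⟶ Spec (CommRingCat.of Ω)) (i : (AlgSp.yon S).obj (A.ptOver (q ≫ t)) ⟶ A.X)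
          (hP : IsPullback i ((AlgSp.yon S).map (A.fibHom t q)) A.f ((AlgSp.yon S).map (A.ptHom t))),
          (@Curv2.AtWorstNodal Ω _ X' ⟨q⟩ ∧
            ∀ Z ∈ irreducibleComponents (↥X' : Type u), topologicalKrullDim ↥Z = 1)} := by
  have hE := K902.EtSchFin.etLocSch hA
  refine ⟨?_, ?_, ?_⟩
  · refine K901.EtSch.isOpen_locus_of_etLocSch (K333.StableOpen.StabProp n g) hA hE fun B h1 h2 h3 _ => ?_
    rw [K901.SchLoc.locus_toSpFam]
    exact K333.StableOpen.isOpen_stable B.f B.sect B.sect_f g
  · refine K901.EtSch.isOpen_locus_of_etLocSch (K901.SchPre.PreProp n g) hA hE fun B h1 h2 h3 _ => ?_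
    rw [K901.SchLoc.locus_toSpFam]
    exact K901.SchPre.isOpen_prestable B.f B.sect B.sect_f g
  · refine K901.EtSch.isOpen_locus_of_etLocSch (K901.SchPre.NodProp n) hA hE fun B h1 h2 h3 _ => ?_
    rw [K901.SchLoc.locus_toSpFam]
    exact K901.SchPre.isOpen_nodal B.f B.sect B.sect_f

end Groth.Agent.S17206
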