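import Groth.Statements.S17210
import Groth.Agent.EtAcyc.K548.GenGood

set_option autoImplicit false
universe u
open CategoryTheory CategoryTheory.Limits AlgebraicGeometry Opposite
open EtAcyc

namespace Groth.Agent.S17210

/-- Let S be a Noetherian scheme and f : X → S a morphism of finite type. There is a dense open U of S
such that for every morphism b : S' → S whose image lies in U and every cartesian square exhibiting
f' : X' → S' as the base change of f, all Milnor fibres of f' are nonempty and connected: for every
point x' of X', all strict henselizations R of the local ring of S' at f' x' and R' of the local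
ring of X' at x' with a compatible local homomorphism R → R', and every geometric point of Spec R
with values in a separably closed field algebraic over the residue field of a point of Spec R, the
fibre of Spec R' → Spec R at that geometric point is nonempty and connected. (Equivalently: for
every finite set E the constant sheaf E on X_U is universally locally acyclic for X_U → U, local
acyclicity of a sheaf of sets meaning that its sections over each strict localization map
bijectively to its sections over every Milnor fibre. The published statement asserts the conclusion
for f itself rather than for its restriction over U, one dense open U serving both for this and for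
the companion statement on principal covers of the Milnor fibres; in the unrestricted form it fails,
for instance for the inclusion of a closed point in the affine line over a field, whose Milnor fibre
over the generic point is empty; this row states it over U, which is what the proof gives.) -/
theorem result {X S : Scheme.{u}} (f : X ⟶ S) [IsNoetherian S]
    [LocallyOfFiniteType f] [QuasiCompact f] :
    ∃ U : S.Opens, Dense (U : Set S) ∧
      ∀ ⦃X' S' : Scheme.{u}⦄ (b : S' ⟶ S), Set.range b.base ⊆ (U : Set S) →
        ∀ (f' : X' ⟶ S') (b' : X' ⟶ X), IsPullback b' f' f b →
          EtAcyc.OnStrictLocalizations f' (fun _ _ h => EtAcyc.GeomFibresAcyclicN Set.univ 0 h) := by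
  obtain ⟨U, hU, hg⟩ := K548.GenGood.exists_dense_isGood f
  refine ⟨U, hU, fun X' S' b hb f' b' hsq => ?_⟩
  have hb' : Set.range b ⊆ Set.range U.ι := by
    rw [Scheme.Opens.range_ι]
    exact hb
  let c : S' ⟶ U.toScheme := IsOpenImmersion.lift U.ι b hb'
  have hc : c ≫ U.ι = b := IsOpenImmersion.lift_fac _ _ _
  have hP : IsPullback (pullback.fst f U.ι) (pullback.snd f U.ι) f U.ι := IsPullback.of_hasPullback _ _
  let t : X' ⟶ pullback f U.ι := hP.lift b' (f' ≫ c) (by rw [Category.assoc, hc, hsq.w])
  have ht1 : t ≫ pullback.fst f U.ι = b' := hP.lift_fst _ _ _
  have ht2 : t ≫ pullback.snd f U.ι = f' ≫ c := hP.lift_snd _ _ _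
  have hQ : IsPullback t f' (pullback.snd f U.ι) c := by
    refine IsPullback.of_right (h₁₂ := pullback.fst f U.ι) (v₁₃ := f) (h₂₂ := U.ι) ?_ ht2 hP
    rw [ht1, hc]
    exact hsq
  exact hg.geomFibres hQ

end Groth.Agent.S17210
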