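import Groth.Statements.S17211
import Groth.Agent.EtAcyc.K286.FinMain
import Groth.Agent.EtAcyc.K168.Induct

set_option autoImplicit false
universe u
open CategoryTheory CategoryTheory.Limits AlgebraicGeometry Opposite
open EtAcyc

namespace Groth.Agent.S17211

/-- Let S be a Noetherian scheme and f : X → S a morphism of finite type. There is a dense open U of S
such that for every finite group G whose order is invertible in all residue fields of S, every
morphism b : S' → S whose image lies in U and every cartesian square exhibiting f' : X' → S' as the
base change of f, the Milnor fibres of f' carry no non-trivial principal G-cover: for every point x'
of X', all strict henselizations R of the local ring of S' at f' x' and R' of the local ring of X'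
at x' with a compatible local homomorphism R → R', every geometric point t of Spec R with values in
a separably closed field algebraic over the residue field of a point of Spec R, and every finite
etale cover P of the fibre of Spec R' → Spec R at t with an action of G making it a principal
G-cover, P has a section. (Equivalently, together with the connectedness of the Milnor fibres: the
stack of G-torsors on X_U is universally locally acyclic for X_U → U. The published statement
asserts this for f itself rather than for its restriction over U, one dense open U serving both for
this and for the connectedness statement; in the unrestricted form it fails in general, for instance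
for the family of curves xy = t over the affine line with coordinate t over a separably closed field
in which a prime ℓ is invertible: the Milnor fibre at the singular point of the fibre over t = 0,
taken over the generic point, carries a principal ℤ/ℓ-cover with no section, given by an ℓ-th root
of x; this row states it over U, which is what the proof gives.) -/
theorem result {X S : Scheme.{u}} (f : X ⟶ S) [IsNoetherian S]
    [LocallyOfFiniteType f] [QuasiCompact f] :
    ∃ U : S.Opens, Dense (U : Set S) ∧
      ∀ (G : Type) [Group G] [Finite G], (∀ s : S, IsUnit ((Nat.card G : ℕ) : S.residueField s)) →
      ∀ ⦃X' S' : Scheme.{u}⦄ (b : S' ⟶ S), Set.range b.base ⊆ (U : Set S) →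
        ∀ (f' : X' ⟶ S') (b' : X' ⟶ X), IsPullback b' f' f b →
          EtAcyc.OnStrictLocalizations f' (fun _ Y₁ h =>
            ∀ (y : Y₁) (Ω : Type u) [Field Ω] [IsSepClosed Ω] [Algebra (Y₁.residueField y) Ω]
              [Algebra.IsAlgebraic (Y₁.residueField y) Ω]
              (P : FEt.Cat (pullback h (EtAcyc.geomPt Y₁ y Ω))) (ρ : G →* Aut P),
              SGA1t.IsPrincipal G P ρ → Nonempty (SGA1t.Sec P)) := by
  exact K286.Fin.of_claim K168.Induct.claim f

end Groth.Agent.S17211
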