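import Groth.Statements.S17213
import Groth.Agent.Pi1.K157.KunnethMain
import Groth.Agent.S0240

set_option autoImplicit false
universe u
open Pi1

namespace Groth.Agent.S17213

open AlgebraicGeometry CategoryTheory CategoryTheory.Limits in
/-- Injectivity part: the Kunneth formula for the maximal prime-to-p quotient of the fundamental group,
in terms of covers. Let k be a separably closed field, X and Y connected k-schemes of finite type
each of which has a k-rational point, and W a connected Galois finite etale cover of X ×_k Y whose
automorphism group has order invertible in k. Then there are a finite etale cover X' of X, a finite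
etale cover Y' of Y and a surjective morphism from X' ×_k Y' to W over X ×_k Y. (That the product of
connected finite etale covers of X and of Y is connected, which gives surjectivity of the
homomorphism, holds without the restriction on the order; for the full fundamental group the
injectivity fails, e.g. for two affine lines in positive characteristic.) -/
theorem result (k : Type u) [Field k] [IsSepClosed k] {X Y : Scheme.{u}}
    (pX : X ⟶ Spec (CommRingCat.of k)) (pY : Y ⟶ Spec (CommRingCat.of k))
    [LocallyOfFiniteType pX] [QuasiCompact pX] [LocallyOfFiniteType pY] [QuasiCompact pY]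
    [ConnectedSpace X] [ConnectedSpace Y]
    (hx : ∃ x : Spec (CommRingCat.of k) ⟶ X, x ≫ pX = 𝟙 _) (hy : ∃ y : Spec (CommRingCat.of k) ⟶ Y, y ≫ pY = 𝟙 _)
    (W : FEt.Cat (pullback pX pY)) (hW : PiSp.IsGaloisCover W) (hp : IsUnit ((Nat.card (Aut W) : ℕ) : k)) :
    ∃ (X' : FEt.Cat X) (Y' : FEt.Cat Y) (φ : pullback (X'.hom ≫ pX) (Y'.hom ≫ pY) ⟶ W.left),
      φ ≫ W.hom = pullback.map (X'.hom ≫ pX) (Y'.hom ≫ pY) pX pY X'.hom Y'.hom (𝟙 _)
        (Category.comp_id _) (Category.comp_id _) ∧ Surjective φ := by
  exact K157.KunnethMain.main (fun A _ _ _ f _ => Groth.Agent.S0240.result A f) k pX pY hx hy W hW hp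

end Groth.Agent.S17213
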