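import Groth.Statements.S17214
import Groth.Agent.Pi1.K153.EsFin
import Groth.Agent.Pi1.K153.EsD1
import Groth.Agent.S15277

set_option autoImplicit false
open CategoryTheory CategoryTheory.Limits AlgebraicGeometry
universe u
open Pi1

namespace Groth.Agent.S17214

/-- Surjectivity on stalks: let S be a Noetherian scheme, b : Y → S and f : X → Y morphisms of finite
type. There is a dense open U of S such that for every finite group G whose order is invertible in
the residue fields of the points of U, every morphism h : S' → S with image in U, every cartesian
square exhibiting g : Y' → Y as the base change of h along b, every point y' of Y' and all strict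
henselizations R of the local ring of Y at g y' and R' of the local ring of Y' at y' with a
compatible local homomorphism R → R', writing X_R = X ×_Y Spec R and X_{R'} = X_R ×_{Spec R} Spec R'
(these are the schemes whose sets of isomorphism classes of principal G-covers are the stalks of R^1
f_* G at the geometric point of Y given by R and of R^1 f'_* G at the geometric point of Y' given by
R'), every principal G-cover of X_{R'} is G-equivariantly isomorphic to the pullback of a principal
G-cover of X_R. (This is the assertion, on stalks of the sheaf of isomorphism classes, of the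
statement that the direct image of the stack of G-torsors by f commutes with base change by
U-schemes over a suitable dense open U; the constructibility of R^1 f_* G asserted with it is not
part of this statement.) -/
theorem result {X Y S : Scheme.{u}} [IsNoetherian S] (f : X ⟶ Y) (b : Y ⟶ S)
    [LocallyOfFiniteType f] [QuasiCompact f] [LocallyOfFiniteType b] [QuasiCompact b] :
    ∃ U : S.Opens, Dense (U : Set S) ∧
      ∀ (G : Type) [Group G] [Finite G], (∀ s ∈ U, IsUnit ((Nat.card G : ℕ) : S.residueField s)) →
      ∀ ⦃S' Y' : Scheme.{u}⦄ (h : S' ⟶ S), Set.range h.base ⊆ (U : Set S) →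
      ∀ (g : Y' ⟶ Y) (b' : Y' ⟶ S'), IsPullback g b' b h →
      ∀ (y' : Y') (R : Type u) [CommRing R] [IsLocalRing R] [Algebra (Y.presheaf.stalk (g.base y')) R]
        [IsLocalHom (algebraMap (Y.presheaf.stalk (g.base y')) R)]
        [Hensel.IsStrictHenselization (Y.presheaf.stalk (g.base y')) R]
        (R' : Type u) [CommRing R'] [IsLocalRing R'] [Algebra (Y'.presheaf.stalk y') R']
        [IsLocalHom (algebraMap (Y'.presheaf.stalk y') R')] [Hensel.IsStrictHenselization (Y'.presheaf.stalk y') R']
        [Algebra R R'],
        (algebraMap R R').comp (algebraMap (Y.presheaf.stalk (g.base y')) R) =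
          (algebraMap (Y'.presheaf.stalk y') R').comp (g.stalkMap y').hom →
      letI σ := Hens2.specOf Y (g.base y') R
      letI m : Spec (CommRingCat.of R') ⟶ Spec (CommRingCat.of R) := Spec.map (CommRingCat.ofHom (algebraMap R R'))
      letI fR := pullback.snd f σ
      letI kb := pullback.fst fR m
      ∀ (P' : FEt.Cat (pullback fR m)) (ρ' : G →* Aut P'), SGA1t.IsPrincipal G P' ρ' →
        ∃ (P : FEt.Cat (pullback f σ)) (ρ : G →* Aut P), SGA1t.IsPrincipal G P ρ ∧
          ∃ e : (FEt.restrict kb).obj P ≅ P', ∀ x : G, (FEt.restrict kb).map (ρ x).hom ≫ e.hom = e.hom ≫ (ρ' x).hom :=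
  K153.EsFin.main (fun φ i hC hη => Groth.Agent.S15277.result φ i hC hη) K153.EsD1.d1 f b

end Groth.Agent.S17214
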