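import Groth.Statements.S17215
import Groth.Agent.Pi1.K868.BcMain
import Groth.Agent.EtAcyc.K439.FinMain

set_option autoImplicit false
open CategoryTheory CategoryTheory.Limits AlgebraicGeometry
universe u
open Pi1

namespace Groth.Agent.S17215

/-- Injectivity on stalks: let S be a Noetherian scheme, b : Y → S and f : X → Y morphisms of finite
type. There is a dense open U of S such that for every finite group G whose order is invertible in
the residue fields of the points of U, every morphism h : S' → S with image in U, every cartesian
square exhibiting g : Y' → Y as the base change of h along b, every point y' of Y' and all strict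
henselizations R of the local ring of Y at g y' and R' of the local ring of Y' at y' with a
compatible local homomorphism R → R', writing X_R = X ×_Y Spec R and X_{R'} = X_R ×_{Spec R} Spec R'
(these are the schemes whose sets of isomorphism classes of principal G-covers are the stalks of R^1
f_* G at the geometric point of Y given by R and of R^1 f'_* G at the geometric point of Y' given by
R'), two principal G-covers of X_R whose pullbacks to X_{R'} are G-equivariantly isomorphic are
G-equivariantly isomorphic. (Stalkwise injectivity in the statement that the direct image of the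
stack of G-torsors by f commutes with base change by U-schemes over a suitable dense open U.) -/
theorem result {X Y S : Scheme.{u}} [IsNoetherian S] (f : X ⟶ Y) (b : Y ⟶ S)
    [LocallyOfFiniteType f] [QuasiCompact f] [LocallyOfFiniteType b] [QuasiCompact b] :
    ∃ U : S.Opens, Dense (U : Set S) ∧
      ∀ (G : Type) [Group G] [Finite G], (∀ s ∈ U, IsUnit ((Nat.card G : ℕ) : S.residueField s)) →
      ∀ ⦃S' Y' : Scheme.{u}⦄ (h : S' ⟶ S), Set.range h.base ⊆ (U : Set S) →
      ∀ (g : Y' ⟶ Y) (b' : Y' ⟶ S'), IsPullback g b' b h →
      ∀ (y' : Y') (R : Type u) [CommRing R] [IsLocalRing R] [Algebra (Y.presheaf.stalk (g.base y')) R]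
        [IsLocalHom (algebraMap (Y.presheaf.stalk (g.base y')) R)]
        [Hensel.IsStrictHenselization (Y.presheaf.stalk (g.base y')) R]
        (R' : Type u) [CommRing R'] [IsLocalRing R'] [Algebra (Y'.presheaf.stalk y') R']
        [IsLocalHom (algebraMap (Y'.presheaf.stalk y') R')] [Hensel.IsStrictHenselization (Y'.presheaf.stalk y') R']
        [Algebra R R'],
        (algebraMap R R').comp (algebraMap (Y.presheaf.stalk (g.base y')) R) =
          (algebraMap (Y'.presheaf.stalk y') R').comp (g.stalkMap y').hom →
      letI σ := Hens2.specOf Y (g.base y') R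
      letI m : Spec (CommRingCat.of R') ⟶ Spec (CommRingCat.of R) := Spec.map (CommRingCat.ofHom (algebraMap R R'))
      letI fR := pullback.snd f σ
      letI kb := pullback.fst fR m
      ∀ (P Q : FEt.Cat (pullback f σ)) (ρ : G →* Aut P) (τ : G →* Aut Q),
        SGA1t.IsPrincipal G P ρ → SGA1t.IsPrincipal G Q τ →
        (∃ e' : (FEt.restrict kb).obj P ≅ (FEt.restrict kb).obj Q,
          ∀ x : G, (FEt.restrict kb).map (ρ x).hom ≫ e'.hom = e'.hom ≫ (FEt.restrict kb).map (τ x).hom) →
        ∃ e : P ≅ Q, ∀ x : G, (ρ x).hom ≫ e.hom = e.hom ≫ (τ x).hom := by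
  obtain ⟨U, hU, h1, h2⟩ := K868.Bc.exists_faith_ff f b
  exact ⟨U, hU, K439.ClFin.main f b U h1 (fun n _ => h2 n)⟩

end Groth.Agent.S17215
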