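import Groth.Statements.S17228
import Groth.Agent.S15977
import Groth.Agent.IntSh.K389.Red
import Groth.Agent.IntSh.K271.Depth
import Groth.Agent.IntSh.K271.Dual
import Groth.Agent.IntSh.K985.SuppTr
import Groth.Agent.EGA2.K32.ProjVA

set_option autoImplicit false
universe u
open IntSh

namespace Groth.Agent.S17228

open CategoryTheory CategoryTheory.Limits AlgebraicGeometry in
/-- The case of at least d + 2 modules: let π : X → Y be a projective morphism of Noetherian schemes
with X and Y connected, F a coherent O_X-module flat over Y whose support meets every fibre of π in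
dimension d, and assume that π is flat or that Y carries an ample invertible module; K^•(X) and
K^•(Y) are given through λ-ring models and π_*^F : K^•(X) → K^•(Y) denotes the push-forward on
bundle classes twisted by F, and det : K^•(Y) → Pic(Y) is the determinant. Let L_1, …, L_k be
invertible O_X-modules with inverses M_1, …, M_k, and suppose that each L_i receives a surjection
from the pull-back π^*G_i of a finite locally free O_Y-module G_i. If k ≥ d + 2, the intersection
sheaf I_{F/Y}(L_1, …, L_k) = det π_*^F(∏ (1 − [M_i])) is trivial in Pic(Y), i.e. isomorphic to O_Y.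
(The source lets X be an arbitrary Noetherian scheme; X is taken connected here so that K^•(X) has a
λ-ring model with integer-valued rank.) -/
theorem result
    {X Y : Scheme.{u}} [IsNoetherian X] [IsNoetherian Y] [ConnectedSpace X] [ConnectedSpace Y] (π : X ⟶ Y)
    (hπ : RelProj.IsProjective π) [HasInjectiveResolutions X.Modules]
    (F : X.Modules) (hF : Coh.IsCoh F) (hFf : FlatMod.IsFlatOver π F)
    (d : ℕ) (hd : ∀ y : Y, topologicalKrullDim ↥(CohB1.support F ∩ π.base ⁻¹' {y}) = d)
    (hAB : Flat π ∨ ∃ H : Y.Modules, CohB1.IsAmple H)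
    (KX : Type u) [CommRing KX] [LambdaRing.LambdaOps KX] (PX : LambdaRing.PosStructure KX)
    (φX : SGA6.Kvb X →+ KX) (hKX : KRR.IsModel X KX PX φX)
    (KY : Type u) [CommRing KY] [LambdaRing.LambdaOps KY] (PY : LambdaRing.PosStructure KY)
    (φY : SGA6.Kvb Y →+ KY) (hKY : KRR.IsModel Y KY PY φY)
    (g : KX →+ KY) (hg : KDet.IsPushF π F φX φY g)
    [PicGrp.Law Y] (dt : KY →+ Additive (PicLoc.PicSet Y)) (hdt : KDet.IsDet φY dt)
    (k : ℕ) (hk : d + 2 ≤ k)
    (L M : Fin k → X.Modules) (hL : ∀ i, PicF.IsInvertible (L i)) (hM : ∀ i, PicF.IsInvertible (M i))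
    (hLM : ∀ i, ClSub.IsInverseOf (L i) (M i))
    (G : Fin k → Y.Modules) (hG : ∀ i, FlatMod.IsFinLocFree (G i))
    (q : ∀ i, (Scheme.Modules.pullback π).obj (G i) ⟶ L i) (hq : ∀ i, Epi (q i)) :
    dt (g (KDet.delta φX M)) = 0 := by
  have hpr : IsProper π := EGA2.K32.ProjVA.isProper_of_isProjective hπ
  choose G' hG' m hm using fun i =>
    K271.DualMap.exists_dual_map π (L i) (M i) (hL i) (hM i) (hLM i) (G i) (hG i) (q i) (hq i)
  refine K389.Red.main π M hM G' hG' m hm F hF hFf d hk
    (fun x hx => K985.SuppTr.resTrdeg_le π F hF d (fun y => (hd y).le) x hx) hKX g hg dt hdt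
    (fun pr hsm U hU D D' hD hD' e => K271.DepthExt.nonempty_iso_of_restrict pr U hU D D' hD hD' e)
    (fun F' hF' hFf' hs => ?_)
  have hd' : ∀ y : Y, topologicalKrullDim ↥{x : X | x ∈ CohB1.support F' ∧ π.base x = y} ≤ d := by
    intro y
    refine le_trans ?_ (hd y).le
    have h5 : {x : X | x ∈ CohB1.support F' ∧ π.base x = y} ⊆ CohB1.support F ∩ π.base ⁻¹' {y} :=
      fun x hx => ⟨hs hx.1, hx.2⟩
    exact (Topology.IsEmbedding.inclusion h5).isInducing.topologicalKrullDim_le
  obtain ⟨C, e, h1, h2, h3, h4⟩ := Groth.Agent.S15977.result π hπ F' hF' hFf' d hd' hAB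
    (Coh.structureModule X) PerfB.StructFlat.isFinLocFree_structure
  exact ⟨C, e.symm, h1, h2, h3, h4⟩

end Groth.Agent.S17228
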