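import Groth.Statements.S17219
import Groth.Agent.S17228
import Groth.Agent.IntSh.K389.KDelta

set_option autoImplicit false
universe u
open IntSh

namespace Groth.Agent.S17219

section Aux

open CategoryTheory CategoryTheory.Limits AlgebraicGeometry Groth.Agent.Grpsch.PicGrp

/-- The inverse of a tensor product. -/
theorem nonempty_iso {X : AlgebraicGeometry.Scheme.{u}} {L₀ L' M₀ M' N : X.Modules} (hL₀ : PicF.IsInvertible L₀)
    (hL' : PicF.IsInvertible L') (hM₀ : PicF.IsInvertible M₀) (hM' : PicF.IsInvertible M')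
    (hN : PicF.IsInvertible N) (h₀ : ClSub.IsInverseOf L₀ M₀) (h' : ClSub.IsInverseOf L' M')
    (h : ClSub.IsInverseOf (CohB1.tensorMod L₀ L') N) : Nonempty (N ≅ CohB1.tensorMod M₀ M') := by
  have a0 : mk L₀ hL₀ * mk M₀ hM₀ = 1 := (mk_eq_iff _ _).mpr h₀
  have a1 : mk L' hL' * mk M' hM' = 1 := (mk_eq_iff _ _).mpr h'
  have a2 : (mk L₀ hL₀ * mk L' hL') * mk N hN = 1 := (mk_eq_iff _ _).mpr h
  have a3 : mk N hN = mk M₀ hM₀ * mk M' hM' := by
    refine mul_left_cancel (a := mk L₀ hL₀ * mk L' hL') (a2.trans ?_)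
    rw [mul_mul_mul_comm, a0, a1, one_mul]
  exact (mk_eq_iff _ _).mp a3

theorem delta_update {X : AlgebraicGeometry.Scheme.{u}} {K : Type u} [CommRing K] (φ : SGA6.Kvb X →+ K) {d : ℕ}
    (M : Fin (d + 1) → X.Modules) (N : X.Modules) :
    KDet.delta φ (Function.update M 0 N) =
      (1 - φ (KRR.cl X N)) * ∏ i : Fin d, (1 - φ (KRR.cl X (M i.succ))) := by
  unfold KDet.delta
  rw [Fin.prod_univ_succ, Function.update_self]
  congr 1

theorem delta_cons {X : AlgebraicGeometry.Scheme.{u}} {K : Type u} [CommRing K] (φ : SGA6.Kvb X →+ K) {d : ℕ}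
    (M : Fin (d + 1) → X.Modules) (N : X.Modules) :
    KDet.delta φ (Fin.cons N M : Fin (d + 2) → X.Modules) =
      (1 - φ (KRR.cl X N)) * ((1 - φ (KRR.cl X (M 0))) * ∏ i : Fin d, (1 - φ (KRR.cl X (M i.succ)))) := by
  unfold KDet.delta
  rw [Fin.prod_univ_succ, Fin.prod_univ_succ]
  rfl

end Aux

open CategoryTheory CategoryTheory.Limits AlgebraicGeometry in
/-- Let π : X → Y be a projective morphism of Noetherian schemes with X and Y connected, F a coherent
O_X-module flat over Y whose support meets every fibre of π in dimension d, and assume that π is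
flat or that Y carries an ample invertible module; K^•(X) and K^•(Y) are given through λ-ring models
and π_*^F : K^•(X) → K^•(Y) denotes the push-forward on bundle classes twisted by F, and det :
K^•(Y) → Pic(Y) is the determinant. Let L_0, …, L_d and L' be invertible O_X-modules, each of them a
quotient of the pull-back π^*G of some finite locally free O_Y-module G, with inverses M_0, …, M_d
and M', and let N be an inverse of L_0 ⊗ L'. Then the intersection sheaf class of (L_0 ⊗ L', L_1, …,
L_d), namely det π_*^F of the product of the elements 1 − [inverse], is the sum in Pic(Y) (written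
additively) of the classes of (L_0, L_1, …, L_d) and of (L', L_1, …, L_d): the intersection sheaf is
additive in its first argument. (The published statement takes arbitrary invertible modules L_i and
L'; here each of them is assumed to be a quotient of the pull-back of a finite locally free
O_Y-module, which is the case the printed argument establishes: it rests on the triviality of the
intersection sheaf of d + 2 invertible modules of that kind. The source lets X be an arbitrary
Noetherian scheme; X is taken connected here so that K^•(X) has a λ-ring model with integer-valued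
rank.) -/
theorem result
    {X Y : Scheme.{u}} [IsNoetherian X] [IsNoetherian Y] [ConnectedSpace X] [ConnectedSpace Y] (π : X ⟶ Y)
    (hπ : RelProj.IsProjective π) [HasInjectiveResolutions X.Modules]
    (F : X.Modules) (hF : Coh.IsCoh F) (hFf : FlatMod.IsFlatOver π F)
    (d : ℕ) (hd : ∀ y : Y, topologicalKrullDim ↥(CohB1.support F ∩ π.base ⁻¹' {y}) = d)
    (hAB : Flat π ∨ ∃ H : Y.Modules, CohB1.IsAmple H)
    (KX : Type u) [CommRing KX] [LambdaRing.LambdaOps KX] (PX : LambdaRing.PosStructure KX)
    (φX : SGA6.Kvb X →+ KX) (hKX : KRR.IsModel X KX PX φX)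
    (KY : Type u) [CommRing KY] [LambdaRing.LambdaOps KY] (PY : LambdaRing.PosStructure KY)
    (φY : SGA6.Kvb Y →+ KY) (hKY : KRR.IsModel Y KY PY φY)
    (g : KX →+ KY) (hg : KDet.IsPushF π F φX φY g)
    [PicGrp.Law Y] (dt : KY →+ Additive (PicLoc.PicSet Y)) (hdt : KDet.IsDet φY dt)
    (L M : Fin (d + 1) → X.Modules) (hL : ∀ i, PicF.IsInvertible (L i)) (hM : ∀ i, PicF.IsInvertible (M i))
    (hLM : ∀ i, ClSub.IsInverseOf (L i) (M i))
    (G : Fin (d + 1) → Y.Modules) (hG : ∀ i, FlatMod.IsFinLocFree (G i))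
    (q : ∀ i, (Scheme.Modules.pullback π).obj (G i) ⟶ L i) (hq : ∀ i, Epi (q i))
    (L' M' : X.Modules) (hL' : PicF.IsInvertible L') (hM' : PicF.IsInvertible M') (hLM' : ClSub.IsInverseOf L' M')
    (G' : Y.Modules) (hG' : FlatMod.IsFinLocFree G')
    (q' : (Scheme.Modules.pullback π).obj G' ⟶ L') (hq' : Epi q')
    (N : X.Modules) (hNi : PicF.IsInvertible N) (hN : ClSub.IsInverseOf (CohB1.tensorMod (L 0) L') N) :
    dt (g (KDet.delta φX (Function.update M 0 N))) =
      dt (g (KDet.delta φX M)) + dt (g (KDet.delta φX (Function.update M 0 M'))) := by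
  have hupd : KDet.delta φX M = KDet.delta φX (Function.update M 0 (M 0)) := by rw [Function.update_eq_self]
  have hfl : ∀ {E : X.Modules}, PicF.IsInvertible E → FlatMod.IsFinLocFree E := fun h =>
    Krr.H495.Rank.isFinLocFree_of_rank (Ega2.QCohLocal.isFinLocFreeOfRank_one_iff.mpr h)
  obtain ⟨e⟩ := nonempty_iso (hL 0) hL' (hM 0) hM' hNi (hLM 0) hLM' hN
  have hNcl : φX (KRR.cl X N) = φX (KRR.cl X (M 0)) * φX (KRR.cl X M') := by
    rw [K389.SumCl.cl_iso e (hfl hNi), hKX.map_mul _ _ (hfl (hM 0)) (hfl hM')]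
    rfl
  have key := Groth.Agent.S17228.result π hπ F hF hFf d hd hAB KX PX φX hKX KY PY φY hKY g hg dt hdt (d + 2) le_rfl
    (Fin.cons L' L) (Fin.cons M' M) (Fin.cases hL' hL) (Fin.cases hM' hM) (Fin.cases hLM' hLM)
    (Fin.cons G' G) (Fin.cases hG' hG) (Fin.cases q' q) (Fin.cases hq' hq)
  rw [delta_cons] at key
  rw [hupd, delta_update, delta_update, delta_update, ← map_add, ← map_add, hNcl, ← sub_eq_zero, ← map_sub, ← map_sub,
    ← neg_eq_zero, ← map_neg, ← map_neg]
  refine Eq.trans ?_ key
  congr 2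
  ring

end Groth.Agent.S17219
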