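import Groth.Statements.S17220
import Groth.Agent.IntSh.K935.CodimFil

set_option autoImplicit false
universe u
open IntSh

namespace Groth.Agent.S17220

open AlgebraicGeometry CategoryTheory K935.DimFil K935.CodimFil in
theorem aux {X Y : Scheme.{u}} [IsNoetherian X] [IsNoetherian Y] [ConnectedSpace X] (π : X ⟶ Y)
    [IsProper π] [HasInjectiveResolutions X.Modules] (d : ℕ)
    (KX : Type u) [CommRing KX] [LambdaRing.LambdaOps KX] (PX : LambdaRing.PosStructure KX)
    (φX : SGA6.Kvb X →+ KX) (hKX : KRR.IsModel X KX PX φX)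
    (μ : KX →+ SGA6.Kcoh X →+ SGA6.Kcoh X) (hμ : KDet.IsCap φX μ)
    (N : ℕ) (gc : SGA6.Kcoh X →+ SGA6.Kcoh Y) (hgc : KRR.IsPushCoh π N gc)
    (ξ : SGA6.Kcoh X) (hξ : ξ ∈ KDet.Kpi π d) (p : ℕ) (hp : p ≤ 2)
    (x : KX) (hx : x ∈ LambdaRing.gammaFiltration PX (d + p)) : gc (μ x ξ) ∈ KDet.coniv Y p := by
  refine push_mem_coniv π hgc p hp ?_
  have h := gammaFiltration_mem ((isDim_codim (Y := Y) 1).up π) hKX hμ hx (kpi_le π d hξ)
  have e : ((d : ℤ) - ((d + p : ℕ) : ℤ)) = -(p : ℤ) := by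
    push_cast
    ring
  rwa [e] at h

open CategoryTheory CategoryTheory.Limits AlgebraicGeometry in
/-- Let Y be a normal separated Noetherian integral scheme, π : X → Y a proper surjective morphism with
X Noetherian and connected, K^•(X) given through a λ-ring model acting on K_•(X) = K_0(Coh X), and
π_* : K_•(X) → K_•(Y) the proper push-forward. Fix d ≥ 0 and let ξ lie in the subgroup K_π^{(d)}(X)
of K_•(X) generated by the classes of coherent modules whose support meets the fibre over every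
point y with dim O_{Y,y} ≤ 1 in dimension at most d. Then π_*(F^{d+1} K^•(X) · ξ) lies in the first
step and π_*(F^{d+2} K^•(X) · ξ) in the second step of the coniveau filtration of K_•(Y). (X is
taken connected so that K^•(X) has a λ-ring model; the source allows any Noetherian X.) -/
theorem result
    {X Y : Scheme.{u}} [IsNoetherian X] [IsNoetherian Y] [IsIntegral Y] [Y.IsSeparated] [ConnectedSpace X]
    (hYn : Pi1.IsNormalScheme Y) (π : X ⟶ Y) [IsProper π] [Surjective π] [HasInjectiveResolutions X.Modules]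
    (d : ℕ)
    (KX : Type u) [CommRing KX] [LambdaRing.LambdaOps KX] (PX : LambdaRing.PosStructure KX)
    (φX : SGA6.Kvb X →+ KX) (hKX : KRR.IsModel X KX PX φX)
    (μ : KX →+ SGA6.Kcoh X →+ SGA6.Kcoh X) (hμ : KDet.IsCap φX μ)
    (N : ℕ) (gc : SGA6.Kcoh X →+ SGA6.Kcoh Y) (hgc : KRR.IsPushCoh π N gc)
    (ξ : SGA6.Kcoh X) (hξ : ξ ∈ KDet.Kpi π d) :
    (∀ x ∈ LambdaRing.gammaFiltration PX (d + 1), gc (μ x ξ) ∈ KDet.coniv Y 1) ∧
      ∀ x ∈ LambdaRing.gammaFiltration PX (d + 2), gc (μ x ξ) ∈ KDet.coniv Y 2 := by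
  exact ⟨fun x hx => aux π d KX PX φX hKX μ hμ N gc hgc ξ hξ 1 (by norm_num) x hx,
    fun x hx => aux π d KX PX φX hKX μ hμ N gc hgc ξ hξ 2 le_rfl x hx⟩

end Groth.Agent.S17220
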