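import Groth.Statements.S17221
import Groth.Agent.IntSh.K878.FibFil
import Groth.Agent.IntSh.K878.LocAmple

set_option autoImplicit false
universe u
open IntSh

namespace Groth.Agent.S17221

open CategoryTheory CategoryTheory.Limits AlgebraicGeometry in
/-- Let Y be a normal separated Noetherian integral scheme, π : X → Y a proper surjective morphism with
X Noetherian and connected, K^•(X) given through a λ-ring model acting on K_•(X) = K_0(Coh X), and
π_* : K_•(X) → K_•(Y) the proper push-forward, and det-hat : K_•(Y) → Ref¹(Y) the determinant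
homomorphism to rank-one reflexive classes. Assume π locally projective and let F be a coherent
O_X-module whose support meets every fibre of π in dimension at most d. Then for every η in F^{d+1}
K^•(X) the intersection sheaf det-hat(π_*(η · [F])) is the class of an invertible O_Y-module. (X is
taken connected so that K^•(X) has a λ-ring model; the source allows any Noetherian X.) -/
theorem result
    {X Y : Scheme.{u}} [IsNoetherian X] [IsNoetherian Y] [IsIntegral Y] [Y.IsSeparated] [ConnectedSpace X]
    (hYn : Pi1.IsNormalScheme Y) (π : X ⟶ Y) [IsProper π] [Surjective π] [HasInjectiveResolutions X.Modules]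
    (hπ : RelProj.IsLocallyProjective π)
    (F : X.Modules) (hF : Coh.IsCoh F)
    (d : ℕ) (hd : ∀ y : Y, topologicalKrullDim ↥(CohB1.support F ∩ π.base ⁻¹' {y}) ≤ (d : WithBot ℕ∞))
    (KX : Type u) [CommRing KX] [LambdaRing.LambdaOps KX] (PX : LambdaRing.PosStructure KX)
    (φX : SGA6.Kvb X →+ KX) (hKX : KRR.IsModel X KX PX φX)
    (μ : KX →+ SGA6.Kcoh X →+ SGA6.Kcoh X) (hμ : KDet.IsCap φX μ)
    (N : ℕ) (gc : SGA6.Kcoh X →+ SGA6.Kcoh Y) (hgc : KRR.IsPushCoh π N gc)
    [RefFun.Law Y] (dh : SGA6.Kcoh Y →+ Additive (RefFun.Ref1Set Y)) (hdh : KDet.IsDetHat Y dh)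
    (η : KX) (hη : η ∈ LambdaRing.gammaFiltration PX (d + 1)) :
    ∃ (L : Y.Modules) (hR : RefHull.IsRef1 L), PicF.IsInvertible L ∧
      dh (gc (μ η (KDet.clc X F))) = Additive.ofMul (RefFun.cls L hR) := by
  refine K878.DetLoc.exists_invertible hdh fun y => ?_
  obtain ⟨V, hyV, -, H, hH⟩ := K878.LocAmple.exists_ample π hπ y
  have h1 := K878.FilMain.gammaFiltration_le hKX hμ (K878.FibFil.Fil_mono π y)
    (fun r E hE P _ p _ _ O1 N q B hN _ =>
      ⟨_, K878.FibFil.isLift_of_ample π y p hyV hH hE B hN⟩) (d + 1) hη d _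
    (K878.FibFil.mem_Fil π y hF (hd y))
  have h2 := K878.FibFil.Fil_neg π y (by push_cast; omega) h1
  exact K878.PushSup.push_mem π hgc (T := K878.DeltaLoc.away π y) (fun x hx => hx) h2

end Groth.Agent.S17221
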