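import Groth.Statements.S17222
import Groth.Agent.IntSh.K878.DeltaLoc

set_option autoImplicit false
universe u
open IntSh

namespace Groth.Agent.S17222

open CategoryTheory CategoryTheory.Limits AlgebraicGeometry in
/-- Let Y be a normal separated Noetherian integral scheme, π : X → Y a proper surjective morphism with
X Noetherian and connected, K^•(X) given through a λ-ring model acting on K_•(X) = K_0(Coh X), and
π_* : K_•(X) → K_•(Y) the proper push-forward, and det-hat : K_•(Y) → Ref¹(Y) the determinant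
homomorphism to rank-one reflexive classes. Let F be a coherent O_X-module whose support meets every
fibre in dimension at most d, and L_0, …, L_d invertible O_X-modules with inverses M_0, …, M_d such
that every adjunction map π^*π_*L_i → L_i is surjective. Then the intersection sheaf I_{F/Y}(L_0, …,
L_d), the image under det-hat of π_*(δ · [F]) with δ = ∏ (1 − [M_i]), is the class of an invertible
O_Y-module. (X is taken connected so that K^•(X) has a λ-ring model; the source allows any
Noetherian X.) -/
theorem result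
    {X Y : Scheme.{u}} [IsNoetherian X] [IsNoetherian Y] [IsIntegral Y] [Y.IsSeparated] [ConnectedSpace X]
    (hYn : Pi1.IsNormalScheme Y) (π : X ⟶ Y) [IsProper π] [Surjective π] [HasInjectiveResolutions X.Modules]
    (F : X.Modules) (hF : Coh.IsCoh F)
    (d : ℕ) (hd : ∀ y : Y, topologicalKrullDim ↥(CohB1.support F ∩ π.base ⁻¹' {y}) ≤ (d : WithBot ℕ∞))
    (KX : Type u) [CommRing KX] [LambdaRing.LambdaOps KX] (PX : LambdaRing.PosStructure KX)
    (φX : SGA6.Kvb X →+ KX) (hKX : KRR.IsModel X KX PX φX)
    (μ : KX →+ SGA6.Kcoh X →+ SGA6.Kcoh X) (hμ : KDet.IsCap φX μ)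
    (N : ℕ) (gc : SGA6.Kcoh X →+ SGA6.Kcoh Y) (hgc : KRR.IsPushCoh π N gc)
    [RefFun.Law Y] (dh : SGA6.Kcoh Y →+ Additive (RefFun.Ref1Set Y)) (hdh : KDet.IsDetHat Y dh)
    (L M : Fin (d + 1) → X.Modules) (hL : ∀ i, PicF.IsInvertible (L i)) (hM : ∀ i, PicF.IsInvertible (M i))
    (hLM : ∀ i, ClSub.IsInverseOf (L i) (M i))
    (hgen : ∀ i, Epi ((Scheme.Modules.pullbackPushforwardAdjunction π).counit.app (L i))) :
    ∃ (I : Y.Modules) (hR : RefHull.IsRef1 I), PicF.IsInvertible I ∧
      dh (gc (μ (KDet.delta φX M) (KDet.clc X F))) = Additive.ofMul (RefFun.cls I hR) := by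
  refine K878.DetLoc.exists_invertible hdh fun y => ?_
  have hd' : topologicalKrullDim ↥(CohB1.support F ∩ π.base ⁻¹' {y}) < ((d + 1 : ℕ) : WithBot ℕ∞) :=
    lt_of_le_of_lt (hd y) (by exact_mod_cast Nat.lt_succ_self d)
  exact K878.PushSup.push_mem π hgc (T := K878.DeltaLoc.away π y) (fun x hx => hx)
    (K878.DeltaLoc.delta_mem_away π hKX hμ y (d + 1) L M hL hM hLM hgen F hF hd')

end Groth.Agent.S17222
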