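import Groth.Statements.S17224
import Groth.Agent.IntSh.K935.CodimFil

set_option autoImplicit false
universe u
open IntSh

namespace Groth.Agent.S17224

open AlgebraicGeometry CategoryTheory K935.DimFil K935.CodimFil in
theorem one_le_cd {Y : Scheme.{u}} [IsNoetherian Y] [IsIntegral Y] {y : Y} (h : y ≠ genericPoint Y) :
    1 ≤ cd y := by
  have h1 := cd_lt (genericPoint_specializes y) (Ne.symm h)
  omega

open CategoryTheory CategoryTheory.Limits AlgebraicGeometry in
/-- Let Y be a normal separated Noetherian integral scheme, π : X → Y a proper surjective morphism with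
X Noetherian and connected, K^•(X) given through a λ-ring model acting on K_•(X) = K_0(Coh X), and
π_* : K_•(X) → K_•(Y) the proper push-forward. Fix d ≥ 0 and let T be a coherent O_X-module whose
support meets the fibre over every point y with dim O_{Y,y} ≤ 1 in dimension at most d and does not
dominate Y, i.e. the image of Supp T misses the generic point of Y. Then π_*(x · [T]) lies in the
second step of the coniveau filtration of K_•(Y) for every x in F^{d+1} K^•(X). Applied to the
largest coherent submodule of a module F of this kind whose support does not dominate Y, this shows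
that the intersection sheaves of F and of its torsion-free quotient over Y agree, the determinant
homomorphism to Ref¹(Y) vanishing on that second step. (X is taken connected so that K^•(X) has a
λ-ring model; the source allows any Noetherian X.) -/
theorem result
    {X Y : Scheme.{u}} [IsNoetherian X] [IsNoetherian Y] [IsIntegral Y] [Y.IsSeparated] [ConnectedSpace X]
    (hYn : Pi1.IsNormalScheme Y) (π : X ⟶ Y) [IsProper π] [Surjective π] [HasInjectiveResolutions X.Modules]
    (d : ℕ)
    (KX : Type u) [CommRing KX] [LambdaRing.LambdaOps KX] (PX : LambdaRing.PosStructure KX)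
    (φX : SGA6.Kvb X →+ KX) (hKX : KRR.IsModel X KX PX φX)
    (μ : KX →+ SGA6.Kcoh X →+ SGA6.Kcoh X) (hμ : KDet.IsCap φX μ)
    (N : ℕ) (gc : SGA6.Kcoh X →+ SGA6.Kcoh Y) (hgc : KRR.IsPushCoh π N gc)
    (T : X.Modules) (hT : KDet.CohPi π d T)
    (hTd : genericPoint Y ∉ π.base '' CohB1.support T)
    (x : KX) (hx : x ∈ LambdaRing.gammaFiltration PX (d + 1)) :
    gc (μ x (KDet.clc X T)) ∈ KDet.coniv Y 2 := by
  open K935.DimFil K935.CodimFil in
  have h1 : KDet.clc X T ∈ K878.KSup.ksup X (Low (π ⁻¹' {y : Y | 1 < cd y}) (up π fun y => -(cd y : ℤ)) ((d : ℤ) - 1)) := by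
    refine K878.KSup.clc_mem fun _ z hz => ?_
    by_cases h : 1 < cd (π z)
    · exact Or.inl h
    · refine Or.inr ?_
      have h2 := rtd_le_of_krullDim π (Groth.Agent.Ega3B.Devissage.isClosed_support hT.1) hz
        (hT.2 (π z) ((krullDim_le_one_iff _).2 h))
      have h3 : 1 ≤ cd (π z) := one_le_cd fun hc => hTd ⟨z, hz, hc⟩
      have h4 : (Cardinal.toNat (Groth.Agent.CycB.RelDim.rtd π z) : ℤ) ≤ d := by exact_mod_cast h2
      change -(cd (π z) : ℤ) + (Cardinal.toNat (Groth.Agent.CycB.RelDim.rtd π z) : ℤ) ≤ (d : ℤ) - 1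
      omega
  open K935.DimFil K935.CodimFil in
  refine push_mem_coniv π hgc 2 le_rfl ?_
  have h := K935.DimFil.gammaFiltration_mem ((K935.CodimFil.isDim_codim (Y := Y) 1).up π) hKX hμ hx h1
  have e : ((d : ℤ) - 1 - ((d + 1 : ℕ) : ℤ)) = -((2 : ℕ) : ℤ) := by
    push_cast
    ring
  rwa [e] at h

end Groth.Agent.S17224
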