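import Groth.Statements.S17225
import Groth.Agent.IntSh.K878.ChernMain

set_option autoImplicit false
universe u
open IntSh

namespace Groth.Agent.S17225

open CategoryTheory CategoryTheory.Limits AlgebraicGeometry in
/-- Let Y be a normal separated Noetherian integral scheme, π : X → Y a proper surjective morphism with
X Noetherian and connected, K^•(X) given through a λ-ring model acting on K_•(X) = K_0(Coh X), and
π_* : K_•(X) → K_•(Y) the proper push-forward, det-hat : K_•(Y) → Ref¹(Y) the determinant
homomorphism, and rk_Y : K_•(Y) → ℤ the length at the generic point. Let F be a coherent O_X-module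
whose support meets every fibre in dimension at most d, G a locally free O_Y-module of rank N + 1
and E a locally free O_X-module of rank d + 1 with a surjection π^*G → E. Then the intersection
sheaf det-hat(π_*(c^{d+1}(E) · [F])) is the class of an invertible O_Y-module, and the relative
intersection number rk_Y(π_*(c^d(E) · [F])) is non-negative; here c^p(E) is represented by γ^p([E] −
(d+1)). (The source also produces an effective relative Cartier divisor on P(G^∨) and a surjection
from a symmetric power of G onto the intersection sheaf; those clauses are not stated.) (X is taken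
connected so that K^•(X) has a λ-ring model; the source allows any Noetherian X.) -/
theorem result
    {X Y : Scheme.{u}} [IsNoetherian X] [IsNoetherian Y] [IsIntegral Y] [Y.IsSeparated] [ConnectedSpace X]
    (hYn : Pi1.IsNormalScheme Y) (π : X ⟶ Y) [IsProper π] [Surjective π] [HasInjectiveResolutions X.Modules]
    (F : X.Modules) (hF : Coh.IsCoh F)
    (d : ℕ) (hd : ∀ y : Y, topologicalKrullDim ↥(CohB1.support F ∩ π.base ⁻¹' {y}) ≤ (d : WithBot ℕ∞))
    (KX : Type u) [CommRing KX] [LambdaRing.LambdaOps KX] (PX : LambdaRing.PosStructure KX)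
    (φX : SGA6.Kvb X →+ KX) (hKX : KRR.IsModel X KX PX φX)
    (μ : KX →+ SGA6.Kcoh X →+ SGA6.Kcoh X) (hμ : KDet.IsCap φX μ)
    (N : ℕ) (gc : SGA6.Kcoh X →+ SGA6.Kcoh Y) (hgc : KRR.IsPushCoh π N gc)
    [RefFun.Law Y] (dh : SGA6.Kcoh Y →+ Additive (RefFun.Ref1Set Y)) (hdh : KDet.IsDetHat Y dh)
    (n : ℕ) (G : Y.Modules) (hG : FlatMod.IsFinLocFreeOfRank (n + 1) G)
    (E : X.Modules) (hE : FlatMod.IsFinLocFreeOfRank (d + 1) E)
    (q : (Scheme.Modules.pullback π).obj G ⟶ E) [Epi q] :
    (∃ (L : Y.Modules) (hR : RefHull.IsRef1 L), PicF.IsInvertible L ∧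
      dh (gc (μ (LambdaRing.gamma (d + 1) (φX (KRR.cl X E) - ((d + 1 : ℕ) : KX))) (KDet.clc X F))) =
        Additive.ofMul (RefFun.cls L hR)) ∧
    ∀ rk : SGA6.Kcoh Y →+ ℤ,
      (∀ G' : Y.Modules, Coh.IsCoh G' → rk (KDet.clc Y G') =
        ((Module.length (Y.presheaf.stalk (genericPoint Y)) (G'.presheaf.stalk (genericPoint Y))).toNat : ℤ)) →
        0 ≤ rk (gc (μ (LambdaRing.gamma d (φX (KRR.cl X E) - ((d + 1 : ℕ) : KX))) (KDet.clc X F))) := by
  have hGf := Groth.Agent.Krr.H482.PullLambda.isFinLocFree_of_rank hG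
  refine ⟨?_, ?_⟩
  · refine K878.DetLoc.exists_invertible hdh fun y => ?_
    have h1 := K878.FilOne.gamma_mem_of_quot π y hKX hμ hE
      (Groth.Agent.Ega2.QCohLocal.isQCoh_of_isFinLocFree hGf) q (d + 1) d _
      (K878.FibFil.mem_Fil π y hF (hd y))
    have h2 := K878.FibFil.Fil_neg π y (by push_cast; omega) h1
    exact K878.PushSup.push_mem π hgc (T := K878.DeltaLoc.away π y) (fun x hx => hx) h2
  · intro rk hrk
    refine K878.ChernMain.chern_pos π (genericPoint Y) hKX hμ hF (fun x hx hxy => ?_) hgc ?_ ?_ hG hE q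
    · exact_mod_cast K878.FibDelta.dl_le_of_dim π (Groth.Agent.Ega3B.Devissage.isClosed_support hF)
        (genericPoint Y) (hd _) hx hxy
    · intro G' hG' hy
      rw [hrk G' hG']
      rw [Groth.Agent.CohqB.DevSupport.not_mem_support_iff] at hy
      rw [Module.length_eq_zero_iff.2 hy]
      rfl
    · intro G' hG'
      rw [hrk G' hG']
      exact Int.natCast_nonneg _

end Groth.Agent.S17225
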