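import Groth.Statements.S17226
import Groth.Agent.IntSh.K570.RkForm

set_option autoImplicit false
universe u
open IntSh

namespace Groth.Agent.S17226

open CategoryTheory CategoryTheory.Limits AlgebraicGeometry in
/-- Let Y be a normal separated Noetherian integral scheme, π : X → Y a proper surjective morphism with
X Noetherian and connected, K^•(X) given through a λ-ring model acting on K_•(X) = K_0(Coh X), and
π_* : K_•(X) → K_•(Y) the proper push-forward, det-hat : K_•(Y) → Ref¹(Y) the determinant
homomorphism and rk_Y : K_•(Y) → ℤ the length at the generic point. Fix d ≥ 0, ξ in the subgroup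
K_π^{(d)}(X) (generated by classes of coherent modules whose support meets the fibres over points y
with dim O_{Y,y} ≤ 1 in dimension at most d), x in F^d K^•(X), and an invertible O_Y-module M with
inverse M'. Then the intersection sheaf of x · δ(π^*M), where δ(π^*M) = 1 − [π^*M'] represents
c^1(π^*M), is the i-th power of M in Ref¹(Y) with i = rk_Y(π_*(x · ξ)) the relative intersection
number: det-hat(π_*((x · (1 − [π^*M'])) · ξ)) = i • [M]. The rank-one reflexivity of M, needed to
name its class in Ref¹(Y), is carried as a hypothesis. (X is taken connected so that K^•(X) has a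
λ-ring model; the source allows any Noetherian X.) -/
theorem result
    {X Y : Scheme.{u}} [IsNoetherian X] [IsNoetherian Y] [IsIntegral Y] [Y.IsSeparated] [ConnectedSpace X]
    (hYn : Pi1.IsNormalScheme Y) (π : X ⟶ Y) [IsProper π] [Surjective π] [HasInjectiveResolutions X.Modules]
    (d : ℕ)
    (KX : Type u) [CommRing KX] [LambdaRing.LambdaOps KX] (PX : LambdaRing.PosStructure KX)
    (φX : SGA6.Kvb X →+ KX) (hKX : KRR.IsModel X KX PX φX)
    (μ : KX →+ SGA6.Kcoh X →+ SGA6.Kcoh X) (hμ : KDet.IsCap φX μ)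
    (N : ℕ) (gc : SGA6.Kcoh X →+ SGA6.Kcoh Y) (hgc : KRR.IsPushCoh π N gc)
    [RefFun.Law Y] (dh : SGA6.Kcoh Y →+ Additive (RefFun.Ref1Set Y)) (hdh : KDet.IsDetHat Y dh)
    (ξ : SGA6.Kcoh X) (hξ : ξ ∈ KDet.Kpi π d)
    (M M' : Y.Modules) (hM : PicF.IsInvertible M) (hM' : PicF.IsInvertible M') (hMM' : ClSub.IsInverseOf M M')
    (hM1 : RefHull.IsRef1 M)
    (x : KX) (hx : x ∈ LambdaRing.gammaFiltration PX d) :
    ∀ rk : SGA6.Kcoh Y →+ ℤ,
      (∀ G' : Y.Modules, Coh.IsCoh G' → rk (KDet.clc Y G') =
        ((Module.length (Y.presheaf.stalk (genericPoint Y)) (G'.presheaf.stalk (genericPoint Y))).toNat : ℤ)) →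
      dh (gc (μ (x * (1 - φX (KRR.cl X ((Scheme.Modules.pullback π).obj M')))) ξ)) =
        (rk (gc (μ x ξ))) • Additive.ofMul (RefFun.cls M hM1) := by
  intro rk hrk
  have hM'f := K570.RkForm.isFinLocFree_of_isInvertible hM'
  have h1 : gc (μ (x * (1 - φX (KRR.cl X ((Scheme.Modules.pullback π).obj M')))) ξ) =
      gc (μ x ξ) - K878.CapEx.capHom Y (KRR.cl Y M') (gc (μ x ξ)) := by
    rw [mul_sub, mul_one, map_sub, AddMonoidHom.sub_apply, map_sub,
      K570.ProjF.push_cap_bundle π hgc hμ hM'f]
  rw [h1]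
  exact K570.RkForm.dh_one_sub hYn hdh hM1 hM' hMM' hrk _

end Groth.Agent.S17226
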