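import Groth.Statements.S17229
import Groth.Agent.IntSh.K935.AugMain
import Groth.Agent.IntSh.K878.AcyGen
import Groth.Agent.S15977

set_option autoImplicit false
universe u
open IntSh

namespace Groth.Agent.S17229

attribute [-instance] CategoryTheory.catToReflQuiver Groth.Agent.Dcoh.MonCx.TensorGood.zero

open CategoryTheory CategoryTheory.Limits AlgebraicGeometry in
/-- Let π : X → Y be a projective morphism of Noetherian schemes with X and Y connected, F a coherent
O_X-module flat over Y whose support meets every fibre of π in dimension d, and assume that π is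
flat or that Y carries an ample invertible module; K^•(X) and K^•(Y) are given through λ-ring models
and π_*^F : K^•(X) → K^•(Y) denotes the push-forward on bundle classes twisted by F, with
augmentation ε on K^•(Y). Let E be a locally free O_X-module of rank d + 1 which is a quotient of
the pull-back π^*G of a finite locally free O_Y-module G. Then the relative intersection number
i_{F/Y}(c^d(E)) = ε(π_*^F(γ^d([E] − (d+1)))) is non-negative. (The source also gives a surjection
from a symmetric power of G onto the intersection sheaf of c^{d+1}(E); that clause is not stated.)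
(The source lets X be an arbitrary Noetherian scheme; X is taken connected here so that K^•(X) has a
λ-ring model with integer-valued rank.) -/
theorem result
    {X Y : Scheme.{u}} [IsNoetherian X] [IsNoetherian Y] [ConnectedSpace X] [ConnectedSpace Y] (π : X ⟶ Y)
    (hπ : RelProj.IsProjective π) [HasInjectiveResolutions X.Modules]
    (F : X.Modules) (hF : Coh.IsCoh F) (hFf : FlatMod.IsFlatOver π F)
    (d : ℕ) (hd : ∀ y : Y, topologicalKrullDim ↥(CohB1.support F ∩ π.base ⁻¹' {y}) = d)
    (hAB : Flat π ∨ ∃ H : Y.Modules, CohB1.IsAmple H)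
    (KX : Type u) [CommRing KX] [LambdaRing.LambdaOps KX] (PX : LambdaRing.PosStructure KX)
    (φX : SGA6.Kvb X →+ KX) (hKX : KRR.IsModel X KX PX φX)
    (KY : Type u) [CommRing KY] [LambdaRing.LambdaOps KY] (PY : LambdaRing.PosStructure KY)
    (φY : SGA6.Kvb Y →+ KY) (hKY : KRR.IsModel Y KY PY φY)
    (g : KX →+ KY) (hg : KDet.IsPushF π F φX φY g)
    (G : Y.Modules) (hG : FlatMod.IsFinLocFree G)
    (E : X.Modules) (hE : FlatMod.IsFinLocFreeOfRank (d + 1) E)
    (q : (Scheme.Modules.pullback π).obj G ⟶ E) [Epi q] :
    0 ≤ PY.aug (g (LambdaRing.gamma d (φX (KRR.cl X E) - ((d + 1 : ℕ) : KX)))) := by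
  have hp : IsProper π := Groth.Agent.IntSh.K877.ProjEmb.isProper_of_isProjective π hπ
  have hres : K878.AcyGen.HasRes π F := fun E hE => by
    obtain ⟨C, e, h1, h2, h3, h4⟩ := Groth.Agent.S15977.result π hπ F hF hFf d (fun y => (hd y).le) hAB E hE
    exact ⟨d + 1, C, e, h1, h2, h3, h4⟩
  exact K935.AugMain.aug_chern_nonneg π hKX hKY hF (fun y => (hd y).le) hg
    (K878.AcyGen.gen hπ hF hFf hres hKX) hG hE q

end Groth.Agent.S17229
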