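import Groth.Statements.S17230
import Groth.Agent.IntSh.K879.EffPt
import Groth.Agent.IntSh.K879.ChernGG

set_option autoImplicit false
universe u
open IntSh

namespace Groth.Agent.S17230

open CategoryTheory CategoryTheory.Limits AlgebraicGeometry in
/-- Let Y be a normal separated Noetherian integral scheme, π : X → Y a proper surjective morphism with
X Noetherian and connected, K^•(X) given through a λ-ring model acting on K_•(X) = K_0(Coh X), and
π_* : K_•(X) → K_•(Y) the proper push-forward, and det-hat : K_•(Y) → Ref¹(Y) the determinant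
homomorphism. Let F be a coherent O_X-module whose support meets every fibre in dimension at most d
and E a locally free O_X-module of rank d + 1 generated by global sections, i.e. a quotient of a
free module O_X^n. Then the intersection sheaf det-hat(π_*(c^{d+1}(E) · [F])), with c^{d+1}(E)
represented by γ^{d+1}([E] − (d+1)), is the class of an invertible O_Y-module generated by global
sections (a quotient of some O_Y^m). (The source's second assertion, for numerically positive
polynomials in the Chern classes, is not stated.) (X is taken connected so that K^•(X) has a λ-ring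
model; the source allows any Noetherian X.) -/
theorem result
    {X Y : Scheme.{u}} [IsNoetherian X] [IsNoetherian Y] [IsIntegral Y] [Y.IsSeparated] [ConnectedSpace X]
    (hYn : Pi1.IsNormalScheme Y) (π : X ⟶ Y) [IsProper π] [Surjective π] [HasInjectiveResolutions X.Modules]
    (F : X.Modules) (hF : Coh.IsCoh F)
    (d : ℕ) (hd : ∀ y : Y, topologicalKrullDim ↥(CohB1.support F ∩ π.base ⁻¹' {y}) ≤ (d : WithBot ℕ∞))
    (KX : Type u) [CommRing KX] [LambdaRing.LambdaOps KX] (PX : LambdaRing.PosStructure KX)
    (φX : SGA6.Kvb X →+ KX) (hKX : KRR.IsModel X KX PX φX)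
    (μ : KX →+ SGA6.Kcoh X →+ SGA6.Kcoh X) (hμ : KDet.IsCap φX μ)
    (N : ℕ) (gc : SGA6.Kcoh X →+ SGA6.Kcoh Y) (hgc : KRR.IsPushCoh π N gc)
    [RefFun.Law Y] (dh : SGA6.Kcoh Y →+ Additive (RefFun.Ref1Set Y)) (hdh : KDet.IsDetHat Y dh)
    (E : X.Modules) (hE : FlatMod.IsFinLocFreeOfRank (d + 1) E)
    (n : ℕ) (s : FlatMod.freeMod X n ⟶ E) [Epi s] :
    ∃ (L : Y.Modules) (hR : RefHull.IsRef1 L), PicF.IsInvertible L ∧
      dh (gc (μ (LambdaRing.gamma (d + 1) (φX (KRR.cl X E) - ((d + 1 : ℕ) : KX))) (KDet.clc X F))) =
        Additive.ofMul (RefFun.cls L hR) ∧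
      ∃ (m : ℕ) (t : FlatMod.freeMod Y m ⟶ L), Epi t := by
  have hC : IsClosed (CohB1.support F) := Groth.Agent.Ega3B.Devissage.isClosed_support hF
  refine K879.EffPt.exists_gg hdh fun y => ?_
  exact K879.ChernGG.main hYn π hF
    (fun x hx => K878.FibDelta.dl_le_of_dim π hC (π x) (hd (π x)) hx rfl) hKX hμ hgc hE s y

end Groth.Agent.S17230
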