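import Groth.Statements.S17233
import Groth.Agent.IntSh.K38.FinPull
import Groth.Agent.IntSh.K935.DimFil
import Groth.Agent.Variety.K426.Cut

set_option autoImplicit false
universe u
open IntSh

namespace Groth.Agent.S17233

open CategoryTheory CategoryTheory.Limits AlgebraicGeometry in
/-- Let k be a field, X and X' integral k-schemes each admitting a closed immersion into a projective
space over k, Y an integral normal scheme separated and of finite type over k, π : X → Y a proper
surjective k-morphism which is equidimensional in the sense that all fibres have the same Krull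
dimension d, and ν : X' → X a finite surjective k-morphism; let e be the degree of ν, the length of
the stalk of ν_*O_{X'} at the generic point of X. With λ-ring models of K^•(X), K^•(X') acting on
K_•, the pull-back ν^* on bundle classes, the proper push-forwards π_* and (ν ≫ π)_* on K_•, and
det-hat : K_•(Y) → Ref¹(Y), one has for every η ∈ F^{d+1} K^•(X): the intersection sheaf
I_{X'/Y}(ν^*η) = det-hat((π∘ν)_*(ν^*η · [O_{X'}])) equals e • I_{X/Y}(η) = e • det-hat(π_*(η ·
[O_X])) in Ref¹(Y) (written additively). -/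
theorem result
    {k : Type u} [Field k] {X X' Y : Scheme.{u}}
    (sX : X ⟶ Spec (CommRingCat.of k)) (sX' : X' ⟶ Spec (CommRingCat.of k)) (sY : Y ⟶ Spec (CommRingCat.of k))
    [IsIntegral X] [IsNoetherian X] [ConnectedSpace X] (hX : RelProj.IsHProjective sX)
    [IsIntegral X'] [IsNoetherian X'] [ConnectedSpace X'] (hX' : RelProj.IsHProjective sX')
    [IsIntegral Y] [IsNoetherian Y] [IsSeparated sY] [LocallyOfFiniteType sY] [QuasiCompact sY] [Y.IsSeparated]
    (hYn : Pi1.IsNormalScheme Y)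
    (π : X ⟶ Y) (hπ : π ≫ sY = sX) [IsProper π] [Surjective π]
    (d : ℕ) (hd : ∀ y : Y, topologicalKrullDim (↥(π.fiber y) : Type u) = d)
    (ν : X' ⟶ X) (hν : ν ≫ sX = sX') [IsFinite ν] [Surjective ν]
    [HasInjectiveResolutions X.Modules] [HasInjectiveResolutions X'.Modules]
    (KX : Type u) [CommRing KX] [LambdaRing.LambdaOps KX] (PX : LambdaRing.PosStructure KX)
    (φX : SGA6.Kvb X →+ KX) (hKX : KRR.IsModel X KX PX φX)
    (μ : KX →+ SGA6.Kcoh X →+ SGA6.Kcoh X) (hμ : KDet.IsCap φX μ)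
    (N : ℕ) (gc : SGA6.Kcoh X →+ SGA6.Kcoh Y) (hgc : KRR.IsPushCoh π N gc)
    (KX' : Type u) [CommRing KX'] [LambdaRing.LambdaOps KX'] (PX' : LambdaRing.PosStructure KX')
    (φX' : SGA6.Kvb X' →+ KX') (hKX' : KRR.IsModel X' KX' PX' φX')
    (pν : KX →+ KX') (hpν : KRR.IsPull ν φX φX' pν)
    (μ' : KX' →+ SGA6.Kcoh X' →+ SGA6.Kcoh X') (hμ' : KDet.IsCap φX' μ')
    (N' : ℕ) (gc' : SGA6.Kcoh X' →+ SGA6.Kcoh Y) (hgc' : KRR.IsPushCoh (ν ≫ π) N' gc')
    [RefFun.Law Y] (dh : SGA6.Kcoh Y →+ Additive (RefFun.Ref1Set Y)) (hdh : KDet.IsDetHat Y dh)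
    (η : KX) (hη : η ∈ LambdaRing.gammaFiltration PX (d + 1)) :
    dh (gc' (μ' (pν η) (KDet.clc X' (Coh.structureModule X')))) =
      ((Module.length (X.presheaf.stalk (genericPoint X))
          (((Scheme.Modules.pushforward ν).obj (Coh.structureModule X')).presheaf.stalk (genericPoint X))).toNat : ℤ) •
        dh (gc (μ η (KDet.clc X (Coh.structureModule X)))) := by
  let _ : X.Over (Spec (CommRingCat.of k)) := ⟨sX⟩
  let _ : Y.Over (Spec (CommRingCat.of k)) := ⟨sY⟩
  have hπ' : π ≫ (Y ↘ (Spec (CommRingCat.of k))) = X ↘ (Spec (CommRingCat.of k)) := hπ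
  have hYft : LocallyOfFiniteType (Y ↘ (Spec (CommRingCat.of k))) := ‹LocallyOfFiniteType sY›
  have hXft : LocallyOfFiniteType (X ↘ (Spec (CommRingCat.of k))) := by
    rw [← hπ']
    infer_instance
  obtain ⟨ξ, hξ, h1⟩ := K38.FinPull.exists_xi ν π hgc hgc' hKX.bijective.2 hμ hμ' hpν η
  rw [h1, map_add, map_zsmul]
  have h2 := K38.FinPull.coniv_one_le k hξ
  have hdim : K935.DimFil.IsDim (X := X) ∅ (fun x => (Groth.Agent.VarietyB.DimSch.trd k X x : ℤ)) :=
    ⟨fun _ _ _ h => h.elim, fun x y h hne _ => by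
      have := K426.Cut.trd_lt (k := k) h hne
      simpa using this⟩
  have hset : ∀ m : ℤ, K935.DimFil.Low (X := X) ∅
      (fun x => (Groth.Agent.VarietyB.DimSch.trd k X x : ℤ)) m =
      {x | (Groth.Agent.VarietyB.DimSch.trd k X x : ℤ) ≤ m} := fun m => by
    ext x
    simp [K935.DimFil.Low]
  have h3 : μ η ξ ∈ K38.FinPull.Fl k X (((Groth.Agent.VarietyB.DimSch.trd k X (genericPoint X) : ℤ) - 1) - ((d + 1 : ℕ) : ℤ)) := by
    have h2' := h2
    unfold K38.FinPull.Fl at h2' ⊢
    rw [← hset] at h2' ⊢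
    exact K935.DimFil.gammaFiltration_mem hdim hKX hμ hη h2'
  have h4 := K38.FinPull.push_Fl k π hπ' hgc _ h3
  have h5 := K38.FinPull.trd_generic_le k π hπ' d (fun y => (hd y).le)
  have h6 : gc (μ η ξ) ∈ K38.FinPull.Fl k Y ((Groth.Agent.VarietyB.DimSch.trd k Y (genericPoint Y) : ℤ) - 2) := by
    refine K878.KSup.ksup_mono (fun y hy => ?_) h4
    change (_ : ℤ) ≤ _ at hy
    change (_ : ℤ) ≤ _
    refine le_trans hy ?_
    push_cast
    omega
  rw [hdh.map_coniv_two _ (K38.FinPull.le_coniv_two k h6), add_zero]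

end Groth.Agent.S17233
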