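import Groth.Statements.S17235
import Groth.Agent.IntSh.K570.Lowers
import Groth.Agent.Krr.H482.PullFinal

set_option autoImplicit false
universe u
open IntSh

namespace Groth.Agent.S17235

open CategoryTheory CategoryTheory.Limits AlgebraicGeometry in
/-- Let Y be a normal separated Noetherian integral scheme, π : X → Y a proper surjective morphism with
X Noetherian and connected, K^•(X) given through a λ-ring model acting on K_•(X) = K_0(Coh X), and
π_* : K_•(X) → K_•(Y) the proper push-forward, det-hat the determinant homomorphism K_• → Ref¹ and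
rk_Y the length at the generic point of Y. Let S be another normal separated Noetherian integral
scheme and ψ : Y → S proper surjective of relative dimension e (the generic fibre has Krull
dimension e), with π, ψ and ψ ∘ π locally projective; let F be a coherent O_X-module with dim(Supp F
∩ π⁻¹(y)) ≤ d and dim(Supp F ∩ (ψπ)⁻¹(s)) ≤ d + e for all y ∈ Y, s ∈ S, and G a torsion-free
coherent O_Y-module (no non-zero coherent submodule whose support misses the generic point). With a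
λ-ring model of K^•(Y) acting on K_•(Y), the pull-back π^* on bundle classes and the push-forwards
ψ_*, (ψπ)_* on K_•: (i) for x ∈ F^{d+1} K^•(X), t ∈ F^e K^•(Y), and an invertible O_Y-module I with
inverse I', rank-one reflexive, whose class is the intersection sheaf det-hat(π_*(x · [F])), one has
det-hat_S((ψπ)_*((x · π^*t) · [F ⊗ π^*G])) = det-hat_S(ψ_*(((1 − [I']) · t) · [G])), i.e.
I_{F⊗π^*G/S}(η π^*θ) ≅ I_{G/S}(c^1(I_{F/Y}(η)) θ); (ii) for x' ∈ F^d K^•(X) and t' ∈ F^{e+1} K^•(Y),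
det-hat_S((ψπ)_*((x' · π^*t') · [F ⊗ π^*G])) = rk_Y(π_*(x' · [F])) • det-hat_S(ψ_*(t' · [G])), i.e.
I_{F⊗π^*G/S}(η' π^*θ') ≅ I_{G/S}(θ')^{⊗ i_{F/Y}(η')}. (X is taken connected so that K^•(X) has a
λ-ring model; Y is integral hence connected.) -/
theorem result
    {X Y : Scheme.{u}} [IsNoetherian X] [IsNoetherian Y] [IsIntegral Y] [Y.IsSeparated] [ConnectedSpace X]
    (hYn : Pi1.IsNormalScheme Y) (π : X ⟶ Y) [IsProper π] [Surjective π] [HasInjectiveResolutions X.Modules]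
    (hπ : RelProj.IsLocallyProjective π)
    (F : X.Modules) (hF : Coh.IsCoh F)
    (d : ℕ) (hd : ∀ y : Y, topologicalKrullDim ↥(CohB1.support F ∩ π.base ⁻¹' {y}) ≤ (d : WithBot ℕ∞))
    (KX : Type u) [CommRing KX] [LambdaRing.LambdaOps KX] (PX : LambdaRing.PosStructure KX)
    (φX : SGA6.Kvb X →+ KX) (hKX : KRR.IsModel X KX PX φX)
    (μ : KX →+ SGA6.Kcoh X →+ SGA6.Kcoh X) (hμ : KDet.IsCap φX μ)
    (N : ℕ) (gc : SGA6.Kcoh X →+ SGA6.Kcoh Y) (hgc : KRR.IsPushCoh π N gc)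
    [RefFun.Law Y] (dh : SGA6.Kcoh Y →+ Additive (RefFun.Ref1Set Y)) (hdh : KDet.IsDetHat Y dh)
    {S : Scheme.{u}} [IsNoetherian S] [IsIntegral S] [S.IsSeparated] (hSn : Pi1.IsNormalScheme S)
    (ψ : Y ⟶ S) [IsProper ψ] [Surjective ψ] (hψ : RelProj.IsLocallyProjective ψ)
    (hψπ : RelProj.IsLocallyProjective (π ≫ ψ))
    (e : ℕ) (he : topologicalKrullDim (↥(ψ.fiber (genericPoint S)) : Type u) = e)
    (hdS : ∀ s : S, topologicalKrullDim ↥(CohB1.support F ∩ (π ≫ ψ).base ⁻¹' {s}) ≤ ((d + e : ℕ) : WithBot ℕ∞))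
    (G : Y.Modules) (hG : Coh.IsCoh G)
    (hGtf : ∀ (T : Y.Modules) (i : T ⟶ G), Mono i → Coh.IsCoh T → genericPoint Y ∉ CohB1.support T → IsZero T)
    [HasInjectiveResolutions Y.Modules]
    (KY : Type u) [CommRing KY] [LambdaRing.LambdaOps KY] (PY : LambdaRing.PosStructure KY)
    (φY : SGA6.Kvb Y →+ KY) (hKY : KRR.IsModel Y KY PY φY)
    (pX : KY →+ KX) (hpX : KRR.IsPull π φY φX pX)
    (μY : KY →+ SGA6.Kcoh Y →+ SGA6.Kcoh Y) (hμY : KDet.IsCap φY μY)
    (NS : ℕ) (gcS : SGA6.Kcoh Y →+ SGA6.Kcoh S) (hgcS : KRR.IsPushCoh ψ NS gcS)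
    (N₂ : ℕ) (gc₂ : SGA6.Kcoh X →+ SGA6.Kcoh S) (hgc₂ : KRR.IsPushCoh (π ≫ ψ) N₂ gc₂)
    [RefFun.Law S] (dhS : SGA6.Kcoh S →+ Additive (RefFun.Ref1Set S)) (hdhS : KDet.IsDetHat S dhS) :
    (∀ (x : KX), x ∈ LambdaRing.gammaFiltration PX (d + 1) → ∀ (t : KY), t ∈ LambdaRing.gammaFiltration PY e →
      ∀ (I I' : Y.Modules) (hI1 : RefHull.IsRef1 I), PicF.IsInvertible I → PicF.IsInvertible I' →
        ClSub.IsInverseOf I I' → dh (gc (μ x (KDet.clc X F))) = Additive.ofMul (RefFun.cls I hI1) →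
          dhS (gc₂ (μ (x * pX t) (KDet.clc X (((DCoh.tensorBi (X := X)).obj F).obj ((Scheme.Modules.pullback π).obj G))))) =
            dhS (gcS (μY ((1 - φY (KRR.cl Y I')) * t) (KDet.clc Y G)))) ∧
    ∀ (x' : KX), x' ∈ LambdaRing.gammaFiltration PX d → ∀ (t' : KY), t' ∈ LambdaRing.gammaFiltration PY (e + 1) →
      ∀ rk : SGA6.Kcoh Y →+ ℤ,
      (∀ G' : Y.Modules, Coh.IsCoh G' → rk (KDet.clc Y G') =
        ((Module.length (Y.presheaf.stalk (genericPoint Y)) (G'.presheaf.stalk (genericPoint Y))).toNat : ℤ)) →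
        dhS (gc₂ (μ (x' * pX t') (KDet.clc X (((DCoh.tensorBi (X := X)).obj F).obj ((Scheme.Modules.pullback π).obj G))))) =
          (rk (gc (μ x' (KDet.clc X F)))) • dhS (gcS (μY t' (KDet.clc Y G))) := by
  have hcY : ConnectedSpace Y := inferInstance
  have hrn := (K570.RelDimFn.rn_generic ψ he).2
  have hlow := K570.Lowers.lowers (π ≫ ψ) hKX hμ
  have hlowπ := K570.Lowers.lowers π hKX hμ
  have hlowψ := K570.Lowers.lowers ψ hKY hμY
  have hpull : ∀ (n : ℕ) (t : KY), t ∈ LambdaRing.gammaFiltration PY n →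
      pX t ∈ LambdaRing.gammaFiltration PX n := fun n t ht =>
    Groth.Agent.Krr.H482.PullFinal.pull_mem_gammaFiltration hKX hKY hpX n ht
  refine ⟨fun x hx t ht I I' hI1 hI hI' hinv hdI => ?_, fun x' hx' t' ht' rk hrk => ?_⟩
  · exact K570.TwoLevel.first π ψ hYn hgc hgcS hgc₂ hμ hμY hKY.bijective.2 hpX hpull hlow hlowπ
      hlowψ hF hd hdS hrn hG hdh hdhS.map_coniv_two hx ht hI1 hI' hinv hdI
  · exact K570.TwoLevel.second π ψ hgc hgcS hgc₂ hμ hμY hKY.bijective.2 hpX hpull hlow hlowψ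
      hF hd hdS hrn hG hdhS.map_coniv_two hx' ht' hrk

end Groth.Agent.S17235
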