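import Groth.Statements.S17236
import Groth.Agent.IntSh.K879.KosCap
import Groth.Agent.FormalA.Support
import Groth.Agent.IntSh.K879.SuppVan

set_option autoImplicit false
universe u
open IntSh

namespace Groth.Agent.S17236

open TopologicalSpace AlgebraicGeometry in
/-- A closed subset of a Noetherian scheme has finitely many points without proper generization in it. -/
theorem finite_maximal {X : Scheme.{u}} [IsNoetherian X] {T : Set X} (hT : IsClosed T) :
    {x : X | x ∈ T ∧ ∀ ξ ∈ T, ξ ⤳ x → ξ = x}.Finite := by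
  have hq : QuasiSober T := hT.isClosedEmbedding_subtypeVal.quasiSober
  have hn : NoetherianSpace T := hT.isClosedEmbedding_subtypeVal.isInducing.noetherianSpace
  have hfin : (irreducibleComponents T).Finite := NoetherianSpace.finite_irreducibleComponents
  let f : {x : X | x ∈ T ∧ ∀ ξ ∈ T, ξ ⤳ x → ξ = x} → irreducibleComponents T := fun x =>
    ⟨closure {⟨x.1, x.2.1⟩}, by
      refine ⟨isIrreducible_singleton.closure, fun s hs hle => ?_⟩
      obtain ⟨ξ, hξ⟩ := QuasiSober.sober hs.closure isClosed_closure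
      have h1 : ξ ⤳ (⟨x.1, x.2.1⟩ : T) := by
        rw [specializes_iff_mem_closure, hξ.def]
        exact subset_closure (hle (subset_closure rfl))
      have h2 : ξ.1 = x.1 := x.2.2 ξ.1 ξ.2 (h1.map continuous_subtype_val)
      have h3 : ξ = ⟨x.1, x.2.1⟩ := Subtype.ext h2
      rw [← h3]
      exact subset_closure.trans hξ.def.symm.subset⟩
  have hinj : Function.Injective f := by
    intro x y hxy
    have h1 : closure {(⟨x.1, x.2.1⟩ : T)} = closure {(⟨y.1, y.2.1⟩ : T)} := congrArg Subtype.val hxy
    have h2 : (⟨x.1, x.2.1⟩ : T) ⤳ ⟨y.1, y.2.1⟩ := by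
      rw [specializes_iff_mem_closure, h1]; exact subset_closure rfl
    exact Subtype.ext (y.2.2 x.1 x.2.1 (h2.map continuous_subtype_val))
  have : Finite (irreducibleComponents T) := hfin
  exact Set.finite_coe_iff.1 (Finite.of_injective f hinj)

theorem le_zero_of_add_le {a : WithBot ℕ∞} {d : ℕ}
    (h : a + ((d + 1 : ℕ) : WithBot ℕ∞) ≤ 1 + (d : WithBot ℕ∞)) : a ≤ 0 := by
  induction a with
  | bot => exact bot_le
  | coe a =>
    induction a with
    | top =>
      exfalso
      have h1 : ((⊤ : ℕ∞) : WithBot ℕ∞) + ((d + 1 : ℕ) : WithBot ℕ∞) = ((⊤ : ℕ∞) : WithBot ℕ∞) := rfl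
      rw [h1] at h
      have h2 : (1 : WithBot ℕ∞) + (d : WithBot ℕ∞) = (((1 + d : ℕ) : ℕ∞) : WithBot ℕ∞) := by push_cast; rfl
      rw [h2, WithBot.coe_le_coe, top_le_iff] at h
      exact ENat.natCast_ne_top _ h
    | coe a =>
      have h1 : ((a + (d + 1) : ℕ) : WithBot ℕ∞) ≤ ((1 + d : ℕ) : WithBot ℕ∞) := by
        push_cast at h ⊢
        exact h
      have h2 : a + (d + 1) ≤ 1 + d := by exact_mod_cast h1
      have h3 : a = 0 := by omega
      subst h3
      exact le_rfl

open CategoryTheory CategoryTheory.Limits AlgebraicGeometry in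
/-- Let Y be a normal separated Noetherian integral scheme, π : X → Y a proper surjective morphism with
X Noetherian and connected, K^•(X) given through a λ-ring model acting on K_•(X) = K_0(Coh X), and
π_* : K_•(X) → K_•(Y) the proper push-forward, det-hat : K_•(Y) → Ref¹(Y) the determinant
homomorphism. Fix d ≥ 0; let F be a coherent O_X-module whose support meets the fibre over every
point y with dim O_{Y,y} ≤ 1 in dimension at most d, E' a locally free O_X-module of rank d + 1 and
s : E' → O_X a cosection, the dual of a section σ of the rank-(d+1) bundle E = E'^∨, with Koszul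
complex K(E', s); assume σ is F-regular, i.e. F ⊗ K(E', s) is exact in all positive degrees, and let
F_V = coker(F ⊗ E' → F ⊗ O_X) be F ⊗ O_V for the zero scheme V of σ. Then, with λ_{-1}[E'] = Σ_i
(−1)^i [Λ^i E'] representing the top Chern class c^{d+1}(E) in F^{d+1} K^•(X): (i) the intersection
sheaf det-hat(π_*(λ_{-1}[E'] · [F])) equals det-hat[π_* F_V] in Ref¹(Y) — the class of O_Y(D) for D
the codimension-one part of the push-forward of the cycle of F_V; and (ii) [π_* F_V] − π_*[F_V] lies
in the second step of the coniveau filtration of K_•(Y), the higher direct images of F_V being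
supported in codimension ≥ 2. (X is taken connected so that K^•(X) has a λ-ring model; the source
allows any Noetherian X.) -/
theorem result
    {X Y : Scheme.{u}} [IsNoetherian X] [IsNoetherian Y] [IsIntegral Y] [Y.IsSeparated] [ConnectedSpace X]
    (hYn : Pi1.IsNormalScheme Y) (π : X ⟶ Y) [IsProper π] [Surjective π] [HasInjectiveResolutions X.Modules]
    (d : ℕ)
    (KX : Type u) [CommRing KX] [LambdaRing.LambdaOps KX] (PX : LambdaRing.PosStructure KX)
    (φX : SGA6.Kvb X →+ KX) (hKX : KRR.IsModel X KX PX φX)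
    (μ : KX →+ SGA6.Kcoh X →+ SGA6.Kcoh X) (hμ : KDet.IsCap φX μ)
    (N : ℕ) (gc : SGA6.Kcoh X →+ SGA6.Kcoh Y) (hgc : KRR.IsPushCoh π N gc)
    [RefFun.Law Y] (dh : SGA6.Kcoh Y →+ Additive (RefFun.Ref1Set Y)) (hdh : KDet.IsDetHat Y dh)
    (F : X.Modules) (hF : KDet.CohPi π d F)
    (E' : X.Modules) (hE' : FlatMod.IsFinLocFreeOfRank (d + 1) E')
    (s : E' ⟶ Coh.structureModule X) (C : KoszSh.Cx E' s)
    (hreg : ∀ q : ℕ, 1 ≤ q →
      IsZero (((((DCoh.tensorBi (X := X)).obj F).mapHomologicalComplex (ComplexShape.down ℕ)).obj C.K).homology q)) :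
    dh (gc (μ (KRR.lamAlt PX (φX (KRR.cl X E'))) (KDet.clc X F))) =
        dh (KDet.clc Y ((Coh.push π).obj (cokernel (((DCoh.tensorBi (X := X)).obj F).map (C.K.d 1 0))))) ∧
      KDet.clc Y ((Coh.push π).obj (cokernel (((DCoh.tensorBi (X := X)).obj F).map (C.K.d 1 0)))) -
          gc (KDet.clc X (cokernel (((DCoh.tensorBi (X := X)).obj F).map (C.K.d 1 0)))) ∈ KDet.coniv Y 2 := by
  have hX : IsLocallyNoetherian Y := inferInstance
  set G := cokernel (((DCoh.tensorBi (X := X)).obj F).map (C.K.d 1 0)) with hGdef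
  have hfl := K879.KosCap.isFinLocFree_X C hE'
  have hG : Coh.IsCoh G := PerfA.CohSerre.isCoh_cokernel _
    (K879.KosCap.isCoh_tensor (hfl 1) hF.1).1 (K879.KosCap.isCoh_tensor (hfl 0) hF.1)
  have hfin : ∀ y : Y, ringKrullDim (Y.presheaf.stalk y) ≤ 1 →
      (CohB1.support G ∩ π.base ⁻¹' {y}).Finite := by
    intro y hy
    refine (finite_maximal (FormalA.Support.isClosed_support G hG.2)).subset ?_
    rintro x ⟨hx, rfl⟩
    refine ⟨hx, fun ξ hξ hs => K879.FibDim.eq_of_supportDim_nonpos hG hs hξ ?_⟩
    have h1 := K879.KosCap.supportDim_add C hE' hF.1 (hreg 1 le_rfl) x hx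
    have hxF : x ∈ CohB1.support F := by
      intro hc
      have h2 : Module.supportDim (X.presheaf.stalk x) (F.presheaf.stalk x) = ⊥ :=
        (Module.supportDim_eq_bot_iff_subsingleton _ _).2 hc
      rw [h2] at h1
      have h3 : Module.supportDim (X.presheaf.stalk x) (G.presheaf.stalk x) = ⊥ := by
        rcases WithBot.add_eq_bot.1 h1 with h | h
        · exact h
        · exact absurd h (WithBot.coe_ne_bot)
      exact hx ((Module.supportDim_eq_bot_iff_subsingleton _ _).1 h3)
    have h4 := K879.FibDim.supportDim_le π hF.1 hxF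
    have h5 := hF.2 (π.base x) hy
    have h6 : Module.supportDim (X.presheaf.stalk x) (G.presheaf.stalk x) + ((d + 1 : ℕ) : WithBot ℕ∞) ≤
        1 + (d : WithBot ℕ∞) := by
      rw [h1]
      exact h4.trans (add_le_add hy h5)
    exact le_zero_of_add_le h6
  refine ⟨?_, K879.SuppVan.push_sub_mem_coniv π hgc hG hfin⟩
  rw [K879.KosCap.cap_lamAlt C hE' hF.1 hKX hμ hreg, ← sub_eq_zero, ← map_sub, ← neg_sub, map_neg,
    neg_eq_zero]
  exact hdh.map_coniv_two _ (K879.SuppVan.push_sub_mem_coniv π hgc hG hfin)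

end Groth.Agent.S17236
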