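import Groth.Statements.S17237
import Groth.Agent.IntSh.K879.EffSec
import Groth.Agent.IntSh.K879.CutDiv
import Groth.Agent.IntSh.K879.CapDrop
import Groth.Agent.IntSh.K879.DimK
import Groth.Agent.IntSh.K879.SuppVan
import Groth.Agent.IntSh.K878.PushSup
import Groth.Agent.Dcoh.PushRestrict
import Groth.Agent.Krr.H485.PushCoh

set_option autoImplicit false
universe u
open IntSh

namespace Groth.Agent.S17237

section Helpers

open CategoryTheory CategoryTheory.Limits AlgebraicGeometry TopologicalSpace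
open AlgebraicGeometry.Scheme.Modules
open Groth.Agent
open K878.KSup

/-- Restriction of the structure sheaf of a closure to an open. -/
theorem res_closure {X : Scheme.{u}} [IsNoetherian X] (U : X.Opens) (z : U) :
    res U.ι (KDet.clc X (Cyc.closureStructureSheaf (U.ι z))) =
      KDet.clc (U : Scheme.{u}) (Cyc.closureStructureSheaf z) := by
  let J : X.IdealSheafData := IntMult.ptIdeal (U.ι z)
  let i : J.subscheme ⟶ X := J.subschemeι
  have hZ : IsIntegral J.subscheme := inferInstanceAs (IsIntegral (K432.CurveLift.ptIdeal (U.ι z)).subscheme)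
  have hr : Set.range i = closure {U.ι z} := K432.CurveLift.range_ptIdeal (U.ι z)
  have hη : i (genericPoint J.subscheme) = U.ι z := by
    have h1 : IsGenericPoint (i (genericPoint J.subscheme)) (closure {U.ι z}) := by
      have h2 := (genericPoint_spec J.subscheme).image i.continuous
      rw [Set.image_univ, hr] at h2
      rwa [isClosed_closure.closure_eq] at h2
    exact h1.eq (isGenericPoint_closure (x := U.ι z))
  have hne : Nonempty (i ⁻¹ᵁ U) := ⟨⟨genericPoint J.subscheme, by
    change i (genericPoint J.subscheme) ∈ U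
    rw [hη]
    exact z.2⟩⟩
  have hZ' : IsIntegral (i ⁻¹ᵁ U : Scheme.{u}) := inferInstance
  obtain ⟨e1⟩ := IntSh.K877.Dev.exists_iso_closure (i ∣_ U)
  have hz : (i ∣_ U) (genericPoint (i ⁻¹ᵁ U : Scheme.{u})) = z := by
    apply U.ι.isOpenEmbedding.injective
    have h1 : U.ι ((i ∣_ U) (genericPoint (i ⁻¹ᵁ U : Scheme.{u}))) =
        i ((i ⁻¹ᵁ U).ι (genericPoint (i ⁻¹ᵁ U : Scheme.{u}))) := by
      rw [← Scheme.Hom.comp_apply, ← Scheme.Hom.comp_apply, morphismRestrict_ι]
    rw [h1, genericPoint_eq_of_isOpenImmersion, hη]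
  rw [hz] at e1
  have hc : Coh.IsCoh (Cyc.closureStructureSheaf (U.ι z)) :=
    IntSh.K877.Dev.isCoh_push i (Fdesc.StructMod.isCoh_structureModule _)
  rw [res_clc U.ι hc]
  let e2 : (restrictFunctor U.ι).obj ((Scheme.Modules.pushforward i).obj (Coh.structureModule J.subscheme)) ≅
      (Scheme.Modules.pushforward (i ∣_ U)).obj ((restrictFunctor (i ⁻¹ᵁ U).ι).obj (Coh.structureModule J.subscheme)) :=
    (Dcoh.PushRestrict.pushMorphismRestrictIso i U).app _
  let e3 : (restrictFunctor (i ⁻¹ᵁ U).ι).obj (Coh.structureModule J.subscheme) ≅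
      Coh.structureModule (i ⁻¹ᵁ U : Scheme.{u}) :=
    (restrictFunctorIsoPullback (i ⁻¹ᵁ U).ι).app _ ≪≫ PerfC.PullRestrict.pullbackUnit _
  exact clc_congr (e2 ≪≫ (Scheme.Modules.pushforward (i ∣_ U)).mapIso e3 ≪≫ e1)

/-- Restriction of `x · [O_X]`. -/
theorem res_cap {X : Scheme.{u}} [IsNoetherian X] (U : X.Opens)
    {KX : Type u} [CommRing KX] [LambdaRing.LambdaOps KX] {PX : LambdaRing.PosStructure KX}
    {φX : SGA6.Kvb X →+ KX} (hKX : KRR.IsModel X KX PX φX)
    {μ : KX →+ SGA6.Kcoh X →+ SGA6.Kcoh X} (hμ : KDet.IsCap φX μ)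
    {KU : Type u} [CommRing KU]
    {φU : SGA6.Kvb (U : Scheme.{u}) →+ KU}
    {pU : KX →+ KU} (hpU : KRR.IsPull U.ι φX φU pU)
    {μU : KU →+ SGA6.Kcoh (U : Scheme.{u}) →+ SGA6.Kcoh (U : Scheme.{u})} (hμU : KDet.IsCap φU μU) (x : KX) :
    res U.ι (μ x (KDet.clc X (Coh.structureModule X))) =
      μU (pU x) (KDet.clc (U : Scheme.{u}) (Coh.structureModule (U : Scheme.{u}))) := by
  induction x using Krr.H446.ProjFormula.model_induction hKX with
  | h0 => simp
  | hc E hE =>
    have hO : Coh.IsCoh (Coh.structureModule X) := Fdesc.StructMod.isCoh_structureModule X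
    have hEc : Coh.IsCoh E := PerfA.CohSerre.isCoh_of_isFinLocFree hE
    have hU : IsNoetherian (U : Scheme.{u}) := Sga67.CohBasic.isNoetherian_of_isOpenImmersion U.ι
    have hE' : FlatMod.IsFinLocFree ((Scheme.Modules.pullback U.ι).obj E) := PerfB.FlatPull.isFinLocFree_pullback U.ι hE
    have e1 : ((DCoh.tensorBi (X := X)).obj E).obj (Coh.structureModule X) ≅ E := Ega2.Tens.runit E
    have e2 : ((DCoh.tensorBi (X := U)).obj ((Scheme.Modules.pullback U.ι).obj E)).obj
      (Coh.structureModule (U : Scheme.{u})) ≅ (Scheme.Modules.pullback U.ι).obj E := Ega2.Tens.runit _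
    rw [hμ.map_cl E _ hE hO, hpU E hE, hμU.map_cl _ _ hE' (Fdesc.StructMod.isCoh_structureModule _),
      clc_congr e1, clc_congr e2, res_clc U.ι hEc]
    exact clc_congr ((restrictFunctorIsoPullback U.ι).app E)
  | hneg x hx => rw [map_neg, map_neg, map_neg, AddMonoidHom.neg_apply, AddMonoidHom.neg_apply, map_neg, hx]
  | hadd x y hx hy =>
    rw [map_add, map_add, map_add, AddMonoidHom.add_apply, AddMonoidHom.add_apply, map_add, hx, hy]

end Helpers


open K878.KSup Groth.Agent CategoryTheory CategoryTheory.Limits AlgebraicGeometry in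
/-- Let k be a field, X an integral k-scheme admitting a closed immersion into a projective space over
k, Y an integral normal scheme separated and of finite type over k, and π : X → Y a proper
surjective k-morphism which is equidimensional in the sense that all fibres have Krull dimension d;
take a λ-ring model of K^•(X) acting on K_•(X), the proper push-forward π_* on K_• and det-hat :
K_•(Y) → Ref¹(Y). Let B ⊆ Y be a closed subset of codimension at least 2 (every point of B has a
local ring of dimension ≥ 2), U = X ∖ π⁻¹(B) with its own λ-ring model acting on K_•(U) and the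
restriction K^•(X) → K^•(U), and Z = Σ_i n_i Z_i an effective cycle of codimension d on U, given by
points z_i of U with dim O_{U,z_i} = d and multiplicities n_i > 0, every Z_i dominating Y (z_i maps
to the generic point). Let x ∈ F^d K^•(X) represent a class θ with φ(θ|_U) = [Z]: the class x|_U ·
[O_U] − Σ n_i [O_{Z_i}] lies in the (d+1)-st step of the coniveau filtration of K_•(U), O_{Z_i}
being the structure sheaf of the reduced closure of z_i. Let D be an effective Cartier divisor on X,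
an ideal sheaf I_D which is invertible, whose support contains no z_i. Then the intersection sheaf
I_{X/Y}(θ · c^1(O_X(D))) = det-hat(π_*((x · (1 − [I_D])) · [O_X])) is the class in Ref¹(Y) of a
rank-one reflexive module with a non-zero global section. (U is connected, being a non-empty open of
the integral X; the hypothesis is carried for the λ-ring model.) -/
theorem result
    {k : Type u} [Field k] {X Y : Scheme.{u}}
    (sX : X ⟶ Spec (CommRingCat.of k)) (sY : Y ⟶ Spec (CommRingCat.of k))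
    [IsIntegral X] [IsNoetherian X] [ConnectedSpace X] (hX : RelProj.IsHProjective sX)
    [IsIntegral Y] [IsNoetherian Y] [IsSeparated sY] [LocallyOfFiniteType sY] [QuasiCompact sY] [Y.IsSeparated]
    (hYn : Pi1.IsNormalScheme Y)
    (π : X ⟶ Y) (hπ : π ≫ sY = sX) [IsProper π] [Surjective π]
    (d : ℕ) (hd : ∀ y : Y, topologicalKrullDim (↥(π.fiber y) : Type u) = d)
    [HasInjectiveResolutions X.Modules]
    (KX : Type u) [CommRing KX] [LambdaRing.LambdaOps KX] (PX : LambdaRing.PosStructure KX)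
    (φX : SGA6.Kvb X →+ KX) (hKX : KRR.IsModel X KX PX φX)
    (μ : KX →+ SGA6.Kcoh X →+ SGA6.Kcoh X) (hμ : KDet.IsCap φX μ)
    (N : ℕ) (gc : SGA6.Kcoh X →+ SGA6.Kcoh Y) (hgc : KRR.IsPushCoh π N gc)
    [RefFun.Law Y] (dh : SGA6.Kcoh Y →+ Additive (RefFun.Ref1Set Y)) (hdh : KDet.IsDetHat Y dh)
    (B : Set Y) (hBc : IsClosed B) (hB : ∀ y ∈ B, (2 : WithBot ℕ∞) ≤ ringKrullDim (Y.presheaf.stalk y))
    (U : X.Opens) (hU : (U : Set X) = (π.base ⁻¹' B)ᶜ) [ConnectedSpace ↥(U : Scheme.{u})]
    (KU : Type u) [CommRing KU] [LambdaRing.LambdaOps KU] (PU : LambdaRing.PosStructure KU)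
    (φU : SGA6.Kvb (U : Scheme.{u}) →+ KU) (hKU : KRR.IsModel (U : Scheme.{u}) KU PU φU)
    (pU : KX →+ KU) (hpU : KRR.IsPull U.ι φX φU pU)
    (μU : KU →+ SGA6.Kcoh (U : Scheme.{u}) →+ SGA6.Kcoh (U : Scheme.{u})) (hμU : KDet.IsCap φU μU)
    {m : ℕ} (z : Fin m → ↥(U : Scheme.{u})) (n : Fin m → ℕ) (hn : ∀ i, 0 < n i)
    (hz : ∀ i, ringKrullDim ((U : Scheme.{u}).presheaf.stalk (z i)) = d)
    (hdom : ∀ i, π.base (U.ι.base (z i)) = genericPoint Y)
    (x : KX) (hx : x ∈ LambdaRing.gammaFiltration PX d)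
    (hxZ : μU (pU x) (KDet.clc (U : Scheme.{u}) (Coh.structureModule (U : Scheme.{u}))) -
        ∑ i, (n i : ℤ) • KDet.clc (U : Scheme.{u}) (Cyc.closureStructureSheaf (z i)) ∈
      KDet.coniv (U : Scheme.{u}) (d + 1))
    (D : X.IdealSheafData) (hD : FGA.IsEffCartier D) (hDz : ∀ i, U.ι.base (z i) ∉ (D.support : Set X)) :
    ∃ (L : Y.Modules) (hR : RefHull.IsRef1 L),
      dh (gc (μ (x * (1 - φX (KRR.cl X (ClSub.idealMod D)))) (KDet.clc X (Coh.structureModule X)))) =
          Additive.ofMul (RefFun.cls L hR) ∧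
        ∃ s : Coh.structureModule Y ⟶ L, s ≠ 0 := by
  classical
  letI i1 : X.Over (Spec (CommRingCat.of k)) := ⟨sX⟩
  letI i2 : Y.Over (Spec (CommRingCat.of k)) := ⟨sY⟩
  have hYft : LocallyOfFiniteType (Y ↘ (Spec (CommRingCat.of k))) := inferInstanceAs (LocallyOfFiniteType sY)
  have hXft : LocallyOfFiniteType (X ↘ (Spec (CommRingCat.of k))) := by
    change LocallyOfFiniteType sX
    rw [← hπ]
    infer_instance
  let z' : Fin m → X := fun i => U.ι (z i)
  have hzd : ∀ i, ringKrullDim (X.presheaf.stalk (z' i)) = d := fun i => by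
    rw [← hz i]
    exact ringKrullDim_eq_of_ringEquiv (asIso (U.ι.stalkMap (z i))).commRingCatIsoToRingEquiv
  have htrd : ∀ i, VarietyB.DimSch.trd k X (z' i) ≤ VarietyB.DimSch.trd k Y (genericPoint Y) := fun i =>
    K879.DimK.trd_le k π hπ d (fun y => (hd y).le) (hzd i)
  have hspec : ∀ i, ∀ x : X, ∀ x' : X, z' i ⤳ x → x ⤳ x' → π x = π x' →
      ringKrullDim (Y.presheaf.stalk (π x)) ≤ 1 → x = x' := fun i x x' h1 h2 h3 h4 =>
    K879.DimK.eq_of_specializes k π hπ (htrd i) (hdom i) h1 h2 h3 h4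
  have hDinv : PicF.IsInvertible (ClSub.idealMod D) := Dix.IdealModCartier.isInvertible_idealMod hD
  -- the support conditions
  let T : Set X := {x | ((d + 1 : ℕ) : WithBot ℕ∞) ≤ ringKrullDim (X.presheaf.stalk x)} ∪ π ⁻¹' B
  let S : Set X := {x | ((d + 1 + 1 : ℕ) : WithBot ℕ∞) ≤ ringKrullDim (X.presheaf.stalk x)} ∪ π ⁻¹' B
  have hBspec : ∀ x ∈ π ⁻¹' B, ∀ y, x ⤳ y → y ∈ π ⁻¹' B := fun x hx y hxy =>
    (hxy.map π.continuous).mem_closed hBc hx
  have hS : ∀ x ∈ S, ∀ y, x ⤳ y → y ∈ S := by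
    rintro x (hx | hx) y hxy
    · exact Or.inl (le_trans hx (IntSh.K877.Pts.dim_mono hxy))
    · exact Or.inr (hBspec x hx y hxy)
  have hST : ∀ x ∈ T, x ∉ S → ∀ y, x ⤳ y → y ≠ x → y ∈ S := by
    rintro x (hx | hx) hxS y hxy hne
    · refine Or.inl (le_trans ?_ (IntSh.K877.Pts.dim_add_one_le hxy hne.symm))
      rw [Nat.cast_add (d + 1) 1]
      exact add_le_add hx (le_refl _)
    · exact Or.inr (hBspec x hx y hxy)
  let ξ := μ x (KDet.clc X (Coh.structureModule X))
  let σ : SGA6.Kcoh X := ∑ i, (n i : ℤ) • KDet.clc X (Cyc.closureStructureSheaf (z' i))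
  have hρ : ξ - σ ∈ ksup X T := by
    refine K879.CapDrop.mem_of_res_mem U.ι
      (T' := {x | ((d + 1 : ℕ) : WithBot ℕ∞) ≤ ringKrullDim ((U : Scheme.{u}).presheaf.stalk x)}) ?_ ?_ ?_
    · intro v hv
      refine Or.inl ?_
      have h1 : ringKrullDim (X.presheaf.stalk (U.ι v)) = ringKrullDim ((U : Scheme.{u}).presheaf.stalk v) :=
        ringKrullDim_eq_of_ringEquiv (asIso (U.ι.stalkMap v)).commRingCatIsoToRingEquiv
      exact le_trans hv h1.ge
    · intro v hv
      refine Or.inr ?_
      rw [Scheme.Opens.range_ι, hU, compl_compl] at hv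
      exact hv
    · rw [map_sub, res_cap U hKX hμ hpU hμU x, map_sum]
      simp only [map_zsmul]
      have h1 : ∀ i, res U.ι (KDet.clc X (Cyc.closureStructureSheaf (z' i))) =
        KDet.clc (U : Scheme.{u}) (Cyc.closureStructureSheaf (z i)) := fun i => res_closure U (z i)
      simp only [h1]
      exact hxZ
  have hρ' : μ (1 - φX (KRR.cl X (ClSub.idealMod D))) (ξ - σ) ∈ ksup X S :=
    K879.CapDrop.one_sub_cap_mem hμ hS hST hDinv hρ
  have hgρ : gc (μ (1 - φX (KRR.cl X (ClSub.idealMod D))) (ξ - σ)) ∈ KDet.coniv Y 2 := by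
    rw [K879.CapDrop.coniv_eq]
    refine K878.PushSup.push_mem π hgc (T := S) ?_ hρ'
    rintro v (hv | hv)
    · exact K879.DimK.two_le_of_le π d (fun y => (hd y).le) hv
    · exact hB _ hv
  -- cutting
  choose W hWc hWs hWz hW using fun i => K879.CutDiv.exists_cut (z' i) D hDinv (hDz i)
  have hDf : FlatMod.IsFinLocFree (ClSub.idealMod D) :=
    K879.CutDiv.isFinLocFree_of_rank (Ega2.QCohLocal.isFinLocFreeOfRank_one_iff.2 hDinv)
  have hσ : μ (1 - φX (KRR.cl X (ClSub.idealMod D))) σ = ∑ i, n i • KDet.clc X (W i) := by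
    rw [map_sum]
    refine Finset.sum_congr rfl fun i _ => ?_
    have hc : Coh.IsCoh (Cyc.closureStructureSheaf (z' i)) :=
      IntSh.K877.Dev.isCoh_push _ (Fdesc.StructMod.isCoh_structureModule _)
    rw [map_zsmul, map_sub μ, AddMonoidHom.sub_apply, hμ.one_smul, hμ.map_cl _ _ hDf hc, hW i, natCast_zsmul]
  have hmain : μ (x * (1 - φX (KRR.cl X (ClSub.idealMod D)))) (KDet.clc X (Coh.structureModule X)) =
      μ (1 - φX (KRR.cl X (ClSub.idealMod D))) (ξ - σ) + ∑ i, n i • KDet.clc X (W i) := by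
    rw [mul_comm, hμ.mul_smul, ← hσ, ← map_add, sub_add_cancel]
  have hdW : ∀ i, dh (gc (KDet.clc X (W i))) ∈ K879.EffSec.eff Y := by
    intro i
    have hfin : ∀ y : Y, ringKrullDim (Y.presheaf.stalk y) ≤ 1 →
        (CohB1.support (W i) ∩ π.base ⁻¹' {y}).Finite := by
      intro y hy
      refine (K879.DimK.finite_inter_fibre π (C := closure {z' i}) isClosed_closure y ?_).subset
        (Set.inter_subset_inter_left _ (hWs i))
      intro v hv v' _ h1 h2 h3
      refine hspec i v v' (specializes_iff_mem_closure.mpr hv) h3 (h1.trans h2.symm) ?_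
      rw [h1]
      exact hy
    have h1 := hdh.map_coniv_two _ (K879.SuppVan.push_sub_mem_coniv π hgc (hWc i) hfin)
    rw [map_sub, sub_eq_zero] at h1
    rw [← h1]
    have h2 : KDet.clc Y ((Coh.Rpush π 0).obj (W i)) = KDet.clc Y ((Coh.push π).obj (W i)) :=
      Krr.H485.PushCoh.clSub_coh_iso ((Scheme.Modules.pushforward π).rightDerivedZeroIsoSelf.app (W i))
    rw [← h2]
    refine K879.EffSec.dh_mem_eff hdh (Groth.Agent.S0036.result π (W i) (hWc i) 0) fun hη => ?_
    obtain ⟨v, hv, hv'⟩ := K878.PushSup.support_Rpush_subset π (hWc i) 0 hη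
    have h3 : z' i ⤳ v := specializes_iff_mem_closure.mpr (hWs i hv)
    have h4 : π (z' i) = genericPoint Y := hdom i
    have h5 := hspec i (z' i) v specializes_rfl h3 (h4.trans hv'.symm) (by
      rw [h4, (IntSh.K877.Pts.dim_eq_zero_iff (genericPoint Y)).mpr fun y hy =>
        (hy.antisymm (genericPoint_specializes y)).eq]
      exact zero_le_one)
    rw [← h5] at hv
    exact hWz i hv
  refine K879.EffSec.exists_of_mem_eff ?_
  rw [hmain, map_add, map_add, hdh.map_coniv_two _ hgρ, zero_add, map_sum, map_sum]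
  refine sum_mem fun i _ => ?_
  rw [map_nsmul, map_nsmul]
  exact AddSubmonoid.nsmul_mem _ (hdW i) _

end Groth.Agent.S17237
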