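import Groth.Statements.S17238
import Groth.Agent.S17227
import Groth.Agent.S17218
import Groth.Agent.IntSh.K241.DetPB
import Groth.Agent.IntSh.K241.AmplePB

set_option autoImplicit false
universe u
open IntSh

namespace Groth.Agent.S17238

open CategoryTheory CategoryTheory.Limits AlgebraicGeometry in
/-- Let π : X → Y be a projective morphism of Noetherian schemes with X and Y connected, F a coherent
O_X-module flat over Y whose support meets every fibre of π in dimension d, and assume that π is
flat or that Y carries an ample invertible module; K^•(X) and K^•(Y) are given through λ-ring models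
and π_*^F : K^•(X) → K^•(Y) denotes the push-forward on bundle classes twisted by F, det : K^• → Pic
the determinant on Y and on P. Let G be a finite locally free O_Y-module, E a locally free
O_X-module of rank d + 1 with a surjection π^*G → E, q : P → Y the projective bundle of the dual G^∨
with its universal invertible quotient q^*G^∨ → O(1) and an inverse O(−1) of O(1), and P_X = X ×_Y P
with projections p_1, p_2 (P and P_X Noetherian and connected, with their λ-ring models, the
pull-backs q^*, p_1^*, p_2^* and the push-forward p_{2*}^{p_1^*F} on bundle classes twisted by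
p_1^*F). The zero scheme V of the tautological section of p_1^*E ⊗ p_2^*O(1) has class
λ_{-1}(p_1^*[E^∨] · p_2^*[O(−1)]) in K^•(P_X), and the claim is: det_P p_{2*}^{p_1^*F} of that class
equals, in Pic(P) written additively, q^* det_Y π_*^F(c^{d+1}(E)) + ε(π_*^F(c^d(E))) • [O(1)], where
E^∨ is the dual module, the top Chern class c^{d+1}(E) is represented by λ_{-1}[E^∨] = Σ_i (−1)^i
[Λ^i E^∨] (the class of the Koszul complex of E, which is the representative the printed computation
produces), c^d(E) is represented by γ^d([E] − (d+1)) (its relative intersection number ε(π_*^F(·))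
does not depend on the representative), and pulling back classes along q is multiplicative (carried
as a hypothesis). (X, P, P_X are taken connected so that λ-ring models exist.) -/
theorem result
    {X Y : Scheme.{u}} [IsNoetherian X] [IsNoetherian Y] [ConnectedSpace X] [ConnectedSpace Y] (π : X ⟶ Y)
    (hπ : RelProj.IsProjective π) [HasInjectiveResolutions X.Modules]
    (F : X.Modules) (hF : Coh.IsCoh F) (hFf : FlatMod.IsFlatOver π F)
    (d : ℕ) (hd : ∀ y : Y, topologicalKrullDim ↥(CohB1.support F ∩ π.base ⁻¹' {y}) = d)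
    (hAB : Flat π ∨ ∃ H : Y.Modules, CohB1.IsAmple H)
    (KX : Type u) [CommRing KX] [LambdaRing.LambdaOps KX] (PX : LambdaRing.PosStructure KX)
    (φX : SGA6.Kvb X →+ KX) (hKX : KRR.IsModel X KX PX φX)
    (KY : Type u) [CommRing KY] [LambdaRing.LambdaOps KY] (PY : LambdaRing.PosStructure KY)
    (φY : SGA6.Kvb Y →+ KY) (hKY : KRR.IsModel Y KY PY φY)
    (g : KX →+ KY) (hg : KDet.IsPushF π F φX φY g)
    [PicGrp.Law Y] (dt : KY →+ Additive (PicLoc.PicSet Y)) (hdt : KDet.IsDet φY dt)
    (G : Y.Modules) (hG : FlatMod.IsFinLocFree G)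
    (E : X.Modules) (hE : FlatMod.IsFinLocFreeOfRank (d + 1) E)
    (qE : (Scheme.Modules.pullback π).obj G ⟶ E) [Epi qE]
    {P XP : Scheme.{u}} [IsNoetherian P] [ConnectedSpace P] [IsNoetherian XP] [ConnectedSpace XP]
    (q : P ⟶ Y) (O1 : P.Modules) (u : (Scheme.Modules.pullback q).obj (RefHull.dual G) ⟶ O1)
    (hPB : KRR.IsProjBundle q (RefHull.dual G) O1 u) (hO1 : PicF.IsInvertible O1)
    (Om : P.Modules) (hOm : PicF.IsInvertible Om) (hOOm : ClSub.IsInverseOf O1 Om)
    (p₁ : XP ⟶ X) (p₂ : XP ⟶ P) (hsq : IsPullback p₁ p₂ π q) [HasInjectiveResolutions XP.Modules]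
    (KP : Type u) [CommRing KP] [LambdaRing.LambdaOps KP] (PP : LambdaRing.PosStructure KP)
    (φP : SGA6.Kvb P →+ KP) (hKP : KRR.IsModel P KP PP φP)
    (KPX : Type u) [CommRing KPX] [LambdaRing.LambdaOps KPX] (PPX : LambdaRing.PosStructure KPX)
    (φPX : SGA6.Kvb XP →+ KPX) (hKPX : KRR.IsModel XP KPX PPX φPX)
    (pp₁ : KX →+ KPX) (hpp₁ : KRR.IsPull p₁ φX φPX pp₁)
    (pp₂ : KP →+ KPX) (hpp₂ : KRR.IsPull p₂ φP φPX pp₂)
    (g₂ : KPX →+ KP) (hg₂ : KDet.IsPushF p₂ ((Scheme.Modules.pullback p₁).obj F) φPX φP g₂)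
    [PicGrp.Law P] (dtP : KP →+ Additive (PicLoc.PicSet P)) (hdtP : KDet.IsDet φP dtP)
    (hmul : PicGrp.PullMul q) :
    dtP (g₂ (KRR.lamAlt PPX (pp₁ (φX (KRR.cl X (RefHull.dual E))) * pp₂ (φP (KRR.cl P Om))))) =
      Additive.ofMul (PicGrp.pullHom q hmul (Additive.toMul
          (dt (g (KRR.lamAlt PX (φX (KRR.cl X (RefHull.dual E)))))))) +
        (PY.aug (g (LambdaRing.gamma d (φX (KRR.cl X E) - ((d + 1 : ℕ) : KX))))) •
          Additive.ofMul (PicGrp.cls O1 hO1) := by
  obtain ⟨pY, hpY⟩ := Krr.H482.PullLambda.exists_isPull q hKY.bijective φP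
  obtain ⟨r, hr⟩ := Krr.H495.Rank.exists_rank_of_connected hG
  have hAB' : Flat π ∨ ((∃ H : Y.Modules, CohB1.IsAmple H) ∧ ∃ H' : P.Modules, CohB1.IsAmple H') := by
    rcases hAB with hf | hY
    · exact Or.inl hf
    · exact Or.inr ⟨hY, K241.AmplePB.exists_ample q (K879.DualCmp.isFinLocFreeOfRank_dual hr) hPB hKP hY⟩
  exact K241.DetPB.main hKX hKY g hdt hE hO1 hOm hOOm hKP hKPX hpp₁ hpp₂ hpY g₂ hdtP hmul
    (fun x y => S17227.result π hπ F hF hFf d hd hAB KX PX φX hKX KY PY φY hKY g hg q p₁ p₂ hsq hAB'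
      KPX PPX φPX hKPX KP PP φP hKP pp₁ hpp₁ pY hpY pp₂ hpp₂ g₂ hg₂ x y)
    (fun x hx => S17218.result π hπ F hF hFf d hd hAB KX PX φX hKX KY PY φY hKY g hg x hx)

end Groth.Agent.S17238
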