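import Groth.Statements.S17239
import Groth.Agent.S17231
import Groth.Agent.IntSh.K879.ProjB
import Groth.Agent.IntSh.K879.DualAlg
import Groth.Agent.IntSh.K879.DualCmp

set_option autoImplicit false
universe u
open IntSh

namespace Groth.Agent.S17239

open CategoryTheory CategoryTheory.Limits AlgebraicGeometry in
/-- Let Y be a connected Noetherian scheme, E a locally free O_Y-module of rank r with dual module E^∨,
and π : X → Y a projective bundle of E, i.e. X = P(E) with universal invertible quotient π^*E → O(1)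
(X Noetherian and connected, π projective and flat); let O(−1) be an inverse of O(1). With λ-ring
models of K^•(X) and K^•(Y), the γ-operations of K^•(Y) and the push-forward π_* on bundle classes
(twisted by O_X), writing δ(O(1)) = 1 − [O(−1)]: for every i ≥ 0, Σ_{k=0}^{r} γ^{r−k}([E^∨] − r) ·
π_*(δ(O(1))^{i+k}) = 0 in K^•(Y); consequently π_*(δ(O(1))^{r+i−1}) represents the i-th Segre class
of E. (X is taken connected, which it is for r ≥ 1 and Y connected.) -/
theorem result
    {X Y : Scheme.{u}} [IsNoetherian X] [IsNoetherian Y] [ConnectedSpace X] [ConnectedSpace Y] (π : X ⟶ Y)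
    (hπ : RelProj.IsProjective π) [Flat π] [HasInjectiveResolutions X.Modules]
    (r : ℕ) (E : Y.Modules) (hE : FlatMod.IsFinLocFreeOfRank r E)
    (O1 : X.Modules) (q : (Scheme.Modules.pullback π).obj E ⟶ O1) (hP : KRR.IsProjBundle π E O1 q)
    (Om : X.Modules) (hOm : PicF.IsInvertible Om) (hOOm : ClSub.IsInverseOf O1 Om)
    (KX : Type u) [CommRing KX] [LambdaRing.LambdaOps KX] (PX : LambdaRing.PosStructure KX)
    (φX : SGA6.Kvb X →+ KX) (hKX : KRR.IsModel X KX PX φX)
    (KY : Type u) [CommRing KY] [LambdaRing.LambdaOps KY] (PY : LambdaRing.PosStructure KY)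
    (φY : SGA6.Kvb Y →+ KY) (hKY : KRR.IsModel Y KY PY φY)
    (g : KX →+ KY) (hg : KDet.IsPushF π (Coh.structureModule X) φX φY g) (i : ℕ) :
    ∑ k ∈ Finset.range (r + 1),
        LambdaRing.gamma (r - k) (φY (KRR.cl Y (RefHull.dual E)) - (r : KY)) * g ((1 - φX (KRR.cl X Om)) ^ (i + k)) = 0 := by
  have hO1 := hP.invertible
  have := hP.epi
  obtain ⟨r, rfl⟩ : ∃ r' : ℕ, r = r' + 1 :=
    ⟨r - 1, by have := S17231.one_le_rank π hE q hO1 hKX; omega⟩
  obtain ⟨p, hp⟩ := Krr.H482.PullLambda.exists_isPull π hKY.bijective φX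
  have hOm' : FlatMod.IsFinLocFree Om := Krr.H482.PullLambda.isFinLocFree_of_rank
    (Ega2.QCohLocal.isFinLocFreeOfRank_one_iff.2 hOm)
  set f := φY (KRR.cl Y (RefHull.dual E)) with hfdef
  set e := φY (KRR.cl Y E) with hedef
  set m := φX (KRR.cl X Om) with hmdef
  have hmul : ∀ a b : KY, p (a * b) = p a * p b := Krr.H482.PullLambda.pull_mul hKX hKY hp
  have hone : p 1 = 1 := Krr.H482.PullLambda.pull_one hKX hKY hp
  have hnat : ∀ n : ℕ, p (n : KY) = n := fun n => map_natCast (Krr.H482.PullLambda.pullRingHom hKX hKY hp) n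
  have hfpos : f ∈ PY.pos := (hKY.mem_pos_iff _).2
    ⟨r + 1, _, Nat.succ_pos r, K879.DualCmp.isFinLocFreeOfRank_dual hE, rfl⟩
  have hpf : p f ∈ PX.pos := Krr.H482.PullLambda.pull_pos hKX hKY hp hfpos
  have haug : PX.aug (p f) = ((r + 1 : ℕ) : ℤ) := by
    rw [Krr.H482.PullLambda.pull_aug hKX hKY hp]
    exact hKY.aug_cl (r + 1) _ (K879.DualCmp.isFinLocFreeOfRank_dual hE)
  have hdual := K879.DualCmp.dual_mul_lam hKY (Nat.succ_pos r) hE
  have hlam : ∀ j, j ≤ r + 1 → LambdaRing.LambdaOps.lam j f * LambdaRing.LambdaOps.lam (r + 1) e =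
      LambdaRing.LambdaOps.lam (r + 1 - j) e :=
    fun j hj => K879.DualAlg.lam_dual_mul hKY (Nat.succ_pos r) hE f hdual j hj
  have hunit : IsUnit (LambdaRing.LambdaOps.lam (r + 1) e) := by
    have h1 := PY.isUnit_lam e ((hKY.mem_pos_iff _).2 ⟨r + 1, E, Nat.succ_pos r, hE, rfl⟩)
    rwa [hKY.aug_cl (r + 1) E hE, Int.toNat_natCast] at h1
  have hunit' : IsUnit (p (LambdaRing.LambdaOps.lam (r + 1) e)) :=
    hunit.map (Krr.H482.PullLambda.pullRingHom hKX hKY hp)
  have hS : ∑ k ∈ Finset.range (r + 1 + 1), p (LambdaRing.gamma (r + 1 - k) (f - ((r + 1 : ℕ) : KY))) *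
      (1 - m) ^ k = 0 := by
    have h1 : ∀ k, p (LambdaRing.gamma (r + 1 - k) (f - ((r + 1 : ℕ) : KY))) =
        LambdaRing.gamma (r + 1 - k) (p f - ((r + 1 : ℕ) : KX)) := fun k => by
      rw [Krr.H482.PullFinal.pull_gamma hKX hKY hp, map_sub, hnat]
    simp only [h1]
    rw [K879.DualAlg.sum_gamma_mul PX hpf haug (1 - m)]
    refine hunit'.mul_left_cancel ?_
    rw [mul_zero, Finset.mul_sum]
    have h2 : ∀ j ∈ Finset.range (r + 1 + 1), p (LambdaRing.LambdaOps.lam (r + 1) e) *
        (LambdaRing.LambdaOps.lam j (p f) * (1 - m - 1) ^ (r + 1 - j)) =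
        (fun i => (-1 : KX) ^ i * p (LambdaRing.LambdaOps.lam i e) * m ^ i) (r + 1 - j) := by
      intro j hj
      rw [Finset.mem_range] at hj
      have h3 := congrArg p (hlam j (by omega))
      rw [hmul, Krr.H482.PullFinal.pull_lam hKX hKY hp j] at h3
      have h4 : (1 - m - 1 : KX) = -m := by ring
      simp only [h4, neg_pow m]
      rw [← h3]
      ring
    rw [Finset.sum_congr rfl h2]
    have h5 := Finset.sum_range_reflect
      (fun i => (-1 : KX) ^ i * p (LambdaRing.LambdaOps.lam i e) * m ^ i) (r + 1 + 1)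
    have h6 : ∀ j, r + 1 + 1 - 1 - j = r + 1 - j := fun j => by omega
    simp only [h6] at h5
    rw [h5]
    exact K879.ProjB.rel_m hE hP hOm' hOOm hKX hKY hp
  have hfin : ∀ k, LambdaRing.gamma (r + 1 - k) (f - ((r + 1 : ℕ) : KY)) * g ((1 - m) ^ (i + k)) =
      g ((1 - m) ^ i * (p (LambdaRing.gamma (r + 1 - k) (f - ((r + 1 : ℕ) : KY))) * (1 - m) ^ k)) := by
    intro k
    rw [← K879.ProjB.push_pull_mul hE hP hOm' hOOm hKX hKY hp hg, pow_add]
    congr 1
    ring
  rw [Finset.sum_congr rfl fun k _ => hfin k, ← map_sum, ← Finset.mul_sum, hS, mul_zero, map_zero]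

end Groth.Agent.S17239
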