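import Groth.Statements.S17240
import Groth.Agent.S17228
import Groth.Agent.IntSh.K879.ProjB
import Groth.Agent.IntSh.K877.ProjEmb
import Groth.Agent.PerfB.PushFLF
import Groth.Agent.PerfB.StructFlat
import Groth.Agent.FlatA.FibreDim
import Groth.Agent.Fdesc.LocGen
import Groth.Agent.VarietyB.ExactLoc
import Groth.Agent.Ega4B.RpushCompare
import Groth.Agent.S4409
import Groth.Agent.S0028
import Groth.Agent.S5683
import Groth.Agent.Sga67.TensorOps
import Groth.Agent.S17236

set_option autoImplicit false
universe u
open IntSh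

namespace Groth.Agent.S17240

section Helpers

open CategoryTheory CategoryTheory.Limits AlgebraicGeometry TopologicalSpace
open Groth.Agent.Fdesc.LocGen

theorem eq_of_specializes {T : Type*} [TopologicalSpace T] [T0Space T]
    (h : topologicalKrullDim T ≤ 0) {x y : T} (hxy : x ⤳ y) : x = y := by
  by_contra hne
  let A : IrreducibleCloseds T := ⟨closure {y}, isIrreducible_singleton.closure, isClosed_closure⟩
  let B : IrreducibleCloseds T := ⟨closure {x}, isIrreducible_singleton.closure, isClosed_closure⟩
  have hAB : A < B := by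
    refine lt_of_le_of_ne ?_ fun e => hne ?_
    · change closure {y} ⊆ closure {x}
      exact hxy.closure_subset
    · have e' : closure {y} = closure {x} := congrArg (fun Z : IrreducibleCloseds T => (Z : Set T)) e
      exact (inseparable_iff_closure_eq.2 e'.symm).eq
  have h1 := Order.krullDim_nonpos_iff_forall_isMax.1 h A
  exact hAB.not_ge (h1 hAB.le)

theorem mem_support_unit {X : Scheme.{u}} (x : X) : x ∈ CohB1.support (Coh.structureModule X) := by
  intro hsub
  have h1 : (Coh.structureModule X).presheaf.germ ⊤ x (Opens.mem_top _) (one ⊤) = 0 := Subsingleton.elim _ _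
  obtain ⟨V, hVU, hxV, hV⟩ :=
    Groth.Agent.VarietyB.ExactLoc.exists_res_eq_zero (Coh.structureModule X) (Opens.mem_top _) _ h1
  have h2 : one (X := X) V = 0 := by
    rw [← res_one hVU]
    exact hV
  have h5 : (1 : Γ(X, V)) = 0 := by
    apply (isGen_one V).ext
    rw [h2, smul_zero, smul_zero]
  have : Nonempty V := ⟨⟨x, hxV⟩⟩
  exact one_ne_zero h5

theorem support_unit (X : Scheme.{u}) : CohB1.support (Coh.structureModule X) = Set.univ :=
  Set.eq_univ_of_forall mem_support_unit

/-- A proper morphism with fibres of dimension `≤ 0` is finite. -/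
theorem isFinite_of_fibre {X Y : Scheme.{u}} (π : X ⟶ Y) [IsProper π]
    (hd : ∀ y : Y, topologicalKrullDim (↥(π.fiber y) : Type u) ≤ 0) : IsFinite π := by
  have h : LocallyQuasiFinite π := by
    refine locallyQuasiFinite_iff_finite_preimage_singleton.2 fun y => ?_
    have hft : LocallyOfFiniteType (π.fiberToSpecResidueField y) :=
      MorphismProperty.pullback_snd (P := @LocallyOfFiniteType) _ _ inferInstance
    have hn : IsLocallyNoetherian (π.fiber y) :=
      LocallyOfFiniteType.isLocallyNoetherian (π.fiberToSpecResidueField y)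
    have hc : CompactSpace (π.fiber y) :=
      QuasiCompact.compactSpace_of_compactSpace (π.fiberToSpecResidueField y)
    have hN : IsNoetherian (π.fiber y) := {}
    have h1 := Groth.Agent.S17236.finite_maximal (X := π.fiber y) isClosed_univ
    have h2 : (Set.univ : Set (π.fiber y)).Finite := by
      refine h1.subset fun x _ => ⟨trivial, fun ξ _ h => ?_⟩
      exact eq_of_specializes (hd y) h
    have h3 := h2.image (π.fiberι y)
    rw [Set.image_univ, Scheme.Hom.range_fiberι] at h3
    exact h3
  exact IsFinite.of_isProper_of_locallyQuasiFinite π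

theorem isZero_Rpush {X Y : Scheme.{u}} (π : X ⟶ Y) [IsAffineHom π] [HasInjectiveResolutions X.Modules]
    {F : X.Modules} (hF : Coh.IsQCoh F) (p : ℕ) (hp : 0 < p) : IsZero ((Coh.Rpush π p).obj F) := by
  have : Coh.IsQCoh F := hF
  exact (Groth.Agent.Ega4B.RpushCompare.isZero_rpush_iff π F p).2 (Groth.Agent.S0028.result π F p hp)

end Helpers


open CategoryTheory CategoryTheory.Limits AlgebraicGeometry in
/-- Let π : X → Y be a projective flat morphism of Noetherian schemes with X and Y connected, of
relative dimension d = 0 (every fibre has Krull dimension 0, so π is finite flat), take λ-ring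
models of K^•(X) and K^•(Y), the push-forward π_* = π_*^{O_X} on bundle classes and the determinant
det : K^•(Y) → Pic(Y), and let L be an invertible O_X-module with inverse M. Then the intersection
sheaf I_{X/Y}(L) = det π_*(δ(L)), δ(L) = 1 − [M], is the norm of L: in Pic(Y) written additively it
equals det[π_*O_X] − det[π_*M] and also det[π_*L] − det[π_*O_X], the direct images π_*O_X, π_*L,
π_*M being finite locally free. (X is taken connected so that K^•(X) has a λ-ring model; the source
allows any X.) -/
theorem result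
    {X Y : Scheme.{u}} [IsNoetherian X] [IsNoetherian Y] [ConnectedSpace X] [ConnectedSpace Y] (π : X ⟶ Y)
    (hπ : RelProj.IsProjective π) [Flat π] [HasInjectiveResolutions X.Modules]
    (hd : ∀ y : Y, topologicalKrullDim (↥(π.fiber y) : Type u) = 0)
    (KX : Type u) [CommRing KX] [LambdaRing.LambdaOps KX] (PX : LambdaRing.PosStructure KX)
    (φX : SGA6.Kvb X →+ KX) (hKX : KRR.IsModel X KX PX φX)
    (KY : Type u) [CommRing KY] [LambdaRing.LambdaOps KY] (PY : LambdaRing.PosStructure KY)
    (φY : SGA6.Kvb Y →+ KY) (hKY : KRR.IsModel Y KY PY φY)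
    (g : KX →+ KY) (hg : KDet.IsPushF π (Coh.structureModule X) φX φY g)
    [PicGrp.Law Y] (dt : KY →+ Additive (PicLoc.PicSet Y)) (hdt : KDet.IsDet φY dt)
    (L M : X.Modules) (hL : PicF.IsInvertible L) (hM : PicF.IsInvertible M) (hLM : ClSub.IsInverseOf L M) :
    dt (g (1 - φX (KRR.cl X M))) =
        dt (φY (KRR.cl Y ((Coh.push π).obj (Coh.structureModule X)))) - dt (φY (KRR.cl Y ((Coh.push π).obj M))) ∧
      dt (g (1 - φX (KRR.cl X M))) =
        dt (φY (KRR.cl Y ((Coh.push π).obj L))) - dt (φY (KRR.cl Y ((Coh.push π).obj (Coh.structureModule X)))) := by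
  have hproper : IsProper π := Groth.Agent.IntSh.K877.ProjEmb.isProper_of_isProjective π hπ
  have hfin : IsFinite π := isFinite_of_fibre π fun y => (hd y).le
  have hlfp : LocallyOfFinitePresentation π := inferInstance
  have hpush : ∀ {E : X.Modules}, FlatMod.IsFinLocFree E → FlatMod.IsFinLocFree ((Coh.push π).obj E) :=
    fun hE => Groth.Agent.PerfB.PushFLF.isFinLocFree_pushforward π hE
  have hcl : ∀ {E : X.Modules}, FlatMod.IsFinLocFree E →
      g (φX (KRR.cl X E)) = φY (KRR.cl Y ((Coh.push π).obj E)) := by
    intro E hE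
    let e := K879.ProjB.unitIso E
    have hE' : FlatMod.IsFinLocFree (((DCoh.tensorBi (X := X)).obj (Coh.structureModule X)).obj E) :=
      Groth.Agent.Dcoh.FinLocFree.isFinLocFree_of_iso e.symm hE
    have h1 := hg E hE (fun p hp => isZero_Rpush π (Groth.Agent.PerfA.QCohEpi.isQCoh_of_isFinLocFree hE') p hp)
      (hpush hE')
    rw [h1]
    exact congrArg φY (Groth.Agent.Krr.H482.PullLambda.cl_iso ((Coh.push π).mapIso e) (hpush hE'))
  have hO : FlatMod.IsFinLocFree (Coh.structureModule X) := Groth.Agent.Sga67.TensorOps.isFinLocFree_structureModule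
  have hL' := Groth.Agent.S5683.isFinLocFree_of_isInvertible hL
  have hM' := Groth.Agent.S5683.isFinLocFree_of_isInvertible hM
  have hone : g 1 = φY (KRR.cl Y ((Coh.push π).obj (Coh.structureModule X))) := by
    rw [← hKX.map_one]
    exact hcl hO
  refine ⟨by rw [map_sub, map_sub, hone, hcl hM'], ?_⟩
  have hsupp : ∀ y : Y, topologicalKrullDim
      ↥(CohB1.support (Coh.structureModule X) ∩ π.base ⁻¹' {y}) = ((0 : ℕ) : WithBot ℕ∞) := by
    intro y
    rw [support_unit, Set.univ_inter]
    exact (Groth.Agent.FlatA.FibreDim.topologicalKrullDim_fiber_eq π y).symm.trans (hd y)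
  have hq : ∀ {E : X.Modules}, FlatMod.IsFinLocFree E → Epi ((Scheme.Modules.pullbackPushforwardAdjunction π).counit.app E) := by
    intro E hE
    exact ((Groth.Agent.S4409.result π).1 ⟨inferInstance, fun V hV => by
      have : IsAffine (π ⁻¹ᵁ V) := hV.preimage π
      infer_instance⟩).2 E (Groth.Agent.PerfA.QCohEpi.isQCoh_of_isFinLocFree hE)
  obtain ⟨e⟩ := hLM
  have e' : CohB1.tensorMod M L ≅ Coh.structureModule X := Groth.Agent.Ega2.Tens.swap M L ≪≫ e
  have key := Groth.Agent.S17228.result π hπ (Coh.structureModule X)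
    (Groth.Agent.Fdesc.StructMod.isCoh_structureModule X)
    (Groth.Agent.PerfB.StructFlat.isFlatOver_structure π) 0 hsupp (Or.inl inferInstance)
    KX PX φX hKX KY PY φY hKY g hg dt hdt 2 le_rfl ![L, M] ![M, L]
    (fun i => by fin_cases i; exacts [hL, hM]) (fun i => by fin_cases i; exacts [hM, hL])
    (fun i => by fin_cases i; exacts [⟨e⟩, ⟨e'⟩])
    ![(Coh.push π).obj L, (Coh.push π).obj M]
    (fun i => by fin_cases i; exacts [hpush hL', hpush hM'])
    (fun i => match i with
      | 0 => (Scheme.Modules.pullbackPushforwardAdjunction π).counit.app L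
      | 1 => (Scheme.Modules.pullbackPushforwardAdjunction π).counit.app M)
    (fun i => by fin_cases i; exacts [hq hL', hq hM'])
  have hdelta : KDet.delta φX ![M, L] = 1 - φX (KRR.cl X M) + (1 - φX (KRR.cl X L)) := by
    have h1 : φX (KRR.cl X L) * φX (KRR.cl X M) = 1 := K879.ProjB.cl_mul_cl hKX hL' hM' ⟨e⟩
    rw [KDet.delta, Fin.prod_univ_two]
    change (1 - φX (KRR.cl X M)) * (1 - φX (KRR.cl X L)) = _
    linear_combination h1
  rw [hdelta, map_add, map_add, map_sub g 1 (φX (KRR.cl X L)), hone, hcl hL', map_sub dt] at key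
  rw [eq_neg_of_add_eq_zero_left key, neg_sub]

end Groth.Agent.S17240
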