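import Groth.Statements.S17244
import Mathlib
import Groth.Agent.W4c4effdivwronsk2.K924.Hyper
-- import your own Groth.Agent.* helpers here

set_option autoImplicit false
open W4c4effdivwronsk2

namespace Groth.Agent.S17244


open Polynomial in
/-- Let `k` be a field of characteristic zero and take, on the projective line over `k`, the point `∞`
and `m` further distinct points `r_1, …, r_m` of the affine line, with positive integers `b` (at
`∞`) and `a_1, …, a_m`; put `N = b + ∑ a_j`. The sum of the spaces of differentials with a single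
pole, of order at most `b + 1` at `∞`, resp. at most `a_j + 1` at `r_j`, `V = H⁰(ω((b+1)∞)) + ∑_j
H⁰(ω((a_j+1)r_j)) ⊆ H⁰(ω((b+1)∞ + ∑_j (a_j+1)r_j)) ≅ H⁰(O(d))`, `d = b - 1 + ∑ (a_j+1)`, becomes,
after multiplying by `dX⁻¹ ∏_j (X - r_j)^(a_j+1)`, the subspace of `k[X]_{≤ d}` spanned by
`D·k[X]_{<b}` and the `D_i·k[X]_{<a_i}`, where `D = ∏_j (X - r_j)^(a_j+1)` and `D_i` omits the
`i`-th factor; a member `h` vanishes to order `n` at a point `q` of the affine line when `(X - q)^n
∣ h`, and to order `d - deg h` at `∞`. Let `V₁ ⊆ V` be a hyperplane (`dim V₁ = N - 1`) containing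
`D·k[X]_{<b-2}` and every `D_i·k[X]_{<a_i}` (that is, containing `H⁰(ω((b-1)∞)) + ∑_j
H⁰(ω((a_j+1)r_j))`). The weight of `V₁` at a point is `∑_{n=1}^{d} dim V₁(-n·point) - (N-1 choose
2)` (the sum of the vanishing orders minus `0 + 1 + ⋯ + (N-2)`). Then the weight of `V₁` at `r_i` is
`∑_{j≠i} a_j + b - 1 + ε_i` and its weight at `∞` is `∑_j a_j + N - 2 + ε`, with `ε_i, ε ∈ {0, 1}`.
(The published statement is over the complex numbers with the distinguished marked point arbitrary;
it is placed at `∞` here.) -/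
theorem result
    (k : Type*) [Field k] [CharZero k] (m : ℕ) (r : Fin m → k) (hr : Function.Injective r)
    (a : Fin m → ℕ) (ha : ∀ j, 1 ≤ a j) (b : ℕ) (hb : 1 ≤ b) (N d : ℕ)
    (hN : N = (∑ j, a j) + b) (hd : d + 1 = (∑ j, (a j + 1)) + b)
    (V : Submodule k (Polynomial k))
    (hV : V = (Polynomial.degreeLT k b).map (LinearMap.mulLeft k (∏ j, (X - C (r j)) ^ (a j + 1))) ⊔
      ⨆ i, (Polynomial.degreeLT k (a i)).map
        (LinearMap.mulLeft k (∏ j ∈ Finset.univ.erase i, (X - C (r j)) ^ (a j + 1))))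
    (V₁ : Submodule k (Polynomial k)) (hV₁ : V₁ ≤ V) (hfin : Module.finrank k ↥V₁ + 1 = N)
    (hU : (Polynomial.degreeLT k (b - 2)).map (LinearMap.mulLeft k (∏ j, (X - C (r j)) ^ (a j + 1))) ⊔
      (⨆ i, (Polynomial.degreeLT k (a i)).map
        (LinearMap.mulLeft k (∏ j ∈ Finset.univ.erase i, (X - C (r j)) ^ (a j + 1)))) ≤ V₁) :
    (∀ i : Fin m, ∃ ε : ℕ, ε ≤ 1 ∧
      (∑ n ∈ Finset.range d, Module.finrank k ↥(V₁ ⊓ (Ideal.span {(X - C (r i)) ^ (n + 1)}).restrictScalars k)) + 1 =
        (N - 1).choose 2 + (N - a i) + ε) ∧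
    (∃ ε : ℕ, ε ≤ 1 ∧
      (∑ n ∈ Finset.range d, Module.finrank k ↥(V₁ ⊓ Polynomial.degreeLT k (d - n))) =
        (N - 1).choose 2 + (N - b) + (N - 2) + ε) := by
  obtain rfl : V = K924.Wronsk.VV r a b := hV
  have hU' : K924.Wronsk.VV r a (b - 2) ≤ V₁ := hU
  have hN1 : 1 ≤ N := by omega
  have hd' : d + 1 = N + m := by
    rw [hd, Finset.sum_add_distrib, hN]
    simp
    ring
  have := K924.Wronsk.finite_VV r a b
  have : Module.Finite k V₁ := Submodule.finiteDimensional_of_le hV₁
  refine ⟨fun i => ?_, ?_⟩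
  · have hai : a i ≤ ∑ j, a j :=
      Finset.single_le_sum (fun j _ => Nat.zero_le _) (Finset.mem_univ i)
    have hm : 1 ≤ m := by have := i.2; omega
    refine ⟨Module.finrank k ↥(V₁ ⊓ (Ideal.span {(X - C (r i)) ^ (N - 1 + 1)}).restrictScalars k),
      ?_, ?_⟩
    · have h1 := K924.Wronsk.finrank_marked_le hr hN hV₁ i (N - 1 + 1)
      split_ifs at h1 <;> omega
    · refine K924.Wronsk.arith1
        (fun n => Module.finrank k ↥(V₁ ⊓ (Ideal.span {(X - C (r i)) ^ (n + 1)}).restrictScalars k))
        N (a i) d (by omega) (by omega) (fun n hn => ?_) (fun n hn => ?_)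
      · exact K924.Wronsk.finrank_marked_hyper hr hN hV₁ hfin i
          (K924.Wronsk.exists_of_le hr hN hV₁ hfin hN1 hU' (r i)) (n + 1) (by omega)
      · have h1 := K924.Wronsk.finrank_marked_le hr hN hV₁ i (n + 1)
        show Module.finrank k ↥(V₁ ⊓ (Ideal.span {(X - C (r i)) ^ (n + 1)}).restrictScalars k) = 0
        split_ifs at h1 <;> omega
  · rcases Nat.lt_or_ge N 2 with h2 | h2
    · obtain rfl : N = 1 := by omega
      have hm : m = 0 := by
        by_contra hm
        have i : Fin m := ⟨0, by omega⟩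
        have := ha i
        have hai : a i ≤ ∑ j, a j :=
          Finset.single_le_sum (fun j _ => Nat.zero_le _) (Finset.mem_univ i)
        omega
      obtain rfl : d = 0 := by omega
      refine ⟨0, by omega, ?_⟩
      rw [Finset.range_zero, Finset.sum_empty]
      have : ∑ j, a j = 0 := by omega
      simp
      omega
    · obtain ⟨d', rfl⟩ : ∃ d', d = d' + 1 := ⟨d - 1, by omega⟩
      -- the first term
      have hf : Module.finrank k ↥(K924.Wronsk.VV r a b ⊓ degreeLT k (d' + 1)) = N - 1 := by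
        have h1 := K924.Wronsk.finrank_infty r a hr b 1
        rw [← hN, ← hd', Nat.add_sub_cancel, if_pos hb] at h1
        exact h1
      have hg1 : N - 1 ≤ Module.finrank k ↥(V₁ ⊓ degreeLT k (d' + 1)) + 1 := by
        rw [← hf]
        refine K924.Wronsk.finrank_inf_ge (K924.Wronsk.VV r a b) V₁ _ hV₁ ?_
        rw [K924.Wronsk.finrank_VV r a hr]; omega
      have hg2 : Module.finrank k ↥(V₁ ⊓ degreeLT k (d' + 1)) ≤ N - 1 := by
        have := Submodule.finrank_mono (inf_le_left : V₁ ⊓ degreeLT k (d' + 1) ≤ V₁)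
        omega
      have hrest : ∀ n, V₁ ⊓ degreeLT k (d' + 1 - (n + 1)) =
          K924.Wronsk.VV r a b ⊓ degreeLT k (d' + 1 - (n + 1)) := by
        intro n
        refine le_antisymm (inf_le_inf_right _ hV₁) (le_inf ?_ inf_le_right)
        have h1 := K924.Wronsk.inf_infty r a hr b (n + 2)
        rw [← hN, ← hd', show d' + 1 + 1 - (n + 2) = d' + 1 - (n + 1) by omega] at h1
        rw [h1]
        refine le_trans ?_ hU'
        rw [K924.Wronsk.VV_eq r a hr]
        exact Submodule.map_mono (degreeLT_mono (by omega))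
      have hsum := K924.Wronsk.arith2
        (fun n => Module.finrank k ↥(K924.Wronsk.VV r a b ⊓ degreeLT k (d' + 1 - n))) N b (d' + 1)
        (by omega) (by
          rcases Nat.eq_zero_or_pos m with hm | hm
          · right
            refine ⟨by omega, ?_⟩
            subst hm
            rw [hN]; simp
          · left; omega) (fun n => by
          have h1 := K924.Wronsk.finrank_infty r a hr b (n + 1)
          rw [← hN, ← hd', show d' + 1 + 1 - (n + 1) = d' + 1 - n by omega] at h1
          exact h1)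
      rw [Finset.sum_range_succ'] at hsum ⊢
      have hrest' : ∑ n ∈ Finset.range d', Module.finrank k ↥(V₁ ⊓ degreeLT k (d' + 1 - (n + 1))) =
          ∑ n ∈ Finset.range d',
            Module.finrank k ↥(K924.Wronsk.VV r a b ⊓ degreeLT k (d' + 1 - (n + 1))) :=
        Finset.sum_congr rfl fun n _ => by rw [hrest n]
      rw [hrest']
      simp only [Nat.sub_zero] at hsum ⊢
      rw [hf] at hsum
      refine ⟨Module.finrank k ↥(V₁ ⊓ degreeLT k (d' + 1)) + 2 - N, by omega, ?_⟩
      obtain ⟨M, rfl⟩ : ∃ M, N = M + 1 := ⟨N - 1, by omega⟩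
      rw [Nat.choose_succ_succ' (M + 1) 1, Nat.choose_succ_succ' M 1, Nat.choose_one_right,
        Nat.choose_one_right] at hsum
      have e : M.choose (1 + 1) = M.choose 2 := rfl
      rw [e] at hsum
      have e2 : (M + 1 - 1).choose 2 = M.choose 2 := rfl
      rw [e2]
      omega

end Groth.Agent.S17244
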