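import Groth.Statements.S17245
import Mathlib
import Groth.Agent.W4c4effdivwronsk2.K924.Hyper
-- import your own Groth.Agent.* helpers here

set_option autoImplicit false
open W4c4effdivwronsk2

namespace Groth.Agent.S17245


open Polynomial in
/-- Let `k` be a field of characteristic zero and take, on the projective line over `k`, the point `∞`
and `m` further distinct points `r_1, …, r_m` of the affine line, with positive integers `b` (at
`∞`) and `a_1, …, a_m`; put `N = b + ∑ a_j`. The sum of the spaces of differentials with a single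
pole, of order at most `b + 1` at `∞`, resp. at most `a_j + 1` at `r_j`, `V = H⁰(ω((b+1)∞)) + ∑_j
H⁰(ω((a_j+1)r_j)) ⊆ H⁰(ω((b+1)∞ + ∑_j (a_j+1)r_j)) ≅ H⁰(O(d))`, `d = b - 1 + ∑ (a_j+1)`, becomes,
after multiplying by `dX⁻¹ ∏_j (X - r_j)^(a_j+1)`, the subspace of `k[X]_{≤ d}` spanned by
`D·k[X]_{<b}` and the `D_i·k[X]_{<a_i}`, where `D = ∏_j (X - r_j)^(a_j+1)` and `D_i` omits the
`i`-th factor; a member `h` vanishes to order `n` at a point `q` of the affine line when `(X - q)^n
∣ h`, and to order `d - deg h` at `∞`. Let `p` be a further point of the affine line, distinct from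
the `r_j`, and `V₁ = V(-p)` the members divisible by `X - p`, an `(N-1)`-dimensional system in the
line bundle twisted down by `p` (its vanishing orders at points `q ≠ p`, and at `∞`, are read off
exactly as for `V`; at `p` itself they are one less than the order of divisibility by `X - p`). Then
`dim V₁ = N - 1`, the point `p` is not a ramification point of `V₁` (no nonzero member of `V₁` is
divisible by `(X - p)^N`), and `V₁` has at most one ramification point off the marked points, a
simple one: at every `q` other than `p` and the `r_j`, no nonzero member is divisible by `(X - q)^N`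
and at most a line of members is divisible by `(X - q)^(N-2)`, and at most one such `q` has a
nonzero member divisible by `(X - q)^(N-1)`. (The published statement is over the complex numbers
with all points arbitrary; one marked point is placed at `∞` here and `p` is taken distinct from the
marked points.) -/
theorem result
    (k : Type*) [Field k] [CharZero k] (m : ℕ) (r : Fin m → k) (hr : Function.Injective r)
    (a : Fin m → ℕ) (ha : ∀ j, 1 ≤ a j) (b : ℕ) (hb : 1 ≤ b) (N d : ℕ)
    (hN : N = (∑ j, a j) + b) (hd : d + 1 = (∑ j, (a j + 1)) + b)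
    (V : Submodule k (Polynomial k))
    (hV : V = (Polynomial.degreeLT k b).map (LinearMap.mulLeft k (∏ j, (X - C (r j)) ^ (a j + 1))) ⊔
      ⨆ i, (Polynomial.degreeLT k (a i)).map
        (LinearMap.mulLeft k (∏ j ∈ Finset.univ.erase i, (X - C (r j)) ^ (a j + 1))))
    (p : k) (hp : ∀ j, p ≠ r j) (V₁ : Submodule k (Polynomial k))
    (hV₁ : V₁ = V ⊓ (Ideal.span {X - C p}).restrictScalars k) :
    Module.finrank k ↥V₁ + 1 = N ∧
    (V₁ ⊓ (Ideal.span {(X - C p) ^ N}).restrictScalars k) = ⊥ ∧
    (∀ q : k, (∀ j, q ≠ r j) → q ≠ p →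
      (V₁ ⊓ (Ideal.span {(X - C q) ^ N}).restrictScalars k) = ⊥ ∧
      Module.finrank k ↥(V₁ ⊓ (Ideal.span {(X - C q) ^ (N - 2)}).restrictScalars k) ≤ 1) ∧
    (∀ q q' : k, (∀ j, q ≠ r j) → q ≠ p → (∀ j, q' ≠ r j) → q' ≠ p →
      (V₁ ⊓ (Ideal.span {(X - C q) ^ (N - 1)}).restrictScalars k) ≠ ⊥ →
      (V₁ ⊓ (Ideal.span {(X - C q') ^ (N - 1)}).restrictScalars k) ≠ ⊥ → q = q') := by
  obtain rfl : V = K924.Wronsk.VV r a b := hV
  have hN1 : 1 ≤ N := by omega
  have hle : V₁ ≤ K924.Wronsk.VV r a b := by rw [hV₁]; exact inf_le_left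
  have hfin : Module.finrank k ↥V₁ + 1 = N := by
    have h1 := K924.Wronsk.finrank_unmarked r a hr b hp 1
    rw [pow_one, ← hV₁] at h1
    omega
  have hmem : ∀ w : Polynomial k, K924.Wronsk.TT r a w ∈ V₁ →
      (K924.Wronsk.TT r a w).eval p = 0 := by
    intro w hw
    rw [hV₁] at hw
    have h1 := hw.2
    rw [SetLike.mem_coe, Submodule.restrictScalars_mem, Ideal.mem_span_singleton,
      dvd_iff_isRoot] at h1
    exact h1
  refine ⟨hfin, K924.Wronsk.inf_unmarked_eq_bot hr hN hle hp, fun q hq hqp =>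
    ⟨K924.Wronsk.inf_unmarked_eq_bot hr hN hle hq,
      K924.Wronsk.finrank_unmarked_le_one hr hN hle hfin hq fun h2 => ?_⟩,
    fun q q' hq hqp hq' hqp' h h' => ?_⟩
  · refine ⟨(X - C q) ^ (N - 1) * (X - C p), ?_, Dvd.intro _ rfl, fun hcon => ?_⟩
    · rw [mem_degreeLT, degree_mul, degree_pow, degree_X_sub_C, degree_X_sub_C, nsmul_one]
      exact_mod_cast (by omega : N - 1 + 1 < N + 1)
    · have h3 := hmem _ hcon
      rw [K924.Wronsk.TT_mul_X_sub_C_eval] at h3
      rcases mul_eq_zero.mp h3 with h4 | h4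
      · exact K924.Wronsk.RR_eval_ne_zero r hp h4
      · rw [eval_pow, eval_sub, eval_X, eval_C] at h4
        exact hqp (sub_eq_zero.mp (pow_eq_zero_iff (by omega) |>.mp h4)).symm
  · have key : ∀ q : k, q ≠ p → (K924.Wronsk.TT r a ((X - C q) ^ N)).eval p = 0 →
        (N : k) * (K924.Wronsk.RR r).eval p = (K924.Wronsk.GG r a).eval p * (p - q) := by
      intro q hqp h0
      rw [K924.Wronsk.TT_apply, derivative_X_sub_C_pow, eval_sub, eval_mul, eval_mul, eval_mul,
        eval_C, eval_pow, eval_pow, eval_sub, eval_X, eval_C] at h0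
      obtain ⟨M, hM⟩ : ∃ M, N = M + 1 := ⟨N - 1, by omega⟩
      rw [hM, Nat.add_sub_cancel, pow_succ] at h0
      rw [hM]
      have h1 : (p - q) ^ M ≠ 0 := pow_ne_zero _ (sub_ne_zero.mpr (Ne.symm hqp))
      apply mul_left_cancel₀ h1
      linear_combination h0
    have h1 := key q hqp (hmem _ (K924.Wronsk.TT_pow_mem_of_ne_bot hr hN hle hfin hq h))
    have h2 := key q' hqp' (hmem _ (K924.Wronsk.TT_pow_mem_of_ne_bot hr hN hle hfin hq' h'))
    have h3 : (N : k) * (K924.Wronsk.RR r).eval p ≠ 0 :=
      mul_ne_zero (Nat.cast_ne_zero.mpr (by omega)) (K924.Wronsk.RR_eval_ne_zero r hp)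
    have h4 : (K924.Wronsk.GG r a).eval p ≠ 0 := by
      intro h0
      rw [h0, zero_mul] at h1
      exact h3 h1
    have h5 : (p - q) = (p - q') := mul_left_cancel₀ h4 (h1.symm.trans h2)
    linear_combination -h5

end Groth.Agent.S17245
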