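import Groth.Statements.S17246
import Mathlib
import Groth.Agent.W4c4effdivwronsk2.K924.Hyper
-- import your own Groth.Agent.* helpers here

set_option autoImplicit false
open W4c4effdivwronsk2

namespace Groth.Agent.S17246


open Polynomial in
/-- Let `k` be a field of characteristic zero and take, on the projective line over `k`, the point `∞`
and `m` further distinct points `r_1, …, r_m` of the affine line, with positive integers `b` (at
`∞`) and `a_1, …, a_m`; put `N = b + ∑ a_j`. The sum of the spaces of differentials with a single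
pole, of order at most `b + 1` at `∞`, resp. at most `a_j + 1` at `r_j`, `V = H⁰(ω((b+1)∞)) + ∑_j
H⁰(ω((a_j+1)r_j)) ⊆ H⁰(ω((b+1)∞ + ∑_j (a_j+1)r_j)) ≅ H⁰(O(d))`, `d = b - 1 + ∑ (a_j+1)`, becomes,
after multiplying by `dX⁻¹ ∏_j (X - r_j)^(a_j+1)`, the subspace of `k[X]_{≤ d}` spanned by
`D·k[X]_{<b}` and the `D_i·k[X]_{<a_i}`, where `D = ∏_j (X - r_j)^(a_j+1)` and `D_i` omits the
`i`-th factor; a member `h` vanishes to order `n` at a point `q` of the affine line when `(X - q)^n
∣ h`, and to order `d - deg h` at `∞`. Let `p` be a further point of the affine line, distinct from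
the `r_j`, and `V₁ = V(-p)` the members divisible by `X - p` (an `(N-1)`-dimensional system in the
line bundle twisted down by `p`, with vanishing orders at the marked points read off as for `V`).
With the weight of `V₁` at a marked point defined as `∑_{n=1}^{d} dim V₁(-n·point) - (N-1 choose
2)`: the weight at `r_i` is `∑_{j≠i} a_j + b - 1 + ε_i` and the weight at `∞` is `∑_j a_j - 1 + ε`,
with all `ε` in `{0, 1}`. (The published statement is over the complex numbers with all points
arbitrary; one marked point is placed at `∞` here and `p` is taken distinct from the marked points.) -/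
theorem result
    (k : Type*) [Field k] [CharZero k] (m : ℕ) (r : Fin m → k) (hr : Function.Injective r)
    (a : Fin m → ℕ) (ha : ∀ j, 1 ≤ a j) (b : ℕ) (hb : 1 ≤ b) (N d : ℕ)
    (hN : N = (∑ j, a j) + b) (hd : d + 1 = (∑ j, (a j + 1)) + b)
    (V : Submodule k (Polynomial k))
    (hV : V = (Polynomial.degreeLT k b).map (LinearMap.mulLeft k (∏ j, (X - C (r j)) ^ (a j + 1))) ⊔
      ⨆ i, (Polynomial.degreeLT k (a i)).map
        (LinearMap.mulLeft k (∏ j ∈ Finset.univ.erase i, (X - C (r j)) ^ (a j + 1))))
    (p : k) (hp : ∀ j, p ≠ r j) (V₁ : Submodule k (Polynomial k))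
    (hV₁ : V₁ = V ⊓ (Ideal.span {X - C p}).restrictScalars k) :
    (∀ i : Fin m, ∃ ε : ℕ, ε ≤ 1 ∧
      (∑ n ∈ Finset.range d, Module.finrank k ↥(V₁ ⊓ (Ideal.span {(X - C (r i)) ^ (n + 1)}).restrictScalars k)) + 1 =
        (N - 1).choose 2 + (N - a i) + ε) ∧
    (∃ ε : ℕ, ε ≤ 1 ∧
      (∑ n ∈ Finset.range d, Module.finrank k ↥(V₁ ⊓ Polynomial.degreeLT k (d - n))) + 1 =
        (N - 1).choose 2 + (N - b) + ε) := by
  obtain rfl : V = K924.Wronsk.VV r a b := hV
  have hN1 : 1 ≤ N := by omega
  have hle : V₁ ≤ K924.Wronsk.VV r a b := by rw [hV₁]; exact inf_le_left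
  have hfin : Module.finrank k ↥V₁ + 1 = N := by
    have h1 := K924.Wronsk.finrank_unmarked r a hr b hp 1
    rw [pow_one, ← hV₁] at h1
    omega
  have hmem : ∀ w : Polynomial k, K924.Wronsk.TT r a w ∈ V₁ →
      (K924.Wronsk.TT r a w).eval p = 0 := by
    intro w hw
    rw [hV₁] at hw
    have h1 := hw.2
    rw [SetLike.mem_coe, Submodule.restrictScalars_mem, Ideal.mem_span_singleton,
      dvd_iff_isRoot] at h1
    exact h1
  have hd' : d + 1 = N + m := by
    rw [hd, Finset.sum_add_distrib, hN]
    simp
    ring
  have := K924.Wronsk.finite_VV r a b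
  have : Module.Finite k V₁ := Submodule.finiteDimensional_of_le hle
  refine ⟨fun i => ?_, ?_⟩
  · have hai : a i ≤ ∑ j, a j :=
      Finset.single_le_sum (fun j _ => Nat.zero_le _) (Finset.mem_univ i)
    have hm : 1 ≤ m := by have := i.2; omega
    refine ⟨Module.finrank k ↥(V₁ ⊓ (Ideal.span {(X - C (r i)) ^ (N - 1 + 1)}).restrictScalars k),
      ?_, ?_⟩
    · have h1 := K924.Wronsk.finrank_marked_le hr hN hle i (N - 1 + 1)
      split_ifs at h1 <;> omega
    · refine K924.Wronsk.arith1
        (fun n => Module.finrank k ↥(V₁ ⊓ (Ideal.span {(X - C (r i)) ^ (n + 1)}).restrictScalars k))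
        N (a i) d (by omega) (by omega) (fun n hn => ?_) (fun n hn => ?_)
      · refine K924.Wronsk.finrank_marked_hyper hr hN hle hfin i ?_ (n + 1) (by omega)
        refine ⟨(X - C (r i)) ^ (N - 1) * (X - C p), ?_, Dvd.intro _ rfl, fun hcon => ?_⟩
        · rw [mem_degreeLT, degree_mul, degree_pow, degree_X_sub_C, degree_X_sub_C, nsmul_one]
          exact_mod_cast (by omega : N - 1 + 1 < N + 1)
        · have h3 := hmem _ hcon
          rw [K924.Wronsk.TT_mul_X_sub_C_eval] at h3
          rcases mul_eq_zero.mp h3 with h4 | h4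
          · exact K924.Wronsk.RR_eval_ne_zero r hp h4
          · rw [eval_pow, eval_sub, eval_X, eval_C] at h4
            exact hp i (sub_eq_zero.mp (pow_eq_zero_iff (by omega) |>.mp h4))
      · have h1 := K924.Wronsk.finrank_marked_le hr hN hle i (n + 1)
        show Module.finrank k ↥(V₁ ⊓ (Ideal.span {(X - C (r i)) ^ (n + 1)}).restrictScalars k) = 0
        split_ifs at h1 <;> omega
  · -- dimensions at infinity
    have hf : ∀ n, n < d → Module.finrank k ↥(K924.Wronsk.VV r a b ⊓ degreeLT k (d - n)) =
        if n + 1 ≤ b then N - (n + 1) else N + 1 - (n + 1) := by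
      intro n hn
      have h1 := K924.Wronsk.finrank_infty r a hr b (n + 1)
      rw [← hN, ← hd', show d + 1 - (n + 1) = d - n by omega] at h1
      exact h1
    have hg : ∀ n, n < d → n < N - 1 → Module.finrank k ↥(V₁ ⊓ degreeLT k (d - n)) + 1 =
        if n + 1 ≤ b then N - (n + 1) else N + 1 - (n + 1) := by
      intro n hn hnN
      rw [← hf n hn]
      refine K924.Wronsk.finrank_inf_add_one (K924.Wronsk.VV r a b) V₁ _ hle
        (by rw [K924.Wronsk.finrank_VV r a hr]; omega) (v := K924.Wronsk.TT r a (X - C p))
        (K924.Wronsk.TT_mem_VV r a hr b ?_) ?_ ?_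
      · rw [mem_degreeLT, degree_X_sub_C]
        exact_mod_cast (by omega : 1 < (∑ j, a j) + b + 1)
      · have h1 := K924.Wronsk.TT_mem_degreeLT r a (s := 1) (w := X - C p) (by
          rw [mem_degreeLT, degree_X_sub_C]
          exact_mod_cast (by omega : 1 < 2))
        exact degreeLT_mono (by omega) h1
      · intro hcon
        have h3 := hmem _ hcon
        rw [← one_mul (X - C p), K924.Wronsk.TT_mul_X_sub_C_eval, eval_one, mul_one] at h3
        exact K924.Wronsk.RR_eval_ne_zero r hp h3
    have hgle : ∀ n, n < d → Module.finrank k ↥(V₁ ⊓ degreeLT k (d - n)) ≤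
        if n + 1 ≤ b then N - (n + 1) else N + 1 - (n + 1) := by
      intro n hn
      rw [← hf n hn]
      have : Module.Finite k ↥(K924.Wronsk.VV r a b ⊓ degreeLT k (d - n)) :=
        Submodule.finiteDimensional_of_le inf_le_left
      exact Submodule.finrank_mono (inf_le_inf_right _ hle)
    rcases Nat.eq_zero_or_pos m with hm | hm
    · -- no finite marked points
      subst hm
      have hbN : b = N := by rw [hN]; simp
      refine ⟨1, le_rfl, ?_⟩
      have hsum : ∑ n ∈ Finset.range d, Module.finrank k ↥(V₁ ⊓ degreeLT k (d - n)) =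
          ∑ n ∈ Finset.range (N - 1), (N - 1 - 1 - n) := by
        rw [show N - 1 = d by omega]
        refine Finset.sum_congr rfl fun n hn => ?_
        rw [Finset.mem_range] at hn
        have := hg n hn (by omega)
        rw [if_pos (by omega)] at this
        omega
      rw [hsum, K924.Wronsk.sum_rev, hbN, Nat.sub_self]
    · have hdN : N ≤ d := by omega
      have hbN : b + 1 ≤ N := by
        have hai : a ⟨0, hm⟩ ≤ ∑ j, a j :=
          Finset.single_le_sum (fun j _ => Nat.zero_le _) (Finset.mem_univ _)
        have := ha ⟨0, hm⟩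
        omega
      refine ⟨Module.finrank k ↥(V₁ ⊓ degreeLT k (d - (N - 1))), ?_, ?_⟩
      · have h1 := hgle (N - 1) (by omega)
        split_ifs at h1 <;> omega
      · have h1 := K924.Wronsk.arith1
          (fun n => if n < d then Module.finrank k ↥(V₁ ⊓ degreeLT k (d - n)) else 0)
          N b d hbN hdN (fun n hn => ?_) (fun n hn => ?_)
        · simp only [if_pos (show N - 1 < d by omega)] at h1
          rw [← h1]
          congr 1
          refine Finset.sum_congr rfl fun n hn => ?_
          rw [if_pos (Finset.mem_range.mp hn)]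
        · show (if n < d then _ else 0) + 1 = _
          rw [if_pos (by omega)]
          exact hg n (by omega) hn
        · show (if n < d then _ else 0) = 0
          split_ifs with hnd
          · have h1 := hgle n hnd
            split_ifs at h1 <;> omega
          · rfl

end Groth.Agent.S17246
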