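import Groth.Statements.S17247
import Groth.Agent.FunFld.K670.Gen2

set_option autoImplicit false
set_option linter.style.haveILetI false
set_option linter.unusedVariables false
open FunFld

namespace Groth.Agent.S17247

/-- Let `K/k` be a function field of one variable of genus one over an algebraically closed field `k` of
characteristic zero (an elliptic curve `E`), `A` a place, and `g ≥ 3` an odd integer. Inside
`H⁰(O_E((2g-2)A)) = L((2g-2)A)` consider `V = L(gA)` (dimension `g`) and any hyperplane `V₁` of it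
containing `L((g-2)A)`: `L((g-2)A) ⊆ V₁ ⊆ L(gA)`, `dim V₁ = g - 1`. Vanishing orders are those of
sections of `O_E((2g-2)A)`: a member `f` vanishes to order at least `n` at a place `Q` when `f ∈
L((2g-2)A - nQ)`, and the weight of `V₁` at `Q` is `∑_{n=1}^{2g-2} dim (V₁ ∩ L((2g-2)A - nQ)) - (g-1
choose 2)` (the sum of the `g - 1` vanishing orders minus `0 + 1 + ⋯ + (g-2)`). Then the weight of
`V₁` at every place `Q ≠ A` is at most `2`. (The published statement is for a smooth elliptic curve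
over the complex numbers and allows every odd positive `g`; for `g = 1` the inclusion `O(gA) ⊆
O((2g-2)A)` it uses fails, so `g ≥ 3` here.) -/
theorem result
    (k K : Type*) [Field k] [IsAlgClosed k] [CharZero k] [Field K] [Algebra k K]
    (hK : FunFld.IsFunctionField k K) (hg1 : FunFld.genus k K = 1)
    (g : ℕ) (hodd : Odd g) (h3 : 3 ≤ g) (A : FunFld.Place k K)
    (V₁ : Submodule k K) (hlo : FunFld.L (Finsupp.single A ((g : ℤ) - 2)) ≤ V₁)
    (hhi : V₁ ≤ FunFld.L (Finsupp.single A (g : ℤ))) (hdim : Module.finrank k ↥V₁ + 1 = g)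
    (Q : FunFld.Place k K) (hQ : Q ≠ A) :
    (∑ n ∈ Finset.range (2 * g - 2), Module.finrank k
        ↥(V₁ ⊓ FunFld.L (Finsupp.single A (2 * (g : ℤ) - 2) - Finsupp.single Q ((n : ℤ) + 1)))) ≤
      (g - 1).choose 2 + 2 := by
  classical
  haveI hfinV : FiniteDimensional k ↥V₁ := K670.Van.finiteDimensional_of_le_L hK hhi
  obtain ⟨h, rfl⟩ : ∃ h, g = h + 3 := ⟨g - 3, by omega⟩
  have hell : ∀ D : FunFld.Divisor k K, 1 ≤ D.deg → (Module.finrank k ↥(FunFld.L D) : ℤ) = D.deg := by
    intro D hD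
    have h := K670.Base.ell_eq_of_deg_ge hK D (by rw [hg1]; push_cast; linarith)
    unfold FunFld.ell at h
    rw [hg1] at h
    push_cast at h
    linarith
  -- the vanishing spaces
  set d : ℤ → ℕ := fun n => Module.finrank k ↥(V₁ ⊓ FunFld.L
    (Finsupp.single A (((h + 3 : ℕ) : ℤ)) - Finsupp.single Q n)) with hd
  have hsame : ∀ n : ℤ, 0 ≤ n → V₁ ⊓ FunFld.L (Finsupp.single A (2 * ((h + 3 : ℕ) : ℤ) - 2) -
      Finsupp.single Q n) = V₁ ⊓ FunFld.L (Finsupp.single A (((h + 3 : ℕ) : ℤ)) - Finsupp.single Q n) := by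
    intro n hn
    have e : V₁ = V₁ ⊓ FunFld.L (Finsupp.single A (((h + 3 : ℕ) : ℤ))) := (inf_eq_left.mpr hhi).symm
    conv_lhs => rw [e]
    rw [inf_assoc, K670.Gen.L_inf_L]
    congr 2
    ext R
    simp only [Finsupp.inf_apply, Finsupp.sub_apply, Finsupp.single_apply]
    by_cases h1 : A = R
    · subst h1
      rw [if_pos rfl, if_pos rfl, if_neg hQ]
      push_cast
      rw [min_eq_left] <;> linarith
    · rw [if_neg h1, if_neg h1]
      split_ifs <;> simp [hn]
  have hsum : (∑ n ∈ Finset.range (2 * (h + 3) - 2), Module.finrank k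
        ↥(V₁ ⊓ FunFld.L (Finsupp.single A (2 * ((h + 3 : ℕ) : ℤ) - 2) - Finsupp.single Q ((n : ℤ) + 1)))) =
      ∑ n ∈ Finset.range (2 * (h + 3) - 2), d ((n : ℤ) + 1) := by
    refine Finset.sum_congr rfl fun n _ => ?_
    rw [hsame _ (by positivity)]
  -- general bound through `L((g-2)A)`
  set e : ℕ := Module.finrank k ↥(FunFld.L (Finsupp.single A (((h : ℤ) + 1)) -
    Finsupp.single Q (((h : ℤ) + 1)) : FunFld.Divisor k K)) with he
  set e' : ℕ := Module.finrank k ↥(FunFld.L (Finsupp.single A (((h + 3 : ℕ) : ℤ)) -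
    Finsupp.single Q ((h + 3 : ℕ) : ℤ) : FunFld.Divisor k K)) with he'
  have hlo' : FunFld.L (Finsupp.single A ((h : ℤ) + 1)) ≤ V₁ := by
    have : ((h + 3 : ℕ) : ℤ) - 2 = (h : ℤ) + 1 := by push_cast; ring
    rwa [this] at hlo
  have hB := hell (Finsupp.single A ((h : ℤ) + 1)) (by rw [K670.Gen.deg_single' hK]; linarith)
  rw [K670.Gen.deg_single' hK] at hB
  have hgen : ∀ n : ℤ, 0 ≤ n → d n + (h + 1) ≤ (h + 2) + Module.finrank k ↥(FunFld.L
      (Finsupp.single A ((h : ℤ) + 1) - Finsupp.single Q n : FunFld.Divisor k K)) := by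
    intro n hn
    have h1 := K670.Gen.finrank_add_le_inf (A := V₁ ⊓ FunFld.L (Finsupp.single A (((h + 3 : ℕ) : ℤ)) -
      Finsupp.single Q n)) (B := FunFld.L (Finsupp.single A ((h : ℤ) + 1))) (V := V₁) inf_le_left hlo'
    have h2 : (V₁ ⊓ FunFld.L (Finsupp.single A (((h + 3 : ℕ) : ℤ)) - Finsupp.single Q n)) ⊓
        FunFld.L (Finsupp.single A ((h : ℤ) + 1)) = FunFld.L (Finsupp.single A ((h : ℤ) + 1) -
          Finsupp.single Q n : FunFld.Divisor k K) := by
      rw [inf_assoc, K670.Gen.L_inf_L]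
      have e1 : (Finsupp.single A (((h + 3 : ℕ) : ℤ)) - Finsupp.single Q n : FunFld.Divisor k K) ⊓
          Finsupp.single A ((h : ℤ) + 1) = Finsupp.single A ((h : ℤ) + 1) - Finsupp.single Q n := by
        ext R
        simp only [Finsupp.inf_apply, Finsupp.sub_apply, Finsupp.single_apply]
        by_cases h1 : A = R
        · subst h1
          rw [if_pos rfl, if_pos rfl, if_neg hQ]
          push_cast
          rw [min_eq_right] <;> linarith
        · rw [if_neg h1, if_neg h1]
          split_ifs <;> simp [hn]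
      rw [e1]
      refine inf_eq_right.mpr ((K670.Gen.L_mono ?_).trans hlo')
      have := K670.Van.sub_single_le (D := Finsupp.single A ((h : ℤ) + 1)) (P := Q) hn
      simpa using this
    rw [h2] at h1
    have h3 : Module.finrank k ↥(FunFld.L (Finsupp.single A ((h : ℤ) + 1) : FunFld.Divisor k K)) = h + 1 := by
      exact_mod_cast hB
    rw [h3] at h1
    simp only [hd]
    omega
  have b1 : ∀ n : ℕ, n < h → d ((n : ℤ) + 1) ≤ h + 1 - n := by
    intro n hn
    have h1 := hgen ((n : ℤ) + 1) (by positivity)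
    have h2 := hell (Finsupp.single A ((h : ℤ) + 1) - Finsupp.single Q ((n : ℤ) + 1))
      (by rw [K670.Gen.deg_sub_single hK, K670.Gen.deg_single' hK]; omega)
    rw [K670.Gen.deg_sub_single hK, K670.Gen.deg_single' hK] at h2
    omega
  have b2 : d ((h : ℤ) + 1) ≤ 1 + e := by
    have h1 := hgen ((h : ℤ) + 1) (by positivity)
    rw [← he] at h1
    omega
  have b3 : d (((h + 1 : ℕ) : ℤ) + 1) ≤ 1 := by
    have h2 := hell (Finsupp.single A (((h + 3 : ℕ) : ℤ)) - Finsupp.single Q (((h + 1 : ℕ) : ℤ) + 1))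
      (by rw [K670.Gen.deg_sub_single hK, K670.Gen.deg_single' hK]; push_cast; linarith)
    rw [K670.Gen.deg_sub_single hK, K670.Gen.deg_single' hK] at h2
    haveI := K670.Base.finiteDimensional_L hK (Finsupp.single A (((h + 3 : ℕ) : ℤ)) -
      Finsupp.single Q (((h + 1 : ℕ) : ℤ) + 1))
    have h3 : d (((h + 1 : ℕ) : ℤ) + 1) ≤ Module.finrank k ↥(FunFld.L
      (Finsupp.single A (((h + 3 : ℕ) : ℤ)) - Finsupp.single Q (((h + 1 : ℕ) : ℤ) + 1) :
        FunFld.Divisor k K)) := Submodule.finrank_mono inf_le_right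
    push_cast at h2 h3 ⊢
    omega
  have b4 : d (((h + 2 : ℕ) : ℤ) + 1) ≤ e' := by
    have e1 : ((h + 2 : ℕ) : ℤ) + 1 = ((h + 3 : ℕ) : ℤ) := by push_cast; ring
    rw [e1]
    haveI := K670.Base.finiteDimensional_L hK (Finsupp.single A (((h + 3 : ℕ) : ℤ)) -
      Finsupp.single Q ((h + 3 : ℕ) : ℤ))
    exact Submodule.finrank_mono inf_le_right
  have b5 : ∀ n : ℤ, (h : ℤ) + 3 < n → d n = 0 := by
    intro n hn
    exact K670.Van.van_eq_zero hK V₁ (by rw [K670.Gen.deg_single' hK]; push_cast; linarith)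
  -- `e + e' ≤ 1`
  have hdeg0 : ∀ n : ℤ, FunFld.Divisor.deg (Finsupp.single A n - Finsupp.single Q n :
      FunFld.Divisor k K) = 0 := by
    intro n
    rw [K670.Gen.deg_sub_single hK, K670.Gen.deg_single' hK, sub_self]
  have hle1 : ∀ n : ℤ, Module.finrank k ↥(FunFld.L (Finsupp.single A n - Finsupp.single Q n :
      FunFld.Divisor k K)) ≤ 1 := by
    intro n
    have h1 := K670.Gen.finrank_inf_L_le hK ⊤ (E := Finsupp.single A n - Finsupp.single Q n)
      (E' := Finsupp.single A n - Finsupp.single Q (n + 1)) (K670.Van.sub_single_le (by linarith))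
    rw [top_inf_eq, top_inf_eq, hdeg0, K670.Base.L_eq_bot_of_deg_neg hK
      (Finsupp.single A n - Finsupp.single Q (n + 1))
      (by rw [K670.Gen.deg_sub_single hK, K670.Gen.deg_single' hK]; linarith), finrank_bot,
      K670.Gen.deg_sub_single hK, K670.Gen.deg_single' hK] at h1
    push_cast at h1
    omega
  have hee : e + e' ≤ 1 := by
    by_contra hcon
    have h1 : 1 ≤ e := by have := hle1 ((h + 3 : ℕ) : ℤ); omega
    have h2 : 1 ≤ e' := by have := hle1 ((h : ℤ) + 1); omega
    obtain ⟨x, hx0, hx⟩ := K670.Gen.exists_div_eq_neg_of_finrank_pos hK (hdeg0 _) h1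
    obtain ⟨y, hy0, hy⟩ := K670.Gen.exists_div_eq_neg_of_finrank_pos hK (hdeg0 _) h2
    obtain ⟨m, hm⟩ := hodd
    have hyx : y / x ≠ 0 := div_ne_zero hy0 hx0
    refine hQ (K670.Base.eq_of_single_sub_single_eq_div hK (by rw [hg1]; norm_num) Q A
      (K670.Gen.place_deg hK Q) (K670.Gen.place_deg hK A) (y / (y / x) ^ (m : ℤ))
      (div_ne_zero hy0 (zpow_ne_zero _ hyx)) ?_)
    rw [K670.Gen.div_div hK hy0 (zpow_ne_zero _ hyx), K670.Gen.div_zpow hK hyx,
      K670.Gen.div_div hK hy0 hx0, hx, hy]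
    have hm' : (h : ℤ) + 3 = 2 * m + 1 := by exact_mod_cast hm
    ext R
    simp only [Finsupp.sub_apply, Finsupp.add_apply, Finsupp.single_apply, Finsupp.neg_apply,
      Finsupp.smul_apply, smul_eq_mul]
    push_cast
    rw [hm']
    have hm'' : (h : ℤ) + 1 = 2 * m - 1 := by linarith
    rw [hm'']
    split_ifs <;> ring
  rw [hsum]
  have e1 : 2 * (h + 3) - 2 = h + (1 + (1 + (1 + (h + 1)))) := by omega
  rw [e1, Finset.sum_range_add _ h _, Finset.sum_range_add _ 1 _, Finset.sum_range_add _ 1 _,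
    Finset.sum_range_add _ 1 _]
  have hch : ∀ m : ℕ, ∑ x ∈ Finset.range m, (m + 1 - x) + 1 = (m + 2).choose 2 := by
    intro m
    induction m with
    | zero => simp
    | succ m ih =>
      rw [Finset.sum_range_succ', Nat.choose_succ_succ' (m + 2) 1, Nat.choose_one_right, ← ih]
      have : ∑ x ∈ Finset.range m, (m + 1 + 1 - (x + 1)) = ∑ x ∈ Finset.range m, (m + 1 - x) := by
        refine Finset.sum_congr rfl fun x _ => ?_
        omega
      rw [this]
      omega
  have s1 : ∑ x ∈ Finset.range h, d ((x : ℤ) + 1) ≤ ∑ x ∈ Finset.range h, (h + 1 - x) :=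
    Finset.sum_le_sum fun n hn => b1 n (Finset.mem_range.mp hn)
  have s2 : ∑ x ∈ Finset.range 1, d (((h + x : ℕ) : ℤ) + 1) ≤ 1 + e := by
    rw [Finset.sum_range_one]; simpa using b2
  have s3 : ∑ x ∈ Finset.range 1, d (((h + (1 + x) : ℕ) : ℤ) + 1) ≤ 1 := by
    rw [Finset.sum_range_one]; simpa using b3
  have s4 : ∑ x ∈ Finset.range 1, d (((h + (1 + (1 + x)) : ℕ) : ℤ) + 1) ≤ e' := by
    rw [Finset.sum_range_one]; exact b4
  have s5 : ∑ x ∈ Finset.range (h + 1), d (((h + (1 + (1 + (1 + x))) : ℕ) : ℤ) + 1) = 0 := by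
    refine Finset.sum_eq_zero fun x _ => b5 _ ?_
    push_cast; linarith
  have h0 := hch h
  have e2 : h + 3 - 1 = h + 2 := by omega
  rw [s5, e2]
  omega

end Groth.Agent.S17247
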