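import Groth.Statements.S17248
import Groth.Agent.FunFld.K670.Gen2

set_option autoImplicit false
set_option linter.style.haveILetI false
set_option linter.unusedVariables false
open FunFld

namespace Groth.Agent.S17248

/-- Let `K/k` be a function field of one variable of genus one over an algebraically closed field `k` of
characteristic zero (an elliptic curve `E`), `A` a place, and `g ≥ 3` an integer. Inside
`H⁰(O_E((2g-2)A)) = L((2g-2)A)` consider `V = L(gA)` (dimension `g`) and any hyperplane `V₁` of it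
containing `L((g-2)A)`: `L((g-2)A) ⊆ V₁ ⊆ L(gA)`, `dim V₁ = g - 1`. Vanishing orders are those of
sections of `O_E((2g-2)A)`: a member `f` vanishes to order at least `n` at a place `Q` when `f ∈
L((2g-2)A - nQ)`, and the weight of `V₁` at `Q` is `∑_{n=1}^{2g-2} dim (V₁ ∩ L((2g-2)A - nQ)) - (g-1
choose 2)` (the sum of the `g - 1` vanishing orders minus `0 + 1 + ⋯ + (g-2)`). Then the weight of
`V₁` at `A` is `(g-1)² + ε` with `ε ∈ {0, 1}`. (The published statement is for a smooth elliptic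
curve over the complex numbers and `g` odd positive; `g ≥ 3` here since the ambient inclusion needs
it; this row does not assume `g` odd.) -/
theorem result
    (k K : Type*) [Field k] [IsAlgClosed k] [CharZero k] [Field K] [Algebra k K]
    (hK : FunFld.IsFunctionField k K) (hg1 : FunFld.genus k K = 1)
    (g : ℕ) (h3 : 3 ≤ g) (A : FunFld.Place k K)
    (V₁ : Submodule k K) (hlo : FunFld.L (Finsupp.single A ((g : ℤ) - 2)) ≤ V₁)
    (hhi : V₁ ≤ FunFld.L (Finsupp.single A (g : ℤ))) (hdim : Module.finrank k ↥V₁ + 1 = g) :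
    ∃ ε : ℕ, ε ≤ 1 ∧
      (∑ n ∈ Finset.range (2 * g - 2), Module.finrank k
        ↥(V₁ ⊓ FunFld.L (Finsupp.single A (2 * (g : ℤ) - 2) - Finsupp.single A ((n : ℤ) + 1)))) =
      (g - 1).choose 2 + (g - 1) ^ 2 + ε := by
  classical
  haveI hfinV : FiniteDimensional k ↥V₁ := K670.Van.finiteDimensional_of_le_L hK hhi
  -- the function `c j = dim (V₁ ∩ L(jA))`
  set c : ℤ → ℕ := fun j => Module.finrank k ↥(V₁ ⊓ FunFld.L (Finsupp.single A j)) with hc
  have hell : ∀ j : ℤ, 1 ≤ j → (Module.finrank k ↥(FunFld.L (Finsupp.single A j : FunFld.Divisor k K)) : ℤ) = j := by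
    intro j hj
    have h := K670.Base.ell_eq_of_deg_ge hK (Finsupp.single A j)
      (by rw [hg1, K670.Gen.deg_single' hK]; push_cast; linarith)
    unfold FunFld.ell at h
    rw [hg1, K670.Gen.deg_single' hK] at h
    push_cast at h
    linarith
  have hmono : ∀ i j : ℤ, i ≤ j → FunFld.L (Finsupp.single A i : FunFld.Divisor k K) ≤
      FunFld.L (Finsupp.single A j) := fun i j h =>
    K670.Gen.L_mono (Finsupp.single_le_single.mpr h)
  -- small `j`
  have hlow : ∀ j : ℤ, 1 ≤ j → j ≤ (g : ℤ) - 2 → (c j : ℤ) = j := by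
    intro j hj1 hj2
    have : V₁ ⊓ FunFld.L (Finsupp.single A j) = FunFld.L (Finsupp.single A j) :=
      inf_eq_right.mpr ((hmono _ _ hj2).trans hlo)
    simp only [hc]
    rw [this]; exact hell j hj1
  have hzero : c 0 = 1 := by
    have h1 : V₁ ⊓ FunFld.L (Finsupp.single A (0 : ℤ)) = FunFld.L (Finsupp.single A (0 : ℤ)) :=
      inf_eq_right.mpr ((hmono _ _ (by omega)).trans hlo)
    simp only [hc]
    rw [h1, Finsupp.single_zero]
    exact K670.Gen.finrank_L_zero hK
  have hhigh : ∀ j : ℤ, (g : ℤ) ≤ j → c j = g - 1 := by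
    intro j hj
    have : V₁ ⊓ FunFld.L (Finsupp.single A j) = V₁ := inf_eq_left.mpr (hhi.trans (hmono _ _ hj))
    simp only [hc]
    rw [this]; omega
  -- the middle value
  have hmid1 : g - 2 ≤ c ((g : ℤ) - 1) := by
    have h1 : V₁ ⊓ FunFld.L (Finsupp.single A ((g : ℤ) - 2)) ≤ V₁ ⊓ FunFld.L (Finsupp.single A ((g : ℤ) - 1)) :=
      inf_le_inf_left _ (hmono _ _ (by linarith))
    haveI := K670.Gen.finiteDimensional_inf hK V₁ (Finsupp.single A ((g : ℤ) - 1))
    have h2 := Submodule.finrank_mono h1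
    have h3 := hlow ((g : ℤ) - 2) (by omega) le_rfl
    simp only [hc] at h3 ⊢
    omega
  have hmid2 : c ((g : ℤ) - 1) ≤ g - 1 := by
    have h2 : Module.finrank k ↥(V₁ ⊓ FunFld.L (Finsupp.single A ((g : ℤ) - 1))) ≤ Module.finrank k ↥V₁ :=
      Submodule.finrank_mono inf_le_left
    simp only [hc]
    omega
  refine ⟨c ((g : ℤ) - 1) - (g - 2), by omega, ?_⟩
  -- rewrite the sum
  have hsum : (∑ n ∈ Finset.range (2 * g - 2), Module.finrank k
        ↥(V₁ ⊓ FunFld.L (Finsupp.single A (2 * (g : ℤ) - 2) - Finsupp.single A ((n : ℤ) + 1)))) =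
      ∑ j ∈ Finset.range (2 * g - 2), c (j : ℤ) := by
    rw [← Finset.sum_range_reflect (fun j : ℕ => c (j : ℤ))]
    refine Finset.sum_congr rfl fun n hn => ?_
    have hn' := Finset.mem_range.mp hn
    simp only [hc]
    rw [← Finsupp.single_sub]
    have e : 2 * (g : ℤ) - 2 - ((n : ℤ) + 1) = ((2 * g - 2 - 1 - n : ℕ) : ℤ) := by omega
    rw [e]
  rw [hsum]
  obtain ⟨h, rfl⟩ : ∃ h, g = h + 3 := ⟨g - 3, by omega⟩
  have e1 : 2 * (h + 3) - 2 = (h + 2) + (1 + (h + 1)) := by omega
  rw [e1, Finset.sum_range_add _ (h + 2) (1 + (h + 1)), Finset.sum_range_add _ 1 (h + 1)]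
  have s1 : ∑ j ∈ Finset.range (h + 2), c (j : ℤ) = 1 + (h + 2).choose 2 := by
    rw [Finset.sum_range_succ']
    have : ∀ n ∈ Finset.range (h + 1), c ((n + 1 : ℕ) : ℤ) = n + 1 := by
      intro n hn
      have hn' := Finset.mem_range.mp hn
      have := hlow ((n + 1 : ℕ) : ℤ) (by push_cast; omega) (by push_cast; omega)
      exact_mod_cast this
    rw [Finset.sum_congr rfl this]
    have e0 : c ((0 : ℕ) : ℤ) = 1 := hzero
    have hch : ∀ m : ℕ, ∑ x ∈ Finset.range (m + 1), (x + 1) = (m + 2).choose 2 := by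
      intro m
      induction m with
      | zero => simp
      | succ m ih =>
        rw [Finset.sum_range_succ, ih, Nat.choose_succ_succ' (m + 2) 1, Nat.choose_one_right]
        ring
    rw [e0, hch, add_comm]
  have s2 : ∑ x ∈ Finset.range 1, c ((h + 2 + x : ℕ) : ℤ) = c (((h + 3 : ℕ) : ℤ) - 1) := by
    rw [Finset.sum_range_one]
    congr 1
    push_cast; ring
  have s3 : ∑ x ∈ Finset.range (h + 1), c ((h + 2 + (1 + x) : ℕ) : ℤ) = (h + 1) * (h + 2) := by
    have : ∀ n ∈ Finset.range (h + 1), c ((h + 2 + (1 + n) : ℕ) : ℤ) = h + 2 := by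
      intro n hn
      have := hhigh ((h + 2 + (1 + n) : ℕ) : ℤ) (by push_cast; omega)
      rw [this]; rfl
    rw [Finset.sum_congr rfl this, Finset.sum_const, Finset.card_range, smul_eq_mul]
  rw [s1, s2, s3]
  have e2 : h + 3 - 1 = h + 2 := by omega
  have e3 : h + 3 - 2 = h + 1 := by omega
  rw [e2] at *
  rw [e3] at *
  have e4 : (h + 2) ^ 2 = (h + 1) * (h + 2) + (h + 2) := by ring
  omega

end Groth.Agent.S17248
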