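import Groth.Statements.S17249
import Groth.Agent.FunFld.K670.Gen2

set_option autoImplicit false
set_option linter.style.haveILetI false
set_option linter.unusedVariables false
open FunFld

namespace Groth.Agent.S17249

/-- Let `K/k` be a function field of one variable of genus two over an algebraically closed field `k` of
characteristic zero (a smooth curve `X` of genus `2`), `C` a canonical divisor, `A` a place with
`ℓ(2A) = 1` (not a Weierstrass point), and `P`, `Q` places with `Q ≠ A`. Then `ℓ(C + 2A - P - 3Q) =
1` and `ℓ(C + 2A - P - Q) = 2` do not both hold: the two-dimensional complete system `H⁰(ω_X(2A -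
P))` (of degree `3`) has no point `Q ≠ A` of weight three. (The published statement concerns a
general pointed curve `(X, A)` of genus two over the complex numbers and a point `P` of `X`; this
row assumes only `ℓ(2A) = 1`.) -/
theorem result
    (k K : Type*) [Field k] [IsAlgClosed k] [CharZero k] [Field K] [Algebra k K]
    (hK : FunFld.IsFunctionField k K) (hg : FunFld.genus k K = 2)
    (C : FunFld.Divisor k K) (hC : FunFld.IsCanonical k K C)
    (A P Q : FunFld.Place k K) (hA : Module.finrank k ↥(FunFld.L (Finsupp.single A (2 : ℤ))) = 1) (hQ : Q ≠ A) :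
    ¬ (Module.finrank k ↥(FunFld.L (C + Finsupp.single A (2 : ℤ) - Finsupp.single P (1 : ℤ) - Finsupp.single Q (3 : ℤ))) = 1 ∧
       Module.finrank k ↥(FunFld.L (C + Finsupp.single A (2 : ℤ) - Finsupp.single P (1 : ℤ) - Finsupp.single Q (1 : ℤ))) = 2) := by
  rintro ⟨-, h2⟩
  classical
  set E : FunFld.Divisor k K := C + Finsupp.single A (2 : ℤ) - Finsupp.single P (1 : ℤ) -
    Finsupp.single Q (1 : ℤ) with hE
  have hCdeg := ((K670.Base.isCanonical_iff hK C).mp hC).2
  rw [hg] at hCdeg
  have hEdeg : E.deg = 2 := by
    rw [hE, K670.Gen.deg_sub_single hK, K670.Gen.deg_sub_single hK, K670.Gen.deg_add,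
      K670.Gen.deg_single' hK, hCdeg]; norm_num
  obtain ⟨x, hx0, hx⟩ := K670.Gen.genus_two_equiv hK hg hC hEdeg h2.ge
  -- `x ∈ L(2A) = k`
  have h3 := K670.Gen.eq_of_effective_equiv hK (D := Finsupp.single A (2 : ℤ))
    (E := Finsupp.single P (1 : ℤ) + Finsupp.single Q (1 : ℤ)) ?_ ?_ hA.le hx0
    (by rw [hx, hE]; abel)
  · have h4 := DFunLike.congr_fun h3 Q
    rw [Finsupp.add_apply, Finsupp.single_eq_same, Finsupp.single_apply, Finsupp.single_apply,
      if_neg (Ne.symm hQ)] at h4
    split_ifs at h4 <;> norm_num at h4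
  · rw [Finsupp.le_def]; intro R
    rw [Finsupp.zero_apply, Finsupp.single_apply]; split_ifs <;> norm_num
  · rw [Finsupp.le_def]; intro R
    rw [Finsupp.zero_apply, Finsupp.add_apply, Finsupp.single_apply, Finsupp.single_apply]
    split_ifs <;> norm_num

end Groth.Agent.S17249
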