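import Groth.Statements.S17250
import Groth.Agent.FunFld.K670.Gen2

set_option autoImplicit false
set_option linter.style.haveILetI false
set_option linter.unusedVariables false
open FunFld

namespace Groth.Agent.S17250

/-- Let `K/k` be a function field of one variable of genus two over an algebraically closed field `k` of
characteristic zero (a smooth curve `X` of genus `2`), `C` a canonical divisor, `A` a place with
`ℓ(2A) = 1`, and `P`, `Q` places different from `A`. Then `ℓ(C + 3A - P - 4Q) = 1` and `ℓ(C + 3A - P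
- 2Q) = 2` do not both hold (the three-dimensional complete system `H⁰(ω_X(3A - P))`, of degree `4`,
has no point `Q ≠ A` with two independent sections vanishing to order at least `2` there and one
vanishing to order at least `4`). (The published statement concerns a general pointed curve `(X, A)`
of genus two over the complex numbers and a point `P ≠ A`; this row assumes `ℓ(2A) = 1` in place of
generality.) -/
theorem result
    (k K : Type*) [Field k] [IsAlgClosed k] [CharZero k] [Field K] [Algebra k K]
    (hK : FunFld.IsFunctionField k K) (hg : FunFld.genus k K = 2)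
    (C : FunFld.Divisor k K) (hC : FunFld.IsCanonical k K C)
    (A P Q : FunFld.Place k K) (hA : Module.finrank k ↥(FunFld.L (Finsupp.single A (2 : ℤ))) = 1) (hP : P ≠ A) (hQ : Q ≠ A) :
    ¬ (Module.finrank k ↥(FunFld.L (C + Finsupp.single A (3 : ℤ) - Finsupp.single P (1 : ℤ) - Finsupp.single Q (4 : ℤ))) = 1 ∧
       Module.finrank k ↥(FunFld.L (C + Finsupp.single A (3 : ℤ) - Finsupp.single P (1 : ℤ) - Finsupp.single Q (2 : ℤ))) = 2) := by
  rintro ⟨h1, h2⟩
  classical
  have hCdeg := ((K670.Base.isCanonical_iff hK C).mp hC).2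
  have hCell := ((K670.Base.isCanonical_iff hK C).mp hC).1
  rw [hg] at hCdeg hCell
  have hEdeg : FunFld.Divisor.deg (C + Finsupp.single A (3 : ℤ) - Finsupp.single P (1 : ℤ) -
      Finsupp.single Q (2 : ℤ)) = 2 := by
    rw [K670.Gen.deg_sub_single hK, K670.Gen.deg_sub_single hK, K670.Gen.deg_add,
      K670.Gen.deg_single' hK, hCdeg]; norm_num
  obtain ⟨x, hx0, hx⟩ := K670.Gen.genus_two_equiv hK hg hC hEdeg h2.ge
  have hFdeg : FunFld.Divisor.deg (C + Finsupp.single A (3 : ℤ) - Finsupp.single P (1 : ℤ) -
      Finsupp.single Q (4 : ℤ)) = 0 := by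
    rw [K670.Gen.deg_sub_single hK, K670.Gen.deg_sub_single hK, K670.Gen.deg_add,
      K670.Gen.deg_single' hK, hCdeg]; norm_num
  obtain ⟨y, hy0, hy⟩ := K670.Gen.exists_div_eq_neg_of_finrank_pos hK hFdeg h1.ge
  -- `3A - P ~ C`
  have h3 : (Finsupp.single A (3 : ℤ) : FunFld.Divisor k K) - Finsupp.single P 1 =
      C + FunFld.div k (x * (x * y)) := by
    rw [K670.Gen.div_mul hK hx0 (mul_ne_zero hx0 hy0), K670.Gen.div_mul hK hx0 hy0, hx, hy]
    classical
    ext R
    simp only [Finsupp.sub_apply, Finsupp.add_apply, Finsupp.single_apply, Finsupp.neg_apply]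
    split_ifs <;> ring
  have h4 := K670.Gen.finrank_L_of_equiv hK (mul_ne_zero hx0 (mul_ne_zero hx0 hy0)) h3
  have h5 := K670.Base.ell_eq_of_deg_ge hK (Finsupp.single A (3 : ℤ))
    (by rw [hg, K670.Gen.deg_single' hK]; norm_num)
  rw [hg, K670.Gen.deg_single' hK] at h5
  have h6 := K670.Gen.finrank_L_sub_single_lt hK (D := Finsupp.single A (3 : ℤ)) (B := P)
    (by
      rw [Finsupp.le_def]; intro R
      rw [Finsupp.zero_apply, Finsupp.single_apply]; split_ifs <;> norm_num)
    (by rw [Finsupp.single_apply, if_neg (Ne.symm hP)])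
  unfold FunFld.ell at h5 hCell
  rw [h4, hCell] at h6
  push_cast at h5
  omega

end Groth.Agent.S17250
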