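import Groth.Statements.S17251
import Groth.Agent.FunFld.K670.Gen2

set_option autoImplicit false
set_option linter.style.haveILetI false
set_option linter.unusedVariables false
open FunFld

namespace Groth.Agent.S17251

/-- Let `K/k` be a function field of one variable of genus two over an algebraically closed field `k` of
characteristic zero (a smooth curve `Y` of genus `2`), `C` a canonical divisor, `B` a place with
`ℓ(2B) = 1` (not a Weierstrass point) and `Q ≠ B` a place. Then `ℓ(C + B - 2Q) = 1` and `ℓ(C + 3B -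
4Q) = 1` do not both hold: the complete systems `H⁰(ω_Y(B))` (dimension `2`, degree `3`) and
`H⁰(ω_Y(3B))` (dimension `4`, degree `5`) have no ramification point in common on `Y` minus `B`.
(The published statement concerns a general pointed curve `(Y, B)` of genus two over the complex
numbers; this row assumes only `ℓ(2B) = 1`.) -/
theorem result
    (k K : Type*) [Field k] [IsAlgClosed k] [CharZero k] [Field K] [Algebra k K]
    (hK : FunFld.IsFunctionField k K) (hg : FunFld.genus k K = 2)
    (C : FunFld.Divisor k K) (hC : FunFld.IsCanonical k K C)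
    (B Q : FunFld.Place k K) (hB : Module.finrank k ↥(FunFld.L (Finsupp.single B (2 : ℤ))) = 1) (hQ : Q ≠ B) :
    ¬ (Module.finrank k ↥(FunFld.L (C + Finsupp.single B (1 : ℤ) - Finsupp.single Q (2 : ℤ))) = 1 ∧
       Module.finrank k ↥(FunFld.L (C + Finsupp.single B (3 : ℤ) - Finsupp.single Q (4 : ℤ))) = 1) := by
  rintro ⟨h1, h2⟩
  classical
  have hCdeg := ((K670.Base.isCanonical_iff hK C).mp hC).2
  have hCell := ((K670.Base.isCanonical_iff hK C).mp hC).1
  rw [hg] at hCdeg hCell
  -- effective double points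
  have heff : ∀ R : FunFld.Place k K, (0 : FunFld.Divisor k K) ≤ Finsupp.single R (2 : ℤ) := by
    intro R
    rw [Finsupp.le_def]; intro R'
    rw [Finsupp.zero_apply, Finsupp.single_apply]; split_ifs <;> norm_num
  -- a point `R ≠ B` with `ℓ(2R - B) ≥ 1` satisfies `2R ~ C`
  have key : ∀ R : FunFld.Place k K, R ≠ B →
      1 ≤ Module.finrank k ↥(FunFld.L (Finsupp.single R (2 : ℤ) - Finsupp.single B (1 : ℤ))) →
      ∃ z : K, z ≠ 0 ∧ FunFld.div k z = Finsupp.single R (2 : ℤ) - C := by
    intro R hR h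
    have h3 := K670.Gen.finrank_L_sub_single_lt hK (heff R) (B := B)
      (by rw [Finsupp.single_apply, if_neg hR])
    exact K670.Gen.genus_two_equiv hK hg hC (by rw [K670.Gen.deg_single' hK]) (by omega)
  -- `ℓ(2Q - B) = 1`
  have e1 := K670.Base.riemann_roch hK C hC (C + Finsupp.single B (1 : ℤ) - Finsupp.single Q (2 : ℤ))
  unfold FunFld.ell at e1
  rw [h1, K670.Gen.deg_sub_single hK, K670.Gen.deg_add, K670.Gen.deg_single' hK, hCdeg, hg] at e1
  have e1' : C - (C + Finsupp.single B (1 : ℤ) - Finsupp.single Q (2 : ℤ)) =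
      Finsupp.single Q (2 : ℤ) - Finsupp.single B (1 : ℤ) := by abel
  rw [e1'] at e1
  obtain ⟨z, hz0, hz⟩ := key Q hQ (by push_cast at e1; omega)
  -- `ℓ(4Q - 3B) = 1`
  have e2 := K670.Base.riemann_roch hK C hC (C + Finsupp.single B (3 : ℤ) - Finsupp.single Q (4 : ℤ))
  unfold FunFld.ell at e2
  rw [h2, K670.Gen.deg_sub_single hK, K670.Gen.deg_add, K670.Gen.deg_single' hK, hCdeg, hg] at e2
  have e2' : C - (C + Finsupp.single B (3 : ℤ) - Finsupp.single Q (4 : ℤ)) =
      Finsupp.single Q (4 : ℤ) - Finsupp.single B (3 : ℤ) := by abel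
  rw [e2'] at e2
  -- the conjugate `R` of `B`
  have e3 := K670.Gen.finrank_inf_L_le hK ⊤ (E := C) (E' := C - Finsupp.single B (1 : ℤ))
    (by
      have h := K670.Van.sub_single_le (D := C) (P := B) (n := 0) (m := 1) (by norm_num)
      simpa using h)
  rw [top_inf_eq, top_inf_eq, K670.Gen.deg_sub_single hK] at e3
  unfold FunFld.ell at hCell
  rw [hCell] at e3
  have hne : FunFld.L (C - Finsupp.single B (1 : ℤ)) ≠ ⊥ := by
    intro h0
    rw [h0, finrank_bot] at e3
    push_cast at e3
    linarith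
  obtain ⟨w, hw, hw0⟩ := Submodule.exists_mem_ne_zero_of_ne_bot hne
  obtain ⟨R, hR⟩ := K670.Gen.eq_single_of_nonneg_of_deg_one hK
    ((K670.Gen.mem_L_iff_div hK hw0).mp hw)
    (by rw [K670.Gen.deg_add, K670.Base.deg_div hK, K670.Gen.deg_sub_single hK, hCdeg]; norm_num)
  have hdw : FunFld.div k w = Finsupp.single R 1 + Finsupp.single B 1 - C := by
    rw [← hR]; abel
  have hRB : R ≠ B := by
    rintro rfl
    have h3 : (Finsupp.single R (2 : ℤ) : FunFld.Divisor k K) = C + FunFld.div k w := by
      rw [hdw]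
      ext R'
      simp only [Finsupp.sub_apply, Finsupp.add_apply, Finsupp.single_apply]
      split_ifs <;> ring
    have h4 := K670.Gen.finrank_L_of_equiv hK hw0 h3
    rw [hB, hCell] at h4
    norm_num at h4
  -- `4Q - 3B ~ 2R - B`
  have h5 : (Finsupp.single Q (4 : ℤ) - Finsupp.single B (3 : ℤ) : FunFld.Divisor k K) =
      (Finsupp.single R (2 : ℤ) - Finsupp.single B (1 : ℤ)) + FunFld.div k ((z / w) * (z / w)) := by
    have hzw : z / w ≠ 0 := div_ne_zero hz0 hw0
    rw [K670.Gen.div_mul hK hzw hzw, K670.Gen.div_div hK hz0 hw0, hz, hdw]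
    ext R'
    simp only [Finsupp.sub_apply, Finsupp.add_apply, Finsupp.single_apply]
    split_ifs <;> ring
  have h6 := K670.Gen.finrank_L_of_equiv hK
    (mul_ne_zero (div_ne_zero hz0 hw0) (div_ne_zero hz0 hw0)) h5
  obtain ⟨u, hu0, hu⟩ := key R hRB (by push_cast at e2; omega)
  refine hRB (K670.Base.eq_of_single_sub_single_eq_div hK (by rw [hg]; norm_num) R B
    (K670.Gen.place_deg hK R) (K670.Gen.place_deg hK B) (u / w) (div_ne_zero hu0 hw0) ?_)
  rw [K670.Gen.div_div hK hu0 hw0, hu, hdw]
  ext R'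
  simp only [Finsupp.sub_apply, Finsupp.add_apply, Finsupp.single_apply]
  split_ifs <;> ring

end Groth.Agent.S17251
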