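import Groth.Statements.S17254
import Groth.Agent.PicF.K248.CubeGC

set_option autoImplicit false
universe u
open CategoryTheory CategoryTheory.Limits MonoidalCategory CartesianMonoidalCategory AlgebraicGeometry
open PicF

namespace Groth.Agent.S17254

open Groth.Agent.Grpsch Groth.Agent.Grpsch.CubeData

section Aux

variable {k : Type u} [Field k] {X Y Z : Over (Spec (CommRingCat.of k))}

lemma over_isPullback (A B : Over (Spec (CommRingCat.of k))) :
    IsPullback (fst A B).left (snd A B).left A.hom B.hom :=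
  IsPullback.of_hasPullback A.hom B.hom

/-- The situation of the theorem of the cube over `Z`. -/
noncomputable def data (x₀ : 𝟙_ (Over (Spec (CommRingCat.of k))) ⟶ X)
    (y₀ : 𝟙_ (Over (Spec (CommRingCat.of k))) ⟶ Y) : Data Z.left where
  X := (X ⊗ Z).left
  Y := (Y ⊗ Z).left
  P := (X ⊗ Y ⊗ Z).left
  q₁ := (lift (fst X (Y ⊗ Z)) (snd X (Y ⊗ Z) ≫ snd Y Z)).left
  q₂ := (snd X (Y ⊗ Z)).left
  pX := (snd X Z).left
  pY := (snd Y Z).left
  H := by
    refine IsPullback.of_right (h₁₂ := (fst X Z).left) (h₂₂ := Z.hom) (v₁₃ := X.hom) ?_ ?_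
      (over_isPullback X Z)
    · rw [← Over.comp_left, lift_fst, Over.w]
      exact over_isPullback X (Y ⊗ Z)
    · rw [← Over.comp_left, ← Over.comp_left, lift_snd]
  x := (lift (toUnit Z ≫ x₀) (𝟙 Z)).left
  y := (lift (toUnit Z ≫ y₀) (𝟙 Z)).left
  hx := by rw [← Over.comp_left, lift_snd]; rfl
  hy := by rw [← Over.comp_left, lift_snd]; rfl
  s := (lift (toUnit (Y ⊗ Z) ≫ x₀) (𝟙 (Y ⊗ Z))).left
  s' := (lift (fst X Z) (lift (toUnit (X ⊗ Z) ≫ y₀) (snd X Z))).left
  hs₁ := by
    rw [← Over.comp_left, ← Over.comp_left]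
    congr 1
    apply CartesianMonoidalCategory.hom_ext <;> simp
  hs₂ := by rw [← Over.comp_left, lift_snd]; rfl
  hs'₁ := by
    rw [← Over.comp_left]
    have : lift (fst X Z) (lift (toUnit (X ⊗ Z) ≫ y₀) (snd X Z)) ≫
        lift (fst X (Y ⊗ Z)) (snd X (Y ⊗ Z) ≫ snd Y Z) = 𝟙 _ := by
      apply CartesianMonoidalCategory.hom_ext <;> simp
    rw [this]
    rfl
  hs'₂ := by
    rw [← Over.comp_left, ← Over.comp_left]
    congr 1
    apply CartesianMonoidalCategory.hom_ext <;> simp

/-- A rational point gives triviality after base change. -/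
lemma triv_point (x₀ : 𝟙_ (Over (Spec (CommRingCat.of k))) ⟶ X)
    (y₀ : 𝟙_ (Over (Spec (CommRingCat.of k))) ⟶ Y) (z₀ : 𝟙_ (Over (Spec (CommRingCat.of k))) ⟶ Z)
    (L : (X ⊗ Y ⊗ Z).left.Modules)
    (hz : Triv ((Scheme.Modules.pullback
      (lift (fst X Y) (lift (snd X Y) (toUnit (X ⊗ Y) ≫ z₀))).left).obj L)) :
    Triv ((Scheme.Modules.pullback (pullback.fst (data (Z := Z) x₀ y₀).p z₀.left)).obj L) := by
  let F : Over (Spec (CommRingCat.of k)) :=
    Over.mk (pullback.fst (data (Z := Z) x₀ y₀).p z₀.left ≫ (X ⊗ Y ⊗ Z).hom)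
  let f : F ⟶ X ⊗ Y ⊗ Z := Over.homMk (pullback.fst (data (Z := Z) x₀ y₀).p z₀.left) rfl
  have hp : (data (Z := Z) x₀ y₀).p = (snd X (Y ⊗ Z) ≫ snd Y Z).left := by
    rw [← Data.q₂_pY, Over.comp_left]
    rfl
  let g : F ⟶ 𝟙_ (Over (Spec (CommRingCat.of k))) :=
    Over.homMk (pullback.snd (data (Z := Z) x₀ y₀).p z₀.left) (by
      have h1 := pullback.condition (f := (data (Z := Z) x₀ y₀).p) (g := z₀.left)
      have h2 := Over.w z₀
      have h3 := Over.w (snd X (Y ⊗ Z) ≫ snd Y Z)
      rw [← hp] at h3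
      change _ = pullback.fst (data (Z := Z) x₀ y₀).p z₀.left ≫ (X ⊗ Y ⊗ Z).hom
      rw [← h2, ← h3, ← Category.assoc]
      exact (congr($(h1.symm) ≫ Z.hom)).trans (Category.assoc _ _ _))
  have hfg : f ≫ snd X (Y ⊗ Z) ≫ snd Y Z = g ≫ z₀ := by
    ext1
    rw [Over.comp_left, ← hp]
    exact pullback.condition
  have hfac : f = lift (f ≫ fst X (Y ⊗ Z)) (f ≫ snd X (Y ⊗ Z) ≫ fst Y Z) ≫
      lift (fst X Y) (lift (snd X Y) (toUnit (X ⊗ Y) ≫ z₀)) := by
    apply CartesianMonoidalCategory.hom_ext
    · simp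
    · apply CartesianMonoidalCategory.hom_ext
      · simp
      · simp only [Category.assoc, lift_snd]
        rw [hfg, ← Category.assoc]
        congr 1
        exact toUnit_unique _ _
  have h1 := hz.pullback (lift (f ≫ fst X (Y ⊗ Z)) (f ≫ snd X (Y ⊗ Z) ≫ fst Y Z)).left
  rw [← triv_comp, ← Over.comp_left, ← hfac] at h1
  exact h1

end Aux

/-- Let k be a field and X, Y, Z schemes over k with k-rational points x₀, y₀, z₀; assume X is proper
and geometrically integral over k, Y is proper, geometrically reduced and geometrically connected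
over k, and Z is of finite type and geometrically integral over k. Let L be an invertible module on
X ×_k Y ×_k Z whose pullbacks to the slices {x₀} × Y × Z, X × {y₀} × Z and X × Y × {z₀} are all
trivial. Then L is trivial: isomorphic to the structure sheaf. -/
theorem result (k : Type u) [Field k]
    (X Y Z : Over (Spec (CommRingCat.of k)))
    [IsProper X.hom] [GeometricallyIntegral X.hom]
    [IsProper Y.hom] [GeometricallyReduced Y.hom] [GeometricallyConnected Y.hom]
    [LocallyOfFiniteType Z.hom] [QuasiCompact Z.hom] [GeometricallyIntegral Z.hom]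
    (x₀ : 𝟙_ (Over (Spec (CommRingCat.of k))) ⟶ X) (y₀ : 𝟙_ (Over (Spec (CommRingCat.of k))) ⟶ Y)
    (z₀ : 𝟙_ (Over (Spec (CommRingCat.of k))) ⟶ Z)
    (L : (X ⊗ Y ⊗ Z).left.Modules) (hL : PicF.IsInvertible L)
    (hx : Nonempty ((Scheme.Modules.pullback (lift (toUnit (Y ⊗ Z) ≫ x₀) (𝟙 (Y ⊗ Z))).left).obj L ≅ Coh.structureModule (Y ⊗ Z).left))
    (hy : Nonempty ((Scheme.Modules.pullback (lift (fst X Z) (lift (toUnit (X ⊗ Z) ≫ y₀) (snd X Z))).left).obj L ≅ Coh.structureModule (X ⊗ Z).left))
    (hz : Nonempty ((Scheme.Modules.pullback (lift (fst X Y) (lift (snd X Y) (toUnit (X ⊗ Y) ≫ z₀))).left).obj L ≅ Coh.structureModule (X ⊗ Y).left)) :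
    Nonempty (L ≅ Coh.structureModule (X ⊗ Y ⊗ Z).left) := by
  have hX : Flat X.hom := inferInstance
  have hY : Flat Y.hom := inferInstance
  have hX' : LocallyOfFinitePresentation X.hom := inferInstance
  have hY' : LocallyOfFinitePresentation Y.hom := inferInstance
  have hZi : IsIntegral Z.left := GeometricallyIntegral.isIntegral_of_subsingleton Z.hom
  have hZn : IsLocallyNoetherian Z.left := LocallyOfFiniteType.isLocallyNoetherian Z.hom
  have hW : K248.CubeGC.WGood (data (Z := Z) x₀ y₀) :=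
    { flatX := MorphismProperty.of_isPullback (over_isPullback X Z) hX
      properX := MorphismProperty.of_isPullback (over_isPullback X Z) inferInstance
      lfpX := MorphismProperty.of_isPullback (over_isPullback X Z) inferInstance
      giX := MorphismProperty.of_isPullback (over_isPullback X Z) inferInstance
      flatY := MorphismProperty.of_isPullback (over_isPullback Y Z) hY
      properY := MorphismProperty.of_isPullback (over_isPullback Y Z) inferInstance
      lfpY := MorphismProperty.of_isPullback (over_isPullback Y Z) inferInstance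
      grY := MorphismProperty.of_isPullback (over_isPullback Y Z) inferInstance
      gcY := MorphismProperty.of_isPullback (over_isPullback Y Z) inferInstance }
  have hred : IsReduced (data (Z := Z) x₀ y₀).Y :=
    inferInstanceAs (IsReduced (pullback Y.hom Z.hom))
  have hne : Nonempty (𝟙_ (Over (Spec (CommRingCat.of k)))).left :=
    inferInstanceAs (Nonempty (Spec (CommRingCat.of k)))
  exact hW.triv L hL hx hy z₀.left (triv_point x₀ y₀ z₀ L hz)

end Groth.Agent.S17254
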