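import Groth.Statements.S17255
import Groth.Agent.AbVar.K523.AvField

set_option autoImplicit false
universe u
open CategoryTheory CategoryTheory.Limits MonoidalCategory CartesianMonoidalCategory MonObj GrpObj AlgebraicGeometry
open AbVar

namespace Groth.Agent.S17255

/-- Let k be a field, A and B abelian varieties over k (smooth proper k-group schemes with geometrically
connected fibres) with dim A = dim B (Krull dimensions of the underlying spaces), and f : A → B a
homomorphism. Then flatness of f is equivalent to finiteness of f. -/
theorem result (k : Type u) [Field k]
    (A B : Over (Spec (CommRingCat.of k)))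
    [GrpObj A] [Smooth A.hom] [IsProper A.hom] [GeometricallyConnected A.hom]
    [GrpObj B] [Smooth B.hom] [IsProper B.hom] [GeometricallyConnected B.hom]
    (f : A ⟶ B) [IsMonHom f] (hdim : topologicalKrullDim A.left = topologicalKrullDim B.left) :
    Flat f.left ↔ IsFinite f.left := by
  have hA := K523.AvField.geometricallyIntegral_of_smooth_geometricallyConnected A
  have hB := K523.AvField.geometricallyIntegral_of_smooth_geometricallyConnected B
  have hint : IsIntegral B.left := GeometricallyIntegral.isIntegral_of_subsingleton B.hom
  have hln : IsLocallyNoetherian B.left :=
    LocallyOfFiniteType.isLocallyNoetherian (Y := Spec (CommRingCat.of k)) B.hom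
  have hp : IsProper f.left := by
    have h1 : IsProper (f.left ≫ B.hom) := by rw [Over.w]; infer_instance
    exact IsProper.of_comp f.left B.hom
  constructor
  · intro hfl
    have hlfp : LocallyOfFinitePresentation f.left := by
      have h1 := K523.DimHom.locallyOfFiniteType_left f
      infer_instance
    have ho : IsOpenMap f.left := f.left.isOpenMap
    have hc : IsClosedMap f.left := f.left.isClosedMap
    have hs : Surjective f.left := by
      have h1 : IsClopen (Set.range f.left) := ⟨hc.isClosed_range, ho.isOpen_range⟩
      have h2 : (Set.range f.left).Nonempty := ⟨f.left (η[A].left (IsLocalRing.closedPoint k)), _, rfl⟩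
      exact ⟨Set.range_eq_univ.mp (h1.eq_univ h2)⟩
    exact K523.DimHom.isFinite_of_surjective f hdim
  · intro hfin
    have hs := K523.DimHom.surjective_of_isFinite f hdim
    exact Grpsch.MulFinFlat.flat_of_surjective k f

end Groth.Agent.S17255
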