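import Groth.Statements.S17257
import Groth.Agent.CurvSt.K45.Rat0

set_option autoImplicit false
universe u
open CurvSt

namespace Groth.Agent.S17257

open CategoryTheory AlgebraicGeometry in
/-- Let k be an algebraically closed field of characteristic zero and consider the category over schemes
over Spec k whose objects over T are the families C → T with C an algebraic space over k and C → T
flat, proper, of finite presentation and of relative dimension at most one, every geometric fibre of
which, realised as a scheme over an algebraically closed field, is proper, connected, of dimension
one, with at-worst-nodal singularities and with vanishing first cohomology of the structure sheaf,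
morphisms being cartesian squares. Then the diagonal of this category is representable by algebraic
spaces which are separated and locally of finite type over the test scheme; equivalently, for two
such families C and D over one scheme T the sheaf of T-isomorphisms from C to D is an algebraic
space which is separated and locally of finite type over T; and the category has an object over
every algebraically closed field over k. (The published statement is over the complex numbers; it is
stated here over any algebraically closed field of characteristic zero.) -/
theorem result (k : Type u) [Field k] [IsAlgClosed k] [CharZero k] :
    AlgSt.RepByAlgSpWith (AlgSp.IsSeparatedMor ⊓ AlgSp.LocP @LocallyOfFiniteType)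
        (FibCat.diag (FibCat.toSelf (AlgSt.fullSub (CurvSt.Curves (Spec (CommRingCat.of k)) 0) (fun A => CurvSt.SpIsPrestablePtd A.obj 0)))) ∧
      ∀ (Ω : Type u) [Field Ω] [IsAlgClosed Ω] (t : Spec (CommRingCat.of Ω) ⟶ Spec (CommRingCat.of k)),
        Nonempty ((AlgSt.fullSub (CurvSt.Curves (Spec (CommRingCat.of k)) 0) (fun A => CurvSt.SpIsPrestablePtd A.obj 0)).p.Fiber (Over.mk t)) := by
  exact ⟨K45.Rat0.diag _ 0 0, fun _ _ _ t => K45.Rat0.exists_fiber 0 t⟩

end Groth.Agent.S17257
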