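import Groth.Statements.S17261
import Groth.Agent.CurvSt.K45.Rat0

set_option autoImplicit false
universe u
open CurvSt

namespace Groth.Agent.S17261

open CategoryTheory AlgebraicGeometry in
/-- Let k be an algebraically closed field of characteristic zero and let C → T be an object of the
stack of rational nodal curves over a k-scheme T (C an algebraic space over k; C → T flat, proper,
of finite presentation, of relative dimension at most one; every geometric fibre, realised as a
scheme, proper, connected, of dimension one, at-worst-nodal, with vanishing first cohomology of the
structure sheaf). Then for every point t of T there exist an affine scheme T' with an etale morphism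
e : T' → T whose image contains t, a scheme C' with a morphism f' : C' → T' together with a
cartesian square over e exhibiting C' as the pullback of C, and an invertible module on C' which is
ample relative to f'. In words: every such family is, etale locally on the base, a projective scheme
over the base. (The published statement is over the complex numbers.) -/
theorem result (k : Type u) [Field k] [IsAlgClosed k] [CharZero k]
    (A : (AlgSt.fullSub (CurvSt.Curves (Spec (CommRingCat.of k)) 0) (fun A => CurvSt.SpIsPrestablePtd A.obj 0)).obj) (t : ↥A.obj.obj.base.left) :
    ∃ (T' : Scheme.{u}) (e : T' ⟶ A.obj.obj.base.left), IsAffine T' ∧ Etale e ∧ t ∈ Set.range e.base ∧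
      ∃ (C' : Scheme.{u}) (f' : C' ⟶ T')
        (φ : (CurvSt.toSpFam (Spec (CommRingCat.of k)) 0).obj ⟨Over.mk (e ≫ A.obj.obj.base.hom), C', f', Fin.elim0, fun i => Fin.elim0 i⟩ ⟶ A.obj.obj),
        φ.base.left = e ∧ ∃ L : C'.Modules, PicF.IsInvertible L ∧ RelAmple.IsRelAmple f' L := by
  exact K45.Rat0.exists_projective A.obj.obj A.obj.property t

end Groth.Agent.S17261
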