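import Groth.Statements.S17262
import Groth.Agent.Curves.K417.NodalDeg
import Groth.Agent.Curves.K417.InvVan
import Groth.Agent.CurvesC.DualNodal

set_option autoImplicit false
universe u
open CategoryTheory CategoryTheory.Limits AlgebraicGeometry
attribute [local instance] HasDerivedCategory.standard
open Curves

namespace Groth.Agent.S17262

/-- Let Ω be an algebraically closed field of characteristic zero and C a scheme proper over Ω which is
connected, of dimension one, at-worst-nodal, with vanishing first cohomology of the structure sheaf,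
and with at most three nodes. Let ω be the dualizing module of C over Ω (via the upper-shriek
functor, whose existence is assumed) and ω' an O_C-module with ω' ⊗ ω ≅ O_C. Then ω ⊗ ω has no
nonzero global sections, the first cohomology of ω' vanishes, and the global sections of ω' form a
three-dimensional Ω-vector space. (The source states that for a family of such curves with at most
three nodes in each fibre the direct image of the inverse of the relative dualizing sheaf is locally
free of rank three and commutes with base change; this row is the statement on each geometric fibre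
from which that follows. The published statement is over the complex numbers; it is stated here over
any algebraically closed field of characteristic zero.) -/
theorem result (Ω : Type u) [Field Ω] [IsAlgClosed Ω] [CharZero Ω]
    (C : Scheme.{u}) [C.Over (Spec (CommRingCat.of Ω))] [IsProper (C ↘ Spec (CommRingCat.of Ω))] [ConnectedSpace ↥C]
    (hdim : topologicalKrullDim ↥C = 1) (hnod : Curv2.AtWorstNodal Ω C) (hg : Curv2.genus Ω C = 0)
    (h3 : {x : ↥C | Curv2.IsNode Ω C x}.encard ≤ 3)
    [DCoh.HasRpush (C ↘ Spec (CommRingCat.of Ω))] (h : DCoh.RpushPreservesQCoh (C ↘ Spec (CommRingCat.of Ω))) [DCoh.HasShriek (C ↘ Spec (CommRingCat.of Ω)) h]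
    (OY : DCoh.DQCoh (Spec (CommRingCat.of Ω))) (hOY : Nonempty (OY.obj ≅ DCoh.inD (Spec (CommRingCat.of Ω)) (Coh.structureModule (Spec (CommRingCat.of Ω)))))
    (ωd : C.Modules) (hωd : ClSub.IsInverseOf ωd (DCoh.dualizingMod (C ↘ Spec (CommRingCat.of Ω)) h OY 1)) :
    Subsingleton (Coh.HH C (CohB1.tensorPow (DCoh.dualizingMod (C ↘ Spec (CommRingCat.of Ω)) h OY 1) 2) 0) ∧
      Subsingleton (Coh.HH C ωd 1) ∧ Module.finrank Ω (Coh.HH C ωd 0) = 3 := by
  have hred := Groth.Agent.CurvesC.GenusOne512.isReduced_of_atWorstNodal Ω C hnod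
  have h0 := K326.DegPts.finrank_zero Ω C
  have hN := Groth.Agent.CurvesC.CurveCoh.noetherianSpace Ω C
  obtain ⟨t, ht⟩ := Groth.Agent.CurvesC.DualRep.exists_isDual Ω C h OY hdim.le hOY
  have hp := Groth.Agent.CurvesC.DualNodal.isPair_of_isDual Ω ht
  have h1 := K417.NodalDeg.subsingleton_H1_inverse Ω C hdim hnod hg h3 _ hp ωd hωd
  refine ⟨?_, h1, K417.NodalDeg.finrank_H0_inverse Ω C hdim hnod hg h3 _ hp ωd hωd⟩
  set w := DCoh.dualizingMod (C ↘ Spec (CommRingCat.of Ω)) h OY 1 with hwdef
  have hωdi := (Groth.Agent.Dix.IdealModCartier.isInvertible_of_isInverseOf hωd).1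
  -- all maps `ωd ⊗ O → w` vanish
  have h2 : ∀ f : CohB1.tensorMod ωd (Coh.structureModule C) ⟶ w, f = 0 := by
    intro f
    have e : ωd ≅ CohB1.tensorMod ωd (Coh.structureModule C) := (Groth.Agent.Ega2.Tens.runit ωd).symm
    have h3 : e.hom ≫ f = 0 := ht.eq_zero (Groth.Agent.Ega2.QCohLocal.isQCoh_of_isInvertible hωdi) h1 _
    rw [← cancel_epi e.hom, h3, comp_zero]
  have h4 : Subsingleton (Coh.HH C (CohB1.tensorMod w w) 0) :=
    K417.InvVan.subsingleton_H0 fun g => K417.InvVan.hom_tensor_eq_zero hωd h2 g
  have e : CohB1.tensorMod w w ≅ CohB1.tensorPow w 2 :=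
    Groth.Agent.Ega2.Tens.mapTIso (Groth.Agent.Ega2.Tens.lunit w).symm (Iso.refl w)
  exact @Equiv.subsingleton _ _ (Groth.Agent.Fga.EulerIso.HHequiv Ω e 0).symm.toEquiv h4

end Groth.Agent.S17262
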