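import Groth.Statements.S17304
import Groth.Agent.CurvSt.K902.EtSchFin

set_option autoImplicit false
universe u
open CurvSt

namespace Groth.Agent.S17304

open CategoryTheory AlgebraicGeometry in
/-- Let X → T be a family of curves (algebraic-space total space, flat, proper, of finite presentation,
relative dimension at most 1) over a scheme T over the base S. Then there is an etale covering of T,
i.e. a jointly surjective family of etale morphisms T_i → T, such that each base change X ×_T T_i is
a scheme — realised here as a cartesian square of sheaves whose vertex is the sheaf of a scheme X_i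
over T_i — and X_i → T_i may moreover be taken H-projective (a closed immersion into some projective
space over T_i followed by the projection). -/
theorem result (S : Scheme.{u}) (A : (CurvSt.Curves S 0).obj) :
    ∃ (ι : Type u) (T : ι → Scheme.{u}) (g : ∀ i, T i ⟶ A.obj.base.left),
      (∀ i, Etale (g i)) ∧ (∀ s : ↥A.obj.base.left, ∃ (i : ι) (v : ↥(T i)), g i v = s) ∧
      ∀ i, ∃ (X' : Scheme.{u}) (q : X' ⟶ T i) (j : (AlgSp.yon S).obj (A.obj.ptOver (q ≫ g i)) ⟶ A.obj.X),
        IsPullback j ((AlgSp.yon S).map (A.obj.fibHom (g i) q)) A.obj.f ((AlgSp.yon S).map (A.obj.ptHom (g i))) ∧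
        RelProj.IsHProjective q := by
  exact K902.EtSchFin.s17304 A.property

end Groth.Agent.S17304
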