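import Groth.Statements.S17263
import Groth.Agent.CurvSt.K856.NodeLocus
import Groth.Agent.CurvSt.K901.EtSch
import Groth.Agent.S17304
-- import your own Groth.Agent.* helpers here

set_option autoImplicit false
attribute [-instance] CategoryTheory.catToReflQuiver HenselianLocalRing.toIsLocalRing IsDomain.of_isSimpleRing
  IsPrincipalIdealRing.of_isSimpleRing
universe u
open CurvSt

namespace Groth.Agent.S17263

open CategoryTheory AlgebraicGeometry in
/-- Let k be an algebraically closed field of characteristic zero and let C → T be an object of the
stack of rational nodal curves over a k-scheme T (C an algebraic space over k; C → T flat, proper,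
of finite presentation, of relative dimension at most one; every geometric fibre, realised as a
scheme, proper, connected, of dimension one, at-worst-nodal, with vanishing first cohomology of the
structure sheaf). Then for every n the set of points s of T all of whose geometric fibres (realised
as schemes over algebraically closed fields) have at least n nodes is a closed subset of T. (The
source proves that the families all of whose fibres have at least n nodes form a closed substack,
the base carrying the closed subscheme defined by a Fitting ideal of the direct image of the
structure sheaf of the relative singular locus; only the closedness of the underlying locus is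
stated here. The published statement is over the complex numbers; it is stated here over any
algebraically closed field of characteristic zero.) -/
theorem result (k : Type u) [Field k] [IsAlgClosed k] [CharZero k]
    (A : (AlgSt.fullSub (CurvSt.Curves (Spec (CommRingCat.of k)) 0) (fun A => CurvSt.SpIsPrestablePtd A.obj 0)).obj) (n : ℕ) :
    IsClosed {s : ↥A.obj.obj.base.left | ∀ (Ω : Type u) [Field Ω] [IsAlgClosed Ω]
        (t : Spec (CommRingCat.of Ω) ⟶ A.obj.obj.base.left), t.base (IsLocalRing.closedPoint Ω) = s →
        ∀ (X' : Scheme.{u}) (q : X' ⟶ Spec (CommRingCat.of Ω))
          (i : (AlgSp.yon (Spec (CommRingCat.of k))).obj (A.obj.obj.ptOver (q ≫ t)) ⟶ A.obj.obj.X)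
          (hP : IsPullback i ((AlgSp.yon (Spec (CommRingCat.of k))).map (A.obj.obj.fibHom t q)) A.obj.obj.f
            ((AlgSp.yon (Spec (CommRingCat.of k))).map (A.obj.obj.ptHom t))),
          (n : ℕ∞) ≤ {x : ↥X' | @Curv2.IsNode Ω _ X' ⟨q⟩ x}.encard} := by
  exact K856.NodeLocus.isClosed_locus A n (fun B => by
    intro s
    obtain ⟨ι, T, g, hg, hs, h⟩ := S17304.result _ B
    obtain ⟨i, v, hv⟩ := hs s
    obtain ⟨X', q, j, sq, -⟩ := h i
    exact ⟨T i, g i, v, X', q, j, hg i, hv, sq⟩)

end Groth.Agent.S17263
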