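import Groth.Statements.S17268
import Groth.Agent.NonAbH1.K552.NonTriv

set_option autoImplicit false
open CategoryTheory AlgebraicGeometry
universe u
open NonAbH1

namespace Groth.Agent.S17268

open CategoryTheory.MonoidalCategory CategoryTheory.CartesianMonoidalCategory CategoryTheory.MonObj in
theorem aux (k : Type u) [Field k] [IsAlgClosed k]
    (G : Over (Spec (CommRingCat.of k))) [GrpObj G] [IsAffineHom G.hom] [LocallyOfFiniteType G.hom]
    (hG : ¬ IsIso G.hom) :
    ∃ (A : Type u) (_ : CommRing A) (_ : Algebra k A) (s : A)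
      (g : Over.mk (Spec.map (CommRingCat.ofHom (algebraMap A (Localization.Away s))) ≫
        Spec.map (CommRingCat.ofHom (algebraMap k A))) ⟶ G), Algebra.FiniteType k A ∧
      ¬ ∃ g' : Over.mk (Spec.map (CommRingCat.ofHom (algebraMap k A))) ⟶ G,
        (Over.homMk (Spec.map (CommRingCat.ofHom (algebraMap A (Localization.Away s)))) rfl :
          Over.mk (Spec.map (CommRingCat.ofHom (algebraMap A (Localization.Away s))) ≫
        Spec.map (CommRingCat.ofHom (algebraMap k A))) ⟶ Over.mk (Spec.map (CommRingCat.ofHom (algebraMap k A)))) ≫ g' = g := by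
  have haff : IsAffine G.left := isAffine_of_isAffineHom G.hom
  let H := Γ(G.left, ⊤)
  let e : G.left ≅ Spec Γ(G.left, ⊤) := G.left.isoSpec
  obtain ⟨ψ, hψ⟩ : ∃ ψ : CommRingCat.of k ⟶ Γ(G.left, ⊤), Spec.map ψ = e.inv ≫ G.hom :=
    ⟨Spec.preimage (e.inv ≫ G.hom), Spec.map_preimage _⟩
  obtain ⟨ε', hε'⟩ : ∃ ε' : Γ(G.left, ⊤) ⟶ CommRingCat.of k, Spec.map ε' = (η[G]).left ≫ e.hom :=
    ⟨Spec.preimage _, Spec.map_preimage _⟩
  have hψε : ψ ≫ ε' = 𝟙 _ := by
    apply Spec.map_injective
    rw [Spec.map_comp, hε', hψ, Category.assoc, Iso.hom_inv_id_assoc, Spec.map_id]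
    exact Over.w η[G]
  let _ : Algebra k Γ(G.left, ⊤) := ψ.hom.toAlgebra
  let ε : Γ(G.left, ⊤) →ₐ[k] k := { ε'.hom with commutes' := fun r => congr($hψε r) }
  have hft : Algebra.FiniteType k Γ(G.left, ⊤) := by
    have h1 : LocallyOfFiniteType (Spec.map ψ) := by rw [hψ]; infer_instance
    exact (HasRingHomProperty.Spec_iff (P := @LocallyOfFiniteType)).1 h1
  have hsurj : ¬ Function.Surjective (algebraMap k Γ(G.left, ⊤)) := by
    intro h
    apply hG
    have hbij : Function.Bijective ψ.hom := ⟨fun a b hab => by
      have := congrArg ε'.hom hab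
      have h2 : ∀ r, ε'.hom (ψ.hom r) = r := fun r => congr($hψε r)
      rwa [h2, h2] at this, h⟩
    have : IsIso ψ := (ConcreteCategory.isIso_iff_bijective ψ).2 hbij
    have h3 : IsIso (e.inv ≫ G.hom) := by rw [← hψ]; infer_instance
    exact IsIso.of_isIso_comp_left e.inv G.hom
  obtain ⟨A, _, _, s, φ, hA, x, hx⟩ := K552.NonTriv.exists_hom k Γ(G.left, ⊤) ε hsurj
  have hφ : ψ ≫ CommRingCat.ofHom φ.toRingHom =
      CommRingCat.ofHom (algebraMap k A) ≫ CommRingCat.ofHom (algebraMap A (Localization.Away s)) := by
    ext r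
    change φ (algebraMap k _ r) = algebraMap A (Localization.Away s) (algebraMap k A r)
    rw [φ.commutes, ← IsScalarTower.algebraMap_apply]
  refine ⟨A, inferInstance, inferInstance, s, Over.homMk (Spec.map (CommRingCat.ofHom φ.toRingHom) ≫ e.inv) ?_, hA, ?_⟩
  · rw [Category.assoc, ← hψ]
    change Spec.map _ ≫ Spec.map ψ = Spec.map _ ≫ Spec.map _
    exact (Spec.map_comp ψ (CommRingCat.ofHom φ.toRingHom)).symm.trans ((congrArg Spec.map hφ).trans
      (Spec.map_comp _ _))
  · rintro ⟨g', hg'⟩
    obtain ⟨ρ, hρ⟩ : ∃ ρ : Γ(G.left, ⊤) ⟶ CommRingCat.of A, Spec.map ρ = g'.left ≫ e.hom :=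
      ⟨Spec.preimage _, Spec.map_preimage _⟩
    have h1 := congrArg (fun f => f.left ≫ e.hom) hg'
    simp only [Over.comp_left, Over.homMk_left, Category.assoc, Iso.inv_hom_id, Category.comp_id] at h1
    rw [← hρ] at h1
    have h2 : ρ ≫ CommRingCat.ofHom (algebraMap A (Localization.Away s)) = CommRingCat.ofHom φ.toRingHom :=
      Spec.map_injective ((Spec.map_comp _ _).trans h1)
    apply hx
    refine ⟨ρ.hom x, ?_⟩
    exact congr($h2 x)

/-- Let k be an algebraically closed field and let G be an affine group scheme of finite type over k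
which is not trivial (the structure morphism G → Spec k is not an isomorphism). Then there are a
scheme T of finite type over k and a torsor for the fppf topology under the T-group scheme G ×_k T
(a T-scheme with an action of G ×_k T which is a pseudo-torsor and acquires sections over the
members of some fppf covering of T) which is not trivial: it has no section over T. The source
states this for every algebraic group of finite type over k, with torsors that need not be schemes;
it is stated here for affine G, for which every fppf torsor over a scheme is a scheme affine over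
the base, so that the torsors of the prelude (schemes with an action) are all of them. -/
theorem result (k : Type u) [Field k] [IsAlgClosed k]
    (G : Over (Spec (CommRingCat.of k))) [GrpObj G]
    [IsAffineHom G.hom] [LocallyOfFiniteType G.hom]
    (hG : ¬ IsIso G.hom) :
    ∃ (T : Scheme.{u}) (f : T ⟶ Spec (CommRingCat.of k)),
      LocallyOfFiniteType f ∧ QuasiCompact f ∧
      ∃ P : NonAbH1.TorsorSch (Red.bc f G) Scheme.fppfPrecoverage,
        ¬ NonAbH1.HasSectionOver P.X (𝟙 T) := by
  obtain ⟨A, _, _, s, g, hA, hg⟩ := aux k G hG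
  let X : Over (Spec (CommRingCat.of k)) := Over.mk (Spec.map (CommRingCat.ofHom (algebraMap k A)))
  have h1 : LocallyOfFiniteType X.hom :=
    (HasRingHomProperty.Spec_iff (P := @LocallyOfFiniteType)).2 ((RingHom.finiteType_algebraMap).2 hA)
  have h2 : CompactSpace X.left := inferInstanceAs (CompactSpace (Spec (CommRingCat.of A)))
  let j : Spec (CommRingCat.of (Localization.Away s)) ⟶ X.left :=
    Spec.map (CommRingCat.ofHom (algebraMap A (Localization.Away s)))
  have h3 : IsOpenImmersion j := inferInstanceAs
    (IsOpenImmersion (Spec.map (CommRingCat.ofHom (algebraMap A (Localization.Away s)))))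
  exact K552.NonTriv.exists_torsor_double G X j g hg

end Groth.Agent.S17268
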