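import Groth.Statements.S17278
import Groth.Agent.PosLin.K931.BigGrowth
import Groth.Agent.Variety.K434.ZTwist

set_option autoImplicit false
universe u
open CategoryTheory CategoryTheory.Limits AlgebraicGeometry TopologicalSpace
open Variety Groth.Agent.Grpsch

namespace Groth.Agent.S17278

/-- Let X be a projective variety over a field k (an integral scheme, proper over k, carrying an ample
invertible module A₀) of dimension d, and L an invertible O_X-module. Then L is big, meaning that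
for some real c > 0 one has dim_k H^0(X, L^{⊗n}) > c·n^d for all sufficiently large n, if and only
if for every ample invertible O_X-module A, with a tensor inverse A' (A' ⊗ A ≅ O_X), there is an
integer m > 0 with H^0(X, A' ⊗ L^{⊗m}) ≠ 0. -/
theorem result (k : Type u) [Field k]
    (X : Scheme.{u}) [X.Over (Spec (CommRingCat.of k))] [IsProper (X ↘ (Spec (CommRingCat.of k)))] [IsIntegral X]
    (A₀ : X.Modules) (hA₀ : CohB1.IsAmple A₀)
    (d : ℕ) (hdim : topologicalKrullDim X = d) (L : X.Modules) (hL : PicF.IsInvertible L) :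
    (∃ c : ℝ, 0 < c ∧ ∀ᶠ n : ℕ in Filter.atTop,
        c * (n : ℝ) ^ d < (Module.finrank k (Coh.HH X (CohB1.tensorPow L n) 0) : ℝ)) ↔
      ∀ (A A' : X.Modules), CohB1.IsAmple A → ClSub.IsInverseOf A' A →
        ∃ m : ℕ, 0 < m ∧ Nontrivial (Coh.HH X (CohB1.tensorMod A' (CohB1.tensorPow L m)) 0) := by
  have hN := K931.Basic.isNoetherian k X
  have hS := K931.Basic.isSeparated k X
  have key : (∃ c : ℝ, 0 < c ∧ ∀ᶠ n : ℕ in Filter.atTop,
      c * (n : ℝ) ^ d < (Module.finrank k (Coh.HH X (CohB1.tensorPow L n) 0) : ℝ)) ↔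
      K931.BigGrowth.Growth k L d := by
    constructor
    · rintro ⟨c, hc, h⟩
      obtain ⟨m₁, hm₁⟩ := Filter.eventually_atTop.1 h
      exact ⟨c, hc, m₁, fun m hm => (hm₁ m hm).le⟩
    · rintro ⟨C, hC, m₁, h⟩
      refine ⟨C / 2, by positivity, ?_⟩
      filter_upwards [Filter.eventually_ge_atTop (max m₁ 1)] with n hn
      have h1 := h n ((le_max_left _ _).trans hn)
      have h0 : 0 < n := (le_max_right m₁ 1).trans hn
      have h2 : (0 : ℝ) < (n : ℝ) ^ d := by positivity
      refine lt_of_lt_of_le ?_ h1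
      have h3 : 0 < C / 2 * (n : ℝ) ^ d := by positivity
      linarith
  have hinvA : ∀ {A A' : X.Modules}, ClSub.IsInverseOf A' A → PicF.IsInvertible A' ∧ PicF.IsInvertible A :=
    fun h => K434.ZTwist.isInvertible_of_inverse h
  have hval : ∀ {A A' : X.Modules} (hA : PicF.IsInvertible A) (hA' : PicF.IsInvertible A')
      (_ : ClSub.IsInverseOf A' A) (m : ℕ),
      K931.Eff.Eff (PicGrp.mk L hL ^ m / PicGrp.mk A hA) ↔
        Nontrivial (Coh.HH X (CohB1.tensorMod A' (CohB1.tensorPow L m)) 0) := by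
    intro A A' hA hA' h m
    have hinv : PicGrp.mk A' hA' = (PicGrp.mk A hA)⁻¹ := by
      rw [eq_inv_iff_mul_eq_one, PicGrp.mk_mul_mk, PicGrp.one_def, PicGrp.mk_eq_iff]
      exact h
    rw [div_eq_mul_inv, ← hinv, mul_comm, ← PicGrp.mk_tensorPow, PicGrp.mk_mul_mk, K931.Eff.eff_mk,
      ← K931.Basic.nontrivial_H0_iff]
  rw [key]
  constructor
  · intro h A A' hA hA'
    have hB : K931.Eff.Big (PicGrp.mk L hL) :=
      (K931.Eff.big_mk_iff hL).2 (K931.BigGrowth.big_of_growth k d hdim hA₀ hL h)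
    obtain ⟨m, hm, he⟩ := hB (PicGrp.mk A hA.1) ((K931.Eff.amp_mk hA.1).2 hA)
    exact ⟨m, hm, (hval hA.1 (hinvA hA').1 hA' m).1 he⟩
  · intro h
    refine K931.BigGrowth.growth_of_big k d hdim hA₀ hL ((K931.Eff.big_mk_iff hL).1 ?_)
    rintro a ⟨A, hA, rfl, hA1⟩
    obtain ⟨A', hA'⟩ := K434.ZTwist.exists_isInverseOf hA
    have hA'' : ClSub.IsInverseOf A' A := by
      obtain ⟨e⟩ := hA'
      exact ⟨Groth.Agent.Ega2.Tens.swap A' A ≪≫ e⟩
    obtain ⟨m, hm, hne⟩ := h A A' hA1 hA''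
    exact ⟨m, hm, (hval hA (hinvA hA'').1 hA'' m).2 hne⟩

end Groth.Agent.S17278
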