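-- Statement S17281, from Groth/Templates/S17281.lean.txt
import Groth.Statements.S17281
import Groth.Agent.VBCurve.K703.GlobGen
import Groth.Agent.VBCurve.K703.Twist
import Groth.Agent.Flat2E.FormalLift418
import Groth.Agent.Ega2.SmoothBdry
import Groth.Agent.Grpsch.PicGrp

set_option autoImplicit false
universe u
open CategoryTheory CategoryTheory.Limits AlgebraicGeometry TopologicalSpace
open Curves

namespace Groth.Agent.S17281

open Groth.Agent Groth.Agent.VarietyA.DegRank K707.Base K707.Deg K707.Slope K707.Semi in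
/-- the twisting step: a nonzero map from `E ⊗ H` to an invertible module of degree `< deg H` yields an invertible
quotient of `E` of negative degree -/
theorem exists_quot (k : Type u) [Field k] {X : Scheme.{u}} [X.Over (Spec (CommRingCat.of k))]
    [IsProper (X ↘ (Spec (CommRingCat.of k)))] [IsIntegral X] (C : Crv k X)
    {E H L : X.Modules} (hE : FlatMod.IsFinLocFree E) (hH : PicF.IsInvertible H) (hL : PicF.IsInvertible L)
    (hlt : dg k L < dg k H) (f : CohB1.tensorMod E H ⟶ L) (hf : f ≠ 0) :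
    ∃ (M : X.Modules) (q : E ⟶ M), PicF.IsInvertible M ∧ Epi q ∧ dg k M < 0 := by
  have hN : IsNoetherian X := K703.Basic.isNoetherian k X
  obtain ⟨P, hP, ⟨e⟩⟩ := Grpsch.PicGrp.exists_inverse hH
  have hEH : Coh.IsCoh (CohB1.tensorMod E H) := K703.Twist.isCoh_tensor hH (coh_of_vb hE)
  obtain ⟨I, p, i, hp, hi, hpi, hI, hpos, e1, e2, e3, e4⟩ :=
    exists_factor_pos C f hf hEH (K703.Stab.vb_of_inv hL)
  rw [K703.Stab.rk_of_inv hL] at e3
  have hI1 : rk I = 1 := by omega
  have hdI := dg_le_of_mono C i (coh_of_vb hI) (coh_of_vb (K703.Stab.vb_of_inv hL))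
    (by rw [K703.Stab.rk_of_inv hL]; omega)
  have hIinv : PicF.IsInvertible I := by
    have h1 := isFinLocFreeOfRank_rk hI
    rw [hI1] at h1
    exact K703.Stab.inv_iff.1 h1
  let F := Flat2E.FormalLift418.twEquiv e
  let c : F.functor.obj (CohB1.tensorMod E H) ≅ E := F.counitIso.app E
  have hep : Epi (F.functor.map p) := by
    have : F.functor.PreservesEpimorphisms := Functor.preservesEpimorphisms_of_adjunction F.toAdjunction
    exact F.functor.map_epi p
  have hIP : PicF.IsInvertible (CohB1.tensorMod I P) := Fdesc.LocGen.isInvertible_tensorMod hIinv hP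
  have hq : Epi (c.inv ≫ F.functor.map p) := epi_comp _ _
  refine ⟨CohB1.tensorMod I P, c.inv ≫ F.functor.map p, hIP, hq, ?_⟩
  rw [K703.Stab.dg_of_inv (k := k) hIP, K703.Twist.deg_tensor k C.dim (K703.Stab.inv_iff.2 hIinv) hP,
    K703.Twist.deg_inv k C.dim hH hP e, ← K703.Stab.dg_of_inv (k := k) hIinv,
    ← K703.Stab.dg_of_inv (k := k) hH]
  push_cast
  omega

theorem result (k : Type u) [Field k] [IsAlgClosed k]
    (X : Scheme.{u}) [X.Over (Spec (CommRingCat.of k))] [IsProper (X ↘ (Spec (CommRingCat.of k)))] [IsIntegral X]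
    (hdim : topologicalKrullDim X = 1) (hreg : ∀ x : X, IsRegularLocalRing (X.presheaf.stalk x))
    (E : X.Modules) (hE : FlatMod.IsFinLocFree E)
    (hnef : ∀ (C : Scheme.{u}) [C.Over (Spec (CommRingCat.of k))] [IsProper (C ↘ (Spec (CommRingCat.of k)))] [IsIntegral C],
      topologicalKrullDim C = 1 → (∀ x : C, IsRegularLocalRing (C.presheaf.stalk x)) →
      ∀ (f : C ⟶ X), f ≫ (X ↘ (Spec (CommRingCat.of k))) = C ↘ (Spec (CommRingCat.of k)) →
      ∀ (M : C.Modules), PicF.IsInvertible M →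
      ∀ (q : (Scheme.Modules.pullback f).obj E ⟶ M), Epi q → 0 ≤ Curv2.deg k C M 1)
    (H : X.Modules) (hH : PicF.IsInvertible H)
    (hdeg : 2 * (Curv2.genus k X : ℤ) ≤ Curv2.deg k X H 1) :
    Curv2.IsGloballyGenerated (CohB1.tensorMod E H) := by
  have hN : IsNoetherian X := K703.Basic.isNoetherian k X
  have hsm : Smooth (X ↘ Spec (CommRingCat.of k)) := Ega2.SmoothBdry.smooth_of_regular _ hreg
  have C : K707.Base.Crv k X := K707.Base.Crv.of_smooth hdim
  obtain ⟨D⟩ := K703.Duality.nonempty_dualizing k X hdim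
  refine K703.GlobGen.isGloballyGenerated_of C D
    (K703.Twist.isCoh_tensor hH (K707.Slope.coh_of_vb hE)) fun L hL hd f => ?_
  by_contra hf
  have hw := D.deg_w_of_isAlgClosed hdim
  rw [← K703.Stab.dg_of_inv (k := k) D.inv] at hw
  obtain ⟨M, q, hM, hq, hneg⟩ := exists_quot k C hE hH hL (by
    rw [K703.Stab.dg_of_inv (k := k) hH]
    omega) f hf
  have h1 := hnef X hdim hreg (𝟙 X) (Category.id_comp _) M hM
    ((Scheme.Modules.pullbackId X).hom.app E ≫ q) (epi_comp _ _)
  rw [K703.Stab.dg_of_inv (k := k) hM] at hneg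
  omega

end Groth.Agent.S17281
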