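import Groth.Statements.S17286
import Groth.Agent.Variety.K250.NefAmple
import Groth.Agent.Sga67.LocBasisOps

set_option autoImplicit false
universe u
open CategoryTheory CategoryTheory.Limits AlgebraicGeometry TopologicalSpace
open Variety

namespace Groth.Agent.S17286

/-- (iii) ⇔ (iv), algebraically closed base field; scheme case: let X be a proper scheme over an
algebraically closed field k and E a finite locally free O_X-module. Then E is nef in the curve-test
sense (for every regular projective curve C over k — integral, proper over k, of dimension one, all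
local rings regular — every k-morphism f : C → X and every invertible quotient f^*E → M, deg M =
χ(M) - χ(O_C) ≥ 0) if and only if for every such f : C → X and every ample invertible O_C-module H,
the finite locally free module H ⊗ f^*E is ample: the fundamental module O(1) of its projective
bundle P(H ⊗ f^*E) = Proj(Sym(H ⊗ f^*E)) → C (any relative-Proj data of the graded symmetric algebra
with its O(1)) is ample. (The source states this for proper algebraic spaces X; this is the case of
schemes.) -/
theorem result (k : Type u) [Field k] [IsAlgClosed k]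
    (X : Scheme.{u}) [X.Over (Spec (CommRingCat.of k))] [IsProper (X ↘ (Spec (CommRingCat.of k)))] (E : X.Modules) (hE : FlatMod.IsFinLocFree E) :
    (∀ (C : Scheme.{u}) [C.Over (Spec (CommRingCat.of k))] [IsProper (C ↘ (Spec (CommRingCat.of k)))] [IsIntegral C],
      topologicalKrullDim C = 1 → (∀ x : C, IsRegularLocalRing (C.presheaf.stalk x)) →
      ∀ (f : C ⟶ X), f ≫ (X ↘ (Spec (CommRingCat.of k))) = C ↘ (Spec (CommRingCat.of k)) →
      ∀ (M : C.Modules), PicF.IsInvertible M →
      ∀ (q : (Scheme.Modules.pullback f).obj E ⟶ M), Epi q → 0 ≤ Curv2.deg k C M 1) ↔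
    (∀ (C : Scheme.{u}) [C.Over (Spec (CommRingCat.of k))] [IsProper (C ↘ (Spec (CommRingCat.of k)))] [IsIntegral C],
      topologicalKrullDim C = 1 → (∀ x : C, IsRegularLocalRing (C.presheaf.stalk x)) →
      ∀ (f : C ⟶ X), f ≫ (X ↘ (Spec (CommRingCat.of k))) = C ↘ (Spec (CommRingCat.of k)) →
      ∀ (H : C.Modules), CohB1.IsAmple H →
      ∀ (𝒮 : RelProj.QCGrAlg C) (j : (CohB1.tensorMod H ((Scheme.Modules.pullback f).obj E)) ⟶ 𝒮.toModule) (P : Scheme.{u}) (p : P ⟶ C)
        (chart : ∀ (U : C.Opens) (hU : IsAffineOpen U),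
          (((p ⁻¹ᵁ U : P.Opens) : Scheme.{u}) ≅ Proj (𝒮.deg U hU)))
        (O1 : P.Modules)
        (lam : ∀ (U : C.Opens) (hU : IsAffineOpen U),
          O1 ⟶ (Scheme.Modules.pushforward (RelProj.emb p chart U hU)).obj (GrTwist.twist (𝒮.deg U hU) 1)),
        RelProj.IsGrSymAlg (CohB1.tensorMod H ((Scheme.Modules.pullback f).obj E)) 𝒮 j → RelProj.IsRelProj 𝒮 p chart → RelProj.IsRelTwist 𝒮 p chart 1 O1 lam →
        CohB1.IsAmple O1) := by
  have hSk : (Spec (CommRingCat.of k)) = (Spec (CommRingCat.of k)) := rfl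
  constructor
  · intro h C _ _ _ hdim hreg f hf H hH 𝒮 j P p chart O1 lam hj hP hlam
    have hEf : FlatMod.IsFinLocFree ((Scheme.Modules.pullback f).obj E) := PerfB.FlatPull.isFinLocFree_pullback f hE
    have hG : FlatMod.IsFinLocFree (CohB1.tensorMod H ((Scheme.Modules.pullback f).obj E)) :=
      Groth.Agent.Sga67.LocBasis.isFinLocFree_tensorMod (K424.PushCoef.isFinLocFree_of_isInvertible hH.1) hEf
    obtain ⟨hp, φ, hφ⟩ := K432.PStat.exists_isPBun' hG hj hP hlam
    let : P.Over (Spec (CommRingCat.of k)) := ⟨p ≫ (C ↘ (Spec (CommRingCat.of k)))⟩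
    have hPp : IsProper (P ↘ (Spec (CommRingCat.of k))) :=
      inferInstanceAs (IsProper (p ≫ (C ↘ (Spec (CommRingCat.of k)))))
    have hq := Ega2.QCohLocal.isQCoh_of_isFinLocFree hG
    have hrel : RelAmple.IsRelAmple p O1 :=
      K31.RelPow.relAmple_one hP (K34.TwistCover.isGenDegOne_of_isGrSymAlg hq hj)
        (K35.ProjBundle.isFTDeg_one hq (K432.PStat.isFT_of_isFinLocFree hG) hj) hlam
    have hn : K432.NefBasic.CNef (X ↘ (Spec (CommRingCat.of k))) E := by
      rw [K432.NefBasic.cnef_iff_reg]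
      exact (K432.NefBasic.cnefReg_iff_hyp E).1 h
    refine K250.NefAmple.isAmple_of_nef (k := k) hH hφ.inv hrel (C ↘ (Spec (CommRingCat.of k))) rfl ⟨hφ.can, hφ.epi⟩ ?_
    intro D _ g _ hD M hM q hq
    have hgf : IsProper ((g ≫ f) ≫ (X ↘ (Spec (CommRingCat.of k)))) := by
      rw [Category.assoc, hf]; infer_instance
    obtain ⟨q', hq'⟩ := K250.NefAmple.epi_iso ((Scheme.Modules.pullbackComp g f).symm.app E) (Iso.refl M) ⟨q, hq⟩
    have h1 := hn D (g ≫ f) hD M hM q' hq'
    rw [Category.assoc, hf] at h1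
    exact h1
  · intro h C _ _ _ hdim hreg f hf M hM q hq
    obtain ⟨H, hH, h1⟩ := K250.NefAmple.exists_ample_one (k := k) hdim hreg
    have hEf : FlatMod.IsFinLocFree ((Scheme.Modules.pullback f).obj E) := PerfB.FlatPull.isFinLocFree_pullback f hE
    have hG : FlatMod.IsFinLocFree (CohB1.tensorMod H ((Scheme.Modules.pullback f).obj E)) :=
      Groth.Agent.Sga67.LocBasis.isFinLocFree_tensorMod (K424.PushCoef.isFinLocFree_of_isInvertible hH.1) hEf
    obtain ⟨𝒮, j, P, p, chart, O1, lam, hj, hP, hlam, hp, φ, hφ⟩ := K432.PStat.exists_pbun hG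
    have hO := h C hdim hreg f hf H hH 𝒮 j P p chart O1 lam hj hP hlam
    have h2 := K250.NefAmple.dg_add_pos (k := k) hdim hH.1 hM q hq hφ hO
    rw [h1] at h2
    change 0 ≤ K432.CurveDeg.dg (C ↘ (Spec (CommRingCat.of k))) M
    linarith

end Groth.Agent.S17286
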