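import Groth.Statements.S17291
import Groth.Agent.S16692
import Groth.Agent.S16745
import Groth.Agent.S16757
import Groth.Agent.AlgSt.K743.Coarse818
-- import your own Groth.Agent.* helpers here

set_option autoImplicit false
universe u
open CurvSt

namespace Groth.Agent.S17291

open CategoryTheory AlgebraicGeometry in
/-- Let S be a scheme and g ≥ 2. The category over schemes over S whose objects over T are the stable
curves of genus g over T (flat proper finitely presented morphisms of schemes C → T whose geometric
fibres are connected nodal curves of dimension one and arithmetic genus g in which every smooth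
rational component meets the other components in at least three points), with cartesian squares as
morphisms, admits a uniform categorical moduli space π to an algebraic space M over S (categorical
among morphisms to algebraic spaces, and remaining so after every flat base change M' → M), and π is
separated, quasi-compact and a universal homeomorphism. Moreover the stack has an object over every
algebraically closed field over S. (The source works over the spectrum of the integers; over a base
scheme S the statement is its base change.) -/
theorem result (S : Scheme.{u}) (g : ℕ) (hg : 2 ≤ g) :
    (∃ (M : AlgSp.Sp S) (π : CurvSt.Mbar S g 0 ⥤ᵇ AlgSt.ofSp M), AlgSt.IsUnifCatModuli π ∧ AlgSt.IsSeparatedMor π ∧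
        AlgSt.IsQuasiCompactMor Scheme.fppfPrecoverage π ∧ AlgSt.IsUnivHomeo Scheme.fppfPrecoverage π) ∧
      ∀ (Ω : Type u) [Field Ω] [IsAlgClosed Ω] (t : Spec (CommRingCat.of Ω) ⟶ S),
        Nonempty ((CurvSt.Mbar S g 0).p.Fiber (Over.mk t)) := by
  obtain ⟨h1, h2, h3⟩ := Groth.Agent.S16745.result S g hg
  obtain ⟨-, h4, -⟩ := Groth.Agent.S16757.result S g hg
  exact ⟨Groth.Agent.S16692.result S (CurvSt.Mbar S g 0) h1 (K743.KM818.finite_inertia h2 h4), h3⟩

end Groth.Agent.S17291
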