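import Groth.Statements.S17301
import Groth.Agent.CurvSt.K902.SmStack
import Groth.Agent.CurvSt.K902.EtSchFin
import Groth.Agent.CurvSt.K740.CurvAlgFin
import Groth.Agent.S6826

set_option autoImplicit false
universe u
open CurvSt

namespace Groth.Agent.S17301

open CategoryTheory AlgebraicGeometry in
/-- Assume the stack of curves over the base scheme S (families with algebraic-space total space, flat,
proper, of finite presentation and of relative dimension at most 1, no marked points) is an
algebraic stack for the fppf topology. Then, inside it, the families whose structure morphism is a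
local complete intersection (Koszul) morphism of algebraic spaces and each of whose geometric fibres
(realised as a scheme over an algebraically closed field) is smooth over that field outside a finite
set of points form an open substack for the fppf topology; this substack is smooth over S (in the
chart sense: some smooth surjective scheme chart of it maps to a scheme smooth over S compatibly
with the structure functors); and it has an object over every algebraically closed field point of S.
(The source proves smoothness over the integers; smoothness over an arbitrary base S follows by base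
change. The source also characterises the families by the singular locus being finite over the base;
the substack here is cut out by the fibrewise condition.) -/
theorem result (S : Scheme.{u})
    (hC : AlgSt.IsAlgStack Scheme.fppfPrecoverage (CurvSt.Curves S 0)) :
    AlgSt.IsOpenSubstack (CurvSt.Curves S 0) (fun A => AlgSp.IsLCIMor A.obj.f ∧ CurvSt.GeomFib (fun _ _ _ X' q _ =>
            Set.Finite {x : ↥X' | ¬ ∃ U : X'.Opens, x ∈ U ∧ Smooth (U.ι ≫ q)}) A.obj) Scheme.fppfPrecoverage ∧
      AlgSt.LocQ (AlgSp.LocP @Smooth)
        (FibCat.toSelf (AlgSt.fullSub (CurvSt.Curves S 0) (fun A => AlgSp.IsLCIMor A.obj.f ∧ CurvSt.GeomFib (fun _ _ _ X' q _ =>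
            Set.Finite {x : ↥X' | ¬ ∃ U : X'.Opens, x ∈ U ∧ Smooth (U.ι ≫ q)}) A.obj))) ∧
      ∀ (Ω : Type u) [Field Ω] [IsAlgClosed Ω] (t : Spec (CommRingCat.of Ω) ⟶ S),
        Nonempty ((AlgSt.fullSub (CurvSt.Curves S 0) (fun A => AlgSp.IsLCIMor A.obj.f ∧ CurvSt.GeomFib (fun _ _ _ X' q _ =>
            Set.Finite {x : ↥X' | ¬ ∃ U : X'.Opens, x ∈ U ∧ Smooth (U.ι ≫ q)}) A.obj)).p.Fiber (Over.mk t)) := by
  exact K902.SmStack.s17301 (fun I _ _ h => Groth.Agent.S6826.result I h) (K902.EtSchFin.hLoc S) hC
    (K740.CurvAlg.locQ_lfp_toSelf S 0)

end Groth.Agent.S17301
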