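import Groth.Statements.S17302
import Groth.Agent.CurvSt.K902.SchInst

set_option autoImplicit false
universe u
open CurvSt

namespace Groth.Agent.S17302

open CategoryTheory AlgebraicGeometry in
/-- Assume the stack of curves over the base scheme S (families with algebraic-space total space, flat,
proper, of finite presentation and of relative dimension at most 1, no marked points) is an
algebraic stack for the fppf topology. Then, inside it, for each natural number g the families whose
geometric fibres (realised as schemes over an algebraically closed field) are reduced, connected, of
Krull dimension 1 and of genus g (dimension of the first cohomology of the structure sheaf) form an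
open substack for the fppf topology; and for a family of curves over a connected base all of whose
geometric fibres are reduced, connected and of dimension 1, there is one g which is the genus of
every geometric fibre. (Together these express the source's decomposition of the substack of such
families into open and closed pieces indexed by the genus; the source phrases the genus condition on
families as the first higher direct image of the structure sheaf being locally free of rank g, which
on these families is the fibrewise condition used here. Which genera actually occur is not asserted.
The source works over the integers; the statement over S is its form over a base.) -/
theorem result (S : Scheme.{u})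
    (hC : AlgSt.IsAlgStack Scheme.fppfPrecoverage (CurvSt.Curves S 0)) :
    (∀ g : ℕ, AlgSt.IsOpenSubstack (CurvSt.Curves S 0) (fun A => CurvSt.GeomFib (fun _ _ _ X' _ _ =>
            IsReduced X' ∧ ConnectedSpace ↥X' ∧ topologicalKrullDim ↥X' = 1) A.obj ∧ CurvSt.SpHasGenus A.obj g) Scheme.fppfPrecoverage) ∧
      ∀ (A : (CurvSt.Curves S 0).obj), CurvSt.GeomFib (fun _ _ _ X' _ _ =>
            IsReduced X' ∧ ConnectedSpace ↥X' ∧ topologicalKrullDim ↥X' = 1) A.obj →
        ConnectedSpace ↥A.obj.base.left → ∃ g : ℕ, CurvSt.SpHasGenus A.obj g := by
  exact K902.SchInst.s17302 S hC

end Groth.Agent.S17302
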