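import Groth.Statements.S17305
import Groth.Agent.CurvSt.K606.Main
import Groth.Agent.CurvSt.K740.CurvAlgFin

set_option autoImplicit false
universe u
open CurvSt

namespace Groth.Agent.S17305

open CategoryTheory AlgebraicGeometry in
/-- Let Λ be a Cohen ring (a complete discrete valuation ring whose uniformizer is a prime number)
mapping onto its residue field k, and assume the stack of curves over Spec Λ is an algebraic stack
for the fppf topology; let X be a proper scheme of dimension at most 1 over k, so that X → Spec k
defines an object x₀ of the stack of curves over Spec Λ lying over the k-point of Spec Λ (this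
membership is carried as a hypothesis). Then x₀ lies in the open substack over which the stack of
curves is smooth over Spec Λ — phrased: some open substack containing x₀ is smooth over Spec Λ in
the chart sense — if and only if the deformation functor of X (isomorphism classes of flat
deformations of X over Artinian local Λ-algebras with residue field k) is smooth, i.e. unobstructed.
(The source states the criterion for the smooth locus of the stack of curves over the integers and
reduces to the base Spec Λ by flat base change; the form over Spec Λ is the one its proof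
establishes.) -/
theorem result (Λ k : Type u) [CommRing Λ] [Field k] [Algebra Λ k]
    (hΛ : CAlg.IsCohenRing Λ) (hres : Function.Surjective (algebraMap Λ k))
    (hC : AlgSt.IsAlgStack Scheme.fppfPrecoverage (CurvSt.Curves (Spec (CommRingCat.of Λ)) 0))
    (X : Scheme.{u}) (x : X ⟶ Spec (CommRingCat.of k)) [IsProper x] (hdim : topologicalKrullDim ↥X ≤ 1)
    (hX : CurvSt.IsCurveFam ((CurvSt.toSpFam (Spec (CommRingCat.of Λ)) 0).obj
            ⟨Over.mk (Spec.map (CommRingCat.ofHom (algebraMap Λ k))), X, x, Fin.elim0, fun i => i.elim0⟩)) :
    (∃ Q : (CurvSt.Curves (Spec (CommRingCat.of Λ)) 0).obj → Prop,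
        AlgSt.IsOpenSubstack (CurvSt.Curves (Spec (CommRingCat.of Λ)) 0) Q Scheme.fppfPrecoverage ∧
        AlgSt.LocQ (AlgSp.LocP @Smooth)
          (FibCat.toSelf (AlgSt.fullSub (CurvSt.Curves (Spec (CommRingCat.of Λ)) 0) Q)) ∧
        Q ⟨(CurvSt.toSpFam (Spec (CommRingCat.of Λ)) 0).obj
            ⟨Over.mk (Spec.map (CommRingCat.ofHom (algebraMap Λ k))), X, x, Fin.elim0, fun i => i.elim0⟩, hX⟩) ↔
      ArtFun.IsSmoothFunctor (ArtFun.defFunctor (Λ := Λ) X x) := by
  obtain ⟨_, _, -, -⟩ := hΛ
  exact K606.Main.main hres hC (K740.CurvAlg.locQ_lfp_toSelf _ 0)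
    (K606.FwdMain.good_of_isCurveFam (T := Over.mk (Spec.map (CommRingCat.ofHom (algebraMap Λ k)))) (f := x) hX)

end Groth.Agent.S17305
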