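import Groth.Statements.S17308
import Groth.Agent.CurvSt.K902.LocSch
import Groth.Agent.S8658
import Groth.Agent.S8661

set_option autoImplicit false
universe u
open CurvSt

namespace Groth.Agent.S17308

open CategoryTheory AlgebraicGeometry in
/-- Let X be a proper scheme of dimension at most 1 over a field k with structure morphism p, and Spec k
→ S a point of the base. The classifying object of X in the stack of curves over S lies in the local
complete intersection open substack — by definition: the morphism of sheaves h_X → h_{Spec k}
induced by p is a Koszul morphism etale locally on every chart diagram — if and only if X is a local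
complete intersection over k, i.e. p is Koszul at every point of X (near each point, locally of
finite type and a Koszul-regular immersion into a scheme smooth over k). -/
theorem result (S : Scheme.{u}) (k : Type u) [Field k] (t : Spec (CommRingCat.of k) ⟶ S)
    (X : Scheme.{u}) (p : X ⟶ Spec (CommRingCat.of k)) [IsProper p] (hdim : topologicalKrullDim ↥X ≤ 1) :
    AlgSp.IsLCIMor ((AlgSp.yon S).map (Over.homMk p rfl : Over.mk (p ≫ t) ⟶ Over.mk t)) ↔ ∀ x : ↥X, Synt.IsKoszulAt p x := by
  constructor
  · intro h x
    exact (AlgSp.locP_yon_map h) x
  · intro h
    exact K902.LocSch.locP_yon_map_of AlgSp.lci AlgSp.lci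
      (fun f f' g' g sq hg hf => by
        have : Flat g := inferInstance
        exact Groth.Agent.S8658.result f g f' g' sq hf)
      (fun a f ha hf => Groth.Agent.S8661.result a f
        ((K561.LciDict.forall_isKoszulAt_iff a).2 (K561.LciDict.LM_smooth a)) hf)
      (Over.homMk p rfl : Over.mk (p ≫ t) ⟶ Over.mk t) h

end Groth.Agent.S17308
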