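import Groth.Statements.S17310
import Groth.Agent.CurvSt.K903.GeomFib
import Groth.Agent.Pi1A.SteinCover
import Groth.Agent.Etcore.DimBaseChange

set_option autoImplicit false
universe u
open CurvSt

namespace Groth.Agent.S17310

open CategoryTheory AlgebraicGeometry in
/-- Let X be a proper scheme of dimension at most 1 over a field k with structure morphism p, and Spec k
→ S a point of the base. The classifying object of X in the stack of curves over S lies in the open
substack of curves with geometrically reduced, connected fibres of dimension 1 — by definition: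
every geometric fibre of h_X → h_{Spec k}, realised as a scheme over an algebraically closed field
through a cartesian square of sheaves, is reduced, connected and of Krull dimension 1 — if and only
if X is geometrically reduced and geometrically connected over k and has Krull dimension 1. -/
theorem result (S : Scheme.{u}) (k : Type u) [Field k] (t : Spec (CommRingCat.of k) ⟶ S)
    (X : Scheme.{u}) (p : X ⟶ Spec (CommRingCat.of k)) [IsProper p] (hdim : topologicalKrullDim ↥X ≤ 1) :
    CurvSt.GeomFib (fun _ _ _ X' _ _ => IsReduced X' ∧ ConnectedSpace ↥X' ∧ topologicalKrullDim ↥X' = 1) ((CurvSt.toSpFam S 0).obj ⟨Over.mk t, X, p, Fin.elim0, fun i => i.elim0⟩) ↔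
      GeometricallyReduced p ∧ GeometricallyConnected p ∧ topologicalKrullDim ↥X = 1 := by
  refine (K903.GeomFib.geomFib_toSpFam_zero_iff
    (fun _ _ _ X' _ => IsReduced X' ∧ ConnectedSpace ↥X' ∧ topologicalKrullDim ↥X' = 1) _).trans ?_
  constructor
  · intro h
    refine ⟨Groth.Agent.Pi1A.SteinCover.geometricallyReduced_of_isAlgClosed p fun Ω _ _ s =>
      (h Ω s _ _ _ (IsPullback.of_hasPullback p s)).1,
      Groth.Agent.Pi1A.SteinCover.geometricallyConnected_of_isAlgClosed p fun Ω _ _ s =>
      (h Ω s _ _ _ (IsPullback.of_hasPullback p s)).2.1, ?_⟩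
    let t' : Spec (CommRingCat.of (AlgebraicClosure k)) ⟶ Spec (CommRingCat.of k) :=
      Spec.map (CommRingCat.ofHom (algebraMap k (AlgebraicClosure k)))
    have hP := IsPullback.of_hasPullback p t'
    rw [← (h (AlgebraicClosure k) t' _ _ _ hP).2.2]
    exact (Groth.Agent.Etcore.DimBaseChange.topologicalKrullDim_eq (Field.toIsField k)
      (Field.toIsField (AlgebraicClosure k)) p _ _ t' hP).symm
  · rintro ⟨h1, h2, h3⟩ Ω _ _ t' X' i q hP
    refine ⟨h1.geometrically_isReduced t' i q hP, h2.geometrically_connectedSpace t' i q hP, ?_⟩
    rw [← h3]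
    exact Groth.Agent.Etcore.DimBaseChange.topologicalKrullDim_eq (Field.toIsField k)
      (Field.toIsField Ω) p _ _ t' hP

end Groth.Agent.S17310
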