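import Groth.Statements.S17312
import Groth.Agent.AlgSt.K738.Unr4
import Groth.Agent.AlgSt.K747.SliceAtlas

set_option autoImplicit false
universe u
open CurvSt

namespace Groth.Agent.S17312

open CategoryTheory AlgebraicGeometry in
/-- Assume the stack of curves over the base scheme S (families with algebraic-space total space, flat,
proper, of finite presentation and of relative dimension at most 1, no marked points) is an
algebraic stack for the fppf topology. Then it has an open substack, cut out by a condition Q on
objects, which is Deligne–Mumford (admits an etale surjective atlas from a scheme) and is the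
largest such: every open substack that is Deligne–Mumford is contained in it; and a morphism x from
a scheme U over S to the stack of curves factors through this substack (all objects in its image
satisfy Q) if and only if the automorphism group space of the classified family over U — the 2-fibre
product of x with the inertia of the stack of curves, mapping to U — is representable by algebraic
spaces and unramified over U (locally of finite type and formally unramified, read etale locally). -/
theorem result (S : Scheme.{u})
    (hC : AlgSt.IsAlgStack Scheme.fppfPrecoverage (CurvSt.Curves S 0)) :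
    ∃ Q : (CurvSt.Curves S 0).obj → Prop,
      AlgSt.IsOpenSubstack (CurvSt.Curves S 0) Q Scheme.fppfPrecoverage ∧
      AlgSt.IsDM Scheme.fppfPrecoverage (AlgSt.fullSub (CurvSt.Curves S 0) Q) ∧
      (∀ Q' : (CurvSt.Curves S 0).obj → Prop, AlgSt.IsOpenSubstack (CurvSt.Curves S 0) Q' Scheme.fppfPrecoverage →
        AlgSt.IsDM Scheme.fppfPrecoverage (AlgSt.fullSub (CurvSt.Curves S 0) Q') → ∀ A, Q' A → Q A) ∧
      ∀ (U : Over S) (x : FibCat.overCat U ⥤ᵇ (CurvSt.Curves S 0)),
        (∀ u : (FibCat.overCat U).obj, Q (x.obj u)) ↔
          AlgSt.RepByAlgSpWith (AlgSp.LocP (@LocallyOfFiniteType ⊓ @FormallyUnramified))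
            (FibCat.fpFst x (FibCat.inertiaToBase (FibCat.toSelf (CurvSt.Curves S 0)))) := by
  exact K738.Unr.exists_largest_dm (fun 𝒲 h h' => K747.DM.isDM_of_isDMOver h h') hC

end Groth.Agent.S17312
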