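import Groth.Statements.S17321
import Groth.Agent.CAlg.K91.FinAlg
import Mathlib.RingTheory.Unramified.Field
import Mathlib.RingTheory.Kaehler.Basic
import Mathlib.RingTheory.SimpleModule.Basic
import Mathlib.RingTheory.Ideal.AssociatedPrime.Localization

set_option autoImplicit false
universe u v
open CAlg

namespace Groth.Agent.S17321

/-- Let k be an algebraically closed field and A a commutative k-algebra which is finite-dimensional as
a k-vector space (the coordinate ring of a finite k-scheme). Then the space Der(A) of k-derivations
A → A is zero if and only if A is reduced. -/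
theorem result (k : Type u) [Field k] [IsAlgClosed k]
    (A : Type v) [CommRing A] [Algebra k A] [Module.Finite k A] :
    Subsingleton (Derivation k A A) ↔ IsReduced A := by
  have hart : IsArtinianRing A := IsArtinianRing.of_finite k A
  constructor
  · intro hsub
    by_contra hred
    have hun : ¬ Algebra.FormallyUnramified k A := fun h =>
      hred (Algebra.FormallyUnramified.isReduced_of_field k A)
    have hnt : Nontrivial (Ω[A⁄k]) := by
      rw [← not_subsingleton_iff_nontrivial]
      exact fun h => hun ⟨h⟩
    -- a simple quotient of the module of differentials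
    obtain ⟨N, hN, -⟩ := (eq_top_or_exists_le_coatom (⊥ : Submodule A (Ω[A⁄k]))).resolve_left
      bot_ne_top
    have hsimp := isSimpleModule_iff_isCoatom.2 hN
    obtain ⟨m, hm, ⟨e⟩⟩ := isSimpleModule_iff_quot_maximal.1 hsimp
    -- every maximal ideal is associated to `A`
    have hmin : m ∈ (Module.annihilator A A).minimalPrimes := by
      have h0 : Module.annihilator A A = ⊥ := by
        rw [Module.annihilator_eq_bot]
        infer_instance
      rw [h0]
      refine ⟨⟨hm.isPrime, bot_le⟩, fun q hq hle => ?_⟩
      have := hq.1
      have hqm : q.IsMaximal := IsArtinianRing.isMaximal_of_isPrime q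
      exact (hqm.eq_of_le hm.ne_top hle).ge
    have hass := Module.associatedPrimes.minimalPrimes_annihilator_subset_associatedPrimes A A hmin
    obtain ⟨-, j, hj⟩ := (isAssociatedPrime_iff_exists_injective_linearMap m A).1 hass
    let g : Ω[A⁄k] →ₗ[A] A := j ∘ₗ e.toLinearMap ∘ₗ N.mkQ
    have hg : g = 0 := by
      have h1 := Subsingleton.elim (KaehlerDifferential.linearMapEquivDerivation k A g) 0
      rwa [LinearEquiv.map_eq_zero_iff] at h1
    refine hN.1 ?_
    rw [eq_top_iff]
    intro x _
    have h2 : j (e (N.mkQ x)) = 0 := LinearMap.congr_fun hg x
    rw [map_eq_zero_iff j hj, LinearEquiv.map_eq_zero_iff] at h2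
    exact (Submodule.Quotient.mk_eq_zero N).1 h2
  · intro hred
    have := K91.FinAlg.formallyEtale k A
    have h0 : Subsingleton (Ω[A⁄k]) := inferInstance
    exact (KaehlerDifferential.linearMapEquivDerivation k A (M := A)).symm.injective.subsingleton

end Groth.Agent.S17321
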