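import Groth.Statements.S17323
import Groth.Agent.CAlg.K91.FinAlg

set_option autoImplicit false
universe u v
open CAlg

namespace Groth.Agent.S17323

/-- Let k be an algebraically closed field and A a commutative k-algebra which is finite-dimensional as
a k-vector space. Then A has a largest reduced subalgebra: a k-subalgebra B which is reduced and
contains every reduced k-subalgebra of A; moreover the composite of the inclusion B → A with the
projection A → A/nilradical(A) is bijective. -/
theorem result (k : Type u) [Field k] [IsAlgClosed k]
    (A : Type v) [CommRing A] [Algebra k A] [Module.Finite k A] :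
    ∃ B : Subalgebra k A, IsReduced ↥B ∧ (∀ C : Subalgebra k A, IsReduced ↥C → C ≤ B) ∧
      Function.Bijective ((Ideal.Quotient.mkₐ k (nilradical A)).comp B.val) := by
  obtain ⟨s, hs⟩ := K91.FinAlg.exists_section k A
  have hred := K91.FinAlg.isReduced_quotient A
  have hs' : ∀ x, Ideal.Quotient.mkₐ k (nilradical A) (s x) = x := fun x => DFunLike.congr_fun hs x
  have hinj : Function.Injective s := fun x y h => by rw [← hs' x, ← hs' y, h]
  refine ⟨s.range, ?_, ?_, ?_, ?_⟩
  · exact isReduced_of_injective (AlgEquiv.ofInjective s hinj).symm
      (AlgEquiv.ofInjective s hinj).symm.injective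
  · intro C hC x hx
    have hfin : Module.Finite k C := inferInstance
    have h := K91.FinAlg.eq_of_comp_eq k A (C := C) (f := C.val)
      (g := s.comp ((Ideal.Quotient.mkₐ k (nilradical A)).comp C.val)) (by
        ext y
        simp only [AlgHom.coe_comp, Function.comp_apply]
        exact (hs' _).symm)
    exact ⟨_, (DFunLike.congr_fun h ⟨x, hx⟩).symm⟩
  · rintro ⟨x, a, rfl⟩ ⟨y, b, rfl⟩ h
    have h' : Ideal.Quotient.mkₐ k (nilradical A) (s a) =
      Ideal.Quotient.mkₐ k (nilradical A) (s b) := h
    rw [hs', hs'] at h'
    subst h'
    rfl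
  · intro y
    exact ⟨⟨s y, y, rfl⟩, hs' y⟩

end Groth.Agent.S17323
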