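import Groth.Statements.S17324
import Groth.Agent.CAlg.K91.FinAlg
import Mathlib.RingTheory.LocalRing.ResidueField.Basic

set_option autoImplicit false
universe u v
open CAlg

namespace Groth.Agent.S17324

/-- (i) ⟺ (ii): let k be an algebraically closed field, A a commutative k-algebra which is
finite-dimensional as a k-vector space and is a local ring with maximal ideal m, and a_1, …, a_m ∈
m. Then A is generated as a k-algebra by a_1, …, a_m if and only if m is generated as an ideal by
a_1, …, a_m. (The printed lemma has a third equivalent condition, that the images of the a_i span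
m/m²; its equivalence with (ii) is Nakayama's lemma.) -/
theorem result (k : Type u) [Field k] [IsAlgClosed k]
    (A : Type v) [CommRing A] [Algebra k A] [Module.Finite k A] [IsLocalRing A]
    (m : ℕ) (a : Fin m → A) (ha : ∀ i, a i ∈ IsLocalRing.maximalIdeal A) :
    Algebra.adjoin k (Set.range a) = ⊤ ↔ Ideal.span (Set.range a) = IsLocalRing.maximalIdeal A := by
  have hart : IsArtinianRing A := IsArtinianRing.of_finite k A
  have hb : Function.Surjective (algebraMap k (A ⧸ IsLocalRing.maximalIdeal A)) :=
    (IsAlgClosed.algebraMap_bijective_of_isIntegral).2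
  have hdec : ∀ x : A, ∃ c : k, x - algebraMap k A c ∈ IsLocalRing.maximalIdeal A := by
    intro x
    obtain ⟨c, hc⟩ := hb (Ideal.Quotient.mk _ x)
    refine ⟨c, ?_⟩
    rw [← Ideal.Quotient.eq_zero_iff_mem, map_sub, ← hc, sub_eq_zero]
    rfl
  constructor
  · intro h
    apply le_antisymm
    · rw [Ideal.span_le]
      rintro _ ⟨i, rfl⟩
      exact ha i
    · have key : ∀ x ∈ Algebra.adjoin k (Set.range a),
          ∃ c : k, x - algebraMap k A c ∈ Ideal.span (Set.range a) := by
        intro x hx
        induction hx using Algebra.adjoin_induction with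
        | mem x hx => exact ⟨0, by simpa using Ideal.subset_span hx⟩
        | algebraMap r => exact ⟨r, by simp⟩
        | add x y _ _ hx hy =>
          obtain ⟨c, hc⟩ := hx
          obtain ⟨d, hd⟩ := hy
          refine ⟨c + d, ?_⟩
          have := Ideal.add_mem _ hc hd
          rw [map_add]
          convert this using 1
          ring
        | mul x y _ _ hx hy =>
          obtain ⟨c, hc⟩ := hx
          obtain ⟨d, hd⟩ := hy
          refine ⟨c * d, ?_⟩
          have := Ideal.add_mem _ (Ideal.mul_mem_right y _ hc)
            (Ideal.mul_mem_left _ (algebraMap k A c) hd)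
          rw [map_mul]
          convert this using 1
          ring
      intro x hx
      obtain ⟨c, hc⟩ := key x (h ▸ Algebra.mem_top)
      have hle : Ideal.span (Set.range a) ≤ IsLocalRing.maximalIdeal A := by
        rw [Ideal.span_le]
        rintro _ ⟨i, rfl⟩
        exact ha i
      have h1 : algebraMap k A c ∈ IsLocalRing.maximalIdeal A := by
        have := Ideal.sub_mem _ hx (hle hc)
        simpa using this
      have h2 : c = 0 := by
        by_contra hne
        exact (IsLocalRing.mem_maximalIdeal _).1 h1 ((IsUnit.mk0 c hne).map (algebraMap k A))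
      simpa [h2] using hc
  · intro h
    have key : ∀ n : ℕ, ∀ x : A, ∃ b ∈ Algebra.adjoin k (Set.range a),
        x - b ∈ IsLocalRing.maximalIdeal A ^ n := by
      intro n
      induction n with
      | zero => exact fun x => ⟨0, Subalgebra.zero_mem _, by simp⟩
      | succ n ih =>
        have hm : ∀ y ∈ IsLocalRing.maximalIdeal A, ∃ b ∈ Algebra.adjoin k (Set.range a),
            y - b ∈ IsLocalRing.maximalIdeal A ^ (n + 1) := by
          intro y hy
          rw [← h, Ideal.span, Submodule.mem_span_range_iff_exists_fun] at hy
          obtain ⟨c, hc⟩ := hy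
          choose b hb hb' using ih
          refine ⟨∑ i, b (c i) * a i, Subalgebra.sum_mem _ fun i _ =>
            Subalgebra.mul_mem _ (hb _) (Algebra.subset_adjoin ⟨i, rfl⟩), ?_⟩
          rw [← hc, ← Finset.sum_sub_distrib]
          refine Ideal.sum_mem _ fun i _ => ?_
          rw [smul_eq_mul, ← sub_mul, pow_succ]
          exact Ideal.mul_mem_mul (hb' _) (ha i)
        intro x
        obtain ⟨c, hc⟩ := hdec x
        obtain ⟨b, hb, hb'⟩ := hm _ hc
        refine ⟨algebraMap k A c + b, Subalgebra.add_mem _ (Subalgebra.algebraMap_mem _ _) hb, ?_⟩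
        rw [← sub_sub]
        exact hb'
    obtain ⟨n, hn⟩ : IsNilpotent (IsLocalRing.maximalIdeal A) := by
      have := IsArtinianRing.isNilpotent_jacobson_bot (R := A)
      rwa [IsLocalRing.jacobson_eq_maximalIdeal ⊥ bot_ne_top] at this
    rw [Algebra.eq_top_iff]
    intro x
    obtain ⟨b, hb, hb'⟩ := key n x
    rw [hn, Ideal.zero_eq_bot, Ideal.mem_bot, sub_eq_zero] at hb'
    rw [hb']
    exact hb

end Groth.Agent.S17324
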