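import Groth.Statements.S17326
import Groth.Agent.CAlg.K91.FinAlg

set_option autoImplicit false
universe u v
open CAlg

namespace Groth.Agent.S17326

/-- Let k be an algebraically closed field of characteristic p > 0, A a commutative k-algebra which is
finite-dimensional as a k-vector space (a finite k-scheme X), and n ≥ 1. The n-th iterated relative
Frobenius morphism X → X^(p^n) is an isomorphism if and only if X is reduced; on rings: the map a ↦
a^(p^n) of A to itself (which is the ring homomorphism underlying the relative Frobenius, the twist
A^(p^n) having the same underlying ring as A) is bijective if and only if A is reduced. -/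
theorem result (k : Type u) [Field k] [IsAlgClosed k]
    (p : ℕ) [Fact p.Prime] [CharP k p] (A : Type v) [CommRing A] [Algebra k A] [Module.Finite k A]
    (n : ℕ) (hn : 1 ≤ n) :
    Function.Bijective (fun a : A => a ^ p ^ n) ↔ IsReduced A := by
  constructor
  · intro h
    have key : ∀ (m : ℕ) (a : A), a ^ (p ^ n) ^ m = 0 → a = 0 := by
      intro m
      induction m with
      | zero => intro a ha; simpa using ha
      | succ m ih =>
        intro a ha
        rw [pow_succ, pow_mul] at ha
        refine ih a (h.1 ?_)
        simp only
        rw [ha, zero_pow]
        exact pow_ne_zero _ (Fact.out : p.Prime).ne_zero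
    refine ⟨fun a ⟨m, hm⟩ => key m a ?_⟩
    have h1 : 1 < p ^ n := Nat.one_lt_pow (by omega) (Fact.out : p.Prime).one_lt
    have h2 : m ≤ (p ^ n) ^ m := (Nat.lt_pow_self h1).le
    exact pow_eq_zero_of_le h2 hm
  · intro hred
    have hb := K91.FinAlg.bijective_eval k A
    have hp : Fact p.Prime := inferInstance
    have hpn : p ^ n ≠ 0 := pow_ne_zero _ (Fact.out : p.Prime).ne_zero
    have hinjk : ∀ x y : k, x ^ p ^ n = y ^ p ^ n → x = y := by
      intro x y hxy
      exact iterateFrobenius_inj k p n (by simpa [iterateFrobenius_def] using hxy)
    constructor
    · intro a b hab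
      simp only at hab
      refine hb.1 ?_
      funext f
      refine hinjk _ _ ?_
      have := congrArg f hab
      simpa using this
    · intro a
      have hroot : ∀ f : A →ₐ[k] k, ∃ c : k, c ^ p ^ n = f a := fun f =>
        IsAlgClosed.exists_pow_nat_eq (f a) (Nat.pos_of_ne_zero hpn)
      choose c hc using hroot
      obtain ⟨b, hb'⟩ := hb.2 c
      refine ⟨b, hb.1 ?_⟩
      funext f
      simp only
      rw [map_pow, hb']
      exact hc f

end Groth.Agent.S17326
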