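import Groth.Statements.S17327
import Groth.Agent.Hopf.K503.AugUnram

set_option autoImplicit false
universe u v
open Hopf

namespace Groth.Agent.S17327

/-- Let k be an algebraically closed field of characteristic p > 0, A a commutative Hopf algebra over k
which is finite-dimensional as a k-vector space (a finite group scheme G = Spec A), I the
augmentation ideal (kernel of the counit) and n ≥ 1. The n-th Frobenius kernel G_n is the closed
subgroup scheme cut out by the ideal generated by the p^n-th powers f^(p^n), f ∈ I; it is trivial,
i.e. that ideal equals I, if and only if G is reduced. -/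
theorem result (k : Type u) [Field k] [IsAlgClosed k]
    (p : ℕ) [Fact p.Prime] [CharP k p] (A : Type v) [CommRing A] [HopfAlgebra k A] [Module.Finite k A]
    (n : ℕ) (hn : 1 ≤ n) :
    Ideal.span ((fun f : A => f ^ p ^ n) '' (RingHom.ker (Bialgebra.counitAlgHom k A) : Set A)) =
      RingHom.ker (Bialgebra.counitAlgHom k A) ↔ IsReduced A := by
  have hp := (Fact.out : p.Prime)
  constructor
  · intro h
    have h2 : RingHom.ker (Bialgebra.counitAlgHom k A) ^ 2 = RingHom.ker (Bialgebra.counitAlgHom k A) := by
      apply le_antisymm (Ideal.pow_le_self two_ne_zero)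
      conv_lhs => rw [← h]
      rw [Ideal.span_le]
      rintro _ ⟨f, hf, rfl⟩
      have h3 : 2 ≤ p ^ n := le_trans hp.two_le (Nat.le_self_pow (by omega) p)
      exact Ideal.pow_le_pow_right h3 (Ideal.pow_mem_pow hf _)
    have := K503.AugUnram.etale_of_sq_eq h2
    exact Algebra.FormallyUnramified.isReduced_of_field k A
  · intro h
    have : IsArtinianRing A := IsArtinianRing.of_finite k A
    have : IsSemisimpleRing A := IsArtinianRing.isSemisimpleRing_of_isReduced A
    obtain ⟨e, he, hI⟩ := IsSemisimpleRing.ideal_eq_span_idempotent (RingHom.ker (Bialgebra.counitAlgHom k A))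
    apply le_antisymm
    · rw [Ideal.span_le]
      rintro _ ⟨f, hf, rfl⟩
      exact Ideal.pow_mem_of_mem _ hf _ (pow_pos hp.pos _)
    · have h1 : e ∈ RingHom.ker (Bialgebra.counitAlgHom k A) := by
        rw [hI]; exact Ideal.mem_span_singleton_self e
      have h2 : e ∈ Ideal.span ((fun f : A => f ^ p ^ n) '' (RingHom.ker (Bialgebra.counitAlgHom k A) : Set A)) :=
        Ideal.subset_span ⟨e, h1, he.pow_eq (pow_ne_zero _ hp.ne_zero)⟩
      intro x hx
      rw [hI, Ideal.mem_span_singleton] at hx
      exact Ideal.mem_of_dvd _ hx h2

end Groth.Agent.S17327
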