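import Groth.Statements.S17329
import Groth.Agent.Hopf.K503.QuotCoact

set_option autoImplicit false
universe u v
open scoped TensorProduct
open Hopf

namespace Groth.Agent.S17329

/-- Let k be an algebraically closed field, A a commutative Hopf algebra over k which is
finite-dimensional as a k-vector space (a finite group scheme G = Spec A), and I a Hopf ideal of A
(a subgroup scheme H = Spec (A/I) of G, of order dim_k (A/I)). Let B ⊆ A be the k-subalgebra of
functions invariant under right multiplication by H: the equaliser of the two algebra maps A → A ⊗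
(A/I), a ↦ (id ⊗ π)(Δ a) and a ↦ a ⊗ 1, so that Spec B is the quotient G/H. Then the quotient
morphism G → G/H is finite locally free of rank |H|: A is a free B-module of rank dim_k (A/I) (B
being a finite product of local rings, locally free of constant rank is the same as free of that
rank). -/
theorem result (k : Type u) [Field k] [IsAlgClosed k]
    (A : Type v) [CommRing A] [HopfAlgebra k A] [Module.Finite k A] (I : Ideal A) [I.IsHopfIdeal k] :
    Module.Free
        ↥(AlgHom.equalizer
          ((Algebra.TensorProduct.map (AlgHom.id k A) (Ideal.Quotient.mkₐ k I)).comp (Bialgebra.comulAlgHom k A))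
          (Algebra.TensorProduct.includeLeft : A →ₐ[k] A ⊗[k] (A ⧸ I))) A ∧
      Module.finrank
        ↥(AlgHom.equalizer
          ((Algebra.TensorProduct.map (AlgHom.id k A) (Ideal.Quotient.mkₐ k I)).comp (Bialgebra.comulAlgHom k A))
          (Algebra.TensorProduct.includeLeft : A →ₐ[k] A ⊗[k] (A ⧸ I))) A =
        Module.finrank k (A ⧸ I) := by
  have hπ : Function.Surjective (Bialgebra.Quotient.mkBialgHom (R := k) I) := Ideal.Quotient.mk_surjective
  obtain ⟨b⟩ := K503.QuotCoact.nonempty_basis (Bialgebra.Quotient.mkBialgHom (R := k) I) hπ
  have h1 : Module.Free (K503.QuotCoact.B (Bialgebra.Quotient.mkBialgHom (R := k) I)) A := Module.Free.of_basis b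
  have : Nontrivial (K503.QuotCoact.B (Bialgebra.Quotient.mkBialgHom (R := k) I)) := by
    refine ⟨0, 1, fun h => ?_⟩
    have := congrArg (Bialgebra.counitAlgHom k A) (congrArg Subtype.val h)
    change Bialgebra.counitAlgHom k A 0 = Bialgebra.counitAlgHom k A 1 at this
    rw [map_zero, map_one] at this
    exact zero_ne_one this
  refine ⟨h1, ?_⟩
  have h2 := Module.finrank_eq_card_basis b
  rw [Fintype.card_fin] at h2
  exact h2

end Groth.Agent.S17329
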