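import Groth.Statements.S17332
import Mathlib.LinearAlgebra.Pi
import Mathlib.Algebra.BigOperators.Pi

set_option autoImplicit false
universe u v w
open CAlg

namespace Groth.Agent.S17332

/-- Let k be a field, E and F finite sets, and O(E), O(F) the k-algebras of k-valued functions with
pointwise operations. Then every k-algebra homomorphism u : O(F) → O(E) is pull-back along a unique
map φ : E → F, i.e. u(g) = g ∘ φ for all g. (In the source k is algebraically closed; the printed
argument only uses that k is a field.) -/
theorem result (k : Type u) [Field k] (E : Type v) [Finite E]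
    (F : Type w) [Finite F] (u : (F → k) →ₐ[k] (E → k)) :
    ∃! φ : E → F, ∀ g : F → k, u g = g ∘ φ := by
  classical
  cases nonempty_fintype F
  have hex : ∀ e : E, ∃ f : F, u (Pi.single f 1) e ≠ 0 := by
    intro e
    by_contra hcon
    push Not at hcon
    have h1 : u (∑ f : F, Pi.single f 1) e = 0 := by
      rw [map_sum, Finset.sum_apply]
      exact Finset.sum_eq_zero fun f _ => hcon f
    have h2 : (∑ f : F, Pi.single f (1 : k)) = 1 := by
      have := Finset.univ_sum_single (1 : F → k)
      simpa using this
    rw [h2, map_one] at h1
    exact one_ne_zero h1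
  choose φ hφ using hex
  have hmain : ∀ g : F → k, u g = g ∘ φ := by
    intro g
    funext e
    have h1 : g * Pi.single (φ e) 1 = g (φ e) • Pi.single (φ e) (1 : k) := by
      funext f
      by_cases hf : f = φ e
      · subst hf; simp
      · simp [Pi.single_eq_of_ne hf]
    have h2 := congrFun (congrArg u h1) e
    rw [map_mul, map_smul, Pi.mul_apply, Pi.smul_apply, smul_eq_mul] at h2
    exact mul_right_cancel₀ (hφ e) h2
  refine ⟨φ, hmain, ?_⟩
  intro ψ hψ
  funext e
  have h1 := congrFun ((hψ (Pi.single (φ e) 1)).symm.trans (hmain (Pi.single (φ e) 1))) e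
  simp only [Function.comp_apply, Pi.single_eq_same] at h1
  by_contra hne
  rw [Pi.single_eq_of_ne hne] at h1
  exact zero_ne_one h1

end Groth.Agent.S17332
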