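import Groth.Statements.S17333
-- import your own Groth.Agent.* helpers here

set_option autoImplicit false
universe u v w
open CAlg

namespace Groth.Agent.S17333

/-- Let k be a field and A = B × C a decomposable commutative k-algebra. Then the natural map Der(B) ×
Der(C) → Der(A) is bijective: every k-derivation D : A → A is (b, c) ↦ (D₁ b, D₂ c) for a unique
pair of k-derivations D₁ : B → B, D₂ : C → C. Compatibility with brackets is not stated. (The
published statement takes k algebraically closed; this row takes any field.) -/
theorem result (k : Type u) [Field k] (B : Type v) [CommRing B] [Algebra k B]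
    (C : Type w) [CommRing C] [Algebra k C] (D : Derivation k (B × C) (B × C)) :
    ∃! P : Derivation k B B × Derivation k C C, ∀ (b : B) (c : C), D (b, c) = (P.1 b, P.2 c) := by
  have key : ∀ (e : B × C), e * e = e → D e = 0 := by
    intro e he
    have h1 : D e = e • D e + e • D e := by
      conv_lhs => rw [← he]
      exact D.leibniz e e
    have h2 : e • D e = e • D e + e • D e := by
      conv_lhs => rw [h1]
      rw [smul_add, smul_smul, he]
    have h3 : e • D e = 0 := by simpa using h2
    rw [h1, h3, add_zero]
  have h10 : D ((1, 0) : B × C) = 0 := key _ (by simp)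
  have h01 : D ((0, 1) : B × C) = 0 := key _ (by simp)
  have hb : ∀ b : B, D ((b, 0) : B × C) = ((D ((b, 0) : B × C)).1, 0) := by
    intro b
    have : D (((b, 0) : B × C) * (1, 0)) =
        ((b, 0) : B × C) • D ((1, 0) : B × C) + ((1, 0) : B × C) • D ((b, 0) : B × C) := D.leibniz _ _
    rw [h10, smul_zero, zero_add] at this
    simp only [Prod.mk_mul_mk, mul_one, mul_zero] at this
    conv_lhs => rw [this]
    ext <;> simp
  have hc : ∀ c : C, D ((0, c) : B × C) = (0, (D ((0, c) : B × C)).2) := by
    intro c
    have : D (((0, c) : B × C) * (0, 1)) =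
        ((0, c) : B × C) • D ((0, 1) : B × C) + ((0, 1) : B × C) • D ((0, c) : B × C) := D.leibniz _ _
    rw [h01, smul_zero, zero_add] at this
    simp only [Prod.mk_mul_mk, mul_one, mul_zero] at this
    conv_lhs => rw [this]
    ext <;> simp
  refine ⟨(⟨{ toFun := fun b => (D ((b, 0) : B × C)).1, map_add' := ?_, map_smul' := ?_ }, ?_, ?_⟩,
    ⟨{ toFun := fun c => (D ((0, c) : B × C)).2, map_add' := ?_, map_smul' := ?_ }, ?_, ?_⟩), ?_, ?_⟩
  · intro x y
    have : ((x + y, 0) : B × C) = (x, 0) + (y, 0) := by simp
    rw [this, map_add]; rfl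
  · intro r x
    have : ((r • x, 0) : B × C) = r • ((x, 0) : B × C) := by simp
    rw [this, D.map_smul]; rfl
  · exact congrArg Prod.fst h10
  · intro x y
    have : ((x * y, 0) : B × C) = (x, 0) * (y, 0) := by simp
    simp only [LinearMap.coe_mk, AddHom.coe_mk]
    rw [this, D.leibniz]; rfl
  · intro x y
    have : ((0, x + y) : B × C) = (0, x) + (0, y) := by simp
    rw [this, map_add]; rfl
  · intro r x
    have : ((0, r • x) : B × C) = r • ((0, x) : B × C) := by simp
    rw [this, D.map_smul]; rfl
  · exact congrArg Prod.snd h01
  · intro x y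
    have : ((0, x * y) : B × C) = (0, x) * (0, y) := by simp
    simp only [LinearMap.coe_mk, AddHom.coe_mk]
    rw [this, D.leibniz]; rfl
  · intro b c
    have : ((b, c) : B × C) = (b, 0) + (0, c) := by simp
    rw [this, map_add, hb b, hc c]
    simp
  · rintro ⟨P, Q⟩ h
    simp only at h
    refine Prod.ext ?_ ?_
    · ext b
      have := h b 0
      simp [this]
    · ext c
      have := h 0 c
      simp [this]

end Groth.Agent.S17333
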