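import Groth.Statements.S17334
import Mathlib.RingTheory.Artinian.Ring
import Mathlib.RingTheory.Nilpotent.Basic
import Mathlib.RingTheory.Nilpotent.Lemmas
import Mathlib.RingTheory.LocalRing.Basic

set_option autoImplicit false
universe u v
open CAlg

namespace Groth.Agent.S17334

/-- Let k be a field and A a nonzero commutative k-algebra which is finite-dimensional as a k-vector
space. Then A is indecomposable (no decomposition as a product of two nonzero rings, i.e. no
idempotent other than 0 and 1) if and only if A is a local ring. (In the source k is algebraically
closed and the lemma adds that the maximal ideal is then the nilradical, is nilpotent, and has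
residue field k; the equivalence itself uses only that k is a field, and the zero algebra is
excluded here explicitly.) -/
theorem result (k : Type u) [Field k]
    (A : Type v) [CommRing A] [Algebra k A] [Module.Finite k A] [Nontrivial A] :
    (∀ e : A, IsIdempotentElem e → e = 0 ∨ e = 1) ↔ IsLocalRing A := by
  have : IsArtinianRing A := IsArtinianRing.of_finite k A
  constructor
  · intro h
    refine IsLocalRing.of_isUnit_or_isUnit_one_sub_self fun x => ?_
    obtain ⟨n, y, hy⟩ := IsArtinian.exists_pow_succ_smul_dvd x (1 : A)
    simp only [smul_eq_mul, mul_one] at hy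
    have hstep : ∀ m : ℕ, x ^ (n + m) * y ^ m = x ^ n := by
      intro m
      induction m with
      | zero => simp
      | succ m ih =>
        calc x ^ (n + (m + 1)) * y ^ (m + 1) = (x ^ (n + 1) * y) * (x ^ m * y ^ m) := by ring
          _ = x ^ (n + m) * y ^ m := by rw [hy]; ring
          _ = x ^ n := ih
    have hid : IsIdempotentElem (x ^ n * y ^ n) := by
      unfold IsIdempotentElem
      calc x ^ n * y ^ n * (x ^ n * y ^ n) = (x ^ (n + n) * y ^ n) * y ^ n := by ring
        _ = x ^ n * y ^ n := by rw [hstep]
    rcases h _ hid with h0 | h1
    · right
      have hx : x ^ n = 0 := by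
        rw [← hstep n]
        calc x ^ (n + n) * y ^ n = x ^ n * (x ^ n * y ^ n) := by ring
          _ = 0 := by rw [h0, mul_zero]
      exact IsNilpotent.isUnit_one_sub ⟨n, hx⟩
    · left
      by_cases hn : n = 0
      · subst hn
        simp only [pow_one, pow_zero] at hy
        exact IsUnit.of_mul_eq_one y hy
      · refine IsUnit.of_mul_eq_one (x ^ (n - 1) * y ^ n) ?_
        rw [← mul_assoc, ← pow_succ', Nat.sub_add_cancel (Nat.pos_of_ne_zero hn)]
        exact h1
  · intro h e he
    rcases IsLocalRing.isUnit_or_isUnit_one_sub_self e with h1 | h1
    · right
      exact h1.mul_left_cancel (by rw [mul_one]; exact he)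
    · left
      have : (1 - e) * e = 0 := by rw [sub_mul, one_mul, he, sub_self]
      exact (h1.mul_right_eq_zero).1 this

end Groth.Agent.S17334
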