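import Groth.Statements.S17338
import Groth.Agent.PLie.K796.DualLie

set_option autoImplicit false
universe u v
open Hopf

namespace Groth.Agent.S17338

/-- Let k be an algebraically closed field of characteristic p > 0 and (L, x ↦ x^[p]) a
finite-dimensional restricted Lie algebra over k. Then L is the Lie algebra of an infinitesimal
group scheme of height at most one: there are a commutative Hopf algebra A over k,
finite-dimensional as a k-vector space, with f^p = 0 for every f in the augmentation ideal, and an
injective k-linear map e from L to the k-derivations of A whose image is exactly the set of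
left-invariant derivations (those D with Δ ∘ D = (id ⊗ D) ∘ Δ), such that e takes brackets to
commutators of derivations and x^[p] to the p-th power of e(x) as an endomorphism of A. (The
assignment G ↦ Lie(G) is moreover fully faithful on height ≤ 1 groups; that half is not stated
here.) -/
theorem result (k : Type u) [Field k]
    [IsAlgClosed k] (p : ℕ) [Fact p.Prime] [CharP k p]
    (L : Type u) [LieRing L] [LieAlgebra k L] [Module.Finite k L] (φ : PLie.PMap k p L) :
    ∃ (A : Type u) (_ : CommRing A) (_ : HopfAlgebra k A), Module.Finite k A ∧
      (∀ f : A, Bialgebra.counitAlgHom k A f = 0 → f ^ p = 0) ∧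
      ∃ e : L →ₗ[k] Derivation k A A, Function.Injective e ∧
        Set.range e = {D : Derivation k A A | CoalgebraStruct.comul (R := k) (A := A) ∘ₗ D.toLinearMap =
          LinearMap.lTensor A D.toLinearMap ∘ₗ CoalgebraStruct.comul (R := k) (A := A)} ∧
        (∀ x y : L, e ⁅x, y⁆ = ⁅e x, e y⁆) ∧
        (∀ x : L, (e (φ x)).toLinearMap = (e x).toLinearMap ^ p) := by
  have hfin : Module.Finite k (K796.Restr.Ru φ) := K796.Restr.finite_Ru φ
  refine ⟨K796.DualLie.DA φ, inferInstance, inferInstance, inferInstance, ?_, K796.DualLie.e φ,
    K796.DualLie.e_injective φ, ?_, K796.DualLie.e_lie φ, K796.DualLie.e_pmap φ⟩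
  · intro f hf
    exact K796.DualLie.pow_p_eq_zero φ f hf
  · ext D
    constructor
    · rintro ⟨x, rfl⟩
      exact K796.DualLie.leftInv φ _ (K796.Restr.ιu φ x) (fun f c => K796.DualLie.e_apply φ x f c)
    · intro hD
      exact K796.DualLie.exists_of_leftInv φ D hD

end Groth.Agent.S17338
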