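import Groth.Statements.S17339
import Groth.Agent.AdjLin.K801.Stmt
-- import your own Groth.Agent.* helpers here

set_option autoImplicit false
universe u
open CategoryTheory CategoryTheory.Limits AlgebraicGeometry
open AdjLin

namespace Groth.Agent.S17339

/-- Let k be an algebraically closed field of characteristic zero and X a smooth projective surface over
k (an irreducible proper smooth k-scheme of dimension 2 with an ample invertible O_X-module); let ω
be a second exterior power of Ω_{X/k} (the canonical module), L a numerically effective invertible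
O_X-module (non-negative degree on every integral curve in X) with a tensor inverse L⁻¹ and
self-intersection number (L²) ≥ 5, the latter computed as the alternating sum of Euler
characteristics attached to two copies of L⁻¹. If x is a closed point of X at which every global
section of L ⊗ ω vanishes (a base point of the adjoint series), then there is an effective Cartier
divisor D through x, given by a quasi-coherent ideal I_D locally generated by a single
nonzerodivisor and whose co-support contains x, such that either (L·D) = 0 and (D·D) = −1, or (L·D)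
= 1 and (D·D) = 0; here the intersection numbers with D are the alternating sums of Euler
characteristics in which the ideal I_D ≅ O_X(−D) plays the role of the inverse of O_X(D). -/
theorem result (k : Type u) [Field k] [IsAlgClosed k] [CharZero k]
    (X : Scheme.{u}) [X.Over (Spec (CommRingCat.of k))] [IsProper (X ↘ (Spec (CommRingCat.of k)))]
    [Smooth (X ↘ (Spec (CommRingCat.of k)))] [IrreducibleSpace X] (hdim : topologicalKrullDim X = 2)
    (H : X.Modules) (hH : CohB1.IsAmple H)
    (L Linv : X.Modules) (hL : PicF.IsInvertible L) (hLinv : ClSub.IsInverseOf Linv L)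
    (hnef : (∀ (C : Scheme.{u}) (i : C ⟶ X) [IsClosedImmersion i], IsIntegral C → topologicalKrullDim C = 1 →
      0 ≤ Pic13.curveDeg k (i ≫ (X ↘ (Spec (CommRingCat.of k)))) ((Scheme.Modules.pullback i).obj L)))
    (hself : 5 ≤ FGA.intNum k X 2 (fun _ : Fin 2 => Linv) (Coh.structureModule X))
    (ω : X.Modules) (hω : ExtPow.IsExtPow 2 (Omega.sheaf (X ↘ (Spec (CommRingCat.of k)))) ω)
    (x : X) (hx : IsClosed ({x} : Set X))
    (hbase : ∀ σ : Coh.structureModule X ⟶ CohB1.tensorMod L ω,
      x ∈ (PicF2.zeroScheme (CohB1.tensorMod L ω) σ).support) :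
    ∃ I : X.IdealSheafData, FGA.IsEffCartier I ∧ x ∈ I.support ∧
      ((FGA.intNum k X 2 ![Linv, ClSub.idealMod I] (Coh.structureModule X) = 0 ∧
          FGA.intNum k X 2 ![ClSub.idealMod I, ClSub.idealMod I] (Coh.structureModule X) = -1) ∨
        (FGA.intNum k X 2 ![Linv, ClSub.idealMod I] (Coh.structureModule X) = 1 ∧
          FGA.intNum k X 2 ![ClSub.idealMod I, ClSub.idealMod I] (Coh.structureModule X) = 0)) := by
  have hInt := K801.Stmt.isIntegral k X
  have hnef' := K801.Stmt.nef k hdim hL hnef
  rw [K801.Stmt.intNum_inv_inv' hdim hL hLinv] at hself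
  have hωi : PicF.IsInvertible ω := by
    have := K801.BlowY.smoothOfRel (k := k) hdim
    exact K455.Canon.isInvertible (X ↘ Spec (CommRingCat.of k)) 2 hω
  obtain ⟨D, hD, hxD, h, -, -⟩ := K801.Reider.main hdim hH hL hnef' hself hω x hx (fun σ =>
    (Groth.Agent.Pi1C.ZeroScheme.mem_support_iff σ (Fdesc.LocGen.isInvertible_tensorMod hL hωi) x).1 (hbase σ))
  refine ⟨D, K464.Base.isEff_iff.2 hD, hxD, ?_⟩
  rw [K801.Stmt.intNum_inv_ic hdim hL hLinv hD, K801.Stmt.intNum_ic_ic hdim hD]
  rcases h with ⟨h1, h2⟩ | ⟨h1, h2⟩
  · exact Or.inl ⟨by rw [h1]; rfl, h2⟩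
  · exact Or.inr ⟨by rw [h1]; rfl, h2⟩


end Groth.Agent.S17339
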