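import Groth.Statements.S17340
import Groth.Agent.AdjLin.K671.IsoMult
import Groth.Agent.Flat2C.BlowExist

set_option autoImplicit false
universe u
open CategoryTheory CategoryTheory.Limits AlgebraicGeometry
open AdjLin

namespace Groth.Agent.S17340

/-- Let k be an algebraically closed field of characteristic zero and X a smooth projective surface over
k (irreducible, proper and smooth of dimension 2, with an ample invertible module), ω a second
exterior power of Ω_{X/k}, and L a nef invertible O_X-module with tensor inverse L⁻¹ and positive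
self-intersection (L nef and big). Fix a closed point x with ideal sheaf m_x, integers s ≥ 0 and m >
0, and an effective Cartier divisor D in the linear series of L^{⊗m}: a quasi-coherent ideal I_D
locally generated by one nonzerodivisor with L^{⊗m} ⊗ I_D ≅ O_X. Suppose q is a natural number with
(s + 2) m < q such that D has multiplicity at least q at x, meaning that the stalk of I_D at x is
contained in the q-th power of the maximal ideal of O_{X,x}, and such that on some open
neighbourhood U of x every point y ≠ x of U (closed points as well as generic points of curves)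
satisfies (s + 2) n < q whenever the stalk of I_D at y is contained in the n-th power of the maximal
ideal of O_{X,y} (the multiplicity of D near x, off x, is less than q/(s+2)). Then H^1(X, m_x^(s+1)
⊗ (L ⊗ ω)) = 0, so that the adjoint series of L generates s-jets at x. -/
theorem result (k : Type u) [Field k] [IsAlgClosed k] [CharZero k]
    (X : Scheme.{u}) [X.Over (Spec (CommRingCat.of k))] [IsProper (X ↘ (Spec (CommRingCat.of k)))]
    [Smooth (X ↘ (Spec (CommRingCat.of k)))] [IrreducibleSpace X] (hdim : topologicalKrullDim X = 2)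
    (H : X.Modules) (hH : CohB1.IsAmple H)
    (L Linv : X.Modules) (hL : PicF.IsInvertible L) (hLinv : ClSub.IsInverseOf Linv L)
    (hnef : (∀ (C : Scheme.{u}) (i : C ⟶ X) [IsClosedImmersion i], IsIntegral C → topologicalKrullDim C = 1 →
      0 ≤ Pic13.curveDeg k (i ≫ (X ↘ (Spec (CommRingCat.of k)))) ((Scheme.Modules.pullback i).obj L)))
    (hbig : 0 < FGA.intNum k X 2 (fun _ : Fin 2 => Linv) (Coh.structureModule X))
    (ω : X.Modules) (hω : ExtPow.IsExtPow 2 (Omega.sheaf (X ↘ (Spec (CommRingCat.of k)))) ω)
    (x : X) (hx : IsClosed ({x} : Set X)) (s m : ℕ) (hm : 0 < m)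
    (I : X.IdealSheafData) (hI : FGA.IsEffCartier I)
    (hIL : ClSub.IsInverseOf (CohB1.tensorPow L m) (ClSub.idealMod I))
    (q : ℕ) (hq : (s + 2) * m < q)
    (hqx : (∀ (V : X.affineOpens) (hyV : x ∈ (V : X.Opens)),
        (I.ideal V).map (X.presheaf.germ V x hyV).hom ≤ (IsLocalRing.maximalIdeal (X.presheaf.stalk x)) ^ q))
    (U : X.Opens) (hxU : x ∈ U)
    (hU : ∀ y : X, y ∈ U → y ≠ x → ∀ n : ℕ, (∀ (V : X.affineOpens) (hyV : y ∈ (V : X.Opens)),
        (I.ideal V).map (X.presheaf.germ V y hyV).hom ≤ (IsLocalRing.maximalIdeal (X.presheaf.stalk y)) ^ n) → (s + 2) * n < q) :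
    Subsingleton (Coh.HH X (CohB1.tensorMod (ClSub.idealMod ((W4c2seshadripos.pointIdeal x hx) ^ (s + 1)))
      (CohB1.tensorMod L ω)) 1) := by
  have := K801.SmDim.isIntegral_of_smooth k X
  have hd := hdim.le
  obtain ⟨Y, f, hbl⟩ := Groth.Agent.Flat2C.BlowExist.exists_isBlowUp (W4c2seshadripos.pointIdeal x hx)
  let _ : Y.Over (Spec (CommRingCat.of k)) := ⟨f ≫ (X ↘ Spec (CommRingCat.of k))⟩
  have hf : f ≫ (X ↘ Spec (CommRingCat.of k)) = Y ↘ Spec (CommRingCat.of k) := rfl
  refine K671.IsoMult.main k hdim hf hbl hH hω hL ((K801.Bridge.nef_iff k hd hL).1 hnef) ?_ s m q hq (I := I) hI ?_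
    (K671.Mult.germ_iff.1 hqx) U hxU (fun y hy hyx n h => hU y hy hyx n (K671.Mult.germ_iff.2 h))
  · rw [← K671.JetMain.intNum_inv k hd hL hLinv]
    exact hbig
  · rw [← Grpsch.PicGrp.mk_tensorPow hL, K464.Base.ic, Grpsch.PicGrp.mk_mul_mk, Grpsch.PicGrp.mk_eq_one_iff]
    exact hIL

end Groth.Agent.S17340
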