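import Groth.Statements.S17341
import Groth.Agent.S18043
import Groth.Agent.AdjLin.K464.RedPts
import Groth.Agent.AdjLin.K802.ZeroIso

set_option autoImplicit false
universe u
open CategoryTheory CategoryTheory.Limits AlgebraicGeometry
open AdjLin

namespace Groth.Agent.S17341

open Groth.Agent

/-- Let k be an algebraically closed field of characteristic zero and X a smooth projective surface over
k (irreducible, proper, smooth of dimension 2, with an ample invertible module), ω a second exterior
power of Ω_{X/k}, L an invertible O_X-module and Z ⊆ X a finite set of closed points, viewed as a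
reduced finite subscheme with ideal sheaf I_Z (the vanishing ideal of the closed set Z). Then the
following are equivalent: (a) there are a locally free O_X-module E of rank 2, a section s : O_X → E
and a map E → L ⊗ I_Z making 0 → O_X → E → L ⊗ I_Z → 0 a short exact sequence (the Koszul complex of
a rank-2 bundle of determinant L with a section vanishing exactly on Z); (b) for every point z of Z,
every global section of L ⊗ ω whose zero scheme contains all the other points of Z also vanishes at
z. -/
theorem result (k : Type u) [Field k] [IsAlgClosed k] [CharZero k]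
    (X : Scheme.{u}) [X.Over (Spec (CommRingCat.of k))] [IsProper (X ↘ (Spec (CommRingCat.of k)))]
    [Smooth (X ↘ (Spec (CommRingCat.of k)))] [IrreducibleSpace X] (hdim : topologicalKrullDim X = 2)
    (H : X.Modules) (hH : CohB1.IsAmple H)
    (L : X.Modules) (hL : PicF.IsInvertible L)
    (ω : X.Modules) (hω : ExtPow.IsExtPow 2 (Omega.sheaf (X ↘ (Spec (CommRingCat.of k)))) ω)
    (Z : Finset X) (hZc : IsClosed ((Z : Set X))) (hZ : ∀ z ∈ Z, IsClosed ({z} : Set X)) :
    (∃ (E : X.Modules) (sE : Coh.structureModule X ⟶ E)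
        (p : E ⟶ CohB1.tensorMod L (ClSub.idealMod (Scheme.IdealSheafData.vanishingIdeal ⟨(Z : Set X), hZc⟩)))
        (w : sE ≫ p = 0), FlatMod.IsFinLocFreeOfRank 2 E ∧ (ShortComplex.mk sE p w).ShortExact) ↔
      (∀ z ∈ Z, ∀ σ : Coh.structureModule X ⟶ CohB1.tensorMod L ω,
        (∀ z' ∈ Z, z' ≠ z → z' ∈ (PicF2.zeroScheme (CohB1.tensorMod L ω) σ).support) →
          z ∈ (PicF2.zeroScheme (CohB1.tensorMod L ω) σ).support) := by
  have hnoe : IsNoetherian X := K802.SurfBase.isNoetherian (X ↘ (Spec (CommRingCat.of k)))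
  have hint : IsIntegral X := K802.GoodPoint.isIntegral_of_smooth (X ↘ (Spec (CommRingCat.of k)))
  have hO : PicF.IsInvertible (Coh.structureModule X) := Fdesc.LocGen.isInvertible_structureModule
  have hωi : PicF.IsInvertible ω := K802.CBTwist.isInvertible_omega k X hdim ω hω
  let κ : CohB1.tensorMod (CohB1.tensorMod L (Coh.structureModule X)) ω ≅ CohB1.tensorMod L ω :=
    Ega2.Tens.mapTIso (Ega2.Tens.runit L) (Iso.refl ω)
  have hLO : PicF.IsInvertible (CohB1.tensorMod (CohB1.tensorMod L (Coh.structureModule X)) ω) := 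
    Fdesc.LocGen.isInvertible_tensorMod (Fdesc.LocGen.isInvertible_tensorMod hL hO) hωi
  have hLω : PicF.IsInvertible (CohB1.tensorMod L ω) := Fdesc.LocGen.isInvertible_tensorMod hL hωi
  have h1 := Groth.Agent.S18043.result k X hdim H hH ω hω (Coh.structureModule X) (Coh.structureModule X) L hO
    ⟨Ega2.Tens.runit _⟩ hL (Scheme.IdealSheafData.vanishingIdeal ⟨(Z : Set X), hZc⟩) (by
      rw [Scheme.IdealSheafData.coe_support_vanishingIdeal]; exact Z.finite_toSet)
    (K464.RedPts.lci Z hZc hZ fun z hz => K802.GoodPoint.stalk_closedPoint (X ↘ (Spec (CommRingCat.of k))) hdim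
      (hZ z hz))
  refine h1.trans ⟨fun h z hz σ hσ => ?_, fun h I' hI' σ hσ => ?_⟩
  · refine (K464.RedPts.covBy_iff Z hZc hZ _).1 (fun I' hI' hK => ?_) z hz hσ
    have h3 : PicF2.zeroScheme _ (σ ≫ κ.inv) = PicF2.zeroScheme _ σ :=
      K802.ZeroIso.zeroScheme_comp_iso hLω hLO σ κ.symm
    have h2 := h I' hI' (σ ≫ κ.inv) (by rw [h3]; exact hK)
    rwa [h3] at h2
  · refine (K464.RedPts.covBy_iff Z hZc hZ _).2 (fun z hz hK => ?_) I' hI' hσ
    have h3 := K802.ZeroIso.zeroScheme_comp_iso hLO hLω σ κ
    rw [← h3] at hK ⊢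
    exact h z hz (σ ≫ κ.hom) hK

end Groth.Agent.S17341
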