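import Groth.Statements.S17342
import Groth.Agent.LocPos.K924.SeshNef
import Groth.Agent.LocPos.K924.SurfFacts
-- import your own Groth.Agent.* helpers here

set_option autoImplicit false
universe u
open CategoryTheory CategoryTheory.Limits AlgebraicGeometry
open LocPos

namespace Groth.Agent.S17342


/-- Let k be an algebraically closed field of characteristic zero, X a smooth projective surface over k
(irreducible, proper, smooth of dimension 2, with an ample invertible module), L a nef invertible
O_X-module, x a closed point with ideal sheaf m_x and f : Y → X a blow-up of X at x over k, with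
exceptional ideal I_E = m_x · O_Y. For a real number ε ≥ 0 the following are equivalent: (a) the
ℝ-divisor class f^*L − ε E is nef, i.e. deg(f^*L|_{C'}) + ε · deg(I_E|_{C'}) ≥ 0 for every integral
one-dimensional closed subscheme C' ⊆ Y, degrees being χ(M|_{C'}) − χ(O_{C'}); (b) for every
integral one-dimensional closed subscheme C ⊆ X passing through x and every n such that the stalk at
x of the ideal of C is contained in the n-th power of the maximal ideal of O_{X,x} (that is,
mult_x(C) ≥ n), one has ε · n ≤ deg(L|_C). In other words the Seshadri constant of L at x, the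
supremum of the ε with f^*L − εE nef, is the infimum of (L·C)/mult_x(C) over the integral curves C
through x. -/
theorem result (k : Type u) [Field k] [IsAlgClosed k] [CharZero k]
    (X : Scheme.{u}) [X.Over (Spec (CommRingCat.of k))] [IsProper (X ↘ (Spec (CommRingCat.of k)))]
    [Smooth (X ↘ (Spec (CommRingCat.of k)))] [IrreducibleSpace X] (hdim : topologicalKrullDim X = 2)
    (H : X.Modules) (hH : CohB1.IsAmple H)
    (L : X.Modules) (hL : PicF.IsInvertible L)
    (hnef : (∀ (C : Scheme.{u}) (i : C ⟶ X) [IsClosedImmersion i], IsIntegral C → topologicalKrullDim C = 1 →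
      0 ≤ Pic13.curveDeg k (i ≫ (X ↘ (Spec (CommRingCat.of k)))) ((Scheme.Modules.pullback i).obj L)))
    (x : X) (hx : IsClosed ({x} : Set X))
    (Y : Scheme.{u}) [Y.Over (Spec (CommRingCat.of k))] (f : Y ⟶ X) (hf : f ≫ (X ↘ (Spec (CommRingCat.of k))) = Y ↘ (Spec (CommRingCat.of k)))
    (hbl : BlowUp.IsBlowUp f (W4c2seshadripos.pointIdeal x hx))
    (ε : ℝ) (hε : 0 ≤ ε) :
    (∀ (C : Scheme.{u}) (i : C ⟶ Y) [IsClosedImmersion i], IsIntegral C → topologicalKrullDim C = 1 →
      (0 : ℝ) ≤ (Pic13.curveDeg k (i ≫ (Y ↘ (Spec (CommRingCat.of k))))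
          ((Scheme.Modules.pullback i).obj ((Scheme.Modules.pullback f).obj L)) : ℝ) +
        ε * (Pic13.curveDeg k (i ≫ (Y ↘ (Spec (CommRingCat.of k))))
          ((Scheme.Modules.pullback i).obj
            (ClSub.idealMod (BlowUp.exceptional f (W4c2seshadripos.pointIdeal x hx)))) : ℝ)) ↔
    (∀ (C : Scheme.{u}) (j : C ⟶ X) [IsClosedImmersion j], IsIntegral C → topologicalKrullDim C = 1 →
      x ∈ Set.range (fun c : C => j.base c) → ∀ n : ℕ,
        (∀ (V : X.affineOpens) (hxV : x ∈ (V : X.Opens)),
          (j.ker.ideal V).map (X.presheaf.germ V x hxV).hom ≤ (IsLocalRing.maximalIdeal (X.presheaf.stalk x)) ^ n) →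
        ε * (n : ℝ) ≤ (Pic13.curveDeg k (j ≫ (X ↘ (Spec (CommRingCat.of k)))) ((Scheme.Modules.pullback j).obj L) : ℝ)) := by
  have hXi : IsIntegral X := K924.SurfFacts.isIntegral_of_smooth k (X ↘ (Spec (CommRingCat.of k)))
  constructor
  · intro ha C j hj hCi hC _ n hn
    obtain ⟨Z, i, hi, hZi, v, hZ1, h5, h6, h7⟩ :=
      K924.SeshNef.exists_strict k hdim f hf x hx hbl hL C j hC
    have h := ha Z i hZi hZ1
    have h6' : Pic13.curveDeg k (i ≫ (Y ↘ (Spec (CommRingCat.of k))))
          ((Scheme.Modules.pullback i).obj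
            (ClSub.idealMod (BlowUp.exceptional f (W4c2seshadripos.pointIdeal x hx)))) = - (v : ℤ) := h6
    rw [h5, h6'] at h
    have hnv : n ≤ v := by
      refine (h7 n).mp ?_
      obtain ⟨V, hV, hxV, -⟩ := exists_isAffineOpen_mem_and_subset (x := x) (U := ⊤) trivial
      have h8 := hn ⟨V, hV⟩ hxV
      rw [Groth.Agent.Divis.CartierBasic.stalkIdeal_eq j.ker ⟨V, hV⟩ hxV]
      exact h8
    have hnv' : (n : ℝ) ≤ v := by exact_mod_cast hnv
    have h9 : ε * (n : ℝ) ≤ ε * v := mul_le_mul_of_nonneg_left hnv' hε
    push_cast at h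
    linarith
  · intro hb Z i hi hZi hZ1
    have hcases := K924.SeshNef.curve_cases k hdim f hf x hx hbl hL Z i hZ1
    rcases hcases with ⟨h5, h6⟩ | ⟨C, j, hj, hCi, v, hC, h5, h6, h7⟩
    · have h6' : Pic13.curveDeg k (i ≫ (Y ↘ (Spec (CommRingCat.of k))))
          ((Scheme.Modules.pullback i).obj
            (ClSub.idealMod (BlowUp.exceptional f (W4c2seshadripos.pointIdeal x hx)))) = 1 := h6
      rw [h5, h6']
      simpa using hε
    · have h6' : Pic13.curveDeg k (i ≫ (Y ↘ (Spec (CommRingCat.of k))))
          ((Scheme.Modules.pullback i).obj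
            (ClSub.idealMod (BlowUp.exceptional f (W4c2seshadripos.pointIdeal x hx)))) = - (v : ℤ) := h6
      rw [h5, h6']
      push_cast
      by_cases hv : v = 0
      · have h8 := hnef C j hCi hC
        have h9 : (0 : ℝ) ≤ (Pic13.curveDeg k (j ≫ (X ↘ (Spec (CommRingCat.of k))))
          ((Scheme.Modules.pullback j).obj L) : ℝ) := by exact_mod_cast h8
        rw [hv]
        simpa using h9
      · have h8 := (h7 v).mpr le_rfl
        have hxC : x ∈ Set.range (fun c : C => j.base c) := by
          by_contra hcon
          have h9 : x ∉ j.ker.support := by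
            rw [Groth.Agent.Dix.VertGeom.mem_support_ker_iff]
            exact hcon
          rw [Groth.Agent.Divis.CartierBasic.notMem_support_iff_stalkIdeal_eq_top] at h9
          rw [h9, top_le_iff] at h8
          obtain ⟨m, rfl⟩ := Nat.exists_eq_succ_of_ne_zero hv
          have h10 : IsLocalRing.maximalIdeal (X.presheaf.stalk x) = ⊤ := by
            rw [← top_le_iff, ← h8, Nat.succ_eq_add_one, pow_succ]
            exact Ideal.mul_le_right
          exact Ideal.IsPrime.ne_top' h10
        have h9 := hb C j hCi hC hxC v (by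
          intro V hxV
          rw [Groth.Agent.Divis.CartierBasic.stalkIdeal_eq j.ker V hxV] at h8
          exact h8)
        linarith

end Groth.Agent.S17342
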