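import Groth.Statements.S17343
import Groth.Agent.AdjLin.K801.GGen
-- import your own Groth.Agent.* helpers here

set_option autoImplicit false
universe u
open CategoryTheory CategoryTheory.Limits AlgebraicGeometry
open AdjLin

namespace Groth.Agent.S17343

/-- Let k be an algebraically closed field of characteristic zero and X a smooth projective surface over
k (irreducible, proper, smooth of dimension 2, with an ample invertible module) which is minimal of
general type, expressed here by asking that a second exterior power ω of Ω_{X/k} (the canonical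
module, with tensor inverse ω⁻¹) be numerically effective with self-intersection (K_X · K_X) ≥ 1,
the self-intersection being the alternating sum of Euler characteristics attached to two copies of
ω⁻¹. Then the pluricanonical module ω^{⊗m} is globally generated (a quotient of a free O_X-module)
provided m ≥ 4, or m ≥ 3 and (K_X · K_X) ≥ 2. (The source states the hypothesis as minimality; its
argument uses exactly that K_X is nef and big.) -/
theorem result (k : Type u) [Field k] [IsAlgClosed k] [CharZero k]
    (X : Scheme.{u}) [X.Over (Spec (CommRingCat.of k))] [IsProper (X ↘ (Spec (CommRingCat.of k)))]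
    [Smooth (X ↘ (Spec (CommRingCat.of k)))] [IrreducibleSpace X] (hdim : topologicalKrullDim X = 2)
    (H : X.Modules) (hH : CohB1.IsAmple H)
    (ω ωinv : X.Modules) (hω : ExtPow.IsExtPow 2 (Omega.sheaf (X ↘ (Spec (CommRingCat.of k)))) ω)
    (hωi : PicF.IsInvertible ω) (hωinv : ClSub.IsInverseOf ωinv ω)
    (hnef : (∀ (C : Scheme.{u}) (i : C ⟶ X) [IsClosedImmersion i], IsIntegral C → topologicalKrullDim C = 1 →
      0 ≤ Pic13.curveDeg k (i ≫ (X ↘ (Spec (CommRingCat.of k)))) ((Scheme.Modules.pullback i).obj ω)))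
    (hK2 : 1 ≤ FGA.intNum k X 2 (fun _ : Fin 2 => ωinv) (Coh.structureModule X))
    (m : ℕ) (hm : 4 ≤ m ∨ (3 ≤ m ∧ 2 ≤ FGA.intNum k X 2 (fun _ : Fin 2 => ωinv) (Coh.structureModule X))) :
    Curv2.IsGloballyGenerated (CohB1.tensorPow ω m) := by
  have hInt := K801.Stmt.isIntegral k X
  have h2 := hdim.le
  have hnef' := K801.Stmt.nef k hdim hωi hnef
  rw [K801.Stmt.intNum_inv_inv' hdim hωi hωinv] at hK2 hm
  obtain ⟨n, rfl⟩ : ∃ n, m = n + 1 := ⟨m - 1, by omega⟩
  have hLi : PicF.IsInvertible (CohB1.tensorPow ω n) := Fdesc.LocGen.isInvertible_tensorPow hωi n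
  have hcl : Grpsch.PicGrp.mk _ hLi = Grpsch.PicGrp.mk ω hωi ^ n := Grpsch.PicGrp.mk_tensorPow hωi n
  set κ := Grpsch.PicGrp.mk ω hωi with hκ
  have hn2 : (2 : ℤ) ≤ n := by omega
  have hgg : Curv2.IsGloballyGenerated (CohB1.tensorMod (CohB1.tensorPow ω n) ω) := by
    refine K801.GGen.isGloballyGenerated (k := k) hdim hH hLi (fun D hD => ?_) ?_ hω (fun D hD hne h => ?_)
    · rw [hcl, K464.Curves.degOn_pow k hD]
      exact mul_nonneg (by omega) (hnef' D hD)
    · rw [hcl, K464.Base.dot_pow_left k X h2, K464.Base.dot_pow_right k X h2]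
      rcases hm with h4 | ⟨h3, h4⟩
      · have h5 : (3 : ℤ) ≤ n := by omega
        have h6 : (3 : ℤ) * 1 ≤ n * K464.Base.dot k X κ κ := mul_le_mul h5 hK2 (by norm_num) (by omega)
        have h7 : (3 : ℤ) * (3 * 1) ≤ n * (n * K464.Base.dot k X κ κ) := mul_le_mul h5 h6 (by norm_num) (by omega)
        linarith
      · have h6 : (2 : ℤ) * 2 ≤ n * K464.Base.dot k X κ κ := mul_le_mul hn2 h4 (by norm_num) (by omega)
        have h7 : (2 : ℤ) * (2 * 2) ≤ n * (n * K464.Base.dot k X κ κ) := mul_le_mul hn2 h6 (by norm_num) (by omega)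
        linarith
    · rw [hcl, K464.Base.dot_pow_left k X h2] at h
      have hev := K801.GGen.even (k := k) hdim hω hωi (K464.Base.ic D hD)
      rw [← hκ, K464.Base.dot_comm k X (K464.Base.ic D hD) κ] at hev
      rcases h with ⟨h3, h4⟩ | ⟨h3, h4⟩
      · have h5 : K464.Base.dot k X κ (K464.Base.ic D hD) = 0 := by
          rcases mul_eq_zero.1 h3 with h6 | h6
          · omega
          · exact h6
        rw [h4, h5] at hev
        exact absurd hev (by decide)
      · have h6 : (n : ℤ) ∣ 1 := ⟨- K464.Base.dot k X κ (K464.Base.ic D hD), by linarith⟩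
        have := Int.le_of_dvd one_pos h6
        omega
  exact hgg


end Groth.Agent.S17343
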