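import Groth.Statements.S17345
import Groth.Agent.AdjLin.K671.JetMain

set_option autoImplicit false
universe u
open CategoryTheory CategoryTheory.Limits AlgebraicGeometry
open AdjLin

namespace Groth.Agent.S17345

/-- Let k be an algebraically closed field of characteristic zero, X a smooth projective surface over k
(irreducible, proper, smooth of dimension 2, with an ample invertible module), ω a second exterior
power of Ω_{X/k}, L an ample invertible O_X-module with tensor inverse L⁻¹, x a closed point with
ideal sheaf m_x, s ≥ 0 an integer and f : Y → X a blow-up of X at x over k with exceptional ideal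
I_E = m_x · O_Y. Suppose that the class f^*L − (s + 2) E is nef, i.e. deg(f^*L|_{C'}) + (s + 2) ·
deg(I_E|_{C'}) ≥ 0 for every integral one-dimensional closed subscheme C' ⊆ Y (the Seshadri constant
of L at x is at least s + 2), and that (L²) > (s + 2)², the self-intersection being the alternating
sum of Euler characteristics attached to two copies of L⁻¹. Then the adjoint module L ⊗ ω separates
s-jets at x: H^0(X, L ⊗ ω) → H^0(X, (L ⊗ ω) ⊗ O_X/m_x^(s+1)) is surjective. (This single statement
covers the source's three assertions: when the Seshadri constant exceeds s + 2 the inequality (L²) >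
(s + 2)² holds automatically.) -/
theorem result (k : Type u) [Field k] [IsAlgClosed k] [CharZero k]
    (X : Scheme.{u}) [X.Over (Spec (CommRingCat.of k))] [IsProper (X ↘ (Spec (CommRingCat.of k)))]
    [Smooth (X ↘ (Spec (CommRingCat.of k)))] [IrreducibleSpace X] (hdim : topologicalKrullDim X = 2)
    (H : X.Modules) (hH : CohB1.IsAmple H)
    (L Linv : X.Modules) (hL : CohB1.IsAmple L) (hLinv : ClSub.IsInverseOf Linv L)
    (ω : X.Modules) (hω : ExtPow.IsExtPow 2 (Omega.sheaf (X ↘ (Spec (CommRingCat.of k)))) ω)
    (x : X) (hx : IsClosed ({x} : Set X)) (s : ℕ)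
    (Y : Scheme.{u}) [Y.Over (Spec (CommRingCat.of k))] (f : Y ⟶ X) (hf : f ≫ (X ↘ (Spec (CommRingCat.of k))) = Y ↘ (Spec (CommRingCat.of k)))
    (hbl : BlowUp.IsBlowUp f (W4c2seshadripos.pointIdeal x hx))
    (hnefY : (∀ (C : Scheme.{u}) (i : C ⟶ Y) [IsClosedImmersion i], IsIntegral C → topologicalKrullDim C = 1 →
      (0 : ℝ) ≤ (Pic13.curveDeg k (i ≫ (Y ↘ (Spec (CommRingCat.of k))))
          ((Scheme.Modules.pullback i).obj ((Scheme.Modules.pullback f).obj L)) : ℝ) +
        ((s : ℝ) + 2) * (Pic13.curveDeg k (i ≫ (Y ↘ (Spec (CommRingCat.of k))))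
          ((Scheme.Modules.pullback i).obj
            (ClSub.idealMod (BlowUp.exceptional f (W4c2seshadripos.pointIdeal x hx)))) : ℝ)))
    (hsq : ((s : ℤ) + 2) ^ 2 < FGA.intNum k X 2 (fun _ : Fin 2 => Linv) (Coh.structureModule X)) :
    W4c2seshadripos.SeparatesJets (CohB1.tensorMod L ω) x hx s := by
  have := K801.SmDim.isIntegral_of_smooth k X
  have hd : topologicalKrullDim X ≤ (2 : ℕ) := hdim.le
  rw [K671.JetMain.intNum_inv k hd hL.1 hLinv] at hsq
  refine K671.JetMain.separates k hdim hH hf hbl hω hL.1 s hsq
    (K671.JetMain.nef_of_hyp k hdim hf hbl hL.1 (s + 2) fun C i _ h1 h2 => ?_)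
  have h3 := hnefY C i h1 h2
  push_cast
  exact h3

end Groth.Agent.S17345
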