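import Groth.Statements.S17347
import Groth.Agent.AdjLin.K801.GGen
-- import your own Groth.Agent.* helpers here

set_option autoImplicit false
universe u
open CategoryTheory CategoryTheory.Limits AlgebraicGeometry
open AdjLin

namespace Groth.Agent.S17347

/-- Let k be an algebraically closed field of characteristic zero, X a smooth projective surface over k
(irreducible, proper, smooth of dimension 2, with an ample invertible module), ω a second exterior
power of Ω_{X/k} and A an ample invertible O_X-module. Then A^{⊗3} ⊗ ω, the module of the adjoint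
divisor K_X + 3A, is globally generated (a quotient of a free O_X-module). The very-ampleness half
of the corollary, K_X + 4A, is not included. -/
theorem result (k : Type u) [Field k] [IsAlgClosed k] [CharZero k]
    (X : Scheme.{u}) [X.Over (Spec (CommRingCat.of k))] [IsProper (X ↘ (Spec (CommRingCat.of k)))]
    [Smooth (X ↘ (Spec (CommRingCat.of k)))] [IrreducibleSpace X] (hdim : topologicalKrullDim X = 2)
    (H : X.Modules) (hH : CohB1.IsAmple H)
    (ω : X.Modules) (hω : ExtPow.IsExtPow 2 (Omega.sheaf (X ↘ (Spec (CommRingCat.of k)))) ω)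
    (A : X.Modules) (hA : CohB1.IsAmple A) :
    Curv2.IsGloballyGenerated (CohB1.tensorMod (CohB1.tensorPow A 3) ω) := by
  have hInt := K801.Stmt.isIntegral k X
  have hA3 : PicF.IsInvertible (CohB1.tensorPow A 3) := Fdesc.LocGen.isInvertible_tensorPow hA.1 3
  have hcl : Grpsch.PicGrp.mk _ hA3 = Grpsch.PicGrp.mk A hA.1 ^ 3 := Grpsch.PicGrp.mk_tensorPow hA.1 3
  have h2 := hdim.le
  have hpos := K801.DotForm.dot_ample_pos (k := k) hdim hA
  refine K801.GGen.isGloballyGenerated (k := k) hdim hA hA3 (fun D hD => ?_) ?_ hω (fun D hD hne h => ?_)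
  · have h1 := K464.Curves.degOn_pos_of_ample k hD hA.1 hA
    rw [hcl, K464.Curves.degOn_pow k hD]
    positivity
  · rw [hcl, K464.Base.dot_pow_left k X h2, K464.Base.dot_pow_right k X h2]
    push_cast
    linarith
  · have h1 := K464.Comp.degOn_pos_of_ample_eff k hdim hA.1 hA hD hne
    rw [K464.Curves.degOn_eq_neg_dot k X hD, K464.Base.dot_comm] at h1
    rw [hcl, K464.Base.dot_pow_left k X h2] at h
    push_cast at h
    omega


end Groth.Agent.S17347
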