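import Groth.Statements.S17349
import Groth.Agent.AdjLin.K671.JetMain

set_option autoImplicit false
universe u
open CategoryTheory CategoryTheory.Limits AlgebraicGeometry
open AdjLin

namespace Groth.Agent.S17349

/-- Let k be an algebraically closed field of characteristic zero, X a smooth projective surface over k
(irreducible, proper, smooth of dimension 2, with an ample invertible module), ω a second exterior
power of Ω_{X/k}, A an ample invertible O_X-module, x a closed point with ideal sheaf m_x and f : Y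
→ X a blow-up of X at x over k with exceptional ideal I_E. If the class f^*A − E is nef, that is
deg(f^*A|_{C'}) + deg(I_E|_{C'}) ≥ 0 for every integral one-dimensional closed subscheme C' ⊆ Y (the
Seshadri constant of A at x is at least 1), then for every s ≥ 0 the module A^{⊗(s+3)} ⊗ ω separates
s-jets at x: H^0(X, A^{⊗(s+3)} ⊗ ω) → H^0(X, (A^{⊗(s+3)} ⊗ ω) ⊗ O_X/m_x^(s+1)) is surjective. -/
theorem result (k : Type u) [Field k] [IsAlgClosed k] [CharZero k]
    (X : Scheme.{u}) [X.Over (Spec (CommRingCat.of k))] [IsProper (X ↘ (Spec (CommRingCat.of k)))]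
    [Smooth (X ↘ (Spec (CommRingCat.of k)))] [IrreducibleSpace X] (hdim : topologicalKrullDim X = 2)
    (H : X.Modules) (hH : CohB1.IsAmple H)
    (ω : X.Modules) (hω : ExtPow.IsExtPow 2 (Omega.sheaf (X ↘ (Spec (CommRingCat.of k)))) ω)
    (A : X.Modules) (hA : CohB1.IsAmple A)
    (x : X) (hx : IsClosed ({x} : Set X))
    (Y : Scheme.{u}) [Y.Over (Spec (CommRingCat.of k))] (f : Y ⟶ X) (hf : f ≫ (X ↘ (Spec (CommRingCat.of k))) = Y ↘ (Spec (CommRingCat.of k)))
    (hbl : BlowUp.IsBlowUp f (W4c2seshadripos.pointIdeal x hx))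
    (hnefY : (∀ (C : Scheme.{u}) (i : C ⟶ Y) [IsClosedImmersion i], IsIntegral C → topologicalKrullDim C = 1 →
      (0 : ℝ) ≤ (Pic13.curveDeg k (i ≫ (Y ↘ (Spec (CommRingCat.of k))))
          ((Scheme.Modules.pullback i).obj ((Scheme.Modules.pullback f).obj A)) : ℝ) +
        (1 : ℝ) * (Pic13.curveDeg k (i ≫ (Y ↘ (Spec (CommRingCat.of k))))
          ((Scheme.Modules.pullback i).obj
            (ClSub.idealMod (BlowUp.exceptional f (W4c2seshadripos.pointIdeal x hx)))) : ℝ))) (s : ℕ) :
    W4c2seshadripos.SeparatesJets (CohB1.tensorMod (CohB1.tensorPow A (s + 3)) ω) x hx s := by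
  have := K801.SmDim.isIntegral_of_smooth k X
  have hd : topologicalKrullDim X ≤ (2 : ℕ) := hdim.le
  have hAi := hA.1
  have hpow := Fdesc.LocGen.isInvertible_tensorPow hAi (s + 3)
  refine K671.JetMain.separates k hdim hH hf hbl hω hpow s ?_ fun C hC => ?_
  · rw [Grpsch.PicGrp.mk_tensorPow hAi, K464.Base.dot_pow_left k X hd, K464.Base.dot_pow_right k X hd]
    have h1 := K801.DotForm.dot_ample_pos (k := k) hdim hA
    push_cast
    have h2 : (0 : ℤ) ≤ s := Int.natCast_nonneg s
    nlinarith [mul_nonneg h2 h2, mul_pos h1 h1]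
  · have := K671.BlowSurf.proper k hdim hf hbl
    have h1 := K671.JetMain.nef_of_hyp k hdim hf hbl hAi 1 (fun C i _ h1 h2 => by
      have h3 := hnefY C i h1 h2
      simpa using h3) C hC
    have h2 := K671.JetMain.nef_pull k hdim hf hbl hAi
      (fun D hD => (K464.Curves.degOn_pos_of_ample k hD hAi hA).le) C hC
    have h3 : Grpsch.PicGrp.pull f (Grpsch.PicGrp.mk (CohB1.tensorPow A (s + 3)) hpow) *
        K671.JetMain.exc hbl ^ (s + 2) = (Grpsch.PicGrp.pull f (Grpsch.PicGrp.mk A hAi) *
          K671.JetMain.exc hbl ^ 1) ^ (s + 2) * Grpsch.PicGrp.pull f (Grpsch.PicGrp.mk A hAi) := by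
      rw [Grpsch.PicGrp.mk_tensorPow hAi, map_pow, pow_one, mul_pow, pow_succ (n := s + 2)]
      ac_rfl
    rw [h3, K464.Curves.degOn_mul k hC, K464.Curves.degOn_pow k hC]
    exact add_nonneg (mul_nonneg (by positivity) h1) h2

end Groth.Agent.S17349
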