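import Groth.Statements.S17350
import Groth.Agent.AdjLin.K671.IsolDiv

set_option autoImplicit false
universe u
open CategoryTheory CategoryTheory.Limits AlgebraicGeometry
open AdjLin

namespace Groth.Agent.S17350

/-- Let k be an algebraically closed field of characteristic zero, X a smooth projective surface over k
(irreducible, proper, smooth of dimension 2, with an ample invertible module), x a closed point, s ≥
0 an integer and L a nef invertible O_X-module with tensor inverse L⁻¹ such that (L²) ≥ (s + 2)² +
1, the self-intersection being the alternating sum of Euler characteristics attached to two copies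
of L⁻¹, and (L·C) ≥ s² + 3s + 3 for every integral one-dimensional closed subscheme C ⊆ X containing
x. Then for every sufficiently large m there is an effective Cartier divisor D in the linear series
of L^{⊗m} (a quasi-coherent ideal I_D locally generated by one nonzerodivisor, with L^{⊗m} ⊗ I_D ≅
O_X) whose multiplicity at x is at least m (s + 2), in the sense that the stalk of I_D at x lies in
the m(s+2)-th power of the maximal ideal of O_{X,x}, and which has multiplicity less than m at every
point y ≠ x of some open neighbourhood U of x: whenever the stalk of I_D at such a y lies in the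
n-th power of the maximal ideal of O_{X,y}, n < m. (The published statement asks for multiplicity
strictly greater than m (s + 2) at x; the printed argument establishes the version with ≥, which is
the one stated here, and indicates the modification for the strict form without details.) -/
theorem result (k : Type u) [Field k] [IsAlgClosed k] [CharZero k]
    (X : Scheme.{u}) [X.Over (Spec (CommRingCat.of k))] [IsProper (X ↘ (Spec (CommRingCat.of k)))]
    [Smooth (X ↘ (Spec (CommRingCat.of k)))] [IrreducibleSpace X] (hdim : topologicalKrullDim X = 2)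
    (H : X.Modules) (hH : CohB1.IsAmple H)
    (L Linv : X.Modules) (hL : PicF.IsInvertible L) (hLinv : ClSub.IsInverseOf Linv L)
    (hnef : (∀ (C : Scheme.{u}) (i : C ⟶ X) [IsClosedImmersion i], IsIntegral C → topologicalKrullDim C = 1 →
      0 ≤ Pic13.curveDeg k (i ≫ (X ↘ (Spec (CommRingCat.of k)))) ((Scheme.Modules.pullback i).obj L)))
    (x : X) (hx : IsClosed ({x} : Set X)) (s : ℕ)
    (hsq : ((s : ℤ) + 2) ^ 2 + 1 ≤ FGA.intNum k X 2 (fun _ : Fin 2 => Linv) (Coh.structureModule X))
    (hdeg : ∀ (C : Scheme.{u}) (j : C ⟶ X) [IsClosedImmersion j], IsIntegral C → topologicalKrullDim C = 1 →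
      x ∈ Set.range (fun c : C => j.base c) →
        (s : ℤ) ^ 2 + 3 * s + 3 ≤ Pic13.curveDeg k (j ≫ (X ↘ (Spec (CommRingCat.of k)))) ((Scheme.Modules.pullback j).obj L)) :
    ∃ m₀ : ℕ, ∀ m : ℕ, m₀ ≤ m → ∃ I : X.IdealSheafData, FGA.IsEffCartier I ∧
      ClSub.IsInverseOf (CohB1.tensorPow L m) (ClSub.idealMod I) ∧
      (∀ (V : X.affineOpens) (hyV : x ∈ (V : X.Opens)),
        (I.ideal V).map (X.presheaf.germ V x hyV).hom ≤ (IsLocalRing.maximalIdeal (X.presheaf.stalk x)) ^ (m * (s + 2))) ∧
      ∃ U : X.Opens, x ∈ U ∧ ∀ y : X, y ∈ U → y ≠ x → ∀ n : ℕ, (∀ (V : X.affineOpens) (hyV : y ∈ (V : X.Opens)),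
        (I.ideal V).map (X.presheaf.germ V y hyV).hom ≤ (IsLocalRing.maximalIdeal (X.presheaf.stalk y)) ^ n) → n < m := by
  have := K801.SmDim.isIntegral_of_smooth k X
  have hnoeth : IsLocallyNoetherian X := LocallyOfFiniteType.isLocallyNoetherian (X ↘ Spec (CommRingCat.of k))
  have hd := hdim.le
  obtain ⟨m₀, h⟩ := K671.IsolDiv.main k hdim hH hL ((K801.Bridge.nef_iff k hd hL).1 hnef) x hx s
    (by rw [← K671.JetMain.intNum_inv k hd hL hLinv]; exact hsq) (fun C hC hxC => by
      have hd1 : topologicalKrullDim C.subscheme = 1 := (K464.Curves.dim_sub X C).trans hC.dim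
      have h1 := hdeg C.subscheme C.subschemeι hC.integral hd1 (by
        have h2 : x ∈ Set.range C.subschemeι := by
          rw [Scheme.IdealSheafData.range_subschemeι]
          exact hxC
        exact h2)
      rw [K801.Bridge.curveDeg_eq k hd C.subschemeι hd1 hL, Scheme.IdealSheafData.ker_subschemeι] at h1
      exact h1)
  refine ⟨m₀, fun m hm => ?_⟩
  obtain ⟨I, hI, h1, h2, U, hxU, h3⟩ := h m hm
  refine ⟨I, hI, ?_, K671.Mult.germ_iff.2 h2, U, hxU, fun y hy hyx n h4 =>
    h3 y hy hyx n (K671.Mult.germ_iff.1 h4)⟩
  rw [← Grpsch.PicGrp.mk_tensorPow hL, K464.Base.ic, Grpsch.PicGrp.mk_mul_mk, Grpsch.PicGrp.mk_eq_one_iff] at h1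
  exact h1

end Groth.Agent.S17350
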