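import Groth.Statements.S17359
import Groth.Agent.AzInv.K925.Conj
import Groth.Agent.AzInv.K925.LocConst

set_option autoImplicit false
universe u w
open scoped TensorProduct
open AzInv

namespace Groth.Agent.S17359

/-- Let `R` be a nontrivial commutative ring with connected spectrum in which `2` is a unit, with the
trivial involution (so that the involutions considered are of the first kind and the quotient is the
trivial one). Then there are exactly two types, the orthogonal and the symplectic one; this row
states the first half: every involution of the first kind `t` of an Azumaya `R`-algebra `A` of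
degree `n ≥ 1` has the same type either as the identity of `R` or as the standard symplectic
involution `x ↦ J xᵀ J⁻¹` of the `2 × 2` matrix algebra, `J` the matrix with rows `(0, -1)` and `(1,
0)` (same type: suitable matrix algebras over the two, with the induced involutions, become
isomorphic as `R`-algebras with involution after an etale faithfully flat base change of `R`). (The
source states that the monoid of types is isomorphic to the group of global square roots of `1`, for
a locally ringed topos with trivial involution and `2` invertible; the row is the affine case with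
connected spectrum, where that group is `{1, -1}`.) -/
theorem result (R : Type u) [CommRing R] (hlam : ∀ r : R, (AlgEquiv.refl : R ≃ₐ[R] R) ((AlgEquiv.refl : R ≃ₐ[R] R) r) = r)
    [Nontrivial R] [ConnectedSpace (PrimeSpectrum R)] (h2 : IsUnit (2 : R))
    (J : (Matrix (Fin 2) (Fin 2) R)ˣ) (hJ : (↑J : Matrix (Fin 2) (Fin 2) R) = Matrix.of ![![0, -1], ![1, 0]])
    (hJt : AzInv.LamInv.transpose (AlgEquiv.refl : R ≃ₐ[R] R) (Fin 2) hlam (↑J : Matrix (Fin 2) (Fin 2) R) = (-1 : R) • (↑J : Matrix (Fin 2) (Fin 2) R))
    (hneg : (AlgEquiv.refl : R ≃ₐ[R] R) (-1) * (-1) = 1)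
    (A : Type w) [Ring A] [Algebra R A]
    (n : ℕ) (hn : 0 < n) (hA : AzInv.IsAzumayaDeg R A n) (t : AzInv.LamInv R A (AlgEquiv.refl : R ≃ₐ[R] R)) :
    AzInv.SameType R (AlgEquiv.refl : R ≃ₐ[R] R) t (AzInv.LamInv.self (AlgEquiv.refl : R ≃ₐ[R] R) hlam) ∨
      AzInv.SameType R (AlgEquiv.refl : R ≃ₐ[R] R) t ((AzInv.LamInv.transpose (AlgEquiv.refl : R ≃ₐ[R] R) (Fin 2) hlam).conj J (-1) hJt hneg) := by
  have a0 := K925.AzBasic.Az.of_isAzumayaDeg hA
  have := a0.finite
  have := a0.proj
  have hq : ∀ (q : PrimeSpectrum R) (r : R),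
      algebraMap R q.asIdeal.ResidueField ((AlgEquiv.refl : R ≃ₐ[R] R) r) =
      algebraMap R q.asIdeal.ResidueField r := fun q r => rfl
  have h2q : ∀ q : PrimeSpectrum R, (2 : q.asIdeal.ResidueField) ≠ 0 := fun q => by
    have := (h2.map (algebraMap R q.asIdeal.ResidueField)).ne_zero
    rwa [map_ofNat] at this
  have a1 : K925.AzBasic.Az R R 1 := K925.Conj.az_self R
  have a2 : K925.AzBasic.Az R (Matrix (Fin 2) (Fin 2) R) 2 :=
    K925.LocSplit.az_matrix' R (by norm_num)
  have hfix : RInv.IsFixedRing R R (AlgEquiv.refl : R ≃ₐ[R] R).toRingEquiv :=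
    ⟨fun a b h => h, fun r => ⟨fun _ => ⟨r, rfl⟩, fun _ => rfl⟩⟩
  -- the sign is locally constant
  have hlc : IsLocallyConstant (fun q : PrimeSpectrum R => K925.Sign.dK t (hq q)) := by
    rw [IsLocallyConstant.iff_exists_open]
    intro q
    obtain ⟨f, hf, h⟩ := K925.LocConst.exists_nhd t h2 q (hq q)
    exact ⟨PrimeSpectrum.basicOpen f, PrimeSpectrum.isOpen_basicOpen, hf,
      fun q' hq' => h q' (hq q') hq'⟩
  have hne := K925.FixDim.choose_ne hn
  by_cases hpos : ∀ q : PrimeSpectrum R, K925.Sign.dK t (hq q) = (n + 1).choose 2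
  · left
    refine K925.Sgn.sameType_of_sign hlam hfix h2 hn Nat.one_pos a0 a1 _ _ fun q hq' => ?_
    exact ⟨fun _ => K925.Conj.dK_self hlam hq', fun _ => hpos q⟩
  · right
    push Not at hpos
    obtain ⟨q₀, hq₀⟩ := hpos
    refine K925.Sgn.sameType_of_sign hlam hfix h2 hn (by norm_num) a0 a2 _ _ fun q hq' => ?_
    have h3 : K925.Sign.dK t (hq q) = K925.Sign.dK t (hq q₀) :=
      hlc.apply_eq_of_preconnectedSpace q q₀
    constructor
    · intro h4
      exact absurd (h3.symm.trans h4) hq₀
    · intro h4
      rw [K925.Conj.dK_conj_neg hlam hq' J (-1) hJt hneg (h2q q) (by rw [map_neg, map_one])] at h4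
      exact absurd h4 (by decide)

end Groth.Agent.S17359
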