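import Groth.Statements.S17360
import Groth.Agent.AzInv.K925.Conj

set_option autoImplicit false
universe u
open scoped TensorProduct
open AzInv

namespace Groth.Agent.S17360

/-- Let `R` be a nontrivial commutative ring in which `2` is a unit, with the trivial involution. This
row states the second half of the count of types: the identity of `R` (the orthogonal type) and the
standard symplectic involution `x ↦ J xᵀ J⁻¹` of the `2 × 2` matrix algebra, `J` the matrix with
rows `(0, -1)` and `(1, 0)`, do not have the same type, i.e. for no positive sizes do the matrix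
algebras over `R` with the transpose and over `M_2(R)` with the involution induced by the symplectic
one become isomorphic as `R`-algebras with involution after an etale faithfully flat base change of
`R`. (The source states that the monoid of types is isomorphic to the group of global square roots
of `1`, for a locally ringed topos with trivial involution and `2` invertible; the row is the affine
case.) -/
theorem result (R : Type u) [CommRing R] (hlam : ∀ r : R, (AlgEquiv.refl : R ≃ₐ[R] R) ((AlgEquiv.refl : R ≃ₐ[R] R) r) = r)
    [Nontrivial R] (h2 : IsUnit (2 : R))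
    (J : (Matrix (Fin 2) (Fin 2) R)ˣ) (hJ : (↑J : Matrix (Fin 2) (Fin 2) R) = Matrix.of ![![0, -1], ![1, 0]])
    (hJt : AzInv.LamInv.transpose (AlgEquiv.refl : R ≃ₐ[R] R) (Fin 2) hlam (↑J : Matrix (Fin 2) (Fin 2) R) = (-1 : R) • (↑J : Matrix (Fin 2) (Fin 2) R))
    (hneg : (AlgEquiv.refl : R ≃ₐ[R] R) (-1) * (-1) = 1) :
    ¬ AzInv.SameType R (AlgEquiv.refl : R ≃ₐ[R] R) (AzInv.LamInv.self (AlgEquiv.refl : R ≃ₐ[R] R) hlam) ((AzInv.LamInv.transpose (AlgEquiv.refl : R ≃ₐ[R] R) (Fin 2) hlam).conj J (-1) hJt hneg) := by
  intro h
  obtain ⟨q⟩ : Nonempty (PrimeSpectrum R) := inferInstance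
  have hq : ∀ r, algebraMap R q.asIdeal.ResidueField ((AlgEquiv.refl : R ≃ₐ[R] R) r) =
      algebraMap R q.asIdeal.ResidueField r := fun r => rfl
  have h2q : (2 : q.asIdeal.ResidueField) ≠ 0 := by
    have := (h2.map (algebraMap R q.asIdeal.ResidueField)).ne_zero
    rwa [map_ofNat] at this
  have a1 : K925.AzBasic.Az R R 1 := K925.Conj.az_self R
  have a2 : K925.AzBasic.Az R (Matrix (Fin 2) (Fin 2) R) 2 :=
    K925.LocSplit.az_matrix' R (by norm_num)
  have h3 := K925.Sgn.sign_iff_of_sameType Nat.one_pos (by norm_num) a1 a2 _ _ h q hq h2q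
  have h4 := h3.mp (K925.Conj.dK_self hlam hq)
  rw [K925.Conj.dK_conj_neg hlam hq J (-1) hJt hneg h2q (by rw [map_neg, map_one])] at h4
  exact absurd h4 (by decide)

end Groth.Agent.S17360
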