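import Groth.Statements.S17361
import Groth.Agent.AzInv.K925.Sgn

set_option autoImplicit false
universe u v w w'
open scoped TensorProduct
open AzInv

namespace Groth.Agent.S17361

/-- Let `R` be a commutative ring with an involution `lam` whose fixed ring is exactly `S`, with `2` a
unit in `S`, and let `(A, t)` and `(A', t')` be Azumaya `R`-algebras of degrees `n, n' ≥ 1` with
`lam`-involutions. For a prime `q` of `R` in the ramification locus, i.e. such that `lam` is the
identity modulo `q`, the involution induced by `t` on the central simple algebra `k(q) ⊗_R A` is of
the first kind, and it is orthogonal precisely when the images of the `t`-symmetric elements of `A`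
span a subspace of dimension `n (n + 1) / 2` over `k(q)` (and symplectic otherwise). Then `t` and
`t'` have the same type (for some positive sizes, the matrix algebras over `A` and `A'` with the
induced involutions become isomorphic as `R`-algebras with involution after an etale faithfully flat
base change of `S`) if and only if at every prime of the ramification locus the involutions induced
by `t` and by `t'` are both orthogonal or both symplectic. (The source states this for a good
quotient of schemes by an involution, with `2` invertible, through a locally constant sign function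
on the ramification locus; the row is the affine case `Spec R → Spec S` with the signs spelled out
by dimensions of symmetric elements.) -/
theorem result (S : Type u) (R : Type v) [CommRing S] [CommRing R] [Algebra S R]
    (lam : R ≃ₐ[S] R) (hlam : ∀ r, lam (lam r) = r) (hfix : RInv.IsFixedRing S R lam.toRingEquiv)
    (h2 : IsUnit (2 : S))
    (A : Type w) [Ring A] [Algebra S A] [Algebra R A] [IsScalarTower S R A]
    (A' : Type w') [Ring A'] [Algebra S A'] [Algebra R A'] [IsScalarTower S R A']
    (n n' : ℕ) (hn : 0 < n) (hn' : 0 < n') (hA : AzInv.IsAzumayaDeg R A n) (hA' : AzInv.IsAzumayaDeg R A' n')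
    (t : AzInv.LamInv R A lam) (t' : AzInv.LamInv R A' lam) :
    AzInv.SameType S lam t t' ↔
      ∀ q : PrimeSpectrum R, (∀ r : R, lam r - r ∈ q.asIdeal) →
        (Module.finrank q.asIdeal.ResidueField
            (Submodule.span q.asIdeal.ResidueField
              (Set.range fun a : {a : A // t a = a} => (1 : q.asIdeal.ResidueField) ⊗ₜ[R] (a : A))) = Nat.choose (n + 1) 2 ↔
          Module.finrank q.asIdeal.ResidueField
            (Submodule.span q.asIdeal.ResidueField
              (Set.range fun a : {a : A' // t' a = a} => (1 : q.asIdeal.ResidueField) ⊗ₜ[R] (a : A'))) = Nat.choose (n' + 1) 2) := by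
  have a1 := K925.AzBasic.Az.of_isAzumayaDeg hA
  have a2 := K925.AzBasic.Az.of_isAzumayaDeg hA'
  have h2q : ∀ q : PrimeSpectrum R, (2 : q.asIdeal.ResidueField) ≠ 0 := fun q => by
    have := ((h2.map (algebraMap S R)).map (algebraMap R q.asIdeal.ResidueField)).ne_zero
    rwa [map_ofNat, map_ofNat] at this
  constructor
  · intro h q hq
    have hq' := (K925.Sgn.residueField_iff q).mp hq
    rw [K925.Sign.finrank_span_eq t hq' (h2q q), K925.Sign.finrank_span_eq t' hq' (h2q q)]
    exact K925.Sgn.sign_iff_of_sameType hn hn' a1 a2 t t' h q hq' (h2q q)
  · intro h
    refine K925.Sgn.sameType_of_sign hlam hfix h2 hn hn' a1 a2 t t' fun q hq' => ?_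
    have := h q ((K925.Sgn.residueField_iff q).mpr hq')
    rwa [K925.Sign.finrank_span_eq t hq' (h2q q), K925.Sign.finrank_span_eq t' hq' (h2q q)] at this

end Groth.Agent.S17361
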