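import Groth.Statements.S17367
import Groth.Agent.Deform.K682.SqZero

set_option autoImplicit false
universe u
open scoped TensorProduct
open Deform

namespace Groth.Agent.S17367

open K682.SqZero in
theorem key {A' : Type u} [CommRing A']
    (J : Ideal A') {B' : Type u} [CommRing B'] [Algebra A' B'] [Module.Flat A' B']
    (I : Ideal (B' ⧸ J.map (algebraMap A' B')))
    (I' I'' : Ideal B') [Module.Flat A' (B' ⧸ I')] [Module.Flat A' (B' ⧸ I'')]
    (hI' : I'.map (Ideal.Quotient.mk (J.map (algebraMap A' B'))) = I)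
    (hI'' : I''.map (Ideal.Quotient.mk (J.map (algebraMap A' B'))) = I) :
    ∃! φ : ↥I →ₗ[B'] (((B' ⧸ J.map (algebraMap A' B')) ⧸ I) ⊗[A'] ↥J),
      (∀ (x : (B' ⧸ J.map (algebraMap A' B'))) (hx : x ∈ I) (x' x'' : B'), x' ∈ I' → x'' ∈ I'' →
          Ideal.Quotient.mk (J.map (algebraMap A' B')) x' = x → Ideal.Quotient.mk (J.map (algebraMap A' B')) x'' = x →
          ∀ z : B' ⊗[A'] ↥J, mu J z = x'' - x' → pr J I z = φ ⟨x, hx⟩) := by
  have hm' : ∀ x ∈ I', Ideal.Quotient.mk (J.map (algebraMap A' B')) x ∈ I := fun x hx => by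
    rw [← hI']; exact Ideal.mem_map_of_mem _ hx
  have hm'' : ∀ x ∈ I'', Ideal.Quotient.mk (J.map (algebraMap A' B')) x ∈ I := fun x hx => by
    rw [← hI'']; exact Ideal.mem_map_of_mem _ hx
  let P : (B' ⧸ J.map (algebraMap A' B')) → (((B' ⧸ J.map (algebraMap A' B')) ⧸ I) ⊗[A'] ↥J) → Prop :=
    fun x p => ∃ (x' x'' : B') (z : B' ⊗[A'] ↥J), x' ∈ I' ∧ x'' ∈ I'' ∧
      Ideal.Quotient.mk (J.map (algebraMap A' B')) x' = x ∧
      Ideal.Quotient.mk (J.map (algebraMap A' B')) x'' = x ∧ mu J z = x'' - x' ∧ pr J I z = p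
  have hex : ∀ x ∈ I, ∃ p, P x p := by
    intro x hx
    obtain ⟨x', hx', h1⟩ := (mem_map_iff J I' x).1 (by rw [hI']; exact hx)
    obtain ⟨x'', hx'', h2⟩ := (mem_map_iff J I'' x).1 (by rw [hI'']; exact hx)
    have : x'' - x' ∈ J.map (algebraMap A' B') := by
      rw [← Ideal.Quotient.eq, h1, h2]
    obtain ⟨z, hz⟩ := exists_mu J _ this
    exact ⟨_, x', x'', z, hx', hx'', h1, h2, hz, rfl⟩
  have hadd : ∀ x y p q, P x p → P y q → P (x + y) (p + q) := by
    rintro x y p q ⟨x', x'', z, h1, h2, h3, h4, h5, h6⟩ ⟨y', y'', w, k1, k2, k3, k4, k5, k6⟩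
    refine ⟨x' + y', x'' + y'', z + w, I'.add_mem h1 k1, I''.add_mem h2 k2, ?_, ?_, ?_, ?_⟩
    · rw [map_add, h3, k3]
    · rw [map_add, h4, k4]
    · rw [map_add, h5, k5]; ring
    · rw [map_add, h6, k6]
  have hsmul : ∀ (b : B') x p, P x p → P (b • x) (b • p) := by
    rintro b x p ⟨x', x'', z, h1, h2, h3, h4, h5, h6⟩
    refine ⟨b * x', b * x'', b • z, I'.mul_mem_left _ h1, I''.mul_mem_left _ h2, ?_, ?_, ?_, ?_⟩
    · rw [map_mul, h3]; rfl
    · rw [map_mul, h4]; rfl
    · rw [mu_smul, h5]; ring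
    · rw [pr_smul, h6]
  have hneg : ∀ x p, P x p → P (-x) (-p) := by
    rintro x p ⟨x', x'', z, h1, h2, h3, h4, h5, h6⟩
    refine ⟨-x', -x'', -z, I'.neg_mem h1, I''.neg_mem h2, ?_, ?_, ?_, ?_⟩
    · rw [map_neg, h3]
    · rw [map_neg, h4]
    · rw [map_neg, h5]; ring
    · rw [map_neg, h6]
  have hzero : ∀ p, P 0 p → p = 0 := by
    rintro p ⟨x', x'', z, h1, h2, h3, h4, h5, h6⟩
    have e1 : x' ∈ J.map (algebraMap A' B') := Ideal.Quotient.eq_zero_iff_mem.1 h3
    have e2 : x'' ∈ J.map (algebraMap A' B') := Ideal.Quotient.eq_zero_iff_mem.1 h4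
    obtain ⟨z', hz'⟩ := exists_mu J _ e1
    obtain ⟨z'', hz''⟩ := exists_mu J _ e2
    have hz : z = z'' - z' := mu_injective J (by rw [h5, map_sub, hz', hz''])
    rw [← h6, hz, map_sub, pr_eq_zero_of_mu_mem J I I' hm' z' (by rw [hz']; exact h1),
      pr_eq_zero_of_mu_mem J I I'' hm'' z'' (by rw [hz'']; exact h2), sub_zero]
  have huniq : ∀ x p q, P x p → P x q → p = q := by
    intro x p q hp hq
    have := hadd _ _ _ _ hp (hneg _ _ hq)
    rw [← sub_eq_add_neg, ← sub_eq_add_neg, sub_self] at this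
    exact sub_eq_zero.1 (hzero _ this)
  choose f hf using hex
  refine ⟨{ toFun := fun x => f x.1 x.2, map_add' := ?_, map_smul' := ?_ }, ?_, ?_⟩
  · intro x y
    exact huniq _ _ _ (hf _ _) (hadd _ _ _ _ (hf _ _) (hf _ _))
  · intro b x
    exact huniq _ _ _ (hf _ _) (hsmul _ _ _ (hf _ _))
  · intro x hx x' x'' h1 h2 h3 h4 z hz
    exact huniq x _ _ ⟨x', x'', z, h1, h2, h3, h4, hz, rfl⟩ (hf x hx)
  · intro ψ hψ
    ext ⟨x, hx⟩
    obtain ⟨x', x'', z, h1, h2, h3, h4, h5, h6⟩ := hf x hx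
    exact (hψ x hx x' x'' h1 h2 h3 h4 z h5).symm.trans h6

/-- The affine computation, for a square-zero extension of Noetherian rings. Let A' be a Noetherian
ring, J an ideal with J·J = 0 and A = A'/J; let B' be a flat A'-algebra, B = B'/JB', I an ideal of B
with B/I flat over A, and I', I'' two ideals of B' with A'-flat quotients whose images in B are both
I (two deformations over A' of the closed subscheme V(I) of Spec B inside Spec B'). Then there is
exactly one B'-linear map φ from I to (B/I) ⊗_{A'} J (that is, Hom_B(I, (B/I) ⊗_A J)) such that for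
every x in I, all lifts x' in I' and x'' in I'' of x, and every z in B' ⊗_{A'} J whose image under
multiplication is x'' - x', the image of z in (B/I) ⊗_{A'} J equals φ(x). (The published statement
is global (X' a separated scheme over A') and does not assume X' flat over A'; this row is the
affine case X' = Spec B' and assumes B' flat over A'.) -/
theorem result (A' : Type u) [CommRing A'] [IsNoetherianRing A']
    (J : Ideal A') (hJ : J * J = ⊥) (B' : Type u) [CommRing B'] [Algebra A' B'] [Module.Flat A' B']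
    (I : Ideal (B' ⧸ J.map (algebraMap A' B')))
    [Module.Flat (A' ⧸ J) ((B' ⧸ J.map (algebraMap A' B')) ⧸ I)]
    (I' I'' : Ideal B') [Module.Flat A' (B' ⧸ I')] [Module.Flat A' (B' ⧸ I'')]
    (hI' : I'.map (Ideal.Quotient.mk (J.map (algebraMap A' B'))) = I)
    (hI'' : I''.map (Ideal.Quotient.mk (J.map (algebraMap A' B'))) = I) :
    ∃! φ : ↥I →ₗ[B'] (((B' ⧸ J.map (algebraMap A' B')) ⧸ I) ⊗[A'] ↥J),
      (∀ (x : (B' ⧸ J.map (algebraMap A' B'))) (hx : x ∈ I) (x' x'' : B'), x' ∈ I' → x'' ∈ I'' →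
          Ideal.Quotient.mk (J.map (algebraMap A' B')) x' = x → Ideal.Quotient.mk (J.map (algebraMap A' B')) x'' = x →
          ∀ z : B' ⊗[A'] ↥J, TensorProduct.rid A' B' (LinearMap.lTensor B' (Submodule.subtype J) z) = x'' - x' →
            LinearMap.rTensor ↥J (IsScalarTower.toAlgHom A' B' ((B' ⧸ J.map (algebraMap A' B')) ⧸ I)).toLinearMap z = φ ⟨x, hx⟩) := by
  exact key J I I' I'' hI' hI''

end Groth.Agent.S17367
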