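import Groth.Statements.S17368
import Groth.Agent.Deform.K682.SqZero
import Groth.Agent.Flat2B.NilpFlat

set_option autoImplicit false
universe u
open scoped TensorProduct
open Deform

namespace Groth.Agent.S17368

open K682.SqZero in
theorem flat_of_sqZero {A' : Type u} [CommRing A'] (J : Ideal A') (hJ : J * J = ⊥) (M : Type u)
    [AddCommGroup M] [Module A' M] [Module.Flat (A' ⧸ J) (M ⧸ (J • ⊤ : Submodule A' M))]
    (h : Function.Injective (LinearMap.rTensor M (Submodule.subtype J))) : Module.Flat A' M := by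
  rw [Module.Flat.iff_rTensor_injective']
  intro K
  refine Groth.Agent.Flat2B.NilpFlat.rTensor_injective_of_filtered J M J ?_ ?_ h _
    Subtype.val_injective
  · intro a ha x
    exact J.mul_mem_right _ ha
  · intro a ha x hx
    have : a * x ∈ J * J := Ideal.mul_mem_mul ha hx
    rw [hJ, Ideal.mem_bot] at this
    exact this

open K682.SqZero in
theorem key {A' : Type u} [CommRing A']
    (J : Ideal A') (hJ : J * J = ⊥) {B' : Type u} [CommRing B'] [Algebra A' B'] [Module.Flat A' B']
    (I : Ideal (B' ⧸ J.map (algebraMap A' B')))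
    [Module.Flat (A' ⧸ J) ((B' ⧸ J.map (algebraMap A' B')) ⧸ I)]
    (I' : Ideal B') [Module.Flat A' (B' ⧸ I')]
    (hI' : I'.map (Ideal.Quotient.mk (J.map (algebraMap A' B'))) = I)
    (φ : ↥I →ₗ[B'] (((B' ⧸ J.map (algebraMap A' B')) ⧸ I) ⊗[A'] ↥J)) :
    ∃! I'' : Ideal B', Module.Flat A' (B' ⧸ I'') ∧
      I''.map (Ideal.Quotient.mk (J.map (algebraMap A' B'))) = I ∧
      (∀ (x : (B' ⧸ J.map (algebraMap A' B'))) (hx : x ∈ I) (x' x'' : B'), x' ∈ I' → x'' ∈ I'' →
          Ideal.Quotient.mk (J.map (algebraMap A' B')) x' = x → Ideal.Quotient.mk (J.map (algebraMap A' B')) x'' = x →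
          ∀ z : B' ⊗[A'] ↥J, mu J z = x'' - x' → pr J I z = φ ⟨x, hx⟩) := by
  have hm' : ∀ x ∈ I', Ideal.Quotient.mk (J.map (algebraMap A' B')) x ∈ I := fun x hx => by
    rw [← hI']; exact Ideal.mem_map_of_mem _ hx
  have hmz : ∀ z : B' ⊗[A'] ↥J, Ideal.Quotient.mk (J.map (algebraMap A' B')) (mu J z) = 0 :=
    fun z => Ideal.Quotient.eq_zero_iff_mem.2 (mu_mem J z)
  let I'' : Ideal B' :=
    { carrier := {y | ∃ (x' : B') (hx' : x' ∈ I') (z : B' ⊗[A'] ↥J),
        y = x' + mu J z ∧ pr J I z = φ ⟨_, hm' x' hx'⟩}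
      add_mem' := by
        rintro _ _ ⟨x', hx', z, rfl, h2⟩ ⟨y', hy', w, rfl, k2⟩
        refine ⟨x' + y', I'.add_mem hx' hy', z + w, ?_, ?_⟩
        · rw [map_add]; ring
        · rw [map_add, h2, k2, ← map_add]
          rfl
      zero_mem' := ⟨0, I'.zero_mem, 0, by simp, by
        rw [map_zero, eq_comm]
        convert map_zero φ
        exact map_zero _⟩
      smul_mem' := by
        rintro b _ ⟨x', hx', z, rfl, h2⟩
        refine ⟨b * x', I'.mul_mem_left _ hx', b • z, ?_, ?_⟩
        · rw [mu_smul, smul_eq_mul]; ring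
        · rw [pr_smul, h2, ← map_smul]
          rfl }
  have hI'' : I''.map (Ideal.Quotient.mk (J.map (algebraMap A' B'))) = I := by
    apply le_antisymm
    · rw [Ideal.map_le_iff_le_comap]
      rintro _ ⟨x', hx', z, rfl, h2⟩
      rw [Ideal.mem_comap, map_add, hmz, add_zero]
      exact hm' x' hx'
    · intro x hx
      obtain ⟨x', hx', h1⟩ := (mem_map_iff J I' x).1 (by rw [hI']; exact hx)
      obtain ⟨z, hz⟩ := pr_surjective J I (φ ⟨_, hm' x' hx'⟩)
      refine (mem_map_iff J I'' x).2 ⟨x' + mu J z, ⟨x', hx', z, rfl, hz⟩, ?_⟩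
      rw [map_add, hmz, add_zero, h1]
  have hdiff : (∀ (x : (B' ⧸ J.map (algebraMap A' B'))) (hx : x ∈ I) (x' x'' : B'), x' ∈ I' → x'' ∈ I'' →
          Ideal.Quotient.mk (J.map (algebraMap A' B')) x' = x → Ideal.Quotient.mk (J.map (algebraMap A' B')) x'' = x →
          ∀ z : B' ⊗[A'] ↥J, mu J z = x'' - x' → pr J I z = φ ⟨x, hx⟩) := by
    rintro x hx x' _ hx' ⟨y', hy', w, rfl, h2⟩ h3 h4 z hz
    have h5 : Ideal.Quotient.mk (J.map (algebraMap A' B')) y' = x := by
      rw [map_add, hmz, add_zero] at h4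
      exact h4
    have h6 : pr J I (z - w) = 0 := by
      refine pr_eq_zero_of_mu_mem J I I' hm' _ ?_
      rw [map_sub, hz]
      have : y' + mu J w - x' - mu J w = y' - x' := by ring
      rw [this]
      exact I'.sub_mem hy' hx'
    rw [map_sub, sub_eq_zero] at h6
    rw [h6, h2]
    congr 1
    exact Subtype.ext h5
  have hflat : Module.Flat A' (B' ⧸ I'') := by
    -- the local criterion
    have hJsm : (J • ⊤ : Submodule A' (B' ⧸ I'')) = ((J.map (algebraMap A' (B' ⧸ I''))).restrictScalars A') := by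
      exact Ideal.smul_top_eq_map J
    -- the quotient is `B / I`
    have e : ((B' ⧸ I'') ⧸ (J • ⊤ : Submodule A' (B' ⧸ I''))) ≃ₗ[A' ⧸ J]
        ((B' ⧸ J.map (algebraMap A' B')) ⧸ I) := by
      let f : (B' ⧸ I'') →ₐ[A'] ((B' ⧸ J.map (algebraMap A' B')) ⧸ I) :=
        Ideal.Quotient.liftₐ I'' (IsScalarTower.toAlgHom A' B' ((B' ⧸ J.map (algebraMap A' B')) ⧸ I))
          (fun a ha => (algebraMap_eq_zero_iff J I a).2 (by rw [← hI'']; exact Ideal.mem_map_of_mem _ ha))
      have hfs : Function.Surjective f.toLinearMap := by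
        intro x
        obtain ⟨b, rfl⟩ := algebraMap_surj J I x
        exact ⟨Ideal.Quotient.mk I'' b, rfl⟩
      have hker : LinearMap.ker f.toLinearMap = (J • ⊤ : Submodule A' (B' ⧸ I'')) := by
        rw [hJsm]
        ext x
        obtain ⟨b, rfl⟩ := Ideal.Quotient.mk_surjective x
        rw [LinearMap.mem_ker, Submodule.restrictScalars_mem]
        have h1 : f.toLinearMap (Ideal.Quotient.mk I'' b) =
          algebraMap B' ((B' ⧸ J.map (algebraMap A' B')) ⧸ I) b := rfl
        have h2 : J.map (algebraMap A' (B' ⧸ I'')) = (J.map (algebraMap A' B')).map (Ideal.Quotient.mk I'') := by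
          rw [Ideal.map_map]; rfl
        rw [h1, algebraMap_eq_zero_iff, h2, Ideal.mem_map_iff_of_surjective _ Ideal.Quotient.mk_surjective]
        constructor
        · intro h
          obtain ⟨y, hy, h3⟩ := (mem_map_iff J I'' _).1 (by rw [hI'']; exact h)
          refine ⟨b - y, ?_, ?_⟩
          · rw [← Ideal.Quotient.eq, h3]
          · rw [map_sub, Ideal.Quotient.eq_zero_iff_mem.2 hy, sub_zero]
        · rintro ⟨c, hc, h3⟩
          rw [← hI'', mem_map_iff]
          refine ⟨b - c, ?_, ?_⟩
          · rw [← Ideal.Quotient.eq]; exact h3.symm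
          · rw [map_sub, Ideal.Quotient.eq_zero_iff_mem.2 hc, sub_zero]
      exact ((Submodule.quotEquivOfEq _ _ hker.symm).trans
        (LinearMap.quotKerEquivOfSurjective f.toLinearMap hfs)).extendScalarsOfSurjective
          Ideal.Quotient.mk_surjective
    haveI : Module.Flat (A' ⧸ J) ((B' ⧸ I'') ⧸ (J • ⊤ : Submodule A' (B' ⧸ I''))) :=
      Module.Flat.of_linearEquiv e
    refine flat_of_sqZero J hJ _ ?_
    -- injectivity of `J ⊗ B'/I'' → B'/I''`
    have hinj : Function.Injective (mu J (B' := B' ⧸ I'')) := by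
      rw [injective_iff_map_eq_zero]
      intro w hw
      obtain ⟨z, rfl⟩ := LinearMap.rTensor_surjective ↥J (g := (Ideal.Quotient.mkₐ A' I'').toLinearMap)
        Ideal.Quotient.mk_surjective w
      have h2 : ∀ w : B' ⊗[A'] ↥J, mu J (LinearMap.rTensor ↥J (Ideal.Quotient.mkₐ A' I'').toLinearMap w) =
          Ideal.Quotient.mk I'' (mu J w) := by
        intro w
        induction w with
        | zero => simp
        | add x y hx hy => rw [map_add, map_add, hx, hy, map_add, map_add]
        | tmul x j =>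
          rw [LinearMap.rTensor_tmul, mu_tmul, mu_tmul, map_mul]
          rfl
      rw [h2, Ideal.Quotient.eq_zero_iff_mem] at hw
      -- so `mu z ∈ I''`, hence `pr z = 0`
      obtain ⟨x', hx', z₁, h3, h4⟩ := hw
      have h5 : Ideal.Quotient.mk (J.map (algebraMap A' B')) x' = 0 := by
        have := congrArg (Ideal.Quotient.mk (J.map (algebraMap A' B'))) h3
        rw [map_add, hmz, hmz, add_zero] at this
        exact this.symm
      have h6 : pr J I z₁ = 0 := by
        rw [h4]
        convert map_zero φ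
        exact h5
      have h7 : pr J I (z - z₁) = 0 := by
        refine pr_eq_zero_of_mu_mem J I I' hm' _ ?_
        rw [map_sub, h3, add_sub_cancel_right]
        exact hx'
      have h8 : pr J I z = 0 := by
        rw [map_sub, h6, sub_zero] at h7
        exact h7
      -- now `z` comes from `(ker) ⊗ J`
      let f := (IsScalarTower.toAlgHom A' B' ((B' ⧸ J.map (algebraMap A' B')) ⧸ I)).toLinearMap
      have hex := rTensor_exact ↥J (LinearMap.exact_subtype_ker_map f) (algebraMap_surj J I)
      obtain ⟨w, rfl⟩ := (hex z).1 h8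
      clear h8 h7 h3 hex
      induction w with
      | zero => simp
      | add x y hx hy => rw [map_add, map_add, hx, hy, add_zero]
      | tmul k j =>
        rw [LinearMap.rTensor_tmul, LinearMap.rTensor_tmul]
        have hk : Ideal.Quotient.mk (J.map (algebraMap A' B')) (k : B') ∈ I :=
          (algebraMap_eq_zero_iff J I _).1 k.2
        have hk' : Ideal.Quotient.mk (J.map (algebraMap A' B')) (k : B') ∈
            I''.map (Ideal.Quotient.mk (J.map (algebraMap A' B'))) := by
          rw [hI'']; exact hk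
        rw [mem_map_iff] at hk'
        obtain ⟨y, hy, hyk⟩ := hk'
        have hd : (k : B') - y ∈ J.map (algebraMap A' B') := by
          rw [← Ideal.Quotient.eq, hyk]
        have e1 : (Ideal.Quotient.mkₐ A' I'').toLinearMap (Submodule.subtype (LinearMap.ker f) k) =
            Ideal.Quotient.mk I'' ((k : B') - y) := by
          rw [map_sub, Ideal.Quotient.eq_zero_iff_mem.2 hy, sub_zero]
          rfl
        rw [e1]
        refine Submodule.span_induction (p := fun b _ => (Ideal.Quotient.mk I'' b) ⊗ₜ[A'] j = 0) ?_ ?_ ?_ ?_ hd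
        · rintro _ ⟨a, ha, rfl⟩
          have e2 : Ideal.Quotient.mk I'' (algebraMap A' B' a) = a • (1 : B' ⧸ I'') := by
            rw [Algebra.smul_def, mul_one]; rfl
          have e3 : a • j = 0 := by
            apply Subtype.ext
            have : a * (j : A') ∈ J * J := Ideal.mul_mem_mul ha j.2
            rw [hJ, Ideal.mem_bot] at this
            exact this
          rw [e2, TensorProduct.smul_tmul, e3, TensorProduct.tmul_zero]
        · rw [map_zero, TensorProduct.zero_tmul]
        · intro x y _ _ hx hy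
          rw [map_add, TensorProduct.add_tmul, hx, hy, add_zero]
        · intro a x _ hx
          have e4 : Ideal.Quotient.mk I'' (a • x) = (Ideal.Quotient.mk I'' a) • (Ideal.Quotient.mk I'' x) := by
            rw [smul_eq_mul, map_mul, smul_eq_mul]
          rw [e4, ← TensorProduct.smul_tmul', hx, smul_zero]
    -- transport to `rTensor`
    intro x y hxy
    apply (TensorProduct.comm A' ↥J (B' ⧸ I'')).injective
    apply hinj
    have e5 : ∀ w : ↥J ⊗[A'] (B' ⧸ I''), mu J (TensorProduct.comm A' ↥J (B' ⧸ I'') w) =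
        TensorProduct.lid A' (B' ⧸ I'') (LinearMap.rTensor (B' ⧸ I'') (Submodule.subtype J) w) := by
      intro w
      induction w with
      | zero => simp
      | add x y hx hy => rw [map_add, map_add, hx, hy, map_add, map_add]
      | tmul j x =>
        rw [TensorProduct.comm_tmul, mu_tmul, LinearMap.rTensor_tmul, TensorProduct.lid_tmul, Algebra.smul_def]
        rfl
    rw [e5, e5, hxy]
  refine ⟨I'', ⟨hflat, hI'', hdiff⟩, ?_⟩
  rintro K ⟨hK1, hK2, hK3⟩
  have aux : ∀ (K₁ K₂ : Ideal B'), K₁.map (Ideal.Quotient.mk (J.map (algebraMap A' B'))) = I →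
      K₂.map (Ideal.Quotient.mk (J.map (algebraMap A' B'))) = I →
      (∀ (x : (B' ⧸ J.map (algebraMap A' B'))) (hx : x ∈ I) (x' x'' : B'), x' ∈ I' → x'' ∈ K₁ →
          Ideal.Quotient.mk (J.map (algebraMap A' B')) x' = x → Ideal.Quotient.mk (J.map (algebraMap A' B')) x'' = x →
          ∀ z : B' ⊗[A'] ↥J, mu J z = x'' - x' → pr J I z = φ ⟨x, hx⟩) →
      (∀ (x : (B' ⧸ J.map (algebraMap A' B'))) (hx : x ∈ I) (x' x'' : B'), x' ∈ I' → x'' ∈ K₂ →
          Ideal.Quotient.mk (J.map (algebraMap A' B')) x' = x → Ideal.Quotient.mk (J.map (algebraMap A' B')) x'' = x →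
          ∀ z : B' ⊗[A'] ↥J, mu J z = x'' - x' → pr J I z = φ ⟨x, hx⟩) → K₁ ≤ K₂ := by
    intro K₁ K₂ h1 h2 h3 h4 y hy
    have hyI : Ideal.Quotient.mk (J.map (algebraMap A' B')) y ∈ I := by
      rw [← h1]; exact Ideal.mem_map_of_mem _ hy
    obtain ⟨x', hx', e1⟩ := (mem_map_iff J I' _).1 (by rw [hI']; exact hyI)
    obtain ⟨y₂, hy₂, e2⟩ := (mem_map_iff J K₂ _).1 (by rw [h2]; exact hyI)
    obtain ⟨z, hz⟩ := exists_mu J (y - x') (by rw [← Ideal.Quotient.eq, e1])
    obtain ⟨w, hw⟩ := exists_mu J (y₂ - x') (by rw [← Ideal.Quotient.eq, e1, e2])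
    have e3 := h3 _ hyI x' y hx' hy e1 rfl z hz
    have e4 := h4 _ hyI x' y₂ hx' hy₂ e1 e2 w hw
    have e5 : mu J (z - w) ∈ K₂ := mu_mem_of_pr_eq_zero J I hJ K₂ h2 _ (by rw [map_sub, e3, e4, sub_self])
    have e6 : y = y₂ + mu J (z - w) := by rw [map_sub, hz, hw]; ring
    rw [e6]
    exact K₂.add_mem hy₂ e5
  exact le_antisymm (aux _ _ hK2 hI'' hK3 hdiff) (aux _ _ hI'' hK2 hdiff hK3)

/-- The affine computation, for a square-zero extension of Noetherian rings. Let A' be a Noetherian
ring, J an ideal with J·J = 0 and A = A'/J; let B' be a flat A'-algebra, B = B'/JB', I an ideal of B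
with B/I flat over A, I' an ideal of B' with A'-flat quotient whose image in B is I, and φ a
B'-linear map from I to (B/I) ⊗_{A'} J. Then there is exactly one ideal I'' of B' with A'-flat
quotient and image I in B whose difference from I' is φ: for every x in I, all lifts x' in I' and
x'' in I'' of x, and every z in B' ⊗_{A'} J whose image under multiplication is x'' - x', the image
of z in (B/I) ⊗_{A'} J equals φ(x). Together with the uniqueness of the difference this makes the
set of such ideals, when non-empty, a torsor under Hom_B(I, (B/I) ⊗_A J). (The published statement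
is global (X' a separated scheme over A') and does not assume X' flat over A'; this row is the
affine case X' = Spec B' and assumes B' flat over A'.) -/
theorem result (A' : Type u) [CommRing A'] [IsNoetherianRing A']
    (J : Ideal A') (hJ : J * J = ⊥) (B' : Type u) [CommRing B'] [Algebra A' B'] [Module.Flat A' B']
    (I : Ideal (B' ⧸ J.map (algebraMap A' B')))
    [Module.Flat (A' ⧸ J) ((B' ⧸ J.map (algebraMap A' B')) ⧸ I)]
    (I' : Ideal B') [Module.Flat A' (B' ⧸ I')]
    (hI' : I'.map (Ideal.Quotient.mk (J.map (algebraMap A' B'))) = I)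
    (φ : ↥I →ₗ[B'] (((B' ⧸ J.map (algebraMap A' B')) ⧸ I) ⊗[A'] ↥J)) :
    ∃! I'' : Ideal B', Module.Flat A' (B' ⧸ I'') ∧
      I''.map (Ideal.Quotient.mk (J.map (algebraMap A' B'))) = I ∧
      (∀ (x : (B' ⧸ J.map (algebraMap A' B'))) (hx : x ∈ I) (x' x'' : B'), x' ∈ I' → x'' ∈ I'' →
          Ideal.Quotient.mk (J.map (algebraMap A' B')) x' = x → Ideal.Quotient.mk (J.map (algebraMap A' B')) x'' = x →
          ∀ z : B' ⊗[A'] ↥J, TensorProduct.rid A' B' (LinearMap.lTensor B' (Submodule.subtype J) z) = x'' - x' →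
            LinearMap.rTensor ↥J (IsScalarTower.toAlgHom A' B' ((B' ⧸ J.map (algebraMap A' B')) ⧸ I)).toLinearMap z = φ ⟨x, hx⟩) := by
  exact key J hJ I I' hI' φ

end Groth.Agent.S17368
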