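import Groth.Statements.S17372
import Groth.Agent.Algz.K724.AlgIso
import Groth.Agent.S17371

set_option autoImplicit false
universe u
open CategoryTheory CategoryTheory.Limits
open Algz

namespace Groth.Agent.S17372

/-- Functor form. Let k be an algebraically closed field and F a set-valued functor on commutative
k-algebras which preserves filtered colimits (limit preserving). Let R be a complete local
Noetherian k-algebra with residue field k and ξ an element of F(R) which is versal: for every
surjection π : B → B₀ of local Artinian k-algebras with residue field k, every k-algebra map g₀ : R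
→ B₀ and every y in F(B) whose image in F(B₀) is the image of ξ under g₀, there is a k-algebra map g
: R → B lifting g₀ along π with image of ξ equal to y. Then there exist a finitely generated
k-algebra A, a maximal ideal m of A with residue field k, an element η of F(A) and a ring
isomorphism α from R to the m-adic completion of A commuting with the scalars from k, such that for
every n, pushing ξ forward along the k-algebra map R → A/m^(n+1) obtained from α and the evaluation
of the completion gives the image of η under A → A/m^(n+1). (The published statement is for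
limit-preserving prestacks over k-schemes; this row is stated for set-valued functors on k-algebras,
with the residue field k that a formal deformation carries by definition made an explicit
hypothesis.) -/
theorem result (k : Type u) [Field k] [IsAlgClosed k]
    (F : CommAlgCat.{u} k ⥤ Type u)
    (hF : ∀ (J : Type u) [SmallCategory J] [IsFiltered J], PreservesColimitsOfShape J F)
    (R : Type u) [CommRing R] [Algebra k R] [IsLocalRing R] [IsNoetherianRing R]
    [IsAdicComplete (IsLocalRing.maximalIdeal R) R]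
    (hres : Function.Surjective (fun c : k => IsLocalRing.residue R (algebraMap k R c)))
    (ξ : F.obj (CommAlgCat.of k R))
    (hvers : ∀ (B B₀ : Type u) [CommRing B] [Algebra k B] [IsLocalRing B] [IsArtinianRing B]
        [CommRing B₀] [Algebra k B₀] [IsLocalRing B₀] [IsArtinianRing B₀],
        Function.Surjective (fun c : k => IsLocalRing.residue B (algebraMap k B c)) →
        ∀ (π : B →ₐ[k] B₀), Function.Surjective π →
          ∀ (g₀ : R →ₐ[k] B₀) (y : F.obj (CommAlgCat.of k B)),
            F.map (CommAlgCat.ofHom π) y = F.map (CommAlgCat.ofHom g₀) ξ →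
              ∃ g : R →ₐ[k] B, π.comp g = g₀ ∧ F.map (CommAlgCat.ofHom g) ξ = y) :
    ∃ (A : Type u) (_ : CommRing A) (_ : Algebra k A) (_ : Algebra.FiniteType k A)
      (m : Ideal A) (_ : m.IsMaximal)
      (_ : Function.Surjective (fun c : k => Ideal.Quotient.mk m (algebraMap k A c)))
      (η : F.obj (CommAlgCat.of k A))
      (α : R ≃+* AdicCompletion m A),
      (∀ c : k, α (algebraMap k R c) = algebraMap A (AdicCompletion m A) (algebraMap k A c)) ∧
      ∀ (n : ℕ) (ψ : R →ₐ[k] A ⧸ m ^ (n + 1)),
        ψ.toRingHom = (AdicCompletion.evalₐ m (n + 1) :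
            AdicCompletion m A →ₐ[A] A ⧸ m ^ (n + 1)).toRingHom.comp α.toRingHom →
          F.map (CommAlgCat.ofHom ψ) ξ = F.map (CommAlgCat.ofHom (Ideal.Quotient.mkₐ k (m ^ (n + 1)))) η := by
  obtain ⟨A, _, _, hA, m, hm, hs, η, φ, hφ, e, -, -⟩ := Groth.Agent.S17371.result k F hF R hres ξ 1
  haveI : IsNoetherianRing A := Algebra.FiniteType.isNoetherianRing k A
  obtain ⟨γR, hγR⟩ := K724.Pres.exists_res k R hres
  obtain ⟨γ, hγ⟩ := K724.Trunc.exists_resA k m hs
  -- the step
  have step : ∀ (n : ℕ) (g : R →ₐ[k] A ⧸ m ^ (n + 2)),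
      F.map (CommAlgCat.ofHom g) ξ = F.map (CommAlgCat.ofHom (Ideal.Quotient.mkₐ k (m ^ (n + 2)))) η →
      ∃ g' : R →ₐ[k] A ⧸ m ^ (n + 1 + 2),
        F.map (CommAlgCat.ofHom g') ξ = F.map (CommAlgCat.ofHom (Ideal.Quotient.mkₐ k (m ^ (n + 1 + 2)))) η ∧
        (Ideal.Quotient.factorₐ k (Ideal.pow_le_pow_right (Nat.le_succ (n + 2)))).comp g' = g := by
    intro n g hg
    haveI := K724.Trunc.isLocalRing_trunc γ hγ (n + 2) (by omega)
    haveI := K724.Trunc.isLocalRing_trunc γ hγ (n + 1 + 2) (by omega)
    haveI := K724.Trunc.isArtinianRing_trunc γ hγ (n + 2) (by omega)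
    haveI := K724.Trunc.isArtinianRing_trunc γ hγ (n + 1 + 2) (by omega)
    have hsurj : Function.Surjective (Ideal.Quotient.factorₐ k (Ideal.pow_le_pow_right (I := m) (Nat.le_succ (n + 2)))) := by
      intro y
      obtain ⟨a, rfl⟩ := Ideal.Quotient.mk_surjective y
      exact ⟨Ideal.Quotient.mk _ a, rfl⟩
    obtain ⟨g', h1, h2⟩ := hvers (A ⧸ m ^ (n + 1 + 2)) (A ⧸ m ^ (n + 2))
      (K724.Trunc.residue_surjective_trunc γ hγ (n + 1 + 2) (by omega))
      (Ideal.Quotient.factorₐ k (Ideal.pow_le_pow_right (Nat.le_succ (n + 2)))) hsurj g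
      (F.map (CommAlgCat.ofHom (Ideal.Quotient.mkₐ k (m ^ (n + 1 + 2)))) η) (by
        rw [hg, ← Functor.map_comp_apply, ← CommAlgCat.ofHom_comp]
        rfl)
    exact ⟨g', h2, h1⟩
  choose nx hnx₁ hnx₂ using step
  let T : ℕ → Type u := fun n => {g : R →ₐ[k] A ⧸ m ^ (n + 2) //
    F.map (CommAlgCat.ofHom g) ξ = F.map (CommAlgCat.ofHom (Ideal.Quotient.mkₐ k (m ^ (n + 2)))) η}
  let t : ∀ n, T n := fun n => Nat.rec
    (⟨φ.toAlgHom.comp (Ideal.Quotient.mkₐ k (IsLocalRing.maximalIdeal R ^ (1 + 1))), hφ⟩ : T 0)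
    (fun n g => (⟨nx n g.1 g.2, hnx₁ n g.1 g.2⟩ : T (n + 1))) n
  let g : ∀ n, R →ₐ[k] A ⧸ m ^ (n + 2) := fun n => (t n).1
  have hg : ∀ n, F.map (CommAlgCat.ofHom (g n)) ξ =
      F.map (CommAlgCat.ofHom (Ideal.Quotient.mkₐ k (m ^ (n + 2)))) η := fun n => (t n).2
  have hgs : ∀ n, (Ideal.Quotient.factorₐ k (Ideal.pow_le_pow_right (Nat.le_succ (n + 2)))).comp (g (n + 1)) = g n :=
    fun n => hnx₂ n (t n).1 (t n).2
  have hg0 : Function.Surjective (g 0) := by
    change Function.Surjective (φ ∘ (Ideal.Quotient.mk (IsLocalRing.maximalIdeal R ^ (1 + 1))))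
    exact φ.surjective.comp Ideal.Quotient.mk_surjective
  obtain ⟨α, hα₁, hα₂⟩ := K724.AlgIso.exists_iso γR hγR γ hγ g hgs hg0 e
  refine ⟨A, inferInstance, inferInstance, hA, m, hm, hs, η, α, hα₁, fun n ψ hψ => ?_⟩
  have hψx : ∀ x, ψ x = AdicCompletion.evalₐ m (n + 1) (α x) := fun x => congrArg (fun f : R →+* _ => f x) hψ
  have h1 : ψ = (Ideal.Quotient.factorₐ k (Ideal.pow_le_pow_right (Nat.le_succ (n + 1)))).comp (g n) := by
    apply AlgHom.ext
    intro x
    rw [hψx, AlgHom.comp_apply, ← hα₂]
    exact (K724.EtNbd.factor_eval m (Nat.le_succ (n + 1)) (α x)).symm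
  rw [h1, CommAlgCat.ofHom_comp, Functor.map_comp_apply, hg, ← Functor.map_comp_apply, ← CommAlgCat.ofHom_comp]
  rfl


end Groth.Agent.S17372
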