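import Groth.Statements.S17375
import Groth.Agent.Variety.K433.PushGF
import Groth.Agent.Variety.K433.HhatEq

set_option autoImplicit false
universe u
open CategoryTheory CategoryTheory.Limits AlgebraicGeometry Asymptotics
open Variety

namespace Groth.Agent.S17375

open K433.Growth in
theorem phi_isBigO (d : ℕ) (C : ℝ) : (fun m : ℕ => C * (phi d m : ℝ)) =O[Filter.atTop] (fun m : ℕ => (m : ℝ) ^ (d - 1)) := by
  refine Asymptotics.IsBigO.const_mul_left ?_ C
  refine Asymptotics.IsBigO.of_bound (2 ^ (d - 1)) ?_
  filter_upwards [Filter.eventually_ge_atTop 1] with m hm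
  unfold phi
  split_ifs with h
  · simp
  · have hm' : (1 : ℝ) ≤ m := by exact_mod_cast hm
    rw [Real.norm_of_nonneg (by positivity), Real.norm_of_nonneg (by positivity), ← mul_pow]
    push_cast
    exact pow_le_pow_left₀ (by positivity) (by linarith) _

open Groth.Agent K433.Hq K433.Growth K433.PushGF Groth.Agent.Grpsch.PicGrp Groth.Agent.Fdesc.LocGen in
/-- Let X and Y be geometrically integral schemes proper over a field k, each admitting an ample
invertible module, with X of dimension d, and let f : Y → X be a k-morphism which is dominant and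
generically finite of degree n ≥ 1: f maps the generic point of Y to the generic point of X and the
induced extension of function fields has finite degree n. Then for every invertible module L on X
the difference dim_k H^0(Y, (f^*L)^m) − n · dim_k H^0(X, L^m) is O(m^(d−1)) as m → ∞ (so the volume
of f^*L is n times that of L). -/
theorem result (k : Type u) [Field k] (X Y : Scheme.{u})
    [X.Over (Spec (CommRingCat.of k))] [Y.Over (Spec (CommRingCat.of k))] [IsIntegral X] [IsIntegral Y]
    [GeometricallyIntegral (X ↘ Spec (CommRingCat.of k))] [GeometricallyIntegral (Y ↘ Spec (CommRingCat.of k))]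
    [IsProper (X ↘ Spec (CommRingCat.of k))] [IsProper (Y ↘ Spec (CommRingCat.of k))]
    (hXproj : ∃ A : X.Modules, CohB1.IsAmple A) (hYproj : ∃ B : Y.Modules, CohB1.IsAmple B)
    (d : ℕ) (hd : topologicalKrullDim X = d)
    (f : Y ⟶ X) (hf : f ≫ (X ↘ Spec (CommRingCat.of k)) = Y ↘ Spec (CommRingCat.of k))
    (hdom : f.base (genericPoint Y) = genericPoint X) (n : ℕ) (hn : f.residueDegree (genericPoint Y) = n) (hn0 : 0 < n)
    (L : X.Modules) (hL : PicF.IsInvertible L) :
    (fun m : ℕ => (Module.finrank k (Coh.HH Y (CohB1.tensorPow ((Scheme.Modules.pullback f).obj L) m) 0) : ℝ) -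
        n * Module.finrank k (Coh.HH X (CohB1.tensorPow L m) 0)) =O[Filter.atTop]
      (fun m : ℕ => (m : ℝ) ^ (d - 1)) := by
  obtain ⟨A, hA⟩ := hXproj
  obtain ⟨B, hB⟩ := hYproj
  obtain ⟨C, hC⟩ := near_pull k hA hB f hf hdom (by rw [hn]; exact hn0) hd (mk L hL) 0
  rw [hn] at hC
  refine Asymptotics.IsBigO.trans ?_ (phi_isBigO d C)
  refine Asymptotics.IsBigO.of_bound 1 (Filter.Eventually.of_forall fun m => ?_)
  have h1 := (hC m).abs_real
  have e1 : hq k 0 (Coh.structureModule Y) (pull f (mk L hL) ^ m) =
      Module.finrank k (Coh.HH Y (CohB1.tensorPow ((Scheme.Modules.pullback f).obj L) m) 0) := by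
    rw [pull_mk, ← hh_tensorPow k 0 (isInvertible_pullback f hL) m, hh_def]
  have e2 : hq k 0 (Coh.structureModule X) (mk L hL ^ m) = Module.finrank k (Coh.HH X (CohB1.tensorPow L m) 0) := by
    rw [← hh_tensorPow k 0 hL m, hh_def]
  rw [e1, e2] at h1
  rw [one_mul, Real.norm_of_nonneg (r := (C : ℝ) * (phi d m : ℝ)) (by positivity), Real.norm_eq_abs]
  push_cast at h1
  exact h1

end Groth.Agent.S17375
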