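import Groth.Statements.S17378
import Groth.Agent.Variety.K436.VolAdd
import Groth.Agent.Variety.K436.GeomBC

set_option autoImplicit false
universe u
open CategoryTheory CategoryTheory.Limits AlgebraicGeometry
open scoped ENNReal
open Variety

namespace Groth.Agent.S17378

/-- Let k be a field of characteristic zero and X a geometrically integral scheme of dimension d ≥ 1,
proper over k and admitting an ample invertible module; let L and L' be invertible modules on X
which are big, i.e. the lower limits of dim_k H^0(X, L^m)/m^d and of dim_k H^0(X, L'^m)/m^d are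
positive. With v(M) the upper limit of dim_k H^0(X, M^m)/m^d in the extended non-negative reals,
v(L)^(1/d) + v(L')^(1/d) ≤ v(L ⊗ L')^(1/d). (The published statement covers every characteristic; in
positive characteristic its argument relies on an approximation result that is not classical
background, so only characteristic zero is asserted here. The normalising factor d! of the volume
cancels from both sides.) -/
theorem result (k : Type u) [Field k] [CharZero k] (X : Scheme.{u})
    [X.Over (Spec (CommRingCat.of k))] [GeometricallyIntegral (X ↘ Spec (CommRingCat.of k))] [IsIntegral X]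
    [IsProper (X ↘ Spec (CommRingCat.of k))] (hproj : ∃ A : X.Modules, CohB1.IsAmple A)
    (d : ℕ) (hd1 : 1 ≤ d) (hd : topologicalKrullDim X = d)
    (L L' : X.Modules) (hL : PicF.IsInvertible L) (hL' : PicF.IsInvertible L')
    (hbig : 0 < Filter.liminf (fun m : ℕ => (Module.finrank k (Coh.HH X (CohB1.tensorPow L m) 0) : ℝ≥0∞) /
        (m : ℝ≥0∞) ^ d) Filter.atTop)
    (hbig' : 0 < Filter.liminf (fun m : ℕ => (Module.finrank k (Coh.HH X (CohB1.tensorPow L' m) 0) : ℝ≥0∞) /
        (m : ℝ≥0∞) ^ d) Filter.atTop) :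
    Filter.limsup (fun m : ℕ => (Module.finrank k (Coh.HH X (CohB1.tensorPow L m) 0) : ℝ≥0∞) /
          (m : ℝ≥0∞) ^ d) Filter.atTop ^ (1 / (d : ℝ)) +
        Filter.limsup (fun m : ℕ => (Module.finrank k (Coh.HH X (CohB1.tensorPow L' m) 0) : ℝ≥0∞) /
          (m : ℝ≥0∞) ^ d) Filter.atTop ^ (1 / (d : ℝ)) ≤
      Filter.limsup (fun m : ℕ => (Module.finrank k (Coh.HH X (CohB1.tensorPow (CohB1.tensorMod L L') m) 0) : ℝ≥0∞) /
          (m : ℝ≥0∞) ^ d) Filter.atTop ^ (1 / (d : ℝ)) := by
  obtain ⟨A, hA⟩ := hproj
  obtain ⟨K, _, _, _, X', _, g, hpb, hint, hprop, haff, hdim⟩ := K436.GeomBC.exists_geom k X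
  have hA' : CohB1.IsAmple ((Scheme.Modules.pullback g).obj A) :=
    Groth.Agent.CohqB.AmpCocycle.isAmple_pullback g hA
  have hLL := Groth.Agent.Fdesc.LocGen.isInvertible_tensorMod hL hL'
  have key : ∀ (M : X.Modules) (hM : PicF.IsInvertible M) (m : ℕ),
      K436.VolAdd.h0 K (Groth.Agent.Grpsch.PicGrp.mk ((Scheme.Modules.pullback g).obj M)
        (Groth.Agent.Fdesc.LocGen.isInvertible_pullback g hM) ^ m) =
      Module.finrank k (Coh.HH X (CohB1.tensorPow M m) 0) := fun M hM m => by
    rw [K436.VolAdd.h0_pow_mk, K436.GeomBC.finrank_pullback_pow hpb hM m 0]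
  have hmul : Groth.Agent.Grpsch.PicGrp.mk ((Scheme.Modules.pullback g).obj L)
        (Groth.Agent.Fdesc.LocGen.isInvertible_pullback g hL) *
      Groth.Agent.Grpsch.PicGrp.mk ((Scheme.Modules.pullback g).obj L')
        (Groth.Agent.Fdesc.LocGen.isInvertible_pullback g hL') =
      Groth.Agent.Grpsch.PicGrp.mk ((Scheme.Modules.pullback g).obj (CohB1.tensorMod L L'))
        (Groth.Agent.Fdesc.LocGen.isInvertible_pullback g hLL) := by
    rw [← Groth.Agent.Grpsch.PicGrp.pull_mk g hL, ← Groth.Agent.Grpsch.PicGrp.pull_mk g hL',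
      ← Groth.Agent.Grpsch.PicGrp.pull_mk g hLL, ← map_mul, Groth.Agent.Grpsch.PicGrp.mk_mul_mk]
  have k1 := key L hL
  have k2 := key L' hL'
  have k3 := key (CohB1.tensorMod L L') hLL
  have h1 := K436.VolAdd.limsup_add_le K (X := X') hA' hd1 (hdim.trans hd)
    (Groth.Agent.Grpsch.PicGrp.mk ((Scheme.Modules.pullback g).obj L)
        (Groth.Agent.Fdesc.LocGen.isInvertible_pullback g hL))
    (Groth.Agent.Grpsch.PicGrp.mk ((Scheme.Modules.pullback g).obj L')
        (Groth.Agent.Fdesc.LocGen.isInvertible_pullback g hL')) (by simpa only [k1] using hbig)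
    (by simpa only [k2] using hbig')
  rw [hmul] at h1
  simpa only [k1, k2, k3] using h1

end Groth.Agent.S17378
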