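import Groth.Statements.S17379
import Groth.Agent.Variety.K436.FinCls

set_option autoImplicit false
universe u
open CategoryTheory CategoryTheory.Limits AlgebraicGeometry
open Variety

namespace Groth.Agent.S17379

/-- Let X be a normal, geometrically integral scheme proper over a field k which admits an ample
invertible module, and D an effective Cartier divisor on X (a quasi-coherent ideal locally generated
by one nonzerodivisor, with ideal sheaf O(−D)). Order numerical classes of divisors by declaring the
class of D at least the class of D′ when D − D′ is numerically equivalent to an effective Cartier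
divisor. Then only finitely many numerical classes of effective Cartier divisors lie below the class
of D: there are finitely many invertible modules F_1, …, F_n such that whenever D′, D″ are effective
Cartier divisors and N is a numerically trivial invertible module with O(−D) ≅ O(−D′) ⊗ O(−D″) ⊗ N,
the module O(−D′) is isomorphic to some F_i tensored with a numerically trivial invertible module. -/
theorem result (k : Type u) [Field k] (X : Scheme.{u})
    [X.Over (Spec (CommRingCat.of k))] [IsIntegral X] [GeometricallyIntegral (X ↘ Spec (CommRingCat.of k))]
    [IsProper (X ↘ Spec (CommRingCat.of k))] (hnorm : Pi1.IsNormalScheme X) (hproj : ∃ A : X.Modules, CohB1.IsAmple A)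
    (D : X.IdealSheafData) (hD : FGA.IsEffCartier D) :
    ∃ (n : ℕ) (F : Fin n → X.Modules), ∀ (D' D'' : X.IdealSheafData), FGA.IsEffCartier D' → FGA.IsEffCartier D'' →
      ∀ N : X.Modules, PicF.IsInvertible N → Pic13.IsNumEquivZero k X N →
        Nonempty (ClSub.idealMod D ≅ CohB1.tensorMod (CohB1.tensorMod (ClSub.idealMod D') (ClSub.idealMod D'')) N) →
          ∃ (i : Fin n) (N' : X.Modules), PicF.IsInvertible N' ∧ Pic13.IsNumEquivZero k X N' ∧
            Nonempty (ClSub.idealMod D' ≅ CohB1.tensorMod (F i) N') := by
  obtain ⟨A, hA⟩ := hproj
  exact K436.FinCls.main k hA D hD

end Groth.Agent.S17379
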