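import Groth.Statements.S17381
import Groth.Agent.FlatMor.K263.AdmOpen

set_option autoImplicit false
universe u
open FlatMor

namespace Groth.Agent.S17381

open AlgebraicGeometry CategoryTheory Limits in
/-- Let f : X' → X be a proper morphism with X quasi-compact and quasi-separated (so X' is too), and let
U ⊆ X be a quasi-compact dense open subscheme such that f restricts to an isomorphism over U and the
preimage of U is dense in X'. Then X' and X admit a common blow-up over f: there are a scheme X̃, a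
morphism c' : X̃ → X' which is a blowing up of X' in a quasi-coherent ideal of finite type with
support disjoint from the preimage of U, and a quasi-coherent ideal of finite type on X with support
disjoint from U in which the composite c' ≫ f is a blowing up of X. (A proper morphism is birational
in this sense exactly when source and target have a common admissible blow-up.) -/
theorem result
    {X X' : Scheme.{u}} [CompactSpace X] [QuasiSeparatedSpace X]
    (f : X' ⟶ X) [IsProper f] (U : X.Opens) (hU : IsCompact (U : Set X)) (hUd : Dense (U : Set X))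
    [IsIso (f ∣_ U)] (hU' : Dense ((f ⁻¹ᵁ U : X'.Opens) : Set X')) :
    ∃ (𝓘' : X'.IdealSheafData) (𝓘 : X.IdealSheafData) (Y : Scheme.{u}) (c' : Y ⟶ X'),
      BlowUp.IsBlowUp c' 𝓘' ∧ BlowUp.IsAdmissibleFor (f ⁻¹ᵁ U) 𝓘' ∧
      BlowUp.IsBlowUp (c' ≫ f) 𝓘 ∧ BlowUp.IsAdmissibleFor U 𝓘 := by
  obtain ⟨𝓙, Y, X₁, c', c, j, hb, hba, hc, hca, hsupp, hj, hjc, hjp⟩ :=
    K263.AdmOpen.exists_blowUps_openImmersion f U hU
  have hjP : IsProper j := hjp inferInstance
  have hcl : IsClosed (Set.range j) := j.isClosedMap.isClosed_range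
  -- the part of `X₁` over `U` lifts to `Y`
  let T : X₁.Opens := c ⁻¹ᵁ U
  let g : (T : Scheme.{u}) ⟶ X' := (c ∣_ U) ≫ inv (f ∣_ U) ≫ (f ⁻¹ᵁ U).ι
  have hg : g ≫ f = T.ι ≫ c := by
    simp only [g, T, Category.assoc, ← morphismRestrict_ι, IsIso.inv_hom_id_assoc]
  have heff : BlowUp.IsEffCartierIdeal ((𝓙.comap f).comap g) := by
    rw [← Scheme.IdealSheafData.comap_comp, hg, Scheme.IdealSheafData.comap_comp]
    exact Groth.Agent.Divis.EffCartier.isEff_comap_flat hc.1 T.ι
  obtain ⟨h, hh, -⟩ := hb.2 _ g heff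
  have hhj : h ≫ j = T.ι := by
    refine (hc.2 _ (T.ι ≫ c) ?_).unique ?_ rfl
    · rw [Scheme.IdealSheafData.comap_comp]
      exact Groth.Agent.Divis.EffCartier.isEff_comap_flat hc.1 T.ι
    · change (h ≫ j) ≫ c = T.ι ≫ c
      rw [Category.assoc, hjc, ← Category.assoc, hh, hg]
  have hsub : ((Groth.Agent.Flat2C.StrictTr.compl (𝓙.comap c) : X₁.Opens) : Set X₁) ⊆ Set.range j := by
    intro x hx
    rw [Groth.Agent.Flat2C.StrictTr.compl_comap] at hx
    have hxU : c x ∈ (U : Set X) := by
      by_contra hcon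
      have : c x ∈ (𝓙.support : Set X) := by rw [hsupp]; exact hcon
      exact hx this
    have hxT : x ∈ T := hxU
    exact ⟨h ⟨x, hxT⟩, congrArg (fun m : (T : Scheme.{u}) ⟶ X₁ => m ⟨x, hxT⟩) hhj⟩
  have hsurj : Function.Surjective j := by
    rw [← Set.range_eq_univ, ← hcl.closure_eq]
    exact Set.eq_univ_of_univ_subset
      ((Groth.Agent.Flat2C.StrictTr.closure_compl_of_isEff hc.1).ge.trans (closure_mono hsub))
  have hjs : Surjective j := ⟨hsurj⟩
  have hiso : IsIso j := by
    rw [isIso_iff_isOpenImmersion_and_epi_base]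
    exact ⟨hj, (TopCat.epi_iff_surjective _).mpr hsurj⟩
  refine ⟨𝓙.comap f, 𝓙, Y, c', hb, hba, ?_, hca⟩
  rw [← hjc]
  refine ⟨?_, fun W w hw => ?_⟩
  · rw [Scheme.IdealSheafData.comap_comp]
    exact Groth.Agent.Divis.EffCartier.isEff_comap_flat hc.1 j
  · obtain ⟨k, hk, huniq⟩ := hc.2 W w hw
    refine ⟨k ≫ inv j, ?_, fun k' hk' => ?_⟩
    · change (k ≫ inv j) ≫ j ≫ c = w
      rw [Category.assoc, IsIso.inv_hom_id_assoc]
      exact hk
    · rw [← huniq (k' ≫ j) (by change (k' ≫ j) ≫ c = w; rw [Category.assoc]; exact hk'), Category.assoc,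
        IsIso.hom_inv_id, Category.comp_id]

end Groth.Agent.S17381
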