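import Groth.Statements.S9706
import Groth.Agent.Mor.K386.QPVA
import Groth.Agent.Mor.K386.OpenHalf

set_option autoImplicit false
universe u
open CategoryTheory CategoryTheory.Limits AlgebraicGeometry
open Mor

namespace Groth.Agent.S9706

/-- Let S be quasi-compact and quasi-separated and f : X ⟶ S quasi-projective. Then f factors as an open
immersion X ⟶ X' followed by a projective morphism X' ⟶ S. Here X' ⟶ S projective means isomorphic
over S to the relative Proj of a quasi-coherent graded algebra generated by its finite-type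
degree-one part; the published definition uses closed subschemes of P(E) with E of finite type, an
equivalent condition. -/
theorem result {X S : Scheme.{u}} [CompactSpace ↥S]
    [QuasiSeparatedSpace ↥S] (f : X ⟶ S) (hf : RelProj.IsQuasiProjective f) :
    ∃ (X' : Scheme.{u}) (j : X ⟶ X') (g : X' ⟶ S), IsOpenImmersion j ∧ RelProj.IsProjective g ∧ j ≫ g = f := by
  obtain ⟨h1, h2, L, hL⟩ := hf
  obtain ⟨n₀, hn₀⟩ := K386.QPVA.exists_va_of_isRelAmple f hL
  obtain ⟨E, φ, hE, hft, -, hVA⟩ := hn₀ n₀ le_rfl
  have hinv := Groth.Agent.Fdesc.LocGen.isInvertible_tensorPow (K34.RelAmpInv.isInvertible_of_isRelAmple f hL) n₀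
  obtain ⟨P, p, i, hp, hi, -, hip⟩ := K386.OpenHalf.exists_projective f φ hinv hE
    (fun U hU => CohqB.FiniteType2.finite_sections_of_isFT E hft hU) hVA
  exact ⟨P, i, p, hi, hp, hip⟩

end Groth.Agent.S9706
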