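import Groth.Statements.S17383
import Groth.Agent.FlatMor.K264.ChowOpen
import Groth.Agent.S4418
import Groth.Agent.S9708
import Groth.Agent.S8910
import Groth.Agent.S4452
import Groth.Agent.S9706

set_option autoImplicit false
universe u
open FlatMor

namespace Groth.Agent.S17383

open AlgebraicGeometry CategoryTheory Limits in
/-- Let S be a quasi-compact quasi-separated scheme, f : X → S a separated morphism of finite type, and
U ⊆ X a quasi-compact dense open subscheme which is quasi-projective over S (of finite type with a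
relatively ample invertible module). Then there are a blowing up q : X' → X in a quasi-coherent
ideal of finite type with support disjoint from U, a projective morphism g : P → S (P the relative
homogeneous spectrum of a quasi-coherent graded algebra generated in degree one with degree-one part
of finite type) and an open immersion j : X' → P with dense image such that j ≫ g = q ≫ f. The
centre of the blow-up misses the prescribed open U. -/
theorem result
    {X S : Scheme.{u}} [CompactSpace S] [QuasiSeparatedSpace S]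
    (f : X ⟶ S) [IsSeparated f] [QuasiCompact f] [LocallyOfFiniteType f]
    (U : X.Opens) (hU : IsCompact (U : Set X)) (hUd : Dense (U : Set X))
    (hq : RelProj.IsQuasiProjective (U.ι ≫ f)) :
    ∃ (𝓘 : X.IdealSheafData) (X' P : Scheme.{u}) (q : X' ⟶ X) (j : X' ⟶ P) (g : P ⟶ S),
      BlowUp.IsBlowUp q 𝓘 ∧ BlowUp.IsAdmissibleFor U 𝓘 ∧ RelProj.IsProjective g ∧
      IsOpenImmersion j ∧ IsDominant j ∧ j ≫ g = q ≫ f := by
  obtain ⟨P₁, j₁, g₁, hj₁, hg₁, hjg₁⟩ := Groth.Agent.S9706.result (U.ι ≫ f) hq
  have hp₁ : IsProper g₁ := (Groth.Agent.S4418.result g₁ hg₁).2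
  have hcU : CompactSpace U := isCompact_iff_compactSpace.mp hU
  have hqs : QuasiSeparatedSpace P₁ := quasiSeparatedSpace_of_quasiSeparated g₁
  have hqc : QuasiCompact j₁ := inferInstance
  obtain ⟨ho, -⟩ := Groth.Agent.Flat2C.GlueBlow.isOpenImmersion_toImage_of_fac j₁ j₁ (𝟙 _) (Category.id_comp _)
  have hdom := Groth.Agent.Flat2C.GlueBlow.isSchemeTheoreticallyDominant_toImage j₁
  have hd : IsDominant j₁.toImage := inferInstance
  have hc : RelProj.IsProjective (j₁.imageι ≫ g₁) := Groth.Agent.S9708.result j₁.imageι g₁ (Groth.Agent.S4452.result _) hg₁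
  obtain ⟨𝓘, X', q, 𝓙, P, b, j, hb₁, hI, hb₂, hJ, hj, hjd, hjg⟩ :=
    K264.ChowOpen.main f U hU hUd (j₁.imageι ≫ g₁) j₁.toImage hd.1
      (by rw [← Category.assoc, j₁.toImage_imageι, hjg₁])
  exact ⟨𝓘, X', P, q, j, b ≫ j₁.imageι ≫ g₁, hb₁, hI,
    Groth.Agent.S9708.result b _ (Groth.Agent.S8910.result 𝓙 hJ.1 b hb₂) hc, hj, hjd, hjg⟩

end Groth.Agent.S17383
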