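import Groth.Statements.S17386
import Groth.Agent.BlowUp.K484.StalkAux

set_option autoImplicit false
universe u
open BlowUp

namespace Groth.Agent.S17386

open AlgebraicGeometry CategoryTheory Limits in
/-- Let X be any scheme, J_1, …, J_n quasi-coherent ideals on X with closed subschemes Y_i, and b : X' →
X a blowing up of X in the ideal J_1 + ⋯ + J_n of the intersection of the Y_i. For each i let b_i' :
Y_i' → Y_i be a blowing up of Y_i in the inverse image of J_1 + ⋯ + J_n and k_i : Y_i' → X' the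
morphism with k_i ≫ b = b_i' ≫ (Y_i → X), so that the image of k_i is the strict transform of Y_i.
Then the strict transforms have empty common intersection: no point of X' lies in the image of every
k_i. -/
theorem result
    {X X' : Scheme.{u}} {n : ℕ} (𝓙 : Fin n → X.IdealSheafData) (b : X' ⟶ X)
    (hb : BlowUp.IsBlowUp b (⨆ i, 𝓙 i))
    (Y' : Fin n → Scheme.{u}) (b' : ∀ i, Y' i ⟶ (𝓙 i).subscheme)
    (hb' : ∀ i, BlowUp.IsBlowUp (b' i) ((⨆ j, 𝓙 j).comap (𝓙 i).subschemeι))
    (k : ∀ i, Y' i ⟶ X') (hk : ∀ i, k i ≫ b = b' i ≫ (𝓙 i).subschemeι) :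
    (⋂ i, Set.range (fun y => k i y)) = (∅ : Set X') := by
  open Groth.Agent.Divis.CartierBasic Groth.Agent.Divis.CartierStalk K484.StalkAux in
  rw [Set.eq_empty_iff_forall_notMem]
  intro x' hx'
  rw [Set.mem_iInter] at hx'
  obtain ⟨t, ht, hE⟩ := exists_stalkIdeal_eq_span hb.1 x'
  rw [stalkIdeal_comap, stalkIdeal_iSup, Ideal.map_iSup] at hE
  obtain ⟨i, hi⟩ := exists_eq_of_iSup_eq_span ht hE
  obtain ⟨y, hy⟩ := hx' i
  dsimp only at hy
  subst hy
  obtain ⟨g, hg, hgE⟩ := exists_stalkIdeal_eq_span (hb' i).1 y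
  have h1 : ((⨆ j, 𝓙 j).comap (𝓙 i).subschemeι).comap (b' i) = ((⨆ j, 𝓙 j).comap b).comap (k i) := by
    rw [← Scheme.IdealSheafData.comap_comp, ← Scheme.IdealSheafData.comap_comp, hk i]
  have h2 : ((𝓙 i).comap b).comap (k i) = ⊥ := by
    rw [← Scheme.IdealSheafData.comap_comp, hk i, Scheme.IdealSheafData.comap_comp, comap_subschemeι]
    apply ext_stalkIdeal
    intro z
    rw [stalkIdeal_comap, stalkIdeal_bot, stalkIdeal_bot, Ideal.map_bot]
  have h3 : stalkIdeal (((⨆ j, 𝓙 j).comap b).comap (k i)) y = stalkIdeal (((𝓙 i).comap b).comap (k i)) y := by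
    rw [stalkIdeal_comap _ (k i), stalkIdeal_comap _ (k i), stalkIdeal_comap _ b, stalkIdeal_comap _ b, stalkIdeal_iSup,
      Ideal.map_iSup, hE, hi]
  rw [h1, h3, h2, stalkIdeal_bot] at hgE
  have h4 : g = 0 := by
    have : g ∈ (⊥ : Ideal _) := hgE ▸ Ideal.mem_span_singleton_self g
    exact this
  exact zero_notMem_nonZeroDivisors (h4 ▸ hg)

end Groth.Agent.S17386
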