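import Groth.Statements.S17391
import Groth.Agent.BlowUp.K484.Separate

set_option autoImplicit false
universe u
open BlowUp

namespace Groth.Agent.S17391

open AlgebraicGeometry CategoryTheory Limits in
/-- Let X and Z be schemes, p : Z → X a morphism, U ⊆ V ⊆ X open subschemes, and f : Y → Z a
quasi-compact immersion whose composite with p lands in U. Let I₁ be a quasi-coherent ideal on X
whose support contains V ∖ U and is disjoint from U, and I₂ a quasi-coherent ideal whose support
lies in supp(I₁) ∖ V. Assume that the closed subscheme p⁻¹(V(I₁²)) ∩ Ȳ of Z, where Ȳ is the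
scheme-theoretic image of f, is contained in p⁻¹(V(I₂)) as a closed subscheme: the inverse image
ideal of I₂ on Z lies in the sum of the inverse image ideal of I₁² and the kernel ideal of f. Then
for every blowing up q : X' → X of X in I₁ + I₂, writing Z' = Z ×_X X' → X' and Y' = Y ×_Z Z' → Z'
for the base changes, the closure in Z' of the image of Y' is disjoint from the preimage in Z' of
the closure in X' of q⁻¹(V ∖ U). (The blowing up is an isomorphism over V, since the support of I₁ +
I₂ is that of I₂ and lies in X ∖ V; the point is that the closure of q⁻¹(V ∖ U) in X', which may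
reach over X ∖ V, still misses the closure of Y'.) -/
theorem result
    {X Y Z X' : Scheme.{u}} (p : Z ⟶ X) (U V : X.Opens) (hUV : U ≤ V)
    (f : Y ⟶ Z) [IsImmersion f] [QuasiCompact f] (hY : Set.range (fun y => p (f y)) ⊆ (U : Set X))
    (𝓘₁ 𝓘₂ : X.IdealSheafData)
    (h₁ : (V : Set X) \ (U : Set X) ⊆ (𝓘₁.support : Set X)) (h₁' : Disjoint (𝓘₁.support : Set X) (U : Set X))
    (h₂ : (𝓘₂.support : Set X) ⊆ (𝓘₁.support : Set X) \ (V : Set X))
    (hincl : 𝓘₂.comap p ≤ (𝓘₁ * 𝓘₁).comap p ⊔ f.ker)
    (q : X' ⟶ X) (hq : BlowUp.IsBlowUp q (𝓘₁ ⊔ 𝓘₂)) :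
    Disjoint (closure (Set.range (fun y => (pullback.snd f (pullback.fst p q)) y)))
      ((fun z => (pullback.snd p q) z) ⁻¹'
        closure ((fun x' => q x') ⁻¹' ((V : Set X) \ (U : Set X)))) := by
  have hE2 : ((𝓘₁ ⊔ 𝓘₂).support : Set X) ⊆ (𝓘₁.support : Set X) ∩ (𝓘₂.support : Set X) := by
    intro x hx
    rw [Scheme.IdealSheafData.support_sup] at hx
    exact hx
  have key := K484.Separate.disjoint_closure (pullback.condition (f := p) (g := q)) (𝓘₁ ⊔ 𝓘₂) 𝓘₁ f.ker hq.1
    le_sup_left ((V : Set X) \ (U : Set X)) h₁ ?_ (Set.range f) f.range_subset_ker_support ?_ ?_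
  · refine key.mono_left (closure_mono ?_)
    rintro _ ⟨y, rfl⟩
    refine ⟨pullback.fst f (pullback.fst p q) y, ?_⟩
    change f _ = pullback.fst p q (pullback.snd f (pullback.fst p q) y)
    rw [← Scheme.Hom.comp_apply, ← Scheme.Hom.comp_apply, pullback.condition]
  · rw [Set.disjoint_left]
    intro x hx hx2
    exact (h₂ (hE2 hx2).2).2 hx.1
  · rintro _ ⟨y, rfl⟩ hz
    exact Set.disjoint_left.1 h₁' (hE2 hz).1 (hY ⟨y, rfl⟩)
  · open Groth.Agent.Divis.CartierBasic Groth.Agent.Divis.CartierStalk in
    rw [le_iff_stalkIdeal] at hincl ⊢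
    intro x
    have h3 := hincl x
    rw [stalkIdeal_sup, stalkIdeal_comap, stalkIdeal_comap, stalkIdeal_mul] at h3
    rw [stalkIdeal_sup, stalkIdeal_comap, stalkIdeal_comap, stalkIdeal_sup, Ideal.map_sup]
    refine sup_le le_sup_left (h3.trans (sup_le_sup_right (Ideal.map_mono Ideal.mul_le_right) _))

end Groth.Agent.S17391
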