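import Groth.Statements.S17392
import Groth.Agent.BlowUp.K484.Separate
import Groth.Agent.Flat2C.Glob

set_option autoImplicit false
universe u
open BlowUp

namespace Groth.Agent.S17392

open AlgebraicGeometry CategoryTheory Limits in
/-- Let X₁ and X₂ be quasi-compact quasi-separated schemes, q : X₂ → X₁ a quasi-compact separated
morphism, V₁ ⊆ X₁ a quasi-compact open subscheme and U ⊆ q⁻¹(V₁) an open subscheme of X₂ on which q
restricts to an open immersion (so U is identified with an open of V₁). Let Z₁ ⊆ X₁ be a closed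
subset whose open complement is quasi-compact, put Y₁ = Z₁ ∩ V₁, and let Z₂ ⊆ X₂ be a closed subset
whose open complement is also quasi-compact, with q⁻¹(Y₁) ⊆ Z₂. Then there is a quasi-coherent ideal
E of finite type on X₁ with support contained in Z₁ ∖ V₁ (so that blowing up E is V₁-admissible)
such that, for every blowing up c : X₁' → X₁ of X₁ in E with base change q' : X₂' = X₂ ×_{X₁} X₁' →
X₁' and c₂ : X₂' → X₂, one has q'⁻¹(closure of c⁻¹(Y₁)) ∩ closure(c₂⁻¹(U)) ⊆ c₂⁻¹(Z₂) as subsets of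
X₂'. -/
theorem result
    {X₁ X₂ : Scheme.{u}} [CompactSpace X₁] [QuasiSeparatedSpace X₁] [CompactSpace X₂] [QuasiSeparatedSpace X₂]
    (q : X₂ ⟶ X₁) [QuasiCompact q] [IsSeparated q]
    (V₁ : X₁.Opens) (hV₁ : IsCompact (V₁ : Set X₁))
    (U : X₂.Opens) (hU : U ≤ q ⁻¹ᵁ V₁) [IsOpenImmersion (U.ι ≫ q)]
    (Z₁ : Set X₁) (hZ₁ : IsClosed Z₁) (hZ₁c : IsCompact Z₁ᶜ)
    (Z₂ : Set X₂) (hZ₂ : IsClosed Z₂) (hZ₂c : IsCompact Z₂ᶜ)
    (hYZ : (fun x => q x) ⁻¹' (Z₁ ∩ (V₁ : Set X₁)) ⊆ Z₂) :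
    ∃ 𝓔 : X₁.IdealSheafData, BlowUp.IsFiniteTypeIdeal 𝓔 ∧ (𝓔.support : Set X₁) ⊆ Z₁ \ (V₁ : Set X₁) ∧
      ∀ (X₁' : Scheme.{u}) (c : X₁' ⟶ X₁), BlowUp.IsBlowUp c 𝓔 →
        (fun z => (pullback.snd q c) z) ⁻¹' closure ((fun x => c x) ⁻¹' (Z₁ ∩ (V₁ : Set X₁))) ∩
            closure ((fun z => (pullback.fst q c) z) ⁻¹' (U : Set X₂)) ⊆
          (fun z => (pullback.fst q c) z) ⁻¹' Z₂ := by
  open Groth.Agent.Divis.CartierBasic Groth.Agent.Divis.CartierStalk Groth.Agent.Divis.IdealFT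
    Groth.Agent.Flat2C.Glob in
  let W : X₂.Opens := ⟨Z₂ᶜ, hZ₂.isOpen_compl⟩
  have hWc : IsCompact (W : Set X₂) := hZ₂c
  have hWqc : QuasiCompact W.ι := by
    have : CompactSpace W := isCompact_iff_compactSpace.1 hWc
    infer_instance
  let p : (W : Scheme.{u}) ⟶ X₁ := W.ι ≫ q
  have hpqc : QuasiCompact p := inferInstanceAs (QuasiCompact (W.ι ≫ q))
  let Z₁' : X₁.Opens := ⟨Z₁ᶜ, hZ₁.isOpen_compl⟩
  obtain ⟨I₁, hI₁ft, hI₁s⟩ := exists_ft_support_eq_compl Z₁' hZ₁c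
  have hI₁s' : (I₁.support : Set X₁) = Z₁ := by rw [hI₁s]; exact compl_compl Z₁
  let K : (W : Scheme.{u}).IdealSheafData := (p ⁻¹ᵁ V₁).ι.ker
  let T := (I₁.comap p ⊔ K).subscheme
  let g : T ⟶ X₁ := (I₁.comap p ⊔ K).subschemeι ≫ p
  have hg : ∀ t : T, g t ∉ V₁ := by
    intro t ht
    have h1 : (I₁.comap p ⊔ K).subschemeι t ∈ (I₁.comap p ⊔ K).support := subschemeι_mem_support _ t
    rw [Scheme.IdealSheafData.support_sup] at h1
    have h2 : p ((I₁.comap p ⊔ K).subschemeι t) ∈ I₁.support :=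
      (K484.StalkAux.mem_support_comap_iff _ _ _).1 h1.1
    have h3 : p ((I₁.comap p ⊔ K).subschemeι t) ∈ Z₁ := by
      rw [← hI₁s']; exact h2
    have h4 : g t = p ((I₁.comap p ⊔ K).subschemeι t) := rfl
    have h6 : p ((I₁.comap p ⊔ K).subschemeι t) ∈ V₁ := h4 ▸ ht
    have h5 : W.ι ((I₁.comap p ⊔ K).subschemeι t) ∈ Z₂ := hYZ ⟨h3, h6⟩
    exact ((I₁.comap p ⊔ K).subschemeι t).2 h5
  have hcl : Disjoint (g.ker.support : Set X₁) (V₁ : Set X₁) := by
    rw [Scheme.Hom.support_ker]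
    change Disjoint (closure (Set.range g)) (V₁ : Set X₁)
    refine Disjoint.closure_left ?_ V₁.isOpen
    rw [Set.disjoint_left]
    rintro _ ⟨t, rfl⟩ h
    exact hg t h
  obtain ⟨K', hK'le, hK'ft, hK'eq⟩ := exists_ft_eqOn g.ker V₁ hV₁ fun V hV => by
    rw [ideal_eq_top_of_disjoint g.ker V (hcl.mono_right hV)]; exact Ideal.fg_top _
  have hK's : Disjoint (K'.support : Set X₁) (V₁ : Set X₁) :=
    disjoint_support_of_ideal_eq_top K' V₁ fun V hV => by
      rw [hK'eq V hV, ideal_eq_top_of_disjoint g.ker V (hcl.mono_right hV)]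
  have hEs : ((I₁ ⊔ K').support : Set X₁) = (I₁.support : Set X₁) ∩ (K'.support : Set X₁) := by
    rw [Scheme.IdealSheafData.support_sup]; rfl
  refine ⟨I₁ ⊔ K', ?_, ?_, ?_⟩
  · intro U
    rw [Scheme.IdealSheafData.ideal_sup, Pi.sup_apply]
    exact Submodule.FG.sup (hI₁ft U) (hK'ft U)
  · rw [hEs, hI₁s']
    rintro x ⟨h1, h2⟩
    exact ⟨h1, fun h3 => Set.disjoint_left.1 hK's h2 h3⟩
  · intro X₁' c hc z hz
    by_contra hzZ
    let W' : (pullback q c).Opens := (pullback.fst q c) ⁻¹ᵁ W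
    have hzW' : z ∈ W' := hzZ
    let π : (W' : Scheme.{u}) ⟶ W := (pullback.fst q c) ∣_ W
    let p' : (W' : Scheme.{u}) ⟶ X₁' := W'.ι ≫ pullback.snd q c
    have hsq : π ≫ p = p' ≫ c := by
      simp only [π, p, p', Category.assoc]
      rw [morphismRestrict_ι_assoc, pullback.condition]
    have hincl : (I₁ ⊔ K').comap p ≤ I₁.comap p ⊔ K := by
      have h1 : K'.comap p ≤ I₁.comap p ⊔ K := by
        rw [Scheme.Hom.ker_comp, Scheme.IdealSheafData.ker_subschemeι] at hK'le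
        exact (Scheme.IdealSheafData.le_map_iff_comap_le).1 hK'le
      rw [le_iff_stalkIdeal] at h1 ⊢
      intro x
      have h3 := h1 x
      rw [stalkIdeal_sup, stalkIdeal_comap, stalkIdeal_comap] at h3
      rw [stalkIdeal_sup, stalkIdeal_comap, stalkIdeal_comap, stalkIdeal_sup, Ideal.map_sup]
      exact sup_le le_sup_left h3
    have key := K484.Separate.disjoint_closure hsq (I₁ ⊔ K') I₁ K hc.1 le_sup_left
      (Z₁ ∩ (V₁ : Set X₁)) (by rw [hI₁s']; exact Set.inter_subset_left)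
      (by
        rw [hEs]
        exact (hK's.symm.mono Set.inter_subset_right Set.inter_subset_right))
      (p ⁻¹ᵁ V₁ : Set W)
      (by
        have h1 := (p ⁻¹ᵁ V₁).ι.range_subset_ker_support
        rwa [Scheme.Opens.range_ι] at h1)
      (by
        intro w hw hw'
        exact Set.disjoint_left.1 hK's (hEs ▸ hw' : p w ∈ (I₁.support : Set X₁) ∩ (K'.support : Set X₁)).2 hw)
      hincl
    have key2 := Set.disjoint_left.1 key
    refine key2 (a := (⟨z, hzW'⟩ : W')) ?_ ?_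
    · have h1 : (⟨z, hzW'⟩ : W') ∈ closure (W'.ι ⁻¹' ((fun z => (pullback.fst q c) z) ⁻¹' (U : Set X₂))) := by
        rw [← W'.ι.isOpenEmbedding.isOpenMap.preimage_closure_eq_closure_preimage W'.ι.continuous]
        exact hz.2
      refine closure_mono ?_ h1
      intro w hw
      have h2 : (pullback.fst q c) (W'.ι w) ∈ U := hw
      change p (π w) ∈ V₁
      have h3 : p (π w) = q ((pullback.fst q c) (W'.ι w)) := by
        have h4 : π ≫ p = W'.ι ≫ pullback.fst q c ≫ q := by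
          simp only [π, p]
          rw [morphismRestrict_ι_assoc]
        rw [← Scheme.Hom.comp_apply, h4]
        rfl
      rw [h3]
      exact hU h2
    · exact hz.1

end Groth.Agent.S17392
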