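import Groth.Statements.S17396
import Groth.Agent.CycCov.K926.LocY
import Groth.Agent.Pi1C.ChartGlue

set_option autoImplicit false
universe u
open CycCov

namespace Groth.Agent.S17396

open CategoryTheory AlgebraicGeometry in
/-- For X integral and smooth over an algebraically closed field k, L an invertible module, N ≥ 1
invertible in k, D_1, …, D_r a strict normal crossing divisor on X with multiplicities α_j, s a
global section of the N-th tensor power of L whose divisor of zeros is D = Σ α_j D_j, and π : Y → X
with its root datum the normalised cyclic N-th-root cover of X defined by s, the morphism π is étale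
over every open W of X disjoint from the components D_j with α_j > 0. (The published claim allows
any effective divisor on a manifold; it is stated here for components forming a strict normal
crossing divisor.) -/
theorem result {k : Type u} [Field k] [IsAlgClosed k] {X Y : Scheme.{u}}
    (f : X ⟶ Spec (CommRingCat.of k)) [Smooth f] [IsIntegral X]
    (L : X.Modules) (hL : PicF.IsInvertible L) (N : ℕ) (hN : 0 < N) (hNk : (N : k) ≠ 0)
    {r : ℕ} (D : Fin r → X.IdealSheafData) (α : Fin r → ℕ) (hD : LogNCD.IsNCD D f)
    (s : Coh.structureModule X ⟶ CohB1.tensorPow L N) (hs : CycCov.IsZeroDiv (CohB1.tensorPow L N) s (CycCov.divIdeal D α))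
    (π : Y ⟶ X) (R : CycCov.Root L N s π) (hR : CycCov.IsCover R)
    (W : X.Opens) (hW : ∀ j : Fin r, 0 < α j → Disjoint (W : Set X) ((D j).support : Set X)) :
    Etale (π ∣_ W) := by
  have key : ∀ x : W, ∃ U : X.Opens, x.1 ∈ U ∧ U ≤ W ∧ Etale (π ∣_ U) := by
    rintro ⟨x, hx⟩
    obtain ⟨d, hxd, hdW, hnorm⟩ := K926.Loc.exists_locData_normalized f hL hD hs hx
    have hne : Nonempty d.U.1 := ⟨⟨x, hxd⟩⟩
    have hprod : ∏ j, d.c.g j ^ α j = 1 := by
      refine Finset.prod_eq_one fun j _ => ?_
      rcases Nat.eq_zero_or_pos (α j) with h | h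
      · rw [h, pow_zero]
      · have hxj : x ∉ (D j).support := fun hj => Set.disjoint_left.mp (hW j h) hx hj
        rw [d.c.g_none j (hnorm j hxj), one_pow]
    have hf : d.f' = d.u * 1 ^ N := by
      rw [one_pow]
      change d.u * ∏ j, d.c.g j ^ α j = d.u * 1
      rw [hprod]
    have hfin : IsFinite π := hR.1
    have h1 := d.etale_app R hR hN hNk d.hu one_ne_zero hf
    have h2 : (π.app d.U.1).hom.Finite := IsFinite.finite_app π d.U.1 d.U.2
    exact ⟨d.U.1, hxd, hdW, (Groth.Agent.Pi1C.ChartGlue.prop_of_app π d.U.2 h2 h1).2⟩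
  choose U hU1 hU2 hU3 using key
  have hWU : W = ⨆ x, U x := by
    apply le_antisymm
    · intro x hx
      exact TopologicalSpace.Opens.mem_iSup.mpr ⟨⟨x, hx⟩, hU1 _⟩
    · exact iSup_le hU2
  rw [hWU]
  exact Groth.Agent.Pi1C.ChartGlue.of_iSup π @Etale U hU3

end Groth.Agent.S17396
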