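import Groth.Statements.S17402
import Groth.Agent.CycCov.K27.CycMain

set_option autoImplicit false
universe u
open CycCov

namespace Groth.Agent.S17402

open CategoryTheory AlgebraicGeometry in
/-- Let k be an algebraically closed field, X an integral smooth separated quasi-compact k-scheme with
an ample invertible module (a quasi-projective manifold), L an invertible module, N ≥ 1 invertible
in k, T_1, …, T_r a strict normal crossing divisor on X with multiplicities α_j ≥ 0, s a section of
the N-th tensor power of L whose divisor of zeros is D = Σ α_j T_j (so the T_j with α_j = 0 form an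
auxiliary reduced divisor with no component in common with D and D plus that divisor has normal
crossings), and π : Y → X with its root datum the normalised cyclic N-th-root cover of X defined by
s. Then there exist a smooth k-scheme T and a finite surjective morphism δ : T → Y such that the
direct image of O_T under π ∘ δ is locally free of some rank dividing a power of N, the reduced
preimages of the T_j under π ∘ δ form a strict normal crossing divisor on T, and each T_j with α_j =
0 pulls back to a reduced divisor on T (its pulled-back ideal is radical). (The degree condition is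
placed on π ∘ δ, whose degree is N times that of δ; T need not be irreducible when Y is not.) -/
theorem result {k : Type u} [Field k] [IsAlgClosed k] {X Y : Scheme.{u}}
    (f : X ⟶ Spec (CommRingCat.of k)) [Smooth f] [IsIntegral X] [IsSeparated f] [CompactSpace X]
    (A : X.Modules) (hA : PicF.IsInvertible A) (hAmp : CohB1.IsAmple A)
    (L : X.Modules) (hL : PicF.IsInvertible L) (N : ℕ) (hN : 0 < N) (hNk : (N : k) ≠ 0)
    {r : ℕ} (D : Fin r → X.IdealSheafData) (α : Fin r → ℕ) (hD : LogNCD.IsNCD D f)
    (s : Coh.structureModule X ⟶ CohB1.tensorPow L N) (hs : CycCov.IsZeroDiv (CohB1.tensorPow L N) s (CycCov.divIdeal D α))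
    (π : Y ⟶ X) (R : CycCov.Root L N s π) (hR : CycCov.IsCover R) :
    ∃ (T : Scheme.{u}) (δ : T ⟶ Y), Smooth (δ ≫ π ≫ f) ∧ IsFinite δ ∧ Surjective δ ∧
      (∃ e m : ℕ, FlatMod.IsFinLocFreeOfRank e ((Scheme.Modules.pushforward (δ ≫ π)).obj (Coh.structureModule T)) ∧ e ∣ N ^ m) ∧
      LogNCD.IsNCD (fun j : Fin r => ((D j).comap (δ ≫ π)).radical) (δ ≫ π ≫ f) ∧
      ∀ j : Fin r, α j = 0 → (D j).comap (δ ≫ π) = ((D j).comap (δ ≫ π)).radical := by
  exact K27.CycMain.main f A hA hAmp L hL N hN hNk D α hD s hs π R hR

end Groth.Agent.S17402
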