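import Groth.Statements.S17403
import Groth.Agent.CycCov.K926.IrrSec

set_option autoImplicit false
universe u
open CycCov

namespace Groth.Agent.S17403

open CategoryTheory AlgebraicGeometry Opposite in
/-- For X integral and smooth over an algebraically closed field k, L an invertible module, N ≥ 1
invertible in k, D_1, …, D_r a strict normal crossing divisor on X with multiplicities α_j, s a
global section of the N-th tensor power of L whose divisor of zeros is D = Σ α_j D_j, and π : Y → X
with its root datum the normalised cyclic N-th-root cover of X defined by s, the scheme Y fails to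
be irreducible exactly when, for some divisor μ > 1 of N, s is the μ-th power of a global section s'
of the (N/μ)-th tensor power of L; the power relation is stated frame by frame: on every affine open
with a frame e of L, if s = a · e^{⊗N} and s' = b · e^{⊗(N/μ)} then a = b^μ. (The published claim
allows any effective divisor on a manifold; it is stated here for components forming a strict normal
crossing divisor.) -/
theorem result {k : Type u} [Field k] [IsAlgClosed k] {X Y : Scheme.{u}}
    (f : X ⟶ Spec (CommRingCat.of k)) [Smooth f] [IsIntegral X]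
    (L : X.Modules) (hL : PicF.IsInvertible L) (N : ℕ) (hN : 0 < N) (hNk : (N : k) ≠ 0)
    {r : ℕ} (D : Fin r → X.IdealSheafData) (α : Fin r → ℕ) (hD : LogNCD.IsNCD D f)
    (s : Coh.structureModule X ⟶ CohB1.tensorPow L N) (hs : CycCov.IsZeroDiv (CohB1.tensorPow L N) s (CycCov.divIdeal D α))
    (π : Y ⟶ X) (R : CycCov.Root L N s π) (hR : CycCov.IsCover R) :
    ¬ IrreducibleSpace Y ↔
      ∃ μ : ℕ, 1 < μ ∧ μ ∣ N ∧ ∃ s' : Coh.structureModule X ⟶ CohB1.tensorPow L (N / μ),
        ∀ (U : X.affineOpens) (e : L.val.obj (op U.1)), CycCov.IsGen L U.1 e →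
          ∀ a b : Γ(X, U.1), SecTwist.val s U.1 = a • CycCov.lpow L U.1 e N →
            SecTwist.val s' U.1 = b • CycCov.lpow L U.1 e (N / μ) → a = b ^ μ := by
  classical
  obtain ⟨x₀⟩ : Nonempty X := inferInstance
  obtain ⟨d, hxd, -, -⟩ := K926.Loc.exists_locData_normalized f hL hD hs (O := ⊤) (x := x₀) trivial
  have hne : Nonempty d.U.1 := ⟨⟨_, hxd⟩⟩
  have hUne : (d.U.1 : Set X).Nonempty := ⟨_, hxd⟩
  have hπne := K926.IrrSch.preimage_nonempty d hN R hR
  have hge : K892.RankOne.Gen L d.U.1 d.e := K892.Frames.gen_iff.mpr d.he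
  let _ := K926.CovSch.alg π d.U.1
  have hcov := d.isCov R hR hN
  constructor
  · intro hirr
    have h1 : ∃ c c' : Γ(Y, π ⁻¹ᵁ d.U.1), c * c' = 0 ∧ c ≠ 0 ∧ c' ≠ 0 := by
      by_contra hcon
      push Not at hcon
      apply hirr
      have : Nontrivial Γ(Y, π ⁻¹ᵁ d.U.1) := ⟨⟨1, 0, K926.IrrSch.one_ne_zero_of_isCov hcov hN⟩⟩
      have : NoZeroDivisors Γ(Y, π ⁻¹ᵁ d.U.1) := ⟨fun {a b} hab => by
        by_cases ha : a = 0
        · exact Or.inl ha
        · exact Or.inr (hcon a b hab ha)⟩
      exact K926.IrrSch.irreducibleSpace_of_isDomain hL hN hD hs R hR d.U.2 hUne hπne (NoZeroDivisors.to_isDomain _)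
    have hic : IsIntegrallyClosed Γ(X, d.U.1) := K926.Base.isIntegrallyClosed f d.U.2 hUne
    obtain ⟨ζ, hζ, -, -⟩ := K926.Loc.exists_zeta (k := k) hN hNk
    have hζ' : IsPrimitiveRoot (algebraMap Γ(X, d.U.1) (FractionRing Γ(X, d.U.1)) (K926.Str.str f d.U.1 ζ)) N :=
      (hζ.map_of_injective (K926.Str.str f d.U.1).injective).map_of_injective
        (IsFractionRing.injective Γ(X, d.U.1) (FractionRing Γ(X, d.U.1)))
    obtain ⟨μ, hμ1, hμN, b, hb⟩ := K926.Irr.exists_pow_of_zero_divisors hcov hN hζ' h1
    have hn : N / μ * μ = N := Nat.div_mul_cancel hμN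
    obtain ⟨s', hs'⟩ := K926.IrrSch.exists_section (f := f) (s := s) hL hUne (e₀ := d.e) d.hs (by omega) hn hb
    refine ⟨μ, hμ1, hμN, s', ?_⟩
    intro U e he a b ha hb
    by_cases hU : (U.1 : Set X).Nonempty
    · obtain ⟨W, hWU, hW, hge⟩ := K926.IrrSch.exists_gen_restrict hL hU he
      have h3 := hs' W hW _ hge _ _ (K926.IrrSch.val_coord_res hWU ha) (K926.IrrSch.val_coord_res hWU hb)
      apply K926.IrrSch.resO_injective hWU hW
      rw [map_pow]
      exact h3
    · have h3 : (U.1 : X.Opens) = ⊥ := TopologicalSpace.Opens.ext (Set.not_nonempty_iff_eq_empty.mp hU)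
      have h4 : Subsingleton Γ(X, U.1) := by
        rw [h3]
        infer_instance
      exact Subsingleton.elim _ _
  · rintro ⟨μ, hμ1, hμN, s', hs'⟩ hirr
    have hn : N / μ * μ = N := Nat.div_mul_cancel hμN
    obtain ⟨b, hb⟩ := K926.Frame.exists_coord d.he s'
    have hab := hs' d.U d.e hge.bijective _ b d.hs hb
    obtain ⟨c, c', hcc, hc, hc'⟩ := K926.Irr.exists_zero_divisors hcov hN hμ1 hμN hab
    have hdom := K926.IrrSch.isDomain_of_irreducibleSpace R hR hπne
    rcases mul_eq_zero.mp hcc with h | h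
    · exact hc h
    · exact hc' h


end Groth.Agent.S17403
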