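import Groth.Statements.S17406
import Groth.Agent.CycCov.K419.RatCurve

set_option autoImplicit false
open CycCov

namespace Groth.Agent.S17406

open CategoryTheory AlgebraicGeometry in
/-- Let n ≥ 2, r ≥ 1, d ≥ 1, let D be a smooth hypersurface in P^n over ℂ given as the divisor of zeros
of a section s of the r-th tensor power of O(d), and π : Y → P^n with its root datum the simple
cyclic cover of degree r branched over D (a smooth cyclic cover). Let g : P¹ → Y be a morphism over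
ℂ whose image is not contained in the preimage of D (the ideal of D pulled back to P¹ is nonzero)
and of degree e for π^*O(1). Then χ(P¹, g^*T_Y) = e·(n − (r−1)·d + 1) + n, where T_Y is the dual of
the module of differentials of Y over ℂ. -/
theorem result (n : ℕ) (hn : 2 ≤ n) {Y : Scheme.{0}}
    (r d : ℕ) (hr : 0 < r) (hd : 0 < d) (hL : PicF.IsInvertible (Twist.twistProjSpace n ℂ d))
    (D : Fin 1 → (CohB1.ProjSpace n ℂ).IdealSheafData) (hD : LogNCD.IsNCD D (CohB1.ProjSpace.toSpec n ℂ))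
    (s : Coh.structureModule (CohB1.ProjSpace n ℂ) ⟶ CohB1.tensorPow (Twist.twistProjSpace n ℂ d) r)
    (hs : CycCov.IsZeroDiv (CohB1.tensorPow (Twist.twistProjSpace n ℂ d) r) s (CycCov.divIdeal D (fun _ => 1)))
    (π : Y ⟶ CohB1.ProjSpace n ℂ) (R : CycCov.Root (Twist.twistProjSpace n ℂ d) r s π) (hR : CycCov.IsSimple R)
    [QuasiSeparated (π ≫ CohB1.ProjSpace.toSpec n ℂ)]
    (g : CohB1.ProjSpace 1 ℂ ⟶ Y) (hg : g ≫ π ≫ CohB1.ProjSpace.toSpec n ℂ = CohB1.ProjSpace.toSpec 1 ℂ)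
    (himg : (D 0).comap (g ≫ π) ≠ ⊥) (e : ℤ)
    (he : Pic13.curveDeg ℂ (CohB1.ProjSpace.toSpec 1 ℂ) ((Scheme.Modules.pullback (g ≫ π)).obj (Twist.twistProjSpace n ℂ 1)) = e) :
    Curv2.euler ℂ (CohB1.ProjSpace 1 ℂ) ((Scheme.Modules.pullback g).obj (RefHull.dual (Omega.sheaf (π ≫ CohB1.ProjSpace.toSpec n ℂ)))) =
      e * ((n : ℤ) - ((r : ℤ) - 1) * d + 1) + n := by
  exact K419.RatCurve.euler_eq ℂ (by omega) r d hr (Nat.cast_ne_zero.mpr hr.ne') D hD s hs π R hR g e he

end Groth.Agent.S17406
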