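import Groth.Statements.S17408
import Groth.Agent.CycCov.K419.CanPn

set_option autoImplicit false
open CycCov

namespace Groth.Agent.S17408

open CategoryTheory AlgebraicGeometry in
/-- Let n ≥ 2, r ≥ 1, d ≥ 1, let D be a smooth hypersurface in P^n over ℂ given as the divisor of zeros
of a section s of the r-th tensor power of O(d), and π : Y → P^n with its root datum the simple
cyclic cover of degree r branched over D (a smooth cyclic cover). Then the canonical sheaf of Y is
π^*O((r−1)d − (n+1)): every n-th exterior power of the module of differentials of Y over ℂ is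
isomorphic to the pull-back of O((r−1)·d − n − 1). (The assertion that Y is Fano when (r−1)d ≤ n is
not restated.) -/
theorem result (n : ℕ) (hn : 2 ≤ n) {Y : Scheme.{0}}
    (r d : ℕ) (hr : 0 < r) (hd : 0 < d) (hL : PicF.IsInvertible (Twist.twistProjSpace n ℂ d))
    (D : Fin 1 → (CohB1.ProjSpace n ℂ).IdealSheafData) (hD : LogNCD.IsNCD D (CohB1.ProjSpace.toSpec n ℂ))
    (s : Coh.structureModule (CohB1.ProjSpace n ℂ) ⟶ CohB1.tensorPow (Twist.twistProjSpace n ℂ d) r)
    (hs : CycCov.IsZeroDiv (CohB1.tensorPow (Twist.twistProjSpace n ℂ d) r) s (CycCov.divIdeal D (fun _ => 1)))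
    (π : Y ⟶ CohB1.ProjSpace n ℂ) (R : CycCov.Root (Twist.twistProjSpace n ℂ d) r s π) (hR : CycCov.IsSimple R)
    [QuasiSeparated (π ≫ CohB1.ProjSpace.toSpec n ℂ)]
    (ω : Y.Modules) (hω : ExtPow.IsExtPow n (Omega.sheaf (π ≫ CohB1.ProjSpace.toSpec n ℂ)) ω) :
    Nonempty (ω ≅ (Scheme.Modules.pullback π).obj (Twist.twistProjSpace n ℂ (((r : ℤ) - 1) * d - n - 1))) := by
  exact K419.CanPn.nonempty_iso (by omega) r d hr (Nat.cast_ne_zero.mpr hr.ne') D hD s hs π R hR ω hω

end Groth.Agent.S17408
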