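import Groth.Statements.S17409
import Mathlib
-- import your own Groth.Agent.* helpers here

set_option autoImplicit false
universe u
open Prym5

namespace Groth.Agent.S17409

/-- The specialisation `z = 0` on three variables. -/
noncomputable def spec0 (K : Type u) [Field K] :
    MvPolynomial (Fin 3) K →ₐ[K] MvPolynomial (Fin 2) K :=
  MvPolynomial.aeval ![MvPolynomial.X 0, MvPolynomial.X 1, 0]

theorem spec0_rename (K : Type u) [Field K] (G : MvPolynomial (Fin 2) K) :
    spec0 K (MvPolynomial.rename (Fin.castSucc : Fin 2 → Fin 3) G) = G := by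
  unfold spec0
  rw [MvPolynomial.aeval_rename]
  have : (![MvPolynomial.X 0, MvPolynomial.X 1, 0] ∘ Fin.castSucc : Fin 2 → MvPolynomial (Fin 2) K)
      = MvPolynomial.X := by
    funext i
    fin_cases i <;> rfl
  rw [this, MvPolynomial.aeval_X_left]
  rfl

theorem spec0_X2 (K : Type u) [Field K] : spec0 K (MvPolynomial.X 2) = 0 := by
  unfold spec0
  rw [MvPolynomial.aeval_X]
  rfl

theorem map_spec0_le (K : Type u) [Field K] :
    Ideal.map (spec0 K) (Ideal.span (Set.range (MvPolynomial.X : Fin 3 → MvPolynomial (Fin 3) K)))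
      ≤ Ideal.span (Set.range (MvPolynomial.X : Fin 2 → MvPolynomial (Fin 2) K)) := by
  rw [Ideal.map_span, Ideal.span_le]
  rintro _ ⟨_, ⟨i, rfl⟩, rfl⟩
  fin_cases i
  · refine Ideal.subset_span ⟨0, ?_⟩
    simp [spec0]
  · refine Ideal.subset_span ⟨1, ?_⟩
    simp [spec0]
  · simp [spec0]

theorem mem_span_iff (K : Type u) [Field K] {n : ℕ} (G : MvPolynomial (Fin n) K) :
    G ∈ Ideal.span (Set.range (MvPolynomial.X : Fin n → MvPolynomial (Fin n) K)) ↔
      MvPolynomial.constantCoeff G = 0 := by
  have := MvPolynomial.mem_pow_idealOfVars_iff' (σ := Fin n) (R := K) 1 G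
  rw [pow_one] at this
  refine this.trans ⟨fun h => h 0 (by simp), fun h x hx => ?_⟩
  have hx0 : x = 0 := by
    rw [Nat.lt_one_iff] at hx
    exact (Finsupp.degree_eq_zero_iff x).mp hx
  rw [hx0]; exact h

/-- The specialisation `x = y = 0` to one variable. -/
noncomputable def specZ (K : Type u) [Field K] :
    MvPolynomial (Fin 3) K →ₐ[K] Polynomial K :=
  MvPolynomial.aeval ![0, 0, Polynomial.X]

theorem specZ_rename (K : Type u) [Field K] (G : MvPolynomial (Fin 2) K) :
    specZ K (MvPolynomial.rename (Fin.castSucc : Fin 2 → Fin 3) G) =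
      Polynomial.C (MvPolynomial.constantCoeff G) := by
  unfold specZ
  rw [MvPolynomial.aeval_rename]
  have : (![0, 0, Polynomial.X] ∘ Fin.castSucc : Fin 2 → Polynomial K) = fun _ => 0 := by
    funext i
    fin_cases i <;> rfl
  rw [this, MvPolynomial.aeval_zero']
  rfl

theorem specZ_X2 (K : Type u) [Field K] : specZ K (MvPolynomial.X 2) = Polynomial.X := by
  unfold specZ
  rw [MvPolynomial.aeval_X]
  rfl

theorem map_specZ_le (K : Type u) [Field K] :
    Ideal.map (specZ K) (Ideal.span (Set.range (MvPolynomial.X : Fin 3 → MvPolynomial (Fin 3) K)))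
      ≤ Ideal.span {Polynomial.X} := by
  rw [Ideal.map_span, Ideal.span_le]
  rintro _ ⟨_, ⟨i, rfl⟩, rfl⟩
  fin_cases i
  · simp [specZ]
  · simp [specZ]
  · refine Ideal.subset_span ?_
    simp [specZ]

/-- Both consequences of `h ∈ (x, y, z)²`. -/
theorem key (K : Type u) [Field K]
    (h2 : (2 : K) ≠ 0) (G₂ G₃ G₄ : MvPolynomial (Fin 2) K)
    (h : MvPolynomial.rename (Fin.castSucc : Fin 2 → Fin 3) G₂ * MvPolynomial.X (2 : Fin 3) ^ 2
        + 2 * MvPolynomial.rename (Fin.castSucc : Fin 2 → Fin 3) G₃ * MvPolynomial.X (2 : Fin 3)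
        + MvPolynomial.rename (Fin.castSucc : Fin 2 → Fin 3) G₄
        ∈ (Ideal.span (Set.range (MvPolynomial.X : Fin 3 → MvPolynomial (Fin 3) K))) ^ 2) :
    G₄ ∈ (Ideal.span (Set.range (MvPolynomial.X : Fin 2 → MvPolynomial (Fin 2) K))) ^ 2 ∧
    G₃ ∈ Ideal.span (Set.range (MvPolynomial.X : Fin 2 → MvPolynomial (Fin 2) K)) := by
  constructor
  · have h1 := Ideal.mem_map_of_mem (spec0 K) h
    rw [Ideal.map_pow] at h1
    have h3 := Ideal.pow_right_mono (map_spec0_le K) 2 h1
    simpa [spec0_rename, spec0_X2] using h3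
  · have h1 := Ideal.mem_map_of_mem (specZ K) h
    rw [Ideal.map_pow] at h1
    have h3 := Ideal.pow_right_mono (map_specZ_le K) 2 h1
    rw [Ideal.span_singleton_pow, Ideal.mem_span_singleton, Polynomial.X_pow_dvd_iff] at h3
    have h4 := h3 1 (by norm_num)
    rw [mem_span_iff]
    simp only [map_add, map_mul, specZ_rename, specZ_X2, map_pow, map_ofNat] at h4
    have h5 : (2 : K) * MvPolynomial.constantCoeff G₃ = 0 := by
      have e : (2 : Polynomial K) = Polynomial.C 2 := rfl
      rw [e, ← Polynomial.C_mul, Polynomial.coeff_add, Polynomial.coeff_add,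
        Polynomial.coeff_C_mul, Polynomial.coeff_C_mul, Polynomial.coeff_X_one,
        Polynomial.coeff_C] at h4
      simpa [Polynomial.coeff_X_pow] using h4
    exact (mul_eq_zero.mp h5).resolve_left h2


/-- Over a perfect field K of characteristic different from 2 and 3, let G₂, G₃, G₄ be polynomials in
two variables x, y and consider G₂ z² + 2 G₃ z + G₄ as a polynomial in the three variables x, y, z.
If it lies in the square of the ideal (x, y, z) — the surface it defines has a double point at the
origin — then the discriminant G₃² − G₂ G₄ lies in the square of the ideal (x, y) of K[x, y], so the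
plane curve G₃² − G₂ G₄ = 0 is singular at the origin. (This is the affine-local form used in the
published proof: the surface is a quartic with a node at the centre of projection placed at infinity
on the z-axis, and the curve is the branch sextic of that projection.) -/
theorem result (K : Type u) [Field K] [PerfectField K]
    (h2 : (2 : K) ≠ 0) (h3 : (3 : K) ≠ 0) (G₂ G₃ G₄ : MvPolynomial (Fin 2) K)
    (h : MvPolynomial.rename (Fin.castSucc : Fin 2 → Fin 3) G₂ * MvPolynomial.X (2 : Fin 3) ^ 2
        + 2 * MvPolynomial.rename (Fin.castSucc : Fin 2 → Fin 3) G₃ * MvPolynomial.X (2 : Fin 3)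
        + MvPolynomial.rename (Fin.castSucc : Fin 2 → Fin 3) G₄
        ∈ (Ideal.span (Set.range (MvPolynomial.X : Fin 3 → MvPolynomial (Fin 3) K))) ^ 2) :
    G₃ ^ 2 - G₂ * G₄ ∈ (Ideal.span (Set.range (MvPolynomial.X : Fin 2 → MvPolynomial (Fin 2) K))) ^ 2 := by
  obtain ⟨h4, h5⟩ := key K h2 G₂ G₃ G₄ h
  exact Ideal.sub_mem _ (Ideal.pow_mem_pow h5 2) (Ideal.mul_mem_left _ _ h4)

end Groth.Agent.S17409
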