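import Groth.Statements.S17410
import Mathlib
import Groth.Agent.Etbc.H203.TensorRoot
-- import your own Groth.Agent.* helpers here

set_option autoImplicit false
universe u
open Prym5

namespace Groth.Agent.S17410

section aux
open Polynomial

variable {R : Type u} [CommRing R] [IsDomain R]

theorem isUnit_of_isIntegral (h : R[X]) (S : Submonoid R)
    (hint : Algebra.IsIntegral (Localization S)
      (Localization (Algebra.algebraMapSubmonoid (AdjoinRoot h) S))) :
    IsUnit (algebraMap R (Localization S) h.leadingCoeff) := by
  by_cases h0 : (0 : R) ∈ S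
  · have : Subsingleton (Localization S) := IsLocalization.subsingleton (S := Localization S) h0
    exact isUnit_of_subsingleton _
  obtain ⟨s, P, hP, hP0⟩ := IsIntegral.exists_multiple_integral_of_isLocalization S
    (Rₘ := Localization S)
    (algebraMap (AdjoinRoot h) (Localization (Algebra.algebraMapSubmonoid (AdjoinRoot h) S))
      (AdjoinRoot.root h)) (hint.isIntegral _)
  have hs0 : (s : R) ≠ 0 := fun h => h0 (h ▸ s.2)
  -- the relation in the localisation
  have h1 : algebraMap (AdjoinRoot h) (Localization (Algebra.algebraMapSubmonoid (AdjoinRoot h) S))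
      (AdjoinRoot.mk h (P.comp (C (s : R) * X))) = 0 := by
    rw [← AdjoinRoot.aeval_eq, aeval_comp, ← aeval_algebraMap_apply, aeval_def]
    rw [← hP0]
    congr 1
    rw [map_mul, aeval_C, aeval_X, map_mul, ← IsScalarTower.algebraMap_apply, Submonoid.smul_def,
      Algebra.smul_def]
  obtain ⟨⟨_, t, ht, rfl⟩, hm⟩ := (IsLocalization.map_eq_zero_iff
    (Algebra.algebraMapSubmonoid (AdjoinRoot h) S) _ _).mp h1
  have ht0 : t ≠ 0 := fun h => h0 (h ▸ ht)
  have hm' : AdjoinRoot.mk h (C t * P.comp (C (s : R) * X)) = 0 := by
    rw [map_mul]; exact hm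
  rw [AdjoinRoot.mk_eq_zero] at hm'
  have h2 := leadingCoeff_dvd_leadingCoeff hm'
  rw [leadingCoeff_mul, leadingCoeff_C, leadingCoeff_comp, hP.leadingCoeff, one_mul,
    leadingCoeff_mul, leadingCoeff_C, leadingCoeff_X, mul_one] at h2
  · refine isUnit_of_dvd_unit (map_dvd (algebraMap R (Localization S)) h2) ?_
    exact IsLocalization.map_units (Localization S)
      (⟨t * (s : R) ^ P.natDegree, S.mul_mem ht (S.pow_mem s.2 _)⟩ : S)
  · rw [natDegree_C_mul hs0, natDegree_X]; exact one_ne_zero

theorem isIntegral_of_isUnit (h : R[X]) (S : Submonoid R)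
    (hu : IsUnit (algebraMap R (Localization S) h.leadingCoeff)) :
    Algebra.IsIntegral (Localization S)
      (Localization (Algebra.algebraMapSubmonoid (AdjoinRoot h) S)) := by
  by_cases h0 : Subsingleton (Localization S)
  · have : Subsingleton (Localization (Algebra.algebraMapSubmonoid (AdjoinRoot h) S)) :=
      (algebraMap (Localization S)
        (Localization (Algebra.algebraMapSubmonoid (AdjoinRoot h) S))).codomain_trivial
    exact ⟨fun x => by rw [Subsingleton.elim x 0]; exact isIntegral_zero⟩
  rw [not_subsingleton_iff_nontrivial] at h0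
  obtain ⟨u, hu'⟩ := hu.exists_left_inv
  have hroot : IsIntegral (Localization S) (algebraMap (AdjoinRoot h)
      (Localization (Algebra.algebraMapSubmonoid (AdjoinRoot h) S)) (AdjoinRoot.root h)) := by
    refine ⟨C u * h.map (algebraMap R (Localization S)), ?_, ?_⟩
    · refine monic_C_mul_of_mul_leadingCoeff_eq_one ?_
      rw [leadingCoeff_map_of_leadingCoeff_ne_zero _ hu.ne_zero, hu']
    · have e : aeval (algebraMap (AdjoinRoot h)
          (Localization (Algebra.algebraMapSubmonoid (AdjoinRoot h) S)) (AdjoinRoot.root h)) h = 0 := by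
        rw [aeval_algebraMap_apply, AdjoinRoot.aeval_eq, AdjoinRoot.mk_self, map_zero]
      rw [aeval_def] at e
      rw [eval₂_mul, eval₂_map, ← IsScalarTower.algebraMap_eq R (Localization S), e,
        mul_zero]
  refine ⟨fun x => ?_⟩
  obtain ⟨⟨a, ⟨_, s, hs, rfl⟩⟩, hx⟩ := IsLocalization.surj
    (Algebra.algebraMapSubmonoid (AdjoinRoot h) S) x
  obtain ⟨f, rfl⟩ := AdjoinRoot.mk_surjective a
  have hf : IsIntegral (Localization S) (algebraMap (AdjoinRoot h)
      (Localization (Algebra.algebraMapSubmonoid (AdjoinRoot h) S)) (AdjoinRoot.mk h f)) := by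
    rw [← AdjoinRoot.aeval_eq, ← aeval_algebraMap_apply]
    rw [← aeval_map_algebraMap (Localization S)]
    exact (Algebra.adjoin_le (S := integralClosure (Localization S)
      (Localization (Algebra.algebraMapSubmonoid (AdjoinRoot h) S)))
      (Set.singleton_subset_iff.mpr hroot)) (aeval_mem_adjoin_singleton _ _)
  obtain ⟨v, hv⟩ := (IsLocalization.map_units (Localization S) (⟨s, hs⟩ : S)).exists_left_inv
  have hxe : x = algebraMap (Localization S) _ v * algebraMap (AdjoinRoot h)
      (Localization (Algebra.algebraMapSubmonoid (AdjoinRoot h) S)) (AdjoinRoot.mk h f) := by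
    rw [← hx]
    have h3 : algebraMap (Localization S) (Localization (Algebra.algebraMapSubmonoid (AdjoinRoot h) S)) v *
        algebraMap (AdjoinRoot h) _ (algebraMap R (AdjoinRoot h) s) = 1 := by
      rw [← IsScalarTower.algebraMap_apply, IsScalarTower.algebraMap_apply R (Localization S),
        ← map_mul, hv, map_one]
    linear_combination (-x) * h3
  rw [hxe]
  exact isIntegral_algebraMap.mul hf

theorem finrank_tensor (h : R[X]) :
    Module.finrank (FractionRing R) (TensorProduct R (FractionRing R) (AdjoinRoot h)) =
      h.natDegree := by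
  rw [(Etbc.H203.TensorRoot.tensorEquiv (FractionRing R) h).toLinearEquiv.finrank_eq]
  refine (finrank_quotient_span_eq_natDegree (K := FractionRing R)).trans ?_
  exact natDegree_map_eq_of_injective (IsFractionRing.injective R (FractionRing R)) h

end aux


/-- Over a perfect field K of characteristic different from 2 and 3, let h be an irreducible polynomial
of degree 2 in the variable z with coefficients in K[x, y] and A = K[x, y][z]/(h). For every
multiplicative subset S of K[x, y], the localisation S⁻¹A is integral over S⁻¹K[x, y] if and only if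
the leading coefficient of h is invertible in S⁻¹K[x, y]; and K(x, y) ⊗ A is a K(x, y)-vector space
of dimension 2. (Geometrically: for a quartic surface with an ordinary double point, written u₂ x₃²
+ 2 u₃ x₃ + u₄ = 0 with the node at (0:0:0:1), the projection from the node restricted to a standard
affine chart of the plane is given by such an algebra A with leading coefficient the dehomogenised
u₂, so the projection is finite of degree two exactly over the locus u₂ ≠ 0. Stated for any
irreducible h of degree 2, which is all the argument uses.) -/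
theorem result (K : Type u) [Field K]
    [PerfectField K] (h2 : (2 : K) ≠ 0) (h3 : (3 : K) ≠ 0)
    (h : Polynomial (MvPolynomial (Fin 2) K)) (hirr : Irreducible h) (hdeg : h.natDegree = 2)
    (S : Submonoid (MvPolynomial (Fin 2) K)) :
    (Algebra.IsIntegral (Localization S) (Localization (Algebra.algebraMapSubmonoid (AdjoinRoot h) S))
        ↔ IsUnit (algebraMap (MvPolynomial (Fin 2) K) (Localization S) h.leadingCoeff))
      ∧ Module.finrank (FractionRing (MvPolynomial (Fin 2) K))
          (TensorProduct (MvPolynomial (Fin 2) K) (FractionRing (MvPolynomial (Fin 2) K)) (AdjoinRoot h)) = 2 := by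
  exact ⟨⟨isUnit_of_isIntegral h S, isIntegral_of_isUnit h S⟩,
    (finrank_tensor h).trans hdeg⟩

end Groth.Agent.S17410
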