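import Groth.Statements.S17411
import Mathlib
import Groth.Agent.EtpbcA.T2Drop
import Groth.Agent.EtpbcA.ArtinTrdeg
-- import your own Groth.Agent.* helpers here

set_option autoImplicit false
universe u
open CategoryTheory AlgebraicGeometry
open Prym5

namespace Groth.Agent.S17411

open TopologicalSpace Groth.Agent.EtpbcA.Artin

theorem resTrdegLE_of_comp {K : Type u} [Field K] {X W : Scheme.{u}} (f : X ⟶ Spec (CommRingCat.of K))
    (h : W ⟶ X) (w : W) (a : ℕ) (H : EtPBC.ResTrdegLE (h ≫ f) w a) : EtPBC.ResTrdegLE f (h w) a := by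
  obtain ⟨φ, hφ⟩ := exists_resMap f (h w)
  have h2 : Spec.map (CommRingCat.ofHom ((h.residueFieldMap w).hom.comp φ)) =
      W.fromSpecResidueField w ≫ h ≫ f := by
    rw [← Category.assoc, ← Scheme.Hom.SpecMap_residueFieldMap_fromSpecResidueField, Category.assoc, ← hφ,
      ← Spec.map_comp]
    rfl
  rw [resTrdegLE_iff (h ≫ f) w a _ h2] at H
  rw [resTrdegLE_iff f (h w) a φ hφ]
  refine le_trans ?_ H
  let _ : Algebra K (X.residueField (h w)) := φ.toAlgebra
  let _ : Algebra K (W.residueField w) := ((h.residueFieldMap w).hom.comp φ).toAlgebra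
  exact _root_.trdeg_le_of_injective
    ({ (h.residueFieldMap w).hom with commutes' := fun _ => rfl } :
      (X.residueField (h w)) →ₐ[K] (W.residueField w)) (h.residueFieldMap w).hom.injective

/-- A dominant continuous map from a noetherian sober space hits the generic point. -/
theorem exists_eq_genericPoint {X Z : Type*} [TopologicalSpace X] [TopologicalSpace Z]
    [NoetherianSpace X] [QuasiSober X] [QuasiSober Z] [T0Space Z] [IrreducibleSpace Z]
    (g : X → Z) (hg : Continuous g) (hd : DenseRange g) : ∃ x, g x = genericPoint Z := by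
  classical
  have hfin := NoetherianSpace.finite_irreducibleComponents (α := X)
  let T : Finset (Set Z) := (hfin.image (fun C => closure (g '' C))).toFinset
  have h1 : IsIrreducible (Set.univ : Set Z) := IrreducibleSpace.isIrreducible_univ Z
  obtain ⟨z, hz, hz'⟩ := isIrreducible_iff_sUnion_isClosed.mp h1 T (by
    intro z hz
    simp only [T, Set.Finite.mem_toFinset, Set.mem_image] at hz
    obtain ⟨C, _, rfl⟩ := hz
    exact isClosed_closure) (by
    intro y _
    have h2 : y ∈ closure (Set.range g) := hd y
    have h3 : Set.range g ⊆ ⋃₀ (T : Set (Set Z)) := by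
      rintro _ ⟨x, rfl⟩
      have hx : x ∈ ⋃₀ irreducibleComponents X := by
        rw [sUnion_irreducibleComponents]; trivial
      obtain ⟨C, hC, hxC⟩ := hx
      refine ⟨closure (g '' C), ?_, subset_closure ⟨x, hxC, rfl⟩⟩
      simp only [T, Set.Finite.coe_toFinset, Set.mem_image]
      exact ⟨C, hC, rfl⟩
    have h4 : IsClosed (⋃₀ (T : Set (Set Z))) := by
      rw [Set.sUnion_eq_biUnion]
      refine Set.Finite.isClosed_biUnion T.finite_toSet ?_
      intro z hz
      simp only [T, Set.Finite.coe_toFinset, Set.mem_image] at hz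
      obtain ⟨C, _, rfl⟩ := hz
      exact isClosed_closure
    exact closure_minimal h3 h4 h2)
  simp only [T, Set.Finite.mem_toFinset, Set.mem_image] at hz
  obtain ⟨C, hC, rfl⟩ := hz
  have hCi : IsIrreducible C := hC.1
  have hCc : IsClosed C := isClosed_of_mem_irreducibleComponents C hC
  refine ⟨hCi.genericPoint, ?_⟩
  have h5 : closure {hCi.genericPoint} = C := by
    rw [hCi.genericPoint_closure_eq, hCc.closure_eq]
  have h6 : g '' C ⊆ closure {g hCi.genericPoint} := by
    conv_lhs => rw [← h5]
    refine (image_closure_subset_closure_image hg).trans ?_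
    rw [Set.image_singleton]
  have h7 : IsGenericPoint (g hCi.genericPoint) Set.univ :=
    Set.eq_univ_of_univ_subset (hz'.trans (closure_minimal h6 isClosed_closure))
  exact h7.eq (genericPoint_spec Z)


/-- Let k be an algebraically closed field of characteristic zero and X, Y, Z schemes of finite type
over k, with Y and Z irreducible of the same dimension, η : Y → Z a dominant k-morphism and ρ : X →
Y a k-morphism. Then the composite ρ ≫ η is dominant exactly when ρ is dominant. (The published
statement concerns the forgetful map from the moduli space of étale double covers of genus-five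
curves to the moduli space of genus-five curves, both irreducible of dimension 12, and a morphism
into the former; its argument uses only the hypotheses kept here.) -/
theorem result (k : Type u) [Field k] [IsAlgClosed k]
    [CharZero k] (X Y Z : Scheme.{u}) [X.Over (Spec (CommRingCat.of k))] [Y.Over (Spec (CommRingCat.of k))]
    [Z.Over (Spec (CommRingCat.of k))]
    [LocallyOfFiniteType (X ↘ Spec (CommRingCat.of k))] [QuasiCompact (X ↘ Spec (CommRingCat.of k))]
    [LocallyOfFiniteType (Y ↘ Spec (CommRingCat.of k))] [QuasiCompact (Y ↘ Spec (CommRingCat.of k))]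
    [LocallyOfFiniteType (Z ↘ Spec (CommRingCat.of k))] [QuasiCompact (Z ↘ Spec (CommRingCat.of k))]
    [IrreducibleSpace Y] [IrreducibleSpace Z] (hdim : topologicalKrullDim Y = topologicalKrullDim Z)
    (ρ : X ⟶ Y) [ρ.IsOver (Spec (CommRingCat.of k))] (η : Y ⟶ Z) [η.IsOver (Spec (CommRingCat.of k))]
    [IsDominant η] :
    IsDominant (ρ ≫ η) ↔ IsDominant ρ := by
  constructor
  · intro hdom
    have hX : LocallyOfFiniteType (X ↘ Spec (CommRingCat.of k)) := inferInstance
    have : IsLocallyNoetherian X :=
      LocallyOfFiniteType.isLocallyNoetherian (X ↘ Spec (CommRingCat.of k))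
    have : CompactSpace X := QuasiCompact.compactSpace_of_compactSpace (X ↘ Spec (CommRingCat.of k))
    have : IsNoetherian X := { }
    obtain ⟨x, hx⟩ := exists_eq_genericPoint (ρ ≫ η) (ρ ≫ η).continuous hdom.1
    obtain ⟨tY, hY1, hY2⟩ := EtpbcA.T2.exists_trd (Y ↘ Spec (CommRingCat.of k))
    obtain ⟨tZ, hZ1, hZ2⟩ := EtpbcA.T2.exists_trd (Z ↘ Spec (CommRingCat.of k))
    have hle : tZ (genericPoint Z) ≤ tY (ρ x) := by
      rw [← hZ1]
      have h1 : EtPBC.ResTrdegLE (η ≫ (Z ↘ Spec (CommRingCat.of k))) (ρ x) (tY (ρ x)) := by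
        rw [comp_over]
        exact (hY1 _ _).mpr le_rfl
      have h2 := resTrdegLE_of_comp _ _ _ _ h1
      have h3 : η (ρ x) = genericPoint Z := by
        rw [← hx]; rfl
      rwa [h3] at h2
    have hZdim : topologicalKrullDim Z ≤ (tY (ρ x) : ℕ) := by
      rw [resTrdegLE_iff_dim k Z (Z ↘ Spec (CommRingCat.of k))]
      intro z
      rw [hZ1]
      refine le_trans ?_ hle
      by_cases hz : z = genericPoint Z
      · rw [hz]
      · exact (hZ2 _ _ (genericPoint_specializes z) hz).le
    rw [← hdim, resTrdegLE_iff_dim k Y (Y ↘ Spec (CommRingCat.of k))] at hZdim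
    have hgen : ρ x = genericPoint Y := by
      by_contra hne
      have h1 := hY2 _ _ (genericPoint_specializes (ρ x)) hne
      have h2 := (hY1 _ _).mp (hZdim (genericPoint Y))
      omega
    refine ⟨?_⟩
    intro y
    have h1 : y ∈ closure {genericPoint Y} := by
      rw [genericPoint_closure]; trivial
    refine closure_mono ?_ h1
    rw [Set.singleton_subset_iff]
    exact ⟨x, hgen⟩
  · intro h
    infer_instance

end Groth.Agent.S17411
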