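import Groth.Statements.S17412
import Mathlib
import Groth.Agent.Prym5.K924.ProjAut
import Groth.Agent.Smoothlim.ConormalRes
import Groth.Agent.CurvesB.HZero
import Groth.Agent.CurvesB.SmoothCurveSerre2
-- import your own Groth.Agent.* helpers here

set_option autoImplicit false
universe u
open CategoryTheory CategoryTheory.Limits AlgebraicGeometry
open Prym5

namespace Groth.Agent.S17412


open K924.ProjAut Groth.Agent

section

variable {X Y : Scheme.{u}}

/-- Linear version of the pull-back of global sections followed by an isomorphism. -/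
noncomputable def pLin {k : Type u} [Field k] {p : Y ⟶ Spec (CommRingCat.of k)}
    {q : X ⟶ Spec (CommRingCat.of k)} (f : X ⟶ Y) (hf : f ≫ p = q) (M : Y.Modules) {L : X.Modules}
    (θ : (Scheme.Modules.pullback f).obj M ⟶ L) :
    letI := modΓ p M
    letI := modΓ q L
    Γ(M, ⊤) →ₗ[k] Γ(L, ⊤) :=
  letI := modΓ p M
  letI := modΓ q L
  { toFun := fun m => θ.app ⊤ (pT f m)
    map_add' := fun m m' => by rw [pT_add, map_add]
    map_smul' := fun a m => by
      change θ.app ⊤ (pT f (glo p a • m)) = glo q a • θ.app ⊤ (pT f m)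
      rw [pT_glo, Scheme.Modules.Hom.app_smul, hf] }

theorem pLin_apply {k : Type u} [Field k] {p : Y ⟶ Spec (CommRingCat.of k)}
    {q : X ⟶ Spec (CommRingCat.of k)} (f : X ⟶ Y) (hf : f ≫ p = q) (M : Y.Modules) {L : X.Modules}
    (θ : (Scheme.Modules.pullback f).obj M ⟶ L) (m : Γ(M, ⊤)) :
    letI := modΓ p M
    letI := modΓ q L
    pLin f hf M θ m = θ.app ⊤ (pT f m) := rfl

theorem finrank_sections {k : Type u} [Field k] [X.Over (Spec (CommRingCat.of k))] {L M : X.Modules}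
    (e : L ≅ M) : letI := modΓ (X ↘ Spec (CommRingCat.of k)) L
    Module.finrank k Γ(L, ⊤) = Module.finrank k (Coh.HH X M 0) := by
  let := modΓ (X ↘ Spec (CommRingCat.of k)) L
  let := modΓ (X ↘ Spec (CommRingCat.of k)) M
  have h1 : Coh.HH X M 0 ≃ₗ[k] Γ(M, ⊤) := CurvesB.HZero.equivLin k M
  have h2 : Γ(L, ⊤) ≃ₗ[k] Γ(M, ⊤) :=
    { toFun := e.hom.app ⊤
      invFun := e.inv.app ⊤
      left_inv := fun m => by
        have : (e.hom ≫ e.inv).app ⊤ m = m := by rw [e.hom_inv_id]; rfl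
        exact this
      right_inv := fun m => by
        have : (e.inv ≫ e.hom).app ⊤ m = m := by rw [e.inv_hom_id]; rfl
        exact this
      map_add' := map_add _
      map_smul' := fun a m => Scheme.Modules.Hom.app_smul e.hom _ m }
  exact (h2.trans h1.symm).finrank_eq

end


theorem main (k : Type u) [Field k] (n : ℕ)
    (X₁ X₂ : Scheme.{u}) [X₁.Over (Spec (CommRingCat.of k))] [X₂.Over (Spec (CommRingCat.of k))]
    [AlgebraicGeometry.IsIntegral X₁]
    [IsProper (X₁ ↘ Spec (CommRingCat.of k))] [IsProper (X₂ ↘ Spec (CommRingCat.of k))]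
    [Smooth (X₁ ↘ Spec (CommRingCat.of k))]
    (hd₁ : topologicalKrullDim X₁ = 1)
    (hg₁ : Curv2.genus k X₁ = n + 1)
    (i₁ : X₁ ⟶ CohB1.ProjSpace n k) (i₂ : X₂ ⟶ CohB1.ProjSpace n k)
    (hi₁ : i₁ ≫ CohB1.ProjSpace.toSpec n k = X₁ ↘ Spec (CommRingCat.of k))
    (hi₂ : i₂ ≫ CohB1.ProjSpace.toSpec n k = X₂ ↘ Spec (CommRingCat.of k))
    (e₁ : (Scheme.Modules.pullback i₁).obj (Twist.twistProjSpace n k 1)
      ≅ Omega.sheaf (X₁ ↘ Spec (CommRingCat.of k)))
    (e₂ : (Scheme.Modules.pullback i₂).obj (Twist.twistProjSpace n k 1)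
      ≅ Omega.sheaf (X₂ ↘ Spec (CommRingCat.of k)))
    (hnd₁ : Function.Injective
      (((Scheme.Modules.pullbackPushforwardAdjunction i₁).unit.app (Twist.twistProjSpace n k 1)).app ⊤))
    (hnd₂ : Function.Injective
      (((Scheme.Modules.pullbackPushforwardAdjunction i₂).unit.app (Twist.twistProjSpace n k 1)).app ⊤))
    (φ : X₁ ≅ X₂) (hφ : φ.hom ≫ (X₂ ↘ Spec (CommRingCat.of k)) = X₁ ↘ Spec (CommRingCat.of k)) :
      ∃ (σ : CohB1.ProjSpace n k ≅ CohB1.ProjSpace n k) (ψ : X₁ ≅ X₂),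
        σ.hom ≫ CohB1.ProjSpace.toSpec n k = CohB1.ProjSpace.toSpec n k ∧
        i₁ ≫ σ.hom = ψ.hom ≫ i₂ := by
  let p₁ := X₁ ↘ Spec (CommRingCat.of k)
  let O1 := Twist.twistProjSpace n k 1
  let L := (Scheme.Modules.pullback i₁).obj O1
  let j := φ.hom ≫ i₂
  have hj : j ≫ CohB1.ProjSpace.toSpec n k = p₁ := by
    rw [Category.assoc, hi₂]; exact hφ
  let θ : (Scheme.Modules.pullback j).obj O1 ≅ L :=
    (Scheme.Modules.pullbackComp φ.hom i₂).symm.app O1 ≪≫ (Scheme.Modules.pullback φ.hom).mapIso e₂ ≪≫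
      Smoothlim.ConormalRes.omegaRestrictIso (f := X₂ ↘ Spec (CommRingCat.of k))
        (f' := X₁ ↘ Spec (CommRingCat.of k)) (j := φ.hom) (l := 𝟙 _) (by rw [Category.comp_id]; exact hφ) ≪≫
      e₁.symm
  let := modΓ (CohB1.ProjSpace.toSpec n k) O1
  let := modΓ p₁ L
  obtain ⟨T₀, hT₀⟩ := exists_basis n k
  have hX₁ : Curve.IsSmoothProperCurve k X₁ (X₁ ↘ Spec (CommRingCat.of k)) :=
    ⟨inferInstance, inferInstance, inferInstance, hd₁⟩
  have hW : Module.finrank k Γ(L, ⊤) = n + 1 := by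
    rw [finrank_sections e₁, (CurvesB.SmoothCurveSerre.serre_duality k X₁ hX₁).1]
    exact hg₁
  let a : Γ(O1, ⊤) →ₗ[k] Γ(L, ⊤) := pLin i₁ hi₁ O1 (𝟙 _)
  let b : Γ(O1, ⊤) →ₗ[k] Γ(L, ⊤) := pLin j hj O1 θ.hom
  have ha : Function.Injective a := hnd₁
  have hb : Function.Injective b := by
    intro m m' h
    have h1 : pT j m = pT j m' := by
      have h2 := congrArg (θ.inv.app ⊤) h
      have h3 : ∀ z, θ.inv.app ⊤ (θ.hom.app ⊤ z) = z := fun z => by
        have : (θ.hom ≫ θ.inv).app ⊤ z = z := by rw [θ.hom_inv_id]; rfl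
        exact this
      exact (h3 _).symm.trans (h2.trans (h3 _))
    have h4 : pT φ.hom (pT i₂ m) = pT φ.hom (pT i₂ m') := by
      have h5 := Fdesc.LocGen.pullSec_comp φ.hom i₂ (M := O1) (U := ⊤) m
      have h6 := Fdesc.LocGen.pullSec_comp φ.hom i₂ (M := O1) (U := ⊤) m'
      refine h5.symm.trans (Eq.trans ?_ h6)
      exact congrArg (((Scheme.Modules.pullbackComp φ.hom i₂).inv.app O1).app ⊤) h1
    exact hnd₂ (pullSec_injective_of_isIso φ.hom (U := ⊤) _ _ h4)
  obtain ⟨c, c', h1, h2, h3⟩ := exists_matrix (Nat.succ_pos n) T₀ hW a b ha hb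
  have hcomb : ∀ x : Fin (n + 1) → k, ∑ j, x j • T₀ j = comb x := fun x => by
    unfold comb
    exact Finset.sum_congr rfl fun j _ => by rw [hT₀]; rfl
  simp_rw [hcomb] at h1 h2 h3
  obtain ⟨σ, τ, hσ, hτ⟩ := exists_aut c c' (fun i => (h2 i).trans (hT₀ i)) (fun i => (h3 i).trans (hT₀ i))
  obtain ⟨τ', hτ'⟩ := comp_map i₁ σ.hom hσ c τ hτ (Iso.refl L)
  refine ⟨σ, φ, hσ, ?_⟩
  refine ext_map (i₁ ≫ σ.hom) j (by rw [Category.assoc, hσ, hi₁, hj]) τ' θ fun i => ?_
  rw [hτ']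
  refine (h1 i).trans ?_
  rw [hT₀]
  rfl


/-- Let k be an algebraically closed field of characteristic zero, g ≥ 3, and X₁, X₂ smooth proper
integral curves of genus g over k. Suppose each X_j is canonically embedded: i_j : X_j → P^{g-1}_k
is a closed immersion over k, the pullback i_j^* O(1) is isomorphic to the sheaf of differentials of
X_j over k, and X_j lies in no hyperplane (the restriction map from the global sections of O(1) to
those of i_j^* O(1) is injective). Then X₁ and X₂ are isomorphic over k exactly when they are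
projectively equivalent: there are a k-automorphism σ of P^{g-1}_k and an isomorphism ψ : X₁ ≅ X₂
with i₁ ≫ σ = ψ ≫ i₂. (Projective equivalence is expressed through k-automorphisms of the scheme
P^{g-1}_k; that these are exactly the projective linear transformations is classical and not
restated.) -/
theorem result (k : Type u) [Field k] [IsAlgClosed k]
    [CharZero k] (g : ℕ) (hg : 3 ≤ g)
    (X₁ X₂ : Scheme.{u}) [X₁.Over (Spec (CommRingCat.of k))] [X₂.Over (Spec (CommRingCat.of k))]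
    [AlgebraicGeometry.IsIntegral X₁] [AlgebraicGeometry.IsIntegral X₂]
    [IsProper (X₁ ↘ Spec (CommRingCat.of k))] [IsProper (X₂ ↘ Spec (CommRingCat.of k))]
    [Smooth (X₁ ↘ Spec (CommRingCat.of k))] [Smooth (X₂ ↘ Spec (CommRingCat.of k))]
    (hd₁ : topologicalKrullDim X₁ = 1) (hd₂ : topologicalKrullDim X₂ = 1)
    (hg₁ : Curv2.genus k X₁ = g) (hg₂ : Curv2.genus k X₂ = g)
    (i₁ : X₁ ⟶ CohB1.ProjSpace (g - 1) k) (i₂ : X₂ ⟶ CohB1.ProjSpace (g - 1) k)
    [IsClosedImmersion i₁] [IsClosedImmersion i₂]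
    (hi₁ : i₁ ≫ CohB1.ProjSpace.toSpec (g - 1) k = X₁ ↘ Spec (CommRingCat.of k))
    (hi₂ : i₂ ≫ CohB1.ProjSpace.toSpec (g - 1) k = X₂ ↘ Spec (CommRingCat.of k))
    (e₁ : (Scheme.Modules.pullback i₁).obj (Twist.twistProjSpace (g - 1) k 1)
      ≅ Omega.sheaf (X₁ ↘ Spec (CommRingCat.of k)))
    (e₂ : (Scheme.Modules.pullback i₂).obj (Twist.twistProjSpace (g - 1) k 1)
      ≅ Omega.sheaf (X₂ ↘ Spec (CommRingCat.of k)))
    (hnd₁ : Function.Injective
      (((Scheme.Modules.pullbackPushforwardAdjunction i₁).unit.app (Twist.twistProjSpace (g - 1) k 1)).app ⊤))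
    (hnd₂ : Function.Injective
      (((Scheme.Modules.pullbackPushforwardAdjunction i₂).unit.app (Twist.twistProjSpace (g - 1) k 1)).app ⊤)) :
    (∃ φ : X₁ ≅ X₂, φ.hom ≫ (X₂ ↘ Spec (CommRingCat.of k)) = X₁ ↘ Spec (CommRingCat.of k)) ↔
      ∃ (σ : CohB1.ProjSpace (g - 1) k ≅ CohB1.ProjSpace (g - 1) k) (ψ : X₁ ≅ X₂),
        σ.hom ≫ CohB1.ProjSpace.toSpec (g - 1) k = CohB1.ProjSpace.toSpec (g - 1) k ∧
        i₁ ≫ σ.hom = ψ.hom ≫ i₂ := by
  constructor
  swap
  · rintro ⟨σ, ψ, hσ, h⟩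
    refine ⟨ψ, ?_⟩
    rw [← hi₂, ← Category.assoc, ← h, Category.assoc, hσ, hi₁]
  rintro ⟨φ, hφ⟩
  exact main k (g - 1) X₁ X₂ hd₁ (by omega) i₁ i₂ hi₁ hi₂ e₁ e₂ hnd₁ hnd₂ φ hφ

end Groth.Agent.S17412
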