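import Groth.Statements.S17413
import Mathlib
import Groth.Agent.Prym5.K924.CotInj
import Groth.Agent.Variety.K427.GenSmooth
import Groth.Agent.VarietyA.RegSmoothSch
import Groth.Agent.S17411
-- import your own Groth.Agent.* helpers here

set_option autoImplicit false
universe u
open CategoryTheory AlgebraicGeometry
open Prym5

namespace Groth.Agent.S17413


open TopologicalSpace IsLocalRing

/-- Residue fields at closed points over an algebraically closed field. -/
theorem exists_sub_mem {k : Type u} [Field k] [IsAlgClosed k] {X Y : Scheme.{u}} (u : X ⟶ Y)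
    (p : Y ⟶ Spec (CommRingCat.of k)) [LocallyOfFiniteType (u ≫ p)] (P : X) (hP : IsClosed ({P} : Set X))
    (b : X.presheaf.stalk P) : ∃ a : Y.presheaf.stalk (u P),
      b - (u.stalkMap P).hom a ∈ maximalIdeal (X.presheaf.stalk P) := by
  let e := residueFieldIsoBase (u ≫ p) P hP
  obtain ⟨ψ, hψ⟩ : ∃ ψ : CommRingCat.of k ⟶ Y.presheaf.stalk (u P),
      Spec.map ψ = Y.fromSpecStalk (u P) ≫ p := ⟨Spec.preimage _, Spec.map_preimage _⟩
  have h1 : ψ ≫ u.stalkMap P ≫ X.residue P = e.inv := by
    apply Spec.map_injective
    rw [SpecMap_residueFieldIsoBase_inv, Spec.map_comp, Spec.map_comp, hψ, Category.assoc,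
      Scheme.SpecMap_stalkMap_fromSpecStalk_assoc]
    rfl
  refine ⟨ψ.hom (e.hom.hom (X.residue P b)), ?_⟩
  rw [← residue_eq_zero_iff, map_sub, sub_eq_zero]
  have h2 := congrArg (fun f => f.hom (e.hom.hom (X.residue P b))) h1
  have h3 : e.inv.hom (e.hom.hom (X.residue P b)) = X.residue P b := by
    have := congrArg (fun f => f.hom (X.residue P b)) e.hom_inv_id
    exact this
  exact (h2.trans h3).symm

/-- A morphism to an integral scheme injective on a local ring which is a domain is dominant. -/
theorem isDominant_of_injective {X Y : Scheme.{u}} [IrreducibleSpace Y] (u : X ⟶ Y) (P : X)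
    (h : Function.Injective (u.stalkMap P).hom) : IsDominant u := by
  have h1 : IsDominant (Y.fromSpecStalk (u P)) := by
    constructor
    have h2 : genericPoint Y ∈ Set.range (Y.fromSpecStalk (u P)) := by
      rw [Scheme.range_fromSpecStalk]
      exact genericPoint_specializes _
    intro y
    exact closure_mono (Set.singleton_subset_iff.mpr h2) ((genericPoint_closure (α := Y)).symm ▸ trivial)
  have h2 : IsDominant (Spec.map (u.stalkMap P)) := by
    constructor
    exact PrimeSpectrum.denseRange_comap_iff_ker_le_nilRadical _ |>.mpr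
      (by rw [(RingHom.injective_iff_ker_eq_bot _).mp h]; exact bot_le)
  have h3 : IsDominant (X.fromSpecStalk P ≫ u) := by
    rw [← Scheme.SpecMap_stalkMap_fromSpecStalk]
    infer_instance
  exact IsDominant.of_comp (X.fromSpecStalk P) u


/-- Let k be an algebraically closed field of characteristic zero, X a reduced scheme of finite type
over k, Y an integral scheme of finite type over k and u : X → Y a k-morphism. Then u is dominant if
and only if there is a closed point P of X such that X is regular at P and the differential of u at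
P is surjective onto the tangent space of Y at u(P); surjectivity of the differential is written
dually as injectivity of the map of cotangent spaces m_{u(P)}/m_{u(P)}² → m_P/m_P² induced by the
local homomorphism of u at P. (The published statement asks only that Y be irreducible, puts no
condition on P and concludes that the scheme-theoretic image is all of Y. Without regularity at P
the backward implication fails: the inclusion of the union of the two coordinate axes into the
affine plane induces a bijection of tangent spaces at the origin and is not dominant. Without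
reducedness of Y the forward implication fails: the reduced line inside the doubled line y² = 0 is
dominant but its differential is nowhere surjective. For Y integral and u quasi-compact, dominance
is the same as the scheme-theoretic image being Y.) -/
theorem result (k : Type u) [Field k]
    [IsAlgClosed k] [CharZero k] (X Y : Scheme.{u})
    [X.Over (Spec (CommRingCat.of k))] [Y.Over (Spec (CommRingCat.of k))]
    [LocallyOfFiniteType (X ↘ Spec (CommRingCat.of k))] [QuasiCompact (X ↘ Spec (CommRingCat.of k))]
    [LocallyOfFiniteType (Y ↘ Spec (CommRingCat.of k))] [QuasiCompact (Y ↘ Spec (CommRingCat.of k))]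
    [AlgebraicGeometry.IsReduced X] [AlgebraicGeometry.IsIntegral Y] (u : X ⟶ Y) [u.IsOver (Spec (CommRingCat.of k))] :
    IsDominant u ↔
      ∃ P : X, IsClosed ({P} : Set X) ∧ IsRegularLocalRing (X.presheaf.stalk P) ∧
        ∀ a ∈ IsLocalRing.maximalIdeal (Y.presheaf.stalk (u P)),
          (u.stalkMap P).hom a ∈ IsLocalRing.maximalIdeal (X.presheaf.stalk P) ^ 2 →
            a ∈ IsLocalRing.maximalIdeal (Y.presheaf.stalk (u P)) ^ 2 := by
  have hup : u ≫ (Y ↘ Spec (CommRingCat.of k)) = X ↘ Spec (CommRingCat.of k) := comp_over u _
  have hXft : LocallyOfFiniteType (u ≫ (Y ↘ Spec (CommRingCat.of k))) := by rw [hup]; infer_instance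
  have : IsLocallyNoetherian Y := LocallyOfFiniteType.isLocallyNoetherian (Y ↘ Spec (CommRingCat.of k))
  have : IsLocallyNoetherian X := LocallyOfFiniteType.isLocallyNoetherian (X ↘ Spec (CommRingCat.of k))
  constructor
  · intro hdom
    have hul : LocallyOfFiniteType u := locallyOfFiniteType_of_comp u (Y ↘ Spec (CommRingCat.of k))
    have hulp : LocallyOfFinitePresentation u := inferInstance
    have hXfp : LocallyOfFinitePresentation (X ↘ Spec (CommRingCat.of k)) := inferInstance
    let U₁ := (X ↘ Spec (CommRingCat.of k)).smoothLocus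
    have hU₁ : Dense (U₁ : Set X) :=
      Scheme.Hom.dense_smoothLocus_of_perfectField (X ↘ Spec (CommRingCat.of k))
    have : CompactSpace X := by
      exact (quasiCompact_iff_compactSpace (f := X ↘ Spec (CommRingCat.of k))).mp inferInstance
    have : IsNoetherian X := {}
    have hd : DenseRange (U₁.ι ≫ u) := by
      have h1 : DenseRange U₁.ι := by
        rw [DenseRange, Scheme.Opens.range_ι]
        exact hU₁
      exact u.denseRange.comp h1 u.continuous
    have hns : NoetherianSpace U₁.toScheme := U₁.ι.isOpenEmbedding.toIsInducing.noetherianSpace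
    obtain ⟨ξ, hξ⟩ := S17411.exists_eq_genericPoint (X := U₁.toScheme) (Z := Y) (U₁.ι ≫ u)
      (U₁.ι ≫ u).continuous hd
    have hreg₁ : ∀ x ∈ U₁, IsRegularLocalRing (X.presheaf.stalk x) := fun x hx =>
      VarietyA.RegSmoothSch.isRegularLocalRing_stalk_of_mem_smoothLocus _ x hx
    have hperf : PerfectField Y.functionField := by
      obtain ⟨ψ, hψ⟩ : ∃ ψ : CommRingCat.of k ⟶ Y.functionField,
        Spec.map ψ = Y.fromSpecStalk (genericPoint Y) ≫ (Y ↘ Spec (CommRingCat.of k)) :=
          ⟨Spec.preimage _, Spec.map_preimage _⟩
      have : CharZero Y.functionField := charZero_of_injective_ringHom ψ.hom.injective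
      infer_instance
    have hξ₂ : ξ.1 ∈ u.smoothLocus :=
      K427.GenSmooth.mem_smoothLocus_of_eq_genericPoint u ξ.1 hξ (hreg₁ _ ξ.2)
    have hJ : JacobsonSpace X := LocallyOfFiniteType.jacobsonSpace (X ↘ Spec (CommRingCat.of k))
    obtain ⟨P, hP, hPc⟩ := nonempty_inter_closedPoints (Z := ((U₁ ⊓ u.smoothLocus : X.Opens) : Set X))
      ⟨ξ.1, ξ.2, hξ₂⟩ (U₁ ⊓ u.smoothLocus).isOpen.isLocallyClosed
    have hPc' : IsClosed ({P} : Set X) := hPc
    refine ⟨P, hPc', hreg₁ P hP.1, fun a _ ha2 => ?_⟩
    have hfs : (u.stalkMap P).hom.FormallySmooth := hP.2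
    algebraize [(u.stalkMap P).hom]
    have : IsLocalHom (algebraMap (Y.presheaf.stalk (u P)) (X.presheaf.stalk P)) :=
      inferInstanceAs (IsLocalHom (u.stalkMap P).hom)
    exact K924.CotInj.mem_sq_of_formallySmooth (fun b => exists_sub_mem u (Y ↘ Spec (CommRingCat.of k)) P hPc' b) a ha2
  · rintro ⟨P, hPc, hreg, hinj⟩
    algebraize [(u.stalkMap P).hom]
    have : IsLocalHom (algebraMap (Y.presheaf.stalk (u P)) (X.presheaf.stalk P)) :=
      inferInstanceAs (IsLocalHom (u.stalkMap P).hom)
    exact isDominant_of_injective u P
      (K924.CotInj.injective_of_cotangent (fun b => exists_sub_mem u (Y ↘ Spec (CommRingCat.of k)) P hPc b) hinj)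

end Groth.Agent.S17413
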