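import Groth.Statements.S17414
import Mathlib
import Groth.Agent.S17409
-- import your own Groth.Agent.* helpers here

set_option autoImplicit false
universe u
open Prym5

namespace Groth.Agent.S17414

theorem map_rename_le (K : Type u) [Field K] :
    Ideal.map (MvPolynomial.rename (R := K) (Fin.castSucc : Fin 2 → Fin 3))
      (Ideal.span (Set.range (MvPolynomial.X : Fin 2 → MvPolynomial (Fin 2) K)))
      ≤ Ideal.span (Set.range (MvPolynomial.X : Fin 3 → MvPolynomial (Fin 3) K)) := by
  rw [Ideal.map_span, Ideal.span_le]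
  rintro _ ⟨_, ⟨i, rfl⟩, rfl⟩
  refine Ideal.subset_span ⟨Fin.castSucc i, ?_⟩
  simp

theorem map_spec0_mem (K : Type u) [Field K] (h : MvPolynomial (Fin 3) K)
    (hh : h ∈ Ideal.span (Set.range (MvPolynomial.X : Fin 3 → MvPolynomial (Fin 3) K))) :
    S17409.spec0 K h ∈ Ideal.span (Set.range (MvPolynomial.X : Fin 2 → MvPolynomial (Fin 2) K)) :=
  S17409.map_spec0_le K (Ideal.mem_map_of_mem _ hh)


/-- Over a perfect field K of characteristic different from 2 and 3, let G₂, G₃, G₄ be polynomials in x,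
y, let h = G₂ z² + 2 G₃ z + G₄ in K[x, y, z] and D = G₃² − G₂ G₄ in K[x, y]. Suppose h ∈ (x, y, z) —
the origin Q lies on the surface h = 0 — and D ∈ (x, y) — the image of Q under (x, y, z) ↦ (x, y)
lies on the discriminant curve D = 0. Then D ∈ (x, y)², i.e. the image point is singular on the
discriminant curve, if and only if either h ∈ (x, y, z)², i.e. Q is a singular point of the surface,
or G₂, G₃, G₄ ∈ (x, y), i.e. Q lies on all three cones G₂ = G₃ = G₄ = 0. (Affine-local form, in a
chart where the node projected from sits at infinity on the z-axis and Q at the origin, of the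
published claim: for a point Q ≠ P of the nodal quartic whose projection lies on the branch sextic,
the projection is singular on the sextic exactly when Q is singular on the quartic or lies on the
cones u₂ = u₃ = u₄ = 0.) -/
theorem result (K : Type u) [Field K] [PerfectField K]
    (h2 : (2 : K) ≠ 0) (h3 : (3 : K) ≠ 0) (G₂ G₃ G₄ : MvPolynomial (Fin 2) K)
    (hQ : MvPolynomial.rename (Fin.castSucc : Fin 2 → Fin 3) G₂ * MvPolynomial.X (2 : Fin 3) ^ 2
        + 2 * MvPolynomial.rename (Fin.castSucc : Fin 2 → Fin 3) G₃ * MvPolynomial.X (2 : Fin 3)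
        + MvPolynomial.rename (Fin.castSucc : Fin 2 → Fin 3) G₄
        ∈ Ideal.span (Set.range (MvPolynomial.X : Fin 3 → MvPolynomial (Fin 3) K)))
    (hD : G₃ ^ 2 - G₂ * G₄ ∈ Ideal.span (Set.range (MvPolynomial.X : Fin 2 → MvPolynomial (Fin 2) K))) :
    G₃ ^ 2 - G₂ * G₄ ∈ (Ideal.span (Set.range (MvPolynomial.X : Fin 2 → MvPolynomial (Fin 2) K))) ^ 2 ↔
      (MvPolynomial.rename (Fin.castSucc : Fin 2 → Fin 3) G₂ * MvPolynomial.X (2 : Fin 3) ^ 2
          + 2 * MvPolynomial.rename (Fin.castSucc : Fin 2 → Fin 3) G₃ * MvPolynomial.X (2 : Fin 3)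
          + MvPolynomial.rename (Fin.castSucc : Fin 2 → Fin 3) G₄
          ∈ (Ideal.span (Set.range (MvPolynomial.X : Fin 3 → MvPolynomial (Fin 3) K))) ^ 2 ∨
        (G₂ ∈ Ideal.span (Set.range (MvPolynomial.X : Fin 2 → MvPolynomial (Fin 2) K)) ∧
          G₃ ∈ Ideal.span (Set.range (MvPolynomial.X : Fin 2 → MvPolynomial (Fin 2) K)) ∧
          G₄ ∈ Ideal.span (Set.range (MvPolynomial.X : Fin 2 → MvPolynomial (Fin 2) K)))) := by
  constructor
  · intro hD2
    have hG4 : G₄ ∈ Ideal.span (Set.range (MvPolynomial.X : Fin 2 → MvPolynomial (Fin 2) K)) := by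
      have := map_spec0_mem K _ hQ
      simpa [S17409.spec0_rename, S17409.spec0_X2] using this
    have hG3 : G₃ ∈ Ideal.span (Set.range (MvPolynomial.X : Fin 2 → MvPolynomial (Fin 2) K)) := by
      rw [S17409.mem_span_iff] at hG4 hD ⊢
      rw [map_sub, map_mul, hG4, mul_zero, sub_zero, map_pow] at hD
      exact pow_eq_zero_iff (two_ne_zero) |>.mp hD
    by_cases hG2 : G₂ ∈ Ideal.span (Set.range (MvPolynomial.X : Fin 2 → MvPolynomial (Fin 2) K))
    · exact Or.inr ⟨hG2, hG3, hG4⟩
    · left
      have h24 : G₂ * G₄ ∈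
          (Ideal.span (Set.range (MvPolynomial.X : Fin 2 → MvPolynomial (Fin 2) K))) ^ 2 := by
        have := Ideal.sub_mem _ (Ideal.pow_mem_pow hG3 2) hD2
        simpa using this
      have hG2c : G₂ - MvPolynomial.C (MvPolynomial.constantCoeff G₂) ∈
          Ideal.span (Set.range (MvPolynomial.X : Fin 2 → MvPolynomial (Fin 2) K)) := by
        rw [S17409.mem_span_iff]; simp
      have hc : MvPolynomial.C (MvPolynomial.constantCoeff G₂) * G₄ ∈
          (Ideal.span (Set.range (MvPolynomial.X : Fin 2 → MvPolynomial (Fin 2) K))) ^ 2 := by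
        have h5 := Ideal.mul_mem_mul hG2c hG4
        rw [← pow_two] at h5
        have h6 := Ideal.sub_mem _ h24 h5
        have e : G₂ * G₄ - (G₂ - MvPolynomial.C (MvPolynomial.constantCoeff G₂)) * G₄ =
          MvPolynomial.C (MvPolynomial.constantCoeff G₂) * G₄ := by ring
        rwa [e] at h6
      have hc0 : MvPolynomial.constantCoeff G₂ ≠ 0 := by
        rwa [Ne, ← S17409.mem_span_iff]
      have hG42 : G₄ ∈
          (Ideal.span (Set.range (MvPolynomial.X : Fin 2 → MvPolynomial (Fin 2) K))) ^ 2 := by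
        have h7 := Ideal.mul_mem_left _ (MvPolynomial.C (MvPolynomial.constantCoeff G₂)⁻¹) hc
        rwa [← mul_assoc, ← map_mul, inv_mul_cancel₀ hc0, map_one, one_mul] at h7
      have hX : (MvPolynomial.X (2 : Fin 3) : MvPolynomial (Fin 3) K) ∈
          Ideal.span (Set.range (MvPolynomial.X : Fin 3 → MvPolynomial (Fin 3) K)) :=
        Ideal.subset_span ⟨2, rfl⟩
      refine Ideal.add_mem _ (Ideal.add_mem _ ?_ ?_) ?_
      · exact Ideal.mul_mem_left _ _ (Ideal.pow_mem_pow hX 2)
      · rw [mul_assoc, pow_two]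
        refine Ideal.mul_mem_left _ _ (Ideal.mul_mem_mul ?_ hX)
        exact map_rename_le K (Ideal.mem_map_of_mem _ hG3)
      · have h8 := Ideal.mem_map_of_mem (MvPolynomial.rename (R := K) (Fin.castSucc : Fin 2 → Fin 3)) hG42
        rw [Ideal.map_pow] at h8
        exact Ideal.pow_right_mono (map_rename_le K) 2 h8
  · rintro (h | ⟨h2', h3', h4'⟩)
    · exact S17409.result K h2 h3 G₂ G₃ G₄ h
    · refine Ideal.sub_mem _ (Ideal.pow_mem_pow h3' 2) ?_
      rw [pow_two]
      exact Ideal.mul_mem_mul h2' h4'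

end Groth.Agent.S17414
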