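import Groth.Statements.S17415
import Groth.Agent.Dix.K280.DomFin

set_option autoImplicit false
universe u
open CategoryTheory CategoryTheory.Limits AlgebraicGeometry
open Dix

namespace Groth.Agent.S17415

/-- Let k be a field of characteristic 0 which is finitely generated over ℚ, Ω a separable closure of k,
and f : X → Spec k a smooth, projective, geometrically integral k-scheme which is dominated by a
product of curves: there are finitely many integral separated curves of finite type C_1, …, C_n over
Ω (schemes of dimension 1), their fibre product P over Spec Ω, a non-empty open U ⊆ P and an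
Ω-morphism U → X_Ω = X ×_k Spec Ω with dense image. Assume the following finiteness statement for
products, which this row takes as a hypothesis and does not prove: for every field k' finitely
generated over ℚ (of characteristic 0) with separable closure Ω', and all smooth projective
geometrically integral k'-schemes V and W, the images in Br'((V ×_{k'} W)_{Ω'}) of the
Galois-invariant classes of Br'(V_{Ω'}) and of Br'(W_{Ω'}), pulled back along the two projections,
generate a subgroup meeting the Galois-invariant classes of Br'((V ×_{k'} W)_{Ω'}) in a subgroup of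
finite index; here Br'(Y) = H²(Y_ét, G_m), Y_{Ω'} = Y ×_{k'} Spec Ω', and a class is
Galois-invariant when it is fixed by (1 × Spec σ)^* for every σ ∈ Gal(Ω'/k'). Then the
Galois-invariant subgroup of Br'(X_Ω) = H²((X_Ω)_ét, G_m), the classes fixed by (1 × Spec σ)^* for
every σ ∈ Gal(Ω/k), is finite. (The published statement carries no hypothesis on products: its proof
takes that finiteness statement from the literature, so it is made an explicit hypothesis here.
Exactness of pullback of abelian étale sheaves along every morphism of schemes, which always holds,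
is carried as one blanket instance hypothesis.) -/
theorem result (k Ω : Type u) [Field k] [CharZero k]
    (hk : (⊤ : IntermediateField ℚ k).FG) [Field Ω] [Algebra k Ω] [IsSepClosure k Ω]
    [∀ ⦃Y Z : Scheme.{u}⦄ (g : Y ⟶ Z), PreservesFiniteLimits (EtCoh.pull g)]
    (hA : ∀ (k' Ω' : Type u) [Field k'] [CharZero k'] [Field Ω'] [Algebra k' Ω'] [IsSepClosure k' Ω'],
      (⊤ : IntermediateField ℚ k').FG →
      ∀ (V W : Scheme.{u}) (gV : V ⟶ Spec (CommRingCat.of k')) (gW : W ⟶ Spec (CommRingCat.of k'))
        [Smooth gV] [Smooth gW] [GeometricallyIntegral gV] [GeometricallyIntegral gW],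
        Neron.IsProjectiveOver k' (Over.mk gV) → Neron.IsProjectiveOver k' (Over.mk gW) →
      (((Dix.brInv Ω' gV).map (EtLim.HGmPull (Dix.geomFst Ω' gV gW) 2) ⊔
          (Dix.brInv Ω' gW).map (EtLim.HGmPull (Dix.geomSnd Ω' gV gW) 2)).addSubgroupOf
        (Dix.brInv Ω' (pullback.fst gV gW ≫ gV))).FiniteIndex)
    {X : Scheme.{u}} (f : X ⟶ Spec (CommRingCat.of k)) [Smooth f] [GeometricallyIntegral f]
    (hproj : Neron.IsProjectiveOver k (Over.mk f))
    (hdpc : ∃ (n : ℕ) (C : Fin n → Scheme.{u}) (gC : ∀ i, C i ⟶ Spec (CommRingCat.of Ω))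
        (P : Scheme.{u}) (gP : P ⟶ Spec (CommRingCat.of Ω)) (π : ∀ i, P ⟶ C i) (hπ : ∀ i, π i ≫ gC i = gP),
        (∀ i, IsIntegral (C i) ∧ IsSeparated (gC i) ∧ LocallyOfFiniteType (gC i) ∧ QuasiCompact (gC i) ∧
          topologicalKrullDim ↥(C i) = 1) ∧
        Nonempty (IsLimit (Fan.mk (f := fun i => Over.mk (gC i)) (Over.mk gP) fun i => Over.homMk (π i) (hπ i))) ∧
        ∃ (U : P.Opens) (φ : (U : Scheme.{u}) ⟶ SGA7.bcField Ω f), (U : Set ↥P).Nonempty ∧
          φ ≫ pullback.snd f (Spec.map (CommRingCat.ofHom (algebraMap k Ω))) = U.ι ≫ gP ∧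
          DenseRange φ.base) :
    Finite ↥(Dix.brInv Ω f) := 
  K280.DomFin.main k Ω hk hA f hproj hdpc

end Groth.Agent.S17415
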