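import Groth.Statements.S17416
import Groth.Agent.S17415
import Groth.Agent.Dix.K90.FinQuot
import Groth.Agent.Dix.K90.CyMap
import Groth.Agent.Dix.K464.BinSurf
import Groth.Agent.Dix.K464.HypDim

set_option autoImplicit false
attribute [-instance] CategoryTheory.catToReflQuiver
universe u
open CategoryTheory CategoryTheory.Limits AlgebraicGeometry
open Dix

namespace Groth.Agent.S17416

/-- Let k be a field of characteristic 0 which is finitely generated over ℚ, d ≥ 2, and f, g ∈ k[t]
separable polynomials of degree exactly d, with F(x, y) = Σ_i f_i x^i y^{d−i} and G(z, w) = Σ_i g_i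
z^i w^{d−i} the binary forms of degree d with F(t, 1) = f(t), G(t, 1) = g(t). Let X be the closed
surface in P³_k defined by F(x, y) = G(z, w) (the closed subscheme of P³_k = Proj k[x, y, z, w] cut
out by the form F(x, y) − G(z, w); for instance a diagonal surface of degree d), with structure
morphism p : X → Spec k. Assume the following finiteness statement for products, which this row
takes as a hypothesis and does not prove: for every field k' finitely generated over ℚ (of
characteristic 0) with separable closure Ω', and all smooth projective geometrically integral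
k'-schemes V and W, the images in Br'((V ×_{k'} W)_{Ω'}) of the Galois-invariant classes of
Br'(V_{Ω'}) and of Br'(W_{Ω'}), pulled back along the two projections, generate a subgroup meeting
the Galois-invariant classes of Br'((V ×_{k'} W)_{Ω'}) in a subgroup of finite index; here Br'(Y) =
H²(Y_ét, G_m), Y_{Ω'} = Y ×_{k'} Spec Ω', and a class is Galois-invariant when it is fixed by (1 ×
Spec σ)^* for every σ ∈ Gal(Ω'/k'). Then the Brauer group of X is finite modulo that of k: the
quotient of Br'(X) = H²(X_ét, G_m) by the image of p^* : H²((Spec k)_ét, G_m) → H²(X_ét, G_m) is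
finite. (The published statement carries no hypothesis on products: its proof takes that finiteness
statement from the literature, so it is made an explicit hypothesis here. Exactness of pullback of
abelian étale sheaves along every morphism of schemes, which always holds, is carried as one blanket
instance hypothesis.) -/
theorem result (k : Type u) [Field k] [CharZero k]
    (hk : (⊤ : IntermediateField ℚ k).FG)
    [∀ ⦃Y Z : Scheme.{u}⦄ (g : Y ⟶ Z), PreservesFiniteLimits (EtCoh.pull g)]
    (hA : ∀ (k' Ω' : Type u) [Field k'] [CharZero k'] [Field Ω'] [Algebra k' Ω'] [IsSepClosure k' Ω'],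
      (⊤ : IntermediateField ℚ k').FG →
      ∀ (V W : Scheme.{u}) (gV : V ⟶ Spec (CommRingCat.of k')) (gW : W ⟶ Spec (CommRingCat.of k'))
        [Smooth gV] [Smooth gW] [GeometricallyIntegral gV] [GeometricallyIntegral gW],
        Neron.IsProjectiveOver k' (Over.mk gV) → Neron.IsProjectiveOver k' (Over.mk gW) →
      (((Dix.brInv Ω' gV).map (EtLim.HGmPull (Dix.geomFst Ω' gV gW) 2) ⊔
          (Dix.brInv Ω' gW).map (EtLim.HGmPull (Dix.geomSnd Ω' gV gW) 2)).addSubgroupOf
        (Dix.brInv Ω' (pullback.fst gV gW ≫ gV))).FiniteIndex)
    (d : ℕ) (hd : 2 ≤ d) (f g : Polynomial k) (hf : f.natDegree = d) (hfs : f.Separable)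
    (hg : g.natDegree = d) (hgs : g.Separable) (H : LefPen.Form 3 k d)
    (hH : (H : MvPolynomial (Fin 4) k) =
      (∑ i ∈ Finset.range (d + 1), MvPolynomial.C (f.coeff i) * MvPolynomial.X 0 ^ i * MvPolynomial.X 1 ^ (d - i)) -
      (∑ i ∈ Finset.range (d + 1), MvPolynomial.C (g.coeff i) * MvPolynomial.X 2 ^ i * MvPolynomial.X 3 ^ (d - i))) :
    Finite (Dix.BrCoh (LefPen.hypIdeal H).subscheme ⧸
      (EtLim.HGmPull ((LefPen.hypIdeal H).subschemeι ≫ CohB1.ProjSpace.toSpec 3 k) 2).range) := by
  obtain ⟨hsm, hgi, hproj, hne⟩ := K464.BinSurf.main hd f g hf hfs hg hgs H hH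
  have hΩ : IsSepClosure k (AlgebraicClosure k) := inferInstance
  have h15 := Groth.Agent.S17415.result k (AlgebraicClosure k) hk hA
    ((LefPen.hypIdeal H).subschemeι ≫ CohB1.ProjSpace.toSpec 3 k) hproj
    (K90.CyMap.hdpc (AlgebraicClosure k) (by omega) hf hfs hg hgs H hH)
  have hN1 := K464.HypDim.h1Gm_bcField (AlgebraicClosure k) (by omega : 1 ≤ d) H hne
  exact K90.DixKer.finite_quot k (AlgebraicClosure k) _ hN1.1 hN1.2 h15

end Groth.Agent.S17416
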