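import Groth.Statements.S17419
import Groth.Agent.ModSt.K328.CohAlg

set_option autoImplicit false
attribute [-instance] CategoryTheory.catToReflQuiver
open CategoryTheory CategoryTheory.Limits AlgebraicGeometry
universe u
open ModSt

namespace Groth.Agent.S17419

/-- Algebraicity of the stack of coherent sheaves, general case: let `f : X ⟶ S` be a proper morphism of
schemes, locally of finite presentation. Then the category over `(Sch/S)` of finitely presented
modules flat over the base on the base changes of `X` is an algebraic stack over `S` (fppf
topology). (The source treats a separated morphism of finite presentation `X → B` of algebraic
spaces over a base scheme and the category of finitely presented flat modules whose support is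
proper over the base; this row is the case of schemes with `S = B` and `f` proper, where every
finitely presented module on a base change of `X` has support proper over the base, so that the two
categories have the same objects.) -/
theorem result {X S : Scheme.{u}} (f : X ⟶ S)
    [IsProper f] [LocallyOfFinitePresentation f] :
    AlgSt.IsAlgStack Scheme.fppfPrecoverage (ModSt.Coh f) := by
  exact K328.CohAlg.isAlgStack_coh f

end Groth.Agent.S17419
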