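import Groth.Statements.S17420
import Mathlib
import Groth.Agent.CohB1.K924.NilThickFP
import Groth.Agent.PerfB.ResolQC
import Groth.Agent.Ega3B.FlatRestrict
import Groth.Agent.PerfA.PerfLocal
import Groth.Agent.Dcoh.FTFP
-- import your own Groth.Agent.* helpers here

set_option autoImplicit false
open CategoryTheory CategoryTheory.Limits AlgebraicGeometry
universe u
open CohB1

namespace Groth.Agent.S17420


open Groth.Agent AlgebraicGeometry.Scheme.Modules K924.NilThick K924.NilThickFP

theorem isFP_freeMod (X : Scheme.{u}) (n : ℕ) : CohB1.IsFP (FlatMod.freeMod X n) :=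
  Dcoh.FTFP.isFP_of_cokernel_finLocFree (PerfA.PerfLocal.isFinLocFree_freeMod X 0)
    (PerfA.PerfLocal.isFinLocFree_freeMod X n) 0 (𝟙 _) (by simp)
    (CokernelCofork.IsColimit.ofId _ rfl)

/-- A quotient of a finite free module by a submodule of finite type is of finite presentation. -/
theorem isFP_of_epi_free {X : Scheme.{u}} {F : X.Modules} {n : ℕ} (π : FlatMod.freeMod X n ⟶ F)
    [Epi π] (hK : CohB1.IsFT (kernel π)) : CohB1.IsFP F := by
  refine Dcoh.FTFP.isFP_of_cover fun x => ?_
  obtain ⟨V, m, r, hxV, hr⟩ := PerfC.PCCover.exists_epi_of_isFT hK x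
  refine ⟨V.toScheme, V.ι, inferInstance, ⟨⟨x, hxV⟩, rfl⟩, ?_⟩
  let R := restrictFunctor V.ι
  have h1 : CohB1.IsFP (cokernel (r ≫ R.map (kernel.ι π))) := by
    refine Smoothlim.FPMod.isFP_cokernel (M := FlatMod.freeMod _ m)
      (N := (FlatMod.freeMod X n).restrict V.ι) _ (isFP_freeMod _ m) ?_
    exact Dcoh.FTFP.isFP_of_iso (PerfA.PerfLocal.freeModRestrict V.ι n).symm (isFP_freeMod _ n)
  have hc : IsColimit (CokernelCofork.ofπ π (kernel.condition π)) :=
    Abelian.epiIsCokernelOfKernel (KernelFork.ofι (kernel.ι π) (kernel.condition π)) (kernelIsKernel π)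
  let e : cokernel (kernel.ι π) ≅ F := IsColimit.coconePointUniqueUpToIso (cokernelIsCokernel _) hc
  exact Dcoh.FTFP.isFP_of_iso
    (cokernelEpiComp r (R.map (kernel.ι π)) ≪≫ (PreservesCokernel.iso R (kernel.ι π)).symm ≪≫
      R.mapIso e) h1


/-- Let `X = X' ×_{T'} T` be a cartesian square of schemes in which `T ⟶ T'` is a first order
thickening, and let `F'` be a sheaf of `O_{X'}`-modules flat over `T'`. Then `F'` is of finite
presentation if and only if its pull-back to `X` is of finite presentation (finitely presented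
modules being quasi-coherent, these are the four equivalent conditions of the source). (The source
states this for algebraic spaces; this row is the case of schemes.) -/
theorem result {X X' T T' : Scheme.{u}}
    (i : X ⟶ X') (q : X ⟶ T) (q' : X' ⟶ T') (t : T ⟶ T') (hsq : IsPullback i q q' t)
    (ht : MoreMor.IsFirstOrderThickening t) (F' : X'.Modules) (hF' : FlatMod.IsFlatOver q' F') :
    CohB1.IsFP F' ↔ CohB1.IsFP ((Scheme.Modules.pullback i).obj F') := by
  refine ⟨fun h => FormalA.PullbackQC.isFP_pullback i F' h, fun h => ?_⟩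
  have hi : SqZero i := sqZero_of_isPullback hsq ht
  have hct : IsClosedImmersion t := ht.1.1
  have hft : CohB1.IsFT F' := hi.isFT_of_pullback F' (Models2.FPCoh.isFT_of_isFP h)
  refine Dcoh.FTFP.isFP_of_cover fun y => ?_
  obtain ⟨V, n, π, hyV, hπ⟩ := PerfC.PCCover.exists_epi_of_isFT hft y
  refine ⟨V.toScheme, V.ι, inferInstance, ⟨⟨y, hyV⟩, rfl⟩, ?_⟩
  refine isFP_of_epi_free π ?_
  have hg : SqZero (i ∣_ V) := hi.restrict V
  refine hg.isFT_of_pullback _ ?_
  have hsq' : IsPullback (i ∣_ V) ((i ⁻¹ᵁ V).ι ≫ q) (V.ι ≫ q') t :=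
    (isPullback_morphismRestrict i V).flip.paste_horiz hsq.flip |>.flip
  have hflat : FlatMod.IsFlatOver (V.ι ≫ q') (F'.restrict V.ι) := fun x =>
    (Ega3B.FlatRestrict.isFlatOverAt_restrict_iff_comp q' V.ι F' x).mpr (hF' _)
  have hses : (ShortComplex.mk (kernel.ι π) π (kernel.condition π)).ShortExact :=
    { exact := ShortComplex.exact_of_f_is_kernel _ (kernelIsKernel π) }
  have hmono := mono_pullback_of_flat hsq' (kernel.ι π) π (kernel.condition π) hses hflat
  let G := Scheme.Modules.pullback (i ∣_ V)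
  have hcok : IsColimit (CokernelCofork.ofπ (G.map π)
      (show G.map (kernel.ι π) ≫ G.map π = 0 by rw [← G.map_comp, kernel.condition, G.map_zero])) := by
    have hc : IsColimit (CokernelCofork.ofπ π (kernel.condition π)) :=
      Abelian.epiIsCokernelOfKernel (KernelFork.ofι (kernel.ι π) (kernel.condition π))
        (kernelIsKernel π)
    exact CokernelCofork.mapIsColimit _ hc G
  have hker : IsLimit (KernelFork.ofι (G.map (kernel.ι π))
      (show G.map (kernel.ι π) ≫ G.map π = 0 by rw [← G.map_comp, kernel.condition, G.map_zero])) :=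
    Abelian.monoIsKernelOfCokernel _ hcok
  have hepi : Epi (G.map π) := inferInstance
  have hFP : CohB1.IsFP (G.obj (F'.restrict V.ι)) := by
    refine Dcoh.FTFP.isFP_of_iso ((PerfB.FlatPull.pullbackRestrict i V).app F') ?_
    exact Dcoh.FTFP.isFP_of_iso ((restrictFunctorIsoPullback (i ⁻¹ᵁ V).ι).symm.app _)
      (FormalA.PullbackQC.isFP_pullback _ _ h)
  have hfree : CohB1.IsFP (G.obj (FlatMod.freeMod V.toScheme n)) :=
    FormalA.PullbackQC.isFP_pullback _ _ (isFP_freeMod _ n)
  have hkk := isFT_kernel (Models2.FPCoh.isQCoh_of_isFP hfree) (Models2.FPCoh.isFT_of_isFP hfree)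
    hFP (G.map π)
  exact Dcoh.FTFP.isFT_of_iso (IsLimit.conePointUniqueUpToIso (kernelIsKernel _) hker) hkk

end Groth.Agent.S17420
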