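import Groth.Statements.S17422
import Groth.Agent.ModSt.K328.CohAlg
import Groth.Agent.ModSt.K927.PicOfCoh

set_option autoImplicit false
attribute [-instance] CategoryTheory.catToReflQuiver
open CategoryTheory CategoryTheory.Limits AlgebraicGeometry
universe u
open ModSt

namespace Groth.Agent.S17422

/-- Let `f : X ⟶ S` be a flat proper morphism of schemes, locally of finite presentation. Then the
Picard stack of `f` — the category over `(Sch/S)` of modules on the base changes `X_T` that are flat
over `T` and finite locally free of rank `1` — is an algebraic stack over `S` (fppf topology). (The
source states this for algebraic spaces `X → B` over a base scheme, with objects the invertible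
modules on `X_T`; this row is the case of schemes with `S = B`, invertible modules on a scheme being
the finite locally free modules of rank `1`, and flatness over `T` being automatic for them since
`f` is flat.) -/
theorem result {X S : Scheme.{u}} (f : X ⟶ S)
    [Flat f] [IsProper f] [LocallyOfFinitePresentation f] :
    AlgSt.IsAlgStack Scheme.fppfPrecoverage (ModSt.FibRk f 1) := by
  exact K927.ModSt.isAlgStack_fibRk f 1 (K328.CohAlg.isAlgStack_coh f)

end Groth.Agent.S17422
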