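import Groth.Statements.S17424
import Groth.Agent.Dual.K175.LDInv
import Groth.Agent.S2122
import Groth.Agent.S0299
import Groth.Agent.Localalg.Matlis
import Groth.Agent.Ega3B.NearFibre
-- import your own Groth.Agent.* helpers here

set_option autoImplicit false
universe u
open CategoryTheory CategoryTheory.Limits AlgebraicGeometry
attribute [local instance] HasDerivedCategory.standard
open Dual

namespace Groth.Agent.S17424

/-- Let (R, m) be a Noetherian local ring with a dualizing complex ω_R (given in D(R), and as the object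
W of D_QCoh(Spec R)), and let f : X → Spec R be proper (f is the structure morphism of X over Spec
R; Rf_*, its preservation of D_QCoh and its right adjoint f^! are carried as hypotheses). Assume
every local ring of X is Cohen–Macaulay, X has dimension n, and the relative dualizing complex
f^!ω_R has zero cohomology sheaves outside a single degree d (as happens when X is moreover
equidimensional and connected); write ω_X for its degree-d cohomology sheaf. Let L be an invertible
O_X-module and M an O_X-module with L ⊗ M ≅ O_X, and let Z ⊆ X be the closed fibre (the complement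
of the preimage of the punctured spectrum). Then for all natural numbers i, j with i + j = n: H^i(X,
ω_X ⊗ L) = 0 (equivalently R^i f_*(ω_X ⊗ L) = 0, the base being affine) if and only if the local
cohomology group H^j_Z(X, M) vanishes. (The published statement is over an arbitrary Noetherian base
Y at a point y, after base change to Spec O_{Y,y}; this is that local form.) -/
theorem result (R : Type u) [CommRing R] [IsNoetherianRing R] [IsLocalRing R]
    (ωR : Dual.D R) (hω : Dual.IsDualizing R ωR)
    [PreservesFiniteLimits (tilde.functor (CommRingCat.of R))]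
    (W : DCoh.DQCoh (Spec (CommRingCat.of R))) (hW : Nonempty (W.obj ≅ (DCoh.tildeD (CommRingCat.of R)).obj ωR))
    (X : Scheme.{u}) [X.Over (Spec (CommRingCat.of R))] [IsProper (X ↘ Spec (CommRingCat.of R))]
    [DCoh.HasRpush (X ↘ Spec (CommRingCat.of R))] (h : DCoh.RpushPreservesQCoh (X ↘ Spec (CommRingCat.of R))) [DCoh.HasShriek (X ↘ Spec (CommRingCat.of R)) h]
    (hCM : ∀ x : X, LocCoh.IsCohenMacaulayLocalRing (X.presheaf.stalk x))
    (d : ℤ) (hconc : ∀ j : ℤ, j ≠ d → IsZero (DCoh.HD (DCoh.dualizingCx (X ↘ Spec (CommRingCat.of R)) h W) j))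
    (n : ℕ) (hn : topologicalKrullDim X = n)
    (L M : X.Modules) (hL : PicF.IsInvertible L) (e : (DCoh.tensorBi.obj L).obj M ≅ Coh.structureModule X)
    (i j : ℕ) (hij : i + j = n) :
    Subsingleton (Coh.HH X ((DCoh.tensorBi.obj (DCoh.HD (DCoh.dualizingCx (X ↘ Spec (CommRingCat.of R)) h W) d)).obj L) i) ↔
      Subsingleton (LocCohZ.HZM X M j ((X ↘ Spec (CommRingCat.of R)) ⁻¹ᵁ (LocCoh.puncturedOpen R (IsLocalRing.maximalIdeal R)))) := by
  have hLf := Groth.Agent.Ega3B.NearFibre.isFinLocFree_of_isInvertible hL
  obtain ⟨L', ⟨hp⟩⟩ := Groth.Agent.Dcoh.DualFLF.exists_exactPairing hLf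
  have hM : PicF.IsInvertible M := Groth.Agent.S2122.result M L (Groth.Agent.Ega2.Tens.swap M L ≪≫ e)
  have hMc : Coh.IsCoh M :=
    Groth.Agent.PerfA.CohSerre.isCoh_of_isFinLocFree (Groth.Agent.Ega3B.NearFibre.isFinLocFree_of_isInvertible hM)
  let f := X ↘ Spec (CommRingCat.of R)
  obtain ⟨ω', W', hω', hn', ⟨eW'⟩, ⟨eN⟩⟩ := K175.PushFin.exists_norm f h (DCoh.shriek f h) (DCoh.shriekAdj f h)
    ωR hω W hW d hconc n hn
  let N : X.Modules := DCoh.HD (DCoh.dualizingCx f h W) d
  obtain ⟨E, _, _, ι, hE⟩ := Groth.Agent.S0299.result R (IsLocalRing.ResidueField R)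
  obtain ⟨ε⟩ := K175.LDQ.nonempty_equiv_HomQ ω' hω' hn' E ι hE
  let D := AddEquiv.ofBijective _ (K175.LDMain.dua_bijective f h (DCoh.shriek f h) (DCoh.shriekAdj f h) W' eW' hω' hn'
    N n eN j i (by omega) M hMc)
  let H := K175.LDInv.homI (R := R) L' e N i
  let T := D.trans (LinearEquiv.arrowCongr H ε).toAddEquiv
  constructor
  · intro hs
    have h1 : Subsingleton (Coh.HH X ((DCoh.tensorBi.obj N).obj L) i →ₗ[R] E) :=
      ⟨fun a b => LinearMap.ext fun x => by rw [Subsingleton.elim x 0, map_zero, map_zero]⟩
    exact T.toEquiv.subsingleton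
  · intro hs
    have h1 : Subsingleton (Coh.HH X ((DCoh.tensorBi.obj N).obj L) i →ₗ[R] E) := T.symm.toEquiv.subsingleton
    exact Groth.Agent.Localalg.Matlis.subsingleton_of_dual hE (Coh.HH X ((DCoh.tensorBi.obj N).obj L) i)

end Groth.Agent.S17424
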