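import Groth.Statements.S17426
import Groth.Agent.Lim.K342.RelGenLim
import Groth.Agent.Ega3B.LimInvK1

set_option autoImplicit false
universe u
open CategoryTheory AlgebraicGeometry
open Lim

namespace Groth.Agent.S17426

open Limits Groth.Agent.Ega3B.LimInv K342.RelGen K342.RelGenLim

set_option backward.isDefEq.respectTransparency false in
set_option backward.defeqAttrib.useBackward true in
theorem descend {I : Type u} [SmallCategory I] [IsCofiltered I]
    (D : I ⥤ Scheme.{u}) (c : Limits.Cone D) (hc : Limits.IsLimit c)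
    [∀ (i j : I) (u : i ⟶ j), IsAffineHom (D.map u)] (i₀ : I) [CompactSpace (D.obj i₀)] [QuasiSeparatedSpace (D.obj i₀)]
    {X₀ Y₀ : Scheme.{u}} (f₀ : X₀ ⟶ Y₀) (g₀ : Y₀ ⟶ D.obj i₀)
    [QuasiCompact g₀] [QuasiSeparated g₀] [QuasiCompact (f₀ ≫ g₀)] [QuasiSeparated (f₀ ≫ g₀)]
    (L₀ : X₀.Modules) (hL₀ : PicF.IsInvertible L₀)
    {X Y : Scheme.{u}} (f : X ⟶ Y) (g : Y ⟶ c.pt) (qY : Y ⟶ Y₀) (qX : X ⟶ X₀)
    (hY : IsPullback qY g g₀ (c.π.app i₀)) (hX : IsPullback qX (f ≫ g) (f₀ ≫ g₀) (c.π.app i₀))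
    (hw : qX ≫ f₀ = f ≫ qY)
    (hgen : relLocus f ((Scheme.Modules.pullback qX).obj L₀) = ⊤) :
    ∃ j : Over i₀, ∀ {k : I} (ψ : k ⟶ j.left) {Xk Yk : Scheme.{u}} (fk : Xk ⟶ Yk) (gk : Yk ⟶ D.obj k)
      (pY : Yk ⟶ Y₀) (pX : Xk ⟶ X₀), pY ≫ g₀ = gk ≫ D.map (ψ ≫ j.hom) → pX ≫ f₀ = fk ≫ pY →
        relLocus fk ((Scheme.Modules.pullback pX).obj L₀) = ⊤ := by
  let D' : Over i₀ ⥤ Scheme.{u} := Over.forget i₀ ⋙ D
  let s : D' ⟶ (Functor.const _).obj (D.obj i₀) :=
    { app := fun j => D.map j.hom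
      naturality := fun j k a => by
        change D.map a.left ≫ D.map k.hom = D.map j.hom ≫ 𝟙 _
        rw [← D.map_comp, Over.w, Category.comp_id] }
  let c' : Cone D' := c.whisker (Over.forget i₀)
  have hc' : IsLimit c' := (Functor.Initial.isLimitWhiskerEquiv (Over.forget i₀) c).symm hc
  have ht : ∀ j, c'.π.app j ≫ s.app j = c.π.app i₀ := fun j => c.w j.hom
  have hA : ∀ (i j : Over i₀) (f : i ⟶ j), IsAffineHom (D'.map f) := fun i j f => by
    dsimp [D']; infer_instance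
  have hQ1 : ∀ j, CompactSpace (D'.obj j) := fun j =>
    QuasiCompact.compactSpace_of_compactSpace (D.map j.hom)
  have hQ2 : ∀ j, QuasiSeparatedSpace (D'.obj j) := fun j =>
    quasiSeparatedSpace_of_quasiSeparated (D.map j.hom)
  let DX := bcD D' s (f₀ ≫ g₀)
  let DY := bcD D' s g₀
  have h1 : ∀ {i j} (a : i ⟶ j), IsAffineHom (DX.map a) := fun a => isAffineHom_bcD_map a
  have h2 : ∀ {i j} (a : i ⟶ j), IsAffineHom (DY.map a) := fun a => isAffineHom_bcD_map a
  have h3 : ∀ j, CompactSpace (DX.obj j) := fun j => compactSpace_bcD_obj j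
  have h4 : ∀ j, CompactSpace (DY.obj j) := fun j => compactSpace_bcD_obj j
  have h5 : ∀ j, QuasiSeparatedSpace (DX.obj j) := fun j => quasiSeparatedSpace_bcD_obj j
  have h6 : ∀ j, QuasiSeparatedSpace (DY.obj j) := fun j => quasiSeparatedSpace_bcD_obj j
  let φ : DX ⟶ DY :=
    { app := fun j => pullback.lift (pullback.fst _ _ ≫ f₀) (pullback.snd _ _)
        (by rw [Category.assoc, pullback.condition])
      naturality := fun j k a => by
        apply pullback.hom_ext
        · simp [DX, DY]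
        · simp [DX, DY] }
  let cX : Cone DX := bcC c' ht hX
  let cY : Cone DY := bcC c' ht hY
  have hcX : IsLimit cX := isLimitBcC c' ht hX hc'
  have hcY : IsLimit cY := isLimitBcC c' ht hY hc'
  have hf : ∀ j, f ≫ cY.π.app j = cX.π.app j ≫ φ.app j := by
    intro j
    apply pullback.hom_ext
    · simp [cX, cY, φ, hw]
    · simp [cX, cY, φ]
  let j₀ : Over i₀ := Over.mk (𝟙 i₀)
  let L : (DX.obj j₀).Modules := (Scheme.Modules.pullback (pullback.fst (f₀ ≫ g₀) (s.app j₀))).obj L₀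
  have hL : PicF.IsInvertible L := Groth.Agent.Fdesc.LocGen.isInvertible_pullback _ hL₀
  have hq : cX.π.app j₀ ≫ pullback.fst (f₀ ≫ g₀) (s.app j₀) = qX := by
    simp [cX]
  have H : relLocus f ((Scheme.Modules.pullback (cX.π.app j₀)).obj L) = ⊤ := by
    rw [← hgen]
    exact relLocus_eq_of_iso f ((Scheme.Modules.pullbackComp _ _).app L₀ ≪≫
      (Scheme.Modules.pullbackCongr hq).app L₀)
  obtain ⟨j, a, ha⟩ := exists_relLocus_eq_top (D := DX) (E := DY) hcX hcY φ f hf hL H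
  refine ⟨j, ?_⟩
  intro k ψ Xk Yk fk gk pY pX e1 e2
  have e3 : pX ≫ f₀ ≫ g₀ = (fk ≫ gk ≫ D.map ψ) ≫ s.app j := by
    change _ = (fk ≫ gk ≫ D.map ψ) ≫ D.map j.hom
    rw [reassoc_of% e2, e1, D.map_comp, Category.assoc, Category.assoc]
  have e4 : pY ≫ g₀ = (gk ≫ D.map ψ) ≫ s.app j := by
    change _ = (gk ≫ D.map ψ) ≫ D.map j.hom
    rw [e1, D.map_comp, Category.assoc]
  let A : Xk ⟶ DX.obj j := pullback.lift pX (fk ≫ gk ≫ D.map ψ) e3
  let B : Yk ⟶ DY.obj j := pullback.lift pY (gk ≫ D.map ψ) e4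
  have hAB : A ≫ φ.app j = fk ≫ B := by
    apply pullback.hom_ext
    · simp [A, B, φ, e2]
    · simp [A, B, φ]
  rw [eq_top_iff]
  have e5 : relLocus (φ.app j) ((Scheme.Modules.pullback (DX.map a ≫ pullback.fst (f₀ ≫ g₀) (s.app j₀))).obj L₀) = ⊤ := by
    rw [← ha]
    exact (relLocus_eq_of_iso (φ.app j) ((Scheme.Modules.pullbackComp _ _).app L₀)).symm
  have e6 := preimage_relLocus_comp_le hAB (p := DX.map a ≫ pullback.fst (f₀ ≫ g₀) (s.app j₀)) (q := pX)
    (by simp [A, DX]) L₀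
  rw [e5] at e6
  exact e6

/-- Let S = lim S_i be a cofiltered limit of schemes with affine transition morphisms, with S_{i₀} a
quasi-compact quasi-separated stage; let X₀ and Y₀ be schemes of finite presentation over S_{i₀}, f₀
: X₀ → Y₀ an S_{i₀}-morphism and L₀ an invertible O_{X₀}-module. Let f : X → Y be the base change of
f₀ along S → S_{i₀} and L the pullback of L₀ to X (base changes are expressed by pullback squares).
Call an invertible module generated relative to a morphism when the counit of the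
pullback–pushforward adjunction, f^*f_*L → L, is an epimorphism. If L is generated relative to f,
then there is an index j over i₀ such that for every index k over j and every base change f_k : X_k
→ Y_k of f₀ along S_k → S_{i₀}, the pullback L_k of L₀ to X_k is generated relative to f_k. (Stated
for X₀, Y₀ of finite presentation over the quasi-compact quasi-separated stage, the setting in which
all the schemes involved are quasi-compact and quasi-separated; the semi-ample variant of the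
source, some positive tensor power generated, is not restated.) -/
theorem result {I : Type u} [SmallCategory I] [IsCofiltered I]
    (D : I ⥤ Scheme.{u}) (c : Limits.Cone D) (hc : Limits.IsLimit c)
    [∀ (i j : I) (u : i ⟶ j), IsAffineHom (D.map u)] (i₀ : I) [CompactSpace (D.obj i₀)] [QuasiSeparatedSpace (D.obj i₀)]
    {X₀ Y₀ : Scheme.{u}} (f₀ : X₀ ⟶ Y₀) (g₀ : Y₀ ⟶ D.obj i₀)
    [LocallyOfFinitePresentation g₀] [QuasiCompact g₀] [QuasiSeparated g₀]
    [LocallyOfFinitePresentation (f₀ ≫ g₀)] [QuasiCompact (f₀ ≫ g₀)] [QuasiSeparated (f₀ ≫ g₀)]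
    (L₀ : X₀.Modules) (hL₀ : PicF.IsInvertible L₀)
    {X Y : Scheme.{u}} (f : X ⟶ Y) (g : Y ⟶ c.pt) (qY : Y ⟶ Y₀) (qX : X ⟶ X₀)
    (hY : IsPullback qY g g₀ (c.π.app i₀)) (hX : IsPullback qX f f₀ qY)
    (hgen : Epi ((Scheme.Modules.pullbackPushforwardAdjunction f).counit.app ((Scheme.Modules.pullback qX).obj L₀))) :
    ∃ (j : I) (φ : j ⟶ i₀), ∀ (k : I) (ψ : k ⟶ j) (Xk Yk : Scheme.{u}) (fk : Xk ⟶ Yk) (gk : Yk ⟶ D.obj k)
      (pY : Yk ⟶ Y₀) (pX : Xk ⟶ X₀), IsPullback pY gk g₀ (D.map (ψ ≫ φ)) → IsPullback pX fk f₀ pY →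
        Epi ((Scheme.Modules.pullbackPushforwardAdjunction fk).counit.app ((Scheme.Modules.pullback pX).obj L₀)) := by
  have hX' : IsPullback qX (f ≫ g) (f₀ ≫ g₀) (c.π.app i₀) := hX.paste_vert hY
  have hinv := K342.RelGen.relLocus_eq_top (Groth.Agent.Fdesc.LocGen.isInvertible_pullback qX hL₀) hgen
  obtain ⟨j, H⟩ := descend D c hc i₀ f₀ g₀ L₀ hL₀ f g qY qX hY hX' hX.w hinv
  refine ⟨j.left, j.hom, ?_⟩
  intro k ψ Xk Yk fk gk pY pX h1 h2
  exact K342.RelGen.epi_counit (H ψ fk gk pY pX h1.w h2.w)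

end Groth.Agent.S17426
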