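import Groth.Statements.S17427
import Groth.Agent.Resolve.K377.TrSplit
import Groth.Agent.Resolve.K377.RatPush
import Groth.Agent.Resolve.K377.FlatAlt

set_option autoImplicit false
universe u
open CategoryTheory CategoryTheory.Limits AlgebraicGeometry
attribute [local instance] HasDerivedCategory.standard
open Resolve

namespace Groth.Agent.S17427

/-- Rational singularities are derived splinters. Let S be an integral Noetherian scheme of equal
characteristic zero (every residue field has characteristic zero) which is quasi-excellent (the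
coordinate ring of every affine open is a G-ring and is J-2), normal, and has rational
singularities: for every point s and every proper morphism X → Spec O_{S,s} from an integral regular
scheme which is an isomorphism over a nonempty open, H^i(X, O_X) = 0 for all i > 0. Assume moreover
that every integral scheme Y′ with a proper morphism to S that is an isomorphism over a nonempty
open of S admits a proper morphism W → Y′ from an integral regular scheme W which is an isomorphism
over a nonempty open of Y′. Then S is a derived splinter: for every proper surjective morphism g : Y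
→ S (with the unbounded derived direct image Rg_* carried as a hypothesis), the natural morphism O_S
→ Rg_*O_Y in D(O_S) — the map O_S → g_*O_Y placed in degree zero followed by the canonical map from
g_*O_Y to Rg_*O_Y — is a split monomorphism. (The published statement does not assume S integral,
and assumes only quasi-excellence where this row also assumes the existence of these resolutions.) -/
theorem result (S : Scheme.{u}) [IsIntegral S] [IsNoetherian S]
    (hQ : ∀ s : S, CharZero (S.residueField s))
    (hqe : ∀ U : S.affineOpens, CAlg.IsGRing Γ(S, (U : S.Opens)) ∧ EGA4.IsJ2 Γ(S, (U : S.Opens)))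
    (hnor : Pi1.IsNormalScheme S)
    (hrat : ∀ (s : S) (X : Scheme.{u}) (f : X ⟶ Spec (S.presheaf.stalk s)) [IsProper f] [IsIntegral X],
      (∀ x : X, IsRegularLocalRing (X.presheaf.stalk x)) →
      (∃ U : (Spec (S.presheaf.stalk s)).Opens, (U : Set (Spec (S.presheaf.stalk s))).Nonempty ∧ IsIso (f ∣_ U)) →
      ∀ i : ℕ, 0 < i → Subsingleton (Coh.HH X (Coh.structureModule X) i))
    (hres : ∀ (Y' : Scheme.{u}) (b : Y' ⟶ S) [IsIntegral Y'] [IsProper b],
      (∃ U : S.Opens, (U : Set S).Nonempty ∧ IsIso (b ∣_ U)) →
      ∃ (W : Scheme.{u}) (μ : W ⟶ Y'), IsIntegral W ∧ IsProper μ ∧ (∀ w : W, IsRegularLocalRing (W.presheaf.stalk w)) ∧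
        ∃ V : Y'.Opens, (V : Set Y').Nonempty ∧ IsIso (μ ∣_ V))
    (Y : Scheme.{u}) (g : Y ⟶ S) [IsProper g] [Surjective g] [DCoh.HasRpush g] :
    IsSplitMono ((DerivedCategory.singleFunctor S.Modules 0).map (ClSub.unitToPush g) ≫
        DerivedCategory.Qh.map ((HomotopyCategory.quotient S.Modules (ComplexShape.up ℤ)).map
          ((HomologicalComplex.singleMapHomologicalComplex (Scheme.Modules.pushforward g) (ComplexShape.up ℤ) 0).inv.app
            (Coh.structureModule Y))) ≫
        ((DCoh.pushKh g).totalRightDerivedUnit DerivedCategory.Qh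
          (HomotopyCategory.quasiIso Y.Modules (ComplexShape.up ℤ))).app
          ((HomotopyCategory.singleFunctor Y.Modules 0).obj (Coh.structureModule Y))) := by
  rw [K377.DSplit.u_eq]
  obtain ⟨Y₁, i, U, hi, hint, hU, hfl, hsurj⟩ := K377.Multisec.exists_multisection g
  have hUc : IsCompact (U : Set S) := (TopologicalSpace.NoetherianSpace.isCompact _)
  obtain ⟨S', b, Z, q, r, hb, hq, hqs, hcomm⟩ := K377.FlatAlt.exists_modif (i ≫ g) U hUc hU hfl
  have := hb.proper
  have := hb.integral
  obtain ⟨W, μ, hWi, hμ, hreg, hμi⟩ := hres S' b hb.exists_isIso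
  have hμm : Groth.Agent.CurvesC.Modif.IsModif μ := ⟨hμ, hWi, hμi⟩
  have hπ : Groth.Agent.CurvesC.Modif.IsModif (μ ≫ b) := hμm.comp hb
  have := hπ.proper
  have := Groth.Agent.Dcoh.DerSch.hasRpush (μ ≫ b)
  have := Groth.Agent.Dcoh.DerSch.hasInjectiveResolutions W
  have hu : IsIso (K377.DSplit.u (μ ≫ b)) :=
    K377.DSplit.isIso_u (μ ≫ b) (fun j hj => K377.RatPush.isZero_Rpush hrat (μ ≫ b) hπ hreg j hj)
      (K377.RatPush.isIso_unitToPush hnor (μ ≫ b) hπ)
  have hp : Mor2.IsFinLocFree (pullback.snd q μ) := by
    obtain ⟨h1, h2, h3⟩ := hq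
    exact ⟨inferInstance, inferInstance, inferInstance⟩
  have := hp.1
  have := Groth.Agent.Dcoh.DerSch.hasRpush (pullback.snd q μ)
  have := Groth.Agent.Dcoh.DerSch.hasInjectiveResolutions (pullback q μ)
  have hsp : IsSplitMono (ClSub.unitToPush (pullback.snd q μ)) :=
    K377.TrSplit.isSplitMono_unitToPush (pullback.snd q μ) hp
      (fun d hd V => K377.TrSplit.isUnit_natCast_of_hom hQ (μ ≫ b) hd V)
  have hup : IsSplitMono (K377.DSplit.u (pullback.snd q μ)) :=
    K377.DSplit.isSplitMono_u (pullback.snd q μ) (fun j hj => Groth.Agent.PerfC.AffPushD.isZero_Rpush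
      (pullback.snd q μ) _ (Groth.Agent.PerfA.QCohSerre.isQCoh_unit _) j hj) hsp
  have he : pullback.snd q μ ≫ μ ≫ b = (pullback.fst q μ ≫ r ≫ i) ≫ g := by
    rw [← Category.assoc, ← pullback.condition, Category.assoc, ← hcomm]
    simp only [Category.assoc]
  have hall : ∀ {T : Scheme.{u}} (f f' : T ⟶ S) (h : f = f') [DCoh.HasRpush f] [DCoh.HasRpush f'],
      IsSplitMono (K377.DSplit.u f) → IsSplitMono (K377.DSplit.u f') := by
    rintro T f _ rfl _ _ h
    exact h
  have := Groth.Agent.Dcoh.DerSch.hasRpush (pullback.snd q μ ≫ μ ≫ b)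
  have := Groth.Agent.Dcoh.DerSch.hasRpush (pullback.fst q μ ≫ r ≫ i)
  have := Groth.Agent.Dcoh.DerSch.hasRpush ((pullback.fst q μ ≫ r ≫ i) ≫ g)
  have h1 : IsSplitMono (K377.DSplit.u (pullback.snd q μ ≫ μ ≫ b)) :=
    K377.DSplit.isSplitMono_comp _ _ hup hu
  exact K377.DSplit.isSplitMono_of_comp _ _ (hall _ _ he h1)

end Groth.Agent.S17427
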