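import Groth.Statements.S17428
import Mathlib.RingTheory.AdicCompletion.AsTensorProduct
import Groth.Agent.S3191

set_option autoImplicit false
universe u
open FrobAlg

namespace Groth.Agent.S17428

open TensorProduct

section

variable (p : ℕ) [Fact p.Prime] (A : Type u) [CommRing A] [CharP A p] (I : Ideal A)

/-- The identity `Twist p A → A`, semilinear for Frobenius. -/
def idSL : Twist p A →ₛₗ[frobenius A p] A where
  toFun x := (toTwist p A).symm x
  map_add' x y := map_add _ x y
  map_smul' a x := by
    rw [Algebra.smul_def, algebraMap_twist, map_mul, RingEquiv.symm_apply_apply]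
    rfl

theorem mem_pow_smul_iff (n : ℕ) (x : Twist p A) :
    x ∈ (I ^ n • ⊤ : Submodule A (Twist p A)) ↔
      (toTwist p A).symm x ∈ (I ^ n).map (frobenius A p) := by
  rw [Ideal.smul_top_eq_map, Submodule.restrictScalars_mem]
  have h1 : algebraMap A (Twist p A) = (toTwist p A : A →+* Twist p A).comp (frobenius A p) := rfl
  rw [h1, ← Ideal.map_map]
  constructor
  · intro h
    obtain ⟨y, hy, hxy⟩ := (Ideal.mem_map_iff_of_surjective _ (toTwist p A).surjective).1 h
    rw [← hxy]
    exact hy
  · intro h
    exact (Ideal.mem_map_iff_of_surjective _ (toTwist p A).surjective).2 ⟨_, h, rfl⟩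

theorem map_frobenius_le (J : Ideal A) : J.map (frobenius A p) ≤ J := by
  rw [Ideal.map_le_iff_le_comap]
  intro x hx
  rw [Ideal.mem_comap, frobenius_def]
  exact Ideal.pow_mem_of_mem _ hx _ (Fact.out : p.Prime).pos

theorem exists_pow_le [IsNoetherianRing A] (n : ℕ) :
    ∃ N, n ≤ N ∧ I ^ N ≤ (I ^ n).map (frobenius A p) := by
  have h1 : I ^ n ≤ ((I ^ n).map (frobenius A p)).radical := by
    intro x hx
    exact ⟨p, Ideal.mem_map_of_mem (frobenius A p) hx⟩
  obtain ⟨k, hk⟩ := Ideal.exists_pow_le_of_le_radical_of_fg h1 (IsNoetherian.noetherian _)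
  refine ⟨n * (k + 1), Nat.le_mul_of_pos_right n (Nat.succ_pos k), ?_⟩
  rw [pow_mul]
  exact (Ideal.pow_le_pow_right (Nat.le_succ k)).trans hk

/-- The map on the quotients. -/
def g (n : ℕ) : (Twist p A ⧸ (I ^ n • ⊤ : Submodule A (Twist p A))) →ₛₗ[frobenius A p]
    (A ⧸ (I ^ n • ⊤ : Submodule A A)) :=
  Submodule.mapQ _ _ (idSL p A) (by
    intro x hx
    rw [mem_pow_smul_iff] at hx
    rw [Submodule.mem_comap]
    have h := map_frobenius_le p A (I ^ n) hx
    rw [smul_eq_mul, Ideal.mul_top]
    exact h)

theorem g_mk (n : ℕ) (x : Twist p A) :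
    g p A I n (Submodule.Quotient.mk x) = Submodule.Quotient.mk ((toTwist p A).symm x) := rfl

/-- The comparison map of completions. -/
noncomputable def θ (x : AdicCompletion I (Twist p A)) : AdicCompletion I A :=
  ⟨fun n => g p A I n (x.val n), by
    intro m n hmn
    change (AdicCompletion.transitionMap I A hmn) (g p A I n (x.val n)) = g p A I m (x.val m)
    have h : (AdicCompletion.transitionMap I (Twist p A) hmn) (x.val n) = x.val m := x.property hmn
    obtain ⟨y, hy⟩ := Submodule.Quotient.mk_surjective _ (x.val n)
    rw [← h, ← hy]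
    rfl⟩

theorem θ_val (x : AdicCompletion I (Twist p A)) (n : ℕ) :
    (θ p A I x).val n = g p A I n (x.val n) := rfl

theorem θ_add (x y : AdicCompletion I (Twist p A)) :
    θ p A I (x + y) = θ p A I x + θ p A I y := by
  ext n
  rw [θ_val, AdicCompletion.val_add_apply, map_add, AdicCompletion.val_add_apply, θ_val, θ_val]

theorem θ_bijective [IsNoetherianRing A] : Function.Bijective (θ p A I) := by
  constructor
  · intro x y hxy
    ext n
    obtain ⟨N, hnN, hN⟩ := exists_pow_le p A I n
    have h1 : g p A I N (x.val N) = g p A I N (y.val N) := by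
      rw [← θ_val, ← θ_val, hxy]
    have hx := x.property hnN
    have hy := y.property hnN
    rw [← hx, ← hy]
    obtain ⟨x', hx'⟩ := Submodule.Quotient.mk_surjective _ (x.val N)
    obtain ⟨y', hy'⟩ := Submodule.Quotient.mk_surjective _ (y.val N)
    rw [← hx', ← hy', g_mk, g_mk, Submodule.Quotient.eq, ← map_sub, smul_eq_mul, Ideal.mul_top] at h1
    rw [← hx', ← hy']
    refine (Submodule.Quotient.eq _).2 ?_
    rw [mem_pow_smul_iff]
    exact hN h1
  · intro y
    choose N₀ hnN₀ hN₀ using exists_pow_le p A I
    -- make the function monotone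
    obtain ⟨N, hmono, hnN, hN⟩ : ∃ N : ℕ → ℕ, Monotone N ∧ (∀ n, n ≤ N n) ∧
        ∀ n, I ^ N n ≤ (I ^ n).map (frobenius A p) := by
      refine ⟨fun n => ∑ j ∈ Finset.range (n + 1), N₀ j, ?_, ?_, ?_⟩
      · intro m n hmn
        exact Finset.sum_le_sum_of_subset (Finset.range_mono (by omega))
      · intro n
        exact (hnN₀ n).trans (Finset.single_le_sum (f := N₀) (fun _ _ => Nat.zero_le _)
          (Finset.mem_range.2 (Nat.lt_succ_self n)))
      · intro n
        exact (Ideal.pow_le_pow_right (Finset.single_le_sum (f := N₀) (fun _ _ => Nat.zero_le _)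
          (Finset.mem_range.2 (Nat.lt_succ_self n)))).trans (hN₀ n)
    obtain ⟨f, rfl⟩ := AdicCompletion.mk_surjective I A y
    refine ⟨⟨fun n => Submodule.Quotient.mk (toTwist p A (f (N n))), ?_⟩, ?_⟩
    · intro m n hmn
      change (Submodule.Quotient.mk (toTwist p A (f (N n))) :
        Twist p A ⧸ (I ^ m • ⊤ : Submodule A (Twist p A))) =
          Submodule.Quotient.mk (toTwist p A (f (N m)))
      refine (Submodule.Quotient.eq _).2 ?_
      rw [mem_pow_smul_iff, map_sub, RingEquiv.symm_apply_apply, RingEquiv.symm_apply_apply]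
      apply hN
      have h := AdicCompletion.AdicCauchySequence.mk_eq_mk (hmono hmn) f
      rw [Submodule.Quotient.eq, smul_eq_mul, Ideal.mul_top] at h
      exact h
    · ext n
      rw [θ_val]
      change g p A I n (Submodule.Quotient.mk (toTwist p A (f (N n)))) = _
      rw [g_mk, RingEquiv.symm_apply_apply]
      exact AdicCompletion.AdicCauchySequence.mk_eq_mk (hnN n) f

end

/-- Let p be a prime, A a regular local ring of characteristic p whose absolute Frobenius a ↦ a^p is a
finite ring homomorphism, I an ideal of A and Â the I-adic completion of A. Then Spec Â → Spec A is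
relatively perfect: the relative Frobenius Â ⊗_{A,Frob} A → Â, b ⊗ a ↦ b^p a, is bijective. (Â is
also flat over A since A is Noetherian, so the morphism is flat and relatively perfect. The instance
hypothesis that Â has characteristic p holds as soon as I ≠ A.) -/
theorem result (p : ℕ) [Fact p.Prime]
    (A : Type u) [CommRing A] [IsRegularLocalRing A] [CharP A p] (hF : (frobenius A p).Finite)
    (I : Ideal A) [CharP (AdicCompletion I A) p] :
    Function.Bijective (FrobAlg.relFrob p A (AdicCompletion I A)) := by
  have : IsNoetherianRing A := inferInstance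
  have hfin : Module.Finite A (Twist p A) := by
    have h1 : ((toTwist p A : A →+* Twist p A).comp (frobenius A p)).Finite :=
      (RingHom.Finite.of_surjective _ (toTwist p A).surjective).comp hF
    exact h1
  have key : ∀ z : BaseChange p A (AdicCompletion I A),
      relFrob p A (AdicCompletion I A) z =
        θ p A I (AdicCompletion.ofTensorProduct I (Twist p A) z) := by
    intro z
    induction z using TensorProduct.induction_on with
    | zero =>
      rw [map_zero, map_zero]
      ext n
      rw [θ_val]
      exact (map_zero (g p A I n)).symm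
    | tmul b a =>
      rw [Groth.Agent.S3191.relFrob_tmul, AdicCompletion.ofTensorProduct_tmul]
      obtain ⟨f, rfl⟩ := AdicCompletion.mk_surjective I A b
      ext n
      rw [θ_val]
      have h1 : (AdicCompletion.mk I A f • AdicCompletion.of I (Twist p A) a).val n =
          Submodule.Quotient.mk (f n • a) := by
        rfl
      have h2 : (toTwist p A).symm (f n • a) = f n ^ p * (toTwist p A).symm a := by
        rw [Algebra.smul_def (R := A) (A := Twist p A), algebraMap_twist, map_mul,
          RingEquiv.symm_apply_apply]
      rw [h1, g_mk, h2]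
      rfl
    | add x y hx hy =>
      rw [map_add, hx, hy, map_add, θ_add]
  have h2 : (relFrob p A (AdicCompletion I A) : _ → _) =
      θ p A I ∘ AdicCompletion.ofTensorProduct I (Twist p A) := funext key
  rw [h2]
  exact (θ_bijective p A I).comp
    (AdicCompletion.ofTensorProduct_bijective_of_finite_of_isNoetherian I (Twist p A))

end Groth.Agent.S17428
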