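import Groth.Statements.S17434
import Groth.Agent.AdjVar.K976.HomogNormal
import Groth.Agent.Sga5.ProjSmooth
import Groth.Agent.Dix.ProjProper
import Groth.Agent.S0023
import Groth.Agent.Models.H59.P1Fibre
import Groth.Agent.Fano.K715.LciLift
import Groth.Agent.Deform.K723.NormalHilb

set_option autoImplicit false
universe u
open CategoryTheory CategoryTheory.Limits MonoidalCategory CartesianMonoidalCategory MonObj GrpObj AlgebraicGeometry
open AdjVar

namespace Groth.Agent.S17434

/-- Let k be an algebraically closed field of characteristic zero (the source works over the complex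
numbers) and X ⊆ P^n_k an integral closed subscheme, i.e. a projective variety, which is
homogeneous: a smooth group scheme G of finite type over k acts on X over k, transitively on
k-points (the source says homogeneous under Aut(X); over the complex numbers this amounts to a
transitive action of a connected algebraic group). Let (H, Z) be a Hilbert scheme of X over k: H is
locally Noetherian, Z ⊆ X ×_k H is a closed subscheme proper and flat over H, and every closed
subscheme of X ×_k T proper and flat over a locally Noetherian k-scheme T is the pullback of Z along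
a unique k-morphism T → H. Let h : Spec k → H be the k-point classifying a smooth rational curve C ⊆
X, the image of a closed immersion i : P^1_k → X over k. Then the Hilbert scheme is smooth at [C]:
the local ring of H at the image point of h is regular. The source also asserts that the smooth
rational curves form an open subscheme of Hilb(X), a general fact about proper flat families which
is not restated here. -/
theorem result
    (k : Type u) [Field k] [IsAlgClosed k] [CharZero k]
    (n : ℕ) (X : Scheme.{u}) (emb : X ⟶ CohB1.ProjSpace n k) [IsClosedImmersion emb] [IsIntegral X]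
    (G : Over (Spec (CommRingCat.of k))) [GrpObj G] [Smooth G.hom] [QuasiCompact G.hom]
    (a : AlgGrp.Action G (Over.mk (emb ≫ CohB1.ProjSpace.toSpec n k)))
    (htrans : ∀ y y' : 𝟙_ (Over (Spec (CommRingCat.of k))) ⟶ Over.mk (emb ≫ CohB1.ProjSpace.toSpec n k),
      ∃ g : 𝟙_ (Over (Spec (CommRingCat.of k))) ⟶ G, lift g y ≫ a.act = y')
    (H : Over (Spec (CommRingCat.of k))) (Z : FGA.HilbSet (emb ≫ CohB1.ProjSpace.toSpec n k) H)
    (hH : FGA.HilbRepresentedBy (emb ≫ CohB1.ProjSpace.toSpec n k) H Z)
    (h : Over.mk (𝟙 (Spec (CommRingCat.of k))) ⟶ H)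
    (i : CohB1.ProjSpace 1 k ⟶ X) [IsClosedImmersion i]
    (hi : i ≫ emb ≫ CohB1.ProjSpace.toSpec n k = CohB1.ProjSpace.toSpec 1 k)
    (hZ : FGA.hilbPull (emb ≫ CohB1.ProjSpace.toSpec n k) h Z.1 =
      i.ker.comap (pullback.fst (emb ≫ CohB1.ProjSpace.toSpec n k) (Over.mk (𝟙 (Spec (CommRingCat.of k)))).hom)) :
    IsRegularLocalRing (H.left.presheaf.stalk (h.left.base (IsLocalRing.closedPoint k))) := by
  let X' : Over (Spec (CommRingCat.of k)) := Over.mk (emb ≫ CohB1.ProjSpace.toSpec n k)
  let Y' : Over (Spec (CommRingCat.of k)) := Over.mk (CohB1.ProjSpace.toSpec 1 k)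
  let F : Y' ⟶ X' := Over.homMk i hi
  let x : X ⟶ Spec (CommRingCat.of k) := emb ≫ CohB1.ProjSpace.toSpec n k
  have hP : ∀ m : ℕ, IsProper (CohB1.ProjSpace.toSpec m k) := fun m =>
    Groth.Agent.Dix.ProjProper.isProper_toSpec m k
  have hx : IsProper x := by
    have := hP n
    infer_instance
  have hY : SmoothOfRelativeDimension 1 (CohB1.ProjSpace.toSpec 1 k) := inferInstance
  have hYs : Smooth Y'.hom := SmoothOfRelativeDimension.smooth 1 (CohB1.ProjSpace.toSpec 1 k)
  have hYp : IsProper (CohB1.ProjSpace.toSpec 1 k) := hP 1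
  have hYq : QuasiCompact Y'.hom := inferInstanceAs (QuasiCompact (CohB1.ProjSpace.toSpec 1 k))
  have hXi : IsIntegral X'.left := inferInstanceAs (IsIntegral X)
  have hXf : LocallyOfFiniteType X'.hom := inferInstanceAs (LocallyOfFiniteType x)
  have hXq : QuasiCompact X'.hom := inferInstanceAs (QuasiCompact x)
  have hF : IsClosedImmersion F.left := inferInstanceAs (IsClosedImmersion i)
  have hN : IsNoetherian Y'.left := by
    have h1 : IsLocallyNoetherian (CohB1.ProjSpace 1 k) :=
      LocallyOfFiniteType.isLocallyNoetherian (CohB1.ProjSpace.toSpec 1 k)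
    have h2 : CompactSpace (CohB1.ProjSpace 1 k) := QuasiCompact.compactSpace_of_compactSpace (CohB1.ProjSpace.toSpec 1 k)
    exact { toIsLocallyNoetherian := h1, toCompactSpace := h2 }
  have hd := Groth.Agent.Models.H59.P1Fibre.topologicalKrullDim_P1 k
  have hO := Groth.Agent.S0023.result 1 k 1 one_pos
  have h1 := K976.HomogNormal.subsingleton_H1 a F htrans hd.le hO
  have hXs : Smooth x := K658.HomogMap.smooth_of_homogeneous a htrans
  let : (CohB1.ProjSpace 1 k).Over (Spec (CommRingCat.of k)) := ⟨CohB1.ProjSpace.toSpec 1 k⟩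
  have := Groth.Agent.Sga2.PnHomAdj.hasSheafHom (Omega.conormal i)
  have := Groth.Agent.Sga2.PnHomAdj.hasSheafHom (Omega.conormal i.ker.subschemeι)
  have h2 : Subsingleton (Coh.HH (CohB1.ProjSpace 1 k) ((DCoh.sheafHom (Omega.conormal i)).obj
      (Coh.structureModule (CohB1.ProjSpace 1 k))) 1) :=
    Groth.Agent.Fga.HShift.subsingleton_of_iso ((Groth.Agent.Sga2.PnHomAdj.sheafHomIso (Omega.conormal i)).app
      (Coh.structureModule (CohB1.ProjSpace 1 k))).symm 1 h1
  obtain ⟨e⟩ := K723.NormalHilb.nonempty_HH_ker i x hi 1
  have h3 := e.symm.toEquiv.subsingleton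
  have hreg : Mor2.IsRegularClosedImmersion i.ker.subschemeι := by
    have h4 : Smooth (i.ker.subschemeι ≫ x) := by
      have h5 : i.ker.subschemeι = inv i.toImage ≫ i := by
        rw [IsIso.eq_inv_comp]
        exact i.toImage_imageι
      have h6 : i ≫ x = CohB1.ProjSpace.toSpec 1 k := hi
      rw [h5, Category.assoc, h6]
      have h7 : Smooth (CohB1.ProjSpace.toSpec 1 k) := hYs
      infer_instance
    exact K935.SmoothImm.isRegularClosedImmersion i.ker.subschemeι x
  have hsm : ArtFun.IsSmoothFunctor (ArtFun.localHilb X x i.ker) :=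
    K723.NormalHilb.isSmoothFunctor_of_semismall fun p hp =>
      K715.LciLift.surjective_localHilb X x i.ker hp hreg h3
  exact (K723.NormalHilb.regular_eq i x hi Z hH h hZ hsm).1

end Groth.Agent.S17434
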