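import Groth.Statements.S17441
import Groth.Agent.Dcoh.StalkMod
import Groth.Agent.Sga3A.LiftGL

set_option autoImplicit false
universe u
open CategoryTheory AlgebraicGeometry
open DefoSh

namespace Groth.Agent.S17441

/-- Let k be a field, X a scheme over k, E an O_X-module and A a local Artinian k-algebra with residue
field k. If D and D′ are deformations of E over A (O_X-modules with an action of A, flat over A
stalkwise, with reductions π, π′ to E whose stalkwise kernels are m_A times the stalk), then every
O_X-linear map φ : D.sheaf → D′.sheaf that commutes with the actions of A and satisfies φ ≫ π′ = π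
is an isomorphism. The printed remark is the first-order case A = k[ε]; this row states it for every
local Artinian k-algebra A with residue field k. -/
theorem result (k : Type u) [Field k] (X : Scheme.{u})
    [X.Over (Spec (CommRingCat.of k))] (E : X.Modules) (A : ArtFun.Art k k)
    (D D' : DefoSh.Defo E A) (φ : D.sheaf ⟶ D'.sheaf)
    (hact : ∀ a : A, D.act a ≫ φ = φ ≫ D'.act a) (hπ : φ ≫ D'.π = D.π) :
    IsIso φ := by
  refine Groth.Agent.Dcoh.StalkMod.isIso_of_bijective φ fun p => ?_
  have hm : IsNilpotent (IsLocalRing.maximalIdeal A) :=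
    IsLocalRing.jacobson_eq_maximalIdeal (R := A) ⊥ bot_ne_top ▸
      IsArtinianRing.isNilpotent_jacobson_bot
  letI mD : Module A ↑(D.sheaf.presheaf.stalk p) := D.stalkMod p
  letI mD' : Module A ↑(D'.sheaf.presheaf.stalk p) := D'.stalkMod p
  haveI : Module.Flat A ↑(D'.sheaf.presheaf.stalk p) := D'.flat p
  let f : ↑(D.sheaf.presheaf.stalk p) →ₗ[A] ↑(D'.sheaf.presheaf.stalk p) :=
    { toFun := RefHull.stalkMapₗ φ p
      map_add' := map_add _
      map_smul' := fun a v => by
        change RefHull.stalkMapₗ φ p (RefHull.stalkMapₗ (D.act a) p v) =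
          RefHull.stalkMapₗ (D'.act a) p (RefHull.stalkMapₗ φ p v)
        rw [← stalkMapₗ_comp_apply, ← stalkMapₗ_comp_apply, hact] }
  have hker : ∀ v : ↑(D'.sheaf.presheaf.stalk p),
      v ∈ IsLocalRing.maximalIdeal A • (⊤ : Submodule A ↑(D'.sheaf.presheaf.stalk p)) →
      RefHull.stalkMapₗ D'.π p v = 0 := by
    intro v hv
    refine Submodule.smul_induction_on hv ?_ ?_
    · intro r hr n _
      have h0 := D'.act_π r ((ArtFun.Art.mem_maximalIdeal_iff A r).1 hr)
      change RefHull.stalkMapₗ D'.π p (RefHull.stalkMapₗ (D'.act r) p n) = 0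
      rw [← stalkMapₗ_comp_apply, h0, stalkMapₗ_zero_apply]
    · intro x y hx hy
      rw [map_add, hx, hy, add_zero]
  refine Groth.Agent.Sga3A.LiftGL.bijective_of_nilpotent hm f ?_ ?_
  · intro n
    obtain ⟨m, hm⟩ := D.surj p (RefHull.stalkMapₗ D'.π p n)
    refine ⟨m, D'.ker_le p _ ?_⟩
    change RefHull.stalkMapₗ D'.π p (n - RefHull.stalkMapₗ φ p m) = 0
    rw [map_sub, ← stalkMapₗ_comp_apply, hπ, hm, sub_self]
  · intro m hm
    refine D.ker_le p _ ?_
    rw [← hπ, stalkMapₗ_comp_apply]
    exact hker _ hm

end Groth.Agent.S17441
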