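import Groth.Statements.S17444
import Mathlib.Algebra.Algebra.Basic
import Mathlib.Algebra.Ring.GeomSum
import Mathlib.Algebra.CharP.Algebra
-- import your own Groth.Agent.* helpers here

set_option autoImplicit false
universe u v
open SSRed

namespace Groth.Agent.S17444

/-- Let K be a field of characteristic zero, V a K-vector space and g a K-linear endomorphism of V such
that g - 1 is nilpotent (a unipotent automorphism). Then for every integer n > 0 the endomorphisms
gⁿ - 1 and g - 1 have the same kernel: a vector fixed by gⁿ is fixed by g. (The published statement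
assumes V finite-dimensional; this row allows any V.) -/
theorem result (K : Type u) (V : Type v) [Field K] [CharZero K]
    [AddCommGroup V] [Module K V] (g : Module.End K V) (hg : IsNilpotent (g - 1)) (n : ℕ) (hn : 0 < n) :
    LinearMap.ker (g ^ n - 1) = LinearMap.ker (g - 1) := by
  set N := g - 1 with hN
  have hgN : g = 1 + N := by simp [hN]
  have hgeom : (∑ i ∈ Finset.range n, g ^ i) * (g - 1) = g ^ n - 1 := geom_sum_mul g n
  -- the sum is a unit
  have hcomm : Commute g N := by
    rw [hN]; exact (Commute.refl g).sub_right (Commute.one_right g)
  have hsub : ∀ i : ℕ, ∃ c : Module.End K V, Commute c N ∧ g ^ i - 1 = c * N := by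
    intro i
    refine ⟨∑ j ∈ Finset.range i, g ^ j, ?_, (geom_sum_mul g i).symm⟩
    exact Commute.sum_left _ _ _ (fun j _ => hcomm.pow_left j)
  have hunit : IsUnit (∑ i ∈ Finset.range n, g ^ i) := by
    have h1 : ∃ c : Module.End K V, Commute c N ∧
        (∑ i ∈ Finset.range n, g ^ i) = algebraMap K (Module.End K V) n + c * N := by
      choose c hc hc' using hsub
      refine ⟨∑ i ∈ Finset.range n, c i, Commute.sum_left _ _ _ (fun j _ => hc j), ?_⟩
      rw [Finset.sum_mul]
      simp only [← hc']
      simp
    obtain ⟨c, hc, hc'⟩ := h1
    rw [hc']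
    have hnil : IsNilpotent (c * N) := Commute.isNilpotent_mul_left hc hg
    have hu : IsUnit (algebraMap K (Module.End K V) n) := by
      apply IsUnit.map
      exact (Nat.cast_ne_zero.mpr hn.ne').isUnit
    have : Commute (c * N) (algebraMap K (Module.End K V) n) := (Algebra.commutes _ _).symm
    exact hnil.isUnit_add_left_of_commute hu this
  rw [← hgeom]
  ext v
  simp only [LinearMap.mem_ker, Module.End.mul_apply]
  constructor
  · intro h
    have hb : Function.Injective (∑ i ∈ Finset.range n, g ^ i : Module.End K V) :=
      ((Module.End.isUnit_iff _).mp hunit).injective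
    apply hb
    rw [h, map_zero]
  · intro h
    rw [h, map_zero]

end Groth.Agent.S17444
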