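import Groth.Statements.S17450
import Groth.Agent.AlgGrp.K982.SemiTors

set_option autoImplicit false
universe u
open CategoryTheory MonoidalCategory CartesianMonoidalCategory MonObj GrpObj AlgebraicGeometry CategoryTheory.Limits
open AlgGrp

namespace Groth.Agent.S17450


open Groth.Agent.Sga3B.BcPts

/-- There is no monomorphic homomorphism from `𝔾ₐ` to an extension of an abelian variety by a torus. -/
theorem no_ga {K : Type u} [Field K] [IsAlgClosed K] {T G A : Over (Spec (CommRingCat.of K))} [GrpObj T] [GrpObj G]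
    [GrpObj A] [IsProper A.hom] (hT : Red.IsTorus T) (i : T ⟶ G) [IsMonHom i] (q : G ⟶ A) [IsMonHom q]
    (hk : AlgGrp.IsKernel i q) (j : Red.Ga (Spec (CommRingCat.of K)) ⟶ G) [IsMonHom j] [Mono j] : False := by
  have h1 : j ≫ q = 1 := by
    by_contra hne
    obtain ⟨i', hi', hcl⟩ := Groth.Agent.Sga7.H760.GaQuot.exists_isClosedImmersion (j ≫ q) hne
    refine Groth.Agent.Sga7.H274.GoodSemi.not_isProper_ga K ?_
    rw [← Over.w i']
    infer_instance
  obtain ⟨-, h2⟩ := (Groth.Agent.AlgGrp.K408.BcField.isKernel_iff i q).1 hk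
  obtain ⟨y, hy, -⟩ := h2 _ j h1
  have hmi : Mono i := by
    constructor
    intro Z a b hab
    obtain ⟨z, -, hz⟩ := h2 Z (a ≫ i) (by
      rw [Category.assoc, ((Groth.Agent.AlgGrp.K408.BcField.isKernel_iff i q).1 hk).1, MonObj.comp_one])
    rw [hz a rfl, hz b hab.symm]
  have hym : IsMonHom y := by
    refine ⟨?_, ?_⟩
    · rw [← cancel_mono i, Category.assoc, hy, IsMonHom.one_hom, IsMonHom.one_hom]
    · rw [← cancel_mono i, Category.assoc, hy, IsMonHom.mul_hom, Category.assoc, IsMonHom.mul_hom,
        MonoidalCategory.tensorHom_comp_tensorHom_assoc, hy]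
  obtain ⟨r, hr⟩ := Groth.Agent.Sga3B.TorusAlgClosed.exists_isSplitTorusWith hT
  obtain ⟨e⟩ := hr
  obtain ⟨ε, hem, hmε⟩ : ∃ ε : T ⟶ Red.DS (Spec (CommRingCat.of K)) (Fin r → ℤ), IsMonHom ε ∧ Mono ε :=
    ⟨e.hom.hom.hom, e.hom.hom.isMonHom_hom, inferInstanceAs (Mono e.hom.hom.hom)⟩
  have h3 := Groth.Agent.AlgGrp.K408.GaTor.hom_ga_ds_eq_one (y ≫ ε)
  have h4 : y = 1 := by
    rw [← cancel_mono ε]
    exact h3.trans (MonObj.one_comp ε).symm
  have h5 : j = 1 := by rw [← hy, h4, MonObj.one_comp]
  have h6 : (𝟙 (Red.Ga (Spec (CommRingCat.of K)))) = 1 := by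
    rw [← cancel_mono j, MonObj.one_comp, Category.id_comp, h5]
  refine Groth.Agent.Sga7.H274.GoodSemi.not_isProper_ga K ?_
  have h7 : IsIso (Red.Ga (Spec (CommRingCat.of K))).hom := by
    refine ⟨(η[Red.Ga (Spec (CommRingCat.of K))] : _ ⟶ Red.Ga (Spec (CommRingCat.of K))).left, ?_, ?_⟩
    · have h8 := congrArg CommaMorphism.left h6
      exact h8.symm
    · exact Over.w η[Red.Ga (Spec (CommRingCat.of K))]
  infer_instance

open CategoryTheory.Limits
/-- Let k be a field with algebraic closure K and G a semi-abelian variety over k, that is, a smooth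
connected commutative k-group scheme of finite type whose base change to K is an extension of an
abelian variety by a torus (there are a closed subgroup scheme T of G_K which is a torus and a flat
surjective homomorphism from G_K onto a proper smooth connected K-group scheme with kernel T). Let H
be a closed subgroup scheme of G and ℓ a prime number such that the ℓ-torsion subgroup scheme H[ℓ]
is trivial: every point h of H with values in any k-scheme satisfying h^ℓ = 1 is the unit. Then H is
finite over k. -/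
theorem result (k : Type u) [Field k]
    (G : Over (Spec (CommRingCat.of k))) [GrpObj G] [IsCommMonObj G] [Smooth G.hom] [QuasiCompact G.hom]
    [ConnectedSpace ↥G.left]
    (hK : (∃ (T : Over (Spec (CommRingCat.of (AlgebraicClosure k)))) (_ : GrpObj T) (i : T ⟶ Red.bc (Spec.map (CommRingCat.ofHom (algebraMap k (AlgebraicClosure k)))) G) (A : Over (Spec (CommRingCat.of (AlgebraicClosure k)))) (_ : GrpObj A) (q : Red.bc (Spec.map (CommRingCat.ofHom (algebraMap k (AlgebraicClosure k)))) G ⟶ A),
        IsMonHom i ∧ IsClosedImmersion i.left ∧ Red.IsTorus T ∧ IsMonHom q ∧ Surjective q.left ∧ Flat q.left ∧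
        AlgGrp.IsKernel i q ∧ IsProper A.hom ∧ Smooth A.hom ∧ ConnectedSpace ↥A.left))
    (H : Over (Spec (CommRingCat.of k))) [GrpObj H] (j : H ⟶ G) [IsMonHom j] [IsClosedImmersion j.left]
    (ℓ : ℕ) (hℓ : ℓ.Prime)
    (htors : ∀ (Y : Over (Spec (CommRingCat.of k))) (h : Y ⟶ H), h ^ ℓ = 1 → h = 1) :
    IsFinite H.hom := by

  have hlft : LocallyOfFiniteType H.hom := by
    rw [← Over.w j]; infer_instance
  have hqc : QuasiCompact H.hom := by
    rw [← Over.w j]; infer_instance
  obtain ⟨T, gT, i, A, gA, q, hi, -, hT, hq, -, -, hker, hAp, -, -⟩ := hK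
  let f := Spec.map (CommRingCat.ofHom (algebraMap k (AlgebraicClosure k)))
  have hmj : Mono j := Groth.Agent.Books.AlgPtsGrp.mono_of_isClosedImmersion j
  have hmjK : Mono ((Over.pullback f).map j) := inferInstance
  have hlftK : LocallyOfFiniteType (Red.bc f H).hom := inferInstanceAs (LocallyOfFiniteType (pullback.snd H.hom f))
  have hqcK : QuasiCompact (Red.bc f H).hom := inferInstanceAs (QuasiCompact (pullback.snd H.hom f))
  have hfin : IsFinite (Red.bc f H).hom := by
    refine K982.SemiTors.isFinite (Red.bc f H) (fun a ha ham => ?_) ℓ hℓ fun Y h hh => ?_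
    · have : IsMonHom ((Over.pullback f).map j : Red.bc f H ⟶ Red.bc f G) := inferInstance
      have : Mono (a ≫ (Over.pullback f).map j) := mono_comp _ _
      exact no_ga hT i q hker (a ≫ (Over.pullback f).map j)
    · obtain ⟨x, rfl⟩ := (bcMulEquiv f Y H).surjective h
      rw [← map_pow] at hh
      rw [htors _ x ((bcMulEquiv f Y H).injective (by rw [hh, map_one])), map_one]
  have hflat := Groth.Agent.AlgGrp.K408.BcField.flat_spec (algebraMap k (AlgebraicClosure k))
  have hsurj := Groth.Agent.AlgGrp.K408.BcField.surjective_spec f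
  exact MorphismProperty.of_pullback_snd_of_descendsAlong (P := @IsFinite)
    (Q := @Surjective ⊓ @Flat ⊓ @QuasiCompact) ⟨⟨hsurj, hflat⟩, inferInstance⟩ hfin

end Groth.Agent.S17450
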