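import Groth.Statements.S17451
import Groth.Agent.AlgGrp.K408.SemiComm
import Groth.Agent.AlgGrp.K408.BcField

set_option autoImplicit false
universe u
open CategoryTheory MonoidalCategory CartesianMonoidalCategory MonObj GrpObj AlgebraicGeometry CategoryTheory.Limits
open AlgGrp

namespace Groth.Agent.S17451

/-- Let k be a field with algebraic closure K and G a smooth connected k-group scheme of finite type,
not assumed commutative, whose base change G_K has a torus as a subgroup with an abelian variety as
the quotient: there are a closed subgroup scheme T of G_K which is a torus and a flat surjective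
homomorphism from G_K onto a proper smooth connected K-group scheme with kernel T. Then G is
commutative. (The published result also asserts that G then has, over k itself, a unique torus
subgroup with abelian-variety quotient of this kind; only commutativity is stated here.) -/
theorem result (k : Type u) [Field k]
    (G : Over (Spec (CommRingCat.of k))) [GrpObj G] [Smooth G.hom] [QuasiCompact G.hom] [ConnectedSpace ↥G.left]
    (hK : (∃ (T : Over (Spec (CommRingCat.of (AlgebraicClosure k)))) (_ : GrpObj T) (i : T ⟶ Red.bc (Spec.map (CommRingCat.ofHom (algebraMap k (AlgebraicClosure k)))) G) (A : Over (Spec (CommRingCat.of (AlgebraicClosure k)))) (_ : GrpObj A) (q : Red.bc (Spec.map (CommRingCat.ofHom (algebraMap k (AlgebraicClosure k)))) G ⟶ A),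
        IsMonHom i ∧ IsClosedImmersion i.left ∧ Red.IsTorus T ∧ IsMonHom q ∧ Surjective q.left ∧ Flat q.left ∧
        AlgGrp.IsKernel i q ∧ IsProper A.hom ∧ Smooth A.hom ∧ ConnectedSpace ↥A.left)) :
    IsCommMonObj G := by
  obtain ⟨T, _, i, A, _, q, hi, hcl, hT, hq, hs, hf, hK', hp, hsm, hc⟩ := hK
  have h1 := AlgGrp.K408.BcField.connectedSpace_bc
    (Spec.map (CommRingCat.ofHom (algebraMap k (AlgebraicClosure k)))) G
  have h2 := AlgGrp.K408.BcField.smooth_bc
    (Spec.map (CommRingCat.ofHom (algebraMap k (AlgebraicClosure k)))) G
  have h3 := AlgGrp.K408.BcField.quasiCompact_bc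
    (Spec.map (CommRingCat.ofHom (algebraMap k (AlgebraicClosure k)))) G
  have h4 := AlgGrp.K408.BcField.flat_spec (algebraMap k (AlgebraicClosure k))
  have h5 := AlgGrp.K408.BcField.surjective_spec (Spec.map (CommRingCat.ofHom (algebraMap k (AlgebraicClosure k))))
  exact AlgGrp.K408.SemiComm.isCommMonObj_of_bc _
    (AlgGrp.K408.SemiComm.comm_of_ext
      (Red.bc (Spec.map (CommRingCat.ofHom (algebraMap k (AlgebraicClosure k)))) G) T A i hT q hK')

end Groth.Agent.S17451
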