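import Groth.Statements.S17452
import Groth.Agent.SGA7.K566.PtsExact
import Groth.Agent.SGA7.K566.PrimeAux
import Groth.Agent.Sga7.H733.PtsBasic
import Groth.Agent.Sga7.H274.ValExt
import Groth.Agent.S4049
import Mathlib.FieldTheory.SeparableClosure

set_option autoImplicit false
universe u
open CategoryTheory CategoryTheory.Limits AlgebraicGeometry MonObj
open SGA7

namespace Groth.Agent.S17452

/-- Let R be a discrete valuation ring with fraction field K and 0 → A' → A → A'' → 0 a short exact
sequence of abelian varieties over K: A', A, A'' are proper geometrically integral K-group schemes,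
A' → A is a homomorphism and a closed immersion, A → A'' is a flat surjective homomorphism, and A'
is its kernel. Then A has semistable reduction over R (it extends to a smooth separated group scheme
of finite type over Spec R whose geometric fibres contain no copy of the additive group) if and only
if A' and A'' both have semistable reduction over R. -/
theorem result (R K : Type u) [CommRing R] [IsDomain R]
    [IsDiscreteValuationRing R] [Field K] [Algebra R K] [IsFractionRing R K]
    (A' A A'' : Over (Spec (CommRingCat.of K))) [GrpObj A'] [GrpObj A] [GrpObj A'']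
    [IsProper A'.hom] [GeometricallyIntegral A'.hom] [IsProper A.hom] [GeometricallyIntegral A.hom]
    [IsProper A''.hom] [GeometricallyIntegral A''.hom]
    (i : A' ⟶ A) [IsMonHom i] [IsClosedImmersion i.left]
    (q : A ⟶ A'') [IsMonHom q] [Surjective q.left] [Flat q.left] (hex : AlgGrp.IsKernel i q) :
    SGA7.HasSemistableReduction R K A ↔
      (SGA7.HasSemistableReduction R K A' ∧ SGA7.HasSemistableReduction R K A'') := by
  obtain ⟨l, hl, hlp⟩ := K566.PrimeAux.exists_prime (IsLocalRing.ResidueField R)
  have hlK : (l : K) ≠ 0 :=
    K566.PrimeAux.ne_zero_of_residue R K (IsFractionRing.injective R K) hlp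
  obtain ⟨W, hW⟩ := Groth.Agent.Sga7.H274.ValExt.exists_liesOver K R (SeparableClosure K)
  have hsc : IsSepClosed (SeparableClosure K) := inferInstance
  rw [Groth.Agent.S4049.result R K (SeparableClosure K) W hW l hl hlp A,
    Groth.Agent.S4049.result R K (SeparableClosure K) W hW l hl hlp A',
    Groth.Agent.S4049.result R K (SeparableClosure K) W hW l hl hlp A'']
  haveI : IsCommMonObj A := isCommMonObj_of_isProper_of_geometricallyIntegral A
  haveI : Smooth A'.hom := K566.PtsExact.smooth_abVar A'
  haveI : Smooth q.left := K566.PtsExact.smooth_of_kernel i q hex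
  haveI : Mono i := Over.mono_of_mono_left i
  have hdiv : ∀ (n : ℕ) (x : Pts (SeparableClosure K) A'),
      ∃ y : Pts (SeparableClosure K) A', y ^ (l ^ n) = x :=
    fun n x => Groth.Agent.Sga7.H733.PtsBasic.exists_pow_eq A'
      (by push_cast; exact pow_ne_zero n hlK) x
  constructor
  · intro h
    exact ⟨fun σ hσ => K566.PtsExact.unipAt_sub i (h σ hσ),
      fun σ hσ => K566.PtsExact.unipAt_quot i q hex hdiv (K566.PtsExact.exists_lift q) (h σ hσ)⟩
  · rintro ⟨h1, h2⟩ σ hσ
    exact K566.PtsExact.unipAt_mid i q hex (h1 σ hσ) (h2 σ hσ)

end Groth.Agent.S17452
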