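import Groth.Statements.S17453
import Groth.Agent.AlgGrp.K408.SemiAb

set_option autoImplicit false
universe u
open CategoryTheory MonoidalCategory CartesianMonoidalCategory MonObj GrpObj AlgebraicGeometry CategoryTheory.Limits
open AlgGrp

namespace Groth.Agent.S17453

/-- Let k be a field with algebraic closure K and 1 → G' → G → G'' → 1 a short exact sequence of smooth
connected k-group schemes of finite type: G' → G is a homomorphism and a closed immersion, G → G''
is a flat surjective homomorphism, and G' is its kernel. Say that such a group is semi-abelian when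
its base change to K, modulo a suitable torus, is an abelian variety (there are a closed subgroup
scheme of the base change which is a torus and a flat surjective homomorphism onto a proper smooth
connected K-group scheme with that kernel); commutativity is not assumed, it follows. Then G is
semi-abelian exactly when both G' and G'' are semi-abelian. -/
theorem result (k : Type u) [Field k]
    (G' G G'' : Over (Spec (CommRingCat.of k))) [GrpObj G'] [GrpObj G] [GrpObj G'']
    [Smooth G'.hom] [QuasiCompact G'.hom] [ConnectedSpace ↥G'.left]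
    [Smooth G.hom] [QuasiCompact G.hom] [ConnectedSpace ↥G.left]
    [Smooth G''.hom] [QuasiCompact G''.hom] [ConnectedSpace ↥G''.left]
    (j : G' ⟶ G) [IsMonHom j] [IsClosedImmersion j.left]
    (p : G ⟶ G'') [IsMonHom p] [Surjective p.left] [Flat p.left] (hex : AlgGrp.IsKernel j p) :
    (∃ (T : Over (Spec (CommRingCat.of (AlgebraicClosure k)))) (_ : GrpObj T) (i : T ⟶ Red.bc (Spec.map (CommRingCat.ofHom (algebraMap k (AlgebraicClosure k)))) G) (A : Over (Spec (CommRingCat.of (AlgebraicClosure k)))) (_ : GrpObj A) (q : Red.bc (Spec.map (CommRingCat.ofHom (algebraMap k (AlgebraicClosure k)))) G ⟶ A),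
        IsMonHom i ∧ IsClosedImmersion i.left ∧ Red.IsTorus T ∧ IsMonHom q ∧ Surjective q.left ∧ Flat q.left ∧
        AlgGrp.IsKernel i q ∧ IsProper A.hom ∧ Smooth A.hom ∧ ConnectedSpace ↥A.left) ↔
    ((∃ (T : Over (Spec (CommRingCat.of (AlgebraicClosure k)))) (_ : GrpObj T) (i : T ⟶ Red.bc (Spec.map (CommRingCat.ofHom (algebraMap k (AlgebraicClosure k)))) G') (A : Over (Spec (CommRingCat.of (AlgebraicClosure k)))) (_ : GrpObj A) (q : Red.bc (Spec.map (CommRingCat.ofHom (algebraMap k (AlgebraicClosure k)))) G' ⟶ A),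
        IsMonHom i ∧ IsClosedImmersion i.left ∧ Red.IsTorus T ∧ IsMonHom q ∧ Surjective q.left ∧ Flat q.left ∧
        AlgGrp.IsKernel i q ∧ IsProper A.hom ∧ Smooth A.hom ∧ ConnectedSpace ↥A.left) ∧
     (∃ (T : Over (Spec (CommRingCat.of (AlgebraicClosure k)))) (_ : GrpObj T) (i : T ⟶ Red.bc (Spec.map (CommRingCat.ofHom (algebraMap k (AlgebraicClosure k)))) G'') (A : Over (Spec (CommRingCat.of (AlgebraicClosure k)))) (_ : GrpObj A) (q : Red.bc (Spec.map (CommRingCat.ofHom (algebraMap k (AlgebraicClosure k)))) G'' ⟶ A),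
        IsMonHom i ∧ IsClosedImmersion i.left ∧ Red.IsTorus T ∧ IsMonHom q ∧ Surjective q.left ∧ Flat q.left ∧
        AlgGrp.IsKernel i q ∧ IsProper A.hom ∧ Smooth A.hom ∧ ConnectedSpace ↥A.left)) := by
  have h1 := AlgGrp.K408.BcField.connectedSpace_bc
    (Spec.map (CommRingCat.ofHom (algebraMap k (AlgebraicClosure k)))) G
  have h2 := AlgGrp.K408.BcField.smooth_bc
    (Spec.map (CommRingCat.ofHom (algebraMap k (AlgebraicClosure k)))) G
  have h3 := AlgGrp.K408.BcField.quasiCompact_bc
    (Spec.map (CommRingCat.ofHom (algebraMap k (AlgebraicClosure k)))) G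
  have h1' := AlgGrp.K408.BcField.connectedSpace_bc
    (Spec.map (CommRingCat.ofHom (algebraMap k (AlgebraicClosure k)))) G'
  have h2' := AlgGrp.K408.BcField.smooth_bc
    (Spec.map (CommRingCat.ofHom (algebraMap k (AlgebraicClosure k)))) G'
  have h3' := AlgGrp.K408.BcField.quasiCompact_bc
    (Spec.map (CommRingCat.ofHom (algebraMap k (AlgebraicClosure k)))) G'
  have h1'' := AlgGrp.K408.BcField.connectedSpace_bc
    (Spec.map (CommRingCat.ofHom (algebraMap k (AlgebraicClosure k)))) G''
  have h2'' := AlgGrp.K408.BcField.smooth_bc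
    (Spec.map (CommRingCat.ofHom (algebraMap k (AlgebraicClosure k)))) G''
  have h3'' := AlgGrp.K408.BcField.quasiCompact_bc
    (Spec.map (CommRingCat.ofHom (algebraMap k (AlgebraicClosure k)))) G''
  have hj : IsClosedImmersion
      ((Over.pullback (Spec.map (CommRingCat.ofHom (algebraMap k (AlgebraicClosure k))))).map j).left :=
    AlgGrp.K408.BcField.bc_of _ j (@IsClosedImmersion) ‹_›
  have hp : Surjective
      ((Over.pullback (Spec.map (CommRingCat.ofHom (algebraMap k (AlgebraicClosure k))))).map p).left :=
    AlgGrp.K408.BcField.bc_of _ p (@Surjective) ‹_›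
  have hp' : Flat
      ((Over.pullback (Spec.map (CommRingCat.ofHom (algebraMap k (AlgebraicClosure k))))).map p).left :=
    AlgGrp.K408.BcField.bc_of _ p (@Flat) ‹_›
  have hjm : IsMonHom (M := Red.bc _ G') (N := Red.bc _ G)
      ((Over.pullback (Spec.map (CommRingCat.ofHom (algebraMap k (AlgebraicClosure k))))).map j) := inferInstance
  have hpm : IsMonHom (M := Red.bc _ G) (N := Red.bc _ G'')
      ((Over.pullback (Spec.map (CommRingCat.ofHom (algebraMap k (AlgebraicClosure k))))).map p) := inferInstance
  exact AlgGrp.K408.SemiAb.semiAb_ext_iff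
    (Red.bc (Spec.map (CommRingCat.ofHom (algebraMap k (AlgebraicClosure k)))) G')
    (Red.bc (Spec.map (CommRingCat.ofHom (algebraMap k (AlgebraicClosure k)))) G)
    (Red.bc (Spec.map (CommRingCat.ofHom (algebraMap k (AlgebraicClosure k)))) G'')
    ((Over.pullback (Spec.map (CommRingCat.ofHom (algebraMap k (AlgebraicClosure k))))).map j)
    ((Over.pullback (Spec.map (CommRingCat.ofHom (algebraMap k (AlgebraicClosure k))))).map p)
    (AlgGrp.K408.BcField.isKernel_bc _ hex)

end Groth.Agent.S17453
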