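import Groth.Statements.S17454
import Groth.Agent.Sga3.H821.AffProper
import Groth.Agent.Sga3.H739.ImageFl
import Groth.Agent.S3030
import Groth.Agent.S3280

set_option autoImplicit false
universe u
open CategoryTheory MonoidalCategory CartesianMonoidalCategory MonObj GrpObj AlgebraicGeometry CategoryTheory.Limits
open AlgGrp

namespace Groth.Agent.S17454

/-- Let k be a perfect field and f : G' → G a surjective homomorphism of smooth connected k-group
schemes of finite type. Let N' → G' and N → G be Chevalley decompositions: normal closed subgroup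
schemes which are smooth, connected and affine, kernels of flat surjective homomorphisms q' : G' →
A' and q : G → A onto proper smooth connected k-group schemes. Then f maps N' onto N: there is a
homomorphism g : N' → N, compatible with f and the two inclusions, whose underlying map is
surjective; and f induces a homomorphism A' → A compatible with q' and q whose underlying map is
surjective. (The isogeny refinement of the published statement is not stated.) -/
theorem result (k : Type u) [Field k] [PerfectField k]
    (G' G : Over (Spec (CommRingCat.of k))) [GrpObj G'] [GrpObj G]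
    [Smooth G'.hom] [QuasiCompact G'.hom] [ConnectedSpace ↥G'.left]
    [Smooth G.hom] [QuasiCompact G.hom] [ConnectedSpace ↥G.left]
    (f : G' ⟶ G) [IsMonHom f] [Surjective f.left]
    (N' : Over (Spec (CommRingCat.of k))) [GrpObj N'] (i' : N' ⟶ G') [IsMonHom i'] [IsClosedImmersion i'.left]
    [Smooth N'.hom] [ConnectedSpace ↥N'.left] [IsAffine N'.left] (hn' : AlgGrp.IsNormalHom i')
    (A' : Over (Spec (CommRingCat.of k))) [GrpObj A'] (q' : G' ⟶ A') [IsMonHom q'] [Surjective q'.left] [Flat q'.left]
    [IsProper A'.hom] [Smooth A'.hom] [ConnectedSpace ↥A'.left] (hk' : AlgGrp.IsKernel i' q')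
    (N : Over (Spec (CommRingCat.of k))) [GrpObj N] (i : N ⟶ G) [IsMonHom i] [IsClosedImmersion i.left]
    [Smooth N.hom] [ConnectedSpace ↥N.left] [IsAffine N.left] (hn : AlgGrp.IsNormalHom i)
    (A : Over (Spec (CommRingCat.of k))) [GrpObj A] (q : G ⟶ A) [IsMonHom q] [Surjective q.left] [Flat q.left]
    [IsProper A.hom] [Smooth A.hom] [ConnectedSpace ↥A.left] (hk : AlgGrp.IsKernel i q) :
    (∃ g : N' ⟶ N, IsMonHom g ∧ g ≫ i = i' ≫ f ∧ Surjective g.left) ∧
      (∃ h : A' ⟶ A, IsMonHom h ∧ q' ≫ h = f ≫ q ∧ Surjective h.left) := by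
  have hGred : IsReduced G.left := Etcore.SmoothRed.isReduced_of_smooth G.hom
  have hGn : IsLocallyNoetherian G.left := LocallyOfFiniteType.isLocallyNoetherian G.hom
  have hfqc : QuasiCompact f.left := by
    have : QuasiCompact (f.left ≫ G.hom) := by rw [Over.w]; infer_instance
    exact QuasiCompact.of_comp f.left G.hom
  have hdom : IsSchemeTheoreticallyDominant f.left := .of_isDominant _
  have hfl : Flat f.left := Sga3.H789.FieldHull1.flat_of_dominant f
  have hfc : Sga3.H739.Fpqc.Cov f := ⟨hfl, inferInstance, hfqc⟩
  have himono : Mono i := Books.AlgPtsGrp.mono_of_isClosedImmersion i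
  -- the map on affine parts
  obtain ⟨g, hg⟩ := Sga3.H821.AffProper.exists_factor_kernel k (i' ≫ f) i q hk
  have hgm : IsMonHom g := by
    have : IsMonHom (g ≫ i) := by rw [hg]; infer_instance
    exact Sga3.H739.KerPts.isMonHom_of_comp_mono g i this
  -- the map on abelian parts
  have h1 : i' ≫ f ≫ q = toUnit N' ≫ η[A] := by
    rw [← Category.assoc, ← hg, Category.assoc, hk.w, ← Category.assoc]
    congr 1
    exact toUnit_unique _ _
  obtain ⟨h, hh1, hh2, -⟩ := S3280.result k G' N' A' A q' i' hk' (f ≫ q) h1
  have hhs : Surjective h.left := by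
    have : Surjective (q'.left ≫ h.left) := by
      rw [← Over.comp_left, hh2, Over.comp_left]
      infer_instance
    exact Surjective.of_comp q'.left h.left
  refine ⟨⟨g, hgm, hg, ?_⟩, ⟨h, hh1, hh2, hhs⟩⟩
  -- the image of `N'` in `G`
  have hqc : QuasiCompact (i' ≫ f).left := by rw [Over.comp_left]; infer_instance
  obtain ⟨M, _, p, m, hp, hm, hpm, hpc, hmc⟩ := Sga3.H739.ImageFl.exists_image (i' ≫ f)
  have hmmono : Mono m := Books.AlgPtsGrp.mono_of_isClosedImmersion m
  have hMn : AlgGrp.IsNormalHom m :=
    Sga3.H739.ImageFl.isNormalHom_image i' hn' f hfc p hpc m hpm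
  -- the quotient
  have hMft : LocallyOfFiniteType M.hom := by rw [← Over.w m]; infer_instance
  obtain ⟨Y, _, π, hπ, hπf, hπs, -, hπk, hYs, -, hYsm⟩ := S3030.result k M G m hMn
  have hYsm' := hYsm inferInstance
  have hYqc : QuasiCompact Y.hom := by
    have : CompactSpace G.left := (quasiCompact_iff_compactSpace G.hom).1 inferInstance
    have : CompactSpace Y.left := by
      refine ⟨?_⟩
      rw [← Set.image_univ_of_surjective π.left.surjective]
      exact isCompact_univ.image π.left.continuous
    exact (quasiCompact_iff_compactSpace Y.hom).2 this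
  -- `Y` is proper
  have h2 : i' ≫ f ≫ π = toUnit N' ≫ η[Y] := by
    rw [← Category.assoc, ← hpm, Category.assoc, hπk.w, ← Category.assoc]
    congr 1
    exact toUnit_unique _ _
  obtain ⟨φ, hφ1, hφ2, -⟩ := S3280.result k G' N' A' Y q' i' hk' (f ≫ π) h2
  have hφs : Surjective φ.left := by
    have : Surjective (q'.left ≫ φ.left) := by
      rw [← Over.comp_left, hφ2, Over.comp_left]
      infer_instance
    exact Surjective.of_comp q'.left φ.left
  have hYc : UniversallyClosed Y.hom := by
    have : UniversallyClosed (φ.left ≫ Y.hom) := by rw [Over.w]; infer_instance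
    exact .of_comp_surjective φ.left Y.hom
  have hYp : IsProper Y.hom := { }
  -- so `N` maps to `M`
  obtain ⟨s, hs⟩ := Sga3.H821.AffProper.exists_factor_kernel k i m π hπk
  have h3 : m ≫ q = 1 := by
    apply hpc.cancel
    rw [← Category.assoc, hpm, Category.assoc, h1]
    simp [Hom.one_def]
  obtain ⟨m₁, hm₁⟩ := Sga3.H739.KerPts.exists_lift hk m h3
  have h4 : g = p ≫ m₁ := by
    rw [← cancel_mono i, hg, Category.assoc, hm₁, hpm]
  have h5 : s ≫ m₁ = 𝟙 _ := by
    rw [← cancel_mono i, Category.assoc, hm₁, hs, Category.id_comp]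
  have h6 : Surjective m₁.left := by
    have : Surjective (s.left ≫ m₁.left) := by
      rw [← Over.comp_left, h5, Over.id_left]
      infer_instance
    exact Surjective.of_comp s.left m₁.left
  have h7 := hpc.surj
  rw [h4, Over.comp_left]
  infer_instance

end Groth.Agent.S17454
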