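import Groth.Statements.S17455
import Groth.Agent.Sga3.H821.AffProper
import Groth.Agent.Sga3B.TorusIrr

set_option autoImplicit false
universe u
open CategoryTheory MonoidalCategory CartesianMonoidalCategory MonObj GrpObj AlgebraicGeometry CategoryTheory.Limits
open AlgGrp

namespace Groth.Agent.S17455

/-- Let k be a field and G a k-group scheme of finite type. If i₁ : T₁ → G and i₂ : T₂ → G are
homomorphisms and closed immersions from tori, and each is the kernel of a flat surjective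
homomorphism from G onto a proper smooth connected k-group scheme, then the two subgroups coincide:
there is an isomorphism e : T₁ ≅ T₂ with e ≫ i₂ = i₁. (So the structure of extension of an abelian
variety by a torus on G, when it exists, is unique.) -/
theorem result (k : Type u) [Field k]
    (G : Over (Spec (CommRingCat.of k))) [GrpObj G] [LocallyOfFiniteType G.hom] [QuasiCompact G.hom]
    (T₁ T₂ A₁ A₂ : Over (Spec (CommRingCat.of k))) [GrpObj T₁] [GrpObj T₂] [GrpObj A₁] [GrpObj A₂]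
    (i₁ : T₁ ⟶ G) [IsMonHom i₁] [IsClosedImmersion i₁.left] (h₁ : Red.IsTorus T₁)
    (i₂ : T₂ ⟶ G) [IsMonHom i₂] [IsClosedImmersion i₂.left] (h₂ : Red.IsTorus T₂)
    (q₁ : G ⟶ A₁) [IsMonHom q₁] [Surjective q₁.left] [Flat q₁.left] (hk₁ : AlgGrp.IsKernel i₁ q₁)
    [IsProper A₁.hom] [Smooth A₁.hom] [ConnectedSpace ↥A₁.left]
    (q₂ : G ⟶ A₂) [IsMonHom q₂] [Surjective q₂.left] [Flat q₂.left] (hk₂ : AlgGrp.IsKernel i₂ q₂)
    [IsProper A₂.hom] [Smooth A₂.hom] [ConnectedSpace ↥A₂.left] :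
    ∃ e : T₁ ≅ T₂, e.hom ≫ i₂ = i₁ := by
  have key : ∀ (T : Over (Spec (CommRingCat.of k))) [GrpObj T], Red.IsTorus T →
      IsAffine T.left ∧ Smooth T.hom ∧ ConnectedSpace ↥T.left := by
    intro T _ hT
    have a1 := Sga3B.TorusAlgClosed.isAffineHom_of_isTorus hT
    have a2 := Sga3B.TorusAlgClosed.smooth_of_isTorus hT
    have a3 := Sga3B.TorusIrr.geometricallyIrreducible_of_isTorus hT
    have a4 : IrreducibleSpace ↥T.left :=
      a3.geometrically_irreducibleSpace (K := k) _ _ _ (IsPullback.of_horiz_isIso ⟨by simp⟩ :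
        IsPullback (𝟙 _) T.hom T.hom (𝟙 _))
    exact ⟨isAffine_of_isAffineHom T.hom, a2, inferInstance⟩
  obtain ⟨b1, b2, b3⟩ := key T₁ h₁
  obtain ⟨c1, c2, c3⟩ := key T₂ h₂
  exact Sga3.H821.AffProper.exists_iso k i₂ i₁ q₂ q₁ hk₂ hk₁

end Groth.Agent.S17455
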