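import Groth.Statements.S17458
import Groth.Agent.SGA7.K566.InterSemi
import Groth.Agent.Sga7.H274.ValExt
import Groth.Agent.S4048

set_option autoImplicit false
universe u
open CategoryTheory CategoryTheory.Limits AlgebraicGeometry MonObj
open SGA7

namespace Groth.Agent.S17458

/-- Let R be a strictly henselian discrete valuation ring (henselian, with separably closed residue
field) with fraction field K, let Ω be a separable closure of K and A an abelian variety over K (a
proper, geometrically integral K-group scheme). Let K' and K'' be subfields of Ω finite and Galois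
over K such that A acquires semistable reduction over the integral closure of R in K' and over the
integral closure of R in K''. Then A acquires semistable reduction over the integral closure of R in
K' ∩ K''. (Consequently there is a smallest finite Galois extension of K inside Ω over which A
becomes semistable, the field of semistable reduction; that consequence is not stated.) -/
theorem result (R K Ω : Type u)
    [CommRing R] [IsDomain R] [IsDiscreteValuationRing R] [HenselianLocalRing R]
    [IsSepClosed (IsLocalRing.ResidueField R)]
    [Field K] [Algebra R K] [IsFractionRing R K] [Field Ω] [Algebra K Ω] [Algebra R Ω] [IsScalarTower R K Ω]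
    [IsSepClosure K Ω]
    (A : Over (Spec (CommRingCat.of K))) [GrpObj A] [IsProper A.hom] [GeometricallyIntegral A.hom]
    (K' K'' : IntermediateField K Ω) [FiniteDimensional K ↥K'] [IsGalois K ↥K']
    [FiniteDimensional K ↥K''] [IsGalois K ↥K'']
    (h' : SGA7.HasSemistableReduction ↥(integralClosure R ↥K') ↥K' (Red.bc (Spec.map (CommRingCat.ofHom (algebraMap K ↥K'))) A))
    (h'' : SGA7.HasSemistableReduction ↥(integralClosure R ↥K'') ↥K'' (Red.bc (Spec.map (CommRingCat.ofHom (algebraMap K ↥K''))) A)) :
    SGA7.HasSemistableReduction ↥(integralClosure R ↥(K' ⊓ K'')) ↥(K' ⊓ K'') (Red.bc (Spec.map (CommRingCat.ofHom (algebraMap K ↥(K' ⊓ K'')))) A) := by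
  obtain ⟨l, hl, hlp⟩ := K566.PrimeAux.exists_prime (IsLocalRing.ResidueField R)
  obtain ⟨W, hW⟩ := Groth.Agent.Sga7.H274.ValExt.exists_liesOver K R Ω
  exact K566.InterSemi.main A
    (fun R K Ω _ _ _ _ _ _ _ _ _ W hW ℓ hℓ hℓp A _ _ _ =>
      Groth.Agent.S4048.result R K Ω W hW ℓ hℓ hℓp A) W hW hl hlp K' K'' h' h''

end Groth.Agent.S17458
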