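import Groth.Statements.S17460
import Groth.Agent.SGA7.K566.NeronHom
import Groth.Agent.Sga7.H740.Comm
import Groth.Agent.Sga7.H516.N7Asm
import Groth.Agent.Sga7.H620.Neutral
import Groth.Agent.Sga7.H620.TorsCount

set_option autoImplicit false
universe u
open CategoryTheory CategoryTheory.Limits AlgebraicGeometry MonObj MonoidalCategory
open SGA7

namespace Groth.Agent.S17460

/-- Let R be a discrete valuation ring with fraction field K and let N and N' be group schemes over Spec
R which are Néron models of their generic fibres A = N_K and B = N'_K, abelian varieties (proper and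
geometrically integral), both with semistable reduction: the geometric fibres of N and of N' contain
no copy of the additive group. Let u : N → N' be a homomorphism (equivalently a homomorphism A → B,
by the Néron property). If u is constant on the connected component of the unit in the special fibre
of N (any two of its points have the same image; equivalently, since u is a homomorphism, they all
go to the unit point of the special fibre of N'), then u is the trivial homomorphism. (Since the
special fibre is reduced this says that the restriction map Hom_K(A, B) → Hom_k(N_k^0, N'_k^0) is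
injective; without semistability it fails, e.g. for multiplication by p on an elliptic curve with
additive reduction in residue characteristic p.) -/
theorem result (R K : Type u) [CommRing R] [IsDomain R]
    [IsDiscreteValuationRing R] [Field K] [Algebra R K] [IsFractionRing R K]
    (N N' : Over (Spec (CommRingCat.of R))) [GrpObj N] [GrpObj N']
    (hN : SGA7.IsNeron R K N) (hN' : SGA7.IsNeron R K N')
    [IsProper ((SGA7.genFib R K).obj N).hom] [GeometricallyIntegral ((SGA7.genFib R K).obj N).hom]
    [IsProper ((SGA7.genFib R K).obj N').hom] [GeometricallyIntegral ((SGA7.genFib R K).obj N').hom]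
    (hss : SGA7.FibresUnipotentRankZero N) (hss' : SGA7.FibresUnipotentRankZero N')
    (u : N ⟶ N') [IsMonHom u]
    (hu : ∀ x ∈ SGA7.secComp R N η[N], ∀ y ∈ SGA7.secComp R N η[N], u.left.base x = u.left.base y) :
    u = 1 := by

  have hsm : Smooth N.hom := hN.1
  have hsep : IsSeparated N.hom := hN.2.1
  have hqc : QuasiCompact N.hom := hN.2.2.1
  have hsm' : Smooth N'.hom := hN'.1
  have hsep' : IsSeparated N'.hom := hN'.2.1
  have hfl : Flat N.hom := inferInstance
  have cN : IsCommMonObj N := Sga7.H740.Comm.isCommMonObj_of_abelian R K N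
  have h0 := Sga7.H620.Neutral.isOpen_neutral N
  obtain ⟨g0, m0⟩ := Sga3.H778.NeutralOpen.exists_grpObj N h0
  have c0 : IsCommMonObj (Sga3.H778.NeutralOpen.opn N (Sga3.H778.NeutralOpen.neutral N h0)) :=
    Sga7.H620.TorsCount.isCommMonObj_of_mono (Sga3.H778.NeutralOpen.opnι N (Sga3.H778.NeutralOpen.neutral N h0))
  have hsm0 := Sga7.H620.Neutral.smooth_neutral' N h0
  have hqc0 := Sga7.H620.Neutral.quasiCompact_neutral N h0
  have hgi0 := Sga7.H620.Neutral.geometricallyIrreducible_neutral N h0
  let G := Sga3.H778.NeutralOpen.opn N (Sga3.H778.NeutralOpen.neutral N h0)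
  let i : G ⟶ N := Sga3.H778.NeutralOpen.opnι N (Sga3.H778.NeutralOpen.neutral N h0)
  have hio : IsOpenImmersion i.left :=
    inferInstanceAs (IsOpenImmersion (Sga3.H778.NeutralOpen.opnι N (Sga3.H778.NeutralOpen.neutral N h0)).left)
  have him : IsMonHom i := m0
  have cG : IsCommMonObj G := c0
  have smG : Smooth G.hom := hsm0
  have qcG : QuasiCompact G.hom := hqc0
  have giG : GeometricallyIrreducible G.hom := hgi0
  have hsep0 : IsSeparated G.hom := by
    rw [← Over.w i]
    infer_instance
  have hG0 : SGA7.FibreUnipotentRankZero (IsLocalRing.closedPoint R) G :=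
    Sga7.H516.N7Asm.rankZero_of_isOpenImmersion _ G N i (hss _)
  have hiu : IsMonHom (i ≫ u) := inferInstance
  have h1 : i ≫ u = 1 := by
    refine SGA7.K566.NeronHom.main hG0 (i ≫ u) fun z hz => ?_
    have h2 : i.left z ∈ SGA3x.neutralSet N := by
      rw [← Sga7.H620.Neutral.range_opnι N h0]
      exact ⟨z, rfl⟩
    have h3 : N.hom (i.left z) = IsLocalRing.closedPoint R := by
      rw [← hz, ← Over.w i]
      rfl
    have h4 : i.left z ∈ SGA7.secComp R N η[N] := by
      obtain ⟨_, ⟨p, rfl⟩, hp⟩ := h2
      have h5 := connectedComponentIn_subset _ _ hp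
      have h6 : p = IsLocalRing.closedPoint R := by
        have h7 : N.hom (i.left z) = p := h5
        rw [← h7, h3]
      subst h6
      exact hp
    have h5 : η[N].left (IsLocalRing.closedPoint R) ∈ SGA7.secComp R N η[N] := by
      refine mem_connectedComponentIn ?_
      have h6 : (η[N] : 𝟙_ (Over (Spec (CommRingCat.of R))) ⟶ N).left ≫ N.hom = 𝟙 _ := Over.w _
      exact (Scheme.Hom.comp_apply _ _ _).symm.trans (congrArg (fun f => f (IsLocalRing.closedPoint R)) h6)
    have h6 := hu _ h4 _ h5
    have h7 : η[N] ≫ u = η[N'] := IsMonHom.one_hom u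
    refine (Scheme.Hom.comp_apply _ _ _).trans (h6.trans ?_)
    exact (Scheme.Hom.comp_apply _ _ _).symm.trans
      (congrArg (fun f => f.left (IsLocalRing.closedPoint R)) h7)
  have i2 : IsIntegral ((SGA7.genFib R K).obj N).left :=
    GeometricallyIntegral.isIntegral_of_subsingleton ((SGA7.genFib R K).obj N).hom
  have i3 : ConnectedSpace (Red.bc (Spec.map (CommRingCat.ofHom (algebraMap R K))) N).left :=
    inferInstanceAs (ConnectedSpace ((SGA7.genFib R K).obj N).left)
  have i4 : IsIso ((SGA7.genFib R K).map i) :=
    Sga7.H620.Neutral.isIso_bc_neutral N h0 (Spec.map (CommRingCat.ofHom (algebraMap R K)))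
  refine (hN'.2.2.2 N hsm).1 ?_
  change (SGA7.genFib R K).map u = (SGA7.genFib R K).map 1
  rw [← cancel_epi ((SGA7.genFib R K).map i), ← Functor.map_comp, ← Functor.map_comp, h1, MonObj.comp_one]

end Groth.Agent.S17460
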