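import Groth.Statements.S17464
import Groth.Agent.AlgGrp.K409.GaTorus
import Groth.Agent.S3280

set_option autoImplicit false
universe u
open CategoryTheory MonoidalCategory CartesianMonoidalCategory MonObj GrpObj AlgebraicGeometry CategoryTheory.Limits
open AlgGrp

namespace Groth.Agent.S17464

/-- Let k be an algebraically closed field, T a k-torus and U a smooth connected affine k-group scheme
of finite type with a composition series whose successive quotients are additive groups: closed
subgroup schemes U_0 → U_1 → … → U_n = U (homomorphisms which are closed immersions, U_i ↦ U_{i+1}),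
with U_0 the trivial group, U_n identified with U by an isomorphism of group schemes, and each U_i
the kernel of a flat surjective homomorphism from U_{i+1} onto the additive group. Then every
homomorphism from U to T is the trivial one. (The published statement is over an arbitrary field for
a torus and a smooth connected unipotent group, unipotent meaning that such a composition series
exists over an algebraic closure; this row states the case of an algebraically closed base field.
The companion assertion, that homomorphisms from T to U are trivial, is an existing statement about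
groups of multiplicative type.) -/
theorem result (k : Type u) [Field k] [IsAlgClosed k]
    (T U : Over (Spec (CommRingCat.of k))) [GrpObj T] [GrpObj U] (hT : Red.IsTorus T)
    [Smooth U.hom] [QuasiCompact U.hom] [ConnectedSpace ↥U.left] [IsAffine U.left]
    (n : ℕ) (Us : Fin (n + 1) → Over (Spec (CommRingCat.of k))) [∀ i, GrpObj (Us i)]
    (h0 : Red.IsTrivialGrp (Us 0))
    (e : Us (Fin.last n) ≅ U) [IsMonHom e.hom]
    (incl : ∀ i : Fin n, Us i.castSucc ⟶ Us i.succ) [∀ i, IsMonHom (incl i)]
    [∀ i, IsClosedImmersion (incl i).left]
    (quot : ∀ i : Fin n, Us i.succ ⟶ Red.Ga (Spec (CommRingCat.of k))) [∀ i, IsMonHom (quot i)]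
    [∀ i, Surjective (quot i).left] [∀ i, Flat (quot i).left]
    (hker : ∀ i : Fin n, AlgGrp.IsKernel (incl i) (quot i))
    (f : U ⟶ T) [IsMonHom f] :
    f = 1 := by
  have hTa := Groth.Agent.Sga3B.TorusAlgClosed.isAffineHom_of_isTorus hT
  have hTs := Groth.Agent.Sga3B.TorusAlgClosed.smooth_of_isTorus hT
  have hft : ∀ j : Fin (n + 1), LocallyOfFiniteType (Us j).hom ∧ QuasiCompact (Us j).hom := by
    intro j
    induction j using Fin.reverseInduction with
    | last =>
      have h1 : (Us (Fin.last n)).hom = e.hom.left ≫ U.hom := (Over.w e.hom).symm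
      have h2 : IsIso e.hom.left := inferInstanceAs (IsIso ((Over.forget _).mapIso e).hom)
      rw [h1]
      exact ⟨inferInstance, inferInstance⟩
    | cast i ih =>
      have := ih.1
      have := ih.2
      have h1 : (Us i.castSucc).hom = (incl i).left ≫ (Us i.succ).hom := (Over.w (incl i)).symm
      rw [h1]
      exact ⟨inferInstance, inferInstance⟩
  have hGa1 : LocallyOfFiniteType (Red.Ga (Spec (CommRingCat.of k))).hom := K409.GaTorus.lft_ga _
  have hGa2 : QuasiCompact (Red.Ga (Spec (CommRingCat.of k))).hom := K409.GaTorus.qc_ga _
  have key : ∀ (j : Fin (n + 1)) (φ : Us j ⟶ T) [IsMonHom φ], φ = 1 := by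
    intro j
    induction j using Fin.induction with
    | zero =>
      intro φ _
      have h1 : IsIso (Us 0).hom := h0
      have h2 : IsIso (toUnit (Us 0)) := by
        have : IsIso (toUnit (Us 0)).left := by
          have h3 : (toUnit (Us 0)).left = (Us 0).hom := by
            simp
          rw [h3]; exact h1
        have h6 : IsIso ((Over.forget _).map (toUnit (Us 0))) := this
        exact isIso_of_reflects_iso _ (Over.forget _)
      have h4 : η[Us 0] ≫ toUnit (Us 0) = 𝟙 _ := toUnit_unique _ _
      have h5 : toUnit (Us 0) ≫ η[Us 0] = 𝟙 _ := by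
        rw [← cancel_mono (toUnit (Us 0)), Category.assoc, h4, Category.comp_id, Category.id_comp]
      calc φ = (toUnit (Us 0) ≫ η[Us 0]) ≫ φ := by rw [h5, Category.id_comp]
        _ = toUnit (Us 0) ≫ η[T] := by rw [Category.assoc, IsMonHom.one_hom]
        _ = 1 := rfl
    | succ i ih =>
      intro φ _
      have h1 : incl i ≫ φ = toUnit _ ≫ η[T] := ih (incl i ≫ φ)
      have a1 := (hft i.succ).1
      have a2 := (hft i.succ).2
      obtain ⟨φ', h2, h3, -⟩ := S3280.result k (Us i.succ) (Us i.castSucc)
        (Red.Ga (Spec (CommRingCat.of k))) T (quot i) (incl i) (hker i) φ h1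
      have h4 : φ' = 1 := K409.GaTorus.ga_to_torus_eq_one hT φ'
      rw [← h3, h4]
      simp
  have h1 : e.hom ≫ f = 1 := key (Fin.last n) (e.hom ≫ f)
  rw [← cancel_epi e.hom, h1]
  simp

end Groth.Agent.S17464
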