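import Groth.Statements.S17465
import Groth.Agent.AlgGrp.K409.TorIsog
import Groth.Agent.Sga3C.GrpIrr
import Groth.Agent.S3037
import Groth.Agent.Sga3B.KerGrp
import Groth.Agent.Sga3B.NormBc
import Groth.Agent.Sga3C.ActBase

set_option autoImplicit false
universe u
open CategoryTheory MonoidalCategory CartesianMonoidalCategory MonObj GrpObj AlgebraicGeometry CategoryTheory.Limits
open AlgGrp

namespace Groth.Agent.S17465

open Groth.Agent

/-- Let k be a field and f : G' → G an isogeny, i.e. a surjective homomorphism with finite kernel,
between smooth connected commutative affine k-group schemes of finite type. Then G' is a torus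
exactly when G is one. (The published sentence draws this conclusion after treating surjective
homomorphisms and isogenies together; for a surjective homomorphism with positive-dimensional kernel
only the implication from G' to G survives — the projection of the product of the multiplicative and
the additive group onto the multiplicative group is surjective with a non-torus source — so the
equivalence is stated for isogenies, the case the dimension count in the printed proof covers. The
companion clause about unipotence is not stated.) -/
theorem result (k : Type u) [Field k]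
    (G' G : Over (Spec (CommRingCat.of k))) [GrpObj G'] [GrpObj G] [IsCommMonObj G'] [IsCommMonObj G]
    [Smooth G'.hom] [QuasiCompact G'.hom] [ConnectedSpace ↥G'.left] [IsAffine G'.left]
    [Smooth G.hom] [QuasiCompact G.hom] [ConnectedSpace ↥G.left] [IsAffine G.left]
    (f : G' ⟶ G) [IsMonHom f] (hf : SGA7.IsIsogenyOver f) :
    Red.IsTorus G' ↔ Red.IsTorus G := by
  have hs := hf.1
  have hGr : IsReduced G.left := Etcore.SmoothRed.isReduced_of_smooth G.hom
  have hfq : QuasiCompact f.left := by
    have : QuasiCompact (f.left ≫ G.hom) := by rw [Over.w]; infer_instance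
    exact QuasiCompact.of_comp f.left G.hom
  have hGn : IsLocallyNoetherian G.left := LocallyOfFiniteType.isLocallyNoetherian G.hom
  constructor
  · intro hT
    have hdom : IsSchemeTheoreticallyDominant f.left := IsSchemeTheoreticallyDominant.of_isDominant f.left
    have hfl : Flat f.left := Sga3.H789.FieldHull1.flat_of_dominant f
    have hsep : IsSeparated G.hom := inferInstance
    have hid : IsMonHom (𝟙 G) := inferInstance
    exact Sga3.H827.ImgTorus.isTorus_of_factor f hT f (𝟙 G) (Category.comp_id f)
  · intro hT
    -- `f` is finite
    have hfin : IsFinite (Sga3B.KerGrp.kerObj f).hom := hf.2 _ _ (Sga3B.KerGrp.isPullback_ker f)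
    have hd0 : DiscreteTopology (Sga3B.KerGrp.kerObj f).left := by
      have : IsLocallyArtinian (Spec (CommRingCat.of k)) := inferInstance
      have : IsLocallyArtinian (Sga3B.KerGrp.kerObj f).left :=
        IsLocallyArtinian.of_locallyQuasiFinite (Sga3B.KerGrp.kerObj f).hom
      infer_instance
    have hff : IsFinite f.left := (S3037.result k G' G f).2 hd0
    -- base change to an algebraic closure
    let K := AlgebraicClosure k
    let g : Spec (CommRingCat.of K) ⟶ Spec (CommRingCat.of k) :=
      Spec.map (CommRingCat.ofHom (algebraMap k K))
    have hgf : Flat g := inferInstance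
    have hgs : Surjective g := inferInstance
    have hgi : GeometricallyIrreducible G'.hom := by
      have : GrpObj (Over.mk G'.hom) := inferInstanceAs (GrpObj G')
      exact Sga3C.GrpIrr.geometricallyIrreducible_of_connectedSpace G'.hom
    have hgi' : GeometricallyIrreducible G.hom := by
      have : GrpObj (Over.mk G.hom) := inferInstanceAs (GrpObj G)
      exact Sga3C.GrpIrr.geometricallyIrreducible_of_connectedSpace G.hom
    let F : Red.bc g G' ⟶ Red.bc g G := (Over.pullback g).map f
    have hFm : IsMonHom F := inferInstanceAs (IsMonHom ((Over.pullback g).map f))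
    have hsq : IsPullback (pullback.fst G'.hom g) F.left f.left (pullback.fst G.hom g) :=
      (Sga3C.ActBase.isPullback_map_left g f).flip
    have hFs : Surjective F.left := MorphismProperty.of_isPullback hsq hs
    have hFf : IsFinite F.left := MorphismProperty.of_isPullback hsq hff
    have e1 : (Red.bc g G').hom = pullback.snd G'.hom g := rfl
    have e2 : (Red.bc g G).hom = pullback.snd G.hom g := rfl
    have i1 : Smooth (Red.bc g G').hom := by rw [e1]; infer_instance
    have i2 : Smooth (Red.bc g G).hom := by rw [e2]; infer_instance
    have i3 : IrreducibleSpace ↥(pullback G'.hom g) := inferInstance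
    have i4 : IrreducibleSpace ↥(pullback G.hom g) := inferInstance
    have i5 : IsAffine (Red.bc g G').left := inferInstanceAs (IsAffine (pullback G'.hom g))
    have i6 : IsAffine (Red.bc g G).left := inferInstanceAs (IsAffine (pullback G.hom g))
    have i7 : ConnectedSpace (Red.bc g G').left := inferInstanceAs (ConnectedSpace ↥(pullback G'.hom g))
    have i8 : ConnectedSpace (Red.bc g G).left := inferInstanceAs (ConnectedSpace ↥(pullback G.hom g))
    have hd : DiscreteTopology ↥(Limits.pullback F.left
        (η[Red.bc g G] : 𝟙_ (Over (Spec (CommRingCat.of K))) ⟶ Red.bc g G).left) :=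
      (S3037.result K _ _ F).1 hFf
    have h1 := K409.TorIsog.isTorus_algClosed (Red.bc g G') (Red.bc g G) F hd (Sga3B.TorusBc.isTorus_bc g hT)
    refine Sga3B.AlgBc.isTorus_of_bc g (fun V hV => ⟨g ⁻¹ᵁ V, QuasiCompact.isCompact_preimage _ V.2 hV.isCompact,
      Set.image_preimage_eq _ g.surjective⟩) h1

end Groth.Agent.S17465
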