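import Groth.Statements.S17466
import Mathlib.Tactic.Ring

set_option autoImplicit false
universe u v
open BigOperators
open NRGIT

namespace Groth.Agent.S17466

open HomogeneousLocalization in
/-- Let A be a commutative algebra graded by the natural numbers, let σ_1, …, σ_n be homogeneous
elements of degree 1 and let s ≥ 1 be an integer such that, for every i, the degree-zero homogeneous
localisation of A away from σ_i is generated over A_0 by the fractions f / σ_i ^ s with f
homogeneous of degree s. Then for every exponent vector K = (k_1, …, k_n) with k_1 + ⋯ + k_n = s,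
the degree-zero homogeneous localisation of A away from the monomial σ^K = ∏ σ_i ^ (k_i) is
generated over A_0 by the fractions f / σ^K with f homogeneous of degree s. (Equivalently: the
natural map from the degree-zero localisation of the symmetric algebra on A_s, taken away from σ^K
viewed as an element of degree one, to the degree-zero localisation of A away from σ^K is
surjective. The published lemma concerns the algebra of invariant sections of the powers of a
linearised line bundle on an irreducible projective scheme over a field, with the σ_i a basis of a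
weight space of sections, and concludes a closed immersion of a quotient into an open piece of a
projective space; this row keeps only the graded-algebra step, for any commutative graded algebra,
with the base field replaced by A_0, which generates nothing new since a / 1 = a σ^s / σ^s for a of
degree zero.) -/
theorem result
    {R : Type u} {A : Type v} [CommRing R] [CommRing A] [Algebra R A]
    (𝒜 : ℕ → Submodule R A) [GradedAlgebra 𝒜]
    {n : ℕ} (σ : Fin n → A) (hσ : ∀ i, σ i ∈ 𝒜 1) {s : ℕ} (hs : 0 < s)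
    (hgen : ∀ i, Algebra.adjoin (𝒜 0)
      {z : HomogeneousLocalization.Away 𝒜 (σ i) |
        ∃ f ∈ 𝒜 s, z.val = Localization.mk f ⟨σ i ^ s, Submonoid.pow_mem _ (Submonoid.mem_powers (σ i)) s⟩} = ⊤)
    (K : Fin n → ℕ) (hK : ∑ i, K i = s) :
    Algebra.adjoin (𝒜 0)
      {z : HomogeneousLocalization.Away 𝒜 (∏ i, σ i ^ K i) |
        ∃ f ∈ 𝒜 s, z.val = Localization.mk f ⟨∏ i, σ i ^ K i, Submonoid.mem_powers _⟩} = ⊤ := by
  classical
  -- choose an index occurring in the monomial
  obtain ⟨i, hi⟩ : ∃ i, 0 < K i := by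
    by_contra h
    push Not at h
    have : ∑ i, K i = 0 := Finset.sum_eq_zero fun i _ => Nat.le_zero.mp (h i)
    omega
  -- degree of a monomial
  have hmon : ∀ (S : Finset (Fin n)) (L : Fin n → ℕ), ∏ j ∈ S, σ j ^ L j ∈ 𝒜 (∑ j ∈ S, L j) := by
    intro S L
    induction S using Finset.induction_on with
    | empty => simpa using SetLike.GradedOne.one_mem
    | @insert a S ha ih =>
      rw [Finset.prod_insert ha, Finset.sum_insert ha]
      refine SetLike.mul_mem_graded ?_ ih
      have := SetLike.pow_mem_graded (L a) (hσ a)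
      simpa using this
  obtain ⟨P, hP⟩ : ∃ P, P = ∏ i, σ i ^ K i := ⟨_, rfl⟩
  have hPs : P ∈ 𝒜 s := by
    rw [hP, ← hK]; exact hmon _ _
  -- the cofactor `g`
  let g : A := σ i ^ (K i - 1) * ∏ j ∈ Finset.univ.erase i, σ j ^ K j
  have hPg : P = σ i * g := by
    rw [hP, ← Finset.mul_prod_erase Finset.univ (fun j => σ j ^ K j) (Finset.mem_univ i)]
    show σ i ^ K i * _ = σ i * (σ i ^ (K i - 1) * _)
    rw [← mul_assoc, ← pow_succ', Nat.sub_add_cancel hi]
  have hg : g ∈ 𝒜 (s - 1) := by
    have h1 : s - 1 = (K i - 1) • 1 + ∑ j ∈ Finset.univ.erase i, K j := by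
      have := Finset.add_sum_erase Finset.univ K (Finset.mem_univ i)
      simp only [smul_eq_mul, mul_one]
      omega
    rw [h1]
    exact SetLike.mul_mem_graded (SetLike.pow_mem_graded _ (hσ i)) (hmon _ _)
  rw [← hP]
  -- the subalgebra
  let T : Subalgebra (𝒜 0) (Away 𝒜 P) := Algebra.adjoin (𝒜 0)
      {z : Away 𝒜 P | ∃ f ∈ 𝒜 s, z.val = Localization.mk f ⟨P, Submonoid.mem_powers _⟩}
  show T = ⊤
  -- the elements `f / P`
  have h1s : ∀ f ∈ 𝒜 s, f ∈ 𝒜 (1 • s) := by intro f hf; rwa [one_smul]
  let q : ∀ f, f ∈ 𝒜 s → Away 𝒜 P := fun f hf => Away.mk 𝒜 hPs 1 f (h1s f hf)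
  have hqval : ∀ f hf, (q f hf).val = Localization.mk f ⟨P, Submonoid.mem_powers _⟩ := by
    intro f hf
    simp only [q, Away.val_mk, pow_one]
  have hqT : ∀ f hf, q f hf ∈ T := fun f hf => Algebra.subset_adjoin ⟨f, hf, hqval f hf⟩
  have hσg : ∀ j, σ j * g ∈ 𝒜 s := by
    intro j
    have := SetLike.mul_mem_graded (hσ j) hg
    rwa [show 1 + (s - 1) = s by omega] at this
  let u : Away 𝒜 P := ∏ j, (q (σ j * g) (hσg j)) ^ K j
  have huT : u ∈ T := Subalgebra.prod_mem _ fun j _ => T.pow_mem (hqT _ (hσg j)) _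
  have hmkprod : ∀ (S : Finset (Fin n)) (L : Fin n → ℕ), (∏ j ∈ S, (q (σ j * g) (hσg j)) ^ L j).val =
      Localization.mk ((∏ j ∈ S, σ j ^ L j) * g ^ (∑ j ∈ S, L j))
        ⟨P ^ (∑ j ∈ S, L j), Submonoid.pow_mem _ (Submonoid.mem_powers _) _⟩ := by
    intro S L
    induction S using Finset.induction_on with
    | empty => 
      simp only [Finset.prod_empty, Finset.sum_empty, pow_zero, mul_one, val_one]
      exact Localization.mk_one.symm
    | @insert a S ha ih =>
      rw [Finset.prod_insert ha, val_mul, ih, val_pow, hqval _ (hσg a), Localization.mk_pow,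
        Localization.mk_mul]
      congr 1
      · rw [Finset.prod_insert ha, Finset.sum_insert ha]; ring
      · ext
        simp only [Submonoid.coe_mul, SubmonoidClass.coe_pow]
        rw [Finset.sum_insert ha]; ring
  have huval : u.val = Localization.mk (P * g ^ s) ⟨P ^ s, Submonoid.pow_mem _ (Submonoid.mem_powers _) _⟩ := by
    have h := hmkprod Finset.univ K
    rw [← hP] at h
    simp only [hK] at h
    exact h
  -- the localisation map
  let φ : Away 𝒜 (σ i) →ₐ[𝒜 0] Away 𝒜 P := awayMapₐ 𝒜 hg hPg
  have hφval : ∀ (m : ℕ) (a : A) (ha : a ∈ 𝒜 (m • 1)), (φ (Away.mk 𝒜 (hσ i) m a ha)).val =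
      Localization.mk (a * g ^ m) ⟨P ^ m, Submonoid.pow_mem _ (Submonoid.mem_powers _) _⟩ := by
    intro m a ha
    simp only [φ, awayMapₐ_apply, awayMap_mk, Away.val_mk]
  have hφT : ∀ y, φ y ∈ T := by
    intro y
    have hy : y ∈ Algebra.adjoin (𝒜 0)
      {z : HomogeneousLocalization.Away 𝒜 (σ i) |
        ∃ f ∈ 𝒜 s, z.val = Localization.mk f ⟨σ i ^ s, Submonoid.pow_mem _ (Submonoid.mem_powers (σ i)) s⟩} := by
      rw [hgen i]; trivial
    have h2 : Algebra.adjoin (𝒜 0)
      {z : HomogeneousLocalization.Away 𝒜 (σ i) |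
        ∃ f ∈ 𝒜 s, z.val = Localization.mk f ⟨σ i ^ s, Submonoid.pow_mem _ (Submonoid.mem_powers (σ i)) s⟩} ≤
        T.comap φ := by
      rw [Algebra.adjoin_le_iff]
      rintro z ⟨f, hf, hz⟩
      have hz' : z = Away.mk 𝒜 (hσ i) s f (by simpa using hf) := by
        ext; rw [hz, Away.val_mk]
      show φ z ∈ T
      have h3 : φ z = q f hf * u := by
        ext
        rw [hz', hφval, val_mul, hqval f hf, huval, Localization.mk_mul]
        rw [Localization.mk_eq_mk_iff, Localization.r_iff_exists]
        refine ⟨1, ?_⟩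
        simp only [Submonoid.coe_mul, OneMemClass.coe_one, one_mul]
        ring
      rw [h3]
      exact T.mul_mem (hqT f hf) huT
    exact h2 hy
  rw [eq_top_iff]
  rintro x -
  obtain ⟨m, a, ha, rfl⟩ := Away.mk_surjective 𝒜 hPs x
  have ha' : a ∈ 𝒜 ((m * s) • 1) := by simpa using ha
  have hσs : σ i ^ s ∈ 𝒜 s := by simpa using SetLike.pow_mem_graded s (hσ i)
  have h4 : Away.mk 𝒜 hPs m a ha = φ (Away.mk 𝒜 (hσ i) (m * s) a ha') * (q (σ i ^ s) hσs) ^ m := by
    ext
    rw [Away.val_mk, val_mul, hφval, val_pow, hqval _ hσs, Localization.mk_pow, Localization.mk_mul]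
    rw [Localization.mk_eq_mk_iff, Localization.r_iff_exists]
    refine ⟨1, ?_⟩
    simp only [Submonoid.coe_mul, OneMemClass.coe_one, one_mul, SubmonoidClass.coe_pow]
    rw [hPg]
    ring
  rw [h4]
  exact T.mul_mem (hφT _) (T.pow_mem (hqT _ hσs) m)

end Groth.Agent.S17466
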