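import Groth.Statements.S17469
-- import your own Groth.Agent.* helpers here

set_option autoImplicit false
universe u
open CategoryTheory AlgebraicGeometry
open Variety

namespace Groth.Agent.S17469

/-- Let X be a locally Noetherian integral scheme all of whose local rings are integrally closed domains
and U an open subset of X. A section of O_X over U that is integral over the ring of global sections
of X, the latter acting through restriction, is itself the restriction of a global section. (The
published lemma is stated for an irreducible normal variety and for the graded ring of sections over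
U of all non-negative powers of a line bundle, integral over the corresponding ring of sections over
X; for the trivial line bundle its homogeneous components are the present statement, which is made
here for any locally Noetherian normal integral scheme.) -/
theorem result
    (X : Scheme.{u}) [AlgebraicGeometry.IsIntegral X] [IsLocallyNoetherian X]
    (hX : Pi1.IsNormalScheme X) (U : X.Opens) (b : Γ(X, U))
    (hb : (X.presheaf.map (homOfLE le_top : U ⟶ ⊤).op).hom.IsIntegralElem b) :
    b ∈ Set.range (X.presheaf.map (homOfLE le_top : U ⟶ ⊤).op).hom := by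
  classical
  have hne0 : Nonempty (⊤ : X.Opens) := ⟨⟨(inferInstance : Nonempty X).some, trivial⟩⟩
  by_cases hU0 : Nonempty U
  swap
  · have : U = ⊥ := by
      ext x
      simp only [TopologicalSpace.Opens.coe_bot, Set.mem_empty_iff_false, iff_false]
      exact fun hx => hU0 ⟨⟨x, hx⟩⟩
    subst this
    have : Subsingleton Γ(X, ⊥) := CommRingCat.subsingleton_of_isTerminal X.sheaf.isTerminalOfEmpty
    exact ⟨0, Subsingleton.elim _ _⟩
  have hη : genericPoint X ∈ U := (genericPoint_spec X).mem_open_set_iff U.2 |>.mpr
    (by simpa using hU0)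
  let bK : X.functionField := X.presheaf.germ U (genericPoint X) hη b
  have hint : _root_.IsIntegral Γ(X, ⊤) bK := by
    obtain ⟨p, hp, hpb⟩ := hb
    refine ⟨p, hp, ?_⟩
    have h1 := congrArg (X.presheaf.germ U (genericPoint X) hη).hom hpb
    rw [map_zero, Polynomial.hom_eval₂] at h1
    have h2 : (X.presheaf.germ U (genericPoint X) hη).hom.comp
        (X.presheaf.map (homOfLE le_top : U ⟶ ⊤).op).hom = algebraMap Γ(X, ⊤) X.functionField := by
      ext a
      exact X.presheaf.germ_res_apply (homOfLE le_top : U ⟶ ⊤) (genericPoint X) hη a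
    rw [h2] at h1
    exact h1
  have key : ∀ p : X, ∃ c : X.presheaf.stalk p, algebraMap (X.presheaf.stalk p) X.functionField c = bK := by
    intro p
    obtain ⟨hd, hn⟩ := hX p
    let : Algebra Γ(X, ⊤) (X.presheaf.stalk p) := (X.presheaf.germ ⊤ p (TopologicalSpace.Opens.mem_top p)).hom.toAlgebra
    have : IsScalarTower Γ(X, ⊤) (X.presheaf.stalk p) X.functionField :=
      functionField_isScalarTower X ⊤ ⟨p, trivial⟩
    exact (isIntegrallyClosed_iff X.functionField).mp hn hint.tower_top
  have key2 : ∀ p : X, ∃ (V : X.Opens) (hp : p ∈ V) (hV : genericPoint X ∈ V) (c : Γ(X, V)),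
      X.presheaf.germ V (genericPoint X) hV c = bK := by
    intro p
    obtain ⟨c, hc⟩ := key p
    obtain ⟨V, hV, c', rfl⟩ := X.presheaf.exists_germ_eq c
    have hV' : genericPoint X ∈ V := (genericPoint_spec X).mem_open_set_iff V.2 |>.mpr
      ⟨p, by simpa using hV⟩
    refine ⟨V, hV, hV', c', ?_⟩
    have : Nonempty V := ⟨⟨p, hV⟩⟩
    rw [← hc]
    erw [Scheme.algebraMap_germ_eq_germToFunctionField]
  choose V hV hV' c hc using key2
  have hcov : (⊤ : X.Opens) ≤ iSup V := fun p _ => by
    rw [TopologicalSpace.Opens.mem_iSup]
    exact ⟨p, hV p⟩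
  have hcomp : TopCat.Presheaf.IsCompatible X.presheaf V c := by
    intro p q
    have hpq : genericPoint X ∈ V p ⊓ V q := ⟨hV' p, hV' q⟩
    apply germ_injective_of_isIntegral X (genericPoint X) hpq
    erw [X.presheaf.germ_res_apply, X.presheaf.germ_res_apply]
    exact (hc p).trans (hc q).symm
  obtain ⟨s, hs⟩ : ∃ s : Γ(X, ⊤), ∀ p, X.presheaf.map (homOfLE le_top : V p ⟶ ⊤).op s = c p := by
    obtain ⟨s, hs, -⟩ := X.sheaf.existsUnique_gluing' V ⊤ (fun p => homOfLE le_top) hcov c hcomp
    exact ⟨s, hs⟩
  refine ⟨s, ?_⟩
  apply germ_injective_of_isIntegral X (genericPoint X) hη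
  have p0 : X := genericPoint X
  have h1 : X.presheaf.germ U (genericPoint X) hη (X.presheaf.map (homOfLE le_top : U ⟶ ⊤).op s) =
      X.presheaf.germ ⊤ (genericPoint X) trivial s :=
    X.presheaf.germ_res_apply (homOfLE le_top : U ⟶ ⊤) (genericPoint X) hη s
  have h2 : X.presheaf.germ (V p0) (genericPoint X) (hV' p0) (X.presheaf.map (homOfLE le_top : V p0 ⟶ ⊤).op s) =
      X.presheaf.germ ⊤ (genericPoint X) trivial s :=
    X.presheaf.germ_res_apply (homOfLE le_top : V p0 ⟶ ⊤) (genericPoint X) (hV' p0) s
  rw [hs p0, hc p0] at h2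
  exact h1.trans h2.symm

end Groth.Agent.S17469
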