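import Groth.Statements.S17471

set_option autoImplicit false
universe u v w x
open RootCh

namespace Groth.Agent.S17471

open RootPairing in
theorem key
    {ι : Type u} {R : Type v} {M : Type w} {N : Type x}
    [Field R] [LinearOrder R] [IsStrictOrderedRing R]
    [AddCommGroup M] [Module R M] [AddCommGroup N] [Module R N] [Fintype ι]
    (P : RootPairing ι R M N) [P.IsRootSystem] [P.IsCrystallographic] [P.IsReduced]
    (b : P.Base) (θ : ι) (hθ : b.IsPos θ)
    (hmax : ∀ i : ι, b.IsPos i → P.root θ + P.root i ∉ Set.range P.root)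
    (i : ι) (hi : b.IsPos i) (hne : i ≠ θ) :
    P.pairingIn ℤ i θ = 0 ∨ P.pairingIn ℤ i θ = 1 := by
  let := P.indexNeg
  have nonneg : ∀ j : ι, b.IsPos j → 0 ≤ P.pairingIn ℤ j θ := by
    intro j hj
    by_contra hlt
    push Not at hlt
    have hne' : P.root j ≠ -P.root θ := by
      intro h
      have h' : P.root j = P.root (-θ) := by simpa using h
      have h'' : j = -θ := P.root.injective h'
      have := b.height_reflectionPerm_self θ
      rw [Base.isPos_iff] at hj hθ
      rw [h'', this] at hj
      omega
    have := P.root_add_root_mem_of_pairingIn_neg hlt hne'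
    exact hmax j hj (by rwa [add_comm] at this)
  have h1 := nonneg i hi
  by_contra hcon
  push Not at hcon
  have h2 : 2 ≤ P.pairingIn ℤ i θ := by omega
  obtain ⟨γ, hγ⟩ := P.root_sub_root_mem_of_pairingIn_pos (i := i) (j := θ) (by omega) hne
  have hneg : ∀ k : ι, P.root (-k) = - P.root k := fun k => by
    rw [P.indexNeg_neg, P.root_reflectionPerm, P.reflection_apply_self]
  have hδ : P.root (-γ) = P.root θ - P.root i := by
    rw [hneg, hγ]; abel
  have hpos : b.IsPos (-γ) := by
    rcases Base.IsPos.or_neg b γ with h | h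
    · exact absurd ⟨i, by rw [hγ]; abel⟩ (hmax γ h)
    · exact h
  have h3 := nonneg _ hpos
  have h4 : P.pairingIn ℤ (-γ) θ = 2 - P.pairingIn ℤ i θ := by
    have hh : P.pairing (-γ) θ = 2 - P.pairing i θ := by
      rw [← P.root_coroot_eq_pairing, hδ, map_sub, LinearMap.sub_apply,
        P.root_coroot_eq_pairing, P.root_coroot_eq_pairing, P.pairing_same]
    rw [← P.algebraMap_pairingIn ℤ, ← P.algebraMap_pairingIn ℤ] at hh
    have : (algebraMap ℤ R) (P.pairingIn ℤ (-γ) θ) = algebraMap ℤ R (2 - P.pairingIn ℤ i θ) := by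
      rw [hh]; simp
    exact (algebraMap ℤ R).injective_int this
  have h5 : P.pairingIn ℤ i θ = 2 := by omega
  have h6 : P.pairing i θ = 2 := by
    rw [← P.algebraMap_pairingIn ℤ, h5]; simp
  refine hmax _ hpos ⟨-(P.reflectionPerm θ i), ?_⟩
  rw [hδ]
  rw [hneg, P.root_reflectionPerm, P.reflection_apply_root, h6]
  module

/-- Let Φ be a finite, reduced, crystallographic, irreducible root system with a base, and θ a positive
root such that θ + β is a root for no positive root β (so θ is the highest root). Then Σ_{β>0} ⟨β,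
θ^∨⟩² = 2 + Σ_{β>0} ⟨β, θ^∨⟩ = 2(1 + ⟨ρ, θ^∨⟩), ρ being half the sum of the positive roots; in the
source the left side is the index of the adjoint representation obtained from its formal character,
and 1 + ⟨ρ, θ^∨⟩ is the dual Coxeter number. -/
theorem result
    {ι : Type u} {R : Type v} {M : Type w} {N : Type x}
    [Field R] [LinearOrder R] [IsStrictOrderedRing R]
    [AddCommGroup M] [Module R M] [AddCommGroup N] [Module R N] [Fintype ι]
    (P : RootPairing ι R M N) [P.IsRootSystem] [P.IsCrystallographic] [P.IsReduced]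
    [P.IsIrreducible] (b : P.Base) (θ : ι) (hθ : b.IsPos θ)
    (hmax : ∀ i : ι, b.IsPos i → P.root θ + P.root i ∉ Set.range P.root) :
    ∑ i ∈ Finset.univ.filter (fun i => 0 < b.height i), P.pairing i θ ^ 2 =
      2 + ∑ i ∈ Finset.univ.filter (fun i => 0 < b.height i), P.pairing i θ := by
  classical
  have hmem : θ ∈ Finset.univ.filter (fun i => 0 < b.height i) := by
    rw [Finset.mem_filter]
    exact ⟨Finset.mem_univ _, hθ⟩
  rw [← Finset.add_sum_erase _ _ hmem, ← Finset.add_sum_erase _ (fun i => P.pairing i θ) hmem]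
  have : ∑ i ∈ (Finset.univ.filter (fun i => 0 < b.height i)).erase θ, P.pairing i θ ^ 2 =
      ∑ i ∈ (Finset.univ.filter (fun i => 0 < b.height i)).erase θ, P.pairing i θ := by
    refine Finset.sum_congr rfl fun i hi => ?_
    rw [Finset.mem_erase, Finset.mem_filter] at hi
    have := key P b θ hθ hmax i hi.2.2 hi.1
    rw [← P.algebraMap_pairingIn ℤ]
    rcases this with h | h <;> simp [h]
  rw [this]
  simp only [P.pairing_same]
  ring

end Groth.Agent.S17471
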