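import Groth.Statements.S17473
import Groth.Agent.S3567
import Groth.Agent.Pi1A.SteinEtale
import Groth.Agent.Sga3C.SchemImage

set_option autoImplicit false
universe u
open CategoryTheory MonoidalCategory CartesianMonoidalCategory MonObj GrpObj AlgebraicGeometry CategoryTheory.Limits
open AlgGrp

namespace Groth.Agent.S17473

open Groth.Agent.Sga3C.SchemImage

/-- `f` has isomorphisms on sections over every open set. -/
def UO {X S : Scheme.{u}} (f : X ⟶ S) : Prop := ∀ V : S.Opens, IsIso (f.app V)

lemma surjective_of_UO {X S : Scheme.{u}} (f : X ⟶ S) [UniversallyClosed f] (h : UO f) :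
    Surjective f := by
  have hcl : IsClosed (Set.range f) := f.isClosedMap.isClosed_range
  let V : S.Opens := ⟨(Set.range f)ᶜ, hcl.isOpen_compl⟩
  have h1 : f ⁻¹ᵁ V = ⊥ := by
    ext x
    exact ⟨fun hx => hx ⟨x, rfl⟩, fun hx => hx.elim⟩
  have h2 : Subsingleton Γ(X, f ⁻¹ᵁ V) := by rw [h1]; infer_instance
  have h3 : Function.Bijective (f.app V).hom := (ConcreteCategory.isIso_iff_bijective _).mp (h V)
  have h4 : (1 : Γ(S, V)) = 0 := h3.1 (Subsingleton.elim _ _)
  have h5 := congrArg (fun a => S.basicOpen a) h4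
  rw [S.basicOpen_zero, S.basicOpen_one] at h5
  constructor
  rw [← Set.range_eq_univ, ← Set.compl_empty_iff]
  exact congrArg (fun V : S.Opens => (V : Set S)) h5

lemma isIso_c {X S : Scheme.{u}} (f : X ⟶ S) (h : UO f) : IsIso f.c := by
  have : ∀ V : (TopologicalSpace.Opens S)ᵒᵖ, IsIso (f.c.app V) := fun V => h V.unop
  exact NatIso.isIso_of_isIso_app _

/-- Factorization of morphisms constant on the fibres. -/
theorem factor {X S W : Scheme.{u}} (f : X ⟶ S) [UniversallyClosed f] (h : UO f) :
    (∀ v₁ v₂ : S ⟶ W, f ≫ v₁ = f ≫ v₂ → v₁ = v₂) ∧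
      ∀ u : X ⟶ W, (∀ x y : X, f.base x = f.base y → u.base x = u.base y) → ∃ v : S ⟶ W, f ≫ v = u := by
  have h1 := surjective_of_UO f h
  have h2 := isIso_c f h
  exact S3567.result f (f.isClosedMap.isQuotientMap f.continuous f.surjective) W

variable {k : Type u} [Field k]

/-- The morphisms `Z ⊗ X ⟶ Z ⊗ Y` for `f : X ⟶ Y`. -/
lemma UO_whiskerLeft (Z : Over (Spec (CommRingCat.of k))) {X Y : Over (Spec (CommRingCat.of k))} (f : X ⟶ Y)
    [IsProper f.left] (h : UO f.left) : UO (Z ◁ f).left ∧ IsProper (Z ◁ f).left := by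
  have h1 : IsPullback (snd Z X).left (Z ◁ f).left f.left (snd Z Y).left :=
    (isPullback_whiskerLeft f Z).flip.map (Over.forget _)
  have h2 : Flat (snd Z Y).left := by
    rw [Over.snd_left]
    infer_instance
  exact ⟨fun U => Pi1A.SteinEtale.isIso_app_of_flat h1 h U, MorphismProperty.of_isPullback h1 ‹_›⟩

lemma hom_ext_of_UO {X Y W : Over (Spec (CommRingCat.of k))} (f : X ⟶ Y) [IsProper f.left]
    (h : UO f.left) (v₁ v₂ : Y ⟶ W) (hv : f ≫ v₁ = f ≫ v₂) : v₁ = v₂ := by
  ext1
  exact (factor f.left h).1 _ _ (congrArg CommaMorphism.left hv)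

/-- Let k be a field, G a k-group scheme locally of finite type, X and Y separated k-schemes, f : X → Y
a proper k-morphism such that O_Y → f_*O_X is an isomorphism (on sections over every open subset of
Y), and a an action of G on X. The following are equivalent: (i) some action of G on Y makes f
equivariant; (ii) X ×_Y X is stable under G acting diagonally on X × X, i.e. for every k-scheme T,
every T-point g of G and all T-points x₁, x₂ of X with f x₁ = f x₂ one has f (g · x₁) = f (g · x₂);
(iii) the underlying map of the composite G × X → X → Y is constant on the topological fibres of G ×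
X → G × Y. (The published text works over an algebraically closed field; any field is allowed here.) -/
theorem result (k : Type u) [Field k]
    (G X Y : Over (Spec (CommRingCat.of k))) [GrpObj G] [LocallyOfFiniteType G.hom]
    [IsSeparated X.hom] [IsSeparated Y.hom]
    (f : X ⟶ Y) [IsProper f.left] (hf : ∀ U : Y.left.Opens, IsIso (f.left.app U))
    (a : AlgGrp.Action G X) :
    [∃ b : AlgGrp.Action G Y, (G ◁ f) ≫ b.act = a.act ≫ f,
      ∀ (T : Over (Spec (CommRingCat.of k))) (g : T ⟶ G) (x₁ x₂ : T ⟶ X),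
        x₁ ≫ f = x₂ ≫ f → lift g x₁ ≫ a.act ≫ f = lift g x₂ ≫ a.act ≫ f,
      ∀ p q : ↥(G ⊗ X).left, (G ◁ f).left.base p = (G ◁ f).left.base q →
        (a.act ≫ f).left.base p = (a.act ≫ f).left.base q].TFAE := by
  tfae_have 1 → 2 := by
    rintro ⟨b, hb⟩ T g x₁ x₂ h
    have key : ∀ x : T ⟶ X, lift g x ≫ a.act ≫ f = lift g (x ≫ f) ≫ b.act := by
      intro x
      rw [← hb, ← Category.assoc]
      congr 1
      ext <;> simp
    rw [key, key, h]
  tfae_have 2 → 3 := by
    intro h p q hpq
    obtain ⟨z, hz1, hz2⟩ := Scheme.Pullback.exists_preimage_pullback p q (f := (G ◁ f).left)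
      (g := (G ◁ f).left) hpq
    let T : Over (Spec (CommRingCat.of k)) := Over.mk (pullback.fst (G ◁ f).left (G ◁ f).left ≫ (G ⊗ X).hom)
    let u : T ⟶ G ⊗ X := Over.homMk (pullback.fst (G ◁ f).left (G ◁ f).left)
    let v : T ⟶ G ⊗ X := Over.homMk (pullback.snd (G ◁ f).left (G ◁ f).left) (by
      change _ = pullback.fst (G ◁ f).left (G ◁ f).left ≫ (G ⊗ X).hom
      rw [← Over.w (G ◁ f), ← Category.assoc, ← Category.assoc, pullback.condition])
    have huv : u ≫ (G ◁ f) = v ≫ (G ◁ f) := by
      exact Over.OverMorphism.ext (pullback.condition (f := (G ◁ f).left) (g := (G ◁ f).left))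
    have h1 : u ≫ fst G X = v ≫ fst G X := by
      have := congrArg (· ≫ fst G Y) huv
      simpa using this
    have h2 : (u ≫ snd G X) ≫ f = (v ≫ snd G X) ≫ f := by
      have := congrArg (· ≫ snd G Y) huv
      simpa using this
    have h3 := h T (u ≫ fst G X) (u ≫ snd G X) (v ≫ snd G X) h2
    have h4 : lift (u ≫ fst G X) (u ≫ snd G X) = u := by ext <;> simp
    have h5 : lift (u ≫ fst G X) (v ≫ snd G X) = v := by rw [h1]; ext <;> simp
    rw [h4, h5] at h3
    have h6 : pullback.fst (G ◁ f).left (G ◁ f).left ≫ (a.act ≫ f).left =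
        pullback.snd (G ◁ f).left (G ◁ f).left ≫ (a.act ≫ f).left := congrArg CommaMorphism.left h3
    have h7 := congrArg (fun t => t.base z) h6
    simp only [Scheme.Hom.comp_base, TopCat.hom_comp, ContinuousMap.comp_apply] at h7
    rw [← hz1, ← hz2]
    exact h7
  tfae_have 3 → 1 := by
    intro h
    obtain ⟨hF, hFp⟩ := UO_whiskerLeft G f hf
    obtain ⟨ψ₀, hψ₀⟩ := (factor (W := Y.left) (G ◁ f).left hF).2 (a.act ≫ f).left h
    have hw : ψ₀ ≫ Y.hom = (G ⊗ Y).hom := by
      apply (factor (G ◁ f).left hF).1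
      rw [← Category.assoc, hψ₀, Over.w, Over.w]
    let ψ : G ⊗ Y ⟶ Y := Over.homMk ψ₀ hw
    have hψ : (G ◁ f) ≫ ψ = a.act ≫ f := by
      ext1
      exact hψ₀
    refine ⟨⟨ψ, ?_, ?_⟩, hψ⟩
    · obtain ⟨h1, h2⟩ := UO_whiskerLeft (𝟙_ (Over (Spec (CommRingCat.of k)))) f hf
      apply hom_ext_of_UO _ h1
      rw [← Category.assoc, whisker_exchange, Category.assoc, hψ, ← Category.assoc, a.one_act,
        leftUnitor_naturality]
    · obtain ⟨h1, h2⟩ := UO_whiskerLeft (G ⊗ G) f hf
      apply hom_ext_of_UO _ h1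
      rw [← Category.assoc, whisker_exchange, Category.assoc, hψ, ← Category.assoc, a.mul_act]
      simp only [Category.assoc]
      rw [MonoidalCategory.tensor_whiskerLeft]
      simp only [Category.assoc, Iso.inv_hom_id_assoc]
      rw [← MonoidalCategory.whiskerLeft_comp_assoc, hψ, MonoidalCategory.whiskerLeft_comp_assoc, hψ]
  tfae_finish

end Groth.Agent.S17473
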