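import Groth.Statements.S17474
import Groth.Agent.Grpsch.PicGrp

set_option autoImplicit false
universe u
open CategoryTheory MonoidalCategory CartesianMonoidalCategory MonObj GrpObj AlgebraicGeometry CategoryTheory.Limits
open AlgGrp

namespace Groth.Agent.S17474

open Groth.Agent.Grpsch.PicGrp

/-- Over an algebraically closed field k, let X be a projective variety (an integral k-scheme admitting
a closed immersion into some projective space over k) and let a connected k-group scheme of finite
type G act on X. For a k-point g of G write t_g : X → X, x ↦ g · x. Then for every invertible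
O_X-module L and every invertible M with L ⊗ M ≅ O_X (an inverse of L), the invertible module
t_g^*(L) ⊗ M is algebraically equivalent to zero. Equivalently, the neutral component of the
automorphism group scheme of X acts trivially on the Néron–Severi group of X. -/
theorem result (k : Type u) [Field k] [IsAlgClosed k]
    (G X : Over (Spec (CommRingCat.of k))) [GrpObj G] [LocallyOfFiniteType G.hom] [QuasiCompact G.hom]
    [ConnectedSpace ↥G.left] [IsIntegral X.left] (hX : RelProj.IsHProjective X.hom)
    (a : AlgGrp.Action G X) (g : 𝟙_ (Over (Spec (CommRingCat.of k))) ⟶ G)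
    (L M : X.left.Modules) (hL : PicF.IsInvertible L) (hM : PicF.IsInvertible M)
    (hLM : Nonempty (CohB1.tensorMod L M ≅ Coh.structureModule X.left)) :
    @Pic13.IsAlgEquivZero k _ X.left ⟨X.hom⟩
      (CohB1.tensorMod ((Scheme.Modules.pullback (lift (toUnit X ≫ g) (𝟙 X) ≫ a.act).left).obj L) M) := by
  let P : Scheme.{u} := pullback X.hom G.hom
  let β : P ⟶ (G ⊗ X).left := pullback.lift (pullback.snd X.hom G.hom) (pullback.fst X.hom G.hom)
    (pullback.condition).symm
  let A : P ⟶ X.left := β ≫ a.act.left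
  let cL : Pic X.left := mk L hL
  let cM : Pic X.left := mk M hM
  have hcLM : cL * cM = 1 := (mk_eq_one_iff _).2 hLM
  -- the slices
  have key : ∀ (t : 𝟙_ (Over (Spec (CommRingCat.of k))) ⟶ G) (s : X.left ⟶ P),
      s ≫ pullback.fst X.hom G.hom = 𝟙 X.left → s ≫ pullback.snd X.hom G.hom = X.hom ≫ t.left →
      s ≫ A = (lift (toUnit X ≫ t) (𝟙 X) ≫ a.act).left := by
    intro t s h1 h2
    change s ≫ β ≫ a.act.left = _
    rw [← Category.assoc, Over.comp_left]
    congr 1
    apply pullback.hom_ext
    · rw [Category.assoc, pullback.lift_fst, h2]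
      have h3 : (lift (toUnit X ≫ t) (𝟙 X)).left ≫ pullback.fst G.hom X.hom = (toUnit X ≫ t).left := by
        rw [Over.lift_left]
        exact pullback.lift_fst _ _ _
      rw [h3, Over.comp_left]
      simp
    · rw [Category.assoc, pullback.lift_snd, h1]
      have h3 : (lift (toUnit X ≫ t) (𝟙 X)).left ≫ pullback.snd G.hom X.hom = (𝟙 X : X ⟶ X).left := by
        rw [Over.lift_left]
        exact pullback.lift_snd _ _ _
      rw [h3]
      rfl
  obtain ⟨N, hN, hNc⟩ := exists_mk
    (pull A cL * pull (pullback.fst X.hom G.hom) cM)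
  have key2 : ∀ (t : 𝟙_ (Over (Spec (CommRingCat.of k))) ⟶ G) (s : X.left ⟶ P),
      s ≫ pullback.fst X.hom G.hom = 𝟙 X.left → s ≫ pullback.snd X.hom G.hom = X.hom ≫ t.left →
      pull s (mk N hN) =
        pull (lift (toUnit X ≫ t) (𝟙 X) ≫ a.act).left cL * cM := by
    intro t s h1 h2
    rw [← hNc, map_mul, ← pull_comp, ← pull_comp,
      key t s h1 h2, h1, pull_id]
  have hone : (lift (toUnit X ≫ η[G]) (𝟙 X) ≫ a.act) = 𝟙 X := by
    have h1 : lift (toUnit X ≫ η[G]) (𝟙 X) = (λ_ X).inv ≫ (η[G] ▷ X) := by
      ext <;> simp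
    rw [h1, Category.assoc, a.one_act, Iso.inv_hom_id]
  refine ⟨G.left, G.hom, inferInstance, inferInstance, inferInstance, N, hN, g.left, η[G].left,
    by simp, by simp, ?_, ?_⟩
  · let s₁ : X.left ⟶ P := @Pic13.sliceAt k _ X.left ⟨X.hom⟩ _ G.hom g.left (by simp)
    have h1 := key2 g s₁ (pullback.lift_fst _ _ _) (pullback.lift_snd _ _ _)
    rw [pull_mk, pull_mk, mk_mul_mk, mk_eq_iff] at h1
    exact h1
  · let s₁ : X.left ⟶ P := @Pic13.sliceAt k _ X.left ⟨X.hom⟩ _ G.hom η[G].left (by simp)
    have h1 := key2 η[G] s₁ (pullback.lift_fst _ _ _) (pullback.lift_snd _ _ _)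
    rw [hone, Over.id_left, pull_id, hcLM, pull_mk, mk_eq_one_iff] at h1
    exact h1

end Groth.Agent.S17474
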