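import Groth.Statements.S17475
import Groth.Agent.AlgGrp.K409.PicFix

set_option autoImplicit false
universe u
open CategoryTheory MonoidalCategory CartesianMonoidalCategory MonObj GrpObj AlgebraicGeometry CategoryTheory.Limits
open AlgGrp

namespace Groth.Agent.S17475

/-- Over an algebraically closed field k, let X be a normal projective variety (an integral k-scheme
whose local rings are integrally closed domains, admitting a closed immersion into some projective
space over k) and let a connected k-group scheme of finite type G act on X. For a k-point g of G
write t_g : X → X, x ↦ g · x. Then every invertible O_X-module L which is algebraically equivalent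
to zero satisfies t_g^*(L) ≅ L. Equivalently, the Picard variety of X is an abelian variety on which
the neutral component of the automorphism group scheme of X acts trivially. (For non-normal X the
conclusion can fail: the neutral component may act non-trivially on the Picard variety.) -/
theorem result (k : Type u) [Field k] [IsAlgClosed k]
    (G X : Over (Spec (CommRingCat.of k))) [GrpObj G] [LocallyOfFiniteType G.hom] [QuasiCompact G.hom]
    [ConnectedSpace ↥G.left] [IsIntegral X.left] (hXn : Pi1.IsNormalScheme X.left)
    (hX : RelProj.IsHProjective X.hom)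
    (a : AlgGrp.Action G X) (g : 𝟙_ (Over (Spec (CommRingCat.of k))) ⟶ G)
    (L : X.left.Modules) (hL : PicF.IsInvertible L) (h0 : @Pic13.IsAlgEquivZero k _ X.left ⟨X.hom⟩ L) :
    Nonempty ((Scheme.Modules.pullback (lift (toUnit X ≫ g) (𝟙 X) ≫ a.act).left).obj L ≅ L) := by
  have hpr : IsProper X.hom := by
    obtain ⟨n, i, hi, hi'⟩ := hX
    rw [← hi']
    exact inferInstanceAs (IsProper (i ≫ CohB1.ProjSpaceOver.toBase n (Spec (CommRingCat.of k))))
  let _ : X.left.Over (Spec (CommRingCat.of k)) := ⟨X.hom⟩
  have : IsProper (X.left ↘ Spec (CommRingCat.of k)) := hpr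
  have h1 := (Groth.Agent.Pic13.H138.AlgEquiv.isAlgEquivZero_iff_mem hL).1 h0
  have h2 := K409.PicFix.main G X hXn a g (Groth.Agent.Grpsch.PicGrp.mk L hL) h1
  rw [Groth.Agent.Grpsch.PicGrp.pull_mk, Groth.Agent.Grpsch.PicGrp.mk_eq_iff] at h2
  exact h2

end Groth.Agent.S17475
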