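import Groth.Statements.S17476
import Groth.Agent.Dual.H375.Hartogs
import Groth.Agent.FormalB.FormalLoc
import Groth.Agent.CycB.PushStalk
import Groth.Agent.Ega4B.DepthBasic
import Groth.Agent.CalgA.SerreLocal
import Groth.Agent.CurvesB.UnitCoh
import Mathlib.AlgebraicGeometry.Properties

set_option autoImplicit false
universe u
open CategoryTheory AlgebraicGeometry Opposite
open Coh

namespace Groth.Agent.S17476

theorem injective_of (R : Type u) [CommRing R] [IsNoetherianRing R]
    (M : ModuleCat.{u} (CommRingCat.of R)) (U : (Spec (CommRingCat.of R)).Opens)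
    (h : Function.Injective ((Spec (CommRingCat.of R)).presheaf.map (homOfLE (le_top : U ≤ ⊤)).op)) :
    Function.Injective (fun φ : AlgebraicGeometry.tilde M ⟶ Coh.structureModule (Spec (CommRingCat.of R)) =>
        (Scheme.Modules.restrictFunctor U.ι).map φ) := by
  intro φ ψ hφψ
  rw [← sub_eq_zero]
  have hM : Coh.IsQCoh (AlgebraicGeometry.tilde M) := inferInstance
  refine Groth.Agent.FormalB.FormalLoc.eq_zero_of_cover hM
    (Groth.Agent.CurvesB.UnitCoh.isCoh_structureModule (Spec (CommRingCat.of R))).1 _ fun x ↦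
      ⟨⊤, trivial, isAffineOpen_top _, fun m ↦ ?_⟩
  let N := Coh.structureModule (Spec (CommRingCat.of R))
  let s : Γ(Spec (CommRingCat.of R), ⊤) := (φ - ψ).app ⊤ m
  change s = 0
  apply h
  rw [map_zero]
  -- restriction to `U`
  have hU : U.ι ''ᵁ ⊤ = U := by simp
  have h1 : ∀ y : Γ(AlgebraicGeometry.tilde M, U.ι ''ᵁ ⊤), φ.app (U.ι ''ᵁ ⊤) y = ψ.app (U.ι ''ᵁ ⊤) y :=
    fun y ↦ congr(($hφψ).app ⊤ y)
  have h2 : ∀ V : (Spec (CommRingCat.of R)).Opens, V = U → ∀ y : Γ(AlgebraicGeometry.tilde M, V),
      (φ - ψ).app V y = 0 := by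
    rintro V rfl y
    have h3 : ∀ (W : (Spec (CommRingCat.of R)).Opens) (_ : W = V)
        (_ : ∀ y : Γ(AlgebraicGeometry.tilde M, W), φ.app W y = ψ.app W y),
        (φ - ψ).app V y = 0 := by
      rintro W rfl h
      rw [Scheme.Modules.Hom.sub_app]
      exact sub_eq_zero.2 (h y)
    exact h3 _ hU h1
  have h4 := congr($((φ - ψ).mapPresheaf.naturality (homOfLE (le_top : U ≤ ⊤)).op) m)
  exact h4.symm.trans (h2 U rfl _)

/-- Let R be a Noetherian ring, Z = Spec R, M a finitely generated R-module with associated
quasi-coherent sheaf M~ (so that Hom_R(M, R) = Hom_Z(M~, O_Z)), and Z₀ ⊆ Z an open subscheme. (1) If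
the restriction of functions Γ(Z, O_Z) → Γ(Z₀, O_Z) is injective, then the restriction map Hom_Z(M~,
O_Z) → Hom_{Z₀}(M~|Z₀, O_{Z₀}) is injective. (2) If R is an integrally closed domain and the closed
complement of Z₀ has codimension at least 2 (every prime ideal outside Z₀ has height at least 2),
then that restriction map is bijective. (The published first assertion assumes only that Z₀ is
dense; for R = k[x,y]/(x², xy), M = R and Z₀ the locus y ≠ 0, which is dense, multiplication by x is
a nonzero element of Hom_R(M, R) restricting to zero, so schematic density is what is needed and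
what the printed argument uses. The published second assertion is for a normal irreducible affine
variety; any Noetherian integrally closed domain is allowed here.) -/
theorem result (R : Type u) [CommRing R] [IsNoetherianRing R]
    (M : ModuleCat.{u} (CommRingCat.of R)) [Module.Finite R M] (U : (Spec (CommRingCat.of R)).Opens) :
    (Function.Injective ((Spec (CommRingCat.of R)).presheaf.map (homOfLE (le_top : U ≤ ⊤)).op) →
      Function.Injective (fun φ : AlgebraicGeometry.tilde M ⟶ Coh.structureModule (Spec (CommRingCat.of R)) =>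
        (Scheme.Modules.restrictFunctor U.ι).map φ)) ∧
    (IsDomain R → IsIntegrallyClosed R → (∀ p : PrimeSpectrum R, p ∉ U → (2 : ℕ∞) ≤ p.asIdeal.height) →
      Function.Bijective (fun φ : AlgebraicGeometry.tilde M ⟶ Coh.structureModule (Spec (CommRingCat.of R)) =>
        (Scheme.Modules.restrictFunctor U.ι).map φ)) := by
  refine ⟨injective_of R M U, fun hdom hic hcodim ↦ ?_⟩
  have hbot : (⟨⊥, Ideal.isPrime_bot⟩ : PrimeSpectrum R) ∈ U := by
    by_contra hne
    have h1 := hcodim _ hne
    have h2 : (⊥ : Ideal R).height = 0 := Ideal.height_bot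
    change (2 : ℕ∞) ≤ (⊥ : Ideal R).height at h1
    rw [h2] at h1
    exact absurd h1 (by simp)
  have hne : (U : Set (Spec (CommRingCat.of R))).Nonempty := ⟨_, hbot⟩
  have hint : IsIntegral (Spec (CommRingCat.of R)) := inferInstance
  have hinj : Function.Injective
      ((Spec (CommRingCat.of R)).presheaf.map (homOfLE (le_top : U ≤ ⊤)).op) := by
    have : Nonempty U := ⟨⟨_, hbot⟩⟩
    exact map_injective_of_isIntegral _ (homOfLE (le_top : U ≤ ⊤))
  refine ⟨injective_of R M U hinj, fun α ↦ ?_⟩
  refine Groth.Agent.Dual.H375.Hartogs.exists_extend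
    (Groth.Agent.CurvesB.UnitCoh.isCoh_structureModule (Spec (CommRingCat.of R))) U ?_ α
  intro x hx
  have hh : (2 : ℕ∞) ≤ x.asIdeal.height := hcodim x hx
  let S := (Spec (CommRingCat.of R)).presheaf.stalk x
  let e : Localization.AtPrime x.asIdeal ≃+* S := (StructureSheaf.stalkIso R x).toRingEquiv
  have h1 : ringKrullDim S = x.asIdeal.height :=
    (ringKrullDim_eq_of_ringEquiv e).symm.trans
      (IsLocalization.AtPrime.ringKrullDim_eq_height x.asIdeal (Localization.AtPrime x.asIdeal))
  have h2 : IsDomain S := inferInstance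
  have h3' : IsIntegrallyClosed (Localization.AtPrime x.asIdeal) :=
    isIntegrallyClosed_of_isLocalization (R := R) (S := Localization.AtPrime x.asIdeal)
      x.asIdeal.primeCompl x.asIdeal.primeCompl_le_nonZeroDivisors
  have h3 : IsIntegrallyClosed S := IsIntegrallyClosed.of_equiv e
  have h4 : 2 ≤ LocCoh.depth S S := by
    refine Groth.Agent.CalgA.SerreLocal.two_le_depth_of_isIntegrallyClosed ?_
    rw [h1]
    intro h5
    have h6 : x.asIdeal.height ≤ (1 : ℕ∞) := by exact_mod_cast h5
    exact absurd (hh.trans h6) (by norm_num)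
  rw [← Groth.Agent.Ega4B.DepthBasic.depth_congr
    (Groth.Agent.CycB.PushStalk.unitStalk (Spec (CommRingCat.of R)) x)]
  exact h4

end Groth.Agent.S17476
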