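import Groth.Statements.S17477
import Groth.Agent.AlgGrp.K409.AutHilb
import Groth.Agent.S4277

set_option autoImplicit false
universe u
open CategoryTheory MonoidalCategory CartesianMonoidalCategory AlgebraicGeometry CategoryTheory.Limits
open AlgGrp

namespace Groth.Agent.S17477

/-- Over an algebraically closed field k, let X be a projective variety (an integral k-scheme with a
closed immersion into some projective space over k) and L an ample invertible O_X-module. Say that a
k-automorphism g of X fixes the numerical class of L when g^*(L) ⊗ M is numerically trivial (degree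
zero on every integral curve in X) for an inverse M of L. Then the automorphisms fixing the
numerical class of L fall into finitely many classes modulo the neutral component of the
automorphism group: there are finitely many such automorphisms s_1, …, s_n such that every
automorphism g fixing the numerical class of L is deformable to some s_i, i.e. there are a connected
k-scheme T of finite type, a T-automorphism φ of X ×_k T and k-points t₀, t₁ of T with φ_{t₀} = s_i
and φ_{t₁} = g. (The published statement says that the stabiliser of the numerical class of L in the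
group of components of the automorphism group scheme is finite; the form given here is equivalent to
it once the automorphism functor of X is represented by a group scheme locally of finite type.) -/
theorem result (k : Type u) [Field k] [IsAlgClosed k]
    (X : Over (Spec (CommRingCat.of k))) [IsIntegral X.left] (hX : RelProj.IsHProjective X.hom)
    (L : X.left.Modules) (hL : PicF.IsInvertible L) (hLa : CohB1.IsAmple L) :
    ∃ (n : ℕ) (s : Fin n → (X ≅ X)),
      (∀ i, (∀ M : X.left.Modules, PicF.IsInvertible M → Nonempty (CohB1.tensorMod L M ≅ Coh.structureModule X.left) →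
        @Pic13.IsNumEquivZero k _ X.left ⟨X.hom⟩ (CohB1.tensorMod ((Scheme.Modules.pullback (s i).hom.left).obj L) M))) ∧
      ∀ g : X ≅ X, (∀ M : X.left.Modules, PicF.IsInvertible M → Nonempty (CohB1.tensorMod L M ≅ Coh.structureModule X.left) →
        @Pic13.IsNumEquivZero k _ X.left ⟨X.hom⟩ (CohB1.tensorMod ((Scheme.Modules.pullback g.hom.left).obj L) M)) →
        ∃ (i : Fin n) (T : Over (Spec (CommRingCat.of k))) (_ : ConnectedSpace ↥T.left)
          (_ : LocallyOfFiniteType T.hom) (_ : QuasiCompact T.hom) (φ : X ⊗ T ≅ X ⊗ T)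
          (t₀ t₁ : 𝟙_ (Over (Spec (CommRingCat.of k))) ⟶ T),
          φ.hom ≫ snd X T = snd X T ∧
          lift (𝟙 X) (toUnit X ≫ t₀) ≫ φ.hom ≫ fst X T = (s i).hom ∧
          lift (𝟙 X) (toUnit X ≫ t₁) ≫ φ.hom ≫ fst X T = g.hom := by
  have hpr : IsProper X.hom := by
    obtain ⟨n, i, hi, hi'⟩ := hX
    rw [← hi']
    exact inferInstanceAs (IsProper (i ≫ CohB1.ProjSpaceOver.toBase n (Spec (CommRingCat.of k))))
  obtain ⟨M₀, hM₀, hLM⟩ := Groth.Agent.Grpsch.PicGrp.exists_inverse hL
  let J := {g : X ≅ X // ∀ M : X.left.Modules, PicF.IsInvertible M →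
    Nonempty (CohB1.tensorMod L M ≅ Coh.structureModule X.left) →
      @Pic13.IsNumEquivZero k _ X.left ⟨X.hom⟩ (CohB1.tensorMod ((Scheme.Modules.pullback g.hom.left).obj L) M)}
  have hinv : ∀ g : X ≅ X, PicF.IsInvertible ((Scheme.Modules.pullback g.hom.left).obj L) := fun g =>
    Groth.Agent.Fdesc.LocGen.isInvertible_pullback g.hom.left hL
  obtain ⟨n, s, hs⟩ := K409.AutHilb.exists_finite X hLa (J := J) (fun g => g.1)
    (fun g => CohB1.tensorMod ((Scheme.Modules.pullback g.1.hom.left).obj L) M₀)
    (fun g => Groth.Agent.Fdesc.LocGen.isInvertible_tensorMod (hinv g.1) hM₀)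
    (fun g => by
      let _ : X.left.Over (Spec (CommRingCat.of k)) := ⟨X.hom⟩
      have : IsProper (X.left ↘ Spec (CommRingCat.of k)) := hpr
      exact Groth.Agent.S4277.result k X.left _ (Groth.Agent.Fdesc.LocGen.isInvertible_tensorMod (hinv g.1) hM₀)
        (g.2 M₀ hM₀ hLM))
    (fun g => by
      have h1 := Groth.Agent.Fdesc.LocGen.isInvertible_tensorMod (hinv g.1) hM₀
      rw [← Groth.Agent.Grpsch.PicGrp.mk_eq_iff (hinv g.1) (Groth.Agent.Fdesc.LocGen.isInvertible_tensorMod hL h1),
        ← Groth.Agent.Grpsch.PicGrp.mk_mul_mk hL h1, ← Groth.Agent.Grpsch.PicGrp.mk_mul_mk (hinv g.1) hM₀]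
      have h2 : Groth.Agent.Grpsch.PicGrp.mk L hL * Groth.Agent.Grpsch.PicGrp.mk M₀ hM₀ = 1 :=
        (Groth.Agent.Grpsch.PicGrp.mk_eq_one_iff _).2 hLM
      rw [mul_left_comm, h2, mul_one])
  refine ⟨n, fun i => (s i).1, fun i => (s i).2, fun g hg => ?_⟩
  exact hs ⟨g, hg⟩

end Groth.Agent.S17477
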