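import Groth.Statements.S17479
import Groth.Agent.AlgGrp.K409.AmpleFix
import Groth.Agent.Ega3B.SerreTwist
import Groth.Agent.S17474

set_option autoImplicit false
universe u
open CategoryTheory MonoidalCategory CartesianMonoidalCategory MonObj GrpObj AlgebraicGeometry CategoryTheory.Limits
open AlgGrp

namespace Groth.Agent.S17479

open Groth.Agent.Grpsch.PicGrp

lemma aux {P : Type*} [CommMonoid P] (x y z : P) (h : x * z = 1) (h' : y * z = 1) : x = y := by
  calc x = x * (y * z) := by rw [h', _root_.mul_one]
    _ = x * z * y := by rw [_root_.mul_comm y, _root_.mul_assoc]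
    _ = y := by rw [h, _root_.one_mul]

/-- Over an algebraically closed field k, let X be a projective variety (an integral k-scheme with a
closed immersion into some projective space over k) whose Picard variety is trivial: every
invertible O_X-module algebraically equivalent to zero is isomorphic to O_X. Let G be a connected
k-group scheme of finite type acting faithfully on X (for every k-scheme T, a T-point of G acting as
the identity on X × T is the unit). Then G is affine. (The published statement is that the neutral
component of the reduced automorphism group of X is linear; linear is read as affine, and the form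
here is its consequence for connected algebraic groups acting faithfully, which are closed subgroup
schemes of the neutral component of the automorphism group scheme. For a non-reduced such group this
says slightly more than the published corollary: one also uses that a Noetherian scheme whose
reduction is affine is affine.) -/
theorem result (k : Type u) [Field k] [IsAlgClosed k]
    (G X : Over (Spec (CommRingCat.of k))) [GrpObj G] [LocallyOfFiniteType G.hom] [QuasiCompact G.hom]
    [ConnectedSpace ↥G.left] [IsIntegral X.left] (hX : RelProj.IsHProjective X.hom)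
    (hPic : ∀ L : X.left.Modules, PicF.IsInvertible L → @Pic13.IsAlgEquivZero k _ X.left ⟨X.hom⟩ L →
      Nonempty (L ≅ Coh.structureModule X.left))
    (a : AlgGrp.Action G X)
    (hfaith : ∀ (T : Over (Spec (CommRingCat.of k))) (g : T ⟶ G),
      lift (fst T X ≫ g) (snd T X) ≫ a.act = snd T X → g = toUnit T ≫ η[G]) :
    IsAffine G.left := by
  have := K409.AmpleFix.isProper_of_isHProjective X.hom hX
  obtain ⟨n, i, hi, hi'⟩ := hX
  let L : X.left.Modules := Groth.Agent.Ega3B.ProjFrame.lineOne n i
  have hLa : CohB1.IsAmple L := Groth.Agent.Ega3B.SerreTwist.isAmple_lineOne n i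
  obtain ⟨M, hM, hLM⟩ := exists_inverse hLa.1
  refine K409.AmpleFix.isAffine_of_fix a hfaith L hLa fun g => ?_
  have h1 := Groth.Agent.S17474.result k G X ⟨n, i, hi, hi'⟩ a g L M hLa.1 hM hLM
  have h2 : PicF.IsInvertible ((Scheme.Modules.pullback (lift (toUnit X ≫ g) (𝟙 X) ≫ a.act).left).obj L) :=
    Groth.Agent.Fdesc.LocGen.isInvertible_pullback _ hLa.1
  have h3 : mk _ h2 * mk M hM = 1 :=
    (mk_mul_mk h2 hM).trans ((mk_eq_one_iff _).2 (hPic _ (Groth.Agent.Fdesc.LocGen.isInvertible_tensorMod h2 hM) h1))
  have h4 : mk L hLa.1 * mk M hM = 1 := (mk_mul_mk hLa.1 hM).trans ((mk_eq_one_iff _).2 hLM)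
  exact (mk_eq_iff h2 hLa.1).1 (aux _ _ _ h3 h4)

end Groth.Agent.S17479
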