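import Groth.Statements.S17480
import Groth.Agent.AlgGrp.K409.QuotAff
import Groth.Agent.Agf.H584.QBasic
import Groth.Agent.Sga3.H739.ImageFl
import Groth.Agent.S3278
import Groth.Agent.S3036
import Groth.Agent.S3037
import Groth.Agent.Sga3B.SsKer

set_option autoImplicit false
universe u
open CategoryTheory MonoidalCategory CartesianMonoidalCategory MonObj GrpObj AlgebraicGeometry CategoryTheory.Limits
open AlgGrp

namespace Groth.Agent.S17480

open Groth.Agent Groth.Agent.Agf.H584.QBasic Groth.Agent.Sga3.H739.Fpqc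

/-- Over an algebraically closed field k, let G be a connected linear algebraic group (a smooth, affine,
connected k-group scheme), i : H → G a closed subgroup scheme (not necessarily reduced), j : H⁰ → H
its neutral component (an open subgroup scheme which is connected), and n : N → G the normaliser of
H⁰ in G. Let Q₁ = G/H and Q₂ = G/N be the quotients (G-actions with base points o₁, o₂ whose orbit
maps are flat and surjective, with G × H ≅ G ×_{Q₁} G and likewise for N), and let f : Q₁ → Q₂ be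
the morphism under which the orbit map of o₁ composes to the orbit map of o₂ (it exists since H ⊆
N). Then f is an affine morphism. -/
theorem result (k : Type u) [Field k] [IsAlgClosed k]
    (G H H₀ N Q₁ Q₂ : Over (Spec (CommRingCat.of k))) [GrpObj G] [GrpObj H] [GrpObj H₀] [GrpObj N]
    [IsAffine G.left] [Smooth G.hom] [ConnectedSpace ↥G.left]
    (i : H ⟶ G) [IsMonHom i] (hi : IsClosedImmersion i.left)
    (j : H₀ ⟶ H) [IsMonHom j] (hj : IsOpenImmersion j.left) [ConnectedSpace ↥H₀.left]
    (n : N ⟶ G) (hN : Red.IsNormalizerOf (j ≫ i) n)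
    (a₁ : AlgGrp.Action G Q₁) (o₁ : 𝟙_ (Over (Spec (CommRingCat.of k))) ⟶ Q₁) (hQ₁ : AGF.IsQuotient i Q₁ a₁ o₁)
    (a₂ : AlgGrp.Action G Q₂) (o₂ : 𝟙_ (Over (Spec (CommRingCat.of k))) ⟶ Q₂) (hQ₂ : AGF.IsQuotient n Q₂ a₂ o₂)
    (f : Q₁ ⟶ Q₂) (hf : a₁.orbitMap o₁ ≫ f = a₂.orbitMap o₂) :
    IsAffineHom f.left := by
  obtain ⟨hnm, hnmono, hNpts⟩ := hN
  have q₁ : IsQ i (a₁.orbitMap o₁) := isQ_of_isQuotient hQ₁
  have q₂ : IsQ n (a₂.orbitMap o₂) := isQ_of_isQuotient hQ₂
  set π₁ := a₁.orbitMap o₁ with hπ₁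
  set π₂ := a₂.orbitMap o₂ with hπ₂
  have c₂ : Cov π₂ := ⟨q₂.flat, q₂.surj, q₂.qc⟩
  -- `H ⟶ N`
  obtain ⟨w, hw⟩ : ∃ w : H ⟶ N, w ≫ n = i := by
    have h1 : (1 : H ⟶ G) ≫ π₂ = i ≫ π₂ := by
      rw [← hf, ← Category.assoc, ← Category.assoc]
      congr 1
      exact (q₁.eq_iff _ _).2 ⟨𝟙 H, by rw [_root_.one_mul, Category.id_comp]⟩
    obtain ⟨h, hh⟩ := (q₂.eq_iff _ _).1 h1
    exact ⟨h, by rw [hh, _root_.one_mul]⟩
  have hwm : IsMonHom w := by
    have : IsMonHom (w ≫ n) := by rw [hw]; infer_instance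
    exact Sga3.H739.KerPts.isMonHom_of_comp_mono w n this
  -- finiteness properties of `N`
  have hNsq : IsPullback n (toUnit N) π₂ (η[G] ≫ π₂) := by
    refine K409.QuotAff.isPullback_of_pts ?_ ?_ ?_
    · rw [← Category.assoc]
      exact ((q₂.eq_iff (1 : N ⟶ G) n).2 ⟨𝟙 N, by rw [_root_.one_mul, Category.id_comp]⟩).symm
    · intro T x y hxy
      have h1 : (1 : T ⟶ G) ≫ π₂ = x ≫ π₂ := by
        rw [hxy, ← Category.assoc]
        congr 1
        rw [toUnit_unique y (toUnit T)]
        rfl
      obtain ⟨h, hh⟩ := (q₂.eq_iff _ _).1 h1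
      exact ⟨h, by rw [hh, _root_.one_mul], toUnit_unique _ _⟩
    · intro T x y h1 _
      exact (cancel_mono n).1 h1
  have hNsq' : IsPullback n.left N.hom π₂.left (η[G] ≫ π₂).left := by
    have := hNsq.map (Over.forget _)
    exact this
  have hNl : LocallyOfFiniteType N.hom := by
    have h1 : LocallyOfFiniteType (π₂.left ≫ Q₂.hom) := by rw [Over.w]; infer_instance
    have h2 : LocallyOfFiniteType π₂.left := locallyOfFiniteType_of_comp π₂.left Q₂.hom
    exact MorphismProperty.of_isPullback hNsq' h2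
  have hNq : QuasiCompact N.hom := MorphismProperty.of_isPullback hNsq' q₂.qc
  have hnq : QuasiCompact n.left := by
    have : QuasiCompact (n.left ≫ G.hom) := by rw [Over.w]; infer_instance
    exact QuasiCompact.of_comp n.left G.hom
  have hnc : IsClosedImmersion n.left := S3036.result k N G n
  have hNa : IsAffine N.left := isAffine_of_isAffineHom n.left
  -- `H₀ ⟶ N`
  have hHl : LocallyOfFiniteType H.hom := by
    rw [← Over.w i]
    infer_instance
  have hHq : QuasiCompact H.hom := by
    rw [← Over.w i]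
    infer_instance
  have hHn : IsLocallyNoetherian H.left := LocallyOfFiniteType.isLocallyNoetherian H.hom
  have hH₀l : LocallyOfFiniteType H₀.hom := by
    rw [← Over.w j]
    infer_instance
  have hH₀q : QuasiCompact H₀.hom := by
    rw [← Over.w j]
    infer_instance
  have hjm : Mono j := by
    have : Mono j.left := inferInstance
    exact (Over.forget _).mono_of_mono_map (inferInstanceAs (Mono j.left))
  have him : Mono i := Books.AlgPtsGrp.mono_of_isClosedImmersion i
  have hzm : Mono (j ≫ w) := by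
    have : Mono ((j ≫ w) ≫ n) := by rw [Category.assoc, hw]; infer_instance
    exact mono_of_mono (j ≫ w) n
  have hzq : QuasiCompact (j ≫ w).left := quasiCompact_left _
  have hzc : IsClosedImmersion (j ≫ w).left := S3036.result k H₀ N (j ≫ w)
  have hzn : AlgGrp.IsNormalHom (j ≫ w) := by
    intro T g h
    obtain ⟨h', hh'⟩ := ((hNpts T (g ≫ n)).1 ⟨g, rfl⟩ T (𝟙 T) h).1
    refine ⟨h', ?_⟩
    rw [Category.id_comp] at hh'
    rw [← cancel_mono n, MonObj.mul_comp _ _ n, MonObj.mul_comp _ _ n, GrpObj.inv_comp]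
    simp only [Category.assoc, hw]
    exact hh'
  obtain ⟨R, _, ρ, hρm, hRa, hRl, hρf, hρs, hρk⟩ := S3278.result k N H₀ (j ≫ w) hzn
  have hρ : Cov ρ := ⟨hρf, hρs, inferInstance⟩
  have hRn : IsLocallyNoetherian R.left := LocallyOfFiniteType.isLocallyNoetherian R.hom
  have hwq : QuasiCompact (w ≫ ρ).left := quasiCompact_left _
  obtain ⟨E, _, p, ε, hpm, hεm, hpε, hp, hεc⟩ := Sga3.H739.ImageFl.exists_image (w ≫ ρ)
  have hεmono : Mono ε := Books.AlgPtsGrp.mono_of_isClosedImmersion ε
  have hEl : LocallyOfFiniteType E.hom := by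
    rw [← Over.w ε]
    infer_instance
  have hEq : QuasiCompact E.hom := by
    rw [← Over.w ε]
    infer_instance
  have hEf : IsFinite E.hom := by
    have h1 : (j ≫ p) = toUnit H₀ ≫ η[E] := by
      rw [← cancel_mono ε]
      simp only [Category.assoc]
      rw [hpε, IsMonHom.one_hom, ← Category.assoc]
      exact hρk.w
    have hEn : IsLocallyNoetherian E.left := LocallyOfFiniteType.isLocallyNoetherian E.hom
    have hpl : LocallyOfFiniteType p.left := by
      have : LocallyOfFiniteType (p.left ≫ E.hom) := by rw [Over.w]; infer_instance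
      exact locallyOfFiniteType_of_comp p.left E.hom
    have hpf : Flat p.left := hp.flat
    have hpo : IsOpenMap p.left := p.left.isOpenMap
    have hsub : Subsingleton ↥(𝟙_ (Over (Spec (CommRingCat.of k)))).left :=
      inferInstanceAs (Subsingleton (Spec (CommRingCat.of k)))
    have h1l : LocallyOfFiniteType (𝟙_ (Over (Spec (CommRingCat.of k)))).hom :=
      inferInstanceAs (LocallyOfFiniteType (𝟙 (Spec (CommRingCat.of k))))
    have hdisc : DiscreteTopology E.left := by
      apply Sga3B.SsKer.discreteTopology_of_isOpen_pt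
      have h2 : ({Books.AlgPts.pt η[E]} : Set E.left) = p.left '' (Set.range j.left) := by
        have h3 : ∀ x : H₀.left, p.left (j.left x) = Books.AlgPts.pt η[E] := by
          intro x
          have h4 : p.left (j.left x) = (j ≫ p).left x := by simp
          rw [h4, h1, Over.comp_left, Scheme.Hom.comp_apply]
          exact congrArg _ (Subsingleton.elim _ _)
        ext y
        constructor
        · rintro rfl
          exact ⟨_, ⟨Classical.arbitrary H₀.left, rfl⟩, h3 _⟩
        · rintro ⟨_, ⟨x, rfl⟩, rfl⟩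
          exact h3 x
      rw [h2]
      exact hpo _ j.left.isOpenEmbedding.isOpen_range
    have h5 : DiscreteTopology ↥(Limits.pullback (toUnit E).left
        (η[𝟙_ (Over (Spec (CommRingCat.of k)))] : 𝟙_ (Over (Spec (CommRingCat.of k))) ⟶ _).left) := by
      have h7 : IsIso (η[𝟙_ (Over (Spec (CommRingCat.of k)))] :
          𝟙_ (Over (Spec (CommRingCat.of k))) ⟶ _) := ⟨𝟙 _, toUnit_unique _ _, toUnit_unique _ _⟩
      have h8 : IsIso (η[𝟙_ (Over (Spec (CommRingCat.of k)))] :
          𝟙_ (Over (Spec (CommRingCat.of k))) ⟶ _).left :=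
        inferInstanceAs (IsIso ((Over.forget (Spec (CommRingCat.of k))).map
          (η[𝟙_ (Over (Spec (CommRingCat.of k)))] : 𝟙_ (Over (Spec (CommRingCat.of k))) ⟶ _)))
      exact (pullback.fst (toUnit E).left (η[𝟙_ (Over (Spec (CommRingCat.of k)))] :
          𝟙_ (Over (Spec (CommRingCat.of k))) ⟶ _).left).homeomorph.symm.discreteTopology
    have h6 : QuasiCompact (toUnit E).left := hEq
    exact (S3037.result k E (𝟙_ _) (toUnit E)).2 h5
  exact K409.QuotAff.isAffineHom_of_tower i n w hw π₁ q₁ π₂ q₂ f hf ρ hρ (fun {T} x y hxy => by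
      have h1 : (x⁻¹ * y) ≫ ρ = 1 := by
        rw [MonObj.mul_comp _ _ ρ, GrpObj.inv_comp, hxy, inv_mul_cancel]
      obtain ⟨h, hh⟩ := Sga3.H739.KerPts.exists_lift hρk _ h1
      exact ⟨h ≫ j, by rw [Category.assoc, hh, mul_inv_cancel_left]⟩) p hp ε hpε

end Groth.Agent.S17480
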