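import Groth.Statements.S17481
import Groth.Agent.AlgGrp.K408.AlmFin
import Groth.Agent.AlgGrp.K408.NodeGFin
import Groth.Agent.AlgGrp.K402.AutRep
import Groth.Agent.AlgGrp.K402.AlmC
import Groth.Agent.AlgGrp.K244.AlmNodes
import Groth.Agent.Resolve.K588.HProj
import Groth.Agent.S17477

set_option autoImplicit false
universe u
open CategoryTheory MonoidalCategory CartesianMonoidalCategory MonObj GrpObj AlgebraicGeometry CategoryTheory.Limits
open AlgGrp

namespace Groth.Agent.S17481

/-- Over an algebraically closed field k, let X be a normal projective variety (an integral k-scheme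
whose local rings are integrally closed domains, with a closed immersion into some projective space
over k) which is almost homogeneous under a linear algebraic group: a smooth, connected, affine
k-group scheme G₀ acts on X and the orbit map of some k-point x of X has open image (a dense open
orbit). Then, first, every reduced k-group scheme of finite type G acting faithfully on X (for every
k-scheme T, a T-point of G acting as the identity on X × T is the unit) is affine; and second, the
k-automorphisms of X fall into finitely many classes modulo deformation: there are finitely many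
k-automorphisms s_1, …, s_n of X such that for every k-automorphism g of X there are an index i, a
connected k-scheme T of finite type, a T-automorphism φ of X ×_k T and k-points t₀, t₁ of T with
φ_{t₀} = s_i and φ_{t₁} = g. (The published statement is that the automorphism group Aut(X) is a
linear algebraic group, i.e. affine and of finite type, with finitely many connected components. The
first assertion here is its consequence for reduced algebraic groups acting faithfully, which are
closed subgroups of Aut(X); the second is equivalent to the finiteness of the group of components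
once the automorphism functor of X is represented by a group scheme locally of finite type whose
connected components are of finite type.) -/
theorem result (k : Type u) [Field k] [IsAlgClosed k]
    (G₀ X : Over (Spec (CommRingCat.of k))) [GrpObj G₀]
    [IsAffine G₀.left] [Smooth G₀.hom] [ConnectedSpace ↥G₀.left]
    [IsIntegral X.left] (hXn : Pi1.IsNormalScheme X.left) (hX : RelProj.IsHProjective X.hom)
    (a₀ : AlgGrp.Action G₀ X) (x : 𝟙_ (Over (Spec (CommRingCat.of k))) ⟶ X)
    (hx : IsOpen (Set.range ⇑(a₀.orbitMap x).left.base)) :
    (∀ (G : Over (Spec (CommRingCat.of k))) [GrpObj G] [LocallyOfFiniteType G.hom] [QuasiCompact G.hom]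
        [IsReduced G.left] (a : AlgGrp.Action G X),
        (∀ (T : Over (Spec (CommRingCat.of k))) (g : T ⟶ G),
          lift (fst T X ≫ g) (snd T X) ≫ a.act = snd T X → g = toUnit T ≫ η[G]) →
        IsAffine G.left) ∧
    ∃ (n : ℕ) (s : Fin n → (X ≅ X)), ∀ g : X ≅ X,
        ∃ (i : Fin n) (T : Over (Spec (CommRingCat.of k))) (_ : ConnectedSpace ↥T.left)
          (_ : LocallyOfFiniteType T.hom) (_ : QuasiCompact T.hom) (φ : X ⊗ T ≅ X ⊗ T)
          (t₀ t₁ : 𝟙_ (Over (Spec (CommRingCat.of k))) ⟶ T),
          φ.hom ≫ snd X T = snd X T ∧
          lift (𝟙 X) (toUnit X ≫ t₀) ≫ φ.hom ≫ fst X T = (s i).hom ∧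
          lift (𝟙 X) (toUnit X ≫ t₁) ≫ φ.hom ≫ fst X T = g.hom := by
  have hprop : IsProper X.hom := K588.HProj.isProper hX
  refine ⟨fun G _ _ _ _ a ha => K244.AlmNodes.nodeB k G₀ X hXn hX a₀ x hx G a ha, ?_⟩
  obtain ⟨-, L, hLa⟩ := (K588.HProj.iff_ample X.hom).1 hX
  obtain ⟨n, s, -, hs⟩ := Groth.Agent.S17477.result k X hX L hLa.1 hLa
  exact K408.AlmFin.main K402.AutRep.nodeA K244.AlmNodes.nodeB K402.AlmC.nodeC K244.AlmNodes.nodeE
    K408.NodeGFin.nodeG G₀ X hXn hX a₀ x hx L hLa ⟨n, s, fun g hg => hs g hg⟩

end Groth.Agent.S17481
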