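import Groth.Statements.S8908
import Groth.Agent.SDiv.K473.Embedded

set_option autoImplicit false
universe u
open CategoryTheory CategoryTheory.Limits AlgebraicGeometry TopologicalSpace
open SDiv

namespace Groth.Agent.S8908

/-- Let X be a locally Noetherian scheme and F a coherent O_X-module. The coherent subsheaves K ⊆ F
whose support is nowhere dense in Supp(F) have a largest element K. Setting F' = F/K: (1) Supp(F') =
Supp(F); (2) F' has no embedded associated points; (3) there is a dense open U ⊆ X with U ∩ Supp(F)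
dense in Supp(F) over which the quotient map F → F' restricts to an isomorphism. -/
theorem result (X : Scheme.{u}) [IsLocallyNoetherian X] (F : X.Modules)
    (hF : Coh.IsCoh F) :
    ∃ K : Subobject F, Coh.IsCoh (K : X.Modules) ∧
      (∀ U : X.Opens, (U : Set ↥X) ∩ CohB1.support F ⊆ CohB1.support (K : X.Modules) → (U : Set ↥X) ∩ CohB1.support F = ∅) ∧
      (∀ K' : Subobject F, Coh.IsCoh (K' : X.Modules) →
        (∀ U : X.Opens, (U : Set ↥X) ∩ CohB1.support F ⊆ CohB1.support (K' : X.Modules) → (U : Set ↥X) ∩ CohB1.support F = ∅) →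
        K' ≤ K) ∧
      CohB1.support (cokernel K.arrow) = CohB1.support F ∧
      (∀ x : ↥X, Curv2.IsAssPoint (cokernel K.arrow) x → ∀ y : ↥X, Curv2.IsAssPoint (cokernel K.arrow) y → y ⤳ x → y = x) ∧
      ∃ U : X.Opens, Dense (U : Set ↥X) ∧ CohB1.support F ⊆ closure ((U : Set ↥X) ∩ CohB1.support F) ∧
        IsIso ((Scheme.Modules.restrictFunctor U.ι).map (cokernel.π K.arrow)) := by
  have hcl : IsClosed (CohB1.support ((K473.Embedded.sub hF : Subobject F) : X.Modules)) :=
    FormalA.Support.isClosed_support _ (K473.Embedded.isCoh_sub hF).2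
  have hsub : ∀ x ∈ CohB1.support F, ∃ η ∈ CohB1.support F,
      η ∉ CohB1.support ((K473.Embedded.sub hF : Subobject F) : X.Modules) ∧ η ⤳ x := by
    intro x hx
    obtain ⟨η, hη, hηx⟩ := K473.Embedded.exists_gen hF hx
    exact ⟨η, hη.1, K473.Embedded.gen_notMem_support_sub hF hη, hηx⟩
  refine ⟨K473.Embedded.sub hF, K473.Embedded.isCoh_sub hF, ?_, ?_,
    K473.Embedded.support_cokernel hF, ?_,
    ⟨(CohB1.support ((K473.Embedded.sub hF : Subobject F) : X.Modules))ᶜ, hcl.isOpen_compl⟩,
    ?_, ?_, ?_⟩
  · exact fun U hU => K473.Embedded.nowhereDense hF _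
      (fun η hη => K473.Embedded.gen_notMem_support_sub hF hη) U hU
  · exact fun K' hK' h => K473.Embedded.le_sub hF K' hK' h
  · intro x hx y hy hyx
    have hQ := K473.Embedded.isCoh_cokernel hF
    have hx' := K473.Embedded.mem_gen_of_cokernel hF
      ((Divis.WeakAss.isAssPoint_iff_isWeakAssPoint _ x).mp hx)
    have hy' := K473.Embedded.mem_gen_of_cokernel hF
      ((Divis.WeakAss.isAssPoint_iff_isWeakAssPoint _ y).mp hy)
    exact hx'.2 y hy'.1 hyx
  · intro x
    rw [mem_closure_iff]
    intro W hW hxW
    by_cases hx : x ∈ CohB1.support F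
    · obtain ⟨η, -, h1, h2⟩ := hsub x hx
      exact ⟨η, h2.mem_open hW hxW, h1⟩
    · exact ⟨x, hxW, fun h => hx (K473.Embedded.support_le _ h)⟩
  · intro x hx
    rw [mem_closure_iff]
    intro W hW hxW
    obtain ⟨η, h0, h1, h2⟩ := hsub x hx
    exact ⟨η, h2.mem_open hW hxW, h1, h0⟩
  · rw [S13987.isIso_restrict_iff]
    constructor
    · intro x hx hxU
      apply hxU
      have h1 : CohB1.support (kernel (cokernel.π (K473.Embedded.sub hF).arrow)) =
          CohB1.support ((K473.Embedded.sub hF : Subobject F) : X.Modules) := by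
        refine (FormalA.Support.support_eq_of_iso
          (kernelSubobjectIso (cokernel.π (K473.Embedded.sub hF).arrow)).symm).trans ?_
        rw [Fga.SubobjSec.kernelSubobject_cokernel]
      rw [← h1]
      exact hx
    · intro x hx
      exact absurd (FormalA.Support.subsingleton_stalk_of_isZero
        (isZero_cokernel_of_epi _) x) hx

end Groth.Agent.S8908
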