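import Groth.Statements.S17484
import Groth.Agent.Surf.K340.ExtTwo
import Groth.Agent.Surf.K340.SlopeHom
import Groth.Agent.Fga.DimCut
import Groth.Agent.Lefpen.H703.ClosedSmooth
import Groth.Agent.Vancyc.H878.OmegaRank
import Groth.Agent.Krr.H487.KerRank
import Groth.Agent.Ega2.QCohLocal
import Groth.Agent.CurvesA.DimOne

set_option autoImplicit false
universe u
open CategoryTheory CategoryTheory.Limits AlgebraicGeometry
open Surf

namespace Groth.Agent.S17484

/-- Let k be an algebraically closed field of characteristic zero and X a smooth projective surface over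
k (an integral scheme of dimension two, proper over k, with all local rings regular, admitting a
closed immersion into some P^n_k over k), W a canonical sheaf of X (a second exterior power of
Ω_{X/k}), H an ample invertible O_X-module and N an invertible O_X-module such that the intersection
numbers satisfy (H·W) < (H·N), where (L·M) = χ(O_X) - χ(L) - χ(M) + χ(L ⊗ M). Then for every
coherent O_X-module F which is semistable of dimension 2 with respect to H (Gieseker semistability;
in particular F is pure of dimension two), the group Ext^2(F, F ⊗ N), computed in the category of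
O_X-modules (the Ext instance is the stated hypothesis; it holds), vanishes. (The published
statement is for a particular rational surface with N = O(-A), A the class of a fibre of its ruling,
under the hypothesis (H·(K_X + A)) < 0, and concludes that every H-semistable sheaf is prioritary;
this row states the Ext² vanishing for every smooth projective surface and every invertible N.) -/
theorem result
    (k : Type u) [Field k] [IsAlgClosed k] [CharZero k]
    (X : Scheme.{u}) [X.Over (Spec (CommRingCat.of k))] [AlgebraicGeometry.IsIntegral X]
    [IsProper (X ↘ Spec (CommRingCat.of k))]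
    (hdim : topologicalKrullDim X = 2) (hreg : ∀ x : X, IsRegularLocalRing (X.presheaf.stalk x))
    (hproj : ∃ (n : ℕ) (ι : X ⟶ CohB1.ProjSpace n k), IsClosedImmersion ι ∧
      ι ≫ CohB1.ProjSpace.toSpec n k = (X ↘ (Spec (CommRingCat.of k))))
    (W : X.Modules) (hW : ExtPow.IsExtPow 2 (Omega.sheaf (X ↘ (Spec (CommRingCat.of k)))) W)
    (H : X.Modules) (hH : CohB1.IsAmple H) (N : X.Modules) (hN : PicF.IsInvertible N)
    (hlt : FGA.intNum k X 2 ![H, W] (Coh.structureModule X) < FGA.intNum k X 2 ![H, N] (Coh.structureModule X))
    [HasExt.{u} X.Modules] (F : X.Modules) (hF : ShStab.IsSemistable k X H F 2) :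
    Subsingleton (Abelian.Ext F (CohB1.tensorMod F N) 2) := by
  have hdim' : topologicalKrullDim X = (2 : ℕ) := by rw [hdim]; norm_num
  have hNoeth := Fga.IntAdd.isNoetherian k X
  have hsm : SmoothOfRelativeDimension 2 (X ↘ Spec (CommRingCat.of k)) := by
    refine Lefpen.H703.ClosedSmooth.smoothOfRelativeDimension_of_closed _ 2 fun z hz => ⟨hreg z, ?_⟩
    rw [Fga.DimCut.ringKrullDim_stalk_eq k X z hz, hdim']
  have hWi : PicF.IsInvertible W := by
    have h2 := Vancyc.H878.OmegaRank.isFinLocFreeOfRank_omega 2 (X ↘ Spec (CommRingCat.of k))
    have h3 := Krr.H487.KerRank.isFinLocFreeOfRank_extPow h2 hW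
    rw [Nat.choose_self] at h3
    exact Ega2.QCohLocal.isFinLocFreeOfRank_one_iff.1 h3
  exact K340.ExtTwo.ext_two k hreg (fun x => (CurvesA.DimOne.ringKrullDim_stalk_le X x).trans hdim.le) hWi hW hH
    hF.1 (K340.ExtTwo.reg1_of_isPure hdim' hF.1 hF.2.1 hF.2.2.1)
    (K340.ExtTwo.isCoh_tensorMod hF.1 (K685.ResolAmple.isCoh_of_isInvertible hN))
    (fun φ => K340.SlopeHom.hom_eq_zero k hdim' hWi hH hN hlt hF φ)

end Groth.Agent.S17484
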