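import Groth.Statements.S17485
import Groth.Agent.Coherent.K360.DegenGen
import Groth.Agent.Ega3B.ProjProper

set_option autoImplicit false
universe u
open CategoryTheory CategoryTheory.Limits AlgebraicGeometry
open Coherent

namespace Groth.Agent.S17485

/-- Let k be an algebraically closed field of characteristic zero and Y a smooth projective variety over
k (an integral scheme, smooth over k, with a closed immersion into some P^n_k over k), of dimension
n. Let A = A₁ ⊕ A₂ and B = B₁ ⊕ B₂ be finite locally free O_Y-modules with A_i of rank a_i ≥ 1 and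
B_j of rank b_j ≥ 1, a₁ + a₂ ≤ b₁ + b₂, such that the sheaves Hom(A₁, B₁), Hom(A₁, B₂), Hom(A₂, B₂)
(right adjoints of A_i ⊗ -, whose existence is the stated instance hypothesis; it holds) are
globally generated while every morphism A₂ → B₁ is zero (the sheaf Hom(A₂, B₁) has no nonzero global
section). For φ : A → B let Z(φ) ⊆ Y be the closed set where φ drops rank, i.e. where the rank of φ
on fibres is less than a₁ + a₂: the zero set of the (b₁ + b₂ - a₁ - a₂)-th Fitting ideal sheaf of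
the cokernel of φ (locally generated by the maximal minors of φ). Assume b₂ ≥ a₂. Then for φ general
— for all φ in a non-empty Zariski-open subset of the finite-dimensional k-vector space Hom(A, B),
namely all φ at which some fixed nonzero polynomial in linear coordinates on Hom(A, B) does not
vanish — the set Z(φ) is either empty, or min(b₂ - a₂, b₁ + b₂ - a₁ - a₂) + 1 ≤ n and every
irreducible component of Z(φ) has dimension at most n - min(b₂ - a₂, b₁ + b₂ - a₁ - a₂) - 1. (The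
published statement says that this locus is empty or has codimension min(b₂ - a₂, b - a) + 1; the
row records the bound on every irreducible component, which is what the dimension count in the
argument gives.) -/
theorem result
    (k : Type u) [Field k] [IsAlgClosed k] [CharZero k]
    (Y : Scheme.{u}) [Y.Over (Spec (CommRingCat.of k))] [AlgebraicGeometry.IsIntegral Y]
    [Smooth (Y ↘ Spec (CommRingCat.of k))]
    (hproj : ∃ (N : ℕ) (ι : Y ⟶ CohB1.ProjSpace N k), IsClosedImmersion ι ∧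
      ι ≫ CohB1.ProjSpace.toSpec N k = (Y ↘ (Spec (CommRingCat.of k))))
    (n : ℕ) (hdim : topologicalKrullDim Y = n)
    (A₁ A₂ B₁ B₂ : Y.Modules) (a₁ a₂ b₁ b₂ : ℕ)
    (hA₁ : FlatMod.IsFinLocFreeOfRank a₁ A₁) (hA₂ : FlatMod.IsFinLocFreeOfRank a₂ A₂)
    (hB₁ : FlatMod.IsFinLocFreeOfRank b₁ B₁) (hB₂ : FlatMod.IsFinLocFreeOfRank b₂ B₂)
    (ha₁ : 1 ≤ a₁) (ha₂ : 1 ≤ a₂) (hb₁ : 1 ≤ b₁) (hb₂ : 1 ≤ b₂) (hab : a₁ + a₂ ≤ b₁ + b₂)
    [DCoh.HasSheafHom A₁] [DCoh.HasSheafHom A₂]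
    (h₁₁ : Curv2.IsGloballyGenerated ((DCoh.sheafHom A₁).obj B₁))
    (h₁₂ : Curv2.IsGloballyGenerated ((DCoh.sheafHom A₁).obj B₂))
    (h₂₂ : Curv2.IsGloballyGenerated ((DCoh.sheafHom A₂).obj B₂))
    (h₂₁ : ∀ ψ : A₂ ⟶ B₁, ψ = 0) (hab₂ : a₂ ≤ b₂) :
    ∃ (m : ℕ) (c : ((A₁ ⊞ A₂) ⟶ (B₁ ⊞ B₂)) ≃ₗ[k] (Fin m → k)) (p : MvPolynomial (Fin m) k), p ≠ 0 ∧
      ∀ φ : (A₁ ⊞ A₂) ⟶ (B₁ ⊞ B₂), MvPolynomial.eval (c φ) p ≠ 0 →
        letI Z : Set Y := ((Fitt.sheafIdeal (cokernel φ) (b₁ + b₂ - (a₁ + a₂))).support : TopologicalSpace.Closeds Y)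
        Z = ∅ ∨ (min (b₂ - a₂) (b₁ + b₂ - (a₁ + a₂)) + 1 ≤ n ∧
          ∀ T ∈ irreducibleComponents Z,
            topologicalKrullDim T ≤ ((n - (min (b₂ - a₂) (b₁ + b₂ - (a₁ + a₂)) + 1) : ℕ) : WithBot ℕ∞)) := by
  have hpr : IsProper (CohB1.ProjSpace.toSpec hproj.choose k) :=
    Groth.Agent.Ega3B.ProjProper.isProper_toSpec _ _
  have hprop : IsProper (Y ↘ Spec (CommRingCat.of k)) := by
    obtain ⟨h1, h2⟩ := hproj.choose_spec.choose_spec
    rw [← h2]
    infer_instance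
  have hcomp : CompactSpace Y := QuasiCompact.compactSpace_of_compactSpace (Y ↘ Spec (CommRingCat.of k))
  have hnoeth : IsLocallyNoetherian Y := LocallyOfFiniteType.isLocallyNoetherian (Y ↘ Spec (CommRingCat.of k))
  have hfin : Module.Finite k ((A₁ ⊞ A₂) ⟶ (B₁ ⊞ B₂)) := K706.HomFin.finite_hom k
    (Groth.Agent.Krr.H495.Rank.isFinLocFree_biprod (K360.DegenGen.isFinLocFree_of_rank hA₁)
      (K360.DegenGen.isFinLocFree_of_rank hA₂))
    (Groth.Agent.Krr.H495.Rank.isFinLocFree_biprod (K360.DegenGen.isFinLocFree_of_rank hB₁)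
      (K360.DegenGen.isFinLocFree_of_rank hB₂))
  let b := Module.finBasis k ((A₁ ⊞ A₂) ⟶ (B₁ ⊞ B₂))
  obtain ⟨p, hp0, hp⟩ := K360.DegenGen.exists_poly_block (k := k) (le_of_eq hdim) hA₁ hA₂ hB₁ hB₂
    (fun V hV => K360.DegenChart.linSpan_of_gg (K360.DegenGen.isCoh_of_rank hA₁)
      (K360.DegenGen.isCoh_of_rank hB₁).1 h₁₁ hV)
    (fun V hV => K360.DegenChart.linSpan_of_gg (K360.DegenGen.isCoh_of_rank hA₁)
      (K360.DegenGen.isCoh_of_rank hB₂).1 h₁₂ hV)
    (fun V hV => K360.DegenChart.linSpan_of_gg (K360.DegenGen.isCoh_of_rank hA₂)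
      (K360.DegenGen.isCoh_of_rank hB₂).1 h₂₂ hV) h₂₁ hab₂ hab b
  refine ⟨_, b.equivFun, p, hp0, fun φ hφ => ?_⟩
  have h1 := hp φ hφ
  by_cases hZ : ((Fitt.sheafIdeal (cokernel φ) (b₁ + b₂ - (a₁ + a₂))).support : Set Y) = ∅
  · exact Or.inl hZ
  · obtain ⟨x, hx⟩ := Set.nonempty_iff_ne_empty.2 hZ
    have h2 : min (b₂ - a₂) (b₁ + b₂ - (a₁ + a₂)) + 1 ≤ n := le_trans (Nat.le_add_left _ _) (h1 x hx)
    refine Or.inr ⟨h2, fun T hT => ?_⟩
    refine (topologicalKrullDim_subspace_le _ T).trans ?_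
    refine (K716.Td.dim_sub_le_iff (Y ↘ Spec (CommRingCat.of k)) (TopologicalSpace.Closeds.isClosed _).isLocallyClosed _).2
      fun y hy => ?_
    have h3 := h1 y hy
    omega

end Groth.Agent.S17485
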