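import Groth.Statements.S17486
import Groth.Agent.Coherent.K159.FittBound

import Groth.Agent.Dcoh.FinLocFree
import Groth.Agent.Dcoh.FTFP
import Groth.Agent.Ega2.QCohLocal

set_option autoImplicit false
universe u
open CategoryTheory CategoryTheory.Limits AlgebraicGeometry
open Coherent

namespace Groth.Agent.S17486

/-- Let k be an algebraically closed field of characteristic zero and Y a smooth projective variety over
k (an integral scheme, smooth over k, with a closed immersion into some P^n_k over k). Let A = A₁ ⊕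
A₂ and B = B₁ ⊕ B₂ be finite locally free O_Y-modules with A_i of rank a_i ≥ 1 and B_j of rank b_j ≥
1, a₁ + a₂ ≤ b₁ + b₂, such that the sheaves Hom(A₁, B₁), Hom(A₁, B₂), Hom(A₂, B₂) (right adjoints of
A_i ⊗ -, whose existence is the stated instance hypothesis; it holds) are globally generated while
every morphism A₂ → B₁ is zero (the sheaf Hom(A₂, B₁) has no nonzero global section). For φ : A → B
let Z(φ) ⊆ Y be the closed set where φ drops rank, i.e. where the rank of φ on fibres is less than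
a₁ + a₂: the zero set of the (b₁ + b₂ - a₁ - a₂)-th Fitting ideal sheaf of the cokernel of φ
(locally generated by the maximal minors of φ). If b₂ < a₂, then every φ : A → B drops rank at every
point of Y, i.e. Z(φ) = Y. -/
theorem result
    (k : Type u) [Field k] [IsAlgClosed k] [CharZero k]
    (Y : Scheme.{u}) [Y.Over (Spec (CommRingCat.of k))] [AlgebraicGeometry.IsIntegral Y]
    [Smooth (Y ↘ Spec (CommRingCat.of k))]
    (hproj : ∃ (N : ℕ) (ι : Y ⟶ CohB1.ProjSpace N k), IsClosedImmersion ι ∧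
      ι ≫ CohB1.ProjSpace.toSpec N k = (Y ↘ (Spec (CommRingCat.of k))))
    (A₁ A₂ B₁ B₂ : Y.Modules) (a₁ a₂ b₁ b₂ : ℕ)
    (hA₁ : FlatMod.IsFinLocFreeOfRank a₁ A₁) (hA₂ : FlatMod.IsFinLocFreeOfRank a₂ A₂)
    (hB₁ : FlatMod.IsFinLocFreeOfRank b₁ B₁) (hB₂ : FlatMod.IsFinLocFreeOfRank b₂ B₂)
    (ha₁ : 1 ≤ a₁) (ha₂ : 1 ≤ a₂) (hb₁ : 1 ≤ b₁) (hb₂ : 1 ≤ b₂) (hab : a₁ + a₂ ≤ b₁ + b₂)
    [DCoh.HasSheafHom A₁] [DCoh.HasSheafHom A₂]
    (h₁₁ : Curv2.IsGloballyGenerated ((DCoh.sheafHom A₁).obj B₁))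
    (h₁₂ : Curv2.IsGloballyGenerated ((DCoh.sheafHom A₁).obj B₂))
    (h₂₂ : Curv2.IsGloballyGenerated ((DCoh.sheafHom A₂).obj B₂))
    (h₂₁ : ∀ ψ : A₂ ⟶ B₁, ψ = 0) (hlt : b₂ < a₂) (φ : (A₁ ⊞ A₂) ⟶ (B₁ ⊞ B₂)) :
    (((Fitt.sheafIdeal (cokernel φ) (b₁ + b₂ - (a₁ + a₂))).support : TopologicalSpace.Closeds Y) : Set Y) = Set.univ := by
    have lf : ∀ {n : ℕ} {M : Y.Modules}, FlatMod.IsFinLocFreeOfRank n M → FlatMod.IsFinLocFree M :=
      fun h x ↦ by
        obtain ⟨U, hU, h⟩ := h x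
        exact ⟨U, _, hU, h⟩
    have qc : ∀ {M : Y.Modules}, FlatMod.IsFinLocFree M → Coh.IsQCoh M := fun h ↦
      Groth.Agent.Ega2.QCohLocal.isQCoh_of_isFinLocFree h
    have hA : FlatMod.IsFinLocFree (A₁ ⊞ A₂) :=
      Groth.Agent.Dcoh.FinLocFree.isFinLocFree_biprod (lf hA₁) (lf hA₂)
    have hB : FlatMod.IsFinLocFree (B₁ ⊞ B₂) :=
      Groth.Agent.Dcoh.FinLocFree.isFinLocFree_biprod (lf hB₁) (lf hB₂)
    let ψ : A₁ ⟶ B₁ := biprod.inl ≫ φ ≫ biprod.fst
    let p : cokernel φ ⟶ cokernel ψ := cokernel.desc φ (biprod.fst ≫ cokernel.π ψ) (by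
      apply biprod.hom_ext'
      · rw [comp_zero]
        calc biprod.inl ≫ φ ≫ biprod.fst ≫ cokernel.π ψ
            = (biprod.inl ≫ φ ≫ biprod.fst) ≫ cokernel.π ψ := by simp only [Category.assoc]
          _ = 0 := cokernel.condition ψ
      · have := h₂₁ (biprod.inr ≫ φ ≫ biprod.fst)
        have h2 := congrArg (fun t ↦ t ≫ cokernel.π ψ) this
        simpa using h2)
    have hp : Epi p := by
      have : Epi (cokernel.π φ ≫ p) := by
        rw [cokernel.π_desc]
        exact epi_comp _ _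
      exact epi_of_epi (cokernel.π φ) p
    rw [Set.eq_univ_iff_forall]
    intro x
    by_contra hx
    have := K159.FittBound.rank_le hA₁ hB₁ ψ (qc (lf hA₁)) (qc (lf hB₁))
      (Groth.Agent.S2304.isQCoh_cokernel φ (qc hA) (qc hB))
      (Groth.Agent.Dcoh.FTFP.isFT_of_epi_finLocFree hB (cokernel.π φ)) p x hx
    omega

end Groth.Agent.S17486
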