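import Groth.Statements.S17489
import Groth.Agent.Coherent.K360.DegenFree

set_option autoImplicit false
universe u
open CategoryTheory CategoryTheory.Limits AlgebraicGeometry
open Coherent

namespace Groth.Agent.S17489

/-- Let k be an algebraically closed field of characteristic zero and P = P²_k with its line bundles
O(m). Fix natural numbers α₁, α₂, α₃ and consider morphisms φ : O(-2)^{α₁} → O(-1)^{α₂} ⊕ O^{α₃}
(candidate Gaeta resolutions for the sequence (O(-2), O(-1), O)), which form a finite-dimensional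
k-vector space; 'for general φ' means: for all φ at which some fixed nonzero polynomial in linear
coordinates on that space does not vanish. If r = α₂ + α₃ - α₁ ≥ 2, then for general φ the map φ is
a monomorphism and its cokernel F_φ is finite locally free of rank r. -/
theorem result
    (k : Type u) [Field k] [IsAlgClosed k] [CharZero k] (α₁ α₂ α₃ : ℕ) (hr : α₁ + 2 ≤ α₂ + α₃) :
    letI P := CohB1.ProjSpace 2 k
    letI A : P.Modules := ∐ fun _ : Fin α₁ => Twist.twistProjSpace 2 k (-2)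
    letI B : P.Modules := (∐ fun _ : Fin α₂ => Twist.twistProjSpace 2 k (-1)) ⊞ (∐ fun _ : Fin α₃ => Coh.structureModule P)
    ∃ (m : ℕ) (c : (A ⟶ B) ≃ₗ[k] (Fin m → k)) (p : MvPolynomial (Fin m) k), p ≠ 0 ∧
      ∀ φ : A ⟶ B, MvPolynomial.eval (c φ) p ≠ 0 →
        Mono φ ∧ FlatMod.IsFinLocFreeOfRank (α₂ + α₃ - α₁) (cokernel φ) := by
  let P := CohB1.ProjSpace 2 k
  let A : P.Modules := ∐ fun _ : Fin α₁ => Twist.twistProjSpace 2 k (-2)
  let B : P.Modules := (∐ fun _ : Fin α₂ => Twist.twistProjSpace 2 k (-1)) ⊞ (∐ fun _ : Fin α₃ => Coh.structureModule P)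
  change ∃ (m : ℕ) (c : (A ⟶ B) ≃ₗ[k] (Fin m → k)) (p : MvPolynomial (Fin m) k), p ≠ 0 ∧
      ∀ φ : A ⟶ B, MvPolynomial.eval (c φ) p ≠ 0 →
        Mono φ ∧ FlatMod.IsFinLocFreeOfRank (α₂ + α₃ - α₁) (cokernel φ)
  have hA : FlatMod.IsFinLocFreeOfRank α₁ A := by
    have h := K935.CoprodRank.isFinLocFreeOfRank_sigma (fun _ : Fin α₁ => Twist.twistProjSpace 2 k (-2)) (fun _ => 1)
      fun _ => K54.HodgePn.rank_one (n := 2) (A := k) (-2)
    simpa using h
  have hB₁ : FlatMod.IsFinLocFreeOfRank α₂ (∐ fun _ : Fin α₂ => Twist.twistProjSpace 2 k (-1)) := by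
    have h := K935.CoprodRank.isFinLocFreeOfRank_sigma (fun _ : Fin α₂ => Twist.twistProjSpace 2 k (-1)) (fun _ => 1)
      fun _ => K54.HodgePn.rank_one (n := 2) (A := k) (-1)
    simpa using h
  have hB₂ : FlatMod.IsFinLocFreeOfRank α₃ (∐ fun _ : Fin α₃ => Coh.structureModule P) := by
    have h := K935.CoprodRank.isFinLocFreeOfRank_sigma (fun _ : Fin α₃ => Coh.structureModule P) (fun _ => 1)
      fun _ => Groth.Agent.Krr.H495.Rank.isFinLocFreeOfRank_structureModule
    simpa using h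
  have hB : FlatMod.IsFinLocFreeOfRank (α₂ + α₃) B := Groth.Agent.Krr.H495.Rank.rank_biprod hB₁ hB₂
  have hprop : IsProper (CohB1.ProjSpace.toSpec 2 k) := Groth.Agent.Ega3B.ProjProper.isProper_toSpec _ _
  have hprop' : IsProper (P ↘ Spec (CommRingCat.of k)) := hprop
  have hint : AlgebraicGeometry.IsIntegral P := K711.ProjDim.isIntegral_projSpace 2 k
  have hdim : topologicalKrullDim P = (2 : ℕ) := K711.ProjDim.topologicalKrullDim_projSpace 2 k
  have hcomp : CompactSpace P := QuasiCompact.compactSpace_of_compactSpace (P ↘ Spec (CommRingCat.of k))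
  have hfin : Module.Finite k (A ⟶ B) := K706.HomFin.finite_hom k (K360.DegenGen.isFinLocFree_of_rank hA)
    (K360.DegenGen.isFinLocFree_of_rank hB)
  let b := Module.finBasis k (A ⟶ B)
  obtain ⟨i₀⟩ := Groth.Agent.S10962.nonempty_twist_zero (n := 2) (R := k)
  have hS : ∀ x : P, ∃ U : P.Opens, x ∈ U ∧ ∀ V : P.Opens, V ≤ U → IsAffineOpen V → K360.DegenChart.LinSpan A B V := by
    intro x
    obtain ⟨U₁, hx₁, hU₁⟩ := K360.DegenFree.linSpan_twist 2 k (-2) 1 (-1) (by norm_num) x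
    obtain ⟨U₂, hx₂, hU₂⟩ := K360.DegenFree.linSpan_twist 2 k (-2) 2 0 (by norm_num) x
    refine ⟨U₁ ⊓ U₂, ⟨hx₁, hx₂⟩, fun V hV _ => ?_⟩
    refine K360.DegenChart.linSpan_sigma_left _ fun _ => K360.DegenChart.linSpan_biprod_right
      (K360.DegenChart.linSpan_sigma_right _ fun _ => hU₁ V (hV.trans inf_le_left))
      (K360.DegenChart.linSpan_sigma_right _ fun _ => K360.DegenFree.linSpan_iso i₀ (hU₂ V (hV.trans inf_le_right)))
  have hab : α₁ ≤ α₂ + α₃ := by omega
  have key : ∃ p : MvPolynomial (Fin (Module.finrank k (A ⟶ B))) k, p ≠ 0 ∧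
      ∀ φ : A ⟶ B, MvPolynomial.eval (b.equivFun φ) p ≠ 0 →
        ∀ x, x ∉ (Fitt.sheafIdeal (cokernel φ) (α₂ + α₃ - α₁)).support := by
    rcases Nat.eq_zero_or_pos α₁ with h0 | h0
    · subst h0
      refine ⟨1, one_ne_zero, fun φ _ x hx => ?_⟩
      obtain ⟨U₁, hx₁, hU₁⟩ := K360.DegenGen.exists_basis_nhds hA x
      obtain ⟨U₂, hx₂, hU₂⟩ := K360.DegenGen.exists_basis_nhds hB x
      obtain ⟨V, hV, hxV, hVU⟩ := exists_isAffineOpen_mem_and_subset (x := x) (U := U₁ ⊓ U₂) ⟨hx₁, hx₂⟩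
      obtain ⟨e⟩ := hU₁ V (hVU.trans inf_le_left)
      obtain ⟨f⟩ := hU₂ V (hVU.trans inf_le_right)
      rw [Groth.Agent.SDiv.K474.FittLoc.mem_support_iff_le _ hV hxV, K360.DegenChart.fitt_ideal e f
        (K360.DegenGen.isCoh_of_rank hA).1 (K360.DegenGen.isCoh_of_rank hB).1 (K360.DegenGen.isCoh_of_rank hB).2 φ hV,
        Fintype.card_fin, Nat.sub_zero, Nat.sub_self, K821.Minors.minorIdeal_zero, top_le_iff] at hx
      exact (hV.primeIdealOf ⟨x, hxV⟩).2.ne_top hx
    · obtain ⟨p, hp0, hp⟩ := K360.DegenGen.exists_poly_rank (k := k) (le_of_eq hdim) hA hB hS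
        (r := α₁ - 1) (by omega) (by omega) b
      refine ⟨p, hp0, fun φ hφ x hx => ?_⟩
      have h1 : α₂ + α₃ - (α₁ - 1) - 1 = α₂ + α₃ - α₁ := by omega
      have h2 := hp φ hφ x (by rw [h1]; exact hx)
      have h3 : α₁ - (α₁ - 1) = 1 := by omega
      rw [h3, one_mul] at h2
      omega
  obtain ⟨p, hp0, hp⟩ := key
  exact ⟨_, b.equivFun, p, hp0, fun φ hφ => K360.DegenFree.mono_and_locFree hA hB hab φ (hp φ hφ)⟩

end Groth.Agent.S17489
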