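import Groth.Statements.S17493
import Groth.Agent.HiggsSt.K161.Main
import Groth.Agent.Lift.K696.OmFree

set_option autoImplicit false
attribute [-instance] CategoryTheory.catToReflQuiver
universe u
open CategoryTheory CategoryTheory.Limits AlgebraicGeometry
open HiggsSt

namespace Groth.Agent.S17493

/-- Let k be an algebraically closed field and X a smooth proper geometrically connected curve over k
(topological dimension one) — the text's setting is a smooth projective complex curve — with sheaf
of differentials K = Ω_{X/k}; fix r ≥ 1 and d ∈ ℤ. Then the forgetful functor from the category over
k-schemes of Higgs bundles of rank r and degree d (over T: a T-flat finite locally free module E of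
rank r on X_T whose geometric fibres all have degree d, meaning Euler characteristic minus r times
that of the structure sheaf, together with a module map E → E ⊗ K_T for K_T a pull-back of K;
morphisms: isomorphisms with pull-backs compatible with the Higgs fields) to the category of rank-r,
degree-d vector bundles is schematic: for every k-scheme U and every functor from the slice category
of U to the target over k-schemes, the 2-fibre product is equivalent over k-schemes to the slice
category of some k-scheme. (The text works over the complex numbers; an arbitrary algebraically
closed field is assumed here.) -/
theorem result (k : Type u) [Field k] [IsAlgClosed k]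
    (X : Scheme.{u}) [X.Over (Spec (CommRingCat.of k))] [IsProper (X ↘ Spec (CommRingCat.of k))] [Smooth (X ↘ Spec (CommRingCat.of k))]
    [GeometricallyConnected (X ↘ Spec (CommRingCat.of k))] (hdim : topologicalKrullDim ↥X = 1)
    (r : ℕ) (hr : 1 ≤ r) (d : ℤ) :
    FibCat.IsRepresentable1
      (HiggsSt.Higgs.forget (X ↘ Spec (CommRingCat.of k)) (Omega.sheaf (X ↘ Spec (CommRingCat.of k))) r d) := by
  exact K161.Higgs.isRepresentable1_higgs (X ↘ Spec (CommRingCat.of k)) _ r d K161.Higgs.homEx
    (K696.OmFree.isFinLocFree_omega (X ↘ Spec (CommRingCat.of k)))

end Groth.Agent.S17493
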