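import Groth.Statements.S17495
import Groth.Agent.HiggsSt.K161.Main

set_option autoImplicit false
attribute [-instance] CategoryTheory.catToReflQuiver
universe u
open CategoryTheory CategoryTheory.Limits AlgebraicGeometry
open HiggsSt

namespace Groth.Agent.S17495

/-- Let f : X → S be a proper morphism of schemes, locally of finite presentation, and F a finite
locally free O_X-module flat over S. Then the forgetful functor from the category over S-schemes of
pairs (E, φ) — over T: a finitely presented T-flat module E on a base change X_T together with a
module map φ : E → E ⊗ F_T for F_T a pull-back of F; morphisms: isomorphisms with pull-backs
compatible with φ — to the category of finitely presented flat modules is representable by algebraic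
spaces and locally of finite type: for every S-scheme U and every functor from its slice category to
the target, the 2-fibre product is equivalent over S-schemes to the category of an algebraic space
whose induced morphism to U is locally of finite type. (The published statement allows any S-flat
finitely presented quasi-coherent twisting module F; that version fails: over S = Spec k[t] take X =
Spec k[t,x]/(x(x − t)), F = O_X/(x − t) and the S-flat module E = O_X/(x); the fibre of the
forgetful functor at E is the functor sending an S-scheme T to Γ(T ×_S {t = 0}, O), which is not an
algebraic space. The argument needs E ⊗ F_T to be flat over T, which holds when F is finite locally
free, the case stated here. The text's standing data also include a condition on S — excellent, or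
Noetherian with f projective and O_S → f_*O_X universally an isomorphism — not assumed here.) -/
theorem result {X S : Scheme.{u}} (f : X ⟶ S) [IsProper f] [LocallyOfFinitePresentation f]
    (F : X.Modules) (hF : FlatMod.IsFlatOver f F) (hFlf : FlatMod.IsFinLocFree F) :
    AlgSt.RepByAlgSpWith (AlgSp.LocP @LocallyOfFiniteType) (HiggsSt.Endo.forget f F) := by
  exact K161.Higgs.repByAlgSpWith_endo f F K161.Higgs.homEx hFlf

end Groth.Agent.S17495
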