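import Groth.Statements.S17497
import Groth.Agent.S17495
import Groth.Agent.ModSt.K927.EnAlg

set_option autoImplicit false
attribute [-instance] CategoryTheory.catToReflQuiver
universe u
open CategoryTheory CategoryTheory.Limits AlgebraicGeometry
open HiggsSt

namespace Groth.Agent.S17497

/-- Let f : X → S be a proper morphism of schemes, locally of finite presentation, and F a finite
locally free O_X-module flat over S. Assume that the category over S-schemes of finitely presented
flat modules on the base changes of X is an algebraic stack for the big etale topology and is
locally of finite presentation over S, in the sense that every S-scheme with a smooth morphism to it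
(representable by algebraic spaces) is locally of finite presentation over S. Then the category over
S-schemes of pairs (E, φ) — over T: a finitely presented T-flat module E on a base change X_T
together with a module map φ : E → E ⊗ F_T for F_T a pull-back of F; morphisms: isomorphisms with
pull-backs compatible with φ — is an algebraic stack for the big etale topology, and every S-scheme
with a smooth morphism to it is locally of finite type over S. (The text derives the assumption on
the stack of finitely presented flat modules from its standing condition on S — excellent, or
Noetherian with f projective and O_S → f_*O_X universally an isomorphism — and states the conclusion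
with finite presentation in place of finite type; it also allows any S-flat finitely presented
twisting module F, for which the conclusion fails: with S = Spec k[t], X = Spec k[t,x]/(x(x − t))
and F = O_X/(x − t) the category of pairs is not algebraic, the fibre of its forgetful functor at E
= O_X/(x) being the functor T ↦ Γ(T ×_S {t = 0}, O), which is not an algebraic space.) -/
theorem result {X S : Scheme.{u}} (f : X ⟶ S) [IsProper f] [LocallyOfFinitePresentation f]
    (F : X.Modules) (hF : FlatMod.IsFlatOver f F) (hFlf : FlatMod.IsFinLocFree F)
    (hCoh : AlgSt.IsAlgStack Scheme.etalePrecoverage (ModSt.Coh f))
    (hCoh' : ∀ (U : Over S) (x : FibCat.overCat U ⥤ᵇ ModSt.Coh f),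
      AlgSt.RepByAlgSpWith (AlgSp.LocP @Smooth) x → LocallyOfFinitePresentation U.hom) :
    AlgSt.IsAlgStack Scheme.etalePrecoverage (HiggsSt.Endo f F) ∧
      ∀ (U : Over S) (x : FibCat.overCat U ⥤ᵇ HiggsSt.Endo f F),
        AlgSt.RepByAlgSpWith (AlgSp.LocP @Smooth) x → LocallyOfFiniteType U.hom := by
  exact K927.En.endo_of_rep (Groth.Agent.S17495.result f F hF hFlf) hCoh hCoh'

end Groth.Agent.S17497
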