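import Groth.Statements.S17494
import Groth.Agent.HiggsSt.K161.Field
import Groth.Agent.S17419
import Groth.Agent.S17497

set_option autoImplicit false
attribute [-instance] CategoryTheory.catToReflQuiver
universe u
open CategoryTheory CategoryTheory.Limits AlgebraicGeometry
open HiggsSt

namespace Groth.Agent.S17494

/-- Let k be an algebraically closed field and X a smooth proper geometrically connected curve over k
(topological dimension one) — the text's setting is a smooth projective complex curve — with sheaf
of differentials K = Ω_{X/k}; fix r ≥ 1 and d ∈ ℤ. Then the category over k-schemes of Higgs bundles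
of rank r and degree d (over T: a T-flat finite locally free module E of rank r on X_T whose
geometric fibres all have degree d, meaning Euler characteristic minus r times that of the structure
sheaf, together with a module map E → E ⊗ K_T for K_T a pull-back of K; morphisms: isomorphisms with
pull-backs compatible with the Higgs fields) is an algebraic stack for the big etale topology on
k-schemes, locally of finite type over k in the sense that every k-scheme with a smooth morphism to
it (a functor from its slice category, representable by algebraic spaces and smooth) is locally of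
finite type over k. (The text works over the complex numbers; an arbitrary algebraically closed
field is assumed here.) -/
theorem result (k : Type u) [Field k] [IsAlgClosed k]
    (X : Scheme.{u}) [X.Over (Spec (CommRingCat.of k))] [IsProper (X ↘ Spec (CommRingCat.of k))] [Smooth (X ↘ Spec (CommRingCat.of k))]
    [GeometricallyConnected (X ↘ Spec (CommRingCat.of k))] (hdim : topologicalKrullDim ↥X = 1)
    (r : ℕ) (hr : 1 ≤ r) (d : ℤ) :
    AlgSt.IsAlgStack Scheme.etalePrecoverage (HiggsSt.Higgs (X ↘ Spec (CommRingCat.of k)) (Omega.sheaf (X ↘ Spec (CommRingCat.of k))) r d) ∧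
      ∀ (U : Over (Spec (CommRingCat.of k))) (x : FibCat.overCat U ⥤ᵇ HiggsSt.Higgs (X ↘ Spec (CommRingCat.of k)) (Omega.sheaf (X ↘ Spec (CommRingCat.of k))) r d),
        AlgSt.RepByAlgSpWith (AlgSp.LocP @Smooth) x → LocallyOfFiniteType U.hom := by
  let f := X ↘ Spec (CommRingCat.of k)
  have hFlf : FlatMod.IsFinLocFree (Omega.sheaf f) := K161.Higgs.isFinLocFree_omega f
  have hF : FlatMod.IsFlatOver f (Omega.sheaf f) := K161.Higgs.isFlatOver_of_flf f hFlf
  obtain ⟨h1, h2⟩ := Groth.Agent.S17497.result f (Omega.sheaf f) hF hFlf
    (K161.Higgs.isAlgStack_etale_of_fppf (Groth.Agent.S17419.result f)) (K161.Higgs.lfp_charts_coh f)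
  exact ⟨K161.Higgs.isAlgStack_higgs f _ r d h1, K161.Higgs.lft_charts_higgs f _ r d h2⟩

end Groth.Agent.S17494
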