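import Groth.Statements.S17496
import Groth.Agent.ModSt.K927.EnStack

set_option autoImplicit false
universe u
open CategoryTheory CategoryTheory.Limits AlgebraicGeometry
open HiggsSt

namespace Groth.Agent.S17496

/-- Let f : X → S be a proper morphism of schemes, locally of finite presentation, and F a finite
locally free O_X-module flat over S. Then the category over S-schemes of pairs (E, φ) — over T: a
finitely presented T-flat module E on a base change X_T together with a module map φ : E → E ⊗ F_T
for F_T a pull-back of F; morphisms: isomorphisms with pull-backs compatible with φ — is a stack in
groupoids for the big etale topology on S-schemes. (The text allows any S-flat finitely presented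
quasi-coherent twisting module F and carries a condition on S — excellent, or Noetherian with f
projective and O_S → f_*O_X universally an isomorphism; here F is taken finite locally free and no
condition on S is assumed.) -/
theorem result {X S : Scheme.{u}} (f : X ⟶ S) [IsProper f] [LocallyOfFinitePresentation f]
    (F : X.Modules) (hF : FlatMod.IsFlatOver f F) (hFlf : FlatMod.IsFinLocFree F) :
    Stk.IsStack (QuotSh.J Scheme.etalePrecoverage S) (HiggsSt.Endo f F) := by
  exact K927.En.isStack_endo_etale f (Groth.Agent.Ega2.QCohLocal.isQCoh_of_isFinLocFree hFlf)

end Groth.Agent.S17496
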