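import Groth.Statements.S17500
import Mathlib.RingTheory.Flat.Tensor
import Mathlib.Data.Nat.Prime.Basic

set_option autoImplicit false
universe u
open TorsMod

namespace Groth.Agent.S17500

open TensorProduct

/-- Exactness of `R --p^(n-i)--> R --p^i--> R` for `R = ℤ/p^n`. -/
theorem exists_eq_mul_of_mul_eq_zero (p n : ℕ) [Fact p.Prime] (i : ℕ) (hi : i ≤ n)
    (x : ZMod (p ^ n)) (hx : (p ^ i : ZMod (p ^ n)) * x = 0) :
    ∃ y : ZMod (p ^ n), x = (p ^ (n - i) : ZMod (p ^ n)) * y := by
  obtain ⟨a, rfl⟩ := ZMod.natCast_zmod_surjective (n := p ^ n) x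
  have h1 : ((p ^ i * a : ℕ) : ZMod (p ^ n)) = 0 := by push_cast; exact hx
  rw [ZMod.natCast_eq_zero_iff] at h1
  have h2 : p ^ n = p ^ i * p ^ (n - i) := by rw [← pow_add, Nat.add_sub_cancel' hi]
  rw [h2] at h1
  have h3 : p ^ (n - i) ∣ a :=
    (Nat.mul_dvd_mul_iff_left (pow_pos (Fact.out (p := p.Prime)).pos i)).mp h1
  obtain ⟨b, rfl⟩ := h3
  exact ⟨(b : ZMod (p ^ n)), by push_cast; rfl⟩

theorem pow_self_eq_zero (p n : ℕ) : ((p : ZMod (p ^ n)) ^ n) = 0 := by
  have : ((p ^ n : ℕ) : ZMod (p ^ n)) = 0 := ZMod.natCast_self _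
  rwa [Nat.cast_pow] at this

/-- Every ideal of `ℤ/p^n` is generated by some `p^i`, `i ≤ n`. -/
theorem exists_eq_span (p n : ℕ) [Fact p.Prime] (I : Ideal (ZMod (p ^ n))) :
    ∃ i ≤ n, I = Ideal.span {(p : ZMod (p ^ n)) ^ i} := by
  classical
  let f : ℤ →+* ZMod (p ^ n) := Int.castRingHom _
  have hf : Function.Surjective f := ZMod.intCast_surjective
  obtain ⟨a, ha⟩ := (IsPrincipalIdealRing.principal (Ideal.comap f I)).principal
  have hpn : ((p : ℤ) ^ n) ∈ Ideal.comap f I := by
    rw [Ideal.mem_comap]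
    have : f ((p : ℤ) ^ n) = 0 := by
      simp only [f, map_pow, eq_intCast, Int.cast_natCast]
      exact pow_self_eq_zero p n
    rw [this]
    exact I.zero_mem
  rw [ha] at hpn
  have hdvd : a ∣ (p : ℤ) ^ n := (Submodule.mem_span_singleton.mp hpn).elim
    (fun c hc => ⟨c, by rw [← hc, smul_eq_mul, mul_comm]⟩)
  have hdvd' : a.natAbs ∣ p ^ n := by
    have := Int.natAbs_dvd_natAbs.mpr hdvd
    rwa [Int.natAbs_pow, Int.natAbs_natCast] at this
  obtain ⟨i, hi, hai⟩ := (Nat.dvd_prime_pow (Fact.out (p := p.Prime))).mp hdvd'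
  refine ⟨i, hi, ?_⟩
  have h1 : I = Ideal.map f (Ideal.comap f I) := (Ideal.map_comap_of_surjective f hf I).symm
  have h2 : Ideal.comap f I = Ideal.span {(p : ℤ) ^ i} := by
    rw [ha]
    change Ideal.span {a} = _
    rw [Ideal.span_singleton_eq_span_singleton]
    have h3 : Associated a ((a.natAbs : ℕ) : ℤ) := Int.associated_natAbs a
    rw [hai] at h3
    simpa using h3
  rw [h1, h2, Ideal.map_span, Set.image_singleton]
  simp [f]

/-- Let p be a prime number, n a natural number and H a module over ℤ/p^nℤ. Then H is flat over ℤ/p^nℤ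
if and only if, for every i with 0 ≤ i ≤ n, the kernel of multiplication by p^i on H coincides with
the image of multiplication by p^(n-i) on H. (The published item is phrased for an fppf sheaf of
ℤ/p^nℤ-modules on a scheme; this is the case of a single module, which is the case the argument
treats.) -/
theorem result (p n : ℕ) [Fact p.Prime]
    (H : Type u) [AddCommGroup H] [Module (ZMod (p ^ n)) H] :
    Module.Flat (ZMod (p ^ n)) H ↔
      ∀ i : ℕ, i ≤ n →
        LinearMap.ker ((p ^ i : ZMod (p ^ n)) • (LinearMap.id : H →ₗ[ZMod (p ^ n)] H)) =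
          LinearMap.range ((p ^ (n - i) : ZMod (p ^ n)) • (LinearMap.id : H →ₗ[ZMod (p ^ n)] H)) := by
  have key : ∀ i ≤ n, ((p : ZMod (p ^ n)) ^ i) * ((p : ZMod (p ^ n)) ^ (n - i)) = 0 := by
    intro i hi
    rw [← pow_add, Nat.add_sub_cancel' hi]
    exact pow_self_eq_zero p n
  constructor
  · intro hflat i hi
    apply le_antisymm
    · intro h hh
      rw [LinearMap.mem_ker, LinearMap.smul_apply, LinearMap.id_apply] at hh
      have hex : Function.Exact
          ((p ^ (n - i) : ZMod (p ^ n)) • (LinearMap.id : ZMod (p ^ n) →ₗ[ZMod (p ^ n)] ZMod (p ^ n)))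
          ((p ^ i : ZMod (p ^ n)) • (LinearMap.id : ZMod (p ^ n) →ₗ[ZMod (p ^ n)] ZMod (p ^ n))) := by
        intro x
        constructor
        · intro hx
          obtain ⟨y, hy⟩ := exists_eq_mul_of_mul_eq_zero p n i hi x hx
          exact ⟨y, hy.symm⟩
        · rintro ⟨y, rfl⟩
          change (p : ZMod (p ^ n)) ^ i * ((p : ZMod (p ^ n)) ^ (n - i) * y) = 0
          rw [← mul_assoc, key i hi, zero_mul]
      have hex2 := Module.Flat.rTensor_exact H hex
      have h1 : (LinearMap.rTensor H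
          ((p ^ i : ZMod (p ^ n)) • (LinearMap.id : ZMod (p ^ n) →ₗ[ZMod (p ^ n)] ZMod (p ^ n))))
          ((1 : ZMod (p ^ n)) ⊗ₜ[ZMod (p ^ n)] h) = 0 := by
        rw [LinearMap.rTensor_tmul, LinearMap.smul_apply, LinearMap.id_apply,
          TensorProduct.smul_tmul, hh, TensorProduct.tmul_zero]
      obtain ⟨z, hz⟩ := (hex2 _).mp h1
      refine ⟨TensorProduct.lid _ _ z, ?_⟩
      have h2 : ∀ z : ZMod (p ^ n) ⊗[ZMod (p ^ n)] H,
          TensorProduct.lid (ZMod (p ^ n)) H ((LinearMap.rTensor H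
          ((p ^ (n - i) : ZMod (p ^ n)) • (LinearMap.id : ZMod (p ^ n) →ₗ[ZMod (p ^ n)] ZMod (p ^ n)))) z)
          = (p ^ (n - i) : ZMod (p ^ n)) • TensorProduct.lid (ZMod (p ^ n)) H z := by
        intro z
        rw [LinearMap.rTensor_smul, LinearMap.rTensor_id, LinearMap.smul_apply, LinearMap.id_apply,
          map_smul]
      rw [LinearMap.smul_apply, LinearMap.id_apply, ← h2 z, hz, TensorProduct.lid_tmul, one_smul]
    · rintro _ ⟨h, rfl⟩
      rw [LinearMap.mem_ker, LinearMap.smul_apply, LinearMap.id_apply, LinearMap.smul_apply,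
        LinearMap.id_apply, smul_smul, key i hi, zero_smul]
  · intro hyp
    rw [Module.Flat.iff_lift_lsmul_comp_subtype_injective]
    intro I _
    obtain ⟨i, hi, rfl⟩ := exists_eq_span p n I
    rw [injective_iff_map_eq_zero]
    intro z hz
    let c : Ideal.span {(p : ZMod (p ^ n)) ^ i} := ⟨(p : ZMod (p ^ n)) ^ i, Ideal.mem_span_singleton_self _⟩
    have hsurj : ∃ h : H, z = c ⊗ₜ[ZMod (p ^ n)] h := by
      clear hz
      induction z using TensorProduct.induction_on with
      | zero => exact ⟨0, by rw [TensorProduct.tmul_zero]⟩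
      | tmul x h =>
        obtain ⟨x, hx⟩ := x
        obtain ⟨a, rfl⟩ := Ideal.mem_span_singleton'.mp hx
        refine ⟨a • h, ?_⟩
        rw [← TensorProduct.smul_tmul]
        rfl
      | add x y hx hy =>
        obtain ⟨h, rfl⟩ := hx
        obtain ⟨h', rfl⟩ := hy
        exact ⟨h + h', by rw [TensorProduct.tmul_add]⟩
    obtain ⟨h, rfl⟩ := hsurj
    have hz' : (p : ZMod (p ^ n)) ^ i • h = 0 := by
      simpa [c] using hz
    have hmem : h ∈ LinearMap.ker ((p ^ i : ZMod (p ^ n)) • (LinearMap.id : H →ₗ[ZMod (p ^ n)] H)) := by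
      rw [LinearMap.mem_ker, LinearMap.smul_apply, LinearMap.id_apply]
      exact hz'
    rw [hyp i hi] at hmem
    obtain ⟨h', hh'⟩ := hmem
    rw [LinearMap.smul_apply, LinearMap.id_apply] at hh'
    rw [← hh', ← TensorProduct.smul_tmul]
    have : (p ^ (n - i) : ZMod (p ^ n)) • c = 0 := by
      apply Subtype.ext
      change (p : ZMod (p ^ n)) ^ (n - i) * (p : ZMod (p ^ n)) ^ i = 0
      rw [mul_comm, key i hi]
    rw [this, TensorProduct.zero_tmul]

end Groth.Agent.S17500
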