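import Groth.Statements.S17502
import Groth.Agent.Coherent.K57.SuppDim
import Groth.Agent.Coherent.K57.RankStep
import Groth.Agent.Surf.K465.ProjH

set_option autoImplicit false
universe u
open CategoryTheory CategoryTheory.Limits MonoidalCategory CartesianMonoidalCategory MonObj GrpObj AlgebraicGeometry
open Coherent

namespace Groth.Agent.S17502

section Paths

/-- The weights `0, 1, 1 + n, (1 + n)², …`. -/
def w : ℕ → ℕ → ℕ
  | 0, _ => 0
  | e + 1, n => (1 + n) ^ e

theorem w_mono (e : ℕ) {m n : ℕ} (h : m ≤ n) : w e m ≤ w e n := by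
  cases e with
  | zero => exact le_rfl
  | succ e => exact Nat.pow_le_pow_left (by omega) e

theorem mul_w_le (e n : ℕ) : n * w e n ≤ w (e + 1) n := by
  cases e with
  | zero => simp [w]
  | succ e =>
    change n * (1 + n) ^ e ≤ (1 + n) ^ (e + 1)
    rw [pow_succ, mul_comm]
    exact Nat.mul_le_mul_left _ (by omega)

theorem one_le_w (e n : ℕ) : 1 ≤ w (e + 1) n := Nat.one_le_pow _ _ (by omega)

variable {r : ℕ}

/-- `|a_1| + ⋯ + |a_r|` -/
def nu (a : Fin r → ℤ) : ℕ := ∑ j, (a j).natAbs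

theorem nu_single (a : Fin r → ℤ) (j : Fin r) (c : ℤ) :
    nu (a + Pi.single j c) + (a j).natAbs = nu a + (a j + c).natAbs := by
  classical
  unfold nu
  rw [← Finset.add_sum_erase _ _ (Finset.mem_univ j), ← Finset.add_sum_erase Finset.univ
    (fun j => (a j).natAbs) (Finset.mem_univ j)]
  have h : ∑ x ∈ Finset.univ.erase j, ((a + Pi.single j c : Fin r → ℤ) x).natAbs =
      ∑ x ∈ Finset.univ.erase j, (a x).natAbs := by
    refine Finset.sum_congr rfl fun x hx => ?_
    rw [Pi.add_apply, Pi.single_eq_of_ne (Finset.ne_of_mem_erase hx), add_zero]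
  rw [h, Pi.add_apply, Pi.single_eq_same]
  omega

theorem eq_zero_of_nu {a : Fin r → ℤ} (h : nu a = 0) : a = 0 := by
  funext j
  have := (Finset.sum_eq_zero_iff.mp h) j (Finset.mem_univ j)
  simpa using this

/-- Every nonzero vector is one step away from a smaller one. -/
theorem exists_step {a : Fin r → ℤ} {n : ℕ} (h : nu a = n + 1) :
    ∃ (b : Fin r → ℤ) (j : Fin r), nu b = n ∧ (a = b + Pi.single j 1 ∨ b = a + Pi.single j 1) := by
  have hex : ∃ j, a j ≠ 0 := by
    by_contra hcon
    push Not at hcon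
    have : nu a = 0 := Finset.sum_eq_zero fun j _ => by rw [hcon j]; rfl
    omega
  obtain ⟨j, hj⟩ := hex
  rcases lt_or_gt_of_ne hj with h1 | h1
  · refine ⟨a + Pi.single j 1, j, ?_, Or.inr rfl⟩
    have := nu_single a j 1
    omega
  · refine ⟨a + Pi.single j (-1), j, ?_, Or.inl ?_⟩
    · have := nu_single a j (-1)
      omega
    · rw [add_assoc, ← Pi.single_add, neg_add_cancel, Pi.single_zero, add_zero]

theorem path_ind {P : (Fin r → ℤ) → Prop} (h0 : P 0)
    (h1 : ∀ a j, P a → P (a + Pi.single j 1)) (h2 : ∀ a j, P (a + Pi.single j 1) → P a)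
    (a : Fin r → ℤ) : P a := by
  suffices h : ∀ n (a : Fin r → ℤ), nu a = n → P a from h _ a rfl
  intro n
  induction n with
  | zero => intro a ha; rw [eq_zero_of_nu ha]; exact h0
  | succ n ih =>
    intro a ha
    obtain ⟨b, j, hb, h | h⟩ := exists_step ha
    · rw [h]; exact h1 b j (ih b hb)
    · exact h2 a j (h ▸ ih b hb)

theorem path_bound {H : (Fin r → ℤ) → ℕ} {B : ℕ → ℕ} (hB : ∀ m n, m ≤ n → B m ≤ B n)
    (h : ∀ a j, H a ≤ H (a + Pi.single j 1) + B (max (nu a) (nu (a + Pi.single j 1))) ∧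
      H (a + Pi.single j 1) ≤ H a + B (max (nu a) (nu (a + Pi.single j 1)))) (a : Fin r → ℤ) :
    H a ≤ H 0 + nu a * B (nu a) := by
  suffices h : ∀ n (a : Fin r → ℤ), nu a = n → H a ≤ H 0 + n * B n from h _ a rfl
  intro n
  induction n with
  | zero => intro a ha; rw [eq_zero_of_nu ha]; simp
  | succ n ih =>
    intro a ha
    obtain ⟨b, j, hb, hab⟩ := exists_step ha
    have hmax : max (nu a) (nu b) = n + 1 := by omega
    have h1 : H a ≤ H b + B (n + 1) := by
      rcases hab with hab | hab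
      · have := (h b j).2
        rw [← hab, max_comm, hmax] at this
        exact this
      · have := (h a j).1
        rw [← hab, hmax] at this
        exact this
    have h2 := ih b hb
    have h3 : n * B n ≤ n * B (n + 1) := Nat.mul_le_mul_left _ (hB _ _ (Nat.le_succ n))
    have h4 : (n + 1) * B (n + 1) = n * B (n + 1) + B (n + 1) := by ring
    omega

end Paths

open Groth.Agent Groth.Agent.CohqB.SerTw Groth.Agent.Fdesc.LocGen Groth.Agent.Ega2
  Groth.Agent.Ega2.TensGen K57.Rank K57.HypSeq K57.SuppDim K57.RankStep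

section Inv

variable {X : Scheme.{u}}

theorem isInvertible_of_tensor {M L : X.Modules} (hL : PicF.IsInvertible L)
    (h : PicF.IsInvertible (CohB1.tensorMod M L)) : PicF.IsInvertible M := by
  rw [isInvertible_iff]
  intro x
  obtain ⟨U₁, e₁, hx₁, he₁⟩ := (isInvertible_iff L).mp hL x
  obtain ⟨U₂, e₂, hx₂, he₂⟩ := (isInvertible_iff _).mp h x
  let U := U₁ ⊓ U₂
  have he : IsGen (res L (inf_le_left : U ≤ U₁) e₁) := he₁.res _
  have hg : IsGen (res _ (inf_le_right : U ≤ U₂) e₂) := he₂.res _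
  obtain ⟨t, ht⟩ := exists_eq_tmul (F := M) he (res _ (inf_le_right : U ≤ U₂) e₂)
  refine ⟨U, t, ⟨hx₁, hx₂⟩, fun V hV => ?_⟩
  rw [ht] at hg
  have h1 := hg V hV
  rw [res_tmul] at h1
  have h2 := tmul_gen_bijective (F := M) (he.res hV)
  have h3 : (fun a : Γ(X, V) => a • tmul (res M hV t) (res L hV (res L inf_le_left e₁))) =
      (fun t => tmul t (res L hV (res L inf_le_left e₁))) ∘ (fun a : Γ(X, V) => a • res M hV t) := by
    funext a
    exact (smul_tmul a _ _).symm
  rw [h3] at h1
  exact (Function.Bijective.of_comp_iff' h2 _).mp h1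

end Inv

section Main

variable {k : Type u} [Field k] {Y : Scheme.{u}} [Y.Over (Spec (CommRingCat.of k))]
  [IsProper (Y ↘ Spec (CommRingCat.of k))] {r : ℕ} {Lb : Fin r → Y.Modules}
  (hLb : ∀ j, PicF.IsInvertible (Lb j)) {F : (Fin r → ℤ) → Y.Modules}
  (hF0 : Nonempty (F 0 ≅ Coh.structureModule Y))
  (hF : ∀ (a : Fin r → ℤ) (j : Fin r),
    Nonempty (F (a + Pi.single j 1) ≅ CohB1.tensorMod (F a) (Lb j)))

theorem isInvertible_one (Y : Scheme.{u}) : PicF.IsInvertible (Coh.structureModule Y) := by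
  rw [isInvertible_iff]
  exact fun x => ⟨⊤, one ⊤, trivial, isGen_one ⊤⟩

include hLb hF0 hF in
theorem inv_F (a : Fin r → ℤ) : PicF.IsInvertible (F a) := by
  refine path_ind (P := fun a => PicF.IsInvertible (F a)) ?_ ?_ ?_ a
  · obtain ⟨e⟩ := hF0
    exact isInvertible_of_iso e.symm (isInvertible_one Y)
  · intro a j h
    obtain ⟨e⟩ := hF a j
    exact isInvertible_of_iso e.symm (isInvertible_tensorMod h (hLb j))
  · intro a j h
    obtain ⟨e⟩ := hF a j
    exact isInvertible_of_tensor (hLb j) (isInvertible_of_iso e h)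

omit [IsProper (Y ↘ Spec (CommRingCat.of k))] in
theorem h_eq_zero_of_isZero {M : Y.Modules} (hM : IsZero M) (i : ℕ) : h k M i = 0 := by
  have h0 : 𝟙 M = 0 := hM.eq_of_src _ _
  have : Subsingleton (Coh.HH Y M i) := by
    refine subsingleton_of_forall_eq 0 fun x => ?_
    have h1 : Groth.Agent.FormalA.HHLin.HHmap k (𝟙 M) i x = x := by
      rw [Groth.Agent.FormalA.HHLin.HHmap_id]; rfl
    rw [← h1, h0, Groth.Agent.FormalB.HHLes.HHmap_zero]
    rfl
  exact Module.finrank_zero_of_subsingleton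

theorem vanishOn_top_of_dim {G : Y.Modules} (hd : topologicalKrullDim (CohB1.support G) < 0) :
    VanishOn G ⊤ := by
  intro V _ s
  refine VarietyB.ExactLoc.eq_zero_of_germ s fun y hy => ?_
  have h : y ∉ CohB1.support G := by
    intro hs
    have : Nonempty (TopologicalSpace.IrreducibleCloseds (CohB1.support G)) :=
      ⟨⟨closure {⟨y, hs⟩}, isIrreducible_singleton.closure, isClosed_closure⟩⟩
    exact absurd (Order.krullDim_nonneg (α := TopologicalSpace.IrreducibleCloseds (CohB1.support G)))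
      (not_le.mpr hd)
  have h' : Subsingleton (G.presheaf.stalk y) := not_not.mp h
  exact Subsingleton.elim _ _

/-- `(G ⊗ (O ⊗ B)) ⊗ P' ≅ (G ⊗ (L ⊗ B)) ⊗ P` if `P' ≅ P ⊗ L`. -/
noncomputable def exch (G B P P' L : Y.Modules) (e : P' ≅ CohB1.tensorMod P L) :
    CohB1.tensorMod (CohB1.tensorMod G (CohB1.tensorMod (Coh.structureModule Y) B)) P' ≅
      CohB1.tensorMod (CohB1.tensorMod G (CohB1.tensorMod L B)) P :=
  Tens.mapTIso (Tens.mapTIso (Iso.refl G) (Tens.lunit B)) (e ≪≫ Tens.swap P L) ≪≫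
    (Tens.assoc (CohB1.tensorMod G B) L P).symm ≪≫
    Tens.mapTIso (Tens.assoc G B L ≪≫ Tens.mapTIso (Iso.refl G) (Tens.swap B L)) (Iso.refl P)

include hLb hF0 hF in
theorem key {A : Y.Modules} (hA : CohB1.IsAmple A) (d : ℕ) (hdim : topologicalKrullDim Y ≤ d)
    (e : ℕ) : ∀ G : Y.Modules, Coh.IsCoh G →
      topologicalKrullDim (CohB1.support G) < (e : WithBot ℕ∞) →
      ∃ C : ℕ, ∀ (i : ℕ) (a : Fin r → ℤ), h k (CohB1.tensorMod G (F a)) i ≤ C * w e (nu a) := by
  have hnoeth := isNoetherian_of_isProper (Y ↘ Spec (CommRingCat.of k))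
  have hinv := inv_F hLb hF0 hF
  induction e with
  | zero =>
    intro G hG hd
    refine ⟨0, fun i a => ?_⟩
    rw [h_eq_zero_of_isZero (isZero_of_vanishOn_top
      ((vanishOn_top_of_dim (by exact_mod_cast hd)).tensorMod (hinv a)))]
    exact Nat.zero_le _
  | succ e ih =>
    intro G hG hd
    have hstep : ∀ j : Fin r, ∃ D : ℕ, ∀ (i : ℕ) (a : Fin r → ℤ),
        h k (CohB1.tensorMod G (F a)) i ≤ h k (CohB1.tensorMod G (F (a + Pi.single j 1))) i +
          D * w e (max (nu a) (nu (a + Pi.single j 1))) ∧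
        h k (CohB1.tensorMod G (F (a + Pi.single j 1))) i ≤ h k (CohB1.tensorMod G (F a)) i +
          D * w e (max (nu a) (nu (a + Pi.single j 1))) := by
      intro j
      obtain ⟨N₁, h₁⟩ := exists_section (Y ↘ Spec (CommRingCat.of k)) hA (isInvertible_one Y) hG hd
      obtain ⟨N₂, h₂⟩ := exists_section (Y ↘ Spec (CommRingCat.of k)) hA (hLb j) hG hd
      obtain ⟨s, hs1, hs2⟩ := h₁ (max N₁ N₂) (le_max_left _ _)
      obtain ⟨t, ht1, ht2⟩ := h₂ (max N₁ N₂) (le_max_right _ _)
      have hB := isInvertible_tensorPow hA.1 (max N₁ N₂)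
      have cs : Coh.IsCoh (CohB1.tensorMod G (CohB1.tensorMod (Coh.structureModule Y)
          (CohB1.tensorPow A (max N₁ N₂)))) :=
        isCoh_tensorMod hG (isInvertible_tensorMod (isInvertible_one Y) hB)
      have ct : Coh.IsCoh (CohB1.tensorMod G (CohB1.tensorMod (Lb j)
          (CohB1.tensorPow A (max N₁ N₂)))) :=
        isCoh_tensorMod hG (isInvertible_tensorMod (hLb j) hB)
      obtain ⟨c₁, hc₁⟩ := ih _ (isCoh_kernel (mulSec (sec s ⊤) G) hG cs.1) hs1
      obtain ⟨c₂, hc₂⟩ := ih _ (isCoh_cokernel (mulSec (sec s ⊤) G) hG.1 cs) hs2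
      obtain ⟨c₃, hc₃⟩ := ih _ (isCoh_kernel (mulSec (sec t ⊤) G) hG ct.1) ht1
      obtain ⟨c₄, hc₄⟩ := ih _ (isCoh_cokernel (mulSec (sec t ⊤) G) hG.1 ct) ht2
      refine ⟨c₁ + c₂ + c₃ + c₄, fun i a => ?_⟩
      obtain ⟨ee⟩ := hF a j
      have e1 := compare (mulSec (sec t ⊤) G) hG ct (hinv a) (fun i => hc₃ i a) (fun i => hc₄ i a) i
      have e2 := compare (mulSec (sec s ⊤) G) hG cs (hinv (a + Pi.single j 1))
        (fun i => hc₁ i _) (fun i => hc₂ i _) i
      have e3 := h_congr (k := k) (exch G (CohB1.tensorPow A (max N₁ N₂)) (F a)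
        (F (a + Pi.single j 1)) (Lb j) ee) i
      have m1 := w_mono e (le_max_left (nu a) (nu (a + Pi.single j 1)))
      have m2 := w_mono e (le_max_right (nu a) (nu (a + Pi.single j 1)))
      have p3 := Nat.mul_le_mul_left c₃ m1
      have p4 := Nat.mul_le_mul_left c₄ m1
      have p1 := Nat.mul_le_mul_left c₁ m2
      have p2 := Nat.mul_le_mul_left c₂ m2
      have hexp : (c₁ + c₂ + c₃ + c₄) * w e (max (nu a) (nu (a + Pi.single j 1))) =
          c₁ * w e (max (nu a) (nu (a + Pi.single j 1))) +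
          c₂ * w e (max (nu a) (nu (a + Pi.single j 1))) +
          c₃ * w e (max (nu a) (nu (a + Pi.single j 1))) +
          c₄ * w e (max (nu a) (nu (a + Pi.single j 1))) := by ring
      rw [hexp]
      constructor <;> omega
    choose D hD using hstep
    have hB : ∀ m n : ℕ, m ≤ n → (∑ j, D j) * w e m ≤ (∑ j, D j) * w e n := fun m n hmn =>
      Nat.mul_le_mul_left _ (w_mono e hmn)
    refine ⟨(∑ i ∈ Finset.range (d + 1), h k (CohB1.tensorMod G (F 0)) i) + ∑ j, D j,
      fun i a => ?_⟩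
    have hpath := path_bound (H := fun a => h k (CohB1.tensorMod G (F a)) i) hB (fun a j => by
      have h1 := hD j i a
      have h2 : D j * w e (max (nu a) (nu (a + Pi.single j 1))) ≤
          (∑ j, D j) * w e (max (nu a) (nu (a + Pi.single j 1))) :=
        Nat.mul_le_mul_right _ (Finset.single_le_sum (f := D) (fun _ _ => Nat.zero_le _)
          (Finset.mem_univ j))
      constructor <;> omega) a
    have h0 : h k (CohB1.tensorMod G (F 0)) i ≤
        ∑ i ∈ Finset.range (d + 1), h k (CohB1.tensorMod G (F 0)) i := by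
      by_cases hi : i < d + 1
      · exact Finset.single_le_sum (f := fun i => h k (CohB1.tensorMod G (F 0)) i)
          (fun _ _ => Nat.zero_le _) (Finset.mem_range.mpr hi)
      · have : Subsingleton (Coh.HH Y (CohB1.tensorMod G (F 0)) i) :=
          CohtopA.NoethVanish.subsingleton_H_of_krullDim (X := (Y : TopCat.{u})) d hdim
            (Coh.toAb (CohB1.tensorMod G (F 0))) i (by omega)
        have hz : h k (CohB1.tensorMod G (F 0)) i = 0 := Module.finrank_zero_of_subsingleton
        rw [hz]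
        exact Nat.zero_le _
    have h3 : nu a * ((∑ j, D j) * w e (nu a)) ≤ (∑ j, D j) * w (e + 1) (nu a) := by
      rw [mul_left_comm]
      exact Nat.mul_le_mul_left _ (mul_w_le e (nu a))
    have h4 : h k (CohB1.tensorMod G (F 0)) i ≤
        (∑ i ∈ Finset.range (d + 1), h k (CohB1.tensorMod G (F 0)) i) * w (e + 1) (nu a) :=
      h0.trans (Nat.le_mul_of_pos_right _ (one_le_w e _))
    rw [add_mul]
    exact hpath.trans (add_le_add h4 h3)

end Main

theorem pow_bound (n d : ℕ) : (1 + n) ^ d ≤ 2 ^ d * (1 + n ^ d) := by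
  rcases Nat.eq_zero_or_pos n with rfl | hn
  · rw [add_zero, one_pow]
    exact Nat.one_le_iff_ne_zero.mpr (by positivity)
  · calc (1 + n) ^ d ≤ (2 * n) ^ d := Nat.pow_le_pow_left (by omega) d
      _ = 2 ^ d * n ^ d := mul_pow _ _ _
      _ ≤ 2 ^ d * (1 + n ^ d) := Nat.mul_le_mul_left _ (by omega)

/-- Let k be a field, Y a projective k-scheme of dimension d (a k-scheme with a closed immersion c into
projective N-space over k, compatible with the structure morphisms, whose underlying topological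
space has Krull dimension d), L_1, …, L_r invertible O_Y-modules, and F a family of O_Y-modules
indexed by a ∈ ℤ^r with F(0) ≅ O_Y and F(a + e_j) ≅ F(a) ⊗ L_j for all a and j, so that F(a) ≅
L_1^{⊗ a_1} ⊗ ⋯ ⊗ L_r^{⊗ a_r} for every a. Then there is a real constant C > 0, depending only on Y
and the L_j, such that dim_k H^i(Y, F(a)) ≤ C · (1 + |a|^d) for every i and every a, where |a| =
|a_1| + ⋯ + |a_r|. (The published statement prints the exponent as the number r of line bundles
instead of the dimension d of Y; that bound fails as soon as r < d — on the projective plane with r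
= 1 and L_1 = O(1) the dimension of H^0(O(a)) grows like a²/2 — while the printed induction on d + r
over hyperplane sections yields the exponent d, which is what is stated here.) -/
theorem result
    (k : Type u) [Field k] (Y : Scheme.{u}) [Y.Over (Spec (CommRingCat.of k))]
    (N : ℕ) (c : Y ⟶ CohB1.ProjSpace N k) [IsClosedImmersion c]
    (hc : c ≫ CohB1.ProjSpace.toSpec N k = Y ↘ Spec (CommRingCat.of k))
    (d : ℕ) (hd : topologicalKrullDim ↥Y = d)
    (r : ℕ) (Lb : Fin r → Y.Modules) (hLb : ∀ j, PicF.IsInvertible (Lb j))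
    (F : (Fin r → ℤ) → Y.Modules) (hF0 : Nonempty (F 0 ≅ Coh.structureModule Y))
    (hF : ∀ (a : Fin r → ℤ) (j : Fin r), Nonempty (F (a + Pi.single j 1) ≅ CohB1.tensorMod (F a) (Lb j))) :
    ∃ C : ℝ, 0 < C ∧ ∀ (i : ℕ) (a : Fin r → ℤ),
      (Module.finrank k (Coh.HH Y (F a) i) : ℝ) ≤ C * (1 + (∑ j, |(a j : ℝ)|) ^ d) := by
  obtain ⟨hprop, hample⟩ := K465.ProjH.facts k Y c hc
  have hG : Coh.IsCoh (Coh.structureModule Y) := CurvesC.UnitCoh.isCoh_unit Y
  have hdG : topologicalKrullDim (CohB1.support (Coh.structureModule Y)) <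
      ((d + 1 : ℕ) : WithBot ℕ∞) := by
    have h1 : topologicalKrullDim (CohB1.support (Coh.structureModule Y)) ≤
        topologicalKrullDim Y := Topology.IsInducing.subtypeVal.topologicalKrullDim_le
    refine lt_of_le_of_lt (h1.trans hd.le) ?_
    exact_mod_cast Nat.lt_succ_self d
  obtain ⟨C, hC⟩ := key (k := k) hLb hF0 hF hample d hd.le (d + 1) _ hG hdG
  refine ⟨C * 2 ^ d + 1, by positivity, fun i a => ?_⟩
  have h1 : Module.finrank k (Coh.HH Y (F a) i) ≤ C * (1 + nu a) ^ d := by
    have h2 := hC i a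
    have h3 := h_congr (k := k) (Tens.lunit (F a)) i
    exact h3.symm.le.trans h2
  have h2 : Module.finrank k (Coh.HH Y (F a) i) ≤ C * (2 ^ d * (1 + nu a ^ d)) :=
    h1.trans (Nat.mul_le_mul_left _ (pow_bound _ _))
  have h3 : (∑ j, |(a j : ℝ)|) = (nu a : ℝ) := by
    unfold nu
    push_cast
    refine Finset.sum_congr rfl fun j _ => ?_
    rw [Nat.cast_natAbs, Int.cast_abs]
  rw [h3]
  have h4 : (Module.finrank k (Coh.HH Y (F a) i) : ℝ) ≤ C * (2 ^ d * (1 + (nu a : ℝ) ^ d)) := by
    exact_mod_cast h2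
  have h5 : (0 : ℝ) ≤ 1 + (nu a : ℝ) ^ d := by positivity
  nlinarith

end Groth.Agent.S17502
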