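import Groth.Statements.S17506
import Groth.Agent.ThetaRep.K997.Exist

set_option autoImplicit false
universe u
open CategoryTheory
open ThetaRep

namespace Groth.Agent.S17506

open K997.ThetaPairing K997.ThetaRepn

theorem nontrivial_of_irreducible {k Γ V : Type*} [Field k] [Group Γ] [AddCommGroup V] [Module k V]
    (ρ : Representation k Γ V) (h : ρ.IsIrreducible) : Nontrivial V := by
  have h1 : Nontrivial (Subrepresentation ρ) := inferInstance
  by_contra hV
  rw [not_nontrivial_iff_subsingleton] at hV
  obtain ⟨a, b, hab⟩ := h1
  apply hab
  apply SetLike.ext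
  intro x
  rw [Subsingleton.elim x 0]
  exact iff_of_true a.toSubmodule.zero_mem b.toSubmodule.zero_mem

theorem exists_fdRep {k : Type u} [Field k] {Γ : Type u} [Group Γ] (ι : kˣ →* Γ) {V : Type u}
    [AddCommGroup V] [Module k V] [FiniteDimensional k V] (ρ : Representation k Γ V) (h : ρ.IsIrreducible)
    (h1 : ∀ (z : kˣ) (v : V), ρ (ι z) v = (z : k) • v) :
    ∃ V : FDRep k Γ, Representation.IsIrreducible V.ρ ∧ ∀ (z : kˣ) (v : V), V.ρ (ι z) v = (z : k) • v :=
  ⟨FDRep.of ρ, h, h1⟩

/-- Let k be an algebraically closed field and Γ a group given with an injective homomorphism ι from the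
multiplicative group kˣ onto the centre of Γ, such that the quotient K = Γ/ι(kˣ) is a finite
commutative group (every commutator lies in ι(kˣ)) whose order is prime to the characteristic
exponent of k — the group of k-points of a non-degenerate theta group 1 → G_m → G → K → 1 with
rank(K) prime to char(k), non-degeneracy of the commutator pairing being the condition that ι(kˣ) is
the whole centre. A finite-dimensional representation of Γ over k has weight 1 when ι(z) acts as
multiplication by z for every z. Then Γ has an irreducible finite-dimensional representation of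
weight 1; any two irreducible finite-dimensional representations of weight 1 are equivalent; and
every irreducible finite-dimensional representation V of weight 1 satisfies (dim_k V)² = |K|. (The
published statement is about representations of the theta group scheme; under its hypotheses K is a
constant group scheme and the statement is rendered here for the group of k-points.) -/
theorem result (k : Type u) [Field k] [IsAlgClosed k]
    (Γ : Type u) [Group Γ] (ι : kˣ →* Γ) (hι : Function.Injective ι)
    (hcent : ι.range = Subgroup.center Γ) (hcomm : commutator Γ ≤ ι.range)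
    [Finite (Γ ⧸ ι.range)] (hcop : (Nat.card (Γ ⧸ ι.range)).Coprime (ringExpChar k)) :
    (∃ V : FDRep k Γ, Representation.IsIrreducible V.ρ ∧ ∀ (z : kˣ) (v : V), V.ρ (ι z) v = (z : k) • v) ∧
    (∀ V W : FDRep k Γ, Representation.IsIrreducible V.ρ → Representation.IsIrreducible W.ρ →
      (∀ (z : kˣ) (v : V), V.ρ (ι z) v = (z : k) • v) → (∀ (z : kˣ) (w : W), W.ρ (ι z) w = (z : k) • w) →
      Nonempty (Representation.Equiv V.ρ W.ρ)) ∧
    (∀ V : FDRep k Γ, Representation.IsIrreducible V.ρ → (∀ (z : kˣ) (v : V), V.ρ (ι z) v = (z : k) • v) →
      Module.finrank k V ^ 2 = Nat.card (Γ ⧸ ι.range)) := by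
  refine ⟨?_, ?_, ?_⟩
  · have hfin := indSpace_finite ι (normal_range ι hcent.le)
    have hnt := indSpace_nontrivial ι hι
    obtain ⟨σ, hσ⟩ := exists_irreducible_sub (indRep ι)
    have hfin' : FiniteDimensional k σ.toSubmodule := inferInstance
    refine exists_fdRep ι (V := ↥σ.toSubmodule) σ.toRepresentation hσ ?_
    intro z v
    apply Subtype.ext
    exact indRep_ι ι hcent.le z _
  · intro V W hV hW hV1 hW1
    have := nontrivial_of_irreducible _ hV
    have := nontrivial_of_irreducible _ hW
    exact nonempty_equiv ι hι hcent.le hcomm V.ρ hV1 W.ρ hW1 hcent.ge hV hW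
  · intro V hV hV1
    exact finrank_sq_eq_card ι hι hcent.le hcomm V.ρ hV1 hcent.ge hV

end Groth.Agent.S17506
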