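import Groth.Statements.S17512
import Groth.Agent.ThetaRep.K997.Pairing

set_option autoImplicit false
universe u
open ThetaRep

namespace Groth.Agent.S17512

/-- A subgroup generated by a commutative subgroup and an element commuting with it is commutative. -/
theorem isMulCommutative_sup_zpowers {Γ : Type u} [Group Γ] (H : Subgroup Γ) [hH : IsMulCommutative H]
    (x : Γ) (hx : x ∈ Subgroup.centralizer (H : Set Γ)) :
    IsMulCommutative (Subgroup.closure ((H : Set Γ) ∪ {x})) := by
  have hc : ∀ a ∈ (H : Set Γ) ∪ {x}, ∀ b ∈ (H : Set Γ) ∪ {x}, a * b = b * a := by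
    rintro a (ha | rfl) b (hb | rfl)
    · have := hH.is_comm.comm ⟨a, ha⟩ ⟨b, hb⟩
      exact congrArg Subtype.val this
    · exact (Subgroup.mem_centralizer_iff.mp hx a ha)
    · exact (Subgroup.mem_centralizer_iff.mp hx b hb).symm
    · rfl
  exact Subgroup.isMulCommutative_closure hc

/-- For the group of k-points of a non-degenerate theta group with constant K, let k be an algebraically
closed field and Γ a group given with an injective homomorphism ι from kˣ onto the centre of Γ such
that K = Γ/ι(kˣ) is finite and commutative (all commutators lie in ι(kˣ)) of order prime to the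
characteristic exponent of k — the group of k-points of a non-degenerate theta group 1 → G_m → G → K
→ 1 with rank(K) prime to char(k). Subgroups of K correspond to subgroups H of Γ containing ι(kˣ);
such an H is totally isotropic for the commutator pairing exactly when it is commutative, and its
orthogonal corresponds to the centralizer of H. For a subgroup H ⊇ ι(kˣ) the following are
equivalent: (i) H is commutative and maximal among commutative subgroups of Γ; (ii) H is commutative
and [H : ι(kˣ)]² = [Γ : ι(kˣ)]; (iii) H is its own centralizer. (The published lemma is for an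
arbitrary non-degenerate theta group scheme, where (iii) ⇔ (ii) ⇒ (i) always and (i) ⇒ (iii) needs k
algebraically closed; this row is the case of the group of k-points with K constant.) -/
theorem result
    (k : Type u) [Field k] [IsAlgClosed k]
    (Γ : Type u) [Group Γ] (ι : kˣ →* Γ) (hι : Function.Injective ι)
    (hcent : ι.range = Subgroup.center Γ) (hcomm : commutator Γ ≤ ι.range)
    [Finite (Γ ⧸ ι.range)] (hcop : (Nat.card (Γ ⧸ ι.range)).Coprime (ringExpChar k))
    (H : Subgroup Γ) (hH : ι.range ≤ H) :
    List.TFAE [
      IsMulCommutative H ∧ ∀ H' : Subgroup Γ, IsMulCommutative H' → H ≤ H' → H' = H,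
      IsMulCommutative H ∧ (ι.range.relIndex H) ^ 2 = ι.range.index,
      H = Subgroup.centralizer (H : Set Γ)] := by
  have key := K997.ThetaPairing.index_eq ι hι hcent.le hcomm hcent.ge hcop H
  have hle_of_comm : ∀ H' : Subgroup Γ, IsMulCommutative H' → H' ≤ Subgroup.centralizer (H' : Set Γ) := by
    intro H' h a ha
    rw [Subgroup.mem_centralizer_iff]
    intro b hb
    exact congrArg Subtype.val (h.is_comm.comm ⟨b, hb⟩ ⟨a, ha⟩)
  have hcomm_of_eq : H = Subgroup.centralizer (H : Set Γ) → IsMulCommutative H := by
    intro h
    refine ⟨⟨fun a b => Subtype.ext ?_⟩⟩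
    have hb : (b : Γ) ∈ Subgroup.centralizer (H : Set Γ) := h ▸ b.2
    exact Subgroup.mem_centralizer_iff.mp hb a a.2
  have hpos : ι.range.relIndex H ≠ 0 := by
    intro h0
    rw [h0, zero_mul] at key
    have : ι.range.index = Nat.card (Γ ⧸ ι.range) := rfl
    have h1 : 0 < Nat.card (Γ ⧸ ι.range) := Nat.card_pos
    omega
  tfae_have 1 → 3 := by
    rintro ⟨h1, h2⟩
    apply le_antisymm (hle_of_comm H h1)
    intro x hx
    have h3 := h2 _ (isMulCommutative_sup_zpowers H x hx)
      (fun a ha => Subgroup.subset_closure (Or.inl ha))
    rw [← h3]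
    exact Subgroup.subset_closure (Or.inr rfl)
  tfae_have 3 → 2 := by
    intro h
    refine ⟨hcomm_of_eq h, ?_⟩
    rw [← h] at key
    rw [pow_two, key]
  tfae_have 2 → 1 := by
    rintro ⟨h1, h2⟩
    have hle := hle_of_comm H h1
    refine ⟨h1, fun H' h' hHH' => le_antisymm ?_ hHH'⟩
    have h3 : ι.range.relIndex (Subgroup.centralizer (H : Set Γ)) = ι.range.relIndex H := by
      rw [← key, pow_two] at h2
      exact (Nat.eq_of_mul_eq_mul_left (Nat.pos_of_ne_zero hpos) h2).symm
    have h4 : Subgroup.centralizer (H : Set Γ) ≤ H := by
      rw [← Subgroup.relIndex_eq_one]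
      have h5 := Subgroup.relIndex_mul_relIndex ι.range H (Subgroup.centralizer (H : Set Γ)) hH hle
      rw [h3] at h5
      have h6 : ι.range.relIndex H * H.relIndex (Subgroup.centralizer (H : Set Γ)) =
          ι.range.relIndex H * 1 := by rw [h5, mul_one]
      exact Nat.eq_of_mul_eq_mul_left (Nat.pos_of_ne_zero hpos) h6
    refine le_trans ?_ h4
    exact (hle_of_comm H' h').trans (Subgroup.centralizer_le hHH')
  tfae_finish

end Groth.Agent.S17512
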