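import Groth.Statements.S17514
-- import your own Groth.Agent.* helpers here
import Groth.Agent.AbVar.K524.TateAlg
import Groth.Agent.S2268
import Groth.Agent.S0383
import Mathlib.AlgebraicGeometry.AlgClosed.Basic
import Mathlib.AlgebraicGeometry.Morphisms.QuasiFinite

set_option autoImplicit false
universe u
open CategoryTheory CategoryTheory.Limits MonoidalCategory CartesianMonoidalCategory MonObj GrpObj AlgebraicGeometry
open AbVar

namespace Groth.Agent.S17514

open K524.TateAlg

section

variable {S : Scheme.{u}} {X Y : Over S} [GrpObj X] [IsCommMonObj X] [GrpObj Y] [IsCommMonObj Y]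

/-- postcomposition with a homomorphism, on points written additively -/
noncomputable def ptsMap (T : Over S) (f : X ⟶ Y) [IsMonHom f] : Additive (T ⟶ X) →+ Additive (T ⟶ Y) where
  toFun x := Additive.ofMul (x.toMul ≫ f)
  map_zero' := congrArg Additive.ofMul (MonObj.one_comp f)
  map_add' _ _ := congrArg Additive.ofMul (MonObj.mul_comp _ _ f)

end

/-- `Spec kbar`-valued points lift along a surjective morphism locally of finite type over the base -/
theorem exists_lift_pt {k : Type u} [Field k] (K : Type u) [Field K] [IsAlgClosed K]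
    (t : Spec (CommRingCat.of K) ⟶ Spec (CommRingCat.of k)) {X Y : Over (Spec (CommRingCat.of k))}
    (f : X ⟶ Y) [Surjective f.left] [LocallyOfFiniteType f.left] (y : Over.mk t ⟶ Y) :
    ∃ x : Over.mk t ⟶ X, x ≫ f = y := by
  obtain ⟨x, hx⟩ := (Groth.Agent.S2268.result f.left).mp inferInstance K y.left
  have hw : x ≫ X.hom = t := by
    rw [← Over.w f, reassoc_of% hx]
    exact Over.w y
  refine ⟨Over.homMk x hw, ?_⟩
  ext1
  exact hx

theorem finite_sections {k : Type u} [Field k] [IsAlgClosed k] {W : Scheme.{u}} (w : W ⟶ Spec (CommRingCat.of k))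
    [LocallyOfFiniteType w] [QuasiCompact w] [LocallyQuasiFinite w] :
    Finite {p : Spec (CommRingCat.of k) ⟶ W // p ≫ w = 𝟙 _} := by
  have h1 : (w ⁻¹' Set.univ).Finite := w.finite_preimage (Set.toFinite _)
  have h2 : Finite W := by
    rw [Set.preimage_univ] at h1
    exact Set.finite_univ_iff.mp h1
  exact Finite.of_equiv _ (pointEquivClosedPoint w).symm

theorem finite_pts {k : Type u} [Field k] (K : Type u) [Field K] [IsAlgClosed K]
    (t : Spec (CommRingCat.of K) ⟶ Spec (CommRingCat.of k)) {X Y : Over (Spec (CommRingCat.of k))}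
    (f : X ⟶ Y) [IsFinite f.left] (y : Over.mk t ⟶ Y) :
    {x : Over.mk t ⟶ X | x ≫ f = y}.Finite := by
  have hfs := finite_sections (pullback.snd f.left y.left)
  have : Finite {x : Over.mk t ⟶ X | x ≫ f = y} := by
    let F : {x : Over.mk t ⟶ X | x ≫ f = y} →
        {p : Spec (CommRingCat.of K) ⟶ pullback f.left y.left // p ≫ pullback.snd f.left y.left = 𝟙 _} :=
      fun x => ⟨pullback.lift x.1.left (𝟙 _) (by
        rw [Category.id_comp]
        exact congrArg (fun z => z.left) x.2), pullback.lift_snd _ _ _⟩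
    refine Finite.of_injective F ?_
    intro a b hab
    have h1 := congrArg (fun s => s.1 ≫ pullback.fst f.left y.left) hab
    simp only [F, pullback.lift_fst] at h1
    exact Subtype.ext (Over.OverMorphism.ext h1)
  exact this

theorem exists_pow_eq {k : Type u} [Field k] (K : Type u) [Field K] [IsAlgClosed K]
    (t : Spec (CommRingCat.of K) ⟶ Spec (CommRingCat.of k)) (X : Over (Spec (CommRingCat.of k)))
    [GrpObj X] [IsCommMonObj X] [IsProper X.hom] [GeometricallyIntegral X.hom] (n : ℕ) (hn : 1 ≤ n)
    (y : Over.mk t ⟶ X) : ∃ x : Over.mk t ⟶ X, x ^ n = y := by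
  have h1 := Groth.Agent.S0383.result k X n hn
  have h2 : LocallyOfFiniteType ((𝟙 X ^ n : X ⟶ X)).left := by
    have h3 : LocallyOfFiniteType ((𝟙 X ^ n : X ⟶ X).left ≫ X.hom) := by
      rw [Over.w]
      infer_instance
    exact locallyOfFiniteType_of_comp _ X.hom
  obtain ⟨x, hx⟩ := exists_lift_pt K t (𝟙 X ^ n : X ⟶ X) y
  refine ⟨x, ?_⟩
  rw [← hx, MonObj.comp_pow, Category.comp_id]

/-- Let k be a field with algebraic closure k̄, ℓ a prime number invertible in k, X and Y abelian
varieties over k (proper, geometrically integral, commutative k-group schemes), f : X → Y an isogeny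
(a homomorphism which is finite and surjective) and i : N → X its kernel (the square formed by i, f,
the unit of Y and the structure map of N is cartesian). Let T_ℓ denote the Tate module formed with
k̄-valued points and T_ℓ f : T_ℓ X → T_ℓ Y the induced ℤ_ℓ-linear map. Then T_ℓ f is injective and
its cokernel is isomorphic, as a group, to the ℓ-primary part of the finite group N(k̄) of k̄-valued
points of N (existence of an isomorphism; the published sequence 0 → T_ℓ X → T_ℓ Y → N_ℓ(k_s) → 0 is
moreover Galois-equivariant with a specific connecting map, and uses points over a separable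
closure, which for ℓ-power torsion gives the same groups). -/
theorem result
    (k : Type u) [Field k] (ℓ : ℕ) [Fact ℓ.Prime] (hℓ : (ℓ : k) ≠ 0)
    (X Y : Over (Spec (CommRingCat.of k)))
    [GrpObj X] [IsCommMonObj X] [IsProper X.hom] [GeometricallyIntegral X.hom]
    [GrpObj Y] [IsCommMonObj Y] [IsProper Y.hom] [GeometricallyIntegral Y.hom]
    (f : X ⟶ Y) [IsMonHom f] [IsFinite f.left] [Surjective f.left]
    (N : Over (Spec (CommRingCat.of k))) [GrpObj N] [IsCommMonObj N] (i : N ⟶ X) [IsMonHom i]
    (hN : AlgGrp.IsKernel i f) :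
    Function.Injective (AbDual.tateMapₗ (l := ℓ)
        (T := Over.mk (Spec.map (CommRingCat.ofHom (algebraMap k (AlgebraicClosure k))))) f) ∧
      Nonempty ((AbDual.TateMod Y ℓ (Over.mk (Spec.map (CommRingCat.ofHom (algebraMap k (AlgebraicClosure k))))) ⧸
          LinearMap.range (AbDual.tateMapₗ (l := ℓ)
            (T := Over.mk (Spec.map (CommRingCat.ofHom (algebraMap k (AlgebraicClosure k))))) f)) ≃+
        Additive ↥(CommGroup.primaryComponent
          (Over.mk (Spec.map (CommRingCat.ofHom (algebraMap k (AlgebraicClosure k)))) ⟶ N) ℓ)) := by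
  classical
  have hl := (Fact.out : ℓ.Prime)
  set T : Over (Spec (CommRingCat.of k)) :=
    Over.mk (Spec.map (CommRingCat.ofHom (algebraMap k (AlgebraicClosure k)))) with hT
  let F : Additive (T ⟶ X) →+ Additive (T ⟶ Y) := ptsMap T f
  have hF : Function.Surjective F := by
    intro y
    obtain ⟨x, hx⟩ := exists_lift_pt (AlgebraicClosure k) _ f y.toMul
    exact ⟨Additive.ofMul x, congrArg Additive.ofMul hx⟩
  have hfin : (F.ker : Set (Additive (T ⟶ X))).Finite := by
    have := finite_pts (AlgebraicClosure k) (Spec.map (CommRingCat.ofHom (algebraMap k (AlgebraicClosure k)))) f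
      (1 : T ⟶ Y)
    exact this
  have hdiv : ∀ a : Additive (T ⟶ X), ∃ b, ℓ • b = a := by
    intro a
    obtain ⟨x, hx⟩ := exists_pow_eq (AlgebraicClosure k) _ X ℓ hl.one_lt.le a.toMul
    exact ⟨Additive.ofMul x, congrArg Additive.ofMul hx⟩
  obtain ⟨M, hM⟩ := exists_bound (l := ℓ) hfin
  have hTX : ∀ x : AbDual.TateMod X ℓ T, IsTate ℓ (x : ℕ → Additive (T ⟶ X)) := fun x => x.2
  have hTY : ∀ x : AbDual.TateMod Y ℓ T, IsTate ℓ (x : ℕ → Additive (T ⟶ Y)) := fun x => x.2
  constructor
  · rw [injective_iff_map_eq_zero]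
    intro x hx
    refine AbDual.TateMod.ext fun n => ?_
    refine K524.TateAlg.eq_zero_of_map_eq_zero F hfin (hTX x) (fun m => ?_) n
    have := congrArg (fun z : AbDual.TateMod Y ℓ T => (z : ℕ → Additive (T ⟶ Y)) m) hx
    exact this
  · -- the points of the kernel
    let P : Type u := (CommGroup.primaryComponent (T ⟶ N) ℓ)
    let I : Additive P →+ Additive (T ⟶ X) :=
      (ptsMap T i).comp (MonoidHom.toAdditive (CommGroup.primaryComponent (T ⟶ N) ℓ).subtype)
    have hImono : Mono i := by
      have : Mono (η[Y] : 𝟙_ (Over (Spec (CommRingCat.of k))) ⟶ Y) := inferInstance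
      exact PullbackCone.mono_fst_of_is_pullback_of_mono hN.isLimit
    have hIinj : Function.Injective I := by
      intro a b hab
      have h1 : (a.toMul : T ⟶ N) ≫ i = (b.toMul : T ⟶ N) ≫ i := congrArg Additive.toMul hab
      have h2 := (cancel_mono i).mp h1
      exact congrArg Additive.ofMul (Subtype.ext h2)
    have hIrange : ∀ c : Additive (T ⟶ X), (∃ a, I a = c) ↔ F c = 0 ∧ IsPT ℓ c := by
      intro c
      constructor
      · rintro ⟨a, rfl⟩
        refine ⟨?_, ?_⟩
        · have h1 : ((a.toMul : T ⟶ N) ≫ i) ≫ f = 1 := by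
            rw [Category.assoc, hN.w, ← Category.assoc, toUnit_unique ((a.toMul : T ⟶ N) ≫ toUnit N) (toUnit T)]
            rfl
          exact congrArg Additive.ofMul h1
        · obtain ⟨n, hn⟩ := CommGroup.mem_primaryComponent.mp a.toMul.2
          refine ⟨n, ?_⟩
          rw [← map_nsmul]
          have : (ℓ ^ n) • a = 0 := congrArg Additive.ofMul (Subtype.ext hn)
          rw [this, map_zero]
      · rintro ⟨h1, n, h2⟩
        have h3 : c.toMul ≫ f = toUnit T ≫ η[Y] := congrArg Additive.toMul h1
        let a : T ⟶ N := hN.lift c.toMul (toUnit T) h3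
        have ha : a ≫ i = c.toMul := hN.lift_fst _ _ _
        have h4 : a ^ ℓ ^ n = 1 := by
          rw [← cancel_mono i, MonObj.one_comp, MonObj.pow_comp, ha]
          exact congrArg Additive.toMul h2
        exact ⟨Additive.ofMul ⟨a, CommGroup.mem_primaryComponent.mpr ⟨n, h4⟩⟩, congrArg Additive.ofMul ha⟩
    have hex : ∀ y : AbDual.TateMod Y ℓ T, ∃ a : Additive P, IsDelta (l := ℓ) F M y (I a) := by
      intro y
      obtain ⟨c, hc⟩ := exists_isDelta hl hfin hF M (hTY y)
      obtain ⟨a, ha⟩ := (hIrange c).mpr ⟨hc.map_eq_zero (hTY y), hc.isPT⟩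
      exact ⟨a, by rw [ha]; exact hc⟩
    choose d hd using hex
    let D : AbDual.TateMod Y ℓ T →+ Additive P :=
      AddMonoidHom.mk' d (fun y y' => hIinj (by
        rw [map_add]
        exact (hd (y + y')).unique hM ((hd y).add (hd y'))))
    have hDsurj : Function.Surjective D := by
      intro a
      obtain ⟨h1, h2⟩ := (hIrange (I a)).mp ⟨a, rfl⟩
      obtain ⟨y, hy, hy'⟩ := exists_tate_of_mem (M := M) hdiv h1 h2
      refine ⟨⟨y, hy⟩, hIinj ?_⟩
      exact (hd ⟨y, hy⟩).unique hM hy'
    have hDker : D.ker = (LinearMap.range (AbDual.tateMapₗ (l := ℓ) (T := T) f)).toAddSubgroup := by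
      ext y
      rw [AddMonoidHom.mem_ker]
      have h0 : D y = 0 ↔ IsDelta (l := ℓ) F M (y : ℕ → Additive (T ⟶ Y)) 0 := by
        constructor
        · intro h
          have h1 := hd y
          change IsDelta (l := ℓ) F M _ (I (D y)) at h1
          rw [h, map_zero] at h1
          exact h1
        · intro h
          exact hIinj (by rw [map_zero]; exact (hd y).unique hM h)
      rw [h0, isDelta_zero_iff hl hfin hF hM (hTY y)]
      constructor
      · rintro ⟨x, hx, hxy⟩
        exact ⟨⟨x, hx⟩, AbDual.TateMod.ext hxy⟩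
      · rintro ⟨x, rfl⟩
        exact ⟨x, hTX x, fun n => rfl⟩
    have e1 : (AbDual.TateMod Y ℓ T ⧸ (LinearMap.range (AbDual.tateMapₗ (l := ℓ) (T := T) f)).toAddSubgroup) ≃+
        (AbDual.TateMod Y ℓ T ⧸ D.ker) := QuotientAddGroup.quotientAddEquivOfEq hDker.symm
    exact ⟨e1.trans (QuotientAddGroup.quotientKerEquivOfSurjective D hDsurj)⟩

end Groth.Agent.S17514
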