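import Groth.Statements.S17517
import Groth.Agent.GIT.K690.LatMax
import Mathlib.Topology.Order.Lattice

set_option autoImplicit false
universe u
open GIT

namespace Groth.Agent.S17517

open K690.LatMax

section Min

variable {E : Type u} [NormedAddCommGroup E] [InnerProductSpace ℝ E]

lemma inf_smul (G : Finset (Module.Dual ℝ E)) (hG : G.Nonempty) {t : ℝ} (ht : 0 ≤ t) (v : E) :
    G.inf' hG (fun g => g (t • v)) = t * G.inf' hG (fun g => g v) := by
  apply le_antisymm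
  · obtain ⟨g, hg, hg'⟩ := Finset.exists_mem_eq_inf' hG (fun g => g v)
    rw [hg', ← smul_eq_mul, ← map_smul]
    exact Finset.inf'_le (fun g : Module.Dual ℝ E => g (t • v)) hg
  · rw [Finset.le_inf'_iff]
    intro g hg
    rw [map_smul, smul_eq_mul]
    exact mul_le_mul_of_nonneg_left (Finset.inf'_le (fun g : Module.Dual ℝ E => g v) hg) ht

lemma inf_add (G : Finset (Module.Dual ℝ E)) (hG : G.Nonempty) (v w : E) :
    G.inf' hG (fun g => g v) + G.inf' hG (fun g => g w) ≤ G.inf' hG (fun g => g (v + w)) := by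
  rw [Finset.le_inf'_iff]
  intro g hg
  rw [map_add]
  exact add_le_add (Finset.inf'_le (fun g : Module.Dual ℝ E => g v) hg)
    (Finset.inf'_le (fun g : Module.Dual ℝ E => g w) hg)

lemma inf_cont [FiniteDimensional ℝ E] (G : Finset (Module.Dual ℝ E)) (hG : G.Nonempty) :
    Continuous fun v : E => G.inf' hG (fun g => g v) := by
  apply Continuous.finset_inf'_apply
  intro g _
  exact LinearMap.continuous_of_finiteDimensional g

end Min

/-- Let `E` be a finite-dimensional real inner product space and `L` a full lattice in `E` (a discrete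
subgroup spanning `E`) on which the inner product is integer valued; let `F` and `G` be nonempty
finite sets of real linear functionals on `E` taking integer values on `L`, with `f_min v = min_{f ∈
F} f v` and `g_min v = min_{g ∈ G} g v`. If some vector `v` has `f_min v ≥ 0` and `g_min v > 0`,
then on the set `C_F` of nonzero `v` with `f_min v ≥ 0` the function `v ↦ g_min v / ‖v‖` attains a
greatest value `M`, and there is exactly one lattice vector `v₀ ∈ C_F` with `g_min v₀ / ‖v₀‖ = M` of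
which every lattice vector `v ∈ C_F` with `g_min v / ‖v‖ = M` is an integer multiple. -/
theorem result
    (E : Type u) [NormedAddCommGroup E] [InnerProductSpace ℝ E] [FiniteDimensional ℝ E]
    (L : Submodule ℤ E) [DiscreteTopology L] [IsZLattice ℝ L]
    (hint : ∀ x ∈ L, ∀ y ∈ L, ∃ n : ℤ, inner ℝ x y = (n : ℝ))
    (F G : Finset (Module.Dual ℝ E)) (hF : F.Nonempty) (hG : G.Nonempty)
    (hFi : ∀ f ∈ F, ∀ x ∈ L, ∃ n : ℤ, f x = (n : ℝ)) (hGi : ∀ g ∈ G, ∀ x ∈ L, ∃ n : ℤ, g x = (n : ℝ))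
    (hpos : ∃ v : E, 0 ≤ F.inf' hF (fun f => f v) ∧ 0 < G.inf' hG (fun g => g v)) :
    ∃ M : ℝ, IsGreatest ((fun v => G.inf' hG (fun g => g v) / ‖v‖) ''
        {v : E | v ≠ 0 ∧ 0 ≤ F.inf' hF (fun f => f v)}) M ∧
      ∃! v₀ : E, v₀ ∈ L ∧ v₀ ≠ 0 ∧ 0 ≤ F.inf' hF (fun f => f v₀) ∧
        G.inf' hG (fun g => g v₀) / ‖v₀‖ = M ∧
        ∀ v ∈ L, v ≠ 0 → 0 ≤ F.inf' hF (fun f => f v) → G.inf' hG (fun g => g v) / ‖v‖ = M →
          ∃ n : ℤ, v = n • v₀ := by
  classical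
  have hfs : ∀ {t : ℝ} (_ : 0 ≤ t) (v : E), F.inf' hF (fun g => g (t • v)) =
    t * F.inf' hF (fun g => g v) := fun ht v => inf_smul F hF ht v
  have hgs : ∀ {t : ℝ} (_ : 0 ≤ t) (v : E), G.inf' hG (fun g => g (t • v)) =
    t * G.inf' hG (fun g => g v) := fun ht v => inf_smul G hG ht v
  have hfa := inf_add F hF
  have hga := inf_add G hG
  have hfc := inf_cont F hF
  have hgc := inf_cont G hG
  have hf0 : F.inf' hF (fun g => g (0 : E)) = 0 := by
    simp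
  have hg0 : G.inf' hG (fun g => g (0 : E)) = 0 := by
    simp
  have hfle : ∀ (c : ℝ) (v : E), c ≤ F.inf' hF (fun f => f v) ↔ ∀ f ∈ F, c ≤ f v :=
    fun c v => Finset.le_inf'_iff _ _
  have hgle : ∀ (c : ℝ) (v : E), c ≤ G.inf' hG (fun f => f v) ↔ ∀ f ∈ G, c ≤ f v :=
    fun c v => Finset.le_inf'_iff _ _
  set fm : E → ℝ := fun v => F.inf' hF (fun f => f v) with hfm
  set gm : E → ℝ := fun v => G.inf' hG (fun g => g v) with hgm
  change ∃ M : ℝ, IsGreatest ((fun v => gm v / ‖v‖) '' {v : E | v ≠ 0 ∧ 0 ≤ fm v}) M ∧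
      ∃! v₀ : E, v₀ ∈ L ∧ v₀ ≠ 0 ∧ 0 ≤ fm v₀ ∧ gm v₀ / ‖v₀‖ = M ∧
        ∀ v ∈ L, v ≠ 0 → 0 ≤ fm v → gm v / ‖v‖ = M → ∃ n : ℤ, v = n • v₀
  replace hfs : ∀ {t : ℝ} (_ : 0 ≤ t) (v : E), fm (t • v) = t * fm v := hfs
  replace hgs : ∀ {t : ℝ} (_ : 0 ≤ t) (v : E), gm (t • v) = t * gm v := hgs
  replace hfa : ∀ v w, fm v + fm w ≤ fm (v + w) := hfa
  replace hga : ∀ v w, gm v + gm w ≤ gm (v + w) := hga
  replace hf0 : fm 0 = 0 := hf0
  replace hg0 : gm 0 = 0 := hg0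
  replace hfle : ∀ (c : ℝ) (v : E), c ≤ fm v ↔ ∀ f ∈ F, c ≤ f v := hfle
  replace hgle : ∀ (c : ℝ) (v : E), c ≤ gm v ↔ ∀ f ∈ G, c ≤ f v := hgle
  replace hfc : Continuous fm := hfc
  replace hgc : Continuous gm := hgc
  obtain ⟨v₁, hv₁f, hv₁g⟩ := hpos
  replace hv₁f : 0 ≤ fm v₁ := hv₁f
  replace hv₁g : 0 < gm v₁ := hv₁g
  clear_value fm gm
  have hgne : ∀ v, 0 < gm v → v ≠ 0 := by
    rintro v hv rfl
    rw [hg0] at hv
    exact lt_irrefl _ hv
  have hv₁ := hgne v₁ hv₁g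
  -- the maximum on the unit sphere
  have hK : IsCompact (Metric.sphere (0 : E) 1 ∩ {v | 0 ≤ fm v}) :=
    (isCompact_sphere 0 1).inter_right (isClosed_le continuous_const hfc)
  have hmem : ∀ v, v ≠ 0 → 0 ≤ fm v → ‖v‖⁻¹ • v ∈ Metric.sphere (0 : E) 1 ∩ {v | 0 ≤ fm v} := by
    intro v hv hfv
    refine ⟨?_, ?_⟩
    · rw [mem_sphere_zero_iff_norm, norm_smul, norm_inv, norm_norm,
        inv_mul_cancel₀ (norm_ne_zero_iff.2 hv)]
    · rw [Set.mem_ofPred_eq, hfs (by positivity)]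
      positivity
  obtain ⟨u, ⟨hu1, huf⟩, humax⟩ := hK.exists_isMaxOn ⟨_, hmem v₁ hv₁ hv₁f⟩ hgc.continuousOn
  rw [mem_sphere_zero_iff_norm] at hu1
  rw [Set.mem_ofPred_eq] at huf
  have hmax : ∀ v, v ≠ 0 → 0 ≤ fm v → gm v / ‖v‖ ≤ gm u := by
    intro v hv hfv
    have h1 : gm (‖v‖⁻¹ • v) ≤ gm u := humax (hmem v hv hfv)
    rw [hgs (by positivity)] at h1
    rwa [div_eq_inv_mul]
  set M := gm u with hMdef
  have hM : 0 < M := by
    have h1 := hmax v₁ hv₁ hv₁f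
    have h2 : 0 < gm v₁ / ‖v₁‖ := div_pos hv₁g (norm_pos_iff.2 hv₁)
    linarith
  have hu0 : u ≠ 0 := hgne u hM
  let w : E := M⁻¹ • u
  have hwg : gm w = 1 := by
    rw [hgs (by positivity), ← hMdef, inv_mul_cancel₀ hM.ne']
  have hwf : 0 ≤ fm w := by
    rw [hfs (by positivity)]
    positivity
  have hwn : ‖w‖ = M⁻¹ := by
    rw [norm_smul, hu1, mul_one, Real.norm_of_nonneg (by positivity)]
  have hw0 : w ≠ 0 := hgne w (by rw [hwg]; norm_num)
  -- all maximisers are on the ray of `w`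
  have huniq : ∀ v, v ≠ 0 → 0 ≤ fm v → gm v / ‖v‖ = M → ∃ t : ℝ, 0 < t ∧ v = t • w := by
    intro v hv hfv hgv
    have hvn : 0 < ‖v‖ := norm_pos_iff.2 hv
    obtain ⟨h1, h2⟩ := hmem v hv hfv
    rw [mem_sphere_zero_iff_norm] at h1
    rw [Set.mem_ofPred_eq] at h2
    set u' := ‖v‖⁻¹ • v with hu'
    have h3 : gm u' = M := by
      rw [hu', hgs (by positivity), ← div_eq_inv_mul, hgv]
    have h4 : 2 * M ≤ gm (u + u') := by
      have := hga u u'
      rw [h3] at this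
      linarith
    have h5 : 0 ≤ fm (u + u') := by
      have := hfa u u'
      linarith
    have h6 : u + u' ≠ 0 := hgne _ (by linarith)
    have h7 := hmax _ h6 h5
    have h8 : 0 < ‖u + u'‖ := norm_pos_iff.2 h6
    rw [div_le_iff₀ h8] at h7
    have h9 : 2 ≤ ‖u + u'‖ := by
      by_contra hcon
      push Not at hcon
      have : M * ‖u + u'‖ < M * 2 := mul_lt_mul_of_pos_left hcon hM
      linarith
    have h10 := parallelogram_law_with_norm ℝ u u'
    rw [hu1, h1] at h10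
    have h11 : ‖u - u'‖ * ‖u - u'‖ ≤ 0 := by nlinarith
    have h12 : u - u' = 0 := by
      rw [← norm_eq_zero]
      nlinarith [norm_nonneg (u - u')]
    refine ⟨‖v‖ * M, by positivity, ?_⟩
    have h13 : v = ‖v‖ • u := by
      rw [sub_eq_zero.1 h12, hu', smul_smul, mul_inv_cancel₀ hvn.ne', one_smul]
    change v = (‖v‖ * M) • (M⁻¹ • u)
    rw [smul_smul, mul_assoc, mul_inv_cancel₀ hM.ne', mul_one, ← h13]
  clear_value w
  -- points of the ray are maximisers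
  have hray : ∀ t : ℝ, 0 < t → t • w ≠ 0 ∧ 0 ≤ fm (t • w) ∧ gm (t • w) / ‖t • w‖ = M := by
    intro t ht
    refine ⟨smul_ne_zero ht.ne' hw0, ?_, ?_⟩
    · rw [hfs ht.le]; positivity
    · rw [hgs ht.le, hwg, norm_smul, hwn, Real.norm_of_nonneg ht.le]
      field_simp
  refine ⟨M, ⟨⟨w, ⟨hw0, hwf⟩, ?_⟩, ?_⟩, ?_⟩
  · change gm w / ‖w‖ = M
    rw [hwg, hwn, one_div, inv_inv]
  · rintro _ ⟨v, ⟨hv, hfv⟩, rfl⟩
    exact hmax v hv hfv
  -- the lattice
  have hfin : Module.Finite ℤ L := ZLattice.module_finite ℝ L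
  have hfree : Module.Free ℤ L := ZLattice.module_free ℝ L
  let b := Module.Free.chooseBasis ℤ L
  let B := b.ofZLatticeBasis ℝ L
  have hBL : ∀ i, B i ∈ L := fun i => by
    rw [Module.Basis.ofZLatticeBasis_apply]
    exact (b i).2
  have horth : ∀ φ : ℝ →ₗ[ℚ] ℚ, φ 1 = 0 → inner ℝ w (Phi B φ w) = 0 := by
    intro φ hφ
    apply inner_eq_zero_of_eventually
    have h1 : ∀ᶠ t in nhds (0 : ℝ), ∀ f ∈ F, 0 ≤ f (w + t • Phi B φ w) := by
      rw [Filter.eventually_all_finset]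
      intro f hf
      refine eventually_le f 0 w _ ((hfle 0 w).1 hwf f hf) fun h0 => ?_
      rw [apply_Phi B φ f (fun i => ?_) w, h0, map_zero, Rat.cast_zero]
      obtain ⟨n, hn⟩ := hFi f hf _ (hBL i)
      exact ⟨n, by rw [hn]; simp⟩
    have h2 : ∀ᶠ t in nhds (0 : ℝ), ∀ f ∈ G, 1 ≤ f (w + t • Phi B φ w) := by
      rw [Filter.eventually_all_finset]
      intro f hf
      refine eventually_le f 1 w _ ((hgle 1 w).1 hwg.ge f hf) fun h0 => ?_
      rw [apply_Phi B φ f (fun i => ?_) w, h0, hφ, Rat.cast_zero]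
      obtain ⟨n, hn⟩ := hGi f hf _ (hBL i)
      exact ⟨n, by rw [hn]; simp⟩
    filter_upwards [h1, h2] with t ht1 ht2
    rw [← hfle] at ht1
    rw [← hgle] at ht2
    have h3 := hgne _ (lt_of_lt_of_le one_pos ht2)
    have h4 := hmax _ h3 ht1
    have h5 : 0 < ‖w + t • Phi B φ w‖ := norm_pos_iff.2 h3
    rw [div_le_iff₀ h5] at h4
    rw [hwn, inv_le_iff_one_le_mul₀ hM, mul_comm]
    linarith
  have hrat := repr_rat B (fun i j => by
    obtain ⟨n, hn⟩ := hint _ (hBL i) _ (hBL j)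
    exact ⟨n, by rw [hn]; simp⟩) w horth
  choose q hq using hrat
  -- a multiple of `w` in the lattice
  obtain ⟨N, hN, hNL⟩ : ∃ N : ℕ, 0 < N ∧ (N : ℝ) • w ∈ L := by
    refine ⟨∏ i, (q i).den, Finset.prod_pos fun i _ => (q i).den_pos, ?_⟩
    have h1 : ∀ i, ∃ z : ℤ, (((∏ j, (q j).den : ℕ) : ℝ)) * (q i : ℝ) = (z : ℝ) := by
      intro i
      obtain ⟨c, hc⟩ := Finset.dvd_prod_of_mem (fun j => (q j).den) (Finset.mem_univ i)
      refine ⟨c * (q i).num, ?_⟩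
      rw [hc]
      have h2 : ((q i).den : ℝ) * (q i : ℝ) = ((q i).num : ℝ) := by
        have := Rat.den_mul_eq_num (q i)
        exact_mod_cast this
      push_cast
      linear_combination (c : ℝ) * h2
    choose z hz using h1
    have h2 : ((∏ j, (q j).den : ℕ) : ℝ) • w = ∑ i, z i • B i := by
      conv_lhs => rw [← B.sum_repr w]
      rw [Finset.smul_sum]
      refine Finset.sum_congr rfl fun i _ => ?_
      rw [smul_smul, hq, hz, Int.cast_smul_eq_zsmul]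
    rw [h2]
    exact L.sum_mem fun i _ => L.smul_mem _ (hBL i)
  -- norms squared of lattice vectors are natural numbers
  have hnat : ∀ v ∈ L, ∃ n : ℕ, ‖v‖ ^ 2 = (n : ℝ) := by
    intro v hv
    obtain ⟨n, hn⟩ := hint v hv v hv
    rw [real_inner_self_eq_norm_sq] at hn
    have h0 : (0 : ℝ) ≤ (n : ℝ) := by rw [← hn]; positivity
    have h0' : 0 ≤ n := by exact_mod_cast h0
    refine ⟨n.toNat, ?_⟩
    rw [hn]
    have : ((n.toNat : ℤ) : ℝ) = (n : ℝ) := by rw [Int.toNat_of_nonneg h0']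
    exact_mod_cast this.symm
  have hex : ∃ n : ℕ, ∃ t : ℝ, 0 < t ∧ t • w ∈ L ∧ ‖t • w‖ ^ 2 = (n : ℝ) := by
    obtain ⟨n, hn⟩ := hnat _ hNL
    exact ⟨n, N, by exact_mod_cast hN, hNL, hn⟩
  obtain ⟨t₀, ht₀, ht₀L, ht₀n⟩ := Nat.find_spec hex
  have hmin : ∀ t : ℝ, 0 < t → t • w ∈ L → t₀ ≤ t := by
    intro t ht htL
    obtain ⟨n, hn⟩ := hnat _ htL
    have h1 : Nat.find hex ≤ n := Nat.find_min' hex ⟨t, ht, htL, hn⟩
    have h2 : ‖t₀ • w‖ ^ 2 ≤ ‖t • w‖ ^ 2 := by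
      rw [ht₀n, hn]
      exact_mod_cast h1
    have h3 : ‖t₀ • w‖ ≤ ‖t • w‖ := by
      exact le_of_sq_le_sq h2 (norm_nonneg _)
    rw [norm_smul, norm_smul, Real.norm_of_nonneg ht₀.le, Real.norm_of_nonneg ht.le] at h3
    exact le_of_mul_le_mul_right h3 (norm_pos_iff.2 hw0)
  have hmult : ∀ t : ℝ, 0 < t → t • w ∈ L → ∃ n : ℤ, t = n * t₀ := by
    intro t ht htL
    refine ⟨⌊t / t₀⌋, ?_⟩
    have h1 : (t - ⌊t / t₀⌋ * t₀) • w ∈ L := by
      have h2 : (t - ⌊t / t₀⌋ * t₀) • w = t • w - ⌊t / t₀⌋ • (t₀ • w) := by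
        rw [sub_smul, mul_smul, Int.cast_smul_eq_zsmul]
      rw [h2]
      exact L.sub_mem htL (L.smul_mem _ ht₀L)
    have h3 : t - ⌊t / t₀⌋ * t₀ = Int.fract (t / t₀) * t₀ := by
      rw [Int.fract, sub_mul, div_mul_cancel₀ _ ht₀.ne']
    by_contra hne
    have h4 : 0 < t - ⌊t / t₀⌋ * t₀ := by
      refine lt_of_le_of_ne ?_ (fun h => hne (by linarith))
      rw [h3]
      exact mul_nonneg (Int.fract_nonneg _) ht₀.le
    have h5 := hmin _ h4 h1
    rw [h3] at h5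
    have h6 : Int.fract (t / t₀) * t₀ < 1 * t₀ := mul_lt_mul_of_pos_right (Int.fract_lt_one _) ht₀
    linarith
  have hchar : ∀ v ∈ L, v ≠ 0 → 0 ≤ fm v → gm v / ‖v‖ = M → ∃ n : ℤ, v = n • (t₀ • w) := by
    intro v hvL hv hfv hgv
    obtain ⟨t, ht, rfl⟩ := huniq v hv hfv hgv
    obtain ⟨n, hn⟩ := hmult t ht hvL
    refine ⟨n, ?_⟩
    rw [hn, mul_smul, Int.cast_smul_eq_zsmul]
  obtain ⟨hr1, hr2, hr3⟩ := hray t₀ ht₀
  refine ⟨t₀ • w, ⟨ht₀L, hr1, hr2, hr3, hchar⟩, ?_⟩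
  rintro y ⟨hyL, hy0, hyf, hyg, hy⟩
  obtain ⟨t, ht, rfl⟩ := huniq y hy0 hyf hyg
  obtain ⟨n, hn⟩ := hchar _ hyL hy0 hyf hyg
  obtain ⟨m, hm⟩ := hy _ ht₀L hr1 hr2 hr3
  have hn' : t = n * t₀ := by
    rw [← Int.cast_smul_eq_zsmul ℝ, smul_smul] at hn
    exact smul_left_injective ℝ hw0 hn
  have hm' : t₀ = m * t := by
    rw [← Int.cast_smul_eq_zsmul ℝ, smul_smul] at hm
    exact smul_left_injective ℝ hw0 hm
  have hnpos : 0 < n := by
    have : (0 : ℝ) < n := by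
      by_contra hcon
      push Not at hcon
      have : (n : ℝ) * t₀ ≤ 0 := mul_nonpos_of_nonpos_of_nonneg hcon ht₀.le
      linarith
    exact_mod_cast this
  have hmpos : 0 < m := by
    have : (0 : ℝ) < m := by
      by_contra hcon
      push Not at hcon
      have : (m : ℝ) * t ≤ 0 := mul_nonpos_of_nonpos_of_nonneg hcon ht.le
      linarith
    exact_mod_cast this
  have hmn : (n : ℝ) * m = 1 := by
    have : t * (n * m) = t * 1 := by
      rw [mul_one]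
      nth_rewrite 2 [hn']
      rw [hm']
      ring
    exact mul_left_cancel₀ ht.ne' this
  have hmn' : n * m = 1 := by exact_mod_cast hmn
  have hn1 : n = 1 := by
    have h1 : n ≤ n * m := by nlinarith
    omega
  rw [hn', hn1]
  simp

end Groth.Agent.S17517
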