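import Groth.Statements.S17518
import Groth.Agent.HTop.K348.FTDesc
import Groth.Agent.S14779

set_option autoImplicit false
universe u
open CategoryTheory AlgebraicGeometry
open HTop

namespace Groth.Agent.S17518

/-- Let `f : X' ⟶ X` be a universally submersive morphism of Noetherian schemes (every base change of
`f` is a quotient map of topological spaces) and `g : X ⟶ Y` a morphism to a Noetherian scheme. If
`f ≫ g` is locally of finite type, then `g` is locally of finite type. (Both morphisms are then of
finite type, their sources being Noetherian.) -/
theorem result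
    {X' X Y : Scheme.{u}} [IsNoetherian X'] [IsNoetherian X] [IsNoetherian Y]
    (f : X' ⟶ X) (hf : SGA1.UnivSubmersive f) (g : X ⟶ Y)
    [LocallyOfFiniteType (f ≫ g)] : LocallyOfFiniteType g := by
  exact K348.FTDesc.main (fun f _ _ _ _ h => by
    obtain ⟨X', Y', h, p, q, h1, h2, h3, h4, -, -, h7, h8, -⟩ :=
      Groth.Agent.S14779.result f (Or.inl inferInstance) h
    exact ⟨X', Y', h, p, q, h1, h2, h3, h4, h7, h8⟩) f hf g

end Groth.Agent.S17518
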