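import Groth.Statements.S17519
import Groth.Agent.GIT.K209.HMRed

set_option autoImplicit false
universe u
open CategoryTheory AlgebraicGeometry
open scoped LaurentPolynomial
open GIT

namespace Groth.Agent.S17519

/-- Let `k` be an algebraically closed field, `A` a commutative Hopf algebra of finite type over `k`
whose affine group scheme `G = Spec A` is connected reductive (affine, smooth and connected, every
smooth connected normal closed subgroup scheme containing no non-trivial subtorus being trivial),
and `R` a commutative `k`-algebra of finite type with a coaction of `A` that is an algebra map (an
action of `G` on `X = Spec R`). Then for every `k`-point `x` of `X` there are a one-parameter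
subgroup `λ` of `G` (a bialgebra map `A → k[T;T⁻¹]`) and a `k`-point `y` of `X` such that the
`λ`-orbit of `x` extends over `T = 0` with value `y` and the `G`-orbit of `y` is closed in `X`. (The
published statement allows `G` disconnected; this row is its case of connected `G`. Whether
one-parameter limits are taken for the left or the right action does not matter here, since `λ` may
be replaced by its inverse.) -/
theorem result
    (k : Type u) [Field k] [IsAlgClosed k] (A : Type u) [CommRing A] [HopfAlgebra k A] [Algebra.FiniteType k A]
    (hG : Red.IsReductiveOver k (CoactBr.sp k A))
    (R : Type u) [CommRing R] [Algebra k R] [Algebra.FiniteType k R]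
    [HopfRep.Comod k A R] [GLin.IsCoactAlg k A R] (x : R →ₐ[k] k) :
    ∃ (lam : A →ₐc[k] k[T;T⁻¹]) (y : R →ₐ[k] k),
      GLin.IsLimit k A lam x y ∧ GLin.IsClosedOrbit k A y := by
  exact K209.HMRed.exists_limit_closed hG x

end Groth.Agent.S17519
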