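import Groth.Statements.S17522
import Groth.Agent.StMod.K906.BaseCh
import Groth.Agent.StMod.K906.PresQc
import Groth.Agent.AlgSt.K740.SpDM
import Groth.Agent.AlgSt.K742.QC
import Groth.Agent.AlgSt.K739.Sect
import Groth.Agent.AlgSt.K744.AlgOver

set_option autoImplicit false
universe u
open CategoryTheory AlgebraicGeometry
open StMod

namespace Groth.Agent.S17522

/-- For a target that is a quasi-separated algebraic space, let `S` be a quasi-separated scheme, `𝒳` an
algebraic stack over `(Sch/S)` for the fppf topology, `M` and `M'` algebraic spaces over `S` that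
are quasi-separated over `S`, `g : M' ⟶ M` a morphism of algebraic spaces over `S`, `π : 𝒳 ⟶ M` a
quasi-compact and quasi-separated morphism over `S`, and `π' : 𝒳 ×_M M' ⟶ M'` its base change (first
projection of the 2-fibre product), the 2-fibre product being assumed algebraic. If `π` is
cohomologically affine, then so is `π'`. Here a good moduli space is a morphism to an algebraic
space along which pushforward takes surjections of quasi-coherent modules to maps surjective on
sections over every affine scheme etale over the target, and for which the canonical map from the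
functions on any scheme etale over the target to the sections of the pushforward of the structure
sheaf is bijective; cohomologically affine means the first of these two conditions. (The published
statement allows the target to be any algebraic stack with quasi-affine diagonal and the new target
to be any algebraic stack; this row takes both targets to be algebraic spaces quasi-separated over a
quasi-separated base scheme `S`.) -/
theorem result
    (S : Scheme.{u}) [QuasiSeparatedSpace S]
    (𝒳 : AlgSt.Cat S) (h𝒳 : AlgSt.IsAlgStack Scheme.fppfPrecoverage 𝒳)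
    (M M' : AlgSp.Space S) (hM : AlgSp.IsQuasiSeparatedSp M.obj) (hM' : AlgSp.IsQuasiSeparatedSp M'.obj)
    (g : M'.obj ⟶ M.obj) (π : 𝒳 ⥤ᵇ AlgSt.ofSp M.obj)
    (hqc : AlgSt.IsQuasiCompactMor Scheme.fppfPrecoverage π) (hqs : AlgSt.IsQuasiSeparatedMor π)
    (h𝒳' : AlgSt.IsAlgStack Scheme.fppfPrecoverage (FibCat.fp (AlgSt.ofSpMap g) π))
    (h : StMod.IsCohAffine π) :
    StMod.IsCohAffine (FibCat.fpFst (AlgSt.ofSpMap g) π) := by
  have hAM := K740.SpDM.isAlgStack_ofSp M.property
  have hAM' := K740.SpDM.isAlgStack_ofSp M'.property
  have hqc' := K742.QC.isQuasiCompactMor_fpFst h𝒳 hAM hAM' π (AlgSt.ofSpMap g) hqc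
  have hfp := K735.Fp.isFibGrpd_fp hAM'.isStack.1 h𝒳.isStack.1 hAM.isStack.1 (AlgSt.ofSpMap g) π
  have hqs' := K739.Sect.repByAlgSpWith_diag_fpFst (AlgSt.ofSpMap g) π h𝒳.isStack.1 hAM.isStack.1 hAM'.isStack.1
    hfp hqs
  obtain ⟨A₀⟩ := K906.nonempty_smAtlas h𝒳.isStack.1 h𝒳.atlas
  exact K906.BaseCh.isCohAffine_fpFst h𝒳.isStack.1 A₀ M.property g π
    (fun η hη => K906.nonempty_pres hfp (K906.FlatDesc.isFibGrpd_ofSp M'.obj)
      K744.AlgOver.isAlgStack_overCat hqc' hqs' hη)
    (fun E hE => K906.ExactE.repWith_quasiCompact_of_qs hM E hE) h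

end Groth.Agent.S17522
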