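import Groth.Statements.S17525
import Groth.Agent.HopfRep.K191.LInt
import Groth.Agent.HopfRep.K191.Inj

set_option autoImplicit false
universe u
open HopfRep

namespace Groth.Agent.S17525

/-- Let `k` be a field and `1 → K → G → Q → 1` an exact sequence of affine group schemes of finite type
over `k`, written on coordinate rings: `AQ`, `AG`, `AK` are commutative Hopf algebras of finite type
over `k`, `φ : AQ → AG` is an injective bialgebra map (so `G → Q` is faithfully flat) and `ψ : AG →
AK` is a surjective bialgebra map (so `K` is a closed subgroup of `G`) whose kernel is the ideal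
generated by the image under `φ` of the augmentation ideal of `AQ` (so `K` is the kernel of `G →
Q`). Then `G` is linearly reductive — every finite-dimensional comodule is semisimple — if and only
if both `K` and `Q` are. -/
theorem result
    (k : Type u) [Field k]
    (AQ AG AK : Type u) [CommRing AQ] [HopfAlgebra k AQ] [Algebra.FiniteType k AQ]
    [CommRing AG] [HopfAlgebra k AG] [Algebra.FiniteType k AG]
    [CommRing AK] [HopfAlgebra k AK] [Algebra.FiniteType k AK]
    (φ : AQ →ₐc[k] AG) (hφ : Function.Injective φ)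
    (ψ : AG →ₐc[k] AK) (hψ : Function.Surjective ψ)
    (hker : RingHom.ker (ψ : AG →ₐ[k] AK) =
      Ideal.map (φ : AQ →ₐ[k] AG) (RingHom.ker (Bialgebra.counitAlgHom k AQ))) :
    HopfRep.IsLinearlyReductive k AG ↔
      HopfRep.IsLinearlyReductive k AK ∧ HopfRep.IsLinearlyReductive k AQ := by
  letI : Algebra AQ AG := (φ : AQ →ₐ[k] AG).toRingHom.toAlgebra
  haveI : IsScalarTower k AQ AG := IsScalarTower.of_algebraMap_eq fun r =>
    ((φ : AQ →ₐ[k] AG).commutes r).symm
  have hφ' : ∀ b, φ b = algebraMap AQ AG b := fun _ => rfl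
  haveI : Module.FaithfullyFlat AQ AG :=
    RingHom.faithfullyFlat_algebraMap_iff.1
      (Groth.Agent.Books.CoidealFlat.faithfullyFlat_of_injective φ hφ)
  have hco := K191.ExactSeq.coinv hker hφ'
  have hbij := K191.ExactSeq.can_bijective hψ hker hφ' hco
  constructor
  · intro hG
    refine ⟨K191.Galois.isLinearlyReductive_of_galois hco hbij hG, ?_⟩
    intro V _ _ _ hV W hW
    letI : HopfRep.Comod k AG V := Groth.Agent.Books.ComodHom.pushComod V (φ : AQ →ₗc[k] AG)
    have hcd : ((φ : AQ →ₗc[k] AG) : AQ →ₗ[k] AG).lTensor V ∘ₗ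
        HopfRep.Comod.coact (k := k) (A := AQ) =
        HopfRep.Comod.coact (k := k) (A := AG) (V := V) := rfl
    have hφc : Function.Injective (φ : AQ →ₗc[k] AG) := hφ
    obtain ⟨W', hW', hc⟩ := hG V hV W ((K191.Inj.isSubcomod_iff _ hφc hcd W).2 hW)
    exact ⟨W', (K191.Inj.isSubcomod_iff _ hφc hcd W').1 hW', hc⟩
  · rintro ⟨hK, hQ⟩
    exact K191.LInt.isLinearlyReductive_of_ext hφ hφ' hco hbij.1 hK hQ
end Groth.Agent.S17525
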