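import Groth.Statements.S17531
import Groth.Agent.StMod.K864.UnivSp
import Groth.Agent.StMod.K907.GoodE

set_option autoImplicit false
universe u
open CategoryTheory AlgebraicGeometry
open StMod

namespace Groth.Agent.S17531

/-- Let `S` be a Noetherian scheme, `𝒳` an algebraic stack over `(Sch/S)` for the fppf topology which is
quasi-compact and locally of finite type over `S`, `M` a Noetherian algebraic space over `S`
(locally Noetherian on etale charts and quasi-compact) that is quasi-separated over `S`, and `π : 𝒳
⟶ M` a quasi-compact and quasi-separated good moduli space. Then `π` is universal for morphisms to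
algebraic spaces: every functor over `(Sch/S)` from `𝒳` to (the category of) an algebraic space `N`
over `S` is the composite of `π` with exactly one morphism `M ⟶ N`. Here a good moduli space is a
morphism to an algebraic space along which pushforward takes surjections of quasi-coherent modules
to maps surjective on sections over every affine scheme etale over the target, and for which the
canonical map from the functions on any scheme etale over the target to the sections of the
pushforward of the structure sheaf is bijective; cohomologically affine means the first of these two
conditions. (The published statement assumes only that `𝒳` is quasi-separated over a base algebraic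
space and that `M` is Noetherian; its proof applies the Zariski Main Theorem for Noetherian
algebraic stacks and the coherence of pushforwards along `π`, established for `𝒳` of finite type
over a Noetherian base, so this row takes `𝒳` quasi-compact and locally of finite type over `S`, a
Noetherian base scheme, with `M` quasi-separated over `S`.) -/
theorem result
    (S : Scheme.{u}) [IsNoetherian S]
    (𝒳 : AlgSt.Cat S) (h𝒳 : AlgSt.IsAlgStack Scheme.fppfPrecoverage 𝒳)
    (hft : AlgSt.LocQ (AlgSp.LocP @LocallyOfFiniteType) (FibCat.toSelf 𝒳)) (hq : AlgSt.IsQuasiCompact 𝒳)
    (M : AlgSp.Space S) (hM : AlgSp.IsQuasiSeparatedSp M.obj)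
    (hN : AlgSp.IsLocNoethSp M.obj) (hMq : AlgSp.IsQuasiCompactSp M.obj)
    (π : 𝒳 ⥤ᵇ AlgSt.ofSp M.obj)
    (hqc : AlgSt.IsQuasiCompactMor Scheme.fppfPrecoverage π) (hqs : AlgSt.IsQuasiSeparatedMor π)
    (h : StMod.IsGoodModuli π)
    (N : AlgSp.Space S) (f : 𝒳 ⥤ᵇ AlgSt.ofSp N.obj) :
    ∃! g : M.obj ⟶ N.obj, BasedFunctor.comp π (AlgSt.ofSpMap g) = f := by
  have : QuasiSeparatedSpace S := inferInstance
  exact K864.UnivSp.existsUnique_factor h𝒳.isStack.1 f
    (fun E hE => K907.GM.exact_and_pres h𝒳 hM hqc hqs h.1 E hE) h.2 N.property M.property

end Groth.Agent.S17531
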