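import Groth.Statements.S17544
import Groth.Agent.CAlg.K91.Decay2

set_option autoImplicit false
universe u v w
open W4c5adicflatcompl
open CAlg

namespace Groth.Agent.S17544

/-- For a Noetherian ring A which is I-adically complete, a set Z and n ≥ 0, reduction modulo I^n maps
the decaying functions Z → A onto the finitely supported functions Z → A/I^n, and its kernel, the
decaying functions with all values in I^n, equals I^n times the module of decaying functions; so
(A/I^n) ⊗ F_dec(Z, A) → F_fin(Z, A/I^n) is bijective. -/
theorem result {A : Type u} [CommRing A] [IsNoetherianRing A]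
    (I : Ideal A) [IsAdicComplete I A] (Z : Type v) (n : ℕ) :
    (∀ g : Z →₀ A ⧸ I ^ n, ∃ f : decaying I Z A,
        ∀ z, Ideal.Quotient.mk (I ^ n) ((f : Z → A) z) = g z) ∧
      ∀ f : decaying I Z A,
        f ∈ (I ^ n • ⊤ : Submodule A (decaying I Z A)) ↔ ∀ z, (f : Z → A) z ∈ I ^ n := by
  classical
  refine ⟨fun g => ?_, fun f => K91.Decay.mem_smul_top_iff I Z (I ^ n) f⟩
  choose s hs using (Ideal.Quotient.mk_surjective (I := I ^ n))
  let f : Z → A := fun z => if g z = 0 then 0 else s (g z)
  have hf : f ∈ decaying I Z A := by
    intro k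
    refine g.support.finite_toSet.subset fun z hz => ?_
    by_contra hz'
    refine hz ?_
    have h0 : g z = 0 := by simpa using hz'
    have : f z = 0 := if_pos h0
    rw [this]
    exact Submodule.zero_mem _
  refine ⟨⟨f, hf⟩, fun z => ?_⟩
  change Ideal.Quotient.mk (I ^ n) (if g z = 0 then 0 else s (g z)) = g z
  split_ifs with h
  · rw [h, map_zero]
  · exact hs _

end Groth.Agent.S17544
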