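import Groth.Statements.S17553
import Mathlib.RingTheory.AdicCompletion.Basic

set_option autoImplicit false
universe u v w
open W4c5adicflatcompl
open CAlg

namespace Groth.Agent.S17553

/-- Let A be I-adically complete, M an I-adically complete A-module, Z a set and f : Z → M a function.
There is an A-linear map from the I-adically decaying functions Z → A to M whose value on g is the
I-adically convergent sum of the g z • f z. -/
theorem result {A : Type u} [CommRing A] (I : Ideal A) [IsAdicComplete I A]
    (Z : Type v) (M : Type w) [AddCommGroup M] [Module A M] [IsAdicComplete I M] (f : Z → M) :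
    ∃ φ : decaying I Z A →ₗ[A] M, ∀ (g : decaying I Z A) (n : ℕ), ∃ S : Finset Z,
      (∀ z, z ∉ S → (g : Z → A) z • f z ∈ (I ^ n • ⊤ : Submodule A M)) ∧
      φ g - (∑ z ∈ S, (g : Z → A) z • f z) ∈ (I ^ n • ⊤ : Submodule A M) := by
  classical
  -- the finite set of indices that matter modulo `I ^ n`
  let T : decaying I Z A → ℕ → Finset Z := fun g n => (g.2 n).toFinset
  have hT : ∀ (g : decaying I Z A) (n : ℕ) (z : Z), z ∉ T g n → (g : Z → A) z ∈ I ^ n := by
    intro g n z hz
    by_contra h
    apply hz
    simp only [T, Set.Finite.mem_toFinset, Set.mem_ofPred_eq]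
    simpa using h
  have hT' : ∀ (g : decaying I Z A) (n : ℕ) (z : Z), z ∉ T g n →
      (g : Z → A) z • f z ∈ (I ^ n • ⊤ : Submodule A M) := fun g n z hz =>
    Submodule.smul_mem_smul (hT g n z hz) trivial
  -- partial sums over bigger sets agree modulo `I ^ n`
  have hsum : ∀ (g : decaying I Z A) (n : ℕ) (S S' : Finset Z), T g n ⊆ S → T g n ⊆ S' →
      (∑ z ∈ S, (g : Z → A) z • f z) - (∑ z ∈ S', (g : Z → A) z • f z) ∈
        (I ^ n • ⊤ : Submodule A M) := by
    intro g n
    have key : ∀ S : Finset Z, T g n ⊆ S → (∑ z ∈ S, (g : Z → A) z • f z) -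
        (∑ z ∈ T g n, (g : Z → A) z • f z) ∈ (I ^ n • ⊤ : Submodule A M) := by
      intro S hS
      rw [← Finset.sum_sdiff hS, add_sub_cancel_right]
      exact Submodule.sum_mem _ fun z hz => hT' g n z (Finset.mem_sdiff.1 hz).2
    intro S S' hS hS'
    have := Submodule.sub_mem _ (key S hS) (key S' hS')
    simpa using this
  let x : decaying I Z A → ℕ → M := fun g n => ∑ z ∈ T g n, (g : Z → A) z • f z
  have hTmono : ∀ (g : decaying I Z A) (m n : ℕ), m ≤ n → T g m ⊆ T g n := by
    intro g m n hmn z hz
    by_contra h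
    have h1 := hT g n z h
    have h2 : (g : Z → A) z ∈ I ^ m := Ideal.pow_le_pow_right hmn h1
    simp only [T, Set.Finite.mem_toFinset, Set.mem_ofPred_eq] at hz
    apply hz
    simpa using h2
  have hx : ∀ g : decaying I Z A, ∃ L : M, ∀ n, x g n ≡ L [SMOD (I ^ n • ⊤ : Submodule A M)] := by
    intro g
    refine IsPrecomplete.prec (IsAdicComplete.toIsPrecomplete (I := I) (M := M)) ?_
    intro m n hmn
    rw [SModEq.sub_mem]
    exact hsum g m _ _ (le_refl _) (hTmono g m n hmn)
  choose φ hφ using hx
  have hφ' : ∀ (g : decaying I Z A) (n : ℕ) (S : Finset Z), T g n ⊆ S →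
      φ g - (∑ z ∈ S, (g : Z → A) z • f z) ∈ (I ^ n • ⊤ : Submodule A M) := by
    intro g n S hS
    have h1 : φ g - x g n ∈ (I ^ n • ⊤ : Submodule A M) := by
      rw [← SModEq.sub_mem]; exact (hφ g n).symm
    have h2 := hsum g n (T g n) S (le_refl _) hS
    have := Submodule.add_mem _ h1 h2
    simpa [x] using this
  have hzero : ∀ y : M, (∀ n : ℕ, y ∈ (I ^ n • ⊤ : Submodule A M)) → y = 0 := by
    intro y hy
    refine IsHausdorff.haus (IsAdicComplete.toIsHausdorff (I := I) (M := M)) y fun n => ?_
    rw [SModEq.zero]; exact hy n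
  refine ⟨{ toFun := φ, map_add' := ?_, map_smul' := ?_ }, ?_⟩
  · intro g h
    rw [← sub_eq_zero]
    apply hzero
    intro n
    let S := T g n ∪ (T h n ∪ T (g + h) n)
    have h1 := hφ' (g + h) n S (by intro z hz; simp [S, hz])
    have h2 := hφ' g n S (by intro z hz; simp [S, hz])
    have h3 := hφ' h n S (by intro z hz; simp [S, hz])
    have h4 := Submodule.sub_mem _ (Submodule.sub_mem _ h1 h2) h3
    have h5 : ∑ z ∈ S, ((g + h : decaying I Z A) : Z → A) z • f z =
        (∑ z ∈ S, (g : Z → A) z • f z) + ∑ z ∈ S, (h : Z → A) z • f z := by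
      rw [← Finset.sum_add_distrib]
      refine Finset.sum_congr rfl fun z _ => ?_
      rw [← add_smul]; rfl
    rw [h5] at h4
    convert h4 using 1
    abel
  · intro a g
    rw [← sub_eq_zero]
    apply hzero
    intro n
    let S := T g n ∪ T (a • g) n
    have h1 := hφ' (a • g) n S (by intro z hz; simp [S, hz])
    have h2 := hφ' g n S (by intro z hz; simp [S, hz])
    have h4 := Submodule.sub_mem _ h1 (Submodule.smul_mem _ a h2)
    have h5 : ∑ z ∈ S, ((a • g : decaying I Z A) : Z → A) z • f z =
        a • (∑ z ∈ S, (g : Z → A) z • f z) := by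
      rw [Finset.smul_sum]
      refine Finset.sum_congr rfl fun z _ => ?_
      rw [smul_smul]; rfl
    rw [h5] at h4
    convert h4 using 1
    simp only [RingHom.id_apply, smul_sub]
    abel
  · intro g n
    exact ⟨T g n, fun z hz => hT' g n z hz, hφ' g n _ (le_refl _)⟩

end Groth.Agent.S17553
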