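import Groth.Statements.S17555
import Groth.Agent.LieWt.K929.LieNoRoot

set_option autoImplicit false
universe u v
open CategoryTheory MonoidalCategory CartesianMonoidalCategory MonObj GrpObj AlgebraicGeometry
open LieWt

namespace Groth.Agent.S17555

/-- Let k be a field, G a reductive k-group scheme (affine, smooth, with connected reductive geometric
fibre) which is not solvable, and i : T ⟶ G a maximal torus which is split. Then the set of roots of
(G, T) is non-empty: there is a homomorphism α from T to the multiplicative group, different from
the trivial character, whose weight space for the adjoint action of T on the Lie algebra of G over k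
is not reduced to zero. -/
theorem result (k : Type u) [Field k]
    (G T : Over (Spec (CommRingCat.of k))) [GrpObj G] [GrpObj T] (hG : Red.IsReductive G) (hns : ¬ Red.IsSolvableGrp G)
    (i : T ⟶ G) (hT : Red.IsMaximalTorus i) (M : Type) [AddCommGroup M] (hM : Red.IsSplitTorusWith M T) :
    ∃ α : T ⟶ Red.Gm (Spec (CommRingCat.of k)), LieWt.IsRoot i α := by
  obtain ⟨D, τ, hτ, hred⟩ := K929.LieRoot.exists_split hG i hT hM
  by_contra hne
  push Not at hne
  have : IsEmpty D.idx := ⟨fun a => hne _ ((K929.LieRoot.isRoot_iso D i τ hτ _).mpr ⟨a, rfl⟩)⟩
  exact hns (K929.LieRoot.isSolvableGrp_of_isEmpty D)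


end Groth.Agent.S17555
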