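import Groth.Statements.S17557
import Groth.Agent.LieWt.K929.LieRoot2

set_option autoImplicit false
universe u v
open CategoryTheory MonoidalCategory CartesianMonoidalCategory MonObj GrpObj AlgebraicGeometry
open LieWt

namespace Groth.Agent.S17557

/-- Let k be a field, G a reductive k-group scheme (affine, smooth, with connected reductive geometric
fibre), i : T ⟶ G a maximal torus which is split, L a Lie algebra over k identified with the Lie
algebra of G over k by a model m, and α a root of (G, T) (a homomorphism to the multiplicative group
other than the trivial character, with non-zero weight space). Then the weight space of α in L is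
one-dimensional over k. (A connected reductive group having a root is not solvable, so
non-solvability is not assumed separately here.) -/
theorem result (k : Type u) [Field k]
    (G T : Over (Spec (CommRingCat.of k))) [GrpObj G] [GrpObj T] (hG : Red.IsReductive G)
    (i : T ⟶ G) (hT : Red.IsMaximalTorus i) (M : Type) [AddCommGroup M] (hM : Red.IsSplitTorusWith M T)
    (L : Type v) [LieRing L] [LieAlgebra k L]
    (m : LieS.Model G k (Spec.map (CommRingCat.ofHom (algebraMap k k))) L)
    (α : T ⟶ Red.Gm (Spec (CommRingCat.of k))) (hα : LieWt.IsRoot i α) :
    Module.finrank k ↥(LieWt.modelWeightSpOf m i α) = 1 := by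
  obtain ⟨D, τ, hτ, hred⟩ := K929.LieRoot.exists_split hG i hT hM
  rw [K929.LieRoot.isRoot_iso D i τ hτ] at hα
  obtain ⟨a, rfl⟩ := hα
  rw [K929.LieRoot.modelWeightSpOf_iso D m i τ hτ]
  obtain ⟨e⟩ := K929.LieRoot.exists_equiv D m a
  rw [← e.finrank_eq]
  exact Module.finrank_self k


end Groth.Agent.S17557
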