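import Groth.Statements.S17558
import Groth.Agent.LieWt.K929.LieRoot2

set_option autoImplicit false
universe u v
open CategoryTheory MonoidalCategory CartesianMonoidalCategory MonObj GrpObj AlgebraicGeometry
open LieWt

namespace Groth.Agent.S17558

/-- Let k be a field, G a reductive k-group scheme (affine, smooth, with connected reductive geometric
fibre), i : T ⟶ G a maximal torus which is split, and α, β two roots of (G, T) (homomorphisms to the
multiplicative group other than the trivial character, with non-zero weight spaces on the Lie
algebra of G over k). If β is a rational multiple of α in the character group, that is α ^ m = β ^ n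
for some non-zero integers m and n (characters written multiplicatively), then β = α or β = α⁻¹: the
only rational multiples of a root which are roots are the root and its negative. (A connected
reductive group having a root is not solvable, so non-solvability is not assumed separately here.) -/
theorem result (k : Type u) [Field k]
    (G T : Over (Spec (CommRingCat.of k))) [GrpObj G] [GrpObj T] (hG : Red.IsReductive G)
    (i : T ⟶ G) (hT : Red.IsMaximalTorus i) (M : Type) [AddCommGroup M] (hM : Red.IsSplitTorusWith M T)
    (α β : T ⟶ Red.Gm (Spec (CommRingCat.of k))) (hα : LieWt.IsRoot i α) (hβ : LieWt.IsRoot i β)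
    (m n : ℤ) (hm : m ≠ 0) (hn : n ≠ 0) (hmn : α ^ m = β ^ n) :
    β = α ∨ β = α⁻¹ := by
  obtain ⟨D, τ, hτ, hred⟩ := K929.LieRoot.exists_split hG i hT hM
  rw [K929.LieRoot.isRoot_iso D i τ hτ] at hα hβ
  obtain ⟨a, rfl⟩ := hα
  obtain ⟨b, rfl⟩ := hβ
  rcases K929.LieRoot.root_of_zpow_eq D τ hred hm hn hmn with h | h
  · left
    rw [h]
  · right
    rw [h, K929.LieRoot.ch_neg, GrpObj.comp_inv]


end Groth.Agent.S17558
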