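import Groth.Statements.S17559
import Groth.Agent.LieWt.K929.TwoBorel
import Groth.Agent.Sga3B.TorusAlgClosed

set_option autoImplicit false
universe u v
open CategoryTheory MonoidalCategory CartesianMonoidalCategory MonObj GrpObj AlgebraicGeometry
open LieWt

namespace Groth.Agent.S17559

/-- Let k be an algebraically closed field, H a reductive k-group scheme (affine, smooth, with connected
reductive geometric fibre) which is not solvable, and i : S ⟶ H a maximal torus (maximal among the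
subtori of H) such that any two roots of (H, S), that is non-trivial characters of S whose weight
spaces for the adjoint action of S on the Lie algebra of H over k are non-zero, are rational
multiples of each other in the character group. Then S lies in exactly two Borel subgroups of H:
Borel subgroups b₁ : B₁ ⟶ H and b₂ : B₂ ⟶ H through which i factors, with B₁ not contained in B₂,
such that every Borel subgroup of H through which i factors is contained in B₁ or in B₂; and B₁, B₂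
generate H: every closed subgroup scheme of H containing B₁ and B₂ is all of H. (The set of roots is
allowed to be empty in the hypothesis.) -/
theorem result (k : Type u) [Field k] [IsAlgClosed k]
    (H S : Over (Spec (CommRingCat.of k))) [GrpObj H] [GrpObj S] (hH : Red.IsReductive H) (hns : ¬ Red.IsSolvableGrp H)
    (i : S ⟶ H) (hS : AGF.IsMaxTorus i)
    (hprop : ∀ α β : S ⟶ Red.Gm (Spec (CommRingCat.of k)), LieWt.IsRoot i α → LieWt.IsRoot i β →
      ∃ m n : ℤ, m ≠ 0 ∧ n ≠ 0 ∧ α ^ m = β ^ n) :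
    ∃ (B₁ B₂ : Over (Spec (CommRingCat.of k))) (_ : GrpObj B₁) (_ : GrpObj B₂) (b₁ : B₁ ⟶ H) (b₂ : B₂ ⟶ H)
      (t₁ : S ⟶ B₁) (t₂ : S ⟶ B₂),
      Red.IsBorelOver k b₁ ∧ Red.IsBorelOver k b₂ ∧ t₁ ≫ b₁ = i ∧ t₂ ≫ b₂ = i ∧
      (¬ ∃ e : B₁ ⟶ B₂, e ≫ b₂ = b₁) ∧
      (∀ (B : Over (Spec (CommRingCat.of k))) [GrpObj B] (b : B ⟶ H) (t : S ⟶ B), Red.IsBorelOver k b → t ≫ b = i →
        (∃ e : B ⟶ B₁, e ≫ b₁ = b) ∨ (∃ e : B ⟶ B₂, e ≫ b₂ = b)) ∧
      (∀ (C : Over (Spec (CommRingCat.of k))) [GrpObj C] (c : C ⟶ H) [IsMonHom c], IsClosedImmersion c.left →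
        (∃ f₁ : B₁ ⟶ C, f₁ ≫ c = b₁) → (∃ f₂ : B₂ ⟶ C, f₂ ≫ c = b₂) → IsIso c) := by
  have hS' : Red.IsMaximalTorus i := Groth.Agent.Sga3B.AlgBc.isMaximalTorus_iff.mpr hS
  obtain ⟨r, hr⟩ := Groth.Agent.Sga3B.TorusAlgClosed.exists_isSplitTorusWith hS.2.2.1
  obtain ⟨D, τ, hτ, hred⟩ := K929.LieRoot.exists_split hH i hS' hr
  have hne : Nonempty D.idx := by
    by_contra h
    rw [not_nonempty_iff] at h
    exact hns (K929.LieRoot.isSolvableGrp_of_isEmpty D)
  obtain ⟨a⟩ := hne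
  have hone : K929.TwoBorel.OneRoot D.P := by
    intro b c
    obtain ⟨m, n, hm, hn, h⟩ := hprop _ _ ((K929.LieRoot.isRoot_iso D i τ hτ _).mpr ⟨b, rfl⟩)
      ((K929.LieRoot.isRoot_iso D i τ hτ _).mpr ⟨c, rfl⟩)
    exact K929.LieRoot.root_of_zpow_eq D τ hred hm hn h
  have e1 : τ.hom.hom.hom ≫ τ.inv.hom.hom = 𝟙 _ := congrArg (fun f => f.hom.hom) τ.hom_inv_id
  have e2 : τ.inv.hom.hom ≫ τ.hom.hom.hom = 𝟙 _ := congrArg (fun f => f.hom.hom) τ.inv_hom_id
  obtain ⟨B₁, B₂, hB₁, hB₂, b₁, b₂, t₁, t₂, h1, h2, h3, h4, h5, h6, h7⟩ :=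
    K929.TwoBorel.two_borels hone a
  refine ⟨B₁, B₂, hB₁, hB₂, b₁, b₂, τ.hom.hom.hom ≫ t₁, τ.hom.hom.hom ≫ t₂, h1, h2, ?_, ?_, h5, ?_, h7⟩
  · rw [Category.assoc, h3, hτ]
  · rw [Category.assoc, h4, hτ]
  · intro B _ b t hb ht
    refine h6 B b (τ.inv.hom.hom ≫ t) hb ?_
    rw [Category.assoc, ht, hτ]
    exact (Category.assoc _ _ _).symm.trans ((congrArg (fun z => z ≫ D.i) e2).trans (Category.id_comp _))


end Groth.Agent.S17559
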