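import Groth.Statements.S17560
import Groth.Agent.LieWt.K929.CentRoot

set_option autoImplicit false
universe u v
open CategoryTheory MonoidalCategory CartesianMonoidalCategory MonObj GrpObj AlgebraicGeometry
open LieWt

namespace Groth.Agent.S17560

/-- Let k be a field, G a reductive k-group scheme (affine, smooth, with connected reductive geometric
fibre), i : T ⟶ G a maximal torus which is split, α a root of (G, T) (a homomorphism to the
multiplicative group other than the trivial character, with non-zero weight space on the Lie algebra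
of G over k), j : T_α ⟶ T the largest subtorus of T killed by α (a subtorus on which α is trivial
and through which every subtorus of T killed by α factors), z : Z ⟶ G the scheme-theoretic
centralizer of T_α in G, and d : D ⟶ Z the derived group of Z, pinned as the kernel of a
homomorphism from Z to a commutative k-group scheme which is killed by every homomorphism from Z to
a commutative k-group scheme. Then there is a unique homomorphism λ : 𝔾_m ⟶ T whose composite with i
factors through D (so that λ lands in the subtorus S_α = T ∩ D) and whose composite with α is the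
character t ↦ t² of 𝔾_m: the coroot α^∨, with ⟨α, α^∨⟩ = 2. (The equivalent description through the
conjugation action of α^∨ on a parametrised root group, and the description of α^∨ as an isomorphism
onto S_α when D is isomorphic to SL_2 and as an isogeny of degree 2 onto S_α when D is isomorphic to
the quotient of SL_2 by its centre, are not restated.) -/
theorem result (k : Type u) [Field k]
    (G T : Over (Spec (CommRingCat.of k))) [GrpObj G] [GrpObj T] (hG : Red.IsReductive G)
    (i : T ⟶ G) (hT : Red.IsMaximalTorus i) (M : Type) [AddCommGroup M] (hM : Red.IsSplitTorusWith M T)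
    (α : T ⟶ Red.Gm (Spec (CommRingCat.of k))) (hα : LieWt.IsRoot i α)
    (Ta : Over (Spec (CommRingCat.of k))) [GrpObj Ta] (j : Ta ⟶ T) [IsMonHom j] [Mono j] (hTa : Red.IsTorus Ta) (hjα : j ≫ α = 1)
    (hmax : ∀ (T' : Over (Spec (CommRingCat.of k))) [GrpObj T'] (j' : T' ⟶ T) [IsMonHom j'] [Mono j'],
      Red.IsTorus T' → j' ≫ α = 1 → ∃ f : T' ⟶ Ta, f ≫ j = j')
    (Z : Over (Spec (CommRingCat.of k))) [GrpObj Z] (z : Z ⟶ G) (hz : Red.IsCentralizerOf (j ≫ i) z)
    (D : Over (Spec (CommRingCat.of k))) [GrpObj D] (d : D ⟶ Z) [IsMonHom d]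
    (hker : ∃ (C : Over (Spec (CommRingCat.of k))) (_ : GrpObj C) (f₀ : Z ⟶ C), IsMonHom f₀ ∧
      (∀ (X : Over (Spec (CommRingCat.of k))) (a b : X ⟶ C), a * b = b * a) ∧ AlgGrp.IsKernel d f₀)
    (hkill : RedSub.KilledByCommutative d) :
    ∃! lam : Red.Gm (Spec (CommRingCat.of k)) ⟶ T, IsMonHom lam ∧ (∃ c : Red.Gm (Spec (CommRingCat.of k)) ⟶ D, c ≫ d ≫ z = lam ≫ i) ∧
      lam ≫ α = Red.chi (Spec (CommRingCat.of k)) (2 : ℤ) := by
  have hi : IsMonHom i := hT.1
  have him : Mono i := hT.2.1
  have hzh : IsMonHom z := hz.1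
  have hzm : Mono z := hz.2.1
  obtain ⟨sp⟩ := hM
  obtain ⟨r, ⟨eM⟩⟩ := Groth.Agent.Sga3B.Parab.TorRank156.finite_free hT.2.2.1 ⟨sp⟩
  have hfin : Module.Finite ℤ M := Module.Finite.equiv eM.toIntLinearEquiv.symm
  have hfree : Module.Free ℤ M := Module.Free.of_equiv eM.toIntLinearEquiv.symm
  obtain ⟨s⟩ := K929.HopfChart.exists_setup hG i hT sp
  have hspi : IsMonHom sp.inv.hom.hom := sp.inv.hom.isMonHom_hom
  have hαm : IsMonHom α := hα.1
  have h0 : IsMonHom (sp.inv.hom.hom ≫ α) := inferInstance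
  obtain ⟨a, ha⟩ := K929.CharLemmas.exists_eq_chi (sp.inv.hom.hom ≫ α)
  have hαa : α = K929.HopfChart.chr sp a := by
    rw [K929.HopfChart.chr, ← ha]
    exact ((Category.assoc _ _ _).symm.trans ((congrArg (fun w => w ≫ α) (K929.HopfChart.sp_hom_inv sp)).trans
      (Category.id_comp _))).symm
  subst hαa
  have ha0 : a ≠ 0 := by
    rintro rfl
    exact hα.2.1 K929.HopfChart.Setup.chr_zero
  have hrk := s.rk_ne_zero_of_field ha0 hα.2.2
  obtain ⟨f', hf'⟩ := K929.HopfChart.exists_factor sp a j hmax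
  obtain ⟨iz, hiz⟩ := K929.HopfChart.exists_factor_cent j z sp hz
  obtain ⟨DD, τ, b, h1, -, h3, h4⟩ := K929.HopfChart.exists_split_cent hG hT s hTa j z hz ha0 hrk hjα f' hf' iz hiz
  obtain ⟨lam, ⟨hl1, ⟨c, hl2⟩, hl3⟩, hu⟩ := K929.HopfChart.existsUnique_coroot DD b h4 D d hker hkill
  have e1 : τ.hom.hom.hom ≫ τ.inv.hom.hom = 𝟙 _ := congrArg (fun f => f.hom.hom) τ.hom_inv_id
  have e2 : τ.inv.hom.hom ≫ τ.hom.hom.hom = 𝟙 _ := congrArg (fun f => f.hom.hom) τ.inv_hom_id
  have m1 : IsMonHom τ.hom.hom.hom := τ.hom.hom.isMonHom_hom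
  have m2 : IsMonHom τ.inv.hom.hom := τ.inv.hom.isMonHom_hom
  have e3 : ∀ {X : Over (Spec (CommRingCat.of k))} (w : DD.T ⟶ X), τ.inv.hom.hom ≫ τ.hom.hom.hom ≫ w = w := fun w =>
      (Category.assoc _ _ _).symm.trans ((congrArg (fun v => v ≫ w) e2).trans (Category.id_comp _))
  refine ⟨lam ≫ τ.inv.hom.hom, ⟨inferInstance, ⟨c, ?_⟩, ?_⟩, ?_⟩
  · rw [← hiz, ← Category.assoc, hl2, h1]
    simp only [Category.assoc]
    rw [← Category.assoc τ.inv.hom.hom]
    exact (congrArg (fun v => lam ≫ v) ((congrArg (fun v => v ≫ DD.i ≫ z) e2).trans (Category.id_comp _))).symm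
  · rw [h3, Category.assoc, e3, hl3]
  · rintro l ⟨hm, ⟨c', hc'⟩, h5⟩
    have h6 : l ≫ τ.hom.hom.hom = lam := by
      apply hu
      refine ⟨inferInstance, ⟨c', ?_⟩, ?_⟩
      · rw [← cancel_mono z, Category.assoc, hc', ← hiz, h1]
        simp only [Category.assoc]
      · rw [Category.assoc, ← h3, h5]
    rw [← h6, Category.assoc]
    exact ((congrArg (fun v => l ≫ v) e1).trans (Category.comp_id _)).symm


end Groth.Agent.S17560
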