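import Groth.Statements.S17562
import Groth.Agent.LieWt.K187.SL2Cent

set_option autoImplicit false
universe u v
open CategoryTheory MonoidalCategory CartesianMonoidalCategory MonObj GrpObj AlgebraicGeometry
open LieWt

namespace Groth.Agent.S17562

/-- Let k be a field, G a reductive k-group scheme (affine, smooth, with connected reductive geometric
fibre), i : T ⟶ G a maximal torus which is split, α a root of (G, T) (a homomorphism to the
multiplicative group other than the trivial character, with non-zero weight space on the Lie algebra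
of G over k), j : T_α ⟶ T the largest subtorus of T killed by α (a subtorus on which α is trivial
and through which every subtorus of T killed by α factors), z : Z ⟶ G the scheme-theoretic
centralizer of T_α in G together with the inclusion j_Z : T_α ⟶ Z (so j_Z ≫ z = j ≫ i), and d : D ⟶
Z the derived group of Z, pinned as the kernel of a homomorphism from Z to a commutative k-group
scheme which is killed by every such homomorphism. Then the multiplication morphism T_α × D ⟶ Z, (t,
g) ↦ j_Z(t) · d(g), is a central isogeny: it is surjective and the scheme-theoretic intersection T_α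
∩ D, its anti-diagonally embedded kernel, has finitely many points; and D is isomorphic to SL_2 as a
k-group scheme, or D is the quotient of SL_2 by its scheme-theoretic centre (the projective linear
group PGL_2 is described here as that quotient: a homomorphism p : SL_2 ⟶ D and the centre C of SL_2
with p representing the fppf quotient of SL_2 by C). (A connected reductive group having a root is
not solvable, so non-solvability is not assumed separately here.) -/
theorem result (k : Type u) [Field k]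
    (G T : Over (Spec (CommRingCat.of k))) [GrpObj G] [GrpObj T] (hG : Red.IsReductive G)
    (i : T ⟶ G) (hT : Red.IsMaximalTorus i) (M : Type) [AddCommGroup M] (hM : Red.IsSplitTorusWith M T)
    (α : T ⟶ Red.Gm (Spec (CommRingCat.of k))) (hα : LieWt.IsRoot i α)
    (Ta : Over (Spec (CommRingCat.of k))) [GrpObj Ta] (j : Ta ⟶ T) [IsMonHom j] [Mono j] (hTa : Red.IsTorus Ta) (hjα : j ≫ α = 1)
    (hmax : ∀ (T' : Over (Spec (CommRingCat.of k))) [GrpObj T'] (j' : T' ⟶ T) [IsMonHom j'] [Mono j'],
      Red.IsTorus T' → j' ≫ α = 1 → ∃ f : T' ⟶ Ta, f ≫ j = j')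
    (Z : Over (Spec (CommRingCat.of k))) [GrpObj Z] (z : Z ⟶ G) (hz : Red.IsCentralizerOf (j ≫ i) z)
    (jZ : Ta ⟶ Z) [IsMonHom jZ] (hjZ : jZ ≫ z = j ≫ i)
    (D : Over (Spec (CommRingCat.of k))) [GrpObj D] (d : D ⟶ Z) [IsMonHom d]
    (hker : ∃ (C : Over (Spec (CommRingCat.of k))) (_ : GrpObj C) (f₀ : Z ⟶ C), IsMonHom f₀ ∧
      (∀ (X : Over (Spec (CommRingCat.of k))) (a b : X ⟶ C), a * b = b * a) ∧ AlgGrp.IsKernel d f₀)
    (hkill : RedSub.KilledByCommutative d) :
    Surjective ((fst Ta D ≫ jZ) * (snd Ta D ≫ d)).left ∧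
      (∀ (I : Over (Spec (CommRingCat.of k))) (p₁ : I ⟶ Ta) (p₂ : I ⟶ D), IsPullback p₁ p₂ jZ d → Finite ↥I.left) ∧
      ((Nonempty (Grp.mk D ≅ Grp.mk ((Spec (CommRingCat.of (CoordGrp.SLn 2 k))).asOver (Spec (CommRingCat.of k))))) ∨
      ∃ (p : (Spec (CommRingCat.of (CoordGrp.SLn 2 k))).asOver (Spec (CommRingCat.of k)) ⟶ D) (_ : IsMonHom p) (C : Over (Spec (CommRingCat.of k))) (_ : GrpObj C)
        (c : C ⟶ (Spec (CommRingCat.of (CoordGrp.SLn 2 k))).asOver (Spec (CommRingCat.of k))), Red.IsCentre c ∧ RedSub.IsQuotient c p) := by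
  have hi : IsMonHom i := hT.1
  have him : Mono i := hT.2.1
  have hzh : IsMonHom z := hz.1
  have hzm : Mono z := hz.2.1
  obtain ⟨sp⟩ := hM
  obtain ⟨r, ⟨eM⟩⟩ := Groth.Agent.Sga3B.Parab.TorRank156.finite_free hT.2.2.1 ⟨sp⟩
  have hfin : Module.Finite ℤ M := Module.Finite.equiv eM.toIntLinearEquiv.symm
  have hfree : Module.Free ℤ M := Module.Free.of_equiv eM.toIntLinearEquiv.symm
  obtain ⟨s⟩ := K929.HopfChart.exists_setup hG i hT sp
  have hspi : IsMonHom sp.inv.hom.hom := sp.inv.hom.isMonHom_hom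
  have hαm : IsMonHom α := hα.1
  have h0 : IsMonHom (sp.inv.hom.hom ≫ α) := inferInstance
  obtain ⟨a, ha⟩ := K929.CharLemmas.exists_eq_chi (sp.inv.hom.hom ≫ α)
  have hαa : α = K929.HopfChart.chr sp a := by
    rw [K929.HopfChart.chr, ← ha]
    exact ((Category.assoc _ _ _).symm.trans ((congrArg (fun w => w ≫ α) (K929.HopfChart.sp_hom_inv sp)).trans
      (Category.id_comp _))).symm
  subst hαa
  have ha0 : a ≠ 0 := by
    rintro rfl
    exact hα.2.1 K929.HopfChart.Setup.chr_zero
  have hrk := s.rk_ne_zero_of_field ha0 hα.2.2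
  obtain ⟨f', hf'⟩ := K929.HopfChart.exists_factor sp a j hmax
  obtain ⟨iz, hiz⟩ := K929.HopfChart.exists_factor_cent j z sp hz
  obtain ⟨DD, τ, b, h1, -, h3, h4⟩ := K929.HopfChart.exists_split_cent hG hT s hTa j z hz ha0 hrk hjα f' hf' iz hiz
  have e1 : τ.hom.hom.hom ≫ τ.inv.hom.hom = 𝟙 _ := congrArg (fun f => f.hom.hom) τ.hom_inv_id
  have e2 : τ.inv.hom.hom ≫ τ.hom.hom.hom = 𝟙 _ := congrArg (fun f => f.hom.hom) τ.inv_hom_id
  have m1 : IsMonHom τ.hom.hom.hom := τ.hom.hom.isMonHom_hom
  have m2 : IsMonHom τ.inv.hom.hom := τ.inv.hom.isMonHom_hom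
  have e3 : ∀ {X : Over (Spec (CommRingCat.of k))} (w : DD.T ⟶ X), τ.inv.hom.hom ≫ τ.hom.hom.hom ≫ w = w := fun w =>
      (Category.assoc _ _ _).symm.trans ((congrArg (fun v => v ≫ w) e2).trans (Category.id_comp _))
  have hone : K929.TwoBorel.OneRoot DD.P := by
    intro c c'
    rcases h4 c with hc | hc <;> rcases h4 c' with hc' | hc' <;> rw [hc, hc'] <;> simp
  have hjZm : Mono jZ := by
    have : Mono (jZ ≫ z) := by
      rw [hjZ]
      infer_instance
    exact mono_of_mono jZ z
  have hDi : Mono DD.i := DD.maximalTorus.2.1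
  have hDh : IsMonHom DD.i := DD.maximalTorus.1
  have hcent : K187.SL2Cent.Cent jZ := by
    intro X x X' y h
    have h5 := (hz.2.2 X' (h ≫ z)).1 ⟨h, rfl⟩ X' (𝟙 X') (y ≫ x)
    rw [Category.id_comp, ← hjZ] at h5
    rw [← cancel_mono z, MonObj.mul_comp, MonObj.mul_comp]
    simp only [Category.assoc] at h5 ⊢
    exact h5.symm
  have hmaxZ : ∀ (R' : Over (Spec (CommRingCat.of k))) [GrpObj R'] (r' : R' ⟶ Z) [IsMonHom r'] [Mono r'],
      Red.IsTorus R' → K187.SL2Cent.Cent r' → ∃ f : R' ⟶ Ta, f ≫ jZ = r' := by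
    intro R' _ r' _ _ hR' hc
    obtain ⟨t, ht, hα'⟩ := (Groth.Agent.S2962.result DD R' r').1 (fun X' x h => by
      have := hc R' (𝟙 R') X' x h
      rwa [Category.id_comp] at this)
    have hth : IsMonHom t := Groth.Agent.Sga3B.Pts.isMonHom_of_points _ fun X x y => by
      rw [← cancel_mono DD.i, MonObj.mul_comp _ _ DD.i, Category.assoc, Category.assoc, Category.assoc, ht,
        MonObj.mul_comp]
    have htm : Mono t := by
      have : Mono (t ≫ DD.i) := by
        rw [ht]
        infer_instance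
      exact mono_of_mono t DD.i
    have hτm : Mono τ.inv.hom.hom := by
      refine ⟨fun {X} x y hxy => ?_⟩
      have h6 := congrArg (fun w => w ≫ τ.hom.hom.hom) hxy
      have h7 : ∀ w : X ⟶ DD.T, (w ≫ τ.inv.hom.hom) ≫ τ.hom.hom.hom = w := fun w =>
        (Category.assoc _ _ _).trans ((congrArg (fun v => w ≫ v) e2).trans (Category.comp_id _))
      exact (h7 x).symm.trans (h6.trans (h7 y))
    obtain ⟨f, hf⟩ := hmax R' (t ≫ τ.inv.hom.hom) hR' (by
      rw [h3, Category.assoc]
      exact (congrArg (fun w => t ≫ w) (e3 _)).trans (hα' b))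
    refine ⟨f, ?_⟩
    rw [← cancel_mono z, Category.assoc, hjZ, ← Category.assoc, hf, ← hiz, h1]
    have h9 : (t ≫ τ.inv.hom.hom) ≫ (τ.hom.hom.hom ≫ DD.i) ≫ z = t ≫ τ.inv.hom.hom ≫ τ.hom.hom.hom ≫ DD.i ≫ z := by
      simp only [Category.assoc]
    rw [h9, e3, ← Category.assoc, ht]
  refine ⟨K187.SL2Cent.surjective_mul DD.reductive Ta jZ D d hmaxZ hker,
    K187.SL2Cent.finite_inter DD.reductive Ta hTa jZ D d hcent hker hkill,
    K187.SL2Fin.isSLorPGL_der (D := DD) (a := b) hone d hker hkill⟩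


end Groth.Agent.S17562
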