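import Groth.Statements.S17563
import Groth.Agent.LieWt.K929.SetupRoot

set_option autoImplicit false
universe u v
open CategoryTheory MonoidalCategory CartesianMonoidalCategory MonObj GrpObj AlgebraicGeometry
open LieWt

namespace Groth.Agent.S17563

/-- Let R be a non-zero commutative ring, G a reductive group scheme over Spec R (affine, smooth,
connected reductive geometric fibres), i : T ⟶ G a maximal torus with a splitting T ≅ D(M) for a
finite free ℤ-module M, a ∈ M a non-zero element with character α of T, and L a Lie algebra over R
given as a model of the Lie algebra of G over R. Suppose a is a root: the weight space of α in L is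
an invertible R-module (a line bundle). Then −a is a root as well: the weight space of the inverse
character α⁻¹ in L is an invertible R-module. (One implication; the converse is the same statement
for −a.) -/
theorem result (R : Type u) [CommRing R] [Nontrivial R]
    (G T : Over (Spec (CommRingCat.of R))) [GrpObj G] [GrpObj T] (hG : Red.IsReductive G)
    (i : T ⟶ G) [IsMonHom i] (hT : Red.IsMaximalTorus i)
    (M : Type) [AddCommGroup M] [Module.Finite ℤ M] [Module.Free ℤ M]
    (split : Grp.mk T ≅ Grp.mk (Red.DS (Spec (CommRingCat.of R)) M)) (a : M) (ha : a ≠ 0)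
    (α : T ⟶ Red.Gm (Spec (CommRingCat.of R))) (hα : α = split.hom.hom.hom ≫ Red.chi (Spec (CommRingCat.of R)) a)
    (L : Type v) [LieRing L] [LieAlgebra R L]
    (mdl : LieS.Model G R (Spec.map (CommRingCat.ofHom (algebraMap R R))) L)
    (hroot : Module.Invertible R ↥(LieWt.modelWeightSpOf mdl i α)) :
    Module.Invertible R ↥(LieWt.modelWeightSpOf mdl i α⁻¹) := by
  obtain ⟨s⟩ := K929.HopfChart.exists_setup hG i hT split
  subst hα
  have h1 := s.rk_ne_zero_of_invertible mdl ha hroot
  have h2 : (split.hom.hom.hom ≫ Red.chi (Spec (CommRingCat.of R)) a)⁻¹ = K929.HopfChart.chr split (-a) :=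
    K929.HopfChart.chr_neg a
  rw [h2]
  exact s.invertible_of_rk mdl (neg_ne_zero.mpr ha) fun x => s.rk_neg ha (h1 x)


end Groth.Agent.S17563
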