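import Groth.Statements.S17564
import Groth.Agent.LieWt.K929.CentSub

set_option autoImplicit false
universe u v
open CategoryTheory MonoidalCategory CartesianMonoidalCategory MonObj GrpObj AlgebraicGeometry
open LieWt

namespace Groth.Agent.S17564

/-- Let R be a non-zero commutative ring, G a reductive group scheme over Spec R (affine, smooth,
connected reductive geometric fibres), i : T ⟶ G a maximal torus with a splitting T ≅ D(M) for a
finite free ℤ-module M, a ∈ M a non-zero element with character α of T, and L a Lie algebra over R
given as a model of the Lie algebra of G over R. Suppose a is a root: the weight space of α in L is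
an invertible R-module (a line bundle). Let j : T_a ⟶ T be the largest subtorus of T killed by α (a
subtorus on which α is trivial and through which every subtorus of T killed by α factors) and z : Z
⟶ G the scheme-theoretic centralizer of T_a in G. Then for every R-algebra B the Lie algebra of Z
over B, as a subgroup of the Lie algebra of G over B, is the direct sum t ⊕ g_a ⊕ g_{-a}: it equals
the join of the image of the Lie algebra of T, the weight space of α and the weight space of α⁻¹,
and these three subgroups are independent. (The uniqueness of T_a as the subtorus of relative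
codimension one in the kernel of α, asserted in the same published statement, is not restated; T_a
is pinned here by maximality.) -/
theorem result (R : Type u) [CommRing R] [Nontrivial R]
    (G T : Over (Spec (CommRingCat.of R))) [GrpObj G] [GrpObj T] (hG : Red.IsReductive G)
    (i : T ⟶ G) [IsMonHom i] (hT : Red.IsMaximalTorus i)
    (M : Type) [AddCommGroup M] [Module.Finite ℤ M] [Module.Free ℤ M]
    (split : Grp.mk T ≅ Grp.mk (Red.DS (Spec (CommRingCat.of R)) M)) (a : M) (ha : a ≠ 0)
    (α : T ⟶ Red.Gm (Spec (CommRingCat.of R))) (hα : α = split.hom.hom.hom ≫ Red.chi (Spec (CommRingCat.of R)) a)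
    (L : Type v) [LieRing L] [LieAlgebra R L]
    (mdl : LieS.Model G R (Spec.map (CommRingCat.ofHom (algebraMap R R))) L)
    (hroot : Module.Invertible R ↥(LieWt.modelWeightSpOf mdl i α))
    (Ta : Over (Spec (CommRingCat.of R))) [GrpObj Ta] (j : Ta ⟶ T) [IsMonHom j] [Mono j] (hTa : Red.IsTorus Ta) (hjα : j ≫ α = 1)
    (hmax : ∀ (T' : Over (Spec (CommRingCat.of R))) [GrpObj T'] (j' : T' ⟶ T) [IsMonHom j'] [Mono j'],
      Red.IsTorus T' → j' ≫ α = 1 → ∃ f : T' ⟶ Ta, f ≫ j = j')
    (Z : Over (Spec (CommRingCat.of R))) [GrpObj Z] (z : Z ⟶ G) [IsMonHom z] (hz : Red.IsCentralizerOf (j ≫ i) z)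
    (B : Type u) [CommRing B] [Algebra R B] :
    Subgroup.map (LieS.map B _ z) ⊤ =
        Subgroup.map (LieS.map B _ i) ⊤ ⊔ LieWt.weightSpOf i α B ⊔ LieWt.weightSpOf i α⁻¹ B ∧
      iSupIndep ![Subgroup.map (LieS.map B _ i) ⊤, LieWt.weightSpOf i α B, LieWt.weightSpOf i α⁻¹ B] := by
  have hi : IsMonHom i := hT.1
  have him : Mono i := hT.2.1
  obtain ⟨s⟩ := K929.HopfChart.exists_setup hG i hT split
  subst hα
  have h1 := s.rk_ne_zero_of_invertible mdl ha hroot
  have h2 : (split.hom.hom.hom ≫ Red.chi (Spec (CommRingCat.of R)) a)⁻¹ = K929.HopfChart.chr split (-a) :=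
    K929.HopfChart.chr_neg a
  obtain ⟨f', hf'⟩ := K929.HopfChart.exists_factor split a j hmax
  rw [h2]
  exact s.map_cent_eq j z hz ha h1 hjα f' hf'


end Groth.Agent.S17564
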