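import Groth.Statements.S17566
import Groth.Agent.LieWt.K929.RootGrpUniq

set_option autoImplicit false
universe u v
open CategoryTheory MonoidalCategory CartesianMonoidalCategory MonObj GrpObj AlgebraicGeometry
open LieWt

namespace Groth.Agent.S17566

/-- Let k be a field, G a reductive k-group scheme (affine, smooth, with connected reductive geometric
fibre), i : T ⟶ G a maximal torus which is split, α a root of (G, T) (a homomorphism to the
multiplicative group other than the trivial character, with non-zero weight space on the Lie algebra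
of G over k), and u₁ : U₁ ⟶ G, u₂ : U₂ ⟶ G two closed subgroup schemes which are smooth and
connected, normalized by T (conjugates of points of U_j by points of T are points of U_j), and whose
Lie algebras over k, as subgroups of the Lie algebra of G over k, are both equal to the weight space
of α. Then U₁ and U₂ are the same subgroup of G (there is an isomorphism U₁ ≅ U₂ over G), and U₁ is
isomorphic to the additive group 𝔾_a as a k-group scheme (existence of an isomorphism). The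
existence of such a subgroup, the root group U_a, is not restated here. -/
theorem result (k : Type u) [Field k]
    (G T : Over (Spec (CommRingCat.of k))) [GrpObj G] [GrpObj T] (hG : Red.IsReductive G)
    (i : T ⟶ G) (hT : Red.IsMaximalTorus i) (M : Type) [AddCommGroup M] (hM : Red.IsSplitTorusWith M T)
    (α : T ⟶ Red.Gm (Spec (CommRingCat.of k))) (hα : LieWt.IsRoot i α)
    (U₁ U₂ : Over (Spec (CommRingCat.of k))) [GrpObj U₁] [GrpObj U₂] (u₁ : U₁ ⟶ G) (u₂ : U₂ ⟶ G) [IsMonHom u₁] [IsMonHom u₂]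
    (hc₁ : IsClosedImmersion u₁.left) (hc₂ : IsClosedImmersion u₂.left)
    [Smooth U₁.hom] [Smooth U₂.hom] [ConnectedSpace ↥U₁.left] [ConnectedSpace ↥U₂.left]
    (hn₁ : ∀ (X : Over (Spec (CommRingCat.of k))) (t : X ⟶ T) (x : X ⟶ U₁), ∃ x' : X ⟶ U₁,
      (t ≫ i) * (x ≫ u₁) * (t ≫ i)⁻¹ = x' ≫ u₁)
    (hn₂ : ∀ (X : Over (Spec (CommRingCat.of k))) (t : X ⟶ T) (x : X ⟶ U₂), ∃ x' : X ⟶ U₂,
      (t ≫ i) * (x ≫ u₂) * (t ≫ i)⁻¹ = x' ≫ u₂)
    (hl₁ : Subgroup.map (LieS.map k _ u₁) ⊤ = LieWt.weightSpOf i α k)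
    (hl₂ : Subgroup.map (LieS.map k _ u₂) ⊤ = LieWt.weightSpOf i α k) :
    (∃ e : U₁ ≅ U₂, e.hom ≫ u₂ = u₁) ∧ Nonempty (Grp.mk U₁ ≅ Grp.mk (Red.Ga (Spec (CommRingCat.of k)))) := by
  obtain ⟨D, τ, hτ, hred⟩ := K929.LieRoot.exists_split hG i hT hM
  obtain ⟨a, ha⟩ := (K929.LieRoot.isRoot_iso D i τ hτ α).mp hα
  have e1 : τ.hom.hom.hom ≫ τ.inv.hom.hom = 𝟙 _ := congrArg (fun f => f.hom.hom) τ.hom_inv_id
  have e2 : τ.inv.hom.hom ≫ τ.hom.hom.hom = 𝟙 _ := congrArg (fun f => f.hom.hom) τ.inv_hom_id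
  have e3 : τ.inv.hom.hom ≫ i = D.i := by
    rw [hτ]
    exact (Category.assoc _ _ _).symm.trans ((congrArg (fun z => z ≫ D.i) e2).trans (Category.id_comp _))
  have hw : LieWt.weightSpOf i α k = LieWt.weightSpOf D.i (K929.LieRoot.ch D (D.P.root a)) k := by
    rw [K929.LieRoot.weightSpOf_iso i D.i ⟨τ.hom.hom.hom, τ.inv.hom.hom, e1, e2⟩ hτ α k, ha]
    congr 1
    exact (Category.assoc _ _ _).symm.trans ((congrArg (fun z => z ≫ _) e2).trans (Category.id_comp _))
  rw [hw] at hl₁ hl₂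
  obtain ⟨f₁, hf₁⟩ := K929.RootGrpUniq.exists_iso_Ga D hred a u₁ hc₁ (fun X t x => by
    obtain ⟨x', hx'⟩ := hn₁ X (t ≫ τ.inv.hom.hom) x
    have h : (t ≫ τ.inv.hom.hom) ≫ i = t ≫ D.i := (Category.assoc _ _ _).trans (congrArg (fun z => t ≫ z) e3)
    rw [h] at hx'
    exact ⟨x', hx'⟩) hl₁
  obtain ⟨f₂, hf₂⟩ := K929.RootGrpUniq.exists_iso_Ga D hred a u₂ hc₂ (fun X t x => by
    obtain ⟨x', hx'⟩ := hn₂ X (t ≫ τ.inv.hom.hom) x
    have h : (t ≫ τ.inv.hom.hom) ≫ i = t ≫ D.i := (Category.assoc _ _ _).trans (congrArg (fun z => t ≫ z) e3)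
    rw [h] at hx'
    exact ⟨x', hx'⟩) hl₂
  have hmu : Mono (D.u a) := (Over.forget _).mono_of_mono_map
    (inferInstanceAs (Mono (D.u a).left))
  have hm : IsMonHom f₁.hom := K929.LieRoot.isMonHom_of_mono f₁.hom (D.u a) u₁ hf₁
  refine ⟨⟨f₁ ≪≫ f₂.symm, ?_⟩, ⟨Grp.mkIso' f₁⟩⟩
  rw [← hf₂, Iso.trans_hom, Iso.symm_hom, Category.assoc, Iso.inv_hom_id_assoc, hf₁]


end Groth.Agent.S17566
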