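import Groth.Statements.S17567
import Groth.Agent.Bivar.K930.RelDimBC

set_option autoImplicit false
universe u
open CategoryTheory AlgebraicGeometry
open Bivar

namespace Groth.Agent.S17567

open K930.PushPull K930.Gysin K930.OKs K930.TestSch K930.RelDimBC K930.GysinComm

/-- Let f : X → Y be flat, locally of finite type and of relative dimension r (every irreducible
component of every fibre has dimension r), with δX the dimension function induced from δY. Then flat
pullback along the base changes of f is a bivariant class of degree −r: there is c ∈ A^{-r}(X → Y)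
such that on every cartesian square (Y' → Y, X' = Y' ×_Y X, f' : X' → Y') and every k-cycle α on Y',
c ∩ [α] is the class of the cycle with the coefficients of (f')^*α (the binder
Bivar.IsFlatPullClass, which also records flatness, finite type, the relative dimension and the
compatibility of δX). Here a pair (X, δ) with Cyc.IsSetup plays the role of a scheme locally of
finite type over the base (S, δ) (X locally Noetherian with universally catenary local rings, δ a
dimension function), Cyc.DeltaCompat records that a dimension function is the induced one, and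
bivariant classes are taken in the operational sense of the prelude: additive operations on the Chow
groups CH_k (k-cycles modulo rational equivalence) of all test schemes, compatible with proper
pushforward, flat pullback and the Gysin maps of zero schemes of sections of invertible modules in
representative form (Bivar.Cl for A^p(X → Y), Bivar.OpCl for A^p(X)). -/
theorem result (X Y : Scheme.{u}) (δX : X → ℤ) (δY : Y → ℤ) (hX : Cyc.IsSetup X δX) (hY : Cyc.IsSetup Y δY) (f : X ⟶ Y) [Flat f] [LocallyOfFiniteType f] (r : ℕ) (hr : Cyc.HasRelDim f r) (hδ : Cyc.DeltaCompat f δX δY) : ∃ c : Bivar.Cl (-(r : ℤ)) f δX δY, Bivar.IsFlatPullClass f r c := by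
  have hf' : ∀ s : Bivar.Sq f δX δY, Flat s.f' := fun s => flat_of_isPullback s.isPullback
  have hl' : ∀ s : Bivar.Sq f δX δY, LocallyOfFiniteType s.f' := fun s => lft_f' s
  have hr' : ∀ s : Bivar.Sq f δX δY, Cyc.HasRelDim s.f' r := fun s =>
    hasRelDim_of_isPullback s.isPullback hr
  have hd' : ∀ s : Bivar.Sq f δX δY, Cyc.DeltaCompat s.f' s.δX' s.δY' := fun s =>
    deltaCompat_f' s hδ
  have hs' : ∀ s : Bivar.Sq f δX δY, Shift s.f' s.δX' s.δY' r := fun s =>
    shift_of_hasRelDim (hr' s) (hd' s)
  refine ⟨⟨fun s k => pullCH s.f' (setup_X' s hX) (setup_Y' s hY) (hs' s) (by ring),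
    ?_, ?_, ?_⟩, ‹_›, ‹_›, hr, hδ, ?_⟩
  · intro s t h _ h' _ w₁ w₂ w₃ k
    rw [pushOK_iff (setup_Y' s hY) (setup_X' s hX) h h' (deltaCompat_h w₁) (deltaCompat_h' w₃)]
    intro x
    exact pullCH_pushCH (isPullback_h w₁ w₂ w₃).flip (setup_Y' t hY) (setup_Y' s hY)
      (setup_X' t hX) (setup_X' s hX) (deltaCompat_h w₁) (deltaCompat_h' w₃) (hs' s) (hs' t)
      (show k - -(r : ℤ) = k + r by ring) x
  · intro s t h _ h' _ q hq hq' w₁ w₂ w₃ k
    rw [pullOK_iff (setup_Y' s hY) (setup_X' s hX) (setup_Y' t hY) (setup_X' t hX) h h'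
      (shift_h w₁ hq) (shift_h' w₃ hq') rfl (by ring)]
    intro x
    have := lft_h w₁
    have := lft_h' w₃
    have hc : Shift (t.f' ≫ h) t.δX' s.δY' ((r : ℤ) + q) := by
      have := shift_of_hasRelDim (hasRelDim_comp t.f' h (setup_X' t hX) (setup_Y' t hY)
        (setup_Y' s hY) (hr' t) hq (hd' t) (deltaCompat_h w₁))
        (Bivar.deltaCompat_comp _ _ _ _ _ (hd' t) (deltaCompat_h w₁))
      exact_mod_cast this
    have hc' : Shift (h' ≫ s.f') t.δX' s.δY' ((r : ℤ) + q) := w₂ ▸ hc
    rw [pullCH_comp t.f' h (setup_X' t hX) (setup_Y' t hY) (setup_Y' s hY) (hr' t) hq (hd' t)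
      (deltaCompat_h w₁) rfl hc rfl (by ring) (by ring),
      pullCH_comp h' s.f' (setup_X' t hX) (setup_X' s hX) (setup_Y' s hY) hq' (hr' s)
      (deltaCompat_h' w₃) (hd' s) (add_comm _ _) hc' (by ring) (by ring) (by ring),
      pullCH_congr w₂.symm (setup_X' t hX) (setup_Y' s hY) hc hc']
  · intro s t i _ j _ w₁ w₂ w₃ M hM σ hσ τ hτ k
    rw [gysinOK_iff (setup_Y' s hY) (setup_X' s hX) i j (deltaCompat_h w₁) (deltaCompat_h' w₃) hM
      (CycB.C1Pull.isInvertible_pullback s.f' hM) hσ hτ (by ring) (by ring)]
    intro x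
    exact (gysCH_pullCH (isPullback_h w₁ w₂ w₃).flip (setup_Y' s hY) (setup_X' s hX)
      (setup_Y' t hY) (setup_X' t hX) (deltaCompat_h w₁) (deltaCompat_h' w₃) (hs' s) (hs' t) hM
      (CycB.C1Pull.isInvertible_pullback s.f' hM) hσ hτ (Iso.refl _) _ (by ring) (by ring) _
      x).symm
  · intro s k α hα α₁ h₁ hα₁
    exact pullCH_cl s.f' (setup_X' s hX) (setup_Y' s hY) (hs' s) (by ring) α hα α₁ h₁ hα₁

end Groth.Agent.S17567
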