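import Groth.Statements.S17568
import Groth.Agent.Bivar.K930.RelDimBC

set_option autoImplicit false
universe u
open CategoryTheory AlgebraicGeometry
open Bivar

namespace Groth.Agent.S17568

open K930.PushPull K930.Gysin K930.OKs K930.TestSch K930.RelDimBC K930.GysinComm K930.ZeroSch

/-- Let L be an invertible O_X-module, σ a global section of L and i : D → X the closed immersion of its
zero scheme, with δD the dimension function induced from δX. Then the Gysin maps of the base changes
of this triple form a bivariant class of degree 1: there is c ∈ A^1(D → X) such that on every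
cartesian square (X' → X, D' = X' ×_X D, i' : D' → X'), for every global section τ of the
pulled-back module with zero scheme i', and every k-cycle α on X', c ∩ [α] is the class of any cycle
whose coefficients are those of (i')^*α, computed as c_1 ∩ α with the rational sections taken to be
τ where it is nonzero and a nowhere-zero fallback elsewhere and read at the points of D' (the binder
Bivar.IsGysinClass, which also records invertibility of L, that i is the zero scheme of σ and the
compatibility of δD). Here a pair (X, δ) with Cyc.IsSetup plays the role of a scheme locally of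
finite type over the base (S, δ) (X locally Noetherian with universally catenary local rings, δ a
dimension function), Cyc.DeltaCompat records that a dimension function is the induced one, and
bivariant classes are taken in the operational sense of the prelude: additive operations on the Chow
groups CH_k (k-cycles modulo rational equivalence) of all test schemes, compatible with proper
pushforward, flat pullback and the Gysin maps of zero schemes of sections of invertible modules in
representative form (Bivar.Cl for A^p(X → Y), Bivar.OpCl for A^p(X)). -/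
theorem result (X D : Scheme.{u}) (δX : X → ℤ) (δD : D → ℤ) (hX : Cyc.IsSetup X δX) (hD : Cyc.IsSetup D δD) (i : D ⟶ X) [IsClosedImmersion i] (hδ : Cyc.DeltaCompat i δD δX) (L : X.Modules) (hL : PicF.IsInvertible L) (σ : L.presheaf.obj (Opposite.op ⊤)) (hσ : Cyc.IsZeroSchemeOf i L σ) : ∃ c : Bivar.Cl 1 i δD δX, Bivar.IsGysinClass i L σ c := by
  have hc' : ∀ s : Bivar.Sq i δD δX, IsClosedImmersion s.f' := fun s =>
    MorphismProperty.of_isPullback s.isPullback.flip ‹_›
  have hd' : ∀ s : Bivar.Sq i δD δX, Cyc.DeltaCompat s.f' s.δX' s.δY' := fun s =>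
    deltaCompat_f' s hδ
  have hLs : ∀ s : Bivar.Sq i δD δX, PicF.IsInvertible ((Scheme.Modules.pullback s.g).obj L) :=
    fun s => CycB.C1Pull.isInvertible_pullback s.g hL
  have hσs : ∀ s : Bivar.Sq i δD δX, Cyc.IsZeroSchemeOf s.f' ((Scheme.Modules.pullback s.g).obj L)
      (pullSec s.g L σ) := fun s => isZeroSchemeOf_pullSec s.isPullback hL hσ
  refine ⟨⟨fun s k => gysCH s.f' (setup_Y' s hX) (hd' s) (hLs s) (hσs s) (by ring),
    ?_, ?_, ?_⟩, hL, hσ, hδ, ?_⟩
  · intro s t h _ h' _ w₁ w₂ w₃ k
    rw [pushOK_iff (setup_Y' s hX) (setup_X' s hD) h h' (deltaCompat_h w₁) (deltaCompat_h' w₃)]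
    intro x
    exact gysCH_pushCH (isPullback_h w₁ w₂ w₃) (setup_Y' s hX) (setup_Y' t hX)
      (setup_X' s hD) (deltaCompat_h w₁) (hd' s) (hd' t) (deltaCompat_h' w₃) (hLs s) (hLs t)
      (hσs s) (hσs t) (pbIso w₁ L) _ x
  · intro s t h _ h' _ q hq hq' w₁ w₂ w₃ k
    rw [pullOK_iff (setup_Y' s hX) (setup_X' s hD) (setup_Y' t hX) (setup_X' t hD) h h'
      (shift_h w₁ hq) (shift_h' w₃ hq') rfl (by ring)]
    intro x
    exact gysCH_pullCH (isPullback_h w₁ w₂ w₃) (setup_Y' s hX) (setup_Y' t hX)
      (setup_X' s hD) (setup_X' t hD) (hd' s) (hd' t) (shift_h w₁ hq) (shift_h' w₃ hq') (hLs s)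
      (hLs t) (hσs s) (hσs t) (pbIso w₁ L) _ _ _ _ x
  · intro s t i₁ _ j _ w₁ w₂ w₃ M hM τ₁ hτ₁ τ hτ k
    rw [gysinOK_iff (setup_Y' s hX) (setup_X' s hD) i₁ j (deltaCompat_h w₁) (deltaCompat_h' w₃) hM
      (CycB.C1Pull.isInvertible_pullback s.f' hM) hτ₁ hτ (by ring) (by ring)]
    intro x
    exact gysCH_gysCH (isPullback_h w₁ w₂ w₃) (setup_Y' s hX) (setup_Y' t hX) (setup_X' s hD)
      (deltaCompat_h w₁) (hd' s) (hd' t) (deltaCompat_h' w₃) hM (hLs s) (hLs t)
      (CycB.C1Pull.isInvertible_pullback s.f' hM) hτ₁ (hσs s) (hσs t) hτ (pbIso w₁ L)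
      (Iso.refl _) _ _ _ _ x
  · intro s τ hτ k α hα w hw γ hγ hγm
    exact gysCH_cl_iso (setup_Y' s hX) (hd' s) (hLs s) (hσs s) (hLs s) hτ (Iso.refl _) (by ring)
      α hα w hw γ hγ hγm

end Groth.Agent.S17568
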