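import Groth.Statements.S17570
import Groth.Agent.Bivar.K930.TestSch

set_option autoImplicit false
universe u
open CategoryTheory AlgebraicGeometry
open Bivar

namespace Groth.Agent.S17570

open K930.PushPull K930.Gysin K930.OKs K930.TestSch

/-- Let L be an invertible O_X-module. Then the rule assigning to every g : Y → X locally of finite type
the operation c_1(g^*L) ∩ − : CH_k(Y) → CH_{k−1}(Y) is a bivariant class of degree 1: there is an
operational class c ∈ A^1(X) such that on every test scheme g : Y → X (with its induced dimension
function) and every k-cycle α on Y, c ∩ [α] is the class of any cycle whose coefficients are those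
of c_1(g^*L) ∩ α computed from any nowhere-zero choice of rational sections of g^*L (the binder
Bivar.IsC1Class, which also records invertibility of L). In particular the operation passes to
rational equivalence and does not depend on the sections. Here a pair (X, δ) with Cyc.IsSetup plays
the role of a scheme locally of finite type over the base (S, δ) (X locally Noetherian with
universally catenary local rings, δ a dimension function), Cyc.DeltaCompat records that a dimension
function is the induced one, and bivariant classes are taken in the operational sense of the
prelude: additive operations on the Chow groups CH_k (k-cycles modulo rational equivalence) of all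
test schemes, compatible with proper pushforward, flat pullback and the Gysin maps of zero schemes
of sections of invertible modules in representative form (Bivar.Cl for A^p(X → Y), Bivar.OpCl for
A^p(X)). -/
theorem result (X : Scheme.{u}) (δX : X → ℤ) (hX : Cyc.IsSetup X δX) (L : X.Modules) (hL : PicF.IsInvertible L) : ∃ c : Bivar.OpCl 1 X δX, Bivar.IsC1Class L c := by
  have hL' : ∀ s : Bivar.OSq X δX, PicF.IsInvertible ((Scheme.Modules.pullback s.g).obj L) :=
    fun s => CycB.C1Pull.isInvertible_pullback s.g hL
  refine ⟨⟨fun s k => c1CH (setup_OSq hX s) (hL' s) (by ring), ?_, ?_, ?_⟩, hL, ?_⟩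
  · intro s t h _ w k
    rw [pushOK_iff (setup_OSq hX s) (setup_OSq hX s) h h (deltaCompat_OSq w) (deltaCompat_OSq w)]
    intro x
    exact c1CH_pushCH h (setup_OSq hX t) (setup_OSq hX s) (deltaCompat_OSq w) (hL' s) (hL' t)
      (pbIso w L) _ x
  · intro s t h _ r hr w k
    rw [pullOK_iff (setup_OSq hX s) (setup_OSq hX s) (setup_OSq hX t) (setup_OSq hX t) h h
      (shift_OSq w hr) (shift_OSq w hr) rfl (by ring)]
    intro x
    exact c1CH_pullCH h (setup_OSq hX t) (setup_OSq hX s) (shift_OSq w hr) (hL' s) (hL' t)
      (pbIso w L) _ _ _ _ x
  · intro s t i _ w M hM σ hσ k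
    rw [gysinOK₁_iff (setup_OSq hX s) i (deltaCompat_OSq w) hM hσ (by ring) (by ring)]
    intro x
    exact (gysCH_c1CH i (setup_OSq hX s) (setup_OSq hX t) (deltaCompat_OSq w) hM (hL' s) (hL' t)
      hσ (pbIso w L) _ _ _ _ x).symm
  · intro s k α hα v hv γ hγ hγm
    exact c1CH_cl (setup_OSq hX s) (hL' s) (by ring) α hα v hv γ hγ hγm

end Groth.Agent.S17570
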