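import Groth.Statements.S17575
import Groth.Agent.Bivar.K930.DimVanish

set_option autoImplicit false
universe u
open CategoryTheory AlgebraicGeometry
open Bivar

namespace Groth.Agent.S17575

open K930.PushPull K930.Gysin K930.OKs K930.TestSch K930.C1Class K930.Chow K930.DimVanish

/-- Let X be a scheme which has an ample invertible module (in particular X is quasi-compact) and whose
dimension (the topological Krull dimension, not the δ-dimension) is at most d. Then for any
invertible modules L_0, …, L_d on X the composite c_1(L_d) ∘ ⋯ ∘ c_1(L_0) vanishes in A^{d+1}(X):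
for every test scheme g : Y → X locally of finite type (with induced dimension function), every x_0
∈ CH_k(Y) and every chain x_{j+1} = c_1(L_j) ∩ x_j ∈ CH_{k−j−1}(Y), j = 0, …, d, one has x_{d+1} =
0. Here each c_1(L_j) ∈ A^1(X) is an operational class given through the binder Bivar.IsC1Class, and
consecutive weights k − (j + 1) and k − j − 1 are matched by the transport Bivar.chCast. (The
published statement takes the dimension equal to d; dimension at most d follows at once, the
operations being additive.) Here a pair (X, δ) with Cyc.IsSetup plays the role of a scheme locally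
of finite type over the base (S, δ) (X locally Noetherian with universally catenary local rings, δ a
dimension function), Cyc.DeltaCompat records that a dimension function is the induced one, and
bivariant classes are taken in the operational sense of the prelude: additive operations on the Chow
groups CH_k (k-cycles modulo rational equivalence) of all test schemes, compatible with proper
pushforward, flat pullback and the Gysin maps of zero schemes of sections of invertible modules in
representative form (Bivar.Cl for A^p(X → Y), Bivar.OpCl for A^p(X)). -/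
theorem result (X : Scheme.{u}) (δX : X → ℤ) (hX : Cyc.IsSetup X δX) (A : X.Modules) (hA : CohB1.IsAmple A) (d : ℕ) (hd : topologicalKrullDim X ≤ (d : WithBot ℕ∞)) (L : ℕ → X.Modules) (c : ℕ → Bivar.OpCl 1 X δX) (hc : ∀ j, j ≤ d → Bivar.IsC1Class (L j) (c j)) (s : Bivar.OSq X δX) (k : ℤ) (x : (j : ℕ) → ChowOps.CH s.Y s.δ (k - (j : ℤ))) (hx : ∀ j, j ≤ d → (c j).op s (k - (j : ℤ)) (x j) = Bivar.chCast s.Y s.δ (((congrArg (fun t : ℤ => k - t) (Nat.cast_succ j)).trans (sub_sub k (j : ℤ) 1).symm)) (x (j + 1))) : x (d + 1) = 0 := by
  have hκ : ∀ j : ℕ, k - (j : ℤ) = k - ((j + 1 : ℕ) : ℤ) + 1 := fun j => by push_cast; ring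
  have := hX.1
  refine chain_zero (d + 1) X s.Y (fun x => B_of_topologicalKrullDim_le hd x) s.g s.δ
    (setup_OSq hX s) L (fun j hj => (hc j (Nat.le_of_lt_succ hj)).1) (fun j => k - (j : ℤ)) hκ x ?_
  intro j hj
  have h1 := hx j (Nat.le_of_lt_succ hj)
  rw [opCl_eq_c1CH (hc j (Nat.le_of_lt_succ hj)) hX] at h1
  have h2 := congrArg (Bivar.chCast s.Y s.δ
    ((congrArg (fun t : ℤ => k - t) (Nat.cast_succ j)).trans (sub_sub k (j : ℤ) 1).symm).symm) h1
  rw [chCast_trans, chCast_self] at h2
  rw [← h2]
  exact c1CH_chCast (setup_OSq hX s) _ (k := k - j) (k' := k - j) _ _ rfl _ (x j)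

end Groth.Agent.S17575
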