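import Groth.Statements.S6482
import Groth.Agent.CycB.Push
import Groth.Agent.CycB.RelDim3
import Groth.Agent.CycB.DivFun

set_option autoImplicit false
universe u
open CategoryTheory AlgebraicGeometry
open CategoryTheory.Limits
open Cyc

namespace Groth.Agent.S6482

/-- Let f : Y → X be an envelope. Then f_* : Z_k(Y) → Z_k(X) is surjective, hence so is f_* : CH_k(Y) →
CH_k(X). An envelope is a proper, completely decomposed morphism (every point of the target has a
point over it with trivial residue field extension; this prelude's Cyc.IsCompletelyDecomposed). Here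
a pair (X, δ) with Cyc.IsSetup plays the role of a scheme locally of finite type over the base (S,
δ) (X locally Noetherian with universally catenary local rings, δ a dimension function), and
Cyc.DeltaCompat records that the dimension function upstairs is the induced one. -/
theorem result (X Y : Scheme.{u}) (δ : X → ℤ) (δY : Y → ℤ) (hX : Cyc.IsSetup X δ) (hY : Cyc.IsSetup Y δY) (f : Y ⟶ X) [IsProper f] (hcd : Cyc.IsCompletelyDecomposed f) (hδ : Cyc.DeltaCompat f δY δ) (k : ℤ) (α : AlgebraicCycle X ℤ) (hα : α ∈ Cyc.Zk X δ k) : ∃ β : AlgebraicCycle Y ℤ, β ∈ Cyc.Zk Y δY k ∧ AlgebraicCycle.map f δY δ β = α := by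
  classical
  choose y hy hsurj using hcd
  have hrtd : ∀ x, Groth.Agent.CycB.RelDim.rtd f (y x) = 0 := fun x =>
    Groth.Agent.CycB.RelDim.rtd_eq_zero_of_surjective f (y x) (hsurj x)
  have hδy : ∀ x, δY (y x) = δ x := by
    intro x
    obtain ⟨n, hn, hn'⟩ := hδ (y x)
    have h1 : (n : Cardinal.{u}) = 0 := hn.symm.trans (hrtd x)
    have h2 : n = 0 := by exact_mod_cast h1
    rw [hn', h2, hy]
    simp
  have hdeg : ∀ x, f.residueDegree (y x) = 1 := by
    intro x
    letI := (f.residueFieldMap (y x)).hom.toAlgebra
    have hb : Function.Bijective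
        (algebraMap (X.residueField (f (y x))) (Y.residueField (y x))) :=
      ⟨(f.residueFieldMap (y x)).hom.injective, hsurj x⟩
    change Module.finrank (X.residueField (f (y x))) (Y.residueField (y x)) = 1
    have e : X.residueField (f (y x)) ≃ₗ[X.residueField (f (y x))] Y.residueField (y x) :=
      LinearEquiv.ofBijective (Algebra.linearMap _ _) hb
    rw [← e.finrank_eq, Module.finrank_self]
  let b : Y → ℤ := fun z => if z = y (f z) then α (f z) else 0
  obtain ⟨β, hβ⟩ : ∃ β : AlgebraicCycle Y ℤ, ⇑β = b := by
    refine Groth.Agent.CycB.DivFun.exists_locallyFinsupp b fun z => ?_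
    obtain ⟨U, hU, hzU, hfin⟩ := (Groth.Agent.CycB.DivFun.exists_locallyFinsupp_iff (⇑α)).1
      ⟨α, rfl⟩ (f z)
    refine ⟨f ⁻¹' U, hU.preimage f.continuous, hzU, ?_⟩
    refine Set.Finite.of_finite_image (f := f) (hfin.subset ?_) ?_
    · rintro _ ⟨w, ⟨hw1, hw2⟩, rfl⟩
      refine ⟨hw1, ?_⟩
      rw [Function.mem_support] at hw2 ⊢
      intro h0
      apply hw2
      simp only [b, h0, ite_self]
    · rintro w ⟨-, hw⟩ w' ⟨-, hw'⟩ hww
      have h1 : w = y (f w) := by
        by_contra h
        exact hw (if_neg h)
      have h2 : w' = y (f w') := by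
        by_contra h
        exact hw' (if_neg h)
      rw [h1, h2]
      exact congrArg y hww
  refine ⟨β, ?_, ?_⟩
  · intro z hz
    rw [hβ]
    simp only [b]
    split_ifs with h
    · refine hα (f z) fun h' => hz ?_
      rw [h, hδy, h']
    · rfl
  · ext x
    rw [Groth.Agent.CycB.Push.map_apply, finsum_eq_single _ (y x)]
    · have h1 : y x ∈ {z : Y | f z = x} := hy x
      rw [finsum_eq_if, if_pos h1, hβ]
      simp only [b, AlgebraicCycle.mapCoeff]
      have h2 : δY (y x) = δ (f.base (y x)) := by
        rw [hδy]
        exact congrArg δ (hy x).symm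
      rw [if_pos h2, hdeg, if_pos (by rw [hy]), hy]
      simp
    · intro z hz
      rw [finsum_eq_if]
      split_ifs with h
      · have h1 : ¬ z = y (f z) := by
          rw [show f z = x from h]; exact hz
        rw [hβ]
        simp only [b]
        rw [if_neg h1, zero_mul]
      · rfl

end Groth.Agent.S6482
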