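import Groth.Statements.S6484
import Groth.Agent.CycB.RelDim2

set_option autoImplicit false
universe u
open CategoryTheory AlgebraicGeometry
open CategoryTheory.Limits
open Cyc

namespace Groth.Agent.S6484

/-- If f : Y → X is completely decomposed (this prelude's Cyc.IsCompletelyDecomposed: over every point
of X lies a point of Y with trivial residue field extension) and g : X' → X is any morphism of
schemes, then the base change Y ×_X X' → X' is completely decomposed. Consequently the base change
of an envelope (a proper completely decomposed morphism) is an envelope, properness being preserved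
by base change. (The published envelope statement takes X′ → X between schemes locally of finite
type over a base; this row allows any g.) -/
theorem result (X X' Y : Scheme.{u}) (f : Y ⟶ X) (g : X' ⟶ X) (hcd : Cyc.IsCompletelyDecomposed f) : Cyc.IsCompletelyDecomposed (pullback.snd f g) := by
  intro x'
  obtain ⟨y, hy, hsurj⟩ := hcd (g x')
  -- the residue field extension at `y` is an isomorphism
  have hbij : Function.Bijective (f.residueFieldMap y).hom :=
    ⟨(f.residueFieldMap y).hom.injective, hsurj⟩
  have hiso : IsIso (f.residueFieldMap y) := by
    rw [ConcreteCategory.isIso_iff_bijective]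
    exact hbij
  let a : Spec (X'.residueField x') ⟶ Y :=
    Spec.map (g.residueFieldMap x') ≫ Spec.map (X.residueFieldCongr hy).hom ≫
      Spec.map (inv (f.residueFieldMap y)) ≫ Y.fromSpecResidueField y
  have ha : a ≫ f = X'.fromSpecResidueField x' ≫ g := by
    have h1 : Y.fromSpecResidueField y ≫ f =
        Spec.map (f.residueFieldMap y) ≫ X.fromSpecResidueField (f y) :=
      (f.SpecMap_residueFieldMap_fromSpecResidueField y).symm
    have h2 : Spec.map (inv (f.residueFieldMap y)) ≫ Spec.map (f.residueFieldMap y) = 𝟙 _ := by
      rw [← Spec.map_comp, IsIso.hom_inv_id, Spec.map_id]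
    simp only [a, Category.assoc]
    rw [h1, ← Category.assoc (Spec.map (inv (f.residueFieldMap y))), h2, Category.id_comp,
      Scheme.residueFieldCongr_fromSpecResidueField,
      Scheme.Hom.SpecMap_residueFieldMap_fromSpecResidueField]
  let s : Spec (X'.residueField x') ⟶ pullback f g := pullback.lift a (X'.fromSpecResidueField x') ha
  have hs : s ≫ pullback.snd f g = X'.fromSpecResidueField x' := pullback.lift_snd _ _ _
  let pt : ↥(Spec (X'.residueField x')) := IsLocalRing.closedPoint (X'.residueField x')
  refine ⟨s pt, ?_, ?_⟩
  · have h1 : (pullback.snd f g) (s pt) = (s ≫ pullback.snd f g) pt := rfl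
    rw [h1, hs]
    exact Scheme.fromSpecResidueField_apply _ _
  · have h2 : Function.Surjective ((s ≫ pullback.snd f g).residueFieldMap pt).hom := by
      rw [hs]
      exact Groth.Agent.CycB.RelDim.residueFieldMap_surjective_of_stalkMap _ _
        ((X'.fromSpecResidueField x').stalkMap_surjective pt)
    rw [Scheme.residueFieldMap_comp] at h2
    intro z
    obtain ⟨w, hw⟩ := h2 ((s.residueFieldMap pt).hom z)
    exact ⟨w, (s.residueFieldMap pt).hom.injective hw⟩

end Groth.Agent.S6484
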