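import Groth.Statements.S17576
import Groth.Agent.Bivar.K930.Squares
import Groth.Agent.S6482
import Groth.Agent.S6484

set_option autoImplicit false
universe u
open CategoryTheory AlgebraicGeometry
open Bivar

namespace Groth.Agent.S17576

open K930.PushPull K930.Gysin K930.OKs K930.TestSch K930.RelDimBC K930.GysinComm K930.Squares
open CategoryTheory.Limits

/-- Let f : X → Y be locally of finite type, g : Y' → Y an envelope (a proper, completely decomposed
morphism: over every point of Y lies a point of Y' with trivial residue field extension) and X' = Y'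
×_Y X. Then a bivariant class c ∈ A^p(X → Y) is determined by its restriction res(c) ∈ A^p(X' → Y'):
two classes with the same restriction along the square (g, X') are equal. (The existence part — a
class c' on X' → Y' whose two restrictions to X' ×_X X' → Y' ×_Y Y' agree descends — is not stated
here.) Here a pair (X, δ) with Cyc.IsSetup plays the role of a scheme locally of finite type over
the base (S, δ) (X locally Noetherian with universally catenary local rings, δ a dimension
function), Cyc.DeltaCompat records that a dimension function is the induced one, and bivariant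
classes are taken in the operational sense of the prelude: additive operations on the Chow groups
CH_k (k-cycles modulo rational equivalence) of all test schemes, compatible with proper pushforward,
flat pullback and the Gysin maps of zero schemes of sections of invertible modules in representative
form (Bivar.Cl for A^p(X → Y), Bivar.OpCl for A^p(X)). -/
theorem result (X Y : Scheme.{u}) (δX : X → ℤ) (δY : Y → ℤ) (hX : Cyc.IsSetup X δX) (hY : Cyc.IsSetup Y δY) (f : X ⟶ Y) [LocallyOfFiniteType f] (hδ : Cyc.DeltaCompat f δX δY) (p : ℤ) (s₀ : Bivar.Sq f δX δY) [IsProper s₀.g] (hcd : Cyc.IsCompletelyDecomposed s₀.g) (c₁ c₂ : Bivar.Cl p f δX δY) (heq : c₁.res s₀ = c₂.res s₀) : c₁ = c₂ := by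
  apply Bivar.Cl.ext
  funext s k
  refine AddMonoidHom.ext fun x => ?_
  have := s.lft
  have hprop : IsProper (pullback.snd s₀.g s.g) := inferInstance
  have hlf : LocallyOfFiniteType (pullback.fst s₀.g s.g) := inferInstance
  obtain ⟨δU, hδU⟩ := CycB.SetupLft.exists_deltaCompat (pullback.fst s₀.g s.g) s₀.δY'
  let t₀ : Bivar.Sq s₀.f' s₀.δX' s₀.δY' := ofHom s₀.δX' (pullback.fst s₀.g s.g) hδU
  have w : pullback.snd s₀.g s.g ≫ s.g = (s₀.paste t₀).g := pullback.condition.symm
  have hd := deltaCompat_h (s := s) (t := s₀.paste t₀) (h := pullback.snd s₀.g s.g) w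
  have hcd' := S6484.result Y s.Y' s₀.Y' s₀.g s.g hcd
  have hsurj : ∃ y : ChowOps.CH (s₀.paste t₀).Y' (s₀.paste t₀).δY' k,
      pushCH (pullback.snd s₀.g s.g) (setup_Y' s hY) hd k y = x := by
    obtain ⟨α, hα, rfl⟩ := Bivar.exists_rep x
    obtain ⟨β, hβ, e⟩ := S6482.result s.Y' _ s.δY' δU (setup_Y' s hY)
      (setup_of _ (setup_Y' s hY) hd) (pullback.snd s₀.g s.g) hcd' hd k α hα
    exact ⟨ChowOps.cl β hβ, pushCH_cl' _ _ _ _ _ _ _ _ e⟩
  obtain ⟨y, rfl⟩ := hsurj
  exact @op_eq_of_push _ _ _ _ _ hX hY _ c₁ c₂ s (s₀.paste t₀) (pullback.snd s₀.g s.g) hprop w k y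
    (congrArg (fun c => Bivar.Cl.op c t₀ k y) heq)

end Groth.Agent.S17576
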