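import Groth.Statements.S17577
import Groth.Agent.Bivar.K930.Decomp

set_option autoImplicit false
universe u
open CategoryTheory AlgebraicGeometry
open Bivar

namespace Groth.Agent.S17577

open K930.PushPull K930.Gysin K930.OKs K930.TestSch K930.RelDimBC K930.Squares K930.Decomp

/-- (3) ⇒ (1): let f : X → Y be locally of finite type and c ∈ A^p(X → Y) a bivariant class. Suppose
that for every cartesian square whose test scheme Y' is integral (Y' → Y locally of finite type, X'
= Y' ×_Y X) there is a proper birational morphism Y'' → Y' (Y'' irreducible, not necessarily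
reduced, its generic point mapping to the generic point of Y' with an isomorphism of local rings
there) such that c ∩ [Y''] = 0 in CH_*(X''), where X'' = Y'' ×_Y X and [Y''] is the cycle with
coefficient 1 at the generic point of Y'' and 0 elsewhere. Then c = 0. Taking Y'' = Y' shows in
particular that c vanishes as soon as c ∩ [Y'] = 0 for every such square with Y' integral. The
squares are the prelude's Bivar.Sq (any fibre products), the second one pasted onto the first. Here
a pair (X, δ) with Cyc.IsSetup plays the role of a scheme locally of finite type over the base (S,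
δ) (X locally Noetherian with universally catenary local rings, δ a dimension function),
Cyc.DeltaCompat records that a dimension function is the induced one, and bivariant classes are
taken in the operational sense of the prelude: additive operations on the Chow groups CH_k (k-cycles
modulo rational equivalence) of all test schemes, compatible with proper pushforward, flat pullback
and the Gysin maps of zero schemes of sections of invertible modules in representative form
(Bivar.Cl for A^p(X → Y), Bivar.OpCl for A^p(X)). -/
theorem result (X Y : Scheme.{u}) (δX : X → ℤ) (δY : Y → ℤ) (hX : Cyc.IsSetup X δX) (hY : Cyc.IsSetup Y δY) (f : X ⟶ Y) [LocallyOfFiniteType f] (hδ : Cyc.DeltaCompat f δX δY) (p : ℤ) (c : Bivar.Cl p f δX δY) (h3 : ∀ (s : Bivar.Sq f δX δY) [AlgebraicGeometry.IsIntegral s.Y'], ∃ (t : Bivar.Sq s.f' s.δX' s.δY') (_ : IrreducibleSpace t.Y') (_ : IsProper t.g), t.g (genericPoint t.Y') = genericPoint s.Y' ∧ IsIso (t.g.stalkMap (genericPoint t.Y')) ∧ ∀ (k : ℤ) (α : AlgebraicCycle t.Y' ℤ) (hα : α ∈ Cyc.Zk t.Y' t.δY' k), α (genericPoint t.Y') = 1 → (∀ y : t.Y',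 y ≠ genericPoint t.Y' → α y = 0) → c.op (s.paste t) k (ChowOps.cl α hα) = 0) : c = 0 := by
  refine cl_eq_zero_of_integral hX hY c fun s _ => ?_
  obtain ⟨t, hirr, hprop, hgen, hiso, h⟩ := h3 s
  have hsurj : Function.Surjective (t.g.stalkMap (genericPoint t.Y')).hom :=
    (ConcreteCategory.bijective_of_isIso (t.g.stalkMap (genericPoint t.Y'))).2
  have hres := CycB.RelDim.residueFieldMap_surjective_of_stalkMap t.g (genericPoint t.Y') hsurj
  have hδg : t.δY' (genericPoint t.Y') = s.δY' (genericPoint s.Y') := by
    obtain ⟨n, hn, hn'⟩ := t.compatY (genericPoint t.Y')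
    have h0 := CycB.RelDim.rtd_eq_zero_of_surjective t.g (genericPoint t.Y') hres
    have h1 : (n : Cardinal.{u}) = 0 := hn.symm.trans h0
    have h2 : n = 0 := by exact_mod_cast h1
    rw [hn', h2, hgen]; simp
  have hdeg : t.g.residueDegree (genericPoint t.Y') = 1 := by
    let _ := (t.g.residueFieldMap (genericPoint t.Y')).hom.toAlgebra
    have hb : Function.Bijective (algebraMap (s.Y'.residueField (t.g (genericPoint t.Y')))
        (t.Y'.residueField (genericPoint t.Y'))) :=
      ⟨(t.g.residueFieldMap (genericPoint t.Y')).hom.injective, hres⟩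
    change Module.finrank (s.Y'.residueField (t.g (genericPoint t.Y')))
      (t.Y'.residueField (genericPoint t.Y')) = 1
    rw [← Module.finrank_self (s.Y'.residueField (t.g (genericPoint t.Y')))]
    exact (LinearEquiv.ofBijective (Algebra.linearMap _ _) hb).finrank_eq.symm
  have hcoef : AlgebraicCycle.mapCoeff t.g t.δY' s.δY' (genericPoint t.Y') = 1 :=
    mapCoeff_eq_one (by rw [hδg, hgen]) hdeg
  have ht := h _ (ptCyc (genericPoint t.Y') 1) (ptCyc_mem hδg 1) (ptCyc_self _ _)
    (fun y hy => ptCyc_ne _ hy)
  have key := op_eq_zero_of_push hX hY c (s := s) (t := s.paste t) t.g rfl _ ht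
  rw [pushCH_cl] at key
  have e : AlgebraicCycle.map t.g t.δY' s.δY' (ptCyc (genericPoint t.Y') 1) =
      ptCyc (genericPoint s.Y') 1 := by
    rw [map_ptCyc, hcoef, hgen]; simp
  refine ⟨ptCyc (genericPoint s.Y') 1, ptCyc_mem rfl 1, ptCyc_self _ _,
    fun y hy => ptCyc_ne _ hy, ?_⟩
  rw [← key]
  congr 1
  exact (cl_congr e _ _).symm

end Groth.Agent.S17577
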