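import Groth.Statements.S17590
import Groth.Agent.PosLin.K931.Wilson
import Groth.Agent.Variety.K104.FujInp
import Groth.Agent.Vanish.K909.AltFinal
import Groth.Agent.Vanish.K909.KodAkn
import Groth.Agent.Resolve.K284.NodeB

set_option autoImplicit false
open CategoryTheory CategoryTheory.Limits AlgebraicGeometry
open PosLin

namespace Groth.Agent.S17590

attribute [-instance] CategoryTheory.catToReflQuiver

/-- Let X be a projective variety over the complex numbers (an integral scheme, proper over ℂ, with an
ample invertible module) which is normal, and L an invertible O_X-module (the module of a Cartier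
divisor D) which is numerically effective (non-negative degree on every integral one-dimensional
closed subscheme) and big, bigness being expressed through the equivalent condition that every ample
invertible O_X-module A admits a monomorphism A → L^⊗m for some m > 0. Then there are an effective
Cartier divisor N on X, given here by its ideal, a quasi-coherent ideal I ⊆ O_X which is an
invertible O_X-module, and a natural number m₀ such that L^⊗m ⊗ I, the module of mD − N, is globally
generated for every m > m₀: the linear series of mD − N is free. -/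
theorem result (X : Scheme.{0}) [X.Over (Spec (CommRingCat.of ℂ))] [IsIntegral X]
    [IsProper (X ↘ Spec (CommRingCat.of ℂ))] (H : X.Modules) (hH : CohB1.IsAmple H)
    (hXn : Pi1.IsNormalScheme X)
    (L : X.Modules) (hL : PicF.IsInvertible L)
    (hnef : ∀ (Z : Scheme.{0}) (i : Z ⟶ X) [IsClosedImmersion i], IsIntegral Z → topologicalKrullDim Z = 1 →
      0 ≤ Pic13.curveDeg ℂ (i ≫ (X ↘ Spec (CommRingCat.of ℂ))) ((Scheme.Modules.pullback i).obj L))
    (hbig : ∀ A : X.Modules, CohB1.IsAmple A → ∃ (m : ℕ) (φ : A ⟶ CohB1.tensorPow L m), 0 < m ∧ Mono φ) :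
    ∃ (I : X.IdealSheafData) (m₀ : ℕ), PicF.IsInvertible (ClSub.idealMod I) ∧
      ∀ m : ℕ, m₀ < m → Curv2.IsGloballyGenerated (CohB1.tensorMod (CohB1.tensorPow L m) (ClSub.idealMod I)) := by
  have kod : K909.KodDual.Kod.{0} ℂ := by
    intro X _ _ _ _ n hn L Linv hL hLinv b hb
    exact K909.KodAkn.kod ℂ X n hn L Linv hL hLinv b hb
  have hcoh : Coh.IsCoh (Coh.structureModule X) := by
    have hNoeth : IsNoetherian X := VarietyA.TwistExist.isNoetherian ℂ X
    exact Groth.Agent.VarietyA.CurveFin.isCoh_of_isInvertible
      Groth.Agent.Fdesc.LocGen.isInvertible_structureModule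
  exact K931.Wilson.wilson ℂ hH
    (K104.Fuj.fujNef (K909.AltFinal.alt ℂ (K284.NodeB.nodeB ℂ)) kod hH _ hcoh) hL hnef hbig

end Groth.Agent.S17590
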