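import Groth.Statements.S17615
import Groth.Agent.Hensel.K145.FlatDesc
import Groth.Agent.Hensel.K144.Locus

set_option autoImplicit false
universe u
open Hensel

namespace Groth.Agent.S17615

/-- Let (A, I) be a Henselian pair and let B be a Henselization of the pair (R₀, IR₀) for a finitely
presented A-algebra R₀ (so A → B is a Henselian finitely presented map of Henselian pairs). If B is
flat over A, then there are a finitely presented A-algebra S that is flat over A and an S-algebra
structure on B compatible with that of A for which B is a Henselization of the pair (S, IS). -/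
theorem result (A : Type u) [CommRing A]
    (I : Ideal A) [HenselianRing A I]
    (R₀ : Type u) [CommRing R₀] [Algebra A R₀] [Algebra.FinitePresentation A R₀]
    (B : Type u) [CommRing B] [Algebra R₀ B] [Algebra A B] [IsScalarTower A R₀ B]
    (hB : Hens2.IsPairHenselization R₀ (I.map (algebraMap A R₀)) B) [Module.Flat A B] :
    ∃ (S : Type u) (_ : CommRing S) (_ : Algebra A S) (_ : Algebra S B) (_ : IsScalarTower A S B),
      Algebra.FinitePresentation A S ∧ Module.Flat A S ∧
      Hens2.IsPairHenselization S (I.map (algebraMap A S)) B := by
  obtain ⟨g, -, h1, h2, h3⟩ := K144.Locus.exists_flat_nbhd (A := A) (R := R₀)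
    (I.map (algebraMap A R₀)) fun p hp => K145.FlatDesc.flat_atPrime_of_ph I hB p.asIdeal hp
  have hN : K145.Nbhd.IsNbhd R₀ (I.map (algebraMap A R₀)) (Localization.Away g) := ⟨h1, h2⟩
  obtain ⟨i1, i2, hS⟩ := K145.FlatDesc.exists_algebra hN hB
  have i3 : IsScalarTower A (Localization.Away g) B := by
    refine IsScalarTower.of_algebraMap_eq fun a => ?_
    rw [IsScalarTower.algebraMap_apply A R₀ (Localization.Away g),
      ← IsScalarTower.algebraMap_apply R₀ (Localization.Away g) B,
      ← IsScalarTower.algebraMap_apply A R₀ B]
  refine ⟨Localization.Away g, inferInstance, inferInstance, i1, i3,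
    Algebra.FinitePresentation.trans A R₀ (Localization.Away g), h3, ?_⟩
  rwa [Ideal.map_map, ← IsScalarTower.algebraMap_eq A R₀ (Localization.Away g)] at hS

end Groth.Agent.S17615
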