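import Groth.Statements.S17601
import Groth.Agent.Hensel.K145.FlatDesc
import Groth.Agent.Hensel.K144.Locus
import Groth.Agent.S17615

set_option autoImplicit false
universe u
open Hensel

namespace Groth.Agent.S17601

/-- Let (A, I) be a Henselian pair and let B be a Henselization of the pair (R₀, IR₀) for a finitely
presented A-algebra R₀ (so A → B is Henselian finitely presented). If B is flat over A and A/I^r →
B/I^rB is smooth for every r ≥ 1 (the h-formally smooth property, in its equivalent form for
Henselian finitely presented maps), then A → B is h-smooth: there is a smooth A-algebra R, with an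
R-algebra structure on B compatible with that of A, such that B is a Henselization of the pair (R,
IR). -/
theorem result (A : Type u) [CommRing A] (I : Ideal A)
    [HenselianRing A I] (R₀ : Type u) [CommRing R₀] [Algebra A R₀] [Algebra.FinitePresentation A R₀]
    (B : Type u) [CommRing B] [Algebra R₀ B] [Algebra A B] [IsScalarTower A R₀ B]
    (hB : Hens2.IsPairHenselization R₀ (I.map (algebraMap A R₀)) B) [Module.Flat A B]
    (het : ∀ r : ℕ, 1 ≤ r → Algebra.Smooth (A ⧸ I ^ r) (B ⧸ (I ^ r).map (algebraMap A B))) :
    ∃ (R : Type u) (_ : CommRing R) (_ : Algebra A R) (_ : Algebra R B) (_ : IsScalarTower A R B),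
      Algebra.Smooth A R ∧ Hens2.IsPairHenselization R (I.map (algebraMap A R)) B := by
  obtain ⟨S, _, _, _, _, hS1, hS2, hS⟩ := Groth.Agent.S17615.result A I R₀ B hB
  have h1 := het 1 le_rfl
  have h2 : Algebra.Smooth (A ⧸ I ^ 1) (S ⧸ (I ^ 1).map (algebraMap A S)) :=
    Algebra.Smooth.of_equiv (K145.Trunc.truncEquiv hS 1).symm
  obtain ⟨g, -, h3, h4, h5⟩ := K144.Locus.exists_smooth_nbhd (A := A) (R := S)
    (I.map (algebraMap A S)) fun p hp => K145.FlatDesc.isSmoothAt_of_flat (I ^ 1) p.asIdeal
      (by rwa [pow_one])
  have hN : K145.Nbhd.IsNbhd S (I.map (algebraMap A S)) (Localization.Away g) := ⟨h3, h4⟩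
  obtain ⟨i1, i2, hS'⟩ := K145.FlatDesc.exists_algebra hN hS
  have i3 : IsScalarTower A (Localization.Away g) B := by
    refine IsScalarTower.of_algebraMap_eq fun a => ?_
    rw [IsScalarTower.algebraMap_apply A S (Localization.Away g),
      ← IsScalarTower.algebraMap_apply S (Localization.Away g) B,
      ← IsScalarTower.algebraMap_apply A S B]
  refine ⟨Localization.Away g, inferInstance, inferInstance, i1, i3, h5, ?_⟩
  rwa [Ideal.map_map, ← IsScalarTower.algebraMap_eq A S (Localization.Away g)] at hS'

end Groth.Agent.S17601
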