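import Groth.Statements.S17604
import Groth.Agent.Hensel.K145.Trunc
import Groth.Agent.Hensel.PairLift

set_option autoImplicit false
universe u
open Hensel

namespace Groth.Agent.S17604

/-- Let (A, I) be a Henselian pair, R and R' étale A-algebras, and B, B' Henselizations of the pairs (R,
IR), (R', IR') with their induced A-algebra structures (so B and B' are h-étale over A). Then
reduction modulo I is a bijection from A-algebra maps B → B' to A-algebra maps B/IB → B'/IB': two
A-algebra maps B → B' that agree modulo IB' are equal, and every A-algebra map B/IB → B'/IB' is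
induced by an A-algebra map B → B'. -/
theorem result (A : Type u) [CommRing A]
    (I : Ideal A) [HenselianRing A I]
    (R : Type u) [CommRing R] [Algebra A R] [Algebra.Etale A R]
    (B : Type u) [CommRing B] [Algebra R B] [Algebra A B] [IsScalarTower A R B]
    (hB : Hens2.IsPairHenselization R (I.map (algebraMap A R)) B)
    (R' : Type u) [CommRing R'] [Algebra A R'] [Algebra.Etale A R']
    (B' : Type u) [CommRing B'] [Algebra R' B'] [Algebra A B'] [IsScalarTower A R' B']
    (hB' : Hens2.IsPairHenselization R' (I.map (algebraMap A R')) B') :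
    (∀ φ ψ : B →ₐ[A] B', (∀ b : B, φ b - ψ b ∈ I.map (algebraMap A B')) → φ = ψ) ∧
    ∀ χ : (B ⧸ I.map (algebraMap A B)) →ₐ[A] (B' ⧸ I.map (algebraMap A B')),
      ∃ φ : B →ₐ[A] B', ∀ b : B,
        Ideal.Quotient.mk (I.map (algebraMap A B')) (φ b) = χ (Ideal.Quotient.mk (I.map (algebraMap A B)) b) := by
  have hB'1 : HenselianRing B' (I.map (algebraMap A B')) := by
    have := hB'.1
    rwa [Ideal.map_map, ← IsScalarTower.algebraMap_eq] at this
  -- extension of a map from `R` to a map from `B`
  have hext : ∀ ψ : R →ₐ[A] B', ∃ g : B →ₐ[A] B', ∀ x : R, g (algebraMap R B x) = ψ x := by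
    intro ψ
    obtain ⟨g, hg, -⟩ := hB.2 B' (I.map (algebraMap A B')) ψ.toRingHom hB'1 (by
      rw [Ideal.map_map, show ψ.toRingHom.comp (algebraMap A R) = algebraMap A B' from
        ψ.comp_algebraMap])
    have hg' : ∀ x : R, g (algebraMap R B x) = ψ x := fun x => congrArg (fun f : R →+* B' => f x) hg
    exact ⟨{ g with
      commutes' := fun a => by
        change g (algebraMap A B a) = _
        rw [IsScalarTower.algebraMap_apply A R B, hg', AlgHom.commutes] }, hg'⟩
  constructor
  · intro φ ψ h
    have h1 : φ.comp (IsScalarTower.toAlgHom A R B) = ψ.comp (IsScalarTower.toAlgHom A R B) := by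
      obtain ⟨f, -, hf⟩ := Groth.Agent.Hensel.PairLift.existsUnique_algHom_lift
        (I.map (algebraMap A B'))
        ((Ideal.Quotient.mkₐ A (I.map (algebraMap A B'))).comp
          (φ.comp (IsScalarTower.toAlgHom A R B)))
      rw [hf _ rfl]
      symm
      apply hf
      refine AlgHom.ext fun x => ?_
      change Ideal.Quotient.mk _ (ψ (algebraMap R B x)) = Ideal.Quotient.mk _ (φ (algebraMap R B x))
      rw [eq_comm, Ideal.Quotient.eq]
      exact h _
    have h2 : φ.toRingHom = ψ.toRingHom := by
      refine K145.Univ.HEquiv.ringHom_ext hB.2 _ hB'1 ?_ ?_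
      · ext x
        exact congrArg (fun f : R →ₐ[A] B' => f x) h1
      · rw [Ideal.map_map, RingHom.comp_assoc, ← IsScalarTower.algebraMap_eq,
          show ψ.toRingHom.comp (algebraMap A B) = algebraMap A B' from ψ.comp_algebraMap]
    refine AlgHom.ext fun x => ?_
    exact congrArg (fun f : B →+* B' => f x) h2
  · intro χ
    let σ : R →ₐ[A] B' ⧸ I.map (algebraMap A B') :=
      χ.comp ((Ideal.Quotient.mkₐ A (I.map (algebraMap A B))).comp (IsScalarTower.toAlgHom A R B))
    obtain ⟨f, hf, -⟩ := Groth.Agent.Hensel.PairLift.existsUnique_algHom_lift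
        (I.map (algebraMap A B')) σ
    obtain ⟨g, hg⟩ := hext f
    refine ⟨g, fun b => ?_⟩
    obtain ⟨r, hr⟩ := K145.Nbhd.ph_exists_sub_mem hB b
    rw [Ideal.map_map, ← IsScalarTower.algebraMap_eq] at hr
    have h1 : Ideal.Quotient.mk (I.map (algebraMap A B)) b =
        Ideal.Quotient.mk _ (algebraMap R B r) := Ideal.Quotient.eq.2 hr
    have h2 : Ideal.Quotient.mk (I.map (algebraMap A B')) (g b) =
        Ideal.Quotient.mk _ (g (algebraMap R B r)) := by
      rw [Ideal.Quotient.eq, ← map_sub]
      have := Ideal.mem_map_of_mem g.toRingHom hr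
      rwa [Ideal.map_map, show g.toRingHom.comp (algebraMap A B) = algebraMap A B' from
        g.comp_algebraMap] at this
    rw [h1, h2, hg]
    exact congrArg (fun f : R →ₐ[A] B' ⧸ I.map (algebraMap A B') => f r) hf

end Groth.Agent.S17604
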