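import Groth.Statements.S17605
import Groth.Agent.Hensel.K145.Nbhd

set_option autoImplicit false
universe u
open Hensel

namespace Groth.Agent.S17605

/-- Let A be a ring with an ideal I and let f₁, f₂ be elements of A such that D(f₂) ∩ V(I) ⊆ D(f₁) ∩
V(I) in Spec A. If H₁ is a Henselization of the pair (A_{f₁}, IA_{f₁}) and H₂ a Henselization of the
pair (A_{f₂}, IA_{f₂}), with their induced A-algebra structures, then there is exactly one A-algebra
map H₁ → H₂. -/
theorem result (A : Type u) [CommRing A]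
    (I : Ideal A) (f₁ f₂ : A)
    (h : (PrimeSpectrum.basicOpen f₂ : Set (PrimeSpectrum A)) ∩ PrimeSpectrum.zeroLocus (I : Set A) ⊆
      (PrimeSpectrum.basicOpen f₁ : Set (PrimeSpectrum A)) ∩ PrimeSpectrum.zeroLocus (I : Set A))
    (H₁ : Type u) [CommRing H₁] [Algebra (Localization.Away f₁) H₁] [Algebra A H₁]
    [IsScalarTower A (Localization.Away f₁) H₁]
    (hH₁ : Hens2.IsPairHenselization (Localization.Away f₁)
      (I.map (algebraMap A (Localization.Away f₁))) H₁)
    (H₂ : Type u) [CommRing H₂] [Algebra (Localization.Away f₂) H₂] [Algebra A H₂]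
    [IsScalarTower A (Localization.Away f₂) H₂]
    (hH₂ : Hens2.IsPairHenselization (Localization.Away f₂)
      (I.map (algebraMap A (Localization.Away f₂))) H₂) :
    Nonempty (H₁ →ₐ[A] H₂) ∧ Subsingleton (H₁ →ₐ[A] H₂) := by
  have hH₂' : HenselianRing H₂ (I.map (algebraMap A H₂)) := by
    have := hH₂.1
    rwa [Ideal.map_map, ← IsScalarTower.algebraMap_eq] at this
  -- `f₁` is a unit in `H₂`
  have hu : IsUnit (algebraMap A H₂ f₁) := by
    by_contra hcon
    obtain ⟨M, hM, hfM⟩ := exists_max_ideal_of_mem_nonunits hcon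
    have hIM : I.map (algebraMap A H₂) ≤ M := hH₂'.jac.trans (sInf_le ⟨bot_le, hM⟩)
    have hp : (M.comap (algebraMap A H₂)).IsPrime := inferInstance
    have h2 : f₂ ∉ M.comap (algebraMap A H₂) := by
      intro h2
      have hu2 : IsUnit (algebraMap A H₂ f₂) := by
        rw [IsScalarTower.algebraMap_apply A (Localization.Away f₂) H₂]
        exact (IsLocalization.Away.algebraMap_isUnit f₂).map _
      exact hM.ne_top (Ideal.eq_top_of_isUnit_mem _ h2 hu2)
    have := h (a := ⟨M.comap (algebraMap A H₂), hp⟩)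
      ⟨h2, by
        rw [PrimeSpectrum.mem_zeroLocus]
        exact Ideal.map_le_iff_le_comap.1 hIM⟩
    exact this.1 hfM
  let f : Localization.Away f₁ →ₐ[A] H₂ :=
    IsLocalization.liftAlgHom (M := Submonoid.powers f₁) (f := Algebra.ofId A H₂)
      (fun y => by obtain ⟨_, n, rfl⟩ := y; rw [map_pow]; exact hu.pow n)
  have hfI : (I.map (algebraMap A (Localization.Away f₁))).map f.toRingHom ≤
      I.map (algebraMap A H₂) := by
    rw [Ideal.map_map, show f.toRingHom.comp (algebraMap A (Localization.Away f₁)) =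
      algebraMap A H₂ from f.comp_algebraMap]
  obtain ⟨g, hg, hgu⟩ := hH₁.2 H₂ _ f.toRingHom hH₂' hfI
  have hg' : ∀ x, g (algebraMap (Localization.Away f₁) H₁ x) = f x := fun x =>
    congrArg (fun k : Localization.Away f₁ →+* H₂ => k x) hg
  refine ⟨⟨{ g with commutes' := fun a => ?_ }⟩, ⟨fun φ ψ => ?_⟩⟩
  · change g (algebraMap A H₁ a) = _
    rw [IsScalarTower.algebraMap_apply A (Localization.Away f₁) H₁, hg', AlgHom.commutes]
  · have key : ∀ φ : H₁ →ₐ[A] H₂, φ.toRingHom = g := by
      intro φ
      apply hgu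
      apply IsLocalization.ringHom_ext (Submonoid.powers f₁)
      ext a
      change φ (algebraMap (Localization.Away f₁) H₁ (algebraMap A _ a)) = f (algebraMap A _ a)
      rw [← IsScalarTower.algebraMap_apply, AlgHom.commutes, AlgHom.commutes]
    refine AlgHom.ext fun x => ?_
    exact congrArg (fun k : H₁ →+* H₂ => k x) ((key φ).trans (key ψ).symm)

end Groth.Agent.S17605
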