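import Groth.Statements.S17606
import Groth.Agent.Hensel.K145.Sheaf

set_option autoImplicit false
universe u
open Hensel

namespace Groth.Agent.S17606

/-- Let A be a ring with an ideal I and let g_i (i ∈ ι) be elements of A whose images generate the unit
ideal of A/I, so that the basic opens D(g_i) cover V(I). Let H be a Henselization of the pair (A,
I), H_i a Henselization of (A_{g_i}, IA_{g_i}) and H_{ij} a Henselization of (A_{g_i g_j}, IA_{g_i
g_j}), all with their induced A-algebra structures, and fix A-algebra maps H → H_i, H_i → H_{ij} and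
H_j → H_{ij} (each is the unique such map). Then the sequence H → ∏ H_i ⇉ ∏ H_{ij} is an equalizer:
an element of H is determined by its images in the H_i, and every family (s_i) with s_i ∈ H_i whose
images in each H_{ij} agree is the image of an element of H. (This is the sheaf condition, for the
covering of V(I) by the D(g_i), of the presheaf D(f) ∩ V(I) ↦ Henselization of (A_f, IA_f); the case
of a general basic open D(f) ∩ V(I) follows by replacing A with A_f.) -/
theorem result (A : Type u) [CommRing A] (I : Ideal A)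
    (ι : Type u) (g : ι → A) (hcov : I ⊔ Ideal.span (Set.range g) = ⊤)
    (H : Type u) [CommRing H] [Algebra A H] (hH : Hens2.IsPairHenselization A I H)
    (Hi : ι → Type u) [∀ i, CommRing (Hi i)] [∀ i, Algebra (Localization.Away (g i)) (Hi i)]
    [∀ i, Algebra A (Hi i)] [∀ i, IsScalarTower A (Localization.Away (g i)) (Hi i)]
    (hHi : ∀ i, Hens2.IsPairHenselization (Localization.Away (g i))
      (I.map (algebraMap A (Localization.Away (g i)))) (Hi i))
    (Hij : ι → ι → Type u) [∀ i j, CommRing (Hij i j)]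
    [∀ i j, Algebra (Localization.Away (g i * g j)) (Hij i j)]
    [∀ i j, Algebra A (Hij i j)] [∀ i j, IsScalarTower A (Localization.Away (g i * g j)) (Hij i j)]
    (hHij : ∀ i j, Hens2.IsPairHenselization (Localization.Away (g i * g j))
      (I.map (algebraMap A (Localization.Away (g i * g j)))) (Hij i j))
    (ρ : ∀ i, H →ₐ[A] Hi i) (σ : ∀ i j, Hi i →ₐ[A] Hij i j) (τ : ∀ i j, Hi j →ₐ[A] Hij i j) :
    (∀ x y : H, (∀ i, ρ i x = ρ i y) → x = y) ∧
    ∀ s : ∀ i, Hi i, (∀ i j, σ i j (s i) = τ i j (s j)) → ∃ x : H, ∀ i, ρ i x = s i := by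
  classical
  let I' : Ideal H := I.map (algebraMap A H)
  have : HenselianRing H I' := hH.1
  let g' : ι → H := fun i => algebraMap A H (g i)
  let iH : ∀ i, Algebra H (Hi i) := fun i => (ρ i).toRingHom.toAlgebra
  have : ∀ i, IsScalarTower A H (Hi i) := fun i =>
    IsScalarTower.of_algebraMap_eq fun r => ((ρ i).commutes r).symm
  let iHH : ∀ i j, Algebra H (Hij i j) := fun i j => ((σ i j).comp (ρ i)).toRingHom.toAlgebra
  have : ∀ i j, IsScalarTower A H (Hij i j) := fun i j =>
    IsScalarTower.of_algebraMap_eq fun r => (((σ i j).comp (ρ i)).commutes r).symm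
  have h1 : ∀ i, K145.Away.LPH I' (g' i) (Hi i) := fun i =>
    (K145.Away.LPH.of_ph (hHi i)).up hH.2
  have h2 : ∀ i j, K145.Away.LPH I' (g' i * g' j) (Hij i j) := fun i j => by
    have h3 : K145.Away.LPH I (g i * g j) (Hij i j) := K145.Away.LPH.of_ph (hHij i j)
    have := h3.up (H := H) hH.2
    rwa [map_mul] at this
  have hστ : ∀ i j, (τ i j).toRingHom.comp (ρ j).toRingHom =
      (σ i j).toRingHom.comp (ρ i).toRingHom := by
    intro i j
    have h3 : K145.Away.LPH I (g i * g j) (Hij i j) := K145.Away.LPH.of_ph (hHij i j)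
    refine K145.Univ.HEquiv.ringHom_ext hH.2 _ h3.hens ?_ ?_
    · rw [show ((τ i j).toRingHom.comp (ρ j).toRingHom).comp (algebraMap A H) =
        algebraMap A (Hij i j) from ((τ i j).comp (ρ j)).comp_algebraMap,
        show ((σ i j).toRingHom.comp (ρ i).toRingHom).comp (algebraMap A H) =
        algebraMap A (Hij i j) from ((σ i j).comp (ρ i)).comp_algebraMap]
    · rw [show ((σ i j).toRingHom.comp (ρ i).toRingHom).comp (algebraMap A H) =
        algebraMap A (Hij i j) from ((σ i j).comp (ρ i)).comp_algebraMap]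
  let σ' : ∀ i j, Hi i →ₐ[H] Hij i j := fun i j =>
    { (σ i j).toRingHom with commutes' := fun r => rfl }
  let τ' : ∀ i j, Hi j →ₐ[H] Hij i j := fun i j =>
    { (τ i j).toRingHom with
      commutes' := fun r => congrArg (fun f : H →+* Hij i j => f r) (hστ i j) }
  have hcov' : I' ⊔ Ideal.span (Set.range g') = ⊤ := by
    have := congrArg (Ideal.map (algebraMap A H)) hcov
    rw [Ideal.map_sup, Ideal.map_span, Ideal.map_top, ← Set.range_comp] at this
    exact this
  have hinj : ∀ x y : H, (∀ i, ρ i x = ρ i y) → x = y := by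
    intro x y hxy
    rw [← sub_eq_zero]
    refine K145.Sheaf.eq_zero I' g' hcov' Hi h1 _ fun i => ?_
    change ρ i (x - y) = 0
    rw [map_sub, hxy, sub_self]
  refine ⟨hinj, fun s hs => ?_⟩
  -- a finite subcover
  obtain ⟨T, hT⟩ : ∃ T : Finset ι, I' ⊔ Ideal.span (g' '' T) = ⊤ := by
    have h3 : (1 : H) ∈ I' ⊔ Ideal.span (Set.range g') := by rw [hcov']; trivial
    obtain ⟨a, ha, b, hb, hab⟩ := Submodule.mem_sup.1 h3
    obtain ⟨c, hc⟩ := Finsupp.mem_ideal_span_range_iff_exists_finsupp.1 hb
    refine ⟨c.support, ?_⟩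
    rw [Ideal.eq_top_iff_one, ← hab, ← hc]
    refine Submodule.add_mem_sup ha (sum_mem fun i hi => Ideal.mul_mem_left _ _
      (Ideal.subset_span ⟨i, hi, rfl⟩))
  have hcovT : ∀ T' : Finset ι, T ⊆ T' →
      I' ⊔ Ideal.span (Set.range fun i : T' => g' i.1) = ⊤ := by
    intro T' hT'
    rw [eq_top_iff, ← hT]
    refine sup_le_sup le_rfl (Ideal.span_mono ?_)
    rintro _ ⟨i, hi, rfl⟩
    exact ⟨⟨i, hT' hi⟩, rfl⟩
  have hex : ∀ T' : Finset ι, T ⊆ T' → ∃ x : H, ∀ i ∈ T', ρ i x = s i := by
    intro T' hT'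
    obtain ⟨x, hx⟩ := K145.Sheaf.exists_section I' (fun i : T' => g' i.1) (hcovT T' hT')
      (fun i => Hi i.1) (fun i => h1 i.1) (fun i j => Hij i.1 j.1) (fun i j => h2 i.1 j.1)
      (fun i j => σ' i.1 j.1) (fun i j => τ' i.1 j.1) (fun i => s i.1)
      (fun i j => hs i.1 j.1)
    exact ⟨x, fun i hi => hx ⟨i, hi⟩⟩
  obtain ⟨x, hx⟩ := hex T (Finset.Subset.refl T)
  refine ⟨x, fun j => ?_⟩
  obtain ⟨y, hy⟩ := hex (insert j T) (Finset.subset_insert j T)
  have hxy : x = y := by
    rw [← sub_eq_zero]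
    refine K145.Sheaf.eq_zero I' (fun i : T => g' i.1) (hcovT T (Finset.Subset.refl T))
      (fun i => Hi i.1) (fun i => h1 i.1) _ fun i => ?_
    change ρ i.1 (x - y) = 0
    rw [map_sub, hx i.1 i.2, hy i.1 (Finset.mem_insert_of_mem i.2), sub_self]
  rw [hxy]
  exact hy j (Finset.mem_insert_self j T)

end Groth.Agent.S17606
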