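import Groth.Statements.S17609
import Groth.Agent.Hensel.K145.Model

set_option autoImplicit false
universe u
open Hensel
open scoped TensorProduct

namespace Groth.Agent.S17609

/-- Let (A, I) be a Henselian pair and let B, C be Henselizations of the pairs (R, IR), (S, IS) for
finitely presented A-algebras R and S, with their induced A-algebra structures (so A → B and A → C
are Henselian finitely presented). Then every A-algebra map B → C (encoded as a B-algebra structure
on C compatible with that of A) is Henselian finitely presented: there are a finitely presented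
B-algebra T and a T-algebra structure on C compatible with that of B for which C is a Henselization
of the pair (T, IBT). -/
theorem result (A : Type u) [CommRing A] (I : Ideal A) [HenselianRing A I]
    (R : Type u) [CommRing R] [Algebra A R] [Algebra.FinitePresentation A R]
    (B : Type u) [CommRing B] [Algebra R B] [Algebra A B] [IsScalarTower A R B]
    (hB : Hens2.IsPairHenselization R (I.map (algebraMap A R)) B)
    (S : Type u) [CommRing S] [Algebra A S] [Algebra.FinitePresentation A S]
    (C : Type u) [CommRing C] [Algebra S C] [Algebra A C] [IsScalarTower A S C]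
    (hC : Hens2.IsPairHenselization S (I.map (algebraMap A S)) C)
    [Algebra B C] [IsScalarTower A B C] :
    ∃ (T : Type u) (_ : CommRing T) (_ : Algebra B T) (_ : Algebra T C) (_ : IsScalarTower B T C),
      Algebra.FinitePresentation B T ∧
      Hens2.IsPairHenselization T ((I.map (algebraMap A B)).map (algebraMap B T)) C := by
  let θ : TensorProduct A S R →ₐ[S] C := Algebra.TensorProduct.lift (Algebra.ofId S C)
    ((IsScalarTower.toAlgHom A B C).comp (IsScalarTower.toAlgHom A R B))
    (fun _ _ => Commute.all _ _)
  have hθ : ∀ r : R, θ ((1 : S) ⊗ₜ[A] r) = algebraMap B C (algebraMap R B r) := fun r => by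
    change Algebra.TensorProduct.lift (Algebra.ofId S C)
      ((IsScalarTower.toAlgHom A B C).comp (IsScalarTower.toAlgHom A R B))
      (fun _ _ => Commute.all _ _) _ = _
    rw [Algebra.TensorProduct.lift_tmul, map_one, one_mul]
    rfl
  obtain ⟨S', _, _, _, _, g, hS', hg⟩ := K145.Nbhd.exists_nbhd_factor hC (TensorProduct A S R) θ
  have hS'e := hS'.etale
  let _ : Algebra R S' := (g.toRingHom.comp
    (Algebra.TensorProduct.includeRight : R →ₐ[A] TensorProduct A S R).toRingHom).toAlgebra
  have hρ : ∀ r : R, algebraMap R S' r = g (1 ⊗ₜ r) := fun r => rfl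
  let _ : Algebra A S' := ((algebraMap S S').comp (algebraMap A S)).toAlgebra
  have t1 : IsScalarTower A S S' := IsScalarTower.of_algebraMap_eq fun r => rfl
  have t2 : IsScalarTower A R S' := by
    refine IsScalarTower.of_algebraMap_eq fun a => ?_
    have h1 : (1 : S) ⊗ₜ[A] (algebraMap A R a) = (algebraMap A S a) ⊗ₜ[A] (1 : R) := by
      rw [Algebra.algebraMap_eq_smul_one a, Algebra.algebraMap_eq_smul_one a,
        TensorProduct.smul_tmul]
    rw [hρ, h1, IsScalarTower.algebraMap_apply A S S', ← AlgHom.commutes g]
    rfl
  let _ : Algebra R C := ((algebraMap B C).comp (algebraMap R B)).toAlgebra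
  have t3 : IsScalarTower R B C := IsScalarTower.of_algebraMap_eq fun r => rfl
  have t4 : IsScalarTower R S' C := by
    refine IsScalarTower.of_algebraMap_eq fun r => ?_
    rw [hρ, hg, hθ, ← IsScalarTower.algebraMap_apply]
  have t5 : IsScalarTower A S' C := by
    refine IsScalarTower.of_algebraMap_eq fun a => ?_
    rw [IsScalarTower.algebraMap_apply A S S', ← IsScalarTower.algebraMap_apply S S' C,
      ← IsScalarTower.algebraMap_apply A S C]
  have hfp1 : Algebra.FinitePresentation A S' := Algebra.FinitePresentation.trans A S S'
  have hfp2 : Algebra.FinitePresentation R S' :=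
    Algebra.FinitePresentation.of_restrict_scalars_finitePresentation A R S'
  let T := TensorProduct R B S'
  have hfpT : Algebra.FinitePresentation B T := inferInstance
  let ψ : T →ₐ[B] C := Algebra.TensorProduct.lift (Algebra.ofId B C) (IsScalarTower.toAlgHom R S' C)
    (fun _ _ => Commute.all _ _)
  let _ : Algebra T C := ψ.toRingHom.toAlgebra
  have t6 : IsScalarTower B T C := IsScalarTower.of_algebraMap_eq fun b => (ψ.commutes b).symm
  let _ : Algebra S' T := Algebra.TensorProduct.rightAlgebra
  have t7 : IsScalarTower S' T C := by
    refine IsScalarTower.of_algebraMap_eq fun s => ?_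
    change _ = ψ (1 ⊗ₜ s)
    change _ = Algebra.TensorProduct.lift (Algebra.ofId B C) (IsScalarTower.toAlgHom R S' C)
      (fun _ _ => Commute.all _ _) _
    rw [Algebra.TensorProduct.lift_tmul, map_one, one_mul]
    rfl
  refine ⟨T, inferInstance, inferInstance, inferInstance, inferInstance, hfpT, ?_⟩
  have h1 : K145.Univ.HEquiv S' ((I.map (algebraMap A R)).map (algebraMap R S')) T :=
    K145.Model.hequiv_tensor_right hB.2 S'
  have h2 := hS'.ph_up hC
  rw [Ideal.map_map, ← IsScalarTower.algebraMap_eq A R S'] at h1
  rw [Ideal.map_map, ← IsScalarTower.algebraMap_eq A S S'] at h2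
  have h3 := K145.Univ.isPairHenselization_up h1 h2
  have h4 : (I.map (algebraMap A S')).map (algebraMap S' T) =
      (I.map (algebraMap A B)).map (algebraMap B T) := by
    rw [Ideal.map_map, Ideal.map_map]
    congr 1
    ext a
    change (1 : B) ⊗ₜ[R] (algebraMap A S' a) = (algebraMap A B a) ⊗ₜ[R] (1 : S')
    rw [IsScalarTower.algebraMap_apply A R S', IsScalarTower.algebraMap_apply A R B,
      Algebra.algebraMap_eq_smul_one (algebraMap A R a),
      Algebra.algebraMap_eq_smul_one (algebraMap A R a), TensorProduct.smul_tmul]
  rwa [h4] at h3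

end Groth.Agent.S17609
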