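import Groth.Statements.S17612
import Groth.Agent.Hensel.K145.Cover

set_option autoImplicit false
universe u
open Hensel

namespace Groth.Agent.S17612

/-- Let (A, I) and (B, IB) be Henselian pairs with B an A-algebra, and let f₁, …, fₙ ∈ B generate the
unit ideal of B. For each i let H_i be a Henselization of the pair (B_{f_i}, IB_{f_i}) with its
induced A-algebra structure, and assume that each H_i is, for a compatible algebra structure, a
Henselization of the pair (R_i, IR_i) for some finitely presented A-algebra R_i (that is, each A →
H_i is Henselian finitely presented). Then A → B is Henselian finitely presented: B is, for a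
compatible algebra structure, a Henselization of (T, IT) for some finitely presented A-algebra T.
(The published statement allows a finite cover by arbitrary affine opens of the affine Henselian
scheme of (B, IB); this is its case of basic opens, to which the published proof reduces.) -/
theorem result (A : Type u) [CommRing A] (I : Ideal A)
    [HenselianRing A I] (B : Type u) [CommRing B] [Algebra A B] [HenselianRing B (I.map (algebraMap A B))]
    (n : ℕ) (f : Fin n → B) (hf : Ideal.span (Set.range f) = ⊤)
    (H : Fin n → Type u) [∀ i, CommRing (H i)] [∀ i, Algebra (Localization.Away (f i)) (H i)]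
    [∀ i, Algebra B (H i)] [∀ i, Algebra A (H i)] [∀ i, IsScalarTower B (Localization.Away (f i)) (H i)]
    [∀ i, IsScalarTower A B (H i)]
    (hH : ∀ i, Hens2.IsPairHenselization (Localization.Away (f i))
      (I.map (algebraMap A (Localization.Away (f i)))) (H i))
    (R : Fin n → Type u) [∀ i, CommRing (R i)] [∀ i, Algebra A (R i)]
    [∀ i, Algebra.FinitePresentation A (R i)] [∀ i, Algebra (R i) (H i)]
    [∀ i, IsScalarTower A (R i) (H i)]
    (hR : ∀ i, Hens2.IsPairHenselization (R i) (I.map (algebraMap A (R i))) (H i)) :
    ∃ (T : Type u) (_ : CommRing T) (_ : Algebra A T) (_ : Algebra T B) (_ : IsScalarTower A T B),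
      Algebra.FinitePresentation A T ∧ Hens2.IsPairHenselization T (I.map (algebraMap A T)) B := by
  classical
  have hL : ∀ i, K145.Away.LPH (I.map (algebraMap A B)) (f i) (H i) := by
    intro i
    have h1 : Hens2.IsPairHenselization (Localization.Away (f i))
        ((I.map (algebraMap A B)).map (algebraMap B (Localization.Away (f i)))) (H i) := by
      rw [Ideal.map_map, ← IsScalarTower.algebraMap_eq]
      exact hH i
    exact K145.Away.LPH.of_ph h1
  refine K145.Limit.exists_of_limit A I B ?_
  intro κ _ _ _ S χ
  obtain ⟨c, hc⟩ := Ideal.mem_span_range_iff_exists_fun.1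
    ((Ideal.eq_top_iff_one _).1 hf)
  obtain ⟨a₀⟩ := ‹Nonempty κ›
  obtain ⟨a, -, ha⟩ := S.exists_finset_ge
    ((Finset.univ.image fun i => χ (f i)) ∪ (Finset.univ.image fun i => χ (c i))) a₀
  choose v hv using fun i => ha (χ (f i)) (Finset.mem_union_left _
    (Finset.mem_image_of_mem _ (Finset.mem_univ i)))
  choose w hw using fun i => ha (χ (c i)) (Finset.mem_union_right _
    (Finset.mem_image_of_mem (fun i => χ (c i)) (Finset.mem_univ i)))
  obtain ⟨b, hab, hb⟩ := S.eq (a := a) (x := ∑ i, w i * v i) (y := 1) (by
    rw [map_sum, map_one, ← map_one χ, ← hc, map_sum]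
    exact Finset.sum_congr rfl fun i _ => by rw [map_mul, map_mul, hw, hv])
  have : Nonempty {d : κ // b ≤ d} := ⟨⟨b, le_rfl⟩⟩
  obtain ⟨d, φ, hφ⟩ := K145.Cover.exists_factor n f H hL R hR (S.above b) χ
    (fun i d => S.t a d.1 (hab.trans d.2) (v i))
    (fun i d e h => S.t_trans a d.1 e.1 (hab.trans d.2) h (v i))
    (fun i d => (S.compat a d.1 (hab.trans d.2) (v i)).trans (hv i))
    (fun d => by
      rw [Ideal.eq_top_iff_one]
      have h1 := congrArg (S.t b d.1 d.2) hb
      rw [S.t_trans, S.t_trans, map_one, map_sum] at h1
      change (1 : S.obj d.1) ∈ _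
      rw [← h1]
      refine sum_mem fun i _ => ?_
      rw [map_mul]
      exact Ideal.mul_mem_left _ _ (Ideal.subset_span ⟨i, rfl⟩))
  exact ⟨d.1, φ, hφ⟩

end Groth.Agent.S17612
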