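import Groth.Statements.S17613
import Groth.Agent.Hensel.K145.Colim

set_option autoImplicit false
universe u
open Hensel

namespace Groth.Agent.S17613

/-- Let (A, I) be a Henselian pair and let B be a Henselization of the pair (R₀, IR₀) for a finitely
presented A-algebra R₀ (so A → B is Henselian finitely presented). Let (R_a) be a directed system of
A-algebras with A-compatible transition maps such that each (R_a, IR_a) is a Henselian pair, and let
L be its direct limit with the induced A-algebra structure. Then the canonical map from the colimit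
of the Hom_A(B, R_a) to Hom_A(B, L) is bijective: every A-algebra map B → L factors through some
R_a, and two A-algebra maps B → R_a whose composites with R_a → L agree become equal after passing
to some R_b. (Index set in the universe of the rings.) -/
theorem result (A : Type u) [CommRing A] (I : Ideal A)
    [HenselianRing A I] (R₀ : Type u) [CommRing R₀] [Algebra A R₀] [Algebra.FinitePresentation A R₀]
    (B : Type u) [CommRing B] [Algebra R₀ B] [Algebra A B] [IsScalarTower A R₀ B]
    (hB : Hens2.IsPairHenselization R₀ (I.map (algebraMap A R₀)) B)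
    {κ : Type u} [Preorder κ] [IsDirectedOrder κ] [Nonempty κ]
    (Ra : κ → Type u) [∀ a, CommRing (Ra a)] [∀ a, Algebra A (Ra a)]
    [∀ a, HenselianRing (Ra a) (I.map (algebraMap A (Ra a)))]
    (t : ∀ a b : κ, a ≤ b → (Ra a →+* Ra b)) [DirectedSystem Ra (fun a b h => t a b h)]
    (ht : ∀ (a b : κ) (h : a ≤ b), (t a b h).comp (algebraMap A (Ra a)) = algebraMap A (Ra b))
    [Algebra A (DirectLimit Ra t)]
    (halg : ∀ (a : κ) (x : A), algebraMap A (DirectLimit Ra t) x =
      DirectLimit.Ring.of Ra t a (algebraMap A (Ra a) x)) :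
    (∀ χ : B →ₐ[A] DirectLimit Ra t, ∃ (a : κ) (φ : B →ₐ[A] Ra a),
        ∀ x : B, DirectLimit.Ring.of Ra t a (φ x) = χ x) ∧
    ∀ (a : κ) (φ ψ : B →ₐ[A] Ra a),
      (∀ x : B, DirectLimit.Ring.of Ra t a (φ x) = DirectLimit.Ring.of Ra t a (ψ x)) →
      ∃ (b : κ) (h : a ≤ b), ∀ x : B, t a b h (φ x) = t a b h (ψ x) := by
  have hc := K145.Colim.isColim_directLimit Ra t
  have hι : ∀ a, (DirectLimit.Ring.of Ra t a).comp (algebraMap A (Ra a)) =
      algebraMap A (DirectLimit Ra t) := fun a => RingHom.ext fun x => (halg a x).symm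
  have hL : HenselianRing (DirectLimit Ra t) (I.map (algebraMap A (DirectLimit Ra t))) :=
    hc.henselianRing I ht hι (fun a => inferInstance)
  constructor
  · intro χ
    obtain ⟨a₀⟩ := ‹Nonempty κ›
    obtain ⟨a, -, φ, hφ⟩ := hc.exists_algHom ht hι R₀ (χ.comp (IsScalarTower.toAlgHom A R₀ B)) a₀
    obtain ⟨g, hg, -⟩ := hB.2 (Ra a) (I.map (algebraMap A (Ra a))) φ.toRingHom inferInstance (by
      rw [Ideal.map_map, show φ.toRingHom.comp (algebraMap A R₀) = algebraMap A (Ra a) from
        φ.comp_algebraMap])
    have hg' : ∀ x : R₀, g (algebraMap R₀ B x) = φ x := fun x =>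
      congrArg (fun f : R₀ →+* Ra a => f x) hg
    refine ⟨a, { g with
      commutes' := fun r => by
        change g (algebraMap A B r) = _
        rw [IsScalarTower.algebraMap_apply A R₀ B, hg', AlgHom.commutes] }, fun x => ?_⟩
    have key : (DirectLimit.Ring.of Ra t a).comp g = χ.toRingHom := by
      refine K145.Univ.HEquiv.ringHom_ext hB.2 _ hL ?_ ?_
      · ext x
        change DirectLimit.Ring.of Ra t a (g (algebraMap R₀ B x)) = χ (algebraMap R₀ B x)
        rw [hg', hφ]
        rfl
      · rw [Ideal.map_map, RingHom.comp_assoc, ← IsScalarTower.algebraMap_eq,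
          show χ.toRingHom.comp (algebraMap A B) = algebraMap A (DirectLimit Ra t) from
          χ.comp_algebraMap]
    exact congrArg (fun f : B →+* DirectLimit Ra t => f x) key
  · intro a φ ψ h
    obtain ⟨b, hb, hb'⟩ := hc.algHom_eq R₀ ht (φ.comp (IsScalarTower.toAlgHom A R₀ B))
      (ψ.comp (IsScalarTower.toAlgHom A R₀ B)) (fun x => h _)
    refine ⟨b, hb, fun x => ?_⟩
    have key : (t a b hb).comp φ.toRingHom = (t a b hb).comp ψ.toRingHom := by
      refine K145.Univ.HEquiv.ringHom_ext hB.2 (I.map (algebraMap A (Ra b))) inferInstance ?_ ?_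
      · ext x
        exact hb' x
      · rw [Ideal.map_map, RingHom.comp_assoc, RingHom.comp_assoc, ← IsScalarTower.algebraMap_eq,
          show ψ.toRingHom.comp (algebraMap A B) = algebraMap A (Ra a) from ψ.comp_algebraMap, ht]
    exact congrArg (fun f : B →+* Ra b => f x) key

end Groth.Agent.S17613
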