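import Groth.Statements.S17616
import Groth.Agent.Hensel.K145.Nbhd

set_option autoImplicit false
universe u
open Hensel

namespace Groth.Agent.S17616

/-- Let P be a property of ring maps (between rings in a fixed universe), and say that f : B → B' has P
at a prime q of B' if the composite B → B' → B'_g has P for some g ∉ q. Assume (i) for every
finitely presented f : B → B' the set of primes of B' at which f has P is ind-constructible in Spec
B', and f has P as soon as it has P at every prime; (ii) every étale ring map has P; (iii) for g : C
→ C' and h : C' → C'', if h has P at a prime q of C'' and g has P at the inverse image of q in C',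
then h ∘ g has P at q. Now suppose (A, I) is a Henselian pair, and take an A-algebra R of finite
presentation for which A → R has P at each prime of R that contains IR. Then there is an étale
R-algebra R' with R/IR → R'/IR' bijective such that A → R' has P. -/
theorem result
    (P : ∀ ⦃B B' : Type u⦄ [CommRing B] [CommRing B'], (B →+* B') → Prop)
    (PAt : ∀ ⦃B B' : Type u⦄ [CommRing B] [CommRing B'], (B →+* B') → Ideal B' → Prop)
    (hPAt : ∀ ⦃B B' : Type u⦄ [CommRing B] [CommRing B'] (f : B →+* B') (q : Ideal B'),
      PAt f q ↔ ∃ g : B', g ∉ q ∧ P ((algebraMap B' (Localization.Away g)).comp f))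
    (h₁ : ∀ ⦃B B' : Type u⦄ [CommRing B] [CommRing B'] (f : B →+* B'), f.FinitePresentation →
      ProCons.IsIndConstructible {q : PrimeSpectrum B' | PAt f q.asIdeal} ∧
        ((∀ q : PrimeSpectrum B', PAt f q.asIdeal) → P f))
    (h₂ : ∀ ⦃B B' : Type u⦄ [CommRing B] [CommRing B'] (f : B →+* B'), f.Etale → P f)
    (h₃ : ∀ ⦃C C' C'' : Type u⦄ [CommRing C] [CommRing C'] [CommRing C''] (g : C →+* C')
      (h : C' →+* C'') (q : Ideal C'') [q.IsPrime],
      PAt h q → PAt g (q.comap h) → PAt (h.comp g) q)
    (A : Type u) [CommRing A] (I : Ideal A) [HenselianRing A I]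
    (R : Type u) [CommRing R] [Algebra A R] [Algebra.FinitePresentation A R]
    (hR : ∀ (p : Ideal R) [p.IsPrime], I.map (algebraMap A R) ≤ p → PAt (algebraMap A R) p) :
    ∃ (R' : Type u) (_ : CommRing R') (_ : Algebra R R') (_ : Algebra A R') (_ : IsScalarTower A R R'),
      Algebra.Etale R R' ∧
      Function.Bijective (Ideal.quotientMap ((I.map (algebraMap A R)).map (algebraMap R R'))
        (algebraMap R R') Ideal.le_comap_map) ∧ P (algebraMap A R') := by
  let K : Ideal R := Ideal.span {g : R | P ((algebraMap R (Localization.Away g)).comp (algebraMap A R))}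
  have hK : K ⊔ I.map (algebraMap A R) = ⊤ := by
    by_contra hne
    obtain ⟨M, hM, hle⟩ := Ideal.exists_le_maximal _ hne
    obtain ⟨g, hg, hPg⟩ := (hPAt _ _).1 (hR M (le_sup_right.trans hle))
    exact hg (le_sup_left.trans hle (Ideal.subset_span hPg))
  obtain ⟨k, hk, i, hi, hki⟩ := Submodule.mem_sup.1 ((Ideal.eq_top_iff_one _).1 hK)
  have hk1 : k - 1 ∈ I.map (algebraMap A R) := by
    have : k - 1 = -i := by rw [← hki]; ring
    rw [this]; exact neg_mem hi
  have hnb := K145.Nbhd.isNbhd_away_of_sub_one_mem k hk1
  have het := hnb.etale
  have hfp : Algebra.FinitePresentation A (Localization.Away k) :=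
    Algebra.FinitePresentation.trans A R (Localization.Away k)
  refine ⟨Localization.Away k, inferInstance, inferInstance, inferInstance, inferInstance, het,
    hnb.bij, ?_⟩
  refine (h₁ (algebraMap A (Localization.Away k)) ?_).2 fun q' => ?_
  · rw [RingHom.finitePresentation_algebraMap]; exact hfp
  · rw [IsScalarTower.algebraMap_eq A R (Localization.Away k)]
    apply h₃
    · rw [hPAt]
      refine ⟨1, (Ideal.ne_top_iff_one _).1 q'.2.ne_top, ?_⟩
      apply h₂
      have : Algebra.Etale R (Localization.Away (1 : Localization.Away k)) :=
        Algebra.Etale.comp R (Localization.Away k) _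
      rw [← IsScalarTower.algebraMap_eq R (Localization.Away k)
        (Localization.Away (1 : Localization.Away k)), RingHom.etale_algebraMap]
      exact this
    · rw [hPAt]
      by_contra hcon
      push Not at hcon
      have hle : K ≤ q'.asIdeal.comap (algebraMap R (Localization.Away k)) := by
        rw [Ideal.span_le]
        intro g hg
        by_contra hgq
        exact hcon g hgq hg
      have := hle hk
      exact q'.2.ne_top (Ideal.eq_top_of_isUnit_mem _ this (IsLocalization.Away.algebraMap_isUnit k))

end Groth.Agent.S17616
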