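import Groth.Statements.S17617
import Groth.Agent.Hensel.K145.Faithful

set_option autoImplicit false
universe u
open Hensel

namespace Groth.Agent.S17617

/-- Let (A, I) be a Henselian pair and let M' → M → M'' be A-linear maps with zero composite. Then M' →
M → M'' is exact if and only if for every prime ideal p of A containing I and every Henselization H
of the pair (A_p, IA_p), the sequence H ⊗_A M' → H ⊗_A M → H ⊗_A M'' is exact. (The modules H ⊗_A M
are the stalks at p of the sheaf associated to M on the affine Henselian scheme of (A, I), and
exactness of a sequence of such sheaves is exactness at every stalk, so this is the statement that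
the sequence of modules is exact exactly when the associated sequence of sheaves is.) -/
theorem result (A : Type u) [CommRing A]
    (I : Ideal A) [HenselianRing A I]
    (M' M M'' : Type u) [AddCommGroup M'] [Module A M'] [AddCommGroup M] [Module A M]
    [AddCommGroup M''] [Module A M''] (f : M' →ₗ[A] M) (g : M →ₗ[A] M'') (hfg : g.comp f = 0) :
    Function.Exact f g ↔
    ∀ (p : Ideal A) [p.IsPrime], I ≤ p →
      ∀ (H : Type u) [CommRing H] [Algebra (Localization.AtPrime p) H] [Algebra A H]
        [IsScalarTower A (Localization.AtPrime p) H],
        Hens2.IsPairHenselization (Localization.AtPrime p)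
          (I.map (algebraMap A (Localization.AtPrime p))) H →
        Function.Exact (f.baseChange H) (g.baseChange H) := by
  constructor
  · intro hex p _ _ H _ _ _ _ hH
    have h1 : Module.Flat (Localization.AtPrime p) H := Groth.Agent.Etalg.PairHens2.flat H hH
    have h2 : Module.Flat A (Localization.AtPrime p) := IsLocalization.flat _ p.primeCompl
    have h3 : Module.Flat A H := Module.Flat.trans A (Localization.AtPrime p) H
    have h4 := Module.Flat.lTensor_exact H hex
    rwa [← LinearMap.baseChange_eq_ltensor, ← LinearMap.baseChange_eq_ltensor] at h4
  · intro hall x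
    constructor
    · intro hx
      -- the conductor of `x` into the range
      let c : Ideal A := (LinearMap.range f).colon {x}
      have hc : ∀ a : A, a ∈ c ↔ a • x ∈ LinearMap.range f := fun a => Submodule.mem_colon_singleton
      suffices h : c = ⊤ by
        have : (1 : A) ∈ c := by rw [h]; trivial
        rw [hc, one_smul] at this
        exact this
      by_contra hne
      obtain ⟨p, hp, hcp⟩ := Ideal.exists_le_maximal _ hne
      have hpp : p.IsPrime := hp.isPrime
      have hIp : I ≤ p := HenselianRing.jac.trans (sInf_le ⟨bot_le, hp⟩)
      have hJ : I.map (algebraMap A (Localization.AtPrime p)) ≤ Ideal.jacobson ⊥ := by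
        rw [IsLocalRing.jacobson_eq_maximalIdeal ⊥ bot_ne_top, Ideal.map_le_iff_le_comap]
        intro a ha
        rw [Ideal.mem_comap]
        exact (IsLocalization.AtPrime.to_map_mem_maximal_iff (Localization.AtPrime p) p a).2 (hIp ha)
      obtain ⟨H, _, _, hH⟩ := K145.Faithful.exists_ph (Localization.AtPrime p)
        (I.map (algebraMap A (Localization.AtPrime p)))
      let _ : Algebra A H := ((algebraMap (Localization.AtPrime p) H).comp
        (algebraMap A (Localization.AtPrime p))).toAlgebra
      have : IsScalarTower A (Localization.AtPrime p) H := IsScalarTower.of_algebraMap_eq fun r => rfl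
      have hff : Module.FaithfullyFlat (Localization.AtPrime p) H :=
        K145.Faithful.faithfullyFlat hH hJ
      have hex := hall p hIp H hH
      have h1 : (g.baseChange H) ((1 : H) ⊗ₜ[A] x) = 0 := by
        rw [LinearMap.baseChange_tmul, hx, TensorProduct.tmul_zero]
      obtain ⟨y, hy⟩ := (hex _).1 h1
      let π : M →ₗ[A] (M ⧸ LinearMap.range f) := (LinearMap.range f).mkQ
      have h2 : (1 : H) ⊗ₜ[A] π x = 0 := by
        have h3 := congrArg (π.baseChange H) hy
        rw [LinearMap.baseChange_tmul] at h3
        rw [← h3, ← LinearMap.comp_apply, ← LinearMap.baseChange_comp]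
        have : π.comp f = 0 := LinearMap.range_mkQ_comp f
        rw [this, LinearMap.baseChange_zero, LinearMap.zero_apply]
      have h4 := K145.Faithful.one_tmul_eq_zero_of_faithfullyFlat
        (P := Localization.AtPrime p) _ h2
      have h5 : TensorProduct.mk A (Localization.AtPrime p) (M ⧸ LinearMap.range f) 1 (π x) = 0 := h4
      rw [IsLocalizedModule.eq_zero_iff p.primeCompl] at h5
      obtain ⟨s, hs⟩ := h5
      have h6 : (s : A) ∈ c := by
        rw [hc]
        have : π ((s : A) • x) = 0 := by rw [map_smul]; exact hs
        exact (Submodule.Quotient.mk_eq_zero _).1 this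
      exact s.2 (hcp h6)
    · rintro ⟨y, rfl⟩
      exact congrArg (fun k : M' →ₗ[A] M'' => k y) hfg

end Groth.Agent.S17617
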