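import Groth.Statements.S17618
import Groth.Agent.Hensel.K145.Retract

set_option autoImplicit false
universe u
open Hensel

namespace Groth.Agent.S17618

/-- Let (A, I) and (B, IB) be Henselian pairs with B an A-algebra. Assume that for every directed system
(R_a) of A-algebras with A-compatible transition maps such that each (R_a, IR_a) is a Henselian
pair, with direct limit L carrying the induced A-algebra structure, the canonical map from the
colimit of the Hom_A(B, R_a) to Hom_A(B, L) is bijective (every A-algebra map B → L factors through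
some R_a, and two A-algebra maps B → R_a with equal composites to L agree after passing to some
R_b). Then A → B is Henselian finitely presented: there are a finitely presented A-algebra R and an
R-algebra structure on B compatible with that of A for which B is a Henselization of the pair (R,
IR). (Index sets in the universe of the rings.) -/
theorem result (A : Type u) [CommRing A] (I : Ideal A)
    [HenselianRing A I] (B : Type u) [CommRing B] [Algebra A B]
    [HenselianRing B (I.map (algebraMap A B))]
    (h : ∀ (κ : Type u) [Preorder κ] [IsDirectedOrder κ] [Nonempty κ]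
      (Ra : κ → Type u) [∀ a, CommRing (Ra a)] [∀ a, Algebra A (Ra a)]
      [∀ a, HenselianRing (Ra a) (I.map (algebraMap A (Ra a)))]
      (t : ∀ a b : κ, a ≤ b → (Ra a →+* Ra b)) [DirectedSystem Ra (fun a b hab => t a b hab)],
      (∀ (a b : κ) (hab : a ≤ b), (t a b hab).comp (algebraMap A (Ra a)) = algebraMap A (Ra b)) →
      ∀ [Algebra A (DirectLimit Ra t)],
      (∀ (a : κ) (x : A), algebraMap A (DirectLimit Ra t) x =
        DirectLimit.Ring.of Ra t a (algebraMap A (Ra a) x)) →
      (∀ χ : B →ₐ[A] DirectLimit Ra t, ∃ (a : κ) (φ : B →ₐ[A] Ra a),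
          ∀ x : B, DirectLimit.Ring.of Ra t a (φ x) = χ x) ∧
      ∀ (a : κ) (φ ψ : B →ₐ[A] Ra a),
        (∀ x : B, DirectLimit.Ring.of Ra t a (φ x) = DirectLimit.Ring.of Ra t a (ψ x)) →
        ∃ (b : κ) (hab : a ≤ b), ∀ x : B, t a b hab (φ x) = t a b hab (ψ x)) :
    ∃ (R : Type u) (_ : CommRing R) (_ : Algebra A R) (_ : Algebra R B) (_ : IsScalarTower A R B),
      Algebra.FinitePresentation A R ∧ Hens2.IsPairHenselization R (I.map (algebraMap A R)) B := by
  classical
  obtain ⟨κ, _, _, _, R, _, _, t, β, hfp, ht, hβ, htid, hc⟩ := K145.FPColim.exists_isColim A B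
  choose H iH iRH hH using fun k => K145.Faithful.exists_ph (R k) (I.map (algebraMap A (R k)))
  let iA : ∀ k, Algebra A (H k) := fun k =>
    ((algebraMap (R k) (H k)).comp (algebraMap A (R k))).toAlgebra
  have iT : ∀ k, IsScalarTower A (R k) (H k) := fun k => IsScalarTower.of_algebraMap_eq fun _ => rfl
  have hHens : ∀ k, HenselianRing (H k) (I.map (algebraMap A (H k))) := fun k => by
    have := (hH k).1
    rwa [Ideal.map_map] at this
  have hex : ∀ a b (h : a ≤ b), ∃ g : H a →+* H b,
      g.comp (algebraMap (R a) (H a)) = (algebraMap (R b) (H b)).comp (t a b h) := fun a b h =>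
    ((hH a).2 (H b) (I.map (algebraMap A (H b))) _ (hHens b) (by
      rw [Ideal.map_map, RingHom.comp_assoc, ht]
      exact le_of_eq rfl)).exists
  choose T hT using hex
  have hTA : ∀ a b (h : a ≤ b), (T a b h).comp (algebraMap A (H a)) = algebraMap A (H b) := by
    intro a b h
    change (T a b h).comp ((algebraMap (R a) (H a)).comp (algebraMap A (R a))) =
      (algebraMap (R b) (H b)).comp (algebraMap A (R b))
    rw [← RingHom.comp_assoc, hT, RingHom.comp_assoc, ht]
  have hTapp : ∀ a b (h : a ≤ b) (x : R a), T a b h (algebraMap (R a) (H a) x) =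
      algebraMap (R b) (H b) (t a b h x) := fun a b h x =>
    congrArg (fun f : R a →+* H b => f x) (hT a b h)
  have hid : ∀ a, T a a le_rfl = RingHom.id (H a) := by
    intro a
    refine K145.Univ.HEquiv.ringHom_ext (hH a).2 (I.map (algebraMap A (H a))) (hHens a) ?_ ?_
    · ext x
      change T a a le_rfl (algebraMap (R a) (H a) x) = algebraMap (R a) (H a) x
      rw [hTapp, htid]
    · rw [Ideal.map_map]
      exact le_of_eq rfl
  have htrans : ∀ a b c (hab : a ≤ b) (hbc : b ≤ c),
      (T b c hbc).comp (T a b hab) = T a c (hab.trans hbc) := by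
    intro a b c hab hbc
    refine K145.Univ.HEquiv.ringHom_ext (hH a).2 (I.map (algebraMap A (H c))) (hHens c) ?_ ?_
    · ext x
      change T b c hbc (T a b hab (algebraMap (R a) (H a) x)) =
        T a c (hab.trans hbc) (algebraMap (R a) (H a) x)
      rw [hTapp, hTapp, hTapp, hc.trans]
    · rw [Ideal.map_map]
      change I.map ((T a c (hab.trans hbc)).comp (algebraMap A (H a))) ≤ _
      rw [hTA]
  have hDS : DirectedSystem H (fun a b h => T a b h) :=
    ⟨fun a x => congrArg (fun f : H a →+* H a => f x) (hid a),
      fun a b c hab hbc x => congrArg (fun f : H _ →+* H _ => f x) (htrans _ _ _ hab hbc)⟩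
  have hcL := K145.Colim.isColim_directLimit H T
  obtain ⟨a₀⟩ := ‹Nonempty κ›
  let iL : Algebra A (DirectLimit H T) :=
    ((DirectLimit.Ring.of H T a₀).comp (algebraMap A (H a₀))).toAlgebra
  have halg : ∀ (a : κ) (x : A), algebraMap A (DirectLimit H T) x =
      DirectLimit.Ring.of H T a (algebraMap A (H a) x) := by
    intro a x
    obtain ⟨b, h0, h1⟩ := exists_ge_ge a₀ a
    change DirectLimit.Ring.of H T a₀ (algebraMap A (H a₀) x) = _
    have e0 := hcL.compat a₀ b h0 (algebraMap A (H a₀) x)
    have e1 := hcL.compat a b h1 (algebraMap A (H a) x)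
    have e2 : T a₀ b h0 (algebraMap A (H a₀) x) = T a b h1 (algebraMap A (H a) x) := by
      have e3 := congrArg (fun f : A →+* H b => f x) (hTA a₀ b h0)
      have e4 := congrArg (fun f : A →+* H b => f x) (hTA a b h1)
      exact e3.trans e4.symm
    rw [← e0, e2, e1]
  -- the map from `B` to the colimit
  obtain ⟨χ, hχ⟩ := K145.FPColim.exists_desc hc (DirectLimit H T)
    (fun a => (DirectLimit.Ring.of H T a).comp (algebraMap (R a) (H a))) (fun a b hab x => by
      change DirectLimit.Ring.of H T b (algebraMap (R b) (H b) (t a b hab x)) =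
        DirectLimit.Ring.of H T a (algebraMap (R a) (H a) x)
      rw [← hTapp]
      exact hcL.compat a b hab _)
  have hχapp : ∀ a (x : R a), χ (β a x) = DirectLimit.Ring.of H T a (algebraMap (R a) (H a) x) :=
    fun a x => congrArg (fun f : R a →+* DirectLimit H T => f x) (hχ a)
  have hβapp : ∀ a (x : A), β a (algebraMap A (R a) x) = algebraMap A B x :=
    fun a x => congrArg (fun f : A →+* B => f x) (hβ a)
  let χA : B →ₐ[A] DirectLimit H T :=
    { χ with
      commutes' := fun r => by
        change χ (algebraMap A B r) = _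
        rw [← hβapp a₀, hχapp]
        rfl }
  obtain ⟨a, φ, hφ⟩ := (h κ H T hTA halg).1 χA
  -- the maps from the henselizations to `B`
  have hex' : ∀ a, ∃ g : H a →+* B, g.comp (algebraMap (R a) (H a)) = β a := fun a =>
    ((hH a).2 B (I.map (algebraMap A B)) _ inferInstance (by rw [Ideal.map_map, hβ])).exists
  choose π hπ using hex'
  have hπapp : ∀ a (x : R a), π a (algebraMap (R a) (H a) x) = β a x :=
    fun a x => congrArg (fun f : R a →+* B => f x) (hπ a)
  have hπT : ∀ a b (hab : a ≤ b), (π b).comp (T a b hab) = π a := by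
    intro a b hab
    refine K145.Univ.HEquiv.ringHom_ext (hH a).2 (I.map (algebraMap A B)) inferInstance ?_ ?_
    · ext x
      change π b (T a b hab (algebraMap (R a) (H a) x)) = π a (algebraMap (R a) (H a) x)
      rw [hTapp, hπapp, hπapp, hc.compat]
    · rw [Ideal.map_map, hπ, hβ]
  obtain ⟨πL, hπL⟩ := K145.FPColim.exists_desc hcL B π (fun a b hab x =>
    congrArg (fun f : H a →+* B => f x) (hπT a b hab))
  have hπLapp : ∀ a (x : H a), πL (DirectLimit.Ring.of H T a x) = π a x :=
    fun a x => congrArg (fun f : H a →+* B => f x) (hπL a)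
  have hid' : πL.comp χ = RingHom.id B := by
    refine K145.FPColim.hom_ext hc fun a => ?_
    ext x
    change πL (χ (β a x)) = β a x
    rw [hχapp, hπLapp, hπapp]
  let πA : H a →ₐ[A] B :=
    { π a with
      commutes' := fun r => by
        change π a (algebraMap (R a) (H a) (algebraMap A (R a) r)) = _
        rw [hπapp, hβapp] }
  have := hfp a
  refine K145.Retract.exists_of_retract I (R a) (H a) (hH a) B inferInstance πA φ fun x => ?_
  change π a (φ x) = x
  rw [← hπLapp, hφ]
  exact congrArg (fun f : B →+* B => f x) hid'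

end Groth.Agent.S17618
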