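import Groth.Statements.S17620
import Groth.Agent.Hensel.K145.Faithful
import Groth.Agent.Etalg.PairHensLocal

set_option autoImplicit false
universe u
open Hensel

namespace Groth.Agent.S17620

/-- Let R be a local ring and J an ideal of R contained in the maximal ideal, let H be a Henselization
of the pair (R, J) which is a local ring with local structure map R → H, and let S be a strict
Henselization of the local ring H. Then S, with its composite R-algebra structure, is a strict
Henselization of the local ring R. (This is the identification of the strict Henselization of the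
local ring of a scheme at a point with that of the local ring of its Henselization along a closed
subscheme through the point.) -/
theorem result
    (R : Type u) [CommRing R] [IsLocalRing R] (J : Ideal R) (hJ : J ≤ IsLocalRing.maximalIdeal R)
    (H : Type u) [CommRing H] [IsLocalRing H] [Algebra R H] [IsLocalHom (algebraMap R H)]
    (hH : Hens2.IsPairHenselization R J H)
    (S : Type u) [CommRing S] [IsLocalRing S] [Algebra H S] [IsLocalHom (algebraMap H S)]
    [Hensel.IsStrictHenselization H S]
    [Algebra R S] [IsScalarTower R H S] [IsLocalHom (algebraMap R S)] :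
    Hensel.IsStrictHenselization R S := by
  have hSep := Hensel.IsStrictHenselization.isSepClosure (R := H) (S := S)
  -- `κ(R) → κ(H)` is surjective
  have hJH : J.map (algebraMap R H) ≤ IsLocalRing.maximalIdeal H := by
    rw [Ideal.map_le_iff_le_comap]
    exact hJ.trans (IsLocalRing.maximalIdeal_comap (algebraMap R H)).ge
  have hsurj : Function.Surjective (algebraMap (IsLocalRing.ResidueField R)
      (IsLocalRing.ResidueField H)) := by
    intro y
    obtain ⟨x, rfl⟩ := IsLocalRing.residue_surjective y
    obtain ⟨r, hr⟩ := K145.Nbhd.ph_exists_sub_mem hH x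
    refine ⟨IsLocalRing.residue R r, ?_⟩
    change IsLocalRing.residue H (algebraMap R H r) = _
    rw [eq_comm, ← sub_eq_zero, ← map_sub, IsLocalRing.residue_eq_zero_iff]
    exact hJH hr
  refine ⟨Hensel.IsStrictHenselization.henselian (R := H) (S := S), ?_, ?_⟩
  · have h1 : Algebra.IsSeparable (IsLocalRing.ResidueField R) (IsLocalRing.ResidueField H) := by
      refine ⟨fun y => ?_⟩
      obtain ⟨x, rfl⟩ := hsurj y
      exact isSeparable_algebraMap x
    have h2 := hSep.separable
    have htow : IsScalarTower (IsLocalRing.ResidueField R) (IsLocalRing.ResidueField H)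
        (IsLocalRing.ResidueField S) := by
      refine IsScalarTower.of_algebraMap_eq fun x => ?_
      obtain ⟨r, rfl⟩ := IsLocalRing.residue_surjective x
      change IsLocalRing.residue S (algebraMap R S r) =
        IsLocalRing.residue S (algebraMap H S (algebraMap R H r))
      rw [← IsScalarTower.algebraMap_apply]
    refine ⟨hSep.sep_closed, Algebra.IsSeparable.trans (IsLocalRing.ResidueField R)
      (IsLocalRing.ResidueField H) (IsLocalRing.ResidueField S)⟩
  · intro T _ _ f _ τ hτ
    obtain ⟨g₀, hg₀, hg₀u⟩ := hH.2 T (IsLocalRing.maximalIdeal T) f inferInstance (by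
      rw [Ideal.map_le_iff_le_comap]
      exact hJ.trans (IsLocalRing.maximalIdeal_comap f).ge)
    have hg₀' : ∀ r, g₀ (algebraMap R H r) = f r := fun r =>
      congrArg (fun k : R →+* T => k r) hg₀
    have hJT : (J.map (algebraMap R H)).map g₀ ≤ IsLocalRing.maximalIdeal T := by
      rw [Ideal.map_map, hg₀, Ideal.map_le_iff_le_comap]
      exact hJ.trans (IsLocalRing.maximalIdeal_comap f).ge
    have hloc : IsLocalHom g₀ := by
      refine ((IsLocalRing.local_hom_TFAE g₀).out 0 2).2 ?_
      rw [Ideal.map_le_iff_le_comap]
      intro x hx
      rw [Ideal.mem_comap]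
      obtain ⟨r, hr⟩ := K145.Nbhd.ph_exists_sub_mem hH x
      have hr1 : algebraMap R H r ∈ IsLocalRing.maximalIdeal H := by
        have := sub_mem hx (hJH hr)
        rwa [sub_sub_cancel] at this
      have hr2 : r ∈ IsLocalRing.maximalIdeal R := by
        rw [IsLocalRing.mem_maximalIdeal, mem_nonunits_iff] at hr1 ⊢
        exact fun hu => hr1 (hu.map _)
      have hr3 : g₀ (algebraMap R H r) ∈ IsLocalRing.maximalIdeal T := by
        rw [hg₀', IsLocalRing.mem_maximalIdeal, mem_nonunits_iff]
        rw [IsLocalRing.mem_maximalIdeal, mem_nonunits_iff] at hr2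
        exact fun hu => hr2 (isUnit_of_map_unit f r hu)
      have hr4 := hJT (Ideal.mem_map_of_mem g₀ hr)
      rw [map_sub] at hr4
      have := add_mem hr4 hr3
      rwa [sub_add_cancel] at this
    have hτ' : τ.comp (IsLocalRing.ResidueField.map (algebraMap H S)) =
        IsLocalRing.ResidueField.map g₀ := by
      refine RingHom.ext fun y => ?_
      obtain ⟨x, rfl⟩ := hsurj y
      obtain ⟨r, rfl⟩ := IsLocalRing.residue_surjective x
      have h1 := congrArg (fun k : IsLocalRing.ResidueField R →+* IsLocalRing.ResidueField T =>
        k (IsLocalRing.residue R r)) hτ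
      change τ (IsLocalRing.residue S (algebraMap R S r)) = IsLocalRing.residue T (f r) at h1
      change τ (IsLocalRing.residue S (algebraMap H S (algebraMap R H r))) =
        IsLocalRing.residue T (g₀ (algebraMap R H r))
      rw [← IsScalarTower.algebraMap_apply, h1, hg₀']
    obtain ⟨g, ⟨hg, hgτ⟩, hgu⟩ := Hensel.IsStrictHenselization.universal (R := H) (S := S) T g₀ τ hτ'
    refine ⟨g, ⟨?_, hgτ⟩, fun k hk => hgu k ⟨?_, hk.2⟩⟩
    · rw [IsScalarTower.algebraMap_eq R H S, ← RingHom.comp_assoc, hg, hg₀]
    · apply hg₀u
      change (k.comp (algebraMap H S)).comp (algebraMap R H) = f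
      rw [RingHom.comp_assoc, ← IsScalarTower.algebraMap_eq]
      exact hk.1

end Groth.Agent.S17620
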