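import Groth.Statements.S17621
import Groth.Agent.Variety.K433.GrowthId

set_option autoImplicit false
universe u
open CategoryTheory CategoryTheory.Limits AlgebraicGeometry
open Variety

namespace Groth.Agent.S17621

open K433.Growth K433.Hq Groth.Agent.Fdesc.LocGen Groth.Agent.Grpsch.PicGrp

/-- Let X be an integral scheme, proper over an algebraically closed field k of characteristic zero and
admitting an ample invertible module, of dimension n (stated in the source over the complex
numbers), L an invertible O_X-module and a ≥ 1. Then ĥ^i(X, L^{⊗a}) = a^n · ĥ^i(X, L) for every i ≥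
0, where ĥ^i(X, L) = limsup_m dim_k H^i(X, L^{⊗m}) · n!/m^n is the i-th asymptotic cohomological
function. -/
theorem result (k : Type u) [Field k] [IsAlgClosed k] [CharZero k] (X : Scheme.{u})
    [X.Over (Spec (CommRingCat.of k))] [AlgebraicGeometry.IsIntegral X]
    [IsProper (X ↘ Spec (CommRingCat.of k))] (hproj : ∃ A : X.Modules, CohB1.IsAmple A)
    (n : ℕ) (hn : topologicalKrullDim X = n)
    (L : X.Modules) (hL : PicF.IsInvertible L) (a : ℕ) (ha : 1 ≤ a) (i : ℕ) :
    W4c5asymptcohfn.hhat k X n i (CohB1.tensorPow L a) = (a : ℝ) ^ n * W4c5asymptcohfn.hhat k X n i L := by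
  obtain ⟨A, hA⟩ := hproj
  have hO : Coh.IsCoh (Coh.structureModule X) := by
    have := Fga.HypSec.isNoetherian k X
    exact Fdesc.StructMod.isCoh_structureModule X
  have hdim : topologicalKrullDim (CohB1.support (Coh.structureModule X)) ≤ n :=
    (Topology.IsInducing.subtypeVal.topologicalKrullDim_le).trans hn.le
  obtain ⟨C, hC⟩ := step_pow k hA (mk L hL) hO hdim (mk L hL) i
  obtain ⟨C', hC'⟩ := growth_pow k hA (mk L hL) hO hdim i
  rw [hhat_eq k n i hL, hhat_eq k n i (isInvertible_tensorPow hL a)]
  have h := limsup_multiples_of_near (h := fun m => hq k i (Coh.structureModule X) (mk L hL ^ m)) (n := n)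
    (fun m => by
      have := hC m
      rwa [← pow_succ'] at this) hC' ha
  rw [← h]
  have e : ∀ m : ℕ, mk (CohB1.tensorPow L a) (isInvertible_tensorPow hL a) ^ m = mk L hL ^ (a * m) := fun m => by
    rw [mk_tensorPow hL a, ← pow_mul]
  exact congrArg (fun u => Filter.limsup (nseq n u) Filter.atTop)
    (funext fun m => congrArg (hq k i (Coh.structureModule X)) (e m))

end Groth.Agent.S17621
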