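import Groth.Statements.S17622
import Groth.Agent.Variety.K433.NumNear
import Groth.Agent.Variety.K433.HhatEq
import Groth.Agent.Variety.K433.GrowthId

set_option autoImplicit false
universe u
open CategoryTheory CategoryTheory.Limits AlgebraicGeometry
open Variety

namespace Groth.Agent.S17622

open Groth.Agent K433.Hq K433.Growth K433.Num Groth.Agent.Grpsch.PicGrp Groth.Agent.Fdesc.LocGen in
/-- Let X be an integral scheme, proper over an uncountable algebraically closed field k of
characteristic zero and admitting an ample invertible module, of dimension n (stated in the source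
over the complex numbers), L an invertible O_X-module and P an invertible O_X-module which is
numerically equivalent to zero, i.e. of degree 0 on every integral closed curve in X. Then ĥ^i(X, L
⊗ P) = ĥ^i(X, L) for every i ≥ 0, where ĥ^i(X, L) = limsup_m dim_k H^i(X, L^{⊗m}) · n!/m^n; so ĥ^i
only depends on the numerical class of L. -/
theorem result (k : Type u) [Field k] [IsAlgClosed k] [CharZero k] [Uncountable k] (X : Scheme.{u})
    [X.Over (Spec (CommRingCat.of k))] [AlgebraicGeometry.IsIntegral X]
    [IsProper (X ↘ Spec (CommRingCat.of k))] (hproj : ∃ A : X.Modules, CohB1.IsAmple A)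
    (n : ℕ) (hn : topologicalKrullDim X = n)
    (L : X.Modules) (hL : PicF.IsInvertible L) (P : X.Modules) (hP : PicF.IsInvertible P)
    (hnum : Pic13.IsNumEquivZero k X P) (i : ℕ) :
    W4c5asymptcohfn.hhat k X n i (CohB1.tensorMod L P) = W4c5asymptcohfn.hhat k X n i L := by
  obtain ⟨A, hA⟩ := hproj
  have hinf : Infinite k := IsAlgClosed.instInfinite
  have hO : Coh.IsCoh (Coh.structureModule X) := by
    have := Fga.HypSec.isNoetherian k X
    exact Fdesc.StructMod.isCoh_structureModule X
  have hdim : topologicalKrullDim (CohB1.support (Coh.structureModule X)) ≤ n :=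
    (Topology.IsInducing.subtypeVal.topologicalKrullDim_le).trans hn.le
  have hν : mk P hP ∈ Pic13.H945.DegAmple.num0 k X := (Pic13.H945.DegAmple.isNumEquivZero_iff_mem k X hP).1 hnum
  obtain ⟨C, hC⟩ := near_num_list k hA hn.le (fun _ : Unit => mk L hL) i
  obtain ⟨C', hC'⟩ := growth_pow k hA (mk L hL) hO hdim i
  rw [hhat_eq k n i hL, hhat_eq k n i (isInvertible_tensorMod hL hP)]
  refine limsup_eq_of_near (C := C) (fun m => ?_) hC'
  have := hC (mk P hP ^ m) (pow_mem hν m) (List.replicate m ())
  rw [List.map_replicate, List.prod_replicate, List.length_replicate] at this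
  rwa [← mk_mul_mk hL hP, mul_pow]

end Groth.Agent.S17622
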