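import Groth.Statements.S17624
import Groth.Agent.Variety.K433.GrowthId

set_option autoImplicit false
universe u
open CategoryTheory CategoryTheory.Limits AlgebraicGeometry
open Variety

namespace Groth.Agent.S17624

open K433.Growth K433.Hq Groth.Agent.Fdesc.LocGen Groth.Agent.Grpsch.PicGrp

/-- Let X and Y be integral schemes, proper over an algebraically closed field k of characteristic zero
and each admitting an ample invertible module (stated in the source over the complex numbers), of
dimensions n and e with e > n, and let f : Y → X be a dominant k-morphism (so proper and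
surjective). Then for every invertible O_X-module L and every i ≥ 0, ĥ^i(Y, f^*L) = 0, where ĥ^i(Y,
M) = limsup_m dim_k H^i(Y, M^{⊗m}) · e!/m^e is normalised by the dimension e of Y. -/
theorem result (k : Type u) [Field k] [IsAlgClosed k] [CharZero k]
    (X Y : Scheme.{u}) [X.Over (Spec (CommRingCat.of k))] [Y.Over (Spec (CommRingCat.of k))]
    [AlgebraicGeometry.IsIntegral X] [AlgebraicGeometry.IsIntegral Y]
    [IsProper (X ↘ Spec (CommRingCat.of k))] [IsProper (Y ↘ Spec (CommRingCat.of k))]
    (hXproj : ∃ A : X.Modules, CohB1.IsAmple A) (hYproj : ∃ B : Y.Modules, CohB1.IsAmple B)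
    (n e : ℕ) (hn : topologicalKrullDim X = n) (he : topologicalKrullDim Y = e) (hne : n < e)
    (f : Y ⟶ X) (hf : f ≫ (X ↘ Spec (CommRingCat.of k)) = Y ↘ Spec (CommRingCat.of k))
    (hdom : f.base (genericPoint Y) = genericPoint X) (L : X.Modules) (hL : PicF.IsInvertible L) (i : ℕ) :
    W4c5asymptcohfn.hhat k Y e i ((Scheme.Modules.pullback f).obj L) = 0 := by
  obtain ⟨A, hA⟩ := hXproj
  have := Fga.HypSec.isNoetherian k X
  have := Fga.HypSec.isSeparated k X
  have := Fga.HypSec.isNoetherian k Y
  have hO : Coh.IsCoh (Coh.structureModule Y) := Fdesc.StructMod.isCoh_structureModule Y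
  have hfp : IsProper f := by
    have : IsProper (f ≫ (X ↘ Spec (CommRingCat.of k))) := by rw [hf]; infer_instance
    exact IsProper.of_comp f (X ↘ Spec (CommRingCat.of k))
  have hdim : DimLT f (n + 1) (Coh.structureModule Y) :=
    lt_succ_of_le ((Topology.IsInducing.subtypeVal.topologicalKrullDim_le).trans hn.le)
  obtain ⟨C, hC⟩ := bound_pow k hA f.isClosedMap (bdd_singleton k 1) (mk L hL) (n + 1) hO hdim i
  rw [hhat_eq k e i (isInvertible_pullback f hL)]
  refine Filter.Tendsto.limsup_eq (nseq_tendsto_zero (C := C) fun m => ?_)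
  have h := hC 1 rfl m
  rw [mul_one, map_pow, pull_mk] at h
  obtain ⟨e, rfl⟩ : ∃ e', e = e' + 1 := ⟨e - 1, by omega⟩
  refine h.trans (Nat.mul_le_mul_left _ ?_)
  rw [phi_succ, phi_succ]
  exact Nat.pow_le_pow_right (Nat.succ_pos _) (by omega)

end Groth.Agent.S17624
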