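import Groth.Statements.S17625
import Groth.Agent.Variety.K434.AsympDual

set_option autoImplicit false
universe u
open CategoryTheory CategoryTheory.Limits AlgebraicGeometry
open Variety

namespace Groth.Agent.S17625

/-- Let X be an integral scheme, proper over an algebraically closed field k of characteristic zero and
admitting an ample invertible module, of dimension n (stated in the source over the complex numbers;
X need not be smooth), L an invertible O_X-module and M an inverse of L, i.e. L ⊗ M ≅ O_X. Then
ĥ^i(X, L) = ĥ^{n−i}(X, M) for every 0 ≤ i ≤ n, where ĥ^i(X, L) = limsup_m dim_k H^i(X, L^{⊗m}) ·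
n!/m^n. -/
theorem result (k : Type u) [Field k] [IsAlgClosed k] [CharZero k] (X : Scheme.{u})
    [X.Over (Spec (CommRingCat.of k))] [AlgebraicGeometry.IsIntegral X]
    [IsProper (X ↘ Spec (CommRingCat.of k))] (hproj : ∃ A : X.Modules, CohB1.IsAmple A)
    (n : ℕ) (hn : topologicalKrullDim X = n)
    (L M : X.Modules) (hL : PicF.IsInvertible L) (hM : ClSub.IsInverseOf L M) (i : ℕ) (hi : i ≤ n) :
    W4c5asymptcohfn.hhat k X n i L = W4c5asymptcohfn.hhat k X n (n - i) M := by
  obtain ⟨A, hA⟩ := hproj
  exact K434.AsympDual.hhat_duality k hA n hn hM i hi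

end Groth.Agent.S17625
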