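import Groth.Statements.S17626
import Groth.Agent.Variety.K434.SblBound

set_option autoImplicit false
universe u
open CategoryTheory CategoryTheory.Limits AlgebraicGeometry
open Variety

namespace Groth.Agent.S17626

/-- Let X be an integral scheme, proper over an algebraically closed field k of characteristic zero and
admitting an ample invertible module, of dimension n ≥ 1 (stated in the source over the complex
numbers), and L an invertible O_X-module which is big, in the sense that its volume ĥ^0(X, L) =
limsup_m dim_k H^0(X, L^{⊗m}) · n!/m^n is positive. Then ĥ^n(X, L) = 0. (The published statement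
allows n = 0, where it fails: X is then a point, every L is big and ĥ^0(X, L) = 1; the printed
argument uses that L and its inverse cannot both be big, which needs n ≥ 1.) -/
theorem result (k : Type u) [Field k] [IsAlgClosed k] [CharZero k] (X : Scheme.{u})
    [X.Over (Spec (CommRingCat.of k))] [AlgebraicGeometry.IsIntegral X]
    [IsProper (X ↘ Spec (CommRingCat.of k))] (hproj : ∃ A : X.Modules, CohB1.IsAmple A)
    (n : ℕ) (hn : topologicalKrullDim X = n) (hn1 : 1 ≤ n)
    (L : X.Modules) (hL : PicF.IsInvertible L) (hbig : 0 < W4c5asymptcohfn.hhat k X n 0 L) :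
    W4c5asymptcohfn.hhat k X n n L = 0 := by
  have hNoeth : IsNoetherian X := VarietyA.TwistExist.isNoetherian k X
  have hsec : ∃ m : ℕ, ∃ s : Coh.structureModule X ⟶ CohB1.tensorPow L (m + 1), s ≠ 0 := by
    by_contra hcon
    push Not at hcon
    have h0 : ∀ m, 1 ≤ m → Module.finrank k (Coh.HH X (CohB1.tensorPow L m) 0) = 0 := by
      intro m hm
      by_contra h
      obtain ⟨s, hs⟩ := Fga.HodgeSec.exists_section k (Nat.pos_of_ne_zero h)
      obtain ⟨m, rfl⟩ : ∃ m', m = m' + 1 := ⟨m - 1, by omega⟩
      exact hs (hcon m s)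
    have h1 : W4c5asymptcohfn.hhat k X n 0 L = 0 := by
      unfold W4c5asymptcohfn.hhat
      refine Filter.Tendsto.limsup_eq (tendsto_const_nhds.congr' ?_)
      filter_upwards [Filter.eventually_ge_atTop 1] with m hm
      rw [h0 m hm]
      simp
    rw [h1] at hbig
    exact lt_irrefl _ hbig
  obtain ⟨m, s, hs⟩ := hsec
  obtain ⟨x, hx⟩ := VarietyA.TwistExist.genLocus_nonempty (Fdesc.LocGen.isInvertible_tensorPow hL (m + 1)) s hs
  have hx' : x ∉ W4c5asymptcohfn.stableBaseLocus X L := fun h => Set.mem_iInter.1 h m s hx
  have hdim : topologicalKrullDim (W4c5asymptcohfn.stableBaseLocus X L) ≤ ((n - 1 : ℕ) : WithBot ℕ∞) := by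
    apply K434.DevIrred.withBot_le_of_lt_succ
    refine Fga.DimLt.topologicalKrullDim_lt (A := Set.univ) (IrreducibleSpace.isIrreducible_univ X)
      (K434.SblBound.isClosed_stableBaseLocus L) (Set.subset_univ _) (fun h => hx' (by rw [h]; trivial)) ?_
    refine lt_of_le_of_lt Topology.IsInducing.subtypeVal.topologicalKrullDim_le ?_
    rw [hn]
    exact_mod_cast (by omega : n < n - 1 + 1 + 1)
  exact K434.SblBound.hhat_eq_zero k hL hdim n hn.le n (by omega)

end Groth.Agent.S17626
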