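import Groth.Statements.S17630
import Groth.Agent.Coherent.K57.Rank

set_option autoImplicit false
universe u
open CategoryTheory CategoryTheory.Limits AlgebraicGeometry
open Coherent

namespace Groth.Agent.S17630

section

variable {X : Scheme.{u}} (C : ℕ → X.Modules) (d : ∀ j, C j ⟶ C (j + 1))
    (hd : ∀ j, d j ≫ d (j + 1) = 0)

/-- The short complex `ker d_j → C_j → ker d_{j+1}`. -/
noncomputable def kerSeq (j : ℕ) : ShortComplex X.Modules :=
  ShortComplex.mk (kernel.ι (d j)) (kernel.lift (d (j + 1)) (d j) (hd j)) (by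
    rw [← cancel_mono (kernel.ι (d (j + 1))), Category.assoc, kernel.lift_ι, kernel.condition,
      zero_comp])

theorem kerSeq_shortExact (hex : ∀ j, (ShortComplex.mk (d j) (d (j + 1)) (hd j)).Exact) (j : ℕ) :
    (kerSeq C d hd j).ShortExact := by
  have h1 : Mono (kerSeq C d hd j).f := inferInstanceAs (Mono (kernel.ι (d j)))
  have h2 : Epi (kerSeq C d hd j).g := (hex j).epi_kernelLift
  refine ShortComplex.ShortExact.mk' ?_ h1 h2
  let φ : kerSeq C d hd j ⟶ ShortComplex.mk (kernel.ι (d j)) (d j) (kernel.condition (d j)) :=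
    { τ₁ := 𝟙 _
      τ₂ := 𝟙 _
      τ₃ := kernel.ι (d (j + 1))
      comm₁₂ := by simp [kerSeq]
      comm₂₃ := by simp [kerSeq] }
  have e1 : Epi φ.τ₁ := inferInstanceAs (Epi (𝟙 _))
  have e2 : IsIso φ.τ₂ := inferInstanceAs (IsIso (𝟙 _))
  have e3 : Mono φ.τ₃ := inferInstanceAs (Mono (kernel.ι (d (j + 1))))
  exact (ShortComplex.exact_iff_of_epi_of_isIso_of_mono φ).2
    (ShortComplex.exact_of_f_is_kernel _ (kernelIsKernel (d j)))

/-- The short complex `C_0 → C_1 → ker d_2`. -/
noncomputable def zeroSeq : ShortComplex X.Modules :=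
  ShortComplex.mk (d 0) (kernel.lift (d 2) (d 1) (hd 1)) (by
    rw [← cancel_mono (kernel.ι (d 2)), Category.assoc, kernel.lift_ι, hd 0, zero_comp])

theorem zeroSeq_shortExact [Mono (d 0)]
    (hex : ∀ j, (ShortComplex.mk (d j) (d (j + 1)) (hd j)).Exact) :
    (zeroSeq C d hd).ShortExact := by
  have h1 : Mono (zeroSeq C d hd).f := inferInstanceAs (Mono (d 0))
  have h2 : Epi (zeroSeq C d hd).g := (hex 1).epi_kernelLift
  refine ShortComplex.ShortExact.mk' ?_ h1 h2
  let φ : zeroSeq C d hd ⟶ ShortComplex.mk (d 0) (d 1) (hd 0) :=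
    { τ₁ := 𝟙 _
      τ₂ := 𝟙 _
      τ₃ := kernel.ι (d 2)
      comm₁₂ := by simp [zeroSeq]
      comm₂₃ := by simp [zeroSeq] }
  have e1 : Epi φ.τ₁ := inferInstanceAs (Epi (𝟙 _))
  have e2 : IsIso φ.τ₂ := inferInstanceAs (IsIso (𝟙 _))
  have e3 : Mono φ.τ₃ := inferInstanceAs (Mono (kernel.ι (d 2)))
  exact (ShortComplex.exact_iff_of_epi_of_isIso_of_mono φ).2 (hex 0)

end

open K57.Rank

theorem h_ker_le (k : Type u) [Field k] (X : Scheme.{u})
    [X.Over (Spec (CommRingCat.of k))] [IsProper (X ↘ Spec (CommRingCat.of k))]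
    (C : ℕ → X.Modules) (hC : ∀ j, Coh.IsCoh (C j)) (d : ∀ j, C j ⟶ C (j + 1))
    (hd : ∀ j, d j ≫ d (j + 1) = 0)
    (hex : ∀ j, (ShortComplex.mk (d j) (d (j + 1)) (hd j)).Exact) (i : ℕ) :
    ∀ j : ℕ, h k (kernel (d j)) i ≤ ∑ l ∈ Finset.range (i + 1), h k (C (j + l)) (i - l) := by
  have hln : IsLocallyNoetherian X := LocallyOfFiniteType.isLocallyNoetherian (X ↘ Spec (CommRingCat.of k))
  have hK : ∀ j, Coh.IsCoh (kernel (d j)) := fun j =>
    Groth.Agent.Ega3B.DevQC.isCoh_kernel (d j) (hC j) (hC (j + 1)).1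
  have fin : ∀ (M : X.Modules), Coh.IsCoh M → ∀ n, Module.Finite k (Coh.HH X M n) := fun M hM n =>
    Groth.Agent.S0002.result k X M hM n
  induction i with
  | zero =>
    intro j
    have h0 : h k (kernel (d j)) 0 ≤ h k (C j) 0 :=
      h₁_zero_le (kerSeq C d hd j) (kerSeq_shortExact C d hd hex j) (fin _ (hC j) 0)
    rw [Finset.sum_range_one]
    exact h0
  | succ i ih =>
    intro j
    rw [Finset.sum_range_succ']
    have h1 := h₁_succ_le (kerSeq C d hd j) (kerSeq_shortExact C d hd hex j) i (fin _ (hK (j + 1)) i)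
      (fin _ (hC j) (i + 1))
    have h2 := ih (j + 1)
    refine h1.trans (add_le_add ?_ (le_of_eq ?_))
    · refine h2.trans (le_of_eq (Finset.sum_congr rfl fun l _ => ?_))
      have e1 : j + 1 + l = j + (l + 1) := by omega
      have e2 : i - l = i + 1 - (l + 1) := by omega
      rw [e1, e2]
    · rfl

/-- Let X be a scheme proper over a field k and 0 → C_0 → C_1 → C_2 → ⋯ an exact sequence of coherent
O_X-modules: the composite of consecutive maps is zero, the sequence is exact at every C_j with j ≥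
1, and C_0 → C_1 is a monomorphism (the source numbers the sequence from C_{−1}; its argument and
its application use that the first map is injective). Then for every i ≥ 0, |dim_k H^i(X, C_0) −
dim_k H^i(X, C_1)| ≤ Σ_{j=1}^{i+1} dim_k H^{i+1−j}(X, C_{j+1}) + Σ_{j=1}^{i} dim_k H^{i−j}(X,
C_{j+1}). (The published bound is 2 · Σ_{j=1}^{i+1} dim_k H^{i+1−j}(X, C_{j+1}); the argument given
yields the two sums here, and the published form fails for the sequence 0 → O(−3) → O(−1) → O_Z → 0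
on the projective line, Z a subscheme of length 2, with i = 1: the left side is 2 and the published
right side is 0.) -/
theorem result (k : Type u) [Field k] (X : Scheme.{u})
    [X.Over (Spec (CommRingCat.of k))] [IsProper (X ↘ Spec (CommRingCat.of k))]
    (C : ℕ → X.Modules) (hC : ∀ j, Coh.IsCoh (C j)) (d : ∀ j, C j ⟶ C (j + 1))
    (hd : ∀ j, d j ≫ d (j + 1) = 0) [Mono (d 0)]
    (hex : ∀ j, (ShortComplex.mk (d j) (d (j + 1)) (hd j)).Exact) (i : ℕ) :
    |(Module.finrank k (Coh.HH X (C 0) i) : ℤ) - (Module.finrank k (Coh.HH X (C 1) i) : ℤ)| ≤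
      (Finset.Icc 1 (i + 1)).sum (fun j => ((Module.finrank k (Coh.HH X (C (j + 1)) (i + 1 - j))) : ℤ)) +
        (Finset.Icc 1 i).sum (fun j => ((Module.finrank k (Coh.HH X (C (j + 1)) (i - j))) : ℤ)) := by
  have hln : IsLocallyNoetherian X := LocallyOfFiniteType.isLocallyNoetherian (X ↘ Spec (CommRingCat.of k))
  have hK : ∀ j, Coh.IsCoh (kernel (d j)) := fun j =>
    Groth.Agent.Ega3B.DevQC.isCoh_kernel (d j) (hC j) (hC (j + 1)).1
  have fin : ∀ (M : X.Modules), Coh.IsCoh M → ∀ n, Module.Finite k (Coh.HH X M n) := fun M hM n =>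
    Groth.Agent.S0002.result k X M hM n
  have key := h_ker_le k X C hC d hd hex
  have hS := zeroSeq_shortExact C d hd hex
  have s1 : ∀ n : ℕ, h k (kernel (d 2)) n ≤
      (Finset.Icc 1 (n + 1)).sum (fun j => h k (C (j + 1)) (n + 1 - j)) := by
    intro n
    refine (key n 2).trans (le_of_eq ?_)
    rw [← Finset.Ico_succ_right_eq_Icc, Finset.sum_Ico_eq_sum_range]
    refine Finset.sum_congr (by simp) fun l _ => ?_
    have e1 : 2 + l = 1 + l + 1 := by omega
    have e2 : n - l = n + 1 - (1 + l) := by omega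
    rw [e1, e2]
  have h2 : h k (C 1) i ≤ h k (C 0) i + h k (kernel (d 2)) i :=
    h₂_le (zeroSeq C d hd) hS i (fin _ (hC 0) i) (fin _ (hK 2) i)
  have h1 : h k (C 0) i ≤ h k (C 1) i +
      (Finset.Icc 1 i).sum (fun j => h k (C (j + 1)) (i - j)) := by
    cases i with
    | zero =>
      refine (h₁_zero_le (zeroSeq C d hd) hS (fin _ (hC 1) 0)).trans (Nat.le_add_right _ _)
    | succ n =>
      have := h₁_succ_le (zeroSeq C d hd) hS n (fin _ (hK 2) n) (fin _ (hC 1) (n + 1))
      have h3 := s1 n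
      refine this.trans ?_
      rw [add_comm]
      exact add_le_add le_rfl h3
  have h3 := s1 i
  have e1 : ((Finset.Icc 1 (i + 1)).sum (fun j => ((Module.finrank k (Coh.HH X (C (j + 1)) (i + 1 - j))) : ℤ)))
      = (((Finset.Icc 1 (i + 1)).sum (fun j => h k (C (j + 1)) (i + 1 - j)) : ℕ) : ℤ) := by
    push_cast
    rfl
  have e2 : ((Finset.Icc 1 i).sum (fun j => ((Module.finrank k (Coh.HH X (C (j + 1)) (i - j))) : ℤ)))
      = (((Finset.Icc 1 i).sum (fun j => h k (C (j + 1)) (i - j)) : ℕ) : ℤ) := by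
    push_cast
    rfl
  rw [e1, e2, abs_le]
  change h k (C 0) i ≤ _ at h1
  have g1 : Module.finrank k (Coh.HH X (C 0) i) = h k (C 0) i := rfl
  have g2 : Module.finrank k (Coh.HH X (C 1) i) = h k (C 1) i := rfl
  rw [g1, g2]
  constructor <;> omega

end Groth.Agent.S17630
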