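import Groth.Statements.S17632
import Groth.Agent.Variety.K434.Asymp

set_option autoImplicit false
universe u
open CategoryTheory CategoryTheory.Limits AlgebraicGeometry
open Variety

namespace Groth.Agent.S17632

/-- Let X be an integral scheme, proper over an uncountable algebraically closed field k of
characteristic zero and admitting an ample invertible module, of dimension n (stated in the source
over the complex numbers), L an invertible O_X-module and A an ample invertible O_X-module with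
inverse A', i.e. A ⊗ A' ≅ O_X. Then for every i ≥ 0, (ĥ^i(X, L^{⊗p} ⊗ A') − ĥ^i(X, L^{⊗p})) / p^n
tends to 0 as p → ∞, where ĥ^i(X, M) = limsup_m dim_k H^i(X, M^{⊗m}) · n!/m^n. -/
theorem result (k : Type u) [Field k] [IsAlgClosed k] [CharZero k] [Uncountable k] (X : Scheme.{u})
    [X.Over (Spec (CommRingCat.of k))] [AlgebraicGeometry.IsIntegral X]
    [IsProper (X ↘ Spec (CommRingCat.of k))] (hproj : ∃ A : X.Modules, CohB1.IsAmple A)
    (n : ℕ) (hn : topologicalKrullDim X = n)
    (L : X.Modules) (hL : PicF.IsInvertible L) (A A' : X.Modules) (hA : CohB1.IsAmple A)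
    (hA' : ClSub.IsInverseOf A A') (i : ℕ) :
    Filter.Tendsto (fun p : ℕ =>
        (W4c5asymptcohfn.hhat k X n i (CohB1.tensorMod (CohB1.tensorPow L p) A') -
          W4c5asymptcohfn.hhat k X n i (CohB1.tensorPow L p)) / (p : ℝ) ^ n)
      Filter.atTop (nhds 0) := by
  obtain ⟨L', hL'⟩ := K434.ZTwist.exists_isInverseOf hL
  set LL : Fin 2 → X.Modules := ![L, A] with hLL
  set MM : Fin 2 → X.Modules := ![L', A'] with hMM
  have hinv : ∀ j, ClSub.IsInverseOf (LL j) (MM j) := by
    intro j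
    fin_cases j
    · exact hL'
    · exact hA'
  have e1 : ∀ p : ℕ, W4c5asymptcohfn.hhat k X n i (CohB1.tensorMod (CohB1.tensorPow L p) A') =
      W4c5asymptcohfn.hhat k X n i (W4c5asymptcohfn.ztwist X LL MM ![(p : ℤ), -1]) := by
    intro p
    refine K434.Asymp.hhat_congr k ?_ n i
    rw [K434.ZTwist.mc_ztwist LL MM hinv, Fin.prod_univ_two, Fga.PicMon.mc_tensor, Fga.PicMon.mc_tensorPow]
    simp only [Matrix.cons_val_zero, Matrix.cons_val_one, zpow_natCast, Units.val_mul, Units.val_pow_eq_pow_val,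
      zpow_neg, zpow_one, K434.ZTwist.val_unit, K434.ZTwist.val_inv_unit]
    rfl
  have e2 : ∀ p : ℕ, W4c5asymptcohfn.hhat k X n i (CohB1.tensorPow L p) =
      W4c5asymptcohfn.hhat k X n i (W4c5asymptcohfn.ztwist X LL MM ![(p : ℤ), 0]) := by
    intro p
    refine K434.Asymp.hhat_congr k ?_ n i
    rw [K434.ZTwist.mc_ztwist LL MM hinv, Fin.prod_univ_two, Fga.PicMon.mc_tensorPow]
    simp only [Matrix.cons_val_zero, Matrix.cons_val_one, zpow_natCast, Units.val_mul, Units.val_pow_eq_pow_val,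
      zpow_zero, K434.ZTwist.val_unit, mul_one, Units.val_one]
    rfl
  simp only [e1, e2]
  cases n with
  | zero =>
    refine tendsto_const_nhds.congr fun p => ?_
    rw [K434.Asymp.hhat_lipschitz_zero k hA LL MM hinv i hn ![(p : ℤ), -1] ![(p : ℤ), 0]]
    simp
  | succ n =>
    obtain ⟨C, hC, h⟩ := K434.Asymp.hhat_lipschitz_succ k hA LL MM hinv i n hn
    refine squeeze_zero_norm' ?_ (tendsto_const_div_atTop_nhds_zero_nat C)
    filter_upwards [Filter.eventually_ge_atTop 1] with p hp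
    have hp1 : (1 : ℝ) ≤ p := by exact_mod_cast hp
    have hp0 : (0 : ℝ) < p := by linarith
    have h1 := h ![(p : ℤ), -1] ![(p : ℤ), 0]
    have h2 : max (K434.Steps.nm ![(p : ℤ), -1]) (K434.Steps.nm ![(p : ℤ), 0]) ≤ p := by
      refine max_le ?_ ?_ <;> rw [K434.Steps.nm_le_iff hp0.le] <;> intro j <;> fin_cases j <;> simp [hp1]
    have h3 : K434.Steps.nm (![(p : ℤ), -1] - ![(p : ℤ), 0]) ≤ 1 := by
      rw [K434.Steps.nm_le_iff zero_le_one]
      intro j
      fin_cases j <;> simp
    have h4 : (0 : ℝ) ≤ max (K434.Steps.nm ![(p : ℤ), -1]) (K434.Steps.nm ![(p : ℤ), 0]) :=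
      (K434.Steps.nm_nonneg _).trans (le_max_left _ _)
    have h5 := K434.Steps.nm_nonneg (![(p : ℤ), -1] - ![(p : ℤ), 0])
    rw [Real.norm_eq_abs, abs_div, abs_of_pos (pow_pos hp0 (n + 1)), div_le_div_iff₀ (pow_pos hp0 (n + 1)) hp0]
    calc _ ≤ (C * (max (K434.Steps.nm ![(p : ℤ), -1]) (K434.Steps.nm ![(p : ℤ), 0])) ^ n *
          K434.Steps.nm (![(p : ℤ), -1] - ![(p : ℤ), 0])) * p := mul_le_mul_of_nonneg_right h1 hp0.le
      _ ≤ (C * (p : ℝ) ^ n * 1) * p := by gcongr
      _ = C * (p : ℝ) ^ (n + 1) := by ring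

end Groth.Agent.S17632
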