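import Groth.Statements.S17635
import Mathlib.Analysis.Normed.Module.Basic

set_option autoImplicit false
open Finset
open Variety

namespace Groth.Agent.S17635

theorem rhs_nonneg (n : ℕ) {M D : ℝ} (hM : 0 ≤ M) (hD : 0 ≤ D) :
    0 ≤ (Finset.Icc 1 n).sum (fun q => M ^ (n - q) * D ^ q) :=
  Finset.sum_nonneg fun q _ => mul_nonneg (pow_nonneg hM _) (pow_nonneg hD _)

theorem rhs_mono (n : ℕ) {M D M' D' : ℝ} (hM : 0 ≤ M) (hD : 0 ≤ D) (hMM : M ≤ M') (hDD : D ≤ D') :
    (Finset.Icc 1 n).sum (fun q => M ^ (n - q) * D ^ q) ≤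
      (Finset.Icc 1 n).sum (fun q => M' ^ (n - q) * D' ^ q) :=
  Finset.sum_le_sum fun q _ => mul_le_mul (pow_le_pow_left₀ hM hMM _) (pow_le_pow_left₀ hD hDD _)
    (pow_nonneg hD _) (pow_nonneg (hM.trans hMM) _)

theorem cast_smul_norm {r : ℕ} (q : ℚ) (hq : 0 < q) (v : Fin r → ℚ) :
    ‖(fun j => (((q • v) j : ℚ) : ℝ))‖ = (q : ℝ) * ‖(fun j => ((v j : ℚ) : ℝ))‖ := by
  have : (fun j => (((q • v) j : ℚ) : ℝ)) = (q : ℝ) • (fun j => ((v j : ℚ) : ℝ)) := by
    funext j
    simp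
  rw [this, norm_smul, Real.norm_of_nonneg (by exact_mod_cast hq.le)]

/-- The directional estimate for positive rational steps. -/
theorem step_rat {r n : ℕ} (f : (Fin r → ℚ) → ℝ)
    (hhom : ∀ (q : ℚ) (v : Fin r → ℚ), 0 < q → f (q • v) = (q : ℝ) ^ n * f v)
    (i : Fin r) (Ci : ℝ) (hCi : ∀ (v : Fin r → ℚ) (b : ℕ), 1 ≤ b →
      |f (v - (b : ℚ) • Pi.single i 1) - f v| ≤
        Ci * (Finset.Icc 1 n).sum (fun q => ‖(fun j => ((v j : ℚ) : ℝ))‖ ^ (n - q) * (b : ℝ) ^ q))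
    (v : Fin r → ℚ) (b : ℚ) (hb : 0 < b) :
    |f (v - b • Pi.single i 1) - f v| ≤
        Ci * (Finset.Icc 1 n).sum (fun q => ‖(fun j => ((v j : ℚ) : ℝ))‖ ^ (n - q) * (b : ℝ) ^ q) := by
  have hd : (0 : ℚ) < (b.den : ℚ) := by exact_mod_cast b.den_pos
  have hdR : (0 : ℝ) < (b.den : ℝ) := by exact_mod_cast b.den_pos
  have hp : 0 < b.num := Rat.num_pos.mpr hb
  obtain ⟨p, hpp⟩ : ∃ p : ℕ, b.num = p := ⟨b.num.toNat, (Int.toNat_of_nonneg hp.le).symm⟩
  have hp1 : 1 ≤ p := by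
    have : (0 : ℤ) < p := by rw [← hpp]; exact hp
    exact_mod_cast this
  have hbd : (b.den : ℚ) * b = p := by
    have := Rat.mul_den_eq_num b
    rw [mul_comm, this, hpp]
    norm_cast
  have hbdR : (b.den : ℝ) * (b : ℝ) = p := by exact_mod_cast hbd
  have key := hCi ((b.den : ℚ) • v) p hp1
  have e1 : (b.den : ℚ) • v - (p : ℚ) • Pi.single i 1 = (b.den : ℚ) • (v - b • Pi.single i 1) := by
    rw [smul_sub, smul_smul, hbd]
  rw [e1, hhom _ _ hd, hhom _ _ hd, ← mul_sub, abs_mul,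
    abs_of_nonneg (pow_nonneg (by exact_mod_cast hd.le) _)] at key
  have e2 : (Finset.Icc 1 n).sum (fun q => ‖(fun j => ((((b.den : ℚ) • v) j : ℚ) : ℝ))‖ ^ (n - q) *
      (p : ℝ) ^ q) = (b.den : ℝ) ^ n *
      (Finset.Icc 1 n).sum (fun q => ‖(fun j => ((v j : ℚ) : ℝ))‖ ^ (n - q) * (b : ℝ) ^ q) := by
    rw [Finset.mul_sum]
    refine Finset.sum_congr rfl fun q hq => ?_
    rw [Finset.mem_Icc] at hq
    have h1 := cast_smul_norm (b.den : ℚ) hd v
    rw [h1, ← hbdR, mul_pow, mul_pow]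
    have : (b.den : ℝ) ^ n = (b.den : ℝ) ^ (n - q) * (b.den : ℝ) ^ q := by
      rw [← pow_add]
      congr 1
      omega
    rw [this]
    push_cast
    ring
  rw [e2] at key
  have hpos : (0 : ℝ) < (b.den : ℝ) ^ n := pow_pos hdR _
  have key' : (b.den : ℝ) ^ n * |f (v - b • Pi.single i 1) - f v| ≤ (b.den : ℝ) ^ n *
      (Ci * (Finset.Icc 1 n).sum
        (fun q => ‖(fun j => ((v j : ℚ) : ℝ))‖ ^ (n - q) * (b : ℝ) ^ q)) := by
    have h3 : (((b.den : ℚ) : ℝ)) = (b.den : ℝ) := by norm_cast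
    rw [h3] at key
    calc _ ≤ _ := key
      _ = _ := by ring
  exact le_of_mul_le_mul_left key' hpos

/-- The directional estimate for two vectors which differ only in the coordinate `i`. -/
theorem step {r n : ℕ} (f : (Fin r → ℚ) → ℝ)
    (hhom : ∀ (q : ℚ) (v : Fin r → ℚ), 0 < q → f (q • v) = (q : ℝ) ^ n * f v)
    (i : Fin r) (Ci : ℝ) (hCi0 : 0 ≤ Ci) (hCi : ∀ (v : Fin r → ℚ) (b : ℕ), 1 ≤ b →
      |f (v - (b : ℚ) • Pi.single i 1) - f v| ≤
        Ci * (Finset.Icc 1 n).sum (fun q => ‖(fun j => ((v j : ℚ) : ℝ))‖ ^ (n - q) * (b : ℝ) ^ q))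
    (v w : Fin r → ℚ) (hvw : ∀ j, j ≠ i → v j = w j) (M D : ℝ)
    (hv : ‖(fun j => ((v j : ℚ) : ℝ))‖ ≤ M) (hw : ‖(fun j => ((w j : ℚ) : ℝ))‖ ≤ M)
    (hD : |((v i : ℝ) - (w i : ℝ))| ≤ D) :
    |f v - f w| ≤ Ci * (Finset.Icc 1 n).sum (fun q => M ^ (n - q) * D ^ q) := by
  rcases lt_trichotomy (v i) (w i) with h | h | h
  · have e : v = w - (w i - v i) • Pi.single i 1 := by
      funext j
      by_cases hj : j = i
      · subst hj
        simp
      · simp [Pi.single_apply, hj, hvw j hj]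
    have h1 := step_rat f hhom i Ci hCi w (w i - v i) (sub_pos.mpr h)
    rw [← e] at h1
    refine h1.trans (mul_le_mul_of_nonneg_left (rhs_mono n (norm_nonneg _) ?_ hw ?_) hCi0)
    · exact_mod_cast (sub_pos.mpr h).le
    · refine le_trans ?_ hD
      rw [abs_sub_comm]
      push_cast
      exact le_abs_self _
  · have e : v = w := by
      funext j
      by_cases hj : j = i
      · rw [hj, h]
      · exact hvw j hj
    rw [e, sub_self, abs_zero]
    exact mul_nonneg hCi0 (rhs_nonneg n ((norm_nonneg _).trans hv) ((abs_nonneg _).trans hD))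
  · have e : w = v - (v i - w i) • Pi.single i 1 := by
      funext j
      by_cases hj : j = i
      · subst hj
        simp
      · simp [Pi.single_apply, hj, hvw j hj]
    have h1 := step_rat f hhom i Ci hCi v (v i - w i) (sub_pos.mpr h)
    rw [← e, abs_sub_comm] at h1
    refine h1.trans (mul_le_mul_of_nonneg_left (rhs_mono n (norm_nonneg _) ?_ hv ?_) hCi0)
    · exact_mod_cast (sub_pos.mpr h).le
    · refine le_trans ?_ hD
      push_cast
      exact le_abs_self _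

/-- Changing the coordinates in a finite set `s` one at a time. -/
theorem steps {r n : ℕ} (f : (Fin r → ℚ) → ℝ) (C : Fin r → ℝ) (hC0 : ∀ i, 0 ≤ C i)
    (hstep : ∀ (i : Fin r) (v w : Fin r → ℚ), (∀ j, j ≠ i → v j = w j) → ∀ (M D : ℝ),
      ‖(fun j => ((v j : ℚ) : ℝ))‖ ≤ M → ‖(fun j => ((w j : ℚ) : ℝ))‖ ≤ M →
      |((v i : ℝ) - (w i : ℝ))| ≤ D →
      |f v - f w| ≤ C i * (Finset.Icc 1 n).sum (fun q => M ^ (n - q) * D ^ q))
    (s : Finset (Fin r)) : ∀ (v w : Fin r → ℚ), (∀ j, j ∉ s → v j = w j) → ∀ (M D : ℝ),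
      ‖(fun j => ((v j : ℚ) : ℝ))‖ ≤ M → ‖(fun j => ((w j : ℚ) : ℝ))‖ ≤ M →
      (∀ j, |((v j : ℝ) - (w j : ℝ))| ≤ D) → 0 ≤ D →
      |f v - f w| ≤ (∑ i ∈ s, C i) * (Finset.Icc 1 n).sum (fun q => M ^ (n - q) * D ^ q) := by
  classical
  induction s using Finset.induction_on with
  | empty =>
    intro v w h M D hv hw hD hD0
    have : v = w := funext fun j => h j (Finset.notMem_empty j)
    rw [this]
    simp
  | insert i s his ih =>
    intro v w h M D hv hw hD hD0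
    have hM : 0 ≤ M := (norm_nonneg _).trans hv
    let u : Fin r → ℚ := Function.update v i (w i)
    have hui : u i = w i := by simp [u]
    have huj : ∀ j, j ≠ i → u j = v j := fun j hj => by simp [u, hj]
    have hu : ‖(fun j => ((u j : ℚ) : ℝ))‖ ≤ M := by
      rw [pi_norm_le_iff_of_nonneg hM]
      intro j
      by_cases hj : j = i
      · subst hj
        rw [hui]
        exact (norm_le_pi_norm (fun j => ((w j : ℚ) : ℝ)) j).trans hw
      · rw [huj j hj]
        exact (norm_le_pi_norm (fun j => ((v j : ℚ) : ℝ)) j).trans hv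
    have h1 : |f v - f u| ≤ C i * (Finset.Icc 1 n).sum (fun q => M ^ (n - q) * D ^ q) := by
      refine hstep i v u (fun j hj => (huj j hj).symm) M D hv hu ?_
      rw [hui]
      exact hD i
    have h2 : |f u - f w| ≤ (∑ i ∈ s, C i) *
        (Finset.Icc 1 n).sum (fun q => M ^ (n - q) * D ^ q) := by
      refine ih u w ?_ M D hu hw ?_ hD0
      · intro j hj
        by_cases hji : j = i
        · subst hji
          exact hui
        · rw [huj j hji]
          exact h j (by simp [hji, hj])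
      · intro j
        by_cases hji : j = i
        · subst hji
          rw [hui, sub_self, abs_zero]
          exact hD0
        · rw [huj j hji]
          exact hD j
    rw [Finset.sum_insert his, add_mul]
    calc |f v - f w| = |(f v - f u) + (f u - f w)| := by ring_nf
      _ ≤ |f v - f u| + |f u - f w| := abs_add_le _ _
      _ ≤ _ := add_le_add h1 h2

/-- Let r and n be natural numbers and f : ℚ^r → ℝ a nonnegative function which is homogeneous of degree
n for positive rational scalars, f(q · v) = q^n · f(v) for q > 0; give ℚ^r the maximum norm ‖v‖ =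
max_j |v_j| of its standard basis. Suppose that for every standard basis vector e_i there is a
constant C_i with |f(v − b · e_i) − f(v)| ≤ C_i · Σ_{q=1}^{n} ‖v‖^{n−q} · b^q for all v ∈ ℚ^r and
all integers b ≥ 1. Then there is a constant C > 0 such that |f(v) − f(w)| ≤ C · Σ_{q=1}^{n}
max(‖v‖, ‖w‖)^{n−q} · ‖v − w‖^q for all v, w ∈ ℚ^r. (The source allows any norm on an r-dimensional
rational vector space with a chosen basis and argues with the maximum norm of that basis, which is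
the case stated here.) -/
theorem result (r n : ℕ) (f : (Fin r → ℚ) → ℝ)
    (hf0 : ∀ v, 0 ≤ f v)
    (hhom : ∀ (q : ℚ) (v : Fin r → ℚ), 0 < q → f (q • v) = (q : ℝ) ^ n * f v)
    (hdir : ∀ i : Fin r, ∃ Ci : ℝ, ∀ (v : Fin r → ℚ) (b : ℕ), 1 ≤ b →
      |f (v - (b : ℚ) • Pi.single i 1) - f v| ≤
        Ci * (Finset.Icc 1 n).sum (fun q => ‖(fun j => ((v j : ℚ) : ℝ))‖ ^ (n - q) * (b : ℝ) ^ q)) :
    ∃ C : ℝ, 0 < C ∧ ∀ v w : Fin r → ℚ,
      |f v - f w| ≤ C * (Finset.Icc 1 n).sum (fun q =>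
        (max ‖(fun j => ((v j : ℚ) : ℝ))‖ ‖(fun j => ((w j : ℚ) : ℝ))‖) ^ (n - q) *
          ‖(fun j => ((v j - w j : ℚ) : ℝ))‖ ^ q) := by
  classical
  choose C₀ hC₀ using hdir
  let C : Fin r → ℝ := fun i => max (C₀ i) 0
  have hC0 : ∀ i, 0 ≤ C i := fun i => le_max_right _ _
  have hC : ∀ (i : Fin r) (v : Fin r → ℚ) (b : ℕ), 1 ≤ b →
      |f (v - (b : ℚ) • Pi.single i 1) - f v| ≤
        C i * (Finset.Icc 1 n).sum (fun q => ‖(fun j => ((v j : ℚ) : ℝ))‖ ^ (n - q) * (b : ℝ) ^ q) :=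
    fun i v b hb => (hC₀ i v b hb).trans (mul_le_mul_of_nonneg_right (le_max_left _ _)
      (rhs_nonneg n (norm_nonneg _) (Nat.cast_nonneg b)))
  refine ⟨(∑ i, C i) + 1, add_pos_of_nonneg_of_pos (Finset.sum_nonneg fun i _ => hC0 i) one_pos, ?_⟩
  intro v w
  have h := steps (n := n) f C hC0 (fun i v w hvw M D hv hw hD =>
    step f hhom i (C i) (hC0 i) (hC i) v w hvw M D hv hw hD) Finset.univ v w
    (fun j hj => absurd (Finset.mem_univ j) hj)
    (max ‖(fun j => ((v j : ℚ) : ℝ))‖ ‖(fun j => ((w j : ℚ) : ℝ))‖)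
    ‖(fun j => ((v j - w j : ℚ) : ℝ))‖ (le_max_left _ _) (le_max_right _ _)
    (fun j => by
      have := norm_le_pi_norm (fun j => ((v j - w j : ℚ) : ℝ)) j
      simpa [Real.norm_eq_abs] using this)
    (norm_nonneg _)
  refine h.trans (mul_le_mul_of_nonneg_right (by linarith) (rhs_nonneg n ?_ (norm_nonneg _)))
  exact (norm_nonneg _).trans (le_max_left _ _)

end Groth.Agent.S17635
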