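import Groth.Statements.S17638
import Groth.Agent.Surf.K994.ZarLim

set_option autoImplicit false
universe u
open CategoryTheory CategoryTheory.Limits AlgebraicGeometry
open Surf

namespace Groth.Agent.S17638

open Groth.Agent Groth.Agent.Grpsch.PicGrp Groth.Agent.Fdesc.LocGen K464.Base K464.Curves K994.ZarCoh
  K994.ZarLim in
theorem mk_tensorList {X : Scheme.{u}} {ι : Type*} (l : List ι) (M : ι → X.Modules)
    (hM : ∀ i, PicF.IsInvertible (M i)) :
    ∃ h : PicF.IsInvertible (FGA.tensorList (l.map M)),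
      Grpsch.PicGrp.mk (FGA.tensorList (l.map M)) h = (l.map fun i => Grpsch.PicGrp.mk (M i) (hM i)).prod := by
  induction l with
  | nil => exact ⟨isInvertible_structureModule, rfl⟩
  | cons i l ih =>
    obtain ⟨h', e⟩ := ih
    refine ⟨isInvertible_tensorMod (hM i) h', ?_⟩
    refine Eq.trans ?_ (congrArg (fun c => Grpsch.PicGrp.mk (M i) (hM i) * c) e)
    rfl

open Groth.Agent Groth.Agent.Grpsch.PicGrp Groth.Agent.Fdesc.LocGen K464.Base K464.Curves K994.ZarCoh
  K994.ZarLim in
theorem mk_multiTwist {X : Scheme.{u}} {n : ℕ} {L : Fin n → X.Modules} (hL : ∀ i, PicF.IsInvertible (L i))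
    (a : Fin n → ℕ) : ∃ h : PicF.IsInvertible (FGA.multiTwist L a),
      Grpsch.PicGrp.mk (FGA.multiTwist L a) h = ∏ i, Grpsch.PicGrp.mk (L i) (hL i) ^ a i := by
  obtain ⟨h, e⟩ := mk_tensorList (List.finRange n) (fun i => CohB1.tensorPow (L i) (a i))
    (fun i => isInvertible_tensorPow (hL i) _)
  refine ⟨h, e.trans ?_⟩
  rw [← List.ofFn_eq_map, List.prod_ofFn]
  exact Finset.prod_congr rfl fun i _ => mk_tensorPow (hL i) (a i)

open Groth.Agent Groth.Agent.Grpsch.PicGrp Groth.Agent.Fdesc.LocGen K464.Base K464.Curves K994.ZarCoh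
  K994.ZarLim in
theorem mk_inverse {X : Scheme.{u}} {L M : X.Modules} (h : ClSub.IsInverseOf L M) (hL : PicF.IsInvertible L)
    (hM : PicF.IsInvertible M) : Grpsch.PicGrp.mk M hM = (Grpsch.PicGrp.mk L hL)⁻¹ := by
  rw [eq_inv_iff_mul_eq_one, mul_comm, mk_mul_mk, mk_eq_one_iff]
  exact h

open Groth.Agent Groth.Agent.Grpsch.PicGrp Groth.Agent.Fdesc.LocGen K464.Base K464.Curves K994.ZarCoh
  K994.ZarLim in
/-- The conclusion for `M = L^a`, from the data of the statement. -/
theorem main_pow (k : Type u) [Field k] [IsAlgClosed k] [CharZero k]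
    [Uncountable k] (X : Scheme.{u}) [X.Over (Spec (CommRingCat.of k))] [AlgebraicGeometry.IsIntegral X]
    [IsProper (X ↘ Spec (CommRingCat.of k))] [Smooth (X ↘ Spec (CommRingCat.of k))]
    (hproj : ∃ A : X.Modules, CohB1.IsAmple A) (hX2 : topologicalKrullDim X = 2)
    (LP LN MP MN : X.Modules) (hLP : PicF.IsInvertible LP)
    (hLN : PicF.IsInvertible LN) (hMP : ClSub.IsInverseOf LP MP) (hMN : ClSub.IsInverseOf LN MN)
    (hnef : ∀ (Y : Scheme.{u}) (i : Y ⟶ X) [IsClosedImmersion i], AlgebraicGeometry.IsIntegral Y →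
      topologicalKrullDim Y = 1 →
        0 ≤ Pic13.curveDeg k (i ≫ (X ↘ Spec (CommRingCat.of k))) ((Scheme.Modules.pullback i).obj LP))
    (s : ℕ) (N : Fin s → X.IdealSheafData)
    (hN : ∀ j, AlgebraicGeometry.IsIntegral (N j).subscheme ∧ topologicalKrullDim (N j).subscheme = 1)
    (O : Fin s → X.Modules) (hO : ∀ j, ClSub.IsInverseOf (ClSub.idealMod (N j)) (O j))
    (b : Fin s → ℕ) (hLNeq : Nonempty (LN ≅ FGA.multiTwist O b))
    (hneg : (-(Matrix.of fun j l : Fin s =>
      FGA.intNum k X 2 ![ClSub.idealMod (N j), ClSub.idealMod (N l)] (Coh.structureModule X))).PosDef)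
    (horth : ∀ j, Pic13.curveDeg k ((N j).subschemeι ≫ (X ↘ Spec (CommRingCat.of k)))
      ((Scheme.Modules.pullback (N j).subschemeι).obj LP) = 0) :
    W4c5asymptcohfn.hhat k X 2 0 (CohB1.tensorMod LP LN) =
        (FGA.intNum k X 2 ![MP, MP] (Coh.structureModule X) : ℝ) ∧
      W4c5asymptcohfn.hhat k X 2 1 (CohB1.tensorMod LP LN) =
        -(FGA.intNum k X 2 ![MN, MN] (Coh.structureModule X) : ℝ) ∧
      W4c5asymptcohfn.hhat k X 2 2 (CohB1.tensorMod LP LN) = 0 := by
  have hC : ∀ j, IsCurve (N j) := fun j =>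
    ⟨(hN j).1, (K464.Curves.dim_sub X (N j)).symm.trans (hN j).2⟩
  have hE : ∀ j, BlowUp.IsEffCartierIdeal (N j) := fun j => isEff_of_smooth k hX2 (hC j)
  have hMP' : PicF.IsInvertible MP := (K434.ZTwist.isInvertible_of_inverse hMP).2
  have hMN' : PicF.IsInvertible MN := (K434.ZTwist.isInvertible_of_inverse hMN).2
  have hO' : ∀ j, PicF.IsInvertible (O j) := fun j => (K434.ZTwist.isInvertible_of_inverse (hO j)).2
  obtain ⟨hMT, eMT⟩ := mk_multiTwist hO' b
  have eLN : Grpsch.PicGrp.mk LN hLN = (neg hE b)⁻¹ := by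
    rw [(mk_eq_iff hLN hMT).mpr hLNeq, eMT]
    unfold neg
    rw [← Finset.prod_inv_distrib]
    refine Finset.prod_congr rfl fun j _ => ?_
    rw [mk_inverse (hO j) (Dix.IdealModCartier.isInvertible_idealMod (hE j)) (hO' j), inv_pow]
    rfl
  have hL : PicF.IsInvertible (CohB1.tensorMod LP LN) := isInvertible_tensorMod hLP hLN
  have hdec : Grpsch.PicGrp.mk (CohB1.tensorMod LP LN) hL = Grpsch.PicGrp.mk LP hLP * (neg hE b)⁻¹ := by
    rw [← eLN, mk_mul_mk]
  have hneg' : (-(Matrix.of fun j l : Fin s => dot k X (ic (N j) (hE j)) (ic (N l) (hE l)))).PosDef := by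
    have e : (fun j l : Fin s => dot k X (ic (N j) (hE j)) (ic (N l) (hE l))) = fun j l : Fin s =>
        FGA.intNum k X 2 ![ClSub.idealMod (N j), ClSub.idealMod (N l)] (Coh.structureModule X) := by
      funext j l
      rw [K464.Base.intNum_eq_dot k X (by rw [hX2]; rfl) (Dix.IdealModCartier.isInvertible_idealMod (hE j))
        (Dix.IdealModCartier.isInvertible_idealMod (hE l))]
      rfl
    rw [e]
    exact hneg
  have horth' : ∀ j, degOn k X (N j) (Grpsch.PicGrp.mk LP hLP) = 0 := fun j => by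
    haveI := (hN j).1
    have h := (K465.NumTriv.curveDeg_eq (k := k) hX2 (N j).subschemeι (hN j).1 (hN j).2 hLP).2
    rw [horth j, K464.Curves.ker_subschemeι] at h
    exact h.symm
  have h := main k hproj hX2 hLP hnef hC hE b hneg' horth' hL hdec
  have e1 : FGA.intNum k X 2 ![MP, MP] (Coh.structureModule X) =
      dot k X (Grpsch.PicGrp.mk LP hLP) (Grpsch.PicGrp.mk LP hLP) := by
    rw [K464.Base.intNum_eq_dot k X (by rw [hX2]; rfl) hMP' hMP', mk_inverse hMP hLP hMP',
      dot_inv_inv k X (by rw [hX2]; rfl)]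
  have e2 : FGA.intNum k X 2 ![MN, MN] (Coh.structureModule X) = dot k X (neg hE b) (neg hE b) := by
    rw [K464.Base.intNum_eq_dot k X (by rw [hX2]; rfl) hMN' hMN', mk_inverse hMN hLN hMN', eLN, inv_inv]
  rw [e1, e2]
  exact h

/-- Let X be an integral scheme, smooth and proper over an uncountable algebraically closed field k of
characteristic zero and admitting an ample invertible module, of dimension 2 (a smooth projective
surface; stated in the source over the complex numbers), and L an invertible O_X-module. Suppose a ≥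
1 and L^{⊗a} ≅ L_P ⊗ L_N is a Zariski decomposition: L_P is invertible and nef (degree ≥ 0 on every
integral closed curve of X); L_N ≅ ⊗_j O(N_j)^{⊗ b_j} for finitely many integral closed curves N_1,
…, N_s ⊆ X and integers b_j ≥ 1, where O(N_j) is an inverse of the ideal sheaf of N_j; the
intersection matrix (N_j · N_l) is negative definite; and (L_P · N_j) = deg(L_P|_{N_j}) = 0 for
every j. Then, with M_P and M_N inverses of L_P and L_N and intersection numbers on X computed as
alternating sums of Euler characteristics, ĥ^0(X, L) = (L_P · L_P)/a², ĥ^1(X, L) = −(L_N · L_N)/a²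
and ĥ^2(X, L) = 0, where ĥ^i(X, L) = limsup_m dim_k H^i(X, L^{⊗m}) · 2!/m². (The source states this
for any pseudo-effective real divisor class D = P_D + N_D; for an integral D a positive multiple aD
has an integral decomposition as here.) -/
theorem result (k : Type u) [Field k] [IsAlgClosed k] [CharZero k]
    [Uncountable k] (X : Scheme.{u}) [X.Over (Spec (CommRingCat.of k))] [AlgebraicGeometry.IsIntegral X]
    [IsProper (X ↘ Spec (CommRingCat.of k))] [Smooth (X ↘ Spec (CommRingCat.of k))]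
    (hproj : ∃ A : X.Modules, CohB1.IsAmple A) (hX2 : topologicalKrullDim X = 2)
    (L LP LN MP MN : X.Modules) (hL : PicF.IsInvertible L) (hLP : PicF.IsInvertible LP)
    (hLN : PicF.IsInvertible LN) (hMP : ClSub.IsInverseOf LP MP) (hMN : ClSub.IsInverseOf LN MN)
    (a : ℕ) (ha : 1 ≤ a) (hdec : Nonempty (CohB1.tensorPow L a ≅ CohB1.tensorMod LP LN))
    (hnef : ∀ (Y : Scheme.{u}) (i : Y ⟶ X) [IsClosedImmersion i], AlgebraicGeometry.IsIntegral Y →
      topologicalKrullDim Y = 1 →
        0 ≤ Pic13.curveDeg k (i ≫ (X ↘ Spec (CommRingCat.of k))) ((Scheme.Modules.pullback i).obj LP))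
    (s : ℕ) (N : Fin s → X.IdealSheafData)
    (hN : ∀ j, AlgebraicGeometry.IsIntegral (N j).subscheme ∧ topologicalKrullDim (N j).subscheme = 1)
    (O : Fin s → X.Modules) (hO : ∀ j, ClSub.IsInverseOf (ClSub.idealMod (N j)) (O j))
    (b : Fin s → ℕ) (hb : ∀ j, 1 ≤ b j) (hLNeq : Nonempty (LN ≅ FGA.multiTwist O b))
    (hneg : (-(Matrix.of fun j l : Fin s =>
      FGA.intNum k X 2 ![ClSub.idealMod (N j), ClSub.idealMod (N l)] (Coh.structureModule X))).PosDef)
    (horth : ∀ j, Pic13.curveDeg k ((N j).subschemeι ≫ (X ↘ Spec (CommRingCat.of k)))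
      ((Scheme.Modules.pullback (N j).subschemeι).obj LP) = 0) :
    W4c5asymptcohfn.hhat k X 2 0 L =
        (FGA.intNum k X 2 ![MP, MP] (Coh.structureModule X) : ℝ) / (a : ℝ) ^ 2 ∧
      W4c5asymptcohfn.hhat k X 2 1 L =
        -(FGA.intNum k X 2 ![MN, MN] (Coh.structureModule X) : ℝ) / (a : ℝ) ^ 2 ∧
      W4c5asymptcohfn.hhat k X 2 2 L = 0 := by
  obtain ⟨h0, h1, h2⟩ := main_pow k X hproj hX2 LP LN MP MN hLP hLN hMP hMN hnef s N hN O hO b hLNeq hneg horth
  have hT : PicF.IsInvertible (CohB1.tensorMod LP LN) :=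
    Groth.Agent.Fdesc.LocGen.isInvertible_tensorMod hLP hLN
  have hP : PicF.IsInvertible (CohB1.tensorPow L a) := Groth.Agent.Fdesc.LocGen.isInvertible_tensorPow hL a
  have key : ∀ i : ℕ, W4c5asymptcohfn.hhat k X 2 i (CohB1.tensorMod LP LN) =
      (a : ℝ) ^ 2 * W4c5asymptcohfn.hhat k X 2 i L := fun i => by
    rw [← K994.ZarLim.hhat_congr k 2 i hP hT hdec]
    exact Groth.Agent.S17621.result k X hproj 2 hX2 L hL a ha i
  have ha0 : (a : ℝ) ^ 2 ≠ 0 := by
    have : (0 : ℝ) < a := by exact_mod_cast ha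
    positivity
  rw [key] at h0 h1 h2
  refine ⟨?_, ?_, ?_⟩
  · rw [eq_div_iff ha0, mul_comm]
    exact h0
  · rw [eq_div_iff ha0, mul_comm]
    exact h1
  · exact (mul_eq_zero.1 h2).resolve_left ha0

end Groth.Agent.S17638
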