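import Groth.Statements.S17639
import Groth.Agent.Dual3.K478.GammaZ

set_option autoImplicit false
universe u
open CategoryTheory CategoryTheory.Limits AlgebraicGeometry
attribute [local instance] HasDerivedCategory.standard
open Dual3

namespace Groth.Agent.S17639

open Pretriangulated K478.GammaZ Groth.Agent.Dcoh.DerSch Groth.Agent.LoccohB.VanOn

/-- `Hom(F, j^* RΓ_Z A) → Hom(F, j^* A)` is bijective for `F` supported on `j⁻¹ Z`. -/
lemma bijective_restrict {X Xb : Scheme.{u}} (j : X ⟶ Xb) [IsOpenImmersion j] (W : Xb.Opens)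
    [CxOX.HasRgammaZ W.ι] (A : DCoh.D Xb) (F : DCoh.D X)
    (hF : IsZero ((DCoh.restrictD (j ⁻¹ᵁ W).ι).obj F)) :
    Function.Bijective (fun φ : F ⟶ (DCoh.restrictD j).obj ((CxOX.RgammaZ W.ι).obj A) =>
      φ ≫ (DCoh.restrictD j).map ((CxOX.RgammaZToId W.ι).app A)) := by
  have := hasRpush W.ι
  have := hasRpush (j ⁻¹ᵁ W).ι
  obtain ⟨w, hT⟩ := exists_triangle W.ι A (restrictAdj W.ι)
  have hT' := (DCoh.restrictD j).map_distinguished _ hT
  obtain ⟨e⟩ := exists_rpushRestrictIso W.ι (j ⁻¹ᵁ W).ι (j ∣_ W) j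
    (isPullback_morphismRestrict j W)
  have h0 : ∀ (M : DCoh.D X) (_ : IsZero ((DCoh.restrictD (j ⁻¹ᵁ W).ι).obj M))
      (φ : M ⟶ (DCoh.restrictD j).obj ((DCoh.Rpush W.ι).obj ((DCoh.restrictD W.ι).obj A))),
      φ = 0 := by
    intro M hM φ
    rw [← cancel_mono (e.hom.app ((DCoh.restrictD W.ι).obj A))]
    exact (eq_zero_of_isZero (j ⁻¹ᵁ W).ι hM _).trans zero_comp.symm
  exact bijective_comp hT' F (h0 F hF) (h0 _ (isZero_restrictD_shift _ hF 1))

/-- Let f : X ⟶ Y be a separated morphism of finite type of Noetherian schemes, factored as f = f̄ ∘ j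
with j : X ⟶ X̄ an open immersion and f̄ : X̄ ⟶ Y proper. Let Z ⊆ Y be a closed subset with open
complement U, and Z' ⊆ X a closed subset which is proper over Y and contained in f⁻¹(Z); such a Z'
has closed image in X̄, and it is given here as Z' = j⁻¹(X̄ ∖ W) for an open W ⊆ X̄ with X̄ ∖ W ⊆
j(X) and f⁻¹(U) ⊆ j⁻¹(W). Let Rf̄_* and Rj_* exist and preserve complexes with quasi-coherent
cohomology, let a be a right adjoint of Rf̄_* on D_qc with its adjunction (whose counit is the trace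
map of f̄), let an adjunction j^* ⊣ Rj_* be given, put f^!G = (a G)|_X, and let θ : RΓ_{Z'}(j^* aG)
⟶ j^*RΓ_{j(Z')}(aG) be the comparison morphism compatible with the two maps to j^*(aG), the unit
RΓ_{j(Z')}(aG) ⟶ Rj_* j^* RΓ_{j(Z')}(aG) being an isomorphism. Then for every F in D(O_X) with
quasi-coherent cohomology sheaves, bounded above and supported on Z', and every G in D_qc(O_Y),
bounded below with cohomology supported on Z, the map sending φ : F ⟶ RΓ_{Z'}(f^!G) to the composite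
Rf̄_* Rj_* F ⟶ Rf̄_* Rj_* RΓ_{Z'}(f^!G) ⟶ Rf̄_* Rj_* j^* RΓ_{j(Z')}(aG) ⟶ Rf̄_* RΓ_{j(Z')}(aG) ⟶
Rf̄_*(aG) ⟶ G (Rf̄_*Rj_* of φ and θ, inverse of the unit, the canonical map out of RΓ, the trace) is
a bijection from Hom(F, RΓ_{Z'} f^!G) onto Hom(Rf_* F, G), with Rf_* computed as Rf̄_* ∘ Rj_*: the
functor Rf_* is left adjoint to RΓ_{Z'} f^! on these objects. (Throughout, RΓ with support is the
total right derived functor of the sheaf of sections supported in the closed subset. The published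
statement derives instead the functor of sections killed by some power of a defining ideal; on
complexes with quasi-coherent cohomology sheaves over a Noetherian scheme the two derived functors
agree.) -/
theorem result {X Y : Scheme.{u}} [IsNoetherian X] [IsNoetherian Y]
    (f : X ⟶ Y) [IsSeparated f] [LocallyOfFiniteType f] (c : DEt.Compactification f)
    (U : Y.Opens) (W : c.Xbar.Opens) (hW : (W : Set c.Xbar)ᶜ ⊆ Set.range c.j.base) (hZ : f ⁻¹ᵁ U ≤ c.j ⁻¹ᵁ W)
    [DCoh.HasRpush c.fbar] [DCoh.HasRpush c.j] (hfbar : DCoh.RpushPreservesQCoh c.fbar) (hj : DCoh.RpushPreservesQCoh c.j)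
    (a : DCoh.DQCoh Y ⥤ DCoh.DQCoh c.Xbar) (adj : DCoh.RpushQ c.fbar hfbar ⊣ a)
    (adjj : DCoh.restrictD c.j ⊣ DCoh.Rpush c.j)
    [CxOX.HasRgammaZ W.ι] [CxOX.HasRgammaZ (c.j ⁻¹ᵁ W).ι]
    (G : DCoh.DQCoh Y) (n : ℤ) (hGn : DerivedCategory.IsGE G.obj n) (hGZ : CxOX.IsSuppD U.ι G.obj)
    (θ : (CxOX.RgammaZ (c.j ⁻¹ᵁ W).ι).obj ((Dual3.shriekC c a).obj G) ⟶
      (DCoh.restrictD c.j).obj ((CxOX.RgammaZ W.ι).obj (a.obj G).obj))
    (hθ : θ ≫ (DCoh.restrictD c.j).map ((CxOX.RgammaZToId W.ι).app (a.obj G).obj) =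
      (CxOX.RgammaZToId (c.j ⁻¹ᵁ W).ι).app ((Dual3.shriekC c a).obj G))
    [IsIso (adjj.unit.app ((CxOX.RgammaZ W.ι).obj (a.obj G).obj))]
    (F : DCoh.D X) (hF : DCoh.IsQCohD F) (m : ℤ) (hFm : DerivedCategory.IsLE F m)
    (hFZ : CxOX.IsSuppD (c.j ⁻¹ᵁ W).ι F) :
    Function.Bijective (fun φ : F ⟶ (CxOX.RgammaZ (c.j ⁻¹ᵁ W).ι).obj ((Dual3.shriekC c a).obj G) =>
      (DCoh.Rpush c.fbar).map ((DCoh.Rpush c.j).map (φ ≫ θ) ≫
          inv (adjj.unit.app ((CxOX.RgammaZ W.ι).obj (a.obj G).obj)) ≫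
          (CxOX.RgammaZToId W.ι).app (a.obj G).obj) ≫
        (adj.counit.app G).hom) := by
  let A : DCoh.D c.Xbar := (a.obj G).obj
  have hF0 : IsZero ((DCoh.restrictD (c.j ⁻¹ᵁ W).ι).obj F) := (isSuppD_iff _ F).1 hFZ
  have hF1 : IsZero ((DCoh.restrictD W.ι).obj ((DCoh.Rpush c.j).obj F)) :=
    vanOn_Rpush c.j W F hF0
  -- step 1
  have b1 : Function.Bijective (fun φ : F ⟶ (CxOX.RgammaZ (c.j ⁻¹ᵁ W).ι).obj
      ((Dual3.shriekC c a).obj G) => φ ≫ θ) := by
    refine (Function.Bijective.of_comp_iff' (bijective_restrict c.j W A F hF0) _).1 ?_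
    have h := bijective_comp_RgammaZToId (c.j ⁻¹ᵁ W).ι hF0 ((Dual3.shriekC c a).obj G)
    convert h using 1
    funext φ
    rw [← hθ]
    exact Category.assoc _ _ _
  -- step 2
  have b2 : Function.Bijective (fun φ : F ⟶ (DCoh.restrictD c.j).obj ((CxOX.RgammaZ W.ι).obj A) =>
      (DCoh.Rpush c.j).map φ) :=
    (Functor.FullyFaithful.ofFullyFaithful (DCoh.Rpush c.j)).map_bijective _ _
  -- step 3
  have b3 : Function.Bijective (fun φ : (DCoh.Rpush c.j).obj F ⟶
      (DCoh.Rpush c.j).obj ((DCoh.restrictD c.j).obj ((CxOX.RgammaZ W.ι).obj A)) =>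
      φ ≫ inv (adjj.unit.app ((CxOX.RgammaZ W.ι).obj A))) :=
    ((asIso (adjj.unit.app ((CxOX.RgammaZ W.ι).obj A))).symm.homToEquiv).bijective
  -- step 4
  have b4 := bijective_comp_RgammaZToId W.ι hF1 A
  -- step 5
  have b5 : Function.Bijective (fun φ : (DCoh.Rpush c.j).obj F ⟶ A =>
      (DCoh.Rpush c.fbar).map φ ≫ (adj.counit.app G).hom) := by
    let F' : DCoh.DQCoh c.Xbar := ⟨(DCoh.Rpush c.j).obj F, hj F hF⟩
    have h := ((adj.homEquiv F' G).symm).bijective
    constructor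
    · intro φ ψ hφ
      have h1 := @h.1 (ObjectProperty.homMk φ) (ObjectProperty.homMk ψ) (by
        rw [Adjunction.homEquiv_counit, Adjunction.homEquiv_counit]
        exact InducedCategory.hom_ext hφ)
      exact congrArg (fun t => t.hom) h1
    · intro χ
      obtain ⟨φ, hφ⟩ := h.2 (ObjectProperty.homMk χ)
      refine ⟨φ.hom, ?_⟩
      rw [Adjunction.homEquiv_counit] at hφ
      exact congrArg (fun t => t.hom) hφ
  convert b5.comp (b4.comp (b3.comp (b2.comp b1))) using 1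
  funext φ
  simp [A]

end Groth.Agent.S17639
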