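import Groth.Statements.S17652
import Groth.Agent.FlatMor.K264.GeomUsc
import Groth.Agent.S0435

set_option autoImplicit false
universe u
open CategoryTheory CategoryTheory.Limits AlgebraicGeometry TopologicalSpace
open FlatMor

namespace Groth.Agent.S17652

/-- Let k be a field, X and Y schemes of finite type over k and f : X → Y a k-morphism which is flat and
proper and whose fibres over the closed points of Y are geometrically reduced. For y in Y let N(y)
be the number of irreducible components of the geometric fibre of f at y (the base change of the
fibre to an algebraic closure of the residue field κ(y)). Then N is upper semicontinuous on Y: every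
point y has a neighbourhood on which N ≤ N(y). -/
theorem result (k : Type u) [Field k]
    (X Y : Scheme.{u}) [X.Over (Spec (CommRingCat.of k))] [Y.Over (Spec (CommRingCat.of k))]
    [LocallyOfFiniteType (X ↘ Spec (CommRingCat.of k))] [CompactSpace ↥X]
    [LocallyOfFiniteType (Y ↘ Spec (CommRingCat.of k))] [CompactSpace ↥Y]
    (f : X ⟶ Y) (hf : f ≫ (Y ↘ Spec (CommRingCat.of k)) = X ↘ Spec (CommRingCat.of k))
    [Flat f] [IsProper f]
    (hred : ∀ y : ↥Y, IsClosed ({y} : Set ↥Y) → GeometricallyReduced (f.fiberToSpecResidueField y)) :
    UpperSemicontinuous (fun y : ↥Y =>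
      Nat.card ↥(irreducibleComponents (↥(pullback f
        (Spec.map (CommRingCat.ofHom (algebraMap (Y.residueField y) (AlgebraicClosure (Y.residueField y)))) ≫
          Y.fromSpecResidueField y)) : Type u))) := by
  have hNY : IsLocallyNoetherian Y := LocallyOfFiniteType.isLocallyNoetherian (Y ↘ Spec (CommRingCat.of k))
  have hNY' : IsNoetherian Y := {}
  have hft : LocallyOfFiniteType f := inferInstance
  have hfp : LocallyOfFinitePresentation f := inferInstance
  -- all fibres are geometrically reduced
  have hall : ∀ y : Y, GeometricallyReduced (f.fiberToSpecResidueField y) := by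
    have hop := Groth.Agent.S0435.result f
    by_contra hc
    push Not at hc
    obtain ⟨y, hy⟩ := hc
    obtain ⟨z, hz1, hz2⟩ := IsClosed.exists_closed_singleton hop.isClosed_compl ⟨y, hy⟩
    exact hz1 (hred z hz2)
  have hgr : GeometricallyReduced f := by
    rw [geometricallyReduced_iff, geometrically_iff_forall_fiberToSpecResidueField]
    exact fun y => (hall y).geometrically_isReduced
  have key : ∀ y : Y, ((Nat.card ↥(irreducibleComponents (↥(pullback f
        (Spec.map (CommRingCat.ofHom (algebraMap (Y.residueField y) (AlgebraicClosure (Y.residueField y)))) ≫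
          Y.fromSpecResidueField y)) : Type u)) : ℕ) : ℕ∞) = MoreMor.nGeomIrredComp f y := by
    intro y
    let z := Spec.map (CommRingCat.ofHom (algebraMap (Y.residueField y) (AlgebraicClosure (Y.residueField y)))) ≫
          Y.fromSpecResidueField y
    have h1 := Groth.Agent.Flat2D.GeomFib.nGeomIrredComp_eq f z _ _ (IsPullback.of_hasPullback f z)
    have h2 : z (IsLocalRing.closedPoint _) = y := Groth.Agent.Flat2D.GeomFib.comp_fromSpecResidueField_apply y _ _
    rw [h2] at h1
    have h3 : LocallyOfFiniteType (pullback.snd f z) := inferInstance
    let F' : Scheme.{u} := pullback f z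
    have h4 : IsLocallyNoetherian F' := LocallyOfFiniteType.isLocallyNoetherian (pullback.snd f z)
    have h5 : CompactSpace F' := QuasiCompact.compactSpace_of_compactSpace (pullback.snd f z)
    have h6 : IsNoetherian F' := {}
    have h7 : Finite (irreducibleComponents F') := TopologicalSpace.NoetherianSpace.finite_irreducibleComponents
    rw [← h1, ← ENat.card_eq_coe_natCard]
    rfl
  intro y n hn
  have h1 := K264.GeomUsc.isOpen_lt f (n : ℕ∞)
  have h2 : y ∈ {y : Y | MoreMor.nGeomIrredComp f y < (n : ℕ∞)} := by
    change MoreMor.nGeomIrredComp f y < (n : ℕ∞)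
    rw [← key y]
    exact_mod_cast hn
  filter_upwards [h1.mem_nhds h2] with y' hy'
  replace hy' : MoreMor.nGeomIrredComp f y' < (n : ℕ∞) := hy'
  rw [← key y'] at hy'
  exact_mod_cast hy'

end Groth.Agent.S17652
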