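import Groth.Statements.S17653
import Groth.Agent.Variety.K434.DimQF
import Groth.Agent.VarietyB.DimTop
import Groth.Agent.Ega1.ReducedSub

set_option autoImplicit false
universe u
open CategoryTheory CategoryTheory.Limits AlgebraicGeometry TopologicalSpace
open Variety

namespace Groth.Agent.S17653

/-- Suppose X and Y are locally Noetherian schemes of the same pure dimension d (every irreducible
component of X and every irreducible component of Y has topological Krull dimension d), and π : X →
Y is a proper morphism between them. If there is a point x of X which is isolated in its fibre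
π⁻¹(π(x)), i.e. some open neighbourhood of x meets that fibre only in x, then the image of π, with
the subspace topology, has the same dimension as Y. -/
theorem result
    (X Y : Scheme.{u}) [IsLocallyNoetherian X] [IsLocallyNoetherian Y] (π : X ⟶ Y) [IsProper π]
    (d : WithBot ℕ∞) (hX : ∀ Z ∈ irreducibleComponents ↥X, topologicalKrullDim ↥Z = d)
    (hY : ∀ Z ∈ irreducibleComponents ↥Y, topologicalKrullDim ↥Z = d)
    (x : ↥X) (hx : ∃ U : X.Opens, x ∈ U ∧ ∀ x' ∈ U, π x' = π x → x' = x) :
    topologicalKrullDim ↥(Set.range (fun z : ↥X => π z)) = topologicalKrullDim ↥Y := by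
  classical
  -- the irreducible component through `x`, with its reduced structure
  let Z : Set X := irreducibleComponent x
  have hZ : Z ∈ irreducibleComponents ↥X := irreducibleComponent_mem_irreducibleComponents x
  have hZcl : IsClosed Z := isClosed_of_mem_irreducibleComponents Z hZ
  let I : X.IdealSheafData := Scheme.IdealSheafData.vanishingIdeal ⟨Z, hZcl⟩
  have hIred : IsReduced I.subscheme := Groth.Agent.Ega1.ReducedSub.isReduced_subscheme_vanishingIdeal _
  have hrange : Set.range I.subschemeι = Z := by
    rw [Scheme.IdealSheafData.range_subschemeι]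
    simp [I]
  have hirr : IrreducibleSpace I.subscheme := by
    have h1 : IsIrreducible (Set.range I.subschemeι) := by
      rw [hrange]
      exact isIrreducible_irreducibleComponent
    have h2 : IsPreirreducible (I.subschemeι ⁻¹' (Set.range I.subschemeι)) :=
      Groth.Agent.VarietyB.DimTop.isPreirreducible_preimage I.subschemeι.isEmbedding.isInducing
        h1.isPreirreducible subset_rfl
    rw [Set.preimage_range] at h2
    have h3 : PreirreducibleSpace I.subscheme := ⟨h2⟩
    obtain ⟨_, ⟨y, rfl⟩⟩ := h1.nonempty
    exact { toNonempty := ⟨y⟩ }
  have hint : AlgebraicGeometry.IsIntegral I.subscheme :=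
    isIntegral_of_irreducibleSpace_of_isReduced _
  let g : I.subscheme ⟶ Y := I.subschemeι ≫ π
  have hP1 : IsReduced g.image := Groth.Agent.Ega1.ReducedSub.isReduced_image g
  let h : I.subscheme ⟶ g.image := g.toImage
  have hdom : IsDominant h := inferInstance
  have hft : LocallyOfFiniteType h := by
    have : LocallyOfFiniteType (h ≫ g.imageι) := by
      rw [Scheme.Hom.toImage_imageι]
      infer_instance
    exact locallyOfFiniteType_of_comp h g.imageι
  have hcl : closure (Set.range h) = Set.univ := h.denseRange.closure_eq
  have hP2 : IrreducibleSpace g.image := by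
    have h1 : IsIrreducible (Set.univ : Set g.image) := by
      rw [← hcl, ← Set.image_univ]
      exact ((IrreducibleSpace.isIrreducible_univ _).image _ h.continuous.continuousOn).closure
    have h3 : PreirreducibleSpace g.image := ⟨h1.isPreirreducible⟩
    obtain ⟨y, -⟩ := h1.nonempty
    exact { toNonempty := ⟨y⟩ }
  have hP : AlgebraicGeometry.IsIntegral g.image := isIntegral_of_irreducibleSpace_of_isReduced _
  have hPn : IsLocallyNoetherian g.image := LocallyOfFiniteType.isLocallyNoetherian g.imageι
  have hgen : h (genericPoint I.subscheme) = genericPoint g.image := by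
    have h1 : IsGenericPoint (h (genericPoint I.subscheme)) (closure (h '' Set.univ)) :=
      (genericPoint_spec I.subscheme).image h.continuous
    rw [Set.image_univ, hcl] at h1
    exact h1.eq (genericPoint_spec g.image)
  obtain ⟨x', hx'⟩ : x ∈ Set.range I.subschemeι := by
    rw [hrange]
    exact mem_irreducibleComponent
  have hgx : g x' = π x := by
    rw [← hx']
    rfl
  have hq : h.QuasiFiniteAt x' := by
    have h1 : g.QuasiFiniteAt x' := by
      rw [Scheme.Hom.quasiFiniteAt_iff_isOpen_singleton_asFiber, ← (g.fiberHomeo (g x')).isOpen_image]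
      simp only [Set.image_singleton, Scheme.Hom.asFiber, Homeomorph.apply_symm_apply]
      obtain ⟨U, hxU, hU⟩ := hx
      refine ⟨I.subschemeι ⁻¹' U, U.isOpen.preimage I.subschemeι.continuous, ?_⟩
      ext ⟨z, hz⟩
      simp only [Set.mem_preimage, Set.mem_singleton_iff]
      constructor
      · intro hzU
        apply Subtype.ext
        apply I.subschemeι.isEmbedding.injective
        change I.subschemeι z = I.subschemeι x'
        rw [hx']
        refine hU _ hzU ?_
        rw [← hgx]
        exact hz
      · intro hzx
        have hzx' : z = x' := congrArg Subtype.val hzx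
        change I.subschemeι z ∈ (U : Set X)
        rw [hzx', hx']
        exact hxU
    have h2 : (h ≫ g.imageι).QuasiFiniteAt x' := by
      rw [Scheme.Hom.toImage_imageι]
      exact h1
    exact Scheme.Hom.quasiFiniteAt_comp_iff.mp h2
  have h1 := K434.DimQF.topologicalKrullDim_le h hgen hq
  have h2 : topologicalKrullDim I.subscheme = d := by
    rw [← hX Z hZ]
    have e : I.subscheme ≃ₜ Set.range I.subschemeι := I.subschemeι.isEmbedding.toHomeomorph
    rw [IsHomeomorph.topologicalKrullDim_eq _ e.isHomeomorph, hrange]
  have h3 : topologicalKrullDim g.image ≤ topologicalKrullDim ↥(Set.range (fun z : ↥X => π z)) := by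
    have hsub : Set.range g.imageι ⊆ Set.range (fun z : ↥X => π z) := by
      rw [Scheme.IdealSheafData.range_subschemeι, Scheme.Hom.support_ker]
      refine closure_minimal ?_ π.isClosedMap.isClosed_range
      rintro _ ⟨z, rfl⟩
      exact ⟨I.subschemeι z, rfl⟩
    let φ : g.image → ↥(Set.range (fun z : ↥X => π z)) := fun p => ⟨g.imageι p, hsub ⟨p, rfl⟩⟩
    have hφ : Topology.IsInducing φ :=
      (g.imageι.isEmbedding.codRestrict _ (fun p => hsub ⟨p, rfl⟩)).isInducing
    exact hφ.topologicalKrullDim_le
  have h4 : topologicalKrullDim ↥Y ≤ d := by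
    rw [Groth.Agent.VarietyB.DimTop.topologicalKrullDim_eq_iSup_irreducibleComponents]
    exact iSup_le fun W => (hY W W.2).le
  refine le_antisymm (topologicalKrullDim_subspace_le _ _) ?_
  exact h4.trans (h2.symm.le.trans (h1.trans h3))

end Groth.Agent.S17653
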