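import Groth.Statements.S17654
import Groth.Agent.Curves.K417.VBStep
import Groth.Agent.Curves.K417.InvVan
import Groth.Agent.Curves.K326.DegPts
import Groth.Agent.CurvesC.DualNodal
import Groth.Agent.CurvesC.GenusOne512
import Groth.Agent.S1590
import Groth.Agent.Grpsch.PicGrp

set_option autoImplicit false
universe u
open CategoryTheory CategoryTheory.Limits AlgebraicGeometry TopologicalSpace
attribute [local instance] HasDerivedCategory.standard
open Curves

namespace Groth.Agent.S17654

theorem hom_eq_zero (k : Type u) [Field k] [IsAlgClosed k] (C : Scheme.{u}) [C.Over (Spec (CommRingCat.of k))]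
    [IsProper (C ↘ Spec (CommRingCat.of k))] [ConnectedSpace ↥C] [AlgebraicGeometry.IsReduced C]
    (hdim : topologicalKrullDim ↥C = 1) (hnod : Curv2.AtWorstNodal k C)
    [DCoh.HasRpush (C ↘ Spec (CommRingCat.of k))] (h : DCoh.RpushPreservesQCoh (C ↘ Spec (CommRingCat.of k)))
    [DCoh.HasShriek (C ↘ Spec (CommRingCat.of k)) h] (OY : DCoh.DQCoh (Spec (CommRingCat.of k)))
    (hOY : Nonempty (OY.obj ≅ DCoh.inD (Spec (CommRingCat.of k)) (Coh.structureModule (Spec (CommRingCat.of k)))))
    (E : C.Modules) (hE : FlatMod.IsFinLocFree E)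
    (hvan : Subsingleton (Coh.HH C (CohB1.tensorMod E
      (DCoh.dualizingMod (C ↘ Spec (CommRingCat.of k)) h OY 1)) 1)) (f : E ⟶ Coh.structureModule C) : f = 0 := by
  have hN' : IsNoetherian C := Groth.Agent.CurvesC.CurveCoh.noetherianSpace k C
  have h0' := K326.DegPts.finrank_zero k C
  obtain ⟨t', ht'⟩ := Groth.Agent.CurvesC.DualRep.exists_isDual k C h OY hdim.le hOY
  have hwq' := Groth.Agent.CurvesC.DualRep.isQCoh_dualizingMod k C h OY 1
  have hw' := Groth.Agent.CurvesC.DualNodal.isInvertible k h OY hdim h0' hnod hOY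
  obtain ⟨wi', -, hwi'⟩ := Groth.Agent.Grpsch.PicGrp.exists_inverse hw'
  set w' := DCoh.dualizingMod (C ↘ Spec (CommRingCat.of k)) h OY 1 with hwdef'
  have hq' : Coh.IsQCoh (CohB1.tensorMod E w') :=
    Groth.Agent.VarietyB.TensCoh.isQCoh_tensorMod
      (Groth.Agent.VarietyB.TensCoh.HasBases.of_isFinLocFree hE) hwq'
  have a1 : ∀ g : CohB1.tensorMod E w' ⟶ CohB1.tensorMod (Coh.structureModule C) w', g = 0 := by
    intro g
    have a0 := ht'.eq_zero hq' hvan (g ≫ (Groth.Agent.Ega2.Tens.lunit w').hom)
    rw [← cancel_mono (Groth.Agent.Ega2.Tens.lunit w').hom, a0, zero_comp]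
  exact K417.InvVan.hom_untwist_eq_zero hwi' a1 f

/-- Let k be an algebraically closed field and B a connected scheme, proper over k, of dimension one,
with at-worst-nodal singularities and H^1(B, O_B) = 0. Write ω_B for the dualizing module of B over
k, the cohomology sheaf in degree −1 of the upper-shriek pull-back of O_{Spec k} (the existence of
the upper-shriek functor is assumed), and similarly for closed subschemes of B. A locally free E on
such a curve is called deformation ample when it is generated by global sections and H^1(E ⊗ ω) = 0.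
Let E be a finite locally free O_B-module such that (1) for every irreducible component Z of B,
taken with its reduced structure, E|_Z is generated by global sections, and (2) for some connected
reduced closed subscheme B' of B whose support is a union of irreducible components of B, the
restriction E|_{B'} is deformation ample on B'. Then E is deformation ample: E is generated by
global sections and H^1(B, E ⊗ ω_B) = 0. (The source works over the complex numbers and with E of
positive rank; the proof is unchanged over any algebraically closed field, and rank zero is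
trivially allowed.) -/
theorem result (k : Type u) [Field k] [IsAlgClosed k]
    (B : Scheme.{u}) [B.Over (Spec (CommRingCat.of k))] [IsProper (B ↘ Spec (CommRingCat.of k))]
    [ConnectedSpace ↥B] (hdim : topologicalKrullDim ↥B = 1) (hnod : Curv2.AtWorstNodal k B)
    (hg : Subsingleton (Coh.HH B (Coh.structureModule B) 1))
    [DCoh.HasRpush (B ↘ Spec (CommRingCat.of k))] (h : DCoh.RpushPreservesQCoh (B ↘ Spec (CommRingCat.of k))) [DCoh.HasShriek (B ↘ Spec (CommRingCat.of k)) h]
    (OY : DCoh.DQCoh (Spec (CommRingCat.of k))) (hOY : Nonempty (OY.obj ≅ DCoh.inD (Spec (CommRingCat.of k)) (Coh.structureModule (Spec (CommRingCat.of k)))))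
    (E : B.Modules) (hE : FlatMod.IsFinLocFree E)
    (hcomp : ∀ Z : B.IdealSheafData, IsIntegral Z.subscheme → topologicalKrullDim (Z.support : Set ↥B) = 1 →
      Curv2.IsGloballyGenerated ((Scheme.Modules.pullback Z.subschemeι).obj E))
    (B' : B.IdealSheafData) [ConnectedSpace ↥B'.subscheme] [AlgebraicGeometry.IsReduced B'.subscheme]
    (hunion : ∀ x ∈ (B'.support : Set ↥B), ∃ Z : B.IdealSheafData, IsIntegral Z.subscheme ∧
      topologicalKrullDim (Z.support : Set ↥B) = 1 ∧ (Z.support : Set ↥B) ⊆ B'.support ∧ x ∈ (Z.support : Set ↥B))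
    [DCoh.HasRpush (B'.subschemeι ≫ (B ↘ Spec (CommRingCat.of k)))] (h' : DCoh.RpushPreservesQCoh (B'.subschemeι ≫ (B ↘ Spec (CommRingCat.of k))))
    [DCoh.HasShriek (B'.subschemeι ≫ (B ↘ Spec (CommRingCat.of k))) h']
    (hgg' : Curv2.IsGloballyGenerated ((Scheme.Modules.pullback B'.subschemeι).obj E))
    (hvan' : Subsingleton (Coh.HH B'.subscheme (CohB1.tensorMod ((Scheme.Modules.pullback B'.subschemeι).obj E)
      (DCoh.dualizingMod (B'.subschemeι ≫ (B ↘ Spec (CommRingCat.of k))) h' OY 1)) 1)) :
    Curv2.IsGloballyGenerated E ∧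
      Subsingleton (Coh.HH B (CohB1.tensorMod E (DCoh.dualizingMod (B ↘ Spec (CommRingCat.of k)) h OY 1)) 1) := by
  have hred : AlgebraicGeometry.IsReduced B := Groth.Agent.CurvesC.GenusOne512.isReduced_of_atWorstNodal k B hnod
  have hN : IsNoetherian B := Groth.Agent.CurvesC.CurveCoh.noetherianSpace k B
  have h0 := K326.DegPts.finrank_zero k B
  have hEc : Coh.IsCoh E := Groth.Agent.PerfA.CohSerre.isCoh_of_isFinLocFree hE
  have hsupp : ∀ Z : B.IdealSheafData,
      topologicalKrullDim (Z.support : Set B) = topologicalKrullDim Z.subscheme := by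
    intro Z
    rw [← Groth.Agent.VarietyB.DegComp.topologicalKrullDim_range_eq Z.subschemeι,
      Scheme.IdealSheafData.range_subschemeι]
  have hgg : Curv2.IsGloballyGenerated E :=
    K417.VBStep.main (k := k) hdim.le hg hE fun J hJ hJd => hcomp J hJ ((hsupp J).trans hJd)
  refine ⟨hgg, ?_⟩
  obtain ⟨t, ht⟩ := Groth.Agent.CurvesC.DualRep.exists_isDual k B h OY hdim.le hOY
  have hwq := Groth.Agent.CurvesC.DualRep.isQCoh_dualizingMod k B h OY 1
  have hw := Groth.Agent.CurvesC.DualNodal.isInvertible k h OY hdim h0 hnod hOY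
  obtain ⟨wi, -, hwi⟩ := Groth.Agent.Grpsch.PicGrp.exists_inverse hw
  -- the subcurve
  let iB' : B'.subscheme.Over (Spec (CommRingCat.of k)) := ⟨B'.subschemeι ≫ (B ↘ Spec (CommRingCat.of k))⟩
  have hP' : IsProper (B'.subscheme ↘ Spec (CommRingCat.of k)) :=
    inferInstanceAs (IsProper (B'.subschemeι ≫ (B ↘ Spec (CommRingCat.of k))))
  have hN' : IsNoetherian B'.subscheme := Groth.Agent.CurvesC.CurveCoh.noetherianSpace k B'.subscheme
  have hdim' : topologicalKrullDim B'.subscheme = 1 := by
    refine le_antisymm ((B'.subschemeι.isClosedEmbedding.isInducing.topologicalKrullDim_le).trans hdim.le) ?_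
    obtain ⟨Z, -, hZd, hZB, -⟩ := hunion (B'.subschemeι (Classical.arbitrary _)) (by
      rw [← Scheme.IdealSheafData.range_subschemeι]; exact ⟨_, rfl⟩)
    rw [← hsupp B', ← hZd]
    exact (Topology.IsInducing.topologicalKrullDim_le (f := Set.inclusion hZB)
      (Topology.IsEmbedding.inclusion hZB).isInducing)
  have hnod' : Curv2.AtWorstNodal k B'.subscheme :=
    Groth.Agent.S1590.result k B (Groth.Agent.CurvesC.TailMain.pure_of_connected B hdim) hnod B'
      (Groth.Agent.CurvesC.TailMain.pure_of_connected B'.subscheme hdim')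
  set w := DCoh.dualizingMod (B ↘ Spec (CommRingCat.of k)) h OY 1 with hwdef
  have hE' : FlatMod.IsFinLocFree ((Scheme.Modules.pullback B'.subschemeι).obj E) :=
    Groth.Agent.PerfB.FlatPull.isFinLocFree_pullback B'.subschemeι hE
  have hq : Coh.IsQCoh (CohB1.tensorMod E w) :=
    Groth.Agent.VarietyB.TensCoh.isQCoh_tensorMod
      (Groth.Agent.VarietyB.TensCoh.HasBases.of_isFinLocFree hE) hwq
  -- maps on the subcurve vanish
  have a2 : ∀ f : (Scheme.Modules.pullback B'.subschemeι).obj E ⟶ Coh.structureModule B'.subscheme, f = 0 :=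
    @hom_eq_zero k _ _ B'.subscheme ⟨B'.subschemeι ≫ (B ↘ Spec (CommRingCat.of k))⟩ hP' _ _ hdim' hnod'
      (inferInstanceAs (DCoh.HasRpush (B'.subschemeι ≫ (B ↘ Spec (CommRingCat.of k))))) h'
      (inferInstanceAs (DCoh.HasShriek (B'.subschemeι ≫ (B ↘ Spec (CommRingCat.of k))) h')) OY hOY _ hE' hvan'
  -- maps `E → O` vanish
  have a3 : ∀ f : E ⟶ Coh.structureModule B, f = 0 := by
    intro f
    obtain ⟨n, p, hp⟩ := Groth.Agent.Sga67.SerreVB.exists_epi_freeMod hEc hgg
    refine K417.InvVan.eq_zero_of_pullback k h0 p hp f B'.subschemeι ?_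
    let e : (Scheme.Modules.pullback B'.subschemeι).obj (Coh.structureModule B) ≅
      Coh.structureModule B'.subscheme := Groth.Agent.CurvesA.HHMap.pullbackUnit B'.subschemeι
    have a0 := a2 ((Scheme.Modules.pullback B'.subschemeι).map f ≫ e.hom)
    rw [← cancel_mono e.hom, a0, zero_comp]
  have a4 : ∀ g : CohB1.tensorMod E w ⟶ CohB1.tensorMod (Coh.structureModule B) w, g = 0 :=
    K417.InvVan.hom_twist_eq_zero hwi a3
  have a5 : ∀ g : CohB1.tensorMod E w ⟶ w, g = 0 := by
    intro g
    have a0 := a4 (g ≫ (Groth.Agent.Ega2.Tens.lunit w).inv)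
    rw [← cancel_mono (Groth.Agent.Ega2.Tens.lunit w).inv, a0, zero_comp]
  have a6 : ∀ ψ : Groth.Agent.CurvesC.HV B (CohB1.tensorMod E w) 1 →ₗ[k] k, ψ = 0 := by
    intro ψ
    obtain ⟨φ, hφ⟩ := (ht.bijective hq).2 ψ
    obtain ⟨φ', hφ'⟩ := (ht.bijective hq).2 (ψ + ψ)
    have b1 : φ = φ' := (a5 φ).trans (a5 φ').symm
    rw [← b1, hφ] at hφ'
    exact left_eq_add.mp hφ'
  have a7 : Subsingleton (Groth.Agent.CurvesC.HV B (CohB1.tensorMod E w) 1) := by
    refine ⟨fun a b => ?_⟩
    rw [← sub_eq_zero]
    refine (Module.forall_dual_apply_eq_zero_iff k (a - b)).mp fun ψ => ?_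
    rw [a6 ψ]
    rfl
  exact a7

end Groth.Agent.S17654
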