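import Groth.Statements.S17658

set_option autoImplicit false
universe u
open Surf

namespace Groth.Agent.S17658

open MvPolynomial in
/-- membership in the span of the monomials with exponent in `M`. -/
theorem mem_span_iff {k : Type u} [Field k] (M : (Fin 4 →₀ ℕ) → Prop)
    (f : MvPolynomial (Fin 4) k) :
    f ∈ Submodule.span k {f : MvPolynomial (Fin 4) k | ∃ e : Fin 4 →₀ ℕ, M e ∧ f = monomial e 1} ↔
      ∀ e ∈ f.support, M e := by
  classical
  constructor
  · intro hf
    induction hf using Submodule.span_induction with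
    | mem x hx =>
      obtain ⟨e, he, rfl⟩ := hx
      intro e' he'
      rw [mem_support_iff, coeff_monomial] at he'
      split_ifs at he' with h
      · exact h ▸ he
      · exact absurd rfl he'
    | zero => simp
    | add x y _ _ hx hy =>
      intro e he
      rcases Finset.mem_union.mp (support_add he) with h | h
      · exact hx e h
      · exact hy e h
    | smul a x _ hx =>
      intro e he
      exact hx e (support_smul he)
  · intro h
    rw [f.as_sum]
    refine Submodule.sum_mem _ fun e he => ?_
    have : monomial e (coeff e f) = coeff e f • (monomial e (1 : k)) := by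
      rw [smul_monomial, smul_eq_mul, mul_one]
    rw [this]
    exact Submodule.smul_mem _ _ (Submodule.subset_span ⟨e, h e he, rfl⟩)

open MvPolynomial in
/-- A subspace of the span of the monomials in `M` in which every monomial in `M` is a leading monomial
is everything. -/
theorem le_of_leading {k : Type u} [Field k] (mo : MonomialOrder (Fin 4)) (M : (Fin 4 →₀ ℕ) → Prop)
    (W : Submodule k (MvPolynomial (Fin 4) k))
    (hW : ∀ w ∈ W, ∀ e ∈ w.support, M e)
    (h : ∀ e, M e → ∃ w ∈ W, w ≠ 0 ∧ mo.degree w = e) (f : MvPolynomial (Fin 4) k)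
    (hf : ∀ e ∈ f.support, M e) : f ∈ W := by
  classical
  have key : ∀ (s : mo.syn) (f : MvPolynomial (Fin 4) k), (∀ e ∈ f.support, M e) →
      mo.toSyn (mo.degree f) = s → f ∈ W := by
    intro s
    induction s using WellFoundedLT.induction with
    | ind s ih =>
      intro f hf hs
      by_cases hf0 : f = 0
      · rw [hf0]; exact W.zero_mem
      obtain ⟨w, hw, hw0, hwd⟩ := h (mo.degree f) (hf _ (mo.degree_mem_support hf0))
      have hlc : mo.leadingCoeff w ≠ 0 := mo.leadingCoeff_ne_zero_iff.mpr hw0
      set c := mo.leadingCoeff f / mo.leadingCoeff w with hc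
      set g := f - c • w with hg
      have hgw : f = g + c • w := by rw [hg]; ring
      have hgM : ∀ e ∈ g.support, M e := by
        intro e he
        rcases Finset.mem_union.mp (support_sub _ f (c • w) he) with h | h
        · exact hf e h
        · exact hW _ hw e (support_smul h)
      have hcoef : coeff (mo.degree f) g = 0 := by
        rw [hg, coeff_sub, coeff_smul, smul_eq_mul]
        have h1 : coeff (mo.degree f) w = mo.leadingCoeff w := by
          rw [MonomialOrder.leadingCoeff, hwd]
        rw [h1, hc, div_mul_cancel₀ _ hlc]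
        exact sub_self _
      rw [hgw]
      refine W.add_mem ?_ (W.smul_mem _ hw)
      by_cases hg0 : g = 0
      · rw [hg0]; exact W.zero_mem
      refine ih (mo.toSyn (mo.degree g)) ?_ g hgM rfl
      rw [← hs]
      have hle : mo.toSyn (mo.degree g) ≤ mo.toSyn (mo.degree f) := by
        refine le_trans mo.degree_sub_le ?_
        refine sup_le le_rfl ?_
        refine le_trans mo.degree_smul_le ?_
        rw [hwd]
      refine lt_of_le_of_ne hle ?_
      intro heq
      have : mo.degree g = mo.degree f := mo.toSyn.injective heq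
      rw [← this] at hcoef
      exact (mo.leadingCoeff_ne_zero_iff.mpr hg0) hcoef
  exact key _ f hf rfl

/-- In the polynomial ring k[T₀,T₁,U,V] over a field k, bigraded by deg T₀ = deg T₁ = (0,1), deg U =
(1,−1), deg V = (1,0) (the Cox ring of the Hirzebruch surface F₁; its piece of bidegree (a,b) is the
space of sections of O(a(E+F)+bF)), let S_(a,b) denote the k-span of the monomials of bidegree
(a,b), so that S_(0,c) is the space of forms of degree c in T₀, T₁. A subspace W ⊆ S_(a,b) is called
c-generating when W·S_(0,c) = S_(a,b+c). Fix a monomial order and natural numbers a, b, c, and let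
W₀(a,b,c) be the set of monomials U^i V^(a−i) T₀^(b+i−j(c+1)) T₁^(j(c+1)) with 0 ≤ i ≤ a, j ≥ 0 and
j(c+1) < b+i, together with the monomials U^i V^(a−i) T₁^(b+i) with 0 ≤ i ≤ a. If every monomial of
W₀(a,b,c) is the leading monomial of some nonzero element of W, then W is c-generating. (The source
fixes the graded lexicographic order with U > V > T₀ > T₁ and works over the complex numbers; its
argument uses only that leading monomials are multiplicative and that W₀(a,b,c)·S_(0,c) contains
every monomial of S_(a,b+c), so any monomial order and any field are allowed here. The printed index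
j runs from 1; with that range the statement fails already for a = 0, b = c = 1 and W spanned by T₁,
and the range from 0 used here is the one matching the accompanying dimension count.) Variables are
indexed T₀ = 0, T₁ = 1, U = 2, V = 3. -/
theorem result (k : Type u) [Field k]
    (mo : MonomialOrder (Fin 4)) (a b c : ℕ) (W : Submodule k (MvPolynomial (Fin 4) k))
    (hW : W ≤ Submodule.span k {f : MvPolynomial (Fin 4) k | ∃ e : Fin 4 →₀ ℕ, e 2 + e 3 = a ∧ e 0 + e 1 = b + e 2 ∧ f = MvPolynomial.monomial e 1})
    (h₁ : ∀ i j : ℕ, i ≤ a → j * (c + 1) < b + i → ∃ w ∈ W, w ≠ 0 ∧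
      mo.degree w = Finsupp.single 0 (b + i - j * (c + 1)) + Finsupp.single 1 (j * (c + 1)) +
        Finsupp.single 2 i + Finsupp.single 3 (a - i))
    (h₂ : ∀ i : ℕ, i ≤ a → ∃ w ∈ W, w ≠ 0 ∧
      mo.degree w = Finsupp.single 1 (b + i) + Finsupp.single 2 i + Finsupp.single 3 (a - i)) :
    W * Submodule.span k {f : MvPolynomial (Fin 4) k | ∃ e : Fin 4 →₀ ℕ, e 2 + e 3 = 0 ∧ e 0 + e 1 = c + e 2 ∧ f = MvPolynomial.monomial e 1} =
      Submodule.span k {f : MvPolynomial (Fin 4) k | ∃ e : Fin 4 →₀ ℕ, e 2 + e 3 = a ∧ e 0 + e 1 = (b + c) + e 2 ∧ f = MvPolynomial.monomial e 1} := by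
  classical
  simp only [← and_assoc] at hW ⊢
  have hW' : ∀ w ∈ W, ∀ e ∈ w.support, e 2 + e 3 = a ∧ e 0 + e 1 = b + e 2 := fun w hw =>
    (mem_span_iff (fun e => e 2 + e 3 = a ∧ e 0 + e 1 = b + e 2) w).mp (hW hw)
  have hle : W * Submodule.span k {f : MvPolynomial (Fin 4) k | ∃ e : Fin 4 →₀ ℕ,
      (e 2 + e 3 = 0 ∧ e 0 + e 1 = c + e 2) ∧ f = MvPolynomial.monomial e 1} ≤
      Submodule.span k {f : MvPolynomial (Fin 4) k | ∃ e : Fin 4 →₀ ℕ,
        (e 2 + e 3 = a ∧ e 0 + e 1 = (b + c) + e 2) ∧ f = MvPolynomial.monomial e 1} := by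
    refine Submodule.mul_le.mpr fun f hf g hg => ?_
    have hg' := (mem_span_iff (fun e => e 2 + e 3 = 0 ∧ e 0 + e 1 = c + e 2) g).mp hg
    refine (mem_span_iff (fun e => e 2 + e 3 = a ∧ e 0 + e 1 = (b + c) + e 2) _).mpr ?_
    intro e he
    obtain ⟨d, hd, d', hd', rfl⟩ := Finset.mem_add.mp (MvPolynomial.support_mul f g he)
    have h1 := hW' f hf d hd
    have h2 := hg' d' hd'
    simp only [Finsupp.add_apply]
    omega
  refine le_antisymm hle fun f hf => ?_
  refine le_of_leading mo (fun e => e 2 + e 3 = a ∧ e 0 + e 1 = (b + c) + e 2) _ ?_ ?_ f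
    ((mem_span_iff _ f).mp hf)
  · intro w hw
    exact (mem_span_iff (fun e => e 2 + e 3 = a ∧ e 0 + e 1 = (b + c) + e 2) w).mp (hle hw)
  · rintro e ⟨he1, he2⟩
    -- the multiplier `T₀^(c-t) T₁^t`
    have mult : ∀ (w : MvPolynomial (Fin 4) k) (d : Fin 4 →₀ ℕ) (t : ℕ), t ≤ c → w ∈ W → w ≠ 0 →
        mo.degree w = d → e = d + (Finsupp.single 0 (c - t) + Finsupp.single 1 t) →
        ∃ w ∈ W * Submodule.span k {f : MvPolynomial (Fin 4) k | ∃ e : Fin 4 →₀ ℕ,
          (e 2 + e 3 = 0 ∧ e 0 + e 1 = c + e 2) ∧ f = MvPolynomial.monomial e 1}, w ≠ 0 ∧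
          mo.degree w = e := by
      intro w d t ht hw hw0 hwd hed
      have hm0 : (MvPolynomial.monomial (Finsupp.single 0 (c - t) + Finsupp.single 1 t) (1 : k) :
          MvPolynomial (Fin 4) k) ≠ 0 := by
        rw [Ne, MvPolynomial.monomial_eq_zero]; exact one_ne_zero
      refine ⟨w * MvPolynomial.monomial (Finsupp.single 0 (c - t) + Finsupp.single 1 t) 1,
        Submodule.mul_mem_mul hw (Submodule.subset_span ⟨_, ⟨?_, ?_⟩, rfl⟩),
        mul_ne_zero hw0 hm0, ?_⟩
      · simp
      · simp; omega
      · rw [mo.degree_mul hw0 hm0, hwd, mo.degree_monomial, if_neg one_ne_zero, hed]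
    by_cases hj : e 1 / (c + 1) * (c + 1) < b + e 2
    · obtain ⟨w, hw, hw0, hwd⟩ := h₁ (e 2) (e 1 / (c + 1)) (by omega) hj
      have hmod := Nat.div_add_mod (e 1) (c + 1)
      have hlt : e 1 % (c + 1) < c + 1 := Nat.mod_lt (e 1) (Nat.succ_pos c)
      rw [mul_comm] at hmod
      refine mult w _ (e 1 % (c + 1)) (by omega) hw hw0 hwd ?_
      ext i
      fin_cases i <;> simp <;> omega
    · obtain ⟨w, hw, hw0, hwd⟩ := h₂ (e 2) (by omega)
      have hmod := Nat.div_mul_le_self (e 1) (c + 1)
      refine mult w _ (e 1 - (b + e 2)) (by omega) hw hw0 hwd ?_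
      ext i
      fin_cases i <;> simp <;> omega

end Groth.Agent.S17658
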