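import Groth.Statements.S17659
import Groth.Agent.S1641
import Groth.Agent.CurvesC.EulerHV

set_option autoImplicit false
universe u
open CategoryTheory CategoryTheory.Limits AlgebraicGeometry
open CIDisc

namespace Groth.Agent.S17659

/-- Let X be a proper scheme over a field k all of whose irreducible components have dimension one, E a
finite locally free O_X-module of constant rank n and F a coherent O_X-module. Then χ(X, E ⊗ F) =
Σ_Z r_Z(F) · deg(E|_{Z_red}) + n · χ(X, F), the sum running over the irreducible components Z of X,
where r_Z(F) is the length of the stalk of F at the generic point ξ_Z of Z as a module over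
O_{X,ξ_Z}, and Z_red is Z with its reduced induced structure (the closed subscheme cut out by the
radical of the ideal of the component). The Noetherian hypothesis on X is a consequence of
properness over k and is stated for convenience. -/
theorem result (k : Type u) [Field k] (X : Scheme.{u}) [X.Over (Spec (CommRingCat.of k))]
    [IsProper (X ↘ (Spec (CommRingCat.of k)))] [IsNoetherian X]
    (hdim : ∀ Z ∈ irreducibleComponents (X : Type u), topologicalKrullDim Z = 1)
    (n : ℕ) (E : X.Modules) (hE : FlatMod.IsFinLocFreeOfRank n E) (F : X.Modules) (hF : Coh.IsCoh F) :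
    Curv2.euler k X (CohB1.tensorMod E F) =
      (∑ᶠ Z : irreducibleComponents (X : Type u),
        ((Module.length (X.presheaf.stalk Z.2.1.genericPoint) (F.presheaf.stalk Z.2.1.genericPoint)).toNat : ℤ) *
          @Curv2.deg k _ (X.irreducibleComponentIdeal Z.1 Z.2).radical.subscheme
            ⟨(X.irreducibleComponentIdeal Z.1 Z.2).radical.subschemeι ≫ (X ↘ (Spec (CommRingCat.of k)))⟩
            ((Scheme.Modules.pullback (X.irreducibleComponentIdeal Z.1 Z.2).radical.subschemeι).obj E) n) +
        (n : ℤ) * Curv2.euler k X F := by
  have h := Groth.Agent.S1641.phi_eq_mult k X (Groth.Agent.CurvesC.EulerHV.dim_le X hdim) n E hE F hF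
  have h1 : Curv2.euler k X (CohB1.tensorMod E F) - (n : ℤ) * Curv2.euler k X F =
      ∑ᶠ Z : irreducibleComponents (X : Type u),
        Groth.Agent.VarietyB.DegMult.len F Z * Groth.Agent.S1641.degC k X n E Z := by
    refine h.trans (finsum_congr fun Z => ?_)
    exact if_pos (hdim Z.1 Z.2)
  have h2 : Curv2.euler k X (CohB1.tensorMod E F) =
      (∑ᶠ Z : irreducibleComponents (X : Type u),
        Groth.Agent.VarietyB.DegMult.len F Z * Groth.Agent.S1641.degC k X n E Z) +
        (n : ℤ) * Curv2.euler k X F := by
    rw [← h1]; ring
  exact h2

end Groth.Agent.S17659
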