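import Groth.Statements.S17661
import Groth.Agent.S0440
import Groth.Agent.Ribbon.K932.SqZero

set_option autoImplicit false
universe u
open CategoryTheory CategoryTheory.Limits AlgebraicGeometry
open Ribbon

namespace Groth.Agent.S17661

/-- The affine case: a surjection of rings with square-zero kernel onto a smooth algebra splits. -/
theorem exists_section {K A B : Type u} [CommRing K] [CommRing A] [CommRing B]
    (a : K →+* A) (φ : A →+* B) (hφ : Function.Surjective φ) (hk : RingHom.ker φ ^ 2 = ⊥)
    (hs : (φ.comp a).Smooth) : ∃ σ : B →+* A, φ.comp σ = RingHom.id B ∧ σ.comp (φ.comp a) = a := by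
  let _ := a.toAlgebra
  let _ := (φ.comp a).toAlgebra
  have : Algebra.Smooth K B := hs
  let g : A →ₐ[K] B := ⟨φ, fun r => rfl⟩
  have hn : IsNilpotent (RingHom.ker (g : A →+* B)) := ⟨2, hk⟩
  let σ := Algebra.FormallySmooth.liftOfSurjective (AlgHom.id K B) g hφ hn
  refine ⟨σ.toRingHom, ?_, ?_⟩
  · ext b
    exact Algebra.FormallySmooth.liftOfSurjective_apply (AlgHom.id K B) g hφ hn b
  · ext c
    exact σ.commutes c

/-- Let k be a field, C a scheme locally of finite type over k and I ⊂ O_C a quasi-coherent ideal with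
I² = 0, with closed subscheme D ⊂ C; suppose D is affine, connected and smooth over k and that I,
regarded as an O_D-module, is invertible (so C is a ribbon on the smooth affine scheme D, and D is
the reduced scheme underlying C). Then the ribbon is split: the inclusion D → C admits a retraction
C → D over k. -/
theorem result (k : Type u) [Field k] (C : Scheme.{u}) [C.Over (Spec (CommRingCat.of k))]
    [LocallyOfFiniteType (C ↘ (Spec (CommRingCat.of k)))]
    (I : C.IdealSheafData) (hI : I ^ 2 = ⊥) [IsAffine I.subscheme] [ConnectedSpace I.subscheme]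
    [Smooth (I.subschemeι ≫ (C ↘ (Spec (CommRingCat.of k))))]
    (hconormal : PicF.IsInvertible ((Scheme.Modules.pullback I.subschemeι).obj (ClSub.idealMod I))) :
    ∃ r : C ⟶ I.subscheme, I.subschemeι ≫ r = 𝟙 I.subscheme ∧
      r ≫ I.subschemeι ≫ (C ↘ (Spec (CommRingCat.of k))) = C ↘ (Spec (CommRingCat.of k)) := by
  have : IsAffine C := S0440.result I.subschemeι (K932.SqZero.surjective_subschemeι I hI)
  have hs : ((I.subschemeι ≫ (C ↘ (Spec (CommRingCat.of k)))).appTop.hom).Smooth :=
    (HasRingHomProperty.iff_of_isAffine (P := @Smooth)).mp inferInstance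
  rw [Scheme.Hom.comp_appTop] at hs
  let U : C.affineOpens := ⟨⊤, isAffineOpen_top C⟩
  obtain ⟨σ, hσ₁, hσ₂⟩ := exists_section ((C ↘ (Spec (CommRingCat.of k))).appTop.hom)
    (I.subschemeι.appTop.hom) (I.subschemeι_app_surjective U)
    (by rw [show RingHom.ker I.subschemeι.appTop.hom = I.ideal U from I.ker_subschemeι_app U]
        exact K932.SqZero.ideal_sq I hI U) hs
  let r : C ⟶ I.subscheme := C.toSpecΓ ≫ Spec.map (CommRingCat.ofHom σ) ≫ I.subscheme.isoSpec.inv
  have hr : r.appTop = CommRingCat.ofHom σ := by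
    apply Spec.map_injective
    rw [← cancel_epi C.toSpecΓ, ← Scheme.toSpecΓ_naturality]
    simp only [r, Category.assoc, Scheme.isoSpec_inv_toSpecΓ]
    erw [Category.comp_id]
  refine ⟨r, ?_, ?_⟩
  · apply ext_of_isAffine
    rw [Scheme.Hom.comp_appTop, hr, Scheme.Hom.id_appTop]
    ext x
    exact congr($hσ₁ x)
  · apply ext_of_isAffine
    rw [Scheme.Hom.comp_appTop, hr, Scheme.Hom.comp_appTop]
    ext x
    exact congr($hσ₂ x)

end Groth.Agent.S17661
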