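import Groth.Statements.S17662
import Mathlib.LinearAlgebra.ExteriorPower.Basis
import Mathlib.LinearAlgebra.Matrix.NonsingularInverse

set_option autoImplicit false
universe u
open CIDisc

namespace Groth.Agent.S17662

/-- Expansion of the determinant of a product of rectangular matrices (Cauchy-Binet). -/
theorem cauchyBinet {R : Type u} [CommRing R] {e r : ℕ}
    (A : Matrix (Fin e) (Fin r) R) (N : Matrix (Fin r) (Fin e) R) :
    (A * N).det = ∑ j : {s : Finset (Fin r) // s.card = e},
      (A.submatrix id (j.1.orderEmbOfFin j.2)).det * (N.submatrix (j.1.orderEmbOfFin j.2) id).det := by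
  let z : (Fin r → R) [⋀^Fin e]→ₗ[R] R :=
    (Matrix.detRowAlternating (R := R) (n := Fin e)).compLinearMap N.transpose.mulVecLin
  have hz : ∀ v : Fin e → Fin r → R, z v = (Matrix.of v * N).det := by
    intro v
    change (Matrix.of fun i => N.transpose.mulVecLin (v i)).det = _
    congr 1
    ext i j
    rw [Matrix.mul_apply]
    change ∑ l, N l j * v i l = ∑ l, v i l * N l j
    exact Finset.sum_congr rfl fun l _ => mul_comm _ _
  have h1 : (A * N).det = exteriorPower.alternatingMapLinearEquiv z (exteriorPower.ιMulti R e (fun i => A i)) := by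
    rw [exteriorPower.alternatingMapLinearEquiv_apply_ιMulti, hz]
    rfl
  rw [h1]
  conv_lhs => rw [← ((Pi.basisFun R (Fin r)).exteriorPower e).sum_repr (exteriorPower.ιMulti R e (fun i => A i))]
  rw [map_sum]
  have key : ∀ J : Set.powersetCard (Fin r) e,
      exteriorPower.alternatingMapLinearEquiv z
        (((Pi.basisFun R (Fin r)).exteriorPower e).repr (exteriorPower.ιMulti R e (fun i => A i)) J •
          (Pi.basisFun R (Fin r)).exteriorPower e J) =
      (A.submatrix id (J.1.orderEmbOfFin J.2)).det * (N.submatrix (J.1.orderEmbOfFin J.2) id).det := by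
    intro J
    rw [map_smul, exteriorPower.basis_repr_apply, exteriorPower.ιMultiDual_apply_ιMulti, smul_eq_mul]
    congr 1
    rw [exteriorPower.basis_apply]
    change exteriorPower.alternatingMapLinearEquiv z (exteriorPower.ιMulti R e
      (fun q => Pi.basisFun R (Fin r) (Set.powersetCard.ofFinEmbEquiv.symm J q))) = _
    rw [exteriorPower.alternatingMapLinearEquiv_apply_ιMulti, hz]
    congr 1
    ext i j
    simp [Matrix.mul_apply, Pi.single_apply]
    rfl
  refine (Finset.sum_congr rfl fun J _ => key J).trans ?_
  let φ : Set.powersetCard (Fin r) e ≃ {s : Finset (Fin r) // s.card = e} :=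
    ⟨fun J => ⟨J.1, J.2⟩, fun J => ⟨J.1, J.2⟩, fun _ => rfl, fun _ => rfl⟩
  exact Fintype.sum_equiv φ _ _ fun J => rfl

/-- Let R be a commutative ring, M an r × n matrix over R and e ≥ 0; for each e-element set L of row
indices let A_L be an e × r matrix over R, and form the square matrix, indexed by the e-element sets
of row indices, whose (L, L') entry is the e × e minor of A_L on the columns L'. If the determinant
of that square matrix is a unit, then the sum over L of the ideals generated by the e × e minors of
the products A_L · M is the ideal generated by all e × e minors of M. (In the source R is the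
coordinate ring of an affine scheme X of codimension e cut out by f_1, …, f_r in affine n-space, M
is the image of the Jacobian matrix of the f_j, the A_L have entries in the ground field and cut out
complete intersections Z_L = V(A_L · f), so that the two sides are Σ_L Jac(Z_L) and Jac(X); the
source states the equality for general A_L and establishes it under the present invertibility
condition, which it shows to be generic.) -/
theorem result {R : Type u} [CommRing R] (e r n : ℕ)
    (M : Matrix (Fin r) (Fin n) R)
    (A : {s : Finset (Fin r) // s.card = e} → Matrix (Fin e) (Fin r) R)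
    (hA : IsUnit (Matrix.det (Matrix.of fun i j : {s : Finset (Fin r) // s.card = e} =>
      ((A i).submatrix id (j.1.orderEmbOfFin j.2)).det))) :
    (⨆ i, Ideal.span (Set.range fun t : {s : Finset (Fin n) // s.card = e} =>
        ((A i * M).submatrix id (t.1.orderEmbOfFin t.2)).det)) =
      Ideal.span (Set.range fun p : {s : Finset (Fin r) // s.card = e} × {s : Finset (Fin n) // s.card = e} =>
        (M.submatrix (p.1.1.orderEmbOfFin p.1.2) (p.2.1.orderEmbOfFin p.2.2)).det) := by
  classical
  set B : Matrix {s : Finset (Fin r) // s.card = e} {s : Finset (Fin r) // s.card = e} R :=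
    Matrix.of fun i j => ((A i).submatrix id (j.1.orderEmbOfFin j.2)).det with hB
  have key : ∀ (i : {s : Finset (Fin r) // s.card = e}) (t : {s : Finset (Fin n) // s.card = e}),
      ((A i * M).submatrix id (t.1.orderEmbOfFin t.2)).det =
        ∑ j, B i j * (M.submatrix (j.1.orderEmbOfFin j.2) (t.1.orderEmbOfFin t.2)).det := by
    intro i t
    have : (A i * M).submatrix id (t.1.orderEmbOfFin t.2) = A i * M.submatrix id (t.1.orderEmbOfFin t.2) := by
      ext a b
      simp [Matrix.mul_apply]
    rw [this, cauchyBinet]
    rfl
  apply le_antisymm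
  · refine iSup_le fun i => ?_
    rw [Ideal.span_le]
    rintro _ ⟨t, rfl⟩
    simp only [key]
    exact sum_mem fun j _ => Ideal.mul_mem_left _ _ (Ideal.subset_span ⟨(j, t), rfl⟩)
  · rw [Ideal.span_le]
    rintro _ ⟨⟨j, t⟩, rfl⟩
    have hBu : IsUnit B.det := hA
    have h2 : (M.submatrix (j.1.orderEmbOfFin j.2) (t.1.orderEmbOfFin t.2)).det =
        ∑ i, B⁻¹ j i * ((A i * M).submatrix id (t.1.orderEmbOfFin t.2)).det := by
      have h3 : (fun j : {s : Finset (Fin r) // s.card = e} =>
          (M.submatrix (j.1.orderEmbOfFin j.2) (t.1.orderEmbOfFin t.2)).det) =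
          B⁻¹.mulVec (fun i => ((A i * M).submatrix id (t.1.orderEmbOfFin t.2)).det) := by
        have h4 : (fun i => ((A i * M).submatrix id (t.1.orderEmbOfFin t.2)).det) =
            B.mulVec (fun j : {s : Finset (Fin r) // s.card = e} =>
          (M.submatrix (j.1.orderEmbOfFin j.2) (t.1.orderEmbOfFin t.2)).det) := by
          funext i
          rw [key]
          rfl
        rw [h4, Matrix.mulVec_mulVec, Matrix.nonsing_inv_mul _ hBu, Matrix.one_mulVec]
      exact congrFun h3 j
    change (M.submatrix (j.1.orderEmbOfFin j.2) (t.1.orderEmbOfFin t.2)).det ∈ _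
    rw [h2]
    refine sum_mem fun i _ => Ideal.mul_mem_left _ _ ?_
    exact (le_iSup (fun i => Ideal.span (Set.range fun t : {s : Finset (Fin n) // s.card = e} =>
        ((A i * M).submatrix id (t.1.orderEmbOfFin t.2)).det)) i) (Ideal.subset_span ⟨t, rfl⟩)

end Groth.Agent.S17662
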