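import Groth.Statements.S17663
import Groth.Agent.Ribbon.K932.TrivSec
import Groth.Agent.VarietyB.TensCoh
import Groth.Agent.Ega2.QCohLocal

set_option autoImplicit false
universe u
open CategoryTheory CategoryTheory.Limits AlgebraicGeometry
open Ribbon

namespace Groth.Agent.S17663

open Groth.Agent Groth.Agent.VarietyB.TensCoh Groth.Agent.VarietyB.TensLoc in
theorem finite_of_isInvertible {X : Scheme.{u}} {L : X.Modules} (hL : PicF.IsInvertible L) (U : X.Opens)
    (hU : IsAffineOpen U) : Module.Finite Γ(X, U) Γ(L, U) := by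
  have hq : Coh.IsQCoh L := Ega2.QCohLocal.isQCoh_of_isInvertible hL
  have hb : HasBases L :=
    HasBases.of_isFinLocFreeOfRank (Ega2.QCohLocal.isFinLocFreeOfRank_one_iff.mpr hL)
  refine (CohqB.FiniteType2.isFT_iff_finite_sections L).mp
    (CohqB.FiniteType2.isFT_of_finite_sections L fun x => ?_) U hU
  obtain ⟨n, V, hx, hV, e, he⟩ := hb.exists_affine x
  exact ⟨V, hx, hV, Module.Finite.of_basis (he.basis le_rfl)⟩

/-- Let D be a reduced connected scheme of finite type over a field k and 𝓛 an invertible O_D-module.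
Then some split ribbon on D has conormal bundle 𝓛: there are a k-scheme C locally of finite type
together with a quasi-coherent ideal I ⊂ O_C with I² = 0, a k-isomorphism from the closed subscheme
V(I) to D, a retraction C → V(I) over k of the inclusion, and an isomorphism of O_D-modules between
I (regarded as a module on V(I) ≅ D) and 𝓛. -/
theorem result (k : Type u) [Field k] (D : Scheme.{u}) [D.Over (Spec (CommRingCat.of k))]
    [LocallyOfFiniteType (D ↘ (Spec (CommRingCat.of k)))] [QuasiCompact (D ↘ (Spec (CommRingCat.of k)))]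
    [AlgebraicGeometry.IsReduced D] [ConnectedSpace D]
    (𝓛 : D.Modules) (h𝓛 : PicF.IsInvertible 𝓛) :
    ∃ (C : Scheme.{u}) (sC : C ⟶ (Spec (CommRingCat.of k))) (I : C.IdealSheafData) (φ : I.subscheme ≅ D) (r : C ⟶ I.subscheme),
      LocallyOfFiniteType sC ∧ I ^ 2 = ⊥ ∧ φ.hom ≫ (D ↘ (Spec (CommRingCat.of k))) = I.subschemeι ≫ sC ∧ I.subschemeι ≫ r = 𝟙 I.subscheme ∧
        r ≫ I.subschemeι ≫ sC = sC ∧
        Nonempty ((Scheme.Modules.pullback (φ.inv ≫ I.subschemeι)).obj (ClSub.idealMod I) ≅ 𝓛) := by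
  have hq : Coh.IsQCoh 𝓛 := Ega2.QCohLocal.isQCoh_of_isInvertible h𝓛
  have hfin : IsFinite (K932.Split.toD hq) :=
    K932.TrivSec.isFinite_toD hq fun U hU => finite_of_isInvertible h𝓛 U hU
  let i := K932.Split.sec hq
  let p := K932.Split.toD hq
  have hip : i ≫ p = 𝟙 D := K932.Split.sec_toD hq
  let φ : i.ker.subscheme ≅ D := (asIso i.toImage).symm
  have hφ : φ.hom ≫ i = i.ker.subschemeι := by
    rw [← cancel_epi i.toImage]
    exact (IsIso.hom_inv_id_assoc i.toImage i).trans i.toImage_imageι.symm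
  refine ⟨K932.Split.triv hq, p ≫ (D ↘ (Spec (CommRingCat.of k))), i.ker, φ, p ≫ φ.inv, inferInstance,
    K932.TrivSec.ker_sq hq, ?_, ?_, ?_, ?_⟩
  · rw [← hφ, Category.assoc, reassoc_of% hip]
  · rw [← hφ, Category.assoc, reassoc_of% hip, Iso.hom_inv_id]
  · rw [← hφ, Category.assoc, Category.assoc, Iso.inv_hom_id_assoc, reassoc_of% hip]
  · rw [← hφ, Iso.inv_hom_id_assoc]
    exact ⟨K932.TrivSec.conormalIso hq⟩

end Groth.Agent.S17663
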