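import Groth.Statements.S17664
import Groth.Agent.Ribbon.K932.Split
import Groth.Agent.Ega2.QCohLocal

set_option autoImplicit false
universe u
open CategoryTheory CategoryTheory.Limits AlgebraicGeometry
open Ribbon

namespace Groth.Agent.S17664

/-- Let D be a reduced connected scheme of finite type over a field k. Let C and C' be two split ribbons
on D with isomorphic conormal bundles: k-schemes with quasi-coherent ideals I ⊂ O_C, I' ⊂ O_{C'} of
square zero, k-isomorphisms φ : V(I) ≅ D, φ' : V(I') ≅ D, retractions C → V(I), C' → V(I') over k,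
with I and I' invertible when regarded as O_D-modules and an isomorphism θ between them. Then C and
C' are isomorphic over D: there is an isomorphism ψ : C ≅ C' with (V(I) → C → C') = (V(I) ≅ D ≅
V(I') → C'). -/
theorem result (k : Type u) [Field k] (D : Scheme.{u}) [D.Over (Spec (CommRingCat.of k))]
    [LocallyOfFiniteType (D ↘ (Spec (CommRingCat.of k)))] [QuasiCompact (D ↘ (Spec (CommRingCat.of k)))]
    [AlgebraicGeometry.IsReduced D] [ConnectedSpace D]
    (C : Scheme.{u}) (sC : C ⟶ (Spec (CommRingCat.of k))) (I : C.IdealSheafData) (hI : I ^ 2 = ⊥)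
    (φ : I.subscheme ≅ D) (hφ : φ.hom ≫ (D ↘ (Spec (CommRingCat.of k))) = I.subschemeι ≫ sC)
    (r : C ⟶ I.subscheme) (hr : I.subschemeι ≫ r = 𝟙 I.subscheme) (hrk : r ≫ I.subschemeι ≫ sC = sC)
    (C' : Scheme.{u}) (sC' : C' ⟶ (Spec (CommRingCat.of k))) (I' : C'.IdealSheafData) (hI' : I' ^ 2 = ⊥)
    (φ' : I'.subscheme ≅ D) (hφ' : φ'.hom ≫ (D ↘ (Spec (CommRingCat.of k))) = I'.subschemeι ≫ sC')
    (r' : C' ⟶ I'.subscheme) (hr' : I'.subschemeι ≫ r' = 𝟙 I'.subscheme) (hrk' : r' ≫ I'.subschemeι ≫ sC' = sC')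
    (h𝓛 : PicF.IsInvertible ((Scheme.Modules.pullback (φ.inv ≫ I.subschemeι)).obj (ClSub.idealMod I)))
    (h𝓛' : PicF.IsInvertible ((Scheme.Modules.pullback (φ'.inv ≫ I'.subschemeι)).obj (ClSub.idealMod I')))
    (θ : (Scheme.Modules.pullback (φ.inv ≫ I.subschemeι)).obj (ClSub.idealMod I) ≅
      (Scheme.Modules.pullback (φ'.inv ≫ I'.subschemeι)).obj (ClSub.idealMod I')) :
    ∃ ψ : C ≅ C', I.subschemeι ≫ ψ.hom = φ.hom ≫ φ'.inv ≫ I'.subschemeι ∧ ψ.hom ≫ sC' = sC := by
  let i := φ.inv ≫ I.subschemeι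
  let p := r ≫ φ.hom
  let i' := φ'.inv ≫ I'.subschemeι
  let p' := r' ≫ φ'.hom
  have hip : i ≫ p = 𝟙 D := by
    simp only [i, p, Category.assoc, reassoc_of% hr, Iso.inv_hom_id]
  have hip' : i' ≫ p' = 𝟙 D := by
    simp only [i', p', Category.assoc, reassoc_of% hr', Iso.inv_hom_id]
  have hk : i.ker = I := by
    simp only [i, Scheme.Hom.ker_comp_of_isIso, Scheme.IdealSheafData.ker_subschemeι]
  have hk' : i'.ker = I' := by
    simp only [i', Scheme.Hom.ker_comp_of_isIso, Scheme.IdealSheafData.ker_subschemeι]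
  have hI2 : i.ker ^ 2 = ⊥ := by rw [hk]; exact hI
  have hI2' : i'.ker ^ 2 = ⊥ := by rw [hk']; exact hI'
  let M := (Scheme.Modules.pullback i').obj (ClSub.idealMod i'.ker)
  have hM0 : M = (Scheme.Modules.pullback (φ'.inv ≫ I'.subschemeι)).obj (ClSub.idealMod I') := by
    simp only [M, hk']; rfl
  have hM : Coh.IsQCoh M := by
    rw [hM0]
    exact Ega2.QCohLocal.isQCoh_of_isInvertible h𝓛'
  have θ' : (Scheme.Modules.pullback i).obj (ClSub.idealMod i.ker) ≅ M := by
    rw [hM0, hk]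
    exact θ
  obtain ⟨e, he1, he2⟩ := K932.Split.exists_iso i p hip
    (θ'.inv ≫ (K932.Split.pushIdealIso i p hip hI2).inv) hI2 hM
  obtain ⟨e', he1', he2'⟩ := K932.Split.exists_iso i' p' hip'
    (K932.Split.pushIdealIso i' p' hip' hI2').inv hI2' hM
  refine ⟨e ≪≫ e'.symm, ?_, ?_⟩
  · have h1 : i ≫ e.hom ≫ e'.inv = i' := by
      rw [← Category.assoc, he2, ← he2', Category.assoc, Iso.hom_inv_id, Category.comp_id]
    have h2 : I.subschemeι = φ.hom ≫ i := by simp [i]
    rw [Iso.trans_hom, Iso.symm_hom, h2, Category.assoc, h1]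
  · have h1 : (e.hom ≫ e'.inv) ≫ p' = p := by
      rw [← he1', Category.assoc, Iso.inv_hom_id_assoc, he1]
    have h2 : sC' = p' ≫ (D ↘ (Spec (CommRingCat.of k))) := by
      simp only [p', Category.assoc, hφ', hrk']
    have h3 : sC = p ≫ (D ↘ (Spec (CommRingCat.of k))) := by
      simp only [p, Category.assoc, hφ, hrk]
    rw [Iso.trans_hom, Iso.symm_hom, h2, ← Category.assoc, h1, h3]

end Groth.Agent.S17664
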