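import Groth.Statements.S17666
import Groth.Agent.Ribbon.K137.BlowRib

set_option autoImplicit false
universe u
open CategoryTheory CategoryTheory.Limits AlgebraicGeometry
open Ribbon

namespace Groth.Agent.S17666

/-- Let k be a field, C a k-scheme locally of finite type and I ⊂ O_C a quasi-coherent ideal with I² = 0
whose closed subscheme D is reduced and connected and whose conormal bundle 𝓛 (I regarded as an
O_D-module) is invertible, so that C is a ribbon on D. Let δ ⊂ D be an effective Cartier divisor, M
an O_D-module with M ⊗ I_δ ≅ O_D (playing the role of O_D(δ)), and b : X → C a blowing up of C in δ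
(regarded as a closed subscheme of C). Then X is a ribbon on D and b is the identity on D: there is
a quasi-coherent ideal I' ⊂ O_X with I'² = 0 and an isomorphism φ from its closed subscheme D' to D
with (D' → X → C) = (D' ≅ D → C), and the conormal bundle I' of D' in X, transported to D, is
isomorphic to 𝓛 ⊗ M = 𝓛(δ). (The source moreover identifies X with the ribbon of extension class
α(e_C); that part is not asserted.) -/
theorem result (k : Type u) [Field k] (C : Scheme.{u}) [C.Over (Spec (CommRingCat.of k))]
    [LocallyOfFiniteType (C ↘ (Spec (CommRingCat.of k)))]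
    (I : C.IdealSheafData) (hI : I ^ 2 = ⊥) [AlgebraicGeometry.IsReduced I.subscheme] [ConnectedSpace I.subscheme]
    (h𝓛 : PicF.IsInvertible ((Scheme.Modules.pullback I.subschemeι).obj (ClSub.idealMod I)))
    (δ : I.subscheme.IdealSheafData) (hδ : BlowUp.IsEffCartierIdeal δ)
    (M : I.subscheme.Modules) (hM : ClSub.IsInverseOf M (ClSub.idealMod δ))
    (X : Scheme.{u}) (b : X ⟶ C) (hb : BlowUp.IsBlowUp b (δ.subschemeι ≫ I.subschemeι).ker) :
    ∃ (I' : X.IdealSheafData) (φ : I'.subscheme ≅ I.subscheme), I' ^ 2 = ⊥ ∧
      I'.subschemeι ≫ b = φ.hom ≫ I.subschemeι ∧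
      Nonempty ((Scheme.Modules.pullback (φ.inv ≫ I'.subschemeι)).obj (ClSub.idealMod I') ≅
        CohB1.tensorMod ((Scheme.Modules.pullback I.subschemeι).obj (ClSub.idealMod I)) M) := by
  exact K137.RibBlow.exists_ribbon I hI h𝓛 δ hδ M hM b hb

end Groth.Agent.S17666
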