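import Groth.Statements.S17668
import Groth.Agent.Ribbon.K932.RibGen
import Groth.Agent.S17665

set_option autoImplicit false
universe u
open CategoryTheory CategoryTheory.Limits AlgebraicGeometry
attribute [local instance] HasDerivedCategory.standard
open Ribbon

namespace Groth.Agent.S17668

/-- Let C be a ribbon of arithmetic genus g on the projective line over a field k — a proper k-scheme
with a quasi-coherent ideal I ⊂ O_C, I² = 0, whose closed subscheme D is k-isomorphic to P^1 and
such that I, as an O_D-module, is isomorphic to O_{P^1}(-g-1) — with g ≥ 1, and let ω_C be its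
dualizing module (the cohomology sheaf in degree -1 of f^! O for f : C → Spec k, the existence of
Rf_* on D_QCoh and of its right adjoint being carried as hypotheses), assumed invertible. Then the
canonical series is base-point free: ω_C is globally generated (a quotient of a free O_C-module).
(The case g = 0 must be excluded: there ω_C restricts to O_{P^1}(-1) on D and has no non-zero
sections; the source does not state this restriction. Invertibility of ω_C is asserted in the source
without proof and is carried here as a hypothesis.) (Stated over an arbitrary field k; the published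
setting is an algebraically closed field; the argument uses only χ(O_{P^1}(m)) = m+1, duality and
Pic P^1 = ℤ by degree.) -/
theorem result (k : Type u) [Field k] (C : Scheme.{u}) [C.Over (Spec (CommRingCat.of k))]
    [IsProper (C ↘ (Spec (CommRingCat.of k)))]
    (I : C.IdealSheafData) (hI : I ^ 2 = ⊥)
    (e : I.subscheme ≅ CohB1.ProjSpace 1 k)
    (he : e.hom ≫ CohB1.ProjSpace.toSpec 1 k = I.subschemeι ≫ (C ↘ (Spec (CommRingCat.of k))))
    (g : ℕ) (hg : 1 ≤ g)
    (hconormal : Nonempty ((Scheme.Modules.pullback I.subschemeι).obj (ClSub.idealMod I) ≅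
      (Scheme.Modules.pullback e.hom).obj (Twist.twistProjSpace 1 k (-((g : ℤ) + 1)))))
    [DCoh.HasRpush (C ↘ (Spec (CommRingCat.of k)))] (h : DCoh.RpushPreservesQCoh (C ↘ (Spec (CommRingCat.of k))))
    [DCoh.HasShriek (C ↘ (Spec (CommRingCat.of k))) h]
    (OY : DCoh.DQCoh (Spec (CommRingCat.of k)))
    (hOY : Nonempty (OY.obj ≅ DCoh.inD (Spec (CommRingCat.of k)) (Coh.structureModule (Spec (CommRingCat.of k)))))
    (hω : PicF.IsInvertible (DCoh.dualizingMod (C ↘ (Spec (CommRingCat.of k))) h OY 1)) :
    Curv2.IsGloballyGenerated (DCoh.dualizingMod (C ↘ (Spec (CommRingCat.of k))) h OY 1) := by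
  have ha := S17665.result k C I hI e he g hconormal h OY hOY hω
  have h0 : (K932.Hdim.hd k C (DCoh.dualizingMod (C ↘ (Spec (CommRingCat.of k))) h OY 1) 0 : ℤ) =
      ((g : ℤ) - 1) + 1 := by
    have h1 : K932.Hdim.hd k C (DCoh.dualizingMod (C ↘ (Spec (CommRingCat.of k))) h OY 1) 0 =
        K932.Hdim.hd k C (Coh.structureModule C) 1 :=
      CurvesC.DualEuler.finrank_zero k C h OY hOY (K932.RibP1.topologicalKrullDim_eq k I hI e).le
    have h2 := K932.RibCoh.hd_structure_one k hI e he (c := -((g : ℤ) + 1)) (by omega) hconormal
    omega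
  refine K932.RibGen.isGloballyGenerated I.subschemeι (K932.SqZero.surjective_subschemeι I hI) hω
    (K932.RibGen.surjective_unit k hI e he hω ha hconormal (by omega) (by omega) h0) fun x => ?_
  obtain ⟨m, hm⟩ : ∃ m : ℕ, (g : ℤ) - 1 = m := ⟨g - 1, by omega⟩
  rw [hm] at ha
  exact K932.P1Gen.exists_genLocus_of_iso k e m ha x

end Groth.Agent.S17668
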