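import Groth.Statements.S17670
import Groth.Agent.Ribbon.K137.BlowCan

set_option autoImplicit false
universe u
open CategoryTheory CategoryTheory.Limits AlgebraicGeometry
attribute [local instance] HasDerivedCategory.standard
open Ribbon

namespace Groth.Agent.S17670

/-- Let C be a non-hyperelliptic (non-split) ribbon of arithmetic genus g ≥ 3 on the projective line
over a field k — a proper k-scheme with a quasi-coherent ideal I ⊂ O_C, I² = 0, whose closed
subscheme D is k-isomorphic to P^1, with I as an O_D-module isomorphic to O_{P^1}(-g-1) and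
admitting no retraction C → D — let p be a k-rational point of D, given as an effective Cartier
divisor δ of D whose closed subscheme is k-isomorphic to Spec k, and let b : C' → C be a blowing up
of C in p (universal property). Let ω_C and ω_{C'} be the dualizing modules of C and C' over k
(cohomology sheaves in degree -1 of the upper-shriek of O, the existence of the derived direct
images on D_QCoh and of their right adjoints being carried as hypotheses), both assumed invertible.
Then ω_{C'} ≅ b^*ω_C ⊗ I_E, where I_E ⊂ O_{C'} is the ideal of the exceptional divisor: projecting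
the canonical model of C from p yields the canonical model of the blown-up ribbon C'. (Existence of
an isomorphism; the source phrases this through the canonical morphisms. Invertibility of the
dualizing modules is carried as a hypothesis.) (Stated over an arbitrary field k with p a k-rational
point; the published setting is an algebraically closed field, where every closed point is
rational.) -/
theorem result (k : Type u) [Field k] (C : Scheme.{u}) [C.Over (Spec (CommRingCat.of k))]
    [IsProper (C ↘ (Spec (CommRingCat.of k)))]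
    (I : C.IdealSheafData) (hI : I ^ 2 = ⊥)
    (e : I.subscheme ≅ CohB1.ProjSpace 1 k)
    (he : e.hom ≫ CohB1.ProjSpace.toSpec 1 k = I.subschemeι ≫ (C ↘ (Spec (CommRingCat.of k))))
    (g : ℕ) (hg : 3 ≤ g)
    (hconormal : Nonempty ((Scheme.Modules.pullback I.subschemeι).obj (ClSub.idealMod I) ≅
      (Scheme.Modules.pullback e.hom).obj (Twist.twistProjSpace 1 k (-((g : ℤ) + 1)))))
    (hns : ∀ r : C ⟶ I.subscheme, I.subschemeι ≫ r ≠ 𝟙 I.subscheme)
    (δ : I.subscheme.IdealSheafData) (hδ : BlowUp.IsEffCartierIdeal δ)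
    (ep : δ.subscheme ≅ Spec (CommRingCat.of k)) (hep : ep.hom = δ.subschemeι ≫ I.subschemeι ≫ (C ↘ (Spec (CommRingCat.of k))))
    (C' : Scheme.{u}) (b : C' ⟶ C) (hb : BlowUp.IsBlowUp b (δ.subschemeι ≫ I.subschemeι).ker)
    [DCoh.HasRpush (C ↘ (Spec (CommRingCat.of k)))] (h : DCoh.RpushPreservesQCoh (C ↘ (Spec (CommRingCat.of k)))) [DCoh.HasShriek (C ↘ (Spec (CommRingCat.of k))) h]
    [DCoh.HasRpush (b ≫ (C ↘ (Spec (CommRingCat.of k))))] (h' : DCoh.RpushPreservesQCoh (b ≫ (C ↘ (Spec (CommRingCat.of k))))) [DCoh.HasShriek (b ≫ (C ↘ (Spec (CommRingCat.of k)))) h']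
    (OY : DCoh.DQCoh (Spec (CommRingCat.of k)))
    (hOY : Nonempty (OY.obj ≅ DCoh.inD (Spec (CommRingCat.of k)) (Coh.structureModule (Spec (CommRingCat.of k)))))
    (hω : PicF.IsInvertible (DCoh.dualizingMod (C ↘ (Spec (CommRingCat.of k))) h OY 1))
    (hω' : PicF.IsInvertible (DCoh.dualizingMod (b ≫ (C ↘ (Spec (CommRingCat.of k)))) h' OY 1)) :
    Nonempty (DCoh.dualizingMod (b ≫ (C ↘ (Spec (CommRingCat.of k)))) h' OY 1 ≅
      CohB1.tensorMod ((Scheme.Modules.pullback b).obj (DCoh.dualizingMod (C ↘ (Spec (CommRingCat.of k))) h OY 1))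
        (ClSub.idealMod (BlowUp.exceptional b (δ.subschemeι ≫ I.subschemeι).ker))) := by
  have hw := S17665.result k C I hI e he g hconormal h OY hOY hω
  have hne : ¬ K932.Hdim.Van C (DCoh.dualizingMod (C ↘ (Spec (CommRingCat.of k))) h OY 1) 1 := by
    intro hv
    have h1 : K932.Hdim.hd k C (DCoh.dualizingMod (C ↘ (Spec (CommRingCat.of k))) h OY 1) 1 =
        K932.Hdim.hd k C (Coh.structureModule C) 0 :=
      CurvesC.DualEuler.finrank_one k C h OY hOY (K932.RibP1.topologicalKrullDim_eq k I hI e).le
        (K932.RibP1.isCM k C I hI e hconormal) (K932.RibP1.equi k I hI e)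
    have h2 := K932.RibCoh.hd_structure_zero k hI e he (c := -((g : ℤ) + 1)) (by omega) hconormal
    have h3 := K932.Hdim.hd_of_van k hv
    omega
  obtain ⟨hbp, I', e', hI', he', hcon', hL, hLr, hnv⟩ := K137.RibBlow.exists_blow_data k C I hI e he
    hconormal δ hδ ep hep C' b hb hω hw hne
  let _ : C'.Over (Spec (CommRingCat.of k)) := ⟨b ≫ (C ↘ (Spec (CommRingCat.of k)))⟩
  have hprop : IsProper (C' ↘ (Spec (CommRingCat.of k))) :=
    inferInstanceAs (IsProper (b ≫ (C ↘ (Spec (CommRingCat.of k)))))
  let _ : DCoh.HasRpush (C' ↘ (Spec (CommRingCat.of k))) :=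
    inferInstanceAs (DCoh.HasRpush (b ≫ (C ↘ (Spec (CommRingCat.of k)))))
  let _ : DCoh.HasShriek (C' ↘ (Spec (CommRingCat.of k))) h' :=
    inferInstanceAs (DCoh.HasShriek (b ≫ (C ↘ (Spec (CommRingCat.of k)))) h')
  have hc1 : -((g : ℤ) + 1) + 1 = -(((g - 1 : ℕ) : ℤ) + 1) := by omega
  have ha1 : (g : ℤ) - 1 + -1 = ((g - 1 : ℕ) : ℤ) - 1 := by omega
  rw [hc1] at hcon'
  rw [ha1] at hLr
  have hw' := S17665.result k C' I' hI' e' he' (g - 1) hcon' h' OY hOY hω'
  have := CurvesC.CurveCoh.noetherianSpace k C'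
  obtain ⟨t, ht⟩ := CurvesC.DualRep.exists_form_mod k C' h' OY 1
    (by exact_mod_cast (K932.RibP1.topologicalKrullDim_eq k I' hI' e').le) hOY
  exact K137.RibBlow.iso_of_not_van k hI' e' he' (c := -(((g - 1 : ℕ) : ℤ) + 1)) (by omega) hcon'
    hω' hL hw' hLr hnv t ht

end Groth.Agent.S17670
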