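import Groth.Statements.S17671
import Groth.Agent.Coherent.K47.LinkOmega

set_option autoImplicit false
universe u
open CategoryTheory CategoryTheory.Limits AlgebraicGeometry
attribute [local instance] HasDerivedCategory.standard
open CIDisc

namespace Groth.Agent.S17671

/-- Let Z be a proper scheme over a field k, equidimensional of dimension d with Gorenstein local rings,
and X ⊂ Z the closed subscheme of a quasi-coherent ideal I_X, also equidimensional of dimension d,
with Cohen–Macaulay local rings, and equal to Z at the generic points of its irreducible components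
(the stalk of I_X vanishes there). Let I_W be the ideal (0 : I_X), i.e. on every affine open the
annihilator of I_X (the ideal of the residual scheme W, linked to X by Z), and let ω_X, ω_Z be the
dualizing modules of X and Z over k (cohomology sheaves in degree -d of the upper-shriek of O, the
existence of the derived direct images on D_QCoh and of their right adjoints being carried as
hypotheses). Then ω_X ≅ i^*(I_W ⊗ ω_Z), the pullback to X of I_W ⊗ ω_Z. (Existence of an
isomorphism; the source states the identity ω_X = i^*(I_W ω_Z) for X, Z of finite type, reducing to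
the affine case through duality for the finite morphism i; here X and Z are taken proper over k so
that the dualizing modules are those of the upper-shriek functor.) (Stated over an arbitrary field
k; the published setting is an algebraically closed field, which the argument does not use.) -/
theorem result (k : Type u) [Field k] (Z : Scheme.{u}) [Z.Over (Spec (CommRingCat.of k))]
    [IsProper (Z ↘ (Spec (CommRingCat.of k)))] (d : ℕ)
    (hZdim : ∀ T ∈ irreducibleComponents (Z : Type u), topologicalKrullDim T = d)
    (hZgor : ∀ z : Z, LocCoh.IsGorensteinLocalRing (Z.presheaf.stalk z))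
    (IX : Z.IdealSheafData)
    (hXdim : ∀ T ∈ irreducibleComponents (IX.subscheme : Type u), topologicalKrullDim T = d)
    (hXcm : ∀ x : IX.subscheme, LocCoh.IsCohenMacaulayLocalRing (IX.subscheme.presheaf.stalk x))
    (hgen : ∀ T (hT : T ∈ irreducibleComponents (IX.subscheme : Type u)),
      Subsingleton ((ClSub.idealMod IX).presheaf.stalk (IX.subschemeι.base hT.1.genericPoint)))
    (IW : Z.IdealSheafData) (hW : ∀ U : Z.affineOpens, IW.ideal U = (IX.ideal U).annihilator)
    [DCoh.HasRpush (Z ↘ (Spec (CommRingCat.of k)))] (hZ : DCoh.RpushPreservesQCoh (Z ↘ (Spec (CommRingCat.of k)))) [DCoh.HasShriek (Z ↘ (Spec (CommRingCat.of k))) hZ]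
    [DCoh.HasRpush (IX.subschemeι ≫ (Z ↘ (Spec (CommRingCat.of k))))] (hX : DCoh.RpushPreservesQCoh (IX.subschemeι ≫ (Z ↘ (Spec (CommRingCat.of k)))))
    [DCoh.HasShriek (IX.subschemeι ≫ (Z ↘ (Spec (CommRingCat.of k)))) hX]
    (OY : DCoh.DQCoh (Spec (CommRingCat.of k)))
    (hOY : Nonempty (OY.obj ≅ DCoh.inD (Spec (CommRingCat.of k)) (Coh.structureModule (Spec (CommRingCat.of k))))) :
    Nonempty (DCoh.dualizingMod (IX.subschemeι ≫ (Z ↘ (Spec (CommRingCat.of k)))) hX OY d ≅
      (Scheme.Modules.pullback IX.subschemeι).obj
        (CohB1.tensorMod (ClSub.idealMod IW) (DCoh.dualizingMod (Z ↘ (Spec (CommRingCat.of k))) hZ OY d))) := by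
  exact Coherent.K47.LinkOmega.nonempty_iso k Z _ d
    (Dual.H341.CMSch.topologicalKrullDim_le_of_components Z d hZdim) IX IW hW hZ hX OY hOY
    (Coherent.K47.LinkInv.isInvertible_of_gorenstein k Z _ hZgor d hZdim hZ OY hOY)


end Groth.Agent.S17671
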