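import Groth.Statements.S17672
import Groth.Agent.Coherent.K47.LinkCart

set_option autoImplicit false
universe u
open CategoryTheory CategoryTheory.Limits AlgebraicGeometry
attribute [local instance] HasDerivedCategory.standard
open CIDisc

namespace Groth.Agent.S17672

/-- Let Z be a proper scheme over a field k, equidimensional of dimension d with Gorenstein local rings,
and X ⊂ Z the closed subscheme of a quasi-coherent ideal I_X, equidimensional of dimension d, with
Gorenstein local rings, equal to Z at the generic points of its irreducible components (the stalk of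
I_X vanishes there); let I_W = (0 : I_X) (affine-locally the annihilator of I_X) be the ideal of the
residual scheme W, and ω_X, ω_Z the dualizing modules over k (degree -d cohomology sheaves of the
upper-shriek of O, existence hypotheses carried). Then the inverse image ideal I_W · O_X is the
ideal of an effective Cartier divisor D_W on X, and ω_X ≅ i^*ω_Z ⊗ I_{D_W}; in terms of canonical
classes, K_X = K_Z|_X - D_W. (Existence of an isomorphism; X and Z are taken proper over k, the
published statement allowing schemes of finite type.) (Stated over an arbitrary field k; the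
published setting is an algebraically closed field, which the argument does not use.) -/
theorem result (k : Type u) [Field k] (Z : Scheme.{u}) [Z.Over (Spec (CommRingCat.of k))]
    [IsProper (Z ↘ (Spec (CommRingCat.of k)))] (d : ℕ)
    (hZdim : ∀ T ∈ irreducibleComponents (Z : Type u), topologicalKrullDim T = d)
    (hZgor : ∀ z : Z, LocCoh.IsGorensteinLocalRing (Z.presheaf.stalk z))
    (IX : Z.IdealSheafData)
    (hXdim : ∀ T ∈ irreducibleComponents (IX.subscheme : Type u), topologicalKrullDim T = d)
    (hXgor : ∀ x : IX.subscheme, LocCoh.IsGorensteinLocalRing (IX.subscheme.presheaf.stalk x))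
    (hgen : ∀ T (hT : T ∈ irreducibleComponents (IX.subscheme : Type u)),
      Subsingleton ((ClSub.idealMod IX).presheaf.stalk (IX.subschemeι.base hT.1.genericPoint)))
    (IW : Z.IdealSheafData) (hW : ∀ U : Z.affineOpens, IW.ideal U = (IX.ideal U).annihilator)
    [DCoh.HasRpush (Z ↘ (Spec (CommRingCat.of k)))] (hZ : DCoh.RpushPreservesQCoh (Z ↘ (Spec (CommRingCat.of k)))) [DCoh.HasShriek (Z ↘ (Spec (CommRingCat.of k))) hZ]
    [DCoh.HasRpush (IX.subschemeι ≫ (Z ↘ (Spec (CommRingCat.of k))))] (hX : DCoh.RpushPreservesQCoh (IX.subschemeι ≫ (Z ↘ (Spec (CommRingCat.of k)))))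
    [DCoh.HasShriek (IX.subschemeι ≫ (Z ↘ (Spec (CommRingCat.of k)))) hX]
    (OY : DCoh.DQCoh (Spec (CommRingCat.of k)))
    (hOY : Nonempty (OY.obj ≅ DCoh.inD (Spec (CommRingCat.of k)) (Coh.structureModule (Spec (CommRingCat.of k))))) :
    BlowUp.IsEffCartierIdeal (IW.comap IX.subschemeι) ∧
    Nonempty (DCoh.dualizingMod (IX.subschemeι ≫ (Z ↘ (Spec (CommRingCat.of k)))) hX OY d ≅
      CohB1.tensorMod ((Scheme.Modules.pullback IX.subschemeι).obj (DCoh.dualizingMod (Z ↘ (Spec (CommRingCat.of k))) hZ OY d))
        (ClSub.idealMod (IW.comap IX.subschemeι))) := by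
  have hLN : IsLocallyNoetherian Z :=
    LocallyOfFiniteType.isLocallyNoetherian (Z ↘ (Spec (CommRingCat.of k)))
  have hinf := Coherent.K47.LinkInter.inf_eq_bot (Z := Z) (fun z => have := hZgor z; S0341.result _)
    IX IW hgen hW
  have hω := Coherent.K47.LinkInv.isInvertible_of_gorenstein k Z _ hZgor d hZdim hZ OY hOY
  obtain ⟨e⟩ := Coherent.K47.LinkOmega.nonempty_iso k Z _ d
    (Dual.H341.CMSch.topologicalKrullDim_le_of_components Z d hZdim) IX IW hW hZ hX OY hOY hω
  exact Coherent.K47.LinkCart.main hinf hW _ hω
    (Coherent.K47.LinkInv.isInvertible_of_gorenstein k IX.subscheme _ hXgor d hXdim hX OY hOY) e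


end Groth.Agent.S17672
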