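import Groth.Statements.S17674
import Groth.Agent.Coherent.K47.LinkCurve
import Groth.Agent.Ega3B.ProjProper

set_option autoImplicit false
universe u
open CategoryTheory CategoryTheory.Limits AlgebraicGeometry
attribute [local instance] HasDerivedCategory.standard
open CIDisc

namespace Groth.Agent.S17674

/-- Let Z ⊂ P^n_k be a closed subscheme over a field k, equidimensional of dimension one, with
Gorenstein local rings and dualizing module ω_Z ≅ O_Z(m) (upper-shriek presentation, existence
hypotheses carried; m = d_1 + ⋯ + d_{n-1} - n - 1 when Z is a complete intersection of hypersurfaces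
of degrees d_i). Let X = V(I_X) and W = V(I_W) be reduced closed subschemes of Z, equidimensional of
dimension one, each equal to Z at the generic points of its irreducible components, and directly
linked by Z: affine-locally I_W = (0 : I_X) and I_X = (0 : I_W). Then p_a(X) - p_a(W) = (deg X - deg
W) · m / 2 (the genus-difference formula of linkage), written here as 2 (χ(O_W) - χ(O_X)) = m · (deg
X - deg W) with deg Y = χ(O_Y(1)) - χ(O_Y). (The source takes Z a complete intersection cut out by
forms of degrees d_1, …, d_{n-1}; its argument uses that Z is Gorenstein with ω_Z ≅ O_Z(m).) (Stated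
over an arbitrary field k; the published setting is an algebraically closed field, which the
argument does not use.) -/
theorem result (k : Type u) [Field k] (n : ℕ) (IZ : (CohB1.ProjSpace n k).IdealSheafData)
    (hZdim : ∀ T ∈ irreducibleComponents (IZ.subscheme : Type u), topologicalKrullDim T = 1)
    (hZgor : ∀ z : IZ.subscheme, LocCoh.IsGorensteinLocalRing (IZ.subscheme.presheaf.stalk z))
    [DCoh.HasRpush (IZ.subschemeι ≫ CohB1.ProjSpace.toSpec n k)] (hZ : DCoh.RpushPreservesQCoh (IZ.subschemeι ≫ CohB1.ProjSpace.toSpec n k)) [DCoh.HasShriek (IZ.subschemeι ≫ CohB1.ProjSpace.toSpec n k) hZ]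
    (OY : DCoh.DQCoh (Spec (CommRingCat.of k)))
    (hOY : Nonempty (OY.obj ≅ DCoh.inD (Spec (CommRingCat.of k)) (Coh.structureModule (Spec (CommRingCat.of k)))))
    (m : ℤ) (hωZ : Nonempty (DCoh.dualizingMod (IZ.subschemeι ≫ CohB1.ProjSpace.toSpec n k) hZ OY 1 ≅
      (Scheme.Modules.pullback IZ.subschemeι).obj (Twist.twistProjSpace n k m)))
    (IX IW : IZ.subscheme.IdealSheafData)
    [AlgebraicGeometry.IsReduced IX.subscheme] [AlgebraicGeometry.IsReduced IW.subscheme]
    (hXdim : ∀ T ∈ irreducibleComponents (IX.subscheme : Type u), topologicalKrullDim T = 1)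
    (hWdim : ∀ T ∈ irreducibleComponents (IW.subscheme : Type u), topologicalKrullDim T = 1)
    (hgenX : ∀ T (hT : T ∈ irreducibleComponents (IX.subscheme : Type u)),
      Subsingleton ((ClSub.idealMod IX).presheaf.stalk (IX.subschemeι.base hT.1.genericPoint)))
    (hgenW : ∀ T (hT : T ∈ irreducibleComponents (IW.subscheme : Type u)),
      Subsingleton ((ClSub.idealMod IW).presheaf.stalk (IW.subschemeι.base hT.1.genericPoint)))
    (hW : ∀ U : IZ.subscheme.affineOpens, IW.ideal U = (IX.ideal U).annihilator)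
    (hX : ∀ U : IZ.subscheme.affineOpens, (IW.ideal U).annihilator = IX.ideal U) :
    (2 : ℤ) * (@Curv2.euler k _ IW.subscheme ⟨IW.subschemeι ≫ IZ.subschemeι ≫ CohB1.ProjSpace.toSpec n k⟩ (Coh.structureModule IW.subscheme) - @Curv2.euler k _ IX.subscheme ⟨IX.subschemeι ≫ IZ.subschemeι ≫ CohB1.ProjSpace.toSpec n k⟩ (Coh.structureModule IX.subscheme)) =
      m * (@Curv2.deg k _ IX.subscheme ⟨IX.subschemeι ≫ IZ.subschemeι ≫ CohB1.ProjSpace.toSpec n k⟩ ((Scheme.Modules.pullback (IX.subschemeι ≫ IZ.subschemeι)).obj (Twist.twistProjSpace n k 1)) 1 - @Curv2.deg k _ IW.subscheme ⟨IW.subschemeι ≫ IZ.subschemeι ≫ CohB1.ProjSpace.toSpec n k⟩ ((Scheme.Modules.pullback (IW.subschemeι ≫ IZ.subschemeι)).obj (Twist.twistProjSpace n k 1)) 1) := by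
  have hP : IsProper (CohB1.ProjSpace.toSpec n k) := Groth.Agent.Ega3B.ProjProper.isProper_toSpec _ _
  have hLN : IsLocallyNoetherian IZ.subscheme :=
    LocallyOfFiniteType.isLocallyNoetherian (IZ.subschemeι ≫ CohB1.ProjSpace.toSpec n k)
  have hNX : IsLocallyNoetherian IX.subscheme :=
    LocallyOfFiniteType.isLocallyNoetherian (IX.subschemeι ≫ IZ.subschemeι ≫ CohB1.ProjSpace.toSpec n k)
  have hNW : IsLocallyNoetherian IW.subscheme :=
    LocallyOfFiniteType.isLocallyNoetherian (IW.subschemeι ≫ IZ.subschemeι ≫ CohB1.ProjSpace.toSpec n k)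
  have h1 := Coherent.K47.LinkCurve.main k n IZ.subscheme IZ.subschemeι hZdim hZgor hZ OY hOY m hωZ IX hXdim
    (Coherent.K47.LinkCurve.cm_stalk (CurvesC.EulerHV.dim_le _ hXdim)) hgenX IW hW
  have h2 := Coherent.K47.LinkCurve.main k n IZ.subscheme IZ.subschemeι hZdim hZgor hZ OY hOY m hωZ IW hWdim
    (Coherent.K47.LinkCurve.cm_stalk (CurvesC.EulerHV.dim_le _ hWdim)) hgenW IX (fun U => (hX U).symm)
  rw [sup_comm] at h2
  linear_combination h1 - h2


end Groth.Agent.S17674
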