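-- Proof of statement S17677 (Hoch.cocycles_one_le_coboundaries_addMonoidAlgebra).
import Groth.Statements.S17677

set_option autoImplicit false
universe u
open Hoch

namespace Groth.Agent.S17677

open TensorProduct

/-- The coefficient at `0` of `k[M]`. -/
noncomputable def coeff0 (k : Type u) [CommRing k] (M : Type u) [AddCommMonoid M] :
    AddMonoidAlgebra k M →ₗ[k] k :=
  Finsupp.lapply (0 : M) ∘ₗ (AddMonoidAlgebra.coeffLinearEquiv (S := k) (M := M) k).toLinearMap

theorem coeff0_single (k : Type u) [CommRing k] (M : Type u) [AddCommMonoid M] (m : M) (r : k) [Decidable (m = 0)] :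
    coeff0 k M (AddMonoidAlgebra.single m r) = if m = 0 then r else 0 := by
  change (AddMonoidAlgebra.single m r).coeff 0 = _
  exact Finsupp.single_apply

theorem coeff0_one (k : Type u) [CommRing k] (M : Type u) [AddCommMonoid M] :
    coeff0 k M 1 = 1 := by
  classical
  rw [AddMonoidAlgebra.one_def, coeff0_single, if_pos rfl]

/-- `(id ⊗ δ₀)(Δ a) = δ₀(a) 1`. -/
theorem coeff0_comul (k : Type u) [CommRing k] (M : Type u) [AddCommMonoid M] (a : AddMonoidAlgebra k M) :
    TensorProduct.rid k (AddMonoidAlgebra k M)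
      ((coeff0 k M).lTensor (AddMonoidAlgebra k M) (Coalgebra.comul (R := k) a)) =
      coeff0 k M a • (1 : AddMonoidAlgebra k M) := by
  classical
  have h : (TensorProduct.rid k (AddMonoidAlgebra k M)).toLinearMap ∘ₗ
      (coeff0 k M).lTensor (AddMonoidAlgebra k M) ∘ₗ Coalgebra.comul (R := k) (A := AddMonoidAlgebra k M) =
      (LinearMap.toSpanSingleton k (AddMonoidAlgebra k M) 1) ∘ₗ coeff0 k M := by
    refine AddMonoidAlgebra.lhom_ext' fun m => LinearMap.ext_ring ?_
    simp only [LinearMap.comp_apply, AddMonoidAlgebra.lsingle_apply, AddMonoidAlgebra.comul_single,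
      CommSemiring.comul_apply, TensorProduct.map_tmul, LinearMap.lTensor_tmul, LinearEquiv.coe_coe,
      coeff0_single, TensorProduct.rid_tmul, LinearMap.toSpanSingleton_apply]
    by_cases hm : m = 0
    · subst hm; simp [AddMonoidAlgebra.one_def]
    · simp [hm]
  exact LinearMap.congr_fun h a

/-- Let k be a commutative ring, M a commutative monoid and V a right comodule over the monoid bialgebra
k[M] (a quasi-coherent module with an action of the diagonalizable monoid scheme Spec k[M]). Then
every 1-cocycle of the Hochschild complex of V is a 1-coboundary, i.e. the first Hochschild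
cohomology module of the diagonalizable monoid with coefficients in V is zero. (The source works
over an algebraic space with M finitely generated and cancellative, hypotheses it uses only to
identify modules under the monoid with comodules; the cocycle computation, which is the affine
statement given here, uses neither.) -/
theorem result (k : Type u) [CommRing k] (M : Type u)
    [AddCommMonoid M] (V : Type u) [AddCommGroup V] [Module k V]
    [HopfRep.Comod k (AddMonoidAlgebra k M) V] :
    Hoch.cocycles k (AddMonoidAlgebra k M) V 1 ≤ Hoch.coboundaries k (AddMonoidAlgebra k M) V 1 := by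
  intro x hx
  have hx0 : Hoch.d k (AddMonoidAlgebra k M) V 1 x = 0 := LinearMap.mem_ker.mp hx
  -- the homotopy
  obtain ⟨e, he⟩ : ∃ e : V ⊗[k] AddMonoidAlgebra k M →ₗ[k] V, ∀ v a, e (v ⊗ₜ[k] a) = coeff0 k M a • v :=
    ⟨(TensorProduct.rid k V).toLinearMap ∘ₗ (coeff0 k M).lTensor V, fun v a => by simp⟩
  obtain ⟨E, hE⟩ : ∃ E : (V ⊗[k] AddMonoidAlgebra k M) ⊗[k] AddMonoidAlgebra k M →ₗ[k]
      V ⊗[k] AddMonoidAlgebra k M, ∀ v a, E (v ⊗ₜ[k] a) = coeff0 k M a • v :=
    ⟨(TensorProduct.rid k (V ⊗[k] AddMonoidAlgebra k M)).toLinearMap ∘ₗ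
      (coeff0 k M).lTensor (V ⊗[k] AddMonoidAlgebra k M), fun v a => by simp⟩
  have key : E ∘ₗ ((Hoch.d k (AddMonoidAlgebra k M) V 0).rTensor (AddMonoidAlgebra k M) +
      ((-1 : k) ^ (0 + 1)) • Hoch.tail k (AddMonoidAlgebra k M) V) =
      Hoch.d k (AddMonoidAlgebra k M) V 0 ∘ₗ e + LinearMap.id := by
    refine TensorProduct.ext' fun v a => ?_
    have h1 : ∀ w : AddMonoidAlgebra k M ⊗[k] AddMonoidAlgebra k M,
        E ((TensorProduct.assoc k V (AddMonoidAlgebra k M) (AddMonoidAlgebra k M)).symm (v ⊗ₜ[k] w)) =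
        v ⊗ₜ[k] (TensorProduct.rid k (AddMonoidAlgebra k M)
          ((coeff0 k M).lTensor (AddMonoidAlgebra k M) w)) := by
      intro w
      induction w using TensorProduct.induction_on with
      | zero => simp
      | add z₁ z₂ h₁ h₂ => simp only [map_add, TensorProduct.tmul_add, h₁, h₂]
      | tmul a b => simp [hE]
    have h2 : E (Hoch.tail k (AddMonoidAlgebra k M) V (v ⊗ₜ[k] a)) = - (v ⊗ₜ[k] a) := by
      rw [Hoch.tail_tmul, h1, map_sub, map_sub, map_sub, map_sub, coeff0_comul, LinearMap.lTensor_tmul,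
        LinearMap.lTensor_tmul, coeff0_one, TensorProduct.rid_tmul, TensorProduct.rid_tmul, one_smul,
        sub_right_comm, sub_self, zero_sub, TensorProduct.tmul_neg]
    have h4 : E ((Hoch.d k (AddMonoidAlgebra k M) V 0) v ⊗ₜ[k] a) =
      coeff0 k M a • (Hoch.d k (AddMonoidAlgebra k M) V 0) v := hE _ _
    rw [LinearMap.comp_apply, LinearMap.add_apply, LinearMap.smul_apply, LinearMap.rTensor_tmul, map_add,
      map_smul, h2, LinearMap.add_apply, LinearMap.comp_apply, LinearMap.id_apply, h4]
    rw [he v a, map_smul]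
    simp
  have h : E (Hoch.d k (AddMonoidAlgebra k M) V 1 x) = Hoch.d k (AddMonoidAlgebra k M) V 0 (e x) + x :=
    LinearMap.congr_fun key x
  rw [hx0, map_zero] at h
  refine ⟨- e x, ?_⟩
  rw [map_neg]
  exact (eq_neg_of_add_eq_zero_right h.symm).symm

end Groth.Agent.S17677
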