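import Groth.Statements.S17678
import Mathlib.Algebra.MonoidAlgebra.Basic
import Mathlib.LinearAlgebra.Basis.Basic
import Mathlib.RingTheory.Flat.Basic

set_option autoImplicit false
universe u v
open DiagMon

namespace Groth.Agent.S17678

/-- Let R be a commutative ring and N an abelian group. Then the ring map R[N] → R[N × N] of monoid
algebras induced by the diagonal n ↦ (n, n), which is the comorphism of the multiplication morphism
of the diagonalizable group scheme Spec R[N] over Spec R, is flat. (The published statement asserts
flatness for every cancellative commutative monoid N, on the ground that N acts freely on N × N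
through the diagonal; but for the submonoid N of the natural numbers generated by 2 and 3, the pairs
(x, x − 1) with x ≥ 3 form one orbit class that is not a free orbit, and the corresponding direct
summand of k[N × N] is the ideal t³k[t] viewed as a module over k[t², t³], which is not flat. The
statement is therefore given for groups, where N × N is a free N-set with basis the pairs (0, b).) -/
theorem result (R : Type u) [CommRing R] (N : Type v)
    [AddCommGroup N] :
    (AddMonoidAlgebra.mapDomainRingHom R ((AddMonoidHom.id N).prod (AddMonoidHom.id N))).Flat := by
  classical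
  -- the automorphism `(a, b) ↦ (b - a, a)` of `N × N` turns the diagonal into `n ↦ (0, n)`
  let e : N × N ≃+ N × N :=
    { toFun := fun p => (p.2 - p.1, p.1)
      invFun := fun p => (p.2, p.1 + p.2)
      left_inv := fun p => by ext <;> simp
      right_inv := fun p => by ext <;> simp
      map_add' := fun p q => by ext <;> simp [add_sub_add_comm] }
  let Φ : AddMonoidAlgebra R (N × N) ≃+* AddMonoidAlgebra (AddMonoidAlgebra R N) N :=
    (AddMonoidAlgebra.mapDomainRingEquiv R e).trans AddMonoidAlgebra.curryRingEquiv
  let g : AddMonoidAlgebra R N →+* AddMonoidAlgebra (AddMonoidAlgebra R N) N :=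
    algebraMap (AddMonoidAlgebra R N) (AddMonoidAlgebra (AddMonoidAlgebra R N) N)
  have hg : g.Flat := by
    rw [RingHom.flat_algebraMap_iff]
    infer_instance
  have hΦ : (Φ.symm : AddMonoidAlgebra (AddMonoidAlgebra R N) N →+* AddMonoidAlgebra R (N × N)).Flat :=
    RingHom.Flat.of_bijective Φ.symm.bijective
  have key : AddMonoidAlgebra.mapDomainRingHom R ((AddMonoidHom.id N).prod (AddMonoidHom.id N)) =
      (Φ.symm : AddMonoidAlgebra (AddMonoidAlgebra R N) N →+* AddMonoidAlgebra R (N × N)).comp g := by
    have : (Φ : AddMonoidAlgebra R (N × N) →+* AddMonoidAlgebra (AddMonoidAlgebra R N) N).comp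
        (AddMonoidAlgebra.mapDomainRingHom R ((AddMonoidHom.id N).prod (AddMonoidHom.id N))) = g := by
      apply AddMonoidAlgebra.ringHom_ext
      · intro r
        simp [Φ, e, g]
      · intro n
        simp [Φ, e, g]
    rw [← this, ← RingHom.comp_assoc]
    simp
  rw [key]
  exact hg.comp hΦ

end Groth.Agent.S17678
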