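import Groth.Statements.S17679
import Mathlib.Tactic
import Mathlib.LinearAlgebra.FiniteDimensional.Basic
import Mathlib.LinearAlgebra.Dimension.Constructions

set_option autoImplicit false
open DiagMon

namespace Groth.Agent.S17679

/-- For n ≥ 1 the minimal number of generators of ℤ^n as an additive monoid is n + 1: some n + 1
elements generate ℤ^n as a monoid, and every finite set generating ℤ^n as a monoid has at least n +
1 elements. (For n = 0 the empty set generates the zero monoid, so the count n + 1 is stated for n ≥
1 only.) -/
theorem result (n : ℕ) (hn : 1 ≤ n) :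
    (∃ s : Finset (Fin n → ℤ), s.card = n + 1 ∧ AddSubmonoid.closure (s : Set (Fin n → ℤ)) = ⊤) ∧
    ∀ s : Finset (Fin n → ℤ), AddSubmonoid.closure (s : Set (Fin n → ℤ)) = ⊤ → n + 1 ≤ s.card := by
  classical
  constructor
  · let v : Fin n → ℤ := fun _ => -1
    have hinj : Function.Injective (fun i : Fin n => (Pi.single i (1 : ℤ) : Fin n → ℤ)) := by
      intro i j h
      by_contra hij
      have h1 := congrFun h i
      simp [Pi.single_apply, hij] at h1
    have hv : v ∉ Finset.univ.image (fun i : Fin n => (Pi.single i (1 : ℤ) : Fin n → ℤ)) := by
      intro h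
      obtain ⟨i, -, hi⟩ := Finset.mem_image.1 h
      have h1 := congrFun hi i
      simp [v] at h1
    refine ⟨insert v (Finset.univ.image fun i : Fin n => (Pi.single i (1 : ℤ) : Fin n → ℤ)), ?_, ?_⟩
    · rw [Finset.card_insert_of_notMem hv, Finset.card_image_of_injective _ hinj, Finset.card_univ,
        Fintype.card_fin]
    · set C := AddSubmonoid.closure
        ((insert v (Finset.univ.image fun i : Fin n => (Pi.single i (1 : ℤ) : Fin n → ℤ)) :
          Finset (Fin n → ℤ)) : Set (Fin n → ℤ)) with hC
      have hvC : v ∈ C := AddSubmonoid.subset_closure (by simp)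
      have he : ∀ i, (Pi.single i (1 : ℤ) : Fin n → ℤ) ∈ C := fun i =>
        AddSubmonoid.subset_closure (by simp)
      have hne : ∀ i, (Pi.single i (-1 : ℤ) : Fin n → ℤ) ∈ C := by
        intro i
        have h1 : (Pi.single i (-1 : ℤ) : Fin n → ℤ) =
            v + ∑ j ∈ Finset.univ.erase i, (Pi.single j (1 : ℤ) : Fin n → ℤ) := by
          funext k
          rw [Pi.add_apply, Finset.sum_apply]
          by_cases hk : k = i
          · subst hk
            rw [Finset.sum_eq_zero]
            · simp [v]
            · intro j hj
              rw [Finset.mem_erase] at hj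
              simp [Pi.single_apply, hj.1.symm]
          · rw [Finset.sum_eq_single k]
            · simp [v, Pi.single_apply, hk]
            · intro j _ hj
              simp [Pi.single_apply, hj.symm]
            · intro h
              exact absurd (Finset.mem_erase.2 ⟨hk, Finset.mem_univ k⟩) h
        rw [h1]
        exact C.add_mem hvC (C.sum_mem fun j _ => he j)
      have hk : ∀ (i : Fin n) (k : ℤ), (Pi.single i k : Fin n → ℤ) ∈ C := by
        intro i k
        obtain ⟨m, rfl | rfl⟩ := Int.eq_nat_or_neg k
        · have : (Pi.single i (m : ℤ) : Fin n → ℤ) = m • (Pi.single i (1 : ℤ) : Fin n → ℤ) := by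
            rw [← Pi.single_smul]
            simp
          rw [this]
          exact C.nsmul_mem (he i) m
        · have : (Pi.single i (-(m : ℤ)) : Fin n → ℤ) = m • (Pi.single i (-1 : ℤ) : Fin n → ℤ) := by
            rw [← Pi.single_smul]
            simp
          rw [this]
          exact C.nsmul_mem (hne i) m
      rw [eq_top_iff]
      intro x _
      rw [← Finset.univ_sum_single x]
      exact C.sum_mem fun i _ => hk i (x i)
  · intro s hs
    -- the pairing of rational linear forms with the elements of `s`
    let T : (Fin n → ℚ) →ₗ[ℚ] (s → ℚ) :=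
      { toFun := fun c x => ∑ i, c i * ((x : Fin n → ℤ) i : ℚ)
        map_add' := fun c d => by
          funext x
          simp [add_mul, Finset.sum_add_distrib]
        map_smul' := fun r c => by
          funext x
          simp [Finset.mul_sum, mul_assoc] }
    let φ : (Fin n → ℚ) → ((Fin n → ℤ) →+ ℚ) := fun c =>
      { toFun := fun x => ∑ i, c i * ((x : Fin n → ℤ) i : ℚ)
        map_zero' := by simp
        map_add' := fun x y => by simp [mul_add, Finset.sum_add_distrib] }
    have hT : Function.Injective T := by
      rw [← LinearMap.ker_eq_bot, LinearMap.ker_eq_bot']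
      intro c hc
      have h1 : φ c = 0 := by
        have h2 : AddSubmonoid.closure (s : Set (Fin n → ℤ)) ≤ AddMonoidHom.mker (φ c) := by
          rw [AddSubmonoid.closure_le]
          intro x hx
          exact congrFun hc ⟨x, hx⟩
        rw [hs] at h2
        exact AddMonoidHom.ext fun x => h2 (AddSubmonoid.mem_top x)
      funext i
      have h3 := DFunLike.congr_fun h1 (Pi.single i (1 : ℤ) : Fin n → ℤ)
      have h4 : φ c (Pi.single i (1 : ℤ)) = c i := by
        change ∑ j, c j * (((Pi.single i (1 : ℤ) : Fin n → ℤ) j : ℤ) : ℚ) = c i
        rw [Finset.sum_eq_single i]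
        · simp
        · intro j _ hj
          simp [Pi.single_apply, hj]
        · intro h
          exact absurd (Finset.mem_univ i) h
      rw [h4] at h3
      exact h3
    by_contra hlt
    have hcard : s.card ≤ n := by omega
    have hfr : Module.finrank ℚ (Fin n → ℚ) = Module.finrank ℚ (s → ℚ) := by
      apply le_antisymm
      · exact LinearMap.finrank_le_finrank_of_injective hT
      · rw [Module.finrank_fintype_fun_eq_card, Module.finrank_fintype_fun_eq_card,
          Fintype.card_coe, Fintype.card_fin]
        exact hcard
    have hsurj : Function.Surjective T :=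
      (LinearMap.injective_iff_surjective_of_finrank_eq_finrank hfr).1 hT
    obtain ⟨c, hc⟩ := hsurj (fun _ => 1)
    have hpos : ∀ x : Fin n → ℤ, 0 ≤ φ c x := by
      intro x
      have hx : x ∈ AddSubmonoid.closure (s : Set (Fin n → ℤ)) := by rw [hs]; trivial
      induction hx using AddSubmonoid.closure_induction with
      | mem x hx =>
        have : φ c x = 1 := congrFun hc ⟨x, hx⟩
        rw [this]
        exact zero_le_one
      | zero => rw [map_zero]
      | add x y _ _ hx hy => rw [map_add]; exact add_nonneg hx hy
    have hne : s.Nonempty := by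
      rw [Finset.nonempty_iff_ne_empty]
      rintro rfl
      rw [Module.finrank_fintype_fun_eq_card, Module.finrank_fintype_fun_eq_card,
          Fintype.card_coe, Fintype.card_fin] at hfr
      simp at hfr
      omega
    obtain ⟨x, hx⟩ := hne
    have h1 : φ c x = 1 := congrFun hc ⟨x, hx⟩
    have h2 := hpos (-x)
    rw [map_neg, h1] at h2
    norm_num at h2

end Groth.Agent.S17679
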