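import Groth.Statements.S17680
import Groth.Agent.AlgGrp.K410.FixGlobal

set_option autoImplicit false
universe u
open CategoryTheory MonoidalCategory CartesianMonoidalCategory MonObj GrpObj AlgebraicGeometry
open AlgGrp

namespace Groth.Agent.S17680

/-- Let S be a scheme, G a flat S-group scheme of finite presentation with connected fibres, and X an
S-scheme locally of finite presentation on which G acts; assume that S is locally Noetherian or that
X is quasi-separated over S. Then the subfunctor of G-fixed points of X, whose T-points are the
T-points x of X with g · x_{T'} = x_{T'} for every S-scheme T' over T and every T'-point g of G, is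
represented by a closed subscheme of X whose inclusion is of finite presentation. (The source allows
X to be an algebraic space over S; this row is the case of a scheme.) -/
theorem result (S : Scheme.{u})
    (G : Over S) [GrpObj G] [Flat G.hom] [LocallyOfFinitePresentation G.hom] [QuasiCompact G.hom]
    [QuasiSeparated G.hom] (hconn : ∀ s : S, ConnectedSpace (G.hom.fiber s))
    (X : Over S) [LocallyOfFinitePresentation X.hom] (hS : IsLocallyNoetherian S ∨ QuasiSeparated X.hom)
    (a : AlgGrp.Action G X) :
    ∃ (F : Scheme.{u}) (f : F ⟶ X.left), IsClosedImmersion f ∧ LocallyOfFinitePresentation f ∧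
      ∀ (T : Over S) (x : T ⟶ X), (∃ y : T.left ⟶ F, y ≫ f = x.left) ↔
        ∀ (T' : Over S) (t : T' ⟶ T) (g : T' ⟶ G), lift g (t ≫ x) ≫ a.act = t ≫ x := by
  have hG : GeometricallyIrreducible G.hom := by
    let _ : GrpObj (Over.mk G.hom) := inferInstanceAs (GrpObj G)
    refine Groth.Agent.Sga3C.GrpIrr.geometricallyIrreducible_of_connected_fibres G.hom (fun s ↦ ?_)
    have h1 := hconn s
    rw [isConnected_iff_connectedSpace]
    exact (G.hom.fiberHomeo s).surjective.connectedSpace (G.hom.fiberHomeo s).continuous
  obtain ⟨K, k, hk, hkp, hK⟩ := K410.FixGlobal.exists_fixed a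
  refine ⟨K.left, k.left, hk, hkp, fun T x ↦ ?_⟩
  refine Iff.trans ?_ (hK T x).symm
  constructor
  · rintro ⟨y, hy⟩
    refine ⟨Over.homMk y ?_, ?_⟩
    · rw [← Over.w k, ← Category.assoc, hy, Over.w x]
    · ext1
      exact hy
  · rintro ⟨h, hh⟩
    exact ⟨h.left, congrArg CommaMorphism.left hh⟩

end Groth.Agent.S17680
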