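import Groth.Statements.S17681
import Groth.Agent.AlgGrp.K410.ConnFib

set_option autoImplicit false
universe u
open CategoryTheory MonoidalCategory CartesianMonoidalCategory MonObj GrpObj AlgebraicGeometry
open AlgGrp

namespace Groth.Agent.S17681

/-- Let S be a scheme, G a flat S-group scheme of finite presentation with connected fibres, X and Y
S-schemes locally of finite presentation with actions of G, and f : X → Y an étale G-equivariant
S-morphism; assume that S is locally Noetherian or that X and Y are quasi-separated over S. Then f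
reflects fixed points: a T-point x of X whose image in Y is fixed by G after every base change T' →
T is itself fixed by G after every base change, so that the fixed-point subfunctor of X is the
preimage of that of Y. (The source allows X and Y to be algebraic spaces over S; this row is the
case of schemes.) -/
theorem result (S : Scheme.{u})
    (G : Over S) [GrpObj G] [Flat G.hom] [LocallyOfFinitePresentation G.hom] [QuasiCompact G.hom]
    [QuasiSeparated G.hom] (hconn : ∀ s : S, ConnectedSpace (G.hom.fiber s))
    (X Y : Over S) [LocallyOfFinitePresentation X.hom] [LocallyOfFinitePresentation Y.hom]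
    (hS : IsLocallyNoetherian S ∨ (QuasiSeparated X.hom ∧ QuasiSeparated Y.hom))
    (a : AlgGrp.Action G X) (b : AlgGrp.Action G Y) (f : X ⟶ Y) [Etale f.left]
    (hf : a.act ≫ f = (G ◁ f) ≫ b.act) (T : Over S) (x : T ⟶ X)
    (hx : ∀ (T' : Over S) (t : T' ⟶ T) (g : T' ⟶ G), lift g (t ≫ x ≫ f) ≫ b.act = t ≫ x ≫ f)
    (T' : Over S) (t : T' ⟶ T) (g : T' ⟶ G) : lift g (t ≫ x) ≫ a.act = t ≫ x := by
  have hG : GeometricallyConnected G.hom := by
    refine K410.ConnFib.geometricallyConnected_of_section G.hom η[G].left ?_ hconn
    exact Over.w η[G]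
  -- the orbit map and the constant map
  let o : G ⊗ T ⟶ X := lift (fst G T) (snd G T ≫ x) ≫ a.act
  let c : G ⊗ T ⟶ X := snd G T ≫ x
  have ho : o ≫ f = snd G T ≫ (x ≫ f) := by
    have := hx (G ⊗ T) (snd G T) (fst G T)
    simp only [o, Category.assoc, hf]
    rw [← this, lift_whiskerLeft_assoc]
    simp
  have hc : c ≫ f = snd G T ≫ (x ≫ f) := by simp [c]
  let e : T ⟶ G ⊗ T := lift (toUnit T ≫ η[G]) (𝟙 T)
  have he : e ≫ snd G T = 𝟙 T := by simp [e]
  have heo : e ≫ o = x := by
    have h1 : e ≫ lift (fst G T) (snd G T ≫ x) = lift (toUnit T) x ≫ (η[G] ▷ X) := by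
      ext1 <;> simp [e]
    simp only [o]
    rw [← Category.assoc, h1, Category.assoc, a.one_act]
    simp
  have hec : e ≫ c = x := by simp [e, c]
  have hsnd : GeometricallyConnected (snd G T).left := by
    rw [Over.snd_left]
    infer_instance
  have hoc : o = c := by
    ext1
    exact K410.ConnFib.eq_of_etale_of_section (snd G T).left e.left (by rw [← Over.comp_left, he]; rfl)
      o.left c.left f.left (x ≫ f).left (by rw [← Over.comp_left, ho]; rfl) (by rw [← Over.comp_left, hc]; rfl)
      (by rw [← Over.comp_left, ← Over.comp_left, heo, hec])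
  have h1 : lift g t ≫ o = lift g (t ≫ x) ≫ a.act := by
    simp only [o]
    rw [← Category.assoc]
    congr 1
    ext1 <;> simp
  rw [← h1, hoc]
  simp [c]

end Groth.Agent.S17681
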