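import Groth.Statements.S17683

set_option autoImplicit false
universe u
open DiagMon

namespace Groth.Agent.S17683

/-- Let N be a commutative monoid and F a submonoid of N. The additive projection ℤ[N] → ℤ[F] of monoid
algebras keeping the monomials with exponent in F and killing the others is multiplicative, i.e. F
is a face of N, if and only if for all x, y in N the sum x + y lies in F exactly when both x and y
do. -/
theorem result {N : Type u} [AddCommMonoid N] (F : AddSubmonoid N) :
    (∀ a b : AddMonoidAlgebra ℤ N,
        AddMonoidAlgebra.comapDomain ((↑) : F → N) Subtype.val_injective (a * b) =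
          AddMonoidAlgebra.comapDomain ((↑) : F → N) Subtype.val_injective a *
            AddMonoidAlgebra.comapDomain ((↑) : F → N) Subtype.val_injective b) ↔
      ∀ x y : N, x + y ∈ F ↔ (x ∈ F ∧ y ∈ F) := by
  classical
  have h1 : ∀ (x : N) (hx : x ∈ F) (r : ℤ),
      AddMonoidAlgebra.comapDomain ((↑) : F → N) Subtype.val_injective
        (AddMonoidAlgebra.single x r) = AddMonoidAlgebra.single (⟨x, hx⟩ : F) r := by
    intro x hx r
    exact AddMonoidAlgebra.comapDomain_single_map ((↑) : F → N) Subtype.val_injective ⟨x, hx⟩ r
  have h2 : ∀ (x : N) (_ : x ∉ F) (r : ℤ),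
      AddMonoidAlgebra.comapDomain ((↑) : F → N) Subtype.val_injective
        (AddMonoidAlgebra.single x r) = 0 := by
    intro x hx r
    apply AddMonoidAlgebra.coeff_injective
    ext m
    have hm : x ≠ (m : N) := fun h => hx (h ▸ m.2)
    simp [AddMonoidAlgebra.coeff_comapDomain, Finsupp.comapDomain_apply, Finsupp.single_apply, hm]
  constructor
  · intro h x y
    refine ⟨fun hxy => ?_, fun hxy => F.add_mem hxy.1 hxy.2⟩
    have h3 := h (AddMonoidAlgebra.single x 1) (AddMonoidAlgebra.single y 1)
    rw [AddMonoidAlgebra.single_mul_single, h1 _ hxy] at h3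
    have hne : (AddMonoidAlgebra.single (⟨x + y, hxy⟩ : F) ((1 : ℤ) * 1)) ≠ 0 := by
      rw [Ne, AddMonoidAlgebra.single_eq_zero]
      decide
    rw [h3] at hne
    constructor
    · by_contra hx
      exact hne (by rw [h2 x hx, zero_mul])
    · by_contra hy
      exact hne (by rw [h2 y hy, mul_zero])
  · intro h a b
    induction a using AddMonoidAlgebra.induction_linear with
    | zero => rw [zero_mul, AddMonoidAlgebra.comapDomain_zero, zero_mul]
    | add a a' ha ha' =>
      rw [add_mul, AddMonoidAlgebra.comapDomain_add, AddMonoidAlgebra.comapDomain_add, add_mul, ha, ha']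
    | single x r =>
      induction b using AddMonoidAlgebra.induction_linear with
      | zero => rw [mul_zero, AddMonoidAlgebra.comapDomain_zero, mul_zero]
      | add b b' hb hb' =>
        rw [mul_add, AddMonoidAlgebra.comapDomain_add, AddMonoidAlgebra.comapDomain_add, mul_add, hb, hb']
      | single y s =>
        rw [AddMonoidAlgebra.single_mul_single]
        by_cases hxy : x + y ∈ F
        · obtain ⟨hx, hy⟩ := (h x y).1 hxy
          rw [h1 _ hxy, h1 _ hx, h1 _ hy, AddMonoidAlgebra.single_mul_single]
          rfl
        · rw [h2 _ hxy]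
          by_cases hx : x ∈ F
          · have hy : y ∉ F := fun hy => hxy ((h x y).2 ⟨hx, hy⟩)
            rw [h2 _ hy, mul_zero]
          · rw [h2 _ hx, zero_mul]

end Groth.Agent.S17683
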