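import Groth.Statements.S17686

set_option autoImplicit false
universe u v w
open DiagMon

namespace Groth.Agent.S17686

/-- Let R be a commutative ring, A a commutative R-algebra graded by a commutative monoid M, and J the
map sending a submonoid N of M to the ideal of A generated by the homogeneous elements of degree not
in N (the ideal of the attractor of Spec A for the magnet N). Say N is a pure magnet when J N = J L
implies N ⊆ L. Then for every submonoid N₀ the intersection E of all submonoids N with J N = J N₀
satisfies J E = J N₀ and is a pure magnet, and E = N₀ when N₀ is itself pure: pure magnets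
correspond bijectively to attractors. -/
theorem result (R : Type u) [CommRing R] (A : Type v) [CommRing A]
    [Algebra R A] (M : Type w) [AddCommMonoid M] [DecidableEq M] (𝒜 : M → Submodule R A) [GradedAlgebra 𝒜]
    (J : AddSubmonoid M → Ideal A) (hJ : ∀ N, J N = Ideal.span {a : A | ∃ m : M, m ∉ N ∧ a ∈ 𝒜 m}) (N₀ : AddSubmonoid M) :
    J (sInf {N | J N = J N₀}) = J N₀ ∧
      (∀ L, J (sInf {N | J N = J N₀}) = J L → sInf {N | J N = J N₀} ≤ L) ∧
      ((∀ L, J N₀ = J L → N₀ ≤ L) → sInf {N | J N = J N₀} = N₀) := by
  classical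
  -- pure magnets
  set E := sInf {N | J N = J N₀} with hE
  have hmono : ∀ {N L : AddSubmonoid M}, J N ≤ J L ↔
      ∀ m, m ∉ N → ∀ a ∈ 𝒜 m, a ∈ J L := by
    intro N L
    rw [hJ N, Ideal.span_le]
    constructor
    · intro h m hm a ha
      exact h ⟨m, hm, ha⟩
    · rintro h a ⟨m, hm, ha⟩
      exact h m hm a ha
  have hEle : ∀ {N : AddSubmonoid M}, J N = J N₀ → E ≤ N := fun {N} hN => sInf_le hN
  have h1 : J E = J N₀ := by
    apply le_antisymm
    · rw [hmono]
      intro m hm a ha
      rw [hE, AddSubmonoid.mem_sInf] at hm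
      push Not at hm
      obtain ⟨N, hN, hmN⟩ := hm
      rw [← (show J N = J N₀ from hN), hJ N]
      exact Ideal.subset_span ⟨m, hmN, ha⟩
    · rw [hmono]
      intro m hm a ha
      rw [hJ E]
      exact Ideal.subset_span ⟨m, fun h => hm (hEle rfl h), ha⟩
  refine ⟨h1, fun L hL => hEle (hL.symm.trans h1), fun h => ?_⟩
  exact le_antisymm (hEle rfl) (h E h1.symm)

end Groth.Agent.S17686
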