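import Groth.Statements.S17687

set_option autoImplicit false
universe u v w
open DiagMon

namespace Groth.Agent.S17687

/-- Let R be a commutative ring and A a commutative R-algebra of finite type graded by a commutative
monoid M. Then the set of ideals J_N, N running over all submonoids of M, where J_N is generated by
the homogeneous elements of degree not in N (the ideal of the attractor of Spec A for the magnet N),
is finite: Spec A has finitely many attractors and hence finitely many pure magnets. (The source
assumes Spec A of finite presentation over the base; its proof uses only a finite set of homogeneous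
algebra generators, so finite type is assumed here.) -/
theorem result (R : Type u) [CommRing R] (A : Type v) [CommRing A]
    [Algebra R A] [Algebra.FiniteType R A] (M : Type w) [AddCommMonoid M] [DecidableEq M]
    (𝒜 : M → Submodule R A) [GradedAlgebra 𝒜] :
    (Set.range fun N : AddSubmonoid M => Ideal.span {a : A | ∃ m : M, m ∉ N ∧ a ∈ 𝒜 m}).Finite := by
  classical
  obtain ⟨s, hs⟩ := Algebra.FiniteType.out (R := R) (A := A)
  -- the homogeneous components of a finite set of generators, with their degrees
  let T : Finset (M × A) := s.biUnion fun a =>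
    (DirectSum.decompose 𝒜 a).support.image fun m => (m, ((DirectSum.decompose 𝒜 a m : 𝒜 m) : A))
  have hTdeg : ∀ p ∈ T, p.2 ∈ 𝒜 p.1 := by
    intro p hp
    obtain ⟨a, -, ha⟩ := Finset.mem_biUnion.1 hp
    obtain ⟨m, -, rfl⟩ := Finset.mem_image.1 ha
    exact (DirectSum.decompose 𝒜 a m).2
  have hgen : Algebra.adjoin R (Prod.snd '' (T : Set (M × A))) = ⊤ := by
    rw [eq_top_iff, ← hs]
    apply Algebra.adjoin_le
    intro a ha
    rw [← DirectSum.sum_support_decompose 𝒜 a]
    apply Subalgebra.sum_mem
    intro m hm
    apply Algebra.subset_adjoin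
    refine ⟨(m, ((DirectSum.decompose 𝒜 a m : 𝒜 m) : A)), ?_, rfl⟩
    exact Finset.mem_biUnion.2 ⟨a, ha, Finset.mem_image.2 ⟨m, hm, rfl⟩⟩
  -- the ideal only depends on the degrees of the generators outside `N`
  have key : ∀ N : AddSubmonoid M, Ideal.span {a : A | ∃ m : M, m ∉ N ∧ a ∈ 𝒜 m} =
      Ideal.span {a : A | ∃ p ∈ T.filter (fun p => p.1 ∉ N), a = p.2} := by
    intro N
    set J' := Ideal.span {a : A | ∃ p ∈ T.filter (fun p => p.1 ∉ N), a = p.2} with hJ'
    apply le_antisymm
    · let H : Submonoid A :=
        { carrier := {x | ∃ m, x ∈ 𝒜 m ∧ (m ∉ N → x ∈ J')}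
          one_mem' := ⟨0, SetLike.GradedOne.one_mem, fun h => absurd N.zero_mem h⟩
          mul_mem' := by
            rintro x y ⟨m, hx, hx'⟩ ⟨n, hy, hy'⟩
            refine ⟨m + n, SetLike.GradedMul.mul_mem hx hy, fun h => ?_⟩
            by_cases hm : m ∈ N
            · have hn : n ∉ N := fun hn => h (N.add_mem hm hn)
              exact J'.mul_mem_left _ (hy' hn)
            · exact J'.mul_mem_right _ (hx' hm) }
      have hTH : Submonoid.closure (Prod.snd '' (T : Set (M × A))) ≤ H := by
        rw [Submonoid.closure_le]
        rintro _ ⟨p, hp, rfl⟩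
        exact ⟨p.1, hTdeg p hp, fun h => Ideal.subset_span ⟨p, Finset.mem_filter.2 ⟨hp, h⟩, rfl⟩⟩
      have hspan : Submodule.span R (H : Set A) = ⊤ := by
        rw [eq_top_iff]
        have h1 : Subalgebra.toSubmodule (Algebra.adjoin R (Prod.snd '' (T : Set (M × A)))) = ⊤ := by
          rw [hgen, Algebra.top_toSubmodule]
        rw [← h1, Algebra.adjoin_eq_span]
        exact Submodule.span_mono hTH
      have hcomp : ∀ b : A, ∀ m, m ∉ N → ((DirectSum.decompose 𝒜 b m : 𝒜 m) : A) ∈ J' := by
        intro b
        have hb : b ∈ Submodule.span R (H : Set A) := by rw [hspan]; trivial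
        induction hb using Submodule.span_induction with
        | mem x hx =>
          intro m hm
          obtain ⟨n, hxn, hxJ⟩ := hx
          by_cases hmn : n = m
          · subst hmn
            rw [DirectSum.decompose_of_mem_same 𝒜 hxn]
            exact hxJ hm
          · rw [DirectSum.decompose_of_mem_ne 𝒜 hxn hmn]
            exact J'.zero_mem
        | zero =>
          intro m _
          rw [DirectSum.decompose_zero]
          exact J'.zero_mem
        | add x y _ _ hx hy =>
          intro m hm
          rw [DirectSum.decompose_add, DirectSum.add_apply, Submodule.coe_add]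
          exact J'.add_mem (hx m hm) (hy m hm)
        | smul r x _ hx =>
          intro m hm
          rw [DirectSum.decompose_smul, DirectSum.smul_apply, Submodule.coe_smul, Algebra.smul_def]
          exact J'.mul_mem_left _ (hx m hm)
      rw [Ideal.span_le]
      rintro a ⟨m, hm, ha⟩
      have h1 := hcomp a m hm
      rwa [DirectSum.decompose_of_mem_same 𝒜 ha] at h1
    · rw [Ideal.span_le]
      rintro a ⟨p, hp, rfl⟩
      obtain ⟨hpT, hpN⟩ := Finset.mem_filter.1 hp
      exact Ideal.subset_span ⟨p.1, hpN, hTdeg p hpT⟩
  -- finitely many subsets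
  refine Set.Finite.subset (Set.Finite.image
    (fun T' : Finset (M × A) => Ideal.span {a : A | ∃ p ∈ T', a = p.2})
    (Finset.finite_toSet T.powerset)) ?_
  rintro _ ⟨N, rfl⟩
  refine ⟨T.filter (fun p => p.1 ∉ N), ?_, ?_⟩
  · exact Finset.mem_coe.2 (Finset.mem_powerset.2 (Finset.filter_subset _ _))
  · exact (key N).symm

end Groth.Agent.S17687
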