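import Groth.Statements.S17688
import Groth.Agent.Neron.K489.GenExt

set_option autoImplicit false
universe u
open CategoryTheory CategoryTheory.Limits AlgebraicGeometry MonObj
open Neron

namespace Groth.Agent.S17688

/-- Let R be a discrete valuation ring whose fraction field K has characteristic p > 0, and let U be a
flat, separated, commutative group scheme over Spec R whose generic fibre U_K is annihilated by a
power p^N of p (in the group of endomorphisms of U_K as a K-scheme, the p^N-th power of the identity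
is the unit). Then for every prime ℓ invertible in R the ℓ-th power map of U (the ℓ-th power of the
identity in the group of R-morphisms U → U) is an isomorphism. -/
theorem result
    (R : Type u) [CommRing R] [IsDomain R] [IsDiscreteValuationRing R]
    (p : ℕ) (hp : p.Prime) [CharP (FractionRing R) p]
    (U : Over (Spec (CommRingCat.of R))) [GrpObj U] [IsCommMonObj U] [Flat U.hom] [IsSeparated U.hom]
    (N : ℕ) (hN : (𝟙 (Red.bc (Neron.genPt R) U) : Red.bc (Neron.genPt R) U ⟶ Red.bc (Neron.genPt R) U) ^ (p ^ N) = 1)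
    (ℓ : ℕ) (hℓ : ℓ.Prime) (hℓu : IsUnit (ℓ : R)) :
    IsIso ((𝟙 U : U ⟶ U) ^ ℓ) := by
  have h1 : (𝟙 U : U ⟶ U) ^ (p ^ N) = 1 := by
    apply K489.GenExt.hom_ext (FractionRing R)
    have e1 := map_pow (Functor.homMonoidHom (F := Over.pullback (Neron.genPt R)) (X := U) (M := U)) (𝟙 U) (p ^ N)
    have e2 := map_one (Functor.homMonoidHom (F := Over.pullback (Neron.genPt R)) (X := U) (M := U))
    change (Over.pullback (Neron.genPt R)).map _ = _ at e1
    change (Over.pullback (Neron.genPt R)).map _ = _ at e2
    rw [e1, e2]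
    change ((Over.pullback (Neron.genPt R)).map (𝟙 U)) ^ (p ^ N) = 1
    rw [CategoryTheory.Functor.map_id]
    exact hN
  have hpl : p ≠ ℓ := by
    rintro rfl
    have : (p : FractionRing R) = 0 := CharP.cast_eq_zero _ _
    have h2 := hℓu.map (algebraMap R (FractionRing R))
    rw [map_natCast, this] at h2
    exact not_isUnit_zero h2
  have hcop : Nat.Coprime ℓ (p ^ N) :=
    Nat.Coprime.pow_right _ ((Nat.coprime_primes hℓ hp).mpr hpl.symm)
  by_cases h0 : p ^ N = 1
  · rw [h0, pow_one] at h1
    have : IsIso (𝟙 U) := inferInstance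
    have h3 : (𝟙 U : U ⟶ U) ^ ℓ = 𝟙 U := by
      rw [h1, one_pow]
    rw [h3]; infer_instance
  · have hpos : 1 < p ^ N := by
      have := Nat.pos_of_ne_zero (pow_ne_zero N hp.ne_zero)
      omega
    obtain ⟨a, ha⟩ := Nat.exists_mul_mod_eq_one_of_coprime hcop hpos
    have h4 : (𝟙 U : U ⟶ U) ^ (ℓ * a) = 𝟙 U := by
      have : ℓ * a = p ^ N * (ℓ * a / p ^ N) + 1 := by
        have := Nat.div_add_mod (ℓ * a) (p ^ N)
        rw [ha.2] at this
        exact this.symm
      rw [this, pow_succ, pow_mul, h1, one_pow, _root_.one_mul]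
    refine ⟨(𝟙 U : U ⟶ U) ^ a, ?_, ?_⟩
    · rw [MonObj.comp_pow, Category.comp_id, ← pow_mul, h4]
    · rw [MonObj.comp_pow, Category.comp_id, ← pow_mul, mul_comm, h4]

end Groth.Agent.S17688
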