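import Groth.Statements.S17691
import Groth.Agent.Neron.K491.PATower
import Groth.Agent.Neron.K362.DvrFin
import Groth.Agent.Neron.K131.SHFrac
import Groth.Agent.S16066

set_option autoImplicit false
attribute [-instance] CategoryTheory.catToReflQuiver
universe u
open CategoryTheory CategoryTheory.Limits MonoidalCategory CartesianMonoidalCategory AlgebraicGeometry MonObj
open Neron

namespace Groth.Agent.S17691

/-- Let R be an excellent discrete valuation ring of equal characteristic p > 0, K its fraction field,
and P a pseudo-abelian variety over K, that is a smooth connected commutative K-group scheme of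
finite type all of whose smooth connected affine closed subgroup schemes are trivial (unit section
an isomorphism). Then P admits a Néron model over Spec R which is of finite type: there is a smooth,
separated, quasi-compact R-scheme N, locally of finite type, with an identification of its generic
fibre with P, such that for every smooth R-scheme Y restriction to the generic fibre is a bijection
from R-morphisms Y → N onto K-morphisms Y_K → P. -/
theorem result
    (R : Type u) [CommRing R] [IsDomain R] [IsDiscreteValuationRing R] (hR : EGA4.IsExcellent R)
    (p : ℕ) (hp : p.Prime) [CharP R p]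
    (P : Over (Spec (CommRingCat.of (FractionRing R)))) [GrpObj P] [IsCommMonObj P]
    [Smooth P.hom] [LocallyOfFiniteType P.hom] [QuasiCompact P.hom] [ConnectedSpace ↥P.left]
    (hP : ∀ (H : Over (Spec (CommRingCat.of (FractionRing R)))) [GrpObj H] (j : H ⟶ P) [IsMonHom j],
      IsClosedImmersion j.left → Smooth H.hom → ConnectedSpace ↥H.left → IsAffine H.left → IsIso η[H]) :
    ∃ (N : Over (Spec (CommRingCat.of R))) (e : (Neron.genericFibre R).obj N ≅ P), Neron.IsNeronModelOf R N P e := by
  have hpf : Fact p.Prime := ⟨hp⟩
  have hsep : IsSeparated P.hom := Books.AntiAffine.isSeparated_hom P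
  refine K362.DvrFin.exists_isNeronModelOf R hR P ?_
  intro R' K' _ _ _ _ _ _ _ _ _ _ _ _ _ _ _ hR'
  let g : Spec (CommRingCat.of K') ⟶ Spec (CommRingCat.of (FractionRing R)) :=
    Spec.map (CommRingCat.ofHom (algebraMap (FractionRing R) K'))
  have hKp : CharP (FractionRing R) p :=
    charP_of_injective_algebraMap (IsFractionRing.injective R (FractionRing R)) p
  have hKp' : CharP K' p := charP_of_injective_algebraMap (algebraMap (FractionRing R) K').injective p
  have hs : Algebra.IsSeparable (FractionRing R) K' := K131.SHFrac.isSeparable (R := R) (R' := R') (by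
    rw [← IsScalarTower.algebraMap_eq R (FractionRing R) K', ← IsScalarTower.algebraMap_eq R R' K'])
  have h1 : Smooth (Red.bc g P).hom := inferInstanceAs (Smooth (pullback.snd P.hom g))
  have h2 : QuasiCompact (Red.bc g P).hom := inferInstanceAs (QuasiCompact (pullback.snd P.hom g))
  have h3 : IrreducibleSpace (Red.bc g P).left := K489.FieldBc.irreducibleSpace_bc' g P
  refine K491.PATower.bdd_pa R' K' hR' p (Red.bc g P) ?_
  intro H _ j _ h4 h5 h6 h7
  exact Groth.Agent.S16066.result (FractionRing R) P (fun H _ j _ h4 h5 h6 h7 _ => hP H j h4 h5 h6 h7) K' H j h4 h5 h6 h7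
    (K753.MaxAff.isNormalHom_of_comm j)

end Groth.Agent.S17691
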