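import Groth.Statements.S17695
import Groth.Agent.Neron.K489.PseudoAb
import Groth.Agent.Neron.K489.PA95
import Groth.Agent.S4054
import Groth.Agent.S3210

set_option autoImplicit false
universe u
open CategoryTheory CategoryTheory.Limits MonoidalCategory CartesianMonoidalCategory AlgebraicGeometry MonObj
open Neron

namespace Groth.Agent.S17695

/-- (iv) ⇒ (v): let R be an excellent discrete valuation ring of equal characteristic p > 0 with
fraction field K, Ω a separable closure of K, W a valuation subring of Ω lying over R (its inertia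
group consists of the K-automorphisms of Ω preserving W and acting trivially on its residue field),
and P a pseudo-abelian variety over K, that is a smooth connected commutative K-group scheme of
finite type all of whose smooth connected affine closed subgroup schemes are trivial (unit section
an isomorphism). If for some prime ℓ invertible in R the inertia group at W acts trivially on all
ℓ-power torsion Ω-points of P (the ℓ-adic Tate module of P is unramified), then for every prime ℓ'
invertible in R the inertia group acts trivially on all ℓ'-power torsion Ω-points of P. (The other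
equivalent conditions of the published statement, good reduction of P, of the Weil restriction of A
and of A, are defined through the virtual abelian rank and are not stated here.) -/
theorem result
    (R K Ω : Type u) [CommRing R] [IsDomain R] [IsDiscreteValuationRing R] (hR : EGA4.IsExcellent R)
    (p : ℕ) (hp : p.Prime) [CharP R p]
    [Field K] [Algebra R K] [IsFractionRing R K] [Field Ω] [Algebra K Ω] [IsSepClosure K Ω]
    (W : ValuationSubring Ω) (hW : SGA7.LiesOver K R W)
    (P : Over (Spec (CommRingCat.of K))) [GrpObj P] [IsCommMonObj P]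
    [Smooth P.hom] [LocallyOfFiniteType P.hom] [QuasiCompact P.hom] [ConnectedSpace ↥P.left]
    (hP : ∀ (H : Over (Spec (CommRingCat.of K))) [GrpObj H] (j : H ⟶ P) [IsMonHom j],
      IsClosedImmersion j.left → Smooth H.hom → ConnectedSpace ↥H.left → IsAffine H.left → IsIso η[H])
    (ℓ : ℕ) (hℓ : ℓ.Prime) (hℓu : IsUnit (ℓ : R)) (h : ∀ ν : ℕ, SGA7.InertiaTrivialOn W P (ℓ ^ ν))
    (ℓ' : ℕ) (hℓ' : ℓ'.Prime) (hℓ'u : IsUnit (ℓ' : R)) :
    ∀ ν : ℕ, SGA7.InertiaTrivialOn W P (ℓ' ^ ν) := by
  have hres := K489.PA96.natCast_residue_ne_zero R ℓ hℓu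
  have hres' := K489.PA96.natCast_residue_ne_zero R ℓ' hℓ'u
  have : Fact p.Prime := ⟨hp⟩
  have hcK : CharP K p := K489.PA96.charP_of_dvr R K p
  obtain ⟨N, E, _, f, j, h1, h2, h3, h4, h5, h6, h7, h8, h9, h10⟩ := K489.PseudoAb.exists_abelian K p P hP
  have hm : Mono j := Groth.Agent.Books.AlgPtsGrp.mono_of_isClosedImmersion j
  have hgood := Groth.Agent.S4054.result R K Ω W hW ℓ hℓ hres E
    (fun ν => K489.PA95.inertiaTrivialOn_sub j W _ (h ν))
  obtain ⟨B, iB, e, e1, e2, e3, e4⟩ := hgood
  have hE' := Groth.Agent.S3210.result R K Ω W hW ℓ' hℓ' hres' E ⟨B, iB, e2, e3, e4, ⟨e⟩⟩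
  intro ν
  exact K489.PA95.inertiaTrivialOn_of_pow f j (p ^ N) (ℓ' ^ ν) (K489.PA95.coprime_of_isUnit R p ℓ' hℓ'u N ν) h3 W
    (fun σ hσ y hy => hE' ν σ hσ y hy)

end Groth.Agent.S17695
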