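import Groth.Statements.S17696
import Groth.Agent.Neron.K489.PA96
import Groth.Agent.S4048
import Groth.Agent.S4049

set_option autoImplicit false
universe u
open CategoryTheory CategoryTheory.Limits MonoidalCategory CartesianMonoidalCategory AlgebraicGeometry MonObj
open Neron

namespace Groth.Agent.S17696

/-- (ii) ⇒ (iii): let R be an excellent discrete valuation ring of equal characteristic p > 0 with
fraction field K, Ω a separable closure of K, W a valuation subring of Ω lying over R (its inertia
group consists of the K-automorphisms of Ω preserving W and acting trivially on its residue field),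
and P a pseudo-abelian variety over K, that is a smooth connected commutative K-group scheme of
finite type all of whose smooth connected affine closed subgroup schemes are trivial (unit section
an isomorphism), given together with an exact sequence of K-group schemes 0 → E → P → V → 0 in which
E is an abelian variety, embedded as a closed subgroup and equal to the kernel of the surjective
homomorphism P → V, and V is smooth, connected, affine and unipotent (no non-trivial subtorus over
an algebraic closure of K); let ℓ be a prime invertible in R. If every element σ of the inertia
group at W acts unipotently on the ℓ-adic Tate module of P, in the sense that some power of σ − 1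
(one power for all levels) kills every ℓ-power torsion Ω-point of P, then for every such σ the
operator (σ − 1)² already kills every ℓ-power torsion Ω-point of P. (The published statement does
not mention E and V: every pseudo-abelian variety admits such a sequence, with E its maximal abelian
subvariety, by a structure result that the published proof takes from the literature without proof,
so the sequence is carried here as data. Condition (i) of the published statement,
pseudo-semiabelian reduction, is defined through the toric and virtual abelian ranks of the special
fibre of the Néron model and is not stated here; (iii) ⇒ (ii) is immediate.) -/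
theorem result
    (R K Ω : Type u) [CommRing R] [IsDomain R] [IsDiscreteValuationRing R] (hR : EGA4.IsExcellent R)
    (p : ℕ) (hp : p.Prime) [CharP R p]
    [Field K] [Algebra R K] [IsFractionRing R K] [Field Ω] [Algebra K Ω] [IsSepClosure K Ω]
    (W : ValuationSubring Ω) (hW : SGA7.LiesOver K R W)
    (P : Over (Spec (CommRingCat.of K))) [GrpObj P] [IsCommMonObj P]
    [Smooth P.hom] [LocallyOfFiniteType P.hom] [QuasiCompact P.hom] [ConnectedSpace ↥P.left]
    (hP : ∀ (H : Over (Spec (CommRingCat.of K))) [GrpObj H] (j : H ⟶ P) [IsMonHom j],
      IsClosedImmersion j.left → Smooth H.hom → ConnectedSpace ↥H.left → IsAffine H.left → IsIso η[H])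
    (E V : Over (Spec (CommRingCat.of K))) [GrpObj E] [GrpObj V]
    [IsProper E.hom] [GeometricallyIntegral E.hom]
    (jE : E ⟶ P) [IsMonHom jE] (πV : P ⟶ V) [IsMonHom πV]
    (hjE : IsClosedImmersion jE.left) (hker : AlgGrp.IsKernel jE πV) (hπV : Surjective πV.left)
    [Smooth V.hom] [ConnectedSpace ↥V.left] [IsAffine V.left]
    (hV : Red.HasNoSubtorus (AlgebraicClosure K) (Red.bc (Spec.map (CommRingCat.ofHom (algebraMap K (AlgebraicClosure K)))) V))
    (ℓ : ℕ) (hℓ : ℓ.Prime) (hℓu : IsUnit (ℓ : R)) (h : SGA7.InertiaUnipotentOn W P ℓ)
    (σ : Ω ≃ₐ[K] Ω) (hσ : SGA7.IsInertia W σ) (ν : ℕ) (x : SGA7.Pts Ω P) (hx : x ^ (ℓ ^ ν) = 1) :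
    SGA7.dev σ (SGA7.dev σ x) = 1 := by
  have hres := K489.PA96.natCast_residue_ne_zero R ℓ hℓu
  exact K489.PA96.main R K Ω p hp W P E V jE πV hker hV ℓ hℓu h
    (fun h1 => (Groth.Agent.S4048.result R K Ω W hW ℓ hℓ hres E).mp
      ((Groth.Agent.S4049.result R K Ω W hW ℓ hℓ hres E).mpr h1)) σ hσ ν x hx

end Groth.Agent.S17696
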