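import Groth.Statements.S17699
import Groth.Agent.Neron.K490.WeilNeron

set_option autoImplicit false
universe u
open CategoryTheory CategoryTheory.Limits MonoidalCategory CartesianMonoidalCategory AlgebraicGeometry MonObj
open Neron

namespace Groth.Agent.S17699

/-- fibres from connected base changes to residue fields -/
theorem isConnected_fibre {X Y : Scheme.{u}} (f : X ⟶ Y)
    (h : ∀ (Ω' : Type u) [Field Ω'] (t : Spec (CommRingCat.of Ω') ⟶ Y), ConnectedSpace ↥(pullback f t))
    (s : Y) : _root_.IsConnected (f ⁻¹' {s}) := by
  have h1 : ConnectedSpace ↥(f.fiber s) := h (Y.residueField s) (Y.fromSpecResidueField s)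
  have h2 : ConnectedSpace ↥(f ⁻¹' {s}) := (f.fiberHomeo s).surjective.connectedSpace (f.fiberHomeo s).continuous
  exact isConnected_iff_connectedSpace.mpr h2

/-- If the neutral set is everything then the special fibre is connected. -/
theorem connected_special {R : Type u} [CommRing R] [IsLocalRing R] (W : Over (Spec (CommRingCat.of R)))
    [GrpObj W] (h : SGA3x.neutralSet W = Set.univ) :
    ConnectedSpace ↥(pullback W.hom (Spec.map (CommRingCat.ofHom (IsLocalRing.residue R)))) := by
  let ρ := Spec.map (CommRingCat.ofHom (IsLocalRing.residue R))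
  have hcl : IsClosedImmersion ρ := IsClosedImmersion.spec_of_surjective _ IsLocalRing.residue_surjective
  have hrange : Set.range ρ = {IsLocalRing.closedPoint R} := by
    ext x
    constructor
    · rintro ⟨t, rfl⟩
      apply PrimeSpectrum.ext
      have ht : (t : PrimeSpectrum (IsLocalRing.ResidueField R)).asIdeal = ⊥ :=
        Subsingleton.elim (α := PrimeSpectrum (IsLocalRing.ResidueField R)) t ⊥ ▸ rfl
      change (t : PrimeSpectrum (IsLocalRing.ResidueField R)).asIdeal.comap (IsLocalRing.residue R) = _
      rw [ht]
      exact IsLocalRing.ker_residue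
    · rintro rfl
      refine ⟨IsLocalRing.closedPoint (IsLocalRing.ResidueField R), ?_⟩
      apply PrimeSpectrum.ext
      have ht : (IsLocalRing.closedPoint (IsLocalRing.ResidueField R)).asIdeal = ⊥ :=
        IsLocalRing.maximalIdeal_eq_bot
      change (IsLocalRing.closedPoint (IsLocalRing.ResidueField R)).asIdeal.comap (IsLocalRing.residue R) = _
      rw [ht]
      exact IsLocalRing.ker_residue
  have hj : IsClosedImmersion (pullback.fst W.hom ρ) := inferInstance
  have hF : _root_.IsConnected (W.hom ⁻¹' {IsLocalRing.closedPoint R}) := by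
    rw [Groth.Agent.Sga3.H778.NeutralPts.neutralSet_eq] at h
    let o := Groth.Agent.Sga3.H778.NeutralPts.unitSec W (IsLocalRing.closedPoint R)
    have ho : o ∈ W.hom ⁻¹' {IsLocalRing.closedPoint R} :=
      Groth.Agent.Sga3.H778.NeutralPts.hom_unitSec W _
    have e : W.hom ⁻¹' {IsLocalRing.closedPoint R} =
        connectedComponentIn (W.hom ⁻¹' {IsLocalRing.closedPoint R}) o := by
      apply subset_antisymm
      · intro w hw
        have h1 : w ∈ MoreMor.sectionComponents W.hom (Groth.Agent.Sga3.H778.NeutralPts.unitSec W) := by
          rw [h]; trivial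
        have h2 : W.hom w = IsLocalRing.closedPoint R := hw
        have h3 : w ∈ connectedComponentIn (W.hom ⁻¹' {W.hom w})
          (Groth.Agent.Sga3.H778.NeutralPts.unitSec W (W.hom w)) := h1
        rw [h2] at h3
        exact h3
      · exact connectedComponentIn_subset _ _
    rw [e]
    exact isConnected_connectedComponentIn_iff.mpr ho
  have himg : (pullback.fst W.hom ρ) '' Set.univ = W.hom ⁻¹' {IsLocalRing.closedPoint R} := by
    rw [Set.image_univ, Scheme.Pullback.range_fst, hrange]
  have h3 : _root_.IsConnected (Set.univ : Set ↥(pullback W.hom ρ)) := by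
    refine ⟨?_, ?_⟩
    · obtain ⟨y, hy⟩ := hF.nonempty
      rw [← himg] at hy
      obtain ⟨z, -, -⟩ := hy
      exact ⟨z, trivial⟩
    · rw [← (pullback.fst W.hom ρ).isEmbedding.isInducing.isPreconnected_image, himg]
      exact hF.isPreconnected
  exact connectedSpace_iff_univ.mpr h3

/-- Let R be an excellent discrete valuation ring of equal characteristic p > 0 with fraction field K, R
⊆ S a finite extension of discrete valuation rings whose extension of fraction fields K ⊆ L is
finite and purely inseparable, and 𝒜 an abelian scheme over S (a proper smooth S-group scheme with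
connected geometric fibres), with generic fibre 𝒜_L. Let P be a K-group scheme which, with the
homomorphism q, is the Weil restriction of 𝒜_L along Spec L → Spec K, and let N be a Néron model of
P over R (smooth, separated, of finite type, with the Néron mapping property, and with generic fibre
identified with P). Then the special fibre of N is connected, so the group of connected components
of the Néron model of P is trivial. (The published statement assumes P pseudo-abelian; the printed
proof does not use it, so it is not assumed here.) -/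
theorem result
    (R S K L : Type u) [CommRing R] [IsDomain R] [IsDiscreteValuationRing R] (hR : EGA4.IsExcellent R)
    (p : ℕ) (hp : p.Prime) [CharP R p]
    [CommRing S] [IsDomain S] [IsDiscreteValuationRing S] [Algebra R S] [Module.Finite R S] [FaithfulSMul R S]
    [Field K] [Field L] [Algebra R K] [IsFractionRing R K] [Algebra S L] [IsFractionRing S L]
    [Algebra K L] [Algebra R L] [IsScalarTower R S L] [IsScalarTower R K L]
    [FiniteDimensional K L] [IsPurelyInseparable K L]
    (𝒜 : Over (Spec (CommRingCat.of S))) [GrpObj 𝒜] [IsProper 𝒜.hom] [Smooth 𝒜.hom]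
    (h𝒜 : ∀ (Ω' : Type u) [Field Ω'] (t : Spec (CommRingCat.of Ω') ⟶ Spec (CommRingCat.of S)),
      ConnectedSpace ↥(pullback 𝒜.hom t))
    (P : Over (Spec (CommRingCat.of K))) [GrpObj P]
    (q : Red.bc (Spec.map (CommRingCat.ofHom (algebraMap K L))) P ⟶
      Red.bc (Spec.map (CommRingCat.ofHom (algebraMap S L))) 𝒜) [IsMonHom q]
    (hP : WeilRes.IsWeilRes (Spec.map (CommRingCat.ofHom (algebraMap K L)))
      (Red.bc (Spec.map (CommRingCat.ofHom (algebraMap S L))) 𝒜) P q)
    (N : Over (Spec (CommRingCat.of R))) (hN : SGA7.IsNeron R K N) (e : (SGA7.genFib R K).obj N ≅ P) :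
    ConnectedSpace ↥(pullback N.hom (Spec.map (CommRingCat.ofHom (IsLocalRing.residue R)))) := by
  let f := Spec.map (CommRingCat.ofHom (algebraMap R S))
  let b := Spec.map (CommRingCat.ofHom (algebraMap S L))
  let g := Spec.map (CommRingCat.ofHom (algebraMap K L))
  let a := Spec.map (CommRingCat.ofHom (algebraMap R K))
  have hsq : b ≫ f = g ≫ a := by
    rw [← Spec.map_comp, ← Spec.map_comp, ← CommRingCat.ofHom_comp, ← CommRingCat.ofHom_comp,
      ← IsScalarTower.algebraMap_eq, ← IsScalarTower.algebraMap_eq]
  have hSL : FaithfulSMul S L := inferInstance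
  have hu : FlatMor.IsUnivHomeo f := K489.PurInsep.isUnivHomeo R S K L
  have htf : Module.IsTorsionFree R S := inferInstance
  have hfree : Module.Free R S := inferInstance
  have h1 : IsFinite f := (IsFinite.SpecMap_iff _).mpr (RingHom.finite_algebraMap.mpr inferInstance)
  have h2 : Flat f := Flat.SpecMap_iff.mpr (RingHom.flat_algebraMap_iff.mpr inferInstance)
  have h3 : LocallyOfFinitePresentation f :=
    (HasRingHomProperty.Spec_iff (P := @LocallyOfFinitePresentation)).mpr
      (RingHom.finitePresentation_algebraMap.mpr (Algebra.FinitePresentation.of_finiteType.mp inferInstance))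
  obtain ⟨W, qW, hW⟩ := Groth.Agent.S17692.result f hu 𝒜
  obtain ⟨hG, hq⟩ := K490.WeilGrp.exists_grp f hW
  have hh : IsHomeomorph (pullback.fst W.hom f) := hu _ _ _ (IsPullback.of_hasPullback W.hom f)
  have hsm : Smooth W.hom := K490.WeilSm.smooth_weil R S hW hh
  obtain ⟨i⟩ := K490.WeilNeron.iso_of_weil hsq (fun Y => Smooth Y.hom) hW (fun Y hY => by
    have : Smooth ((Over.pullback f).obj Y).hom := inferInstanceAs (Smooth (pullback.snd Y.hom f))
    exact K490.WeilNeron.bijective_generic S L 𝒜 ((Over.pullback f).obj Y)) hP hN.2.2.2 e hsm hN.1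
  have hinj : Function.Injective f := by
    have : IsHomeomorph f := hu _ _ _ (IsPullback.id_vert f)
    exact this.injective
  have huniv : SGA3x.neutralSet 𝒜 = Set.univ := by
    rw [Groth.Agent.Sga3.H778.NeutralPts.neutralSet_eq]
    ext x
    simp only [Set.mem_univ, iff_true, MoreMor.sectionComponents]
    change x ∈ connectedComponentIn _ _
    rw [(isConnected_fibre 𝒜.hom h𝒜 (𝒜.hom x)).isPreconnected.connectedComponentIn]
    · rfl
    · exact Groth.Agent.Sga3.H778.NeutralPts.hom_unitSec 𝒜 _
  have hWu : SGA3x.neutralSet W = Set.univ := by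
    ext w
    simp only [Set.mem_univ, iff_true]
    rw [K487.WeilNeutral.mem_neutral_iff hinj hW]
    intro v _
    rw [huniv]
    trivial
  have hc := connected_special W hWu
  let j : pullback W.hom (Spec.map (CommRingCat.ofHom (IsLocalRing.residue R))) ⟶
      pullback N.hom (Spec.map (CommRingCat.ofHom (IsLocalRing.residue R))) :=
    pullback.map _ _ _ _ i.hom.left (𝟙 _) (𝟙 _) (by rw [Category.comp_id]; exact (Over.w i.hom).symm) (by simp)
  have hi : IsIso i.hom.left := inferInstanceAs (IsIso ((Over.forget _).map i.hom))
  have hj' : IsIso j := inferInstance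
  have hj : Surjective j := inferInstance
  exact j.surjective.connectedSpace j.continuous

end Groth.Agent.S17699
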