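import Groth.Statements.S17700
import Groth.Agent.Neron.K491.ChevPI
import Groth.Agent.AlgGrp.K412.Unip

set_option autoImplicit false
universe u
open CategoryTheory CategoryTheory.Limits MonoidalCategory CartesianMonoidalCategory AlgebraicGeometry MonObj
open Neron

namespace Groth.Agent.S17700

/-- Let k be a field and P a pseudo-abelian variety over k, that is a smooth connected commutative
k-group scheme of finite type all of whose smooth connected affine closed subgroup schemes are
trivial (unit section an isomorphism). Then there are a finite purely inseparable field extension L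
of k and, over L, a closed subgroup scheme H of the base change P_L which is smooth, connected,
affine and unipotent (rendered as: its base change to an algebraic closure of L contains no
non-trivial subtorus), together with an abelian variety A over L (a proper smooth geometrically
integral L-group scheme) and a surjective homomorphism P_L → A whose kernel is H. (Only the
existence part is stated; the published statement adds that for a given L the sequence is unique.) -/
theorem result
    (k : Type u) [Field k]
    (P : Over (Spec (CommRingCat.of k))) [GrpObj P] [IsCommMonObj P]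
    [Smooth P.hom] [LocallyOfFiniteType P.hom] [QuasiCompact P.hom] [ConnectedSpace ↥P.left]
    (hP : ∀ (H : Over (Spec (CommRingCat.of k))) [GrpObj H] (j : H ⟶ P) [IsMonHom j],
      IsClosedImmersion j.left → Smooth H.hom → ConnectedSpace ↥H.left → IsAffine H.left → IsIso η[H]) :
    ∃ (L : Type u) (_ : Field L) (_ : Algebra k L) (_ : FiniteDimensional k L) (_ : IsPurelyInseparable k L)
      (H A : Over (Spec (CommRingCat.of L))) (_ : GrpObj H) (_ : GrpObj A)
      (i : H ⟶ Red.bc (Spec.map (CommRingCat.ofHom (algebraMap k L))) P) (π : Red.bc (Spec.map (CommRingCat.ofHom (algebraMap k L))) P ⟶ A),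
      IsMonHom i ∧ IsMonHom π ∧ IsClosedImmersion i.left ∧ AlgGrp.IsKernel i π ∧ Surjective π.left ∧
      Smooth H.hom ∧ ConnectedSpace ↥H.left ∧ IsAffine H.left ∧
      Red.HasNoSubtorus (AlgebraicClosure L) (Red.bc (Spec.map (CommRingCat.ofHom (algebraMap L (AlgebraicClosure L)))) H) ∧
      IsProper A.hom ∧ Smooth A.hom ∧ GeometricallyIntegral A.hom := by
  obtain ⟨L, _, _, hfd, hpi, H, A, _, _, i, π, hi, hπ, hcl, hk, hs, hHs, hHc, hHa, hA1, hA2, hA3⟩ :=
    K491.ChevPI.exists_chevalley P
  refine ⟨L, inferInstance, inferInstance, hfd, hpi, H, A, inferInstance, inferInstance, i, π, hi, hπ, hcl, hk, hs,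
    hHs, hHc, hHa, ?_, hA1, hA2, hA3⟩
  let g : Spec (CommRingCat.of L) ⟶ Spec (CommRingCat.of k) := Spec.map (CommRingCat.ofHom (algebraMap k L))
  have hgf : IsFinite g := by
    rw [IsFinite.SpecMap_iff]
    exact RingHom.finite_algebraMap.2 inferInstance
  let s' : Spec (CommRingCat.of L) := (IsLocalRing.closedPoint L : PrimeSpectrum L)
  have h1 := K489.NoTorus.hasNoSubtorus_geomFibre k P hP (g s')
  have h2 := (Sga3B.Parab.GeomFib147.hasNoSubtorus_fibre_iff g s' P).2 h1
  have hm : Mono i := Books.AlgPtsGrp.mono_of_isClosedImmersion i
  have h3 : Red.HasNoSubtorus _ (Red.geomFibre s' H) :=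
    K489.FieldBc.hasNoSubtorus_of_mono ((Over.pullback (Red.geomPt s')).map i) h2
  obtain ⟨φ, hφ⟩ := Spec.map_surjective (Red.geomPt s')
  have hφ' : Function.Injective φ.hom := φ.hom.injective
  have hH1 : IsSeparated H.hom := Books.AntiAffine.isSeparated_hom H
  have hH2 : QuasiCompact H.hom := inferInstance
  have h4 : IrreducibleSpace (Red.bc (Red.geomPt s') H).left := K489.FieldBc.irreducibleSpace_bc' _ H
  have h5 : Smooth (Red.bc (Red.geomPt s') H).hom := inferInstanceAs (Smooth (pullback.snd H.hom (Red.geomPt s')))
  have h6 : ConnectedSpace (Red.bc (Red.geomPt s') H).left := inferInstance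
  clear h1 h2
  unfold Red.geomFibre at h3
  generalize Red.geomPt s' = σ at *
  subst hφ
  exact K412.Unip.good_noSubtorus.spec L _ (AlgebraicClosure L) φ.hom (algebraMap L (AlgebraicClosure L)) hφ' H
    (fun _ => hHa) h5 h6 h3

end Groth.Agent.S17700
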