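import Groth.Statements.S17701
import Groth.Agent.Neron.K490.TatePts
import Groth.Agent.Neron.K490.CommGen

set_option autoImplicit false
universe u
open CategoryTheory CategoryTheory.Limits MonoidalCategory CartesianMonoidalCategory AlgebraicGeometry MonObj
open Neron

namespace Groth.Agent.S17701

/-- Let k be a field, Ω a separable closure of k, ℓ a prime invertible in k and P a pseudo-abelian
variety over k, that is a smooth connected commutative k-group scheme of finite type all of whose
smooth connected affine closed subgroup schemes are trivial (unit section an isomorphism). Suppose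
L/k is a finite purely inseparable field extension and H is a smooth connected affine closed
subgroup scheme of P_L, unipotent in the sense that after base change to an algebraic closure of L
it has no non-trivial subtorus, such that the quotient P_L → A (a surjective homomorphism with
kernel H) is an abelian variety A over L of dimension g; g is then the virtual abelian rank of P.
Then the ℓ-adic Tate module of P built from Ω-points (compatible sequences of ℓ-power torsion
Ω-points) is a finitely generated free ℤ_ℓ-module of rank 2g. -/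
theorem result
    (k Ω : Type u) [Field k] [Field Ω] [Algebra k Ω] [IsSepClosure k Ω] (ℓ : ℕ) [Fact ℓ.Prime] (hℓ : (ℓ : k) ≠ 0)
    (P : Over (Spec (CommRingCat.of k))) [GrpObj P] [IsCommMonObj P]
    [Smooth P.hom] [LocallyOfFiniteType P.hom] [QuasiCompact P.hom] [ConnectedSpace ↥P.left]
    (hP : ∀ (H : Over (Spec (CommRingCat.of k))) [GrpObj H] (j : H ⟶ P) [IsMonHom j],
      IsClosedImmersion j.left → Smooth H.hom → ConnectedSpace ↥H.left → IsAffine H.left → IsIso η[H])
    (L : Type u) [Field L] [Algebra k L] [FiniteDimensional k L] [IsPurelyInseparable k L]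
    (H A : Over (Spec (CommRingCat.of L))) [GrpObj H] [GrpObj A]
    (i : H ⟶ Red.bc (Spec.map (CommRingCat.ofHom (algebraMap k L))) P) [IsMonHom i] (π : Red.bc (Spec.map (CommRingCat.ofHom (algebraMap k L))) P ⟶ A) [IsMonHom π]
    (hi : IsClosedImmersion i.left) (hker : AlgGrp.IsKernel i π) (hπ : Surjective π.left)
    [Smooth H.hom] [ConnectedSpace ↥H.left] [IsAffine H.left]
    (hH : Red.HasNoSubtorus (AlgebraicClosure L) (Red.bc (Spec.map (CommRingCat.ofHom (algebraMap L (AlgebraicClosure L)))) H))
    [IsProper A.hom] [Smooth A.hom] [GeometricallyIntegral A.hom]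
    (g : ℕ) (hg : topologicalKrullDim ↥A.left = g) :
    Module.Free ℤ_[ℓ] (AbDual.TateMod P ℓ (SGA7.pt Ω)) ∧ Module.Finite ℤ_[ℓ] (AbDual.TateMod P ℓ (SGA7.pt Ω)) ∧
      Module.finrank ℤ_[ℓ] (AbDual.TateMod P ℓ (SGA7.pt Ω)) = 2 * g := by
  have hℓp : (ℓ : k) ≠ 0 := hℓ
  have hcP : IsCommMonObj (Red.bc (Spec.map (CommRingCat.ofHom (algebraMap k L))) P) :=
    inferInstanceAs (IsCommMonObj ((Over.pullback (Spec.map (CommRingCat.ofHom (algebraMap k L)))).obj P))
  have hmi : Mono i := by
    have : Mono i.left := inferInstance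
    exact Over.mono_of_mono_left i
  have hcH : IsCommMonObj H := K490.CommGen.isCommMonObj_of_mono i
  have hcA : IsCommMonObj A := isCommMonObj_of_isProper_of_geometricallyIntegral A
  have hsm : Smooth (Red.bc (Spec.map (CommRingCat.ofHom (algebraMap k L))) P).hom := by
    change Smooth (pullback.snd P.hom _)
    infer_instance
  have hℓL : (ℓ : L) ≠ 0 := by
    have := (algebraMap k L).injective.ne hℓ
    rwa [map_natCast, map_zero] at this
  have hsc : IsSepClosed Ω := IsSepClosure.sep_closed k
  have hΩa : Algebra.IsAlgebraic k Ω := IsSepClosure.separable.isAlgebraic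
  have hLa : Algebra.IsAlgebraic k (AlgebraicClosure L) := Algebra.IsAlgebraic.trans k L (AlgebraicClosure L)
  let f : Ω →ₐ[k] AlgebraicClosure L := IsAlgClosed.lift
  let _ : Algebra Ω (AlgebraicClosure L) := f.toRingHom.toAlgebra
  have hst : IsScalarTower k Ω (AlgebraicClosure L) := IsScalarTower.of_algebraMap_eq' f.comp_algebraMap.symm
  have hal : Algebra.IsAlgebraic Ω (AlgebraicClosure L) := Algebra.IsAlgebraic.tower_top (K := k) Ω
  have hcard : Nat.card (AbDual.torsPts P ℓ (SGA7.pt Ω)) = ℓ ^ (2 * g) := by
    have h1 := K490.TatePts.card_purInsep (k := k) (Ω := Ω) (Ω' := AlgebraicClosure L) P ℓ hℓ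
    have h2 := K490.TatePts.card_tower (k := k) (L := L) (Ω := AlgebraicClosure L) P ℓ
    have h3 := K490.TatePts.card_quotient i π hker hH ℓ hℓL
    have h4 := K490.TatePts.card_av A (AlgebraicClosure L) g hg ℓ hℓL
    exact h1.trans (h2.symm.trans (h3.trans h4))
  have hdiv : ∀ x : SGA7.pt Ω ⟶ P, ∃ y : SGA7.pt Ω ⟶ P, y ^ ℓ = x := fun x => K490.TatePts.exists_root P ℓ hℓ x
  have hfin : Finite (AbDual.torsPts P ℓ (SGA7.pt Ω)) := Nat.finite_of_card_ne_zero (by
    rw [hcard]
    exact pow_ne_zero _ (Fact.out : ℓ.Prime).ne_zero)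
  exact ⟨K510.TateMod.free_of_finite hfin, K510.TateMod.finite_of_finite hfin,
    K510.TateMod.finrank_eq hdiv (2 * g) hcard⟩

end Groth.Agent.S17701
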