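import Groth.Statements.S17702
import Groth.Agent.Neron.K490.PseudoNeron
import Groth.Agent.Neron.K490.WeilNeron
import Groth.Agent.S4054
import Groth.Agent.Neron.K489.UnipField

set_option autoImplicit false
universe u
open CategoryTheory CategoryTheory.Limits MonoidalCategory CartesianMonoidalCategory AlgebraicGeometry MonObj
open Neron

namespace Groth.Agent.S17702

/-- If the special fibre is connected then every section goes through the unit component. -/
theorem mem_secUnitComp_of_connected {R : Type u} [CommRing R] [IsLocalRing R]
    (B : Over (Spec (CommRingCat.of R))) [GrpObj B]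
    (h : ConnectedSpace ↥(pullback B.hom (Spec.map (CommRingCat.ofHom (IsLocalRing.residue R)))))
    (x : 𝟙_ (Over (Spec (CommRingCat.of R))) ⟶ B) : x ∈ SGA7.secUnitComp R B := by
  let ρ := Spec.map (CommRingCat.ofHom (IsLocalRing.residue R))
  have hrange : Set.range ρ = {IsLocalRing.closedPoint R} := by
    ext y
    constructor
    · rintro ⟨t, rfl⟩
      apply PrimeSpectrum.ext
      have ht : (t : PrimeSpectrum (IsLocalRing.ResidueField R)).asIdeal = ⊥ :=
        Subsingleton.elim (α := PrimeSpectrum (IsLocalRing.ResidueField R)) t ⊥ ▸ rfl
      change (t : PrimeSpectrum (IsLocalRing.ResidueField R)).asIdeal.comap (IsLocalRing.residue R) = _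
      rw [ht]
      exact IsLocalRing.ker_residue
    · rintro rfl
      refine ⟨IsLocalRing.closedPoint (IsLocalRing.ResidueField R), ?_⟩
      apply PrimeSpectrum.ext
      have ht : (IsLocalRing.closedPoint (IsLocalRing.ResidueField R)).asIdeal = ⊥ :=
        IsLocalRing.maximalIdeal_eq_bot
      change (IsLocalRing.closedPoint (IsLocalRing.ResidueField R)).asIdeal.comap (IsLocalRing.residue R) = _
      rw [ht]
      exact IsLocalRing.ker_residue
  have hF : _root_.IsPreconnected (SGA7.specialFibreSet R B) := by
    have h1 : SGA7.specialFibreSet R B = (pullback.fst B.hom ρ) '' Set.univ := by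
      rw [Set.image_univ, Scheme.Pullback.range_fst, hrange]
      rfl
    rw [h1]
    exact (connectedSpace_iff_univ.mp h).isPreconnected.image _ (pullback.fst B.hom ρ).continuous.continuousOn
  change x.left (IsLocalRing.closedPoint R) ∈
    connectedComponentIn (SGA7.specialFibreSet R B) (η[B].left (IsLocalRing.closedPoint R))
  rw [hF.connectedComponentIn (Groth.Agent.Sga7.H750.SecComp.section_mem_specialFibreSet B η[B])]
  exact Groth.Agent.Sga7.H750.SecComp.section_mem_specialFibreSet B x

/-- Let R be an excellent discrete valuation ring of equal characteristic p > 0 with fraction field K, Ω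
a separable closure of K, W a valuation subring of Ω lying over R (its inertia group consists of the
K-automorphisms of Ω preserving W and acting trivially on its residue field), and P a pseudo-abelian
variety over K, that is a smooth connected commutative K-group scheme of finite type all of whose
smooth connected affine closed subgroup schemes are trivial (unit section an isomorphism), given
together with an exact sequence of K-group schemes 0 → E → P → V → 0 in which E is an abelian
variety, embedded as a closed subgroup and equal to the kernel of the surjective homomorphism P → V,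
and V is smooth, connected, affine and unipotent (no non-trivial subtorus over an algebraic closure
of K); assume moreover that R is strictly henselian (henselian with separably closed residue field).
Suppose P has good reduction, in the equivalent form: for some prime ℓ invertible in R the inertia
group at W acts trivially on all ℓ-power torsion Ω-points of P. Let N be the Néron model of P over
R, with an isomorphism of K-group schemes from its generic fibre onto P. Then the order of the group
of connected components of the special fibre of N is a power of p; since R is strictly henselian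
this says: for every section x of N over R there is n with x^(p^n) landing, at the closed point, in
the connected component of the unit section of the special fibre. (The published statement assumes
only that P has good reduction, over any excellent R; this row assumes the equivalent inertia
condition and R strictly henselian. The published statement does not mention E and V: every
pseudo-abelian variety admits such a sequence, with E its maximal abelian subvariety, by a structure
result that the published proof takes from the literature without proof, so the sequence is carried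
here as data.) -/
theorem result
    (R K Ω : Type u) [CommRing R] [IsDomain R] [IsDiscreteValuationRing R] (hR : EGA4.IsExcellent R)
    (p : ℕ) (hp : p.Prime) [CharP R p]
    [Field K] [Algebra R K] [IsFractionRing R K] [Field Ω] [Algebra K Ω] [IsSepClosure K Ω]
    (W : ValuationSubring Ω) (hW : SGA7.LiesOver K R W)
    (P : Over (Spec (CommRingCat.of K))) [GrpObj P] [IsCommMonObj P]
    [Smooth P.hom] [LocallyOfFiniteType P.hom] [QuasiCompact P.hom] [ConnectedSpace ↥P.left]
    (hP : ∀ (H : Over (Spec (CommRingCat.of K))) [GrpObj H] (j : H ⟶ P) [IsMonHom j],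
      IsClosedImmersion j.left → Smooth H.hom → ConnectedSpace ↥H.left → IsAffine H.left → IsIso η[H])
    (E V : Over (Spec (CommRingCat.of K))) [GrpObj E] [GrpObj V]
    [IsProper E.hom] [GeometricallyIntegral E.hom]
    (jE : E ⟶ P) [IsMonHom jE] (πV : P ⟶ V) [IsMonHom πV]
    (hjE : IsClosedImmersion jE.left) (hker : AlgGrp.IsKernel jE πV) (hπV : Surjective πV.left)
    [Smooth V.hom] [ConnectedSpace ↥V.left] [IsAffine V.left]
    (hV : Red.HasNoSubtorus (AlgebraicClosure K) (Red.bc (Spec.map (CommRingCat.ofHom (algebraMap K (AlgebraicClosure K)))) V))
    [HenselianLocalRing R] [IsSepClosed (IsLocalRing.ResidueField R)]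
    (ℓ : ℕ) (hℓ : ℓ.Prime) (hℓu : IsUnit (ℓ : R)) (h : ∀ ν : ℕ, SGA7.InertiaTrivialOn W P (ℓ ^ ν))
    (N : Over (Spec (CommRingCat.of R))) [GrpObj N] (hN : SGA7.IsNeron R K N)
    (e : Red.bc (Spec.map (CommRingCat.ofHom (algebraMap R K))) N ≅ P) [IsMonHom e.hom]
    (x : 𝟙_ (Over (Spec (CommRingCat.of R))) ⟶ N) :
    ∃ n : ℕ, x ^ (p ^ n) ∈ SGA7.secUnitComp R N := by
  have hcK : CharP K p := charP_of_injective_algebraMap (IsFractionRing.injective R K) p
  have hfp : Fact p.Prime := ⟨hp⟩
  obtain ⟨Nn, hVn⟩ : ∃ Nn : ℕ, (𝟙 V : V ⟶ V) ^ (p ^ Nn) = 1 := K489.UnipField.exists_pow_eq_one K V p hV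
  have hℓp : (ℓ : IsLocalRing.ResidueField R) ≠ 0 := by
    have h1 : IsUnit (IsLocalRing.residue R (ℓ : R)) := hℓu.map _
    rw [map_natCast] at h1
    exact h1.ne_zero
  have hmono : Mono jE := K490.PseudoNeron.mono_of_isKernel jE πV hker
  have hE : ∀ ν : ℕ, SGA7.InertiaTrivialOn W E (ℓ ^ ν) := by
    intro ν σ hσ y hy
    rw [← cancel_mono jE]
    have h1 := h ν σ hσ (y ≫ jE) (by rw [← MonObj.pow_comp, hy, MonObj.one_comp])
    rw [← h1]
    rfl
  obtain ⟨B, hBg, eB, heB, hBp, hBs, hBc⟩ := Groth.Agent.S4054.result R K Ω W hW ℓ hℓ hℓp E hE
  obtain ⟨g, hg⟩ := (hN.2.2.2 B hBs).2 (eB.hom ≫ jE ≫ e.inv)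
  have hg' : (SGA7.genFib R K).map g = eB.hom ≫ jE ≫ e.inv := hg
  have hg'' : (SGA7.genFib R K).map g ≫ e.hom = eB.hom ≫ jE := by
    rw [hg', Category.assoc, Category.assoc, Iso.inv_hom_id, Category.comp_id]
  refine ⟨Nn, ?_⟩
  exact K490.PseudoNeron.pow_mem_secUnitComp jE πV hker (p ^ Nn) hVn
    (fun Y hY => K490.WeilNeron.bijective_generic R K B Y) hN.2.2.2 eB e hBs hN.1 g hg''
    (fun x => mem_secUnitComp_of_connected B (hBc _ _) x) x

end Groth.Agent.S17702
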