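import Groth.Statements.S17704
import Groth.Agent.Neron.K490.TorsNeron
import Groth.Agent.Neron.K490.SqIso
import Groth.Agent.Neron.K490.CommGen
import Groth.Agent.Neron.K489.UnipField
import Groth.Agent.Neron.K489.PurInsep
import Groth.Agent.Neron.K489.GenExt
import Groth.Agent.Etcore.SepClosedRed

set_option autoImplicit false
universe u
open CategoryTheory CategoryTheory.Limits MonoidalCategory CartesianMonoidalCategory AlgebraicGeometry MonObj
open Neron

namespace Groth.Agent.S17704

/-- Let R be an excellent discrete valuation ring of equal characteristic p > 0 with fraction field K, R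
⊆ S a finite extension of discrete valuation rings whose fraction field extension K ⊆ L is finite
purely inseparable, and P a pseudo-abelian variety over K, that is a smooth connected commutative
K-group scheme of finite type all of whose smooth connected affine closed subgroup schemes are
trivial (unit section an isomorphism). Let H be a smooth connected affine closed subgroup scheme of
P_L which is unipotent (no non-trivial subtorus after base change to an algebraic closure of L) and
π : P_L → A a surjective homomorphism onto an abelian variety A over L with kernel H. Let N be the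
Néron model of P over R and M the Néron model of A over S, each with a group isomorphism from its
generic fibre, and let g : N ×_R S → M be an S-homomorphism which on generic fibres is π, the
generic fibre of N ×_R S being identified with P_L by the isomorphism c compatible with the
projections to N. Then for every prime ℓ invertible in R and every n ≥ 0, g induces a bijection on
ℓ^n-torsion points with values in any S-scheme T (the morphism (N ×_R S)[ℓ^n] → M[ℓ^n] is an
isomorphism). (Only the first of the two published isomorphisms is stated; the second applies the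
Weil restriction along S over R to it.) -/
theorem result
    (R S K L : Type u) [CommRing R] [IsDomain R] [IsDiscreteValuationRing R] (hR : EGA4.IsExcellent R)
    (p : ℕ) (hp : p.Prime) [CharP R p]
    [CommRing S] [IsDomain S] [IsDiscreteValuationRing S] [Algebra R S] [Module.Finite R S] [FaithfulSMul R S]
    [Field K] [Field L] [Algebra R K] [IsFractionRing R K] [Algebra S L] [IsFractionRing S L]
    [Algebra K L] [Algebra R L] [IsScalarTower R S L] [IsScalarTower R K L]
    [FiniteDimensional K L] [IsPurelyInseparable K L]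
    (P : Over (Spec (CommRingCat.of K))) [GrpObj P] [IsCommMonObj P]
    [Smooth P.hom] [LocallyOfFiniteType P.hom] [QuasiCompact P.hom] [ConnectedSpace ↥P.left]
    (hP : ∀ (H : Over (Spec (CommRingCat.of K))) [GrpObj H] (j : H ⟶ P) [IsMonHom j],
      IsClosedImmersion j.left → Smooth H.hom → ConnectedSpace ↥H.left → IsAffine H.left → IsIso η[H])
    (H A : Over (Spec (CommRingCat.of L))) [GrpObj H] [GrpObj A]
    (i : H ⟶ Red.bc (Spec.map (CommRingCat.ofHom (algebraMap K L))) P) [IsMonHom i] (π : Red.bc (Spec.map (CommRingCat.ofHom (algebraMap K L))) P ⟶ A) [IsMonHom π]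
    (hi : IsClosedImmersion i.left) (hker : AlgGrp.IsKernel i π) (hπ : Surjective π.left)
    [Smooth H.hom] [ConnectedSpace ↥H.left] [IsAffine H.left]
    (hH : Red.HasNoSubtorus (AlgebraicClosure L) (Red.bc (Spec.map (CommRingCat.ofHom (algebraMap L (AlgebraicClosure L)))) H))
    [IsProper A.hom] [Smooth A.hom] [GeometricallyIntegral A.hom]
    (N : Over (Spec (CommRingCat.of R))) [GrpObj N] (hN : SGA7.IsNeron R K N)
    (eN : Red.bc (Spec.map (CommRingCat.ofHom (algebraMap R K))) N ≅ P) [IsMonHom eN.hom]
    (M : Over (Spec (CommRingCat.of S))) [GrpObj M] (hM : SGA7.IsNeron S L M)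
    (eM : Red.bc (Spec.map (CommRingCat.ofHom (algebraMap S L))) M ≅ A) [IsMonHom eM.hom]
    (c : Red.bc (Spec.map (CommRingCat.ofHom (algebraMap S L))) (Red.bc (Spec.map (CommRingCat.ofHom (algebraMap R S))) N) ≅ Red.bc (Spec.map (CommRingCat.ofHom (algebraMap K L))) P) [IsMonHom c.hom]
    (hc : c.hom.left ≫ ((Over.pullback (Spec.map (CommRingCat.ofHom (algebraMap K L)))).map eN.inv).left ≫
        pullback.fst (Red.bc (Spec.map (CommRingCat.ofHom (algebraMap R K))) N).hom (Spec.map (CommRingCat.ofHom (algebraMap K L))) ≫ pullback.fst N.hom (Spec.map (CommRingCat.ofHom (algebraMap R K))) =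
      pullback.fst (Red.bc (Spec.map (CommRingCat.ofHom (algebraMap R S))) N).hom (Spec.map (CommRingCat.ofHom (algebraMap S L))) ≫ pullback.fst N.hom (Spec.map (CommRingCat.ofHom (algebraMap R S))))
    (g : Red.bc (Spec.map (CommRingCat.ofHom (algebraMap R S))) N ⟶ M) [IsMonHom g]
    (hg : (Over.pullback (Spec.map (CommRingCat.ofHom (algebraMap S L)))).map g ≫ eM.hom = c.hom ≫ π)
    (ℓ : ℕ) (hℓ : ℓ.Prime) (hℓu : IsUnit (ℓ : R)) (n : ℕ) (T : Over (Spec (CommRingCat.of S))) :
    Set.BijOn (fun x : T ⟶ Red.bc (Spec.map (CommRingCat.ofHom (algebraMap R S))) N => x ≫ g)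
      {x : T ⟶ Red.bc (Spec.map (CommRingCat.ofHom (algebraMap R S))) N | x ^ (ℓ ^ n) = 1} {y : T ⟶ M | y ^ (ℓ ^ n) = 1} := by
  have hlp : ℓ ≠ p := by
    rintro rfl
    rw [CharP.cast_eq_zero] at hℓu
    exact not_isUnit_zero hℓu
  have hcK : CharP K p := charP_of_injective_algebraMap (IsFractionRing.injective R K) p
  have hcL : CharP L p := charP_of_injective_algebraMap (algebraMap K L).injective p
  have hfp : Fact p.Prime := ⟨hp⟩
  obtain ⟨Nn, hVn⟩ : ∃ Nn : ℕ, (𝟙 H : H ⟶ H) ^ (p ^ Nn) = 1 := K489.UnipField.exists_pow_eq_one L H p hH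
  have hHn : ∀ (T : Over (Spec (CommRingCat.of L))) (y : T ⟶ H), y ^ (ℓ ^ n) = 1 → y = 1 := fun T y hy =>
    K489.UnipField.eq_one_of_pow_eq_one_of_coprime hVn
      (Nat.Coprime.pow Nn n ((Nat.coprime_primes hp hℓ).mpr (Ne.symm hlp))) y hy
  have hcP : IsCommMonObj (Red.bc (Spec.map (CommRingCat.ofHom (algebraMap K L))) P) :=
    inferInstanceAs (IsCommMonObj ((Over.pullback (Spec.map (CommRingCat.ofHom (algebraMap K L)))).obj P))
  have hmi : Mono i := by
    have : Mono i.left := inferInstance
    exact Over.mono_of_mono_left i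
  have hcH : IsCommMonObj H := K490.CommGen.isCommMonObj_of_mono i
  have hcA : IsCommMonObj A := isCommMonObj_of_isProper_of_geometricallyIntegral A
  have hNs : Smooth N.hom := hN.1
  have hNsep : IsSeparated N.hom := hN.2.1
  have hMs : Smooth M.hom := hM.1
  have hMsep : IsSeparated M.hom := hM.2.1
  have hcN : IsCommMonObj N := K490.CommGen.isCommMonObj R K eN
  have hcM : IsCommMonObj M := K490.CommGen.isCommMonObj S L eM
  have hu1 := (Groth.Agent.FlatA.UnivHomeo.isUnivHomeo_iff _).mp (K489.PurInsep.isUnivHomeo R S K L)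
  obtain ⟨hf1, hf2, hf3⟩ := hu1
  have hc1 : IsIntegralHom (Spec.map (CommRingCat.ofHom (algebraMap K L))) := by
    rw [IsIntegralHom.SpecMap_iff]
    exact algebraMap_isIntegral_iff.mpr inferInstance
  have hc2 := Groth.Agent.Etcore.SepClosedRed.universallyInjective_spec K L
  have hc3 : Surjective (Spec.map (CommRingCat.ofHom (algebraMap K L))) := inferInstance
  have hsq : Spec.map (CommRingCat.ofHom (algebraMap S L)) ≫ Spec.map (CommRingCat.ofHom (algebraMap R S)) =
      Spec.map (CommRingCat.ofHom (algebraMap K L)) ≫ Spec.map (CommRingCat.ofHom (algebraMap R K)) := by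
    rw [← Spec.map_comp, ← Spec.map_comp, ← CommRingCat.ofHom_comp, ← CommRingCat.ofHom_comp,
      ← IsScalarTower.algebraMap_eq, ← IsScalarTower.algebraMap_eq]
  have hcc : c.hom = (K490.WeilNeron.sqIso _ _ _ _ hsq).hom.app N ≫
      (Over.pullback (Spec.map (CommRingCat.ofHom (algebraMap K L)))).map eN.hom :=
    K490.SqIso.eq_sqIso hsq eN c.hom hc
  have hℓn : IsUnit ((ℓ ^ n : ℕ) : R) := by rw [Nat.cast_pow]; exact hℓu.pow n
  have hℓK : IsUnit ((ℓ ^ n : ℕ) : K) := by
    have := hℓn.map (algebraMap R K)
    rwa [map_natCast] at this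
  have hℓL : IsUnit ((ℓ ^ n : ℕ) : L) := by
    have := hℓK.map (algebraMap K L)
    rwa [map_natCast] at this
  have hℓS : IsUnit ((ℓ ^ n : ℕ) : S) := by
    have := hℓn.map (algebraMap R S)
    rwa [map_natCast] at this
  have hsN' : IsSeparated (Red.bc (Spec.map (CommRingCat.ofHom (algebraMap R S))) N).hom := by
    change IsSeparated (pullback.snd N.hom _)
    infer_instance
  have hlft : LocallyOfFiniteType (Red.bc (Spec.map (CommRingCat.ofHom (algebraMap K L))) P).hom := by
    change LocallyOfFiniteType (pullback.snd P.hom _)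
    infer_instance
  exact K490.TorsNeron.bijOn hsq
    (fun Y _ => (hN.2.2.2 Y (inferInstanceAs (Smooth Y.hom))).2)
    (fun W y y' _ h => K489.GenExt.hom_ext L h)
    (fun W y y' _ h => K489.GenExt.hom_ext L h) eN eM π c hcc g hg (ℓ ^ n)
    (fun s => K490.DualIsog.natCast_residueField_ne_zero hℓS s)
    (fun s => K490.DualIsog.natCast_residueField_ne_zero hℓK s)
    (fun Y w hw => K490.TorsIso.existsUnique_lift i π hker hℓL.ne_zero hHn w hw) T

end Groth.Agent.S17704
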