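import Groth.Statements.S17705
import Groth.Agent.Neron.K490.PseudoNeron
import Groth.Agent.Neron.K490.CommGen
import Groth.Agent.Neron.K489.UnipField

set_option autoImplicit false
universe u
open CategoryTheory CategoryTheory.Limits MonoidalCategory CartesianMonoidalCategory AlgebraicGeometry MonObj
open Neron

namespace Groth.Agent.S17705

/-- Let R be an excellent discrete valuation ring of equal characteristic p > 0 which is strictly
henselian (henselian with separably closed residue field), K its fraction field, and P a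
pseudo-abelian variety over K, that is a smooth connected commutative K-group scheme of finite type
all of whose smooth connected affine closed subgroup schemes are trivial (unit section an
isomorphism). Let 0 → E → P → V → 0 be an exact sequence of K-group schemes in which E is an abelian
variety, embedded as a closed subgroup and equal to the kernel of the surjective homomorphism P → V,
and V is smooth, connected, affine and unipotent (no non-trivial subtorus over an algebraic closure
of K); E is then the maximal abelian subvariety of P. Let N_E and N_P be the Néron models of E and P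
over R, with group isomorphisms of their generic fibres onto E and P, and g : N_E → N_P the
homomorphism whose generic fibre is the inclusion E → P. Then for every prime ℓ invertible in R the
map induced by g on groups of connected components is an isomorphism on ℓ-primary parts; since R is
strictly henselian this reads on R-points, writing N⁰(R) for the sections meeting the connected
component of the unit in the special fibre: (a) if x ∈ N_E(R) has some x^(ℓ^m) in N_E⁰(R) and g(x) ∈
N_P⁰(R) then x ∈ N_E⁰(R); (b) every y ∈ N_P(R) with some y^(ℓ^m) in N_P⁰(R) satisfies y · g(x)⁻¹ ∈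
N_P⁰(R) for some x ∈ N_E(R) with some x^(ℓ^m') in N_E⁰(R). (The published statement is for any
excellent R, as an isomorphism of étale κ-group schemes; it reduces to this case by Galois descent.) -/
theorem result
    (R K : Type u) [CommRing R] [IsDomain R] [IsDiscreteValuationRing R] (hR : EGA4.IsExcellent R)
    (p : ℕ) (hp : p.Prime) [CharP R p] [HenselianLocalRing R] [IsSepClosed (IsLocalRing.ResidueField R)]
    [Field K] [Algebra R K] [IsFractionRing R K]
    (P : Over (Spec (CommRingCat.of K))) [GrpObj P] [IsCommMonObj P]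
    [Smooth P.hom] [LocallyOfFiniteType P.hom] [QuasiCompact P.hom] [ConnectedSpace ↥P.left]
    (hP : ∀ (H : Over (Spec (CommRingCat.of K))) [GrpObj H] (j : H ⟶ P) [IsMonHom j],
      IsClosedImmersion j.left → Smooth H.hom → ConnectedSpace ↥H.left → IsAffine H.left → IsIso η[H])
    (E V : Over (Spec (CommRingCat.of K))) [GrpObj E] [GrpObj V]
    [IsProper E.hom] [GeometricallyIntegral E.hom]
    (jE : E ⟶ P) [IsMonHom jE] (πV : P ⟶ V) [IsMonHom πV]
    (hjE : IsClosedImmersion jE.left) (hker : AlgGrp.IsKernel jE πV) (hπV : Surjective πV.left)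
    [Smooth V.hom] [ConnectedSpace ↥V.left] [IsAffine V.left]
    (hV : Red.HasNoSubtorus (AlgebraicClosure K) (Red.bc (Spec.map (CommRingCat.ofHom (algebraMap K (AlgebraicClosure K)))) V))
    (NE NP : Over (Spec (CommRingCat.of R))) [GrpObj NE] [GrpObj NP]
    (hNE : SGA7.IsNeron R K NE) (hNP : SGA7.IsNeron R K NP)
    (eE : Red.bc (Spec.map (CommRingCat.ofHom (algebraMap R K))) NE ≅ E) [IsMonHom eE.hom] (eP : Red.bc (Spec.map (CommRingCat.ofHom (algebraMap R K))) NP ≅ P) [IsMonHom eP.hom]
    (g : NE ⟶ NP) [IsMonHom g] (hg : (Over.pullback (Spec.map (CommRingCat.ofHom (algebraMap R K)))).map g ≫ eP.hom = eE.hom ≫ jE)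
    (ℓ : ℕ) (hℓ : ℓ.Prime) (hℓu : IsUnit (ℓ : R)) :
    (∀ x : 𝟙_ (Over (Spec (CommRingCat.of R))) ⟶ NE, (∃ m : ℕ, x ^ (ℓ ^ m) ∈ SGA7.secUnitComp R NE) →
        x ≫ g ∈ SGA7.secUnitComp R NP → x ∈ SGA7.secUnitComp R NE) ∧
      ∀ y : 𝟙_ (Over (Spec (CommRingCat.of R))) ⟶ NP, (∃ m : ℕ, y ^ (ℓ ^ m) ∈ SGA7.secUnitComp R NP) →
        ∃ x : 𝟙_ (Over (Spec (CommRingCat.of R))) ⟶ NE, (∃ m : ℕ, x ^ (ℓ ^ m) ∈ SGA7.secUnitComp R NE) ∧
          y * (x ≫ g)⁻¹ ∈ SGA7.secUnitComp R NP := by
  have hcK : CharP K p := charP_of_injective_algebraMap (IsFractionRing.injective R K) p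
  have hfp : Fact p.Prime := ⟨hp⟩
  obtain ⟨Nn, hVn⟩ : ∃ Nn : ℕ, (𝟙 V : V ⟶ V) ^ (p ^ Nn) = 1 := K489.UnipField.exists_pow_eq_one K V p hV
  have hlp : ℓ ≠ p := by
    rintro rfl
    rw [CharP.cast_eq_zero] at hℓu
    exact not_isUnit_zero hℓu
  have hcop : ∀ m : ℕ, (ℓ ^ m).Coprime (p ^ Nn) := fun m =>
    Nat.Coprime.pow m Nn ((Nat.coprime_primes hℓ hp).mpr hlp)
  have hNPs : Smooth NP.hom := hNP.1
  have hNPsep : IsSeparated NP.hom := hNP.2.1
  have hc : IsCommMonObj NP := K490.CommGen.isCommMonObj R K eP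
  refine ⟨fun x ⟨m, hm⟩ hx => ?_, fun y ⟨m, hm⟩ => ?_⟩
  · exact K490.PseudoNeron.mem_of_map_mem jE πV hker (p ^ Nn) hVn hNE.2.2.2 hNP.2.2.2 eE eP hNE.1 hNP.1
      g hg (ℓ ^ m) (hcop m) x hm hx
  · obtain ⟨x, hx, hx'⟩ := K490.PseudoNeron.exists_of_pow_mem jE πV hker (p ^ Nn) hVn hNE.2.2.2 hNP.2.2.2
      eE eP hNP.1 hNP.2.2.1 hc g hg (ℓ ^ m) (hcop m) (by rw [Nat.cast_pow]; exact hℓu.pow m) y hm
    exact ⟨x, ⟨m, by rw [hx]; exact K490.SecUnit.one_mem NE⟩, hx'⟩

end Groth.Agent.S17705
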