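import Groth.Statements.S17707
import Groth.Agent.Vanish.K913.Inj
import Groth.Agent.Vanish.K913.Final

set_option autoImplicit false
universe u
open CategoryTheory CategoryTheory.Limits AlgebraicGeometry Opposite TopologicalSpace
open Vanish

namespace Groth.Agent.S17707

/-- Let k be an algebraically closed field and X an irreducible proper smooth k-scheme of dimension n
carrying an ample invertible O_X-module (a projective manifold). Let (Ω', d) be a universal
receptacle for the differentials of X over k, D_1, …, D_r quasi-coherent ideal sheaves forming a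
strict normal crossing divisor D (reduced) with pinned log module Ω¹(log D), and Ω^n(log D) an n-th
exterior power of Ω¹(log D) (the sheaf ω_X(D) of top-degree logarithmic forms). The positive twist
E(D') of the published statement is written by reversing the roles: F is a finite locally free
O_X-module with a logarithmic connection ∇_F and a logarithmic de Rham complex K_F (playing E(D')),
D' = Σ μ_j D_j has ideal 𝓘' = ∏ 𝓘_{D_j}^{μ_j}, E is F ⊗ 𝓘' with the logarithmic connection ∇ pinned
by compatibility with ∇_F under E → F, and K is a logarithmic de Rham complex of (E, ∇). Assume the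
E_1-degeneration for (E, ∇): the Hodge to de Rham spectral sequence of the hypercohomology of K over
X degenerates at the first page, in the form that for all a, i the map H^a(X, σ_{≥ i+1} K) → H^a(X,
σ_{≥ i} K) is injective and H^a(X, σ_{≥ i} K) → H^a(X, K^i in degree i) is surjective. For each j
let the residue ρ_j : E → E ⊗ O_{D_j} of ∇ factor through an O_X-linear endomorphism R_j of E ⊗
O_{D_j} (restriction followed by R_j equals ρ_j), and assume that R_j − μ·id is an isomorphism for
every j and every integer μ with 1 ≤ μ ≤ μ_j. Then for every b the map H^b(X, E ⊗ Ω^n(log D)) →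
H^b(X, F ⊗ Ω^n(log D)), induced by E → F tensored with Ω^n(log D), is injective: the map H^b(X,
ω_X(D) ⊗ E) → H^b(X, ω_X(D + D') ⊗ E) is injective. (Modules are written as the left tensor factor.) -/
theorem result (k : Type u) [Field k] [IsAlgClosed k]
    (X : Scheme.{u}) [X.Over (Spec (CommRingCat.of k))] [IsProper (X ↘ Spec (CommRingCat.of k))]
    [Smooth (X ↘ Spec (CommRingCat.of k))] [IrreducibleSpace X] (n : ℕ) (hn : topologicalKrullDim X = n) (H : X.Modules) (hH : CohB1.IsAmple H)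
    {Ω' : X.Modules} (d : OmegaSh.Der (X ↘ Spec (CommRingCat.of k)) Ω') (hd : OmegaSh.IsUniversal d)
    {r : ℕ} (D : Fin r → X.IdealSheafData) (hD : LogNCD.IsNCD D (X ↘ Spec (CommRingCat.of k))) (Λ : LogNCD.LogMod d D)
    (Ln : X.Modules) (hLn : ExtPow.IsExtPow n Λ.L Ln)
    (F : X.Modules) (hF : FlatMod.IsFinLocFree F)
    (nablaF : Coh.toAb F ⟶ Coh.toAb (CohB1.tensorMod F Λ.L)) (hcF : ConnSh.IsConn (LogNCD.der Λ) F nablaF)
    (KF : ConnSh.Cx (LogNCD.der Λ) F nablaF) (μ : Fin r → ℕ)
    (nabla : Coh.toAb (CohB1.tensorMod F (ClSub.idealMod (∏ j, D j ^ μ j))) ⟶ Coh.toAb (CohB1.tensorMod (CohB1.tensorMod F (ClSub.idealMod (∏ j, D j ^ μ j))) Λ.L))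
    (ht : LogNCD.IsTwist Λ F nablaF (∏ j, D j ^ μ j) nabla) (hc : ConnSh.IsConn (LogNCD.der Λ) (CohB1.tensorMod F (ClSub.idealMod (∏ j, D j ^ μ j))) nabla)
    (K : ConnSh.Cx (LogNCD.der Λ) (CohB1.tensorMod F (ClSub.idealMod (∏ j, D j ^ μ j))) nabla)
    [HasDerivedCategory.{u} (Sheaf (Opens.grothendieckTopology X) AddCommGrpCat.{u})]
    (hE1 : E1Deg.HyperDegenerates K.KZ (⊤ : X.Opens))
    (ρ : ∀ j : Fin r, CohB1.tensorMod F (ClSub.idealMod (∏ j, D j ^ μ j)) ⟶ CohB1.tensorMod (CohB1.tensorMod F (ClSub.idealMod (∏ j, D j ^ μ j))) (ClSub.quotMod (D j)))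
    (hρ : ∀ j, LogNCD.IsResidue Λ (CohB1.tensorMod F (ClSub.idealMod (∏ j, D j ^ μ j))) nabla j (ρ j))
    (R : ∀ j : Fin r, CohB1.tensorMod (CohB1.tensorMod F (ClSub.idealMod (∏ j, D j ^ μ j))) (ClSub.quotMod (D j)) ⟶ CohB1.tensorMod (CohB1.tensorMod F (ClSub.idealMod (∏ j, D j ^ μ j))) (ClSub.quotMod (D j)))
    (hR : ∀ j, (SecTwist.unitorR (CohB1.tensorMod F (ClSub.idealMod (∏ j, D j ^ μ j)))).inv ≫ KoszTw.tensorMap (𝟙 (CohB1.tensorMod F (ClSub.idealMod (∏ j, D j ^ μ j)))) (ClSub.toSubscheme (D j)) ≫ R j = ρ j)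
    (hres : ∀ (j : Fin r) (m : ℕ), 1 ≤ m → m ≤ μ j → IsIso (R j - m • 𝟙 (CohB1.tensorMod (CohB1.tensorMod F (ClSub.idealMod (∏ j, D j ^ μ j))) (ClSub.quotMod (D j)))))
    (b : ℕ) :
    Function.Injective (Sheaf.H.map ((SheafOfModules.toSheaf X.ringCatSheaf).map
      (KoszTw.tensorMap (LogNCD.inclTwist F (∏ j, D j ^ μ j)) (𝟙 Ln))) b) := by
  have := K913.VFinal.relDim k X n hn
  refine K913.Inj.injective_main (K913.HasCharts.hasCharts hd hD Λ) hF μ hc K
    (K913.HasCharts.isFinLocFree hd hD Λ) (K922.Univ.affUniv hd) n hE1 (fun j m h1 h2 => ?_) Ln hLn b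
  refine ⟨ρ j, R j, hρ j, hR j, ?_⟩
  have h3 := hres j m h1 h2
  rwa [sub_eq_add_neg, ← natCast_zsmul, ← neg_smul] at h3

end Groth.Agent.S17707
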