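import Groth.Statements.S17711
import Groth.Agent.DelIll.K904.TopMain

set_option autoImplicit false
universe u
open CategoryTheory CategoryTheory.Limits AlgebraicGeometry TopologicalSpace
open DelIll

namespace Groth.Agent.S17711

/-- Let p be a prime and k a perfect field of characteristic p; let X be a smooth proper k-scheme all of
whose components have dimension at most p, and D_1, …, D_r quasi-coherent ideal sheaves forming a
strict normal crossing divisor D on X (r = 0 allowed), such that (X, D) admits a lifting to the Witt
vectors of length two: a flat g : X~ → Spec W_2(k) with a morphism i : X → X~ making X the base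
change of X~ along Spec k → Spec W_2(k), and closed subschemes D~_j ⊂ X~, flat over W_2(k), whose
ideals pull back along i to the D_j (such a lifting yields one of the Frobenius twist of (X, D),
which is what the published statement asks for, by base change along the Frobenius of W_2(k)). Let
(Ω', d) be a universal receptacle for the differentials of X over k, Ω¹(log D) the pinned sheaf of
differentials with logarithmic poles along D, and K a de Rham complex of X over k for the
logarithmic receptacle ι ∘ d : O_X → Ω¹(log D), that is, a logarithmic de Rham complex Ω•_{X/k}(log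
D) in the pinned sense. Then the logarithmic Hodge to de Rham spectral sequence E_1^{ab} = H^b(X,
Ω^a(log D)) ⇒ ℍ^{a+b}(X, Ω•(log D)), the spectral sequence of the stupid filtration of K on
hypercohomology, degenerates at the first page, in the form: for all a, i the map H^a(X, σ_{≥ i+1}
K) → H^a(X, σ_{≥ i} K) on hypercohomology is injective and H^a(X, σ_{≥ i} K) → H^a(X, K^i in degree
i) is surjective. (The published statement is relative to a noetherian base of characteristic p with
a flat lifting to Z/p², allows a second boundary divisor B entering with a negative twist, and also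
asserts local freeness and base change of the relative Hodge sheaves; here the base is a perfect
field and B = 0.) -/
theorem result (p : ℕ) [Fact p.Prime]
    (k : Type u) [Field k] [CharP k p] [PerfectRing k p]
    (X : Scheme.{u}) [X.Over (Spec (CommRingCat.of k))] [IsProper (X ↘ Spec (CommRingCat.of k))]
    [Smooth (X ↘ Spec (CommRingCat.of k))] (hdim : topologicalKrullDim X ≤ p)
    (Xl : Scheme.{u}) (g : Xl ⟶ Spec (CommRingCat.of (FrobAlg.W2 p k))) [Flat g] (i : X ⟶ Xl)
    (hlift : IsPullback i (X ↘ Spec (CommRingCat.of k)) g (Spec.map (CommRingCat.ofHom (FrobAlg.res p k))))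
    {r : ℕ} (D : Fin r → X.IdealSheafData) (hD : LogNCD.IsNCD D (X ↘ Spec (CommRingCat.of k)))
    (Dl : Fin r → Xl.IdealSheafData) (hDl : ∀ j, (Dl j).comap i = D j) (hDlf : ∀ j, Flat ((Dl j).subschemeι ≫ g))
    {Ω' : X.Modules} (d : OmegaSh.Der (X ↘ Spec (CommRingCat.of k)) Ω') (hd : OmegaSh.IsUniversal d)
    (Λ : LogNCD.LogMod d D)
    (K : DeRhamSh.Cx (X ↘ Spec (CommRingCat.of k)) Λ.L (LogNCD.der Λ))
    [HasDerivedCategory.{u} (Sheaf (Opens.grothendieckTopology X) AddCommGrpCat.{u})] :
    E1Deg.HyperDegenerates K.KZ (⊤ : X.Opens) := by
  exact K904.TopMain.main hlift (K922.Univ.affUniv hd) hD hDl hDlf K hdim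

end Groth.Agent.S17711
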