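import Groth.Statements.S17712
import Groth.Agent.DelIll.K890.LogDeg

set_option autoImplicit false
universe u
open CategoryTheory CategoryTheory.Limits AlgebraicGeometry TopologicalSpace
open DelIll

namespace Groth.Agent.S17712

/-- Let k be a field of characteristic zero, X a smooth proper k-scheme, and D_1, …, D_r quasi-coherent
ideal sheaves forming a strict normal crossing divisor D on X (r = 0 allowed). Let (Ω', d) be a
universal receptacle for the differentials of X over k, Ω¹(log D) the pinned sheaf of differentials
with logarithmic poles along D, and K a de Rham complex of X over k for the logarithmic receptacle ι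
∘ d : O_X → Ω¹(log D) (a logarithmic de Rham complex Ω•_{X/k}(log D) in the pinned sense). Then the
logarithmic Hodge to de Rham spectral sequence E_1^{ab} = H^b(X, Ω^a(log D)) ⇒ ℍ^{a+b}(X, Ω•(log
D)), the spectral sequence of the stupid filtration of K on hypercohomology, degenerates at the
first page, in the form: for all a, i the map H^a(X, σ_{≥ i+1} K) → H^a(X, σ_{≥ i} K) on
hypercohomology is injective and H^a(X, σ_{≥ i} K) → H^a(X, K^i in degree i) is surjective. (The
published statement allows a second reduced boundary divisor B entering with a negative twist; here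
B = 0. For D = 0 this is the degeneration of the ordinary Hodge to de Rham spectral sequence of a
smooth proper scheme in characteristic zero.) -/
theorem result (k : Type u) [Field k] [CharZero k]
    (X : Scheme.{u}) [X.Over (Spec (CommRingCat.of k))] [IsProper (X ↘ Spec (CommRingCat.of k))]
    [Smooth (X ↘ Spec (CommRingCat.of k))]
    {r : ℕ} (D : Fin r → X.IdealSheafData) (hD : LogNCD.IsNCD D (X ↘ Spec (CommRingCat.of k)))
    {Ω' : X.Modules} (d : OmegaSh.Der (X ↘ Spec (CommRingCat.of k)) Ω') (hd : OmegaSh.IsUniversal d)
    (Λ : LogNCD.LogMod d D)
    (K : DeRhamSh.Cx (X ↘ Spec (CommRingCat.of k)) Λ.L (LogNCD.der Λ))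
    [HasDerivedCategory.{u} (Sheaf (Opens.grothendieckTopology X) AddCommGrpCat.{u})] :
    E1Deg.HyperDegenerates K.KZ (⊤ : X.Opens) :=
  K890.LogDeg.main hD hd K

end Groth.Agent.S17712
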