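import Groth.Statements.S17718
import Groth.Agent.MoretBailly.K933.EvNeg

set_option autoImplicit false
open MoretBailly

namespace Groth.Agent.S17718

/-- Let n ≥ 2 and d ≥ 1 be natural numbers with n not congruent to 2 modulo 4, and write B(x) = x/(1 -
e^(-x)) for the exponential generating series of the Bernoulli numbers (B'_1 = 1/2). Then there is
an integer s ≥ 1 such that for all sufficiently large natural numbers p the coefficient of x^n in
B(-dx)^(-1) B(-dpx) B(x)^(n+1) e^((dp-d-n-1+s)x) is strictly negative. (The published argument fixes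
any s with 2s > n + d + 1, which gives the sign only for n congruent to 0 or 1 modulo 4; for n
congruent to 3 modulo 4 the choice s = 1 makes the leading coefficient (2s-d-n-1) B'_(n-1)
d^(n-1)/(2 (n-1)!) negative instead.) -/
theorem result (n d : ℕ) (hn : 2 ≤ n)
    (hmod : n % 4 ≠ 2) (hd : 1 ≤ d) :
    ∃ s : ℤ, 1 ≤ s ∧ ∃ P : ℕ, ∀ p : ℕ, P ≤ p →
      PowerSeries.coeff n ((PowerSeries.rescale (-(d : ℚ)) (bernoulli'PowerSeries ℚ))⁻¹ * PowerSeries.rescale (-((d : ℚ) * p)) (bernoulli'PowerSeries ℚ) * bernoulli'PowerSeries ℚ ^ (n + 1) * PowerSeries.rescale ((d : ℚ) * p - d - n - 1 + s) (PowerSeries.exp ℚ)) < 0 := by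
  have key : ∀ s : ℤ, (bernoulli' n < 0 ∨ (bernoulli' n = 0 ∧
      ((d : ℚ) / 2 + (n + 1) / 2 + (-(d : ℚ) - n - 1 + s)) * bernoulli' (n - 1) < 0)) →
      ∃ P : ℕ, ∀ p : ℕ, P ≤ p →
      PowerSeries.coeff n ((PowerSeries.rescale (-(d : ℚ)) (bernoulli'PowerSeries ℚ))⁻¹ *
        PowerSeries.rescale (-((d : ℚ) * p)) (bernoulli'PowerSeries ℚ) *
        bernoulli'PowerSeries ℚ ^ (n + 1) *
        PowerSeries.rescale ((d : ℚ) * p - d - n - 1 + s) (PowerSeries.exp ℚ)) < 0 := by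
    intro s h
    obtain ⟨P, hP⟩ := K933.EvNeg.todd_eventually_neg n d hn hd (-(d : ℚ) - n - 1 + s) h
    refine ⟨P, fun p hp => ?_⟩
    have h1 : (d : ℚ) * p - d - n - 1 + s = (d : ℚ) * p + (-(d : ℚ) - n - 1 + s) := by ring
    rw [h1]
    exact hP p hp
  have hd' : (1 : ℚ) ≤ d := by exact_mod_cast hd
  have hn' : (2 : ℚ) ≤ n := by exact_mod_cast hn
  have hcases : n % 4 = 0 ∨ n % 4 = 1 ∨ n % 4 = 3 := by omega
  rcases hcases with h0 | h0 | h0
  · obtain ⟨m, rfl⟩ : ∃ m, n = 4 * m := ⟨n / 4, by omega⟩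
    exact ⟨1, le_refl 1, key 1 (Or.inl (K933.BernSign.bernoulli'_four_mul_neg (by omega)))⟩
  · obtain ⟨m, rfl⟩ : ∃ m, n = 4 * m + 1 := ⟨n / 4, by omega⟩
    refine ⟨(4 * m + 1 : ℕ) + d + 1, by omega, key _ (Or.inr
      ⟨bernoulli'_eq_zero_of_odd ⟨2 * m, by ring⟩ (by omega), ?_⟩)⟩
    rw [Nat.add_sub_cancel]
    refine mul_neg_of_pos_of_neg ?_ (K933.BernSign.bernoulli'_four_mul_neg (by omega))
    push_cast
    push_cast at hn'
    linarith
  · obtain ⟨m, rfl⟩ : ∃ m, n = 4 * m + 3 := ⟨n / 4, by omega⟩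
    refine ⟨1, le_refl 1, key 1 (Or.inr
      ⟨bernoulli'_eq_zero_of_odd ⟨2 * m + 1, by ring⟩ (by omega), ?_⟩)⟩
    rw [show 4 * m + 3 - 1 = 4 * m + 2 by omega]
    refine mul_neg_of_neg_of_pos ?_ (K933.BernSign.bernoulli'_four_mul_add_two_pos m)
    have hm : (0 : ℚ) ≤ m := Nat.cast_nonneg m
    push_cast
    linarith

end Groth.Agent.S17718
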