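import Groth.Statements.S17719
import Groth.Agent.CAlg.K70.NodeUnit
import Groth.Agent.S2821
import Groth.Agent.CAlg.K70.GenUnit

set_option autoImplicit false
universe u
open scoped TensorProduct
open CAlg

namespace Groth.Agent.S17719

open MvPowerSeries in
/-- Let R be a regular local ring, complete for its maximal ideal, with fraction field K; let r be a
non-zero element of R and A the quotient of the power series ring in two variables x, y over R by
the ideal generated by xy − r. If an element a of A maps to a unit of A ⊗_R K, then there are an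
element s of R, natural numbers m and n with mn = 0 and a unit u of A with a = s xⁿ yᵐ u. -/
theorem result
    (R : Type u) [CommRing R] [IsRegularLocalRing R]
    [IsAdicComplete (IsLocalRing.maximalIdeal R) R]
    (r : R) (hr : r ≠ 0)
    (a : (MvPowerSeries (Fin 2) R ⧸ Ideal.span {(X 0 * X 1 - C r : MvPowerSeries (Fin 2) R)}))
    (ha : IsUnit (a ⊗ₜ[R] (1 : FractionRing R) :
      (MvPowerSeries (Fin 2) R ⧸ Ideal.span {(X 0 * X 1 - C r : MvPowerSeries (Fin 2) R)}) ⊗[R] FractionRing R)) :
    ∃ (s : R) (m n : ℕ) (u : (MvPowerSeries (Fin 2) R ⧸ Ideal.span {(X 0 * X 1 - C r : MvPowerSeries (Fin 2) R)})ˣ),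
      m * n = 0 ∧ a = Ideal.Quotient.mk _ (C s * X 0 ^ n * X 1 ^ m) * (u : (MvPowerSeries (Fin 2) R ⧸ Ideal.span {(X 0 * X 1 - C r : MvPowerSeries (Fin 2) R)})) := by
  obtain ⟨hdom, hufd⟩ := Groth.Agent.S2821.result R
  by_cases hrm : r ∈ IsLocalRing.maximalIdeal R
  · obtain ⟨b, t, ht, hb⟩ := K70.GenUnit.exists_mul_eq a ha
    obtain ⟨k, s, u, hu⟩ := K70.Node.exists_unit_mul hrm hr (nonZeroDivisors.ne_zero ht) (a := a) (b := b) hb
    rcases le_or_gt 0 k with hk | hk
    · obtain ⟨n, rfl⟩ := Int.eq_ofNat_of_zero_le hk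
      refine ⟨s, 0, n, u, zero_mul n, ?_⟩
      rw [K70.Node.mono_natCast] at hu
      rw [pow_zero, mul_one]
      exact hu
    · obtain ⟨n, rfl⟩ : ∃ n : ℕ, k = -(n : ℤ) := ⟨(-k).toNat, by omega⟩
      refine ⟨s, n, 0, u, mul_zero n, ?_⟩
      rw [K70.Node.mono_neg_natCast] at hu
      rw [pow_zero, mul_one]
      exact hu
  · have hru : IsUnit r := by
      by_contra h
      exact hrm h
    have hsub : Subsingleton (MvPowerSeries (Fin 2) R ⧸
        Ideal.span {(X 0 * X 1 - C r : MvPowerSeries (Fin 2) R)}) := by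
      rw [Ideal.Quotient.subsingleton_iff, Ideal.span_singleton_eq_top,
        MvPowerSeries.isUnit_iff_constantCoeff]
      simpa using hru
    exact ⟨0, 0, 0, 1, rfl, Subsingleton.elim _ _⟩

end Groth.Agent.S17719
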