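import Groth.Statements.S17721
import Groth.Agent.CAlg.K92.GaussIdx
import Mathlib.RingTheory.DiscreteValuationRing.Basic
import Mathlib.RingTheory.PowerSeries.Basic
import Mathlib.RingTheory.UniqueFactorizationDomain.Multiplicity

set_option autoImplicit false
universe u
open CAlg

namespace Groth.Agent.S17721

open Polynomial IsLocalRing in
/-- Let R be a complete discrete valuation ring with fraction field K, and f a polynomial over R with
non-zero constant term a₀ such that a₀ does not divide some coefficient of f of positive degree
(equivalently, the Newton polygon of f has a side of negative slope). Let b be the power series over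
K with b · f = a₀, the expansion of the geometric series in 1 − f/a₀. Then the valuations of the
coefficients b_j are not bounded below: for every non-zero c in R there is an index j with c · b_j
outside R. -/
theorem result
    (R : Type u) [CommRing R] [IsDomain R] [IsDiscreteValuationRing R]
    [IsAdicComplete (maximalIdeal R) R]
    (K : Type u) [Field K] [Algebra R K] [IsFractionRing R K]
    (f : R[X]) (h0 : f.coeff 0 ≠ 0) (hslope : ∃ i : ℕ, 0 < i ∧ ¬ (f.coeff 0 ∣ f.coeff i))
    (b : PowerSeries K)
    (hb : b * ((f.map (algebraMap R K) : K[X]) : PowerSeries K) = PowerSeries.C (algebraMap R K (f.coeff 0))) :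
    ∀ c : R, c ≠ 0 → ∃ j : ℕ, algebraMap R K c * PowerSeries.coeff j b ∉ (algebraMap R K).range := by
  intro c hc
  by_contra hcon
  push Not at hcon
  have hmem : ∀ j, ∃ y : R, algebraMap R K y = algebraMap R K c * PowerSeries.coeff j b :=
    fun j => hcon j
  choose g hg using hmem
  have hinj : Function.Injective (algebraMap R K) := IsFractionRing.injective R K
  have hmul : PowerSeries.mk g * (f : PowerSeries R) = PowerSeries.C (c * f.coeff 0) := by
    apply PowerSeries.map_injective _ hinj
    rw [map_mul, PowerSeries.map_C, map_mul, PowerSeries.C.map_mul, ← hb, ← mul_assoc]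
    congr 1
    · ext j
      rw [PowerSeries.coeff_map, PowerSeries.coeff_mk, hg, PowerSeries.coeff_C_mul]
    · rw [Polynomial.polynomial_map_coe]
  obtain ⟨π, hπ⟩ := IsDiscreteValuationRing.exists_irreducible R
  have hπp : Prime π := hπ.prime
  obtain ⟨s, hs, hs0⟩ := K92.GaussIdx.dvd_of_mul_eq_C π hπp (fun a ha => by
    have h1 : FiniteMultiplicity π a :=
      FiniteMultiplicity.of_prime_left hπp ha
    obtain ⟨n, hn⟩ := h1
    exact ⟨n + 1, hn⟩) (f : PowerSeries R) (PowerSeries.mk g) (c * f.coeff 0)
    (mul_ne_zero hc h0) hmul
  obtain ⟨i, hi, hndvd⟩ := hslope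
  apply hndvd
  have h1 : π ^ s ∣ f.coeff i := by simpa using hs i
  have h2 : ¬ π ^ (s + 1) ∣ f.coeff 0 := by simpa using hs0
  have h3 : π ^ s ∣ f.coeff 0 := by simpa using hs 0
  obtain ⟨n, u, hu⟩ := IsDiscreteValuationRing.eq_unit_mul_pow_irreducible h0 hπ
  have hns : n ≤ s := by
    by_contra hlt
    apply h2
    rw [hu]
    exact (pow_dvd_pow π (by omega)).mul_left _
  rw [hu]
  exact (Units.mul_left_dvd).2 ((pow_dvd_pow π hns).trans h1)

end Groth.Agent.S17721
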