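import Groth.Statements.S17722
import Mathlib.RingTheory.Flat.FaithfullyFlat.Algebra
import Mathlib.RingTheory.Nakayama
import Mathlib.RingTheory.LocalRing.MaximalIdeal.Basic
import Mathlib.RingTheory.Ideal.Operations

set_option autoImplicit false
universe u
open CAlg

namespace Groth.Agent.S17722

/-- Let R → R' be a faithfully flat ring map between Noetherian integrally closed local domains, and p
an ideal of R. If the ideal pR' generated by the image of p is principal, then p is principal. (The
second assertion of the published lemma, descent of unique factorization, is not part of this row.) -/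
theorem result
    (R R' : Type u) [CommRing R] [CommRing R'] [IsDomain R] [IsDomain R']
    [IsNoetherianRing R] [IsNoetherianRing R'] [IsLocalRing R] [IsLocalRing R']
    [IsIntegrallyClosed R] [IsIntegrallyClosed R']
    [Algebra R R'] [Module.FaithfullyFlat R R']
    (p : Ideal R) (hp : (p.map (algebraMap R R')).IsPrincipal) :
    p.IsPrincipal := by
  classical
  have hcomap : ∀ J : Ideal R, (J.map (algebraMap R R')).comap (algebraMap R R') = J :=
    fun J => Ideal.comap_map_eq_self_of_faithfullyFlat J
  obtain ⟨S, hS⟩ := (isNoetherianRing_iff_ideal_fg R).1 inferInstance p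
  obtain ⟨a, ha⟩ := hp
  have ha' : p.map (algebraMap R R') = Ideal.span {a} := ha
  have hpmap : p.map (algebraMap R R') = Ideal.span (algebraMap R R' '' (S : Set R)) := by
    rw [← hS]; exact Ideal.map_span _ _
  have hdiv : ∀ x ∈ S, ∃ b, algebraMap R R' x = b * a := by
    intro x hx
    have : algebraMap R R' x ∈ Ideal.span {a} := by
      rw [← ha', hpmap]
      exact Ideal.subset_span ⟨x, hx, rfl⟩
    rw [Ideal.mem_span_singleton'] at this
    obtain ⟨b, hb⟩ := this
    exact ⟨b, hb.symm⟩
  by_cases hex : ∃ x ∈ S, ∃ b, IsUnit b ∧ algebraMap R R' x = b * a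
  · obtain ⟨x, hx, b, hb, hxb⟩ := hex
    have h1 : p.map (algebraMap R R') = (Ideal.span {x}).map (algebraMap R R') := by
      rw [Ideal.map_span, Set.image_singleton, hxb, ha']
      exact (Ideal.span_singleton_mul_left_unit hb a).symm
    refine ⟨x, ?_⟩
    rw [← hcomap p, h1, hcomap]
  · push Not at hex
    have h1 : p.map (algebraMap R R') ≤ IsLocalRing.maximalIdeal R' • p.map (algebraMap R R') := by
      conv_lhs => rw [hpmap]
      rw [Ideal.span_le]
      rintro _ ⟨x, hx, rfl⟩
      obtain ⟨b, hb⟩ := hdiv x hx
      rw [hb, ha']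
      refine Submodule.smul_mem_smul ?_ (Ideal.mem_span_singleton_self a)
      rw [IsLocalRing.mem_maximalIdeal, mem_nonunits_iff]
      intro hu
      exact hex x hx b hu hb
    have h2 : p.map (algebraMap R R') = ⊥ :=
      Submodule.eq_bot_of_le_smul_of_le_jacobson_bot _ _
        ((isNoetherianRing_iff_ideal_fg R').1 inferInstance _) h1
        (IsLocalRing.maximalIdeal_le_jacobson _)
    refine ⟨0, ?_⟩
    have h3 := hcomap p
    rw [h2] at h3
    have h4 := hcomap ⊥
    rw [Ideal.map_bot] at h4
    rw [← h3, h4]
    simp

end Groth.Agent.S17722
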