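import Groth.Statements.S17724
import Groth.Agent.LabGraph.K794.Elem

set_option autoImplicit false
universe u v
open LabGraph

namespace Groth.Agent.S17724

/-- Let G be a finite connected multigraph with endpoint map ends, whose edges carry labels lab in a set
L and positive integer labels n, and suppose the L-labels are constant along every circuit. Say g :
V → ℤ is pre-achievable when for some finite set B of edges all carrying the same L-label, g takes
equal values at the two endpoints of every edge outside B (so g is constant on the connected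
components of the graph with B deleted); say g is Cartier when for every edge e the integer n(e)
divides the difference of the values of g at its endpoints. Then every Cartier function f is a
finite sum of functions each of which is Cartier and pre-achievable, and when f vanishes at a vertex
v₀ the summands can all be taken to vanish at v₀. -/
theorem result
    {V E : Type u} [Fintype V] [Fintype E] [DecidableEq V] [DecidableEq E] {L : Type v}
    (ends : E → V × V) (lab : E → L) (n : E → ℕ) (hn : ∀ e, 0 < n e)
    (hconn : LabGraph.Connected ends)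
    (hcirc : ∀ C : Finset E, LabGraph.IsCircuit ends C → ∀ e ∈ C, ∀ e' ∈ C, lab e = lab e')
    (f : V → ℤ) (hf : LabGraph.IsCartier ends n f) :
    f ∈ AddSubmonoid.closure {g : V → ℤ | LabGraph.IsCartier ends n g ∧ (∃ B : Finset E, (∀ e ∈ B, ∀ e' ∈ B, lab e = lab e') ∧ ∀ e, e ∉ B → g (ends e).1 = g (ends e).2)} ∧
    ∀ v₀ : V, f v₀ = 0 →
      f ∈ AddSubmonoid.closure {g : V → ℤ | LabGraph.IsCartier ends n g ∧ (∃ B : Finset E, (∀ e ∈ B, ∀ e' ∈ B, lab e = lab e') ∧ ∀ e, e ∉ B → g (ends e).1 = g (ends e).2) ∧ g v₀ = 0} := by
  classical
  -- a spanning tree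
  obtain ⟨T, _, hTconn, hTforest⟩ := K794.Basic.exists_minimal_spanning ends (Finset.univ : Finset E)
    (fun v w => (hconn.reach v w).mono fun e _ => by simp)
  obtain ⟨v₁⟩ := hconn.1
  -- for each label, the part of `f` carried by the edges with this label
  have hex : ∀ (v₀ : V) (c : L), ∃ g : V → ℤ, g v₀ = 0 ∧ ∀ e : E,
      g (ends e).2 - g (ends e).1 = if lab e = c then f (ends e).2 - f (ends e).1 else 0 := by
    intro v₀ c
    obtain ⟨g, hg⟩ := K794.Basic.exists_potential_of_forest ends T hTforest
      (fun e => if lab e = c then f (ends e).2 - f (ends e).1 else 0)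
    refine ⟨fun v => g v - g v₀, sub_self _, fun e => ?_⟩
    have hgoal : g (ends e).2 - g (ends e).1 = if lab e = c then f (ends e).2 - f (ends e).1 else 0 := by
      by_cases heT : e ∈ T
      · exact hg e heT
      · obtain ⟨C, hCT, heC, hC⟩ := K794.Basic.exists_circuit_of_reach heT (hTconn _ _)
        have hr := K794.Basic.reach_erase_of_circuit hC heC
        have hCT' : ∀ e' ∈ ((C.erase e : Finset E) : Set E), e' ∈ T ∧ e' ∈ C := by
          intro e' he'
          simp only [Finset.coe_erase, Set.mem_sdiff, Finset.mem_coe, Set.mem_singleton_iff] at he'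
          exact ⟨(Finset.mem_insert.1 (hCT he'.1)).resolve_left he'.2, he'.1⟩
        by_cases hlab : lab e = c
        · rw [if_pos hlab]
          have := hr.eq_of_const (f := fun v => g v - f v) (fun e' he' => by
            have h1 := hg e' (hCT' e' he').1
            have h2 : lab e' = c := (hcirc C hC e' (hCT' e' he').2 e heC).trans hlab
            simp only [if_pos h2] at h1
            linarith)
          linarith
        · rw [if_neg hlab]
          have := hr.eq_of_const (f := fun v => g v) (fun e' he' => by
            have h1 := hg e' (hCT' e' he').1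
            have h2 : lab e' ≠ c := fun h => hlab ((hcirc C hC e heC e' (hCT' e' he').2).trans h)
            simp only [if_neg h2] at h1
            linarith)
          linarith
    linarith
  have hcar : ∀ (g : V → ℤ) (c : L), (∀ e : E,
      g (ends e).2 - g (ends e).1 = if lab e = c then f (ends e).2 - f (ends e).1 else 0) →
      LabGraph.IsCartier ends n g := by
    intro g c hg e
    have h1 := hg e
    by_cases hlab : lab e = c
    · rw [if_pos hlab] at h1
      have : g (ends e).1 - g (ends e).2 = f (ends e).1 - f (ends e).2 := by linarith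
      rw [this]
      exact hf e
    · rw [if_neg hlab] at h1
      have : g (ends e).1 - g (ends e).2 = 0 := by linarith
      rw [this]
      exact dvd_zero _
  have hach : ∀ (g : V → ℤ) (c : L), (∀ e : E,
      g (ends e).2 - g (ends e).1 = if lab e = c then f (ends e).2 - f (ends e).1 else 0) →
      ∃ B : Finset E, (∀ e ∈ B, ∀ e' ∈ B, lab e = lab e') ∧ ∀ e, e ∉ B → g (ends e).1 = g (ends e).2 := by
    intro g c hg
    refine ⟨Finset.univ.filter fun e => lab e = c, fun e he e' he' => ?_, fun e he => ?_⟩
    · rw [(Finset.mem_filter.1 he).2, (Finset.mem_filter.1 he').2]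
    · have h1 := hg e
      have h2 : lab e ≠ c := fun h => he (Finset.mem_filter.2 ⟨Finset.mem_univ _, h⟩)
      rw [if_neg h2] at h1
      linarith
  -- the decomposition
  have hdec : ∀ v₀ : V, ∃ g : L → V → ℤ, (∀ c, g c v₀ = 0) ∧ (∀ c e,
      g c (ends e).2 - g c (ends e).1 = if lab e = c then f (ends e).2 - f (ends e).1 else 0) ∧
      ∀ v, f v = f v₀ + ∑ c ∈ Finset.univ.image lab, g c v := by
    intro v₀
    choose g hg0 hg using hex v₀
    refine ⟨g, hg0, hg, fun v => ?_⟩
    have := K794.Basic.eq_of_connected hconn (f := fun v => f v - ∑ c ∈ Finset.univ.image lab, g c v)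
      (fun e => by
        have h1 : ∑ c ∈ Finset.univ.image lab, g c (ends e).2 - ∑ c ∈ Finset.univ.image lab, g c (ends e).1 =
            f (ends e).2 - f (ends e).1 := by
          rw [← Finset.sum_sub_distrib]
          simp_rw [hg]
          rw [Finset.sum_ite_eq]
          rw [if_pos (Finset.mem_image_of_mem _ (Finset.mem_univ e))]
        linarith) v v₀
    have h0 : ∑ c ∈ Finset.univ.image lab, g c v₀ = 0 := Finset.sum_eq_zero fun c _ => hg0 c
    rw [h0] at this
    linarith
  constructor
  · obtain ⟨g, hg0, hg, hfg⟩ := hdec v₁
    have : f = (fun _ => f v₁) + ∑ c ∈ Finset.univ.image lab, g c := by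
      funext v
      rw [Pi.add_apply, Finset.sum_apply]
      exact hfg v
    rw [this]
    refine AddSubmonoid.add_mem _ (AddSubmonoid.subset_closure ⟨fun e => by simp, ∅, by simp, by simp⟩)
      (AddSubmonoid.sum_mem _ fun c _ => AddSubmonoid.subset_closure ⟨hcar _ c (hg c), hach _ c (hg c)⟩)
  · intro v₀ hv₀
    obtain ⟨g, hg0, hg, hfg⟩ := hdec v₀
    have : f = ∑ c ∈ Finset.univ.image lab, g c := by
      funext v
      rw [Finset.sum_apply, hfg v, hv₀, zero_add]
    rw [this]
    exact AddSubmonoid.sum_mem _ fun c _ => AddSubmonoid.subset_closure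
      ⟨hcar _ c (hg c), hach _ c (hg c), hg0 c⟩

end Groth.Agent.S17724
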