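import Groth.Statements.S17725

set_option autoImplicit false
universe u
open SpecSp

namespace Groth.Agent.S17725

open AlgebraicGeometry in
/-- In a connected Noetherian scheme any two points p, q are linked by a finite chain of points p = x₁,
…, xₙ = q such that for each i one of x_i, x_{i+1} is a specialization of the other; equivalently, p
and q are related by the equivalence relation generated by the specialization relation. -/
theorem result
    (X : Scheme.{u}) [IsNoetherian X] [ConnectedSpace X] (p q : X) :
    Relation.EqvGen (fun x y : X => x ⤳ y) p q := by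
  let C : Set X := {q | Relation.EqvGen (fun x y : X => x ⤳ y) p q}
  have key : ∀ (D : Set X), (∀ x y : X, x ⤳ y → (x ∈ D ↔ y ∈ D)) → IsClosed D := by
    intro D hD
    have h1 : D = ⋃₀ {Z | Z ∈ irreducibleComponents X ∧ Z ⊆ D} := by
      apply subset_antisymm
      · intro x hx
        refine ⟨irreducibleComponent x, ⟨irreducibleComponent_mem_irreducibleComponents x, ?_⟩,
          mem_irreducibleComponent⟩
        have hirr : IsIrreducible (irreducibleComponent x) := isIrreducible_irreducibleComponent
        have hcl : IsClosed (irreducibleComponent x) := isClosed_irreducibleComponent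
        have hg := hirr.isGenericPoint_genericPoint hcl
        have h2 : ∀ y ∈ irreducibleComponent x, hirr.genericPoint ⤳ y := by
          intro y hy
          exact hg.specializes hy
        intro y hy
        exact (hD _ _ (h2 y hy)).1 ((hD _ _ (h2 x mem_irreducibleComponent)).2 hx)
      · exact Set.sUnion_subset fun Z hZ => hZ.2
    rw [h1]
    rw [Set.sUnion_eq_biUnion]
    refine Set.Finite.isClosed_biUnion ?_ fun Z hZ => isClosed_of_mem_irreducibleComponents Z hZ.1
    exact TopologicalSpace.NoetherianSpace.finite_irreducibleComponents.subset fun Z hZ => hZ.1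
  have hC : ∀ x y : X, x ⤳ y → (x ∈ C ↔ y ∈ C) := fun x y h =>
    ⟨fun hx => hx.trans _ _ _ (Relation.EqvGen.rel _ _ h),
      fun hy => hy.trans _ _ _ ((Relation.EqvGen.rel _ _ h).symm _ _)⟩
  have h1 : IsClopen C := by
    refine ⟨key C hC, ?_⟩
    rw [← isClosed_compl_iff]
    exact key _ fun x y h => not_congr (hC x y h)
  have h2 : C = Set.univ := h1.eq_univ ⟨p, Relation.EqvGen.refl p⟩
  exact h2.symm.subset (Set.mem_univ q)

end Groth.Agent.S17725
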