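import Groth.Statements.S17726
import Mathlib.RingTheory.Ideal.Operations
import Mathlib.Algebra.GroupWithZero.NonZeroDivisors

set_option autoImplicit false
universe u
open CAlg

namespace Groth.Agent.S17726

/-- Let f and g be non-zero-divisors of a commutative ring A, not both units; think of them as local
equations, at a point of the union of the supports, of two effective Cartier divisors E and D. If
the ideals generated by g^{m₁} and f^{n₁} coincide, and likewise for g^{m₂} and f^{n₂}, then m₁ n₂ =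
m₂ n₁. So all pairs (m, n) with m D = n E locally at the point are proportional, and the saturation
of the monoid they form is generated by a single element. -/
theorem result
    (A : Type u) [CommRing A] (f g : A)
    (hf : f ∈ nonZeroDivisors A) (hg : g ∈ nonZeroDivisors A) (hfg : ¬ (IsUnit f ∧ IsUnit g))
    (m₁ n₁ m₂ n₂ : ℕ)
    (h₁ : Ideal.span {g ^ m₁} = Ideal.span {f ^ n₁})
    (h₂ : Ideal.span {g ^ m₂} = Ideal.span {f ^ n₂}) :
    m₁ * n₂ = m₂ * n₁ := by
  have key : ∀ a b : ℕ, a < b → Ideal.span {g ^ a} = Ideal.span {g ^ b} → IsUnit g := by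
    intro a b hab h
    have h1 : g ^ b ∣ g ^ a := by
      rw [← Ideal.mem_span_singleton, ← h]; exact Ideal.mem_span_singleton_self _
    obtain ⟨c, hc⟩ := h1
    obtain ⟨d, rfl⟩ := Nat.exists_eq_add_of_lt hab
    have h2 : g ^ a * 1 = g ^ a * (g ^ (d + 1) * c) := by
      rw [mul_one, ← mul_assoc, ← pow_add, ← add_assoc]; exact hc
    have h3 : (1 : A) = g ^ (d + 1) * c := by
      exact (mul_cancel_left_mem_nonZeroDivisors (pow_mem hg a)).1 h2
    have h4 : IsUnit (g ^ (d + 1)) := IsUnit.of_mul_eq_one _ h3.symm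
    exact (isUnit_pow_iff (Nat.succ_ne_zero d)).1 h4
  have e1 : Ideal.span {g ^ (m₁ * n₂)} = Ideal.span {g ^ (m₂ * n₁)} := by
    calc Ideal.span {g ^ (m₁ * n₂)} = Ideal.span {g ^ m₁} ^ n₂ := by
            rw [Ideal.span_singleton_pow, pow_mul]
      _ = Ideal.span {f ^ n₁} ^ n₂ := by rw [h₁]
      _ = Ideal.span {f ^ n₂} ^ n₁ := by
            rw [Ideal.span_singleton_pow, Ideal.span_singleton_pow, ← pow_mul, ← pow_mul, mul_comm]
      _ = Ideal.span {g ^ m₂} ^ n₁ := by rw [h₂]
      _ = Ideal.span {g ^ (m₂ * n₁)} := by rw [Ideal.span_singleton_pow, pow_mul]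
  by_contra hne
  have hgu : IsUnit g := by
    rcases lt_or_gt_of_ne hne with h | h
    · exact key _ _ h e1
    · exact key _ _ h e1.symm
  have hn : ∀ m n : ℕ, Ideal.span {g ^ m} = Ideal.span {f ^ n} → n = 0 := by
    intro m n h
    by_contra h0
    have h1 : f ^ n ∣ g ^ m := by
      rw [← Ideal.mem_span_singleton, ← h]; exact Ideal.mem_span_singleton_self _
    have h1 : IsUnit (f ^ n) := isUnit_of_dvd_unit h1 (hgu.pow m)
    exact hfg ⟨(isUnit_pow_iff h0).1 h1, hgu⟩
  rw [hn _ _ h₁, hn _ _ h₂] at hne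
  exact hne (by simp)

end Groth.Agent.S17726
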