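import Groth.Statements.S17728
import Groth.Agent.Neron.K490.FlatNhd

set_option autoImplicit false
universe u
open Neron

namespace Groth.Agent.S17728

open CategoryTheory AlgebraicGeometry in
/-- Let S be a Noetherian scheme, U ⊆ S a dense open subscheme and f : X → S a morphism locally of
finite type which restricts to an isomorphism over U and for which the preimage of U is
schematically dense in X. For a point x of X the following are equivalent: f is étale on some open
neighbourhood of x; f is flat at x, that is, the local ring of X at x is flat over the local ring of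
S at f(x); some open neighbourhood V of f(x) carries a section σ of f over V passing through x. -/
theorem result
    {X S : Scheme.{u}} [IsNoetherian S] (f : X ⟶ S) [LocallyOfFiniteType f]
    (U : S.Opens) (hU : Dense (U : Set S))
    (hiso : IsIso (morphismRestrict f U)) (hdense : CInt.IsSchematicallyDense (f ⁻¹ᵁ U))
    (x : X) :
    List.TFAE [
      ∃ W : X.Opens, x ∈ W ∧ Etale (W.ι ≫ f),
      (f.stalkMap x).hom.Flat,
      ∃ (V : S.Opens) (hV : f.base x ∈ V) (σ : (V : Scheme.{u}) ⟶ X),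
        σ ≫ f = V.ι ∧ σ.base ⟨f.base x, hV⟩ = x] := by
  have hI : IsIso (morphismRestrict f U) := hiso
  tfae_have 1 → 2 := by
    rintro ⟨W, hxW, hW⟩
    have h1 : ((W.ι ≫ f).stalkMap ⟨x, hxW⟩).hom.Flat := Flat.stalkMap _ _
    rw [Scheme.Hom.stalkMap_comp] at h1
    have h2 : (f.stalkMap x).hom = (inv (W.ι.stalkMap ⟨x, hxW⟩)).hom.comp
        (f.stalkMap (W.ι ⟨x, hxW⟩) ≫ W.ι.stalkMap ⟨x, hxW⟩).hom := by
      rw [← CommRingCat.hom_comp, Category.assoc, IsIso.hom_inv_id, Category.comp_id]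
      rfl
    rw [h2]
    exact RingHom.Flat.comp h1 (RingHom.Flat.of_bijective
      (ConcreteCategory.bijective_of_isIso (inv (W.ι.stalkMap ⟨x, hxW⟩))))
  tfae_have 2 → 3 := by
    intro h
    obtain ⟨W, hxW, hW⟩ := K490.FlatNhd.exists_nhd_of_flatAt f U hdense x h
    let V : S.Opens := (W.ι ≫ f).opensRange
    have hV : f.base x ∈ V := ⟨⟨x, hxW⟩, by rw [Scheme.Hom.comp_apply]; rfl⟩
    let e : (W : Scheme.{u}) ≅ (V : Scheme.{u}) :=
      IsOpenImmersion.isoOfRangeEq (W.ι ≫ f) V.ι (by rw [Scheme.Opens.range_ι]; rfl)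
    have he : e.hom ≫ V.ι = W.ι ≫ f := IsOpenImmersion.isoOfRangeEq_hom_fac _ _ _
    have hσ : (e.inv ≫ W.ι) ≫ f = V.ι := by
      rw [Category.assoc, ← he, Iso.inv_hom_id_assoc]
    refine ⟨V, hV, e.inv ≫ W.ι, hσ, ?_⟩
    have h3 : e.hom ⟨x, hxW⟩ = ⟨f.base x, hV⟩ := by
      apply V.ι.injective
      have h4 := congr($he ⟨x, hxW⟩)
      rw [Scheme.Hom.comp_apply] at h4
      rw [h4, Scheme.Hom.comp_apply]
      rfl
    rw [← h3]
    change (e.inv ≫ W.ι) (e.hom ⟨x, hxW⟩) = x
    rw [← Scheme.Hom.comp_apply, Iso.hom_inv_id_assoc]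
    rfl
  tfae_have 3 → 1 := by
    rintro ⟨V, hV, σ, hσ, hσx⟩
    obtain ⟨W, hW, hWo⟩ := K490.SecNhd.exists_nhd_isOpenImmersion f U hdense V σ hσ ⟨f.base x, hV⟩
    have hx : x ∈ W := by rw [← hσx]; exact hW
    exact ⟨W, hx, inferInstance⟩
  tfae_finish

end Groth.Agent.S17728
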