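import Groth.Statements.S17730
import Groth.Agent.Brnch.K580.SmoothDom
import Groth.Agent.Hensel.Lazard

set_option autoImplicit false
universe u
open Hensel

namespace Groth.Agent.S17730

open IsLocalRing in
/-- Let R be a Noetherian local ring which is strictly henselian (henselian with separably closed
residue field), Δ a prime element of R, R' a smooth R-algebra, q a prime ideal of R' containing the
image of the maximal ideal of R, and T a strict henselization of the localization R'_q. Then the
image of Δ in T is a prime element of T. (This is the published statement, that a prime element of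
the étale local ring of the base at a geometric point remains prime in the étale local ring of a
smooth scheme over it at a geometric point above, written for the base the spectrum of R; the
published hypothesis that the base be smooth-factorial, meaning that all its smooth schemes are
locally factorial, is not used by the argument and is omitted; R is taken Noetherian, which the
published statement does not state and the argument requires.) -/
theorem result
    (R R' T : Type u) [CommRing R] [IsNoetherianRing R] [HenselianLocalRing R]
    [IsSepClosed (ResidueField R)]
    [CommRing R'] [Algebra R R'] [Algebra.Smooth R R']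
    (q : Ideal R') [q.IsPrime] (hq : (maximalIdeal R).map (algebraMap R R') ≤ q)
    [CommRing T] [IsLocalRing T] [Algebra (Localization.AtPrime q) T]
    [IsLocalHom (algebraMap (Localization.AtPrime q) T)]
    [Hensel.IsStrictHenselization (Localization.AtPrime q) T]
    (Δ : R) (hΔ : Prime Δ) :
    Prime (algebraMap (Localization.AtPrime q) T
      (algebraMap R' (Localization.AtPrime q) (algebraMap R R' Δ))) := by
  let _ : Algebra R' T := ((algebraMap (Localization.AtPrime q) T).comp
    (algebraMap R' (Localization.AtPrime q))).toAlgebra
  have tow1 : IsScalarTower R' (Localization.AtPrime q) T := IsScalarTower.of_algebraMap_eq fun _ => rfl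
  let _ : Algebra R T := ((algebraMap R' T).comp (algebraMap R R')).toAlgebra
  have tow2 : IsScalarTower R R' T := IsScalarTower.of_algebraMap_eq fun _ => rfl
  have h1 : Groth.Agent.CalgC.IndEtale.IsIndEtale R' (Localization.AtPrime q) :=
    Groth.Agent.CalgC.IndEtale.isIndEtale_of_isLocalization q.primeCompl _
  have h2 : Groth.Agent.CalgC.IndEtale.IsIndEtale (Localization.AtPrime q) T :=
    Groth.Agent.Hensel.Lazard.laz_of_isStrictHenselization (Localization.AtPrime q) T
  have h3 : Groth.Agent.CalgC.IndEtale.IsIndEtale R' T :=
    Groth.Agent.CalgC.IndEtale.IsInd.comp Groth.Agent.CalgC.IndEtale.isGood_etale h1 h2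
  have h4 : Groth.Agent.CalgC.IndEtale.IsIndSmooth R' T :=
    Groth.Agent.CalgC.IndEtale.IsInd.of_isIndEtale Groth.Agent.CalgC.IndEtale.isGood_smooth h3
  have h5 : Groth.Agent.CalgC.IndEtale.IsIndSmooth R R' :=
    Groth.Agent.CalgC.IndEtale.IsInd.of_self (Q := fun A E _ _ _ => Algebra.Smooth A E) inferInstance
  have h6 : Groth.Agent.CalgC.IndEtale.IsIndSmooth R T :=
    Groth.Agent.CalgC.IndEtale.IsInd.comp Groth.Agent.CalgC.IndEtale.isGood_smooth h5 h4
  have hloc : IsLocalHom (algebraMap R T) := by
    refine ⟨fun x hx => ?_⟩
    have h7 : IsUnit (algebraMap (Localization.AtPrime q) T (algebraMap R' _ (algebraMap R R' x))) := hx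
    have h8 := isUnit_of_map_unit _ _ h7
    by_contra hn
    have h9 : algebraMap R R' x ∈ q := hq (Ideal.mem_map_of_mem _ ((mem_maximalIdeal x).2 hn))
    exact (IsLocalization.AtPrime.isUnit_to_map_iff (Localization.AtPrime q) q _).1 h8 h9
  exact K580.SmoothDom.prime_of_isIndSmooth R T h6 Δ hΔ

end Groth.Agent.S17730
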