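import Groth.Statements.S17731
import Groth.Agent.Neron.K490.PullMap

set_option autoImplicit false
universe u
open Neron

namespace Groth.Agent.S17731

open CategoryTheory AlgebraicGeometry in
/-- Let S be a scheme, U ⊆ S a schematically dense open subscheme and N → S a smooth S-scheme having
uniqueness in the Néron mapping property with respect to U: for every smooth S-scheme Y, restriction
to U is injective on S-morphisms Y → N. Then for every smooth morphism g : S' → S the base change N
×_S S' → S' has uniqueness in the Néron mapping property with respect to g⁻¹(U): for every smooth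
S'-scheme Y', restriction to g⁻¹(U) is injective on S'-morphisms Y' → N ×_S S'. (The published
statement is for models which are algebraic spaces, tested against smooth algebraic spaces; this row
states the case of a scheme model tested against smooth schemes. The companion assertion that Néron
models are preserved by smooth base change is not restated here.) -/
theorem result
    {S S' : Scheme.{u}} (g : S' ⟶ S) [Smooth g]
    (U : S.Opens) (hU : CInt.IsSchematicallyDense U) (N : Over S) [Smooth N.hom]
    (hN : ∀ Y : Over S, Smooth Y.hom →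
      Function.Injective (fun f : Y ⟶ N => (Over.pullback U.ι).map f))
    (Y' : Over S') [Smooth Y'.hom] :
    Function.Injective (fun f : Y' ⟶ (Over.pullback g).obj N => (Over.pullback (g ⁻¹ᵁ U).ι).map f) := by
  intro f₁ f₂ h
  have h0 := (K490.PullMap.pullback_map_eq_iff (g ⁻¹ᵁ U).ι f₁ f₂).mp h
  -- the `S`-morphisms `Y' ⟶ N`
  let Y : Over S := Over.mk (Y'.hom ≫ g)
  have hsm : Smooth Y.hom := by
    change Smooth (Y'.hom ≫ g)
    infer_instance
  let a (f : Y' ⟶ (Over.pullback g).obj N) : Y ⟶ N :=
    Over.homMk (f.left ≫ Limits.pullback.fst N.hom g) (by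
      have h1 := Over.w f
      change f.left ≫ Limits.pullback.snd N.hom g = Y'.hom at h1
      change (f.left ≫ Limits.pullback.fst N.hom g) ≫ N.hom = Y'.hom ≫ g
      rw [Category.assoc, Limits.pullback.condition, ← h1, Category.assoc])
  have ha : a f₁ = a f₂ := by
    apply hN Y hsm
    refine (K490.PullMap.pullback_map_eq_iff U.ι (a f₁) (a f₂)).mpr ?_
    -- the projection from `Y' ×_S U` factors through `Y' ×_{S'} g⁻¹ U`
    change Limits.pullback.fst (Y'.hom ≫ g) U.ι ≫ f₁.left ≫ Limits.pullback.fst N.hom g =
      Limits.pullback.fst (Y'.hom ≫ g) U.ι ≫ f₂.left ≫ Limits.pullback.fst N.hom g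
    have hr : Set.range (Limits.pullback.fst (Y'.hom ≫ g) U.ι ≫ Y'.hom) ⊆ Set.range (g ⁻¹ᵁ U).ι := by
      rintro _ ⟨t, rfl⟩
      rw [Scheme.Opens.range_ι]
      change g ((Limits.pullback.fst (Y'.hom ≫ g) U.ι ≫ Y'.hom) t) ∈ U
      have h2 : g ((Limits.pullback.fst (Y'.hom ≫ g) U.ι ≫ Y'.hom) t) =
          U.ι ((Limits.pullback.snd (Y'.hom ≫ g) U.ι) t) := by
        have h3 := Limits.pullback.condition (f := Y'.hom ≫ g) (g := U.ι)
        have h4 := congr($h3 t)
        exact h4
      rw [h2]
      exact ((Limits.pullback.snd (Y'.hom ≫ g) U.ι) t).2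
    let l : Limits.pullback (Y'.hom ≫ g) U.ι ⟶ Limits.pullback Y'.hom (g ⁻¹ᵁ U).ι :=
      Limits.pullback.lift (Limits.pullback.fst (Y'.hom ≫ g) U.ι)
        (IsOpenImmersion.lift (g ⁻¹ᵁ U).ι (Limits.pullback.fst (Y'.hom ≫ g) U.ι ≫ Y'.hom) hr)
        (IsOpenImmersion.lift_fac _ _ _).symm
    have hl : l ≫ Limits.pullback.fst Y'.hom (g ⁻¹ᵁ U).ι = Limits.pullback.fst (Y'.hom ≫ g) U.ι :=
      Limits.pullback.lift_fst _ _ _
    rw [← hl, Category.assoc, Category.assoc, reassoc_of% h0]
  -- conclude
  ext1
  apply Limits.pullback.hom_ext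
  · exact congr(($ha).left)
  · have h1 := Over.w f₁
    have h2 := Over.w f₂
    exact h1.trans h2.symm

end Groth.Agent.S17731
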