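import Groth.Statements.S17732
import Groth.Agent.Divis.CartierBasic
import Mathlib.Tactic

set_option autoImplicit false
universe u
open CDiv

namespace Groth.Agent.S17732

open AlgebraicGeometry Groth.Agent.Divis.CartierBasic

/-- two powers of the ideal of a nonzerodivisor nonunit of a ring with equal ideals have equal
exponents -/
theorem pow_inj_of_ne_top {A : Type u} [CommRing A] {g : A} (hg : g ∈ nonZeroDivisors A)
    (h1 : Ideal.span {g} ≠ ⊤) {a b : ℕ} (h : Ideal.span {g} ^ a = Ideal.span {g} ^ b) : a = b := by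
  wlog hab : a < b generalizing a b
  · rcases lt_trichotomy a b with h' | h' | h'
    · exact absurd h' hab
    · exact h'
    · exact (this h.symm h').symm
  exfalso
  rw [Ideal.span_singleton_pow, Ideal.span_singleton_pow] at h
  have h2 : g ^ a ∈ Ideal.span {g ^ b} := by
    rw [← h]
    exact Ideal.mem_span_singleton_self _
  obtain ⟨c, hc⟩ := Ideal.mem_span_singleton.1 h2
  obtain ⟨k, rfl⟩ : ∃ k, b = a + (k + 1) := ⟨b - a - 1, by omega⟩
  have h3 : g ^ a * (g ^ (k + 1) * c) = g ^ a * 1 := by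
    rw [mul_one, ← mul_assoc, ← pow_add]
    exact hc.symm
  have h4 : g ^ (k + 1) * c = 1 :=
    (mul_cancel_left_mem_nonZeroDivisors (pow_mem hg a)).1 h3
  apply h1
  rw [Ideal.span_singleton_eq_top]
  rw [pow_succ, mul_assoc, mul_comm, mul_assoc] at h4
  exact IsUnit.of_mul_eq_one _ h4

/-- proportionality of the pairs at a common point of the supports -/
theorem cross_eq {A : Type u} [CommRing A] {g h : A} (hg : g ∈ nonZeroDivisors A)
    (hh : h ∈ nonZeroDivisors A) (hne : Ideal.span {g} ≠ ⊤ ∨ Ideal.span {h} ≠ ⊤) {m n m' n' : ℕ}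
    (h1 : Ideal.span {g} ^ m = Ideal.span {h} ^ n) (h2 : Ideal.span {g} ^ m' = Ideal.span {h} ^ n') :
    m * n' = m' * n := by
  rcases hne with hne | hne
  · apply pow_inj_of_ne_top hg hne
    rw [pow_mul, h1, ← pow_mul, mul_comm n n', pow_mul, ← h2, ← pow_mul]
  · rw [mul_comm m n', mul_comm m' n]
    apply pow_inj_of_ne_top hh hne
    rw [pow_mul, ← h2, ← pow_mul, mul_comm m' m, pow_mul, h1, ← pow_mul]

/-- transitivity of proportionality through a nonzero pair -/
theorem cross_trans {m0 n0 m1 n1 m2 n2 : ℕ} (h : (m1, n1) ≠ (0, 0)) (h1 : m1 * n0 = m0 * n1)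
    (h2 : m1 * n2 = m2 * n1) : m2 * n0 = m0 * n2 := by
  by_cases hn : n1 = 0
  · have hm : m1 ≠ 0 := fun hm => h (by rw [hm, hn])
    apply Nat.eq_of_mul_eq_mul_left (Nat.pos_of_ne_zero hm)
    calc m1 * (m2 * n0) = m2 * (m1 * n0) := by ring
      _ = m0 * (m2 * n1) := by rw [h1]; ring
      _ = m1 * (m0 * n2) := by rw [← h2]; ring
  · apply Nat.eq_of_mul_eq_mul_left (Nat.pos_of_ne_zero hn)
    calc n1 * (m2 * n0) = n0 * (m2 * n1) := by ring
      _ = n2 * (m1 * n0) := by rw [← h2]; ring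
      _ = n1 * (m0 * n2) := by rw [h1]; ring

/-- a pair proportional to `(m0, n0) ≠ 0` is a multiple of its primitive form -/
theorem exists_mul {m0 n0 : ℕ} (h : (m0, n0) ≠ (0, 0)) : ∃ a b : ℕ, (a, b) ≠ (0, 0) ∧
    ∀ m n : ℕ, m * n0 = m0 * n → ∃ k : ℕ, m = k * a ∧ n = k * b := by
  obtain ⟨g, a, b, hg, hab, rfl, rfl⟩ : ∃ g a b, 0 < g ∧ Nat.Coprime a b ∧ m0 = a * g ∧ n0 = b * g := by
    have hpos : 0 < Nat.gcd m0 n0 := by
      rcases Nat.eq_zero_or_pos (Nat.gcd m0 n0) with h0 | h0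
      · rw [Nat.gcd_eq_zero_iff] at h0
        exact absurd (by rw [h0.1, h0.2]) h
      · exact h0
    obtain ⟨m', n', hc, h1, h2⟩ := Nat.exists_coprime m0 n0
    exact ⟨_, m', n', hpos, hc, h1, h2⟩
  refine ⟨a, b, ?_, ?_⟩
  · intro h0
    rw [Prod.mk.injEq] at h0
    exact h (by rw [h0.1, h0.2, zero_mul])
  · intro m n hmn
    have h1 : m * b = a * n := by
      apply Nat.eq_of_mul_eq_mul_left hg
      calc g * (m * b) = m * (b * g) := by ring
        _ = g * (a * n) := by rw [hmn]; ring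
    have h2 : a ∣ m := hab.dvd_of_dvd_mul_right (Dvd.intro _ h1.symm)
    obtain ⟨k, rfl⟩ := h2
    by_cases ha : a = 0
    · subst ha
      have hb : b = 1 := by simpa using hab
      refine ⟨n, by simp, by rw [hb, mul_one]⟩
    · refine ⟨k, mul_comm _ _, ?_⟩
      apply Nat.eq_of_mul_eq_mul_left (Nat.pos_of_ne_zero ha)
      rw [← h1]
      ring

open AlgebraicGeometry in
/-- Let X be a Noetherian scheme and D, E effective Cartier divisors on X, encoded by their ideal
sheaves, each locally generated on an affine open by a single non-zero-divisor. Assume that the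
union of the supports of D and E is connected (or empty) and that every point of X has an affine
open neighbourhood on which the m-th power of the ideal of D equals the n-th power of the ideal of E
for some (m, n) ≠ (0, 0). Then there is a pair (m, n) ≠ (0, 0) for which this equality holds on
every affine open of X, that is, m D = n E globally. -/
theorem result
    (X : Scheme.{u}) [IsNoetherian X] (D E : X.IdealSheafData)
    (hD : (∀ x : X, ∃ U : X.affineOpens, x ∈ (U : X.Opens) ∧ ∃ g : Γ(X, U), g ∈ nonZeroDivisors Γ(X, U) ∧ D.ideal U = Ideal.span {g}))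
    (hE : (∀ x : X, ∃ U : X.affineOpens, x ∈ (U : X.Opens) ∧ ∃ g : Γ(X, U), g ∈ nonZeroDivisors Γ(X, U) ∧ E.ideal U = Ideal.span {g}))
    (hconn : IsPreconnected ((D.support : Set X) ∪ (E.support : Set X)))
    (hloc : ∀ x : X, ∃ U : X.affineOpens, x ∈ (U : X.Opens) ∧
      ∃ m n : ℕ, (m, n) ≠ (0, 0) ∧ D.ideal U ^ m = E.ideal U ^ n) :
    ∃ m n : ℕ, (m, n) ≠ (0, 0) ∧ ∀ U : X.affineOpens, D.ideal U ^ m = E.ideal U ^ n := by
  classical
  choose U hxU m n hmn heq using hloc
  have hD' : BlowUp.IsEffCartierIdeal D := hD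
  have hE' : BlowUp.IsEffCartierIdeal E := hE
  set Z : Set X := (D.support : Set X) ∪ (E.support : Set X) with hZ
  have hst : ∀ x y, y ∈ (U x : X.Opens) → stalkIdeal D y ^ m x = stalkIdeal E y ^ n x := by
    intro x y hy
    rw [stalkIdeal_eq D (U x) hy, stalkIdeal_eq E (U x) hy, ← Ideal.map_pow, ← Ideal.map_pow, heq]
  -- the pairs are proportional at common points of `Z`
  have hcross : ∀ x x' y, y ∈ Z → y ∈ (U x : X.Opens) → y ∈ (U x' : X.Opens) →
      m x * n x' = m x' * n x := by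
    intro x x' y hy hyx hyx'
    obtain ⟨g, hg, hDg⟩ := exists_stalkIdeal_eq_span hD' y
    obtain ⟨h, hh, hEh⟩ := exists_stalkIdeal_eq_span hE' y
    refine cross_eq hg hh ?_ (m := m x) (n := n x) (m' := m x') (n' := n x') ?_ ?_
    · rw [← hDg, ← hEh]
      rcases hy with hy | hy
      · exact Or.inl ((mem_support_iff_stalkIdeal_ne_top D y).1 hy)
      · exact Or.inr ((mem_support_iff_stalkIdeal_ne_top E y).1 hy)
    · rw [← hDg, ← hEh]; exact hst x y hyx
    · rw [← hDg, ← hEh]; exact hst x' y hyx'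
  -- a finite subcover
  obtain ⟨t, ht⟩ : ∃ t : Finset X, (Set.univ : Set X) ⊆ ⋃ x ∈ t, ((U x : X.Opens) : Set X) :=
    isCompact_univ.elim_finite_subcover (fun x => ((U x : X.Opens) : Set X))
      (fun x => (U x : X.Opens).isOpen) (fun x _ => Set.mem_iUnion.2 ⟨x, hxU x⟩)
  -- it is enough to find a common multiple of the pairs of the members meeting `Z`
  suffices H : ∃ a b : ℕ, (a, b) ≠ (0, 0) ∧ ∀ x ∈ t, (Z ∩ ((U x : X.Opens) : Set X)).Nonempty →
      ∃ c : ℕ, a = m x * c ∧ b = n x * c by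
    obtain ⟨a, b, hab, H⟩ := H
    refine ⟨a, b, hab, ?_⟩
    have h1 : D ^ a = E ^ b := by
      apply ext_stalkIdeal
      intro y
      rw [stalkIdeal_pow, stalkIdeal_pow]
      by_cases hy : y ∈ Z
      · obtain ⟨x, hx, hyx⟩ := Set.mem_iUnion₂.1 (ht (Set.mem_univ y))
        obtain ⟨c, rfl, rfl⟩ := H x hx ⟨y, hy, hyx⟩
        rw [pow_mul, hst x y hyx, ← pow_mul]
      · have hyD : y ∉ D.support := fun h => hy (Or.inl h)
        have hyE : y ∉ E.support := fun h => hy (Or.inr h)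
        rw [(notMem_support_iff_stalkIdeal_eq_top D y).1 hyD,
          (notMem_support_iff_stalkIdeal_eq_top E y).1 hyE, Ideal.top_pow, Ideal.top_pow]
    intro V
    have h2 := congrFun (congrArg Scheme.IdealSheafData.ideal h1) V
    rw [Scheme.IdealSheafData.ideal_pow, Scheme.IdealSheafData.ideal_pow] at h2
    exact h2
  by_cases hne : ∃ x0 ∈ t, (Z ∩ ((U x0 : X.Opens) : Set X)).Nonempty
  swap
  · push Not at hne
    exact ⟨1, 0, by simp, fun x hx hx' => absurd hx' (by rw [hne x hx]; exact Set.not_nonempty_empty)⟩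
  obtain ⟨x0, hx0t, hx0⟩ := hne
  -- all members meeting `Z` have proportional pairs
  have hprop : ∀ x, (Z ∩ ((U x : X.Opens) : Set X)).Nonempty → m x * n x0 = m x0 * n x := by
    intro x hx
    by_contra hcon
    let u : Set X := ⋃ y ∈ {y | m y * n x0 = m x0 * n y}, ((U y : X.Opens) : Set X)
    let v : Set X := ⋃ y ∈ {y | ¬ m y * n x0 = m x0 * n y}, ((U y : X.Opens) : Set X)
    have hu : IsOpen u := isOpen_biUnion fun y _ => (U y : X.Opens).isOpen
    have hv : IsOpen v := isOpen_biUnion fun y _ => (U y : X.Opens).isOpen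
    have hcov : Z ⊆ u ∪ v := by
      intro y _
      by_cases hy : m y * n x0 = m x0 * n y
      · exact Or.inl (Set.mem_iUnion₂.2 ⟨y, hy, hxU y⟩)
      · exact Or.inr (Set.mem_iUnion₂.2 ⟨y, hy, hxU y⟩)
    have hZu : (Z ∩ u).Nonempty := by
      obtain ⟨z, hz, hz'⟩ := hx0
      exact ⟨z, hz, Set.mem_iUnion₂.2 ⟨x0, rfl, hz'⟩⟩
    have hZv : (Z ∩ v).Nonempty := by
      obtain ⟨z, hz, hz'⟩ := hx
      exact ⟨z, hz, Set.mem_iUnion₂.2 ⟨x, hcon, hz'⟩⟩
    obtain ⟨z, hz, hzu, hzv⟩ := hconn u v hu hv hcov hZu hZv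
    obtain ⟨y1, hy1, hzy1⟩ := Set.mem_iUnion₂.1 hzu
    obtain ⟨y2, hy2, hzy2⟩ := Set.mem_iUnion₂.1 hzv
    exact hy2 (cross_trans (hmn y1) hy1 (hcross y1 y2 z hz hzy1 hzy2))
  obtain ⟨a, b, hab, hmul⟩ := exists_mul (hmn x0)
  have hk : ∀ x : X, ∃ k : ℕ, k ≠ 0 ∧ ((Z ∩ ((U x : X.Opens) : Set X)).Nonempty →
      m x = k * a ∧ n x = k * b) := by
    intro x
    by_cases hx : (Z ∩ ((U x : X.Opens) : Set X)).Nonempty
    · obtain ⟨k, h1, h2⟩ := hmul _ _ (hprop x hx)
      refine ⟨k, ?_, fun _ => ⟨h1, h2⟩⟩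
      rintro rfl
      exact hmn x (by rw [h1, h2, zero_mul, zero_mul])
    · exact ⟨1, one_ne_zero, fun h => absurd h hx⟩
  choose k hk0 hk1 using hk
  have hP : ∏ x ∈ t, k x ≠ 0 := Finset.prod_ne_zero_iff.2 fun x _ => hk0 x
  refine ⟨(∏ x ∈ t, k x) * a, (∏ x ∈ t, k x) * b, ?_, ?_⟩
  · intro h0
    rw [Prod.mk.injEq] at h0
    apply hab
    rw [(Nat.mul_eq_zero.1 h0.1).resolve_left hP, (Nat.mul_eq_zero.1 h0.2).resolve_left hP]
  · intro x hx hx'
    obtain ⟨h1, h2⟩ := hk1 x hx'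
    refine ⟨∏ y ∈ t.erase x, k y, ?_, ?_⟩
    · rw [h1, ← Finset.mul_prod_erase t k hx]
      ring
    · rw [h2, ← Finset.mul_prod_erase t k hx]
      ring

end Groth.Agent.S17732
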