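import Groth.Statements.S17733
import Groth.Agent.Divis.CartierBasic
import Groth.Agent.Divis.IdealComap
import Groth.Agent.FlatA.AppIso
import Mathlib.RingTheory.Polynomial.ScaleRoots
import Mathlib.Tactic

set_option autoImplicit false
universe u
open CDiv

namespace Groth.Agent.S17733

open CategoryTheory AlgebraicGeometry Polynomial Groth.Agent.Divis.CartierBasic

/-- gluing a section determined by a pointwise uniqueness condition on germs -/
theorem exists_section_of_local {Y : Scheme.{u}} (V : Y.Opens)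
    (P : ∀ y : Y, Y.presheaf.stalk y → Prop)
    (huniq : ∀ y ∈ V, ∀ a b, P y a → P y b → a = b)
    (hloc : ∀ y ∈ V, ∃ (W : Y.Opens) (_ : y ∈ W) (_ : W ≤ V) (s : Γ(Y, W)),
      ∀ z (hz : z ∈ W), P z (Y.presheaf.germ W z hz s)) :
    ∃ t : Γ(Y, V), ∀ y (hy : y ∈ V), P y (Y.presheaf.germ V y hy t) := by
  choose W hyW hWV s hs using fun y : V => hloc y.1 y.2
  obtain ⟨(t : Γ(Y, V)), ht, -⟩ := Y.sheaf.existsUnique_gluing' W V (fun i => homOfLE (hWV i))
    (fun y hy => TopologicalSpace.Opens.mem_iSup.2 ⟨⟨y, hy⟩, hyW ⟨y, hy⟩⟩) s (by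
      intro i j
      apply TopCat.Presheaf.section_ext Y.sheaf (W i ⊓ W j)
      intro z hz
      refine huniq z (hWV i hz.1) _ _ ?_ ?_
      · have := TopCat.Presheaf.germ_res_apply' Y.presheaf
          (homOfLE (inf_le_left : W i ⊓ W j ≤ W i)).op z hz (s i)
        refine Eq.mpr (congrArg (P z) ?_) (hs i z hz.1)
        exact this
      · have := TopCat.Presheaf.germ_res_apply' Y.presheaf
          (homOfLE (inf_le_right : W i ⊓ W j ≤ W j)).op z hz (s j)
        refine Eq.mpr (congrArg (P z) ?_) (hs j z hz.2)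
        exact this)
  refine ⟨t, fun y hy => ?_⟩
  have h1 := ht ⟨y, hy⟩
  have h2 := TopCat.Presheaf.germ_res_apply' Y.presheaf (homOfLE (hWV ⟨y, hy⟩)).op y
    (hyW ⟨y, hy⟩) t
  rw [← h2]
  have h3 := hs ⟨y, hy⟩ y (hyW ⟨y, hy⟩)
  rw [← h1] at h3
  exact h3

/-- In an integrally closed domain `O` over `A`: if `g` is a root of `scaleRoots p h` with `p`
monic over `A` and `h ≠ 0`, then `h` divides `g`. -/
theorem dvd_of_scaleRoots {A O : Type u} [CommRing A] [CommRing O] [IsDomain O]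
    [IsIntegrallyClosed O] (ι : A →+* O) (p : A[X]) (hp : p.Monic) (g h : A) (hh : ι h ≠ 0)
    (h0 : eval g (scaleRoots p h) = 0) : ι h ∣ ι g := by
  let K := FractionRing O
  let κ : A →+* K := (algebraMap O K).comp ι
  have hκ : κ h ≠ 0 := by
    intro h1
    exact hh ((FaithfulSMul.algebraMap_injective O K) (by rw [map_zero]; exact h1))
  have h1 : eval₂ κ (κ h * (κ g / κ h)) (scaleRoots p h) = 0 := by
    rw [mul_div_cancel₀ _ hκ, eval₂_at_apply, h0, map_zero]
  rw [scaleRoots_eval₂_mul] at h1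
  have h2 : eval₂ κ (κ g / κ h) p = 0 :=
    (mul_eq_zero.1 h1).resolve_left (pow_ne_zero _ hκ)
  have h3 : IsIntegral O (κ g / κ h) :=
    ⟨p.map ι, hp.map ι, by rw [eval₂_map]; exact h2⟩
  obtain ⟨c, hc⟩ := (IsIntegrallyClosed.isIntegral_iff (R := O) (K := K)).1 h3
  refine ⟨c, (FaithfulSMul.algebraMap_injective O K) ?_⟩
  rw [map_mul, hc]
  change κ g = κ h * (κ g / κ h)
  rw [mul_div_cancel₀ _ hκ]

/-- The main step: one divisibility of local generators. -/
theorem stalk_dvd {S S' : Scheme.{u}}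
    (hnorm : ∀ x : S, IsDomain (S.presheaf.stalk x) ∧ IsIntegrallyClosed (S.presheaf.stalk x))
    (f : S' ⟶ S) [IsProper f] (hdom : f.ker = ⊥)
    (U : S.Opens) (hU' : CInt.IsSchematicallyDense (f ⁻¹ᵁ U))
    (D E : S.IdealSheafData) (hEU : (E.support : Set S) ⊆ (U : Set S)ᶜ)
    (h : D.comap f = E.comap f) (V : S.affineOpens) (g e : Γ(S, V.1))
    (he : e ∈ nonZeroDivisors Γ(S, V.1))
    (hDV : D.ideal V = Ideal.span {g}) (hEV : E.ideal V = Ideal.span {e}) (x : S)
    (hx : x ∈ V.1) :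
    (S.presheaf.germ V.1 x hx e) ∣ (S.presheaf.germ V.1 x hx g) := by
  -- the pullbacks of the generators
  set g' : Γ(S', f ⁻¹ᵁ V.1) := f.app V.1 g with hg'
  set e' : Γ(S', f ⁻¹ᵁ V.1) := f.app V.1 e with he'
  -- the pullback of `e` is a unit at the points above `U`
  have hunit : ∀ (y : S') (hy : y ∈ f ⁻¹ᵁ V.1), y ∈ f ⁻¹ᵁ U →
      IsUnit (S'.presheaf.germ (f ⁻¹ᵁ V.1) y hy e') := by
    intro y hy hyU
    have h1 : f y ∉ E.support := fun h1 => hEU h1 hyU
    rw [notMem_support_iff_stalkIdeal_eq_top, stalkIdeal_eq E V hy, hEV, Ideal.map_span,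
      Set.image_singleton, Ideal.span_singleton_eq_top] at h1
    have h2 := h1.map (f.stalkMap y).hom
    have h3 : (f.stalkMap y).hom ((S.presheaf.germ V.1 (f y) hy).hom e) =
        (S'.presheaf.germ (f ⁻¹ᵁ V.1) y hy).hom e' := Scheme.Hom.germ_stalkMap_apply f V.1 y hy e
    rw [h3] at h2
    exact h2
  -- the pullback of `e` is a nonzerodivisor in the stalks
  have hnzd : ∀ (y : S') (hy : y ∈ f ⁻¹ᵁ V.1),
      S'.presheaf.germ (f ⁻¹ᵁ V.1) y hy e' ∈ nonZeroDivisors (S'.presheaf.stalk y) := by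
    intro y hy
    rw [mem_nonZeroDivisors_iff_right]
    intro c hc
    obtain ⟨W, hWV, hyW, c, rfl⟩ := S'.presheaf.exists_le_germ_eq c hy
    have h1 : S'.presheaf.germ W y hyW (c * S'.presheaf.map (homOfLE hWV).op e') =
        S'.presheaf.germ W y hyW 0 := by
      rw [map_mul, map_zero]
      refine Eq.trans ?_ hc
      congr 1
      exact TopCat.Presheaf.germ_res_apply S'.presheaf (homOfLE hWV) y hyW e'
    obtain ⟨W2, hyW2, i1, i2, h2⟩ := S'.presheaf.germ_eq y hyW hyW _ _ h1
    rw [map_zero] at h2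
    have h3 : S'.presheaf.map i1.op c = 0 := by
      apply hU' W2
      rw [map_zero]
      apply TopCat.Presheaf.section_ext S'.sheaf
      intro z hz
      have hzW : z ∈ W := i1.le hz.1
      have h4 := congrArg (S'.presheaf.germ W2 z hz.1) h2
      rw [map_zero] at h4
      have h5 : S'.presheaf.germ W z hzW (c * S'.presheaf.map (homOfLE hWV).op e') = 0 := by
        rw [← h4]
        exact (TopCat.Presheaf.germ_res_apply S'.presheaf i1 z hz.1 _).symm
      rw [map_mul] at h5
      have h6 : S'.presheaf.germ W z hzW (S'.presheaf.map (homOfLE hWV).op e') =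
          S'.presheaf.germ (f ⁻¹ᵁ V.1) z (hWV hzW) e' :=
        TopCat.Presheaf.germ_res_apply S'.presheaf (homOfLE hWV) z hzW e'
      rw [h6] at h5
      have h7 := (hunit z (hWV hzW) hz.2).mul_left_eq_zero.1 h5
      refine Eq.trans ?_ (Eq.trans h7 (map_zero _).symm)
      refine (TopCat.Presheaf.germ_res_apply S'.presheaf
        (homOfLE (inf_le_left : W2 ⊓ f ⁻¹ᵁ U ≤ W2)) z hz _).trans ?_
      exact TopCat.Presheaf.germ_res_apply S'.presheaf i1 z hz.1 c
    have h8 := TopCat.Presheaf.germ_res_apply S'.presheaf i1 y hyW2 c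
    rw [h3] at h8
    exact h8.symm.trans (map_zero _)
  -- the quotient
  obtain ⟨t, ht⟩ := exists_section_of_local (f ⁻¹ᵁ V.1)
    (fun y c => ∀ hy : y ∈ f ⁻¹ᵁ V.1, S'.presheaf.germ (f ⁻¹ᵁ V.1) y hy g' =
      c * S'.presheaf.germ (f ⁻¹ᵁ V.1) y hy e')
    (fun y hy a b ha hb => by
      have h1 := (ha hy).symm.trans (hb hy)
      exact (mul_cancel_right_mem_nonZeroDivisors (hnzd y hy)).1 h1)
    (fun y hy => by
      obtain ⟨W, hyW, hWV, -⟩ := exists_affine_le (f ⁻¹ᵁ V.1) (f ⁻¹ᵁ V.1) hy hy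
      have h1 := congrArg (fun I : S'.IdealSheafData => I.ideal W) h
      simp only [Groth.Agent.Divis.IdealComap.ideal_comap _ f V W hWV, hDV, hEV, Ideal.map_span,
        Set.image_singleton] at h1
      have h2 : (f.appLE V.1 W.1 hWV).hom g ∈ Ideal.span {(f.appLE V.1 W.1 hWV).hom e} := by
        rw [← h1]
        exact Ideal.mem_span_singleton_self _
      obtain ⟨c, hc⟩ := Ideal.mem_span_singleton'.1 h2
      refine ⟨W.1, hyW, hWV, c, fun z hz hz' => ?_⟩
      have h3 : ∀ s : Γ(S, V.1), S'.presheaf.germ (f ⁻¹ᵁ V.1) z hz' (f.app V.1 s) =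
          S'.presheaf.germ W.1 z hz ((f.appLE V.1 W.1 hWV).hom s) := by
        intro s
        rw [Scheme.Hom.appLE]
        exact (TopCat.Presheaf.germ_res_apply S'.presheaf (homOfLE hWV) z hz (f.app V.1 s)).symm
      rw [hg', he', h3, h3, ← hc, map_mul])
  have ht' : g' = t * e' := by
    apply TopCat.Presheaf.section_ext S'.sheaf
    intro y hy
    refine (ht y hy hy).trans ?_
    exact (map_mul _ _ _).symm
  -- integrality
  obtain ⟨p, hp, hpt⟩ := Groth.Agent.FlatA.AppIso.isIntegral_app f V.2 t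
  have h1 : eval₂ (f.app V.1).hom ((f.app V.1).hom e * t) (scaleRoots p e) = 0 := by
    rw [scaleRoots_eval₂_mul, hpt, mul_zero]
  have h2 : (f.app V.1).hom e * t = (f.app V.1).hom g := by
    rw [mul_comm]
    exact ht'.symm
  rw [h2, eval₂_at_apply] at h1
  have h3 : eval g (scaleRoots p e) = 0 := by
    have h4 : eval g (scaleRoots p e) ∈ f.ker.ideal V := by
      rw [Scheme.Hom.ker_apply]
      exact h1
    rw [hdom] at h4
    exact h4
  obtain ⟨hd1, hd2⟩ := hnorm x
  refine dvd_of_scaleRoots (S.presheaf.germ V.1 x hx).hom p hp g e ?_ h3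
  have h5 : (S.presheaf.germ V.1 x hx).hom e ∈ nonZeroDivisors (S.presheaf.stalk x) := by
    let := S.presheaf.algebra_section_stalk (⟨x, hx⟩ : V.1)
    have := V.2.isLocalization_stalk ⟨x, hx⟩
    exact IsLocalization.map_nonZeroDivisors_le (V.2.primeIdealOf ⟨x, hx⟩).asIdeal.primeCompl
      (S.presheaf.stalk x) ⟨e, he, rfl⟩
  exact nonZeroDivisors.ne_zero h5

theorem stalkIdeal_le {S S' : Scheme.{u}}
    (hnorm : ∀ x : S, IsDomain (S.presheaf.stalk x) ∧ IsIntegrallyClosed (S.presheaf.stalk x))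
    (f : S' ⟶ S) [IsProper f] (hdom : f.ker = ⊥)
    (U : S.Opens) (hU' : CInt.IsSchematicallyDense (f ⁻¹ᵁ U))
    (D E : S.IdealSheafData) (hEU : (E.support : Set S) ⊆ (U : Set S)ᶜ)
    (hD : BlowUp.IsEffCartierIdeal D) (hE : BlowUp.IsEffCartierIdeal E)
    (h : D.comap f = E.comap f) (x : S) : stalkIdeal D x ≤ stalkIdeal E x := by
  obtain ⟨V₀, hxV₀, g₀, hg₀, hDV₀⟩ := hD x
  obtain ⟨V, hxV, hVV₀, e, he, hEV⟩ := exists_generator_le hE V₀.1 hxV₀
  have hDV : D.ideal V = Ideal.span {(S.presheaf.map (homOfLE hVV₀).op).hom g₀} := by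
    rw [← D.map_ideal (U := V) (V := V₀) hVV₀, hDV₀, Ideal.map_span, Set.image_singleton]
    rfl
  have h1 := stalk_dvd hnorm f hdom U hU' D E hEU h V _ e he hDV hEV x hxV
  rw [stalkIdeal_eq D V hxV, stalkIdeal_eq E V hxV, hDV, hEV, Ideal.map_span, Ideal.map_span,
    Set.image_singleton, Set.image_singleton, Ideal.span_singleton_le_span_singleton]
  exact h1

open CategoryTheory AlgebraicGeometry in
/-- Let S be a locally Noetherian normal scheme (every local ring an integrally closed domain), f : S' →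
S a proper morphism whose scheme-theoretic image is S (its kernel ideal sheaf is zero), and U ⊆ S a
schematically dense open subscheme such that f⁻¹(U) is also schematically dense in S'. Suppose D and
E are effective Cartier divisors of S, encoded by ideal sheaves each locally generated on an affine
open by one non-zero-divisor, with supports disjoint from U. If the pulled-back ideal sheaves of D
and E along f coincide, then D = E. -/
theorem result
    {S S' : Scheme.{u}} [IsLocallyNoetherian S]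
    (hnorm : ∀ x : S, IsDomain (S.presheaf.stalk x) ∧ IsIntegrallyClosed (S.presheaf.stalk x))
    (f : S' ⟶ S) [IsProper f] (hdom : f.ker = ⊥)
    (U : S.Opens) (hU : CInt.IsSchematicallyDense U) (hU' : CInt.IsSchematicallyDense (f ⁻¹ᵁ U))
    (D E : S.IdealSheafData)
    (hD : (∀ x : S, ∃ U : S.affineOpens, x ∈ (U : S.Opens) ∧ ∃ g : Γ(S, U), g ∈ nonZeroDivisors Γ(S, U) ∧ D.ideal U = Ideal.span {g}))
    (hE : (∀ x : S, ∃ U : S.affineOpens, x ∈ (U : S.Opens) ∧ ∃ g : Γ(S, U), g ∈ nonZeroDivisors Γ(S, U) ∧ E.ideal U = Ideal.span {g}))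
    (hDU : (D.support : Set S) ⊆ (U : Set S)ᶜ) (hEU : (E.support : Set S) ⊆ (U : Set S)ᶜ)
    (h : D.comap f = E.comap f) : D = E := by
  have hD' : BlowUp.IsEffCartierIdeal D := hD
  have hE' : BlowUp.IsEffCartierIdeal E := hE
  apply ext_stalkIdeal
  intro x
  exact le_antisymm (stalkIdeal_le hnorm f hdom U hU' D E hEU hD' hE' h x)
    (stalkIdeal_le hnorm f hdom U hU' E D hDU hE' hD' h.symm x)

end Groth.Agent.S17733
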