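import Groth.Statements.S17734
import Groth.Agent.PicF.K248.StalkLim
import Groth.Agent.Ega3B.LimInvK1

set_option autoImplicit false
universe u
open PicF

namespace Groth.Agent.S17734

open CategoryTheory AlgebraicGeometry Limits in
/-- Let f : X → S be a proper morphism of finite presentation, s a point of S, and L an invertible
module on the base change X^s of X to the spectrum of the local ring of S at s. Then there are an
open neighbourhood V of s in S and an invertible module L' on the open subscheme f⁻¹(V) = X ×_S V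
such that the pullback of L' along the canonical morphism X^s → f⁻¹(V) (the unique one compatible
with the projection X^s → X) is isomorphic to L. -/
theorem result
    {X S : Scheme.{u}} (f : X ⟶ S) [IsProper f] [LocallyOfFinitePresentation f] (s : S)
    (L : (pullback f (S.fromSpecStalk s)).Modules) (hL : PicF.IsInvertible L) :
    ∃ (V : S.Opens) (_ : s ∈ V) (L' : (↑(f ⁻¹ᵁ V) : Scheme.{u}).Modules), PicF.IsInvertible L' ∧
      ∀ (ι : pullback f (S.fromSpecStalk s) ⟶ ↑(f ⁻¹ᵁ V)),
        ι ≫ (f ⁻¹ᵁ V).ι = pullback.fst f (S.fromSpecStalk s) →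
        Nonempty ((Scheme.Modules.pullback ι).obj L' ≅ L) := by
  let σ : K248.StalkLim.D S s ⟶ (Functor.const _).obj S :=
    { app := fun V => (Scheme.Opens.ι V.1 : (V.1 : Scheme.{u}) ⟶ S)
      naturality := fun _ _ h => (S.homOfLE_ι h.le).trans (Category.comp_id _).symm }
  obtain ⟨V, w, M, hM, ⟨e⟩⟩ := Groth.Agent.Ega3B.LimInv.exists_invertible_bc
    (K248.StalkLim.cone S s) (s := σ) (t := S.fromSpecStalk s)
    (fun V => K248.StalkLim.leg_ι S s V) (IsPullback.of_hasPullback f (S.fromSpecStalk s))
    (K248.StalkLim.isLimit S s) hL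
  let φ : (↑(f ⁻¹ᵁ V.1) : Scheme.{u}) ⟶ pullback f (Scheme.Opens.ι V.1) :=
    pullback.lift (f ⁻¹ᵁ V.1).ι (f ∣_ V.1) (morphismRestrict_ι f V.1).symm
  refine ⟨V.1, V.2.2, (Scheme.Modules.pullback φ).obj M,
    Groth.Agent.Fdesc.LocGen.isInvertible_pullback φ hM, fun ι hι => ?_⟩
  have h1 : ι ≫ φ = pullback.lift (pullback.fst f (S.fromSpecStalk s))
      (pullback.snd f (S.fromSpecStalk s) ≫ (K248.StalkLim.cone S s).π.app V) w := by
    apply pullback.hom_ext
    · rw [Category.assoc, pullback.lift_fst, hι]
      exact (pullback.lift_fst _ _ _).symm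
    · rw [Category.assoc, pullback.lift_snd]
      refine Eq.trans ?_ (pullback.lift_snd _ _ _).symm
      rw [← cancel_mono (Scheme.Opens.ι V.1), Category.assoc, morphismRestrict_ι,
        reassoc_of% hι, pullback.condition]
      exact (congrArg (pullback.snd f (S.fromSpecStalk s) ≫ ·)
        (K248.StalkLim.leg_ι S s V).symm).trans (Category.assoc _ _ _).symm
  exact ⟨(Scheme.Modules.pullbackComp ι φ).app M ≪≫
    (Scheme.Modules.pullbackCongr h1).app M ≪≫ e⟩

end Groth.Agent.S17734
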