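import Groth.Statements.S17746
import Groth.Agent.QsChow.K934.GalFactor
import Groth.Agent.QsChow.K934.NormSec
import Groth.Agent.CurvesC.RegNormal
import Groth.Agent.S1535
import Groth.Agent.Ega1.GenPts

set_option autoImplicit false
universe u
open CategoryTheory AlgebraicGeometry
open QsChow

namespace Groth.Agent.S17746

/-- For a field extension K of k (separable algebraic) and a k-scheme X with weight function δ, call
norm subgroup of CH_j(X) the subgroup generated by the classes of the push-forwards to X of j-cycles
on the base changes X_F, over the intermediate fields F of K over k that are finite over k and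
different from k (the quotient by it is the degree-j part of the conormed Chow group of X relative
to K over k). Let L be an intermediate field of K over k that is finite Galois over k, and let X be
a smooth variety over k (smooth, separated and quasi-compact structure morphism) that is connected
and whose base change X_L is not connected. Then for every weight function δ on X (a dimension
function induced from weight 0 on Spec k) and every integer j the norm subgroup of CH_j(X) relative
to K over k is the whole Chow group: all conormed Chow groups of X vanish. -/
theorem result
    (k : Type u) [Field k] (K : Type u) [Field K] [Algebra k K] [Algebra.IsSeparable k K]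
    (L : IntermediateField k K) [FiniteDimensional k L] [IsGalois k L]
    (X : Scheme.{u}) [X.Over (Spec (CommRingCat.of k))]
    (hsm : Smooth (X ↘ Spec (CommRingCat.of k))) [IsSeparated (X ↘ Spec (CommRingCat.of k))]
    [QuasiCompact (X ↘ Spec (CommRingCat.of k))]
    [ConnectedSpace X] (hdisc : ¬ ConnectedSpace ↥(Curv2.bc k X L))
    (δ : X → ℤ) (hδ : Cyc.IsSetup X δ)
    (hcompat : Cyc.DeltaCompat (X ↘ Spec (CommRingCat.of k)) δ (fun _ => 0)) (j : ℤ) :
    QsChow.normSubgroup k K X δ j = ⊤ := by
  have hreg : ∀ x : X, IsRegularLocalRing (X.presheaf.stalk x) := fun x => Groth.Agent.S1535.result k X x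
  have hN : Pi1.IsNormalScheme X := fun x => by
    have := hreg x
    exact ⟨Groth.Agent.CurvesC.RegNormal.isDomain _, Groth.Agent.CurvesC.RegNormal.isIntegrallyClosed _⟩
  have : IsLocallyNoetherian (Spec (CommRingCat.of k)) := inferInstance
  have : IsLocallyNoetherian X := LocallyOfFiniteType.isLocallyNoetherian (X ↘ Spec (CommRingCat.of k))
  have : AlgebraicGeometry.IsIntegral X :=
    (Groth.Agent.Ega1.GenPts.isIntegral_iff X).mpr ⟨inferInstance, fun x => (hN x).1⟩
  obtain ⟨F, hF, g, hg⟩ := K934.GalFactor.exists_factor k X hN L (fun h => hdisc inferInstance)
  have hF' : IntermediateField.lift F ≠ ⊥ := by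
    intro h
    apply hF
    rw [← IntermediateField.lift_inj, IntermediateField.lift_bot]
    exact h
  have hfd : FiniteDimensional k (IntermediateField.lift F) :=
    LinearEquiv.finiteDimensional (IntermediateField.liftAlgEquiv F).toLinearEquiv
  have hcomp : CommRingCat.ofHom (algebraMap k (IntermediateField.lift F)) ≫
      CommRingCat.ofHom ((IntermediateField.liftAlgEquiv F).symm : IntermediateField.lift F →ₐ[k] F).toRingHom =
      CommRingCat.ofHom (algebraMap k F) := by
    ext a
    exact congrArg (fun z : F => ((z : L) : K)) ((IntermediateField.liftAlgEquiv F).symm.commutes a)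
  exact K934.NormSec.normSubgroup_eq_top k K (IntermediateField.lift F) hF' X
    (g ≫ Spec.map (CommRingCat.ofHom ((IntermediateField.liftAlgEquiv F).symm : IntermediateField.lift F →ₐ[k] F).toRingHom))
    (by rw [Category.assoc, ← Spec.map_comp, hcomp, hg]) δ j

end Groth.Agent.S17746
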