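import Groth.Statements.S17750
import Groth.Agent.S0342
import Groth.Agent.S0377
import Groth.Agent.Goren.K710.UfdOmega

set_option autoImplicit false
universe u
open Goren

namespace Groth.Agent.S17750

/-- Let B be a regular local ring and p a prime ideal of B such that the integral domain B ⧸ p is a
unique factorization domain. If the local ring B ⧸ p is Cohen–Macaulay then it is Gorenstein, i.e.
has finite injective dimension as a module over itself. (For a unique factorization domain that is a
quotient of a regular local ring, Cohen–Macaulay and Gorenstein are equivalent; the converse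
implication holds for every Noetherian local ring.) -/
theorem result (B : Type u) [CommRing B] [IsRegularLocalRing B] (p : Ideal B) [p.IsPrime] [UniqueFactorizationMonoid (B ⧸ p)] [LocCoh.IsCohenMacaulayLocalRing (B ⧸ p)] : LocCoh.IsGorensteinLocalRing (B ⧸ p) := by
  have hB : LocCoh.IsGorensteinLocalRing B := Groth.Agent.S0342.result B
  have h1 : ∃ ω : Dual.D B, Dual.IsDualizing B ω :=
    ⟨_, Groth.Agent.Localalg.DGor.isDualizing_of_gorenstein B⟩
  have h2 : ∃ ω : Dual.D (B ⧸ p), Dual.IsDualizing (B ⧸ p) ω :=
    Groth.Agent.S0377.HasDual.of_finite (A := B) h1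
  have hcm : LocCoh.IsCohenMacaulayLocalRing (B ⧸ p) := inferInstance
  obtain ⟨d, hd⟩ : ∃ d : ℕ, ringKrullDim (B ⧸ p) = d := by
    have hlt : ringKrullDim (B ⧸ p) < ⊤ := ringKrullDim_lt_top
    have h0 : (0 : WithBot ℕ∞) ≤ ringKrullDim (B ⧸ p) := ringKrullDim_nonneg_of_nontrivial
    generalize ringKrullDim (B ⧸ p) = x at h0 hlt
    induction x with
    | bot => simp at h0
    | coe a =>
      induction a with
      | top => exact absurd hlt (lt_irrefl _)
      | coe k => exact ⟨k, rfl⟩
  exact K710.UfdOmega.isGorensteinLocalRing_of_ufd (B ⧸ p) hcm h2 d hd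

end Groth.Agent.S17750
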