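import Groth.Statements.S17752
import Groth.Agent.LocCoh.K171.AraAvoid

set_option autoImplicit false
universe u
open LocCoh

namespace Groth.Agent.S17752

/-- Let R be a Noetherian ring of Krull dimension d and I an ideal of R. Then there are d + 1 elements
f_0, …, f_d of I such that I and the ideal they generate have the same radical; in other words the
arithmetic rank of I is at most d + 1. -/
theorem result (R : Type u) [CommRing R] [IsNoetherianRing R] (d : ℕ) (hd : ringKrullDim R = d) (I : Ideal R) : ∃ f : Fin (d + 1) → R, (∀ i, f i ∈ I) ∧ I.radical = (Ideal.span (Set.range f)).radical := by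
  obtain ⟨f, hf, h⟩ := K171.AraAvoid.exists_fin I (d + 1)
  refine ⟨f, hf, le_antisymm ?_ (Ideal.radical_mono (Ideal.span_le.2 (by rintro _ ⟨i, rfl⟩; exact hf i)))⟩
  rw [Ideal.radical_eq_sInf (Ideal.span (Set.range f))]
  refine le_sInf fun p ⟨hle, hp⟩ => ?_
  have := hp
  rw [hp.radical_le_iff]
  by_contra hI
  have h1 := h p hle hI
  have h2 : (p.height : WithBot ℕ∞) ≤ ringKrullDim R := Ideal.height_le_ringKrullDim_of_isPrime
  rw [hd] at h2
  have h3 : p.height ≤ (d : ℕ∞) := by exact_mod_cast h2
  have h4 := h1.trans h3
  have h5 : d + 1 ≤ d := by exact_mod_cast h4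
  omega

end Groth.Agent.S17752
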