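import Groth.Statements.S17753
import Groth.Agent.LocCoh.K171.AraAvoid

set_option autoImplicit false
universe u
open LocCoh

namespace Groth.Agent.S17753

/-- Let R be a Noetherian local ring of Krull dimension d and I a proper ideal of R. Then there are d
elements f_1, …, f_d of I such that I and the ideal they generate have the same radical, so the
arithmetic rank of I is at most d. (The published statement has no properness hypothesis; for the
unit ideal of a field, d = 0 and no empty family generates the unit ideal up to radical, and the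
published proof uses that the maximal ideal contains I.) -/
theorem result (R : Type u) [CommRing R] [IsNoetherianRing R] [IsLocalRing R] (d : ℕ) (hd : ringKrullDim R = d) (I : Ideal R) (hI : I ≠ ⊤) : ∃ f : Fin d → R, (∀ i, f i ∈ I) ∧ I.radical = (Ideal.span (Set.range f)).radical := by
  obtain ⟨f, hf, h⟩ := K171.AraAvoid.exists_fin I d
  refine ⟨f, hf, le_antisymm ?_ (Ideal.radical_mono (Ideal.span_le.2 (by rintro _ ⟨i, rfl⟩; exact hf i)))⟩
  rw [Ideal.radical_eq_sInf (Ideal.span (Set.range f))]
  refine le_sInf fun p ⟨hle, hp⟩ => ?_
  have := hp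
  rw [hp.radical_le_iff]
  by_contra hIp
  have h1 := h p hle hIp
  have hne : p ≠ IsLocalRing.maximalIdeal R := by
    rintro rfl
    exact hIp (IsLocalRing.le_maximalIdeal hI)
  have hlt : p < IsLocalRing.maximalIdeal R := lt_of_le_of_ne (IsLocalRing.le_maximalIdeal hp.ne_top) hne
  have h2 := Ideal.height_add_one_le_of_lt_of_isPrime hlt
  have h3 : ((IsLocalRing.maximalIdeal R).height : WithBot ℕ∞) = (d : ℕ) := by
    rw [IsLocalRing.maximalIdeal_height_eq_ringKrullDim, hd]
  have h4 : (IsLocalRing.maximalIdeal R).height = (d : ℕ∞) := by exact_mod_cast h3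
  rw [h4] at h2
  have h5 : ((d + 1 : ℕ) : ℕ∞) ≤ d := by
    push_cast
    exact le_trans (by gcongr) h2
  have h6 : d + 1 ≤ d := by exact_mod_cast h5
  omega

end Groth.Agent.S17753
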