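import Groth.Statements.S17758
import Groth.Agent.LocCoh.K169.ConnLoc

set_option autoImplicit false
universe u
open LocCoh

namespace Groth.Agent.S17758

/-- Let R be a complete Noetherian local domain of Krull dimension d with maximal ideal m, and I a
proper ideal of R of arithmetic rank at most d − 2: there are elements f_1, …, f_t with t + 2 ≤ d
such that I and (f_1, …, f_t) have the same radical. Then the punctured spectrum of R ⧸ I, viewed as
the set of prime ideals of R that contain I and differ from m, is a nonempty connected subset of
Spec R. (Connectedness is taken here to include nonemptiness, so the unit ideal, whose punctured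
spectrum is empty, is excluded; for a proper I nonemptiness is automatic, since otherwise I would be
m-primary and m would be minimal over an ideal generated by t ≤ d − 2 elements, against Krull's
height bound.) -/
theorem result (R : Type u) [CommRing R] [IsDomain R] [IsNoetherianRing R] [IsLocalRing R] [IsAdicComplete (IsLocalRing.maximalIdeal R) R] (d : ℕ) (hd : ringKrullDim R = d) (t : ℕ) (ht : t + 2 ≤ d) (f : Fin t → R) (I : Ideal R) (hItop : I ≠ ⊤) (hI : I.radical = (Ideal.span (Set.range f)).radical) : IsConnected {x : PrimeSpectrum R | I ≤ x.asIdeal ∧ x.asIdeal ≠ IsLocalRing.maximalIdeal R} := by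
  classical
  have hcd : LocCoh.CdLE R I t := by
    have h1 : LocCoh.CdLE R I (Finset.univ.image f).card :=
      K169.ConnLoc.cdLE_of_radical_span R I (Finset.univ.image f) (by
        rw [hI, Finset.coe_image, Finset.coe_univ, Set.image_univ])
    have h2 : (Finset.univ.image f).card ≤ t :=
      Finset.card_image_le.trans (by rw [Finset.card_univ, Fintype.card_fin])
    intro M _ _ i hi
    exact h1 M i (h2.trans_lt hi)
  have hZ0 : topologicalKrullDim (PrimeSpectrum.zeroLocus
      (IsLocalRing.maximalIdeal R : Set R)) = 0 := by
    rw [Groth.Agent.FormalA.ConnDim.topologicalKrullDim_zeroLocus]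
    let _ : Field (R ⧸ IsLocalRing.maximalIdeal R) := Ideal.Quotient.field _
    exact ringKrullDim_eq_zero_of_field _
  have h := Groth.Agent.S0815.result R I hItop t hcd (PrimeSpectrum.zeroLocus
      (IsLocalRing.maximalIdeal R : Set R)) (PrimeSpectrum.isClosed_zeroLocus _)
    (PrimeSpectrum.zeroLocus_anti_mono_ideal (IsLocalRing.le_maximalIdeal hItop))
    (by
      intro p hp
      rw [IsDomain.minimalPrimes_eq_singleton_bot, Set.mem_singleton_iff] at hp
      subst hp
      rw [ringKrullDim_eq_of_ringEquiv (RingEquiv.quotientBot R), hd, hZ0, zero_add]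
      exact_mod_cast (by omega : t + 1 < d))
    (by
      intro Z' hZ' hc
      have h3 := K169.ConnDim.connDim_le hZ' hc
      rw [K169.ConnDim.connDim_eq_of_irreducible,
        PrimeSpectrum.topologicalKrullDim_eq_ringKrullDim, hd] at h3
      rw [hZ0, zero_add]
      exact lt_of_lt_of_le (by exact_mod_cast (by omega : t < d)) h3)
  convert h using 1
  ext x
  constructor
  · rintro ⟨h1, h2⟩
    exact ⟨h1, fun h3 => h2 (((IsLocalRing.maximalIdeal.isMaximal R).eq_of_le x.2.ne_top h3).symm)⟩
  · rintro ⟨h1, h2⟩
    exact ⟨h1, fun h3 => h2 h3.ge⟩

end Groth.Agent.S17758
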