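import Groth.Statements.S17763
import Groth.Agent.LocCoh.K171.Watts
import Groth.Agent.S0325
import Groth.Agent.S1736
import Groth.Agent.LocCoh.K171.DimOne

set_option autoImplicit false
universe u
open LocCoh

namespace Groth.Agent.S17763

/-- Let R be a Noetherian local ring of Krull dimension d. Then the following are equivalent: (1)
H^d_I(R) = 0 for every ideal I of R such that R ⧸ I has positive dimension; (2) H^d_p(R) = 0 for
every prime ideal p of R such that R ⧸ p has dimension one. -/
theorem result (R : Type u) [CommRing R] [IsNoetherianRing R] [IsLocalRing R] (d : ℕ) (hd : ringKrullDim R = d) : (∀ I : Ideal R, 0 < ringKrullDim (R ⧸ I) → Subsingleton (LocCoh.H I d R)) ↔ (∀ (p : Ideal R) [p.IsPrime], ringKrullDim (R ⧸ p) = 1 → Subsingleton (LocCoh.H p d R)) := by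
  constructor
  · intro h p _ hp
    exact h p (by rw [hp]; exact zero_lt_one)
  · intro h I hI
    have hcd : ∀ J : Ideal R, LocCoh.CdLE R J d := fun J => Groth.Agent.S0325.result R J d hd.le
    obtain ⟨p, hp, hIp, hdim⟩ : ∃ p : Ideal R, p.IsPrime ∧ I ≤ p ∧ ringKrullDim (R ⧸ p) = 1 :=
      K171.DimOne.exists_prime I hI
    have h0 := h p hdim
    refine Groth.Agent.S1736.result R d hd I p hIp ?_ ?_ R d le_rfl
    · rw [IsLocalRing.jacobson_eq_maximalIdeal ⊥ bot_ne_top]
      exact IsLocalRing.le_maximalIdeal hp.ne_top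
    · intro M _ _ i hi
      rcases hi.lt_or_eq with hi | rfl
      · exact hcd p M i hi
      · exact (K171.Watts.equiv p d (fun M _ _ => hcd p M (d + 1) (Nat.lt_succ_self d))
          M).symm.toEquiv.subsingleton

end Groth.Agent.S17763
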