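import Groth.Statements.S17765
import Groth.Agent.S0604
import Groth.Agent.S0564
import Groth.Agent.Ega4A.RegCM
import Groth.Agent.Ega4A.DepthBasic
import Mathlib.RingTheory.LocalProperties.ProjectiveDimension
import Mathlib.RingTheory.Ideal.AssociatedPrime.Localization

set_option autoImplicit false
universe u
open CategoryTheory
open LocCoh

namespace Groth.Agent.S17765

/-- Let B be a regular local ring, M a finitely generated B-module and p an associated prime ideal of M.
Then the height of p is at most the projective dimension of M: for every n such that M has
projective dimension at most n, ht p ≤ n. -/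
theorem result (B : Type u) [CommRing B] [IsRegularLocalRing B] (M : Type u) [AddCommGroup M] [Module B M] [Module.Finite B M] (p : Ideal B) (hp : p ∈ associatedPrimes B M) (n : ℕ) (hn : HasProjectiveDimensionLE (ModuleCat.of B M) n) : p.height ≤ n := by
  have hpp : p.IsPrime := hp.1
  have hreg := Groth.Agent.S0564.result B p
  let M' : ModuleCat.{u} B := ModuleCat.of B M
  have := hn
  have hpd : CategoryTheory.HasProjectiveDimensionLE (M'.localizedModule p.primeCompl) n :=
    ModuleCat.localizedModule_hasProjectiveDimensionLE n p.primeCompl M'
  let N := M'.localizedModule p.primeCompl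
  let φ := M'.localizedModuleMkLinearMap p.primeCompl
  have hst : IsScalarTower B (Localization.AtPrime p) N :=
    inferInstanceAs (IsScalarTower B (Localization p.primeCompl) (M'.localizedModule p.primeCompl))
  have hφ : IsLocalizedModule p.primeCompl φ := ModuleCat.localizedModule_isLocalizedModule M' p.primeCompl
  have hass : IsLocalRing.maximalIdeal (Localization.AtPrime p) ∈
      associatedPrimes (Localization.AtPrime p) N := by
    apply Module.associatedPrimes.mem_associatedPrimes_of_comap_mem_associatedPrimes_of_isLocalizedModule
      p.primeCompl φ
    have h : (IsLocalRing.maximalIdeal (Localization.AtPrime p)).comap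
        (algebraMap B (Localization.AtPrime p)) = p := IsLocalization.AtPrime.under_maximalIdeal _ _
    rw [h]
    exact hp
  have hfin : Module.Finite (Localization.AtPrime p) N := Module.Finite.of_isLocalizedModule p.primeCompl φ
  have hnt : Nontrivial N := by
    by_contra hcon
    rw [not_nontrivial_iff_subsingleton] at hcon
    have := associatedPrimes.eq_empty_of_subsingleton (R := Localization.AtPrime p) (M := N)
    rw [this] at hass
    exact hass
  have hd0 := (Groth.Agent.Ega4A.DepthBasic.depth_eq_zero_iff (R := Localization.AtPrime p) N).2 hass
  have hle : CategoryTheory.projectiveDimension (M'.localizedModule p.primeCompl) ≤ n :=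
    (CategoryTheory.projectiveDimension_le_iff _ _).2 hpd
  have hbot : CategoryTheory.projectiveDimension (M'.localizedModule p.primeCompl) ≠ ⊥ := by
    rw [Ne, CategoryTheory.projectiveDimension_eq_bot_iff]
    intro h
    exact not_subsingleton N (ModuleCat.subsingleton_of_isZero h)
  obtain ⟨e, he⟩ : ∃ e : ℕ, CategoryTheory.projectiveDimension (M'.localizedModule p.primeCompl) = e := by
    generalize CategoryTheory.projectiveDimension (M'.localizedModule p.primeCompl) = x at hle hbot
    induction x with
    | bot => exact absurd rfl hbot
    | coe x =>
      induction x with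
      | top => exact absurd (WithBot.coe_le_coe.1 hle) (by simp)
      | coe x => exact ⟨x, rfl⟩
  have hAB := Groth.Agent.S0604.result (Localization.AtPrime p) N e he
  rw [hd0, add_zero] at hAB
  have hCM := (Groth.Agent.Ega4A.RegCM.isCohenMacaulayLocalRing_of_isRegularLocalRing
    (Localization.AtPrime p)).supportDim_eq_depth
  rw [Module.supportDim_self_eq_ringKrullDim, IsLocalization.AtPrime.ringKrullDim_eq_height p, hAB] at hCM
  rw [he] at hle
  have h1 : p.height = e := by exact_mod_cast hCM
  rw [h1]
  exact_mod_cast hle

end Groth.Agent.S17765
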