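import Groth.Statements.S17766
import Groth.Agent.LocCoh.K171.Omega

set_option autoImplicit false
universe u
open CategoryTheory Opposite
open LocCoh

namespace Groth.Agent.S17766

/-- Let B be a regular local ring, p a prime ideal of B of height r, and suppose that A = B ⧸ p is
Cohen–Macaulay. Then the B-module Ext^r_B(A, B) is isomorphic either to A itself or to a proper
ideal I of A which is unmixed of height one, i.e. every associated prime of A ⧸ I has height one in
A (existence of a B-linear isomorphism in each case). -/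
theorem result (B : Type u) [CommRing B] [IsRegularLocalRing B] (p : Ideal B) [p.IsPrime] [LocCoh.IsCohenMacaulayLocalRing (B ⧸ p)] (r : ℕ) (hr : p.height = r) : Nonempty (((Ext B (ModuleCat.{u} B) r).obj (op (ModuleCat.of B (B ⧸ p)))).obj (ModuleCat.of B B) ≃ₗ[B] (B ⧸ p)) ∨ ∃ I : Ideal (B ⧸ p), I ≠ ⊤ ∧ (∀ q ∈ associatedPrimes (B ⧸ p) ((B ⧸ p) ⧸ I), q.height = 1) ∧ Nonempty (((Ext B (ModuleCat.{u} B) r).obj (op (ModuleCat.of B (B ⧸ p)))).obj (ModuleCat.of B B) ≃ₗ[B] I) := by
  have hG := Groth.Agent.S0342.result B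
  obtain ⟨n, hn⟩ := Groth.Agent.CalgA.RegBasic.ringKrullDim_eq_natCast B
  obtain ⟨d, hd⟩ := Groth.Agent.CalgA.RegBasic.ringKrullDim_eq_natCast (B ⧸ p)
  have hdr := K171.GorDual.height_add_eq B n hn p r d hr hd
  obtain ⟨I, hI, ⟨e⟩⟩ := K171.Omega.exists_ideal hn p d r (by omega) hd hr
  have e0 := Groth.Agent.Sga2.OldExt.oldNew B (ModuleCat.of B (B ⧸ p)) (ModuleCat.of B B) r
  by_cases hI1 : I = ⊤
  · subst hI1
    left
    let e1 : (⊤ : Ideal (B ⧸ p)) ≃ₗ[B] (B ⧸ p) :=
      { toFun := fun x => x.1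
        map_add' := fun _ _ => rfl
        map_smul' := fun _ _ => rfl
        invFun := fun x => ⟨x, trivial⟩
        left_inv := fun _ => rfl
        right_inv := fun _ => rfl }
    exact ⟨(e0.trans e).trans e1⟩
  · right
    exact ⟨I, hI1, fun q hq => K171.Omega.height_eq_one hn p d r (by omega) hd hr I hI e hI1 q hq,
      ⟨e0.trans e⟩⟩

end Groth.Agent.S17766
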