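import Groth.Statements.S17769
import Groth.Agent.GrLC.K760.EndDeg
import Groth.Agent.GrLC.K760.Gr
import Groth.Agent.GrLC.K761.CMVan
import Groth.Agent.GrLC.K761.CoreHt
import Groth.Agent.GrLC.K963.Iface

set_option autoImplicit false
universe u
open GrLC

namespace Groth.Agent.S17769

/-- Let R = ⊕_{n ≥ 0} R_n be a Noetherian positively ℤ-graded ring which is standard graded (its
irrelevant ideal is generated by R_1), *local with unique homogeneous maximal ideal m,
Cohen–Macaulay, and of Krull dimension d + 1. Let x be a homogeneous element of degree k lying in m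
which is a non-zerodivisor on R, and let N be R ⧸ xR as a graded R-module, presented by a surjective
degree-preserving R-linear map π : R → N with kernel xR. Writing a(·) for the largest degree in
which the top graded local cohomology with support in m is nonzero (computed from *injective
resolutions I of R and F of N), one has a(R ⧸ xR) = a(R) + k, that is, the end of H^d_m(N) equals
the end of H^{d+1}_m(R) plus k. (The published statement does not require x to lie in m; for a
homogeneous unit x of degree 0 one has R ⧸ xR = 0, whose local cohomology vanishes, and the formula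
fails. The proof uses that H^d_m(R ⧸ xR) is the top local cohomology, i.e. that x is not a unit, so
x is taken in m here; for a standard graded ring this excludes only the units of degree 0.) -/
theorem result (R : Type u) [CommRing R] [LocCoh.IsCohenMacaulayRing R] (𝒜 : ℤ → AddSubgroup R) [GradedRing 𝒜] (hpos : ∀ n : ℤ, n < 0 → 𝒜 n = ⊥) (hstd : Ideal.span (⋃ n ∈ Set.Ioi (0 : ℤ), (𝒜 n : Set R)) = Ideal.span ((𝒜 1 : AddSubgroup R) : Set R)) (m : HomogeneousIdeal 𝒜) (hm : GrLC.IsStarLocal 𝒜 m) (d : ℕ) (hd : ringKrullDim R = (d + 1 : ℕ)) (I : GrLC.StarInjRes 𝒜 𝒜) (x : R) (k : ℤ) (hxk : x ∈ 𝒜 k) (hxm : x ∈ m.toIdeal) (hx : IsSMulRegular R x) (N : Type u) [AddCommGroup N] [Module R N] (𝒩 : ℤ → AddSubgroup N) [DirectSum.Decomposition 𝒩] [SetLike.GradedSMul 𝒜 𝒩] (π : R →ₗ[R] N) (hπ : GrLC.IsGrHom 𝒜 𝒩 π) (hπs : Function.Surjective π) (hπk : LinearMap.ker π = Ideal.span {x}) (F : GrLC.StarInjRes 𝒜 𝒩) : GrLC.endDeg (F.Hgr m d) = GrLC.endDeg (I.Hgr m (d + 1)) + ((k : WithTop ℤ) : WithBot (WithTop ℤ))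 := by
  classical
  have hpos' : ∀ n : ℤ, n < 0 → ∀ x ∈ 𝒜 n, x = 0 := fun n hn x hx => by
    rw [hpos n hn] at hx; exact hx
  have hmax : m.toIdeal.IsMaximal := K761.StarLoc.isMaximal hpos' hm
  have hht : m.toIdeal.height = (d + 1 : ℕ) := by
    have h1 := K761.CoreHt.ringKrullDim_eq_height 𝒜 hpos' hm
    rw [hd] at h1
    exact_mod_cast h1.symm
  have hnt : Nontrivial R := by
    refine ⟨⟨0, 1, fun h01 => ?_⟩⟩
    exact hmax.ne_top ((Ideal.eq_top_iff_one _).2 (h01 ▸ zero_mem _))
  have hk : 0 ≤ k := by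
    by_contra hk
    have hx0 := hpos' k (by omega) x hxk
    rw [hx0] at hx
    have h1 : (1 : R) = 0 := hx (by simp)
    exact one_ne_zero h1
  have hf : GrLC.IsGrHomDeg 𝒜 𝒜 (x • (LinearMap.id : R →ₗ[R] R)) k :=
    K963.Iface.isGrHomDeg_smul_id hxk
  have hπ' : GrLC.IsGrHomDeg 𝒜 𝒩 π 0 := (K760.Gr.isGrHomDeg_zero_iff π).2 hπ
  obtain ⟨δ, hδ, -, -, h1, h2⟩ := K963.Iface.les I I F m hf hπ' hx
    (fun y => by
      rw [← LinearMap.mem_ker, hπk, Ideal.mem_span_singleton']
      constructor
      · rintro ⟨c, hc⟩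
        exact ⟨c, by rw [← hc]; exact mul_comm _ _⟩
      · rintro ⟨c, hc⟩
        exact ⟨c, by rw [← hc]; exact mul_comm _ _⟩) hπs
  have hsub : ∀ z : I.H m d, z = 0 := by
    have := K963.Iface.subsingleton_of_Hcomp_eq_bot I m d
      (fun g => K761.CMVan.Hcomp_eq_bot_of_lt_height m hht I (Nat.lt_succ_self d) g)
    exact fun z => Subsingleton.elim _ _
  have hinj : ∀ z, δ d z = 0 → z = 0 := by
    intro z hz
    obtain ⟨w, hw⟩ := (h1 d z).1 hz
    rw [← hw, hsub w, map_zero]
  have hsmul : ∀ (i : ℕ) (z : I.H m i), K963.Iface.Hmap I I m i _ hf z = x • z := fun i z =>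
    K963.Iface.Hmap_smul_id I m i hxk hf z
  let := K963.Iface.Hdec F m d
  let := K963.Iface.Hdec I m (d + 1)
  have := K963.Iface.Hgsmul I m (d + 1)
  apply le_antisymm
  · rw [K760.EndDeg.endDeg_le_iff]
    intro n hn
    have h3 : I.Hgr m (d + 1) (n - k) ≠ ⊥ := by
      intro hbot
      apply hn
      rw [eq_bot_iff]
      intro z hz
      have h4 := hδ d n z hz
      rw [sub_zero] at h4
      have h5 : δ d z ∈ I.Hgr m (d + 1) (n - k) := h4
      rw [hbot] at h5
      exact hinj z h5
    have h4 := K760.EndDeg.le_endDeg h3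
    have h5 := add_le_add_left h4 ((k : WithTop ℤ) : WithBot (WithTop ℤ))
    refine le_trans (le_of_eq ?_) h5
    norm_cast
    congr 2
    omega
  · -- it is enough to treat each nonzero piece
    have key : ∀ c : ℤ, I.Hgr m (d + 1) c ≠ ⊥ →
        (((c + k : ℤ) : WithTop ℤ) : WithBot (WithTop ℤ)) ≤ GrLC.endDeg (F.Hgr m d) := by
      intro c hc
      obtain ⟨⟨ξ, hξ⟩, hξ0'⟩ := AddSubgroup.ne_bot_iff_exists_ne_zero.1 hc
      have hξ0 : ξ ≠ 0 := fun h => hξ0' (Subtype.ext h)
      have htor : ∃ t : ℕ, x ^ t • ξ = 0 := by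
        have h3 : ξ ∈ GrLC.gam m.toIdeal (I.H m (d + 1)) := by
          rw [K963.Iface.gam_H]; trivial
        obtain ⟨t, ht⟩ := h3
        exact ⟨t, ht _ (Ideal.pow_mem_pow hxm t)⟩
      have hfind := Nat.find_spec htor
      have hpos0 : Nat.find htor ≠ 0 := by
        intro h0
        rw [h0, pow_zero, one_smul] at hfind
        exact hξ0 hfind
      obtain ⟨s, hs⟩ := Nat.exists_eq_succ_of_ne_zero hpos0
      have hη0 : x ^ s • ξ ≠ 0 := Nat.find_min htor (by omega)
      have hη1 : x • (x ^ s • ξ) = 0 := by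
        rw [smul_smul, ← pow_succ']
        rw [hs] at hfind
        exact hfind
      obtain ⟨z, hz⟩ := (h2 d (x ^ s • ξ)).1 (by rw [hsmul]; exact hη1)
      have hηdeg : x ^ s • ξ ∈ I.Hgr m (d + 1) (c + s * k) := by
        have h3 : x ^ s ∈ 𝒜 (s * k) := by
          have := SetLike.pow_mem_graded s hxk
          rwa [nsmul_eq_mul] at this
        have h4 := SetLike.GradedSMul.smul_mem (A := 𝒜) (B := I.Hgr m (d + 1)) h3 hξ
        rw [vadd_eq_add, add_comm ((s : ℤ) * k) c] at h4
        exact h4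
      -- component of `z`
      have hz' : δ d (K760.Gr.pr (F.Hgr m d) (c + s * k + k) z) = x ^ s • ξ := by
        have hδ' : GrLC.IsGrHomDeg (F.Hgr m d) (I.Hgr m (d + 1)) (δ d) (-k) := by
          intro g y hy
          have h4 := hδ d g y hy
          rw [sub_zero, sub_eq_add_neg] at h4
          exact h4
        have h5 := K760.Gr.pr_map_deg hδ' (c + s * k + k) z
        rw [hz, add_neg_cancel_right, K760.Gr.pr_of_mem hηdeg] at h5
        exact h5.symm
      have hne : F.Hgr m d (c + s * k + k) ≠ ⊥ := by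
        intro hbot
        have h6 := K760.Gr.pr_mem (F.Hgr m d) (c + s * k + k) z
        rw [hbot] at h6
        have h7 : K760.Gr.pr (F.Hgr m d) (c + s * k + k) z = 0 := h6
        rw [h7, map_zero] at hz'
        exact hη0 hz'.symm
      refine le_trans ?_ (K760.EndDeg.le_endDeg hne)
      have : 0 ≤ (s : ℤ) * k := mul_nonneg (by positivity) hk
      exact_mod_cast (by omega : c + k ≤ c + s * k + k)
    -- conclude
    by_cases hbot : GrLC.endDeg (F.Hgr m d) = ((⊤ : WithTop ℤ) : WithBot (WithTop ℤ))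
    · rw [hbot]
      exact le_top
    by_cases hbot' : GrLC.endDeg (F.Hgr m d) = ⊥
    · have hI : GrLC.endDeg (I.Hgr m (d + 1)) = ⊥ := by
        rw [eq_bot_iff, K760.EndDeg.endDeg_le_iff]
        intro c hc
        have := key c hc
        rw [hbot'] at this
        exact absurd this (by simp)
      rw [hI]
      simp
    · obtain ⟨b, hb⟩ := K760.EndDeg.exists_int_of_ne hbot' hbot
      rw [hb] at key ⊢
      have hI : GrLC.endDeg (I.Hgr m (d + 1)) ≤ (((b - k : ℤ) : WithTop ℤ) : WithBot (WithTop ℤ)) := by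
        rw [K760.EndDeg.endDeg_le_iff]
        intro c hc
        have h8 := key c hc
        have h9 : c + k ≤ b := by exact_mod_cast h8
        exact_mod_cast (by omega : c ≤ b - k)
      refine (add_le_add_left hI _).trans ?_
      exact_mod_cast (by omega : b - k + k ≤ b)

end Groth.Agent.S17769
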