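import Groth.Statements.S17774
import Groth.Agent.LocCoh.K171.GorDual

set_option autoImplicit false
universe u
open CategoryTheory Opposite
open LocCoh

namespace Groth.Agent.S17774

/-- Let (S, n) be a Gorenstein local ring, I an ideal of S of height g such that R = S ⧸ I is a
Cohen–Macaulay local ring, of Krull dimension d, and E an injective hull of the residue field of S.
Then the canonical module of R is Ext^g_S(R, S), in the following sense: the Matlis dual
Hom_S(Ext^g_S(R, S), E) is isomorphic as an S-module to the top local cohomology H^d_n(R) of R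
regarded as an S-module (existence of an S-linear isomorphism; Hom into E over S and local
cohomology with support in n agree with the corresponding notions over R for R-modules). -/
theorem result (S : Type u) [CommRing S] [LocCoh.IsGorensteinLocalRing S] (I : Ideal S) (g : ℕ) (hg : I.height = g) [LocCoh.IsCohenMacaulayLocalRing (S ⧸ I)] (d : ℕ) (hd : ringKrullDim (S ⧸ I) = d) (E : Type u) [AddCommGroup E] [Module S E] (f : IsLocalRing.ResidueField S →ₗ[S] E) (hf : InjHull.IsInjectiveHull f) : Nonempty ((((Ext S (ModuleCat.{u} S) g).obj (op (ModuleCat.of S (S ⧸ I)))).obj (ModuleCat.of S S) →ₗ[S] E) ≃ₗ[S] LocCoh.H (IsLocalRing.maximalIdeal S) d (S ⧸ I)) := by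
  obtain ⟨r, hr⟩ := Groth.Agent.CalgA.RegBasic.ringKrullDim_eq_natCast S
  have h1 := K171.GorDual.height_add_eq S r hr I g d hg hd
  obtain ⟨e⟩ := K171.GorDual.local_duality S r hr f hf (S ⧸ I) d (by omega)
  have h2 : r - d = g := by omega
  rw [h2] at e
  exact ⟨((Groth.Agent.Sga2.OldExt.oldNew S (ModuleCat.of S (S ⧸ I)) (ModuleCat.of S S) g).arrowCongr
    (LinearEquiv.refl S E)).trans e.symm⟩

end Groth.Agent.S17774
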