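import Groth.Statements.S17775
import Groth.Agent.S0299
import Groth.Agent.S0341
import Groth.Agent.Goren.K710.Sop
import Groth.Agent.Goren.K710.HullTower

set_option autoImplicit false
universe u
open BigOperators
open Goren

namespace Groth.Agent.S17775

open K710.Sop in
/-- the fraction `r / t ^ n` -/
noncomputable def fr {R : Type u} [CommRing R] (t : R) (n : ℕ) : R →ₗ[R] Localization.Away t :=
  LinearMap.toSpanSingleton R (Localization.Away t) (IsLocalization.Away.invSelf t ^ n)

section

variable {R : Type u} [CommRing R] (t : R)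

lemma fr_apply (n : ℕ) (r : R) :
    fr t n r = algebraMap R (Localization.Away t) r * IsLocalization.Away.invSelf t ^ n := by
  rw [fr, LinearMap.toSpanSingleton_apply, Algebra.smul_def]

lemma fr_add_right (n k : ℕ) (r : R) : fr t (n + k) (t ^ k * r) = fr t n r := by
  rw [fr_apply, fr_apply, map_mul, map_pow, pow_add]
  have h : algebraMap R (Localization.Away t) t ^ k * IsLocalization.Away.invSelf t ^ k = 1 := by
    rw [← mul_pow, IsLocalization.Away.mul_invSelf, one_pow]
  calc _ = (algebraMap R (Localization.Away t) t ^ k * IsLocalization.Away.invSelf t ^ k) *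
        (algebraMap R (Localization.Away t) r * IsLocalization.Away.invSelf t ^ n) := by ring
    _ = _ := by rw [h, one_mul]

lemma exists_fr (y : Localization.Away t) : ∃ n r, y = fr t n r := by
  obtain ⟨⟨r, ⟨_, n, rfl⟩⟩, h⟩ := IsLocalization.surj (Submonoid.powers t) y
  refine ⟨n, r, ?_⟩
  rw [fr_apply, ← h]
  have h2 : algebraMap R (Localization.Away t) (t ^ n) * IsLocalization.Away.invSelf t ^ n = 1 := by
    rw [map_pow, ← mul_pow, IsLocalization.Away.mul_invSelf, one_pow]
  rw [mul_assoc, h2, mul_one]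

lemma fr_eq_zero (n : ℕ) (r : R) (h : fr t n r = 0) : ∃ k, t ^ k * r = 0 := by
  rw [fr_apply] at h
  have h2 : algebraMap R (Localization.Away t) r = 0 := by
    have h3 : algebraMap R (Localization.Away t) (t ^ n) * IsLocalization.Away.invSelf t ^ n = 1 := by
      rw [map_pow, ← mul_pow, IsLocalization.Away.mul_invSelf, one_pow]
    calc algebraMap R (Localization.Away t) r
        = (algebraMap R (Localization.Away t) r * IsLocalization.Away.invSelf t ^ n) *
          algebraMap R (Localization.Away t) (t ^ n) := by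
            rw [mul_assoc, mul_comm (IsLocalization.Away.invSelf t ^ n), h3, mul_one]
      _ = 0 := by rw [h, zero_mul]
  obtain ⟨⟨_, k, rfl⟩, hk⟩ := (IsLocalization.map_eq_zero_iff (Submonoid.powers t)
    (Localization.Away t) r).1 h2
  exact ⟨k, hk⟩

variable {d : ℕ} (x : Fin d → R)

/-- the submodule of the statement -/
abbrev Sig : Submodule R (Localization.Away (∏ i, x i)) :=
  Submodule.span R {y : Localization.Away (∏ i, x i) | ∃ (i : Fin d) (n : ℕ),
    y = algebraMap R (Localization.Away (∏ i, x i)) (x i ^ n) *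
      IsLocalization.Away.invSelf (∏ i, x i) ^ n}

lemma mul_mem_a (n k : ℕ) (r : R) (h : r ∈ K710.Sop.a x (fun _ => n)) :
    (∏ i, x i) ^ k * r ∈ K710.Sop.a x (fun _ => n + k) := by
  induction h using Submodule.span_induction with
  | mem y hy =>
    obtain ⟨i, rfl⟩ := hy
    obtain ⟨c, hc⟩ := Finset.dvd_prod_of_mem x (Finset.mem_univ i)
    have : (∏ i, x i) ^ k * x i ^ n = c ^ k * x i ^ (n + k) := by
      rw [hc]; ring
    dsimp only
    rw [this]
    exact Ideal.mul_mem_left _ _ (Ideal.subset_span ⟨i, rfl⟩)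
  | zero => rw [mul_zero]; exact Submodule.zero_mem _
  | add y z _ _ hy hz => rw [mul_add]; exact Submodule.add_mem _ hy hz
  | smul c y _ hy =>
    rw [smul_eq_mul, mul_left_comm]
    exact Ideal.mul_mem_left _ _ hy

lemma mem_Sig_of_mem (n : ℕ) (r : R) (h : r ∈ K710.Sop.a x (fun _ => n)) :
    fr (∏ i, x i) n r ∈ Sig x := by
  induction h using Submodule.span_induction with
  | mem y hy =>
    obtain ⟨i, rfl⟩ := hy
    exact Submodule.subset_span ⟨i, n, fr_apply _ _ _⟩
  | zero => rw [map_zero]; exact Submodule.zero_mem _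
  | add y z _ _ hy hz => rw [map_add]; exact Submodule.add_mem _ hy hz
  | smul c y _ hy => rw [map_smul]; exact Submodule.smul_mem _ _ hy

lemma exists_of_mem_Sig (y : Localization.Away (∏ i, x i)) (h : y ∈ Sig x) :
    ∃ N, ∃ s ∈ K710.Sop.a x (fun _ => N), y = fr (∏ i, x i) N s := by
  induction h using Submodule.span_induction with
  | mem y hy =>
    obtain ⟨i, n, rfl⟩ := hy
    exact ⟨n, x i ^ n, Ideal.subset_span ⟨i, rfl⟩, (fr_apply _ _ _).symm⟩
  | zero => exact ⟨0, 0, Submodule.zero_mem _, (map_zero _).symm⟩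
  | add y z _ _ hy hz =>
    obtain ⟨N, s, hs, rfl⟩ := hy
    obtain ⟨N', s', hs', rfl⟩ := hz
    refine ⟨N + N', (∏ i, x i) ^ N' * s + (∏ i, x i) ^ N * s',
      Submodule.add_mem _ (mul_mem_a x N N' s hs) ?_, ?_⟩
    · rw [add_comm N N']
      exact mul_mem_a x N' N s' hs'
    · rw [map_add, fr_add_right, add_comm N N', fr_add_right]
  | smul c y _ hy =>
    obtain ⟨N, s, hs, rfl⟩ := hy
    exact ⟨N, c • s, Submodule.smul_mem _ _ hs, (map_smul _ _ _).symm⟩

lemma mem_of_fr_mem [LocCoh.IsCohenMacaulayLocalRing R] (hd : ringKrullDim R = d)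
    (hx : (Ideal.span (Set.range x)).radical = IsLocalRing.maximalIdeal R) (n : ℕ) (r : R)
    (h : fr (∏ i, x i) (n + 1) r ∈ Sig x) : r ∈ K710.Sop.a x (fun _ => n + 1) := by
  obtain ⟨N, s, hs, h⟩ := exists_of_mem_Sig x _ h
  have h1 : fr (∏ i, x i) ((n + 1) + N) ((∏ i, x i) ^ N * r - (∏ i, x i) ^ (n + 1) * s) = 0 := by
    rw [map_sub, fr_add_right, add_comm (n + 1) N, fr_add_right, h, sub_self]
  obtain ⟨k, hk⟩ := fr_eq_zero _ _ _ h1
  apply K710.Sop.mem_of_prod_pow_mul_mem x hd hx (fun _ => n + 1) (fun _ => by omega) (N + k)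
  have h2 : (∏ i, x i) ^ (N + k) * r = (∏ i, x i) ^ (n + 1 + k) * s := by
    have : (∏ i, x i) ^ (N + k) * r - (∏ i, x i) ^ (n + 1 + k) * s =
        (∏ i, x i) ^ k * ((∏ i, x i) ^ N * r - (∏ i, x i) ^ (n + 1) * s) := by ring
    rw [← sub_eq_zero, this, hk]
  rw [h2]
  have h3 := mul_mem_a x N (n + 1 + k) s hs
  convert h3 using 3
  omega

end

/-- Let R be a Gorenstein local ring of Krull dimension d with maximal ideal m and residue field k, and
let x_1, …, x_d be a system of parameters of R, i.e. d elements generating an ideal whose radical is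
m. Put t = x_1 ⋯ x_d. Then the R-module R_t ⧸ Σ_i R_{x_1⋯x̂_i⋯x_d}, realised as the quotient of the
localization R_t by the R-submodule spanned by the fractions x_i^n / t^n (i = 1, …, d, n ≥ 0), is an
injective hull of k: some R-linear map from k into it is an injective hull. -/
theorem result (R : Type u) [CommRing R] [LocCoh.IsGorensteinLocalRing R] (d : ℕ) (hd : ringKrullDim R = d) (x : Fin d → R) (hx : (Ideal.span (Set.range x)).radical = IsLocalRing.maximalIdeal R) : ∃ f : IsLocalRing.ResidueField R →ₗ[R] (Localization.Away (∏ i, x i) ⧸ Submodule.span R {y : Localization.Away (∏ i, x i) | ∃ (i : Fin d) (n : ℕ), y = algebraMap R (Localization.Away (∏ i, x i)) (x i ^ n) * IsLocalization.Away.invSelf (∏ i, x i) ^ n}), InjHull.IsInjectiveHull f := by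
  have hcm : LocCoh.IsCohenMacaulayLocalRing R := Groth.Agent.S0341.result R
  obtain ⟨E, _, _, f, hf⟩ := Groth.Agent.S0299.result R (IsLocalRing.ResidueField R)
  have hmax := K710.Sop.mem_max x hx
  have hle : ∀ n, K710.Sop.a x (fun _ => n + 1) ≤ IsLocalRing.maximalIdeal R := by
    intro n
    rw [Ideal.span_le]
    rintro _ ⟨i, rfl⟩
    exact Ideal.pow_mem_of_mem _ (hmax i) _ (Nat.succ_pos n)
  refine K710.HullTower.exists_hull_of_tower R E f hf
    (Localization.Away (∏ i, x i) ⧸ Sig x) (fun n => K710.Sop.a x (fun _ => n + 1))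
    (fun n => (Sig x).mkQ ∘ₗ fr (∏ i, x i) (n + 1)) ?_ ?_ ?_ ?_ hle ?_ ?_
  · intro n
    ext r
    rw [LinearMap.mem_ker, LinearMap.comp_apply, Submodule.mkQ_apply, Submodule.Quotient.mk_eq_zero]
    exact ⟨mem_of_fr_mem x hd hx n r, mem_Sig_of_mem x (n + 1) r⟩
  · rintro n _ ⟨r, rfl⟩
    refine ⟨(∏ i, x i) ^ 1 * r, ?_⟩
    rw [LinearMap.comp_apply, LinearMap.comp_apply, fr_add_right]
  · intro y
    obtain ⟨y, rfl⟩ := Submodule.mkQ_surjective _ y
    obtain ⟨n, r, rfl⟩ := exists_fr _ y
    refine ⟨n, (∏ i, x i) ^ 1 * r, ?_⟩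
    rw [LinearMap.comp_apply, fr_add_right]
  · intro n
    have hreg : RingTheory.Sequence.IsWeaklyRegular R (List.ofFn fun i => x i ^ (n + 1)) := by
      apply Groth.Agent.Models2.CIFlat.isWeaklyRegular_of_forall_prime hcm
      · intro r hr
        rw [List.mem_ofFn] at hr
        obtain ⟨i, rfl⟩ := hr
        rw [← mem_nonunits_iff, ← IsLocalRing.mem_maximalIdeal]
        exact Ideal.pow_mem_of_mem _ (hmax i) _ (Nat.succ_pos n)
      · rw [List.length_ofFn, hd]
      · intro P hP hmem
        exact K710.Sop.isMaximal_of_mem x hx P fun i =>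
          hP.mem_of_pow_mem (n + 1) (hmem _ (by rw [List.mem_ofFn]; exact ⟨i, rfl⟩))
    obtain ⟨h1, h2⟩ := Groth.Agent.Localalg.ExtLift.gorenstein_quotient (fun i => x i ^ (n + 1)) hreg
      (fun i => Ideal.pow_mem_of_mem _ (hmax i) _ (Nat.succ_pos n))
    refine K710.HullTower.nonempty_equiv_torsionBy R _ h1 ?_ E f hf
    rw [hd] at h2
    have h3 : ringKrullDim (R ⧸ Ideal.span (Set.range fun i => x i ^ (n + 1))) + (d : WithBot ℕ∞) =
      0 + (d : WithBot ℕ∞) := by rw [h2, zero_add]
    exact (ENat.WithBot.add_natCast_cancel.1 h3)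
  · intro n
    have h1 : IsLocalRing.maximalIdeal R ≤
        (Ideal.span (Set.range fun i => x i ^ (n + 1))).radical := by
      rw [← hx, Ideal.radical_le_radical_iff, Ideal.span_le]
      rintro _ ⟨i, rfl⟩
      exact ⟨n + 1, Ideal.subset_span ⟨i, rfl⟩⟩
    have h2 := Ideal.exists_pow_le_of_le_radical_of_fg h1 (IsNoetherian.noetherian _)
    exact h2
  · intro k
    refine ⟨k, fun n hn => ?_⟩
    rw [Ideal.span_le]
    rintro _ ⟨i, rfl⟩
    exact Ideal.pow_le_pow_right (by omega : k ≤ n + 1) (Ideal.pow_mem_pow (hmax i) _)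

end Groth.Agent.S17775
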