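import Groth.Statements.S17780
import Groth.Agent.DRR.K934.AltSum

set_option autoImplicit false
universe u
open DRR

namespace Groth.Agent.S17780

/-- For x, y in a commutative ring and a natural number n, (n+1)! · x · y^n equals the sum over j = 0,
…, n of (−1)^(n−j) C(n, j) (x + j y)^(n+1), minus (n · (n+1)!/2) · y^(n+1). (The published identity
is stated in ℚ[x, y] with an overall factor 1/(n+1) and the coefficients C(n, j)(−1)^(n−j)/n!; it is
given here multiplied through by (n+1)!, which makes it an identity with integer coefficients valid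
in every commutative ring; n · (n+1)!/2 is an integer.) -/
theorem result (A : Type u) [CommRing A] (x y : A) (n : ℕ) :
    ((n + 1).factorial : A) * x * y ^ n =
      (∑ j ∈ Finset.range (n + 1), (-1 : A) ^ (n - j) * (n.choose j : A) * (x + (j : A) * y) ^ (n + 1))
        - ((n * (n + 1).factorial / 2 : ℕ) : A) * y ^ (n + 1) := by
  have hS : (∑ j ∈ Finset.range (n + 1), (-1 : A) ^ (n - j) * (n.choose j : A) * (x + (j : A) * y) ^ (n + 1)) =
      ∑ m ∈ Finset.range (n + 1 + 1), ((K934.AltSum.T n m : ℤ) : A) * (x ^ (n + 1 - m) * y ^ m * ((n + 1).choose m : A)) := by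
    have e1 : ∀ j ∈ Finset.range (n + 1), (-1 : A) ^ (n - j) * (n.choose j : A) * (x + (j : A) * y) ^ (n + 1) =
        ∑ m ∈ Finset.range (n + 1 + 1), ((-1 : A) ^ (n - j) * (n.choose j : A) * (j : A) ^ m) *
          (x ^ (n + 1 - m) * y ^ m * ((n + 1).choose m : A)) := by
      intro j _
      rw [add_comm x, add_pow, Finset.mul_sum]
      refine Finset.sum_congr rfl fun m _ => ?_
      rw [mul_pow]; ring
    rw [Finset.sum_congr rfl e1, Finset.sum_comm]
    refine Finset.sum_congr rfl fun m _ => ?_
    rw [← Finset.sum_mul]
    congr 1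
    unfold K934.AltSum.T
    push_cast
    rfl
  have hz : ∑ m ∈ Finset.range n, ((K934.AltSum.T n m : ℤ) : A) * (x ^ (n + 1 - m) * y ^ m * ((n + 1).choose m : A)) = 0 := by
    refine Finset.sum_eq_zero fun m hm => ?_
    have hm' := Finset.mem_range.mp hm
    rw [K934.AltSum.T_eq n m (by omega), if_neg (by omega), if_neg (by omega)]
    simp
  have h2 : ((n * (n + 1).factorial / 2 : ℕ)) = (n + 1).choose 2 * n.factorial := by
    have : (n + 1).choose 2 * 2 = (n + 1) * n := by
      have := Nat.choose_two_right (n + 1)
      rw [this]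
      exact Nat.div_mul_cancel (by
        have := (Nat.even_mul_succ_self n).two_dvd
        simpa [mul_comm] using this)
    have h3 : n * (n + 1).factorial = ((n + 1).choose 2 * n.factorial) * 2 := by
      rw [Nat.factorial_succ]
      calc n * ((n + 1) * n.factorial) = ((n + 1) * n) * n.factorial := by ring
        _ = _ := by rw [← this]; ring
    rw [h3]; simp
  rw [hS, Finset.sum_range_succ, Finset.sum_range_succ, hz, K934.AltSum.T_eq n n (by omega),
    K934.AltSum.T_eq n (n + 1) (by omega), if_neg (by omega), if_pos rfl, if_pos rfl, h2,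
    Nat.choose_succ_self_right, Nat.choose_self, Nat.factorial_succ]
  simp only [Nat.sub_self, Nat.add_sub_cancel_left]
  push_cast
  ring

end Groth.Agent.S17780
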