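import Groth.Statements.S17781
import Mathlib.Data.Nat.Choose.Factorization

set_option autoImplicit false
open Variety

namespace Groth.Agent.S17781

/-- `p` does not divide `C(d - 1, p ^ a - 1)` if `p ^ a` divides `d`. -/
theorem factorization_choose_pred (p a d : ℕ) (hp : p.Prime) (h : p ^ a ∣ d) (hd : 0 < d) :
    ((d - 1).choose (p ^ a - 1)).factorization p = 0 := by
  have hpa : 0 < p ^ a := pow_pos hp.pos a
  have hle : p ^ a ≤ d := Nat.le_of_dvd hd h
  rw [Nat.factorization_choose hp (by omega) (Nat.lt_succ_self _)]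
  rw [Finset.card_eq_zero, Finset.filter_eq_empty_iff]
  intro i _
  rw [not_le]
  have hpi : 0 < p ^ i := pow_pos hp.pos i
  have e : d - 1 - (p ^ a - 1) = d - p ^ a := by omega
  rw [e]
  have hda : p ^ a ∣ d - p ^ a := Nat.dvd_sub h dvd_rfl
  rcases le_or_gt i a with hia | hia
  · have hdi : p ^ i ∣ d - p ^ a := (pow_dvd_pow p hia).trans hda
    rw [Nat.mod_eq_zero_of_dvd hdi, add_zero]
    exact Nat.mod_lt _ hpi
  · have hlt : p ^ a < p ^ i := Nat.pow_lt_pow_right hp.one_lt hia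
    have h1 : (p ^ a - 1) % p ^ i = p ^ a - 1 := Nat.mod_eq_of_lt (by omega)
    have h2 : p ^ a ∣ (d - p ^ a) % p ^ i :=
      (Nat.dvd_mod_iff (pow_dvd_pow p hia.le)).2 hda
    have h3 : (d - p ^ a) % p ^ i < p ^ i := Nat.mod_lt _ hpi
    have h4 : (d - p ^ a) % p ^ i + p ^ a ≤ p ^ i := by
      obtain ⟨u, hu⟩ := h2
      obtain ⟨v, hv⟩ := pow_dvd_pow p hia.le
      rw [hu, hv] at h3 ⊢
      have : u < v := lt_of_mul_lt_mul_left h3 (Nat.zero_le _)
      calc p ^ a * u + p ^ a = p ^ a * (u + 1) := by ring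
        _ ≤ p ^ a * v := Nat.mul_le_mul_left _ this
    rw [h1]
    omega

theorem choose_succ_pred (d n : ℕ) (hd : 1 ≤ d) (hn : 1 ≤ n) :
    d.choose n * n = d * (d - 1).choose (n - 1) := by
  obtain ⟨d, rfl⟩ : ∃ e, d = e + 1 := ⟨d - 1, by omega⟩
  obtain ⟨n, rfl⟩ : ∃ e, n = e + 1 := ⟨n - 1, by omega⟩
  simpa using (Nat.add_one_mul_choose_eq d n).symm

theorem div_gcd_dvd_choose (d n : ℕ) (hd : 1 ≤ d) (hn : 1 ≤ n) :
    d / Nat.gcd d n ∣ d.choose n := by
  have hg : 0 < Nat.gcd d n := Nat.gcd_pos_of_pos_left _ hd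
  have hc : Nat.Coprime (d / Nat.gcd d n) (n / Nat.gcd d n) := Nat.coprime_div_gcd_div_gcd hg
  refine hc.dvd_of_dvd_mul_right ?_
  refine ⟨(d - 1).choose (n - 1), ?_⟩
  apply Nat.eq_of_mul_eq_mul_right hg
  have h1 : n / Nat.gcd d n * Nat.gcd d n = n := Nat.div_mul_cancel (Nat.gcd_dvd_right d n)
  have h2 : d / Nat.gcd d n * Nat.gcd d n = d := Nat.div_mul_cancel (Nat.gcd_dvd_left d n)
  calc d.choose n * (n / Nat.gcd d n) * Nat.gcd d n
      = d.choose n * (n / Nat.gcd d n * Nat.gcd d n) := by ring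
    _ = d.choose n * n := by rw [h1]
    _ = d * (d - 1).choose (n - 1) := choose_succ_pred d n hd hn
    _ = (d / Nat.gcd d n * Nat.gcd d n) * (d - 1).choose (n - 1) := by rw [h2]
    _ = d / Nat.gcd d n * (d - 1).choose (n - 1) * Nat.gcd d n := by ring

/-- The recursion `χ(d, n + 1) - χ(d, n) = (-1) ^ n C(d, n + 1)`. -/
theorem euler_rec (d n : ℕ) (hd : 1 ≤ d) :
    (1 - (-1 : ℤ) ^ (n + 1) * ((d - 1).choose (n + 1) : ℤ)) =
      (1 - (-1 : ℤ) ^ n * ((d - 1).choose n : ℤ)) + (-1) ^ n * (d.choose (n + 1) : ℤ) := by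
  obtain ⟨d, rfl⟩ : ∃ e, d = e + 1 := ⟨d - 1, by omega⟩
  rw [Nat.choose_succ_succ d n]
  simp only [Nat.add_sub_cancel]
  push_cast
  ring

/-- Let d ≥ 1 and N ≥ 1 be integers and let I(d, N) be the greatest common divisor of the quotients d/δ
over the divisors δ of d with 1 ≤ δ ≤ N. Then I(d, N) equals the greatest common divisor of the
integers χ(d, n) = 1 − (−1)^n C(d − 1, n) for 1 ≤ n ≤ N (χ(d, n) is the Euler characteristic of O_H
for a degree-d hypersurface H in projective n-space). Both greatest common divisors are taken in ℤ,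
normalised to be non-negative. -/
theorem result (d N : ℕ) (hd : 1 ≤ d) (hN : 1 ≤ N) :
    (Finset.Icc 1 N).gcd (fun n => 1 - (-1 : ℤ) ^ n * ((d - 1).choose n : ℤ)) =
      ((Finset.Icc 1 N).filter (fun δ => δ ∣ d)).gcd (fun δ => ((d / δ : ℕ) : ℤ)) := by
  refine dvd_antisymm_of_normalize_eq Finset.normalize_gcd Finset.normalize_gcd ?_ ?_
  · -- `A ∣ B`
    set A := (Finset.Icc 1 N).gcd (fun n => 1 - (-1 : ℤ) ^ n * ((d - 1).choose n : ℤ)) with hA
    have hχ : ∀ n, n ≤ N → A ∣ 1 - (-1 : ℤ) ^ n * ((d - 1).choose n : ℤ) := by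
      intro n hn
      rcases Nat.eq_zero_or_pos n with rfl | h0
      · simp
      · exact Finset.gcd_dvd (Finset.mem_Icc.2 ⟨h0, hn⟩)
    have hC : ∀ n, 1 ≤ n → n ≤ N → A ∣ (d.choose n : ℤ) := by
      intro n h1 hn
      obtain ⟨n, rfl⟩ : ∃ e, n = e + 1 := ⟨n - 1, by omega⟩
      have e := euler_rec d n hd
      have h2 : A ∣ (-1) ^ n * (d.choose (n + 1) : ℤ) := by
        have := dvd_sub (hχ (n + 1) hn) (hχ n (by omega))
        rwa [e, add_sub_cancel_left] at this
      have h3 : ((-1 : ℤ) ^ n * ((-1) ^ n * (d.choose (n + 1) : ℤ))) = (d.choose (n + 1) : ℤ) := by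
        rw [← mul_assoc, ← mul_pow]; simp
      rw [← h3]
      exact h2.mul_left _
    refine Finset.dvd_gcd fun δ hδ => ?_
    simp only [Finset.mem_filter, Finset.mem_Icc] at hδ
    obtain ⟨⟨hδ1, hδN⟩, hδd⟩ := hδ
    rw [← Int.natAbs_dvd, Int.natCast_dvd_natCast]
    have hCn : ∀ n, 1 ≤ n → n ≤ N → A.natAbs ∣ d.choose n := fun n h1 hn => by
      have := hC n h1 hn
      rwa [← Int.natAbs_dvd, Int.natCast_dvd_natCast] at this
    have hA0 : A.natAbs ≠ 0 := by
      intro h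
      have := hCn 1 le_rfl hN
      rw [h, Nat.choose_one_right, zero_dvd_iff] at this
      omega
    have hq0 : d / δ ≠ 0 := (Nat.div_pos (Nat.le_of_dvd hd hδd) hδ1).ne'
    rw [← Nat.factorization_le_iff_dvd hA0 hq0]
    intro p
    by_cases hp : p.Prime
    · set a := δ.factorization p with ha
      have hpaδ : p ^ a ∣ δ := Nat.ordProj_dvd δ p
      have hpad : p ^ a ∣ d := hpaδ.trans hδd
      have hpaN : p ^ a ≤ N := (Nat.le_of_dvd hδ1 hpaδ).trans hδN
      have hpa1 : 1 ≤ p ^ a := pow_pos hp.pos a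
      have h1 := hCn _ hpa1 hpaN
      have hle : p ^ a ≤ d := Nat.le_of_dvd hd hpad
      have hc0 : d.choose (p ^ a) ≠ 0 := (Nat.choose_pos hle).ne'
      have h2 : A.natAbs.factorization p ≤ (d.choose (p ^ a)).factorization p :=
        (Nat.factorization_le_iff_dvd hA0 hc0).2 h1 p
      have h3 := congrArg (fun m => Nat.factorization m p) (choose_succ_pred d (p ^ a) hd hpa1)
      have hd0 : d ≠ 0 := by omega
      have hc1 : (d - 1).choose (p ^ a - 1) ≠ 0 := (Nat.choose_pos (by omega)).ne'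
      simp only [Nat.factorization_mul hc0 (by positivity : p ^ a ≠ 0), Nat.factorization_mul hd0 hc1,
        Finsupp.add_apply, factorization_choose_pred p a d hp hpad hd,
        Nat.factorization_pow_self hp] at h3
      rw [Nat.factorization_div hδd]
      simp only [Finsupp.coe_tsub, Pi.sub_apply]
      omega
    · rw [Nat.factorization_eq_zero_of_not_prime _ hp]
      exact Nat.zero_le _
  · -- `B ∣ A`
    set B := ((Finset.Icc 1 N).filter (fun δ => δ ∣ d)).gcd (fun δ => ((d / δ : ℕ) : ℤ)) with hB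
    have hC : ∀ n, 1 ≤ n → n ≤ N → B ∣ (d.choose n : ℤ) := by
      intro n h1 hn
      have hg : 0 < Nat.gcd d n := Nat.gcd_pos_of_pos_left _ hd
      have hgn : Nat.gcd d n ≤ n := Nat.le_of_dvd h1 (Nat.gcd_dvd_right d n)
      have h2 : B ∣ ((d / Nat.gcd d n : ℕ) : ℤ) :=
        Finset.gcd_dvd (f := fun δ => ((d / δ : ℕ) : ℤ)) (by
          simp only [Finset.mem_filter, Finset.mem_Icc]
          exact ⟨⟨hg, hgn.trans hn⟩, Nat.gcd_dvd_left d n⟩)
      exact h2.trans (Int.natCast_dvd_natCast.2 (div_gcd_dvd_choose d n hd h1))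
    have hχ : ∀ n, n ≤ N → B ∣ 1 - (-1 : ℤ) ^ n * ((d - 1).choose n : ℤ) := by
      intro n
      induction n with
      | zero => intro _; simp
      | succ n ih =>
        intro hn
        rw [euler_rec d n hd]
        exact dvd_add (ih (by omega)) ((hC (n + 1) (by omega) hn).mul_left _)
    exact Finset.dvd_gcd fun n hn => hχ n (Finset.mem_Icc.1 hn).2

end Groth.Agent.S17781
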