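import Groth.Statements.S17782
import Groth.Agent.Variety.K435.IdxBC
import Groth.Agent.Variety.K798.ChowDev

set_option autoImplicit false
universe u
open CategoryTheory CategoryTheory.Limits AlgebraicGeometry
open Variety

namespace Groth.Agent.S17782

/-- Let X be a smooth proper scheme over a field k of dimension at most d, and E a coherent O_X-module.
Then the prime-to-(d+1)! part of the index of X over k (the index being the greatest common divisor
of the degrees of the closed points) divides the Euler characteristic χ(X, E): for some e ≥ 0 the
integer ((d+1)!)^e · χ(X, E) lies in the subgroup of ℤ generated by the degrees of the closed points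
of X. (The published statement takes X of dimension exactly d; dimension at most d gives the same
conclusion.) -/
theorem result (k : Type u) [Field k]
    (X : Scheme.{u}) [X.Over (Spec (CommRingCat.of k))] [Smooth (X ↘ Spec (CommRingCat.of k))] [IsProper (X ↘ Spec (CommRingCat.of k))]
    (d : ℕ) (hd : topologicalKrullDim X ≤ d) (E : X.Modules) (hE : Coh.IsCoh E) :
    ∃ e : ℕ, (((d + 1).factorial ^ e : ℕ) : ℤ) * Curv2.euler k X E ∈
      Curv2.indexSubgroup (X ↘ Spec (CommRingCat.of k)) := by
  exact K435.IdxBC.main (fun k _ L X _ _ d hd H E hE =>
    K798.ChowDev.dvd_euler_of_projective k L X d hd H E hE) k X d hd E hE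

end Groth.Agent.S17782
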