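import Groth.Statements.S17784
import Groth.Agent.Variety.K435.RegIndex
import Groth.Agent.Variety.K435.DivFibre

set_option autoImplicit false
universe u
open CategoryTheory CategoryTheory.Limits AlgebraicGeometry
open Variety

namespace K435.RegIndex

open Groth.Agent.Divis.EffCartier

theorem isEff_prod {X : Scheme.{u}} {ι : Type*} (P : ι → X.IdealSheafData)
    (hP : ∀ i, BlowUp.IsEffCartierIdeal (P i)) (S : Finset ι) (d : ι → ℕ) :
    BlowUp.IsEffCartierIdeal (∏ i ∈ S, P i ^ d i) := by
  classical
  induction S using Finset.induction_on with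
  | empty => simpa using isEff_top
  | insert t S htS ih => rw [Finset.prod_insert htS]; exact isEff_mul (isEff_pow (hP t) _) ih

theorem assemble (R : Type u) [CommRing R] [IsDomain R] [IsDiscreteValuationRing R]
    (X : Scheme.{u}) [X.Over (Spec (CommRingCat.of (FractionRing R)))]
    {𝒳 : Scheme.{u}} (p : 𝒳 ⟶ Spec (CommRingCat.of R)) [IsProper p] [Flat p] (g : X ⟶ 𝒳)
    (h : IsPullback g (X ↘ Spec (CommRingCat.of (FractionRing R))) p
      (Spec.map (CommRingCat.ofHom (algebraMap R (FractionRing R)))))
    (n : ℕ) (P : Fin n → 𝒳.IdealSheafData) (a : Fin n → ℕ) (hP : ∀ j, BlowUp.IsEffCartierIdeal (P j))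
    (hfac : Models.specialFibreIdeal R (Over.mk p) = ∏ j, P j ^ a j)
    {H : AddSubgroup ℤ} (ha : ∀ j, (a j : ℤ) ∈ H) :
    Curv2.euler (FractionRing R) X (Coh.structureModule X) ∈ H := by
  set d := Finset.univ.gcd a with hd
  rcases Nat.eq_zero_or_pos d with hd0 | hdpos
  · have ha0 : ∀ j, a j = 0 := fun j => Finset.gcd_eq_zero_iff.1 hd0 j (Finset.mem_univ j)
    have hone : Models.specialFibreIdeal R (Over.mk p) = 1 := by
      rw [hfac]
      exact Finset.prod_eq_one fun j _ => by rw [ha0 j, pow_zero]
    have hdvd : ∀ m : ℕ, 1 ≤ m → (m : ℤ) ∣ Curv2.euler (FractionRing R) X (Coh.structureModule X) := by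
      intro m hm
      obtain ⟨e, he⟩ := K435.DivFibre.euler_eq_mul R p g h m hm 1
        (by rw [Scheme.IdealSheafData.one_eq_top]; exact isEff_top) (by rw [one_pow, hone])
      exact ⟨e, he⟩
    have hz : Curv2.euler (FractionRing R) X (Coh.structureModule X) = 0 := by
      by_contra hne
      have h1 := hdvd ((Curv2.euler (FractionRing R) X (Coh.structureModule X)).natAbs + 1) (by omega)
      have h2 := Int.natAbs_dvd_natAbs.2 h1
      rw [Int.natAbs_natCast] at h2
      have h3 := Nat.le_of_dvd (Int.natAbs_pos.2 hne) h2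
      omega
    rw [hz]
    exact H.zero_mem
  · have hfac' : (∏ j, P j ^ (a j / d)) ^ d = Models.specialFibreIdeal R (Over.mk p) := by
      rw [hfac, ← Finset.prod_pow]
      refine Finset.prod_congr rfl fun j _ => ?_
      rw [← pow_mul, Nat.div_mul_cancel (Finset.gcd_dvd (Finset.mem_univ j))]
    obtain ⟨e, he⟩ := K435.DivFibre.euler_eq_mul R p g h d hdpos _
      (isEff_prod P hP Finset.univ fun j => a j / d) hfac'
    obtain ⟨m, hm⟩ : ∃ m : ℤ, H = AddSubgroup.zmultiples m := by
      obtain ⟨m, hm⟩ := Int.subgroup_cyclic H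
      exact ⟨m, by rw [hm, AddSubgroup.zmultiples_eq_closure]⟩
    have hdH : (d : ℤ) ∈ H := by
      have h1 : ∀ j, m ∣ (a j : ℤ) := fun j => by
        have := ha j
        rw [hm] at this
        exact Int.mem_zmultiples_iff.1 this
      rw [hm, Int.mem_zmultiples_iff, ← Int.natAbs_dvd, Int.natCast_dvd_natCast]
      refine Finset.dvd_gcd fun j _ => ?_
      rw [← Int.natCast_dvd_natCast, Int.natAbs_dvd]
      exact h1 j
    rw [he, mul_comm]
    have := H.zsmul_mem hdH e
    rwa [smul_eq_mul] at this

end K435.RegIndex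

namespace Groth.Agent.S17784

/-- Suppose R is a discrete valuation ring that is Henselian, whose residue field is algebraically
closed, and write K for its fraction field; let X be a regular proper K-scheme which admits a
regular proper model over R (a flat finite-type R-scheme, proper over R and with all local rings
regular, whose generic fibre is X). Then the index of X over K divides χ(X, O_X): the Euler
characteristic of the structure sheaf lies in the subgroup of ℤ generated by the degrees of the
closed points of X. -/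
theorem result (R : Type u) [CommRing R]
    [IsDomain R] [IsDiscreteValuationRing R] [HenselianLocalRing R] (hk : IsAlgClosed (IsLocalRing.ResidueField R))
    (X : Scheme.{u}) [X.Over (Spec (CommRingCat.of (FractionRing R)))] [IsProper (X ↘ Spec (CommRingCat.of (FractionRing R)))] (hXreg : Models.IsRegularScheme X)
    (𝒳 : Scheme.{u}) (p : 𝒳 ⟶ Spec (CommRingCat.of R)) (h𝒳 : Models.IsRegularProperModel R 𝒳 p X (X ↘ Spec (CommRingCat.of (FractionRing R)))) :
    Curv2.euler (FractionRing R) X (Coh.structureModule X) ∈ Curv2.indexSubgroup (X ↘ Spec (CommRingCat.of (FractionRing R))) := by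
  obtain ⟨⟨hflat, hft, hsep, g, h⟩, hprop, hreg⟩ := h𝒳
  have hflat' : Flat (Over.mk p).hom := hflat
  have hft' : LocallyOfFiniteType (Over.mk p).hom := inferInstanceAs (LocallyOfFiniteType p)
  have hqc' : QuasiCompact (Over.mk p).hom := inferInstanceAs (QuasiCompact p)
  obtain ⟨n, P, a, hP, hfac, ha⟩ := K435.RegIndex.euler_divisor (X := Over.mk p) hk
    (X ↘ Spec (CommRingCat.of (FractionRing R))) g h hreg
  exact K435.RegIndex.assemble R X p g h n P a hP hfac ha

end Groth.Agent.S17784
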