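import Groth.Statements.S17785
import Groth.Agent.CycA.FinExtDomain
import Mathlib.RingTheory.DedekindDomain.AdicValuation
import Mathlib.RingTheory.Polynomial.Eisenstein.Basic
import Mathlib.RingTheory.Polynomial.GaussLemma
import Mathlib.RingTheory.Norm.Transitivity
import Mathlib.GroupTheory.Archimedean
import Mathlib.RingTheory.DiscreteValuationRing.TFAE

set_option autoImplicit false
universe u
open Variety

namespace Groth.Agent.S17785

open WithZero

/-- In a vanishing finite sum with a non-zero term two terms have the same (maximal) non-zero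
valuation. -/
theorem exists_ne_val_eq {L Γ ι : Type*} [Field L] [LinearOrderedCommGroupWithZero Γ] [Finite ι]
    (w : Valuation L Γ) (t : ι → L) (ht : ∃ i, t i ≠ 0) (h : ∑ᶠ i, t i = 0) :
    ∃ i j, i ≠ j ∧ w (t i) = w (t j) ∧ t i ≠ 0 ∧ t j ≠ 0 := by
  classical
  have := Fintype.ofFinite ι
  obtain ⟨i₀, hi₀⟩ := ht
  have : Nonempty ι := ⟨i₀⟩
  obtain ⟨i, hi⟩ := Finite.exists_max (fun i => w (t i))
  have h0 : w (t i) ≠ 0 := by
    intro h0
    have := hi i₀
    rw [h0] at this
    exact hi₀ ((Valuation.zero_iff w).1 (le_zero_iff.1 this))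
  have hti : t i ≠ 0 := (Valuation.ne_zero_iff w).1 h0
  by_contra! hcon
  have h1 : ∀ j ∈ Finset.univ.erase i, w (t j) < w (t i) := by
    intro j hj
    have hji : j ≠ i := Finset.ne_of_mem_erase hj
    refine lt_of_le_of_ne (hi j) fun e => ?_
    have := hcon i j hji.symm e.symm hti
    rw [this, map_zero] at e
    exact h0 e.symm
  have h2 := w.map_sum_lt h0 h1
  rw [finsum_eq_sum_of_fintype] at h
  have h3 : ∑ j ∈ Finset.univ.erase i, t j = - t i := by
    rw [eq_neg_iff_add_eq_zero, add_comm, Finset.add_sum_erase _ _ (Finset.mem_univ i)]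
    exact h
  rw [h3, Valuation.map_neg] at h2
  exact lt_irrefl _ h2

/-- The number `I(d, N)`. -/
def num (d N : ℕ) : ℕ := ((Finset.Icc 1 N).filter (fun δ => δ ∣ d)).gcd (fun δ => d / δ)

theorem num_dvd {d N δ : ℕ} (h1 : 1 ≤ δ) (h2 : δ ≤ N) (h3 : δ ∣ d) : num d N ∣ d / δ :=
  Finset.gcd_dvd (f := fun δ => d / δ) (Finset.mem_filter.2 ⟨Finset.mem_Icc.2 ⟨h1, h2⟩, h3⟩)

theorem num_pos {d N : ℕ} (hd : 1 ≤ d) (hN : 1 ≤ N) : 0 < num d N := by
  rw [Nat.pos_iff_ne_zero]
  intro h
  have := num_dvd (d := d) (N := N) (δ := 1) le_rfl hN (one_dvd d)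
  rw [h, Nat.div_one, zero_dvd_iff] at this
  omega

/-- If `d` divides `m * e` with `1 ≤ m ≤ N` then `I(d, N)` divides `e`. -/
theorem num_dvd_of_dvd_mul {d N m e : ℕ} (hd : 1 ≤ d) (h1 : 1 ≤ m) (h2 : m ≤ N) (h : d ∣ m * e) :
    num d N ∣ e := by
  have hg : 0 < Nat.gcd d m := Nat.gcd_pos_of_pos_left _ hd
  have h3 : num d N ∣ d / Nat.gcd d m :=
    num_dvd hg ((Nat.le_of_dvd h1 (Nat.gcd_dvd_right d m)).trans h2) (Nat.gcd_dvd_left d m)
  refine h3.trans ?_
  have hc : Nat.Coprime (d / Nat.gcd d m) (m / Nat.gcd d m) := Nat.coprime_div_gcd_div_gcd hg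
  refine hc.dvd_of_dvd_mul_left ?_
  rw [← Nat.mul_dvd_mul_iff_left hg]
  have e1 : Nat.gcd d m * (d / Nat.gcd d m) = d := Nat.mul_div_cancel' (Nat.gcd_dvd_left d m)
  have e2 : Nat.gcd d m * (m / Nat.gcd d m * e) = m * e := by
    rw [← mul_assoc, Nat.mul_div_cancel' (Nat.gcd_dvd_right d m)]
  rw [e1, e2]
  exact h

/-- The valuation argument: for a solution of `x₀ᵈ = ∑ πⁱ xᵢᵈ` in a field with a discrete valuation
the number `I(d, N)` divides the valuation of `π`. -/
theorem num_dvd_log {L : Type*} [Field L] (w : Valuation L ℤᵐ⁰) {d N : ℕ} (hd : 1 ≤ d)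
    (ϖ : L) (hϖ : ϖ ≠ 0) (x : Fin (N + 1) → L) (hx : x ≠ 0)
    (h : x 0 ^ d = ∑ i : Fin N, ϖ ^ ((i : ℕ) + 1) * x i.succ ^ d) :
    (num d N : ℤ) ∣ log (w ϖ) := by
  let s : Fin (N + 1) → L := Fin.cons 1 (fun _ => -1)
  let t : Fin (N + 1) → L := fun i => s i * (ϖ ^ (i : ℕ) * x i ^ d)
  have hs : ∀ i, w (s i) = 1 := by
    intro i
    refine Fin.cases ?_ (fun i => ?_) i
    · simp [s]
    · simp [s, Valuation.map_neg]
  have hs0 : ∀ i, s i ≠ 0 := fun i => (Valuation.ne_zero_iff w).1 (by rw [hs]; exact one_ne_zero)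
  have hsum : ∑ᶠ i, t i = 0 := by
    rw [finsum_eq_sum_of_fintype, Fin.sum_univ_succ]
    simp only [t, s, Fin.cons_zero, Fin.cons_succ, Fin.val_zero, pow_zero, one_mul, Fin.val_succ,
      neg_one_mul, Finset.sum_neg_distrib]
    rw [h, add_neg_cancel]
  have hd0 : d ≠ 0 := by omega
  have hne : ∃ i, t i ≠ 0 := by
    obtain ⟨i, hi⟩ := Function.ne_iff.1 hx
    exact ⟨i, mul_ne_zero (hs0 i) (mul_ne_zero (pow_ne_zero _ hϖ) (pow_ne_zero _ hi))⟩
  obtain ⟨i, j, hij, hw, hti, htj⟩ := exists_ne_val_eq w t hne hsum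
  have hxi : x i ≠ 0 := fun e => hti (by simp [t, e, hd0])
  have hxj : x j ≠ 0 := fun e => htj (by simp [t, e, hd0])
  have hlog : ∀ i, x i ≠ 0 → log (w (t i)) = (i : ℕ) * log (w ϖ) + d * log (w (x i)) := by
    intro i hi
    have h1 : w (ϖ ^ (i : ℕ)) ≠ 0 := (Valuation.ne_zero_iff w).2 (pow_ne_zero _ hϖ)
    have h2 : w (x i ^ d) ≠ 0 := (Valuation.ne_zero_iff w).2 (pow_ne_zero _ hi)
    simp only [t, map_mul, hs, one_mul]
    rw [log_mul h1 h2, map_pow, map_pow, log_pow, log_pow]
    simp
  have hl := congrArg log hw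
  rw [hlog i hxi, hlog j hxj] at hl
  have hdvd : (d : ℤ) ∣ (((i : ℕ) : ℤ) - (j : ℕ)) * log (w ϖ) :=
    ⟨log (w (x j)) - log (w (x i)), by linear_combination hl⟩
  have h1 : d ∣ (((i : ℕ) : ℤ) - (j : ℕ)).natAbs * (log (w ϖ)).natAbs := by
    rw [← Int.natAbs_mul]
    exact Int.natCast_dvd.1 hdvd
  have h2 : 1 ≤ (((i : ℕ) : ℤ) - (j : ℕ)).natAbs := by
    have : (i : ℕ) ≠ j := fun e => hij (Fin.ext e)
    omega
  have h3 : (((i : ℕ) : ℤ) - (j : ℕ)).natAbs ≤ N := by
    have := i.is_lt
    have := j.is_lt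
    omega
  exact Int.natCast_dvd.2 (num_dvd_of_dvd_mul hd h2 h3 h1)

section Norm

variable (R : Type u) [CommRing R] [IsDomain R] [IsDiscreteValuationRing R] (K : Type u) [Field K]
  [Algebra R K] [IsFractionRing R K] (L : Type u) [Field L] [Algebra K L] [FiniteDimensional K L]
  [Algebra R L] [IsScalarTower R K L]

/-- If all ramification indices of `R` in a finite extension `L` of its fraction field are divisible by
`m`, then `[L : K]` is divisible by `m`. -/
theorem dvd_finrank (ϖ : R) (hϖ : Irreducible ϖ) (m : ℕ)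
    (H : ∀ w : Valuation L ℤᵐ⁰, (m : ℤ) ∣ log (w (algebraMap R L ϖ))) :
    m ∣ Module.finrank K L := by
  have hdim : ringKrullDim R = 1 := IsDiscreteValuationRing.ringKrullDim_eq_one R
  have hPID := CycA.FinExtDomain.isPrincipalIdealRing_integralClosure R K L hdim
  have hDD := CycA.FinExtDomain.isDedekindDomain_integralClosure R K L hdim
  have hfr : IsFractionRing (integralClosure R L) L :=
    integralClosure.isFractionRing_of_finite_extension K L
  have hinj : Function.Injective (algebraMap R L) := CycA.FinExtDomain.injective_algebraMap R K L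
  set O := integralClosure R L
  have hinjO : Function.Injective (algebraMap O L) := IsFractionRing.injective O L
  have htow : ∀ r : R, algebraMap O L (algebraMap R O r) = algebraMap R L r := fun r => rfl
  have hϖ0 : ϖ ≠ 0 := hϖ.ne_zero
  have hp0 : algebraMap R O ϖ ≠ 0 := by
    intro h
    apply hϖ0
    apply hinj
    rw [← htow, h, map_zero, map_zero]
  have hspan0 : (Ideal.span {algebraMap R O ϖ} : Ideal O) ≠ ⊥ := by
    rwa [Ne, Ideal.span_singleton_eq_bot]
  obtain ⟨b, hb⟩ := Associates.is_pow_of_dvd_count (a := Associates.mk (Ideal.span {algebraMap R O ϖ}))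
    (Associates.mk_ne_zero.2 hspan0) (k := m) (by
      intro p hp
      obtain ⟨P, rfl⟩ := Associates.mk_surjective p
      have hP : Irreducible P := (Associates.irreducible_mk).1 hp
      have hP0 : P ≠ ⊥ := hP.ne_zero
      have hPp : P.IsPrime := Ideal.isPrime_of_prime hP.prime
      let v : IsDedekindDomain.HeightOneSpectrum O := ⟨P, hPp, hP0⟩
      have h1 := H (v.valuation L)
      rw [← htow, IsDedekindDomain.HeightOneSpectrum.valuation_of_algebraMap,
        IsDedekindDomain.HeightOneSpectrum.intValuation_if_neg _ hp0, log_exp, dvd_neg] at h1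
      exact Int.natCast_dvd_natCast.1 h1)
  obtain ⟨J, rfl⟩ := Associates.mk_surjective b
  rw [← Associates.mk_pow, Associates.mk_eq_mk_iff_associated, associated_iff_eq] at hb
  obtain ⟨g, hg⟩ := (IsPrincipalIdealRing.principal J).principal
  rw [Ideal.submodule_span_eq] at hg
  rw [hg, Ideal.span_singleton_pow, Ideal.span_singleton_eq_span_singleton] at hb
  obtain ⟨u, hu⟩ := hb.symm
  -- take norms
  have hint : ∀ x : O, ∃ r : R, algebraMap R K r = Algebra.norm K (algebraMap O L x) := by
    intro x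
    exact IsIntegrallyClosed.isIntegral_iff.1 (Algebra.isIntegral_norm K x.2)
  obtain ⟨rg, hrg⟩ := hint g
  obtain ⟨ru, hru⟩ := hint u
  obtain ⟨rv, hrv⟩ := hint (↑u⁻¹ : Oˣ)
  have hinjK : Function.Injective (algebraMap R K) := IsFractionRing.injective R K
  have huv : ru * rv = 1 := by
    apply hinjK
    rw [map_mul, hru, hrv, ← map_mul, ← map_mul, Units.mul_inv, map_one, map_one, map_one]
  have hN : ϖ ^ Module.finrank K L = rg ^ m * ru := by
    apply hinjK
    have h1 : algebraMap R K (rg ^ m * ru) =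
        Algebra.norm K (algebraMap O L (g ^ m * (u : O))) := by
      rw [map_mul, map_pow, hrg, hru, map_mul, map_mul, map_pow, map_pow]
    rw [h1, hu, htow, IsScalarTower.algebraMap_apply R K L, Algebra.norm_algebraMap, map_pow]
  have hrg0 : rg ≠ 0 ∨ m = 0 := by
    by_contra! hcon
    rw [hcon.1, zero_pow hcon.2, zero_mul] at hN
    exact pow_ne_zero _ hϖ0 hN
  have huu : IsUnit ru := IsUnit.of_mul_eq_one _ huv
  rcases hrg0 with h0 | rfl
  · obtain ⟨s, hs⟩ := IsDiscreteValuationRing.associated_pow_irreducible h0 hϖ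
    have h1 : Associated (ϖ ^ Module.finrank K L) (ϖ ^ (s * m)) := by
      rw [hN, pow_mul]
      exact (associated_mul_unit_left _ _ huu).trans hs.pow_pow
    have h2 : Module.finrank K L = s * m := by
      have := (Associated.dvd_iff_dvd_left h1 (c := ϖ ^ Module.finrank K L)).1 dvd_rfl
      have h3 := (Associated.dvd_iff_dvd_right h1 (a := ϖ ^ Module.finrank K L)).1 dvd_rfl
      rw [pow_dvd_pow_iff hϖ0 hϖ.not_isUnit] at this h3
      exact le_antisymm h3 this
    exact ⟨s, by rw [h2, mul_comm]⟩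
  · rw [pow_zero, one_mul] at hN
    have : IsUnit (ϖ ^ Module.finrank K L) := hN ▸ huu
    exfalso
    exact hϖ.not_isUnit ((isUnit_pow_iff Module.finrank_pos.ne').1 this)

end Norm

section Eisenstein

open Polynomial

variable (R : Type u) [CommRing R] [IsDomain R] [IsDiscreteValuationRing R] (K : Type u) [Field K]
  [Algebra R K] [IsFractionRing R K]

theorem irreducible_X_pow_sub_C (ϖ : R) (hϖ : Irreducible ϖ) (e : ℕ) (he : 0 < e) :
    Irreducible (X ^ e - C (algebraMap R K ϖ) : K[X]) := by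
  have hmon : (X ^ e - C ϖ : R[X]).Monic := monic_X_pow_sub_C ϖ he.ne'
  have hdeg : (X ^ e - C ϖ : R[X]).natDegree = e := natDegree_X_pow_sub_C
  have hprime : (Ideal.span {ϖ} : Ideal R).IsPrime := by
    rw [Ideal.span_singleton_prime hϖ.ne_zero]
    exact hϖ.prime
  have hE : (X ^ e - C ϖ : R[X]).IsEisensteinAt (Ideal.span {ϖ}) := by
    refine hmon.isEisensteinAt_of_mem_of_notMem hprime.ne_top ?_ ?_
    · intro n hn
      rw [hdeg] at hn
      rw [coeff_sub, coeff_X_pow, if_neg hn.ne, zero_sub, Ideal.neg_mem_iff, coeff_C]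
      split_ifs
      · exact Ideal.mem_span_singleton_self ϖ
      · exact Ideal.zero_mem _
    · rw [coeff_sub, coeff_X_pow, if_neg he.ne, zero_sub, Ideal.neg_mem_iff, coeff_C_zero,
        Ideal.span_singleton_pow, Ideal.mem_span_singleton]
      intro h
      have h1 : ϖ ^ 2 ∣ ϖ ^ 1 := by simpa using h
      rw [pow_dvd_pow_iff hϖ.ne_zero hϖ.not_isUnit] at h1
      omega
  have hirr := hE.irreducible hprime hmon.isPrimitive (by rw [hdeg]; exact he)
  have h2 := (hmon.irreducible_iff_irreducible_map_fraction_map (K := K)).1 hirr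
  simpa using h2

end Eisenstein

/-- Let R be a discrete valuation ring with fraction field K and uniformizer π, and let d, N ≥ 1.
Consider the hypersurface X in projective N-space over K defined by x_0^d = π x_1^d + π^2 x_2^d + ⋯
+ π^N x_N^d. Its index over K — the greatest common divisor of the degrees of its closed points,
equivalently of the degrees [L : K] of the finite field extensions L over which the equation has a
non-zero solution — equals I(d, N), the greatest common divisor of the quotients d/δ over the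
divisors δ of d with 1 ≤ δ ≤ N. Stated as an equality of subgroups of ℤ: the subgroup generated by
those degrees [L : K] is the subgroup generated by I(d, N). -/
theorem result (R : Type u) [CommRing R] [IsDomain R]
    [IsDiscreteValuationRing R] (K : Type u) [Field K] [Algebra R K] [IsFractionRing R K]
    (ϖ : R) (hϖ : Irreducible ϖ) (d N : ℕ) (hd : 1 ≤ d) (hN : 1 ≤ N) :
    AddSubgroup.closure {m : ℤ | ∃ (L : Type u) (_ : Field L) (_ : Algebra K L),
        FiniteDimensional K L ∧ m = (Module.finrank K L : ℤ) ∧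
        ∃ x : Fin (N + 1) → L, x ≠ 0 ∧
          x 0 ^ d = ∑ i : Fin N, algebraMap K L (algebraMap R K (ϖ ^ ((i : ℕ) + 1))) * x i.succ ^ d} =
      AddSubgroup.zmultiples ((((Finset.Icc 1 N).filter (fun δ => δ ∣ d)).gcd (fun δ => d / δ) : ℕ) : ℤ) := by
  apply le_antisymm
  · rw [AddSubgroup.closure_le]
    rintro m ⟨L, _, _, hfd, rfl, x, hx, h⟩
    letI : Algebra R L := ((algebraMap K L).comp (algebraMap R K)).toAlgebra
    haveI : IsScalarTower R K L := .of_algebraMap_eq' rfl
    rw [SetLike.mem_coe, Int.mem_zmultiples_iff]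
    refine Int.natCast_dvd_natCast.2 (dvd_finrank R K L ϖ hϖ (num d N) fun w => ?_)
    refine num_dvd_log w hd (algebraMap R L ϖ) ?_ x hx ?_
    · intro h0
      exact hϖ.ne_zero ((CycA.FinExtDomain.injective_algebraMap R K L) (by rw [h0, map_zero]))
    · rw [h]
      refine Finset.sum_congr rfl fun i _ => ?_
      rw [← map_pow, ← IsScalarTower.algebraMap_apply R K L]
  · rw [AddSubgroup.zmultiples_le]
    set S := AddSubgroup.closure {m : ℤ | ∃ (L : Type u) (_ : Field L) (_ : Algebra K L),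
        FiniteDimensional K L ∧ m = (Module.finrank K L : ℤ) ∧
        ∃ x : Fin (N + 1) → L, x ≠ 0 ∧
          x 0 ^ d = ∑ i : Fin N, algebraMap K L (algebraMap R K (ϖ ^ ((i : ℕ) + 1))) * x i.succ ^ d}
      with hS
    obtain ⟨g, hg⟩ := Int.subgroup_cyclic S
    have key : ∀ δ, 1 ≤ δ → δ ≤ N → δ ∣ d → ((d / δ : ℕ) : ℤ) ∈ S := by
      intro δ h1 h2 h3
      have he : 0 < d / δ := Nat.div_pos (Nat.le_of_dvd hd h3) h1
      set e := d / δ with hedef
      have hirr := irreducible_X_pow_sub_C R K ϖ hϖ e he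
      haveI : Fact (Irreducible (Polynomial.X ^ e - Polynomial.C (algebraMap R K ϖ) : Polynomial K)) :=
        ⟨hirr⟩
      refine AddSubgroup.subset_closure ⟨AdjoinRoot (Polynomial.X ^ e - Polynomial.C (algebraMap R K ϖ)),
        inferInstance, inferInstance, ?_, ?_, ?_⟩
      · exact (AdjoinRoot.powerBasis hirr.ne_zero).finite
      · rw [(AdjoinRoot.powerBasis hirr.ne_zero).finrank, AdjoinRoot.powerBasis_dim,
          Polynomial.natDegree_X_pow_sub_C]
      · let y := AdjoinRoot.root (Polynomial.X ^ e - Polynomial.C (algebraMap R K ϖ))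
        have hy : y ^ e = algebraMap K _ (algebraMap R K ϖ) := by
          have := AdjoinRoot.eval₂_root (Polynomial.X ^ e - Polynomial.C (algebraMap R K ϖ))
          rw [Polynomial.eval₂_sub, Polynomial.eval₂_X_pow, Polynomial.eval₂_C, sub_eq_zero] at this
          exact this
        obtain ⟨δ', rfl⟩ : ∃ δ', δ = δ' + 1 := ⟨δ - 1, by omega⟩
        let j : Fin N := ⟨δ', by omega⟩
        refine ⟨Fin.cons y (Pi.single j 1), ?_, ?_⟩
        · intro h
          have := congrFun h j.succ
          simp at this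
        · rw [Fin.cons_zero]
          simp only [Fin.cons_succ]
          rw [Finset.sum_eq_single j]
          · rw [Pi.single_eq_same, one_pow, mul_one, map_pow, map_pow, ← hy, ← pow_mul]
            congr 1
            exact (Nat.div_mul_cancel h3).symm
          · intro i _ hij
            rw [Pi.single_eq_of_ne hij, zero_pow (by omega), mul_zero]
          · intro h
            exact absurd (Finset.mem_univ _) h
    rw [hg, ← AddSubgroup.zmultiples_eq_closure] at key ⊢
    rw [Int.mem_zmultiples_iff]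
    rw [← Int.natAbs_dvd, Int.natCast_dvd_natCast]
    refine Finset.dvd_gcd fun δ hδ => ?_
    obtain ⟨hδ1, hδ2⟩ := Finset.mem_filter.1 hδ
    obtain ⟨hδ3, hδ4⟩ := Finset.mem_Icc.1 hδ1
    have := key δ hδ3 hδ4 hδ2
    rw [Int.mem_zmultiples_iff, ← Int.natAbs_dvd, Int.natCast_dvd_natCast] at this
    exact this

end Groth.Agent.S17785
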