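import Groth.Statements.S17786
import Groth.Agent.S17784
import Groth.Agent.Variety.K753.EulerSat

set_option autoImplicit false
universe u
open CategoryTheory CategoryTheory.Limits AlgebraicGeometry
open Variety

namespace Groth.Agent.S17786

/-- R is a Henselian discrete valuation ring whose residue field k is algebraically closed; write K for
its field of fractions. Assume that for every prime number ℓ which is non-zero in k and every
integral scheme Z proper and flat over Spec R there are an integral scheme Y all of whose local
rings are regular and a proper surjective morphism h : Y → Z sending the generic point of Y to that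
of Z, such that the residue field extension at the generic points is finite of degree prime to ℓ.
Let X be a proper K-scheme and E a coherent O_X-module. Then there is an integer c ≥ 1, all of whose
prime factors are zero in k, such that c · χ(X, E) lies in the subgroup of ℤ generated by the
degrees of the closed points of X; in other words the index of X divides χ(X, E) when k has
characteristic 0, and its prime-to-p part does when k has characteristic p > 0. (The published
statement assumes instead that R is excellent; excellence enters the published proof only through
the existence of the alterations above, which is quoted there from the literature, so that existence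
is carried here as the hypothesis.) -/
theorem result (R : Type u) [CommRing R]
    [IsDomain R] [IsDiscreteValuationRing R] [HenselianLocalRing R] (hk : IsAlgClosed (IsLocalRing.ResidueField R))
    (halt : ∀ (ℓ : ℕ), ℓ.Prime → (ℓ : IsLocalRing.ResidueField R) ≠ 0 →
      ∀ (Z : Scheme.{u}) (q : Z ⟶ Spec (CommRingCat.of R)) [AlgebraicGeometry.IsIntegral Z] [IsProper q] [Flat q],
        ∃ (Y : Scheme.{u}) (h : Y ⟶ Z) (_ : AlgebraicGeometry.IsIntegral Y),
          (∀ y : Y, IsRegularLocalRing (Y.presheaf.stalk y)) ∧ IsProper h ∧ Surjective h ∧
          h.base (genericPoint Y) = genericPoint Z ∧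
          h.residueDegree (genericPoint Y) ≠ 0 ∧ ¬ ℓ ∣ h.residueDegree (genericPoint Y))
    (X : Scheme.{u}) [X.Over (Spec (CommRingCat.of (FractionRing R)))] [IsProper (X ↘ Spec (CommRingCat.of (FractionRing R)))] (E : X.Modules) (hE : Coh.IsCoh E) :
    ∃ c : ℕ, 1 ≤ c ∧ (∀ q : ℕ, q.Prime → q ∣ c → (q : IsLocalRing.ResidueField R) = 0) ∧
      (c : ℤ) * Curv2.euler (FractionRing R) X E ∈ Curv2.indexSubgroup (X ↘ Spec (CommRingCat.of (FractionRing R))) := by
  have h84 : K753.Alt.Prop84 R := fun X _ _ hXreg 𝒳 p h𝒳 => Groth.Agent.S17784.result R hk X hXreg 𝒳 p h𝒳
  have h := K753.EulerSat.euler_mem_sat R h84 halt X ⊤ E hE (Set.subset_univ _)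
  obtain ⟨c, hc, h⟩ := h
  exact ⟨c, hc.1, hc.2, by rw [← K753.IdxSat.idxOn_univ]; exact h⟩

end Groth.Agent.S17786
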