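import Groth.Statements.S17787
import Groth.Agent.S17784
import Groth.Agent.Variety.K753.HypMain

set_option autoImplicit false
universe u
open CategoryTheory CategoryTheory.Limits AlgebraicGeometry
open Variety

namespace Groth.Agent.S17787

/-- Take R to be a discrete valuation ring that is Henselian, with K its fraction field and k its
residue field, the latter algebraically closed, and assume that for every prime ℓ non-zero in k and
every integral scheme Z proper and flat over Spec R there are an integral scheme Y with regular
local rings and a proper surjective morphism Y → Z sending generic point to generic point with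
residue extension there finite of degree prime to ℓ. Let F be a non-zero homogeneous polynomial of
degree d ≥ 1 in N + 1 variables over K (N ≥ 1), defining a hypersurface X of degree d in projective
N-space, and let H be the subgroup of ℤ generated by the degrees [L : K] of the finite extensions L
of K in which F has a non-trivial zero (H is the subgroup generated by the index of X). Let I(d, N)
be the greatest common divisor of the quotients d/δ over the divisors δ of d with 1 ≤ δ ≤ N. Then
some multiple c · I(d, N), with c ≥ 1 an integer all of whose prime factors are zero in k, lies in H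
(so the index of X divides I(d, N) if k has characteristic 0, and its prime-to-p part does if k has
characteristic p); and if every prime which is zero in k is larger than N, then I(d, N) itself lies
in H. (The published statement assumes instead that R is excellent; that enters only through the
existence of the alterations, carried here as the hypothesis.) -/
theorem result (R : Type u)
    [CommRing R] [IsDomain R] [IsDiscreteValuationRing R] [HenselianLocalRing R]
    (hk : IsAlgClosed (IsLocalRing.ResidueField R))
    (halt : ∀ (ℓ : ℕ), ℓ.Prime → (ℓ : IsLocalRing.ResidueField R) ≠ 0 →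
      ∀ (Z : Scheme.{u}) (q : Z ⟶ Spec (CommRingCat.of R)) [AlgebraicGeometry.IsIntegral Z] [IsProper q] [Flat q],
        ∃ (Y : Scheme.{u}) (h : Y ⟶ Z) (_ : AlgebraicGeometry.IsIntegral Y),
          (∀ y : Y, IsRegularLocalRing (Y.presheaf.stalk y)) ∧ IsProper h ∧ Surjective h ∧
          h.base (genericPoint Y) = genericPoint Z ∧
          h.residueDegree (genericPoint Y) ≠ 0 ∧ ¬ ℓ ∣ h.residueDegree (genericPoint Y))
    (K : Type u) [Field K] [Algebra R K] [IsFractionRing R K] (d N : ℕ) (hd : 1 ≤ d) (hN : 1 ≤ N)
    (F : MvPolynomial (Fin (N + 1)) K) (hF : F.IsHomogeneous d) (hF0 : F ≠ 0) :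
    letI H := AddSubgroup.closure {m : ℤ | ∃ (L : Type u) (_ : Field L) (_ : Algebra K L),
        FiniteDimensional K L ∧ m = (Module.finrank K L : ℤ) ∧
        ∃ x : Fin (N + 1) → L, x ≠ 0 ∧ MvPolynomial.aeval x F = 0}
    letI I := (((Finset.Icc 1 N).filter (fun δ => δ ∣ d)).gcd (fun δ => d / δ) : ℕ)
    (∃ c : ℕ, 1 ≤ c ∧ (∀ q : ℕ, q.Prime → q ∣ c → (q : IsLocalRing.ResidueField R) = 0) ∧ (c : ℤ) * (I : ℤ) ∈ H) ∧
      ((∀ q : ℕ, q.Prime → (q : IsLocalRing.ResidueField R) = 0 → N < q) → (I : ℤ) ∈ H) := by
  have h84 : K753.Alt.Prop84 R := fun X _ _ hXreg 𝒳 p h𝒳 => Groth.Agent.S17784.result R hk X hXreg 𝒳 p h𝒳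
  obtain ⟨⟨c, hc, h1⟩, h2⟩ := K753.HypMain.main R h84 halt K d N hd hN F hF hF0
  exact ⟨⟨c, hc.1, hc.2, h1⟩, h2⟩

end Groth.Agent.S17787
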