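import Groth.Statements.S17790
import Groth.Agent.S0252
import Groth.Agent.S2946

set_option autoImplicit false
universe u
open CategoryTheory CategoryTheory.Limits AlgebraicGeometry
open Pi1

namespace Groth.Agent.S17790

/-- Let A be a Noetherian local ring and I an ideal for which A is I-adically complete and A/I is local;
write X = Spec A, Y = V(I) and U for the punctured spectrum. Suppose that A is pure (the pair formed
by X and its closed point is pure) and that the effective Lefschetz condition Leff(U, U ∩ Y) holds.
Then Y minus the closed point, i.e. U ∩ Y, is a connected (nonempty) subset of X. -/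
theorem result (A : Type u) [CommRing A] [IsLocalRing A] [IsNoetherianRing A] (I : Ideal A) [IsAdicComplete I A] [IsLocalRing (A ⧸ I)] (hpure : SGA2.IsPurePair (Spec (CommRingCat.of A)) (FEt.puncturedSpec A)) (hleff : LefX.LeffCond (↑(FEt.puncturedSpec A) : Scheme.{u}) ((Spec.map (CommRingCat.ofHom (Ideal.Quotient.mk I))).ker.comap (FEt.puncturedSpec A).ι)) : IsConnected (((Spec.map (CommRingCat.ofHom (Ideal.Quotient.mk I))).ker.support : Set ↥(Spec (CommRingCat.of A))) ∩ (FEt.puncturedSpec A : Set ↥(Spec (CommRingCat.of A)))) := by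
  set X := Spec (CommRingCat.of A) with hX
  set U := FEt.puncturedSpec A with hU
  have hXn : IsNoetherian X := inferInstance
  have hcpt : ∀ V : X.Opens, CompactSpace ↥(V : Scheme.{u}) := fun V =>
    isCompact_iff_compactSpace.1 (TopologicalSpace.NoetherianSpace.isCompact _)
  -- the punctured spectrum is connected
  have h1 : (FEt.restrict (X.homOfLE (inf_le_left : ⊤ ⊓ U ≤ ⊤))).IsEquivalence := hpure ⊤
  have hc1 : CompactSpace ↥((⊤ ⊓ U : X.Opens) : Scheme.{u}) := hcpt _
  have hc2 : CompactSpace ↥((⊤ : X.Opens) : Scheme.{u}) := hcpt _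
  have h2 := Groth.Agent.S0252.result _ h1
  have hXc : ConnectedSpace X := by
    have : PreconnectedSpace (PrimeSpectrum A) := by
      rw [preconnectedSpace_iff_clopen]
      intro s hs
      by_cases h : IsLocalRing.closedPoint A ∈ s
      · right
        have := (IsLocalRing.closedPoint_mem_iff (U := ⟨s, hs.isOpen⟩)).1 h
        exact congrArg (fun V : TopologicalSpace.Opens (PrimeSpectrum A) => (V : Set (PrimeSpectrum A))) this
      · left
        have := (IsLocalRing.closedPoint_mem_iff (U := ⟨sᶜ, hs.compl.isOpen⟩)).1 h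
        have h' := congrArg (fun V : TopologicalSpace.Opens (PrimeSpectrum A) => (V : Set (PrimeSpectrum A))) this
        exact Set.compl_univ_iff.1 h'
    exact { toPreconnectedSpace := this, toNonempty := ⟨IsLocalRing.closedPoint A⟩ }
  have hTc : ConnectedSpace ↥((⊤ : X.Opens) : Scheme.{u}) := by
    have : _root_.IsConnected ((⊤ : X.Opens) : Set X) := by
      rw [TopologicalSpace.Opens.coe_top]; exact isConnected_univ
    exact isConnected_iff_connectedSpace.1 this
  have hUc : ConnectedSpace ↥((⊤ ⊓ U : X.Opens) : Scheme.{u}) := by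
    rw [connectedSpace_iff_connectedComponent]
    obtain ⟨a⟩ : Nonempty (ConnectedComponents ↥((⊤ : X.Opens) : Scheme.{u})) := inferInstance
    obtain ⟨b, -⟩ := h2.surjective a
    obtain ⟨x, -⟩ := Quotient.exists_rep b
    refine ⟨x, ?_⟩
    rw [Set.eq_univ_iff_forall]
    intro y
    have h5 : (y : ConnectedComponents ↥((⊤ ⊓ U : X.Opens) : Scheme.{u})) = x := by
      apply h2.injective
      exact Subsingleton.elim _ _
    exact ConnectedComponents.coe_eq_coe'.1 h5
  have hUc' : _root_.IsConnected (U : Set X) := by
    have := isConnected_iff_connectedSpace.2 hUc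
    rwa [top_inf_eq] at this
  have hUs : ConnectedSpace ↥(U : Scheme.{u}) := isConnected_iff_connectedSpace.1 hUc'
  have hTU : ConnectedSpace ↥((⊤ : (U : Scheme.{u}).Opens)) := by
    have : _root_.IsConnected ((⊤ : (U : Scheme.{u}).Opens) : Set (U : Scheme.{u})) := by
      rw [TopologicalSpace.Opens.coe_top]; exact isConnected_univ
    exact isConnected_iff_connectedSpace.1 this
  have h3 := (Groth.Agent.S2946.result (U : Scheme.{u}) _ hleff.1 ⊤ (Set.subset_univ _)).2 hTU
  have h4 := (isConnected_iff_connectedSpace.2 h3).image U.ι U.ι.continuous.continuousOn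
  rw [Scheme.IdealSheafData.support_comap] at h4
  convert h4 using 1
  ext x
  constructor
  · rintro ⟨hx, hxU⟩
    exact ⟨⟨x, hxU⟩, hx, rfl⟩
  · rintro ⟨⟨y, hyU⟩, hy, rfl⟩
    exact ⟨hy, hyU⟩

end Groth.Agent.S17790
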