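import Groth.Statements.S17791
import Groth.Agent.Pi1.K158.VdimPure

set_option autoImplicit false
universe u
open CategoryTheory CategoryTheory.Limits AlgebraicGeometry
open Pi1

namespace Groth.Agent.S17791

/-- Write A = R/I with R a regular local ring and I generated by a finite set s of elements of the
maximal ideal, let c = dim R − dim A, and call δ = |s| − c the deviation of this presentation (for a
minimal generating set this is the deviation of A). Suppose A is excellent, equidimensional of Krull
dimension at least 3, and a complete intersection in codimension at most 2 + δ: for every prime Q of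
A with height(Q) + c ≤ 2 + |s|, the ideal generated by s in the localization of R at the preimage of
Q is generated by a regular sequence. Then A is pure: for every open V of Spec A, restriction of
finite étale covers from V to V minus the closed point is an equivalence of categories. -/
theorem result (R : Type u) [CommRing R] [IsRegularLocalRing R] (s : Finset R) (hs : ∀ x ∈ s, x ∈ IsLocalRing.maximalIdeal R) [IsLocalRing (R ⧸ Ideal.span (↑s : Set R))] (hexc : EGA4.IsExcellent (R ⧸ Ideal.span (↑s : Set R))) (heq : EGA4.IsEquidim (R ⧸ Ideal.span (↑s : Set R))) (hdim : (3 : WithBot ℕ∞) ≤ ringKrullDim (R ⧸ Ideal.span (↑s : Set R))) (c : ℕ) (hc : ringKrullDim R = ringKrullDim (R ⧸ Ideal.span (↑s : Set R)) + (c : WithBot ℕ∞)) (hci : ∀ (Q : Ideal (R ⧸ Ideal.span (↑s : Set R))) [Q.IsPrime], Q.height + (c : ℕ∞) ≤ ((2 + s.card : ℕ) : ℕ∞) → CInt.IsRegularIdeal ((Ideal.span (↑s : Set R)).map (algebraMap R (Localization.AtPrime (Q.comap (Ideal.Quotient.mk (Ideal.span (↑s : Set R)))))))) : SGA2.IsPurePair (Spec (CommRingCat.of (R ⧸ Ideal.span (↑s : Set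 R)))) (FEt.puncturedSpec (R ⧸ Ideal.span (↑s : Set R))) := by
  let I : Ideal R := Ideal.span (↑s : Set R)
  have hQ : (IsLocalRing.maximalIdeal (R ⧸ I)).IsPrime := inferInstance
  obtain ⟨S, _, _, ψ, t, hψ, hker, hreg⟩ := K158.VdimPure.localized s c hc hci
    (IsLocalRing.maximalIdeal (R ⧸ I))
  have hunit : ∀ x ∈ (IsLocalRing.maximalIdeal (R ⧸ I)).primeCompl, IsUnit x := by
    intro x hx
    by_contra h
    exact hx ((IsLocalRing.mem_maximalIdeal x).2 h)
  let e : (R ⧸ I) ≃ₐ[R ⧸ I] Localization.AtPrime (IsLocalRing.maximalIdeal (R ⧸ I)) :=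
    IsLocalization.atUnits (R ⧸ I) (IsLocalRing.maximalIdeal (R ⧸ I)).primeCompl hunit
  apply K158.PurePair.isPurePair_of_isEquivalence
  refine K158.VdimPure.isEquivalence_of_ci ((e.symm : _ →+* (R ⧸ I)).comp ψ)
    (e.symm.surjective.comp hψ) t ?_ hdim hreg
  rw [← hker]
  ext x
  simp [RingHom.mem_ker]

end Groth.Agent.S17791
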