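import Groth.Statements.S17794
import Groth.Agent.AlgSp.K612.QuotSurj
import Groth.Agent.Sga3C.FlatOfComp
import Groth.Agent.UnramA.LfpOfComp

set_option autoImplicit false
universe u
open CategoryTheory CategoryTheory.Limits MonoidalCategory CartesianMonoidalCategory MonObj GrpObj AlgebraicGeometry
open GrpSch

namespace Groth.Agent.S17794

theorem isPullback_lift {S : Scheme.{u}} {G H N T : Over S} [GrpObj G] [GrpObj H] {f : G ⟶ H} [IsMonHom f]
    {i : N ⟶ G} (hi : AlgGrp.IsKernel i f) (a : T ⟶ G) (c : T ⟶ H) (hc : a ≫ f = c) :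
    IsPullback ((fst N T ≫ i) * (snd N T ≫ a)) (snd N T) f c := by
  have hi' : IsPullback i (toUnit N) f η[H] := hi
  have hif : i ≫ f = 1 := by rw [hi'.w]; rfl
  have hm : ∀ {W : Over S} (x y : W ⟶ N), x ≫ i = y ≫ i → x = y := by
    intro W x y h
    apply hi'.hom_ext h
    exact toUnit_unique _ _
  have w : ((fst N T ≫ i) * (snd N T ≫ a)) ≫ f = snd N T ≫ c := by
    rw [MonObj.mul_comp, Category.assoc, Category.assoc, hif, hc, MonObj.comp_one, _root_.one_mul]
  have key : ∀ s : PullbackCone f c, ∃ n : s.pt ⟶ N, n ≫ i = s.fst * (s.snd ≫ a)⁻¹ := by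
    intro s
    refine ⟨hi'.lift (s.fst * (s.snd ≫ a)⁻¹) (toUnit _) ?_, hi'.lift_fst _ _ _⟩
    rw [MonObj.mul_comp, GrpObj.inv_comp, s.condition, Category.assoc, hc, mul_inv_cancel]
    rfl
  choose n hn using key
  refine ⟨⟨w⟩, ⟨PullbackCone.IsLimit.mk _ (fun s => lift (n s) s.snd) ?_ ?_ ?_⟩⟩
  · intro s
    rw [MonObj.comp_mul, ← Category.assoc, lift_fst, ← Category.assoc, lift_snd, hn, inv_mul_cancel_right]
  · intro s
    rw [lift_snd]
  · intro s m hm₁ hm₂
    have h2 : m ≫ snd N T = s.snd := hm₂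
    have h1 : (m ≫ fst N T) ≫ i = s.fst * (s.snd ≫ a)⁻¹ := by
      rw [MonObj.comp_mul, ← Category.assoc m (snd N T), h2] at hm₁
      rw [eq_mul_inv_iff_mul_eq, Category.assoc]
      exact hm₁
    apply CartesianMonoidalCategory.hom_ext
    · rw [lift_fst]
      apply hm
      rw [h1, hn]
    · rw [lift_snd, h2]

/-- local sections of an fppf epimorphism over one flat surjective scheme -/
theorem exists_cover {S : Scheme.{u}} {U M : Over S} (q : U ⟶ M)
    (h : Epi (QuotSh.repMap Scheme.fppfPrecoverage q)) :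
    ∃ (T : Over S) (a : T ⟶ U) (c : T ⟶ M), a ≫ q = c ∧ Flat c.left ∧ Surjective c.left := by
  have h1 : Sheaf.IsLocallySurjective (QuotSh.repMap Scheme.fppfPrecoverage q) :=
    (Sheaf.isLocallySurjective_iff_epi' (Type (u + 1)) _).2 h
  have h2 := (Presheaf.isLocallySurjective_presheafToSheaf_map_iff _ _).1 h1
  have h3 := h2.imageSieve_mem (U := M) ⟨𝟙 M⟩
  rw [GrothendieckTopology.mem_over_iff] at h3
  have key : ∀ x : M.left, ∃ (Y : Scheme.{u}) (g : Y ⟶ M.left) (b : Y ⟶ U.left) (y : Y), b ≫ q.left = g ∧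
      Flat g ∧ g y = x := by
    intro x
    obtain ⟨Y, g, y, hf, h5, -, hy⟩ := K612.QuotLem.fppf_jointly_surjective h3 x
    rw [Sieve.overEquiv_iff] at hf
    obtain ⟨⟨a⟩, ha⟩ := hf
    have h4 : a ≫ q = Over.homMk g ≫ 𝟙 M := congrArg ULift.down ha
    refine ⟨Y, g, a.left, y, ?_, h5, hy⟩
    rw [← Over.comp_left, h4, Category.comp_id]
    rfl
  choose Y g b y hb hg hy using key
  refine ⟨Over.mk (Limits.Sigma.desc g ≫ M.hom), Over.homMk (Limits.Sigma.desc b) ?_, Over.homMk (Limits.Sigma.desc g) rfl, ?_, ?_, ?_⟩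
  · apply Limits.Sigma.hom_ext
    intro x
    simp only [Limits.Sigma.ι_desc_assoc, Over.mk_hom]
    rw [← Over.w q, ← Category.assoc, hb]
  · apply Over.OverMorphism.ext
    apply Limits.Sigma.hom_ext
    intro x
    change (Limits.Sigma.ι Y x) ≫ Limits.Sigma.desc b ≫ q.left = (Limits.Sigma.ι Y x) ≫ Limits.Sigma.desc g
    rw [Limits.Sigma.ι_desc_assoc, Limits.Sigma.ι_desc, hb]
  · change Flat (Limits.Sigma.desc g)
    infer_instance
  · refine ⟨fun x => ⟨(Limits.Sigma.ι Y x) (y x), ?_⟩⟩
    change (Limits.Sigma.desc g) ((Limits.Sigma.ι Y x) (y x)) = x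
    rw [← Scheme.Hom.comp_apply, Limits.Sigma.ι_desc, hy]

/-- Let S be a scheme and f : G → H a homomorphism of S-group schemes, both of finite presentation over
S (locally of finite presentation, quasi-compact and quasi-separated), and let i : N → G be the
kernel of f (the square formed by i, f, the unit section of H and N → S is cartesian). Then f is
faithfully flat (flat and surjective) if and only if the map of representable sheaves h_G → h_H
induced by f on the big fppf site of S is an epimorphism of sheaves of sets and N is flat over S. -/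
theorem result {S : Scheme.{u}} {G H N : Over S} [GrpObj G] [GrpObj H] (f : G ⟶ H) [IsMonHom f] [LocallyOfFinitePresentation G.hom] [QuasiCompact G.hom] [QuasiSeparated G.hom] [LocallyOfFinitePresentation H.hom] [QuasiCompact H.hom] [QuasiSeparated H.hom] (i : N ⟶ G) (hi : AlgGrp.IsKernel i f) : (Flat f.left ∧ Surjective f.left) ↔ (Epi (QuotSh.repMap Scheme.fppfPrecoverage f) ∧ Flat N.hom) := by
  constructor
  · rintro ⟨h1, h2⟩
    have : LocallyOfFinitePresentation f.left := by
      have : LocallyOfFinitePresentation (f.left ≫ H.hom) := by rw [Over.w]; infer_instance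
      exact Groth.Agent.UnramA.LfpOfComp.lfp_of_comp f.left H.hom this inferInstance
    refine ⟨K612.QuotLem.epi_repMap f, ?_⟩
    have hi' : IsPullback i (toUnit N) f η[H] := hi
    have h3 : IsPullback i.left (toUnit N).left f.left (η[H] : 𝟙_ (Over S) ⟶ H).left := hi'.map (Over.forget S)
    have h4 : Flat (toUnit N).left := MorphismProperty.of_isPullback h3 h1
    have h5 : (toUnit N).left ≫ (𝟙_ (Over S)).hom = N.hom := Over.w _
    rw [← h5]
    exact h4
  · rintro ⟨h1, h2⟩
    refine ⟨?_, K612.QuotLem.surjective_of_epi_repMap f h1⟩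
    obtain ⟨T, a, c, hc, h3, h4⟩ := exists_cover f h1
    have h5 := (isPullback_lift hi a c hc).map (Over.forget S)
    have h6 : Flat (snd N T).left := by
      change Flat (pullback.snd N.hom T.hom)
      infer_instance
    set g : (N ⊗ T).left ⟶ G.left := ((fst N T ≫ i) * (snd N T ≫ a)).left with hg
    have h7 : Flat g := MorphismProperty.of_isPullback h5.flip h3
    have h8 : Surjective g := MorphismProperty.of_isPullback h5.flip h4
    have h9 : Flat (g ≫ f.left) := by
      have : g ≫ f.left = (snd N T).left ≫ c.left := h5.w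
      rw [this]
      infer_instance
    exact Groth.Agent.Sga3C.FlatOfComp.flat_of_comp g f.left

end Groth.Agent.S17794
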