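import Groth.Statements.S17796
import Groth.Agent.LefX.K158.GrMain
import Groth.Agent.LefX.K947.ExtMain

set_option autoImplicit false
universe u
open CategoryTheory CategoryTheory.Limits AlgebraicGeometry
open LefX

namespace Groth.Agent.S17796

/-- Let A be an excellent Cohen–Macaulay normal local domain which is a quotient of a regular ring, with
maximal ideal m, and I ⊆ m an ideal such that A is complete for the I-adic topology and B = A/I is
equidimensional of Krull dimension at least 3; the analytic deviation ad(I) is the Krull dimension
of the fibre cone ⊕ Iⁿ/mIⁿ (the Rees algebra of I modulo the maximal ideal m of A) minus the height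
of I. Suppose that for every prime Q of B with dim B_Q < 3 + ad(I), i.e. height(Q) + ht(I) < 3 +
dim(⊕ Iⁿ/mIⁿ), the ideal I A_P (P the preimage of Q in A) is generated by a regular sequence. Then
the effective Lefschetz condition Leff(U, U ∩ V(I)) holds for the punctured spectrum U of A:
completion along V(I) is fully faithful on finite locally free modules over opens of U containing U
∩ V(I), and every levelwise finite locally free system on the completion is algebraizable on some
such open. (The published statement does not assume A complete for the I-adic topology, and its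
proof reduces to that case; but the Lefschetz condition compares sections over an open of U with
sections over its formal completion, so it fails for the punctured spectrum of a ring that is not
I-adically complete, for instance a polynomial ring in four variables over the rationals localized
at the origin with I generated by one variable. Hence A is taken I-adically complete here, the case
the published proof treats.) -/
theorem result (A : Type u) [CommRing A] [IsDomain A] [IsIntegrallyClosed A] [LocCoh.IsCohenMacaulayLocalRing A] (hexc : EGA4.IsExcellent A) (hreg : ∃ (R : Type u) (_ : CommRing R) (_ : IsRegularRing R) (φ : R →+* A), Function.Surjective φ) (I : Ideal A) (hI : I ≤ IsLocalRing.maximalIdeal A) [IsAdicComplete I A] (heq : EGA4.IsEquidim (A ⧸ I)) (hdim : (3 : WithBot ℕ∞) ≤ ringKrullDim (A ⧸ I)) (hci : ∀ (Q : Ideal (A ⧸ I)) [Q.IsPrime], ((Q.height : ℕ∞) : WithBot ℕ∞) + ((I.height : ℕ∞) : WithBot ℕ∞) < 3 + ringKrullDim (↥(reesAlgebra I) ⧸ Ideal.map (algebraMap A ↥(reesAlgebra I)) (IsLocalRing.maximalIdeal A)) → CInt.IsRegularIdeal (I.map (algebraMap A (Localization.AtPrime (Q.comap (Ideal.Quotient.mk I)))))) : LefX.LeffCond (↑(FEt.puncturedSpec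 A) : Scheme.{u}) ((Spec.map (CommRingCat.ofHom (Ideal.Quotient.mk I))).ker.comap (FEt.puncturedSpec A).ι) := by
  obtain ⟨R, _, _, φ, hφ⟩ := hreg
  have hCM : LocCoh.IsCohenMacaulayRing A := K113.GoodCM.isCohenMacaulayRing_of_local ‹_›
  have huc : CAlg.IsUniversallyCatenary A := Groth.Agent.S0603.result A
  obtain ⟨p, hp, hIp, hcp⟩ := K158.GrMain.exists_prime I hI hdim hci huc
  refine Groth.Agent.LefX.K947.ExtMain.leffCond_of_depth R φ hφ I (IsLocalRing.maximalIdeal A)
    (K158.GrMain.bad I * IsLocalRing.maximalIdeal A) Ideal.mul_le_right
    (K158.GrMain.depthHyp I hI hdim hci) p hIp hcp _ ?_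
  exact K177.Basic.puncturedSpec_eq A

end Groth.Agent.S17796
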