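import Groth.Statements.S17797
import Mathlib.RingTheory.EssentialFiniteness
import Mathlib.RingTheory.Localization.AtPrime.Basic
import Mathlib.Algebra.Algebra.Subalgebra.Directed
import Mathlib.RingTheory.IntegralClosure.IntegrallyClosed
import Mathlib.RingTheory.Localization.FractionRing

set_option autoImplicit false
universe u
open CAlg

namespace Groth.Agent.S17797

open IsLocalRing in
/-- A maximal subfield of a local algebra over a field: the residue field is algebraic over it. -/
theorem exists_maximal_subfield (k S : Type*) [Field k] [CommRing S] [IsLocalRing S]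
    [Algebra k S] :
    ∃ K : Subalgebra k S, (∀ x ∈ K, x ≠ 0 → ∃ y ∈ K, x * y = 1) ∧
      ∀ t : S, ∃ p : Polynomial K, p ≠ 0 ∧ Polynomial.aeval t p ∈ maximalIdeal S := by
  classical
  let F : Set (Subalgebra k S) := {K | ∀ x ∈ K, x ≠ 0 → ∃ y ∈ K, x * y = 1}
  have hbot : (⊥ : Subalgebra k S) ∈ F := by
    intro x hx hx0
    obtain ⟨a, rfl⟩ := Algebra.mem_bot.1 hx
    have ha : a ≠ 0 := by rintro rfl; exact hx0 (map_zero _)
    exact ⟨algebraMap k S a⁻¹, Algebra.mem_bot.2 ⟨_, rfl⟩, by
      rw [← map_mul, mul_inv_cancel₀ ha, map_one]⟩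
  obtain ⟨K, -, hK⟩ := zorn_le_nonempty₀ F (by
    intro c hcF hc y hy
    have hne : Nonempty c := ⟨⟨y, hy⟩⟩
    have hdir : Directed (· ≤ ·) (fun i : c => (i : Subalgebra k S)) :=
      hc.directed
    have hmem : ∀ x : S, x ∈ (⨆ i : c, (i : Subalgebra k S)) ↔ ∃ i : c, x ∈ (i : Subalgebra k S) := by
      intro x
      have := Subalgebra.coe_iSup_of_directed hdir
      rw [← SetLike.mem_coe, this, Set.mem_iUnion]
      rfl
    refine ⟨⨆ i : c, (i : Subalgebra k S), ?_, fun z hz => le_iSup (fun i : c => (i : Subalgebra k S)) ⟨z, hz⟩⟩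
    intro x hx hx0
    obtain ⟨i, hi⟩ := (hmem x).1 hx
    obtain ⟨y, hy, hxy⟩ := hcF i.2 x hi hx0
    exact ⟨y, (hmem y).2 ⟨i, hy⟩, hxy⟩) ⊥ hbot
  have hKF : K ∈ F := hK.prop
  refine ⟨K, hKF, ?_⟩
  intro t
  by_contra hcon
  push Not at hcon
  have hdomK : IsDomain K := by
    have : NoZeroDivisors K := ⟨fun {a b} hab => by
      by_contra h
      push Not at h
      obtain ⟨y, hy, hxy⟩ := hKF a a.2 (fun h0 => h.1 (Subtype.ext h0))
      apply h.2
      apply Subtype.ext
      have h1 : (a : S) * (b : S) = 0 := congrArg Subtype.val hab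
      calc (b : S) = (a : S) * y * b := by rw [hxy, one_mul]
        _ = y * ((a : S) * b) := by ring
        _ = 0 := by rw [h1, mul_zero]⟩
    have : Nontrivial K := inferInstance
    exact NoZeroDivisors.to_isDomain K
  have hunit : ∀ p : nonZeroDivisors (Polynomial K), IsUnit (Polynomial.aeval t (p : Polynomial K)) := by
    intro p
    have := hcon p (nonZeroDivisors.coe_ne_zero p)
    rw [mem_maximalIdeal, mem_nonunits_iff, not_not] at this
    exact this
  let f : FractionRing (Polynomial K) →ₐ[Polynomial K] FractionRing (Polynomial K) := AlgHom.id _ _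
  let φ : FractionRing (Polynomial K) →+* S :=
    IsLocalization.lift (M := nonZeroDivisors (Polynomial K))
      (g := ((Polynomial.aeval t : Polynomial K →ₐ[K] S) : Polynomial K →+* S)) hunit
  have hφ : ∀ p : Polynomial K, φ (algebraMap _ _ p) = Polynomial.aeval t p := fun p =>
    IsLocalization.lift_eq _ _
  -- the range of `φ` as a `k`-subalgebra
  let K' : Subalgebra k S :=
    { φ.range with
      algebraMap_mem' := by
        intro r
        refine ⟨algebraMap _ _ (Polynomial.C (algebraMap k K r)), ?_⟩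
        rw [hφ, Polynomial.aeval_C]
        rfl }
  have hK' : ∀ x, x ∈ K' ↔ ∃ y, φ y = x := fun x => Iff.rfl
  have hK'F : K' ∈ F := by
    intro x hx hx0
    obtain ⟨y, rfl⟩ := (hK' x).1 hx
    have hy : y ≠ 0 := by rintro rfl; exact hx0 (map_zero _)
    exact ⟨φ y⁻¹, (hK' _).2 ⟨_, rfl⟩, by rw [← map_mul, mul_inv_cancel₀ hy, map_one]⟩
  have hle : K ≤ K' := by
    intro x hx
    refine (hK' x).2 ⟨algebraMap (Polynomial K) _ (Polynomial.C (⟨x, hx⟩ : K)), ?_⟩
    rw [hφ, Polynomial.aeval_C]
    rfl
  have htK' : t ∈ K' := (hK' t).2 ⟨algebraMap _ _ Polynomial.X, by rw [hφ, Polynomial.aeval_X]⟩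
  have htK : t ∈ K := hK.le_of_ge hK'F hle htK'
  refine hcon (Polynomial.X - Polynomial.C (⟨t, htK⟩ : K)) (Polynomial.X_sub_C_ne_zero _) ?_
  rw [map_sub, Polynomial.aeval_X, Polynomial.aeval_C]
  have : algebraMap K S ⟨t, htK⟩ = t := rfl
  rw [this, sub_self]
  exact zero_mem _

open IsLocalRing in
theorem exists_field_algebraic (k S : Type u) [Field k] [CommRing S] [IsLocalRing S]
    [Algebra k S] :
    ∃ (K : Type u) (_ : Field K) (_ : Algebra k K) (_ : Algebra K S) (_ : IsScalarTower k K S),
      ∀ t : S, ∃ p : Polynomial K, p ≠ 0 ∧ Polynomial.aeval t p ∈ maximalIdeal S := by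
  obtain ⟨K, hK, halg⟩ := exists_maximal_subfield k S
  have hKfield : IsField K := by
    refine ⟨⟨0, 1, zero_ne_one⟩, mul_comm, ?_⟩
    intro a ha
    obtain ⟨y, hy, hxy⟩ := hK a a.2 (fun h0 => ha (Subtype.ext h0))
    exact ⟨⟨y, hy⟩, Subtype.ext hxy⟩
  exact ⟨K, hKfield.toField, K.algebra, K.toAlgebra, inferInstance, halg⟩

open IsLocalRing in
theorem exists_of_algebraic (k K S : Type u) [Field k] [Field K] [CommRing S] [IsLocalRing S]
    [Algebra k K] [Algebra K S] [Algebra k S] [IsScalarTower k K S] [Algebra.EssFiniteType k S]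
    (halg : ∀ t : S, ∃ p : Polynomial K, p ≠ 0 ∧ Polynomial.aeval t p ∈ maximalIdeal S) :
    ∃ (A : Type u) (_ : CommRing A) (_ : Algebra K A) (_ : Algebra k A) (_ : IsScalarTower k K A)
      (_ : Algebra.FiniteType K A) (m : Ideal A) (_ : m.IsMaximal),
        Nonempty (S ≃ₐ[k] Localization.AtPrime m) := by
  classical
  let G : Finset S := Algebra.EssFiniteType.finset k S
  let A : Subalgebra K S := Algebra.adjoin K (G : Set S)
  let m : Ideal A := (IsLocalRing.maximalIdeal S).comap (algebraMap A S)
  have hmprime : m.IsPrime := Ideal.IsPrime.comap _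
  have hft : Algebra.FiniteType K A := by
    rw [← Subalgebra.fg_iff_finiteType]
    exact Subalgebra.fg_adjoin_finset G
  have hmmax : m.IsMaximal := by
    have hint : Algebra.IsIntegral K (A ⧸ m) := by
      rw [← Algebra.isAlgebraic_iff_isIntegral]
      refine ⟨fun z => ?_⟩
      obtain ⟨a, rfl⟩ := Ideal.Quotient.mk_surjective z
      obtain ⟨p, hp0, hp⟩ := halg (a : S)
      refine ⟨p, hp0, ?_⟩
      have h1 : Polynomial.aeval (Ideal.Quotient.mk m a) p =
          Ideal.Quotient.mk m (Polynomial.aeval a p) :=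
        Polynomial.aeval_algHom_apply (Ideal.Quotient.mkₐ K m) a p
      rw [h1, Ideal.Quotient.eq_zero_iff_mem]
      change algebraMap A S (Polynomial.aeval a p) ∈ IsLocalRing.maximalIdeal S
      have h2 : algebraMap A S (Polynomial.aeval a p) = Polynomial.aeval (a : S) p :=
        (Polynomial.aeval_algHom_apply A.val a p).symm
      rw [h2]
      exact hp
    have hf : IsField (A ⧸ m) := isField_of_isIntegral_of_isField' (Field.toIsField K)
    exact Ideal.Quotient.maximal_of_isField m hf
  have hsub : ∀ x : S, x ∈ Algebra.adjoin k (G : Set S) → x ∈ A := by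
    intro x hx
    have h1 : Algebra.adjoin k (G : Set S) ≤ A.restrictScalars k :=
      Algebra.adjoin_le (fun y hy => (Algebra.subset_adjoin hy : y ∈ Algebra.adjoin K (G : Set S)))
    exact h1 hx
  have hloc : IsLocalization.AtPrime S m := by
    refine ⟨?_⟩
    refine ⟨?_, ?_, ?_⟩
    · intro y
      have hy : (y : A) ∉ m := y.2
      by_contra h
      exact hy ((IsLocalRing.mem_maximalIdeal _).2 h)
    · intro s
      obtain ⟨t, ht, htu, hst⟩ :=
        (Algebra.essFiniteType_cond_iff (R := k) (S := S) G).1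
          (Algebra.EssFiniteType.isLocalization (R := k) (S := S)) s
      refine ⟨⟨⟨s * t, hsub _ hst⟩, ⟨⟨t, hsub _ ht⟩, ?_⟩⟩, rfl⟩
      intro h
      have h2 : t ∈ IsLocalRing.maximalIdeal S := h
      rw [IsLocalRing.mem_maximalIdeal] at h2
      exact h2 htu
    · intro x y h
      exact ⟨1, by rw [Subtype.ext (show (x : S) = y from h)]⟩
  exact ⟨A, inferInstance, inferInstance, inferInstance, inferInstance, hft, m, hmmax,
    ⟨(IsLocalization.algEquiv m.primeCompl S (Localization.AtPrime m)).restrictScalars k⟩⟩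

/-- Suppose k is a field of characteristic zero and S is a local domain that is an essentially
finite-type k-algebra. Then there are an extension field K of k, a K-algebra A of finite type and a
maximal ideal m of A such that S is isomorphic over k to the localization A_m. -/
theorem result (k : Type u) [Field k] [CharZero k] (S : Type u) [CommRing S] [IsDomain S] [IsLocalRing S] [Algebra k S] [Algebra.EssFiniteType k S] : ∃ (K : Type u) (_ : Field K) (_ : Algebra k K) (A : Type u) (_ : CommRing A) (_ : Algebra K A) (_ : Algebra k A) (_ : IsScalarTower k K A) (_ : Algebra.FiniteType K A) (m : Ideal A) (_ : m.IsMaximal), Nonempty (S ≃ₐ[k] Localization.AtPrime m) := by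
  obtain ⟨K, i1, i2, i3, i4, halg⟩ := exists_field_algebraic k S
  obtain ⟨A, j1, j2, j3, j4, j5, m, j6, e⟩ := exists_of_algebraic k K S halg
  exact ⟨K, i1, i2, A, j1, j2, j3, j4, j5, m, j6, e⟩

end Groth.Agent.S17797
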