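import Groth.Statements.S17798
import Groth.Agent.RefFun.K64.ClTors
import Groth.Agent.Sga2.PureDescent
import Groth.Agent.S0272

set_option autoImplicit false
universe u
open CategoryTheory CategoryTheory.Limits AlgebraicGeometry
open RefFun

namespace Groth.Agent.S17798

/-- Let A be an excellent normal local domain which is equicharacteristic (A and its residue field have
the same characteristic p, possibly 0) and pure in codimension at least 2: for every prime P of A of
height at least 2 the completion of A_P at its maximal ideal is pure. Consider the divisor class
group of A, realized as the group of isomorphism classes of rank-one coherent reflexive modules on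
Spec A under the reflexive tensor product. Then it has no torsion of order prime to the
characteristic: for every integer s ≥ 1 invertible in A and every class c with c^s = 1, c = 1. -/
theorem result (A : Type u) [CommRing A] [IsDomain A] [IsLocalRing A] [IsNoetherianRing A] [IsIntegrallyClosed A] (hA : EGA4.IsExcellent A) (p : ℕ) [CharP A p] [CharP (IsLocalRing.ResidueField A) p] (hpure : ∀ (P : Ideal A) [P.IsPrime], (2 : ℕ∞) ≤ P.height → SGA2.IsPurePair (Spec (CommRingCat.of (AdicCompletion (IsLocalRing.maximalIdeal (Localization.AtPrime P)) (Localization.AtPrime P)))) (FEt.puncturedSpec (AdicCompletion (IsLocalRing.maximalIdeal (Localization.AtPrime P)) (Localization.AtPrime P)))) [RefFun.Law (Spec (CommRingCat.of A))] (s : ℕ) (hs : 0 < s) (hsu : IsUnit ((s : ℕ) : A)) (c : RefFun.Ref1Set (Spec (CommRingCat.of A))) (hc : c ^ s = 1) : c = 1 := by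
  refine K64.ClTors.eq_one (CommRingCat.of A) (fun P _ hP => ?_) hs hsu c hc
  apply Groth.Agent.S0272.purity_of_completion
  have h := Groth.Agent.Sga2.PureDescent.isEquivalence_of_isPurePair _ (hpure P hP) (𝟙 _)
  exact h.essSurj

end Groth.Agent.S17798
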