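import Groth.Statements.S17799
import Groth.Agent.RefFun.K64.ClTors
import Groth.Agent.RefFun.K64.CIPur
import Groth.Agent.S0247

set_option autoImplicit false
universe u
open CategoryTheory CategoryTheory.Limits AlgebraicGeometry
open RefFun

namespace Groth.Agent.S17799

/-- Write A = R/I with R a regular local ring and I generated by a finite set s of elements of the
maximal ideal, let c = dim R − dim A, and call δ = |s| − c the deviation of this presentation (for a
minimal generating set this is the deviation of A). Suppose A is an excellent normal domain which is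
equicharacteristic (A and its residue field have the same characteristic p, possibly 0), satisfies
Serre's condition R₂ (the localization at every prime of height at most 2 is regular), and is a
complete intersection in codimension at most 2 + δ: for every prime Q of A with height(Q) + c ≤ 2 +
|s|, the ideal generated by s in the localization of R at the preimage of Q is generated by a
regular sequence. Then the divisor class group of A, realized as the group of isomorphism classes of
rank-one coherent reflexive modules on Spec A under the reflexive tensor product, has no torsion of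
order prime to the characteristic: for every integer t ≥ 1 invertible in A and every class x with
x^t = 1, x = 1. -/
theorem result (R : Type u) [CommRing R] [IsRegularLocalRing R] (s : Finset R) (hs : ∀ x ∈ s, x ∈ IsLocalRing.maximalIdeal R) [IsDomain (R ⧸ Ideal.span (↑s : Set R))] [IsIntegrallyClosed (R ⧸ Ideal.span (↑s : Set R))] (hexc : EGA4.IsExcellent (R ⧸ Ideal.span (↑s : Set R))) (p : ℕ) [CharP (R ⧸ Ideal.span (↑s : Set R)) p] [CharP (IsLocalRing.ResidueField (R ⧸ Ideal.span (↑s : Set R))) p] (hR2 : LocCoh.HasRk 2 (R ⧸ Ideal.span (↑s : Set R))) (c : ℕ) (hc : ringKrullDim R = ringKrullDim (R ⧸ Ideal.span (↑s : Set R)) + (c : WithBot ℕ∞)) (hci : ∀ (Q : Ideal (R ⧸ Ideal.span (↑s : Set R))) [Q.IsPrime], Q.height + (c : ℕ∞) ≤ ((2 + s.card : ℕ) : ℕ∞) → CInt.IsRegularIdeal ((Ideal.span (↑s : Set R)).map (algebraMap R (Localization.AtPrime (Q.comap (Ideal.Quotient.mk (Ideal.span (↑s : Set R)))))))) [RefFun.Law (Spec (CommRingCat.of (R ⧸ Ideal.span (↑s : Set R))))] (t : ℕ) (ht : 0 < t) (htu : IsUnit ((t : ℕ) : (R ⧸ Ideal.span (↑s : Set R)))) (x : RefFun.Ref1Set (Spec (CommRingCat.of (R ⧸ Ideal.span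 (↑s : Set R))))) (hx : x ^ t = 1) : x = 1 := by
  have hN : IsNoetherianRing (R ⧸ Ideal.span (↑s : Set R)) := hexc.1
  have hloc : IsLocalRing (R ⧸ Ideal.span (↑s : Set R)) :=
    IsLocalRing.of_surjective' (Ideal.Quotient.mk _) Ideal.Quotient.mk_surjective
  refine K64.ClTors.eq_one (CommRingCat.of (R ⧸ Ideal.span (↑s : Set R))) (fun P _ hP => ?_) ht htu x hx
  rcases lt_or_ge (2 : ℕ∞) P.height with h | h
  · exact K64.CIPur.purityHolds_atPrime R s (hexc.2.1.2 _ inferInstance) c hc hci P (Order.add_one_le_of_lt h)
  · have hreg : IsRegularLocalRing (Localization.AtPrime P) := hR2 P h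
    refine Groth.Agent.S0247.result _ ?_
    rw [IsLocalization.AtPrime.ringKrullDim_eq_height P (Localization.AtPrime P)]
    exact WithBot.coe_le_coe.2 hP

end Groth.Agent.S17799
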