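import Groth.Statements.S17800
import Groth.Agent.Pi1.K158.ConeMain

set_option autoImplicit false
universe u
open CategoryTheory CategoryTheory.Limits AlgebraicGeometry
open Pi1

namespace Groth.Agent.S17800

/-- Let k be an algebraically closed field and A = ⊕ A_n a finitely generated graded k-algebra with A_0
= k, generated by A_1, and with no nonzero element killed by all of some A_(n+1) (so that A = k[x_0,
…, x_r]/I with I the saturated homogeneous ideal of the closed subscheme X = Proj A of projective
r-space); let 𝔪 = A_+ be the irrelevant ideal (the vertex of the affine cone Spec A). Suppose X is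
connected and the local ring A_𝔪 of the vertex is pure (for every open V of Spec A_𝔪, restriction of
finite étale covers from V to V minus the closed point is an equivalence). Then X is simply
connected: every finite étale cover of X is isomorphic over X to a finite disjoint union of copies
of X. (The published statement is for an arbitrary field k and X geometrically connected, concluding
that the fundamental group of X is the absolute Galois group of k; this row is its algebraically
closed case.) -/
theorem result (k : Type u) [Field k] [IsAlgClosed k] (A : Type u) [CommRing A] [Algebra k A] (𝒜 : ℕ → Submodule k A) [GradedAlgebra 𝒜] (hft : Algebra.FiniteType k A) (h0 : ∀ a ∈ 𝒜 0, ∃ t : k, algebraMap k A t = a) (hgen : Algebra.adjoin k (𝒜 1 : Set A) = ⊤) (hsat : ∀ a : A, ∀ n : ℕ, (∀ x ∈ 𝒜 (n + 1), x * a = 0) → a = 0) (𝔪 : Ideal A) (h𝔪 : 𝔪 = (HomogeneousIdeal.irrelevant 𝒜).toIdeal) [𝔪.IsMaximal] [ConnectedSpace ↥(Proj 𝒜)] (hpure : SGA2.IsPurePair (Spec (CommRingCat.of (Localization.AtPrime 𝔪))) (FEt.puncturedSpec (Localization.AtPrime 𝔪))) (Y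 : FEt.Cat (Proj 𝒜)) : Pi1.IsSplit Y := by
  have hirr := K158.ConeGeo.irrelevant_eq hgen
  have hπ : ∀ (d : ℕ) (f : A) (hd : 0 < d) (hf : f ∈ 𝒜 d), Cone.chart hf hd ≫
      Groth.Agent.Ega2.H283.ConeRetr.retr 𝒜 =
        Spec.map (CommRingCat.ofHom (algebraMap (HomogeneousLocalization.Away 𝒜 f) (Localization.Away f))) ≫
          Proj.awayι 𝒜 f hf hd :=
    fun d f hd hf => Groth.Agent.Ega2.H283.ConeRetr.chart_retr hf hd
  obtain ⟨hfull, hfaith⟩ := K158.ConeGeo.fullyFaithful hπ hirr
  exact Groth.Agent.Pi1.H396.SplitGlue.isSplit_of_restrict (Proj.toSpecZero 𝒜)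
    (Groth.Agent.Ega2.H283.ConeRetr.retr 𝒜) hfull hfaith Y
    (K158.ConeMain.isSplit_restrict_retr 𝒜 𝔪 hirr hπ (K158.ConeGeo.exists_sub_mem hgen)
      (h𝔪.trans hirr) (K158.PurePair.isEquivalence_ι _ hpure) Y)

end Groth.Agent.S17800
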