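import Groth.Statements.S17801
import Groth.Agent.PicGrp.K64.SplitTors
import Groth.Agent.S17800

set_option autoImplicit false
universe u
open CategoryTheory CategoryTheory.Limits AlgebraicGeometry
open PicGrp

namespace Groth.Agent.S17801

/-- Let k be an algebraically closed field and A = ⊕ A_n a finitely generated graded k-algebra with A_0
= k, generated by A_1, and with no nonzero element killed by all of some A_(n+1) (so that A = k[x_0,
…, x_r]/I with I the saturated homogeneous ideal of the closed subscheme X = Proj A of projective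
r-space); let 𝔪 = A_+ be the irrelevant ideal (the vertex of the affine cone Spec A). Suppose X is
connected and the local ring A_𝔪 of the vertex is pure (for every open V of Spec A_𝔪, restriction of
finite étale covers from V to V minus the closed point is an equivalence). Give the set Pic(X) of
isomorphism classes of invertible modules its group law by tensor product. Then Pic(X) has no
torsion of order prime to the characteristic of k: for every integer s ≥ 1 which is nonzero in k and
every class c with c^s = 1, c = 1. -/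
theorem result (k : Type u) [Field k] [IsAlgClosed k] (A : Type u) [CommRing A] [Algebra k A] (𝒜 : ℕ → Submodule k A) [GradedAlgebra 𝒜] (hft : Algebra.FiniteType k A) (h0 : ∀ a ∈ 𝒜 0, ∃ t : k, algebraMap k A t = a) (hgen : Algebra.adjoin k (𝒜 1 : Set A) = ⊤) (hsat : ∀ a : A, ∀ n : ℕ, (∀ x ∈ 𝒜 (n + 1), x * a = 0) → a = 0) (𝔪 : Ideal A) (h𝔪 : 𝔪 = (HomogeneousIdeal.irrelevant 𝒜).toIdeal) [𝔪.IsMaximal] [ConnectedSpace ↥(Proj 𝒜)] (hpure : SGA2.IsPurePair (Spec (CommRingCat.of (Localization.AtPrime 𝔪))) (FEt.puncturedSpec (Localization.AtPrime 𝔪))) [PicGrp.Law (Proj 𝒜)] (s : ℕ) (hs : 0 < s) (hsk : ((s : ℕ) : k) ≠ 0) (c : PicLoc.PicSet (Proj 𝒜)) (hc : c ^ s = 1) : c = 1 := by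
  refine K64.SplitTors.eq_one_of_split
    (fun Y => Groth.Agent.S17800.result k A 𝒜 hft h0 hgen hsat 𝔪 h𝔪 hpure Y) hs ?_ c hc
  let φ : k →+* Γ(Proj 𝒜, ⊤) := ((Proj.toSpecZero 𝒜).appTop.hom.comp
    (Scheme.ΓSpecIso (CommRingCat.of (𝒜 0))).inv.hom).comp (algebraMap k (𝒜 0))
  have h1 := (IsUnit.mk0 _ hsk).map φ
  rwa [map_natCast] at h1

end Groth.Agent.S17801
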