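import Groth.Statements.S17802
import Groth.Agent.LocCoh.K171.ReesDim
import Groth.Agent.LocCoh.K171.DepthRetract

set_option autoImplicit false
universe u
open LocCoh

namespace Groth.Agent.S17802

/-- Let (R, m) be a universally catenary Noetherian local domain, I ⊆ m an ideal with R/I
equidimensional, and r a natural number such that the associated graded ring ⊕ Iⁿ/Iⁿ⁺¹, i.e. the
Rees algebra of I modulo the ideal generated by I, satisfies Serre's condition S_r. Let ad(I) be the
analytic deviation: the Krull dimension of ⊕ Iⁿ/mIⁿ (the Rees algebra modulo m) minus the height of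
I. Then for every n ≥ 0 and every prime ideal p ⊇ I of R, the depth of the R_p-module (Iⁿ/Iⁿ⁺¹)_p is
at least min(r, dim (R/I)_p − ad(I)); equivalently every natural number d with d ≤ r and d + dim(⊕
Iⁿ/mIⁿ) ≤ height(p/I) + ht(I) satisfies d ≤ depth (Iⁿ/Iⁿ⁺¹)_p. -/
theorem result (R : Type u) [CommRing R] [IsDomain R] [IsLocalRing R] [IsNoetherianRing R] (huc : CAlg.IsUniversallyCatenary R) (I : Ideal R) (hI : I ≤ IsLocalRing.maximalIdeal R) (heq : EGA4.IsEquidim (R ⧸ I)) (r : ℕ) (hS : LocCoh.HasSk r (↥(reesAlgebra I) ⧸ Ideal.map (algebraMap R ↥(reesAlgebra I)) I) (↥(reesAlgebra I) ⧸ Ideal.map (algebraMap R ↥(reesAlgebra I)) I)) (n : ℕ) (p : Ideal R) [p.IsPrime] (hp : I ≤ p) (d : ℕ) (hdr : d ≤ r) (hd : (d : WithBot ℕ∞) + ringKrullDim (↥(reesAlgebra I) ⧸ Ideal.map (algebraMap R ↥(reesAlgebra I)) (IsLocalRing.maximalIdeal R)) ≤ (((p.map (Ideal.Quotient.mk I)).height : ℕ∞) : WithBot ℕ∞) + ((I.height : ℕ∞) : WithBot ℕ∞)) : (d : ℕ∞) ≤ LocCoh.depth (Localization.AtPrime p) (LocalizedModule p.primeCompl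 (↥(I ^ n) ⧸ (I • (⊤ : Submodule R ↥(I ^ n))))) := by
  classical
  set J := Ideal.map (algebraMap R ↥(reesAlgebra I)) I with hJ
  set M := (↥(I ^ n) ⧸ (I • (⊤ : Submodule R ↥(I ^ n)))) with hM
  -- the two maps
  let i0 : ↥(I ^ n) →ₗ[R] ↥(reesAlgebra I) :=
    { toFun := fun x => Flat2C.ReesGrading.mon I n x.1 x.2
      map_add' := fun x y => by
        apply Subtype.ext
        change Polynomial.monomial n (x.1 + y.1) = Polynomial.monomial n x.1 + Polynomial.monomial n y.1
        rw [map_add]
      map_smul' := fun a x => by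
        apply Subtype.ext
        change Polynomial.monomial n (a * x.1) = a • Polynomial.monomial n x.1
        rw [Polynomial.smul_monomial, smul_eq_mul] }
  let q0 : ↥(reesAlgebra I) →ₗ[R] ↥(I ^ n) :=
    { toFun := fun f => ⟨(f : Polynomial R).coeff n, f.2 n⟩
      map_add' := fun x y => by
        apply Subtype.ext
        change ((x : Polynomial R) + (y : Polynomial R)).coeff n = _
        rw [Polynomial.coeff_add]
        rfl
      map_smul' := fun a x => by
        apply Subtype.ext
        change (a • (x : Polynomial R)).coeff n = _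
        rw [Polynomial.coeff_smul]
        rfl }
  have hqi0 : ∀ x, q0 (i0 x) = x := fun x => by
    apply Subtype.ext
    change (Polynomial.monomial n x.1).coeff n = x.1
    rw [Polynomial.coeff_monomial, if_pos rfl]
  have hi0 : I • (⊤ : Submodule R ↥(I ^ n)) ≤ (J.restrictScalars R).comap i0 := by
    rw [Submodule.smul_le]
    intro a ha x _
    change i0 (a • x) ∈ J
    rw [map_smul, Algebra.smul_def]
    exact Ideal.mul_mem_right _ _ (Ideal.mem_map_of_mem _ ha)
  have hq0 : J.restrictScalars R ≤ (I • (⊤ : Submodule R ↥(I ^ n))).comap q0 := by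
    intro f hf
    have h1 := K171.ReesDim.coeff_mem_of_mem_map I (J := I) hf n
    rw [Submodule.mem_comap]
    have h2 : ((I • (⊤ : Submodule R ↥(I ^ n))).map (I ^ n).subtype) = I * I ^ n := by
      rw [Submodule.map_smul'', Submodule.map_top, Submodule.range_subtype]
      rfl
    rw [← h2] at h1
    obtain ⟨y, hy, hy'⟩ := h1
    have h3 : y = q0 f := Subtype.ext hy'
    rwa [← h3]
  let i : M →ₗ[R] (↥(reesAlgebra I) ⧸ J) :=
    Submodule.mapQ _ (J.restrictScalars R) i0 hi0
  let q : (↥(reesAlgebra I) ⧸ J) →ₗ[R] M :=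
    Submodule.mapQ (J.restrictScalars R) _ q0 hq0
  have hqi : q ∘ₗ i = LinearMap.id := by
    apply Submodule.linearMap_qext
    ext x
    change Submodule.Quotient.mk (q0 (i0 x)) = Submodule.Quotient.mk x
    rw [hqi0]
  refine K171.DepthRetract.le_depth_localized_of_retract r hS p M i q hqi d hdr ?_
  intro Q hQ hQp
  -- the prime of the Rees algebra
  set P := Q.comap (Ideal.Quotient.mk J) with hP
  have hPp : P.IsPrime := Ideal.IsPrime.comap _
  have hJP : J ≤ P := by
    intro x hx
    rw [hP, Ideal.mem_comap, Ideal.Quotient.eq_zero_iff_mem.2 hx]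
    exact zero_mem _
  have hPQ : P.map (Ideal.Quotient.mk J) = Q :=
    Ideal.map_comap_of_surjective _ Ideal.Quotient.mk_surjective Q
  have hcomap : P.comap (algebraMap R ↥(reesAlgebra I)) = p := by
    rw [← hQp, hP, Ideal.comap_comap]
    rfl
  have h1 := K171.ReesDim.height_comap_le I huc P hJP
  rw [hcomap, hPQ] at h1
  have h2 := K171.ReesDim.height_add_height_map_le I p hp
  obtain ⟨hp0, hp0'⟩ := ENat.ne_top_iff_exists.mp (Ideal.height_ne_top_of_isPrime (I := p))
  have h3 : (d : WithBot ℕ∞) + ringKrullDim (↥(reesAlgebra I) ⧸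
      Ideal.map (algebraMap R ↥(reesAlgebra I)) (IsLocalRing.maximalIdeal R)) ≤
      ((p.height : ℕ∞) : WithBot ℕ∞) := by
    refine hd.trans ?_
    exact_mod_cast h2
  generalize ringKrullDim (↥(reesAlgebra I) ⧸
      Ideal.map (algebraMap R ↥(reesAlgebra I)) (IsLocalRing.maximalIdeal R)) = l at h1 h3
  rw [← hp0'] at h1 h3
  induction l with
  | bot =>
    exfalso
    rw [WithBot.add_bot] at h1
    exact absurd h1 (by simp)
  | coe l =>
    have h4 : (d : ℕ∞) + l ≤ hp0 := by exact_mod_cast h3
    have h5 : (hp0 : ℕ∞) ≤ Q.height + l := by exact_mod_cast h1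
    have h6 : l ≠ ⊤ := by
      rintro rfl
      rw [add_top] at h4
      exact absurd h4 (by simp)
    exact (ENat.add_le_add_iff_right h6).1 (h4.trans h5)

end Groth.Agent.S17802
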