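import Groth.Statements.S5785
import Groth.Agent.Ega4A.CompleteNoeth
import Groth.Agent.CalgB.AdicGeomReg
import Groth.Agent.CalgB.RegHom1
import Groth.Agent.CalgB.RegDer
import Mathlib.RingTheory.AdicCompletion.Completeness
import Mathlib.RingTheory.AdicCompletion.AsTensorProduct

set_option autoImplicit false
universe u
open EGA41

namespace Groth.Agent.S5785

/-- An ideal containing `J Â` is extended from `A`. -/
theorem map_comap_eq {A : Type u} [CommRing A] [IsNoetherianRing A] (I : Ideal A)
    (Q : Ideal (AdicCompletion I A)) (hq : Ideal.map (algebraMap A (AdicCompletion I A)) I ≤ Q) :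
    Ideal.map (algebraMap A (AdicCompletion I A)) (Q.comap (algebraMap A (AdicCompletion I A))) = Q := by
  refine le_antisymm Ideal.map_comap_le fun x hx => ?_
  obtain ⟨a, ha⟩ := Ideal.Quotient.mk_surjective (AdicCompletion.evalOneₐ I x)
  have h1 : x - algebraMap A (AdicCompletion I A) a ∈
      Ideal.map (algebraMap A (AdicCompletion I A)) I := by
    rw [← AdicCompletion.ker_evalOneₐ_eq_map I I.fg_of_isNoetherianRing, RingHom.mem_ker, map_sub,
      sub_eq_zero]
    have := RingHom.congr_fun (AdicCompletion.evalOneₐ_comp_algebraMap_eq_mk (I := I)) a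
    exact ha.symm.trans this.symm
  have h2 : algebraMap A (AdicCompletion I A) a ∈ Q := by
    have := Q.sub_mem hx (hq h1)
    rwa [sub_sub_cancel] at this
  have h3 : Ideal.map (algebraMap A (AdicCompletion I A)) I ≤
      Ideal.map (algebraMap A (AdicCompletion I A)) (Q.comap (algebraMap A (AdicCompletion I A))) :=
    Ideal.map_mono (Ideal.map_le_iff_le_comap.mp hq)
  have h4 := Ideal.add_mem _ (h3 h1)
    (Ideal.mem_map_of_mem (algebraMap A (AdicCompletion I A)) (Ideal.mem_comap.mpr h2))
  rwa [sub_add_cancel] at h4

/-- Let A be a regular ring and J an ideal of A. Then the separated completion of A for the J-adic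
topology is a regular ring. -/
theorem result (A : Type u) [CommRing A] [IsRegularRing A] (J : Ideal A) :
    IsRegularRing (AdicCompletion J A) := by
  have hN : IsNoetherianRing A := inferInstance
  have hNC : IsNoetherianRing (AdicCompletion J A) :=
    Groth.Agent.Ega4A.CompleteNoeth.isNoetherianRing_adicCompletion J
  have hfl : Module.Flat A (AdicCompletion J A) := AdicCompletion.flat_of_isNoetherian J
  refine Groth.Agent.CalgB.AdicGeomReg.isRegularRing_of_isMaximal fun Q hQ => ?_
  have hJQ : J.map (algebraMap A (AdicCompletion J A)) ≤ Q := by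
    have := AdicCompletion.isAdicComplete_self J (Ideal.fg_of_isNoetherianRing J)
    have h1 : J.map (algebraMap A (AdicCompletion J A)) ≤
        (⊥ : Ideal (AdicCompletion J A)).jacobson := IsAdicComplete.le_jacobson_bot _
    exact h1.trans (sInf_le ⟨bot_le, hQ⟩)
  have hmap := map_comap_eq J Q hJQ
  let p : Ideal A := Q.under A
  have hp : p.IsPrime := inferInstance
  have hl : Q.LiesOver p := ⟨rfl⟩
  let _ := Localization.AtPrime.algebraOfLiesOver p Q
  have : IsLocalHom (algebraMap (Localization.AtPrime p) (Localization.AtPrime Q)) :=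
    Localization.isLocalHom_localRingHom _ _ _ _
  have : IsNoetherianRing (Localization.AtPrime Q) :=
    IsLocalization.isNoetherianRing Q.primeCompl _ inferInstance
  have hreg : IsRegularLocalRing (Localization.AtPrime p) := inferInstance
  refine Groth.Agent.CalgB.RegDer.isRegularLocalRing_of_flat_of_map_eq
    (A := Localization.AtPrime p) ?_
  rw [← Localization.AtPrime.map_eq_maximalIdeal, Ideal.map_map,
      ← IsScalarTower.algebraMap_eq, IsScalarTower.algebraMap_eq A (AdicCompletion J A),
      ← Ideal.map_map, ← Localization.AtPrime.map_eq_maximalIdeal]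
  congr 1

end Groth.Agent.S5785
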