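import Groth.Statements.S17803
import Groth.Agent.S0543
import Groth.Agent.EGA4.K110.FibNormal
import Groth.Agent.S2650
import Groth.Agent.S2686
import Groth.Agent.S5785
import Groth.Agent.Models.CICpl
import Groth.Agent.Ega4C.NormBase
import Groth.Agent.Ega4C.NormalRing2
import Groth.Agent.Ega4C.NormUnion
import Groth.Agent.CalgB.RegHom1

set_option autoImplicit false
universe u
open EGA4

namespace Groth.Agent.S17803

/-- Let A be an excellent normal domain which is a quotient of a regular ring, I an ideal of A and f ∈
A. Then the I-adic completion of the localization A_f is a normal ring (its localization at every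
prime ideal is an integrally closed domain), and it is a quotient of a regular ring. -/
theorem result (A : Type u) [CommRing A] [IsDomain A] [IsIntegrallyClosed A] (hexc : EGA4.IsExcellent A) (hreg : ∃ (R : Type u) (_ : CommRing R) (_ : IsRegularRing R) (φ : R →+* A), Function.Surjective φ) (I : Ideal A) (f : A) : EGA4.IsNormalRing (AdicCompletion (I.map (algebraMap A (Localization.Away f))) (Localization.Away f)) ∧ ∃ (R' : Type u) (_ : CommRing R') (_ : IsRegularRing R') (ψ : R' →+* AdicCompletion (I.map (algebraMap A (Localization.Away f))) (Localization.Away f)), Function.Surjective ψ := by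
  have hAN : IsNoetherianRing A := hexc.1
  have hexc' : EGA4.IsExcellent (Localization.Away f) :=
    Groth.Agent.S2650.result A hexc (Submonoid.powers f)
  have hN' : IsNoetherianRing (Localization.Away f) := hexc'.1
  have hnorm : EGA4.IsNormalRing (Localization.Away f) :=
    Ega4C.NormUnion.isNormalRing_of_isLocalization A _ (Submonoid.powers f)
      (Ega4C.NormalRing2.isNormalRing_of_isDomain A)
  constructor
  · have hG : ∀ (p : Ideal (Localization.Away f)) [p.IsPrime],
        EGA4.HasGeomNormalFormalFibres (Localization.AtPrime p) := by
      intro p _ q _ k' _ _ hfin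
      have := ((hexc'.2.2.1.2 p).2 q).2 k' hfin
      exact K110.FibNormal.isNormalRing_of_isRegularRing _
    have h1 := Groth.Agent.S2686.result (Localization.Away f) hG
      (I.map (algebraMap A (Localization.Away f)))
    have hnc : IsNoetherianRing (AdicCompletion (I.map (algebraMap A (Localization.Away f)))
      (Localization.Away f)) := Groth.Agent.S0543.result _ _
    exact Ega4C.NormUnion.isNormalRing_of_ringEquiv
      (Algebra.TensorProduct.rid (Localization.Away f) (Localization.Away f)
        (AdicCompletion (I.map (algebraMap A (Localization.Away f)))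
          (Localization.Away f))).symm.toRingEquiv
      (Ega4C.NormBase.isNormalRing_tensor _ _ (Localization.Away f) h1 hnorm)
  · obtain ⟨R, _, _, φ, hφ⟩ := hreg
    obtain ⟨g, rfl⟩ := hφ f
    let ψ : Localization.Away g →+* Localization.Away (φ g) := Localization.awayMap φ g
    have hψ : Function.Surjective ψ := by
      intro y
      obtain ⟨a, ⟨_, n, rfl⟩, rfl⟩ := IsLocalization.exists_mk'_eq (Submonoid.powers (φ g)) y
      obtain ⟨r, rfl⟩ := hφ a
      refine ⟨IsLocalization.mk' _ r (⟨g ^ n, n, rfl⟩ : Submonoid.powers g), ?_⟩
      change IsLocalization.Away.map _ _ φ g _ = _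
      rw [IsLocalization.Away.map, IsLocalization.map_mk']
      congr 1
      exact Subtype.ext (map_pow φ g n)
    have hRg : IsRegularRing (Localization.Away g) :=
      CalgB.RegHom1.isRegularRing_of_isLocalization (Submonoid.powers g) _
    let J : Ideal (Localization.Away g) :=
      (I.map (algebraMap A (Localization.Away (φ g)))).comap ψ
    have hJ : I.map (algebraMap A (Localization.Away (φ g))) = J.map ψ :=
      (Ideal.map_comap_of_surjective ψ hψ _).symm
    refine ⟨AdicCompletion J (Localization.Away g), inferInstance,
      Groth.Agent.S5785.result _ J, CurvesB.CplMap.map J _ ψ le_rfl,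
      Models.CICpl.map_surjective J _ ψ le_rfl hψ hJ⟩

end Groth.Agent.S17803
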