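import Groth.Statements.S17804
import Groth.Agent.GrpSch.K267.TorsLift
import Groth.Agent.Sga3B.KerGrp

set_option autoImplicit false
universe u
open CategoryTheory CategoryTheory.Limits MonoidalCategory CartesianMonoidalCategory MonObj GrpObj AlgebraicGeometry
open GrpSch

namespace Groth.Agent.S17804

/-- Let k be a field, G a commutative group scheme locally of finite type over k, H ⊆ G a closed
subgroup scheme of finite type over k, and q : G → Q the quotient G/H (q is flat, surjective,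
locally of finite presentation, and G ×_k H → G ×_Q G, (g, h) ↦ (g, gh), is an isomorphism). Let n ≥
1 and M ≥ 1 be integers. Then G contains a closed subgroup scheme G_M annihilated by n^N for some N,
with image in Q killed by n^M, such that the induced homomorphism from G_M to the kernel Q[n^M] of
multiplication by n^M on Q is flat and surjective. -/
theorem result (k : Type u) [Field k] {G H Q : Over (Spec (CommRingCat.of k))} [GrpObj G] [IsCommMonObj G] [GrpObj H] [GrpObj Q] [LocallyOfFiniteType G.hom] [LocallyOfFiniteType H.hom] [QuasiCompact H.hom] (iH : H ⟶ G) [IsMonHom iH] (hcl : IsClosedImmersion iH.left) (q : G ⟶ Q) [IsMonHom q] (hq : RedSub.IsQuotient iH q) (n : ℕ) (hn : 0 < n) (M : ℕ) (hM : 0 < M) : ∃ (G' : Over (Spec (CommRingCat.of k))) (_ : GrpObj G') (j : G' ⟶ G) (_ : IsMonHom j), IsClosedImmersion j.left ∧ (∃ N : ℕ, ∀ (T : Over (Spec (CommRingCat.of k))) (g : T ⟶ G'), g ^ (n ^ N) = 1) ∧ (∀ (T : Over (Spec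 (CommRingCat.of k))) (g : T ⟶ G'), (g ≫ j ≫ q) ^ (n ^ M) = 1) ∧ ∀ (K : Over (Spec (CommRingCat.of k))) [GrpObj K] (κ : K ⟶ Q) [IsMonHom κ], AlgGrp.IsKernel κ ((𝟙 Q) ^ (n ^ M)) → ∀ ℓ : G' ⟶ K, ℓ ≫ κ = j ≫ q → Flat ℓ.left ∧ Surjective ℓ.left := by
  have hm : Mono iH := Groth.Agent.Books.AlgPtsGrp.mono_of_isClosedImmersion iH
  have hcH : IsCommMonObj H := Groth.Agent.Sga3.H830.CommAux.isCommMonObj_of_mono iH
  obtain ⟨hq1, hq2, hq3, hq4⟩ := hq
  have hcov : K267.TorsLift.IsCov q := ⟨hq2, hq1, hq3⟩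
  have hepi : Epi q := Groth.Agent.Sga3C.QuotProps.epi_of_flat_surjective q
  have hft : LocallyOfFiniteType (q.left ≫ Q.hom) := by rw [Over.w]; infer_instance
  have hQft : LocallyOfFiniteType Q.hom := K621.Jac.locallyOfFiniteType_of_fppf_comp q.left Q.hom
  -- `q` is quasi-compact
  have hqc1 : QuasiCompact (fst G H).left := by
    have : (fst G H).left = pullback.fst G.hom H.hom := rfl
    rw [this]; infer_instance
  have hqc : QuasiCompact q.left := by
    have hpb : IsPullback (fst G H).left ((G ◁ iH) ≫ μ[G]).left q.left q.left :=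
      hq4.map (Over.forget _)
    exact K267.TorsLift.quasiCompact_of_cover hpb
  -- the kernel of `q`
  have hker : ∀ (T : Over (Spec (CommRingCat.of k))) (g : T ⟶ G), g ≫ q = 1 → ∃ h : T ⟶ H, h ≫ iH = g := by
    intro T g hg
    let z : T ⟶ G ⊗ H := hq4.lift 1 g (by rw [hg, MonObj.one_comp])
    have h1 : z ≫ fst G H = 1 := hq4.lift_fst _ _ _
    have h2 : z ≫ (G ◁ iH) ≫ μ[G] = g := hq4.lift_snd _ _ _
    refine ⟨z ≫ snd G H, ?_⟩
    have h3 : (G ◁ iH) ≫ μ[G] = fst G H * (snd G H ≫ iH) := by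
      rw [Hom.mul_def]
      congr 1
    rw [h3, MonObj.comp_mul, h1, _root_.one_mul] at h2
    rw [Category.assoc]
    exact h2
  obtain ⟨r, hr⟩ := K267.TorsLift.exists_stable H n M
  -- the subgroup
  let ψ : G ⟶ G ⊗ Q := lift ((𝟙 G) ^ (n ^ (M + r))) (((𝟙 G) ^ (n ^ M)) ≫ q)
  have hψ : IsMonHom ψ := inferInstance
  have hψk : ∀ (T : Over (Spec (CommRingCat.of k))) (g : T ⟶ G), g ≫ ψ = 1 ↔ g ^ (n ^ (M + r)) = 1 ∧ (g ≫ q) ^ (n ^ M) = 1 := by
    intro T g
    have e1 : g ≫ ψ = lift (g ^ (n ^ (M + r))) ((g ≫ q) ^ (n ^ M)) := by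
      rw [comp_lift, MonObj.comp_pow, Category.comp_id, ← Category.assoc, MonObj.comp_pow, Category.comp_id,
        MonObj.pow_comp]
    have e2 : (1 : T ⟶ G ⊗ Q) = lift 1 1 := by
      ext1
      · rw [MonObj.one_comp, lift_fst]
      · rw [MonObj.one_comp, lift_snd]
    rw [e1, e2]
    constructor
    · intro h
      have h1 := congrArg (fun z => z ≫ fst G Q) h
      have h2 := congrArg (fun z => z ≫ snd G Q) h
      simp only [lift_fst, lift_snd] at h1 h2
      exact ⟨h1, h2⟩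
    · rintro ⟨h1, h2⟩
      rw [h1, h2]
  obtain ⟨_, hκ⟩ := Groth.Agent.Sga3B.KerGrp.exists_grpObj ψ
  have hsG : IsSeparated (G ⊗ Q).hom := K270.ImageFam.isSeparated_hom (G ⊗ Q)
  have hsQ : IsSeparated Q.hom := K270.ImageFam.isSeparated_hom Q
  have hj : IsClosedImmersion (Groth.Agent.Sga3B.KerGrp.kerι ψ).left := inferInstance
  have hjk : ∀ (T : Over (Spec (CommRingCat.of k))) (g : T ⟶ Groth.Agent.Sga3B.KerGrp.kerObj ψ),
      (g ≫ Groth.Agent.Sga3B.KerGrp.kerι ψ) ^ (n ^ (M + r)) = 1 ∧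
        (g ≫ Groth.Agent.Sga3B.KerGrp.kerι ψ ≫ q) ^ (n ^ M) = 1 := by
    intro T g
    have h1 := (hψk T (g ≫ Groth.Agent.Sga3B.KerGrp.kerι ψ)).mp (by
      rw [Category.assoc, Groth.Agent.Sga3B.KerGrp.kerι_comp, MonObj.comp_one])
    rwa [Category.assoc] at h1
  refine ⟨Groth.Agent.Sga3B.KerGrp.kerObj ψ, inferInstance, Groth.Agent.Sga3B.KerGrp.kerι ψ, hκ, hj,
    ⟨M + r, fun T g => ?_⟩, fun T g => (hjk T g).2, ?_⟩
  · rw [← cancel_mono (Groth.Agent.Sga3B.KerGrp.kerι ψ), MonObj.pow_comp, (hjk T g).1, MonObj.one_comp]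
  intro K _ κ _ hK ℓ hℓ
  have hmκ : Mono κ := K270.Ker.mono hK
  have hcl1 := K267.TorsLift.isClosedImmersion_unit Q
  have hclκ : IsClosedImmersion κ.left := by
    have h1 := (IsPullback.map (Over.forget _) hK)
    exact MorphismProperty.of_isPullback (P := @IsClosedImmersion) h1.flip hcl1
  have hKft : LocallyOfFiniteType K.hom := by rw [← Over.w κ]; infer_instance
  have hℓm : IsMonHom ℓ := by
    have h1 : IsMonHom (ℓ ≫ κ) := by rw [hℓ]; infer_instance
    exact K267.TorsLift.isMonHom_of_comp_mono ℓ κ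
  have hG'ft : LocallyOfFiniteType (Groth.Agent.Sga3B.KerGrp.kerObj ψ).hom := by
    rw [← Over.w (Groth.Agent.Sga3B.KerGrp.kerι ψ)]; infer_instance
  have hℓqc : QuasiCompact ℓ.left := by
    have h1 : QuasiCompact (ℓ.left ≫ κ.left) := by
      rw [← Over.comp_left, hℓ, Over.comp_left]; infer_instance
    exact QuasiCompact.of_comp ℓ.left κ.left
  -- the covering
  obtain ⟨T₁, c₁, g, hc₁, hg⟩ := K267.TorsLift.exists_cover q hcov κ
  have hκ1 : κ ^ (n ^ M) = 1 := by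
    have h1 := K270.Ker.comp_eq_one hK (𝟙 K)
    rwa [Category.id_comp, MonObj.comp_pow, Category.comp_id] at h1
  obtain ⟨h, hh⟩ := hker T₁ (g ^ (n ^ M)) (by
    rw [MonObj.pow_comp, hg, ← MonObj.comp_pow, hκ1, MonObj.comp_one])
  obtain ⟨T₂, c₂, h', hc₂, hh'⟩ := hr T₁ h
  let g' : T₂ ⟶ G := (c₂ ≫ g) * (h' ≫ iH)⁻¹
  have hiq : h' ≫ iH ≫ q = 1 := by
    have e1 : lift (1 : T₂ ⟶ G) h' ≫ fst G H ≫ q = lift (1 : T₂ ⟶ G) h' ≫ ((G ◁ iH) ≫ μ[G]) ≫ q := by
      rw [hq4.w]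
    have e2 : (G ◁ iH) ≫ μ[G] = fst G H * (snd G H ≫ iH) := by
      rw [Hom.mul_def]
      congr 1
    rw [e2, ← Category.assoc, lift_fst, MonObj.one_comp, ← Category.assoc, MonObj.comp_mul, lift_fst,
      _root_.one_mul, ← Category.assoc, lift_snd, Category.assoc] at e1
    exact e1.symm
  have hg'q : g' ≫ q = c₂ ≫ c₁ ≫ κ := by
    simp only [g']
    rw [MonObj.mul_comp, GrpObj.inv_comp, Category.assoc, Category.assoc, hiq, inv_one, _root_.mul_one, hg]
  have hg'n : g' ^ (n ^ (M + r)) = 1 := by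
    simp only [g']
    have e1 : (c₂ ≫ g) ^ (n ^ (M + r)) = ((c₂ ≫ h) ≫ iH) ^ (n ^ r) := by
      rw [← MonObj.comp_pow, pow_add, pow_mul, ← hh, MonObj.comp_pow, Category.assoc]
    have e2 : (h' ≫ iH) ^ (n ^ (M + r)) = ((c₂ ≫ h) ≫ iH) ^ (n ^ r) := by
      rw [← MonObj.pow_comp, hh', MonObj.pow_comp]
    rw [mul_pow, inv_pow, e1, e2, mul_inv_cancel]
  obtain ⟨t, ht⟩ := Groth.Agent.Sga3B.KerGrp.exists_lift ψ g' ((hψk T₂ g').mpr ⟨hg'n, by
    rw [hg'q, ← Category.assoc, ← MonObj.comp_pow, hκ1, MonObj.comp_one]⟩)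
  have htℓ : t ≫ ℓ = c₂ ≫ c₁ := by
    rw [← cancel_mono κ, Category.assoc, hℓ, ← Category.assoc, ht, hg'q, Category.assoc]
  exact K267.TorsLift.fppf_of_cover ℓ t (by rw [htℓ]; exact hc₂.comp hc₁)

end Groth.Agent.S17804
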