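import Groth.Statements.S17808
import Groth.Agent.JacVar.K531.GenPos
import Groth.Agent.JacVar.K531.H1Drop

set_option autoImplicit false
universe u
open CategoryTheory CategoryTheory.Limits AlgebraicGeometry
open JacVar

namespace Groth.Agent.S17808

/-- Let C be a smooth proper connected curve of genus g > 0 over an algebraically closed field k (with a
chosen point), and let r ≤ g. Then there is a nonempty open subset U of the r-fold fibre power C ×_k
⋯ ×_k C such that for every k-point (P_1, …, P_r) of U (closed points, k being algebraically closed)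
and every invertible module M on C with M ⊗ I_{P_1} ⊗ ⋯ ⊗ I_{P_r} ≅ O_C (so M is O(P_1 + ⋯ + P_r)),
h⁰(C, M) = 1. (The published statement, over the ground field of the section, says only that U is
open; this row also asserts that U is non-empty; k is taken algebraically closed so that the
k-points of U are its closed points.) -/
theorem result (k : Type u) [Field k] [IsAlgClosed k]
    (C : Scheme.{u}) [C.Over (Spec (CommRingCat.of k))]
    [IsProper (C ↘ Spec (CommRingCat.of k))] [Smooth (C ↘ Spec (CommRingCat.of k))] [GeometricallyConnected (C ↘ Spec (CommRingCat.of k))]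
    (hdim : topologicalKrullDim ↥C = 1)
    (hg : 0 < Curv2.genus k C)
    (σ₀ : Spec (CommRingCat.of k) ⟶ C) (hσ₀ : σ₀ ≫ (C ↘ Spec (CommRingCat.of k)) = 𝟙 _)
    (r : ℕ) (hr : r ≤ Curv2.genus k C) :
    ∃ U : (SymProd.fibPow (C ↘ Spec (CommRingCat.of k)) r).Opens, (U : Set ↥(SymProd.fibPow (C ↘ Spec (CommRingCat.of k)) r)).Nonempty ∧
      ∀ (x : Spec (CommRingCat.of k) ⟶ SymProd.fibPow (C ↘ Spec (CommRingCat.of k)) r)
        (hx : x ≫ WidePullback.base (fun (_ : Fin r) => (C ↘ Spec (CommRingCat.of k))) = 𝟙 _)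
        (hxU : ∀ p, x.base p ∈ U) (M : C.Modules) (hM : PicF.IsInvertible M)
        (hMD : Nonempty (CohB1.tensorMod M (FGA.tensorList (List.ofFn fun i : Fin r =>
          ClSub.idealMod (x ≫ WidePullback.π (fun (_ : Fin r) => (C ↘ Spec (CommRingCat.of k))) i).ker)) ≅ Coh.structureModule C)),
        Module.finrank k (Coh.HH C M 0) = 1 := by
  have hX := K531.H1Drop.isCurve_of k C hdim
  obtain ⟨U, hU, h⟩ := K531.GenPos.exists_open_pow hX σ₀ hσ₀ r hr
  refine ⟨U, hU, ?_⟩
  intro x hx hxU M hM hMD
  let y : Fin r → K532.CurvePts.KPt k C := fun i =>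
    ⟨x ≫ WidePullback.π (fun (_ : Fin r) => (C ↘ Spec (CommRingCat.of k))) i, by
      rw [Category.assoc, WidePullback.π_arrow]; exact hx⟩
  have h1 := (h (Over.homMk x hx) (hxU _) y (fun _ => rfl)).1
  obtain ⟨hT, h2⟩ := K531.GenPos.mk_tensorList_ofFn (fun i : Fin r =>
    ClSub.idealMod (x ≫ WidePullback.π (fun (_ : Fin r) => (C ↘ Spec (CommRingCat.of k))) i).ker)
    (fun i => Dix.IdealModCartier.isInvertible_idealMod (K532.CurvePts.isEff hX (y i)))
  have h3 : Groth.Agent.Grpsch.PicGrp.mk M hM * ∏ i, K532.CurvePts.pcl hX (y i) = 1 := by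
    have h4 : ∏ i, K532.CurvePts.pcl hX (y i) = Groth.Agent.Grpsch.PicGrp.mk _ hT := h2.symm
    rw [h4, Groth.Agent.Grpsch.PicGrp.mk_mul_mk, Groth.Agent.Grpsch.PicGrp.mk_eq_one_iff]
    exact hMD
  rw [Finset.prod_inv_distrib, ← eq_inv_of_mul_eq_one_left h3] at h1
  exact h1

end Groth.Agent.S17808
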