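import Groth.Statements.S17817
import Groth.Agent.JacVar.K33.QuotJac
import Groth.Agent.S3719

set_option autoImplicit false
universe u
open CategoryTheory CategoryTheory.Limits AlgebraicGeometry MonoidalCategory CartesianMonoidalCategory MonObj
open JacVar

namespace Groth.Agent.S17817

theorem h3719 : Groth.Agent.Sga7.H5.HypConn.Stmt.{u} := by
  intro k _ _ X _ _ _ hN r g hg hdim ℓ hℓ hℓ0 X' _
  exact Groth.Agent.S3719.result k X hN r g hg hdim ℓ hℓ hℓ0 X'

theorem geomConn {X Y : Scheme.{u}} (f : X ⟶ Y) [hf : GeometricallyIrreducible f] :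
    GeometricallyConnected f := by
  refine ⟨fun K _ y Z fst snd h => ?_⟩
  have := hf.geometrically_irreducibleSpace y fst snd h
  infer_instance

/-- Let k be an infinite field and A an abelian variety over k (a commutative group scheme, proper,
smooth and geometrically irreducible over k) of positive dimension. Then there is a closed subscheme
C of A which is a smooth proper geometrically connected curve over k such that, for every k-rational
point P of C, every Jacobian (J, ψ) of C (commutative group scheme over k, coarse moduli scheme on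
all k-schemes for degree-0 line bundles modulo twisting from the base, group law induced by tensor
product), every Abel map j : C ⟶ J with base point P and every homomorphism χ : J ⟶ A with χ ∘ j
equal to the inclusion of C followed by translation by the inverse of P, the morphism χ is
surjective: A is a quotient of the Jacobian of C. (The universal property is expressed through a
rational point of C; for C without rational points only the existence of the curve is asserted
here.) -/
theorem result (k : Type u) [Field k] [Infinite k]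
    (A : Over (Spec (CommRingCat.of k))) [GrpObj A] [IsCommMonObj A]
    [IsProper A.hom] [Smooth A.hom] [GeometricallyIrreducible A.hom]
    (hA : 1 ≤ topologicalKrullDim ↥A.left) :
    ∃ (C : Scheme.{u}) (i : C ⟶ A.left), IsClosedImmersion i ∧ IsProper (i ≫ A.hom) ∧ Smooth (i ≫ A.hom) ∧
      GeometricallyConnected (i ≫ A.hom) ∧ topologicalKrullDim ↥C = 1 ∧
      ∀ (σ : Spec (CommRingCat.of k) ⟶ C) (hσ : σ ≫ (i ≫ A.hom) = 𝟙 _)
        (J : Over (Spec (CommRingCat.of k))) [GrpObj J] [IsCommMonObj J] (ψ : (ModFun.PicDeg (i ≫ A.hom) 0).Hom ⊤ J),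
        Jac.IsJacobian (i ≫ A.hom) ⊤ J ψ →
        ∀ (j : Over.mk (i ≫ A.hom) ⟶ J), Jac.IsAbelJacobiAt (i ≫ A.hom) σ ψ j →
        ∀ (χ : J ⟶ A), IsMonHom χ →
          j ≫ χ = (Over.homMk i rfl : Over.mk (i ≫ A.hom) ⟶ A) *
            (toUnit (Over.mk (i ≫ A.hom)) ≫ (Over.homMk (σ ≫ i) ((Category.assoc σ i A.hom).trans hσ) : 𝟙_ (Over (Spec (CommRingCat.of k))) ⟶ A))⁻¹ →
          Function.Surjective χ.left.base := by
  have hGC : GeometricallyConnected A.hom := geomConn A.hom
  have hGI : GeometricallyIntegral A.hom := K532.Base.geometricallyIntegral A.hom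
  have hd : topologicalKrullDim A.left ≠ 0 := by
    intro h
    rw [h] at hA
    exact absurd hA (by norm_num)
  obtain ⟨C, c, hc, hC1, hC2, hC3⟩ := K33.QuotJac.exists_curve h3719 A hd
  have hprop : IsProper (c ≫ A.hom) := hC1.1
  have hsm : Smooth (c ≫ A.hom) := hC1.2.1
  have hdim : topologicalKrullDim C = 1 := hC1.2.2.2
  have hgc : GeometricallyConnected (c ≫ A.hom) := geomConn _
  refine ⟨C, c, hc, hprop, hsm, hgc, hdim, ?_⟩
  intro σ hσ J _ _ ψ hJ j _ χ hχ hjχ
  obtain ⟨n, hn, hn2⟩ := K33.QuotJac.exists_natCast_ne_zero k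
  have hrd := K532.Base.smoothOfRelDim (c ≫ A.hom) hdim
  obtain ⟨ξ, h, -, hJp, hJs, hJg⟩ := K531.JacData.exists_isJac hdim σ hσ J ψ hJ
  let γ : Over.mk (c ≫ A.hom) ⟶ A := Over.homMk c rfl
  let τ : 𝟙_ (Over (Spec (CommRingCat.of k))) ⟶ Over.mk (c ≫ A.hom) := Over.homMk σ hσ
  have e : j ≫ χ = γ * (toUnit _ ≫ (τ ≫ γ))⁻¹ := by
    rw [hjχ]
    congr 3
  exact (K33.QuotJac.surjective_of_abel A n hn hn2 γ τ (hC3 n hn) J χ j e).surj

end Groth.Agent.S17817
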