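import Groth.Statements.S17825
-- import your own Groth.Agent.* helpers here

set_option autoImplicit false
universe u
open CategoryTheory CategoryTheory.Limits AlgebraicGeometry
open JacVar

namespace Groth.Agent.S17825

/-- Let S be a scheme, Y an S-scheme separated over S, F a presheaf of sets on the category of
S-schemes, f : h_Y ⟶ F a morphism from the functor of points of Y, and s : F ⟶ h_Y a section of f (s
followed by f is the identity). Then F is represented by a closed subscheme of Y: there are an
S-scheme Z, a morphism i : Z ⟶ Y over S which is a closed immersion, and an isomorphism F ≅ h_Z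
whose composite with h_i : h_Z ⟶ h_Y is s. (The published lemma treats the case where Y is the r-th
symmetric power of a curve, F the functor of degree-r invertible families modulo twisting and f the
divisor-class map.) -/
theorem result {S : Scheme.{u}} (Y : Over S) [IsSeparated Y.hom]
    (F : (Over S)ᵒᵖ ⥤ Type u) (f : yoneda.obj Y ⟶ F) (s : F ⟶ yoneda.obj Y) (hsf : s ≫ f = 𝟙 F) :
    ∃ (Z : Over S) (i : Z ⟶ Y), IsClosedImmersion i.left ∧
      ∃ e : F ≅ yoneda.obj Z, e.hom ≫ yoneda.map i = s := by
  -- the idempotent of `Y`
  let e : Y ⟶ Y := yoneda.preimage (f ≫ s)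
  have he : yoneda.map e = f ≫ s := yoneda.map_preimage (f ≫ s)
  -- the equalizer of `e` and the identity, built by hand
  let D : Y.left ⟶ pullback Y.hom Y.hom := pullback.diagonal Y.hom
  let G : Y.left ⟶ pullback Y.hom Y.hom := pullback.lift e.left (𝟙 _) (by simp)
  let Z : Over S := Over.mk (pullback.fst G D ≫ Y.hom)
  let i : Z ⟶ Y := Over.homMk (pullback.fst G D) rfl
  have hG1 : G ≫ pullback.fst Y.hom Y.hom = e.left := pullback.lift_fst _ _ _
  have hG2 : G ≫ pullback.snd Y.hom Y.hom = 𝟙 _ := pullback.lift_snd _ _ _
  have hD1 : D ≫ pullback.fst Y.hom Y.hom = 𝟙 _ := pullback.lift_fst _ _ _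
  have hD2 : D ≫ pullback.snd Y.hom Y.hom = 𝟙 _ := pullback.lift_snd _ _ _
  have h1 : pullback.fst G D ≫ e.left = pullback.snd G D := by
    rw [← hG1, ← Category.assoc, pullback.condition, Category.assoc, hD1, Category.comp_id]
  have h2 : pullback.fst G D = pullback.snd G D := by
    have := congrArg (· ≫ pullback.snd Y.hom Y.hom) (pullback.condition (f := G) (g := D))
    simpa only [Category.assoc, hG2, hD2, Category.comp_id] using this
  have hie : i ≫ e = i := by
    ext
    simp only [Over.comp_left, i, Over.homMk_left]
    rw [h1, ← h2]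
  have hlift : ∀ {T : Over S} (g : T ⟶ Y), g ≫ e = g → ∃ g' : T ⟶ Z, g' ≫ i = g := by
    intro T g hg
    have hgl : g.left ≫ e.left = g.left := by rw [← Over.comp_left, hg]
    have hw : g.left ≫ G = g.left ≫ D := by
      apply pullback.hom_ext
      · rw [Category.assoc, Category.assoc, hG1, hD1, hgl, Category.comp_id]
      · rw [Category.assoc, Category.assoc, hG2, hD2]
    refine ⟨Over.homMk (pullback.lift g.left g.left hw) ?_, ?_⟩
    · change pullback.lift g.left g.left hw ≫ pullback.fst G D ≫ Y.hom = T.hom
      rw [pullback.lift_fst_assoc, Over.w]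
    · ext
      exact pullback.lift_fst _ _ _
  have hcl : IsClosedImmersion i.left := by
    change IsClosedImmersion (pullback.fst G D)
    infer_instance
  have hmono : Mono i := by
    have : Mono i.left := inferInstance
    exact Over.mono_of_mono_left i
  refine ⟨Z, i, hcl, ?_⟩
  -- the inclusion `h_Z ⟶ h_Y ⟶ F`
  have hinv : ∀ (T : (Over S)ᵒᵖ) (x : F.obj T), (s.app T x : T.unop ⟶ Y) ≫ e = s.app T x := by
    intro T x
    have h := congrArg (fun η => η.app T (s.app T x)) he
    have h' : (f ≫ s).app T (s.app T x) = s.app T x := by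
      have h3 := congrArg (fun η => η.app T x) hsf
      change s.app T (f.app T (s.app T x)) = s.app T x
      change f.app T (s.app T x) = x at h3
      rw [h3]
    exact h.trans h'
  let toZ : ∀ (T : (Over S)ᵒᵖ) (x : F.obj T), T.unop ⟶ Z := fun T x => (hlift _ (hinv T x)).choose
  have htoZ : ∀ (T : (Over S)ᵒᵖ) (x : F.obj T), toZ T x ≫ i = s.app T x := fun T x =>
    (hlift _ (hinv T x)).choose_spec
  let a : F ⟶ yoneda.obj Z :=
    { app := fun T => ↾fun x => toZ T x
      naturality := by
        intro T T' g
        ext x
        change toZ T' (F.map g x) = g.unop ≫ toZ T x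
        rw [← cancel_mono i, Category.assoc, htoZ, htoZ]
        exact NatTrans.naturality_apply s g x }
  let b : yoneda.obj Z ⟶ F := yoneda.map i ≫ f
  have hai : a ≫ yoneda.map i = s := by
    ext T x
    exact htoZ T x
  refine ⟨⟨a, b, ?_, ?_⟩, hai⟩
  · change a ≫ yoneda.map i ≫ f = 𝟙 F
    rw [← Category.assoc, hai, hsf]
  · have : Mono (yoneda.map i) := inferInstance
    rw [← cancel_mono (yoneda.map i)]
    change ((yoneda.map i ≫ f) ≫ a) ≫ yoneda.map i = _
    rw [Category.assoc, hai, Category.assoc, ← he, ← Functor.map_comp, hie]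
    simp

end Groth.Agent.S17825
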