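import Groth.Statements.S17826
import Groth.Agent.JacVar.K533.DualKer
import Groth.Agent.JacVar.K531.AlbMain
import Groth.Agent.Sga7.H780.JK

set_option autoImplicit false
universe u
open CategoryTheory CategoryTheory.Limits AlgebraicGeometry MonoidalCategory CartesianMonoidalCategory MonObj
open JacVar

namespace Groth.Agent.S17826

open Groth.Agent Groth.Agent.Grpsch.PicGrp Groth.Agent.Fga.RigGrp Groth.Agent.Picfga.ChiDef K914.HField

theorem geomConn {A B : Scheme.{u}} (f : A ⟶ B) [hf : GeometricallyIntegral f] :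
    GeometricallyConnected f := by
  refine ⟨fun K _ y Z g h hp ↦ ?_⟩
  have h1 : IsIntegral Z := hf.geometrically_isIntegral y g h hp
  exact (inferInstance : ConnectedSpace Z)

/-- The degree of a module on the curve, in terms of `dK`. -/
theorem dK_of_deg (k : Type u) [Field k] (C : Scheme.{u}) [C.Over (Spec (CommRingCat.of k))]
    [IsProper (C ↘ Spec (CommRingCat.of k))] (hdim : topologicalKrullDim ↥C = 1)
    (N : C.Modules) (hN : PicF.IsInvertible N) :
    dK (C ↘ Spec (CommRingCat.of k)) (𝟙 (Spec (CommRingCat.of k)))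
      (K533.Cst.cst (C ↘ Spec (CommRingCat.of k)) (Over.mk (𝟙 _)) (mk N hN)) = Curv2.deg k C N 1 := by
  rw [← K532.CurvePic.deg_mk k C hdim hN, ← deg_eq_dK]
  have h1 := K532.UnitBase.dg_ui (k := k) (X := C)
    (K533.Cst.cst (C ↘ Spec (CommRingCat.of k)) (Over.mk (𝟙 _)) (mk N hN))
  refine h1.symm.trans ?_
  have h2 : pull (K532.UnitBase.ui (C ↘ Spec (CommRingCat.of k)))
      (K533.Cst.cst (C ↘ Spec (CommRingCat.of k)) (Over.mk (𝟙 _)) (mk N hN)) = mk N hN :=
    (K532.UnitBase.uiPic (C ↘ Spec (CommRingCat.of k))).apply_symm_apply (mk N hN)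
  rw [h2]

/-- Let C be a smooth proper geometrically connected curve of genus g > 0 over a field k with a
k-rational point P, (J, ψ) its Jacobian (a commutative group scheme over k, coarse moduli scheme on
all k-schemes for degree-0 line bundles modulo twisting from the base, group law induced by tensor
product) with universal family M on C × J normalised along P × J and classified by the identity of
J, and j : C ⟶ J the Abel map with base point P. Let N be an invertible module of degree g − 1 on C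
and Θ_J the theta line bundle on J (an invertible module inverse to the ideal of the closure of the
locus of classes ξ with a nonzero section of ξ ⊗ N — a translate of W^{g−1}, which has the same
associated homomorphism). Let (Jt, φ) be an fppf dual of J with normalised Poincaré module 𝒫 on J ×
Jt, lam : J ⟶ Jt the homomorphism attached to Θ_J through φ, and fd : Jt ⟶ J a homomorphism such
that (1 × fd)^* M and (j × 1)^* 𝒫 have the same class on C × Jt. Then lam followed by fd is the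
inversion of J and fd followed by lam is the inversion of Jt: −fd is inverse to lam, so lam is an
isomorphism. -/
theorem result (k : Type u) [Field k]
    (C : Scheme.{u}) [C.Over (Spec (CommRingCat.of k))]
    [IsProper (C ↘ Spec (CommRingCat.of k))] [Smooth (C ↘ Spec (CommRingCat.of k))] [GeometricallyConnected (C ↘ Spec (CommRingCat.of k))]
    (hdim : topologicalKrullDim ↥C = 1)
    (g : ℕ) (hg : Curv2.genus k C = g) (hg1 : 1 ≤ g)
    (σ : Spec (CommRingCat.of k) ⟶ C) (hσ : σ ≫ (C ↘ Spec (CommRingCat.of k)) = 𝟙 _)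
    (J : Over (Spec (CommRingCat.of k))) [GrpObj J] [IsCommMonObj J]
    (ψ : (ModFun.PicDeg (C ↘ Spec (CommRingCat.of k)) 0).Hom ⊤ J) (hJ : Jac.IsJacobian (C ↘ Spec (CommRingCat.of k)) ⊤ J ψ)
    (Pu : (PicF.XT (C ↘ Spec (CommRingCat.of k)) J).Modules) (hPu : ModFun.IsUnivFamily ⊤ (ModFun.PicDeg (C ↘ Spec (CommRingCat.of k)) 0) J Pu)
    (hPn : Jac.IsNormAlong (C ↘ Spec (CommRingCat.of k)) σ hσ J Pu)
    (hT : (⊤ : ObjectProperty (Over (Spec (CommRingCat.of k)))) J) (hPuψ : ψ.app J Pu hT hPu.1 = 𝟙 J)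
    (j : Over.mk (C ↘ Spec (CommRingCat.of k)) ⟶ J) (hj : Jac.IsAbelJacobiAt (C ↘ Spec (CommRingCat.of k)) σ ψ j)
    (N : C.Modules) (hN : PicF.IsInvertible N) (hNdeg : Curv2.deg k C N 1 = (g : ℤ) - 1)
    (ΘJ : J.left.Modules) (hΘJ : Jac.IsThetaLB (C ↘ Spec (CommRingCat.of k)) 0 ψ N ΘJ)
    (Jt : Over (Spec (CommRingCat.of k))) [GrpObj Jt] [IsCommMonObj Jt]
    (φ : AgPol.DualMap J Jt) (hJt : AbDual.IsDualAV Scheme.fppfPrecoverage J Jt φ)
    (P : (PicF.XT J.hom Jt).Modules) (hP : PicF.IsInvertible P) (hPP : AbDual.IsPoincareCl J Jt φ (PicF.cl P))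
    (lam : J ⟶ Jt) (hlam : AgPol.IsLambda J Jt φ ΘJ lam)
    (fd : Jt ⟶ J) [IsMonHom fd]
    (hfd : PicF.cl ((Scheme.Modules.pullback (PicF.XTmap (C ↘ Spec (CommRingCat.of k)) fd)).obj Pu) =
      PicF.cl ((Scheme.Modules.pullback (AbDual.bcMap j Jt)).obj P)) :
    lam ≫ fd = (𝟙 J)⁻¹ ∧ fd ≫ lam = (𝟙 Jt)⁻¹ := by
  have hrel := K532.Base.smoothOfRelDim (C ↘ Spec (CommRingCat.of k)) hdim
  obtain ⟨ξ, h, hC, hp, hgi⟩ := K532.Setup.exists_isJac Groth.Agent.Sga7.H780.JK.jk hdim σ hσ hJ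
  have hα := K532.Setup.isAbel h hC hj
  have hψ := K533.ThetaLocus.compatCl_of_compat hC
  have hgc : GeometricallyConnected J.hom := geomConn J.hom
  -- the universal class
  have hξ : toCl ξ = PicF.cl Pu := by
    have e1 := hC J Pu hT hPu.1
    rw [hPuψ, XTmap_id, pull_id, norm_of_mem] at e1
    · rw [e1]
      rfl
    · rw [mem_Rg]
      refine (isTrivialCl_toCl_iff _).1 ?_
      rw [toCl_pull]
      exact hPn
  obtain ⟨ζ, h1, h2, h3, h4⟩ := K732.AV.exists_of_isPoincareCl hPP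
  have hfd' : pull (PicF.XTmap (C ↘ Spec (CommRingCat.of k)) fd) ξ = pull (AbDual.bcMap j Jt) ζ := by
    apply toCl_injective
    rw [toCl_pull, toCl_pull, hξ, h4]
    exact hfd
  have hn : chiK (C ↘ Spec (CommRingCat.of k)) (𝟙 (Spec (CommRingCat.of k))) 1 + (g : ℤ) = 1 := by
    rw [← hg]
    exact K531.AlbMain.chi_eq (f := C ↘ Spec (CommRingCat.of k)) (𝟙 _)
  have hNd : dK (C ↘ Spec (CommRingCat.of k)) (𝟙 (Spec (CommRingCat.of k)))
      (K533.Cst.cst (C ↘ Spec (CommRingCat.of k)) (Over.mk (𝟙 _)) (mk N hN)) = (g : ℤ) - 1 :=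
    (dK_of_deg k C hdim N hN).trans hNdeg
  have hF := K732.CubeSec.bijective_XTproj J.hom
  have e1 : lam ≫ fd = (𝟙 J)⁻¹ :=
    K533.ThetaDual.lam_comp_fd h hψ hα hN hn hNd hΘJ hJt h1 h2 h3 hlam hfd' hdim
  have hlm : IsMonHom lam := K533.ThetaDual.isMonHom_lam hJt hF h1 h2 h3 hΘJ.1 hlam
  exact ⟨e1, K533.DualKer.fd_comp_l hJt h1 h2 h3 (mk ΘJ hΘJ.1)
    (K533.ThetaDual.pull_lam hJt hF h1 h2 h3 hΘJ.1 hlam) e1⟩

end Groth.Agent.S17826
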