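import Groth.Statements.S17827
import Groth.Agent.JacVar.K532.Lam
import Groth.Agent.Sga7.H780.JK
-- import your own Groth.Agent.* helpers here

set_option autoImplicit false
universe u
open CategoryTheory CategoryTheory.Limits AlgebraicGeometry MonoidalCategory CartesianMonoidalCategory MonObj
open JacVar

namespace Groth.Agent.S17827

/-- Let k be an algebraically closed field, C a smooth proper connected curve of genus g ≥ 1 over k with
a k-point P, (J, ψ) its Jacobian (a commutative group scheme over k, coarse moduli scheme on all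
k-schemes for degree-0 line bundles modulo twisting from the base, group law induced by tensor
product) with universal family M on C × J normalised along P × J and classified by the identity of
J, and j : C ⟶ J the Abel map with base point P. Let Θ = W^{g−1} ⊂ J be the image of the (g −
1)-fold product of C under (x_i) ↦ Π j(x_i), Θ⁻ its image under inversion, L(Θ⁻) an invertible
module on J inverse to the ideal of the reduced closed subscheme Θ⁻, and Λ an invertible module on J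
× J with Λ ⊗ pr₁^* L(Θ⁻) ⊗ pr₂^* L(Θ⁻) ≅ m^* L(Θ⁻), m the group law (the sheaf m^*L(Θ⁻) ⊗
pr₁^*L(Θ⁻)⁻¹ ⊗ pr₂^*L(Θ⁻)⁻¹). Then the pullback of Λ along j × (−1) : C × J ⟶ J × J is isomorphic to
M. -/
theorem result (k : Type u) [Field k] [IsAlgClosed k]
    (C : Scheme.{u}) [C.Over (Spec (CommRingCat.of k))]
    [IsProper (C ↘ Spec (CommRingCat.of k))] [Smooth (C ↘ Spec (CommRingCat.of k))] [GeometricallyConnected (C ↘ Spec (CommRingCat.of k))]
    (hdim : topologicalKrullDim ↥C = 1)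
    (g : ℕ) (hg : Curv2.genus k C = g) (hg1 : 1 ≤ g)
    (σ : Spec (CommRingCat.of k) ⟶ C) (hσ : σ ≫ (C ↘ Spec (CommRingCat.of k)) = 𝟙 _)
    (J : Over (Spec (CommRingCat.of k))) [GrpObj J] [IsCommMonObj J]
    (ψ : (ModFun.PicDeg (C ↘ Spec (CommRingCat.of k)) 0).Hom ⊤ J) (hJ : Jac.IsJacobian (C ↘ Spec (CommRingCat.of k)) ⊤ J ψ)
    (j : Over.mk (C ↘ Spec (CommRingCat.of k)) ⟶ J) (hj : Jac.IsAbelJacobiAt (C ↘ Spec (CommRingCat.of k)) σ ψ j)
    (Pu : (PicF.XT (C ↘ Spec (CommRingCat.of k)) J).Modules) (hPu : ModFun.IsUnivFamily ⊤ (ModFun.PicDeg (C ↘ Spec (CommRingCat.of k)) 0) J Pu)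
    (hPn : Jac.IsNormAlong (C ↘ Spec (CommRingCat.of k)) σ hσ J Pu)
    (hT : (⊤ : ObjectProperty (Over (Spec (CommRingCat.of k)))) J) (hPuψ : ψ.app J Pu hT hPu.1 = 𝟙 J)
    (LΘm : J.left.Modules) (hLΘm : PicF.IsInvertible LΘm)
    (hLΘmI : ClSub.IsInverseOf LΘm (ClSub.idealMod (Scheme.IdealSheafData.vanishingIdeal
      ⟨closure (((𝟙 J)⁻¹).left.base '' Set.range ((List.ofFn fun i : Fin (g - 1) =>
        (Over.homMk (WidePullback.π (fun (_ : Fin (g - 1)) => (C ↘ Spec (CommRingCat.of k))) i)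
          (WidePullback.π_arrow (fun (_ : Fin (g - 1)) => (C ↘ Spec (CommRingCat.of k))) i) : Over.mk (WidePullback.base fun (_ : Fin (g - 1)) => (C ↘ Spec (CommRingCat.of k))) ⟶ Over.mk (C ↘ Spec (CommRingCat.of k))) ≫ j).prod).left.base), isClosed_closure⟩)))
    (Λ : (PicF.XT J.hom J).Modules) (hΛ : PicF.IsInvertible Λ)
    (hΛL : AgPol.IsLambdaSheaf (μ[J].left : PicF.XT J.hom J ⟶ J.left) (fst J J).left (snd J J).left LΘm Λ) :
    Nonempty ((Scheme.Modules.pullback (PicF.XTmap (C ↘ Spec (CommRingCat.of k)) ((𝟙 J)⁻¹) ≫ AbDual.bcMap j J)).obj Λ ≅ Pu) := by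
  have hX' := K532.Base.isSmoothProperCurve (C ↘ Spec (CommRingCat.of k)) hdim
  have hX := K532.CurvePic.isCurve_of_isAlgClosed k C hX'
  have hs : SmoothOfRelativeDimension 1 (C ↘ Spec (CommRingCat.of k)) := K532.Base.smoothOfRelDim _ hdim
  obtain ⟨ξ, h, hψ, hp, hgi⟩ := K532.Setup.exists_isJac Groth.Agent.Sga7.H780.JK.jk hdim σ hσ hJ
  have hab := K532.Setup.isAbel h hψ hj
  have hPuI : PicF.IsInvertible Pu := ((K532.Fine.ok_iff _ hdim 0 J Pu).1 hPu.1).1
  have hPuc := K532.Corr.mk_univ hψ Pu hPu.1 hPn hT hPuψ hPuI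
  have hbase := K532.Corr.base_point hdim σ hσ J ψ hJ j hj
  have hn : K532.CurvePic.gen k C = (g - 1) + 1 := by
    change Curv2.genus k C = _
    omega
  have hIT := K532.Lam.IT_one j (g - 1)
  have hLI : ClSub.IsInverseOf LΘm (ClSub.idealMod (K532.ThetaIdeal.IT j (g - 1) 1)) := by
    rw [hIT]; exact hLΘmI
  obtain ⟨e⟩ := id hLI
  have hI := Groth.Agent.Fga.IntAdd.isInvertible_of_tensor e
  have hE := Groth.Agent.Dix.IdealModCartier.isEffCartierIdeal_of_isInvertible hI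
  have h1 := K532.Lam.main hX h hab hn hX' hbase hE
  have h2 : Groth.Agent.Grpsch.PicGrp.mk LΘm hLΘm = (Groth.Agent.Fga.JacFactor.dcl _ hE)⁻¹ :=
    Groth.Agent.Models.H65.PicDeg.mk_of_isInverseOf hLΘm hI hLI
  have h3 := K532.Lam.pull_mum j (Groth.Agent.Grpsch.PicGrp.mk LΘm hLΘm)
  rw [← K532.Lam.mk_lambda hLΘm hΛ hΛL, h2, h1, ← hPuc] at h3
  exact (Groth.Agent.Grpsch.PicGrp.mk_eq_iff _ hPuI).1 (((Groth.Agent.Grpsch.PicGrp.pull_mk _ hΛ).symm).trans h3)

end Groth.Agent.S17827
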