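import Groth.Statements.S17829
import Groth.Agent.JacVar.K219.TraceBc
import Groth.Agent.AbVar.K524.PicInv
import Groth.Agent.Flat2B.SmoothGeom

set_option autoImplicit false
universe u
open CategoryTheory CategoryTheory.Limits AlgebraicGeometry MonoidalCategory CartesianMonoidalCategory MonObj
open JacVar

namespace Groth.Agent.S17829

/-- A denotes a g-dimensional abelian variety over the field k (a commutative group scheme, proper,
smooth and geometrically irreducible over k), L an ample invertible module on A with an inverse L⁻¹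
(its class H), and α an endomorphism of A. Let ℓ be a prime invertible in k and Ω an algebraically
closed field over k, and let T be the ℓ-adic Tate module of the Ω-valued points of A, assumed finite
free over ℤ_ℓ (as it is, of rank 2g), so that Tr(α) is the trace of T_ℓ(α) on T. Write D_H(α) for
the class of (α + 1)^* L ⊗ α^* L⁻¹ ⊗ L⁻¹, whose inverse module is (α + 1)^* L⁻¹ ⊗ α^* L ⊗ L. Then
Tr(α) · (H^g) = g · (H^{g−1} · D_H(α)), where the intersection numbers are the alternating sums of
Euler characteristics of tensor products of the inverse modules; that is, Tr(α) = g (H^{g−1} ·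
D_H(α)) / (H^g). -/
theorem result (k : Type u) [Field k]
    (A : Over (Spec (CommRingCat.of k))) [GrpObj A] [IsCommMonObj A]
    [IsProper A.hom] [Smooth A.hom] [GeometricallyIrreducible A.hom]
    [A.left.Over (Spec (CommRingCat.of k))] (hA : A.left ↘ Spec (CommRingCat.of k) = A.hom)
    (g : ℕ) (hg : topologicalKrullDim ↥A.left = g)
    (L Linv : A.left.Modules) (hL : PicF.IsInvertible L) (hLinv : Nonempty (CohB1.tensorMod L Linv ≅ Coh.structureModule A.left))
    (hamp : CohB1.IsAmple L)
    (α : A ⟶ A) [IsMonHom α]
    (l : ℕ) [Fact l.Prime] (hl : (l : k) ≠ 0)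
    (Ω : Type u) [Field Ω] [IsAlgClosed Ω] [Algebra k Ω]
    [Module.Free ℤ_[l] (AbDual.TateMod A l (Over.mk (Spec.map (CommRingCat.ofHom (algebraMap k Ω)))))] [Module.Finite ℤ_[l] (AbDual.TateMod A l (Over.mk (Spec.map (CommRingCat.ofHom (algebraMap k Ω)))))] :
    (LinearMap.trace ℤ_[l] (AbDual.TateMod A l (Over.mk (Spec.map (CommRingCat.ofHom (algebraMap k Ω))))) (AbDual.tateMapₗ (A := A) (l := l) (T := (Over.mk (Spec.map (CommRingCat.ofHom (algebraMap k Ω))))) α)) *
      (FGA.intNum k A.left g (fun _ : Fin g => Linv) (Coh.structureModule A.left) : ℤ_[l]) =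
    (g : ℤ_[l]) * (FGA.intNum k A.left g
      (fun i : Fin g => if (i : ℕ) = 0 then
        CohB1.tensorMod ((Scheme.Modules.pullback (α * 𝟙 A).left).obj Linv)
          (CohB1.tensorMod ((Scheme.Modules.pullback α.left).obj L) L)
        else Linv) (Coh.structureModule A.left) : ℤ_[l]) := by
  have hgi : GeometricallyIntegral A.hom := Groth.Agent.Flat2B.SmoothGeom.geometricallyIntegral_of_smooth A.hom
  obtain ⟨eL⟩ := hLinv
  exact K219.TraceBc.main Ω A hA g hg L Linv hL eL α l hl

end Groth.Agent.S17829
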