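import Groth.Statements.S17830
import Groth.Agent.JacVar.K858.TorMain
import Groth.Agent.JacVar.K858.KummerPic
import Groth.Agent.CurvesA.MuConst
import Groth.Agent.S0108
import Groth.Agent.Flat2B.SmoothGeom
import Groth.Agent.Grpsch.CubePush
import Groth.Agent.PicGrp.K858.Basic

set_option autoImplicit false
universe u
open CategoryTheory CategoryTheory.Limits AlgebraicGeometry
open JacVar

namespace Groth.Agent.S17830

/-- Let k be a separably closed field, V a proper smooth geometrically irreducible scheme over k (a
complete nonsingular variety), with the Picard group law on the invertible isomorphism classes of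
O_V-modules, ξ a geometric point of V and n an integer invertible in k. Then the continuous
homomorphisms from the étale fundamental group of V at ξ (automorphisms of the fibre functor on
finite étale covers, with its profinite topology; a homomorphism to a finite group is continuous
when its kernel is open) to ℤ/nℤ are in bijection with the classes of order dividing n in Pic(V).
(The published statement gives an explicit correspondence through Kummer extensions of the function
field; this row asserts only that a bijection exists.) -/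
theorem result (k : Type u) [Field k] [IsSepClosed k]
    (V : Scheme.{u}) [V.Over (Spec (CommRingCat.of k))]
    [IsProper (V ↘ Spec (CommRingCat.of k))] [Smooth (V ↘ Spec (CommRingCat.of k))] [GeometricallyIrreducible (V ↘ Spec (CommRingCat.of k))]
    [PicGrp.Law V]
    (n : ℕ) (hn : IsUnit ((n : ℕ) : k))
    {Ω : Type u} [Field Ω] [IsAlgClosed Ω] (ξ : Spec (CommRingCat.of Ω) ⟶ V) :
    Nonempty ({θ : FEt.piOne V ξ →* Multiplicative (ZMod n) // IsOpen (θ.ker : Set (FEt.piOne V ξ))} ≃
      {c : PicLoc.PicSet V // c ^ n = 1}) := by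
  let f := V ↘ Spec (CommRingCat.of k)
  have hgi : GeometricallyIntegral f := Flat2B.SmoothGeom.geometricallyIntegral_of_smooth f
  have hirr : IrreducibleSpace V := GeometricallyIrreducible.irreducibleSpace_of_subsingleton f
  have hn0 : (n : k) ≠ 0 := hn.ne_zero
  have hn1 : NeZero n := ⟨by rintro rfl; simp at hn0⟩
  have hn2 : NeZero (n : k) := ⟨hn0⟩
  have hiso : IsIso f.appTop := Groth.Agent.Grpsch.CubeData.isIso_app f ⊤
  let φ : k →+* Γ(V, ⊤) := (f.appTop.hom).comp (Scheme.ΓSpecIso (CommRingCat.of k)).inv.hom
  have hφ : Function.Bijective φ :=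
    (ConcreteCategory.bijective_of_isIso f.appTop).comp
      (ConcreteCategory.bijective_of_isIso (Scheme.ΓSpecIso (CommRingCat.of k)).inv)
  have hnV : IsUnit ((n : ℕ) : Γ(V, ⊤)) := by
    have h := hn.map φ
    rwa [map_natCast] at h
  have hepi : Epi (EtCoh.powMap V n) := Groth.Agent.S0108.result V n hnV
  have hdiv : ∀ u : (Γ(V, ⊤))ˣ, ∃ v : (Γ(V, ⊤))ˣ, v ^ n = u := by
    intro u
    obtain ⟨a, ha⟩ := hφ.2 (u : Γ(V, ⊤))
    obtain ⟨b, hb⟩ := IsSepClosed.exists_pow_nat_eq a n
    have h1 : φ b ^ n = u := by rw [← map_pow, hb, ha]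
    have h2 : IsUnit (φ b) := by
      have h3 : IsUnit (φ b ^ n) := by rw [h1]; exact u.isUnit
      exact (isUnit_pow_iff hn1.out).mp h3
    exact ⟨h2.unit, Units.ext h1⟩
  obtain ⟨e₁⟩ := K858.TorMain.nonempty_equiv_H1 ξ (ZMod n)
  obtain ⟨e₂⟩ := Groth.Agent.CurvesA.MuConst.nonempty_iso_const_mu_of_isSepClosed k n hn0 f
  obtain ⟨e₃⟩ := K858.KummerPic.nonempty_equiv V n hepi hdiv
  refine ⟨e₁.trans ((Groth.Agent.Etcore.EtInst.HHcongr e₂ 1).toEquiv.trans (e₃.trans ?_))⟩
  refine (K858.Basic.ofPic V).toEquiv.subtypeEquiv fun c => ?_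
  change c ^ n = 1 ↔ (K858.Basic.ofPic V) c ^ n = 1
  rw [← map_pow, map_eq_one_iff _ (K858.Basic.ofPic V).injective]

end Groth.Agent.S17830
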