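import Groth.Statements.S17831
import Groth.Agent.AutSch.K936.TanDer
import Groth.Agent.AutSch.K936.Unram

set_option autoImplicit false
universe u
open CategoryTheory MonoidalCategory CartesianMonoidalCategory MonObj GrpObj AlgebraicGeometry
open AutSch

namespace Groth.Agent.S17831

/-- Let k be a field and X a proper k-scheme of dimension at most 1, and let the k-group scheme G,
locally of finite type over k, with its action a be the automorphism group scheme of X over k. Then
G → Spec k is unramified exactly when Der_k(O_X, O_X) = 0, i.e. when every k-derivation of O_X into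
O_X takes the value zero on every section over every open. (Unramified is stated as formally
unramified, G being locally of finite type. The published statement also lists as equivalent that
the automorphism group scheme is geometrically reduced of dimension zero, and a condition on the
moduli stack of curves; this row states the unramified condition only.) -/
theorem result (k : Type u) [Field k]
    (X : Over (Spec (CommRingCat.of k))) [IsProper X.hom] (hdim : topologicalKrullDim ↥X.left ≤ 1)
    (G : Over (Spec (CommRingCat.of k))) [GrpObj G] [LocallyOfFiniteType G.hom] (a : AlgGrp.Action G X)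
    (hG : AutSch.Represents X G a) :
    FormallyUnramified G.hom ↔
      ∀ (D : OmegaSh.Der X.hom (Coh.structureModule X.left)) (U : X.left.Opens) (s : Γ(X.left, U)),
        D.app U s = 0 := by
  have hN : IsLocallyNoetherian X.left := LocallyOfFiniteType.isLocallyNoetherian X.hom
  have hC : CompactSpace X.left := QuasiCompact.compactSpace_of_compactSpace X.hom
  constructor
  · intro hu D U s
    have hk : K936.DerFam.Kills (K936.DerFam.toDF D) := fun c => D.d_app (X := Opposite.op ⊤) c
    obtain ⟨g, hg, -⟩ := hG.2 _ (K936.DerFam.fam (K936.DerFam.toDF D) hk)
      (K936.DerFam.isAutFamily_fam _ hk) trivial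
    have h0 : Groth.Agent.Grpsch.AbTangent.specT0 k ≫ g = η[G] := by
      refine K936.Fam.famOf_injective a hG ?_
      rw [famOf_comp, hg]
      refine (K936.DerFam.whisker_fam _ hk).trans ?_
      rw [one_eq_one, K936.Fam.famOf_one]
    have h1 := K936.Unram.tangent_eq_of_formallyUnramified G g h0
    have h2 : K936.DerFam.fam (K936.DerFam.toDF D) hk = fst X _ := by
      rw [← hg, h1, one_eq_one, comp_one, K936.Fam.famOf_one]
    exact K936.DerFam.eq_zero_of_fam_eq _ hk h2 U s
  · intro h
    refine K936.Unram.formallyUnramified_of_tangent G (fun τ hτ => ?_)
    refine K936.Fam.famOf_injective a hG ?_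
    have h1 : (X ◁ Groth.Agent.Grpsch.AbTangent.specT0 k) ≫ famOf a τ = fst X _ := by
      refine (famOf_comp a (Groth.Agent.Grpsch.AbTangent.specT0 k) τ).symm.trans ?_
      rw [hτ, one_eq_one, K936.Fam.famOf_one]
    rw [K936.TanDer.eq_fst_of_der h _ h1, one_eq_one, comp_one, K936.Fam.famOf_one]

end Groth.Agent.S17831
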