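import Groth.Statements.S17832
import Groth.Agent.AutSch.K936.BlanchardOpen
import Groth.Agent.AutSch.K936.Birational
import Groth.Agent.Ega3B.ProjProper
import Groth.Agent.S0351

set_option autoImplicit false
universe u
open CategoryTheory MonoidalCategory CartesianMonoidalCategory MonObj GrpObj AlgebraicGeometry
open AutSch

namespace Groth.Agent.S17832

/-- Over an algebraically closed field k, let X and Y be normal projective varieties (integral k-schemes
whose local rings are integrally closed domains, each admitting a closed immersion into a projective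
space over k) and f : X → Y a birational k-morphism: f restricts to an isomorphism over some
non-empty open subset of Y. Let (GX, aX) and (GY, aY) be the automorphism group schemes of X and Y
with their universal actions, both locally of finite type, and let H be a closed subgroup scheme of
GY (e : H → GY a homomorphism which is a closed immersion) whose action on Y through e lifts to an
action b of H on X for which f is equivariant. Then the homomorphism ρ : H → GX through which b is
obtained from the universal action is a closed immersion. (The published statement takes for H the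
reduced automorphism group of Y; the form here allows any closed subgroup scheme of the automorphism
group scheme whose action lifts.) -/
theorem result (k : Type u) [Field k] [IsAlgClosed k]
    (X Y : Over (Spec (CommRingCat.of k))) [IsIntegral X.left] [IsIntegral Y.left]
    (hXn : Pi1.IsNormalScheme X.left) (hYn : Pi1.IsNormalScheme Y.left)
    (hX : RelProj.IsHProjective X.hom) (hY : RelProj.IsHProjective Y.hom)
    (f : X ⟶ Y) (U : Y.left.Opens) (hU : (U : Set ↥Y.left).Nonempty) (hf : IsIso (f.left ∣_ U))
    (GX : Over (Spec (CommRingCat.of k))) [GrpObj GX] [LocallyOfFiniteType GX.hom] (aX : AlgGrp.Action GX X)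
    (hGX : AutSch.Represents X GX aX)
    (GY : Over (Spec (CommRingCat.of k))) [GrpObj GY] [LocallyOfFiniteType GY.hom] (aY : AlgGrp.Action GY Y)
    (hGY : AutSch.Represents Y GY aY)
    (H : Over (Spec (CommRingCat.of k))) [GrpObj H] (e : H ⟶ GY) [IsMonHom e] (he : IsClosedImmersion e.left)
    (b : AlgGrp.Action H X) (hb : (H ◁ f) ≫ (e ▷ Y) ≫ aY.act = b.act ≫ f)
    (ρ : H ⟶ GX) [IsMonHom ρ] (hρ : (ρ ▷ X) ≫ aX.act = b.act) :
    IsClosedImmersion ρ.left := by
  obtain ⟨n, i, hi, hi'⟩ := hX
  obtain ⟨m, j, hj, hj'⟩ := hY
  have hPX : IsProper X.hom := by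
    rw [← hi']
    have := Groth.Agent.Ega3B.ProjProper.isProper_toBase n (Spec (CommRingCat.of k))
    infer_instance
  have hPY : IsProper Y.hom := by
    rw [← hj']
    have := Groth.Agent.Ega3B.ProjProper.isProper_toBase m (Spec (CommRingCat.of k))
    infer_instance
  have hNX : IsLocallyNoetherian X.left := LocallyOfFiniteType.isLocallyNoetherian X.hom
  have hNY : IsLocallyNoetherian Y.left := LocallyOfFiniteType.isLocallyNoetherian Y.hom
  have hPf : IsProper f.left := K936.Blanchard.isProper_left f
  have hfO : ∀ U : Y.left.Opens, IsIso (f.left.app U) := K936.Birational.isIso_app hYn f.left U hU hf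
  have hmon : IsMonHom e := inferInstance
  -- the family of `ρ` descends to the family of `e`
  have hcomm : famOf aX ρ ≫ f = (f ▷ H) ≫ famOf aY e := by
    have h1 : famOf aX ρ = lift (snd X H) (fst X H) ≫ b.act := by
      rw [famOf, ← hρ, ← Category.assoc, lift_whiskerRight]
    rw [h1, Category.assoc, ← hb, famOf]
    simp only [← Category.assoc]
    congr 1
    ext1 <;> simp
  have hcomm' : endOf (famOf aX ρ) ≫ (f ▷ H) = (f ▷ H) ≫ endOf (famOf aY e) := by
    ext1
    · simpa using hcomm
    · simp
  have hD : K936.Blanchard.Desc f H (famOf aX ρ) :=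
    ⟨famOf aY e, K936.Fam.isAutFamily_famOf aY e, hcomm'⟩
  obtain ⟨ρ', hρ'⟩ := K936.BlanchardOpen.exists_lift f aX hfO ρ hD
  obtain ⟨ψ, hψ, hψ'⟩ := K936.BlanchardOpen.desc_incl f aX hfO
  obtain ⟨τ, hτ, -⟩ := hGY.2 _ ψ hψ trivial
  have key : ρ' ≫ τ = e := by
    apply K936.Fam.famOf_injective aY hGY
    rw [famOf_comp, hτ]
    have := K936.Blanchard.epi_whisker f hfO H
    rw [← cancel_epi (f ▷ H), ← hcomm]
    have h1 : famOf aX (K936.BlanchardOpen.incl f aX hfO) ≫ f = (f ▷ _) ≫ ψ := by
      have h2 := congrArg (fun z => z ≫ fst _ _) hψ'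
      simpa using h2
    rw [← hρ', famOf_comp, pullFam, pullFam, Category.assoc, h1, whisker_exchange_assoc]
  have hGsep : IsSeparated GX.hom := Groth.Agent.Books.AntiAffine.isSeparated_hom GX
  have hUsep : IsSeparated (K936.BlanchardOpen.GU f aX hfO).hom := by
    change IsSeparated ((K936.BlanchardOpen.U f aX hfO).ι ≫ GX.hom)
    infer_instance
  have hτsep : IsSeparated τ.left := by
    have h1 : τ.left ≫ GY.hom = (K936.BlanchardOpen.GU f aX hfO).hom := Over.w τ
    have : IsSeparated (τ.left ≫ GY.hom) := by rw [h1]; exact hUsep
    exact IsSeparated.of_comp τ.left GY.hom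
  have hcl : IsClosedImmersion ρ'.left := by
    have : IsClosedImmersion (ρ'.left ≫ τ.left) := by
      rw [← Over.comp_left, key]; exact he
    exact IsClosedImmersion.of_comp ρ'.left τ.left
  have h3 : ρ.left = ρ'.left ≫ (K936.BlanchardOpen.incl f aX hfO).left := by rw [← Over.comp_left, hρ']
  have : IsImmersion ρ.left := by rw [h3]; infer_instance
  exact Groth.Agent.S0351.result k H GX ρ

end Groth.Agent.S17832
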