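import Groth.Statements.S17833
import Groth.Agent.Sga3.H962.Fpqc
import Groth.Agent.AlgGrp.K399.Basic
import Groth.Agent.AlgGrp.K411.HomKit

set_option autoImplicit false
universe u
open CategoryTheory MonoidalCategory CartesianMonoidalCategory MonObj GrpObj AlgebraicGeometry
open AlgGrp

namespace Groth.Agent.S17833

/-- A pointed map from a proper connected smooth group to an affine scheme is constant. -/
theorem const_of_affine {k : Type u} [Field k] (Q H : Over (Spec (CommRingCat.of k))) [GrpObj Q]
    [Smooth Q.hom] [ConnectedSpace Q.left] [IsProper Q.hom] [IsAffine H.left] (f : Q ⟶ H) :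
    f = toUnit Q ≫ η[Q] ≫ f := by
  have h := K399.Basic.isIso_appTop_of_group Q
  have h1 : (toUnit Q).left = Q.hom := by
    simp
  have h2 : η[Q].left ≫ Q.hom = 𝟙 _ := by
    simp
  have h3 : Q.hom.appTop ≫ η[Q].left.appTop = 𝟙 _ := by
    have := congr(($h2).appTop)
    rw [Scheme.Hom.comp_appTop] at this
    simpa using this
  have h4 : η[Q].left.appTop ≫ Q.hom.appTop = 𝟙 _ := by
    rw [← cancel_epi Q.hom.appTop, ← Category.assoc, h3]
    simp
  ext1
  apply ext_of_isAffine
  rw [Over.comp_left, Over.comp_left, h1, Scheme.Hom.comp_appTop, Scheme.Hom.comp_appTop,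
    Category.assoc]
  erw [h4]
  simp

/-- Over an algebraically closed field k, let G be a connected smooth k-group scheme of finite type (in
the terminology of the notes, a smooth connected algebraic group), and H an affine normal subgroup
scheme of G such that the quotient G/H is an abelian variety: here j : H → G is the kernel of a flat
surjective homomorphism q : G → Q of k-group schemes with Q proper over k, and H is affine. Then an
automorphism u of the algebraic group G which fixes H pointwise (j ∘ u = j) and induces the identity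
of Q (q ∘ u = q) is the identity. Equivalently, the map from the group of automorphisms of G fixing
H pointwise to the automorphism group of G/H is injective. -/
theorem result (k : Type u) [Field k] [IsAlgClosed k]
    (G H Q : Over (Spec (CommRingCat.of k))) [GrpObj G] [GrpObj H] [GrpObj Q]
    [Smooth G.hom] [QuasiCompact G.hom] [ConnectedSpace ↥G.left]
    [IsAffine H.left] [IsProper Q.hom]
    (j : H ⟶ G) [IsMonHom j] (q : G ⟶ Q) [IsMonHom q] [Flat q.left] [Surjective q.left]
    (hker : AlgGrp.IsKernel j q)
    (u : G ≅ G) [IsMonHom u.hom] (hH : j ≫ u.hom = j) (hQ : u.hom ≫ q = q) :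
    u.hom = 𝟙 G := by
  have hrel := Sga3.H962.Fpqc.rel_of_kernel j q hker
  have hmono : Mono j := Sga3.H962.Fpqc.mono_of_kernel j q hker
  have hqc : QuasiCompact q.left := by
    have : QuasiCompact (q.left ≫ Q.hom) := by rw [Over.w]; infer_instance
    exact QuasiCompact.of_comp q.left Q.hom
  have hsm : Smooth Q.hom := Groth.Agent.AlgGrp.K411.HomKit.smooth_of_flat_surjective q
  have hconn : ConnectedSpace Q.left := by
    exact q.left.surjective.connectedSpace q.left.continuous
  -- the difference
  have h1 : (u.hom * (𝟙 G)⁻¹) ≫ q = 1 := by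
    rw [mul_comp, inv_comp, hQ, Category.id_comp, mul_inv_cancel]
  obtain ⟨d, hd⟩ := (Sga3.H962.Fpqc.kernel_iff j q hker G _).1 h1
  obtain ⟨d', hd'⟩ := Sga3.H962.Fpqc.exists_desc q d (by
    intro T x y hxy
    obtain ⟨c, hc⟩ := (hrel T x y).1 hxy
    have hy : y = x * (c ≫ j) := by rw [hc]; group
    rw [← cancel_mono j, Category.assoc, Category.assoc, hd, comp_mul, comp_mul,
      comp_inv, comp_inv, Category.comp_id, Category.comp_id, hy, mul_comp, Category.assoc, hH]
    group)
  have h2 := const_of_affine Q H d'
  have h3 : η[G] ≫ d ≫ j = 1 := by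
    rw [hd, comp_mul, comp_inv, Category.comp_id]
    rw [IsMonHom.one_hom, mul_inv_cancel]
  have h5 : η[Q] = η[G] ≫ q := (IsMonHom.one_hom q).symm
  have h6 : q ≫ toUnit Q = toUnit G := toUnit_unique _ _
  have h4 : d ≫ j = 1 := by
    rw [← hd', h2, h5]
    simp only [Category.assoc]
    rw [← Category.assoc q, h6, ← Category.assoc q d', hd', h3, comp_one]
  rw [hd, mul_inv_eq_one] at h4
  exact h4

end Groth.Agent.S17833
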