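import Groth.Statements.S17834
import Groth.Agent.AutSch.K936.NefMain

set_option autoImplicit false
universe u
open CategoryTheory MonoidalCategory CartesianMonoidalCategory MonObj GrpObj AlgebraicGeometry
open AutSch

namespace Groth.Agent.S17834

/-- Over an algebraically closed field k, let X be a projective variety (an integral k-scheme with a
closed immersion into some projective space over k) whose nef cone is rational polyhedral, stated in
the following equivalent form: there are finitely many nef invertible O_X-modules E_1, …, E_n (nef:
degree ≥ 0 on every closed integral one-dimensional subscheme C of X) such that for every nef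
invertible O_X-module L there are m ≥ 1 and natural numbers c_1, …, c_n with m · deg_C(L) = Σ_i c_i
· deg_C(E_i) for every such C (a positive multiple of the numerical class of L is a non-negative
integral combination of the classes of the E_i). Let (G, a) be the automorphism group scheme of X
with its universal action, G locally of finite type over k. Then G is quasi-compact over k, i.e. the
automorphism group scheme is an algebraic group. -/
theorem result (k : Type u) [Field k] [IsAlgClosed k]
    (X : Over (Spec (CommRingCat.of k))) [IsIntegral X.left] (hX : RelProj.IsHProjective X.hom)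
    (n : ℕ) (E : Fin n → X.left.Modules) (hE : ∀ i, PicF.IsInvertible (E i))
    (hEnef : ∀ i, (∀ (C : Scheme.{u}) (cl : C ⟶ X.left) [IsClosedImmersion cl], IsIntegral C → topologicalKrullDim ↥C = 1 →
        0 ≤ Pic13.curveDeg k (cl ≫ X.hom) ((Scheme.Modules.pullback cl).obj (E i))))
    (hgen : ∀ L : X.left.Modules, PicF.IsInvertible L → (∀ (C : Scheme.{u}) (cl : C ⟶ X.left) [IsClosedImmersion cl], IsIntegral C → topologicalKrullDim ↥C = 1 →
        0 ≤ Pic13.curveDeg k (cl ≫ X.hom) ((Scheme.Modules.pullback cl).obj L)) →
      ∃ (m : ℕ) (c : Fin n → ℕ), 0 < m ∧
        ∀ (C : Scheme.{u}) (cl : C ⟶ X.left) [IsClosedImmersion cl], IsIntegral C → topologicalKrullDim ↥C = 1 →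
          (m : ℤ) * Pic13.curveDeg k (cl ≫ X.hom) ((Scheme.Modules.pullback cl).obj L) =
            ∑ i, (c i : ℤ) * Pic13.curveDeg k (cl ≫ X.hom) ((Scheme.Modules.pullback cl).obj (E i)))
    (G : Over (Spec (CommRingCat.of k))) [GrpObj G] [LocallyOfFiniteType G.hom] (a : AlgGrp.Action G X)
    (hG : AutSch.Represents X G a) :
    QuasiCompact G.hom := by
  exact K936.NefMain.result k X hX n E hE hEnef hgen G a hG

end Groth.Agent.S17834
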