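import Groth.Statements.S17835
import Groth.Agent.AutSch.K936.BigMain

set_option autoImplicit false
universe u
open CategoryTheory MonoidalCategory CartesianMonoidalCategory MonObj GrpObj AlgebraicGeometry
open AutSch

namespace Groth.Agent.S17835

/-- Over an algebraically closed field k, let X be a normal projective variety (an integral k-scheme
whose local rings are integrally closed domains, with a closed immersion into some projective space
over k) and L an invertible O_X-module which is nef (degree ≥ 0 on every closed integral
one-dimensional subscheme of X) and big, bigness being taken in the form supplied by Kodaira's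
lemma: L^{⊗n} ≅ A ⊗ E for some n ≥ 1, some ample invertible A and some invertible E having a
non-zero global section. Let (G, a) be the automorphism group scheme of X with its universal action,
G locally of finite type. Then the stabiliser of the numerical class of L in the group of components
of G is finite: the connected components of G containing a k-point g with g^*(L) ⊗ M numerically
trivial for an inverse M of L form a finite set. (The published statement assumes L big and nef; its
argument uses bigness only through such a decomposition, which exists exactly when the nef module L
is big.) -/
theorem result (k : Type u) [Field k] [IsAlgClosed k]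
    (X : Over (Spec (CommRingCat.of k))) [IsIntegral X.left] (hXn : Pi1.IsNormalScheme X.left)
    (hX : RelProj.IsHProjective X.hom)
    (L A E : X.left.Modules) (hL : PicF.IsInvertible L) (hA : CohB1.IsAmple A) (hE : PicF.IsInvertible E)
    (s : Coh.structureModule X.left ⟶ E) (hs : s ≠ 0)
    (n : ℕ) (hn : 0 < n) (hLAE : Nonempty (CohB1.tensorPow L n ≅ CohB1.tensorMod A E))
    (hLnef : (∀ (C : Scheme.{u}) (i : C ⟶ X.left) [IsClosedImmersion i], IsIntegral C → topologicalKrullDim ↥C = 1 →
        0 ≤ Pic13.curveDeg k (i ≫ X.hom) ((Scheme.Modules.pullback i).obj L)))
    (G : Over (Spec (CommRingCat.of k))) [GrpObj G] [LocallyOfFiniteType G.hom] (a : AlgGrp.Action G X)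
    (hG : AutSch.Represents X G a) :
    Set.Finite {c : _root_.ConnectedComponents ↥G.left | ∃ g : 𝟙_ (Over (Spec (CommRingCat.of k))) ⟶ G,
        (∀ M : X.left.Modules, PicF.IsInvertible M → Nonempty (CohB1.tensorMod L M ≅ Coh.structureModule X.left) →
          @Pic13.IsNumEquivZero k _ X.left ⟨X.hom⟩
            (CohB1.tensorMod ((Scheme.Modules.pullback (lift (toUnit X ≫ g) (𝟙 X) ≫ a.act).left).obj L) M)) ∧
        ConnectedComponents.mk (g.left.base (IsLocalRing.closedPoint k)) = c} := by
  exact K936.BigMain.result k X hXn hX L A E hL hA hE s hs n hn hLAE hLnef G a hG

end Groth.Agent.S17835
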