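import Groth.Statements.S17836
import Groth.Agent.AutSch.K936.Fano

set_option autoImplicit false
universe u
open CategoryTheory MonoidalCategory CartesianMonoidalCategory MonObj GrpObj AlgebraicGeometry
open AutSch

namespace Groth.Agent.S17836

/-- Over an algebraically closed field k, let X be a Fano variety: an integral k-scheme, smooth over k
of relative dimension d, with a closed immersion into some projective space over k, whose canonical
module ω (a d-th exterior power of the module of differentials of X over k) has an ample tensor
inverse ω'. Let (G, a) be the automorphism group scheme of X with its universal action, G locally of
finite type. Then G is affine and quasi-compact over k. (The published statement says that the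
automorphism group of a Fano variety is a linear algebraic group, i.e. its reduced automorphism
group is smooth, affine and of finite type; affineness and quasi-compactness pass to the
automorphism group scheme.) -/
theorem result (k : Type u) [Field k] [IsAlgClosed k]
    (X : Over (Spec (CommRingCat.of k))) [IsIntegral X.left] (hX : RelProj.IsHProjective X.hom)
    (d : ℕ) [SmoothOfRelativeDimension d X.hom]
    (ω ω' : X.left.Modules) (hω : Canon.IsTopDiff X.hom d ω)
    (hω' : Nonempty (CohB1.tensorMod ω ω' ≅ Coh.structureModule X.left)) (hFano : CohB1.IsAmple ω')
    (G : Over (Spec (CommRingCat.of k))) [GrpObj G] [LocallyOfFiniteType G.hom] (a : AlgGrp.Action G X)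
    (hG : AutSch.Represents X G a) :
    IsAffine G.left ∧ QuasiCompact G.hom := by
  exact K936.Fano.result k X hX d ω ω' hω hω' hFano G a hG

end Groth.Agent.S17836
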