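import Groth.Statements.S17837
import Groth.Agent.AutSch.K936.BlanchardOpen
import Groth.Agent.Ega3B.ProjProper
import Groth.Agent.S0351

set_option autoImplicit false
universe u
open CategoryTheory MonoidalCategory CartesianMonoidalCategory MonObj GrpObj AlgebraicGeometry
open AutSch

namespace Groth.Agent.S17837

/-- Over an algebraically closed field k, let f : X → Y be a fibration: X and Y are projective varieties
(integral k-schemes with closed immersions into projective spaces over k) and f is a k-morphism with
O_Y → f_*O_X an isomorphism (bijective on sections over every open of Y). Let (GX, aX) be the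
automorphism group scheme of X with its universal action, locally of finite type, and let the
k-group scheme Gf with its action af on X represent the automorphisms of f: the families φ of
automorphisms of X parametrised by T whose associated T-automorphism of X × T descends along f × T
to the T-automorphism associated with some family of automorphisms of Y. Then the homomorphism ρ :
Gf → GX through which af is obtained from the universal action (the first projection from the
automorphism group scheme of f) is a closed immersion. -/
theorem result (k : Type u) [Field k] [IsAlgClosed k]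
    (X Y : Over (Spec (CommRingCat.of k))) [IsIntegral X.left] [IsIntegral Y.left]
    (hX : RelProj.IsHProjective X.hom) (hY : RelProj.IsHProjective Y.hom)
    (f : X ⟶ Y) (hf : ∀ U : Y.left.Opens, IsIso (f.left.app U))
    (GX : Over (Spec (CommRingCat.of k))) [GrpObj GX] [LocallyOfFiniteType GX.hom] (aX : AlgGrp.Action GX X)
    (hGX : AutSch.Represents X GX aX)
    (Gf : Over (Spec (CommRingCat.of k))) [GrpObj Gf] (af : AlgGrp.Action Gf X)
    (hGf : AutSch.RepresentsSub X
      (fun T φ => ∃ ψ : Y ⊗ T ⟶ Y, AutSch.IsAutFamily ψ ∧ AutSch.endOf φ ≫ (f ▷ T) = (f ▷ T) ≫ AutSch.endOf ψ) Gf af)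
    (ρ : Gf ⟶ GX) [IsMonHom ρ] (hρ : (ρ ▷ X) ≫ aX.act = af.act) :
    IsClosedImmersion ρ.left := by
  obtain ⟨n, i, hi, hi'⟩ := hX
  obtain ⟨m, j, hj, hj'⟩ := hY
  have hPX : IsProper X.hom := by
    rw [← hi']
    have := Groth.Agent.Ega3B.ProjProper.isProper_toBase n (Spec (CommRingCat.of k))
    infer_instance
  have hPY : IsProper Y.hom := by
    rw [← hj']
    have := Groth.Agent.Ega3B.ProjProper.isProper_toBase m (Spec (CommRingCat.of k))
    infer_instance
  have hfam : ∀ {T : Over (Spec (CommRingCat.of k))} (h : T ⟶ Gf), famOf af h = famOf aX (h ≫ ρ) :=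
    fun h => K936.Fam.famOf_of_hom aX af ρ hρ h
  let GU := K936.BlanchardOpen.GU f aX hf
  let incl : GU ⟶ GX := K936.BlanchardOpen.incl f aX hf
  obtain ⟨σ, hσ, -⟩ := hGf.2 GU (famOf aX incl) (K936.Fam.isAutFamily_famOf aX incl)
    (K936.BlanchardOpen.desc_incl f aX hf)
  have h1 : σ ≫ ρ = incl := K936.Fam.famOf_injective aX hGX ((hfam σ).symm.trans hσ)
  have h2 : K936.Blanchard.Desc f Gf (famOf aX ρ) := by
    have := hGf.1 Gf (𝟙 Gf)
    rw [hfam, Category.id_comp] at this
    exact this
  obtain ⟨ρ', hρ'⟩ := K936.BlanchardOpen.exists_lift f aX hf ρ h2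
  have hρ' : ρ' ≫ incl = ρ := hρ'
  have hm : Mono incl := inferInstanceAs (Mono (K936.BlanchardOpen.incl f aX hf))
  have e1 : σ ≫ ρ' = 𝟙 GU := by
    rw [← cancel_mono incl, Category.assoc, hρ', h1, Category.id_comp]
  have e2 : ρ' ≫ σ = 𝟙 Gf := by
    apply K936.Fam.famOf_injective af hGf
    rw [hfam, hfam, Category.assoc, h1, hρ', Category.id_comp]
  have hiso : IsIso ρ' := ⟨σ, e2, e1⟩
  have hiso' : IsIso ρ'.left := inferInstanceAs (IsIso ((Over.forget _).map ρ'))
  have hop : IsOpenImmersion incl.left := inferInstanceAs (IsOpenImmersion (K936.BlanchardOpen.incl f aX hf).left)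
  have h3 : ρ.left = ρ'.left ≫ incl.left := by rw [← Over.comp_left, hρ']
  have : IsOpenImmersion ρ.left := by rw [h3]; infer_instance
  exact Groth.Agent.S0351.result k Gf GX ρ

end Groth.Agent.S17837
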