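import Groth.Statements.S17838
import Groth.Agent.AutSch.K936.StabMain

set_option autoImplicit false
universe u
open CategoryTheory MonoidalCategory CartesianMonoidalCategory MonObj GrpObj AlgebraicGeometry
open AutSch

namespace Groth.Agent.S17838

/-- Over an algebraically closed field k, let X be a normal projective variety (an integral k-scheme
whose local rings are integrally closed domains, with a closed immersion into some projective space
over k) and L an invertible O_X-module which is big, bigness being taken in the form: L^{⊗n} ≅ A ⊗ E
for some n ≥ 1, some ample invertible A and some invertible E having a non-zero global section (on a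
projective variety this is equivalent to the birationality onto its image of the rational map of
some complete linear system of a power of L). Let the k-group scheme G, locally of finite type, with
its action a on X be the stabiliser of the class of L in the automorphism group scheme of X: it
represents the families φ of automorphisms of X parametrised by T whose associated T-automorphism g
of X × T satisfies g^*(pr_X^* L) ≅ pr_X^* L ⊗ pr_T^* M for some invertible O_T-module M. Then G is
affine and quasi-compact over k. (The published statement says that the reduced stabiliser Aut(X,
[L]) is linear, i.e. a smooth affine algebraic group; affineness and quasi-compactness pass to the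
stabiliser scheme.) -/
theorem result (k : Type u) [Field k] [IsAlgClosed k]
    (X : Over (Spec (CommRingCat.of k))) [IsIntegral X.left] (hXn : Pi1.IsNormalScheme X.left)
    (hX : RelProj.IsHProjective X.hom)
    (L A E : X.left.Modules) (hL : PicF.IsInvertible L) (hA : CohB1.IsAmple A) (hE : PicF.IsInvertible E)
    (s : Coh.structureModule X.left ⟶ E) (hs : s ≠ 0)
    (n : ℕ) (hn : 0 < n) (hLAE : Nonempty (CohB1.tensorPow L n ≅ CohB1.tensorMod A E))
    (G : Over (Spec (CommRingCat.of k))) [GrpObj G] [LocallyOfFiniteType G.hom] (a : AlgGrp.Action G X)
    (hG : AutSch.RepresentsSub X (fun T φ => ∃ M : T.left.Modules, PicF.IsInvertible M ∧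
      Nonempty ((Scheme.Modules.pullback (AutSch.endOf φ).left).obj ((Scheme.Modules.pullback (fst X T).left).obj L) ≅
        CohB1.tensorMod ((Scheme.Modules.pullback (fst X T).left).obj L)
          ((Scheme.Modules.pullback (snd X T).left).obj M))) G a) :
    IsAffine G.left ∧ QuasiCompact G.hom := by
  have hp : IsProper X.hom := K936.NefCone.isProper hX
  exact K936.StabMain.result k X L A E hL hA hE s hs n hLAE G a hG

end Groth.Agent.S17838
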