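import Groth.Statements.S17839
import Groth.Agent.CycB.SetupLft
import Groth.Agent.Ega4A.RegCM
import Groth.Agent.Ega4A.CMCatenary

set_option autoImplicit false
universe u
open CategoryTheory AlgebraicGeometry
open Cyc

namespace Groth.Agent.S17839

/-- Let S be a locally Noetherian scheme all of whose local rings are regular and universally catenary,
and δS : S → ℤ the function with δS(s) = −dim O_{S,s}. Let f : X ⟶ S be locally of finite type and δ
: X → ℤ the induced function, δ(x) = δS(f x) + trdeg_{κ(f x)} κ(x) — the S-dimension: for X
irreducible with generic point ξ, δ(ξ) is the transcendence degree of the function field of X over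
κ(f ξ) minus dim O_{S, f ξ}. Then δ is a dimension function on X: it drops strictly along every
nontrivial specialization and by exactly one along immediate ones; equivalently, for irreducible
closed subsets V ⊆ W of X with generic points v and w, codim(V, W) = δ(w) − δ(v). (The published
statement fixes S Noetherian, excellent, regular and separated and X separated of finite type over
S; its proof uses only the hypotheses listed.) -/
theorem result {X S : Scheme.{u}} (f : X ⟶ S)
    [LocallyOfFiniteType f] [IsLocallyNoetherian S]
    (hreg : ∀ s : S, IsRegularLocalRing (S.presheaf.stalk s))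
    (huc : ∀ s : S, CAlg.IsUniversallyCatenary (S.presheaf.stalk s))
    (δS : S → ℤ) (hδS : ∀ s : S, ringKrullDim (S.presheaf.stalk s) = ((-δS s).toNat : WithBot ℕ∞) ∧ δS s ≤ 0)
    (δ : X → ℤ) (hδ : Cyc.DeltaCompat f δ δS) :
    Cyc.IsDimFun X δ := by
  suffices hS : Cyc.IsSetup S δS from (CycB.SetupLft.isSetup_of_deltaCompat f hS hδ).2.2
  refine ⟨inferInstance, huc, ?_⟩
  intro x y h hne
  have key : (((-δS x).toNat : ℕ) : WithBot ℕ∞) + ringKrullDim (Cyc.LocQuot y x h) =
      (((-δS y).toNat : ℕ) : WithBot ℕ∞) := by
    have hR := hreg y
    have hCM := Groth.Agent.Ega4A.RegCM.isCohenMacaulayLocalRing_of_isRegularLocalRing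
      (S.presheaf.stalk y)
    have hsupp : Module.support (S.presheaf.stalk y) (S.presheaf.stalk y) = Set.univ := by
      rw [Module.support_eq_zeroLocus,
        Module.annihilator_eq_bot.2 inferInstance, Submodule.bot_coe,
        PrimeSpectrum.zeroLocus_singleton_zero]
    have h1 := Groth.Agent.Ega4A.CMCatenary.height_add_ringKrullDim_quotient
      (R := S.presheaf.stalk y) (M := S.presheaf.stalk y) hCM.supportDim_eq_depth hsupp
      (RingHom.ker (Cyc.specMap y x h))
    have h2 : ringKrullDim (S.presheaf.stalk x) =
        ((RingHom.ker (Cyc.specMap y x h)).height : WithBot ℕ∞) := by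
      let := (S.presheaf.stalkSpecializes h).hom.toAlgebra
      have := CycB.LocQuot.isLocalization_stalkSpecializes h
      exact IsLocalization.AtPrime.ringKrullDim_eq_height _ _
    rw [← h2, (hδS x).1, (hδS y).1] at h1
    exact h1
  have hx0 := (hδS x).2
  have hy0 := (hδS y).2
  have hpos : 0 < δS x - δS y := by
    by_contra hcon
    have h1 : (-δS y).toNat ≤ (-δS x).toNat := by omega
    have h2 : ringKrullDim (Cyc.LocQuot y x h) = 0 := by
      apply le_antisymm
      · generalize ringKrullDim (Cyc.LocQuot y x h) = d at key
        induction d using WithBot.recBotCoe with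
        | bot => exact bot_le
        | coe d =>
          have h3 : (((-δS x).toNat : ℕ) : ℕ∞) + d = (((-δS y).toNat : ℕ) : ℕ∞) := by
            exact_mod_cast key
          have hd : d ≠ ⊤ := by
            rintro rfl
            rw [add_top] at h3
            exact ENat.natCast_ne_top _ h3.symm
          obtain ⟨d', rfl⟩ := ENat.ne_top_iff_exists.1 hd
          have h4 : (-δS x).toNat + d' = (-δS y).toNat := by exact_mod_cast h3
          have : d' = 0 := by omega
          subst this
          rfl
      · exact ringKrullDim_nonneg_of_nontrivial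
    exact hne (CycB.SetupLft.eq_of_ringKrullDim_eq_zero h h2)
  refine ⟨by omega, fun him => ?_⟩
  have h5 := CycB.SetupLft.krullDimLE_one_of_immediate h him
  rw [Ring.krullDimLE_iff] at h5
  have h6 : (((-δS y).toNat : ℕ) : WithBot ℕ∞) ≤ (((-δS x).toNat : ℕ) : WithBot ℕ∞) + 1 := by
    rw [← key]
    gcongr
    exact h5
  have h7 : (-δS y).toNat ≤ (-δS x).toNat + 1 := by exact_mod_cast h6
  omega

end Groth.Agent.S17839
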