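import Groth.Statements.S17840
import Groth.Agent.Cyc.K309.DimIrr

set_option autoImplicit false
universe u
open CategoryTheory AlgebraicGeometry
open Cyc

namespace Groth.Agent.S17840

/-- Let (Y, δY) be a locally Noetherian scheme with universally catenary local rings and a dimension
function, f : X ⟶ Y a flat morphism locally of finite type between irreducible schemes with generic
points ξ and η, and δX the induced function on X, δX(x) = δY(f x) + trdeg_{κ(f x)} κ(x). Put d =
δX(ξ) − δY(η). Then d ≥ 0, every irreducible component of every fibre of f has dimension d, and for
every point x of X the fibre of f over f(x) has dimension d. (The published statement is for schemes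
separated of finite type over a Noetherian excellent regular separated base S with δ the S-dimension
— transcendence degree of the residue field minus the dimension of the local ring of S at the image
point — and for the fibre over every point of Y; the fibre over a point outside f(X) is empty, so
the dimension statement is made here at points of the image; this row allows any dimension function
δY on a locally Noetherian Y with universally catenary local rings, with δX induced from it.) -/
theorem result {X Y : Scheme.{u}} (f : X ⟶ Y) [Flat f] [LocallyOfFiniteType f]
    [IrreducibleSpace X] [IrreducibleSpace Y] (δX : X → ℤ) (δY : Y → ℤ) (hY : Cyc.IsSetup Y δY)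
    (hδ : Cyc.DeltaCompat f δX δY) :
    0 ≤ δX (genericPoint X) - δY (genericPoint Y) ∧
      Cyc.HasRelDim f (δX (genericPoint X) - δY (genericPoint Y)).toNat ∧
      ∀ x : X, topologicalKrullDim ↥(f.fiber (f x)) =
        ((δX (genericPoint X) - δY (genericPoint Y)).toNat : WithBot ℕ∞) := by
  have hX : Cyc.IsSetup X δX := CycB.SetupLft.isSetup_of_deltaCompat f hY hδ
  have h0 : 0 ≤ δX (genericPoint X) - δY (genericPoint Y) := by
    obtain ⟨n, -, hn⟩ := hδ (genericPoint X)
    rw [K309.DimIrr.map_genericPoint_of_flat f] at hn
    omega
  have hr : Cyc.HasRelDim f (δX (genericPoint X) - δY (genericPoint Y)).toNat := by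
    rw [CycB.RelDim.hasRelDim_iff]
    intro x hx
    obtain ⟨n, hn, hn'⟩ := (CycB.RelDim.deltaCompat_iff.mp hδ) x
    have h1 := K309.DimIrr.delta_of_fibGeneric hX hY hx
    rw [hn]
    have : n = (δX (genericPoint X) - δY (genericPoint Y)).toNat := by omega
    rw [this]
  refine ⟨h0, hr, fun x => le_antisymm ?_ ?_⟩
  · exact Groth.Agent.Sga4h.GenULADim.topologicalKrullDim_fiber_le f (f x) _
      (fun x' _ => CycB.RelDim.rtd_le hr x')
  · obtain ⟨x', -, hf, hx'⟩ := CycB.RelDim.exists_fibGeneric_specializes f x
    have h1 := hr (f x') _ hx'.closure_mem
    rw [← hf, ← h1]
    exact topologicalKrullDim_subspace_le _ _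

end Groth.Agent.S17840
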