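import Groth.Statements.S17842
import Groth.Agent.Resolve.K377.ResScheme
import Groth.Agent.CurvesA.DimOne
import Groth.Agent.S12416

set_option autoImplicit false
universe u
open CategoryTheory AlgebraicGeometry
open Resolve

namespace Groth.Agent.S17842

alias proj_crit := Groth.Agent.S12416.result

/-- Let S be a Noetherian separated scheme whose affine opens have excellent coordinate rings and whose
local rings are regular, and let X be an integral scheme, separated and of finite type over S with
dim X ≤ 2 (Krull dimension). Then the alteration assumption A(S, ℤ, ≤ 2) holds for X: there are an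
integral scheme X₁ all of whose local rings are regular and a projective morphism φ : X₁ ⟶ X which
is an alteration (proper, dominant, finite over a nonempty open of X) of degree one, that is, an
isomorphism over some nonempty open of X. -/
theorem result {X S : Scheme.{u}} (p : X ⟶ S)
    [IsNoetherian S] [S.IsSeparated] (hexc : ∀ U : S.affineOpens, EGA4.IsExcellent Γ(S, U))
    (hreg : ∀ s : S, IsRegularLocalRing (S.presheaf.stalk s))
    [IsIntegral X] [IsSeparated p] [LocallyOfFiniteType p] [QuasiCompact p]
    (hdim : topologicalKrullDim ↥X ≤ 2) :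
    ∃ (X₁ : Scheme.{u}) (φ : X₁ ⟶ X), IsIntegral X₁ ∧
      (∀ x : X₁, IsRegularLocalRing (X₁.presheaf.stalk x)) ∧ RelProj.IsProjective φ ∧
      Curv2.IsAlteration φ ∧ ∃ V : X.Opens, (V : Set X).Nonempty ∧ IsIso (φ ∣_ V) := by
  have hXn : IsNoetherian X := by
    have : IsLocallyNoetherian X := LocallyOfFiniteType.isLocallyNoetherian p
    have : CompactSpace X := QuasiCompact.compactSpace_of_compactSpace p
    exact {}
  have hXs : X.IsSeparated := by
    have h1 : IsSeparated (p ≫ Limits.terminal.from S) := inferInstance
    have h2 : p ≫ Limits.terminal.from S = Limits.terminal.from X := Subsingleton.elim _ _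
    rw [h2] at h1
    exact ⟨h1⟩
  obtain ⟨X', f, h1, h2, h3, h4, ⟨U, hU1, hU2, hU3⟩, h5⟩ := K377.ResScheme.main (X := X)
    (K377.QESch.of_locallyOfFiniteType p (K377.QESch.of_excellent hexc))
  have hN : IsNoetherian X' := by
    have : IsLocallyNoetherian X' := LocallyOfFiniteType.isLocallyNoetherian f
    have : CompactSpace X' := QuasiCompact.compactSpace_of_compactSpace f
    exact {}
  have hi : IsIso (f ∣_ U) := h4 U hU1
  have hUne : (U : Set X).Nonempty := hU2.nonempty
  have hfUne : Nonempty (f ⁻¹ᵁ U : X'.Opens).toScheme := by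
    obtain ⟨y, hy⟩ := hUne
    obtain ⟨x, -⟩ := (f ∣_ U).surjective ⟨y, hy⟩
    exact ⟨x⟩
  have : Nonempty U := hUne.to_subtype
  have hfU : IsIntegral (f ⁻¹ᵁ U : X'.Opens).toScheme := isIntegral_of_isOpenImmersion (f ∣_ U)
  have hirr : IrreducibleSpace X' := by
    have h6 : IsIrreducible ((f ⁻¹ᵁ U : X'.Opens) : Set X') := by
      have h7 : IrreducibleSpace (f ⁻¹ᵁ U : X'.Opens).toScheme := inferInstance
      exact isIrreducible_iff_irreducibleSpace.2 h7
    rw [irreducibleSpace_def]
    have h8 := h6.closure
    rwa [hU3.closure_eq] at h8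
  have hint : IsIntegral X' := isIntegral_of_irreducibleSpace_of_isReduced X'
  refine ⟨X', f, hint, fun x => h5 x ?_, proj_crit f h3, ⟨h2, hint, inferInstance, ?_, U, hUne, inferInstance⟩,
    U, hUne, hi⟩
  · exact (Groth.Agent.CurvesA.DimOne.ringKrullDim_stalk_le X (f x)).trans hdim
  · have h9 : (U : Set X) ⊆ Set.range f := by
      intro y hy
      obtain ⟨x, hx⟩ := (f ∣_ U).surjective ⟨y, hy⟩
      refine ⟨x.1, ?_⟩
      have h3 := congrArg U.ι hx
      rw [← Scheme.Hom.comp_apply, morphismRestrict_ι, Scheme.Hom.comp_apply] at h3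
      exact h3
    exact ⟨hU2.mono h9⟩

end Groth.Agent.S17842
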