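import Groth.Statements.S17843
import Mathlib.RingTheory.FinitePresentation
import Mathlib.RingTheory.Localization.Integral
import Mathlib.RingTheory.Localization.Away.Basic

set_option autoImplicit false
universe u v
open CAlg

namespace Groth.Agent.S17843

open Polynomial in
/-- Lifting a rescaled polynomial along a localization. -/
theorem exists_lift_scale (R : Type*) [CommRing R] (r : R)
    (p : Polynomial (Localization.Away r)) (c : R)
    (hc : algebraMap R (Localization.Away r) c = p.coeff 0) :
    ∃ N : ℕ, ∀ n : ℕ, N ≤ n → ∃ q : Polynomial R, q.coeff 0 = c ∧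
      q.map (algebraMap R (Localization.Away r)) =
        p.comp (C (algebraMap R (Localization.Away r) (r ^ n)) * X) := by
  obtain ⟨b, ⟨k, rfl⟩, hb⟩ := IsLocalization.integerNormalization_spec
    (Submonoid.powers r) (p.divX)
  refine ⟨k, fun n hn => ?_⟩
  let q' := IsLocalization.integerNormalization (Submonoid.powers r) (p.divX)
  have hq' : q'.map (algebraMap R (Localization.Away r)) =
      C (algebraMap R (Localization.Away r) (r ^ k)) * p.divX := by
    rw [show q'.map (algebraMap R (Localization.Away r)) = (r ^ k) • p.divX from hb,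
      ← Polynomial.smul_eq_C_mul, algebraMap_smul]
  refine ⟨C c + C (r ^ (n - k)) * X * q'.comp (C (r ^ n) * X), ?_, ?_⟩
  · rw [mul_assoc, coeff_add, coeff_C_zero, coeff_C_mul, mul_comm X, coeff_mul_X_zero, mul_zero,
      add_zero]
  · simp only [Polynomial.map_add, Polynomial.map_mul, map_C, map_X, Polynomial.map_comp, hq']
    conv_rhs => rw [← divX_mul_X_add p]
    simp only [add_comp, mul_comp, X_comp, C_comp, hc]
    have h1 : algebraMap R (Localization.Away r) (r ^ n) =
        algebraMap R (Localization.Away r) (r ^ (n - k)) *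
          algebraMap R (Localization.Away r) (r ^ k) := by
      rw [← map_mul, ← pow_add, Nat.sub_add_cancel hn]
    generalize p.divX.comp (C (algebraMap R (Localization.Away r) (r ^ n)) * X) = D
    rw [h1, C_mul]
    ring

open Polynomial in
/-- A polynomial with zero constant term killed in the localization is killed by rescaling. -/
theorem exists_comp_scale_eq_zero (R : Type*) [CommRing R] (r : R) (p : Polynomial R)
    (h0 : p.coeff 0 = 0) (hp : p.map (algebraMap R (Localization.Away r)) = 0) :
    ∃ N : ℕ, ∀ n : ℕ, N ≤ n → p.comp (C (r ^ n) * X) = 0 := by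
  have h1 : ∀ i, ∃ k : ℕ, r ^ k * p.coeff i = 0 := by
    intro i
    have h2 : algebraMap R (Localization.Away r) (p.coeff i) = 0 := by
      rw [← coeff_map, hp, coeff_zero]
    rw [IsLocalization.map_eq_zero_iff (Submonoid.powers r)] at h2
    obtain ⟨⟨_, k, rfl⟩, hk⟩ := h2
    exact ⟨k, hk⟩
  choose k hk using h1
  refine ⟨p.support.sup k, fun n hn => ?_⟩
  ext i
  rw [comp_C_mul_X_coeff, coeff_zero]
  rcases Nat.eq_zero_or_pos i with rfl | hi
  · rw [h0, zero_mul]
  · by_cases hi' : i ∈ p.support
    · have h2 : k i ≤ n * i := by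
        calc k i ≤ p.support.sup k := Finset.le_sup hi'
          _ ≤ n := hn
          _ ≤ n * i := Nat.le_mul_of_pos_right _ hi
      obtain ⟨d, hd⟩ := Nat.exists_eq_add_of_le h2
      rw [← pow_mul, hd, pow_add, ← mul_assoc, mul_comm (p.coeff i), hk, zero_mul]
    · rw [notMem_support_iff.1 hi', zero_mul]

/-- In the case of an affine scheme of finite presentation, let B be a finitely presented R-algebra, r ∈
R, and x : B → R[1/r][T] an R-algebra homomorphism whose value at T = 0, a homomorphism B → R[1/r],
is induced by a homomorphism x̃₀ : B → R. Then for every large enough n, the homomorphism x(rⁿT) : B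
→ R[1/r][T] is induced by a homomorphism x̃ : B → R[T] whose value at T = 0 is x̃₀. The published
statement is for algebraic spaces locally of finite presentation over R; this row takes an affine
scheme of finite presentation. -/
theorem result
    (R : Type u) (B : Type v) [CommRing R] [CommRing B] [Algebra R B]
    [Algebra.FinitePresentation R B] (r : R)
    (x : B →ₐ[R] Polynomial (Localization.Away r))
    (x₀ : B →ₐ[R] R)
    (hx₀ : (algebraMap R (Localization.Away r)).comp x₀.toRingHom =
      (Polynomial.evalRingHom 0).comp x.toRingHom) :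
    ∃ N : ℕ, ∀ n : ℕ, N ≤ n →
      ∃ y : B →ₐ[R] Polynomial R,
        (Polynomial.evalRingHom 0).comp y.toRingHom = x₀.toRingHom ∧
        (Polynomial.mapRingHom (algebraMap R (Localization.Away r))).comp y.toRingHom =
          (Polynomial.aeval (Polynomial.C (algebraMap R (Localization.Away r) (r ^ n)) * Polynomial.X) :
              Polynomial (Localization.Away r) →ₐ[Localization.Away r] Polynomial (Localization.Away r)).toRingHom.comp
            x.toRingHom := by
  classical
  obtain ⟨m, π, hπ, hker⟩ := Algebra.FinitePresentation.out (R := R) (A := B)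
  let Rr := Localization.Away r
  -- step 1: lift the images of the variables
  have h1 : ∀ i : Fin m, ∃ N : ℕ, ∀ n : ℕ, N ≤ n → ∃ q : Polynomial R,
      q.coeff 0 = x₀ (π (MvPolynomial.X i)) ∧
      q.map (algebraMap R Rr) =
        (x (π (MvPolynomial.X i))).comp
          (Polynomial.C (algebraMap R Rr (r ^ n)) * Polynomial.X) := by
    intro i
    refine exists_lift_scale R r _ _ ?_
    have := RingHom.congr_fun hx₀ (π (MvPolynomial.X i))
    simp only [RingHom.comp_apply, Polynomial.coe_evalRingHom] at this
    rw [Polynomial.coeff_zero_eq_eval_zero]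
    exact this
  choose N₁ hN₁ using h1
  let n₁ := Finset.univ.sup N₁
  have h2 : ∀ i : Fin m, ∃ q : Polynomial R,
      q.coeff 0 = x₀ (π (MvPolynomial.X i)) ∧
      q.map (algebraMap R Rr) =
        (x (π (MvPolynomial.X i))).comp
          (Polynomial.C (algebraMap R Rr (r ^ n₁)) * Polynomial.X) :=
    fun i => hN₁ i n₁ (Finset.le_sup (Finset.mem_univ i))
  choose Y hY₀ hY using h2
  let ψ : MvPolynomial (Fin m) R →ₐ[R] Polynomial R := MvPolynomial.aeval Y
  have hψ₀ : (Polynomial.evalRingHom 0).comp ψ.toRingHom = x₀.toRingHom.comp π.toRingHom := by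
    apply MvPolynomial.ringHom_ext
    · intro a
      simp [ψ]
    · intro i
      simp only [RingHom.comp_apply, Polynomial.coe_evalRingHom]
      have : ψ.toRingHom (MvPolynomial.X i) = Y i := MvPolynomial.aeval_X _ _
      rw [this, ← Polynomial.coeff_zero_eq_eval_zero, hY₀]
      rfl
  let sc : ℕ → (Polynomial Rr →ₐ[Rr] Polynomial Rr) := fun n =>
    Polynomial.aeval (Polynomial.C (algebraMap R Rr (r ^ n)) * Polynomial.X)
  let scR : ℕ → (Polynomial R →ₐ[R] Polynomial R) := fun n =>
    Polynomial.aeval (Polynomial.C (r ^ n) * Polynomial.X)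
  have hsc : ∀ n p, sc n p = p.comp (Polynomial.C (algebraMap R Rr (r ^ n)) * Polynomial.X) :=
    fun n p => rfl
  have hscR : ∀ n p, scR n p = p.comp (Polynomial.C (r ^ n) * Polynomial.X) := fun n p => rfl
  have hψ : (Polynomial.mapRingHom (algebraMap R Rr)).comp ψ.toRingHom =
      (sc n₁).toRingHom.comp (x.toRingHom.comp π.toRingHom) := by
    apply MvPolynomial.ringHom_ext
    · intro a
      have e1 : ψ.toRingHom (MvPolynomial.C a) = Polynomial.C a := by
        have := ψ.commutes a
        rw [MvPolynomial.algebraMap_eq, Polynomial.algebraMap_eq] at this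
        exact this
      have e2 : x.toRingHom (π.toRingHom (MvPolynomial.C a)) =
          Polynomial.C (algebraMap R Rr a) := by
        have := (x.comp π).commutes a
        rw [MvPolynomial.algebraMap_eq, Polynomial.algebraMap_apply] at this
        exact this
      rw [RingHom.comp_apply, RingHom.comp_apply, RingHom.comp_apply, e1, e2]
      have e3 : (sc n₁).toRingHom (Polynomial.C (algebraMap R Rr a)) =
          Polynomial.C (algebraMap R Rr a) := Polynomial.aeval_C _ _
      rw [e3]; simp
    · intro i
      have e1 : ψ.toRingHom (MvPolynomial.X i) = Y i := MvPolynomial.aeval_X _ _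
      rw [RingHom.comp_apply, e1, Polynomial.coe_mapRingHom, hY]
      rfl
  -- step 2: kill the kernel
  obtain ⟨G, hG⟩ := hker
  have h3 : ∀ g : MvPolynomial (Fin m) R, g ∈ G → ∃ N : ℕ, ∀ n : ℕ, N ≤ n →
      (ψ g).comp (Polynomial.C (r ^ n) * Polynomial.X) = 0 := by
    intro g hg
    have hg0 : π g = 0 := by
      have : g ∈ RingHom.ker π.toRingHom := by rw [← hG]; exact Ideal.subset_span hg
      exact this
    apply exists_comp_scale_eq_zero
    · have := RingHom.congr_fun hψ₀ g
      rw [RingHom.comp_apply, RingHom.comp_apply, Polynomial.coe_evalRingHom,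
        ← Polynomial.coeff_zero_eq_eval_zero] at this
      change (ψ g).coeff 0 = x₀ (π g) at this
      rw [this, hg0, map_zero]
    · have := RingHom.congr_fun hψ g
      rw [RingHom.comp_apply, RingHom.comp_apply, RingHom.comp_apply,
        Polynomial.coe_mapRingHom] at this
      change (ψ g).map (algebraMap R Rr) = (sc n₁) (x (π g)) at this
      rw [this, hg0, map_zero, map_zero]
  choose! N₂ hN₂ using h3
  let n₂ := G.sup N₂
  refine ⟨n₂ + n₁, fun n hn => ?_⟩
  obtain ⟨n', hn', rfl⟩ : ∃ n', n₂ ≤ n' ∧ n = n' + n₁ := ⟨n - n₁, by omega, by omega⟩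
  have hle : RingHom.ker π.toRingHom ≤ RingHom.ker ((scR n').comp ψ).toRingHom := by
    rw [← hG, Ideal.span_le]
    intro g hg
    exact hN₂ g hg n' (le_trans (Finset.le_sup (f := N₂) hg) hn')
  let y : B →ₐ[R] Polynomial R := AlgHom.liftOfSurjective π hπ ((scR n').comp ψ) hle
  have hy : ∀ F, y (π F) = scR n' (ψ F) := fun F =>
    AlgHom.liftOfSurjective_apply π hπ ((scR n').comp ψ) hle F
  refine ⟨y, ?_, ?_⟩
  · ext b
    obtain ⟨F, rfl⟩ := hπ b
    have e1 : ((Polynomial.evalRingHom 0).comp y.toRingHom) (π F) =
        Polynomial.eval 0 (y (π F)) := rfl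
    rw [e1, hy, hscR, Polynomial.eval_comp, Polynomial.eval_mul, Polynomial.eval_X, mul_zero]
    exact RingHom.congr_fun hψ₀ F
  · ext1 b
    obtain ⟨F, rfl⟩ := hπ b
    have e1 : ((Polynomial.mapRingHom (algebraMap R Rr)).comp y.toRingHom) (π F) =
        (y (π F)).map (algebraMap R Rr) := rfl
    have e2 := RingHom.congr_fun hψ F
    have e3 : (ψ F).map (algebraMap R Rr) = sc n₁ (x (π F)) := e2
    rw [e1, hy, hscR, Polynomial.map_comp, e3, hsc]
    have e4 : ((Polynomial.aeval (Polynomial.C (algebraMap R (Localization.Away r) (r ^ (n' + n₁))) *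
        Polynomial.X) : Polynomial (Localization.Away r) →ₐ[Localization.Away r]
          Polynomial (Localization.Away r)).toRingHom.comp x.toRingHom) (π F) =
        (x (π F)).comp (Polynomial.C (algebraMap R Rr (r ^ (n' + n₁))) * Polynomial.X) := rfl
    rw [e4, Polynomial.comp_assoc]
    congr 1
    simp only [Polynomial.map_mul, Polynomial.map_C, Polynomial.map_X, Polynomial.mul_comp,
      Polynomial.C_comp, Polynomial.X_comp, pow_add, map_mul]
    ring

end Groth.Agent.S17843
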