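import Groth.Statements.S17845
import Groth.Agent.Red.K217.QMain
import Groth.Agent.Sga3B.RedBcAny636

set_option autoImplicit false
open CategoryTheory CategoryTheory.Limits MonoidalCategory CartesianMonoidalCategory MonObj GrpObj AlgebraicGeometry
universe u
open Red

namespace Groth.Agent.S17845

open Groth.Agent.Sga3B.BcIso K217.QTors

/-- Pulling back isomorphisms between base changes. -/
theorem rel_comp {X X' Y Z : Scheme.{u}} {G : Over X} {G' : Over X'} [GrpObj G] [GrpObj G'] {f : Y ⟶ X} {f' : Y ⟶ X'}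
    (h : Nonempty (Grp.mk (Red.bc f G) ≅ Grp.mk (Red.bc f' G'))) (q : Z ⟶ Y) :
    Nonempty (Grp.mk (Red.bc (q ≫ f) G) ≅ Grp.mk (Red.bc (q ≫ f') G')) := by
  obtain ⟨e⟩ := h
  exact ⟨bcCompIso q f G ≪≫ bcMapIso q e ≪≫ (bcCompIso q f' G').symm⟩

/-- The local hypothesis in terms of localizations. -/
theorem local_iso {A : Type u} [CommRing A] {n : Type u} {S : Scheme.{u}} (σ : S ≅ Spec (CommRingCat.of A))
    {P : Scheme.{u}} (p : P ⟶ S) (ε : P ≅ Aff A n) (hε : ε.inv ≫ p = pp A n ≫ σ.inv)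
    (H : Over P) [GrpObj H]
    (hloc : ∀ s : S, ∃ (U : Scheme.{u}) (j : U ⟶ S) (_ : IsOpenImmersion j), s ∈ Set.range j.base ∧
      ∃ (H₀ : Over U) (_ : GrpObj H₀),
        Nonempty (Grp.mk (Red.bc (pullback.snd p j) H₀) ≅ Grp.mk (Red.bc (pullback.fst p j) H)))
    (s : PrimeSpectrum A) : ∃ f ∉ s.asIdeal,
      Nonempty (Grp.mk (Red.bc (T A n (Localization.Away f)).hom (Red.bc ε.inv H)) ≅
        Grp.mk (Red.bc (T A n (Localization.Away f)).hom (K0 A n (Red.bc ε.inv H)))) := by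
  obtain ⟨U, j, hj, hs, H₀, _, ⟨e⟩⟩ := hloc (σ.inv s)
  let O : TopologicalSpace.Opens (PrimeSpectrum A) := σ.inv ⁻¹ᵁ j.opensRange
  obtain ⟨_, ⟨_, ⟨f, rfl⟩, rfl⟩, hsf, hf⟩ := PrimeSpectrum.isBasis_basic_opens.exists_subset_of_mem_open
    (show s ∈ (O : Set (PrimeSpectrum A)) from hs) O.isOpen
  refine ⟨f, hsf, ?_⟩
  let Af := Localization.Away f
  let ιf : Spec (CommRingCat.of Af) ⟶ Spec (CommRingCat.of A) := Spec.map (CommRingCat.ofHom (algebraMap A Af))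
  have hιf : Set.range ιf = (PrimeSpectrum.basicOpen f : Set (PrimeSpectrum A)) :=
    PrimeSpectrum.localization_away_comap_range _ f
  let k : Spec (CommRingCat.of Af) ⟶ U := IsOpenImmersion.lift j (ιf ≫ σ.inv) (by
    rintro _ ⟨w, rfl⟩
    rw [Scheme.Hom.comp_apply]
    have h1 : ιf w ∈ Set.range ιf := ⟨w, rfl⟩
    rw [hιf] at h1
    exact hf h1)
  have hk : k ≫ j = ιf ≫ σ.inv := IsOpenImmersion.lift_fac _ _ _
  let τ : Aff Af n ⟶ Aff A n := (T A n Af).hom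
  let pf : Aff Af n ⟶ Spec (CommRingCat.of Af) := pp Af n
  let of : Spec (CommRingCat.of Af) ⟶ Aff Af n := oo Af n
  have h1 : τ ≫ pp A n = pf ≫ ιf := by
    change Spec.map _ ≫ Spec.map _ = Spec.map _ ≫ Spec.map _
    rw [← Spec.map_comp, ← CommRingCat.ofHom_comp, ← Spec.map_comp, ← CommRingCat.ofHom_comp]
    congr 2
    ext a
    simp [MvPolynomial.algebraMap_eq]
  have h2 : of ≫ τ = ιf ≫ oo A n := by
    change Spec.map _ ≫ Spec.map _ = Spec.map _ ≫ Spec.map _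
    rw [← Spec.map_comp, ← CommRingCat.ofHom_comp, ← Spec.map_comp, ← CommRingCat.ofHom_comp]
    congr 2
    refine MvPolynomial.ringHom_ext (fun r => ?_) (fun i => ?_)
    · simp [K217.QFun.z0]
    · simp [K217.QFun.z0]
  have h3 : of ≫ pf = 𝟙 _ := oo_pp Af n
  let l : Aff Af n ⟶ pullback p j := pullback.lift (τ ≫ ε.inv) (pf ≫ k) (by
    rw [Category.assoc, hε, Category.assoc, hk, reassoc_of% h1])
  have e1 := rel_comp ⟨e⟩ l
  rw [pullback.lift_fst, pullback.lift_snd] at e1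
  obtain ⟨e1⟩ := e1
  -- `e1 : (pf ≫ k)^* H₀ ≅ (τ ≫ ε.inv)^* H`
  have e2 : Nonempty (Grp.mk (Red.bc (pf ≫ k) H₀) ≅ Grp.mk (Red.bc τ (Red.bc ε.inv H))) :=
    ⟨e1 ≪≫ bcCompIso τ ε.inv H⟩
  obtain ⟨e3⟩ := rel_comp e2 of
  have e4 : Nonempty (Grp.mk (Red.bc k H₀) ≅ Grp.mk (Red.bc ιf (H0 A n (Red.bc ε.inv H)))) :=
    ⟨bcCongrIso (by rw [← Category.assoc, h3, Category.id_comp]) H₀ ≪≫ e3 ≪≫ bcCongrIso h2 _ ≪≫ bcCompIso _ _ _⟩
  obtain ⟨e5⟩ := rel_comp e4 pf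
  obtain ⟨e2⟩ := e2
  exact ⟨e2.symm ≪≫ e5 ≪≫ bcCongrIso h1.symm _ ≪≫ bcCompIso _ _ _⟩

/-- Let S be an affine scheme and H a reductive group scheme over the affine space 𝔸ⁿ_S (n finite). If H
descends to a reductive group scheme Zariski locally on S (every point of S has an open
neighbourhood U ↪ S and a reductive U-group H₀ whose base change to 𝔸ⁿ_U is isomorphic as a group
scheme to the restriction of H), then H is isomorphic as a group scheme to the base change of a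
reductive S-group scheme. The published statement also allows suitable graded algebras in place of
the polynomial algebra. -/
theorem result
    (S : Scheme.{u}) [IsAffine S] (n : Type u) [Finite n]
    (H : Over (𝔸(n; S))) [GrpObj H] (hH : Red.IsReductive H)
    (hloc : ∀ s : S, ∃ (U : Scheme.{u}) (j : U ⟶ S) (_ : IsOpenImmersion j), s ∈ Set.range j.base ∧
      ∃ (H₀ : Over U) (_ : GrpObj H₀), Red.IsReductive H₀ ∧
        Nonempty (Grp.mk (Red.bc (pullback.snd (𝔸(n; S) ↘ S) j) H₀) ≅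
          Grp.mk (Red.bc (pullback.fst (𝔸(n; S) ↘ S) j) H))) :
    ∃ (H₀ : Over S) (_ : GrpObj H₀), Red.IsReductive H₀ ∧
      Nonempty (Grp.mk (Red.bc (𝔸(n; S) ↘ S) H₀) ≅ Grp.mk H) := by
  let A : Type u := Γ(S, ⊤)
  let σ : S ≅ Spec (CommRingCat.of A) := S.isoSpec
  let ε : 𝔸(n; S) ≅ Aff A n := AffineSpace.isoOfIsAffine n S
  have hε : ε.inv ≫ (𝔸(n; S) ↘ S) = pp A n ≫ σ.inv := AffineSpace.isoOfIsAffine_inv_over (n := n) (S := S)
  have hH' : Red.IsReductive (Red.bc ε.inv H) := Groth.Agent.Sga3B.RedBcAny636.isReductive_bc _ hH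
  have i1 : IsAffineHom (Red.bc ε.inv H).hom := hH'.1
  have i2 : Smooth (Red.bc ε.inv H).hom := hH'.2.1
  obtain ⟨e⟩ := K217.QMain.nonempty_iso A n (Red.bc ε.inv H) fun s =>
    local_iso σ (𝔸(n; S) ↘ S) ε hε H (fun s => by
      obtain ⟨U, j, hj, hs, H₀, g, -, e⟩ := hloc s
      exact ⟨U, j, hj, hs, H₀, g, e⟩) s
  refine ⟨Red.bc σ.hom (H0 A n (Red.bc ε.inv H)), inferInstance,
    Groth.Agent.Sga3B.RedBcAny636.isReductive_bc _ (Groth.Agent.Sga3B.RedBcAny636.isReductive_bc _ hH'), ?_⟩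
  have h1 : (𝔸(n; S) ↘ S) ≫ σ.hom = ε.hom ≫ pp A n := by
    rw [← cancel_epi ε.inv, reassoc_of% hε, Iso.inv_hom_id, Category.comp_id, Iso.inv_hom_id_assoc]
  exact ⟨(bcCompIso _ _ _).symm ≪≫ bcCongrIso h1 _ ≪≫ bcCompIso _ _ _ ≪≫ bcMapIso ε.hom e.symm ≪≫
    (bcCompIso _ _ _).symm ≪≫ bcCongrIso ε.hom_inv_id _ ≪≫ bcIdIso _⟩

end Groth.Agent.S17845
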