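import Groth.Statements.S17847
import Groth.Agent.Red.K217.CentIsog
import Groth.Agent.Sga3B.SplitIso848

set_option autoImplicit false
open CategoryTheory CategoryTheory.Limits MonoidalCategory CartesianMonoidalCategory MonObj GrpObj AlgebraicGeometry
universe u
open Red

namespace Groth.Agent.S17847

open K217.CentIsog Groth.Agent.Sga3B

/-- Local form. -/
theorem local_comm {S : Scheme.{u}} {G' G : Over S} [GrpObj G'] [GrpObj G] (f : G' ⟶ G) [IsMonHom f]
    (hfin : IsFinite f.left) (hcen : ∀ (T : Over S) (k y : T ⟶ G'), k ≫ f = 1 → k * y = y * k)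
    {T : Over S} (x y : T ⟶ G')
    (H : ∀ (T' : Over S) (p : T' ⟶ T) (z : T' ⟶ G), (p ≫ x ≫ f) * z = z * (p ≫ x ≫ f))
    {U : Scheme.{u}} (b : U ⟶ S) (D : Red.SplitRed (Red.bc b G'))
    (h : (Over.map b).obj (𝟙_ (Over U)) ⟶ T) : h ≫ (x * y) = h ≫ (y * x) := by
  have hfin' : IsFinite ((Over.pullback b).map f).left :=
    MorphismProperty.of_isPullback (P := @IsFinite)
      (Sga3C.ActBase.isPullback_map_left b f).flip inferInstance
  have hh : Hyp (G := Red.bc b G') (H := Red.bc b G) ((Over.pullback b).map f)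
      (BcPts.bcMulEquiv b (𝟙_ (Over U)) G' (h ≫ x)) := by
    refine ⟨fun Y k z hk => ?_, fun Y z => ?_⟩
    · obtain ⟨k, rfl⟩ := (BcPts.bcMulEquiv b Y G').surjective k
      obtain ⟨z, rfl⟩ := (BcPts.bcMulEquiv b Y G').surjective z
      rw [← map_mul, ← map_mul, hcen _ k z]
      apply (BcPts.bcMulEquiv b Y G).injective
      rw [map_one, ← hk]
      exact BcPts.bcEquiv_comp b k f
    · obtain ⟨z, rfl⟩ := (BcPts.bcMulEquiv b Y G').surjective z
      have h1 : toUnit Y ≫ (BcPts.bcMulEquiv b (𝟙_ (Over U)) G' (h ≫ x)) =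
          BcPts.bcMulEquiv b Y G' ((Over.map b).map (toUnit Y) ≫ h ≫ x) :=
        (BcPts.comp_bcEquiv b (toUnit Y) (h ≫ x)).symm
      rw [cm, h1, ← map_mul, ← map_inv, ← map_inv, ← map_mul, ← map_mul]
      have h2 : ∀ w : (Over.map b).obj Y ⟶ G', (BcPts.bcMulEquiv b Y G' w) ≫ (Over.pullback b).map f =
        BcPts.bcMulEquiv b Y G (w ≫ f) := fun w => (BcPts.bcEquiv_comp b w f).symm
      rw [h2, MonObj.mul_comp, MonObj.mul_comp, MonObj.mul_comp, GrpObj.inv_comp, GrpObj.inv_comp]
      have h3 := H _ ((Over.map b).map (toUnit Y) ≫ h) (z ≫ f)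
      simp only [Category.assoc] at h3 ⊢
      rw [h3, mul_inv_cancel_right, mul_inv_cancel, map_one]
  have h4 := hh.central D (𝟙_ (Over U)) (BcPts.bcMulEquiv b (𝟙_ (Over U)) G' (h ≫ y))
  rw [toUnit_unique (toUnit (𝟙_ (Over U))) (𝟙 _), Category.id_comp, ← map_mul, ← map_mul] at h4
  have h5 := (BcPts.bcMulEquiv b (𝟙_ (Over U)) G').injective h4
  rw [MonObj.comp_mul, MonObj.comp_mul, h5]


/-- Suppose G' and G are reductive S-group schemes and f : G' → G is a central isogeny between them,
meaning a homomorphism that is finite, flat and surjective with central kernel (every point of G'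
killed by f commutes with every point of G'). Then the centre of G' is the preimage of the centre of
G: a point x of G' with values in an S-scheme T is central (commutes with all points of G' with
values in T-schemes) if and only if f(x) is central in G in the same sense. -/
theorem result
    {S : Scheme.{u}} {G' G : Over S} [GrpObj G'] [GrpObj G]
    (hG' : Red.IsReductive G') (hG : Red.IsReductive G) (f : G' ⟶ G) [IsMonHom f]
    (hfin : IsFinite f.left) (hfl : Flat f.left) (hsurj : Surjective f.left)
    (hcen : ∀ (T : Over S) (k y : T ⟶ G'), k ≫ f = 1 → k * y = y * k)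
    (T : Over S) (x : T ⟶ G') :
    (∀ (T' : Over S) (p : T' ⟶ T) (y : T' ⟶ G'), (p ≫ x) * y = y * (p ≫ x)) ↔
      (∀ (T' : Over S) (p : T' ⟶ T) (z : T' ⟶ G), (p ≫ x ≫ f) * z = z * (p ≫ x ≫ f)) := by
  constructor
  · intro H T' p z
    have hp : IsPullback (pullback.fst z f) (pullback.snd z f) z f := IsPullback.of_hasPullback _ _
    have hp2 : IsPullback (pullback.fst z f).left (pullback.snd z f).left z.left f.left :=
      hp.map (Over.forget S)
    have h1 : Flat (pullback.fst z f).left := MorphismProperty.of_isPullback (P := @Flat) hp2.flip hfl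
    have h2 : Surjective (pullback.fst z f).left :=
      MorphismProperty.of_isPullback (P := @Surjective) hp2.flip hsurj
    have h3 : Epi (pullback.fst z f).left := Flat.epi_of_flat_of_surjective _
    have h4 : Epi (pullback.fst z f) := Over.epi_of_epi_left _
    rw [← cancel_epi (pullback.fst z f), MonObj.comp_mul, MonObj.comp_mul, pullback.condition]
    have h5 := congrArg (fun t => t ≫ f) (H _ (pullback.fst z f ≫ p) (pullback.snd z f))
    simp only [MonObj.mul_comp, Category.assoc] at h5
    simpa only [Category.assoc] using h5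
  · intro H T' p y
    obtain ⟨x, hx⟩ : ∃ x' : T' ⟶ G', x' = p ≫ x := ⟨_, rfl⟩
    rw [← hx]
    have H' : ∀ (T'' : Over S) (q : T'' ⟶ T') (z : T'' ⟶ G), (q ≫ x ≫ f) * z = z * (q ≫ x ≫ f) := by
      intro T'' q z
      rw [hx, Category.assoc, ← Category.assoc]
      exact H _ (q ≫ p) z
    have hred : Red.IsReductive (Red.bc T'.hom G') := RedBcAny636.isReductive_bc _ hG'
    choose U e he hr D hD using fun s : T'.left => SplitFin885.splitNear (Red.bc T'.hom G') hred s
    ext1
    refine K452.JointEpi.hom_ext_of_flat_family e (fun s => ⟨s, hr s⟩) fun s => ?_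
    let h : (Over.map (e s ≫ T'.hom)).obj (𝟙_ (Over (U s))) ⟶ T' := Over.homMk (e s) (by simp)
    have h1 := local_comm f hfin hcen x y H' (e s ≫ T'.hom)
      (Groth.Agent.Sga3B.SplitIso848.splitOfIso (BcIso.bcCompIso (e s) T'.hom G').symm (D s)) h
    exact congrArg (fun t => t.left) h1

end Groth.Agent.S17847
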