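import Groth.Statements.S17848
import Groth.Agent.RedSub.K200.TorsLoc
import Groth.Agent.RedSub.H650.ParClosed

set_option autoImplicit false
open CategoryTheory CategoryTheory.Limits MonoidalCategory CartesianMonoidalCategory MonObj GrpObj AlgebraicGeometry
universe u
open RedSub

namespace Groth.Agent.S17848

/-- Stated as the triviality of the kernel of H¹(R[1/r], P) → H¹(R[1/r], G), let R be a regular local
ring with fraction field K, r a regular parameter (r lies in the maximal ideal and not in its
square), R_r = R[1/r], G a reductive R-group scheme, P ⊆ G a parabolic subgroup and L ⊆ P a Levi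
subgroup (over the local base one exists, and L is isomorphic to P modulo its unipotent radical).
Suppose that every fppf L-torsor over R_r which has a section over K is trivial. Then every fppf
P-torsor over R_r which admits a P-equivariant morphism to G (equivalently, whose associated
G-torsor is trivial) has a section. -/
theorem result
    (R : Type u) [CommRing R] [IsRegularLocalRing R]
    (r : R) (hr : r ∈ IsLocalRing.maximalIdeal R) (hr2 : r ∉ (IsLocalRing.maximalIdeal R) ^ 2)
    (Rr : Type u) [CommRing Rr] [Algebra R Rr] [IsLocalization.Away r Rr]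
    (K : Type u) [Field K] [Algebra R K] [IsFractionRing R K] [Algebra Rr K] [IsScalarTower R Rr K]
    {G P L : Over (Spec (CommRingCat.of R))} [GrpObj G] [GrpObj P] [GrpObj L]
    (hG : Red.IsReductive G) (i : P ⟶ G) (hP : RedSub.IsParabolicSub i) (l : L ⟶ P) (hL : Par.IsLevi l)
    (hL' : ∀ Y : NonAbH1.TorsorSch (Red.bc (Spec.map (CommRingCat.ofHom (algebraMap R Rr))) L)
        Scheme.fppfPrecoverage,
      NonAbH1.HasSectionOver Y.X (Spec.map (CommRingCat.ofHom (algebraMap Rr K))) →
        NonAbH1.HasSectionOver Y.X (𝟙 (Spec (CommRingCat.of Rr))))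
    (X : NonAbH1.TorsorSch (Red.bc (Spec.map (CommRingCat.ofHom (algebraMap R Rr))) P) Scheme.fppfPrecoverage)
    (hX : NonAbH1.IsPushforwardAlongSch
      ((Over.pullback (Spec.map (CommRingCat.ofHom (algebraMap R Rr)))).map i) X.act
      (NonAbH1.trivialAction (Red.bc (Spec.map (CommRingCat.ofHom (algebraMap R Rr))) G))) :
    NonAbH1.HasSectionOver X.X (𝟙 (Spec (CommRingCat.of Rr))) :=
  Groth.Agent.RedSub.K200.TorsLoc.main _ _ hG i
    (Groth.Agent.RedSub.H650.ParClosed.isParabolic hG i hP) l hL hL' X hX

end Groth.Agent.S17848
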