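import Groth.Statements.S17852
import Groth.Agent.Red.K929.Global

set_option autoImplicit false
open CategoryTheory CategoryTheory.Limits MonoidalCategory CartesianMonoidalCategory MonObj GrpObj AlgebraicGeometry
universe u
open Red

namespace Groth.Agent.S17852

/-- Let G be a semisimple group scheme over a scheme S. In the category whose objects are pairs (G', f')
of a semisimple S-group G' and a central isogeny f' : G' → G (a homomorphism which is finite, flat
and surjective with central kernel) and whose morphisms are central isogenies over G, there is an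
initial object: a semisimple G^sc with a central isogeny f : G^sc → G such that every such (G', f')
receives exactly one central isogeny α : G^sc → G' with f' ∘ α = f. -/
theorem result
    {S : Scheme.{u}} (G : Over S) [GrpObj G] (hG : Red.IsSemisimple G) :
    ∃ (Gsc : Over S) (_ : GrpObj Gsc) (f : Gsc ⟶ G), Red.IsSemisimple Gsc ∧ IsMonHom f ∧
      IsFinite f.left ∧ Flat f.left ∧ Surjective f.left ∧
      (∀ (T : Over S) (k y : T ⟶ Gsc), k ≫ f = 1 → k * y = y * k) ∧
      ∀ (G' : Over S) [GrpObj G'] (f' : G' ⟶ G) [IsMonHom f'], Red.IsSemisimple G' →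
        IsFinite f'.left → Flat f'.left → Surjective f'.left →
        (∀ (T : Over S) (k y : T ⟶ G'), k ≫ f' = 1 → k * y = y * k) →
        ∃! α : Gsc ⟶ G', IsMonHom α ∧ IsFinite α.left ∧ Flat α.left ∧ Surjective α.left ∧
          (∀ (T : Over S) (k y : T ⟶ Gsc), k ≫ α = 1 → k * y = y * k) ∧ α ≫ f' = f := by
  obtain ⟨Gsc, _, f, h1, h2, h3⟩ := Groth.Agent.Red.K929.Global.main hG
  refine ⟨Gsc, inferInstance, f, h1, h2.mon, h2.fin, h2.flat, h2.surj, h2.ck, fun G' _ f' hf'm hG' ha hb hc hd => ?_⟩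
  have hci : Groth.Agent.Red.K929.Cover.CI f' := ⟨hf'm, (K197.Isog.isIsog_iff _).2 ⟨hc, hb, ha⟩, hd⟩
  obtain ⟨α, ⟨hα1, hα2⟩, hα3⟩ := h3 G' f' hG' hci
  refine ⟨α, ⟨hα1.mon, hα1.fin, hα1.flat, hα1.surj, hα1.ck, hα2⟩, fun β hβ => hα3 β ⟨?_, hβ.2.2.2.2.2⟩⟩
  exact ⟨hβ.1, (K197.Isog.isIsog_iff _).2 ⟨hβ.2.2.2.1, hβ.2.2.1, hβ.2.1⟩, hβ.2.2.2.2.1⟩


end Groth.Agent.S17852
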