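import Groth.Statements.S17859
import Mathlib.LinearAlgebra.Contraction
import Mathlib.LinearAlgebra.StdBasis
import Mathlib.Algebra.Category.ModuleCat.Monoidal.Closed

set_option autoImplicit false
open CategoryTheory MonoidalCategory
universe u
open Algz

namespace Groth.Agent.S17859

/-- Over an affine scheme, that is for modules over a commutative ring `R`, a finitely generated
projective `R`-module `M`, viewed as an object of the monoidal category of `R`-modules (tensor
product over `R`), has a right dual. (The published statement is the equivalence, for quasi-coherent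
sheaves on a quasi-compact quasi-separated scheme, between being dualizable and being a vector
bundle; stated here is the affine case of the implication from vector bundle to dualizable. The
converse implication, that a module admitting a dual is finitely generated projective, is stated
separately and is not repeated here.) -/
theorem result (R : Type u) [CommRing R] (M : ModuleCat.{u} R)
    [Module.Finite R M] [Module.Projective R M] : Nonempty (HasRightDual M) := by
  obtain ⟨n, f, hf⟩ := Module.Finite.exists_fin' R M
  obtain ⟨s, hs⟩ := Module.projective_lifting_property f LinearMap.id hf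
  have key : ∀ x : M, ∑ k, s x k • f (Pi.single k 1) = x := by
    intro x
    have h1 : f (s x) = x := LinearMap.congr_fun hs x
    conv_rhs => rw [← h1]
    conv_rhs => rw [pi_eq_sum_univ' (s x)]
    rw [map_sum]
    refine Finset.sum_congr rfl fun k _ => ?_
    rw [map_smul]
  have key2 : ∀ φ : Module.Dual R M, ∑ k, φ (f (Pi.single k 1)) • ((LinearMap.proj k) ∘ₗ s) = φ := by
    intro φ
    ext x
    conv_rhs => rw [← key x]
    simp only [LinearMap.coe_sum, Finset.sum_apply, LinearMap.smul_apply, LinearMap.comp_apply,
      LinearMap.proj_apply, smul_eq_mul, map_sum, map_smul]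
    refine Finset.sum_congr rfl fun k _ => mul_comm _ _
  let D : ModuleCat.{u} R := ModuleCat.of R (Module.Dual R M)
  let coev : R →ₗ[R] TensorProduct R M (Module.Dual R M) :=
    LinearMap.toSpanSingleton R _
      (∑ k, (f (Pi.single k 1)) ⊗ₜ[R] ((LinearMap.proj k : (Fin n → R) →ₗ[R] R) ∘ₗ s))
  have hcoev : ∀ r : R, coev r = r •
      (∑ k, (f (Pi.single k 1)) ⊗ₜ[R] ((LinearMap.proj k : (Fin n → R) →ₗ[R] R) ∘ₗ s)) :=
    fun r => rfl
  have h1' : (contractLeft R M).rTensor _ ∘ₗ
      (TensorProduct.assoc R (Module.Dual R M) M (Module.Dual R M)).symm.toLinearMap ∘ₗ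
        coev.lTensor (Module.Dual R M) =
      (TensorProduct.lid R _).symm.toLinearMap ∘ₗ (TensorProduct.rid R _).toLinearMap := by
    refine TensorProduct.ext' fun φ r => ?_
    simp only [LinearMap.comp_apply, LinearMap.lTensor_tmul, hcoev, LinearEquiv.coe_coe,
      TensorProduct.rid_tmul, TensorProduct.lid_symm_apply]
    rw [TensorProduct.tmul_smul, map_smul, map_smul, TensorProduct.tmul_sum, map_sum, map_sum,
      Finset.smul_sum]
    conv_rhs => rw [← key2 φ]
    rw [Finset.smul_sum, TensorProduct.tmul_sum]
    refine Finset.sum_congr rfl fun k _ => ?_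
    rw [TensorProduct.assoc_symm_tmul, LinearMap.rTensor_tmul, contractLeft_apply,
      TensorProduct.tmul_smul, TensorProduct.tmul_smul]
    congr 1
    rw [TensorProduct.smul_tmul', smul_eq_mul, mul_one]
  have h2' : (contractLeft R M).lTensor _ ∘ₗ
      (TensorProduct.assoc R M (Module.Dual R M) M).toLinearMap ∘ₗ
        coev.rTensor M =
      (TensorProduct.rid R _).symm.toLinearMap ∘ₗ (TensorProduct.lid R _).toLinearMap := by
    refine TensorProduct.ext' fun r x => ?_
    simp only [LinearMap.comp_apply, LinearMap.rTensor_tmul, hcoev, LinearEquiv.coe_coe,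
      TensorProduct.lid_tmul, TensorProduct.rid_symm_apply]
    rw [← TensorProduct.smul_tmul', map_smul, map_smul, TensorProduct.sum_tmul, map_sum, map_sum,
      Finset.smul_sum]
    conv_rhs => rw [← key x]
    rw [Finset.smul_sum, TensorProduct.sum_tmul]
    refine Finset.sum_congr rfl fun k _ => ?_
    rw [TensorProduct.assoc_tmul, LinearMap.lTensor_tmul, contractLeft_apply,
      ← TensorProduct.smul_tmul', ← TensorProduct.smul_tmul']
    congr 1
    rw [← TensorProduct.tmul_smul, smul_eq_mul, mul_one]
    rfl
  let c : 𝟙_ (ModuleCat.{u} R) ⟶ M ⊗ D := ModuleCat.ofHom coev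
  let e : D ⊗ M ⟶ 𝟙_ (ModuleCat.{u} R) := ModuleCat.ofHom (contractLeft R M)
  have h1 : D ◁ c ≫ (α_ D M D).inv ≫ e ▷ D = (ρ_ D).hom ≫ (λ_ D).inv := by
    ext : 1
    exact h1'
  have h2 : c ▷ M ≫ (α_ M D M).hom ≫ M ◁ e = (λ_ M).hom ≫ (ρ_ M).inv := by
    ext : 1
    exact h2'
  exact ⟨{ rightDual := D, exact := { coevaluation' := c, evaluation' := e,
                                      coevaluation_evaluation' := h1,
                                      evaluation_coevaluation' := h2 } }⟩

end Groth.Agent.S17859
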