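import Groth.Statements.S17863
import Mathlib.RingTheory.AdicCompletion.RingHom

set_option autoImplicit false
open CategoryTheory AlgebraicGeometry
universe u
open Algz

namespace Groth.Agent.S17863

/-- Let `A` be a commutative ring which is `I`-adically complete for an ideal `I` and let `X` be a
quasi-affine scheme. Then the natural map from `X(A)` to compatible systems in the `X(A/I^n)` is
bijective: two morphisms `Spec A ⟶ X` with the same restriction to every `Spec (A/I^n)` are equal,
and every family of morphisms `Spec (A/I^n) ⟶ X` compatible with the transition maps `Spec (A/I^n) ⟶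
Spec (A/I^(n+1))` is the family of restrictions of a morphism `Spec A ⟶ X`. -/
theorem result (A : Type u) [CommRing A] (I : Ideal A) [IsAdicComplete I A]
    (X : Scheme.{u}) [X.IsQuasiAffine] :
    (∀ f g : Spec (CommRingCat.of A) ⟶ X,
      (∀ n : ℕ, Spec.map (CommRingCat.ofHom (Ideal.Quotient.mk (I ^ n))) ≫ f =
        Spec.map (CommRingCat.ofHom (Ideal.Quotient.mk (I ^ n))) ≫ g) → f = g) ∧
    (∀ e : ∀ n : ℕ, Spec (CommRingCat.of (A ⧸ I ^ n)) ⟶ X,
      (∀ n : ℕ, Spec.map (CommRingCat.ofHom (Ideal.Quotient.factorPowSucc I n)) ≫ e (n + 1) = e n) →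
      ∃ f : Spec (CommRingCat.of A) ⟶ X,
        ∀ n : ℕ, Spec.map (CommRingCat.ofHom (Ideal.Quotient.mk (I ^ n))) ≫ f = e n) := by
  have hmono : Mono X.toSpecΓ := inferInstance
  refine ⟨fun f g h => ?_, fun e he => ?_⟩
  · rw [← cancel_mono X.toSpecΓ]
    obtain ⟨φ, hφ⟩ := Spec.map_surjective (f ≫ X.toSpecΓ)
    obtain ⟨ψ, hψ⟩ := Spec.map_surjective (g ≫ X.toSpecΓ)
    rw [← hφ, ← hψ]
    congr 1
    ext x
    rw [← sub_eq_zero]
    refine IsHausdorff.haus (I := I) (M := A) inferInstance _ fun n => ?_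
    have h1 : Spec.map (CommRingCat.ofHom (Ideal.Quotient.mk (I ^ n))) ≫ Spec.map φ =
        Spec.map (CommRingCat.ofHom (Ideal.Quotient.mk (I ^ n))) ≫ Spec.map ψ := by
      rw [hφ, hψ, ← Category.assoc, ← Category.assoc, h n]
    rw [← Spec.map_comp, ← Spec.map_comp] at h1
    have h2 := Spec.map_injective h1
    have h3 := congrArg (fun t => t.hom x) h2
    have h4 : Ideal.Quotient.mk (I ^ n) (φ.hom x) = Ideal.Quotient.mk (I ^ n) (ψ.hom x) := h3
    rw [SModEq.zero, smul_eq_mul, Ideal.mul_top]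
    exact Ideal.Quotient.eq.mp h4
  · have hφ : ∀ n, ∃ φ : Γ(X, ⊤) ⟶ CommRingCat.of (A ⧸ I ^ n), Spec.map φ = e n ≫ X.toSpecΓ :=
      fun n => Spec.map_surjective (e n ≫ X.toSpecΓ)
    choose φ hφ using hφ
    have hc : ∀ n, φ (n + 1) ≫ CommRingCat.ofHom (Ideal.Quotient.factorPowSucc I n) = φ n := by
      intro n
      apply Spec.map_injective
      rw [Spec.map_comp, hφ, hφ, ← Category.assoc, he n]
    have hc' : ∀ {m n : ℕ} (hle : m ≤ n),
        (Ideal.Quotient.factorPow I hle).comp (φ n).hom = (φ m).hom := by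
      intro m n hle
      induction n, hle using Nat.le_induction with
      | base =>
        ext x
        obtain ⟨y, hy⟩ := Ideal.Quotient.mk_surjective ((φ m).hom x)
        simp [← hy]
      | succ n hle ih =>
        rw [← ih, ← hc n]
        ext x
        obtain ⟨y, hy⟩ := Ideal.Quotient.mk_surjective ((φ (n + 1)).hom x)
        simp [← hy]
    let Φ : Γ(X, ⊤) →+* A := IsAdicComplete.liftRingHom I (fun n => (φ n).hom) hc'
    have hΦ : ∀ n, Spec.map (CommRingCat.ofHom (Ideal.Quotient.mk (I ^ n))) ≫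
        Spec.map (CommRingCat.ofHom Φ) = e n ≫ X.toSpecΓ := by
      intro n
      rw [← hφ, ← Spec.map_comp]
      congr 1
      ext x
      exact IsAdicComplete.mk_liftRingHom I (fun n => (φ n).hom) hc' n x
    have hrange : Set.range (Spec.map (CommRingCat.ofHom Φ)) ⊆ Set.range X.toSpecΓ := by
      rintro _ ⟨p, rfl⟩
      by_contra hp
      obtain ⟨M, hM, hpM⟩ := Ideal.exists_le_maximal p.asIdeal p.isPrime.ne_top
      let m : PrimeSpectrum A := ⟨M, hM.isPrime⟩
      have hspec : p ⤳ m := (PrimeSpectrum.le_iff_specializes _ _).mp hpM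
      have hIM : I ^ 1 ≤ M := by
        rw [pow_one]
        refine (IsAdicComplete.le_jacobson_bot I).trans ?_
        rw [Ideal.jacobson]
        exact sInf_le ⟨bot_le, hM⟩
      have hm : (m : Spec (CommRingCat.of A)) ∈ Set.range
          (Spec.map (CommRingCat.ofHom (Ideal.Quotient.mk (I ^ 1)))) := by
        have h1 : m ∈ Set.range (PrimeSpectrum.comap (Ideal.Quotient.mk (I ^ 1))) := by
          rw [_root_.range_comap_of_surjective _ _ Ideal.Quotient.mk_surjective,
            Ideal.mk_ker]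
          exact hIM
        exact h1
      obtain ⟨m', hm'⟩ := hm
      have h2 : (Spec.map (CommRingCat.ofHom Φ)) (m : Spec (CommRingCat.of A)) ∈
          Set.range X.toSpecΓ := by
        refine ⟨e 1 m', ?_⟩
        rw [← hm', ← Scheme.Hom.comp_apply, ← Scheme.Hom.comp_apply, hΦ]
      have h3 : IsOpen ((Spec.map (CommRingCat.ofHom Φ)) ⁻¹' (Set.range X.toSpecΓ)) :=
        X.toSpecΓ.isOpenEmbedding.isOpen_range.preimage (Spec.map (CommRingCat.ofHom Φ)).continuous
      exact hp (hspec.mem_open h3 h2)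
    refine ⟨IsOpenImmersion.lift X.toSpecΓ (Spec.map (CommRingCat.ofHom Φ)) hrange, fun n => ?_⟩
    rw [← cancel_mono X.toSpecΓ, Category.assoc, IsOpenImmersion.lift_fac, hΦ]

end Groth.Agent.S17863
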