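import Groth.Statements.S17868
import Groth.Agent.Algz.K574.Part
import Groth.Agent.Algz.K574.NisOps

set_option autoImplicit false
open CategoryTheory AlgebraicGeometry
universe u
open Algz

namespace Groth.Agent.S17868

/-- In the case of schemes with an affine source. Let `f : U ⟶ Y` be a Nisnevich cover of length at most
`m'` with `U` affine and `Y` quasi-compact quasi-separated. There is a natural number `m` such that
for every commutative ring `B` and every morphism `g : Spec B ⟶ Y` there exist an affine scheme `V`,
a Nisnevich cover `v : V ⟶ Spec B` of length at most `m`, and a morphism `w : V ⟶ U` over `Y` (that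
is, `w ≫ f = v ≫ g`). (The original form allows `U` to be any quasi-compact quasi-separated
algebraic space; `U` is taken affine here, which makes `f` quasi-affine.) -/
theorem result {U Y : Scheme.{u}} [IsAffine U]
    [CompactSpace Y] [QuasiSeparatedSpace Y] (f : U ⟶ Y) (m' : ℕ)
    (hf : W4c5algebraiztannaka.IsNisCoverLen f m') :
    ∃ m : ℕ, ∀ (B : CommRingCat.{u}) (g : Spec B ⟶ Y),
      ∃ (V : Scheme.{u}) (_ : IsAffine V) (v : V ⟶ Spec B) (w : V ⟶ U),
        W4c5algebraiztannaka.IsNisCoverLen v m ∧ w ≫ f = v ≫ g := by
  obtain ⟨n, hn⟩ := K574.Part.exists_uniform_affine_cover f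
  refine ⟨n * m', fun B g => ?_⟩
  obtain ⟨O, hO, hcov⟩ := hn B g
  have := hf.etale
  have h1 : W4c5algebraiztannaka.IsNisCoverLen (Limits.pullback.snd f g) m' :=
    K574.Nis.isNisCoverLen_pullback_snd f g m' hf
  have hqc : QuasiCompact f := by
    rw [quasiCompact_iff_compactSpace]
    infer_instance
  have hc : CompactSpace (Limits.pullback f g : Scheme.{u}) := inferInstance
  have hqs : QuasiSeparatedSpace (Limits.pullback f g : Scheme.{u}) :=
    quasiSeparatedSpace_of_quasiSeparated (Limits.pullback.snd f g)
  have h2 := K574.Nis.isNisCoverLen_sigma_desc n O (fun i => (hO i).isCompact) hcov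
  refine ⟨_, ?_, Limits.Sigma.desc (fun i => (O i).ι) ≫ Limits.pullback.snd f g,
    Limits.Sigma.desc (fun i => (O i).ι) ≫ Limits.pullback.fst f g,
    K574.Nis.isNisCoverLen_comp _ _ _ _ h2 h1, ?_⟩
  · have : ∀ i, IsAffine (O i) := fun i => hO i
    infer_instance
  · rw [Category.assoc, Category.assoc, Limits.pullback.condition]

end Groth.Agent.S17868
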