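import Groth.Statements.S17872
import Mathlib.LinearAlgebra.Vandermonde
import Mathlib.LinearAlgebra.Matrix.NonsingularInverse
-- import your own Groth.Agent.* helpers here

set_option autoImplicit false
universe u v
open GRRSing

namespace Groth.Agent.S17872

/-- Let H be a vector space over a field K and let b_0, …, b_l be elements of H. If the sum of the t ^ i
• b_i vanishes for infinitely many scalars t of K, then all the b_i are zero. -/
theorem result {K : Type u} {H : Type v} [Field K] [AddCommGroup H] [Module K H]
    (l : ℕ) (b : Fin (l + 1) → H)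
    (h : Set.Infinite {t : K | ∑ i : Fin (l + 1), t ^ (i : ℕ) • b i = 0}) :
    b = 0 := by
  classical
  set v : Fin (l + 1) → K := fun i => ((h.natEmbedding _ (i : ℕ)) : K) with hv
  have hinj : Function.Injective v := by
    intro i j hij
    have h1 : h.natEmbedding _ (i : ℕ) = h.natEmbedding _ (j : ℕ) := Subtype.ext hij
    exact Fin.ext ((h.natEmbedding _).injective h1)
  have hdet : (Matrix.vandermonde v).det ≠ 0 := Matrix.det_vandermonde_ne_zero_iff.mpr hinj
  have hunit : IsUnit (Matrix.vandermonde v).det := isUnit_iff_ne_zero.mpr hdet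
  have hz : ∀ k : Fin (l + 1), ∑ i : Fin (l + 1), (Matrix.vandermonde v) k i • b i = 0 := by
    intro k
    have h3 : ∑ i : Fin (l + 1), (v k) ^ (i : ℕ) • b i = 0 := (h.natEmbedding _ (k : ℕ)).2
    simp only [Matrix.vandermonde_apply]
    exact h3
  funext j
  have h2 : ∑ k : Fin (l + 1), ((Matrix.vandermonde v)⁻¹ j k) •
      ∑ i : Fin (l + 1), (Matrix.vandermonde v) k i • b i = b j := by
    simp_rw [Finset.smul_sum, smul_smul]
    rw [Finset.sum_comm]
    simp_rw [← Finset.sum_smul, ← Matrix.mul_apply]
    rw [Matrix.nonsing_inv_mul _ hunit]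
    simp [Matrix.one_apply]
  rw [← h2, Finset.sum_congr rfl (fun k _ => by rw [hz k, smul_zero])]
  simp

end Groth.Agent.S17872
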