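import Groth.Statements.S17873
import Groth.Agent.GRRSing.K937.RegPrefix
-- import your own Groth.Agent.* helpers here

set_option autoImplicit false
universe u
open GRRSing

namespace Groth.Agent.S17873

/-- Let T be a Cohen–Macaulay Noetherian local ring, J a proper ideal of T, j the grade of J (the
J-depth of T, i.e. the supremum of the lengths of T-regular sequences inside J; a natural number
here) and c the minimal number of generators of J (equal to the dimension of J/𝔪J over the residue
field). Then j ≤ c and there is a generating sequence t_1, …, t_c of J such that t_1, …, t_j is a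
T-regular sequence. (The published statement does not exclude J = T; there c = 1 while the grade,
read as the depth of T, can exceed 1, so this row assumes J proper.) -/
theorem result {T : Type u} [CommRing T] [LocCoh.IsCohenMacaulayLocalRing T]
    (J : Ideal T) (hJ : J ≠ ⊤) (j : ℕ) (hj : LocCoh.idealDepth J T = j) :
    j ≤ Submodule.spanFinrank J ∧
      ∃ ts : List T, ts.length = Submodule.spanFinrank J ∧ Ideal.ofList ts = J ∧
        RingTheory.Sequence.IsRegular T (ts.take j) := by
  obtain ⟨ts, ts', h1, h2, h3, h4⟩ :=
    Groth.Agent.GRRSing.K937.RegPrefix.exists_prefix J hJ j hj.ge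
  refine ⟨by omega, ts ++ ts', by rw [List.length_append, h1, h2], h3, ?_⟩
  have e : (ts ++ ts').take j = ts := by
    rw [← h1]; simp
  rw [e]
  refine Groth.Agent.GRRSing.K937.RegPrefix.isRegular_of_mem_maximal h4 fun t ht => ?_
  have : t ∈ J := h3 ▸ Groth.Agent.GRRSing.K937.RegPrefix.mem_ofList (List.mem_append_left _ ht)
  exact IsLocalRing.le_maximalIdeal hJ this

end Groth.Agent.S17873
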