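import Groth.Statements.S17874
import Groth.Agent.GRRSing.K937.RegPrefix
import Groth.Agent.S2597
-- import your own Groth.Agent.* helpers here

set_option autoImplicit false
universe u
open GRRSing

namespace Groth.Agent.S17874

open RingTheory.Sequence IsLocalRing Groth.Agent.GRRSing.K937.RegPrefix

theorem height_add_quot_le {T : Type u} [CommRing T] [IsNoetherianRing T] [IsLocalRing T]
    (p : Ideal T) [p.IsPrime] :
    ((p.height : ℕ∞) : WithBot ℕ∞) + ringKrullDim (T ⧸ p) ≤ ringKrullDim T :=
  Groth.Agent.S2597.add_ringKrullDim_quotient_le T p p.height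
    fun _ _ hpq => Ideal.height_mono hpq

theorem supportDim_self (T : Type u) [CommRing T] :
    Module.supportDim T T = ringKrullDim T := Module.supportDim_self_eq_ringKrullDim T

theorem exists_nat (T : Type u) [CommRing T] [IsNoetherianRing T] [IsLocalRing T] (q : Ideal T)
    (hq : q ≠ ⊤) : ∃ d : ℕ, ringKrullDim (T ⧸ q) = d := by
  have : Nontrivial (T ⧸ q) := Ideal.Quotient.nontrivial_iff.mpr hq
  have h4 : (0 : WithBot ℕ∞) ≤ ringKrullDim (T ⧸ q) := ringKrullDim_nonneg_of_nontrivial
  have h5 : ringKrullDim (T ⧸ q) < ⊤ :=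
    lt_of_le_of_lt (ringKrullDim_quotient_le q) ringKrullDim_lt_top
  obtain ⟨b, hb⟩ : ∃ b : ℕ∞, (b : WithBot ℕ∞) = ringKrullDim (T ⧸ q) := by
    rw [← WithBot.ne_bot_iff_exists]
    intro h
    rw [h] at h4
    simp at h4
  rw [← hb] at h5
  have h6 : b ≠ ⊤ := by
    rintro rfl
    exact absurd h5 (by simp)
  obtain ⟨n, rfl⟩ := ENat.ne_top_iff_exists.mp h6
  exact ⟨n, by rw [← hb]; rfl⟩

/-- In a CM local ring the height is at most the grade. -/
theorem height_le_idealDepth {T : Type u} [CommRing T] [hCM : LocCoh.IsCohenMacaulayLocalRing T]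
    (p : Ideal T) [hp : p.IsPrime] : p.height ≤ LocCoh.idealDepth p T := by
  have h1 := Groth.Agent.Localalg.Depth2.supportDim_eq_add_idealDepth_of_CM p hp.ne_top T
    hCM.supportDim_eq_depth
  have h2 := height_add_quot_le p
  have e : (p • (⊤ : Submodule T T)) = p := by rw [smul_eq_mul, Ideal.mul_top]
  rw [e, supportDim_self] at h1
  have h3 : Module.supportDim T (T ⧸ p) = ringKrullDim (T ⧸ p) :=
    Module.supportDim_quotient_eq_ringKrullDim p
  rw [h3] at h1
  rw [h1] at h2
  obtain ⟨d, hd⟩ := exists_nat T p hp.ne_top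
  rw [hd, add_comm] at h2
  have h6 : ((d : ℕ∞) + p.height : ℕ∞) ≤ (d : ℕ∞) + LocCoh.idealDepth p T := by
    exact_mod_cast h2
  exact (ENat.add_le_add_iff_left (ENat.natCast_ne_top d)).mp h6

theorem unmixed {T : Type u} [CommRing T] [hCM : LocCoh.IsCohenMacaulayLocalRing T]
    (p : Ideal T) [hp : p.IsPrime] (ts : List T) (hts : ∀ t ∈ ts, t ∈ p)
    (hreg : IsWeaklyRegular T ts) (hlen : (ts.length : ℕ∞) = p.height) (q : Ideal T)
    (hq : q ∈ associatedPrimes T (T ⧸ (Ideal.ofList ts • (⊤ : Submodule T T)))) (hpq : p ≤ q) :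
    q = p := by
  by_contra hne
  have hlt : p < q := lt_of_le_of_ne hpq (Ne.symm hne)
  have hqp : q.IsPrime := hq.isPrime
  have h1 := Groth.Agent.Localalg.Depth2.ringKrullDim_quotient_add_one_le hlt
  have h2 := height_add_quot_le p
  have h3 := Groth.Agent.Localalg.Depth2.depth_le_ringKrullDim_quotient_of_mem_associatedPrimes hq
  have h4 := Groth.Agent.Ega4B.DepthBasic.depth_quot_ofList_add_length ts
    (fun t ht => IsLocalRing.le_maximalIdeal hp.ne_top (hts t ht)) T hreg
  have h5 := hCM.supportDim_eq_depth
  rw [supportDim_self] at h5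
  obtain ⟨d, hd⟩ := exists_nat T p hp.ne_top
  obtain ⟨e, he⟩ := exists_nat T q hqp.ne_top
  rw [hd, he] at h1
  rw [hd, h5, ← hlen, ← h4] at h2
  rw [he] at h3
  have h1' : e + 1 ≤ d := by exact_mod_cast h1
  have h3' : LocCoh.depth T (T ⧸ (Ideal.ofList ts • (⊤ : Submodule T T))) ≤ (e : ℕ∞) := by
    exact_mod_cast h3
  have h2' : ((ts.length : ℕ∞) + d : ℕ∞) ≤
      LocCoh.depth T (T ⧸ (Ideal.ofList ts • (⊤ : Submodule T T))) + ts.length := by
    exact_mod_cast h2
  obtain ⟨k, hk⟩ := ENat.ne_top_iff_exists.mp
    (ne_top_of_le_ne_top (ENat.natCast_ne_top e) h3')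
  rw [← hk] at h2' h3'
  have h2'' : ts.length + d ≤ k + ts.length := by exact_mod_cast h2'
  have h3'' : k ≤ e := by exact_mod_cast h3'
  omega

/-- The key: with `I = (ts)` regular in the prime `p = (ts, t)`, `I T_p = p T_p`, the colon
ideals `I : t²` and `I : t` agree. -/
theorem colon_sq {T : Type u} [CommRing T] [hCM : LocCoh.IsCohenMacaulayLocalRing T]
    (p : Ideal T) [hp : p.IsPrime] (ts : List T) (t : T)
    (hgen : Ideal.ofList (ts ++ [t]) = p)
    (hreg : IsWeaklyRegular T ts) (hlen : (ts.length : ℕ∞) = p.height)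
    (hloc : (Ideal.ofList ts).map (algebraMap T (Localization.AtPrime p)) =
      p.map (algebraMap T (Localization.AtPrime p))) (x : T)
    (hx : x * (t * t) ∈ Ideal.ofList ts) : x * t ∈ Ideal.ofList ts := by
  have hts : ∀ s ∈ ts, s ∈ p := fun s hs => hgen ▸ mem_ofList (List.mem_append_left _ hs)
  have htp : t ∈ p := hgen ▸ mem_ofList (by simp)
  by_contra hnx
  have heq : Ideal.ofList ts • (⊤ : Submodule T T) = Ideal.ofList ts := by
    rw [smul_eq_mul, Ideal.mul_top]
  set I := Ideal.ofList ts with hI
  have hy : (Submodule.Quotient.mk (x * t) : T ⧸ (I • (⊤ : Submodule T T))) ≠ 0 := by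
    rw [Ne, Submodule.Quotient.mk_eq_zero, heq]
    exact hnx
  obtain ⟨q, hq, hqle⟩ := exists_le_isAssociatedPrime_of_isNoetherianRing T
    (Submodule.Quotient.mk (x * t) : T ⧸ (I • (⊤ : Submodule T T))) hy
  have hmem : ∀ r : T, r * (x * t) ∈ I → r ∈ q := by
    intro r hr
    apply hqle
    rw [Submodule.mem_colon_singleton, ← Submodule.Quotient.mk_smul, Submodule.mem_bot,
      Submodule.Quotient.mk_eq_zero, heq]
    exact hr
  have hpq : p ≤ q := by
    rw [← hgen, ofList_append, Ideal.ofList_singleton]
    refine sup_le ?_ ?_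
    · intro r hr
      exact hmem r (Ideal.mul_mem_right _ _ hr)
    · rw [Ideal.span_singleton_le_iff_mem]
      apply hmem
      have : t * (x * t) = x * (t * t) := by ring
      rw [this]; exact hx
  have hqp : q = p := unmixed p ts hts hreg hlen q hq hpq
  have ht : algebraMap T (Localization.AtPrime p) t ∈
      I.map (algebraMap T (Localization.AtPrime p)) := by
    rw [hloc]
    exact Ideal.mem_map_of_mem _ htp
  rw [IsLocalization.algebraMap_mem_map_algebraMap_iff p.primeCompl] at ht
  obtain ⟨m, hm, hmt⟩ := ht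
  apply hm
  rw [← hqp]
  apply hmem
  have : m * (x * t) = x * (m * t) := by ring
  rw [this]
  exact Ideal.mul_mem_left _ _ hmt

/-- Minimality: no member of a minimal generating list lies in the ideal of the others. -/
theorem not_mem_others {T : Type u} [CommRing T] (rs : List T) (J : Ideal T)
    (h : Ideal.ofList rs = J) (hlen : rs.length = Submodule.spanFinrank J) (i : Fin rs.length) :
    rs[i] ∉ Ideal.span
      (Set.range fun j : {j : Fin rs.length // j ≠ i} => rs[(j : Fin rs.length)]) := by
  classical
  intro hmem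
  set S : Set T := Set.range fun j : {j : Fin rs.length // j ≠ i} => rs[(j : Fin rs.length)]
    with hS
  have hJ : J = Ideal.span S := by
    rw [← h]
    apply le_antisymm
    · rw [Ideal.ofList, Ideal.span_le]
      intro r hr
      obtain ⟨k, hk, rfl⟩ := List.getElem_of_mem hr
      by_cases hki : (⟨k, hk⟩ : Fin rs.length) = i
      · subst hki
        exact hmem
      · exact Ideal.subset_span ⟨⟨⟨k, hk⟩, hki⟩, rfl⟩
    · rw [Ideal.span_le]
      rintro _ ⟨j, rfl⟩
      exact mem_ofList (List.getElem_mem _)
  have h1 : Submodule.spanFinrank J ≤ S.ncard := by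
    rw [hJ]
    exact Submodule.spanFinrank_span_le_ncard_of_finite (Set.finite_range _)
  have h2 : S.ncard ≤ rs.length - 1 := by
    have h3 : S.ncard ≤ Fintype.card {j : Fin rs.length // j ≠ i} := by
      rw [hS, ← Set.image_univ]
      refine (Set.ncard_image_le Set.finite_univ).trans ?_
      rw [Set.ncard_univ, Nat.card_eq_fintype_card]
    refine h3.trans ?_
    rw [Fintype.card_subtype_compl, Fintype.card_fin]
    simp
  have h4 : 0 < rs.length := lt_of_le_of_lt (Nat.zero_le _) i.2
  omega

/-- Let T be a Cohen–Macaulay Noetherian local ring and p a prime ideal of T whose minimal number of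
generators is at most height(p) + 1, and assume the localization T_p is a regular local ring. In
that case some d-sequence generates p: there is a list of elements generating p, no member of which
lies in the ideal of the others, and such that for all positions i ≤ k the colon ideals ((t_1, …,
t_{i-1}) : t_k t_i) and ((t_1, …, t_{i-1}) : t_k) coincide. -/
theorem result {T : Type u} [CommRing T] [LocCoh.IsCohenMacaulayLocalRing T]
    (p : Ideal T) [p.IsPrime] (hgen : (Submodule.spanFinrank p : ℕ∞) ≤ p.height + 1)
    [IsRegularLocalRing (Localization.AtPrime p)] :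
    ∃ ts : List T, Ideal.ofList ts = p ∧ W4c5grrsingularflat.IsDSeq ts := by
  have hp : p.IsPrime := inferInstance
  have hfin : p.height ≠ ⊤ := (Ideal.height_lt_top (Ideal.IsPrime.ne_top hp)).ne
  obtain ⟨h, hh⟩ := ENat.ne_top_iff_exists.mp hfin
  have hmax : p.map (algebraMap T (Localization.AtPrime p)) =
      IsLocalRing.maximalIdeal (Localization.AtPrime p) :=
    Localization.AtPrime.map_eq_maximalIdeal
  have hrank : Submodule.spanFinrank (p.map (algebraMap T (Localization.AtPrime p))) = h := by
    rw [hmax]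
    have h1 := IsRegularLocalRing.spanFinrank_maximalIdeal (R := Localization.AtPrime p)
    rw [IsLocalization.AtPrime.ringKrullDim_eq_height p (Localization.AtPrime p), ← hh] at h1
    exact_mod_cast h1
  have hgrade : (h : ℕ∞) ≤ LocCoh.idealDepth p T := by
    rw [hh]; exact height_le_idealDepth p
  obtain ⟨ts, ts', us, h1, h2, h3, h4, h5, h6⟩ :=
    exists_prefix₂ (algebraMap T (Localization.AtPrime p)) p hp.ne_top h hgrade hrank.ge
  have hus : us = [] := by
    rw [← List.length_eq_zero_iff]
    omega
  rw [hus, Ideal.ofList_nil, sup_bot_eq] at h6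
  have hlen : (ts.length : ℕ∞) = p.height := by rw [h1, hh]
  rw [← hh] at hgen
  have hgen' : Submodule.spanFinrank p ≤ h + 1 := by exact_mod_cast hgen
  refine ⟨ts ++ ts', h3, fun i => not_mem_others (ts ++ ts') p h3 (by simp; omega) i, ?_⟩
  intro i k hk hik
  apply le_antisymm
  · intro x hx
    rw [Submodule.mem_colon_singleton, smul_eq_mul] at hx ⊢
    by_cases hi : i < ts.length
    · -- the `i`-th element is regular modulo the first `i`
      have e1 : (ts ++ ts').take i = ts.take i := by
        rw [List.take_append_of_le_length hi.le]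
      have e2 : (ts ++ ts')[i]'(Nat.lt_of_le_of_lt hik hk) = ts[i] :=
        List.getElem_append_left hi
      rw [e1] at hx ⊢
      rw [e2] at hx
      have hreg := h4.regular_mod_prev i hi
      have hz : ts[i] • (Submodule.Quotient.mk (x * (ts ++ ts')[k]) :
          T ⧸ (Ideal.ofList (ts.take i) • (⊤ : Submodule T T))) = 0 := by
        rw [← Submodule.Quotient.mk_smul, Submodule.Quotient.mk_eq_zero, smul_eq_mul, smul_eq_mul,
          Ideal.mul_top]
        have : ts[i] * (x * (ts ++ ts')[k]) = x * ((ts ++ ts')[k] * ts[i]) := by ring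
        rw [this]
        exact hx
      have hz' := hreg.right_eq_zero_of_smul hz
      rw [Submodule.Quotient.mk_eq_zero, smul_eq_mul, Ideal.mul_top] at hz'
      exact hz'
    · -- then `i = k = h`, `ts' = [t]`
      have hts' : ts'.length ≤ 1 := by omega
      have hkk : k < ts.length + ts'.length := by simpa using hk
      have hk' : k = ts.length := by omega
      have hi' : i = ts.length := by omega
      have hl1 : ts'.length = 1 := by omega
      obtain ⟨t, rfl⟩ := List.length_eq_one_iff.mp hl1
      subst hk'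
      subst hi'
      have e1 : (ts ++ [t]).take ts.length = ts := by simp
      have e2 : (ts ++ [t])[ts.length]'hk = t := by simp
      rw [e1] at hx ⊢
      rw [e2] at hx ⊢
      exact colon_sq p ts t h3 h4 hlen h6 x hx
  · intro x hx
    rw [Submodule.mem_colon_singleton, smul_eq_mul] at hx ⊢
    rw [← mul_assoc]
    exact Ideal.mul_mem_right _ _ hx

end Groth.Agent.S17874
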