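import Groth.Statements.S17875
import Mathlib.Data.Nat.Choose.Sum
import Mathlib.Tactic
-- import your own Groth.Agent.* helpers here

set_option autoImplicit false
universe u
open Polynomial
open GRRSing

namespace Groth.Agent.S17875

/-- Let R be a commutative ℚ-algebra, r an element of R and δ a natural number with (r - 1) ^ (δ + 1) =
0. Write s(k, j) for the signed Stirling numbers of the first kind, the coefficients of x (x - 1) ⋯
(x - k + 1) = Σ_j s(k, j) x ^ j. Then (i) for every natural number n, r ^ n = Σ_{k ≤ δ} [n (n - 1) ⋯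
(n - k + 1) / k!] (r - 1) ^ k; and (ii) in the polynomial ring R[x], Σ_{k ≤ δ} [x (x - 1) ⋯ (x - k +
1) / k!] (r - 1) ^ k = Σ_{j ≤ δ} [Σ_{k ≤ δ} Σ_{u ≤ k} (-1) ^ (k - u) s(k, j) / (u! (k - u)!) · r ^
u] x ^ j. -/
theorem result {R : Type u} [CommRing R] [Algebra ℚ R]
    (r : R) (δ : ℕ) (hr : (r - 1) ^ (δ + 1) = 0) :
    (∀ n : ℕ, r ^ n = ∑ k ∈ Finset.range (δ + 1), ((descPochhammer ℚ k).eval (n : ℚ) / (k.factorial : ℚ)) • (r - 1) ^ k) ∧
    (∑ k ∈ Finset.range (δ + 1), ((k.factorial : ℚ)⁻¹ • (descPochhammer R k * Polynomial.C ((r - 1) ^ k))) =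
      ∑ j ∈ Finset.range (δ + 1), Polynomial.C (∑ k ∈ Finset.range (δ + 1), ∑ u ∈ Finset.range (k + 1),
        (((-1 : ℚ) ^ (k - u) * (((descPochhammer ℤ k).coeff j : ℤ) : ℚ)) / ((u.factorial * (k - u).factorial : ℕ) : ℚ)) • r ^ u) * Polynomial.X ^ j) := by
  have hpow : ∀ k : ℕ, δ < k → (r - 1) ^ k = 0 := by
    intro k hk
    obtain ⟨m, rfl⟩ : ∃ m, k = δ + 1 + m := ⟨k - (δ + 1), by omega⟩
    rw [pow_add, hr, zero_mul]
  have hbin : ∀ k : ℕ, (r - 1) ^ k = ∑ u ∈ Finset.range (k + 1),
      (((-1 : ℚ) ^ (k - u) * (k.choose u : ℚ))) • r ^ u := by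
    intro k
    rw [sub_eq_add_neg, add_pow]
    refine Finset.sum_congr rfl fun u _ => ?_
    rw [Algebra.smul_def]
    simp only [map_mul, map_pow, map_neg, map_one, map_natCast]
    ring
  refine ⟨?_, ?_⟩
  · intro n
    have h1 : ∀ k : ℕ, (descPochhammer ℚ k).eval (n : ℚ) / (k.factorial : ℚ) = (n.choose k : ℚ) := by
      intro k
      rw [descPochhammer_eval_eq_descFactorial, Nat.descFactorial_eq_factorial_mul_choose]
      push_cast
      field_simp
    simp_rw [h1]
    have h2 : r ^ n = ∑ k ∈ Finset.range (n + 1), (n.choose k : ℚ) • (r - 1) ^ k := by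
      conv_lhs => rw [show r = (r - 1) + 1 by ring, add_pow]
      refine Finset.sum_congr rfl fun u _ => ?_
      rw [Algebra.smul_def, map_natCast, one_pow, mul_one, mul_comm]
    rw [h2]
    have h3 : ∑ k ∈ Finset.range (n + 1), (n.choose k : ℚ) • (r - 1) ^ k =
        ∑ k ∈ Finset.range (max (n + 1) (δ + 1)), (n.choose k : ℚ) • (r - 1) ^ k := by
      refine Finset.sum_subset (Finset.range_mono (le_max_left _ _)) fun k _ hk => ?_
      rw [Finset.mem_range, not_lt] at hk
      rw [Nat.choose_eq_zero_of_lt (by omega), Nat.cast_zero, zero_smul]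
    have h4 : ∑ k ∈ Finset.range (δ + 1), (n.choose k : ℚ) • (r - 1) ^ k =
        ∑ k ∈ Finset.range (max (n + 1) (δ + 1)), (n.choose k : ℚ) • (r - 1) ^ k := by
      refine Finset.sum_subset (Finset.range_mono (le_max_right _ _)) fun k _ hk => ?_
      rw [Finset.mem_range, not_lt] at hk
      rw [hpow k (by omega), smul_zero]
    rw [h3, h4]
  · have hcoef : ∀ k j : ℕ, (descPochhammer R k).coeff j = (((descPochhammer ℤ k).coeff j : ℤ) : R) := by
      intro k j
      rw [← descPochhammer_map (Int.castRingHom R) k, Polynomial.coeff_map]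
      simp
    ext j
    simp only [Polynomial.finsetSum_coeff, Polynomial.coeff_smul, Polynomial.coeff_mul_C,
      Polynomial.coeff_C_mul, Polynomial.coeff_X_pow, hcoef]
    simp only [mul_ite, mul_one, mul_zero]
    rw [Finset.sum_ite_eq (Finset.range (δ + 1)) j]
    split_ifs with hj
    · refine Finset.sum_congr rfl fun k _ => ?_
      rw [hbin k, Finset.mul_sum, Finset.smul_sum]
      refine Finset.sum_congr rfl fun u hu => ?_
      have hu' : u ≤ k := by
        have := Finset.mem_range.mp hu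
        omega
      rw [mul_smul_comm, smul_smul]
      rw [show (((descPochhammer ℤ k).coeff j : ℤ) : R) * r ^ u =
        (((descPochhammer ℤ k).coeff j : ℤ) : ℚ) • r ^ u by
          rw [Algebra.smul_def, map_intCast], smul_smul]
      congr 1
      rw [Nat.cast_choose ℚ hu']
      push_cast
      field_simp
    · refine Finset.sum_eq_zero fun k hk => ?_
      rw [Polynomial.coeff_eq_zero_of_natDegree_lt]
      · simp
      · rw [descPochhammer_natDegree]
        rw [Finset.mem_range] at hk hj
        omega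

end Groth.Agent.S17875
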