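import Groth.Statements.S17876
import Groth.Agent.GRRSing.K937.KcohVan
-- import your own Groth.Agent.* helpers here

set_option autoImplicit false
universe u
open CategoryTheory CategoryTheory.Limits AlgebraicGeometry
attribute [local instance] HasDerivedCategory.standard
open GRRSing

namespace Groth.Agent.S17876

open AlgebraicGeometry.Scheme.Modules Groth.Agent.Sga67.K0Loc
  Groth.Agent.GRRSing.K937.KcohVan

/-- Finitely many trivialising opens. -/
theorem exists_opens {W : Scheme.{u}} [CompactSpace W] (r : ℕ) (V : W.Modules)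
    (hV : FlatMod.IsFinLocFreeOfRank r V) :
    ∃ l : List W.Opens, (∀ U ∈ l, Nonempty (V.restrict U.ι ≅ FlatMod.freeMod (U : Scheme.{u}) r)) ∧
      l.foldr (fun U O => O ⊔ U) ⊥ = ⊤ := by
  choose U hxU hU using hV
  obtain ⟨t, ht⟩ := isCompact_univ.elim_finite_subcover (fun x : W => (U x : Set W))
    (fun x => (U x).2) (fun x _ => Set.mem_iUnion.mpr ⟨x, hxU x⟩)
  refine ⟨t.toList.map U, ?_, ?_⟩
  · intro O hO
    obtain ⟨x, -, rfl⟩ := List.mem_map.mp hO
    exact hU x
  · rw [eq_top_iff]
    have key : ∀ (l : List W.Opens) (O : W.Opens), O ∈ l → O ≤ l.foldr (fun U O => O ⊔ U) ⊥ := by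
      intro l
      induction l with
      | nil => intro O hO; simp at hO
      | cons a l ih =>
        intro O hO
        rw [List.foldr_cons]
        rcases List.mem_cons.mp hO with rfl | h
        · exact le_sup_right
        · exact (ih O h).trans le_sup_left
    intro x _
    obtain ⟨y, hy⟩ := Set.mem_iUnion.mp (ht (Set.mem_univ x))
    obtain ⟨hyt, hxy⟩ := Set.mem_iUnion.mp hy
    exact key _ (U y) (List.mem_map.mpr ⟨y, by simpa using hyt, rfl⟩) hxy

/-- Let W be a Noetherian scheme and V a finite locally free O_W-module of constant rank r. Tensoring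
with V is exact and preserves coherence (carried here as hypotheses), so it induces an endomorphism
[V] ⊗ (−) of K_0(Coh W), the Grothendieck group of coherent O_W-modules. Then [V] ⊗ (−) − r · id is
a nilpotent endomorphism of K_0(Coh W): some iterate of it vanishes identically. (Equivalently:
rk(V) − V is nilpotent in the quotient of K^0(W) by the annihilator of K_0(W).) -/
theorem result {W : Scheme.{u}} [IsNoetherian W] (r : ℕ) (V : W.Modules)
    (hV : FlatMod.IsFinLocFreeOfRank r V)
    [((DCoh.tensorBi (X := W)).obj V).Additive] [PreservesFiniteLimits ((DCoh.tensorBi (X := W)).obj V)]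
    [PreservesFiniteColimits ((DCoh.tensorBi (X := W)).obj V)]
    (hVc : ∀ M : W.Modules, Coh.IsCoh M → Coh.IsCoh (((DCoh.tensorBi (X := W)).obj V).obj M)) :
    ∃ n : ℕ, ∀ y : SGA6.Kcoh W,
      (⇑(SGA6.mapSub ((DCoh.tensorBi (X := W)).obj V) (fun M : W.Modules => Coh.IsCoh M) (fun M : W.Modules => Coh.IsCoh M) hVc -
        r • AddMonoidHom.id (SGA6.Kcoh W)))^[n] y = 0 := by
  let T : SGA6.Kcoh W →+ SGA6.Kcoh W :=
    SGA6.mapSub ((DCoh.tensorBi (X := W)).obj V) (fun M : W.Modules => Coh.IsCoh M)
      (fun M : W.Modules => Coh.IsCoh M) hVc - r • AddMonoidHom.id (SGA6.Kcoh W)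
  have hT : ∀ (M : W.Modules) (hM : Coh.IsCoh M), T (mk (PC W) M hM) =
      mk (PC W) (((DCoh.tensorBi (X := W)).obj V).obj M) (hVc M hM) - r • mk (PC W) M hM := by
    intro M hM
    have h1 := mapSub_mk ((DCoh.tensorBi (X := W)).obj V) (PC W) (PC W) hVc M hM
    show SGA6.mapSub ((DCoh.tensorBi (X := W)).obj V) (PC W) (PC W) hVc (mk (PC W) M hM) -
      (r • AddMonoidHom.id (SGA6.Kcoh W)) (mk (PC W) M hM) = _
    rw [h1]
    rfl
  have step : ∀ (O U : W.Opens), Nonempty (V.restrict U.ι ≅ FlatMod.freeMod (U : Scheme.{u}) r) →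
      ∀ x ∈ FO O, T x ∈ FO (O ⊔ U) := by
    rintro O U ⟨e⟩ x hx
    have hle : FO O ≤ (FO (O ⊔ U)).comap T := by
      rw [FO, AddSubgroup.closure_le]
      rintro _ ⟨M, hM, h, rfl⟩
      have hB := isCoh_van_biproduct r hM h
      rw [SetLike.mem_coe, AddSubgroup.mem_comap, hT, ← mk_biproduct r hM hB.1]
      exact sub_mem_FO_sup (hVc M hM) hB.1 (van_tensor V h) hB.2 (restrictTensorIso r e M)
    exact hle hx
  obtain ⟨l, hl, hl'⟩ := exists_opens r V hV
  have key : ∀ (l : List W.Opens),
      (∀ U ∈ l, Nonempty (V.restrict U.ι ≅ FlatMod.freeMod (U : Scheme.{u}) r)) →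
      ∀ y : SGA6.Kcoh W, T^[l.length] y ∈ FO (l.foldr (fun U O => O ⊔ U) ⊥) := by
    intro l
    induction l with
    | nil =>
      intro _ y
      rw [List.foldr_nil, FO_bot]
      trivial
    | cons a l ih =>
      intro hl y
      rw [List.foldr_cons, List.length_cons, Function.iterate_succ_apply']
      exact step _ _ (hl a (List.mem_cons_self)) _ (ih (fun U hU => hl U (List.mem_cons_of_mem _ hU)) y)
  refine ⟨l.length, fun y => ?_⟩
  have h := key l hl y
  rw [hl', FO_top] at h
  exact (AddSubgroup.mem_bot).mp h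

end Groth.Agent.S17876
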