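import Groth.Statements.S17878
import Mathlib.Analysis.SpecificLimits.Normed
import Mathlib.Data.Nat.Choose.Sum
import Mathlib.Tactic
-- import your own Groth.Agent.* helpers here

set_option autoImplicit false
universe u
open Filter Topology
open GRRSing

namespace Groth.Agent.S17878

/-- The power sum `f_j(y) = Σ_k k^j y^k`. -/
noncomputable def fS (j : ℕ) (y : ℂ) : ℂ := ∑' k : ℕ, (k : ℂ) ^ j * y ^ k

theorem summable_fS (j : ℕ) {y : ℂ} (hy : ‖y‖ < 1) : Summable fun k : ℕ => (k : ℂ) ^ j * y ^ k :=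
  summable_pow_mul_geometric_of_norm_lt_one j hy

theorem fS_rec (j : ℕ) {y : ℂ} (hy : ‖y‖ < 1) :
    fS j y = (if j = 0 then 1 else 0) + y * ∑ i ∈ Finset.range (j + 1), (j.choose i : ℂ) * fS i y := by
  have h1 : fS j y = ((0 : ℕ) : ℂ) ^ j * y ^ 0 + ∑' k : ℕ, ((k + 1 : ℕ) : ℂ) ^ j * y ^ (k + 1) :=
    (summable_fS j hy).tsum_eq_zero_add
  have h2 : ∀ k : ℕ, ((k + 1 : ℕ) : ℂ) ^ j * y ^ (k + 1) =
      y * ∑ i ∈ Finset.range (j + 1), (j.choose i : ℂ) * ((k : ℂ) ^ i * y ^ k) := by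
    intro k
    push_cast
    rw [add_pow, Finset.mul_sum, Finset.sum_mul]
    refine Finset.sum_congr rfl fun i _ => ?_
    rw [one_pow, pow_succ]
    ring
  rw [h1]
  congr 1
  · rcases Nat.eq_zero_or_pos j with rfl | hj
    · simp
    · simp [hj.ne']
  · simp_rw [h2]
    rw [tsum_mul_left, Summable.tsum_finsetSum]
    · simp_rw [tsum_mul_left]
      rfl
    · intro i _
      exact (summable_fS i hy).mul_left _

/-- The recurrence solved for the top term. -/
theorem fS_rec' (j : ℕ) {y : ℂ} (hy : ‖y‖ < 1) :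
    fS j y = (1 - y)⁻¹ * ((if j = 0 then 1 else 0) + y * ∑ i ∈ Finset.range j, (j.choose i : ℂ) * fS i y) := by
  have h := fS_rec j hy
  have hy1 : (1 - y) ≠ 0 := by
    intro h0
    have : y = 1 := (sub_eq_zero.mp h0).symm
    rw [this] at hy
    simp at hy
  rw [Finset.sum_range_succ, Nat.choose_self, Nat.cast_one, one_mul] at h
  field_simp
  linear_combination h

theorem E_rec (E : ℕ → ℚ)
    (hE : PowerSeries.mk (fun j => E j / (j.factorial : ℚ)) * (PowerSeries.exp ℚ + 1) = 2) (j : ℕ) :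
    2 * E j = (if j = 0 then 2 else 0) - ∑ i ∈ Finset.range j, (j.choose i : ℚ) * E i := by
  have h := congrArg (PowerSeries.coeff j) hE
  rw [mul_add, mul_one, map_add, PowerSeries.coeff_mul, PowerSeries.coeff_mk,
    Finset.Nat.sum_antidiagonal_eq_sum_range_succ_mk] at h
  simp only [PowerSeries.coeff_mk, PowerSeries.coeff_exp] at h
  have h2 : (PowerSeries.coeff j) (2 : PowerSeries ℚ) = if j = 0 then 2 else 0 := by
    have : (2 : PowerSeries ℚ) = PowerSeries.C (2 : ℚ) := by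
      rw [map_ofNat]
    rw [this, PowerSeries.coeff_C]
  rw [h2] at h
  have hf : (j.factorial : ℚ) ≠ 0 := by exact_mod_cast j.factorial_ne_zero
  have h3 : (j.factorial : ℚ) * ((∑ k ∈ Finset.range (j + 1),
      E k / (k.factorial : ℚ) * (algebraMap ℚ ℚ) (1 / ((j - k).factorial : ℚ))) + E j / (j.factorial : ℚ)) =
      (∑ k ∈ Finset.range (j + 1), (j.choose k : ℚ) * E k) + E j := by
    rw [mul_add, Finset.mul_sum]
    congr 1
    · refine Finset.sum_congr rfl fun k hk => ?_
      have hk' : k ≤ j := by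
        have := Finset.mem_range.mp hk
        omega
      rw [Nat.cast_choose ℚ hk']
      have h1 : (k.factorial : ℚ) ≠ 0 := by exact_mod_cast k.factorial_ne_zero
      have h2 : ((j - k).factorial : ℚ) ≠ 0 := by exact_mod_cast (j - k).factorial_ne_zero
      simp only [Algebra.algebraMap_self, RingHom.id_apply]
      field_simp
    · field_simp
  rw [h] at h3
  rw [Finset.sum_range_succ, Nat.choose_self, Nat.cast_one, one_mul] at h3
  have h4 : (j.factorial : ℚ) * (if j = 0 then (2 : ℚ) else 0) = if j = 0 then 2 else 0 := by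
    split_ifs with h0
    · subst h0; simp
    · simp
  rw [h4] at h3
  linear_combination -h3

theorem tendsto_fS (E : ℕ → ℚ)
    (hE : PowerSeries.mk (fun j => E j / (j.factorial : ℚ)) * (PowerSeries.exp ℚ + 1) = 2) (j : ℕ) :
    Tendsto (fun y : ℝ => fS j (y : ℂ)) (𝓝[Set.Ioo (-1 : ℝ) 1] (-1 : ℝ)) (𝓝 ((2 : ℂ)⁻¹ * (E j : ℂ))) := by
  induction j using Nat.strong_induction_on with
  | _ j ih =>
    have hcoe : Tendsto (fun y : ℝ => (y : ℂ)) (𝓝[Set.Ioo (-1 : ℝ) 1] (-1 : ℝ)) (𝓝 (-1 : ℂ)) := by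
      have : Tendsto (fun y : ℝ => (y : ℂ)) (𝓝 (-1 : ℝ)) (𝓝 (((-1 : ℝ) : ℝ) : ℂ)) :=
        Complex.continuous_ofReal.tendsto _
      push_cast at this
      exact this.mono_left nhdsWithin_le_nhds
    have hev : ∀ᶠ y : ℝ in 𝓝[Set.Ioo (-1 : ℝ) 1] (-1 : ℝ), fS j (y : ℂ) =
        (1 - (y : ℂ))⁻¹ * ((if j = 0 then 1 else 0) +
          (y : ℂ) * ∑ i ∈ Finset.range j, (j.choose i : ℂ) * fS i (y : ℂ)) := by
      refine eventually_nhdsWithin_of_forall fun y hy => ?_
      apply fS_rec'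
      rw [Complex.norm_real, Real.norm_eq_abs, abs_lt]
      exact hy
    rw [tendsto_congr' hev]
    have hlim : Tendsto (fun y : ℝ => (1 - (y : ℂ))⁻¹ * ((if j = 0 then 1 else 0) +
          (y : ℂ) * ∑ i ∈ Finset.range j, (j.choose i : ℂ) * fS i (y : ℂ)))
          (𝓝[Set.Ioo (-1 : ℝ) 1] (-1 : ℝ))
          (𝓝 ((1 - (-1 : ℂ))⁻¹ * ((if j = 0 then 1 else 0) +
            (-1 : ℂ) * ∑ i ∈ Finset.range j, (j.choose i : ℂ) * ((2 : ℂ)⁻¹ * (E i : ℂ))))) := by
      refine Tendsto.mul ?_ ?_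
      · refine Tendsto.inv₀ (tendsto_const_nhds.sub hcoe) ?_
        norm_num
      · refine tendsto_const_nhds.add (hcoe.mul ?_)
        refine tendsto_finsetSum _ fun i hi => ?_
        exact (ih i (Finset.mem_range.mp hi)).const_mul _
    convert hlim using 2
    have hr := E_rec E hE j
    have hr' : 2 * (E j : ℂ) = (if j = 0 then 2 else 0) -
        ∑ i ∈ Finset.range j, (j.choose i : ℂ) * (E i : ℂ) := by
      have := congrArg (fun q : ℚ => (q : ℂ)) hr
      push_cast at this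
      rw [this]
      congr 1
      split_ifs <;> simp
    have hs : ∑ i ∈ Finset.range j, (j.choose i : ℂ) * ((2 : ℂ)⁻¹ * (E i : ℂ)) =
        (2 : ℂ)⁻¹ * ∑ i ∈ Finset.range j, (j.choose i : ℂ) * (E i : ℂ) := by
      rw [Finset.mul_sum]
      exact Finset.sum_congr rfl fun i _ => by ring
    rw [hs]
    have h5 : (if j = 0 then (2 : ℂ) else 0) = 2 * (if j = 0 then (1 : ℂ) else 0) := by
      split_ifs <;> simp
    rw [h5] at hr'
    have h6 : (1 - (-1 : ℂ))⁻¹ = 2⁻¹ := by norm_num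
    rw [h6]
    linear_combination (4 : ℂ)⁻¹ * hr'

/-- Let T be a nonzero commutative normed ℂ-algebra such that the map ℂ → T/nilradical(T) is surjective,
let P = Σ_j d_j x ^ j be a polynomial over T and put h_k = P(k). Let E_0, E_1, … be the rational
numbers with 2/(e^t + 1) = Σ_j E_j t ^ j / j! (so E_0 = 1, E_1 = -1/2). Then for every complex y
with |y| < 1 the series Σ_k h_k y ^ k converges in T, and as y → -1 along real y in (-1, 1) its sum
tends to (1/2) Σ_j E_j d_j. (The published statement allows any norm topology on T as a complex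
vector space; this row takes T a normed ℂ-algebra.) -/
theorem result {T : Type u} [NormedCommRing T] [NormedAlgebra ℂ T] [Nontrivial T]
    (hT : Function.Surjective (algebraMap ℂ (T ⧸ nilradical T)))
    (E : ℕ → ℚ) (hE : PowerSeries.mk (fun j => E j / (j.factorial : ℚ)) * (PowerSeries.exp ℚ + 1) = 2)
    (P : Polynomial T) :
    (∀ y : ℂ, ‖y‖ < 1 → Summable (fun k : ℕ => y ^ k • P.eval (k : T))) ∧
    Tendsto (fun y : ℝ => ∑' k : ℕ, ((y : ℂ) ^ k) • P.eval (k : T)) (𝓝[Set.Ioo (-1 : ℝ) 1] (-1 : ℝ))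
      (𝓝 ((2 : ℂ)⁻¹ • ∑ j ∈ Finset.range (P.natDegree + 1), ((E j : ℚ) : ℂ) • P.coeff j)) := by
  have key : ∀ (y : ℂ) (k : ℕ), y ^ k • P.eval (k : T) =
      ∑ j ∈ Finset.range (P.natDegree + 1), ((k : ℂ) ^ j * y ^ k) • P.coeff j := by
    intro y k
    rw [Polynomial.eval_eq_sum_range, Finset.smul_sum]
    refine Finset.sum_congr rfl fun j _ => ?_
    rw [Algebra.smul_def, Algebra.smul_def]
    simp only [map_mul, map_pow, map_natCast]
    ring
  have hsum : ∀ (y : ℂ), ‖y‖ < 1 → ∀ j, Summable fun k : ℕ => ((k : ℂ) ^ j * y ^ k) • P.coeff j := by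
    intro y hy j
    exact (summable_fS j hy).smul_const _
  refine ⟨?_, ?_⟩
  · intro y hy
    simp_rw [key]
    exact summable_sum fun j _ => hsum y hy j
  · have hev : ∀ᶠ y : ℝ in 𝓝[Set.Ioo (-1 : ℝ) 1] (-1 : ℝ),
        (∑' k : ℕ, ((y : ℂ) ^ k) • P.eval (k : T)) =
          ∑ j ∈ Finset.range (P.natDegree + 1), fS j (y : ℂ) • P.coeff j := by
      refine eventually_nhdsWithin_of_forall fun y hy => ?_
      have hy' : ‖(y : ℂ)‖ < 1 := by
        rw [Complex.norm_real, Real.norm_eq_abs, abs_lt]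
        exact hy
      simp_rw [key]
      rw [Summable.tsum_finsetSum (fun j _ => hsum _ hy' j)]
      refine Finset.sum_congr rfl fun j _ => ?_
      exact (summable_fS j hy').tsum_smul_const _
    rw [tendsto_congr' hev, Finset.smul_sum]
    refine tendsto_finsetSum _ fun j _ => ?_
    rw [smul_smul]
    exact (tendsto_fS E hE j).smul_const _

end Groth.Agent.S17878
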