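import Groth.Statements.S17881

set_option autoImplicit false
universe u
open CAlg

namespace Groth.Agent.S17881

/-- Let O be a subring of a nontrivial commutative ring A. The following are equivalent: (i) A is a
local ring, every non-unit of A belongs to O, and for every unit u of A one of u, u⁻¹ belongs to O —
equivalently O is the preimage in the local ring A of a valuation ring of the residue field of A,
which makes O a semi-valuation ring with semi-fraction ring A; (ii) for all f, g in A generating the
unit ideal, either f ∈ gO or g ∈ fO. (A is taken nontrivial: over the zero ring (ii) holds and (i)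
fails.) -/
theorem result (A : Type u) [CommRing A] [Nontrivial A]
    (O : Subring A) :
    (IsLocalRing A ∧ (∀ a : A, ¬ IsUnit a → a ∈ O) ∧ (∀ u : Aˣ, (u : A) ∈ O ∨ ((u⁻¹ : Aˣ) : A) ∈ O)) ↔
      ∀ f g : A, IsCoprime f g → (∃ o ∈ O, f = g * o) ∨ (∃ o ∈ O, g = f * o) := by
  constructor
  · rintro ⟨hA, hnon, hun⟩ f g hfg
    have hor : IsUnit f ∨ IsUnit g := by
      obtain ⟨a, b, hab⟩ := hfg
      rcases IsLocalRing.isUnit_or_isUnit_of_isUnit_add (a := a * f) (b := b * g)
        (by rw [hab]; exact isUnit_one) with h | h
      · exact Or.inl (isUnit_of_mul_isUnit_right h)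
      · exact Or.inr (isUnit_of_mul_isUnit_right h)
    by_cases hf : IsUnit f
    · by_cases hg : IsUnit g
      · obtain ⟨u, rfl⟩ := hf
        obtain ⟨v, rfl⟩ := hg
        rcases hun (v⁻¹ * u) with h | h
        · exact Or.inl ⟨_, h, by rw [← Units.val_mul]; simp⟩
        · exact Or.inr ⟨_, h, by rw [← Units.val_mul]; simp⟩
      · obtain ⟨u, rfl⟩ := hf
        refine Or.inr ⟨((u⁻¹ : Aˣ) : A) * g, hnon _ ?_, by simp⟩
        rwa [Units.isUnit_units_mul]
    · have hg : IsUnit g := hor.resolve_left hf
      obtain ⟨u, rfl⟩ := hg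
      refine Or.inl ⟨((u⁻¹ : Aˣ) : A) * f, hnon _ ?_, by simp⟩
      rwa [Units.isUnit_units_mul]
  · intro H
    have hunit : ∀ f g : A, IsCoprime f g → IsUnit f ∨ IsUnit g := by
      intro f g h
      rcases H f g h with ⟨o, ho, h1⟩ | ⟨o, ho, h1⟩
      · right
        rw [h1] at h
        exact isCoprime_self.1 (IsCoprime.of_mul_left_left h)
      · left
        rw [h1] at h
        exact isCoprime_self.1 (IsCoprime.of_mul_right_left h)
    have hloc : IsLocalRing A := by
      refine IsLocalRing.of_isUnit_or_isUnit_one_sub_self fun a => ?_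
      exact hunit a (1 - a) ⟨1, 1, by ring⟩
    refine ⟨hloc, ?_, ?_⟩
    · intro a ha
      rcases H a 1 isCoprime_one_right with ⟨o, ho, h1⟩ | ⟨o, ho, h1⟩
      · rw [h1, one_mul]; exact ho
      · exact absurd (IsUnit.of_mul_eq_one _ h1.symm) ha
    · intro u
      rcases H (u : A) 1 isCoprime_one_right with ⟨o, ho, h1⟩ | ⟨o, ho, h1⟩
      · left; rw [h1, one_mul]; exact ho
      · right
        have : ((u⁻¹ : Aˣ) : A) = o := by
          have := u.inv_mul_cancel_left o
          rw [← h1, mul_one] at this
          exact this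
        rw [this]; exact ho

end Groth.Agent.S17881
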