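import Groth.Statements.S17882
import Mathlib.LinearAlgebra.Matrix.Adjugate
import Mathlib.Algebra.GroupWithZero.NonZeroDivisors

set_option autoImplicit false
universe u
open CAlg

namespace Groth.Agent.S17882

/-- Let B be a commutative ring, r ≥ 1, N a finitely generated submodule of B^r, and n_1, …, n_r ∈ N.
Suppose the determinant of the matrix with rows n_1, …, n_r is a nonzerodivisor of B and that the
determinant of every matrix whose rows lie in N is a multiple of it (the image of the top exterior
power of N in that of B^r ≅ B is the principal ideal generated by n_1 ∧ ⋯ ∧ n_r, a nonzerodivisor).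
Then n_1, …, n_r are linearly independent over B and span N: N is free of rank r with this basis. -/
theorem result (B : Type u) [CommRing B] (r : ℕ) (hr : 0 < r)
    (N : Submodule B (Fin r → B)) (hN : N.FG) (n : Fin r → (Fin r → B)) (hn : ∀ i, n i ∈ N)
    (hgen : ∀ m : Fin r → (Fin r → B), (∀ i, m i ∈ N) →
      Matrix.det (Matrix.of m) ∈ Ideal.span {Matrix.det (Matrix.of n)})
    (hnzd : Matrix.det (Matrix.of n) ∈ nonZeroDivisors B) :
    LinearIndependent B n ∧ Submodule.span B (Set.range n) = N := by
  set D := Matrix.det (Matrix.of n) with hD
  have hker : ∀ c : Fin r → B, ∑ i, c i • n i = 0 → c = 0 := by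
    intro c hc
    have h1 : Matrix.vecMul c (Matrix.of n) = 0 := by
      ext j
      have := congrFun hc j
      simpa [Matrix.vecMul, dotProduct, Finset.sum_apply] using this
    have h2 : Matrix.vecMul (Matrix.vecMul c (Matrix.of n)) (Matrix.adjugate (Matrix.of n)) = D • c := by
      rw [Matrix.vecMul_vecMul, Matrix.mul_adjugate, Matrix.vecMul_smul, Matrix.vecMul_one]
    rw [h1, Matrix.zero_vecMul] at h2
    ext j
    have := congrFun h2 j
    simp only [Pi.zero_apply, Pi.smul_apply, smul_eq_mul] at this
    simpa using (mul_left_mem_nonZeroDivisors_eq_zero_iff hnzd).1 this.symm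
  refine ⟨?_, ?_⟩
  · rw [Fintype.linearIndependent_iff]
    intro g hg i
    exact congrFun (hker g hg) i
  · apply le_antisymm
    · rw [Submodule.span_le]
      rintro _ ⟨i, rfl⟩
      exact hn i
    · intro x hx
      -- Cramer: D • x = ∑ i, c i • n i where c i = det (n with row i replaced by x)
      have hc : ∀ i, ∃ b : B, Matrix.det (Matrix.updateRow (Matrix.of n) i x) = b * D := by
        intro i
        have := hgen (Function.update n i x) (by
          intro j
          by_cases hj : j = i
          · subst hj; simpa using hx
          · simpa [Function.update_of_ne hj] using hn j)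
        rw [Ideal.mem_span_singleton'] at this
        obtain ⟨b, hb⟩ := this
        exact ⟨b, by rw [hb]; rfl⟩
      choose b hb using hc
      have hcr : D • x = ∑ i, (Matrix.det (Matrix.updateRow (Matrix.of n) i x)) • n i := by
        have h1 := Matrix.mulVec_cramer (Matrix.of n).transpose x
        rw [Matrix.det_transpose] at h1
        rw [hD, ← h1]
        ext j
        simp only [Matrix.mulVec, dotProduct, Matrix.transpose_apply, Matrix.of_apply,
          Finset.sum_apply, Pi.smul_apply, smul_eq_mul, Matrix.cramer_transpose_apply]
        exact Finset.sum_congr rfl fun i _ => mul_comm _ _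
      have hx' : x = ∑ i, b i • n i := by
        ext j
        have h1 := congrFun hcr j
        simp only [Pi.smul_apply, smul_eq_mul, Finset.sum_apply, hb] at h1
        have h2 : D * x j = D * ((∑ i, b i • n i) j) := by
          rw [h1, Finset.sum_apply, Finset.mul_sum]
          exact Finset.sum_congr rfl fun i _ => by simp only [Pi.smul_apply, smul_eq_mul]; ring
        exact (mul_cancel_left_mem_nonZeroDivisors hnzd).1 h2
      rw [hx']
      exact Submodule.sum_mem _ fun i _ => Submodule.smul_mem _ _ (Submodule.subset_span ⟨i, rfl⟩)

end Groth.Agent.S17882
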