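import Groth.Statements.S17883
import Groth.Agent.FlatMor.K264.ExtendLF

set_option autoImplicit false
universe u v
open CategoryTheory AlgebraicGeometry
open FlatMor

namespace Groth.Agent.S17883

/-- Let S be a Noetherian scheme and f : X → S a separated morphism of finite type, and let (E_i) be a
finite family of finite locally free O_X-modules. Then there exist a scheme X', an open immersion j
: X → X' with schematically dense image (scheme-theoretically dominant and quasi-compact) and a
proper morphism g : X' → S with j ≫ g = f, and for each i a finite locally free module E'_i on X'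
whose pullback along j is isomorphic to E_i. For the empty family this is Nagata's embedding into a
proper S-scheme with schematically dense image. -/
theorem result {S X : Scheme.{u}} (f : X ⟶ S)
    [IsNoetherian S] [IsSeparated f] [QuasiCompact f] [LocallyOfFiniteType f]
    {ι : Type v} [Finite ι] (E : ι → X.Modules) (hE : ∀ i, FlatMod.IsFinLocFree (E i)) :
    ∃ (X' : Scheme.{u}) (j : X ⟶ X') (g : X' ⟶ S), IsOpenImmersion j ∧ QuasiCompact j ∧
      IsSchemeTheoreticallyDominant j ∧ IsProper g ∧ j ≫ g = f ∧
      ∀ i, ∃ E' : X'.Modules, FlatMod.IsFinLocFree E' ∧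
        Nonempty ((Scheme.Modules.pullback j).obj E' ≅ E i) := by
  have hQC : QuasiCompact f := inferInstance
  obtain ⟨Y₀, j₀, g₀, hj₀, -, hg₀, hjg₀⟩ := Groth.Agent.S0384.result f
  have hl₀ : IsLocallyNoetherian Y₀ := LocallyOfFiniteType.isLocallyNoetherian g₀
  have hcp₀ : CompactSpace Y₀ := QuasiCompact.compactSpace_of_compactSpace g₀
  have hn₀ : IsNoetherian Y₀ := {}
  obtain ⟨Y, j, b, hN, hj, hb, hQ, hjb, -, hE'⟩ := K264.ExtendLF.exists_family j₀ g₀ (fun h => IsProper h)
    (fun T T' b h 𝓘 _ hb hft hh => by
      have := Groth.Agent.Flat2C.BlowProper.isProper_of_isBlowUp hb hft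
      exact inferInstance) hg₀ E hE
  obtain ⟨Z, k, c, hc, hk, hkq, hkd, hkc, hE''⟩ := K264.ExtendLF.exists_dominant j (b ≫ g₀) E hE'
  refine ⟨Z, k, c ≫ b ≫ g₀, hk, hkq, hkd, inferInstance, ?_, hE''⟩
  rw [← Category.assoc, hkc, ← Category.assoc, hjb, hjg₀]

end Groth.Agent.S17883
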