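import Groth.Statements.S17887
import Groth.Agent.BlowUp.K484.StalkAux
import Groth.Agent.Divis.CartierCompl
import Groth.Agent.Divis.BlowUpFormal
import Groth.Agent.Divis.MapOpen

set_option autoImplicit false
universe u
open CategoryTheory AlgebraicGeometry
open BlowUp

namespace Groth.Agent.S17887

/-- Let X be a Noetherian scheme, U ⊆ X an open subscheme that is schematically dense in X, I a
quasi-coherent ideal sheaf on X whose support does not meet U, and π : X' → X a blowing-up of X
along I. Then π⁻¹(U) is schematically dense in X'. -/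
theorem result {X X' : Scheme.{u}} [IsNoetherian X]
    (U : X.Opens) [IsSchemeTheoreticallyDominant U.ι] (𝓘 : X.IdealSheafData)
    (hU : Disjoint (𝓘.support : Set X) (U : Set X)) (π : X' ⟶ X) (hπ : BlowUp.IsBlowUp π 𝓘) :
    IsSchemeTheoreticallyDominant (π ⁻¹ᵁ U).ι := by
  let V : X.Opens := 𝓘.support.compl
  have hUV : U ≤ V := fun x hx hx' => Set.disjoint_left.1 hU hx' hx
  have hisoV : IsIso (π ∣_ V) :=
    Groth.Agent.Divis.BlowUpFormal.isIso_morphismRestrict_compl_support hπ _ disjoint_compl_left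
  have hisoU : IsIso (π ∣_ U) :=
    Groth.Agent.Divis.BlowUpFormal.isIso_morphismRestrict_compl_support hπ _ hU.symm
  have hle : π ⁻¹ᵁ U ≤ π ⁻¹ᵁ V := fun x hx => hUV hx
  have hdV : IsSchemeTheoreticallyDominant (π ⁻¹ᵁ V).ι := by
    have h1 : π ⁻¹ᵁ V = (𝓘.comap π).support.compl := by
      ext x
      exact (not_congr (K484.StalkAux.mem_support_comap_iff 𝓘 π x)).symm
    rw [h1]
    exact Groth.Agent.Divis.CartierCompl.isSchemeTheoreticallyDominant_compl hπ.1
  have hdUV : IsSchemeTheoreticallyDominant (X.homOfLE hUV) := by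
    have h1 : (X.homOfLE hUV ≫ V.ι).ker = ⊥ := by
      rw [Scheme.homOfLE_ι]
      exact U.ι.ker_eq_bot
    rw [Scheme.Hom.ker_comp] at h1
    have h2 := Groth.Agent.Divis.MapOpen.comap_map (X.homOfLE hUV).ker V.ι
    rw [h1] at h2
    refine ⟨?_⟩
    rw [← h2]
    apply Groth.Agent.Divis.CartierBasic.ext_stalkIdeal
    intro z
    rw [Groth.Agent.Divis.CartierStalk.stalkIdeal_comap, Groth.Agent.Divis.CartierBasic.stalkIdeal_bot,
      Groth.Agent.Divis.CartierBasic.stalkIdeal_bot, Ideal.map_bot]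
  have hd : IsSchemeTheoreticallyDominant (X'.homOfLE hle) := by
    have h1 : X'.homOfLE hle = (π ∣_ U) ≫ X.homOfLE hUV ≫ inv (π ∣_ V) := by
      rw [← Category.assoc, IsIso.eq_comp_inv, ← cancel_mono V.ι]
      simp [morphismRestrict_ι]
    rw [h1]
    infer_instance
  rw [← X'.homOfLE_ι hle]
  infer_instance

end Groth.Agent.S17887
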