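import Groth.Statements.S17897
import Groth.Agent.ValCrit.K937.Basic
-- import your own Groth.Agent.* helpers here

set_option autoImplicit false
universe u
open CategoryTheory AlgebraicGeometry
open ValCrit

namespace Groth.Agent.S17897

/-- Let f : Y → X be a morphism of schemes (not assumed separated), R a valuation ring with fraction
field K, and i : Spec K → Y, φ : Spec R → X with i ≫ f = (Spec K → Spec R) ≫ φ. Let y be the point
of Y hit by i and g : κ(y) → K the induced embedding, R' = g⁻¹(R) the induced valuation ring of κ(y)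
and ρ : R' → R the restriction of g. Then φ factors uniquely through Spec R → Spec R': there is a
unique φ' : Spec R' → X with (Spec ρ) ≫ φ' = φ whose restriction to the generic point Spec κ(y) is
the canonical morphism Spec κ(y) → Y followed by f. (Here y and g are given as data with Spec g
followed by Spec κ(y) → Y equal to i, and ρ as data by its defining equation.) -/
theorem result {X Y : Scheme.{u}} (f : Y ⟶ X)
    (K : Type u) [Field K] (R : ValuationSubring K)
    (i : Spec (CommRingCat.of K) ⟶ Y) (φ : Spec (CommRingCat.of ↥R) ⟶ X)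
    (w : Spec.map (CommRingCat.ofHom R.subtype) ≫ φ = i ≫ f)
    (y : Y) (g : Y.residueField y ⟶ CommRingCat.of K) (hg : Spec.map g ≫ Y.fromSpecResidueField y = i)
    (ρ : ↥(R.comap g.hom) →+* ↥R)
    (hρ : ∀ x : ↥(R.comap g.hom), ((ρ x : ↥R) : K) = g.hom (x : ↑(Y.residueField y))) :
    ∃! φ' : Spec (CommRingCat.of ↥(R.comap g.hom)) ⟶ X,
      Spec.map (CommRingCat.ofHom ρ) ≫ φ' = φ ∧
      Spec.map (CommRingCat.ofHom (R.comap g.hom).subtype) ≫ φ' = Y.fromSpecResidueField y ≫ f := by
  have hρl : IsLocalHom ρ := by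
    constructor
    intro x hx
    obtain ⟨z, hz⟩ := isUnit_iff_exists_inv.mp hx
    have h1 : g.hom (x : ↑(Y.residueField y)) * (z : K) = 1 := by
      rw [← hρ]
      exact_mod_cast congrArg (Subtype.val) hz
    have hx0 : (x : ↑(Y.residueField y)) ≠ 0 := by
      intro h0
      rw [h0, map_zero, zero_mul] at h1
      exact zero_ne_one h1
    have h2 : g.hom ((x : ↑(Y.residueField y))⁻¹) = z := by
      rw [map_inv₀]
      exact inv_eq_of_mul_eq_one_right h1
    have h3 : (x : ↑(Y.residueField y))⁻¹ ∈ R.comap g.hom := by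
      rw [ValuationSubring.mem_comap, h2]
      exact z.2
    refine isUnit_iff_exists_inv.mpr ⟨⟨_, h3⟩, ?_⟩
    apply Subtype.ext
    exact mul_inv_cancel₀ hx0
  -- the factorization of `φ` through the local scheme of `X` at the image `x₀` of the closed point
  obtain ⟨x₀, hx₀⟩ : ∃ x₀ : X, φ (IsLocalRing.closedPoint ↥R) = x₀ := ⟨_, rfl⟩
  obtain ⟨a, ha, -⟩ := K937.VC.exists_fac φ x₀ hx₀
  -- the morphism from the residue field
  have hiy : i (IsLocalRing.closedPoint K) = y := by
    rw [← hg]
    exact Scheme.fromSpecResidueField_apply y ((Spec.map g) (IsLocalRing.closedPoint K))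
  have hspec : f y ⤳ x₀ := by
    have h1 := K937.VC.comp_specializes R.subtype φ
    have h2 : (Spec.map (CommRingCat.ofHom R.subtype) ≫ φ) (IsLocalRing.closedPoint K) = f y := by
      have h3 : (Spec.map (CommRingCat.ofHom R.subtype) ≫ φ) (IsLocalRing.closedPoint K) =
        (i ≫ f) (IsLocalRing.closedPoint K) := by rw [w]
      rw [h3]
      show f (i (IsLocalRing.closedPoint K)) = _
      rw [hiy]
    rw [h2, hx₀] at h1
    exact h1
  obtain ⟨b, hb⟩ := K937.VC.exists_fac_residueField f y x₀ hspec
  have hab : b ≫ g = a ≫ CommRingCat.ofHom R.subtype := by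
    apply K937.VC.stalk_hom_ext
    rw [Spec.map_comp, Spec.map_comp, Category.assoc, Category.assoc, ha, w, ← hg, Category.assoc]
    congr 1
  have hab' : ∀ s, g.hom (b.hom s) = ((a.hom s : ↥R) : K) := fun s => by
    have := congrArg (fun t => t.hom s) hab
    simpa using this
  let a' : X.presheaf.stalk x₀ ⟶ CommRingCat.of ↥(R.comap g.hom) :=
    CommRingCat.ofHom (b.hom.codRestrict (R.comap g.hom).toSubring (fun s => by
      show g.hom (b.hom s) ∈ R
      rw [hab' s]
      exact (a.hom s).2))
  have ha' : ∀ s, ((a'.hom s : ↥(R.comap g.hom)) : ↑(Y.residueField y)) = b.hom s := fun s => rfl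
  have h1 : a' ≫ CommRingCat.ofHom ρ = a := by
    ext s
    show ((ρ (a'.hom s) : ↥R) : K) = ((a.hom s : ↥R) : K)
    rw [hρ, ha', hab' s]
  have h2 : a' ≫ CommRingCat.ofHom (R.comap g.hom).subtype = b := by
    ext s
    rfl
  refine ⟨Spec.map a' ≫ X.fromSpecStalk x₀, ⟨?_, ?_⟩, ?_⟩
  · rw [← Category.assoc, ← Spec.map_comp, h1, ha]
  · rw [← Category.assoc, ← Spec.map_comp, h2]
    exact hb
  · rintro ψ ⟨hψ₁, hψ₂⟩
    apply K937.VC.hom_ext_valuationSubring (R.comap g.hom)
    · have e1 := K937.VC.comp_closedPoint ρ ψ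
      have e2 := K937.VC.comp_closedPoint ρ (Spec.map a' ≫ X.fromSpecStalk x₀)
      have e3 : Spec.map (CommRingCat.ofHom ρ) ≫ Spec.map a' ≫ X.fromSpecStalk x₀ = φ := by
        rw [← Category.assoc, ← Spec.map_comp, h1, ha]
      exact e1.symm.trans ((congrArg (fun z : Spec (CommRingCat.of ↥R) ⟶ X =>
        z (IsLocalRing.closedPoint ↥R)) (hψ₁.trans e3.symm)).trans e2)
    · rw [hψ₂, ← Category.assoc, ← Spec.map_comp, h2]
      exact hb.symm

end Groth.Agent.S17897
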