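import Groth.Statements.S17898
import Groth.Agent.ValCrit.K937.Basic
import Mathlib.RingTheory.LocalRing.RingHom.Basic
-- import your own Groth.Agent.* helpers here

set_option autoImplicit false
universe u
open CategoryTheory AlgebraicGeometry
open ValCrit

namespace Groth.Agent.S17898

/-- Let f : Y → X be a morphism of schemes (not assumed separated), K a field with valuation rings R ⊆
R' (inclusion ι), i : Spec K → Y and φ : Spec R → X a commutative square over f, and g : Spec R' → Y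
a lift of Spec R' → Spec R → X restricting to i on Spec K. Let K̃ be the residue field of R', R̃ ⊆
K̃ the image of R (a valuation ring of K̃) with the surjection σ : R → R̃. Then every h̃ : Spec R̃ →
Y whose restriction to Spec K̃ is Spec K̃ → Spec R' → Y (via g) and which lies over Spec R̃ → Spec R
→ X is induced by a unique h : Spec R → Y compatible with the whole diagram: h restricts to i on
Spec K, lies over φ, restricts to g along Spec R' → Spec R and to h̃ along Spec R̃ → Spec R. (ι, R̃,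
σ are given as data pinned by their defining equations.) -/
theorem result {X Y : Scheme.{u}} (f : Y ⟶ X)
    (K : Type u) [Field K] (R R' : ValuationSubring K) (hRR' : R ≤ R')
    (ι : ↥R →+* ↥R') (hι : ∀ x : ↥R, ((ι x : ↥R') : K) = (x : K))
    (i : Spec (CommRingCat.of K) ⟶ Y) (φ : Spec (CommRingCat.of ↥R) ⟶ X)
    (w : Spec.map (CommRingCat.ofHom R.subtype) ≫ φ = i ≫ f)
    (g : Spec (CommRingCat.of ↥R') ⟶ Y) (hg₁ : Spec.map (CommRingCat.ofHom R'.subtype) ≫ g = i)
    (hg₂ : g ≫ f = Spec.map (CommRingCat.ofHom ι) ≫ φ)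
    (Rt : ValuationSubring (IsLocalRing.ResidueField ↥R')) (σ : ↥R →+* ↥Rt) (hσs : Function.Surjective σ)
    (hσ : ∀ x : ↥R, ((σ x : ↥Rt) : IsLocalRing.ResidueField ↥R') = IsLocalRing.residue ↥R' (ι x))
    (ht : Spec (CommRingCat.of ↥Rt) ⟶ Y)
    (hht₁ : Spec.map (CommRingCat.ofHom Rt.subtype) ≫ ht =
      Spec.map (CommRingCat.ofHom (IsLocalRing.residue ↥R')) ≫ g)
    (hht₂ : ht ≫ f = Spec.map (CommRingCat.ofHom σ) ≫ φ) :
    ∃! h : Spec (CommRingCat.of ↥R) ⟶ Y, Spec.map (CommRingCat.ofHom R.subtype) ≫ h = i ∧ h ≫ f = φ ∧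
      Spec.map (CommRingCat.ofHom ι) ≫ h = g ∧ Spec.map (CommRingCat.ofHom σ) ≫ h = ht := by
  have hσl : IsLocalHom σ := IsLocalHom.of_surjective σ hσs
  -- the point `x₀` and the factorization of `ht`
  obtain ⟨x₀, hx₀⟩ : ∃ x₀ : Y, ht (IsLocalRing.closedPoint ↥Rt) = x₀ := ⟨_, rfl⟩
  obtain ⟨c, hc, -⟩ := K937.VC.exists_fac ht x₀ hx₀
  have hspec : g (IsLocalRing.closedPoint ↥R') ⤳ x₀ := by
    have h1 := K937.VC.comp_specializes Rt.subtype ht
    have h2 := K937.VC.comp_closedPoint (IsLocalRing.residue ↥R') g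
    rw [hht₁] at h1
    rw [hx₀] at h1
    rw [← h2]
    exact h1
  obtain ⟨d, hd⟩ := K937.VC.exists_fac_of_specializes g x₀ hspec
  have hcd : c ≫ CommRingCat.ofHom Rt.subtype = d ≫ CommRingCat.ofHom (IsLocalRing.residue ↥R') := by
    apply K937.VC.stalk_hom_ext
    rw [Spec.map_comp, Spec.map_comp, Category.assoc, Category.assoc, hc, hd, hht₁]
  have hcd' : ∀ s, ((c.hom s : ↥Rt) : IsLocalRing.ResidueField ↥R') = IsLocalRing.residue ↥R' (d.hom s) :=
    fun s => by
      have := congrArg (fun t => t.hom s) hcd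
      simpa using this
  have hmax : ∀ x : ↥R', x ∈ IsLocalRing.maximalIdeal ↥R' → (x : K) ∈ R := by
    intro x hx
    rcases R.mem_or_inv_mem (x : K) with h | h
    · exact h
    · by_cases hx0 : (x : K) = 0
      · rw [hx0]; exact R.zero_mem
      · exfalso
        have hu : IsUnit x := by
          refine isUnit_iff_exists_inv.mpr ⟨⟨(x : K)⁻¹, hRR' h⟩, ?_⟩
          apply Subtype.ext
          exact mul_inv_cancel₀ hx0
        exact (IsLocalRing.mem_maximalIdeal _).mp hx hu
  have hmem : ∀ s, ((d.hom s : ↥R') : K) ∈ R := by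
    intro s
    obtain ⟨r, hr⟩ := hσs (c.hom s)
    have h1 : IsLocalRing.residue ↥R' (d.hom s - ι r) = 0 := by
      rw [map_sub, ← hcd', ← hr, hσ, sub_self]
    have h2 := hmax _ ((IsLocalRing.residue_eq_zero_iff _).mp h1)
    have h3 : ((d.hom s : ↥R') : K) = ((d.hom s - ι r : ↥R') : K) + (r : K) := by
      rw [← hι r]
      push_cast
      ring
    rw [h3]
    exact R.add_mem _ _ h2 r.2
  let a : Y.presheaf.stalk x₀ ⟶ CommRingCat.of ↥R :=
    CommRingCat.ofHom ((R'.subtype.comp d.hom).codRestrict R.toSubring hmem)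
  have ha : ∀ s, ((a.hom s : ↥R) : K) = ((d.hom s : ↥R') : K) := fun s => rfl
  have h1 : a ≫ CommRingCat.ofHom ι = d := by
    ext s
    show ((ι (a.hom s) : ↥R') : K) = ((d.hom s : ↥R') : K)
    rw [hι, ha]
  have h2 : a ≫ CommRingCat.ofHom σ = c := by
    ext s
    show ((σ (a.hom s) : ↥Rt) : IsLocalRing.ResidueField ↥R') = ((c.hom s : ↥Rt) : IsLocalRing.ResidueField ↥R')
    rw [hσ, hcd']
    congr 1
    exact congrArg (fun t => t.hom s) h1
  have h3 : CommRingCat.ofHom R.subtype = CommRingCat.ofHom ι ≫ CommRingCat.ofHom R'.subtype := by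
    ext x
    exact (hι x).symm
  have e1 : Spec.map (CommRingCat.ofHom ι) ≫ Spec.map a ≫ Y.fromSpecStalk x₀ = g := by
    rw [← Category.assoc, ← Spec.map_comp, h1, hd]
  have e2 : Spec.map (CommRingCat.ofHom σ) ≫ Spec.map a ≫ Y.fromSpecStalk x₀ = ht := by
    rw [← Category.assoc, ← Spec.map_comp, h2, hc]
  have e3 : Spec.map (CommRingCat.ofHom R.subtype) ≫ Spec.map a ≫ Y.fromSpecStalk x₀ = i := by
    rw [h3, Spec.map_comp, Category.assoc, e1, hg₁]
  have hclosed : ∀ (Z : Scheme.{u}) (u v : Spec (CommRingCat.of ↥R) ⟶ Z),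
      Spec.map (CommRingCat.ofHom σ) ≫ u = Spec.map (CommRingCat.ofHom σ) ≫ v →
      u (IsLocalRing.closedPoint ↥R) = v (IsLocalRing.closedPoint ↥R) := by
    intro Z u v huv
    have e1 := K937.VC.comp_closedPoint σ u
    have e2 := K937.VC.comp_closedPoint σ v
    exact e1.symm.trans ((congrArg (fun z : Spec (CommRingCat.of ↥Rt) ⟶ Z =>
        z (IsLocalRing.closedPoint ↥Rt)) huv).trans e2)
  refine ⟨Spec.map a ≫ Y.fromSpecStalk x₀, ⟨e3, ?_, e1, e2⟩, ?_⟩
  · apply K937.VC.hom_ext_valuationSubring R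
    · apply hclosed
      rw [← hht₂, ← e2]
      simp only [Category.assoc]
    · rw [w, ← e3]
      simp only [Category.assoc]
  · rintro ψ ⟨hψ₁, -, -, hψ₄⟩
    apply K937.VC.hom_ext_valuationSubring R
    · apply hclosed
      rw [hψ₄, e2]
    · rw [hψ₁, e3]

end Groth.Agent.S17898
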