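import Groth.Statements.S17899
import Groth.Agent.CAlg.K70.SemiVal

set_option autoImplicit false
universe u
open TensorProduct
open CAlg

namespace Groth.Agent.S17899

/-- Let A be a local ring with residue field K, R a valuation ring of K and O ⊆ A the preimage of R
under A → K (so O is a semi-valuation ring with semi-fraction ring A, S = Spec O is glued from U =
Spec A and T = Spec R). Let C be an O-algebra of finite type which is U-admissible (C → A ⊗_O C
injective) and such that A ⊗_O C is flat and of finite presentation over A. Then C is flat and of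
finite presentation over O. (The published assertion is more general: the base may be any
quasi-compact quasi-separated U-admissible scheme over Spec O, and the scheme over it any
quasi-compact quasi-separated admissible scheme. This row is the case of an affine scheme over Spec
O itself, the case in which the published proof carries out its argument.) -/
theorem result
    (A : Type u) [CommRing A] [IsLocalRing A] (R : ValuationSubring (IsLocalRing.ResidueField A))
    (O : Subring A) (hO : O = R.toSubring.comap (IsLocalRing.residue A))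
    (C : Type u) [CommRing C] [Algebra ↥O C] [Algebra.FiniteType ↥O C]
    (hadm : Function.Injective (Algebra.TensorProduct.includeRight : C →ₐ[↥O] A ⊗[↥O] C))
    (hflat : Module.Flat A (A ⊗[↥O] C)) (hfp : Algebra.FinitePresentation A (A ⊗[↥O] C)) :
    Module.Flat ↥O C ∧ Algebra.FinitePresentation ↥O C := by
  have hmem : ∀ a : A, a ∈ O ↔ IsLocalRing.residue A a ∈ R := fun a ↦ by
    rw [hO]
    rfl
  let ρ : ↥O →+* IsLocalRing.ResidueField A := (IsLocalRing.residue A).comp O.subtype
  let 𝔪 : Ideal ↥O := RingHom.ker ρ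
  have h𝔪 : 𝔪.IsPrime := RingHom.ker_isPrime ρ
  have hm : ∀ x : ↥O, x ∈ 𝔪 ↔ IsLocalRing.residue A (x : A) = 0 := fun x ↦ Iff.rfl
  have hunit : ∀ x : ↥O, x ∉ 𝔪 → IsUnit (x : A) := by
    intro x hx
    by_contra h
    exact hx ((hm x).mpr ((IsLocalRing.residue_eq_zero_iff _).mpr h))
  have hdiv' : ∀ s : ↥O, s ∉ 𝔪 → ∀ x : A, (s : A) * x = 0 → x = 0 := by
    intro s hs x hx
    exact (hunit s hs).mul_right_eq_zero.mp hx
  -- divisibility
  have hdiv : ∀ s ∉ 𝔪, ∀ m ∈ 𝔪, ∃ m' ∈ 𝔪, m = s * m' := by
    intro s hs m hmm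
    obtain ⟨v, hv⟩ := hunit s hs
    have h1 : IsLocalRing.residue A (((v⁻¹ : Aˣ) : A) * m) = 0 := by
      rw [map_mul, (hm m).mp hmm, mul_zero]
    refine ⟨⟨((v⁻¹ : Aˣ) : A) * m, ?_⟩, (hm _).mpr h1, ?_⟩
    · rw [hmem, h1]
      exact R.zero_mem
    · apply Subtype.ext
      change (m : A) = (s : A) * (((v⁻¹ : Aˣ) : A) * m)
      rw [← hv, Units.mul_inv_cancel_left]
  have hOreg : ∀ s ∉ 𝔪, ∀ x : ↥O, s * x = 0 → x = 0 := by
    intro s hs x hx
    apply Subtype.ext
    exact hdiv' s hs x (congrArg Subtype.val hx)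
  -- `A` is the localization of `O` at `𝔪`
  have hloc : IsLocalization 𝔪.primeCompl A := by
    refine ⟨?_, ?_, ?_⟩
    · rintro ⟨s, hs⟩
      exact hunit s hs
    · intro a
      by_cases ha : IsLocalRing.residue A a ∈ R
      · refine ⟨(⟨a, (hmem a).mpr ha⟩, 1), ?_⟩
        simp only [OneMemClass.coe_one, map_one, mul_one]
        rfl
      · have h0 : IsLocalRing.residue A a ≠ 0 := fun h ↦ ha (by rw [h]; exact R.zero_mem)
        have hu : IsUnit a := by
          by_contra h
          exact h0 ((IsLocalRing.residue_eq_zero_iff _).mpr h)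
        obtain ⟨v, rfl⟩ := hu
        have h1 : IsLocalRing.residue A ((v⁻¹ : Aˣ) : A) = (IsLocalRing.residue A (v : A))⁻¹ := by
          rw [eq_comm, inv_eq_of_mul_eq_one_left]
          rw [← map_mul, Units.inv_mul, map_one]
        have h2 : ((v⁻¹ : Aˣ) : A) ∈ O := by
          rw [hmem, h1]
          exact (R.mem_or_inv_mem _).resolve_left ha
        have h3 : (⟨((v⁻¹ : Aˣ) : A), h2⟩ : ↥O) ∈ 𝔪.primeCompl := by
          intro h
          have h4 := (hm _).mp h
          change IsLocalRing.residue A ((v⁻¹ : Aˣ) : A) = 0 at h4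
          rw [h1] at h4
          exact inv_ne_zero h0 h4
        refine ⟨(1, ⟨_, h3⟩), ?_⟩
        rw [map_one]
        exact Units.mul_inv v
    · intro x y hxy
      exact ⟨1, by rw [Subtype.ext (hxy : (x : A) = y)]⟩
  -- `O ⧸ 𝔪` is a valuation ring
  have hval : ValuationRing (↥O ⧸ 𝔪) := by
    rw [ValuationRing.iff_dvd_total]
    refine ⟨fun a b ↦ ?_⟩
    obtain ⟨x, rfl⟩ := Ideal.Quotient.mk_surjective a
    obtain ⟨y, rfl⟩ := Ideal.Quotient.mk_surjective b
    have key : ∀ x y : ↥O, x ∉ 𝔪 → IsLocalRing.residue A (y : A) *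
        (IsLocalRing.residue A (x : A))⁻¹ ∈ R → Ideal.Quotient.mk 𝔪 x ∣ Ideal.Quotient.mk 𝔪 y := by
      intro x y hx hxy
      obtain ⟨v, hv⟩ := hunit x hx
      have h0 : IsLocalRing.residue A (x : A) ≠ 0 := fun h ↦ hx ((hm x).mpr h)
      have h1 : IsLocalRing.residue A ((v⁻¹ : Aˣ) : A) = (IsLocalRing.residue A (x : A))⁻¹ := by
        rw [eq_comm, inv_eq_of_mul_eq_one_left]
        rw [← map_mul, ← hv, Units.inv_mul, map_one]
      have h2 : (y : A) * ((v⁻¹ : Aˣ) : A) ∈ O := by
        rw [hmem, map_mul, h1]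
        exact hxy
      refine map_dvd (Ideal.Quotient.mk 𝔪) (Dvd.intro (⟨_, h2⟩ : ↥O) ?_)
      apply Subtype.ext
      change (x : A) * ((y : A) * ((v⁻¹ : Aˣ) : A)) = y
      rw [← hv, mul_left_comm, Units.mul_inv, mul_one]
    by_cases hx : x ∈ 𝔪
    · right
      rw [Ideal.Quotient.eq_zero_iff_mem.mpr hx]
      exact dvd_zero _
    by_cases hy : y ∈ 𝔪
    · left
      rw [Ideal.Quotient.eq_zero_iff_mem.mpr hy]
      exact dvd_zero _
    rcases R.mem_or_inv_mem (IsLocalRing.residue A (y : A) * (IsLocalRing.residue A (x : A))⁻¹)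
      with h | h
    · exact Or.inl (key x y hx h)
    · refine Or.inr (key y x hy ?_)
      rwa [mul_inv, inv_inv, mul_comm] at h
  have hC : ∀ s ∉ 𝔪, ∀ c : C, s • c = 0 → c = 0 := by
    intro s hs c hc
    apply hadm
    rw [map_zero]
    obtain ⟨v, hv⟩ := hunit s hs
    have h1 : (s : A) • ((1 : A) ⊗ₜ[↥O] c) = 0 := by
      have h2 : (s : A) • ((1 : A) ⊗ₜ[↥O] c) = (1 : A) ⊗ₜ[↥O] (s • c) := by
        rw [TensorProduct.tmul_smul]
        exact algebraMap_smul A s _
      rw [h2, hc, TensorProduct.tmul_zero]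
    have h3 := congrArg (fun x ↦ ((v⁻¹ : Aˣ) : A) • x) h1
    simp only [smul_smul, smul_zero] at h3
    rw [← hv, Units.inv_mul, one_smul] at h3
    exact h3
  have hfl : Module.Flat ↥O C := K70.SemiVal.flat (A := A) hdiv hOreg hC
  exact ⟨hfl, K70.SemiVal.finitePresentation (A := A) hdiv hOreg hC⟩

end Groth.Agent.S17899
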