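import Groth.Statements.S17902
import Mathlib.LinearAlgebra.Matrix.Charpoly.LinearMap
import Mathlib.Algebra.Module.LocalizedModule.Submodule
import Mathlib.RingTheory.Localization.BaseChange
import Mathlib.RingTheory.TensorProduct.Free
import Mathlib.RingTheory.OrzechProperty
import Mathlib.RingTheory.Spectrum.Prime.Topology
import Mathlib.RingTheory.FiniteType

set_option autoImplicit false
universe u
open CAlg

namespace Groth.Agent.S17902

/-- Nakayama at a prime, in the form used below. -/
theorem exists_notMem_smul_mem {A M : Type*} [CommRing A] [AddCommGroup M] [Module A M]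
    [Module.Finite A M] (N : Submodule A M) (p : Ideal A) [p.IsPrime]
    (h : ∃ g, g ∉ p ∧ ∀ x : M, g • x ∈ N ⊔ p • (⊤ : Submodule A M)) :
    ∃ g, g ∉ p ∧ ∀ x : M, g • x ∈ N := by
  obtain ⟨g, hg, hx⟩ := h
  let f : Module.End A (M ⧸ N) := g • LinearMap.id
  have hf : LinearMap.range f ≤ p • (⊤ : Submodule A (M ⧸ N)) := by
    rintro _ ⟨y, rfl⟩
    obtain ⟨y, rfl⟩ := Submodule.mkQ_surjective N y
    have h1 := Submodule.mem_map_of_mem (f := N.mkQ) (hx y)
    rw [Submodule.map_sup, Submodule.map_smul'', Submodule.map_top, Submodule.range_mkQ] at h1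
    have h2 : Submodule.map N.mkQ N = ⊥ := by simp
    rw [h2, bot_sup_eq] at h1
    exact h1
  obtain ⟨P, hmon, -, hcoeff, haev⟩ :=
    LinearMap.exists_monic_and_natDegree_eq_and_coeff_mem_pow_and_aeval_eq_zero A f p hf
  refine ⟨P.eval g, ?_, ?_⟩
  · intro hmem
    rw [Polynomial.eval_eq_sum_range, Finset.sum_range_succ, hmon.coeff_natDegree, one_mul] at hmem
    have h1 : ∑ i ∈ Finset.range P.natDegree, P.coeff i * g ^ i ∈ p := by
      refine Submodule.sum_mem _ fun i hi => ?_
      refine Ideal.mul_mem_right _ _ ?_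
      exact Ideal.pow_le_self (Nat.sub_ne_zero_of_lt (Finset.mem_range.1 hi)) (hcoeff i)
    have h2 : g ^ P.natDegree ∈ p := (Ideal.add_mem_iff_right _ h1).1 hmem
    exact hg (Ideal.IsPrime.mem_of_pow_mem inferInstance _ h2)
  · intro x
    have hpow : ∀ k : ℕ, f ^ k = (g ^ k) • (1 : Module.End A (M ⧸ N)) := by
      intro k
      change (g • (1 : Module.End A (M ⧸ N))) ^ k = _
      rw [smul_pow, one_pow]
    have h1 : Polynomial.aeval f P = (P.eval g) • (1 : Module.End A (M ⧸ N)) := by
      rw [Polynomial.aeval_eq_sum_range, Polynomial.eval_eq_sum_range, Finset.sum_smul]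
      refine Finset.sum_congr rfl fun i _ => ?_
      rw [hpow, smul_smul]
    rw [haev] at h1
    have h2 := LinearMap.congr_fun h1 (N.mkQ x)
    have h3 : N.mkQ ((P.eval g) • x) = 0 := by
      rw [map_smul]; exact h2.symm
    rwa [Submodule.mkQ_apply, Submodule.Quotient.mk_eq_zero] at h3

/-- A basis of a localization gives elements of the module generating near the point. -/
theorem exists_elements_of_basis_away {A M : Type*} [CommRing A] [AddCommGroup M] [Module A M]
    [Module.Finite A M] {n : ℕ} (g : A)
    (b : Module.Basis (Fin n) (Localization.Away g) (LocalizedModule (Submonoid.powers g) M)) :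
    ∃ (m : Fin n → M) (K : ℕ), ∀ x : M, g ^ K • x ∈ Submodule.span A (Set.range m) := by
  classical
  let f := LocalizedModule.mkLinearMap (Submonoid.powers g) M
  have h1 : ∀ j, ∃ x : M × Submonoid.powers g, x.2 • b j = f x.1 := fun j =>
    IsLocalizedModule.surj (Submonoid.powers g) f (b j)
  choose x hx using h1
  let m : Fin n → M := fun j => (x j).1
  let N : Submodule A M := Submodule.span A (Set.range m)
  have htop : Submodule.localized' (Localization.Away g) (Submonoid.powers g) f N = ⊤ := by
    rw [eq_top_iff, ← b.span_eq, Submodule.span_le]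
    rintro _ ⟨j, rfl⟩
    refine (Submodule.mem_localized' _ _ _ _ _).2 ⟨m j, Submodule.subset_span ⟨j, rfl⟩, (x j).2, ?_⟩
    rw [IsLocalizedModule.mk'_eq_iff]
    exact (hx j).symm
  have h2 : ∀ y : M, ∃ K : ℕ, g ^ K • y ∈ N := by
    intro y
    have hy : f y ∈ Submodule.localized' (Localization.Away g) (Submonoid.powers g) f N := by
      rw [htop]; trivial
    obtain ⟨z, hz, s, hs⟩ := (Submodule.mem_localized' _ _ _ _ _).1 hy
    rw [IsLocalizedModule.mk'_eq_iff] at hs
    have hs' : f z = f (s • y) := by rw [hs, LinearMap.map_smul_of_tower]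
    obtain ⟨c, hc⟩ := IsLocalizedModule.exists_of_eq (S := Submonoid.powers g) hs'
    obtain ⟨_, k, rfl⟩ := s
    obtain ⟨_, l, rfl⟩ := c
    refine ⟨l + k, ?_⟩
    have hc' : g ^ l • z = g ^ l • (g ^ k • y) := hc
    rw [pow_add, mul_smul, ← hc']
    exact N.smul_mem _ hz
  choose K hK using h2
  obtain ⟨S, hS⟩ := Module.Finite.fg_top (R := A) (M := M)
  refine ⟨m, S.sup K, fun y => ?_⟩
  have hle : (⊤ : Submodule A M) ≤ N.comap (LinearMap.lsmul A M (g ^ (S.sup K))) := by
    rw [← hS, Submodule.span_le]
    intro z hz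
    change g ^ (S.sup K) • z ∈ N
    obtain ⟨d, hd⟩ := Nat.exists_eq_add_of_le (Finset.le_sup (f := K) hz)
    rw [hd, add_comm, pow_add, mul_smul]
    exact N.smul_mem _ (hK z)
  exact hle (Submodule.mem_top : y ∈ ⊤)

/-- A basis of a localization gives a basis of further localizations. -/
theorem nonempty_basis_atPrime {A M : Type*} [CommRing A] [AddCommGroup M] [Module A M]
    {n : ℕ} (g : A) (q : Ideal A) [q.IsPrime] (hg : g ∉ q)
    (b : Module.Basis (Fin n) (Localization.Away g) (LocalizedModule (Submonoid.powers g) M)) :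
    Nonempty (Module.Basis (Fin n) (Localization.AtPrime q) (LocalizedModule q.primeCompl M)) := by
  let Ag := Localization.Away g
  let Aq := Localization.AtPrime q
  let Mg := LocalizedModule (Submonoid.powers g) M
  let Mq := LocalizedModule q.primeCompl M
  have hgu : IsUnit (algebraMap A Aq g) := IsLocalization.map_units Aq (⟨g, hg⟩ : q.primeCompl)
  let φ : Ag →+* Aq := IsLocalization.Away.lift g hgu
  let _ : Algebra Ag Aq := φ.toAlgebra
  have : IsScalarTower A Ag Aq := IsScalarTower.of_algebraMap_eq fun a => by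
    exact (IsLocalization.Away.lift_eq g hgu a).symm
  let _ : Module Ag Mq := Module.compHom Mq φ
  have : IsScalarTower Ag Aq Mq := ⟨fun x y z => by
    change (φ x * y) • z = φ x • (y • z)
    rw [mul_smul]⟩
  have : IsScalarTower A Ag Mq := ⟨fun x y z => by
    change φ (x • y) • z = x • (φ y • z)
    rw [Algebra.smul_def, map_mul]
    have : φ (algebraMap A Ag x) = algebraMap A Aq x := IsLocalization.Away.lift_eq g hgu x
    rw [this, mul_smul, algebraMap_smul]⟩
  have h1 : IsBaseChange Ag (LocalizedModule.mkLinearMap (Submonoid.powers g) M) :=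
    (isLocalizedModule_iff_isBaseChange (Submonoid.powers g) Ag _).1 inferInstance
  have h2 : IsBaseChange Aq (LocalizedModule.mkLinearMap q.primeCompl M) :=
    (isLocalizedModule_iff_isBaseChange q.primeCompl Aq _).1 inferInstance
  let h : Mg →ₗ[Ag] Mq := h1.lift (LocalizedModule.mkLinearMap q.primeCompl M)
  have hcomp : (h.restrictScalars A) ∘ₗ (LocalizedModule.mkLinearMap (Submonoid.powers g) M) =
      LocalizedModule.mkLinearMap q.primeCompl M := h1.lift_comp _
  have h3 : IsBaseChange Aq h := IsBaseChange.of_comp h1 (by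
    rw [hcomp]; exact h2)
  exact ⟨(Algebra.TensorProduct.basis Aq b).map h3.equiv⟩

/-- Let A be a commutative ring, M a finitely generated projective A-module, n a natural number and P a
finite set of prime ideals of A such that for every p in P there is g outside p with M_g free of
rank n over A_g. Then there exist n elements of M and an open subset U of Spec A containing P such
that for every prime q in U the images of these elements in M_q form a basis of M_q over A_q. (The
published conclusion is that the associated sheaf is free of rank n on some open neighbourhood of P;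
the form given here, with n global elements of M, is what its proof produces.) -/
theorem result (A : Type u) [CommRing A] (M : Type u) [AddCommGroup M] [Module A M]
    [Module.Finite A M] [Module.Projective A M] (n : ℕ) (P : Finset (PrimeSpectrum A))
    (hP : ∀ p ∈ P, ∃ g : A, g ∉ p.asIdeal ∧
      Nonempty (Module.Basis (Fin n) (Localization.Away g) (LocalizedModule (Submonoid.powers g) M))) :
    ∃ (s : Fin n → M) (U : Set (PrimeSpectrum A)), IsOpen U ∧ (∀ p ∈ P, p ∈ U) ∧
      ∀ q ∈ U,
        LinearIndependent (Localization.AtPrime q.asIdeal)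
            (fun j => LocalizedModule.mkLinearMap q.asIdeal.primeCompl M (s j)) ∧
          Submodule.span (Localization.AtPrime q.asIdeal)
            (Set.range fun j => LocalizedModule.mkLinearMap q.asIdeal.primeCompl M (s j)) = ⊤ := by
  classical
  -- the maximal elements of `P`
  let P' : Finset (PrimeSpectrum A) := P.filter fun p => ∀ q ∈ P, p ≤ q → q ≤ p
  have hP'P : ∀ p ∈ P', p ∈ P := fun p hp => (Finset.mem_filter.1 hp).1
  have hmax : ∀ p ∈ P, ∃ p' ∈ P', p ≤ p' := by
    intro p hp
    obtain ⟨p', hpp', hp'⟩ := P.exists_le_maximal hp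
    exact ⟨p', Finset.mem_filter.2 ⟨hp'.1, fun q hq h => hp'.2 hq h⟩, hpp'⟩
  -- separating elements
  have hsep : ∀ p ∈ P', ∃ e : A, e ∉ p.asIdeal ∧ ∀ q ∈ P', q ≠ p → e ∈ q.asIdeal := by
    intro p hp
    have h1 : ¬ (∏ q ∈ P'.erase p, q.asIdeal) ≤ p.asIdeal := by
      intro h
      obtain ⟨q, hq, hqp⟩ := (Ideal.IsPrime.prod_le p.isPrime).1 h
      have hq' := Finset.mem_erase.1 hq
      have h2 := (Finset.mem_filter.1 hq'.2).2 p (hP'P p hp) hqp
      exact hq'.1 (le_antisymm hqp h2)
    obtain ⟨e, he, hep⟩ := SetLike.not_le_iff_exists.1 h1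
    refine ⟨e, hep, fun q hq hqp => ?_⟩
    have h2 : (∏ q ∈ P'.erase p, q.asIdeal) ≤ q.asIdeal :=
      Ideal.prod_le_inf.trans (Finset.inf_le (Finset.mem_erase.2 ⟨hqp, hq⟩))
    exact h2 he
  choose! e he heq using hsep
  -- local generators
  have hloc : ∀ p ∈ P', ∃ (m : Fin n → M) (g : A), g ∉ p.asIdeal ∧
      ∀ x : M, g • x ∈ Submodule.span A (Set.range m) := by
    intro p hp
    obtain ⟨g, hg, ⟨b⟩⟩ := hP p (hP'P p hp)
    obtain ⟨m, K, hK⟩ := exists_elements_of_basis_away g b
    exact ⟨m, g ^ K, fun h => hg (p.isPrime.mem_of_pow_mem _ h), hK⟩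
  choose! m g hg hgm using hloc
  let s : Fin n → M := fun j => ∑ p ∈ P', e p • m p j
  let N : Submodule A M := Submodule.span A (Set.range s)
  -- generation near the maximal points
  have hgen' : ∀ p ∈ P', ∃ h, h ∉ p.asIdeal ∧ ∀ x : M, h • x ∈ N := by
    intro p hp
    have := p.isPrime
    apply exists_notMem_smul_mem N p.asIdeal
    refine ⟨e p * g p, fun h => ?_, fun x => ?_⟩
    · rcases p.isPrime.mem_or_mem h with h | h
      · exact he p hp h
      · exact hg p hp h
    · rw [mul_smul]
      have key : ∀ y ∈ Submodule.span A (Set.range (m p)),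
          e p • y ∈ N ⊔ p.asIdeal • (⊤ : Submodule A M) := by
        intro y hy
        induction hy using Submodule.span_induction with
        | mem y hy =>
          obtain ⟨j, rfl⟩ := hy
          have h1 : e p • m p j = s j - ∑ q ∈ P'.erase p, e q • m q j := by
            simp only [s]
            rw [← Finset.add_sum_erase P' (fun q => e q • m q j) hp]
            abel
          rw [h1]
          refine Submodule.sub_mem _ (Submodule.mem_sup_left (Submodule.subset_span ⟨j, rfl⟩))
            (Submodule.mem_sup_right (Submodule.sum_mem _ fun q hq => ?_))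
          have hq' := Finset.mem_erase.1 hq
          exact Submodule.smul_mem_smul (heq q hq'.2 p hp hq'.1.symm) trivial
        | zero => rw [smul_zero]; exact zero_mem _
        | add y z _ _ hy hz => rw [smul_add]; exact add_mem hy hz
        | smul a y _ hy => rw [smul_comm]; exact Submodule.smul_mem _ _ hy
      exact key _ (hgm p hp x)
  have hgen : ∀ p ∈ P, ∃ h, h ∉ p.asIdeal ∧ ∀ x : M, h • x ∈ N := by
    intro p hp
    obtain ⟨p', hp', hle⟩ := hmax p hp
    obtain ⟨h, hh, hx⟩ := hgen' p' hp'
    exact ⟨h, fun hmem => hh (hle hmem), hx⟩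
  refine ⟨s, {q | (∃ h, h ∉ q.asIdeal ∧ ∀ x : M, h • x ∈ N) ∧ ∃ g : A, g ∉ q.asIdeal ∧
      Nonempty (Module.Basis (Fin n) (Localization.Away g)
        (LocalizedModule (Submonoid.powers g) M))}, ?_, fun p hp => ⟨hgen p hp, hP p hp⟩, ?_⟩
  · rw [Set.ofPred_and]
    refine IsOpen.inter ?_ ?_
    · have : {q : PrimeSpectrum A | ∃ h, h ∉ q.asIdeal ∧ ∀ x : M, h • x ∈ N} =
          ⋃ h : {h : A // ∀ x : M, h • x ∈ N}, (PrimeSpectrum.basicOpen h.1 : Set _) := by
        ext q
        simp only [Set.mem_ofPred_eq, Set.mem_iUnion, SetLike.mem_coe, PrimeSpectrum.mem_basicOpen]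
        constructor
        · rintro ⟨h, hh, hx⟩; exact ⟨⟨h, hx⟩, hh⟩
        · rintro ⟨⟨h, hx⟩, hh⟩; exact ⟨h, hh, hx⟩
      rw [this]
      exact isOpen_iUnion fun h => (PrimeSpectrum.basicOpen h.1).2
    · have : {q : PrimeSpectrum A | ∃ g : A, g ∉ q.asIdeal ∧
          Nonempty (Module.Basis (Fin n) (Localization.Away g)
            (LocalizedModule (Submonoid.powers g) M))} =
          ⋃ h : {g : A // Nonempty (Module.Basis (Fin n) (Localization.Away g)
            (LocalizedModule (Submonoid.powers g) M))}, (PrimeSpectrum.basicOpen h.1 : Set _) := by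
        ext q
        simp only [Set.mem_ofPred_eq, Set.mem_iUnion, SetLike.mem_coe, PrimeSpectrum.mem_basicOpen]
        constructor
        · rintro ⟨h, hh, hx⟩; exact ⟨⟨h, hx⟩, hh⟩
        · rintro ⟨⟨h, hx⟩, hh⟩; exact ⟨h, hh, hx⟩
      rw [this]
      exact isOpen_iUnion fun h => (PrimeSpectrum.basicOpen h.1).2
  · rintro q ⟨⟨h, hh, hx⟩, g, hg, ⟨b⟩⟩
    have := q.isPrime
    obtain ⟨B⟩ := nonempty_basis_atPrime g q.asIdeal hg b
    let f := LocalizedModule.mkLinearMap q.asIdeal.primeCompl M
    let Aq := Localization.AtPrime q.asIdeal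
    have hspan : Submodule.span Aq (Set.range fun j => f (s j)) = ⊤ := by
      rw [eq_top_iff]
      rintro y -
      obtain ⟨⟨x, t⟩, hxt⟩ := IsLocalizedModule.surj q.asIdeal.primeCompl f y
      -- `h • x ∈ N`
      have h1 : ∀ z ∈ N, f z ∈ Submodule.span Aq (Set.range fun j => f (s j)) := by
        intro z hz
        induction hz using Submodule.span_induction with
        | mem y hy => obtain ⟨j, rfl⟩ := hy; exact Submodule.subset_span ⟨j, rfl⟩
        | zero => rw [map_zero]; exact zero_mem _
        | add y z _ _ hy hz => rw [map_add]; exact add_mem hy hz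
        | smul a y _ hy =>
          rw [map_smul, ← algebraMap_smul Aq a (f y)]
          exact Submodule.smul_mem _ _ hy
      have h2 : (algebraMap A Aq (h * t)) • y ∈ Submodule.span Aq (Set.range fun j => f (s j)) := by
        rw [algebraMap_smul, mul_smul]
        have h3 : (t : A) • y = f x := hxt
        rw [h3, ← map_smul]
        exact h1 _ (hx x)
      have hu : IsUnit (algebraMap A Aq (h * t)) :=
        IsLocalization.map_units Aq (⟨h * t, fun hmem => by
          rcases q.isPrime.mem_or_mem hmem with h' | h'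
          · exact hh h'
          · exact t.2 h'⟩ : q.asIdeal.primeCompl)
      obtain ⟨u, hu⟩ := hu
      rw [← hu] at h2
      have h4 := Submodule.smul_mem _ ((u⁻¹ : Aqˣ) : Aq) h2
      rwa [smul_smul, Units.inv_mul, one_smul] at h4
    refine ⟨?_, hspan⟩
    let Φ : LocalizedModule q.asIdeal.primeCompl M →ₗ[Aq] LocalizedModule q.asIdeal.primeCompl M :=
      B.constr Aq (fun j => f (s j))
    have hΦ : Function.Surjective Φ := by
      rw [← LinearMap.range_eq_top, Module.Basis.constr_range]
      exact hspan
    have : Module.Finite Aq (LocalizedModule q.asIdeal.primeCompl M) := Module.Finite.of_basis B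
    have hinj : Function.Injective Φ := OrzechProperty.injective_of_surjective_endomorphism Φ hΦ
    have h5 := B.linearIndependent.map' Φ (LinearMap.ker_eq_bot.2 hinj)
    have h6 : Φ ∘ B = fun j => f (s j) := by
      ext j
      exact B.constr_basis Aq _ j
    rw [h6] at h5
    exact h5

end Groth.Agent.S17902
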