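import Groth.Statements.S17905
import Groth.Agent.Pinch.K838.RSBC
import Groth.Agent.Pinch.K838.Coker

set_option autoImplicit false
universe u
open CategoryTheory AlgebraicGeometry
open Pinch

namespace Groth.Agent.S17905

/-- Let S be a scheme and Z → X, Z → Z', X → X', Z' → X' a commutative square of S-schemes which is a
pushout square in the category of ringed spaces, with Z → X and Z' → X' closed immersions, X → X'
affine, Z → Z' finite, flat and surjective, and X, Z, Z' flat over S. Suppose that for every T → S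
the map O_T → (f_T)_* O_{X_T} induced by the base change f_T : X_T → T of X → S is an isomorphism.
Then for every T → S the map O_T → (f'_T)_* O_{X'_T} induced by the base change of X' → S is an
isomorphism. (The published lemma is stated for the pinching of a finite surjective Z → Z' whose
fibres lie in affine opens of X, with X → S admitting a section; this row assumes X → X' only affine
and drops the affine-fibre and section conditions, which the printed proof does not use.) -/
theorem result {S X Z Z' X' : Scheme.{u}}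
    (fX : X ⟶ S) (fZ' : Z' ⟶ S) (fX' : X' ⟶ S) (ι : Z ⟶ X) (q : Z ⟶ Z') (π : X ⟶ X') (ι' : Z' ⟶ X')
    [IsClosedImmersion ι] [IsClosedImmersion ι'] [IsFinite q] [Flat q] [Surjective q] [IsAffineHom π]
    (hq : q ≫ fZ' = ι ≫ fX) (hπ : π ≫ fX' = fX) (hι' : ι' ≫ fX' = fZ')
    (hpo : IsPushout ((Scheme.forgetToLocallyRingedSpace ⋙ LocallyRingedSpace.forgetToSheafedSpace).map ι) ((Scheme.forgetToLocallyRingedSpace ⋙ LocallyRingedSpace.forgetToSheafedSpace).map q)
      ((Scheme.forgetToLocallyRingedSpace ⋙ LocallyRingedSpace.forgetToSheafedSpace).map π) ((Scheme.forgetToLocallyRingedSpace ⋙ LocallyRingedSpace.forgetToSheafedSpace).map ι'))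
    [Flat fX] [Flat (ι ≫ fX)] [Flat fZ']
    (hX : ∀ (T : Scheme.{u}) (g : T ⟶ S) (U : T.Opens), IsIso ((Limits.pullback.snd fX g).app U))
    (T : Scheme.{u}) (g : T ⟶ S) (U : T.Opens) :
    IsIso ((Limits.pullback.snd fX' g).app U) := by
  have h := K838.RSBC.isFerr_baseChange fX fZ' fX' ι q π ι' hq hπ hι'
    (K838.RSPush.isFerr_of_isPushout_RS hpo) g
  set i' := ((Over.pullback g).map (Over.homMk ι rfl : Over.mk (ι ≫ fX) ⟶ Over.mk fX)).left
  set j' := ((Over.pullback g).map (Over.homMk q hq : Over.mk (ι ≫ fX) ⟶ Over.mk fZ')).left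
  set a' := ((Over.pullback g).map (Over.homMk π hπ : Over.mk fX ⟶ Over.mk fX')).left
  set b' := ((Over.pullback g).map (Over.homMk ι' hι' : Over.mk fZ' ⟶ Over.mk fX')).left
  have ha : a' ≫ Limits.pullback.snd fX' g = Limits.pullback.snd fX g :=
    K838.OverPull.snd_map g (Over.homMk π hπ : Over.mk fX ⟶ Over.mk fX')
  have hqT := K838.OverPull.isPullback_map g (Over.homMk q hq : Over.mk (ι ≫ fX) ⟶ Over.mk fZ')
  have : Flat j' := MorphismProperty.of_isPullback (P := @Flat) hqT ‹Flat q›
  have : Surjective j' := MorphismProperty.of_isPullback (P := @Surjective) hqT ‹Surjective q›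
  set f' := Limits.pullback.snd fX' g
  have hiso := hX T g U
  rw [← ha] at hiso
  have hiso' : Function.Bijective ((a' ≫ f').app U) := ConcreteCategory.bijective_of_isIso _
  have hcomp : ∀ t, (a' ≫ f').app U t = a'.app (f' ⁻¹ᵁ U) (f'.app U t) := fun t => by
    rw [Scheme.Hom.comp_app]
    rfl
  obtain ⟨h1, h2⟩ := (K838.Ferr.secSq_iff h.w _).mp (h.sec (f' ⁻¹ᵁ U))
  rw [ConcreteCategory.isIso_iff_bijective]
  constructor
  · intro t t' htt'
    apply hiso'.1
    rw [hcomp, hcomp]
    exact congrArg (a'.app (f' ⁻¹ᵁ U)) htt'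
  · intro r
    obtain ⟨t, ht⟩ := hiso'.2 (a'.app (f' ⁻¹ᵁ U) r)
    refine ⟨t, h2 _ _ ?_ ?_⟩
    · rw [← ht, hcomp]
    · apply K838.Coker.appLE_injective j' (K838.Ferr.preimage_eq h.w (f' ⁻¹ᵁ U))
        (K838.Ferr.preimage_eq h.w (f' ⁻¹ᵁ U)).le
      have w := K838.Ferr.sec_w h.w (f' ⁻¹ᵁ U) (K838.Ferr.preimage_eq h.w (f' ⁻¹ᵁ U)).le
      have w' := fun r => ConcreteCategory.congr_hom w r
      refine (w' _).symm.trans (Eq.trans ?_ (w' _))
      change i'.app _ (a'.app _ _) = i'.app _ (a'.app _ _)
      rw [← ht, hcomp]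

end Groth.Agent.S17905
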