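import Groth.Statements.S17908
import Groth.Agent.BigSite.K186.BigPush

set_option autoImplicit false
universe u
open BigSite

namespace Groth.Agent.S17908

open CategoryTheory AlgebraicGeometry in
/-- Let g : X → S be an affine morphism of schemes and M a quasi-coherent module over the structure
sheaf of the big fppf site of X (quasi-coherence in the sense of modules on a site: locally on every
object a cokernel of a map between free modules). Then the pushforward g_*M to the big fppf site of
S, whose sections over V → S are M(V ×_S X → X), is a quasi-coherent module. (The published lemma
also identifies g_*M with the module attached to the pushforward of the associated quasi-coherent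
sheaf on the small site; only the quasi-coherence of g_*M is stated here. Quasi-compact
quasi-separated g does not suffice on big sites.) -/
theorem result {S X : Scheme.{u}} (g : X ⟶ S) [IsAffineHom g]
    (M : BigSite.Mod Scheme.fppfPrecoverage X) [M.IsQuasicoherent] :
    ((BigSite.pushMod Scheme.fppfPrecoverage g).obj M).IsQuasicoherent := by
  have h : BigSite.OSh (Scheme.precoverage K186.Big.Qf.{u}) :=
    inferInstanceAs (BigSite.OSh Scheme.fppfPrecoverage.{u})
  have hM : M.IsQuasicoherent := inferInstance
  exact @K186.Big.isQuasicoherent_pushMod K186.Big.Qf.{u} _ h S X g _ M hM

end Groth.Agent.S17908
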