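import Groth.Statements.S17909
import Groth.Agent.PolLaw.K944.Extend

set_option autoImplicit false
universe u
open scoped TensorProduct
open PolLaw

namespace Groth.Agent.S17909

/-- Affine-free form, stated through the universal property of the norm module. Let R → R' be a
commutative algebra, free of finite rank as an R-module; let Q be a commutative R-algebra and Q' a
commutative ring under both Q and R' which is their pushout over R; let M' be an R'-module and f :
M' → M'' an R'-linear map into a Q'-module that exhibits M'' as Q' ⊗_{R'} M'. Let (N, ν) be a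
universal normic pair for M' over R (ν a polynomial law M' → N over R with ν(x · m) = norm(x) · ν(m)
over every commutative test ring, through which every normic law factors by a unique linear map) and
(N'', ν'') a universal normic pair for M'' over Q. Then there is an R-linear map u : N → N'' which
is compatible with the two laws over every commutative Q-algebra P, in the sense ν''_P (p ⊗ f m) =
(p ⊗ u)(ν_P (p ⊗ m)), and whose Q-linear extension Q ⊗_R N → N'' is an isomorphism (N'' is the base
change of N along R → Q via u). (The published statements are for the norm modules constructed from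
divided powers, for a finite locally free extension of constant rank; here the extension is free
over an affine base and the norm modules enter through their universal property.) -/
theorem result {R R' Q Q' : Type u} [CommRing R] [CommRing R'] [Algebra R R']
    [CommRing Q] [Algebra R Q] [CommRing Q'] [Algebra R Q'] [Algebra Q Q'] [Algebra R' Q']
    [IsScalarTower R Q Q'] [IsScalarTower R R' Q'] [Algebra.IsPushout R R' Q Q']
    [Module.Free R R'] [Module.Finite R R']
    {M' : Type u} [AddCommGroup M'] [Module R M'] [Module R' M'] [IsScalarTower R R' M']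
    {M'' : Type u} [AddCommGroup M''] [Module R M''] [Module R' M''] [Module Q M''] [Module Q' M'']
    [IsScalarTower R R' M''] [IsScalarTower R Q M''] [IsScalarTower R' Q' M''] [IsScalarTower Q Q' M'']
    (f : M' →ₗ[R'] M'') (hf : IsBaseChange Q' f)
    {N : Type u} [AddCommGroup N] [Module R N] (ν : M' →ₚₗ[R] N) (hν : PolLaw.IsUnivNormic R' ν)
    {N'' : Type u} [AddCommGroup N''] [Module R N''] [Module Q N''] [IsScalarTower R Q N'']
    (ν'' : M'' →ₚₗ[Q] N'') (hν'' : PolLaw.IsUnivNormic Q' ν'') :
    ∃ u : N →ₗ[R] N'',
      (∀ (P : Type u) [CommRing P] [Algebra R P] [Algebra Q P] [IsScalarTower R Q P] (m : P ⊗[R] M'),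
          ν''.toFun' P (PolLaw.bcAlong (f.restrictScalars R) P m) = PolLaw.bcAlong u P (ν.toFun' P m)) ∧
      IsBaseChange Q u := by
  have hf' : IsBaseChange Q (f.restrictScalars R) := K944.PolLaw.isBaseChange_restrict f hf
  obtain ⟨u, hu, -⟩ := hν.2 N'' (K944.PolLaw.descend ν'' (f.restrictScalars R))
    (K944.PolLaw.descend_isNormic (Q' := Q') f ν'' hν''.1)
  have hu' : ∀ (S : Type u) [CommSemiring S] [Algebra R S] (x : S ⊗[R] M'),
      u.lTensor S (ν.toFun' S x) = (K944.PolLaw.descend ν'' (f.restrictScalars R)).toFun' S x := by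
    intro S _ _ x
    exact congrArg (fun F => F.toFun' S x) hu
  have h1 : ∀ (P : Type u) [CommRing P] [Algebra R P] [Algebra Q P] [IsScalarTower R Q P] (m : P ⊗[R] M'),
      ν''.toFun' P (PolLaw.bcAlong (f.restrictScalars R) P m) = PolLaw.bcAlong u P (ν.toFun' P m) := by
    intro P _ _ _ _ m
    rw [← K944.PolLaw.bcAlong_descend, ← hu', K944.PolLaw.bcAlong_id_lTensor]
  refine ⟨u, h1, ?_⟩
  have main : ∀ (E : Type u) [AddCommGroup E] [Module R E] [Module Q E] [IsScalarTower R Q E] (g : N →ₗ[R] E),
      ∃! g' : N'' →ₗ[Q] E, (g'.restrictScalars R).comp u = g := by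
    intro E _ _ _ _ g
    have hn := K944.PolLaw.extend_isNormic (Q' := Q') f hf' ν hν.1 g
    obtain ⟨φ, hφ, hφ'⟩ := hν''.2 E (K944.PolLaw.extend hf' ν g) hn
    refine ⟨φ, ?_, ?_⟩
    · -- uniqueness for `ν`
      have hgn : PolLaw.IsNormic R' (PolLaw.postcomp g ν) := by
        intro P _ _ x m
        change g.lTensor P (ν.toFun' P _) = _ • g.lTensor P (ν.toFun' P m)
        rw [hν.1]
        exact (g.baseChange P).map_smul _ _
      obtain ⟨h, _, hh⟩ := hν.2 E (PolLaw.postcomp g ν) hgn
      refine (hh _ ?_).trans (hh g rfl).symm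
      refine K944.PolLaw.law_ext fun S _ _ x => ?_
      change ((φ.restrictScalars R).comp u).lTensor S (ν.toFun' S x) = g.lTensor S (ν.toFun' S x)
      rw [LinearMap.lTensor_comp, LinearMap.comp_apply, hu', K944.PolLaw.descend_apply,
        ← K944.PolLaw.back_lTensor]
      have e1 : ∀ y, φ.lTensor (Q ⊗[R] S) (ν''.toFun' (Q ⊗[R] S) y) =
          (K944.PolLaw.extend hf' ν g).toFun' (Q ⊗[R] S) y := by
        intro y
        exact congrArg (fun F => F.toFun' (Q ⊗[R] S) y) hφ
      rw [e1, K944.PolLaw.extend_bcAlong, ← PolynomialLaw.isCompat_apply', K944.PolLaw.back_bcAlong_incl]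
    · intro φ' hφ''
      apply hφ'
      refine K944.PolLaw.law_ext fun P _ _ y => ?_
      let i3 : Algebra R P := K944.PolLaw.algOf R Q P
      have i4 : IsScalarTower R Q P := K944.PolLaw.towOf R Q P
      obtain ⟨m, rfl⟩ := (K944.PolLaw.bcAlong_bijective (P := P) hf').2 y
      change φ'.lTensor P (ν''.toFun' P _) = _
      rw [h1, K944.PolLaw.extend_bcAlong, ← K944.PolLaw.bcAlong_comp]
      congr 2
  refine IsBaseChange.of_lift_unique _ fun E i1 i2 i3 i4 g => ?_
  exact @main E (Module.addCommMonoidToAddCommGroup R) i2 i3 i4 g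

end Groth.Agent.S17909
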