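import Groth.Statements.S17913
import Groth.Agent.Gerb.K895.TwoMor

set_option autoImplicit false
universe u
open CategoryTheory AlgebraicGeometry
open Gerb

namespace Groth.Agent.S17913

/-- Let S be a scheme, 𝒳 and 𝒴 gerbes over the big fppf site of schemes over S, φ : 𝒳 → 𝒴 and ψ : 𝒴 → 𝒳
functors over Sch_S, and x an object of 𝒳 over S itself such that φ is surjective on automorphism
groups along x: for every object x' of 𝒳 admitting a morphism to x (every pullback of x), every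
automorphism of φ(x') over the identity is φ(α) for some automorphism α of x' over the identity. Let
g : ψ(φ(x)) → x be an isomorphism lying over the identity such that conjugation by g after ψ ∘ φ is
the identity of the automorphism sheaf of x: whenever c : x' → x is a morphism of 𝒳 and g' :
ψ(φ(x')) → x' is the morphism over the identity with ψ(φ(c)) ≫ g = g' ≫ c, every automorphism α of
x' over the identity satisfies ψ(φ(α)) ≫ g' = g' ≫ α. Then φ ∘ ψ is isomorphic to the identity on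
every fibre of 𝒴: there are isomorphisms σ_z : φ(ψ(z)) → z for all objects z of 𝒴, lying over
identities and natural in morphisms lying over identities, so that φ and ψ are mutually
quasi-inverse on every fibre. (The published corollary does not assume that φ is surjective on
automorphism groups; its proof uses that φ is full, and without that hypothesis the conclusion fails
— take for 𝒳 the base category over itself, for 𝒴 the gerbe of torsors under the group of order two,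
for φ the trivial torsor and for ψ the structure functor. The published corollary also concludes
that ψ ∘ φ is isomorphic to the identity on every fibre of 𝒳; that part follows from the hypotheses
on g alone and is stated separately.) -/
theorem result (S : Scheme.{u}) (𝒳 𝒴 : AlgSt.Cat S)
    (h𝒳 : Gerb.IsGerbe (QuotSh.J Scheme.fppfPrecoverage S) 𝒳)
    (h𝒴 : Gerb.IsGerbe (QuotSh.J Scheme.fppfPrecoverage S) 𝒴)
    (φ : 𝒳 ⥤ᵇ 𝒴) (ψ : 𝒴 ⥤ᵇ 𝒳) (x : 𝒳.obj) (hx : 𝒳.p.obj x = Over.mk (𝟙 S))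
    (hφ : ∀ (x' : 𝒳.obj) (c : x' ⟶ x), Function.Surjective (Gerb.autMap φ x'))
    (g : ψ.obj (φ.obj x) ⟶ x) [IsIso g] (hg : 𝒳.p.IsHomLift (𝟙 (𝒳.p.obj x)) g)
    (hconj : ∀ (x' : 𝒳.obj) (c : x' ⟶ x) (g' : ψ.obj (φ.obj x') ⟶ x'), 𝒳.p.IsHomLift (𝟙 (𝒳.p.obj x')) g' →
      ψ.map (φ.map c) ≫ g = g' ≫ c → ∀ α : Gerb.AutO x', ψ.map (φ.map α.hom.1) ≫ g' = g' ≫ α.hom.1) :
    ∃ σ : ∀ z : 𝒴.obj, φ.obj (ψ.obj z) ⟶ z,
      (∀ z, IsIso (σ z) ∧ 𝒴.p.IsHomLift (𝟙 (𝒴.p.obj z)) (σ z)) ∧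
      (∀ (z z' : 𝒴.obj) (f : z ⟶ z'), 𝒴.p.IsHomLift (𝟙 (𝒴.p.obj z)) f →
        φ.map (ψ.map f) ≫ σ z' = σ z ≫ f) := by
  have hfx := h𝒳.1.1
  have hfy := h𝒴.1.1
  have hT := Over.mkIdTerminal (X := S)
  have hgS : 𝒳.p.IsHomLift (𝟙 (Over.mk (𝟙 S))) g := by rw [← hx]; exact hg
  have hconj' : ∀ (y' : 𝒴.obj) (c : y' ⟶ φ.obj x) (g' : φ.obj (ψ.obj y') ⟶ y'),
      𝒴.p.IsHomLift (𝟙 (𝒴.p.obj y')) g' → φ.map (ψ.map c) ≫ φ.map g = g' ≫ c →
        ∀ α : Gerb.AutO y', φ.map (ψ.map α.hom.1) ≫ g' = g' ≫ α.hom.1 := by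
    intro y' c g' hg' e α
    -- lift the object `y'` to `𝒳`
    obtain ⟨x', c', hc'⟩ := K895.Fib.exists_lift hfx (hT.from (𝒴.p.obj y')) x hx
    have hcl := K895.Global.lift_terminal hT (φ.obj x) ((φ.w_obj x).trans hx) c rfl
    obtain ⟨i, hi, hi', ei, ei'⟩ := K895.Fib.exists_iso hfy (hT.from (𝒴.p.obj y')) c (φ.map c') hcl
      (K895.Fib.lift_map φ hc')
    have hx' : 𝒳.p.obj x' = 𝒴.p.obj y' := K895.Fib.obj_eq_of_lift_left hc'
    -- transport `α`
    obtain ⟨β, hβ⟩ := hφ x' c' (K895.Global.mkAut hfy (i.hom ≫ α.hom.1 ≫ i.inv) (by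
      rw [φ.w_obj, hx']
      exact K895.Fib.lift_id_comp hi (K895.Fib.lift_id_comp (K895.Global.autO_lift α) hi')))
    have hβ' : φ.map β.hom.1 = i.hom ≫ α.hom.1 ≫ i.inv := congrArg (fun t => t.hom.1) hβ
    obtain ⟨g'', hg'', eg''⟩ := K895.Fib.exists_fac hfx (𝟙 _) (hT.from (𝒴.p.obj y')) c'
      (ψ.map (φ.map c') ≫ g) hc' (K895.Fib.lift_eq (K895.Fib.lift_comp_id
        (K895.Fib.lift_map ψ (K895.Fib.lift_map φ hc')) hgS) (Category.id_comp _).symm)
    have h1 := hconj x' c' g'' (by rw [hx']; exact hg'') eg''.symm β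
    -- identify `g'` with the transport of `φ.map g''`
    have h2 : φ.map (ψ.map i.hom) ≫ g' = φ.map g'' ≫ i.hom := by
      refine K895.Fib.hom_unique hfy (𝟙 _) (hT.from (𝒴.p.obj y')) c hcl _ _
        (K895.Fib.lift_id_comp (K895.Fib.lift_map φ (K895.Fib.lift_map ψ hi)) hg')
        (K895.Fib.lift_id_comp (K895.Fib.lift_map φ hg'') hi) ?_
      have r1 : φ.map g'' ≫ φ.map c' = φ.map (ψ.map (φ.map c')) ≫ φ.map g := by
        rw [← φ.toFunctor.map_comp, eg'', φ.toFunctor.map_comp]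
      rw [Category.assoc, Category.assoc, ei, ← e, r1, ← ei, ψ.toFunctor.map_comp, φ.toFunctor.map_comp,
        Category.assoc]
    have h3 : φ.map (ψ.map (φ.map β.hom.1)) ≫ φ.map g'' = φ.map g'' ≫ φ.map β.hom.1 := by
      rw [← φ.toFunctor.map_comp, ← φ.toFunctor.map_comp, h1]
    rw [hβ'] at h3
    have e7 : φ.map (ψ.map i.inv) ≫ φ.map (ψ.map i.hom) = 𝟙 _ := by
      rw [← φ.toFunctor.map_comp, ← ψ.toFunctor.map_comp, i.inv_hom_id, ψ.toFunctor.map_id,
        φ.toFunctor.map_id]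
    have e8 : φ.map (ψ.map (i.hom ≫ α.hom.1 ≫ i.inv)) =
        φ.map (ψ.map i.hom) ≫ φ.map (ψ.map α.hom.1) ≫ φ.map (ψ.map i.inv) := by
      rw [ψ.toFunctor.map_comp, φ.toFunctor.map_comp, ψ.toFunctor.map_comp, φ.toFunctor.map_comp]
    have hA : IsIso (φ.map (ψ.map i.hom)) := inferInstanceAs (IsIso ((ψ.toFunctor ⋙ φ.toFunctor).map i.hom))
    refine (cancel_epi (φ.map (ψ.map i.hom))).1 ?_
    calc φ.map (ψ.map i.hom) ≫ φ.map (ψ.map α.hom.1) ≫ g'
        = φ.map (ψ.map i.hom) ≫ φ.map (ψ.map α.hom.1) ≫ φ.map (ψ.map i.inv) ≫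
            φ.map (ψ.map i.hom) ≫ g' := by rw [reassoc_of% e7]
      _ = (φ.map (ψ.map (i.hom ≫ α.hom.1 ≫ i.inv)) ≫ φ.map g'') ≫ i.hom := by
          rw [h2, e8]; simp only [Category.assoc]
      _ = φ.map g'' ≫ i.hom ≫ α.hom.1 := by
          rw [h3]; simp only [Category.assoc, Iso.inv_hom_id, Category.comp_id]
      _ = φ.map (ψ.map i.hom) ≫ g' ≫ α.hom.1 := by rw [reassoc_of% h2]
  obtain ⟨ρ, -⟩ := K895.TwoMor.exists_trans hT hfy h𝒴.2.2
    (K895.LocEquiv.isPrestack_of_isStack h𝒴.1) (BasedFunctor.comp ψ φ) (BasedFunctor.id 𝒴) (φ.obj x)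
    ((φ.w_obj x).trans hx) (φ.map g) (K895.Fib.lift_map φ hgS) hconj'
  have hl : ∀ y, 𝒴.p.IsHomLift (𝟙 (𝒴.p.obj y)) ((BasedNatTrans.toNatTrans ρ).app y) := fun y =>
    BasedNatTrans.isHomLift ρ rfl
  exact ⟨fun y => (BasedNatTrans.toNatTrans ρ).app y,
    fun y => ⟨K895.Fib.isIso hfy (𝟙 _) _ (hl y), hl y⟩,
    fun y y' f _ => (BasedNatTrans.toNatTrans ρ).naturality f⟩

end Groth.Agent.S17913
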