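import Groth.Statements.S17914
import Groth.Agent.PolLaw.K944.Back

set_option autoImplicit false
universe u
open scoped TensorProduct
open PolLaw

namespace Groth.Agent.S17914

/-- Affine-free form, stated through universal properties. Let R → R' be a commutative algebra that is
free of rank d as an R-module, Q a commutative R-algebra, and Q' a commutative ring under Q and R'
which is their pushout over R and is free of rank d over Q. Let (C, γ) be the degree-d divided power
algebra of R' over R with its universal multiplicative law (hypothesis: every multiplicative law of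
degree d out of R' factors uniquely through γ) and π : C → R the R-algebra map with π ∘ γ = the norm
law of R' over R; let (C', γ', π') be the analogous data for Q' over Q. Let θ : C → C' be an
R-algebra homomorphism compatible with the two universal laws over every commutative Q-algebra P:
γ'_P applied to the image of z ∈ P ⊗_R R' in P ⊗_Q Q' equals (p ⊗ c ↦ p ⊗ θ c) applied to γ_P(z) (so
θ is the base-change homomorphism of divided power algebras). Then π' (θ c) is the image in Q of π c
for every c ∈ C: the algebra map attached to the norm commutes with base change. (The published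
lemma is for a finite locally free extension of constant rank and states the commutativity of each
of three squares; this row assumes R' free over R and states the commutativity of the composite.) -/
theorem result {R R' Q Q' : Type u} [CommRing R] [CommRing R'] [Algebra R R']
    [CommRing Q] [Algebra R Q] [CommRing Q'] [Algebra R Q'] [Algebra Q Q'] [Algebra R' Q']
    [IsScalarTower R Q Q'] [IsScalarTower R R' Q'] [Algebra.IsPushout R R' Q Q']
    [Module.Free R R'] [Module.Finite R R'] [Module.Free Q Q'] [Module.Finite Q Q']
    (d : ℕ) (hd : Module.finrank R R' = d) (hd' : Module.finrank Q Q' = d)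
    {C : Type u} [CommRing C] [Algebra R C] (γ : PolLaw.MulLaw R R' C d) (hγ : PolLaw.IsGammaD γ)
    (π : C →ₐ[R] R) (hπ : PolLaw.MulLaw.postcomp π γ = PolLaw.normLaw R R' d hd)
    {C' : Type u} [CommRing C'] [Algebra R C'] [Algebra Q C'] [IsScalarTower R Q C']
    (γ' : PolLaw.MulLaw Q Q' C' d) (hγ' : PolLaw.IsGammaD γ')
    (π' : C' →ₐ[Q] Q) (hπ' : PolLaw.MulLaw.postcomp π' γ' = PolLaw.normLaw Q Q' d hd')
    (θ : C →ₐ[R] C')
    (hθ : ∀ (P : Type u) [CommRing P] [Algebra R P] [Algebra Q P] [IsScalarTower R Q P] (z : P ⊗[R] R'),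
      γ'.law.toFun' P (PolLaw.bcAlong (IsScalarTower.toAlgHom R R' Q').toLinearMap P z) =
        PolLaw.bcAlong θ.toLinearMap P (γ.law.toFun' P z)) :
    ∀ c : C, π' (θ c) = algebraMap R Q (π c) := by
  let α : C →ₐ[R] Q := (π'.restrictScalars R).comp θ
  let β : C →ₐ[R] Q := (Algebra.ofId R Q).comp π
  have key : PolLaw.postcomp α.toLinearMap γ.law = PolLaw.postcomp β.toLinearMap γ.law := by
    refine K944.PolLaw.law_ext fun S _ _ x => ?_
    change α.toLinearMap.lTensor S (γ.law.toFun' S x) = β.toLinearMap.lTensor S (γ.law.toFun' S x)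
    have h1 : π.toLinearMap.lTensor S (γ.law.toFun' S x) = (Algebra.norm S x) ⊗ₜ[R] (1 : R) := by
      rw [← PolLaw.normLaw_apply R R' d hd]
      exact congrArg (fun F => F.law.toFun' S x) hπ
    have h2 : β.toLinearMap.lTensor S (γ.law.toFun' S x) = (Algebra.norm S x) ⊗ₜ[R] (1 : Q) := by
      have : β.toLinearMap = (Algebra.ofId R Q).toLinearMap ∘ₗ π.toLinearMap := rfl
      rw [this, LinearMap.lTensor_comp, LinearMap.comp_apply, h1]
      simp
    have h3 : ∀ y : (Q ⊗[R] S) ⊗[Q] Q', π'.toLinearMap.lTensor (Q ⊗[R] S) (γ'.law.toFun' (Q ⊗[R] S) y) =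
        (Algebra.norm (Q ⊗[R] S) y) ⊗ₜ[Q] (1 : Q) := by
      intro y
      rw [← PolLaw.normLaw_apply Q Q' d hd']
      exact congrArg (fun F => F.law.toFun' (Q ⊗[R] S) y) hπ'
    rw [h2, ← K944.PolLaw.back_bcAlong_incl (Q := Q), PolynomialLaw.isCompat_apply']
    have h4 : α.toLinearMap = (π'.toLinearMap.restrictScalars R) ∘ₗ θ.toLinearMap := rfl
    rw [h4, K944.PolLaw.bcAlong_comp, ← hθ, h3, K944.PolLaw.norm_bcAlong, K944.PolLaw.norm_map]
    simp
  obtain ⟨g, _, hg⟩ := hγ Q (PolLaw.MulLaw.postcomp β γ)
  have e : α = β := (hg α key).trans (hg β rfl).symm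
  intro c
  exact congrArg (fun φ => φ c) e

end Groth.Agent.S17914
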