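import Groth.Statements.S17915
import Groth.Agent.RefCh.K938.Descent
import Groth.Agent.RefCh.K939.Op2

set_option autoImplicit false
attribute [-instance] CategoryTheory.catToReflQuiver
universe u
open CategoryTheory CategoryTheory.Limits AlgebraicGeometry
open RefCh

namespace Groth.Agent.S17915

/-- Let k be an algebraically closed field and X an integral normal scheme of dimension s + 2 which
admits a closed immersion into some projective space P^N_k over k. Let L_1, …, L_s be invertible
O_X-modules with inverses M_1, …, M_s, and let ℒ be a coherent reflexive O_X-module of rank one (the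
module O_X(D) of a Weil divisor D, every such module being of this form). For m ≥ 0 write ℒ^[m] for
the m-th reflexive power and χ_m for the alternating sum Σ_{I ⊆ {1,…,s}} (-1)^{|I|} χ(X, (⊗_{i∈I}
M_i) ⊗ ℒ^[m]), the Euler characteristic of c_1(L_1) ⋯ c_1(L_s) · [ℒ^[m]] (FGA.intNum). Then χ_m /
m^2 converges, as m → ∞, to a rational number. (The published statement uses the classes [O_X] -
[O_X(-mD)]; that sequence is the constant χ(c_1(L_1) ⋯ c_1(L_s) · [O_X]) minus the sequence of this
row for the rank one module O_X(-D), so the two statements are equivalent as ℒ ranges over all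
coherent reflexive rank one modules.) -/
theorem result (k : Type u) [Field k] [IsAlgClosed k] (X : Scheme.{u}) [X.Over (Spec (CommRingCat.of k))]
    [AlgebraicGeometry.IsIntegral X] (hnorm : Pi1.IsNormalScheme X) (s : ℕ) (hdim : topologicalKrullDim X = (s + 2 : ℕ))
    (hproj : ∃ (N : ℕ) (ι : X ⟶ CohB1.ProjSpace N k), IsClosedImmersion ι ∧ ι ≫ CohB1.ProjSpace.toSpec N k = X ↘ Spec (CommRingCat.of k))
    (L M : Fin s → X.Modules) (hL : ∀ i, PicF.IsInvertible (L i))
    (hLM : ∀ i, Nonempty (CohB1.tensorMod (L i) (M i) ≅ Coh.structureModule X))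
    (ℒ : X.Modules) (hℒ : RefHull.IsRef1 ℒ) :
    ∃ q : ℚ, Filter.Tendsto (fun m : ℕ => (FGA.intNum k X (s + 2) M (RefPow.refPow ℒ m) : ℝ) / ((m : ℝ) ^ 2))
      Filter.atTop (nhds (q : ℝ)) := by
  obtain ⟨hprX, H, hH⟩ := K424.VaRed.exists_ample k X hproj
  have : IsLocallyNoetherian X := LocallyOfFiniteType.isLocallyNoetherian (X ↘ Spec (CommRingCat.of k))
  exact K424.VaRed.hasLim_of_va hnorm hdim hH hℒ (fun P hP => K938.Descent.hasLim hnorm hdim P hP hℒ) M
    fun i => K939.Op2.isInvertible_of_tensor (hLM i).some

end Groth.Agent.S17915
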