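import Groth.Statements.S17916
import Groth.Agent.RefCh.K938.Descent
import Groth.Agent.RefCh.K939.Op2

set_option autoImplicit false
attribute [-instance] CategoryTheory.catToReflQuiver
universe u
open CategoryTheory CategoryTheory.Limits AlgebraicGeometry
open RefCh

namespace Groth.Agent.S17916

/-- Let k be an algebraically closed field, X an integral normal scheme of dimension s + 2 admitting a
closed immersion into some P^N_k over k, and L_1, …, L_s invertible O_X-modules with inverses M_1,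
…, M_s. For a coherent reflexive rank one O_X-module ℱ (that is, ℱ = O_X(D) for a Weil divisor D)
write q(ℱ) = D^2 · L_1 ⋯ L_s for the limit of 2 χ(c_1(L_1) ⋯ c_1(L_s) · [ℱ^[m]]) / m^2, where ℱ^[m]
is the m-th reflexive power and the Euler characteristic of the product is the alternating sum
FGA.intNum in the M_i; write ℱ ⊗̂ 𝒢 for the reflexive hull of ℱ ⊗ 𝒢 (so O_X(D) ⊗̂ O_X(D') = O_X(D +
D')). Let ℒ_1, ℒ_2, ℒ_3 be coherent reflexive of rank one and suppose the seven limits q(ℒ_1),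
q(ℒ_2), q(ℒ_3), q(ℒ_1 ⊗̂ ℒ_2), q(ℒ_1 ⊗̂ ℒ_3), q(ℒ_2 ⊗̂ ℒ_3), q((ℒ_1 ⊗̂ ℒ_2) ⊗̂ ℒ_3) exist. Then
q((ℒ_1 ⊗̂ ℒ_2) ⊗̂ ℒ_3) - q(ℒ_1 ⊗̂ ℒ_2) - q(ℒ_1 ⊗̂ ℒ_3) - q(ℒ_2 ⊗̂ ℒ_3) + q(ℒ_1) + q(ℒ_2) + q(ℒ_3) =
0: the symmetric pairing D_1 · D_2 · L_1 ⋯ L_s := (q(O_X(D_1 + D_2)) - q(O_X(D_1)) - q(O_X(D_2))) /
2 is additive, hence ℤ-linear, in each Weil divisor. (The published text normalises D^2 · L_1 ⋯ L_s
as twice the limit of χ(c_1(L_1) ⋯ c_1(L_s) · ([O_X] - [O_X(-mD)])) / m^2, which is the negative of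
the number used here: for a line D on the projective plane χ(O) - χ(O(-m)) = -m^2/2 + O(m).
Additivity holds for either sign.) -/
theorem result (k : Type u) [Field k] [IsAlgClosed k] (X : Scheme.{u}) [X.Over (Spec (CommRingCat.of k))]
    [AlgebraicGeometry.IsIntegral X] (hnorm : Pi1.IsNormalScheme X) (s : ℕ) (hdim : topologicalKrullDim X = (s + 2 : ℕ))
    (hproj : ∃ (N : ℕ) (ι : X ⟶ CohB1.ProjSpace N k), IsClosedImmersion ι ∧ ι ≫ CohB1.ProjSpace.toSpec N k = X ↘ Spec (CommRingCat.of k))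
    (L M : Fin s → X.Modules) (hL : ∀ i, PicF.IsInvertible (L i))
    (hLM : ∀ i, Nonempty (CohB1.tensorMod (L i) (M i) ≅ Coh.structureModule X))
    (ℒ₁ ℒ₂ ℒ₃ : X.Modules) (h₁ : RefHull.IsRef1 ℒ₁) (h₂ : RefHull.IsRef1 ℒ₂) (h₃ : RefHull.IsRef1 ℒ₃)
    (q₁ q₂ q₃ q₁₂ q₁₃ q₂₃ q₁₂₃ : ℝ)
    (hq₁ : Filter.Tendsto (fun m : ℕ => (2 : ℝ) * (FGA.intNum k X (s + 2) M (RefPow.refPow ℒ₁ m) : ℝ) / ((m : ℝ) ^ 2)) Filter.atTop (nhds q₁))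
    (hq₂ : Filter.Tendsto (fun m : ℕ => (2 : ℝ) * (FGA.intNum k X (s + 2) M (RefPow.refPow ℒ₂ m) : ℝ) / ((m : ℝ) ^ 2)) Filter.atTop (nhds q₂))
    (hq₃ : Filter.Tendsto (fun m : ℕ => (2 : ℝ) * (FGA.intNum k X (s + 2) M (RefPow.refPow ℒ₃ m) : ℝ) / ((m : ℝ) ^ 2)) Filter.atTop (nhds q₃))
    (hq₁₂ : Filter.Tendsto (fun m : ℕ => (2 : ℝ) * (FGA.intNum k X (s + 2) M (RefPow.refPow (RefPow.refTensor ℒ₁ ℒ₂) m) : ℝ) / ((m : ℝ) ^ 2)) Filter.atTop (nhds q₁₂))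
    (hq₁₃ : Filter.Tendsto (fun m : ℕ => (2 : ℝ) * (FGA.intNum k X (s + 2) M (RefPow.refPow (RefPow.refTensor ℒ₁ ℒ₃) m) : ℝ) / ((m : ℝ) ^ 2)) Filter.atTop (nhds q₁₃))
    (hq₂₃ : Filter.Tendsto (fun m : ℕ => (2 : ℝ) * (FGA.intNum k X (s + 2) M (RefPow.refPow (RefPow.refTensor ℒ₂ ℒ₃) m) : ℝ) / ((m : ℝ) ^ 2)) Filter.atTop (nhds q₂₃))
    (hq₁₂₃ : Filter.Tendsto (fun m : ℕ => (2 : ℝ) * (FGA.intNum k X (s + 2) M (RefPow.refPow (RefPow.refTensor (RefPow.refTensor ℒ₁ ℒ₂) ℒ₃) m) : ℝ) / ((m : ℝ) ^ 2)) Filter.atTop (nhds q₁₂₃)) :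
    q₁₂₃ - q₁₂ - q₁₃ - q₂₃ + q₁ + q₂ + q₃ = 0 := by
  obtain ⟨hprX, H, hH⟩ := K424.VaRed.exists_ample k X hproj
  have : IsLocallyNoetherian X := LocallyOfFiniteType.isLocallyNoetherian (X ↘ Spec (CommRingCat.of k))
  exact K424.VaRed.cube_of_va hnorm hdim hH (fun P hP F hF => K938.Descent.hasLim hnorm hdim P hP hF)
    (fun P hP L₁ L₂ L₃ i₁ i₂ i₃ => K938.Descent.cube hnorm hdim P hP i₁ i₂ i₃) M
    (fun i => K939.Op2.isInvertible_of_tensor (hLM i).some) ℒ₁ ℒ₂ ℒ₃ h₁ h₂ h₃ q₁ q₂ q₃ q₁₂ q₁₃ q₂₃ q₁₂₃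
    hq₁ hq₂ hq₃ hq₁₂ hq₁₃ hq₂₃ hq₁₂₃

end Groth.Agent.S17916
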