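import Groth.Statements.S17917
import Groth.Agent.RefCh.K938.Rows

set_option autoImplicit false
universe u
open CategoryTheory CategoryTheory.Limits AlgebraicGeometry
open RefCh

namespace Groth.Agent.S17917

/-- Let k be an algebraically closed field, X an integral normal scheme of dimension s + 2 admitting a
closed immersion into some P^N_k over k, and L_1, …, L_s invertible O_X-modules with inverses M_1,
…, M_s. Let ℒ_1 be a coherent reflexive O_X-module of rank one (ℒ_1 = O_X(D_1) for a Weil divisor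
D_1, with dual ℒ_1^∨ = O_X(-D_1)) and ℒ_2 an invertible O_X-module (a Cartier divisor D_2) with
inverse 𝓜_2. With q(ℱ) the limit of 2 χ(c_1(L_1) ⋯ c_1(L_s) · [ℱ^[m]]) / m^2 (reflexive powers,
FGA.intNum in the M_i), assumed to exist for ℒ_1, ℒ_2 and the reflexive hull ℒ_1 ⊗̂ ℒ_2 of ℒ_1 ⊗
ℒ_2, one has (q(ℒ_1 ⊗̂ ℒ_2) - q(ℒ_1) - q(ℒ_2)) / 2 = χ(c_1(ℒ_2) c_1(L_1) ⋯ c_1(L_s) · ([O_X] -
[ℒ_1^∨])), the right side written as the difference of the alternating sums FGA.intNum in (𝓜_2, M_1,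
…, M_s) of O_X and of ℒ_1^∨; that is, D_1 · D_2 · L_1 ⋯ L_s equals the usual intersection number of
the Cartier divisor D_2 and the L_i with the cycle of D_1. (The published text normalises D^2 · L_1
⋯ L_s as twice the limit of χ(c_1(L_1) ⋯ c_1(L_s) · ([O_X] - [O_X(-mD)])) / m^2, the negative of the
number used here, and with that sign the identity fails for two lines on the projective plane, where
it would read -1 = 1.) -/
theorem result (k : Type u) [Field k] [IsAlgClosed k] (X : Scheme.{u}) [X.Over (Spec (CommRingCat.of k))]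
    [AlgebraicGeometry.IsIntegral X] (hnorm : Pi1.IsNormalScheme X) (s : ℕ) (hdim : topologicalKrullDim X = (s + 2 : ℕ))
    (hproj : ∃ (N : ℕ) (ι : X ⟶ CohB1.ProjSpace N k), IsClosedImmersion ι ∧ ι ≫ CohB1.ProjSpace.toSpec N k = X ↘ Spec (CommRingCat.of k))
    (L M : Fin s → X.Modules) (hL : ∀ i, PicF.IsInvertible (L i))
    (hLM : ∀ i, Nonempty (CohB1.tensorMod (L i) (M i) ≅ Coh.structureModule X))
    (ℒ₁ ℒ₂ 𝓜₂ : X.Modules) (h₁ : RefHull.IsRef1 ℒ₁) (h₂ : PicF.IsInvertible ℒ₂)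
    (h₂' : Nonempty (CohB1.tensorMod ℒ₂ 𝓜₂ ≅ Coh.structureModule X))
    (q₁ q₂ q₁₂ : ℝ)
    (hq₁ : Filter.Tendsto (fun m : ℕ => (2 : ℝ) * (FGA.intNum k X (s + 2) M (RefPow.refPow ℒ₁ m) : ℝ) / ((m : ℝ) ^ 2)) Filter.atTop (nhds q₁))
    (hq₂ : Filter.Tendsto (fun m : ℕ => (2 : ℝ) * (FGA.intNum k X (s + 2) M (RefPow.refPow ℒ₂ m) : ℝ) / ((m : ℝ) ^ 2)) Filter.atTop (nhds q₂))
    (hq₁₂ : Filter.Tendsto (fun m : ℕ => (2 : ℝ) * (FGA.intNum k X (s + 2) M (RefPow.refPow (RefPow.refTensor ℒ₁ ℒ₂) m) : ℝ) / ((m : ℝ) ^ 2)) Filter.atTop (nhds q₁₂)) :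
    (q₁₂ - q₁ - q₂) / 2 =
      ((FGA.intNum k X (s + 2) (Fin.cons 𝓜₂ M) (Coh.structureModule X) -
        FGA.intNum k X (s + 2) (Fin.cons 𝓜₂ M) (RefHull.dual ℒ₁) : ℤ) : ℝ) := by
  classical
  have hprX := K938.Rows.isProper_of_proj hproj
  have : IsLocallyNoetherian X := LocallyOfFiniteType.isLocallyNoetherian (X ↘ Spec (CommRingCat.of k))
  let _ := K938.RefCl.law hnorm
  obtain ⟨δ, hδ⟩ := K939.Abs.exists_isSetup (X ↘ Spec (CommRingCat.of k))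
  have hM : ∀ i, PicF.IsInvertible (M i) := fun i => K939.Op2.isInvertible_of_tensor (hLM i).some
  have hM₂ : PicF.IsInvertible 𝓜₂ := K939.Op2.isInvertible_of_tensor h₂'.some
  have hcons : ∀ i, PicF.IsInvertible ((Fin.cons 𝓜₂ M : Fin (s + 1) → X.Modules) i) :=
    Groth.Agent.Pic13.H970.IntForm.isInvertible_cons X hM₂ hM
  have hadd := K938.IntF.isAdd2_intNum k (r := s + 1) hdim (Fin.cons 𝓜₂ M : Fin (s + 1) → X.Modules) hcons
  let ℓ := RefFun.cls ℒ₂ (K938.RefCl.isRef1_of_isInvertible h₂)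
  let c := RefFun.cls ℒ₁ h₁
  let Φ := K938.Val.val (FGA.intNum k X (s + 2) M)
  let Ψ := K938.Val.val (FGA.intNum k X (s + 2) (Fin.cons 𝓜₂ M : Fin (s + 1) → X.Modules))
  have hΨ : ∀ c d, Ψ (c * d) + Ψ 1 = Ψ c + Ψ d :=
    K938.Val.val_mul (K938.Rows.hiso k (s + 2) _) hδ hnorm hadd
  have hΦ : ∀ c, Φ (c * ℓ) - Φ c = Ψ (c * ℓ) := K938.Rows.val_step k (s + 2) M h₂ hM₂ h₂'
  have hΦv : ∀ {F : X.Modules} (hF : RefHull.IsRef1 F), Φ (RefFun.cls F hF) = FGA.intNum k X (s + 2) M F :=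
    fun hF => K938.Val.val_cls (K938.Rows.hiso k (s + 2) _) hF
  have hΨv : ∀ {F : X.Modules} (hF : RefHull.IsRef1 F), Ψ (RefFun.cls F hF) =
      FGA.intNum k X (s + 2) (Fin.cons 𝓜₂ M : Fin (s + 1) → X.Modules) F :=
    fun hF => K938.Val.val_cls (K938.Rows.hiso k (s + 2) _) hF
  have key := K938.Val.two_mul_pow_mul Φ Ψ ℓ hΨ hΦ
  -- the values
  have v₁ : ∀ m, FGA.intNum k X (s + 2) M (RefPow.refPow ℒ₁ m) = Φ (c ^ m) := fun m => by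
    rw [← hΦv (K476.Ref1.isRef1_refPow h₁ m), K938.RefCl.cls_refPow]
  have hℒ₂ := K938.RefCl.isRef1_of_isInvertible h₂
  have v₂ : ∀ m, FGA.intNum k X (s + 2) M (RefPow.refPow ℒ₂ m) = Φ (ℓ ^ m) := fun m => by
    rw [← hΦv (K476.Ref1.isRef1_refPow hℒ₂ m), K938.RefCl.cls_refPow]
  have v₁₂ : ∀ m, FGA.intNum k X (s + 2) M (RefPow.refPow (RefPow.refTensor ℒ₁ ℒ₂) m) = Φ (c ^ m * ℓ ^ m) :=
    fun m => by
      rw [← hΦv (K476.Ref1.isRef1_refPow (K476.Ref1.isRef1_refTensor h₁ hℒ₂) m),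
        K938.RefCl.cls_refPow (K476.Ref1.isRef1_refTensor h₁ hℒ₂), K938.RefCl.cls_refTensor, mul_pow]
  simp only [v₁] at hq₁
  simp only [v₂] at hq₂
  simp only [v₁₂] at hq₁₂
  have e₁₂ : q₁₂ = q₁ + (2 * ((Ψ c : ℝ) - Ψ 1) + ((Ψ ℓ : ℝ) - Ψ 1)) := by
    refine tendsto_nhds_unique hq₁₂ ((K938.Rows.tendsto_quad hq₁ 0 (2 * (Ψ 1 : ℝ) + ((Ψ ℓ : ℝ) - Ψ 1))
      (2 * ((Ψ c : ℝ) - Ψ 1) + ((Ψ ℓ : ℝ) - Ψ 1))).congr fun m => ?_)
    have h : (2 : ℝ) * Φ (c ^ m * ℓ ^ m) = 2 * Φ (c ^ m) + 2 * m * Ψ 1 + 2 * m * m * (Ψ c - Ψ 1) +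
        m * (m + 1) * (Ψ ℓ - Ψ 1) := by exact_mod_cast key c m m
    rw [h]
    congr 1
    ring
  have e₂ : q₂ = 0 + ((Ψ ℓ : ℝ) - Ψ 1) := by
    have h0 : Filter.Tendsto (fun m : ℕ => ((2 : ℝ) * Φ 1 - 2 * Φ 1) / (m : ℝ) ^ 2) Filter.atTop (nhds 0) := by
      simp
    refine tendsto_nhds_unique hq₂ ((K938.Rows.tendsto_quad h0 (2 * (Φ 1 : ℝ)) (2 * (Ψ 1 : ℝ) + ((Ψ ℓ : ℝ) - Ψ 1))
      ((Ψ ℓ : ℝ) - Ψ 1)).congr fun m => ?_)
    have h : (2 : ℝ) * Φ (1 ^ m * ℓ ^ m) = 2 * Φ (1 ^ m) + 2 * m * Ψ 1 + 2 * m * m * (Ψ 1 - Ψ 1) +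
        m * (m + 1) * (Ψ ℓ - Ψ 1) := by exact_mod_cast key 1 m m
    rw [one_pow, one_mul] at h
    rw [h]
    congr 1
    ring
  have hO := K938.RefCl.isRef1_of_isInvertible (Groth.Agent.Ega4dA.ParaCrit.structureModule_isInvertible X)
  have hΨ1 : Ψ 1 = FGA.intNum k X (s + 2) (Fin.cons 𝓜₂ M) (Coh.structureModule X) := by
    rw [← hΨv K476.Ref1.isRef1_structureModule, K938.RefCl.cls_one]
  have hdual := K939.Abs.dual_add hδ hnorm hadd h₁.1 (K939.Abs.inv1_of_ref1 hδ hnorm h₁)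
  rw [← hΨ1, ← hΨv h₁] at hdual
  rw [e₁₂, e₂, ← hΨ1, eq_sub_of_add_eq hdual]
  push_cast
  ring

end Groth.Agent.S17917
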