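import Groth.Statements.S17918
import Groth.Agent.RefCh.K938.Rows

set_option autoImplicit false
universe u
open CategoryTheory CategoryTheory.Limits AlgebraicGeometry
open RefCh

namespace Groth.Agent.S17918

/-- Let k be an algebraically closed field, X an integral normal scheme of dimension s + 3 admitting a
closed immersion into some P^N_k over k, L_1, …, L_s, A and B invertible O_X-modules with inverses
M_1, …, M_s, A' and B' (so that A' ⊗ B' is an inverse of A ⊗ B), and ℒ a coherent reflexive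
O_X-module of rank one (ℒ = O_X(D)). Suppose 2 χ(c_1(A) c_1(L_1) ⋯ c_1(L_s) · [ℒ^[m]]) / m^2 → a, 2
χ(c_1(B) c_1(L_1) ⋯ c_1(L_s) · [ℒ^[m]]) / m^2 → b and 2 χ(c_1(A ⊗ B) c_1(L_1) ⋯ c_1(L_s) · [ℒ^[m]])
/ m^2 → c as m → ∞, the Euler characteristics being the alternating sums FGA.intNum in (A', M_1, …,
M_s), (B', M_1, …, M_s) and (A' ⊗ B', M_1, …, M_s) of the reflexive powers ℒ^[m]. Then c = a + b:
the self-intersection number D^2 · L_0 · L_1 ⋯ L_s is additive in the invertible module L_0. -/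
theorem result (k : Type u) [Field k] [IsAlgClosed k] (X : Scheme.{u}) [X.Over (Spec (CommRingCat.of k))]
    [AlgebraicGeometry.IsIntegral X] (hnorm : Pi1.IsNormalScheme X) (s : ℕ) (hdim : topologicalKrullDim X = (s + 3 : ℕ))
    (hproj : ∃ (N : ℕ) (ι : X ⟶ CohB1.ProjSpace N k), IsClosedImmersion ι ∧ ι ≫ CohB1.ProjSpace.toSpec N k = X ↘ Spec (CommRingCat.of k))
    (L M : Fin s → X.Modules) (hL : ∀ i, PicF.IsInvertible (L i))
    (hLM : ∀ i, Nonempty (CohB1.tensorMod (L i) (M i) ≅ Coh.structureModule X))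
    (A A' B B' : X.Modules) (hA : PicF.IsInvertible A) (hB : PicF.IsInvertible B)
    (hAA' : Nonempty (CohB1.tensorMod A A' ≅ Coh.structureModule X))
    (hBB' : Nonempty (CohB1.tensorMod B B' ≅ Coh.structureModule X))
    (ℒ : X.Modules) (hℒ : RefHull.IsRef1 ℒ) (a b c : ℝ)
    (ha : Filter.Tendsto (fun m : ℕ => (2 : ℝ) * (FGA.intNum k X (s + 3) (Fin.cons A' M) (RefPow.refPow ℒ m) : ℝ) / ((m : ℝ) ^ 2)) Filter.atTop (nhds a))
    (hb : Filter.Tendsto (fun m : ℕ => (2 : ℝ) * (FGA.intNum k X (s + 3) (Fin.cons B' M) (RefPow.refPow ℒ m) : ℝ) / ((m : ℝ) ^ 2)) Filter.atTop (nhds b))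
    (hc : Filter.Tendsto (fun m : ℕ => (2 : ℝ) * (FGA.intNum k X (s + 3) (Fin.cons (CohB1.tensorMod A' B') M) (RefPow.refPow ℒ m) : ℝ) / ((m : ℝ) ^ 2)) Filter.atTop (nhds c)) :
    c = a + b := by
  classical
  have hprX := K938.Rows.isProper_of_proj hproj
  have : IsLocallyNoetherian X := LocallyOfFiniteType.isLocallyNoetherian (X ↘ Spec (CommRingCat.of k))
  obtain ⟨δ, hδ⟩ := K939.Abs.exists_isSetup (X ↘ Spec (CommRingCat.of k))
  have hM : ∀ i, PicF.IsInvertible (M i) := fun i => K939.Op2.isInvertible_of_tensor (hLM i).some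
  have hA' : PicF.IsInvertible A' := K939.Op2.isInvertible_of_tensor hAA'.some
  have hB' : PicF.IsInvertible B' := K939.Op2.isInvertible_of_tensor hBB'.some
  have hcons : ∀ i, PicF.IsInvertible ((Fin.cons A' (Fin.cons B' M : Fin (s + 1) → X.Modules) :
      Fin (s + 2) → X.Modules) i) :=
    Groth.Agent.Pic13.H970.IntForm.isInvertible_cons X hA'
      (Groth.Agent.Pic13.H970.IntForm.isInvertible_cons X hB' hM)
  have hadd := K938.IntF.isAdd2_intNum k (r := s + 2) hdim _ hcons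
  have hrel := K938.Rows.cons_tensor k (X := X) (s + 3) M A' B'
  have hpow := K939.Abs.refPow_sub hδ hadd hℒ.1 (K939.Abs.inv1_of_ref1 hδ hnorm hℒ)
  have e : ∀ m : ℕ, (2 : ℝ) * (FGA.intNum k X (s + 3) (Fin.cons (CohB1.tensorMod A' B') M) (RefPow.refPow ℒ m) : ℝ) /
      ((m : ℝ) ^ 2) - (2 : ℝ) * (FGA.intNum k X (s + 3) (Fin.cons A' M) (RefPow.refPow ℒ m) : ℝ) / ((m : ℝ) ^ 2) -
      (2 : ℝ) * (FGA.intNum k X (s + 3) (Fin.cons B' M) (RefPow.refPow ℒ m) : ℝ) / ((m : ℝ) ^ 2) =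
      (0 + (-2 * (FGA.intNum k X (s + 3) (Fin.cons A' (Fin.cons B' M : Fin (s + 1) → X.Modules) :
        Fin (s + 2) → X.Modules) (Coh.structureModule X) : ℝ)) +
      (-2 * ((FGA.intNum k X (s + 3) (Fin.cons A' (Fin.cons B' M : Fin (s + 1) → X.Modules) :
        Fin (s + 2) → X.Modules) ℒ : ℝ) - (FGA.intNum k X (s + 3) (Fin.cons A' (Fin.cons B' M : Fin (s + 1) → X.Modules) :
        Fin (s + 2) → X.Modules) (Coh.structureModule X) : ℝ))) * m + 0 * (m : ℝ) ^ 2) / (m : ℝ) ^ 2 := by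
    intro m
    have h1 := hrel (RefPow.refPow ℒ m)
    have h2 := hpow m
    rw [nsmul_eq_mul] at h2
    have h1' : (FGA.intNum k X (s + 3) (Fin.cons (CohB1.tensorMod A' B') M) (RefPow.refPow ℒ m) : ℝ) =
      (FGA.intNum k X (s + 3) (Fin.cons A' M) (RefPow.refPow ℒ m) : ℝ) +
      (FGA.intNum k X (s + 3) (Fin.cons B' M) (RefPow.refPow ℒ m) : ℝ) -
      (FGA.intNum k X (s + 3) (Fin.cons A' (Fin.cons B' M : Fin (s + 1) → X.Modules) :
        Fin (s + 2) → X.Modules) (RefPow.refPow ℒ m) : ℝ) := by exact_mod_cast h1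
    have h2' : (FGA.intNum k X (s + 3) (Fin.cons A' (Fin.cons B' M : Fin (s + 1) → X.Modules) :
        Fin (s + 2) → X.Modules) (RefPow.refPow ℒ m) : ℝ) =
        (FGA.intNum k X (s + 3) (Fin.cons A' (Fin.cons B' M : Fin (s + 1) → X.Modules) :
        Fin (s + 2) → X.Modules) (Coh.structureModule X) : ℝ) +
        m * ((FGA.intNum k X (s + 3) (Fin.cons A' (Fin.cons B' M : Fin (s + 1) → X.Modules) :
        Fin (s + 2) → X.Modules) ℒ : ℝ) - (FGA.intNum k X (s + 3) (Fin.cons A' (Fin.cons B' M : Fin (s + 1) → X.Modules) :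
        Fin (s + 2) → X.Modules) (Coh.structureModule X) : ℝ)) := by
      have h3 := congrArg (Int.cast : ℤ → ℝ) h2
      push_cast at h3
      linarith
    rw [h1', h2', ← sub_div, ← sub_div]
    congr 1
    ring
  have h0 : Filter.Tendsto (fun m : ℕ => (0 : ℝ) / (m : ℝ) ^ 2) Filter.atTop (nhds 0) := by simp
  have hl := ((hc.sub ha).sub hb).congr e
  have := tendsto_nhds_unique hl (K938.Rows.tendsto_quad h0 _ _ _)
  linarith

end Groth.Agent.S17918
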