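import Groth.Statements.S17919
import Groth.Agent.RefCh.K938.Rows
import Groth.Agent.RefCh.K938.DetFrob

set_option autoImplicit false
universe u
open CategoryTheory CategoryTheory.Limits AlgebraicGeometry
open RefCh

namespace Groth.Agent.S17919

/-- Let k be an algebraically closed field of characteristic p > 0, X an integral normal scheme of
dimension s + 3 admitting a closed immersion into some P^N_k over k, L_1, …, L_s, A and B invertible
O_X-modules with inverses M_1, …, M_s, A' and B', E a coherent reflexive O_X-module, and (G_m) its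
reflexive Frobenius pull-backs F_X^[m] E (G_0 = E, G_{m+1} ≅ (F_X^* G_m)^**). Suppose χ(c_1(A)
c_1(L_1) ⋯ c_1(L_s) · [G_m]) / p^{2m} → a, χ(c_1(B) c_1(L_1) ⋯ c_1(L_s) · [G_m]) / p^{2m} → b and
χ(c_1(A ⊗ B) c_1(L_1) ⋯ c_1(L_s) · [G_m]) / p^{2m} → c as m → ∞ (alternating sums FGA.intNum in (A',
M_1, …, M_s), (B', M_1, …, M_s) and (A' ⊗ B', M_1, …, M_s)). Then c = a + b: the number ∫_X ch_2(E)
L_0 L_1 ⋯ L_s, defined as such a limit, is additive in the invertible module L_0. -/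
theorem result (k : Type u) [Field k] [IsAlgClosed k] (X : Scheme.{u}) [X.Over (Spec (CommRingCat.of k))]
    [AlgebraicGeometry.IsIntegral X] (hnorm : Pi1.IsNormalScheme X) (s : ℕ) (hdim : topologicalKrullDim X = (s + 3 : ℕ))
    (hproj : ∃ (N : ℕ) (ι : X ⟶ CohB1.ProjSpace N k), IsClosedImmersion ι ∧ ι ≫ CohB1.ProjSpace.toSpec N k = X ↘ Spec (CommRingCat.of k))
    (p : ℕ) [Fact p.Prime] [CharP k p] [FrobSch.IsCharP X p]
    (L M : Fin s → X.Modules) (hL : ∀ i, PicF.IsInvertible (L i))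
    (hLM : ∀ i, Nonempty (CohB1.tensorMod (L i) (M i) ≅ Coh.structureModule X))
    (A A' B B' : X.Modules) (hA : PicF.IsInvertible A) (hB : PicF.IsInvertible B)
    (hAA' : Nonempty (CohB1.tensorMod A A' ≅ Coh.structureModule X))
    (hBB' : Nonempty (CohB1.tensorMod B B' ≅ Coh.structureModule X))
    (E : X.Modules) (hE : Coh.IsCoh E) (hEr : RefHull.IsReflexive E)
    (G : ℕ → X.Modules) (hG0 : G 0 = E)
    (hG : ∀ m, Nonempty (G (m + 1) ≅ RefHull.ddual ((Scheme.Modules.pullback (FrobSch.frob X p)).obj (G m)))) (a b c : ℝ)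
    (ha : Filter.Tendsto (fun m : ℕ => (FGA.intNum k X (s + 3) (Fin.cons A' M) (G m) : ℝ) / ((p : ℝ) ^ (2 * m))) Filter.atTop (nhds a))
    (hb : Filter.Tendsto (fun m : ℕ => (FGA.intNum k X (s + 3) (Fin.cons B' M) (G m) : ℝ) / ((p : ℝ) ^ (2 * m))) Filter.atTop (nhds b))
    (hc : Filter.Tendsto (fun m : ℕ => (FGA.intNum k X (s + 3) (Fin.cons (CohB1.tensorMod A' B') M) (G m) : ℝ) / ((p : ℝ) ^ (2 * m))) Filter.atTop (nhds c)) :
    c = a + b := by
  classical
  have hprX := K938.Rows.isProper_of_proj hproj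
  have : IsLocallyNoetherian X := LocallyOfFiniteType.isLocallyNoetherian (X ↘ Spec (CommRingCat.of k))
  let _ := K938.RefCl.law hnorm
  obtain ⟨δ, hδ⟩ := K939.Abs.exists_isSetup (X ↘ Spec (CommRingCat.of k))
  have hM : ∀ i, PicF.IsInvertible (M i) := fun i => K939.Op2.isInvertible_of_tensor (hLM i).some
  have hA' : PicF.IsInvertible A' := K939.Op2.isInvertible_of_tensor hAA'.some
  have hB' : PicF.IsInvertible B' := K939.Op2.isInvertible_of_tensor hBB'.some
  have hcons : ∀ i, PicF.IsInvertible ((Fin.cons A' (Fin.cons B' M : Fin (s + 1) → X.Modules) :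
      Fin (s + 2) → X.Modules) i) :=
    Groth.Agent.Pic13.H970.IntForm.isInvertible_cons X hA'
      (Groth.Agent.Pic13.H970.IntForm.isInvertible_cons X hB' hM)
  let N : Fin (s + 2) → X.Modules := Fin.cons A' (Fin.cons B' M : Fin (s + 1) → X.Modules)
  have hadd : K939.Abs.IsAdd2 (fun F : X.Modules => FGA.intNum k X (s + 3) N F) :=
    K938.IntF.isAdd2_intNum k (r := s + 2) hdim N hcons
  have hrel : ∀ F, FGA.intNum k X (s + 3) (Fin.cons (CohB1.tensorMod A' B') M : Fin (s + 1) → X.Modules) F =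
      FGA.intNum k X (s + 3) (Fin.cons A' M : Fin (s + 1) → X.Modules) F +
        FGA.intNum k X (s + 3) (Fin.cons B' M : Fin (s + 1) → X.Modules) F - FGA.intNum k X (s + 3) N F :=
    K938.Rows.cons_tensor k (X := X) (s + 3) M A' B'
  obtain ⟨D, hD⟩ := K938.DetFrob.seq p hδ hnorm hE hEr rfl hG0 hG
  let φ : X.Modules → ℤ := fun F => FGA.intNum k X (s + 3) N F
  let Ψ := K938.Val.val φ
  have hΨ : ∀ c d, Ψ (c * d) + Ψ 1 = Ψ c + Ψ d :=
    K938.Val.val_mul (K938.Rows.hiso k (s + 3) _) hδ hnorm hadd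
  have hΨv : ∀ {F : X.Modules} (hF : RefHull.IsRef1 F), Ψ (RefFun.cls F hF) = φ F :=
    fun hF => K938.Val.val_cls (K938.Rows.hiso k (s + 3) _) hF
  have hΨ1 : Ψ 1 = φ (Coh.structureModule X) := by
    rw [← hΨv K476.Ref1.isRef1_structureModule, K938.RefCl.cls_one]
  obtain ⟨r, hr⟩ : ∃ r : ℕ, Module.finrank (X.presheaf.stalk (genericPoint X))
    (E.presheaf.stalk (genericPoint X)) = r := ⟨_, rfl⟩
  rw [hr] at hD
  have val : ∀ m, φ (G m) = (r * φ (Coh.structureModule X)) + (p : ℤ) ^ m * (Ψ D - Ψ 1) := by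
    intro m
    obtain ⟨h1, h2, h3, W, hW, h4, h5⟩ := hD m
    have h6 := K939.Abs2.detdd_sub hδ hnorm hadd h1 hW (K849.Reflex.isTorsionFree_of_reflexive h1 h2) h3
    have h7 := K938.Val.affine_pow Ψ hΨ D (p ^ m)
    rw [← h5, hΨv h4] at h7
    change φ (G m) - (r : ℤ) • φ (Coh.structureModule X) =
      φ (RefHull.ddual W) - φ (Coh.structureModule X) at h6
    rw [zsmul_eq_mul] at h6
    push_cast at h6 h7
    linarith
  have hp : (1 : ℝ) < p := by exact_mod_cast (Fact.out : p.Prime).one_lt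
  have hp0 : (p : ℝ) ≠ 0 := by positivity
  have e : ∀ m : ℕ, (FGA.intNum k X (s + 3) (Fin.cons (CohB1.tensorMod A' B') M) (G m) : ℝ) / ((p : ℝ) ^ (2 * m)) -
      (FGA.intNum k X (s + 3) (Fin.cons A' M) (G m) : ℝ) / ((p : ℝ) ^ (2 * m)) -
      (FGA.intNum k X (s + 3) (Fin.cons B' M) (G m) : ℝ) / ((p : ℝ) ^ (2 * m)) =
      -(r * (φ (Coh.structureModule X) : ℝ)) * (((p : ℝ)⁻¹) ^ m) ^ 2 - ((Ψ D : ℝ) - Ψ 1) * ((p : ℝ)⁻¹) ^ m := by
    intro m
    have h1' : (FGA.intNum k X (s + 3) (Fin.cons (CohB1.tensorMod A' B') M) (G m) : ℝ) =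
      (FGA.intNum k X (s + 3) (Fin.cons A' M) (G m) : ℝ) +
      (FGA.intNum k X (s + 3) (Fin.cons B' M) (G m) : ℝ) - (φ (G m) : ℝ) := by exact_mod_cast hrel (G m)
    have h2' : (φ (G m) : ℝ) = (r * (φ (Coh.structureModule X) : ℝ)) + (p : ℝ) ^ m * ((Ψ D : ℝ) - Ψ 1) := by
      exact_mod_cast val m
    rw [h1', h2', pow_mul']
    have hpm : (p : ℝ) ^ m ≠ 0 := pow_ne_zero m hp0
    rw [inv_pow]
    field_simp
    ring
  have h0 : Filter.Tendsto (fun m : ℕ => ((p : ℝ)⁻¹) ^ m) Filter.atTop (nhds 0) :=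
    tendsto_pow_atTop_nhds_zero_of_lt_one (by positivity) (inv_lt_one_of_one_lt₀ hp)
  have hl := ((hc.sub ha).sub hb).congr e
  have h1 := ((h0.pow 2).const_mul (-(r * (φ (Coh.structureModule X) : ℝ)))).sub (h0.const_mul ((Ψ D : ℝ) - Ψ 1))
  have := tendsto_nhds_unique hl h1
  simp only [ne_eq, OfNat.ofNat_ne_zero, not_false_eq_true, zero_pow, mul_zero, sub_zero] at this
  linarith

end Groth.Agent.S17919
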