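import Groth.Statements.S17920
import Groth.Agent.RefCh.K939.SurfRow

set_option autoImplicit false
universe u
open CategoryTheory CategoryTheory.Limits AlgebraicGeometry
open RefCh

namespace Groth.Agent.S17920

/-- Let k be an algebraically closed field, X an integral normal scheme of dimension s + 2 admitting a
closed immersion into some P^N_k over k, and L_1, …, L_s very ample invertible O_X-modules (each L_i
≅ ι_i^* O(1) for a closed immersion ι_i of X into a projective space over k) with inverses M_1, …,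
M_s. For a coherent reflexive rank one module ℱ = O_X(D) write q(ℱ) = D^2 · L_1 ⋯ L_s for the limit
of 2 χ(c_1(L_1) ⋯ c_1(L_s) · [ℱ^[m]]) / m^2 (reflexive powers; FGA.intNum in the M_i), and ℱ ⊗̂ 𝒢
for the reflexive hull of ℱ ⊗ 𝒢. Then there is an integer N ≥ 1 such that for all coherent reflexive
rank one ℒ_1 = O_X(D_1), ℒ_2 = O_X(D_2) for which the limits q(ℒ_1), q(ℒ_2), q(ℒ_1 ⊗̂ ℒ_2) exist, N
· (q(ℒ_1 ⊗̂ ℒ_2) - q(ℒ_1) - q(ℒ_2)) / 2 = N · (D_1 · D_2 · L_1 ⋯ L_s) is an integer. -/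
theorem result (k : Type u) [Field k] [IsAlgClosed k] (X : Scheme.{u}) [X.Over (Spec (CommRingCat.of k))]
    [AlgebraicGeometry.IsIntegral X] (hnorm : Pi1.IsNormalScheme X) (s : ℕ) (hdim : topologicalKrullDim X = (s + 2 : ℕ))
    (hproj : ∃ (N : ℕ) (ι : X ⟶ CohB1.ProjSpace N k), IsClosedImmersion ι ∧ ι ≫ CohB1.ProjSpace.toSpec N k = X ↘ Spec (CommRingCat.of k))
    (L M : Fin s → X.Modules)
    (hLva : ∀ i, ∃ (N : ℕ) (ι : X ⟶ CohB1.ProjSpace N k), IsClosedImmersion ι ∧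
      ι ≫ CohB1.ProjSpace.toSpec N k = X ↘ Spec (CommRingCat.of k) ∧
      Nonempty (L i ≅ (Scheme.Modules.pullback ι).obj (Twist.twistProjSpace N k 1)))
    (hLM : ∀ i, Nonempty (CohB1.tensorMod (L i) (M i) ≅ Coh.structureModule X)) :
    ∃ N : ℕ, 0 < N ∧ ∀ (ℒ₁ ℒ₂ : X.Modules), RefHull.IsRef1 ℒ₁ → RefHull.IsRef1 ℒ₂ →
      ∀ (q₁ q₂ q₁₂ : ℝ), Filter.Tendsto (fun m : ℕ => (2 : ℝ) * (FGA.intNum k X (s + 2) M (RefPow.refPow ℒ₁ m) : ℝ) / ((m : ℝ) ^ 2)) Filter.atTop (nhds q₁) →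
        Filter.Tendsto (fun m : ℕ => (2 : ℝ) * (FGA.intNum k X (s + 2) M (RefPow.refPow ℒ₂ m) : ℝ) / ((m : ℝ) ^ 2)) Filter.atTop (nhds q₂) →
        Filter.Tendsto (fun m : ℕ => (2 : ℝ) * (FGA.intNum k X (s + 2) M (RefPow.refPow (RefPow.refTensor ℒ₁ ℒ₂) m) : ℝ) / ((m : ℝ) ^ 2)) Filter.atTop (nhds q₁₂) →
        ∃ z : ℤ, (N : ℝ) * ((q₁₂ - q₁ - q₂) / 2) = (z : ℝ) := by
  have hp := K938.Rows.isProper_of_proj hproj
  have hN := CurvesB.CurveRR.isNoetherian_of_proper k X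
  letI := K938.RefCl.law hnorm
  obtain ⟨G⟩ := K939.SurfRow.exists_geo_veryAmple k X hnorm s hdim L M hLva hLM
  exact K939.SurfRow.denominators G (K938.Rows.hiso k (s + 2) M)

end Groth.Agent.S17920
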