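import Groth.Statements.S17921
import Groth.Agent.RefCh.K938.Rows
import Groth.Agent.RefCh.K938.FrobCl

set_option autoImplicit false
universe u
open CategoryTheory CategoryTheory.Limits AlgebraicGeometry
open RefCh

namespace Groth.Agent.S17921

/-- Let k be an algebraically closed field of characteristic p > 0, X an integral normal scheme of
dimension s + 2 admitting a closed immersion into some P^N_k over k, L_1, …, L_s invertible
O_X-modules with inverses M_1, …, M_s, and ℒ a coherent reflexive O_X-module of rank one (ℒ =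
O_X(D)), with reflexive Frobenius pull-backs G_m = F_X^[m] ℒ (G_0 = ℒ, G_{m+1} ≅ (F_X^* G_m)^**). If
2 χ(c_1(L_1) ⋯ c_1(L_s) · [ℒ^[m]]) / m^2 → a (so a = D^2 · L_1 ⋯ L_s) and χ(c_1(L_1) ⋯ c_1(L_s) ·
[G_m]) / p^{2m} → b (so b = ∫_X ch_2(ℒ) L_1 ⋯ L_s), the Euler characteristics being the alternating
sums FGA.intNum in the M_i, then a = 2 b: the second Chern number ∫_X c_2(ℒ) L_1 ⋯ L_s = a / 2 - b
of a rank one reflexive module vanishes. -/
theorem result (k : Type u) [Field k] [IsAlgClosed k] (X : Scheme.{u}) [X.Over (Spec (CommRingCat.of k))]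
    [AlgebraicGeometry.IsIntegral X] (hnorm : Pi1.IsNormalScheme X) (s : ℕ) (hdim : topologicalKrullDim X = (s + 2 : ℕ))
    (hproj : ∃ (N : ℕ) (ι : X ⟶ CohB1.ProjSpace N k), IsClosedImmersion ι ∧ ι ≫ CohB1.ProjSpace.toSpec N k = X ↘ Spec (CommRingCat.of k))
    (p : ℕ) [Fact p.Prime] [CharP k p] [FrobSch.IsCharP X p]
    (L M : Fin s → X.Modules) (hL : ∀ i, PicF.IsInvertible (L i))
    (hLM : ∀ i, Nonempty (CohB1.tensorMod (L i) (M i) ≅ Coh.structureModule X))
    (ℒ : X.Modules) (hℒ : RefHull.IsRef1 ℒ)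
    (G : ℕ → X.Modules) (hG0 : G 0 = ℒ)
    (hG : ∀ m, Nonempty (G (m + 1) ≅ RefHull.ddual ((Scheme.Modules.pullback (FrobSch.frob X p)).obj (G m)))) (a b : ℝ)
    (ha : Filter.Tendsto (fun m : ℕ => (2 : ℝ) * (FGA.intNum k X (s + 2) M (RefPow.refPow ℒ m) : ℝ) / ((m : ℝ) ^ 2)) Filter.atTop (nhds a))
    (hb : Filter.Tendsto (fun m : ℕ => (FGA.intNum k X (s + 2) M (G m) : ℝ) / ((p : ℝ) ^ (2 * m))) Filter.atTop (nhds b)) :
    a = 2 * b := by
  classical
  have hprX := K938.Rows.isProper_of_proj hproj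
  have : IsLocallyNoetherian X := LocallyOfFiniteType.isLocallyNoetherian (X ↘ Spec (CommRingCat.of k))
  let _ := K938.RefCl.law hnorm
  obtain ⟨δ, hδ⟩ := K939.Abs.exists_isSetup (X ↘ Spec (CommRingCat.of k))
  let Φ := K938.Val.val (FGA.intNum k X (s + 2) M)
  have hΦv : ∀ {F : X.Modules} (hF : RefHull.IsRef1 F), Φ (RefFun.cls F hF) = FGA.intNum k X (s + 2) M F :=
    fun hF => K938.Val.val_cls (K938.Rows.hiso k (s + 2) _) hF
  have v₁ : ∀ m, FGA.intNum k X (s + 2) M (RefPow.refPow ℒ m) = Φ (RefFun.cls ℒ hℒ ^ m) := fun m => by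
    rw [← hΦv (K476.Ref1.isRef1_refPow hℒ m), K938.RefCl.cls_refPow]
  have hcls : ∀ m, ∃ h : RefHull.IsRef1 (G m), RefFun.cls (G m) h = RefFun.cls ℒ hℒ ^ (p ^ m) := by
    intro m
    induction m with
    | zero => subst hG0; exact ⟨hℒ, by rw [pow_zero, pow_one]⟩
    | succ m ih =>
      obtain ⟨h, hc⟩ := ih
      obtain ⟨e⟩ := hG m
      obtain ⟨e'⟩ := K938.FrobCl.nonempty_frob_refPow hnorm hδ p h
      have h' := K938.FrobCl.isRef1_of_iso (e ≪≫ e').symm (K476.Ref1.isRef1_refPow h p)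
      refine ⟨h', ?_⟩
      rw [(RefFun.cls_eq_cls_iff h' (K476.Ref1.isRef1_refPow h p)).2 ⟨e ≪≫ e'⟩, K938.RefCl.cls_refPow h, hc,
        ← pow_mul, ← pow_succ]
  have v₂ : ∀ m, FGA.intNum k X (s + 2) M (G m) = Φ (RefFun.cls ℒ hℒ ^ (p ^ m)) := fun m => by
    obtain ⟨h, hc⟩ := hcls m
    rw [← hc, hΦv]
  simp only [v₁] at ha
  simp only [v₂] at hb
  have hp : 1 < p := (Fact.out : p.Prime).one_lt
  have h1 := ha.comp (tendsto_pow_atTop_atTop_of_one_lt hp)
  refine tendsto_nhds_unique (h1.congr fun m => ?_) (hb.const_mul 2)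
  simp only [Function.comp_apply]
  push_cast
  rw [mul_comm 2 m, pow_mul, mul_div_assoc]

end Groth.Agent.S17921
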