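import Groth.Statements.S17922
import Groth.Agent.RefCh.K476.HilbGeo

set_option autoImplicit false
attribute [-instance] CategoryTheory.catToReflQuiver
universe u
open CategoryTheory CategoryTheory.Limits AlgebraicGeometry
open RefCh

namespace Groth.Agent.S17922

/-- Let k be an algebraically closed field, X an integral normal scheme of dimension n = s + 2 admitting
a closed immersion into some P^N_k over k, and H a very ample invertible O_X-module (H ≅ ι^*O(1) for
a closed immersion ι : X → P^N_k over k) with inverse H'. Let ω be a coherent reflexive O_X-module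
of rank one whose restriction to an open U ⊆ X, smooth over k and big (every point outside U has
local ring of dimension at least 2), is the top exterior power Λ^n Ω_{U/k}; thus ω = O_X(K_X) and
ω^∨ = O_X(-K_X). Let E be a torsion-free coherent O_X-module whose stalk at the generic point has
dimension r, with W = Λ^r E (so det E = W^** and W^∨ = O_X(-c_1(E))). Suppose integers a_0, a_1, …
satisfy χ(X, E ⊗ H^{⊗ m}) = Σ_{i=0}^{n} a_i · C(m + n - i, n - i) for every m ≥ 0 (Euler
characteristics truncated at degree n, FGA.eulerCharLE). Write H^n = χ(c_1(H)^n · [O_X]), deg E =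
c_1(E) · H^{n-1} = χ(c_1(H)^{n-1} · ([O_X] - [W^∨])) and K_X · H^{n-1} = χ(c_1(H)^{n-1} · ([O_X] -
[ω^∨])), every Euler characteristic of a product being the alternating sum FGA.intNum in copies of
H'. Then a_0 = r H^n, a_1 = deg E - (r/2) (K_X · H^{n-1} + (n - 1) H^n) - r H^n, and a_2 =
χ(c_1(H)^{n-2} · [E]) - deg E + (r/2) (K_X · H^{n-1} + (n - 1) H^n). (The published statement is
made for the ample O_X(1) fixed in that section; its proof cuts by general members of |O_X(1)|, so H
is taken very ample here.) -/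
theorem result (k : Type u) [Field k] [IsAlgClosed k] (X : Scheme.{u}) [X.Over (Spec (CommRingCat.of k))]
    [AlgebraicGeometry.IsIntegral X] (hnorm : Pi1.IsNormalScheme X) (s : ℕ) (hdim : topologicalKrullDim X = (s + 2 : ℕ))
    (hproj : ∃ (N : ℕ) (ι : X ⟶ CohB1.ProjSpace N k), IsClosedImmersion ι ∧ ι ≫ CohB1.ProjSpace.toSpec N k = X ↘ Spec (CommRingCat.of k))
    (H H' : X.Modules) (hH : CohB1.IsAmple H)
    (hHva : ∃ (N : ℕ) (ι : X ⟶ CohB1.ProjSpace N k), IsClosedImmersion ι ∧
      ι ≫ CohB1.ProjSpace.toSpec N k = X ↘ Spec (CommRingCat.of k) ∧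
      Nonempty (H ≅ (Scheme.Modules.pullback ι).obj (Twist.twistProjSpace N k 1)))
    (hHH' : Nonempty (CohB1.tensorMod H H' ≅ Coh.structureModule X))
    (ω : X.Modules) (hω : RefHull.IsRef1 ω) (U : X.Opens) [QuasiSeparated (U.ι ≫ (X ↘ Spec (CommRingCat.of k)))]
    (hUsm : Smooth (U.ι ≫ (X ↘ Spec (CommRingCat.of k))))
    (hUbig : ∀ x : X, x ∉ U → (2 : WithBot ℕ∞) ≤ ringKrullDim (X.presheaf.stalk x))
    (hωU : ExtPow.IsExtPow (s + 2) (Omega.sheaf (U.ι ≫ (X ↘ Spec (CommRingCat.of k)))) (ω.restrict U.ι))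
    (r : ℕ) (E : X.Modules) (hE : Coh.IsCoh E) (hEtf : TorSh.IsTorsionFree E)
    (hrk : Module.finrank (X.presheaf.stalk (genericPoint X)) (E.presheaf.stalk (genericPoint X)) = r) (W : X.Modules) (hW : ExtPow.IsExtPow r E W)
    (a : ℕ → ℤ)
    (ha : ∀ m : ℕ, FGA.eulerCharLE k X (ShStab.twist X H E m) (s + 2) =
      ∑ i ∈ Finset.range (s + 3), a i * (Nat.choose (m + (s + 2) - i) (s + 2 - i) : ℤ)) :
    (a 0 : ℝ) = (r : ℝ) * (FGA.intNum k X (s + 2) (fun _ : Fin (s + 2) => H') (Coh.structureModule X) : ℝ) ∧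
    (a 1 : ℝ) = ((FGA.intNum k X (s + 2) (fun _ : Fin (s + 1) => H') (Coh.structureModule X) - FGA.intNum k X (s + 2) (fun _ : Fin (s + 1) => H') (RefHull.dual W) : ℤ) : ℝ) -
      ((r : ℝ) / 2) * (((FGA.intNum k X (s + 2) (fun _ : Fin (s + 1) => H') (Coh.structureModule X) - FGA.intNum k X (s + 2) (fun _ : Fin (s + 1) => H') (RefHull.dual ω) : ℤ) : ℝ) + ((s + 1 : ℕ) : ℝ) * (FGA.intNum k X (s + 2) (fun _ : Fin (s + 2) => H') (Coh.structureModule X) : ℝ)) -
      (r : ℝ) * (FGA.intNum k X (s + 2) (fun _ : Fin (s + 2) => H') (Coh.structureModule X) : ℝ) ∧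
    (a 2 : ℝ) = (FGA.intNum k X (s + 2) (fun _ : Fin s => H') E : ℝ) - ((FGA.intNum k X (s + 2) (fun _ : Fin (s + 1) => H') (Coh.structureModule X) - FGA.intNum k X (s + 2) (fun _ : Fin (s + 1) => H') (RefHull.dual W) : ℤ) : ℝ) +
      ((r : ℝ) / 2) * (((FGA.intNum k X (s + 2) (fun _ : Fin (s + 1) => H') (Coh.structureModule X) - FGA.intNum k X (s + 2) (fun _ : Fin (s + 1) => H') (RefHull.dual ω) : ℤ) : ℝ) + ((s + 1 : ℕ) : ℝ) * (FGA.intNum k X (s + 2) (fun _ : Fin (s + 2) => H') (Coh.structureModule X) : ℝ)) := by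
  have hprop := K938.Rows.isProper_of_proj hproj
  have : IsLocallyNoetherian X := LocallyOfFiniteType.isLocallyNoetherian (X ↘ Spec (CommRingCat.of k))
  obtain ⟨δ, hδ⟩ := K939.Abs.exists_isSetup (X ↘ Spec (CommRingCat.of k))
  have hH' : PicF.IsInvertible H' := K939.Op2.isInvertible_of_tensor hHH'.some
  have hHi : PicF.IsInvertible H := K939.Op2.isInvertible_of_tensor (Groth.Agent.Ega2.Tens.swap _ _ ≪≫ hHH'.some)
  have hadd : K939.Abs.IsAdd2 (fun G : X.Modules => FGA.intNum k X (s + 2) (fun _ : Fin (s + 1) => H') G) :=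
    K938.IntF.isAdd2_intNum k (r := s + 1) hdim (fun _ => H') (fun _ => hH')
  have hcons : ∀ j : ℕ, (fun _ : Fin (j + 1) => H') = (Fin.cons H' (fun _ : Fin j => H') : Fin (j + 1) → X.Modules) :=
    fun j => (Fin.cons_self_tail (fun _ : Fin (j + 1) => H')).symm
  have htw : ∀ m, Coh.IsCoh (ShStab.twist X H E m) := fun m =>
    Groth.Agent.Fga.TwistCoh.isCoh_tensor hE (Groth.Agent.Fdesc.LocGen.isInvertible_tensorPow hHi m)
  -- the iterated differences
  have hstep : ∀ j m, FGA.intNum k X (s + 2) (fun _ : Fin j => H') (ShStab.twist X H E (m + 1)) =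
      FGA.intNum k X (s + 2) (fun _ : Fin j => H') (ShStab.twist X H E m) +
        FGA.intNum k X (s + 2) (fun _ : Fin (j + 1) => H') (ShStab.twist X H E (m + 1)) := by
    intro j m
    rw [hcons j, Groth.Agent.Fga.PicMon.intNum_cons]
    have h1 : FGA.intNum k X (s + 2) (fun _ : Fin j => H') (CohB1.tensorMod H' (ShStab.twist X H E (m + 1))) =
        FGA.intNum k X (s + 2) (fun _ : Fin j => H') (ShStab.twist X H E m) := by
      refine Groth.Agent.Fga.PicMon.intNum_iso k X (s + 2) _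
        (Nonempty.some ((Groth.Agent.Fga.PicMon.mc_eq_iff _ _).1 ?_))
      have h2 := (Groth.Agent.Fga.PicMon.mc_eq_iff _ _).2 hHH'
      rw [Groth.Agent.Fga.PicMon.mc_tensor, Groth.Agent.Fga.PicMon.mc_one] at h2
      unfold ShStab.twist
      rw [Groth.Agent.Fga.PicMon.mc_tensor, Groth.Agent.Fga.PicMon.mc_tensor, Groth.Agent.Fga.PicMon.mc_tensor,
        Groth.Agent.Fga.PicMon.mc_tensorPow, Groth.Agent.Fga.PicMon.mc_tensorPow]
      generalize Groth.Agent.Fga.PicMon.mc H = h, Groth.Agent.Fga.PicMon.mc H' = h',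
        Groth.Agent.Fga.PicMon.mc E = e at h2 ⊢
      calc h' * (e * h ^ (m + 1)) = (h * h') * (e * h ^ m) := by rw [pow_succ]; ac_rfl
        _ = e * h ^ m := by rw [h2, one_mul]
    rw [h1]
    ring
  have hz : ∀ m, FGA.intNum k X (s + 2) (fun _ : Fin (s + 2 + 1) => H') (ShStab.twist X H E m) = 0 := by
    intro m
    refine Groth.Agent.S3231.result k X (s + 2) hdim.le _ (fun _ => hH') _ (htw m) ?_
    refine lt_of_le_of_lt ((topologicalKrullDim_subspace_le _ _).trans hdim.le) ?_
    exact_mod_cast Nat.lt_succ_self (s + 2)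
  have ha' := K476.HilbAlg.coeff_eq' (s + 2)
    (fun j m => FGA.intNum k X (s + 2) (fun _ : Fin j => H') (ShStab.twist X H E m)) hstep hz a (fun m => by
      rw [← ha m, Groth.Agent.Fga.PicMon.intNum_zero])
  have hE0 : ∀ j : ℕ, FGA.intNum k X (s + 2) (fun _ : Fin j => H') (ShStab.twist X H E 0) =
      FGA.intNum k X (s + 2) (fun _ : Fin j => H') E := fun j =>
    Groth.Agent.Fga.PicMon.intNum_iso k X (s + 2) _
      (Groth.Agent.Ega2.Tens.swap E (Coh.structureModule X) ≪≫ Groth.Agent.Ega2.Tens.lunit E)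
  have h0 := ha' 0 (Nat.zero_le _)
  have h1 := ha' 1 (by omega)
  have h2 := ha' 2 (by omega)
  have hz0 := hz 0
  simp only [Nat.sub_zero, hE0] at h0 hz0
  simp only [hE0] at h1 h2
  rw [hz0, sub_zero] at h0
  -- the rank formula
  have hr := K476.HilbGeo.intNum_rank k (s + 2) hdim.le (n := s + 2) hdim.le (fun _ => H') (fun _ => hH') E hE r hrk
  -- the first Chern class
  have hc := K939.Abs2.detdd_sub hδ hnorm hadd hE hW hEtf hrk
  have hWc := K939.ExtIdx.isCoh_of_isExtPow hE hW
  have hW1 := K939.DetCl.inv1_det hδ hnorm hE hW hEtf hrk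
  have hdd := K939.Abs2.ddual_eq hδ hadd hWc hW1
  have hdu := K939.Abs.dual_add hδ hnorm hadd hWc hW1
  have h2m := K476.HilbGeo.two_mul k hnorm s hdim hHva hHH' hω U hUsm hUbig hωU
  have h1' : a 1 = FGA.intNum k X (s + 2) (fun _ : Fin (s + 1) => H') E -
      FGA.intNum k X (s + 2) (fun _ : Fin (s + 2) => H') E := h1
  have h2' : a 2 = FGA.intNum k X (s + 2) (fun _ : Fin s => H') E -
      FGA.intNum k X (s + 2) (fun _ : Fin (s + 1) => H') E := h2
  rw [zsmul_eq_mul] at hc
  push_cast at hc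
  -- the degree
  have hdeg : FGA.intNum k X (s + 2) (fun _ : Fin (s + 1) => H') E =
      r * FGA.intNum k X (s + 2) (fun _ : Fin (s + 1) => H') (Coh.structureModule X) +
      (FGA.intNum k X (s + 2) (fun _ : Fin (s + 1) => H') (Coh.structureModule X) -
        FGA.intNum k X (s + 2) (fun _ : Fin (s + 1) => H') (RefHull.dual W)) := by
    linear_combination hc + hdd + hdu
  have k1 : 2 * a 1 = 2 * (FGA.intNum k X (s + 2) (fun _ : Fin (s + 1) => H') (Coh.structureModule X) -
        FGA.intNum k X (s + 2) (fun _ : Fin (s + 1) => H') (RefHull.dual W)) -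
      r * ((FGA.intNum k X (s + 2) (fun _ : Fin (s + 1) => H') (Coh.structureModule X) -
        FGA.intNum k X (s + 2) (fun _ : Fin (s + 1) => H') (RefHull.dual ω)) +
        ((s + 1 : ℕ) : ℤ) * FGA.intNum k X (s + 2) (fun _ : Fin (s + 2) => H') (Coh.structureModule X)) -
      2 * (r * FGA.intNum k X (s + 2) (fun _ : Fin (s + 2) => H') (Coh.structureModule X)) := by
    rw [h1']
    linear_combination 2 * hdeg - 2 * hr + (r : ℤ) * h2m
  have k2 : 2 * a 2 = 2 * FGA.intNum k X (s + 2) (fun _ : Fin s => H') E -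
      2 * (FGA.intNum k X (s + 2) (fun _ : Fin (s + 1) => H') (Coh.structureModule X) -
        FGA.intNum k X (s + 2) (fun _ : Fin (s + 1) => H') (RefHull.dual W)) +
      r * ((FGA.intNum k X (s + 2) (fun _ : Fin (s + 1) => H') (Coh.structureModule X) -
        FGA.intNum k X (s + 2) (fun _ : Fin (s + 1) => H') (RefHull.dual ω)) +
        ((s + 1 : ℕ) : ℤ) * FGA.intNum k X (s + 2) (fun _ : Fin (s + 2) => H') (Coh.structureModule X)) := by
    rw [h2']
    linear_combination -2 * hdeg - (r : ℤ) * h2m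
  have k1' := congrArg (Int.cast : ℤ → ℝ) k1
  have k2' := congrArg (Int.cast : ℤ → ℝ) k2
  refine ⟨?_, ?_, ?_⟩
  · rw [h0, hr]
    push_cast
    ring
  · push_cast at k1' ⊢
    linear_combination (1 / 2 : ℝ) * k1'
  · push_cast at k2' ⊢
    linear_combination (1 / 2 : ℝ) * k2'

end Groth.Agent.S17922
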