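import Groth.Statements.S17923
import Groth.Agent.RefCh.K939.SurfRow

set_option autoImplicit false
universe u
open CategoryTheory CategoryTheory.Limits AlgebraicGeometry
open RefCh

namespace Groth.Agent.S17923

/-- Let k be an algebraically closed field, X an integral normal scheme of dimension n = s + 2 admitting
a closed immersion into some P^N_k over k, and L_1, …, L_s very ample invertible O_X-modules (each
L_i ≅ ι_i^*O(1) for a closed immersion ι_i of X into a projective space over k) with inverses M_1,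
…, M_s. For coherent reflexive rank one ℱ = O_X(D) write q(ℱ) = D^2 · L_1 ⋯ L_s for the limit of 2
χ(c_1(L_1) ⋯ c_1(L_s) · [ℱ^[m]]) / m^2 (reflexive powers; FGA.intNum in the M_i), ℱ ⊗̂ 𝒢 for the
reflexive hull of ℱ ⊗ 𝒢, and ⟨ℱ, 𝒢⟩ = (q(ℱ ⊗̂ 𝒢) - q(ℱ) - q(𝒢)) / 2. Let 𝒟 and ℰ be coherent
reflexive of rank one with limits q(𝒟) = d > 0, q(ℰ) = e and q(𝒟 ⊗̂ ℰ) = d + e (that is, ⟨𝒟, ℰ⟩ =
0). Then e ≤ 0; and if e = 0 then for every coherent reflexive rank one ℱ with limits q(ℱ) = f and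
q(ℰ ⊗̂ ℱ) = g one has g = e + f, that is ⟨ℰ, ℱ⟩ = 0. Equivalently, the symmetric pairing D_1 · D_2 ·
L_1 ⋯ L_{n-2} on Weil divisor classes has, modulo its radical, signature (1, ρ - 1). (With the
published normalisation of D^2 · L_1 ⋯ L_s, which is the negative of the one used here, the
signature would read (ρ - 1, 1).) -/
theorem result (k : Type u) [Field k] [IsAlgClosed k] (X : Scheme.{u}) [X.Over (Spec (CommRingCat.of k))]
    [AlgebraicGeometry.IsIntegral X] (hnorm : Pi1.IsNormalScheme X) (s : ℕ) (hdim : topologicalKrullDim X = (s + 2 : ℕ))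
    (hproj : ∃ (N : ℕ) (ι : X ⟶ CohB1.ProjSpace N k), IsClosedImmersion ι ∧ ι ≫ CohB1.ProjSpace.toSpec N k = X ↘ Spec (CommRingCat.of k))
    (L M : Fin s → X.Modules)
    (hLva : ∀ i, ∃ (N : ℕ) (ι : X ⟶ CohB1.ProjSpace N k), IsClosedImmersion ι ∧
      ι ≫ CohB1.ProjSpace.toSpec N k = X ↘ Spec (CommRingCat.of k) ∧
      Nonempty (L i ≅ (Scheme.Modules.pullback ι).obj (Twist.twistProjSpace N k 1)))
    (hLM : ∀ i, Nonempty (CohB1.tensorMod (L i) (M i) ≅ Coh.structureModule X))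
    (𝒟 ℰ : X.Modules) (h𝒟 : RefHull.IsRef1 𝒟) (hℰ : RefHull.IsRef1 ℰ) (d e : ℝ)
    (hd : Filter.Tendsto (fun m : ℕ => (2 : ℝ) * (FGA.intNum k X (s + 2) M (RefPow.refPow 𝒟 m) : ℝ) / ((m : ℝ) ^ 2)) Filter.atTop (nhds d))
    (he : Filter.Tendsto (fun m : ℕ => (2 : ℝ) * (FGA.intNum k X (s + 2) M (RefPow.refPow ℰ m) : ℝ) / ((m : ℝ) ^ 2)) Filter.atTop (nhds e))
    (hde : Filter.Tendsto (fun m : ℕ => (2 : ℝ) * (FGA.intNum k X (s + 2) M (RefPow.refPow (RefPow.refTensor 𝒟 ℰ) m) : ℝ) / ((m : ℝ) ^ 2)) Filter.atTop (nhds (d + e)))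
    (hdpos : 0 < d) :
    e ≤ 0 ∧ (e = 0 → ∀ (ℱ : X.Modules), RefHull.IsRef1 ℱ → ∀ (f g : ℝ),
      Filter.Tendsto (fun m : ℕ => (2 : ℝ) * (FGA.intNum k X (s + 2) M (RefPow.refPow ℱ m) : ℝ) / ((m : ℝ) ^ 2)) Filter.atTop (nhds f) →
      Filter.Tendsto (fun m : ℕ => (2 : ℝ) * (FGA.intNum k X (s + 2) M (RefPow.refPow (RefPow.refTensor ℰ ℱ) m) : ℝ) / ((m : ℝ) ^ 2)) Filter.atTop (nhds g) → g = e + f) := by
  have hp := K938.Rows.isProper_of_proj hproj
  have hN := CurvesB.CurveRR.isNoetherian_of_proper k X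
  letI := K938.RefCl.law hnorm
  obtain ⟨G⟩ := K939.SurfRow.exists_geo_veryAmple k X hnorm s hdim L M hLva hLM
  exact K939.SurfRow.hodge G (K938.Rows.hiso k (s + 2) M) (K939.SurfRow.exists_ample hproj) 𝒟 ℰ h𝒟 hℰ d e hd he hde hdpos

end Groth.Agent.S17923
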