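import Groth.Statements.S17926
import Groth.Agent.RefCh.K939.Ref1
import Groth.Agent.RefCh.K939.Op2

set_option autoImplicit false
universe u
open CategoryTheory CategoryTheory.Limits AlgebraicGeometry
open RefCh

namespace Groth.Agent.S17926

/-- Let k be an algebraically closed field, X an integral normal scheme of dimension n = s + 2 admitting
a closed immersion into some P^N_k over k, δ a dimension function on X (Cyc.IsSetup) with δ(generic
point) = n, L_1, …, L_{n-1} invertible O_X-modules with inverses M_1, …, M_{n-1}, and ℒ a coherent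
reflexive O_X-module of rank one (ℒ = O_X(-D) for a Weil divisor D, [O_D] = [O_X] - [ℒ]). With
c_1(L) · [F] = [F] - [L^{-1} ⊗ F] on K_0(Coh(X)), the class c_1(L_1) ⋯ c_1(L_{n-1}) · [O_D] = Σ_{I ⊆
{1, …, n-1}} (-1)^{|I|} ([M_I ⊗ O_X] - [M_I ⊗ ℒ]), where M_I = ⊗_{i ∈ I} M_i (FGA.tensorList of the
sorted I), lies in K_0(X), the subgroup generated by the classes of coherent modules with
zero-dimensional support: its image in K_0(Coh(X)) / K_0(X) (Cyc.toK0CohQuot δ n 0) vanishes. -/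
theorem result (k : Type u) [Field k] [IsAlgClosed k] (X : Scheme.{u}) [X.Over (Spec (CommRingCat.of k))]
    [AlgebraicGeometry.IsIntegral X] (hnorm : Pi1.IsNormalScheme X) (s : ℕ) (hdim : topologicalKrullDim X = (s + 2 : ℕ))
    (hproj : ∃ (N : ℕ) (ι : X ⟶ CohB1.ProjSpace N k), IsClosedImmersion ι ∧ ι ≫ CohB1.ProjSpace.toSpec N k = X ↘ Spec (CommRingCat.of k))
    (δ : X → ℤ) (hδ : Cyc.IsSetup X δ) (hδη : δ (genericPoint X) = (s + 2 : ℕ))
    (L M : Fin (s + 1) → X.Modules) (hL : ∀ i, PicF.IsInvertible (L i))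
    (hLM : ∀ i, Nonempty (CohB1.tensorMod (L i) (M i) ≅ Coh.structureModule X))
    (ℒ : X.Modules) (hℒ : RefHull.IsRef1 ℒ) :
    (∑ I : Finset (Fin (s + 1)), ((-1 : ℤ) ^ I.card) •
      (Cyc.toK0CohQuot δ (s + 2 : ℕ) 0 (CohB1.tensorMod (FGA.tensorList ((I.sort (· ≤ ·)).map M)) (Coh.structureModule X)) -
        Cyc.toK0CohQuot δ (s + 2 : ℕ) 0 (CohB1.tensorMod (FGA.tensorList ((I.sort (· ≤ ·)).map M)) ℒ))) = 0 := by
  have := hδ.1
  have hM : ∀ i, PicF.IsInvertible (M i) := fun i =>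
    K939.Op2.isInvertible_of_tensor (hLM i).some
  have hO : Cyc.CohLe δ (s + 2 : ℕ) (Coh.structureModule X) :=
    K939.Gen.cohLe_of_isCoh hδ K939.Ref1.isCoh_structureModule hδη
  have hL' : Cyc.CohLe δ (s + 2 : ℕ) ℒ := K939.Gen.cohLe_of_isCoh hδ hℒ.1 hδη
  obtain ⟨t, ht⟩ := K939.Ref1.exists_gen_structureModule (genericPoint X)
  obtain ⟨t', ht'⟩ := K939.Ref1.exists_gen hℒ.2.2
  have h := K939.Ref1.toQ_eq hδ hδη K939.Ref1.isCoh_structureModule hℒ.1
    ((K939.Ref1.genEquiv ht).symm.trans (K939.Ref1.genEquiv ht'))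
  rw [K939.Op.toQ_eq_iff] at h
  have h1 := K939.Op2.S_mem hδ hM (m' := 0) (by omega) (by push_cast; ring) h
  rw [← K939.Op2.sum_sub_eq hM hO hL'] at h1
  have h2 := (QuotientAddGroup.eq_zero_iff _).2 h1
  refine Eq.trans ?_ h2
  rw [QuotientAddGroup.mk_sum]
  refine Finset.sum_congr rfl fun I _ => ?_
  rw [QuotientAddGroup.mk_zsmul, QuotientAddGroup.mk_sub]
  rfl

end Groth.Agent.S17926
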