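import Groth.Statements.S17927
import Groth.Agent.S17915
import Groth.Agent.S17916
import Groth.Agent.RefCh.K476.Consumer
import Groth.Agent.Dix.ProjProper

set_option autoImplicit false
attribute [-instance] CategoryTheory.catToReflQuiver
universe u
open CategoryTheory CategoryTheory.Limits AlgebraicGeometry
open RefCh

namespace Groth.Agent.S17927

/-- Let k be an algebraically closed field of characteristic p > 0 and X an integral normal scheme of
dimension 2 admitting a closed immersion into some P^N_k over k; let ω be a coherent reflexive rank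
one O_X-module whose restriction to a big open U ⊆ X smooth over k (points outside U have local ring
of dimension at least 2) is Λ^2 Ω_{U/k}, so ω = O_X(K_X). For coherent reflexive rank one ℱ = O_X(D)
write q(ℱ) = D^2 for the limit of 2 χ(ℱ^[m]) / m^2 (Euler characteristics truncated at degree 2,
FGA.eulerCharLE), ℱ ⊗̂ 𝒢 for the reflexive hull of ℱ ⊗ 𝒢 and ⟨ℱ, 𝒢⟩ = (q(ℱ ⊗̂ 𝒢) - q(ℱ) - q(𝒢)) / 2.
Let c be a real-valued function on O_X-modules such that (1) there is φ : ℕ → ℝ with |χ(E) - ((1/2)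
(q(W^**) - ⟨W^**, ω⟩) - c(E) + r χ(O_X))| ≤ φ(r) for every coherent reflexive E whose stalk at the
generic point has dimension r, with W = Λ^r E (det E = W^**, so q(W^**) - ⟨W^**, ω⟩ = c_1(E) ·
(c_1(E) - K_X)), whenever the three limits q(W^**), q(ω), q(W^** ⊗̂ ω) exist; and (2) c(G_m) =
p^{2m} c(E) for every coherent reflexive E and its reflexive Frobenius pull-backs G_0 = E, G_{m+1} ≅
(F_X^* G_m)^**. Then for every coherent reflexive E of rank r with W = Λ^r E and Frobenius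
pull-backs (G_m), if 2 χ((W^**)^[m]) / m^2 → a and χ(G_m) / p^{2m} → b then c(E) = a / 2 - b; that
is, ∫_X c_2 is uniquely determined by the Riemann–Roch bound and the Frobenius scaling, and equals
(1/2) c_1(E)^2 - lim χ(F_X^[m] E) / p^{2m}. (The published statement is for normal proper surfaces;
it is stated here for X projective, where the intersection numbers of Weil divisors are expressed
through the limits q.) -/
theorem result (k : Type u) [Field k] [IsAlgClosed k] (X : Scheme.{u}) [X.Over (Spec (CommRingCat.of k))]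
    [AlgebraicGeometry.IsIntegral X] (hnorm : Pi1.IsNormalScheme X) (hdim : topologicalKrullDim X = 2)
    (hproj : ∃ (N : ℕ) (ι : X ⟶ CohB1.ProjSpace N k), IsClosedImmersion ι ∧ ι ≫ CohB1.ProjSpace.toSpec N k = X ↘ Spec (CommRingCat.of k))
    (p : ℕ) [Fact p.Prime] [CharP k p] [FrobSch.IsCharP X p]
    (ω : X.Modules) (hω : RefHull.IsRef1 ω) (U : X.Opens) [QuasiSeparated (U.ι ≫ (X ↘ Spec (CommRingCat.of k)))]
    (hUsm : Smooth (U.ι ≫ (X ↘ Spec (CommRingCat.of k))))
    (hUbig : ∀ x : X, x ∉ U → (2 : WithBot ℕ∞) ≤ ringKrullDim (X.presheaf.stalk x))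
    (hωU : ExtPow.IsExtPow 2 (Omega.sheaf (U.ι ≫ (X ↘ Spec (CommRingCat.of k)))) (ω.restrict U.ι))
    (c : X.Modules → ℝ)
    (h1 : ∃ φ : ℕ → ℝ, ∀ (r : ℕ) (E : X.Modules), Coh.IsCoh E → RefHull.IsReflexive E → Module.finrank (X.presheaf.stalk (genericPoint X)) (E.presheaf.stalk (genericPoint X)) = r →
      ∀ (W : X.Modules), ExtPow.IsExtPow r E W → ∀ (qE qω qEω : ℝ),
        Filter.Tendsto (fun m : ℕ => (2 : ℝ) * (FGA.eulerCharLE k X (RefPow.refPow (RefHull.ddual W) m) 2 : ℝ) / ((m : ℝ) ^ 2)) Filter.atTop (nhds qE) →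
        Filter.Tendsto (fun m : ℕ => (2 : ℝ) * (FGA.eulerCharLE k X (RefPow.refPow ω m) 2 : ℝ) / ((m : ℝ) ^ 2)) Filter.atTop (nhds qω) →
        Filter.Tendsto (fun m : ℕ => (2 : ℝ) * (FGA.eulerCharLE k X (RefPow.refPow (RefPow.refTensor (RefHull.ddual W) ω) m) 2 : ℝ) / ((m : ℝ) ^ 2)) Filter.atTop (nhds qEω) →
        |(FGA.eulerCharLE k X E 2 : ℝ) - ((1 / 2 : ℝ) * (qE - (qEω - qE - qω) / 2) - c E + (r : ℝ) * (FGA.eulerCharLE k X (Coh.structureModule X) 2 : ℝ))| ≤ φ r)
    (h2 : ∀ (E : X.Modules), Coh.IsCoh E → RefHull.IsReflexive E →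
      ∀ (G : ℕ → X.Modules), G 0 = E →
        (∀ m, Nonempty (G (m + 1) ≅ RefHull.ddual ((Scheme.Modules.pullback (FrobSch.frob X p)).obj (G m)))) →
        ∀ m, c (G m) = (p : ℝ) ^ (2 * m) * c E)
    (r : ℕ) (E : X.Modules) (hE : Coh.IsCoh E) (hEr : RefHull.IsReflexive E) (hrk : Module.finrank (X.presheaf.stalk (genericPoint X)) (E.presheaf.stalk (genericPoint X)) = r)
    (W : X.Modules) (hW : ExtPow.IsExtPow r E W)
    (G : ℕ → X.Modules) (hG0 : G 0 = E)
    (hG : ∀ m, Nonempty (G (m + 1) ≅ RefHull.ddual ((Scheme.Modules.pullback (FrobSch.frob X p)).obj (G m)))) (a b : ℝ)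
    (ha : Filter.Tendsto (fun m : ℕ => (2 : ℝ) * (FGA.eulerCharLE k X (RefPow.refPow (RefHull.ddual W) m) 2 : ℝ) / ((m : ℝ) ^ 2)) Filter.atTop (nhds a))
    (hb : Filter.Tendsto (fun m : ℕ => (FGA.eulerCharLE k X (G m) 2 : ℝ) / ((p : ℝ) ^ (2 * m))) Filter.atTop (nhds b)) :
    c E = a / 2 - b := by
  have hprop : IsProper (X ↘ Spec (CommRingCat.of k)) := by
    obtain ⟨N, ι, hι, hιk⟩ := hproj
    have hpr : IsProper (CohB1.ProjSpace.toSpec N k) := Groth.Agent.Dix.ProjProper.isProper_toSpec N k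
    rw [← hιk]; infer_instance
  have : IsLocallyNoetherian X := LocallyOfFiniteType.isLocallyNoetherian (X ↘ Spec (CommRingCat.of k))
  have : CompactSpace X := (quasiCompact_iff_compactSpace (X ↘ (Spec (CommRingCat.of k)))).mp inferInstance
  have : AlgebraicGeometry.IsNoetherian X := {}
  let _ := K938.RefCl.law hnorm
  have hdim' : topologicalKrullDim X = ((0 + 2 : ℕ) : WithBot ℕ∞) := by rw [hdim]; rfl
  have h0 : ∀ F : X.Modules, FGA.intNum k X (0 + 2) (Fin.elim0 : Fin 0 → X.Modules) F = FGA.eulerCharLE k X F 2 :=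
    fun F => Groth.Agent.Fga.PicMon.intNum_zero k X 2 _ F
  have hQ := K476.QForm.qf_of (X := X) (φ := fun G => FGA.eulerCharLE k X G 2)
    (fun F G h => Groth.Agent.Fga.PicMon.euler_iso k X h.some 2)
    (fun ℒ hℒ => by
      obtain ⟨q, hq⟩ := S17915.result k X hnorm 0 hdim' hproj Fin.elim0 Fin.elim0 (fun i => i.elim0)
        (fun i => i.elim0) ℒ hℒ
      refine ⟨2 * q, (hq.const_mul 2).congr fun m => ?_⟩
      rw [h0]
      ring)
    (fun L₁ L₂ L₃ h₁ h₂ h₃ q₁ q₂ q₃ q₁₂ q₁₃ q₂₃ q₁₂₃ => by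
      have h := S17916.result k X hnorm 0 hdim' hproj Fin.elim0 Fin.elim0 (fun i => i.elim0)
        (fun i => i.elim0) L₁ L₂ L₃ h₁ h₂ h₃ q₁ q₂ q₃ q₁₂ q₁₃ q₂₃ q₁₂₃
      simp only [h0] at h
      exact h)
  exact K476.Consumer.uniq p (φ := fun G => FGA.eulerCharLE k X G 2)
    (fun F G h => Groth.Agent.Fga.PicMon.euler_iso k X h.some 2) hQ hnorm ω hω c
    (FGA.eulerCharLE k X (Coh.structureModule X) 2 : ℝ) h1 h2 r E hE hEr hrk W hW G hG0 hG a b ha hb

end Groth.Agent.S17927
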