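import Groth.Statements.S17928
import Groth.Agent.RefCh.K939.SZero

set_option autoImplicit false
universe u
open CategoryTheory CategoryTheory.Limits AlgebraicGeometry
open RefCh

namespace Groth.Agent.S17928

/-- Let k be an algebraically closed field, X an integral normal scheme of dimension n = s + 2 admitting
a closed immersion into some P^N_k over k, δ a dimension function on X (Cyc.IsSetup) with δ(generic
point) = n, L_1, …, L_{n-1} invertible O_X-modules with inverses M_1, …, M_{n-1}, and ℒ_1, ℒ_2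
coherent reflexive O_X-modules of rank one (ℒ_j = O_X(-D_j)); write ℒ_1 ⊗̂ ℒ_2 for the reflexive
hull of ℒ_1 ⊗ ℒ_2, which is O_X(-D_1 - D_2). In K(X) = K_0(Coh(X)) (classes KZero.clSub for the
property 'coherent with support of δ-dimension ≤ n', i.e. all coherent modules) put S(ℒ) = Σ_{I ⊆
{1, …, n-1}} (-1)^{|I|} ([M_I ⊗ O_X] - [M_I ⊗ ℒ]) with M_I = ⊗_{i∈I} M_i, so that S(O_X(-D)) =
c_1(L_1) ⋯ c_1(L_{n-1}) · [O_D]. Then S(ℒ_1 ⊗̂ ℒ_2) = S(ℒ_1) + S(ℒ_2): the K(X)-valued symbol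
c_1(L_1) ⋯ c_1(L_{n-1}) · [O_D] is additive, hence ℤ-linear, in the Weil divisor D. -/
theorem result (k : Type u) [Field k] [IsAlgClosed k] (X : Scheme.{u}) [X.Over (Spec (CommRingCat.of k))]
    [AlgebraicGeometry.IsIntegral X] (hnorm : Pi1.IsNormalScheme X) (s : ℕ) (hdim : topologicalKrullDim X = (s + 2 : ℕ))
    (hproj : ∃ (N : ℕ) (ι : X ⟶ CohB1.ProjSpace N k), IsClosedImmersion ι ∧ ι ≫ CohB1.ProjSpace.toSpec N k = X ↘ Spec (CommRingCat.of k))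
    (δ : X → ℤ) (hδ : Cyc.IsSetup X δ) (hδη : δ (genericPoint X) = (s + 2 : ℕ))
    (L M : Fin (s + 1) → X.Modules) (hL : ∀ i, PicF.IsInvertible (L i))
    (hLM : ∀ i, Nonempty (CohB1.tensorMod (L i) (M i) ≅ Coh.structureModule X))
    (ℒ₁ ℒ₂ : X.Modules) (h₁ : RefHull.IsRef1 ℒ₁) (h₂ : RefHull.IsRef1 ℒ₂) :
    (∑ I : Finset (Fin (s + 1)), ((-1 : ℤ) ^ I.card) •
        (KZero.clSub (Cyc.CohLe δ (s + 2 : ℕ)) (CohB1.tensorMod (FGA.tensorList ((I.sort (· ≤ ·)).map M)) (Coh.structureModule X)) -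
          KZero.clSub (Cyc.CohLe δ (s + 2 : ℕ)) (CohB1.tensorMod (FGA.tensorList ((I.sort (· ≤ ·)).map M)) (RefPow.refTensor ℒ₁ ℒ₂)))) =
      (∑ I : Finset (Fin (s + 1)), ((-1 : ℤ) ^ I.card) •
        (KZero.clSub (Cyc.CohLe δ (s + 2 : ℕ)) (CohB1.tensorMod (FGA.tensorList ((I.sort (· ≤ ·)).map M)) (Coh.structureModule X)) -
          KZero.clSub (Cyc.CohLe δ (s + 2 : ℕ)) (CohB1.tensorMod (FGA.tensorList ((I.sort (· ≤ ·)).map M)) ℒ₁))) +
      (∑ I : Finset (Fin (s + 1)), ((-1 : ℤ) ^ I.card) •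
        (KZero.clSub (Cyc.CohLe δ (s + 2 : ℕ)) (CohB1.tensorMod (FGA.tensorList ((I.sort (· ≤ ·)).map M)) (Coh.structureModule X)) -
          KZero.clSub (Cyc.CohLe δ (s + 2 : ℕ)) (CohB1.tensorMod (FGA.tensorList ((I.sort (· ≤ ·)).map M)) ℒ₂))) := by
  have := hδ.1
  have hM : ∀ i, PicF.IsInvertible (M i) := fun i =>
    K939.Op2.isInvertible_of_tensor (hLM i).some
  have hO : Cyc.CohLe δ (s + 2 : ℕ) (Coh.structureModule X) :=
    K939.Gen.cohLe_of_isCoh hδ K939.Ref1.isCoh_structureModule hδη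
  have hL1 : Cyc.CohLe δ (s + 2 : ℕ) ℒ₁ := K939.Gen.cohLe_of_isCoh hδ h₁.1 hδη
  have hL2 : Cyc.CohLe δ (s + 2 : ℕ) ℒ₂ := K939.Gen.cohLe_of_isCoh hδ h₂.1 hδη
  have hL12 : Cyc.CohLe δ (s + 2 : ℕ) (RefPow.refTensor ℒ₁ ℒ₂) :=
    K939.Gen.cohLe_of_isCoh hδ (K476.HomSh4.isCoh_ddual (K939.Codim1.isCoh_tensor h₁.1 h₂.1)) hδη
  have h := K939.TensCmp.toQ_refTensor hδ (n := ((s + 2 : ℕ) : ℤ)) hδη h₁.1 h₂.1
    (fun x hx => K939.Codim1.nonempty_equiv_of_ref1 hδ hnorm (by rw [hδη]; exact hx) h₁)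
    (fun x hx => K939.Codim1.nonempty_equiv_of_ref1 hδ hnorm (by rw [hδη]; exact hx) h₂)
  rw [K939.SZero.toQ_add_eq_iff] at h
  have h3 := K939.SZero.S_eq_zero (m := ((s + 2 : ℕ) : ℤ) - 1 - 1) hδ hdim.le hδη hM
    (by omega) (by push_cast; omega) h
  rw [K939.Op2.sum_sub_eq hM hO hL12, K939.Op2.sum_sub_eq hM hO hL1, K939.Op2.sum_sub_eq hM hO hL2,
    ← map_add, ← sub_eq_zero, ← map_sub]
  rw [← neg_eq_zero, ← map_neg]
  refine Eq.trans (congrArg _ ?_) h3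
  abel

end Groth.Agent.S17928
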