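import Groth.Statements.S17929
import Groth.Agent.RefCh.K939.Ref1
import Groth.Agent.RefCh.K939.Op3

set_option autoImplicit false
universe u
open CategoryTheory CategoryTheory.Limits AlgebraicGeometry
open RefCh

namespace Groth.Agent.S17929

/-- Let k be an algebraically closed field, X an integral normal scheme of dimension n = s + 2 admitting
a closed immersion into some P^N_k over k, δ a dimension function on X (Cyc.IsSetup) with δ(generic
point) = n, L_1, …, L_s, A and B invertible O_X-modules with inverses M_1, …, M_s, A' and B' (so A'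
⊗ B' is an inverse of A ⊗ B), and ℒ a coherent reflexive O_X-module of rank one (ℒ = O_X(-D)). For a
family (N_0, …, N_s) of modules put S_N(ℒ) = Σ_{I ⊆ {0, …, s}} (-1)^{|I|} ([N_I ⊗ O_X] - [N_I ⊗ ℒ])
in K(X) = K_0(Coh(X)) (classes KZero.clSub of coherent modules), N_I = ⊗_{i∈I} N_i, so that S_{(A',
M_1, …, M_s)}(O_X(-D)) = c_1(A) c_1(L_1) ⋯ c_1(L_s) · [O_D]. Then S_{(A' ⊗ B', M)}(ℒ) = S_{(A',
M)}(ℒ) + S_{(B', M)}(ℒ): the K(X)-valued symbol c_1(L_0) c_1(L_1) ⋯ c_1(L_s) · [O_D] is additive,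
hence ℤ-linear, in the invertible module L_0. -/
theorem result (k : Type u) [Field k] [IsAlgClosed k] (X : Scheme.{u}) [X.Over (Spec (CommRingCat.of k))]
    [AlgebraicGeometry.IsIntegral X] (hnorm : Pi1.IsNormalScheme X) (s : ℕ) (hdim : topologicalKrullDim X = (s + 2 : ℕ))
    (hproj : ∃ (N : ℕ) (ι : X ⟶ CohB1.ProjSpace N k), IsClosedImmersion ι ∧ ι ≫ CohB1.ProjSpace.toSpec N k = X ↘ Spec (CommRingCat.of k))
    (δ : X → ℤ) (hδ : Cyc.IsSetup X δ) (hδη : δ (genericPoint X) = (s + 2 : ℕ))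
    (L M : Fin s → X.Modules) (hL : ∀ i, PicF.IsInvertible (L i))
    (hLM : ∀ i, Nonempty (CohB1.tensorMod (L i) (M i) ≅ Coh.structureModule X))
    (A A' B B' : X.Modules) (hA : PicF.IsInvertible A) (hB : PicF.IsInvertible B)
    (hAA' : Nonempty (CohB1.tensorMod A A' ≅ Coh.structureModule X))
    (hBB' : Nonempty (CohB1.tensorMod B B' ≅ Coh.structureModule X))
    (ℒ : X.Modules) (hℒ : RefHull.IsRef1 ℒ) :
    (∑ I : Finset (Fin (s + 1)), ((-1 : ℤ) ^ I.card) •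
        (KZero.clSub (Cyc.CohLe δ (s + 2 : ℕ)) (CohB1.tensorMod (FGA.tensorList ((I.sort (· ≤ ·)).map (Fin.cons (CohB1.tensorMod A' B') M))) (Coh.structureModule X)) -
          KZero.clSub (Cyc.CohLe δ (s + 2 : ℕ)) (CohB1.tensorMod (FGA.tensorList ((I.sort (· ≤ ·)).map (Fin.cons (CohB1.tensorMod A' B') M))) ℒ))) =
      (∑ I : Finset (Fin (s + 1)), ((-1 : ℤ) ^ I.card) •
        (KZero.clSub (Cyc.CohLe δ (s + 2 : ℕ)) (CohB1.tensorMod (FGA.tensorList ((I.sort (· ≤ ·)).map (Fin.cons A' M))) (Coh.structureModule X)) -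
          KZero.clSub (Cyc.CohLe δ (s + 2 : ℕ)) (CohB1.tensorMod (FGA.tensorList ((I.sort (· ≤ ·)).map (Fin.cons A' M))) ℒ))) +
      (∑ I : Finset (Fin (s + 1)), ((-1 : ℤ) ^ I.card) •
        (KZero.clSub (Cyc.CohLe δ (s + 2 : ℕ)) (CohB1.tensorMod (FGA.tensorList ((I.sort (· ≤ ·)).map (Fin.cons B' M))) (Coh.structureModule X)) -
          KZero.clSub (Cyc.CohLe δ (s + 2 : ℕ)) (CohB1.tensorMod (FGA.tensorList ((I.sort (· ≤ ·)).map (Fin.cons B' M))) ℒ))) := by
  have := hδ.1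
  have hM : ∀ i, PicF.IsInvertible (M i) := fun i =>
    K939.Op2.isInvertible_of_tensor (hLM i).some
  have hA1 : PicF.IsInvertible A' := K939.Op2.isInvertible_of_tensor hAA'.some
  have hB1 : PicF.IsInvertible B' := K939.Op2.isInvertible_of_tensor hBB'.some
  have hO : Cyc.CohLe δ (s + 2 : ℕ) (Coh.structureModule X) :=
    K939.Gen.cohLe_of_isCoh hδ K939.Ref1.isCoh_structureModule hδη
  have hL' : Cyc.CohLe δ (s + 2 : ℕ) ℒ := K939.Gen.cohLe_of_isCoh hδ hℒ.1 hδη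
  obtain ⟨t, ht⟩ := K939.Ref1.exists_gen_structureModule (genericPoint X)
  obtain ⟨t', ht'⟩ := K939.Ref1.exists_gen hℒ.2.2
  have h := K939.Ref1.toQ_eq hδ hδη K939.Ref1.isCoh_structureModule hℒ.1
    ((K939.Ref1.genEquiv ht).symm.trans (K939.Ref1.genEquiv ht'))
  rw [K939.Op.toQ_eq_iff] at h
  rw [K939.Op2.sum_sub_eq (K939.Op3.forall_cons
      (Groth.Agent.Fdesc.LocGen.isInvertible_tensorMod hA1 hB1) hM) hO hL',
    K939.Op2.sum_sub_eq (K939.Op3.forall_cons hA1 hM) hO hL',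
    K939.Op2.sum_sub_eq (K939.Op3.forall_cons hB1 hM) hO hL', K939.Op3.S_cons_tensor hA1 hB1 hM]
  have h1 := K939.Op2.S_mem hδ (K939.Op3.forall_cons hA1 (K939.Op3.forall_cons hB1 hM)) (m' := -1)
    (by omega) (by push_cast; ring) h
  rw [K939.Pos.Km_eq_bot hδ hdim.le hδη (by norm_num), AddSubgroup.mem_bot] at h1
  rw [h1, sub_zero]

end Groth.Agent.S17929
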