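import Groth.Statements.S17931
import Groth.Agent.RefCh.K476.Span
import Groth.Agent.RefCh.K476.FormFG
import Groth.Agent.RefCh.K939.GenHypVA
import Groth.Agent.RefCh.K938.Rows


set_option autoImplicit false
attribute [-instance] CategoryTheory.catToReflQuiver
universe u
open CategoryTheory CategoryTheory.Limits AlgebraicGeometry
open RefCh

namespace Groth.Agent.S17931

/-- Let k be an algebraically closed field, X an integral normal scheme of dimension n = s + 2 admitting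
a closed immersion into some P^N_k over k, and L_1, …, L_s very ample invertible O_X-modules (each
L_i ≅ ι_i^*O(1) for a closed immersion ι_i of X into a projective space over k) with inverses M_1,
…, M_s. For coherent reflexive rank one ℱ = O_X(D) write q(ℱ) = D^2 · L_1 ⋯ L_s for the limit of 2
χ(c_1(L_1) ⋯ c_1(L_s) · [ℱ^[m]]) / m^2 (FGA.intNum in the M_i), ℱ ⊗̂ 𝒢 for the reflexive hull of ℱ ⊗
𝒢 and ⟨ℱ, 𝒢⟩ = (q(ℱ ⊗̂ 𝒢) - q(ℱ) - q(𝒢)) / 2 = D · D' · L_1 ⋯ L_s. Then there are finitely many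
coherent reflexive rank one modules 𝒜_1, …, 𝒜_t such that for every coherent reflexive rank one ℒ
there are integers c_1, …, c_t with ⟨ℒ, ℱ⟩ = Σ_j c_j ⟨𝒜_j, ℱ⟩ for every coherent reflexive rank one
ℱ, whenever the limits q(ℒ), q(ℱ), q(ℒ ⊗̂ ℱ), q(𝒜_j), q(𝒜_j ⊗̂ ℱ) all exist. That is, the group
N_L(X) of Weil divisors modulo the radical of the pairing D_1 · D_2 · L_1 ⋯ L_{n-2} is finitely
generated; being torsion-free it is free of finite rank. -/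
theorem result (k : Type u) [Field k] [IsAlgClosed k] (X : Scheme.{u}) [X.Over (Spec (CommRingCat.of k))]
    [AlgebraicGeometry.IsIntegral X] (hnorm : Pi1.IsNormalScheme X) (s : ℕ) (hdim : topologicalKrullDim X = (s + 2 : ℕ))
    (hproj : ∃ (N : ℕ) (ι : X ⟶ CohB1.ProjSpace N k), IsClosedImmersion ι ∧ ι ≫ CohB1.ProjSpace.toSpec N k = X ↘ Spec (CommRingCat.of k))
    (L M : Fin s → X.Modules)
    (hLva : ∀ i, ∃ (N : ℕ) (ι : X ⟶ CohB1.ProjSpace N k), IsClosedImmersion ι ∧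
      ι ≫ CohB1.ProjSpace.toSpec N k = X ↘ Spec (CommRingCat.of k) ∧
      Nonempty (L i ≅ (Scheme.Modules.pullback ι).obj (Twist.twistProjSpace N k 1)))
    (hLM : ∀ i, Nonempty (CohB1.tensorMod (L i) (M i) ≅ Coh.structureModule X)) :
    ∃ (t : ℕ) (𝒜 : Fin t → X.Modules), (∀ j, RefHull.IsRef1 (𝒜 j)) ∧
      ∀ (ℒ : X.Modules), RefHull.IsRef1 ℒ → ∃ c : Fin t → ℤ,
        ∀ (ℱ : X.Modules), RefHull.IsRef1 ℱ →
        ∀ (qL qF qLF : ℝ) (qA qAF : Fin t → ℝ),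
          Filter.Tendsto (fun m : ℕ => (2 : ℝ) * (FGA.intNum k X (s + 2) M (RefPow.refPow ℒ m) : ℝ) / ((m : ℝ) ^ 2)) Filter.atTop (nhds qL) → Filter.Tendsto (fun m : ℕ => (2 : ℝ) * (FGA.intNum k X (s + 2) M (RefPow.refPow ℱ m) : ℝ) / ((m : ℝ) ^ 2)) Filter.atTop (nhds qF) → Filter.Tendsto (fun m : ℕ => (2 : ℝ) * (FGA.intNum k X (s + 2) M (RefPow.refPow (RefPow.refTensor ℒ ℱ) m) : ℝ) / ((m : ℝ) ^ 2)) Filter.atTop (nhds qLF) →
          (∀ j, Filter.Tendsto (fun m : ℕ => (2 : ℝ) * (FGA.intNum k X (s + 2) M (RefPow.refPow (𝒜 j) m) : ℝ) / ((m : ℝ) ^ 2)) Filter.atTop (nhds (qA j))) →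
          (∀ j, Filter.Tendsto (fun m : ℕ => (2 : ℝ) * (FGA.intNum k X (s + 2) M (RefPow.refPow (RefPow.refTensor (𝒜 j) ℱ) m) : ℝ) / ((m : ℝ) ^ 2)) Filter.atTop (nhds (qAF j))) →
          (qLF - qL - qF) / 2 = ∑ j : Fin t, (c j : ℝ) * ((qAF j - qA j - qF) / 2) := by
  have hprop := K938.Rows.isProper_of_proj hproj
  have : IsLocallyNoetherian X := LocallyOfFiniteType.isLocallyNoetherian (X ↘ Spec (CommRingCat.of k))
  let _ : RefFun.Law X := K938.RefCl.law hnorm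
  have hva : ∀ i, K424.VaRed.VAInv (M i) := by
    intro i
    obtain ⟨N, ι, hι, -, ⟨e⟩⟩ := hLva i
    refine ⟨L i, ?_, K939.GenHypVA.genAff_of_veryAmple N k ι e, ⟨Groth.Agent.Ega2.Tens.swap _ _ ≪≫ (hLM i).some⟩⟩
    exact K939.Op2.isInvertible_of_tensor (Groth.Agent.Ega2.Tens.swap _ _ ≪≫ (hLM i).some)
  obtain ⟨A, B, _, _, r, S, θ, hΦ, hfg⟩ := K476.FormFG.exists_form_fg k X hnorm hdim M hva
  obtain ⟨t, β, hβ⟩ := S.exists_generators hfg
  obtain ⟨n, 𝒜, h𝒜⟩ := K476.Span.exists_generators (G := RefFun.Ref1Set X) (Y := RefFun.Ref1Set X)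
    (fun x y => S.b (θ x) (θ y)) (fun x x' y => by rw [map_mul, S.b_mul]) (fun j y => S.b (β j) (θ y))
    (fun x => by
      obtain ⟨c, hc⟩ := hβ (θ x)
      exact ⟨c, fun y => hc (θ y)⟩)
  -- the limits
  have hiso := fun (F G : X.Modules) (h : Nonempty (F ≅ G)) => K938.Rows.hiso k (s + 2) M F G h
  have hlim : ∀ (F : X.Modules) (hF : RefHull.IsRef1 F) (q : ℝ), Filter.Tendsto (fun m : ℕ => (2 : ℝ) *
      (FGA.intNum k X (s + 2) M (RefPow.refPow F m) : ℝ) / ((m : ℝ) ^ 2)) Filter.atTop (nhds q) →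
      q = ((S.q (θ (RefFun.cls F hF)) : ℚ) : ℝ) := by
    intro F hF q hq
    refine S.eq_q (hq.congr fun m => ?_)
    rw [← map_pow, ← K938.RefCl.cls_refPow hF m, ← hΦ, K938.Val.val_cls hiso]
  refine ⟨n, fun j => K938.Val.rep (𝒜 j), fun j => K938.Val.isRef1_rep _, fun ℒ hℒ => ?_⟩
  obtain ⟨c, hc⟩ := h𝒜 (RefFun.cls ℒ hℒ)
  refine ⟨c, fun ℱ hℱ qL qF qLF qA qAF h1 h2 h3 h4 h5 => ?_⟩
  have hLF : RefHull.IsRef1 (RefPow.refTensor ℒ ℱ) := K476.Ref1.isRef1_refTensor hℒ hℱ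
  have hAF : ∀ j, RefHull.IsRef1 (RefPow.refTensor (K938.Val.rep (𝒜 j)) ℱ) := fun j =>
    K476.Ref1.isRef1_refTensor (K938.Val.isRef1_rep _) hℱ
  have e1 : (qLF - qL - qF) / 2 = ((S.b (θ (RefFun.cls ℒ hℒ)) (θ (RefFun.cls ℱ hℱ)) : ℚ) : ℝ) := by
    rw [hlim ℒ hℒ qL h1, hlim ℱ hℱ qF h2, hlim _ hLF qLF h3, K938.RefCl.cls_refTensor hℒ hℱ, map_mul,
      K424.AbsSurf.Data.b]
    push_cast
    ring
  have e2 : ∀ j, (qAF j - qA j - qF) / 2 = ((S.b (θ (𝒜 j)) (θ (RefFun.cls ℱ hℱ)) : ℚ) : ℝ) := by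
    intro j
    rw [hlim _ (K938.Val.isRef1_rep _) (qA j) (h4 j), hlim ℱ hℱ qF h2, hlim _ (hAF j) (qAF j) (h5 j),
      K938.RefCl.cls_refTensor (K938.Val.isRef1_rep _) hℱ, map_mul, K938.Val.cls_rep, K424.AbsSurf.Data.b]
    push_cast
    ring
  rw [e1, Finset.sum_congr rfl fun j _ => by rw [e2 j]]
  rw [hc (RefFun.cls ℱ hℱ)]
  push_cast
  rfl

end Groth.Agent.S17931
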