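import Groth.Statements.S17934
import Groth.Agent.MultCrv.K940.Basic

set_option autoImplicit false
universe u
open MultCrv

namespace Groth.Agent.S17934

/-- Let R be a discrete valuation ring, n ≥ 1, A = R[X]/(X^n) with z the class of X, and M a finitely
generated A-module that is torsion-free as an R-module. Then for 1 ≤ i ≤ n the graded piece
M^(i)/M^(i-1) of the second canonical filtration (M^(i) the elements killed by z^i) is a free
R-module. (Statement at a closed point of the sheaf statement on a primitive multiple curve of
multiplicity n, whose local rings are of the form R[X]/(X^n) with R the local ring of the reduced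
smooth curve; stated for every discrete valuation ring R.) -/
theorem result (R : Type u) [CommRing R] [IsDomain R] [IsDiscreteValuationRing R] (n : ℕ) (hn : 1 ≤ n) (M : Type u) [AddCommGroup M] [Module (MultCrv.Rn R n) M] [Module R M] [IsScalarTower R (MultCrv.Rn R n) M] [Module.Finite (MultCrv.Rn R n) M] [Module.IsTorsionFree R M] (i : ℕ) (hi : 1 ≤ i) (hin : i ≤ n) : Module.Free R (MultCrv.G2 R n M i) := by
  have hfin := K940.MultCrvBasic.finite_sub (R := R) (n := n) (MultCrv.filt2 R n M i)
  have hfin2 : Module.Finite R (MultCrv.G2 R n M i) := K940.MultCrvBasic.finite_quot _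
  refine Module.free_iff_isTorsionFree.mpr ?_
  rw [Module.isTorsionFree_iff_smul_eq_zero]
  intro r q hrq
  by_cases hr : r = 0
  · exact Or.inl hr
  right
  obtain ⟨u, rfl⟩ := Submodule.Quotient.mk_surjective _ q
  have h1 : (Submodule.Quotient.mk (r • u) : MultCrv.G2 R n M i) = 0 := hrq
  rw [Submodule.Quotient.mk_eq_zero, Submodule.mem_comap] at h1
  rw [Submodule.Quotient.mk_eq_zero, Submodule.mem_comap]
  have h2 := K940.MultCrvBasic.mem_filt2.mp h1
  refine K940.MultCrvBasic.mem_filt2.mpr ?_
  have h3 : r • (MultCrv.z R n ^ (i - 1) • (u : M)) = 0 := by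
    rw [K940.MultCrvBasic.smul_comm']; exact h2
  exact (smul_eq_zero.mp h3).resolve_left hr

end Groth.Agent.S17934
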