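import Groth.Statements.S17935
import Groth.Agent.MultCrv.K940.Duality
import Mathlib.LinearAlgebra.Dual.Lemmas
import Mathlib.Algebra.Module.Projective

set_option autoImplicit false
universe u
open MultCrv

namespace Groth.Agent.S17935

/-- Let R be a discrete valuation ring, n ≥ 1, A = R[X]/(X^n), and M a finitely generated A-module. Then
M is reflexive over A (the evaluation map into the double A-dual is bijective) if and only if M is
torsion-free as an R-module. (Statement at a closed point of the sheaf statement on a primitive
multiple curve of multiplicity n, whose local rings are of the form R[X]/(X^n) with R the local ring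
of the reduced smooth curve, torsion-freeness of a coherent sheaf there meaning no nonzero subsheaf
with finite support; stated for every discrete valuation ring R.) -/
theorem result (R : Type u) [CommRing R] [IsDomain R] [IsDiscreteValuationRing R] (n : ℕ) (hn : 1 ≤ n) (M : Type u) [AddCommGroup M] [Module (MultCrv.Rn R n) M] [Module R M] [IsScalarTower R (MultCrv.Rn R n) M] [Module.Finite (MultCrv.Rn R n) M] : Module.IsReflexive (MultCrv.Rn R n) M ↔ Module.IsTorsionFree R M := by
  have hfin := K940.MultCrvBasic.finite_of_finite R n M
  constructor
  · intro h
    rw [Module.isTorsionFree_iff_smul_eq_zero]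
    intro r u hru
    by_cases hr : r = 0
    · exact Or.inl hr
    right
    apply (Module.bijective_dual_eval (MultCrv.Rn R n) M).1
    rw [map_zero]
    ext f
    change f u = 0
    apply K940.MultCrvDuality.ext_co
    intro i hi
    have h1 : f (algebraMap R (MultCrv.Rn R n) r • u) = 0 := by
      rw [algebraMap_smul, hru, map_zero]
    rw [map_smul, smul_eq_mul] at h1
    have h2 := congrArg (K940.MultCrvDuality.coAdd R n i hi) h1
    rw [K940.MultCrvDuality.coAdd_smul, map_zero] at h2
    rw [map_zero]
    exact (mul_eq_zero.mp h2).resolve_left hr
  · intro h
    have hfree : Module.Free R M := Module.free_of_finite_type_torsion_free'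
    refine ⟨?_, ?_⟩
    · rw [injective_iff_map_eq_zero]
      intro m hm
      apply (Module.bijective_dual_eval R M).1
      rw [map_zero]
      ext g
      change g m = 0
      have h1 : K940.MultCrvDuality.up (n := n) g m = 0 := DFunLike.congr_fun hm (K940.MultCrvDuality.up g)
      have h2 := K940.MultCrvDuality.coAdd_up (n := n) g m (n - 1) (by omega)
      rw [h1, map_zero] at h2
      have h3 : MultCrv.z R n ^ (n - 1 - (n - 1)) • m = m := by
        rw [Nat.sub_self, pow_zero, one_smul]
      rw [h3] at h2
      exact h2.symm
    · intro Φ
      let Ψ : Module.Dual R (Module.Dual R M) :=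
        { toFun := fun g => K940.MultCrvDuality.coAdd R n (n - 1) (by omega)
            (Φ (K940.MultCrvDuality.up g))
          map_add' := by
            intro a b
            rw [K940.MultCrvDuality.up_add, map_add, map_add]
          map_smul' := by
            intro r a
            rw [K940.MultCrvDuality.up_smul, map_smul, smul_eq_mul,
              K940.MultCrvDuality.coAdd_smul]
            rfl }
      obtain ⟨m, hm⟩ := (Module.bijective_dual_eval R M).2 Ψ
      refine ⟨m, ?_⟩
      ext f
      change f m = Φ f
      apply K940.MultCrvDuality.ext_co
      intro j hj
      have key : ∀ f : Module.Dual (MultCrv.Rn R n) M,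
          K940.MultCrvDuality.coAdd R n (n - 1) (by omega) (f m) =
          K940.MultCrvDuality.coAdd R n (n - 1) (by omega) (Φ f) := by
        intro f
        have h1 : K940.MultCrvDuality.top hn f m = Ψ (K940.MultCrvDuality.top hn f) := by
          rw [← hm]; rfl
        change K940.MultCrvDuality.top hn f m = _
        rw [h1]
        change K940.MultCrvDuality.coAdd R n (n - 1) (by omega)
            (Φ (K940.MultCrvDuality.up (K940.MultCrvDuality.top hn f))) = _
        rw [K940.MultCrvDuality.up_top]
      have h4 := key (MultCrv.z R n ^ (n - 1 - j) • f)
      rw [LinearMap.smul_apply, map_smul Φ, smul_eq_mul, smul_eq_mul,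
        K940.MultCrvDuality.coAdd_zpow_mul, K940.MultCrvDuality.coAdd_zpow_mul,
        dif_pos (by omega), dif_pos (by omega)] at h4
      have e : n - 1 - (n - 1 - j) = j := by omega
      simpa only [e] using h4

end Groth.Agent.S17935
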