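import Groth.Statements.S17949
import Groth.Agent.HensSch.K941.SphBasic

set_option autoImplicit false
universe u
open CategoryTheory AlgebraicGeometry Opposite
open HensSch

namespace Groth.Agent.S17949

open TopologicalSpace in
theorem bijective_app {U X : LocallyRingedSpace.{u}} (i : U ⟶ X)
    [LocallyRingedSpace.IsOpenImmersion i] (W : Opens X) (hW : (W : Set X) ⊆ Set.range i.base) :
    Function.Bijective (i.c.app (op W)) := by
  have := PresheafedSpace.IsOpenImmersion.isIso_of_subset i.toHom W hW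
  exact ConcreteCategory.bijective_of_isIso (i.c.app (op W))

/-- Let `X` be a Henselian scheme and let `U = Sph(A, I)`, `V = Sph(B, J)` be affine Henselian opens of
`X` (open immersions `iU`, `iV` of the affine Henselian spectra of Henselian pairs). Then every
point of `U ∩ V` lies in an open subset of `X` which is at the same time the image of a
distinguished open `D(f) ∩ V(I)` of `U` and the image of a distinguished open `D(g) ∩ V(J)` of `V`. -/
theorem result (X : LocallyRingedSpace.{u}) (hX : HensSch.IsHensScheme X)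
    (U V : LocallyRingedSpace.{u}) (iU : U ⟶ X) [LocallyRingedSpace.IsOpenImmersion iU]
    (iV : V ⟶ X) [LocallyRingedSpace.IsOpenImmersion iV]
    (A : Type u) [CommRing A] (I : Ideal A) [HenselianRing A I] (πU : U ⟶ HensSch.specLRS A)
    (hU : HensSch.IsSph A I U πU)
    (B : Type u) [CommRing B] (J : Ideal B) [HenselianRing B J] (πV : V ⟶ HensSch.specLRS B)
    (hV : HensSch.IsSph B J V πV)
    (x : X) (hxU : x ∈ Set.range iU.base) (hxV : x ∈ Set.range iV.base) :
    ∃ (f : A) (g : B), x ∈ iU.base '' (HensSch.dOpen πU f : Set U) ∧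
      iU.base '' (HensSch.dOpen πU f : Set U) = iV.base '' (HensSch.dOpen πV g : Set V) := by
  obtain ⟨u, rfl⟩ := hxU
  obtain ⟨v, hv⟩ := hxV
  -- a distinguished open of `V` inside `U ∩ V`
  have oeU : Topology.IsOpenEmbedding iU.base := PresheafedSpace.IsOpenImmersion.base_open (f := iU.toHom)
  have oeV : Topology.IsOpenEmbedding iV.base := PresheafedSpace.IsOpenImmersion.base_open (f := iV.toHom)
  obtain ⟨g₀, hg₀, hg₀'⟩ := K941.Sph.exists_dOpen_le hV
    (⟨iV.base ⁻¹' Set.range iU.base, oeU.isOpen_range.preimage oeV.continuous⟩) v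
    (show iV.base v ∈ Set.range iU.base from ⟨u, hv.symm⟩)
  let W₀ : TopologicalSpace.Opens X := ⟨iV.base '' (dOpen πV g₀ : Set V),
    oeV.isOpenMap _ (dOpen πV g₀).2⟩
  have hW₀U : (W₀ : Set X) ⊆ Set.range iU.base := by
    rintro _ ⟨v', hv', rfl⟩
    exact hg₀' hv'
  have hW₀V : (W₀ : Set X) ⊆ Set.range iV.base := Set.image_subset_range _ _
  obtain ⟨f, hf, hf'⟩ := K941.Sph.exists_dOpen_le hU ((TopologicalSpace.Opens.map iU.base).obj W₀) u
    (show iU.base u ∈ W₀ from ⟨v, hg₀, hv⟩)
  -- the section defined by `f`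
  have hpre : (TopologicalSpace.Opens.map iV.base).obj W₀ = dOpen πV g₀ := by
    ext1
    exact Set.preimage_image_eq _ oeV.injective
  obtain ⟨sX, hsX⟩ := (bijective_app iU W₀ hW₀U).2
    (U.presheaf.map (homOfLE (le_top : (TopologicalSpace.Opens.map iU.base).obj W₀ ≤ ⊤)).op
      (HensSch.secMap πU ⊤ f))
  let D : TopologicalSpace.Opens X := X.toRingedSpace.basicOpen (U := W₀) sX
  have hbU : (TopologicalSpace.Opens.map iU.base).obj D =
      dOpen πU f := by
    refine (LocallyRingedSpace.preimage_basicOpen iU (U := W₀) sX).trans ?_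
    rw [hsX]
    refine (U.toRingedSpace.basicOpen_res _ _).trans ?_
    refine (congrArg (fun W => _ ⊓ W) (K941.Sph.basicOpen_secMap πU ⊤ f)).trans ?_
    refine le_antisymm (fun y hy => hy.2.2) (fun y hy => ⟨hf' hy, trivial, hy⟩)
  let sV : V.presheaf.obj (op (dOpen πV g₀)) :=
    V.presheaf.map (eqToHom hpre.symm).op (iV.c.app (op W₀) sX)
  obtain ⟨b, hb⟩ := K941.Sph.exists_basicOpen_eq hV g₀ sV
  have hbV : (TopologicalSpace.Opens.map iV.base).obj D =
      dOpen πV (g₀ * b) := by
    refine (LocallyRingedSpace.preimage_basicOpen iV (U := W₀) sX).trans ?_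
    rw [← hb]
    exact (V.toRingedSpace.basicOpen_res_eq (eqToHom hpre.symm).op (iV.c.app (op W₀) sX)).symm
  have hle : (D : Set X) ⊆ W₀ :=
    X.toRingedSpace.basicOpen_le sX
  have h1 : iU.base '' (dOpen πU f : Set U) = (D : Set X) := by
    rw [← hbU]
    exact Set.image_preimage_eq_of_subset (hle.trans hW₀U)
  have h2 : iV.base '' (dOpen πV (g₀ * b) : Set V) =
      (D : Set X) := by
    rw [← hbV]
    exact Set.image_preimage_eq_of_subset (hle.trans hW₀V)
  exact ⟨f, g₀ * b, ⟨u, hf, rfl⟩, h1.trans h2.symm⟩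

end Groth.Agent.S17949
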