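import Groth.Statements.S17953
import Groth.Agent.HensSch.K941.HensAlong
import Groth.Agent.Fdesc.QCohStalk

set_option autoImplicit false
universe u
open CategoryTheory AlgebraicGeometry Opposite
open HensSch

namespace Groth.Agent.S17953

open K941.Sky in
/-- Two maps of quasi-coherent modules agreeing on the stalks at the points of a subset containing
all closed points are equal. -/
theorem eq_of_stalk_eq (X : Scheme.{u}) [CompactSpace X] (Y : Set X)
    (hY : ∀ x : X, IsClosed ({x} : Set X) → x ∈ Y)
    (F G : X.Modules) [F.IsQuasicoherent] [G.IsQuasicoherent] (φ ψ : F ⟶ G)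
    (h : ∀ y ∈ Y, stalkMap (X := X.toLocallyRingedSpace) φ y =
      stalkMap (X := X.toLocallyRingedSpace) ψ y) : φ = ψ := by
  apply K941.StalkExact.hom_ext_stalk (X := X.toLocallyRingedSpace)
  intro x
  obtain ⟨y, hxy, hy⟩ := IsClosed.exists_closed_singleton (isClosed_closure (s := ({x} : Set X)))
    ⟨x, subset_closure rfl⟩
  have hspec : x ⤳ y := specializes_iff_mem_closure.mpr hxy
  ext t
  obtain ⟨_, ⟨U, hU, rfl⟩, hyU, -⟩ := X.isBasis_affineOpens.exists_subset_of_mem_open
    (Set.mem_univ y) isOpen_univ
  have hxU : x ∈ U := hspec.mem_open U.isOpen hyU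
  obtain ⟨g, s, hg, hs⟩ := Groth.Agent.Fdesc.QCohStalk.exists_germ_eq_smul F hU
    (show Coh.IsQCoh F from inferInstance) x hxU t
  have hu : IsUnit (X.presheaf.germ U x hxU g) := (X.mem_basicOpen g x hxU).mp hg
  -- the two sections agree near `y`
  have h1 := LinearMap.congr_fun (h y (hY y hy)) ((pr (X := X.toLocallyRingedSpace) F).germ U y hyU s)
  rw [stalkMap_germ, stalkMap_germ] at h1
  obtain ⟨W, hW, i₁, i₂, h2⟩ := TopCat.Presheaf.germ_eq (pr (X := X.toLocallyRingedSpace) G) y
    hyU hyU _ _ h1
  have hxW : x ∈ W := hspec.mem_open W.isOpen hW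
  have h3 : (pr (X := X.toLocallyRingedSpace) G).germ U x hxU (app (X := X.toLocallyRingedSpace) φ U s) =
      (pr (X := X.toLocallyRingedSpace) G).germ U x hxU (app (X := X.toLocallyRingedSpace) ψ U s) := by
    have h4 := congrArg ((pr (X := X.toLocallyRingedSpace) G).germ W x hxW) h2
    refine ((TopCat.Presheaf.germ_res_apply _ i₁ x hxW _).symm.trans h4).trans
      (TopCat.Presheaf.germ_res_apply _ i₂ x hxW _)
  have h5 : stalkMap (X := X.toLocallyRingedSpace) φ x (F.presheaf.germ U x hxU s) =
      stalkMap (X := X.toLocallyRingedSpace) ψ x (F.presheaf.germ U x hxU s) :=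
    ((stalkMap_germ (X := X.toLocallyRingedSpace) φ x U hxU s).trans h3).trans
      (stalkMap_germ (X := X.toLocallyRingedSpace) ψ x U hxU s).symm
  rw [hs] at h5
  have h6 := (map_smul (stalkMap (X := X.toLocallyRingedSpace) φ x)
    (X.presheaf.germ U x hxU g) t).symm.trans (h5.trans
      (map_smul (stalkMap (X := X.toLocallyRingedSpace) ψ x) (X.presheaf.germ U x hxU g) t))
  exact (hu.smul_left_cancel).mp h6


/-- Let `ι : Xh ⟶ X` be the Henselization of a quasi-compact scheme `X` along a closed subset `Y`
containing every closed point of `X`. Then `F ↦ F^h = ι^* F` is faithful on quasi-coherent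
`O_X`-modules. (The published statement has no condition on `X` or `Y`; for `X = Spec (k × k)`, `Y`
one of the two points and `F` the quasi-coherent module supported at the other point, `F^h = 0`
while `F` has nonzero endomorphisms, so faithfulness fails. The published argument, faithful
flatness of the local rings of `Xh` over those of `X` at points of `Y`, gives faithfulness exactly
when every point of `X` specializes to a point of `Y`, which the two hypotheses here ensure.) -/
theorem result (X : Scheme.{u}) [CompactSpace X] (Y : Set X)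
    (hY : ∀ x : X, IsClosed ({x} : Set X) → x ∈ Y)
    (Xh : LocallyRingedSpace.{u}) (ι : Xh ⟶ X.toLocallyRingedSpace)
    (hh : HensSch.IsHenselizationAlong X Y Xh ι)
    (F G : X.Modules) [F.IsQuasicoherent] [G.IsQuasicoherent] :
    Function.Injective ((HensSch.pullMod ι).map : (F ⟶ G) → ((HensSch.pullMod ι).obj F ⟶ (HensSch.pullMod ι).obj G)) := by
  intro φ ψ hφψ
  apply eq_of_stalk_eq X Y hY F G φ ψ
  intro y hy
  obtain ⟨-, -, hr, -⟩ := id hh
  rw [← hr] at hy
  obtain ⟨z, rfl⟩ := hy
  ext t
  apply K941.FlatPull.canAdd_injective (K941.HensAlong.isFlat X Y Xh ι hh) G z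
  rw [← K941.PullStalk.stalkMap_pullback_canAdd, ← K941.PullStalk.stalkMap_pullback_canAdd]
  exact congrArg (fun χ => K941.Sky.stalkMap χ z (K941.PullStalk.canAdd ι F z t)) hφψ

end Groth.Agent.S17953
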