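import Groth.Statements.S17958
import Groth.Agent.HensSch.K75.H1Sph
import Groth.Agent.HensSch.K75.Triangle
import Groth.Agent.S0526

set_option autoImplicit false
open CategoryTheory AlgebraicGeometry Opposite
open HensSch

namespace Groth.Agent.S17958

/-- Let `R` be a Henselization of the pair `(ℂ[x, y], (x y (x + y − 1)))` (with `x, y` the two variables
of `MvPolynomial (Fin 2) ℂ`), let `K` be an algebraic closure of the fraction field `ℂ(x, y)` into
which `R` is embedded over `ℂ[x, y]`, let `A` be the integral closure of `R` in `K` and `I = x y (x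
+ y − 1) A`. Then `(A, I)` is a Henselian pair and, for `(X, π)` the affine Henselian spectrum of
`(A, I)`, the first sheaf cohomology group `H¹(X, O_X)` is nonzero (so the vanishing of higher
cohomology of quasi-coherent modules on affine Henselian spectra fails in characteristic zero). -/
theorem result
    (R : Type) [CommRing R] [Algebra (MvPolynomial (Fin 2) ℂ) R]
    (hR : Hens2.IsPairHenselization (MvPolynomial (Fin 2) ℂ)
      (Ideal.span {MvPolynomial.X 0 * MvPolynomial.X 1 * (MvPolynomial.X 0 + MvPolynomial.X 1 - 1)}) R)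
    (K : Type) [Field K] [Algebra (MvPolynomial (Fin 2) ℂ) K]
    [NoZeroSMulDivisors (MvPolynomial (Fin 2) ℂ) K] [IsAlgClosure (MvPolynomial (Fin 2) ℂ) K]
    [Algebra R K] [IsScalarTower (MvPolynomial (Fin 2) ℂ) R K]
    (hinj : Function.Injective (algebraMap R K))
    (X : LocallyRingedSpace.{0}) (π : X ⟶ HensSch.specLRS (integralClosure R K))
    (hX : HensSch.IsSph (integralClosure R K)
      (Ideal.map (algebraMap R (integralClosure R K))
        (Ideal.map (algebraMap (MvPolynomial (Fin 2) ℂ) R)
          (Ideal.span {MvPolynomial.X 0 * MvPolynomial.X 1 * (MvPolynomial.X 0 + MvPolynomial.X 1 - 1)})))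
      X π) :
    HenselianRing (integralClosure R K)
      (Ideal.map (algebraMap R (integralClosure R K))
        (Ideal.map (algebraMap (MvPolynomial (Fin 2) ℂ) R)
          (Ideal.span {MvPolynomial.X 0 * MvPolynomial.X 1 * (MvPolynomial.X 0 + MvPolynomial.X 1 - 1)}))) ∧
    Nontrivial (ModSite.HC X.sheaf (ModSite.unit X.sheaf) 1) := by
  classical
  let P := MvPolynomial (Fin 2) ℂ
  let a₁ : R := algebraMap P R (MvPolynomial.X 0)
  let a₂ : R := algebraMap P R (MvPolynomial.X 1)
  let a₃ : R := algebraMap P R (MvPolynomial.X 0 + MvPolynomial.X 1 - 1)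
  have hPK : Function.Injective (algebraMap P K) := FaithfulSMul.algebraMap_injective P K
  have hPR : Function.Injective (algebraMap P R) := by
    have h := hPK
    rw [IsScalarTower.algebraMap_eq P R K, RingHom.coe_comp] at h
    exact Function.Injective.of_comp h
  have : IsAlgClosed K := IsAlgClosure.isAlgClosed P
  have : Algebra.IsAlgebraic P K := IsAlgClosure.isAlgebraic
  have : IsDomain R := hinj.isDomain (algebraMap R K)
  have : FaithfulSMul R K := (faithfulSMul_iff_algebraMap_injective R K).mpr hinj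
  have : FaithfulSMul P R := (faithfulSMul_iff_algebraMap_injective P R).mpr hPR
  have : Algebra.IsAlgebraic P R := Algebra.IsAlgebraic.of_injective (IsScalarTower.toAlgHom P R K) hinj
  have : Algebra.IsAlgebraic R K := Algebra.IsAlgebraic.extendScalars hPR
  have : CharZero K := (RingHom.charZero_iff hPK).mp inferInstance
  have : IsIntegrallyClosed P := inferInstance
  have : IsIntegrallyClosed R := K75.NormHens.isIntegrallyClosed hR
  have hI : Ideal.map (algebraMap P R)
      (Ideal.span {MvPolynomial.X 0 * MvPolynomial.X 1 * (MvPolynomial.X 0 + MvPolynomial.X 1 - 1)}) =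
      Ideal.span {a₁ * a₂ * a₃} := by
    rw [Ideal.map_span, Set.image_singleton, map_mul, map_mul]
  have hRh := hR.1
  refine ⟨Groth.Agent.S0526.result R _ _, ?_⟩
  rw [hI] at hX
  refine K75.H1Sph.nontrivial_H1 R K a₁ a₂ a₃
    (K75.Triangle.isPrime_span hR _ MvPolynomial.X_prime ⟨_, (mul_assoc _ _ _)⟩)
    (K75.Triangle.isPrime_span hR _ MvPolynomial.X_prime ⟨MvPolynomial.X 0 * (MvPolynomial.X 0 + MvPolynomial.X 1 - 1), by ring⟩)
    (K75.Triangle.isPrime_span hR _ K75.Triangle.prime_third ⟨_, mul_comm _ _⟩) ?_ ?_ ?_ ?_ X π hX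
  · intro q hq h1 h2 h3
    apply hq.ne_top
    rw [Ideal.eq_top_iff_one]
    have h : (1 : R) = a₁ + a₂ - a₃ := by
      simp only [a₁, a₂, a₃, map_sub, map_add, map_one]; ring
    rw [h]
    exact Ideal.sub_mem _ (Ideal.add_mem _ h1 h2) h3
  · obtain ⟨q, hq, hq'⟩ := K75.Triangle.exists_prime hR ![0, 0] (by simp)
    exact ⟨q, hq, hq' _ (by simp), hq' _ (by simp)⟩
  · obtain ⟨q, hq, hq'⟩ := K75.Triangle.exists_prime hR ![0, 1] (by simp)
    exact ⟨q, hq, hq' _ (by simp), hq' _ (by simp)⟩
  · obtain ⟨q, hq, hq'⟩ := K75.Triangle.exists_prime hR ![1, 0] (by simp)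
    exact ⟨q, hq, hq' _ (by simp), hq' _ (by simp)⟩

end Groth.Agent.S17958
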