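import Groth.Statements.S17959
import Groth.Agent.Hensel.K146.CoupleSections
import Groth.Agent.S17968

set_option autoImplicit false
open CategoryTheory CategoryTheory.Limits AlgebraicGeometry
universe u
open Hensel

namespace Groth.Agent.S17959

/-- Let X be a quasi-compact quasi-separated scheme and i : X₀ ⟶ X a closed immersion such that (X, X₀)
is a henselian couple, i.e. for every finite morphism g : Y ⟶ X every open-closed subset of Y ×_X X₀
is the inverse image under the first projection of exactly one open-closed subset of Y. Let B = Γ(X,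
O_X) and let J be the kernel of the restriction map B → Γ(X₀, O_{X₀}). Then (B, J) is a henselian
pair. -/
theorem result {X X₀ : Scheme.{u}}
    (i : X₀ ⟶ X) [IsClosedImmersion i] [CompactSpace ↥X] [QuasiSeparatedSpace ↥X]
    (hX : ∀ (Y : Scheme.{u}) (g : Y ⟶ X), IsFinite g →
      ∀ V : Set ↥(pullback g (i)), IsClopen V →
        ∃! U : Set ↥Y, IsClopen U ∧ (pullback.fst g (i)).base ⁻¹' U = V) :
    HenselianRing (Γ(X, ⊤) : Type u) (RingHom.ker i.appTop.hom) := by

  have hX' := (K146.Couple.couple_iff i).mp hX
  refine Groth.Agent.S17968.result _ _ (K146.Couple.ker_le_jacobson i hX') ?_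
  intro m p hp _ eb heb
  obtain ⟨z, rfl⟩ := Ideal.Quotient.mk_surjective eb
  have : Module.Free (Γ(X, ⊤) : Type u) (AdjoinRoot p) := (AdjoinRoot.powerBasis' hp).basis |> Module.Free.of_basis
  have : Module.Finite (Γ(X, ⊤) : Type u) (AdjoinRoot p) := hp.finite_adjoinRoot
  let α : Γ(X, ⊤) ⟶ CommRingCat.of (AdjoinRoot p) := CommRingCat.ofHom (algebraMap _ (AdjoinRoot p))
  have h1 : Flat (Spec.map α) := by
    rw [AlgebraicGeometry.HasRingHomProperty.Spec_iff (P := @Flat)]
    exact RingHom.flat_algebraMap_iff.mpr inferInstance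
  have h2 : IsFinite (Spec.map α) := by
    rw [IsFinite.SpecMap_iff]
    exact RingHom.finite_algebraMap.mpr inferInstance
  have hz : z * z - z ∈ (RingHom.ker i.appTop.hom : Ideal Γ(X, ⊤)).map α.hom := by
    rw [← Ideal.Quotient.eq, map_mul]
    exact heb
  obtain ⟨e, he, hez⟩ := K146.Couple.exists_idem i hX α z hz
  exact ⟨e, he, Ideal.Quotient.eq.mpr hez⟩


end Groth.Agent.S17959
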