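import Groth.Statements.S17965
import Groth.Agent.Hensel.K146.CoupleGamma
import Groth.Agent.S17959
import Groth.Agent.S1297
import Groth.Agent.CalgB.HensPair

set_option autoImplicit false
open CategoryTheory CategoryTheory.Limits AlgebraicGeometry
universe u
open Hensel

namespace Groth.Agent.S17965


/-- Base change of a quotient ring. -/
theorem isPushout_quot {A B : Type u} [CommRing A] [CommRing B] (φ : A →+* B) (I : Ideal A) (J : Ideal B)
    (hIJ : I ≤ J.comap φ) (hJ : J ≤ I.map φ) :
    IsPushout (CommRingCat.ofHom φ) (CommRingCat.ofHom (Ideal.Quotient.mk I))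
      (CommRingCat.ofHom (Ideal.Quotient.mk J)) (CommRingCat.ofHom (Ideal.quotientMap J φ hIJ)) := by
  refine ⟨⟨?_⟩, ⟨PushoutCocone.IsColimit.mk _ (fun s => CommRingCat.ofHom
    (Ideal.Quotient.lift J s.inl.hom ?_)) ?_ ?_ ?_⟩⟩
  · apply CommRingCat.hom_ext
    ext a
    rfl
  · have h1 : J ≤ RingHom.ker s.inl.hom := by
      refine hJ.trans (Ideal.map_le_iff_le_comap.2 fun a ha => ?_)
      rw [Ideal.mem_comap, RingHom.mem_ker]
      have hc := congrArg (fun q => q.hom a) s.condition
      have hc' : s.inl.hom (φ a) = s.inr.hom (Ideal.Quotient.mk I a) := hc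
      rw [hc', Ideal.Quotient.eq_zero_iff_mem.2 ha, map_zero]
    exact fun a ha => h1 ha
  · intro s
    apply CommRingCat.hom_ext
    exact RingHom.ext fun x => rfl
  · intro s
    apply CommRingCat.hom_ext
    refine Ideal.Quotient.ringHom_ext (RingHom.ext fun x => ?_)
    have hc := congrArg (fun q => q.hom x) s.condition
    exact hc
  · intro s m h1 h2
    apply CommRingCat.hom_ext
    refine Ideal.Quotient.ringHom_ext (RingHom.ext fun x => ?_)
    have hc := congrArg (fun q => q.hom x) h1
    exact hc


/-- Let A be a Noetherian ring, I an ideal of A, f : X ⟶ Spec A a proper morphism, i : X₀ = X ×_{Spec A}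
Spec (A/I) ⟶ X the first projection, and assume that (X, X₀) is a henselian couple (for every finite
morphism g : Y ⟶ X, every open-closed subset of Y ×_X X₀ is the inverse image under the first
projection of exactly one open-closed subset of Y). Then (X, X₀) is proper over a henselian pair:
there exist a Noetherian ring A' with an ideal I' such that (A', I') is a henselian pair, a proper
morphism f' : X ⟶ Spec A' and a morphism t : X₀ ⟶ Spec (A'/I') such that the square formed by i, t,
f' and Spec (A'/I') ⟶ Spec A' is cartesian. (The published statement asserts only that X is proper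
over some henselian pair; this row also asks the ring of that pair to be Noetherian, which holds for
the henselization of (A, I) that the proof uses.) -/
theorem result
    (A : Type u) [CommRing A] [IsNoetherianRing A] (I : Ideal A) {X : Scheme.{u}}
    (f : X ⟶ Spec (CommRingCat.of A)) [IsProper f]
    (hX : ∀ (Y : Scheme.{u}) (g : Y ⟶ X), IsFinite g →
      ∀ V : Set ↥(pullback g (pullback.fst f (Spec.map (CommRingCat.ofHom (Ideal.Quotient.mk I))))), IsClopen V →
        ∃! U : Set ↥Y, IsClopen U ∧ (pullback.fst g (pullback.fst f (Spec.map (CommRingCat.ofHom (Ideal.Quotient.mk I))))).base ⁻¹' U = V) :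
    ∃ (A' : Type u) (_ : CommRing A') (I' : Ideal A') (_ : HenselianRing A' I') (_ : IsNoetherianRing A')
      (f' : X ⟶ Spec (CommRingCat.of A')) (_ : IsProper f')
      (t : pullback f (Spec.map (CommRingCat.ofHom (Ideal.Quotient.mk I))) ⟶ Spec (CommRingCat.of (A' ⧸ I'))),
      IsPullback (pullback.fst f (Spec.map (CommRingCat.ofHom (Ideal.Quotient.mk I)))) t f' (Spec.map (CommRingCat.ofHom (Ideal.Quotient.mk I'))) := by

  let i := pullback.fst f (Spec.map (CommRingCat.ofHom (Ideal.Quotient.mk I)))
  let sn := pullback.snd f (Spec.map (CommRingCat.ofHom (Ideal.Quotient.mk I)))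
  have : CompactSpace X := (quasiCompact_iff_compactSpace f).mp inferInstance
  have : QuasiSeparatedSpace X := (quasiSeparated_iff_quasiSeparatedSpace f).mp inferInstance
  have : IsClosedImmersion (Spec.map (CommRingCat.ofHom (Ideal.Quotient.mk I))) :=
    IsClosedImmersion.spec_of_surjective _ Ideal.Quotient.mk_surjective
  let a : CommRingCat.of A ⟶ Γ(X, ⊤) := (Scheme.ΓSpecIso (CommRingCat.of A)).inv ≫ f.appTop
  have hfin : a.hom.Finite := Groth.Agent.S1297.finite_toGlobal A X f
  have hN : IsNoetherianRing Γ(X, ⊤) := by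
    let : Algebra A Γ(X, ⊤) := a.hom.toAlgebra
    have : Module.Finite A Γ(X, ⊤) := hfin
    exact IsNoetherianRing.of_finite A Γ(X, ⊤)
  have hH : HenselianRing (Γ(X, ⊤) : Type u) (RingHom.ker i.appTop.hom) :=
    Groth.Agent.S17959.result i hX
  have hle : (I.map a.hom : Ideal Γ(X, ⊤)) ≤ RingHom.ker i.appTop.hom := by
    rw [Ideal.map_le_iff_le_comap]
    intro x hx
    rw [Ideal.mem_comap, RingHom.mem_ker]
    have h1 := K146.Couple.appTop_eq_zero I sn x hx
    rw [← pullback.condition, Scheme.Hom.comp_appTop] at h1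
    exact h1
  have hfac : X.toSpecΓ ≫ Spec.map a = f := by
    rw [Spec.map_comp, ← Scheme.toSpecΓ_naturality_assoc]
    rw [toSpecΓ_SpecMap_ΓSpecIso_inv, Category.comp_id]
  have hI' : I ≤ (I.map a.hom).comap a.hom := Ideal.le_comap_map
  have hpo := isPushout_quot a.hom I (I.map a.hom) hI' le_rfl
  have hpb := hpo.op.map Scheme.Spec
  have hout : IsPullback i sn (X.toSpecΓ ≫ Spec.map a)
      (Spec.map (CommRingCat.ofHom (Ideal.Quotient.mk I))) := by
    rw [hfac]
    exact IsPullback.of_hasPullback _ _
  have hpb' : IsPullback (Spec.map (CommRingCat.ofHom (Ideal.Quotient.mk (I.map a.hom))))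
      (Spec.map (CommRingCat.ofHom (Ideal.quotientMap (I.map a.hom) a.hom hI'))) (Spec.map a)
      (Spec.map (CommRingCat.ofHom (Ideal.Quotient.mk I))) := hpb.flip
  let t := hpb'.lift (i ≫ X.toSpecΓ) sn (by rw [Category.assoc]; exact hout.w)
  have ht1 : t ≫ Spec.map (CommRingCat.ofHom (Ideal.Quotient.mk (I.map a.hom))) = i ≫ X.toSpecΓ :=
    hpb'.lift_fst _ _ _
  have ht2 : t ≫ Spec.map (CommRingCat.ofHom (Ideal.quotientMap (I.map a.hom) a.hom hI')) = sn :=
    hpb'.lift_snd _ _ _
  rw [← ht2] at hout
  exact ⟨Γ(X, ⊤), inferInstance, I.map a.hom,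
    Groth.Agent.CalgB.HensPair.henselian_of_le hH hle, hN, X.toSpecΓ, K146.Couple.isProper_toSpecΓ f, t,
    IsPullback.of_bot hout ht1.symm hpb'⟩


end Groth.Agent.S17965
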