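import Groth.Statements.S17967
import Groth.Agent.EtPBC.K106.HensPair
import Groth.Agent.Sga4A.HensFibre
import Groth.Agent.Sga7.H764.HpullHigh
import Groth.Agent.EtpbcA.ClosedPushExact
import Groth.Agent.S0101

set_option autoImplicit false
open CategoryTheory CategoryTheory.Limits AlgebraicGeometry
universe u
open Opposite
open EtPBC

namespace Groth.Agent.S17967

open Groth.Agent.EtpbcB

theorem subsingleton_H_of_isZero {X : Scheme.{u}} {G : EtCoh.Ab X} (h : IsZero G) (q : ℕ) :
    Subsingleton (EtCoh.H X G q) := by
  refine subsingleton_of_forall_eq 0 fun x => ?_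
  have h1 : x.comp (Abelian.Ext.mk₀ (𝟙 G)) (add_zero q) = x := Abelian.Ext.comp_mk₀_id _
  rw [← h1, h.eq_of_src (𝟙 G) 0, Abelian.Ext.mk₀_zero, Abelian.Ext.comp_zero]

/-- Let A be a Noetherian ring, I an ideal of A, f : X ⟶ Spec A a proper morphism, i : X₀ = X ×_{Spec A}
Spec (A/I) ⟶ X the first projection, and assume that (X, X₀) is a henselian couple (for every finite
morphism g : Y ⟶ X, every open-closed subset of Y ×_X X₀ is the inverse image under the first
projection of exactly one open-closed subset of Y). Then for every torsion abelian sheaf F on the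
small etale site of X and every q ≥ 0 the map H^q(X, F) → H^q(X, i_* i^* F) induced by the unit F →
i_* i^* F is bijective; since i_* is exact with vanishing higher direct images for the closed
immersion i, this is the comparison H^q(X, F) → H^q(X₀, i^* F) phrased on X. -/
theorem result
    (A : Type u) [CommRing A] [IsNoetherianRing A] (I : Ideal A) {X : Scheme.{u}}
    (f : X ⟶ Spec (CommRingCat.of A)) [IsProper f]
    (hX : ∀ (Y : Scheme.{u}) (g : Y ⟶ X), IsFinite g →
      ∀ V : Set ↥(pullback g (pullback.fst f (Spec.map (CommRingCat.ofHom (Ideal.Quotient.mk I))))), IsClopen V →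
        ∃! U : Set ↥Y, IsClopen U ∧ (pullback.fst g (pullback.fst f (Spec.map (CommRingCat.ofHom (Ideal.Quotient.mk I))))).base ⁻¹' U = V)
    (F : EtCoh.Ab X) (hF : EtCoh.IsTorsion F) (q : ℕ) :
    Function.Bijective
      (Sheaf.H.map ((EtCoh.pullPushAdj (pullback.fst f (Spec.map (CommRingCat.ofHom (Ideal.Quotient.mk I))))).unit.app F) q) := by
  have hpfl : PreservesFiniteLimits (EtCoh.pull (pullback.fst f
      (Spec.map (CommRingCat.ofHom (Ideal.Quotient.mk I))))) := Groth.Agent.S0101.result _
  -- Stein factorization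
  have h1 : GeometricallyConnected f.toNormalization := (Groth.Agent.S0388.result f).1
  have h2 : IsFinite f.fromNormalization := Groth.Agent.S1297.result f
  have h3 : IsAffine f.normalization := isAffine_of_isAffineHom f.fromNormalization
  let B : Type u := Γ(f.normalization, ⊤)
  let e : f.normalization ≅ Spec (CommRingCat.of B) := f.normalization.isoSpec
  obtain ⟨φ, hφ⟩ := Spec.map_surjective (e.inv ≫ f.fromNormalization)
  let p : X ⟶ Spec (CommRingCat.of B) := f.toNormalization ≫ e.hom
  have hp : p ≫ Spec.map (CommRingCat.ofHom φ.hom) = f := by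
    have : Spec.map (CommRingCat.ofHom φ.hom) = e.inv ≫ f.fromNormalization := hφ
    rw [this]
    simp [p]
  have hp1 : IsProper p := by
    have : IsProper (p ≫ Spec.map (CommRingCat.ofHom φ.hom)) := by rw [hp]; infer_instance
    exact IsProper.of_comp p (Spec.map (CommRingCat.ofHom φ.hom))
  have hp2 : GeometricallyConnected p := by
    rw [GeometricallyConnected.eq_geometrically] at h1 ⊢
    exact (MorphismProperty.cancel_right_of_respectsIso _ f.toNormalization e.hom).2 h1
  have hB : HenselianRing B (I.map φ.hom) :=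
    K106.HensPair.henselianRing_of_couple A I f hX B φ.hom p hp
  -- the cartesian square
  have hsq := K106.HensPair.isPullback_quotient φ.hom I
  have hout : IsPullback (pullback.snd f (Spec.map (CommRingCat.ofHom (Ideal.Quotient.mk I))))
      (pullback.fst f (Spec.map (CommRingCat.ofHom (Ideal.Quotient.mk I))))
      (Spec.map (CommRingCat.ofHom (Ideal.Quotient.mk I)))
      (p ≫ Spec.map (CommRingCat.ofHom φ.hom)) := by
    rw [hp]
    exact (IsPullback.of_hasPullback _ _).flip
  let w : pullback f (Spec.map (CommRingCat.ofHom (Ideal.Quotient.mk I))) ⟶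
      Spec (CommRingCat.of (B ⧸ I.map φ.hom)) :=
    hsq.lift (pullback.snd _ _) (pullback.fst _ _ ≫ p) (by
      rw [Category.assoc]; exact hout.w)
  have hleft : IsPullback w (pullback.fst f (Spec.map (CommRingCat.ofHom (Ideal.Quotient.mk I))))
      (Spec.map (CommRingCat.ofHom (Ideal.Quotient.mk (I.map φ.hom)))) p := by
    refine IsPullback.of_right ?_ (hsq.lift_snd _ _ _) hsq
    have : w ≫ Spec.map (CommRingCat.ofHom (Ideal.quotientMap (I.map φ.hom) φ.hom
      Ideal.le_comap_map)) = pullback.snd _ _ := hsq.lift_fst _ _ _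
    rw [this]
    exact hout
  have hbij := Groth.Agent.Sga4A.HensFibre.Hpull_proper B (I.map φ.hom) p
    (pullback.fst f (Spec.map (CommRingCat.ofHom (Ideal.Quotient.mk I)))) w hleft.flip F hF q
  set i := pullback.fst f (Spec.map (CommRingCat.ofHom (Ideal.Quotient.mk I))) with hi
  have hci : IsClosedImmersion i := by
    have : IsClosedImmersion (Spec.map (CommRingCat.ofHom (Ideal.Quotient.mk I))) :=
      IsClosedImmersion.spec_of_surjective _ Ideal.Quotient.mk_surjective
    infer_instance
  have hz : ∀ (r s : ℕ), Subsingleton (EtCoh.H X ((EtCoh.Rpush i (r + 1)).obj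
      ((EtCoh.pull i).obj F)) s) := fun r s =>
    subsingleton_H_of_isZero
      (Groth.Agent.EtpbcA.ClosedPushExact.isZero_Rpush i _ (r + 1) (Nat.succ_pos r)) s
  have hedge : Function.Bijective (Groth.Agent.EtpbcB.EdgeEt.edgeH i ((EtCoh.pull i).obj F) q) :=
    ⟨Groth.Agent.Sga7.H764.HpullHigh.edgeH_injective i _ q fun s r _ => hz r s,
      Groth.Agent.Sga7.H764.HpullHigh.edgeH_surjective i _ q fun s r _ => hz r s⟩
  have hcomp : (Groth.Agent.EtpbcB.EdgeEt.edgeH i ((EtCoh.pull i).obj F) q) ∘
      (Sheaf.H.map ((EtCoh.pullPushAdj i).unit.app F) q) = EtCore.Hpull i F q := by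
    funext x
    exact Groth.Agent.Sga7.H764.HpullHigh.edgeH_unit i F q x
  rw [← hcomp] at hbij
  exact (Function.Bijective.of_comp_iff' hedge _).1 hbij

end Groth.Agent.S17967
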