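import Groth.Statements.S17969
import Mathlib.RingTheory.Polynomial.GaussLemma
import Mathlib.RingTheory.Adjoin.PowerBasis
import Mathlib.LinearAlgebra.Matrix.Charpoly.Minpoly
import Mathlib.LinearAlgebra.Charpoly.ToMatrix
import Mathlib.RingTheory.Localization.BaseChange

set_option autoImplicit false
universe u
open scoped TensorProduct
open CAlg

namespace Groth.Agent.S17969

/-- Let A be an integrally closed domain with fraction field K and B a commutative A-algebra which is
finite and torsion-free as an A-module and generated as an A-algebra by a single element x. Let P be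
the characteristic polynomial of multiplication by 1 ⊗ x on the finite free K-module K ⊗_A B. Then P
has coefficients in A, namely P is the image of a monic polynomial over A, and the kernel of the
A-algebra map A[T] → B sending T to x is generated by that polynomial, so that B is A[T]/(P). -/
theorem result
    (A : Type u) [CommRing A] [IsDomain A] [IsIntegrallyClosed A]
    (B : Type u) [CommRing B] [Algebra A B] [Module.Finite A B] [NoZeroSMulDivisors A B]
    (x : B) (hx : Algebra.adjoin A {x} = ⊤) :
    ∃ P : Polynomial A, P.Monic ∧
      Polynomial.map (algebraMap A (FractionRing A)) P =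
        (LinearMap.mulLeft (FractionRing A) ((1 : FractionRing A) ⊗ₜ[A] x)).charpoly ∧
      RingHom.ker (Polynomial.aeval x).toRingHom = Ideal.span {P} := by
  classical
  let K := FractionRing A
  let x' : K ⊗[A] B := (1 : K) ⊗ₜ[A] x
  have hintA : IsIntegral A x := IsIntegral.of_finite A x
  have hfin : Module.Finite K (K ⊗[A] B) := inferInstance
  have hintK : IsIntegral K x' := IsIntegral.of_finite K x'
  -- injectivity of `B → K ⊗ B`
  have hinj : ∀ b : B, (1 : K) ⊗ₜ[A] b = (0 : K ⊗[A] B) → b = 0 := by
    intro b hb
    have h1 : TensorProduct.mk A K B 1 b = 0 := hb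
    rw [IsLocalizedModule.eq_zero_iff (nonZeroDivisors A)] at h1
    obtain ⟨s, hs⟩ := h1
    have hs' : (s : A) • b = 0 := hs
    exact (eq_zero_or_eq_zero_of_smul_eq_zero hs').resolve_left (nonZeroDivisors.coe_ne_zero s)
  -- `x'` generates
  have hadj : Algebra.adjoin K {x'} = ⊤ := by
    have h1 := Algebra.TensorProduct.adjoin_one_tmul_image_eq_top (A := K) (R := A) (B := B) {x} hx
    have h2 : (fun b : B => (1 : K) ⊗ₜ[A] b) '' {x} = {x'} := Set.image_singleton
    rw [← h1]
    congr 1
    exact h2.symm
  -- charpoly is the minimal polynomial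
  let pb := PowerBasis.ofAdjoinEqTop hintK hadj
  have hgen : pb.gen = x' := rfl
  have hchar : (LinearMap.mulLeft K x').charpoly = minpoly K x' := by
    rw [← LinearMap.charpoly_toMatrix (LinearMap.mulLeft K x') pb.basis,
      Algebra.toMatrix_lmul_eq, ← hgen, charpoly_leftMulMatrix]
  -- compatibility of evaluations
  have haev : ∀ F : Polynomial A, Polynomial.aeval x' (F.map (algebraMap A K)) =
      (1 : K) ⊗ₜ[A] (Polynomial.aeval x F) := by
    intro F
    rw [Polynomial.aeval_map_algebraMap]
    exact Polynomial.aeval_algHom_apply
      (Algebra.TensorProduct.includeRight : B →ₐ[A] K ⊗[A] B) x F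
  -- descend the minimal polynomial
  obtain ⟨P, hP⟩ := IsIntegrallyClosed.eq_map_mul_C_of_dvd K (minpoly.monic hintA)
    (g := minpoly K x') (minpoly.dvd K x' (by rw [haev, minpoly.aeval, TensorProduct.tmul_zero]))
  have hmon : (minpoly K x').Monic := minpoly.monic hintK
  rw [hmon.leadingCoeff, Polynomial.C_1, mul_one] at hP
  have hPmon : P.Monic :=
    Polynomial.monic_of_injective (IsFractionRing.injective A K) (by rw [hP]; exact hmon)
  refine ⟨P, hPmon, ?_, ?_⟩
  · rw [hP]; exact hchar.symm
  · ext F
    rw [RingHom.mem_ker, Ideal.mem_span_singleton]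
    have h1 : (Polynomial.aeval x).toRingHom F = 0 ↔
        Polynomial.aeval x' (F.map (algebraMap A K)) = 0 := by
      rw [haev]
      constructor
      · intro h
        have h' : Polynomial.aeval x F = 0 := h
        rw [h', TensorProduct.tmul_zero]
      · intro h; exact hinj _ h
    rw [h1, ← minpoly.dvd_iff, ← hP, Polynomial.map_dvd_map _ (IsFractionRing.injective A K) hPmon]

end Groth.Agent.S17969
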