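import Groth.Statements.S17973
import Groth.Agent.EGA4loc.K886.Basic

set_option autoImplicit false
universe u
open EGA4loc

namespace Groth.Agent.S17973

/-- Let A be a local ring, B a local ring which is a local-etale A-algebra (isomorphic over A to the
localization of an etale A-algebra at a prime ideal lying over the maximal ideal of A), and C a
local-etale B-algebra, regarded as an A-algebra through B. Then C is a local-etale A-algebra. -/
theorem result (A : Type u) [CommRing A] [IsLocalRing A]
    (B : Type u) [CommRing B] [IsLocalRing B] [Algebra A B]
    (C : Type u) [CommRing C] [Algebra B C] [Algebra A C] [IsScalarTower A B C]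
    (hB : EGA4loc.IsEssentiallyEtale A B) (hC : EGA4loc.IsEssentiallyEtale B C) :
    EGA4loc.IsEssentiallyEtale A C := by
  have hCl : IsLocalRing C := Groth.Agent.UnramB.EssEtale.isLocalRing_of hC
  have h1 := K886.Basic.isLocalHom_algebraMap hB
  have h2 := K886.Basic.isLocalHom_algebraMap hC
  have : IsLocalHom (algebraMap A C) := by
    rw [IsScalarTower.algebraMap_eq A B C]
    infer_instance
  have := K886.Basic.flat hB
  have := K886.Basic.flat hC
  have : Module.Flat A C := Module.Flat.trans A B C
  have := Groth.Agent.UnramB.EssEtale.formallyUnramified_of hB
  have := Groth.Agent.UnramB.EssEtale.formallyUnramified_of hC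
  have : Algebra.FormallyUnramified A C := Algebra.FormallyUnramified.comp A B C
  have := Groth.Agent.UnramB.EssEtale.essFiniteType_of hB
  have := Groth.Agent.UnramB.EssEtale.essFiniteType_of hC
  have : Algebra.EssFiniteType A C := Algebra.EssFiniteType.comp A B C
  exact K886.Basic.of_flat_of_formallyUnramified

end Groth.Agent.S17973
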