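import Groth.Statements.S17974
import Mathlib.RingTheory.Unramified.Finite

set_option autoImplicit false
universe u
open Unram

namespace Groth.Agent.S17974

/-- Let A be a commutative ring, B an unramified A-algebra (formally unramified and of finite type), C
an A-algebra, p a prime ideal of C, and u, v : B → C two A-algebra homomorphisms which agree after
composition with C → C/p. Then there is an element f of C not in p such that u and v agree after
composition with the localization map C → C[1/f]. -/
theorem result
    (A : Type u) [CommRing A] (B : Type u) [CommRing B] [Algebra A B]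
    [Algebra.FormallyUnramified A B] [Algebra.FiniteType A B]
    (C : Type u) [CommRing C] [Algebra A C] (p : Ideal C) [p.IsPrime]
    (u v : B →ₐ[A] C)
    (huv : (Ideal.Quotient.mk p).comp u.toRingHom = (Ideal.Quotient.mk p).comp v.toRingHom) :
    ∃ f : C, f ∉ p ∧
      (algebraMap C (Localization.Away f)).comp u.toRingHom =
        (algebraMap C (Localization.Away f)).comp v.toRingHom := by
  obtain ⟨t, ht, ht'⟩ := Algebra.FormallyUnramified.iff_exists_tensorProduct.mp
    (inferInstance : Algebra.FormallyUnramified A B)
  let w : TensorProduct A B B →ₐ[A] C := Algebra.TensorProduct.lift u v (fun _ _ => Commute.all _ _)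
  have hw : ∀ b b' : B, w (TensorProduct.tmul A b b') = u b * v b' := fun b b' => by
    simp [w]
  have hmod : ∀ z : TensorProduct A B B, Ideal.Quotient.mk p (w z) =
      Ideal.Quotient.mk p (u (Algebra.TensorProduct.lmul' A z)) := by
    intro z
    induction z using TensorProduct.induction_on with
    | zero => simp
    | tmul b b' =>
      have := congrArg (fun φ : B →+* C ⧸ p => φ b') huv
      simp only [RingHom.comp_apply] at this
      rw [hw, Algebra.TensorProduct.lmul'_apply_tmul, map_mul, map_mul, map_mul]
      congr 1
      exact this.symm
    | add x y hx hy => rw [map_add, map_add, hx, hy, map_add, map_add, map_add]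
  refine ⟨w t, ?_, ?_⟩
  · intro hmem
    have h1 := hmod t
    rw [ht', map_one, map_one, Ideal.Quotient.eq_zero_iff_mem.mpr hmem] at h1
    exact zero_ne_one h1
  · ext b
    have h2 : (v b - u b) * w t = 0 := by
      have := congrArg w (ht b)
      rw [map_mul, map_sub, hw, hw, map_one, map_one, one_mul, mul_one, map_zero] at this
      exact this
    have h3 : IsUnit (algebraMap C (Localization.Away (w t)) (w t)) :=
      IsLocalization.Away.algebraMap_isUnit (w t)
    have h4 : algebraMap C (Localization.Away (w t)) (v b - u b) = 0 := by
      have := congrArg (algebraMap C (Localization.Away (w t))) h2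
      rw [map_mul, map_zero] at this
      exact h3.mul_left_eq_zero.mp this
    rw [map_sub, sub_eq_zero] at h4
    exact h4.symm

end Groth.Agent.S17974
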