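import Groth.Statements.S17975
import Mathlib.RingTheory.Nakayama
import Mathlib.RingTheory.LocalRing.ResidueField.Basic

set_option autoImplicit false
universe u
open Hensel

namespace Groth.Agent.S17975

/-- Let A be a local ring with maximal ideal m and residue field k, C a commutative A-algebra which is
finitely generated as an A-module, Q₀ a monic polynomial of degree n over k, e an A-algebra
isomorphism from C/mC to k[T]/(Q₀), and x an element of C whose class is sent by e to the class of
T. Then x generates C as an A-algebra, and x is a root of a monic polynomial Q over A of degree n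
whose reduction modulo m equals Q₀. -/
theorem result
    (A : Type u) [CommRing A] [IsLocalRing A] (C : Type u) [CommRing C] [Algebra A C] [Module.Finite A C]
    (Q₀ : Polynomial (IsLocalRing.ResidueField A)) (hQ₀ : Q₀.Monic)
    (e : (C ⧸ Ideal.map (algebraMap A C) (IsLocalRing.maximalIdeal A)) ≃ₐ[A] AdjoinRoot Q₀)
    (x : C) (hx : e (Ideal.Quotient.mk (Ideal.map (algebraMap A C) (IsLocalRing.maximalIdeal A)) x) = AdjoinRoot.root Q₀) :
    Algebra.adjoin A {x} = ⊤ ∧
      ∃ Q : Polynomial A, Q.Monic ∧ Q.natDegree = Q₀.natDegree ∧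
        Polynomial.map (IsLocalRing.residue A) Q = Q₀ ∧ Polynomial.aeval x Q = 0 := by
  classical
  set n := Q₀.natDegree with hn
  let S : Submodule A C := Submodule.span A (Set.range fun i : Fin n => x ^ (i : ℕ))
  have hSmem : ∀ i : ℕ, i < n → x ^ i ∈ S := fun i hi =>
    Submodule.subset_span ⟨⟨i, hi⟩, rfl⟩
  have hroot : ∀ P : Polynomial A, e (Ideal.Quotient.mk _ (Polynomial.aeval x P)) =
      AdjoinRoot.mk Q₀ (P.map (IsLocalRing.residue A)) := by
    intro P
    have h1 : e (Ideal.Quotient.mk (Ideal.map (algebraMap A C) (IsLocalRing.maximalIdeal A)) (Polynomial.aeval x P)) =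
        Polynomial.aeval (AdjoinRoot.root Q₀) P := by
      rw [← hx]
      change e ((Ideal.Quotient.mkₐ A _) (Polynomial.aeval x P)) = _
      rw [← Polynomial.aeval_algHom_apply]
      exact (Polynomial.aeval_algHom_apply e.toAlgHom _ P).symm
    rw [h1, ← AdjoinRoot.aeval_eq, ← IsLocalRing.ResidueField.algebraMap_eq,
      Polynomial.aeval_map_algebraMap]
  have hSP : ∀ P : Polynomial A, (∀ i, n ≤ i → P.coeff i = 0) → Polynomial.aeval x P ∈ S := by
    intro P hP
    rw [Polynomial.aeval_eq_sum_range]
    refine Submodule.sum_mem _ fun i _ => ?_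
    by_cases hi : i < n
    · exact Submodule.smul_mem _ _ (hSmem i hi)
    · rw [hP i (not_lt.mp hi), zero_smul]
      exact Submodule.zero_mem _
  -- every class modulo `m C` is represented in `S`
  have hrep : ∀ c : C, ∃ P : Polynomial A, (∀ i, n ≤ i → P.coeff i = 0) ∧
      c - Polynomial.aeval x P ∈ Ideal.map (algebraMap A C) (IsLocalRing.maximalIdeal A) := by
    intro c
    obtain ⟨p, hp⟩ := AdjoinRoot.mk_surjective (e (Ideal.Quotient.mk _ c))
    let r := p %ₘ Q₀
    have hr : AdjoinRoot.mk Q₀ r = AdjoinRoot.mk Q₀ p := by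
      rw [AdjoinRoot.mk_eq_mk]
      refine ⟨-(p /ₘ Q₀), ?_⟩
      have := Polynomial.modByMonic_add_div p Q₀
      linear_combination this
    obtain ⟨R', hR'⟩ := Polynomial.map_surjective (IsLocalRing.residue A)
      IsLocalRing.residue_surjective r
    let R : Polynomial A := ∑ i ∈ Finset.range n, Polynomial.monomial i (R'.coeff i)
    have hRc : ∀ i, R.coeff i = if i < n then R'.coeff i else 0 := by
      intro i
      simp only [R, Polynomial.finsetSum_coeff, Polynomial.coeff_monomial,
        Finset.sum_ite_eq', Finset.mem_range]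
    have hRr : R.map (IsLocalRing.residue A) = r := by
      ext i
      rw [Polynomial.coeff_map, hRc, ← hR', Polynomial.coeff_map]
      split_ifs with hi
      · rfl
      · rw [map_zero]
        have h1 : r.coeff i = 0 := by
          by_cases hQ1 : Q₀ = 1
          · have : r = 0 := by
              change p %ₘ Q₀ = 0
              rw [hQ1, Polynomial.modByMonic_one]
            rw [this, Polynomial.coeff_zero]
          · apply Polynomial.coeff_eq_zero_of_natDegree_lt
            exact lt_of_lt_of_le (Polynomial.natDegree_modByMonic_lt p hQ₀ hQ1) (not_lt.mp hi)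
        rw [← hR', Polynomial.coeff_map] at h1
        exact h1.symm
    refine ⟨R, fun i hi => by rw [hRc, if_neg (not_lt.mpr hi)], ?_⟩
    rw [← Ideal.Quotient.eq]
    apply e.injective
    rw [hroot, hRr, hr, hp]
  have hS : (⊤ : Submodule A C) ≤ S := by
    refine Submodule.le_of_le_smul_of_le_jacobson_bot (I := IsLocalRing.maximalIdeal A) Module.Finite.fg_top
      (IsLocalRing.maximalIdeal_le_jacobson _) ?_
    intro c _
    obtain ⟨P, hP, hc⟩ := hrep c
    have h2 : c = Polynomial.aeval x P + (c - Polynomial.aeval x P) := by ring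
    rw [h2]
    refine Submodule.add_mem_sup (hSP P hP) ?_
    rw [Ideal.smul_top_eq_map]
    exact hc
  have hadj : ∀ c : C, ∃ P : Polynomial A, (∀ i, n ≤ i → P.coeff i = 0) ∧
      Polynomial.aeval x P = c := by
    intro c
    have hc : c ∈ S := hS Submodule.mem_top
    induction hc using Submodule.span_induction with
    | mem y hy =>
      obtain ⟨i, rfl⟩ := hy
      refine ⟨Polynomial.X ^ (i : ℕ), fun j hj => ?_, by simp⟩
      rw [Polynomial.coeff_X_pow, if_neg]
      exact fun h => absurd i.2 (not_lt.mpr (h ▸ hj))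
    | zero => exact ⟨0, fun _ _ => by simp, by simp⟩
    | add y z _ _ hy hz =>
      obtain ⟨P, hP, hP'⟩ := hy
      obtain ⟨R, hR, hR'⟩ := hz
      exact ⟨P + R, fun i hi => by rw [Polynomial.coeff_add, hP i hi, hR i hi, add_zero],
        by rw [map_add, hP', hR']⟩
    | smul a y _ hy =>
      obtain ⟨P, hP, hP'⟩ := hy
      exact ⟨a • P, fun i hi => by rw [Polynomial.coeff_smul, hP i hi, smul_zero],
        by rw [map_smul, hP']⟩
  refine ⟨?_, ?_⟩
  · rw [eq_top_iff]
    intro c _
    obtain ⟨P, -, rfl⟩ := hadj c
    exact Polynomial.aeval_mem_adjoin_singleton A x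
  · obtain ⟨P, hP, hPx⟩ := hadj (x ^ n)
    have hPdeg : P.degree < n := by
      rw [Polynomial.degree_lt_iff_coeff_zero]
      exact hP
    have hdeg : (Polynomial.X ^ n - P).degree = (n : WithBot ℕ) := by
      rw [Polynomial.degree_sub_eq_left_of_degree_lt (by rwa [Polynomial.degree_X_pow]),
        Polynomial.degree_X_pow]
    have hnat : (Polynomial.X ^ n - P).natDegree = n := Polynomial.natDegree_eq_of_degree_eq_some hdeg
    have hmon : (Polynomial.X ^ n - P).Monic := Polynomial.monic_X_pow_sub hPdeg
    have hz : Polynomial.aeval x (Polynomial.X ^ n - P) = 0 := by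
      rw [map_sub, hPx]
      simp
    refine ⟨Polynomial.X ^ n - P, hmon, hnat, ?_, hz⟩
    have h3 := hroot (Polynomial.X ^ n - P)
    rw [hz, map_zero, map_zero] at h3
    have h4 := AdjoinRoot.mk_eq_zero.mp h3.symm
    exact Polynomial.eq_of_monic_of_dvd_of_natDegree_le hQ₀ (hmon.map _) h4
      (by rw [hmon.natDegree_map, hnat])


end Groth.Agent.S17975
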