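import Groth.Statements.S17976
import Groth.Agent.Hensel.K146.FinModel

set_option autoImplicit false
universe u
open Hensel

namespace Groth.Agent.S17976

open TensorProduct K146.FinModel K145.Nbhd

/-- Let A be a commutative ring, I an ideal of A and B an A-algebra of finite type such that B/IB is a
finite A-module. Then there exist an etale A-algebra A' such that A → A'/IA' is surjective with
kernel I, and a commutative ring C which is an A'-algebra finite over A' and an etale B-algebra,
with compatible A-algebra structures, such that B → C/IC is surjective with kernel IB. In scheme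
language: an etale affine neighbourhood S' of Spec (A/I) in Spec A and an etale neighbourhood Z =
Spec C of Spec (B/IB) in Spec B, finite over S', forming a commutative square. -/
theorem result
    (A : Type u) [CommRing A] (I : Ideal A) (B : Type u) [CommRing B] [Algebra A B] [Algebra.FiniteType A B]
    (hfin : Module.Finite A (B ⧸ Ideal.map (algebraMap A B) I)) :
    ∃ (A' : Type u) (_ : CommRing A') (_ : Algebra A A') (_ : Algebra.Etale A A')
      (C : Type u) (_ : CommRing C) (_ : Algebra A C) (_ : Algebra A' C) (_ : Algebra B C)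
      (_ : IsScalarTower A A' C) (_ : IsScalarTower A B C),
      Function.Surjective ((Ideal.Quotient.mk (Ideal.map (algebraMap A A') I)).comp (algebraMap A A')) ∧
      RingHom.ker ((Ideal.Quotient.mk (Ideal.map (algebraMap A A') I)).comp (algebraMap A A')) = I ∧
      Algebra.Etale B C ∧ Module.Finite A' C ∧
      Function.Surjective ((Ideal.Quotient.mk (Ideal.map (algebraMap A C) I)).comp (algebraMap B C)) ∧
      RingHom.ker ((Ideal.Quotient.mk (Ideal.map (algebraMap A C) I)).comp (algebraMap B C)) =
        Ideal.map (algebraMap A B) I := by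

  obtain ⟨g, hg, hget, hgb, hgq⟩ := K144.Locus.exists_quasiFinite_nbhd (A := A) (R := B)
    (I.map (algebraMap A B)) (fun p hp =>
      K144.Hfp.quasiFiniteAt_of_finite_quotient hfin p.asIdeal hp)
  let Bg := Localization.Away g
  have q1 : QBh (I.map (algebraMap A B)) (algebraMap B Bg) := qbh_of_bijective hgb
  have hm1 : (I.map (algebraMap A B)).map (algebraMap B Bg) = I.map (algebraMap A Bg) := by
    rw [Ideal.map_map, ← IsScalarTower.algebraMap_eq]
  have hfg : Module.Finite A (Bg ⧸ I.map (algebraMap A Bg)) := by
    let F : (B ⧸ I.map (algebraMap A B)) →ₐ[A] Bg ⧸ I.map (algebraMap A Bg) :=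
      Ideal.Quotient.liftₐ _ ((Ideal.Quotient.mkₐ A _).comp (IsScalarTower.toAlgHom A B Bg)) (by
        intro b hb
        change Ideal.Quotient.mk _ (algebraMap B Bg b) = 0
        rw [Ideal.Quotient.eq_zero_iff_mem, ← hm1]
        exact Ideal.mem_map_of_mem _ hb)
    refine Module.Finite.of_surjective F.toLinearMap fun y => ?_
    obtain ⟨x, rfl⟩ := Ideal.Quotient.mk_surjective y
    obtain ⟨b, hb⟩ := q1.2 x
    rw [hm1] at hb
    exact ⟨Ideal.Quotient.mk _ b, (Ideal.Quotient.eq.2 hb).symm⟩
  obtain ⟨A', _, _, hA', e, he, he1, hefin⟩ := exists_model (I := I) Bg hfg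
  have hA'et := hA'.etale
  have q0 : QBh I (algebraMap A A') := qbh_of_bijective hA'.bij
  let T := A' ⊗[A] Bg
  let C := T ⧸ Ideal.span {1 - e}
  let f2 : Bg →+* T := (Algebra.TensorProduct.includeRight : Bg →ₐ[A] A' ⊗[A] Bg).toRingHom
  let f3 : T →+* C := Ideal.Quotient.mk _
  have q2 : QBh (I.map (algebraMap A Bg)) f2 := q0.baseChange
  have hm2 : (I.map (algebraMap A Bg)).map f2 = I.map (algebraMap A T) := by
    rw [Ideal.map_map]
    congr 1
    exact (Algebra.TensorProduct.includeRight : Bg →ₐ[A] A' ⊗[A] Bg).comp_algebraMap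
  have q3 : QBh (I.map (algebraMap A T)) f3 := qbh_quot _ _ (by
    rw [Ideal.span_le, Set.singleton_subset_iff]
    exact he1)
  rw [← hm1] at q2
  have q12 := q1.comp q2
  rw [← hm2, ← hm1, Ideal.map_map] at q3
  have q := q12.comp q3
  let _ : Algebra B C := (f3.comp (f2.comp (algebraMap B Bg))).toAlgebra
  have t1 : IsScalarTower A B C := by
    refine IsScalarTower.of_algebraMap_eq fun a => ?_
    change _ = f3 (f2 (algebraMap B Bg (algebraMap A B a)))
    rw [← IsScalarTower.algebraMap_apply A B Bg]
    have h1 : f2 (algebraMap A Bg a) = algebraMap A T a :=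
      (Algebra.TensorProduct.includeRight : Bg →ₐ[A] A' ⊗[A] Bg).commutes a
    rw [h1]
    rfl
  have hmC : (I.map (algebraMap A B)).map (algebraMap B C) = I.map (algebraMap A C) := by
    rw [Ideal.map_map, ← IsScalarTower.algebraMap_eq]
  have hq' : QBh (I.map (algebraMap A B)) (algebraMap B C) := q
  have hs := hq'.surjective
  have hk := hq'.ker_eq
  rw [hmC] at hs hk
  refine ⟨A', inferInstance, inferInstance, hA'et, C, inferInstance, inferInstance, inferInstance,
    inferInstance, inferInstance, t1, q0.surjective, q0.ker_eq, ?_, hefin, hs, hk⟩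
  have e1 : (algebraMap B Bg).Etale := RingHom.etale_algebraMap.mpr hget
  have e2 : f2.Etale := etale_right A' Bg
  have e3 : f3.Etale := by
    have hloc : IsLocalization.Away e C :=
      IsLocalization.away_of_isIdempotentElem he Ideal.mk_ker Ideal.Quotient.mk_surjective
    exact RingHom.etale_algebraMap.mpr (Algebra.Etale.of_isLocalizationAway e)
  exact RingHom.etale_algebraMap.mp (RingHom.Etale.stableUnderComposition _ _
    (RingHom.Etale.stableUnderComposition _ _ e1 e2) e3)


end Groth.Agent.S17976
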