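import Groth.Statements.S17981
import Groth.Agent.Hensel.PairIdem

set_option autoImplicit false
universe u
open Hensel

namespace Groth.Agent.S17981

/-- Let A be a commutative ring, I an ideal contained in the Jacobson radical of A, and B a commutative
A-algebra which is finitely generated as an A-module. Then two idempotents of B with the same image
in B/IB are equal. -/
theorem result (A : Type u) [CommRing A] (I : Ideal A)
    (hI : I ≤ Ideal.jacobson ⊥) (B : Type u) [CommRing B] [Algebra A B] [Module.Finite A B] :
    Set.InjOn (Ideal.Quotient.mk (Ideal.map (algebraMap A B) I)) {e : B | IsIdempotentElem e} := by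
  intro e he f hf h
  exact Hensel.PairIdem.eq_of_isIdempotentElem_of_sub_mem (I.map (algebraMap A B))
    (Hensel.PairIdem.map_le_jacobson_bot I hI) e f he hf (Ideal.Quotient.eq.mp h)


end Groth.Agent.S17981
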