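import Groth.Statements.S17984
import Groth.Agent.WeilNum.K944.Sym

set_option autoImplicit false
universe u
open MvPolynomial
open WeilNum

namespace Groth.Agent.S17984

open K944.WeilNum in
theorem good (p e : ℕ) [Fact p.Prime]
    (ι : Type) [Fintype ι] (K : ι → Type u) [∀ i, Field (K i)] [∀ i, CharZero (K i)] (π : ∀ i, K i)
    (hint : ∀ i, IsIntegral ℤ (π i))
    (hweil : ∀ i, ∀ z ∈ (minpoly ℤ (π i)).aroots ℂ, ‖z‖ = Real.sqrt ((p : ℝ) ^ e))
    (D : ℕ) (hD : ∑ i, (minpoly ℤ (π i)).natDegree = 2 * D)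
    (h : MvPolynomial (Fin 2) ℤ)
    (hh : X 0 ^ D * h - Polynomial.aeval (X 0 : MvPolynomial (Fin 2) ℤ) (∏ i, minpoly ℤ (π i)) ∈
      Ideal.span ({X 0 * X 1 - C ((p : ℤ) ^ e)} : Set (MvPolynomial (Fin 2) ℤ))) :
    Sym.Good (p ^ e) (∏ i, minpoly ℤ (π i)) D (Ideal.Quotient.mk (Ker.I₀ (p ^ e)) h) := by
  refine ⟨Sym.weil_prod hint (by simpa using hweil), by rw [Sym.natDegree_prod hint, hD], ?_⟩
  have e1 : Ideal.span ({X 0 * X 1 - C ((p : ℤ) ^ e)} : Set (MvPolynomial (Fin 2) ℤ)) = Ker.I₀ (p ^ e) := by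
    rw [Ker.I₀]; push_cast; rfl
  rw [e1, ← Ideal.Quotient.eq_zero_iff_mem, map_sub, map_mul, map_pow, sub_eq_zero] at hh
  rw [Ker.F, hh]
  have e2 : ((Ideal.Quotient.mk (Ker.I₀ (p ^ e))).comp
      (Polynomial.aeval (X 0 : MvPolynomial (Fin 2) ℤ) : Polynomial ℤ →ₐ[ℤ] _).toRingHom) =
      (Polynomial.aeval (Ker.F (p ^ e)) : Polynomial ℤ →ₐ[ℤ] _).toRingHom :=
    Polynomial.ringHom_ext' (RingHom.ext_int _ _) (by simp [Ker.F])
  exact congrArg (fun f => f (∏ i, minpoly ℤ (π i))) e2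

open K944.WeilNum in
/-- Let p be a prime, e ≥ 1 and q = p^e. Let (π_i) be a finite family of pairwise nonconjugate Weil
q-numbers: π_i is an element of a field K_i of characteristic zero, integral over ℤ with minimal
polynomial P_i, every complex root of P_i has absolute value √q, and P_i ≠ P_j for i ≠ j. Suppose
the total degree Σ_i deg P_i is even, equal to 2D (equivalently, the family contains either none or
both of the rational Weil q-numbers ±q^{1/2}). Put P_w = ∏_i P_i and let h ∈ ℤ[F, V] (F = X_0, V =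
X_1) be any polynomial with F^D · h ≡ P_w(F) modulo FV − q; such an h exists, is unique modulo FV −
q, and the product of the symmetric polynomials h_{π_i} is one. Then the kernel of the ring map ℤ[F,
V] → ∏_i K_i, F ↦ (π_i), V ↦ (q/π_i), whose image is the minimal central order R_w, is the ideal
generated by FV − q and h, and (FV − q, h) is a regular sequence in ℤ[F, V]: R_w is the complete
intersection ℤ[F, V]/(FV − q, h). -/
theorem result (p e : ℕ) [Fact p.Prime] (he : 0 < e)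
    (ι : Type) [Fintype ι] (K : ι → Type u) [∀ i, Field (K i)] [∀ i, CharZero (K i)] (π : ∀ i, K i)
    (hint : ∀ i, IsIntegral ℤ (π i))
    (hweil : ∀ i, ∀ z ∈ (minpoly ℤ (π i)).aroots ℂ, ‖z‖ = Real.sqrt ((p : ℝ) ^ e))
    (hinj : ∀ i j, minpoly ℤ (π i) = minpoly ℤ (π j) → i = j)
    (D : ℕ) (hD : ∑ i, (minpoly ℤ (π i)).natDegree = 2 * D)
    (h : MvPolynomial (Fin 2) ℤ)
    (hh : X 0 ^ D * h - Polynomial.aeval (X 0 : MvPolynomial (Fin 2) ℤ) (∏ i, minpoly ℤ (π i)) ∈
      Ideal.span ({X 0 * X 1 - C ((p : ℤ) ^ e)} : Set (MvPolynomial (Fin 2) ℤ))) :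
    RingHom.ker (MvPolynomial.aeval ![fun i => π i, fun i => ((p : K i) ^ e) / π i] :
        MvPolynomial (Fin 2) ℤ →ₐ[ℤ] ((i : ι) → K i)) =
        Ideal.span {X 0 * X 1 - C ((p : ℤ) ^ e), h} ∧
      RingTheory.Sequence.IsWeaklyRegular (MvPolynomial (Fin 2) ℤ) [X 0 * X 1 - C ((p : ℤ) ^ e), h] := by
  have hp0 : 0 < p := (Fact.out : p.Prime).pos
  have hq : 0 < p ^ e := pow_pos hp0 e
  have H := good p e ι K π hint hweil D hD h hh
  have hw' : ∀ i, ∀ z ∈ (minpoly ℤ (π i)).aroots ℂ, ‖z‖ = Real.sqrt ((p ^ e : ℕ) : ℝ) := by simpa using hweil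
  have hπ := Sym.ne_zero_of_weil hq hint hw'
  constructor
  · have := Sym.ker_eq hq hint hw' hinj D h H
      (MvPolynomial.aeval ![fun i => π i, fun i => ((p : K i) ^ e) / π i]) (by simp) (fun i => by
        simp only [MvPolynomial.aeval_X, Matrix.cons_val_one, Matrix.cons_val_zero]
        rw [mul_div_cancel₀ _ (hπ i)]; push_cast; rfl)
    rw [this]; push_cast; rfl
  · have := Sym.Good.isWeaklyRegular hq H
    push_cast at this
    exact this

end Groth.Agent.S17984
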