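import Groth.Statements.S17985
import Groth.Agent.WeilNum.K944.Order
import Groth.Agent.WeilNum.K944.Gor

set_option autoImplicit false
universe u
open MvPolynomial
open WeilNum

namespace Groth.Agent.S17985

/-- Let p be a prime, e ≥ 1 and q = p^e. Let (π_i) be a nonempty finite family of pairwise nonconjugate
Weil q-numbers: π_i is an element of a field K_i of characteristic zero, integral over ℤ with
minimal polynomial P_i, every complex root of P_i has absolute value √q, and P_i ≠ P_j for i ≠ j.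
Suppose the total degree Σ_i deg P_i is even, equal to 2D. Let R_w be the minimal central order, the
image of ℤ[F, V] → ∏_i K_i, F ↦ (π_i), V ↦ (q/π_i). Then R_w is free of rank 2D as a ℤ-module, has
Krull dimension 1, and is a Gorenstein ring (Noetherian, with all localizations at primes of finite
injective dimension over themselves). -/
theorem result (p e : ℕ) [Fact p.Prime] (he : 0 < e)
    (ι : Type) [Fintype ι] (K : ι → Type u) [∀ i, Field (K i)] [∀ i, CharZero (K i)] (π : ∀ i, K i)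
    (hint : ∀ i, IsIntegral ℤ (π i))
    (hweil : ∀ i, ∀ z ∈ (minpoly ℤ (π i)).aroots ℂ, ‖z‖ = Real.sqrt ((p : ℝ) ^ e))
    (hinj : ∀ i j, minpoly ℤ (π i) = minpoly ℤ (π j) → i = j)
    [Nonempty ι] (D : ℕ) (hD : ∑ i, (minpoly ℤ (π i)).natDegree = 2 * D) :
    Module.Free ℤ (MvPolynomial.aeval ![fun i => π i, fun i => ((p : K i) ^ e) / π i] :
        MvPolynomial (Fin 2) ℤ →ₐ[ℤ] ((i : ι) → K i)).range ∧
      Module.finrank ℤ (MvPolynomial.aeval ![fun i => π i, fun i => ((p : K i) ^ e) / π i] :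
        MvPolynomial (Fin 2) ℤ →ₐ[ℤ] ((i : ι) → K i)).range = 2 * D ∧
      ringKrullDim (MvPolynomial.aeval ![fun i => π i, fun i => ((p : K i) ^ e) / π i] :
        MvPolynomial (Fin 2) ℤ →ₐ[ℤ] ((i : ι) → K i)).range = 1 ∧
      LocCoh.IsGorensteinRing (MvPolynomial.aeval ![fun i => π i, fun i => ((p : K i) ^ e) / π i] :
        MvPolynomial (Fin 2) ℤ →ₐ[ℤ] ((i : ι) → K i)).range := by
  have hp0 : 0 < p := (Fact.out : p.Prime).pos
  have hq : 0 < p ^ e := pow_pos hp0 e
  have hw' : ∀ i, ∀ z ∈ (minpoly ℤ (π i)).aroots ℂ, ‖z‖ = Real.sqrt ((p ^ e : ℕ) : ℝ) := by simpa using hweil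
  have hπ := K944.WeilNum.Sym.ne_zero_of_weil hq hint hw'
  set f : MvPolynomial (Fin 2) ℤ →ₐ[ℤ] ((i : ι) → K i) :=
    MvPolynomial.aeval ![fun i => π i, fun i => ((p : K i) ^ e) / π i] with hf
  have H : K944.WeilNum.Order.Fam (p ^ e) π f :=
    { hq := hq, int := hint, weil := hw', inj := hinj, f0 := by simp [hf]
      f1 := fun i => by
        simp only [hf, MvPolynomial.aeval_X, Matrix.cons_val_one, Matrix.cons_val_zero]
        rw [mul_div_cancel₀ _ (hπ i)]; push_cast; rfl }
  refine ⟨H.free, ?_, H.ringKrullDim, ?_⟩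
  · rw [H.finrank, K944.WeilNum.Sym.natDegree_prod hint, hD]
  · have hdeg : (∏ i, minpoly ℤ (π i)).natDegree = 2 * D := by
      rw [K944.WeilNum.Sym.natDegree_prod hint, hD]
    obtain ⟨ε, hε, _, hr⟩ := K944.WeilNum.Basic.exists_sign hq H.weilP D hdeg
    obtain ⟨h, hh⟩ := Ideal.Quotient.mk_surjective
      (K944.WeilNum.Sym.h0 (p ^ e) (∏ i, minpoly ℤ (π i)) D ε)
    have hgood : K944.WeilNum.Sym.Good (p ^ e) (∏ i, minpoly ℤ (π i)) D
        (Ideal.Quotient.mk (K944.WeilNum.Ker.I₀ (p ^ e)) h) :=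
      ⟨H.weilP, hdeg, by rw [hh]; exact K944.WeilNum.Sym.F_pow_mul_h0 _ D hdeg ε hr⟩
    have hker := K944.WeilNum.Sym.ker_eq hq hint hw' hinj D h hgood f H.f0 H.f1
    refine K944.WeilNum.Gor.gor_of_good hq hgood f.rangeRestrict.toRingHom f.rangeRestrict_surjective ?_
    rw [← hker]
    ext x
    rw [RingHom.mem_ker, RingHom.mem_ker]
    exact ⟨fun h => congrArg Subtype.val h, fun h => Subtype.ext h⟩

end Groth.Agent.S17985
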