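import Groth.Statements.S17986
import Groth.Agent.WeilNum.K944.SqNon
import Groth.Agent.WeilNum.K944.Ord

set_option autoImplicit false
universe u
open MvPolynomial
open scoped Classical
open WeilNum

namespace Groth.Agent.S17986

/-- Let p be a prime, e ≥ 1, and assume q = p^e = s² for an integer s (of either sign; s is then a
rational Weil q-number). Let (π_i) be a finite family of pairwise nonconjugate nonrational Weil
q-numbers: π_i lies in a field K_i of characteristic zero, is integral over ℤ with minimal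
polynomial P_i of degree different from 1, every complex root of P_i has absolute value √q, and P_i
≠ P_j for i ≠ j (since q is a square these π_i are nonreal, so Σ_i deg P_i = 2D is even). Put P_v =
∏_i P_i and let h ∈ ℤ[F, V] (F = X_0, V = X_1) be any polynomial with F^D · h ≡ P_v(F) modulo FV −
q. Consider the ring map ℤ[F, V] → (∏_i K_i) × ℚ sending F to ((π_i)_i, s) and V to ((q/π_i)_i, s);
its image R_w is the minimal central order of the family enlarged by s. Then: (1) its kernel is the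
ideal generated by FV − q, h · (F − s) and h · (V − s); (2) R_w is a Gorenstein ring if and only if
every π_i is ordinary, meaning that exactly half of the roots of P_i in an algebraic closure of ℚ_p,
counted with multiplicity, are p-adic units. -/
theorem result (p e : ℕ) [Fact p.Prime] (he : 0 < e)
    (s : ℤ) (hs : s ^ 2 = (p : ℤ) ^ e)
    (ι : Type) [Fintype ι] (K : ι → Type u) [∀ i, Field (K i)] [∀ i, CharZero (K i)] (π : ∀ i, K i)
    (hint : ∀ i, IsIntegral ℤ (π i)) (hdeg : ∀ i, (minpoly ℤ (π i)).natDegree ≠ 1)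
    (hweil : ∀ i, ∀ z ∈ (minpoly ℤ (π i)).aroots ℂ, ‖z‖ = Real.sqrt ((p : ℝ) ^ e))
    (hinj : ∀ i j, minpoly ℤ (π i) = minpoly ℤ (π j) → i = j)
    (D : ℕ) (hD : ∑ i, (minpoly ℤ (π i)).natDegree = 2 * D)
    (h : MvPolynomial (Fin 2) ℤ)
    (hh : X 0 ^ D * h - Polynomial.aeval (X 0 : MvPolynomial (Fin 2) ℤ) (∏ i, minpoly ℤ (π i)) ∈
      Ideal.span ({X 0 * X 1 - C ((p : ℤ) ^ e)} : Set (MvPolynomial (Fin 2) ℤ))) :
    RingHom.ker (MvPolynomial.aeval ![(⟨fun i => π i, (s : ℚ)⟩ : ((i : ι) → K i) × ℚ), ⟨fun i => ((p : K i) ^ e) / π i, (s : ℚ)⟩] :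
        MvPolynomial (Fin 2) ℤ →ₐ[ℤ] (((i : ι) → K i) × ℚ)) =
        Ideal.span {X 0 * X 1 - C ((p : ℤ) ^ e), h * (X 0 - C s), h * (X 1 - C s)} ∧
      (LocCoh.IsGorensteinRing (MvPolynomial.aeval ![(⟨fun i => π i, (s : ℚ)⟩ : ((i : ι) → K i) × ℚ), ⟨fun i => ((p : K i) ^ e) / π i, (s : ℚ)⟩] :
        MvPolynomial (Fin 2) ℤ →ₐ[ℤ] (((i : ι) → K i) × ℚ)).range ↔
        ∀ i, 2 * Multiset.card (((minpoly ℤ (π i)).aroots (PadicAlgCl p)).filter (fun z => ‖z‖ = 1)) = (minpoly ℤ (π i)).natDegree) := by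
  have hp : p.Prime := Fact.out
  have hp0 : 0 < p := hp.pos
  set q : ℕ := p ^ e with hqdef
  have hq : 0 < q := pow_pos hp0 e
  have hs' : s * s = (q : ℤ) := by rw [← sq, hs, hqdef]; push_cast; rfl
  have hw' : ∀ i, ∀ z ∈ (minpoly ℤ (π i)).aroots ℂ, ‖z‖ = Real.sqrt ((q : ℕ) : ℝ) := by simpa [hqdef] using hweil
  have hπ := K944.WeilNum.Sym.ne_zero_of_weil hq hint hw'
  let f : MvPolynomial (Fin 2) ℤ →ₐ[ℤ] ((i : ι) → K i) :=
    MvPolynomial.aeval ![fun i => π i, fun i => ((p : K i) ^ e) / π i]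
  have H : K944.WeilNum.Order.Fam q π f :=
    { hq := hq, int := hint, weil := hw', inj := hinj, f0 := by simp [f]
      f1 := fun i => by
        simp only [f, MvPolynomial.aeval_X, Matrix.cons_val_one, Matrix.cons_val_zero]
        rw [mul_div_cancel₀ _ (hπ i), hqdef]; push_cast; rfl }
  have hI : Ideal.span ({X 0 * X 1 - C ((p : ℤ) ^ e)} : Set (MvPolynomial (Fin 2) ℤ)) = K944.WeilNum.Ker.I₀ q := by
    rw [K944.WeilNum.Ker.I₀, hqdef]; push_cast; rfl
  have hdegP : (∏ i, minpoly ℤ (π i)).natDegree = 2 * D := by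
    rw [K944.WeilNum.Sym.natDegree_prod hint, hD]
  have hgood : K944.WeilNum.Sym.Good q (∏ i, minpoly ℤ (π i)) D (Ideal.Quotient.mk (K944.WeilNum.Ker.I₀ q) h) := by
    refine ⟨H.weilP, hdegP, ?_⟩
    rw [hI, ← Ideal.Quotient.eq_zero_iff_mem, map_sub, map_mul, map_pow, sub_eq_zero] at hh
    rw [K944.WeilNum.Ker.F, hh]
    have e2 : ((Ideal.Quotient.mk (K944.WeilNum.Ker.I₀ q)).comp
        (Polynomial.aeval (X 0 : MvPolynomial (Fin 2) ℤ) : Polynomial ℤ →ₐ[ℤ] _).toRingHom) =
        (Polynomial.aeval (K944.WeilNum.Ker.F q) : Polynomial ℤ →ₐ[ℤ] _).toRingHom :=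
      Polynomial.ringHom_ext' (RingHom.ext_int _ _) (by simp [K944.WeilNum.Ker.F])
    exact congrArg (fun f => f (∏ i, minpoly ℤ (π i))) e2
  set f' : MvPolynomial (Fin 2) ℤ →ₐ[ℤ] (((i : ι) → K i) × ℚ) :=
    MvPolynomial.aeval ![(⟨fun i => π i, (s : ℚ)⟩ : ((i : ι) → K i) × ℚ), ⟨fun i => ((p : K i) ^ e) / π i, (s : ℚ)⟩]
    with hf'def
  have hf' : ∀ g, f' g = (f g, ((MvPolynomial.aeval ![s, s] g : ℤ) : ℚ)) := by
    intro g
    have e1 : (AlgHom.fst ℤ ((i : ι) → K i) ℚ).comp f' = f := by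
      refine MvPolynomial.algHom_ext fun i => ?_
      fin_cases i <;> simp [f', f]
    have e2 : (AlgHom.snd ℤ ((i : ι) → K i) ℚ).comp f' =
        (Algebra.ofId ℤ ℚ).comp (MvPolynomial.aeval ![s, s] : MvPolynomial (Fin 2) ℤ →ₐ[ℤ] ℤ) := by
      refine MvPolynomial.algHom_ext fun i => ?_
      fin_cases i <;> simp [f', Algebra.ofId_apply]
    refine Prod.ext ?_ ?_
    · exact congrArg (fun φ => φ g) e1
    · have := congrArg (fun φ => φ g) e2
      simpa [Algebra.ofId_apply] using this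
  have hker := K944.WeilNum.Sq.ker_eq hs' H (K944.WeilNum.Sq.eval_prod_ne_zero hint hdeg s) D h hgood f' hf'
  refine ⟨by rw [hker, hqdef]; push_cast; rfl, ?_⟩
  have hkerr : RingHom.ker f'.rangeRestrict.toRingHom =
      Ideal.span {X 0 * X 1 - C (q : ℤ), h * (X 0 - C s), h * (X 1 - C s)} := by
    rw [← hker]
    ext x
    rw [RingHom.mem_ker, RingHom.mem_ker]
    exact ⟨fun h => congrArg Subtype.val h, fun h => Subtype.ext h⟩
  have hsurj : Function.Surjective f'.rangeRestrict.toRingHom := f'.rangeRestrict_surjective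
  rw [K944.WeilNum.Ord.family_iff p e he (fun i => minpoly ℤ (π i)) (fun i => ⟨minpoly.monic (hint i), hw' i⟩) D hD]
  constructor
  · intro hG hdvd
    obtain ⟨ε, hε, _, hr, h0⟩ := hgood.eq_h0 hq
    have hpq : (p : ℤ) ∣ (q : ℤ) := by
      rw [hqdef]; push_cast; exact dvd_pow_self _ he.ne'
    have hps : (p : ℤ) ∣ s := by
      have : (p : ℤ) ∣ s ^ 2 := by rw [hs]; exact dvd_pow_self _ he.ne'
      exact (Nat.prime_iff_prime_int.mp hp).dvd_of_dvd_pow this
    have hctx : K944.WeilNum.SqNon.Ctx p q s (∏ i, minpoly ℤ (π i)) D ε h :=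
      { hp := hp, hq := hq, pq := hpq, ps := hps, good := hgood, hε1 := hε, h0 := h0, pD := hdvd }
    refine K944.WeilNum.SqNon.not_gorenstein f'.rangeRestrict.toRingHom hkerr hctx hsurj ?_ ?_ hG
    · intro x hx
      apply Subtype.ext
      have h1 := congrArg Subtype.val hx
      have h2 : (p : ((i : ι) → K i) × ℚ) * x.1 = 0 := h1
      refine Prod.ext ?_ ?_
      · funext i
        have h3 := congrArg (fun v : ((i : ι) → K i) × ℚ => v.1 i) h2
        have h4 : (p : K i) * x.1.1 i = 0 := h3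
        exact (mul_eq_zero.mp h4).resolve_left (by exact_mod_cast hp0.ne')
      · have h3 := congrArg (fun v : ((i : ι) → K i) × ℚ => v.2) h2
        have h4 : (p : ℚ) * x.1.2 = 0 := h3
        exact (mul_eq_zero.mp h4).resolve_left (by exact_mod_cast hp0.ne')
    · -- dimension at most one
      have hintg : Algebra.IsIntegral ℤ f'.range := by
        refine ⟨fun x => ?_⟩
        have hx : IsIntegral ℤ (x : ((i : ι) → K i) × ℚ) := by
          obtain ⟨g, hg⟩ := x.2
          rw [← hg]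
          change IsIntegral ℤ (f' g)
          rw [hf']
          have h1 : IsIntegral ℤ (f g) := H.isIntegral_range _ ⟨g, rfl⟩
          have h2 : IsIntegral ℤ (((MvPolynomial.aeval ![s, s] g : ℤ) : ℚ)) :=
            isIntegral_algebraMap (R := ℤ) (A := ℚ) (x := (MvPolynomial.aeval ![s, s] g : ℤ))
          exact h1.pair h2
        exact (isIntegral_algHom_iff f'.range.val Subtype.val_injective).mp hx
      have hinj' : Function.Injective (algebraMap ℤ f'.range) := by
        intro a b hab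
        have h1 := congrArg (fun x : f'.range => (x : ((i : ι) → K i) × ℚ).2) hab
        simpa using h1
      rw [Groth.Agent.FlatA.DimFin.ringKrullDim_eq_of_isIntegral_of_injective ℤ f'.range hinj']
      exact (IsPrincipalIdealRing.ringKrullDim_eq_one ℤ Int.not_isField).le
  · intro hord
    have := K944.WeilNum.SqGor.gorQ_of_ordinary.{u} hs' hq p e he hp hqdef hgood hord
    rw [← hkerr] at this
    exact (K944.WeilNum.SqGor.gorQ_iff.{u} f'.rangeRestrict.toRingHom hsurj).mp this

end Groth.Agent.S17986
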