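import Groth.Statements.S17991
import Groth.Agent.AbVar.K525.Res1
import Groth.Agent.AbVar.K525.Stmt
import Groth.Agent.AbVar.K525.Rank

set_option autoImplicit false
universe u
open CategoryTheory MonoidalCategory CartesianMonoidalCategory MonObj GrpObj AlgebraicGeometry MvPolynomial
open AbVar

namespace Groth.Agent.S17991

/-- The functor M_w = Hom(−, A_w) is fully faithful, in the following setting: let p be a prime and k a
field with p elements. Let (π_j) be a finite family of pairwise nonconjugate nonreal Weil p-numbers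
(π_j in a field K_j of characteristic zero, integral over ℤ with minimal polynomial P_j, all complex
roots of P_j of absolute value √p and none real, P_i ≠ P_j for i ≠ j), P_w = ∏_j P_j, and R_w ⊆ ∏_j
K_j the minimal central order, the image of ℤ[F, V] → ∏_j K_j, F ↦ (π_j), V ↦ (p/π_j). An abelian
variety over k means a proper, geometrically integral commutative group scheme over k, taken with
its p-Frobenius endomorphism π (the identity on points and the p-th power map on sections; a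
homomorphism); it lies in AV_w when P_w(π) = 0 in its endomorphism ring. Let A_w be an abelian
variety over k together with a ring isomorphism ρ : R_w ≅ End(A_w) sending the class of F to the
Frobenius of A_w (so A_w lies in AV_w and its endomorphism ring is the minimal central order);
Hom(X, A_w) is a module over End(A_w) ≅ R_w by postcomposition. Then for any X, Y in AV_w: two
homomorphisms f, g : X → Y such that f followed by φ equals g followed by φ for every homomorphism φ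
: Y → A_w are equal; and every End(A_w)-linear map Hom(Y, A_w) → Hom(X, A_w) is of the form φ ↦ (f
followed by φ) for some homomorphism f : X → Y. -/
theorem result (p : ℕ) [Fact p.Prime] (k : Type u) [Field k] [Finite k] (hk : Nat.card k = p)
    (J : Type) [Fintype J] (K : J → Type) [∀ j, Field (K j)] [∀ j, CharZero (K j)] (ϖ : ∀ j, K j)
    (hint : ∀ j, IsIntegral ℤ (ϖ j))
    (hweil : ∀ j, ∀ z ∈ (minpoly ℤ (ϖ j)).aroots ℂ, ‖z‖ = Real.sqrt p)
    (hnr : ∀ j, ∀ z ∈ (minpoly ℤ (ϖ j)).aroots ℂ, z.im ≠ 0)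
    (hinj : ∀ i j, minpoly ℤ (ϖ i) = minpoly ℤ (ϖ j) → i = j)
    (Aw : Over (Spec (CommRingCat.of k))) [GrpObj Aw] [IsCommMonObj Aw] [IsProper Aw.hom] [GeometricallyIntegral Aw.hom]
    (πw : Aw ⟶ Aw) [IsMonHom πw] (hπwb : πw.left.base = 𝟙 _) (hπwle : ∀ U : Aw.left.Opens, U ≤ πw.left ⁻¹ᵁ U)
    (hπwapp : ∀ (U : Aw.left.Opens) (s : Γ(Aw.left, U)), (πw.left.appLE U U (hπwle U)).hom s = s ^ p)
    (ρw : (MvPolynomial.aeval ![fun j => ϖ j, fun j => (p : K j) / ϖ j] : MvPolynomial (Fin 2) ℤ →ₐ[ℤ] ((j : J) → K j)).range ≃+* EndAV.End Aw)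
    (hρw : ρw ⟨(MvPolynomial.aeval ![fun j => ϖ j, fun j => (p : K j) / ϖ j] : MvPolynomial (Fin 2) ℤ →ₐ[ℤ] ((j : J) → K j)) (X 0), AlgHom.mem_range_self _ _⟩ = EndAV.End.of πw)
    (X₁ : Over (Spec (CommRingCat.of k))) [GrpObj X₁] [IsCommMonObj X₁] [IsProper X₁.hom] [GeometricallyIntegral X₁.hom]
    (πX₁ : X₁ ⟶ X₁) [IsMonHom πX₁] (hπX₁b : πX₁.left.base = 𝟙 _) (hπX₁le : ∀ U : X₁.left.Opens, U ≤ πX₁.left ⁻¹ᵁ U)
    (hπX₁app : ∀ (U : X₁.left.Opens) (s : Γ(X₁.left, U)), (πX₁.left.appLE U U (hπX₁le U)).hom s = s ^ p)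
    (hPX₁ : Polynomial.aeval (EndAV.End.of πX₁) (∏ j, minpoly ℤ (ϖ j)) = 0)
    (Y₁ : Over (Spec (CommRingCat.of k))) [GrpObj Y₁] [IsCommMonObj Y₁] [IsProper Y₁.hom] [GeometricallyIntegral Y₁.hom]
    (πY₁ : Y₁ ⟶ Y₁) [IsMonHom πY₁] (hπY₁b : πY₁.left.base = 𝟙 _) (hπY₁le : ∀ U : Y₁.left.Opens, U ≤ πY₁.left ⁻¹ᵁ U)
    (hπY₁app : ∀ (U : Y₁.left.Opens) (s : Γ(Y₁.left, U)), (πY₁.left.appLE U U (hπY₁le U)).hom s = s ^ p)
    (hPY₁ : Polynomial.aeval (EndAV.End.of πY₁) (∏ j, minpoly ℤ (ϖ j)) = 0) :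
    (∀ f g : EndAV.Hom X₁ Y₁, (∀ φ : EndAV.Hom Y₁ Aw, f ≫ φ = g ≫ φ) → f = g) ∧
      (∀ g : EndAV.Hom Y₁ Aw →ₗ[EndAV.End Aw] EndAV.Hom X₁ Aw,
        ∃ f : EndAV.Hom X₁ Y₁, ∀ φ : EndAV.Hom Y₁ Aw, g φ = f ≫ φ) := by
  have H : K525.Hyp.HypW p k J K ϖ Aw ρw := K525.Hyp.HypW.mk' hk hint hweil hnr hinj πw hπwb hπwle hπwapp hρw
  have hR := K525.Rank.rankW H
  have hY : K520.FrP.FrP k (∏ j, minpoly ℤ (ϖ j)) Y₁ := K525.Stmt.frP_of hk _ Y₁ πY₁ hπY₁b hπY₁le hπY₁app hPY₁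
  exact K525.Res1.fullyFaithful H hR X₁ Y₁ hY

end Groth.Agent.S17991
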