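import Groth.Statements.S17997
import Groth.Agent.AbVar.K525.LatFin
import Groth.Agent.AbVar.K511.HT.Final
import Groth.Agent.AbVar.K613.QgMain
import Groth.Agent.AbVar.K590.LatI

set_option autoImplicit false
universe u
open CategoryTheory MonoidalCategory CartesianMonoidalCategory MonObj GrpObj AlgebraicGeometry MvPolynomial
open AbVar

namespace Groth.Agent.S17997

/-- Existence of an abelian variety with minimal endomorphism ring; let p be a prime and k a field with
p elements; let (π_j) be a finite family of pairwise nonconjugate nonreal Weil p-numbers (π_j in a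
field K_j of characteristic zero, integral over ℤ with minimal polynomial P_j, all complex roots of
P_j of absolute value √p and none real, P_i ≠ P_j for i ≠ j) and R_w ⊆ ∏_j K_j the minimal central
order, the image of ℤ[F, V] → ∏_j K_j, F ↦ (π_j), V ↦ (p/π_j). Then there exists an abelian variety
A over k — a proper, geometrically integral commutative group scheme over k, with its p-Frobenius
endomorphism π_A (the identity on points and the p-th power map on sections) — and a ring
isomorphism ρ : R_w ≅ End(A) with ρ(F) = π_A; in particular A has Weil support exactly the classes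
of the π_j, each simple factor occurring once up to isogeny. The published statement moreover has A
isogenous to the product of chosen simple abelian varieties attached to the π_j and its Tate modules
at all primes (the Dieudonné module at p) free of rank one over R_w ⊗ ℤ_ℓ; these clauses are not
part of this row. -/
theorem result (p : ℕ) [Fact p.Prime] (k : Type u) [Field k] [Finite k] (hk : Nat.card k = p)
    (J : Type) [Fintype J] (K : J → Type) [∀ j, Field (K j)] [∀ j, CharZero (K j)] (ϖ : ∀ j, K j)
    (hint : ∀ j, IsIntegral ℤ (ϖ j))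
    (hweil : ∀ j, ∀ z ∈ (minpoly ℤ (ϖ j)).aroots ℂ, ‖z‖ = Real.sqrt p)
    (hnr : ∀ j, ∀ z ∈ (minpoly ℤ (ϖ j)).aroots ℂ, z.im ≠ 0)
    (hinj : ∀ i j, minpoly ℤ (ϖ i) = minpoly ℤ (ϖ j) → i = j) :
    ∃ (A : Over (Spec (CommRingCat.of k))) (_ : GrpObj A) (_ : IsCommMonObj A) (πA : A ⟶ A) (_ : IsMonHom πA)
      (hπAle : ∀ U : A.left.Opens, U ≤ πA.left ⁻¹ᵁ U)
      (ρ : (MvPolynomial.aeval ![fun j => ϖ j, fun j => (p : K j) / ϖ j] : MvPolynomial (Fin 2) ℤ →ₐ[ℤ] ((j : J) → K j)).range ≃+* EndAV.End A),
      IsProper A.hom ∧ GeometricallyIntegral A.hom ∧ πA.left.base = 𝟙 _ ∧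
      (∀ (U : A.left.Opens) (s : Γ(A.left, U)), (πA.left.appLE U U (hπAle U)).hom s = s ^ p) ∧
      ρ ⟨(MvPolynomial.aeval ![fun j => ϖ j, fun j => (p : K j) / ϖ j] : MvPolynomial (Fin 2) ℤ →ₐ[ℤ] ((j : J) → K j)) (X 0), AlgHom.mem_range_self _ _⟩ = EndAV.End.of πA :=
  K525.LatFin.fin (K511.HT.hteOf K613.QgMain.main) K590.LatI.lat p k hk J K ϖ hint hweil hnr hinj

end Groth.Agent.S17997
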