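import Groth.Statements.S17999
import Groth.Agent.WeilNum.K944.Order
import Groth.Agent.WeilNum.K944.PicSurj
import Groth.Agent.WeilNum.K944.Bezout

set_option autoImplicit false
universe u
open MvPolynomial
open WeilNum

namespace Groth.Agent.S17999

/-- The case of finite sets of Weil numbers; let p be a prime, e ≥ 1 and q = p^e; let (π_j)_{j ∈ J} be a
finite family of pairwise nonconjugate Weil q-numbers (π_j in a field K_j of characteristic zero,
integral over ℤ with minimal polynomial P_j, all complex roots of P_j of absolute value √q, P_i ≠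
P_j for i ≠ j), and let e : J' → J be an injective map selecting a subfamily. Let I_w, resp. I_v, be
the kernel of ℤ[F, V] → ∏_{j ∈ J} K_j, resp. → ∏_{j' ∈ J'} K_{e(j')}, sending F ↦ (π_j) and V ↦
(q/π_j); then I_w ⊆ I_v and ℤ[F,V]/I_w → ℤ[F,V]/I_v is the natural surjection R_w → R_v of minimal
central orders. Then the induced homomorphism of Picard groups Pic(R_w) → Pic(R_v) is surjective.
The published statement concerns the Picard groups of the pro-rings attached to arbitrary subsets V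
⊆ W of Weil q-number classes; only the case of finite sets is stated here. -/
theorem result (p e : ℕ) [Fact p.Prime] (he : 0 < e)
    (J J' : Type) [Fintype J] [Fintype J'] (emb : J' → J) (hemb : Function.Injective emb)
    (K : J → Type u) [∀ j, Field (K j)] [∀ j, CharZero (K j)] (ϖ : ∀ j, K j)
    (hint : ∀ j, IsIntegral ℤ (ϖ j))
    (hweil : ∀ j, ∀ z ∈ (minpoly ℤ (ϖ j)).aroots ℂ, ‖z‖ = Real.sqrt ((p : ℝ) ^ e))
    (hinj : ∀ i j, minpoly ℤ (ϖ i) = minpoly ℤ (ϖ j) → i = j)
    (hle : RingHom.ker (MvPolynomial.aeval ![fun j => ϖ j, fun j => ((p : K j) ^ e) / ϖ j] :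
          MvPolynomial (Fin 2) ℤ →ₐ[ℤ] ((j : J) → K j)) ≤
        RingHom.ker (MvPolynomial.aeval ![fun j' => ϖ (emb j'), fun j' => ((p : K (emb j')) ^ e) / ϖ (emb j')] :
          MvPolynomial (Fin 2) ℤ →ₐ[ℤ] ((j' : J') → K (emb j')))) :
    Function.Surjective (CommRing.Pic.mapRingHom (Ideal.Quotient.factor hle)) := by
  classical
  have hp : p.Prime := Fact.out
  have hp0 : 0 < p := hp.pos
  set q : ℕ := p ^ e with hqdef
  have hq : 0 < q := pow_pos hp0 e
  have hw' : ∀ i, ∀ z ∈ (minpoly ℤ (ϖ i)).aroots ℂ, ‖z‖ = Real.sqrt ((q : ℕ) : ℝ) := by simpa [hqdef] using hweil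
  have hπ := K944.WeilNum.Sym.ne_zero_of_weil hq hint hw'
  set f : MvPolynomial (Fin 2) ℤ →ₐ[ℤ] ((j : J) → K j) :=
    MvPolynomial.aeval ![fun j => ϖ j, fun j => ((p : K j) ^ e) / ϖ j] with hf
  set f' : MvPolynomial (Fin 2) ℤ →ₐ[ℤ] ((j' : J') → K (emb j')) :=
    MvPolynomial.aeval ![fun j' => ϖ (emb j'), fun j' => ((p : K (emb j')) ^ e) / ϖ (emb j')] with hf'
  have H' : K944.WeilNum.Order.Fam q (fun j' => ϖ (emb j')) f' :=
    { hq := hq, int := fun i => hint _, weil := fun i => hw' _, inj := fun i j h => hemb (hinj _ _ h)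
      f0 := by simp [f']
      f1 := fun i => by
        simp only [f', MvPolynomial.aeval_X, Matrix.cons_val_one, Matrix.cons_val_zero]
        rw [mul_div_cancel₀ _ (hπ _), hqdef]; push_cast; rfl }
  have hff' : ∀ g j', f' g j' = f g (emb j') := by
    intro g j'
    have e1 : (Pi.evalAlgHom ℤ (fun j' => K (emb j')) j').comp f' = (Pi.evalAlgHom ℤ K (emb j')).comp f := by
      refine MvPolynomial.algHom_ext fun i => ?_
      fin_cases i <;> simp [f', f]
    exact congrArg (fun φ => φ g) e1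
  -- the integer relation
  let s : Finset J := Finset.univ.image emb
  obtain ⟨A, B, N, hN0, hAB⟩ := K944.WeilNum.Bezout.exists_int_prod hint hinj sᶜ s disjoint_compl_left
  let g : MvPolynomial (Fin 2) ℤ := Polynomial.aeval (X 0 : MvPolynomial (Fin 2) ℤ)
    (2 * A * ∏ i ∈ sᶜ, minpoly ℤ (ϖ i))
  have hfg : ∀ j, f g j = Polynomial.aeval (ϖ j) (2 * A * ∏ i ∈ sᶜ, minpoly ℤ (ϖ i)) := by
    intro j
    have e0 : f (X 0) = ϖ := by simp [f]
    have e1 : f g = Polynomial.aeval (f (X 0)) (2 * A * ∏ i ∈ sᶜ, minpoly ℤ (ϖ i)) :=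
      (Polynomial.aeval_algHom_apply f (X 0) _).symm
    have e2 : ∀ P : Polynomial ℤ, Polynomial.aeval (f (X 0)) P j = Polynomial.aeval (ϖ j) P := by
      intro P
      rw [e0]
      exact (Polynomial.aeval_algHom_apply (Pi.evalAlgHom ℤ K j) ϖ _).symm
    rw [e1, e2]
  have hg1 : ∀ j, j ∉ s → f g j = 0 := by
    intro j hj
    rw [hfg, map_mul, map_prod, Finset.prod_eq_zero (Finset.mem_compl.mpr hj) (minpoly.aeval ℤ (ϖ j)), mul_zero]
  have hg2 : ∀ j, j ∈ s → f g j = ((2 * N : ℤ) : K j) := by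
    intro j hj
    have h1 : 2 * A * (∏ i ∈ sᶜ, minpoly ℤ (ϖ i)) = Polynomial.C (2 * N) - 2 * B * (∏ i ∈ s, minpoly ℤ (ϖ i)) := by
      rw [Polynomial.C_mul]
      have : (Polynomial.C (2 : ℤ)) = 2 := rfl
      rw [this]
      linear_combination 2 * hAB
    have e3 : Polynomial.aeval (ϖ j) (2 * B * ∏ i ∈ s, minpoly ℤ (ϖ i)) = 0 := by
      rw [map_mul, map_prod, Finset.prod_eq_zero hj (minpoly.aeval ℤ (ϖ j)), mul_zero]
    rw [hfg, h1, map_sub, e3, sub_zero, Polynomial.aeval_C]
    simp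
  -- finiteness of the target
  let E : (MvPolynomial (Fin 2) ℤ ⧸ RingHom.ker f') →+* ((j' : J') → K (emb j')) := RingHom.kerLift f'.toRingHom
  have hE : Function.Injective E := RingHom.kerLift_injective f'.toRingHom
  have hfin : Module.Finite ℤ (MvPolynomial (Fin 2) ℤ ⧸ RingHom.ker f') := by
    have := H'.finite
    let E' : (MvPolynomial (Fin 2) ℤ ⧸ RingHom.ker f') →ₗ[ℤ] f'.range :=
      { toFun := fun x => ⟨E x, by
          obtain ⟨x, rfl⟩ := Ideal.Quotient.mk_surjective x
          exact ⟨x, rfl⟩⟩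
        map_add' := fun x y => Subtype.ext (map_add E x y)
        map_smul' := fun n x => Subtype.ext (map_zsmul E n x) }
    exact Module.Finite.of_injective E' fun x y h => hE (congrArg Subtype.val h)
  refine K944.WeilNum.PicSurj.surjective (Ideal.Quotient.factor hle) (Ideal.Quotient.factor_surjective hle)
    ?_ (2 * N) ?_ (Ideal.Quotient.mk _ g) ?_ ?_
  · intro m t hm ht
    apply hE
    rw [map_zero]
    have h1 := congrArg E ht
    rw [map_mul, map_intCast, map_zero] at h1
    funext j'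
    have h2 := congrFun h1 j'
    have h3 : (m : K (emb j')) * E t j' = 0 := h2
    exact (mul_eq_zero.mp h3).resolve_left (by exact_mod_cast hm)
  · rw [abs_mul]
    have : 1 ≤ |N| := Int.one_le_abs hN0
    have h2 : |(2 : ℤ)| = 2 := rfl
    rw [h2]; omega
  · apply hE
    rw [map_intCast, Ideal.Quotient.factor_mk]
    change f' g = _
    funext j'
    rw [hff', hg2 _ (Finset.mem_image_of_mem _ (Finset.mem_univ _))]
    rfl
  · intro i hi
    obtain ⟨x, rfl⟩ := Ideal.Quotient.mk_surjective i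
    rw [RingHom.mem_ker, Ideal.Quotient.factor_mk, Ideal.Quotient.eq_zero_iff_mem, RingHom.mem_ker] at hi
    rw [← map_mul, Ideal.Quotient.eq_zero_iff_mem, RingHom.mem_ker, map_mul]
    funext j
    rw [Pi.mul_apply, Pi.zero_apply]
    by_cases hj : j ∈ s
    · obtain ⟨j', _, rfl⟩ := Finset.mem_image.mp hj
      have : f x (emb j') = 0 := by rw [← hff', hi]; rfl
      rw [this, mul_zero]
    · rw [hg1 j hj, zero_mul]

end Groth.Agent.S17999
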