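import Groth.Statements.S18003
import Groth.Agent.WeilNum.K944.ModStr

set_option autoImplicit false
universe u
open MvPolynomial
open WeilNum

namespace Groth.Agent.S18003

/-- Let p be a prime, e ≥ 1 and q = p^e; let (π_i) be a finite family of pairwise nonconjugate Weil
q-numbers (π_i in a field K_i of characteristic zero, integral over ℤ with minimal polynomial P_i,
all complex roots of P_i of absolute value √q, P_i ≠ P_j for i ≠ j) of even total degree Σ_i deg
P_i, P_w = ∏_i P_i, and R_w ⊆ ∏_i K_i the minimal central order, the image of ℤ[F, V] → ∏_i K_i, F ↦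
(π_i), V ↦ (q/π_i). Let T be a finitely generated free ℤ-module and F_T an endomorphism of T. Then
there exists an R_w-module structure on the additive group T in which the class of F acts as F_T if
and only if P_w(F_T) = 0 (equivalently: F_T is semisimple after tensoring with ℚ, with eigenvalues
among the conjugates of the π_i) and there is an endomorphism V_T of T with F_T ∘ V_T = q. When it
exists the structure is determined by F_T (the class of V acts as V_T = q·F_T⁻¹), and reflexive
R_w-modules are exactly the ℤ-free finitely generated ones, so this identifies the objects of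
Refl(R_w) with such pairs (T, F_T); the uniqueness remark is not part of the formal statement. -/
theorem result (p e : ℕ) [Fact p.Prime] (he : 0 < e)
    (ι : Type) [Fintype ι] (K : ι → Type u) [∀ i, Field (K i)] [∀ i, CharZero (K i)] (π : ∀ i, K i)
    (hint : ∀ i, IsIntegral ℤ (π i))
    (hweil : ∀ i, ∀ z ∈ (minpoly ℤ (π i)).aroots ℂ, ‖z‖ = Real.sqrt ((p : ℝ) ^ e))
    (hinj : ∀ i j, minpoly ℤ (π i) = minpoly ℤ (π j) → i = j)
    (D : ℕ) (hD : ∑ i, (minpoly ℤ (π i)).natDegree = 2 * D)
    (T : Type) [AddCommGroup T] [Module.Finite ℤ T] [Module.Free ℤ T] (FT : T →ₗ[ℤ] T) :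
    (∃ _ : Module (MvPolynomial.aeval ![fun i => π i, fun i => ((p : K i) ^ e) / π i] :
        MvPolynomial (Fin 2) ℤ →ₐ[ℤ] ((i : ι) → K i)).range T,
        ∀ t : T, (⟨(MvPolynomial.aeval ![fun i => π i, fun i => ((p : K i) ^ e) / π i] :
        MvPolynomial (Fin 2) ℤ →ₐ[ℤ] ((i : ι) → K i)) (X 0), AlgHom.mem_range_self _ _⟩ : (MvPolynomial.aeval ![fun i => π i, fun i => ((p : K i) ^ e) / π i] :
        MvPolynomial (Fin 2) ℤ →ₐ[ℤ] ((i : ι) → K i)).range) • t = FT t) ↔
      (Polynomial.aeval FT (∏ i, minpoly ℤ (π i)) = 0 ∧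
        ∃ VT : T →ₗ[ℤ] T, FT ∘ₗ VT = ((p : ℤ) ^ e) • LinearMap.id) := by
  have hp0 : 0 < p := (Fact.out : p.Prime).pos
  have hq : 0 < p ^ e := pow_pos hp0 e
  have hw' : ∀ i, ∀ z ∈ (minpoly ℤ (π i)).aroots ℂ, ‖z‖ = Real.sqrt ((p ^ e : ℕ) : ℝ) := by simpa using hweil
  have hπ := K944.WeilNum.Sym.ne_zero_of_weil hq hint hw'
  set f : MvPolynomial (Fin 2) ℤ →ₐ[ℤ] ((i : ι) → K i) :=
    MvPolynomial.aeval ![fun i => π i, fun i => ((p : K i) ^ e) / π i] with hf
  have hf0 : f (X 0) = π := by simp [hf]
  have hf1 : ∀ i, π i * f (X 1) i = ((p ^ e : ℕ) : K i) := fun i => by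
    simp only [hf, MvPolynomial.aeval_X, Matrix.cons_val_one, Matrix.cons_val_zero]
    rw [mul_div_cancel₀ _ (hπ i)]; push_cast; rfl
  have hw := K944.WeilNum.Sym.weil_prod (q := p ^ e) hint hw'
  constructor
  · rintro ⟨inst, hact⟩
    -- the action as a ring map
    let act : f.range →+* Module.End ℤ T :=
      { toFun := fun r => { toFun := fun t => r • t, map_add' := smul_add r,
                            map_smul' := fun n t => by
                              simp only [eq_intCast, Int.cast_id]
                              exact (smul_comm n r t).symm }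
        map_one' := by ext t; exact one_smul _ t
        map_mul' := fun a b => by ext t; exact mul_smul a b t
        map_zero' := by ext t; exact zero_smul _ t
        map_add' := fun a b => by ext t; exact add_smul a b t }
    have hactF : act ⟨f (X 0), AlgHom.mem_range_self _ _⟩ = FT := by
      ext t; exact hact t
    let act' : MvPolynomial (Fin 2) ℤ →+* Module.End ℤ T := act.comp f.rangeRestrict.toRingHom
    have hact0 : act' (X 0) = FT := hactF
    constructor
    · have e1 : (act'.comp (Polynomial.aeval (X 0 : MvPolynomial (Fin 2) ℤ) : Polynomial ℤ →ₐ[ℤ] _).toRingHom) =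
          (Polynomial.aeval FT : Polynomial ℤ →ₐ[ℤ] Module.End ℤ T).toRingHom := by
        refine Polynomial.ringHom_ext' (RingHom.ext_int _ _) ?_
        simp only [AlgHom.toRingHom_eq_coe, RingHom.coe_comp, RingHom.coe_coe, Function.comp_apply, Polynomial.aeval_X]
        exact hact0
      have e2 := congrArg (fun f => f (∏ i, minpoly ℤ (π i))) e1
      have e3 : act' (Polynomial.aeval (X 0 : MvPolynomial (Fin 2) ℤ) (∏ i, minpoly ℤ (π i))) =
        Polynomial.aeval FT (∏ i, minpoly ℤ (π i)) := e2
      rw [← e3]
      have e4 : f.rangeRestrict (Polynomial.aeval (X 0 : MvPolynomial (Fin 2) ℤ) (∏ i, minpoly ℤ (π i))) = 0 := by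
        apply Subtype.ext
        change f (Polynomial.aeval (X 0 : MvPolynomial (Fin 2) ℤ) (∏ i, minpoly ℤ (π i))) = 0
        rw [← Polynomial.aeval_algHom_apply, hf0]
        funext i
        have e5 : Polynomial.aeval π (∏ i, minpoly ℤ (π i)) i = Polynomial.aeval (π i) (∏ i, minpoly ℤ (π i)) := by
          have := Polynomial.aeval_algHom_apply (Pi.evalAlgHom ℤ K i) π (∏ i, minpoly ℤ (π i))
          exact this.symm
        rw [e5, map_prod, Finset.prod_eq_zero (Finset.mem_univ i) (minpoly.aeval ℤ (π i))]
        rfl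
      change act (f.rangeRestrict _) = 0
      rw [e4, map_zero]
    · refine ⟨act' (X 1), ?_⟩
      have e1 : f.rangeRestrict (X 0 * X 1) = ((p ^ e : ℕ) : f.range) := by
        apply Subtype.ext
        change f (X 0 * X 1) = ((((p ^ e : ℕ) : f.range)) : (i : ι) → K i)
        funext i
        rw [map_mul, hf0, Pi.mul_apply, hf1]
        simp
      have e2 : act' (X 0 * X 1) = ((p ^ e : ℕ) : Module.End ℤ T) := by
        change act (f.rangeRestrict _) = _
        rw [e1, map_natCast]
      rw [map_mul, hact0] at e2
      ext t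
      have e3 := congrArg (fun g => g t) e2
      have e4 : FT (act' (X 1) t) = ((p ^ e : ℕ) : Module.End ℤ T) t := e3
      rw [LinearMap.comp_apply, e4]
      rw [Module.End.natCast_apply]
      simp only [LinearMap.smul_apply, LinearMap.id_apply]
      rw [← Nat.cast_pow, natCast_zsmul]
  · rintro ⟨hP, VT, hFV⟩
    have hFV' : FT * VT = ((p ^ e : ℕ) : ℤ) • LinearMap.id := by push_cast; exact hFV
    -- injectivity of FT
    have hinjF : Function.Injective FT := by
      rw [← LinearMap.ker_eq_bot, LinearMap.ker_eq_bot']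
      intro t ht
      have h1 := congrArg (fun g => g t) hP
      simp only [LinearMap.zero_apply] at h1
      have h2 : (Polynomial.aeval FT (∏ i, minpoly ℤ (π i))) t = (∏ i, minpoly ℤ (π i)).coeff 0 • t := by
        rw [Polynomial.aeval_eq_sum_range, LinearMap.sum_apply, Finset.sum_range_succ', Finset.sum_eq_zero]
        · simp
        · intro k _
          rw [LinearMap.smul_apply, pow_succ, Module.End.mul_apply, ht, map_zero, smul_zero]
      rw [h2] at h1
      have h3 : (∏ i, minpoly ℤ (π i)).coeff 0 ≠ 0 := by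
        intro h0
        have := K944.WeilNum.Basic.coeff_zero_sq hw
        rw [h0] at this
        have h4 : ((p ^ e : ℕ) : ℤ) ^ (∏ i, minpoly ℤ (π i)).natDegree ≠ 0 :=
          pow_ne_zero _ (by exact_mod_cast hq.ne')
        exact h4 (by rw [← this]; norm_num)
      exact (smul_eq_zero.mp h1).resolve_left h3
    have hVF : VT * FT = ((p ^ e : ℕ) : ℤ) • LinearMap.id := by
      ext t
      apply hinjF
      have := congrArg (fun g => g (FT t)) hFV'
      simp only [Module.End.mul_apply, LinearMap.smul_apply, LinearMap.id_apply] at this ⊢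
      rw [this, map_smul]
    obtain ⟨φ, hφ0, hφ1⟩ := K944.WeilNum.ModStr.exists_hom (E := Module.End ℤ T) FT VT (by rw [hFV', hVF])
    have hker : RingHom.ker f ≤ RingHom.ker φ :=
      K944.WeilNum.ModStr.ker_le hq hint hinj f hf0 hf1 FT VT hFV' hinjF hP φ hφ0 hφ1
    have hsurj : Function.Surjective f.rangeRestrict.toRingHom := f.rangeRestrict_surjective
    have hker' : RingHom.ker f.rangeRestrict.toRingHom ≤ RingHom.ker φ := by
      intro x hx
      apply hker
      rw [RingHom.mem_ker] at hx ⊢
      exact congrArg Subtype.val hx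
    let ψ : f.range →+* Module.End ℤ T := RingHom.liftOfSurjective f.rangeRestrict.toRingHom hsurj ⟨φ, hker'⟩
    have hψ : ∀ x, ψ (f.rangeRestrict x) = φ x := fun x =>
      RingHom.liftOfSurjective_comp_apply f.rangeRestrict.toRingHom hsurj ⟨φ, hker'⟩ x
    refine ⟨Module.compHom T ψ, fun t => ?_⟩
    change ψ (f.rangeRestrict (X 0)) t = FT t
    rw [hψ, hφ0]

end Groth.Agent.S18003
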