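import Groth.Statements.S18009
import Groth.Agent.ThetaS.K942.NotRed

set_option autoImplicit false
universe u
open ThetaS

namespace Groth.Agent.S18009

open CategoryTheory AlgebraicGeometry in
/-- Let k be an algebraically closed field and G a smooth connected affine group scheme over k. If the
classifying stack B_kG (G-torsors given as schemes, locally trivial in the fppf topology, over
k-schemes) is S-complete over Spec k, then G is reductive: every smooth connected normal closed
subgroup scheme of G that contains no non-trivial subtorus is trivial. (The published statement is
the equivalence, for an algebraic group over any field, between S-completeness of the classifying
stack and geometric reductivity; this row is the necessity direction for smooth connected G over an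
algebraically closed field, with reductivity stated as in the conclusion.) -/
theorem result (k : Type u) [Field k] [IsAlgClosed k]
    (G : Over (Spec (CommRingCat.of k))) [GrpObj G] (hGa : IsAffineHom G.hom) (hGs : Smooth G.hom)
    (hGc : ConnectedSpace G.left)
    (hS : ThetaS.IsSCompleteOver Scheme.fppfPrecoverage (AlgSt.BG Scheme.fppfPrecoverage G)) :
    Red.IsReductiveOver k G := by
  exact K942.NotRed.isReductiveOver hS

end Groth.Agent.S18009
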