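import Groth.Statements.S18014
import Groth.Agent.Lim.K342.FPSys

set_option autoImplicit false
universe u
open CategoryTheory CategoryTheory.Limits
open Lim

namespace Groth.Agent.S18014

open K342.FPSys

section

variable {A B C : Type u} [CommRing A] [CommRing B] [CommRing C] [Algebra A B] [Algebra A C]

/-- The good pairs of finitely presented data. -/
structure Good (f : B →ₐ[A] C) (p : Pres A B × Pres A C) : Prop where
  compat : Compat f p.1 p.2
  fin1 : Module.Finite A p.1.Alg
  fin2 : Module.Finite A p.2.Alg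
  surj1 : Function.Surjective (algebraMap A B) → Function.Surjective (algebraMap A p.1.Alg)
  surj2 : Function.Surjective (algebraMap A C) → Function.Surjective (algebraMap A p.2.Alg)
  lift : Function.Surjective f → ∀ e ∈ p.2.E, ∃ e' ∈ p.1.E, f e' = e
  nilp : Function.Surjective f → IsNilpotent (RingHom.ker f.toRingHom) →
    ∀ h : Compat f p.1 p.2, IsNilpotent (RingHom.ker (hom f h).toRingHom)

theorem exists_good [Algebra.IsIntegral A B] [Algebra.IsIntegral A C] (f : B →ₐ[A] C)
    (t : Pres A B) (s : Pres A C) : ∃ p : Pres A B × Pres A C, t ≤ p.1 ∧ s ≤ p.2 ∧ Good f p := by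
  obtain ⟨t₁, h1, hc1, hl1⟩ : ∃ t₁ : Pres A B, t ≤ t₁ ∧ Compat f t₁ (s.sup (t.map f)) ∧
      (Function.Surjective f → ∀ e ∈ (s.sup (t.map f)).E, ∃ e' ∈ t₁.E, f e' = e) := by
    have hc : Compat f t (s.sup (t.map f)) := (compat_map f t).mono le_rfl (le_sup_right _ _)
    by_cases hf : Function.Surjective f
    · obtain ⟨t₁, h1, h2, h3⟩ := exists_lift_vars hf hc
      exact ⟨t₁, h1, h2, fun _ => h3⟩
    · exact ⟨t, le_rfl, hc, fun h => absurd h hf⟩
  obtain ⟨t₂, h2, hE2, hfin2, hs2⟩ := exists_rel t₁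
  let s₁ : Pres A C := (s.sup (t.map f)).sup (t₂.map f)
  have hc2 : Compat f t₂ s₁ := (compat_map f t₂).mono le_rfl (le_sup_right _ _)
  have hl2 : Function.Surjective f → ∀ e ∈ s₁.E, ∃ e' ∈ t₂.E, f e' = e := by
    rintro hf e (he | ⟨e', he', rfl⟩)
    · obtain ⟨e', he', h⟩ := hl1 hf e he
      exact ⟨e', hE2 ▸ he', h⟩
    · exact ⟨e', he', rfl⟩
  obtain ⟨s₂, h3, hE3, hfin3, hs3⟩ := exists_rel s₁
  have hc3 : Compat f t₂ s₂ := hc2.mono le_rfl h3
  have hl3 : Function.Surjective f → ∀ e ∈ s₂.E, ∃ e' ∈ t₂.E, f e' = e := fun hf e he =>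
    hl2 hf e (hE3 ▸ he)
  have hs : s ≤ s₂ := ((le_sup_left _ _).trans (le_sup_left _ _)).trans h3
  by_cases hN : Function.Surjective f ∧ IsNilpotent (RingHom.ker f.toRingHom)
  · obtain ⟨t₃, hc4, h4, hE4, hN4⟩ := exists_nilp hN.2 hc3 (hl3 hN.1)
    refine ⟨(t₃, s₂), (h1.trans h2).trans h4, hs, hc4, finite_of_le h4 hE4, hfin3,
      fun h => algebraMap_surjective_of_le h4 hE4 (hs2 h), hs3, fun hf e he => ?_,
      fun _ _ _ => hN4⟩
    obtain ⟨e', he', h⟩ := hl3 hf e he
    exact ⟨e', hE4 ▸ he', h⟩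
  · exact ⟨(t₂, s₂), h1.trans h2, hs, hc3, hfin2, hfin3, hs2, hs3, hl3,
      fun h h' => absurd ⟨h, h'⟩ hN⟩

end

/-- Let A be a commutative ring, B an A-algebra and C a B-algebra, with B and C both integral over A.
Then B → C is a filtered colimit, in the category of A-algebras, of maps B_i → C_i between
A-algebras each of which is finite and of finite presentation over A: there are a small filtered
index category, two diagrams of A-algebras over it with a morphism of diagrams, and colimiting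
cocones with vertices B and C under which the morphism of diagrams induces B → C. Moreover the
system can be chosen so that if A → B (resp. B → C, resp. A → C) is surjective then so is every A →
B_i (resp. B_i → C_i, resp. A → C_i), and if A → B (resp. B → C, resp. A → C) is surjective with
nilpotent kernel then so is every A → B_i (resp. B_i → C_i, resp. A → C_i). -/
theorem result {A B C : Type u} [CommRing A] [CommRing B]
    [CommRing C] [Algebra A B] [Algebra A C] [Algebra B C] [IsScalarTower A B C]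
    [Algebra.IsIntegral A B] [Algebra.IsIntegral A C] :
    ∃ (ι : Type u) (_ : SmallCategory ι) (_ : IsFiltered ι) (DB DC : ι ⥤ Under (CommRingCat.of A)) (τ : DB ⟶ DC)
      (cB : DB ⟶ (Functor.const ι).obj (Under.mk (CommRingCat.ofHom (algebraMap A B))))
      (cC : DC ⟶ (Functor.const ι).obj (Under.mk (CommRingCat.ofHom (algebraMap A C)))),
      Nonempty (IsColimit (Cocone.mk _ cB)) ∧ Nonempty (IsColimit (Cocone.mk _ cC)) ∧
      (∀ i, (τ.app i).right ≫ (cC.app i).right = (cB.app i).right ≫ CommRingCat.ofHom (algebraMap B C)) ∧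
      (∀ i, (DB.obj i).hom.hom.Finite ∧ (DB.obj i).hom.hom.FinitePresentation ∧
        (DC.obj i).hom.hom.Finite ∧ (DC.obj i).hom.hom.FinitePresentation) ∧
      (Function.Surjective (algebraMap A B) → ∀ i, Function.Surjective (DB.obj i).hom.hom) ∧
      (Function.Surjective (algebraMap B C) → ∀ i, Function.Surjective (τ.app i).right.hom) ∧
      (Function.Surjective (algebraMap A C) → ∀ i, Function.Surjective (DC.obj i).hom.hom) ∧
      (Function.Surjective (algebraMap A B) → IsNilpotent (RingHom.ker (algebraMap A B)) →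
        ∀ i, Function.Surjective (DB.obj i).hom.hom ∧ IsNilpotent (RingHom.ker (DB.obj i).hom.hom)) ∧
      (Function.Surjective (algebraMap B C) → IsNilpotent (RingHom.ker (algebraMap B C)) →
        ∀ i, Function.Surjective (τ.app i).right.hom ∧ IsNilpotent (RingHom.ker (τ.app i).right.hom)) ∧
      (Function.Surjective (algebraMap A C) → IsNilpotent (RingHom.ker (algebraMap A C)) →
        ∀ i, Function.Surjective (DC.obj i).hom.hom ∧ IsNilpotent (RingHom.ker (DC.obj i).hom.hom)) := by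
  let f : B →ₐ[A] C := IsScalarTower.toAlgHom A B C
  let Γ : Type u := {p : Pres A B × Pres A C // Good f p}
  have hne : Nonempty Γ := by
    obtain ⟨p, -, -, hp⟩ := exists_good f (ofSet ∅ Set.finite_empty) (ofSet ∅ Set.finite_empty)
    exact ⟨⟨p, hp⟩⟩
  have hcof : ∀ (γ : Γ) (t : Pres A B) (s : Pres A C), ∃ γ' : Γ, γ ≤ γ' ∧ t ≤ γ'.1.1 ∧ s ≤ γ'.1.2 := by
    intro γ t s
    obtain ⟨p, h1, h2, hp⟩ := exists_good f (γ.1.1.sup t) (γ.1.2.sup s)
    exact ⟨⟨p, hp⟩, ⟨(le_sup_left _ _).trans h1, (le_sup_left _ _).trans h2⟩,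
      (le_sup_right _ _).trans h1, (le_sup_right _ _).trans h2⟩
  have hdir : IsDirectedOrder Γ := ⟨fun γ γ' => by
    obtain ⟨γ'', h1, h2, h3⟩ := hcof γ γ'.1.1 γ'.1.2
    exact ⟨γ'', h1, ⟨h2, h3⟩⟩⟩
  have hτ : Monotone (fun γ : Γ => γ.1.1) := fun γ γ' h => h.1
  have hσ : Monotone (fun γ : Γ => γ.1.2) := fun γ γ' h => h.2
  refine ⟨Γ, inferInstance, inferInstance, diag hτ, diag hσ,
    trans hτ hσ (f := f) (fun γ => γ.2.compat), coc hτ, coc hσ,
    isColimit hτ (fun γ t => ?_), isColimit hσ (fun γ s => ?_), ?_, ?_, ?_, ?_, ?_, ?_, ?_, ?_⟩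
  · obtain ⟨γ', h1, h2, -⟩ := hcof γ t (ofSet ∅ Set.finite_empty)
    exact ⟨γ', h1, h2⟩
  · obtain ⟨γ', h1, -, h2⟩ := hcof γ (ofSet ∅ Set.finite_empty) s
    exact ⟨γ', h1, h2⟩
  · intro γ
    ext x
    exact ev_hom_apply γ.2.compat x
  · intro γ
    have h1 := γ.2.fin1
    have h2 := γ.2.fin2
    have h3 : (algebraMap A γ.1.1.Alg).FinitePresentation :=
      RingHom.finitePresentation_algebraMap.2 inferInstance
    have h4 : (algebraMap A γ.1.2.Alg).FinitePresentation :=
      RingHom.finitePresentation_algebraMap.2 inferInstance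
    exact ⟨RingHom.finite_algebraMap.2 h1, h3, RingHom.finite_algebraMap.2 h2, h4⟩
  · intro h γ
    exact γ.2.surj1 h
  · intro h γ
    exact hom_surjective γ.2.compat (γ.2.lift h)
  · intro h γ
    exact γ.2.surj2 h
  · rintro h ⟨n, hn⟩ γ
    refine ⟨γ.2.surj1 h, n, ?_⟩
    exact le_bot_iff.1 ((Ideal.pow_right_mono (ker_algebraMap_le γ.1.1) n).trans hn.le)
  · intro h h' γ
    exact ⟨hom_surjective γ.2.compat (γ.2.lift h), γ.2.nilp h h' γ.2.compat⟩
  · rintro h ⟨n, hn⟩ γ
    refine ⟨γ.2.surj2 h, n, ?_⟩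
    exact le_bot_iff.1 ((Ideal.pow_right_mono (ker_algebraMap_le γ.1.2) n).trans hn.le)

end Groth.Agent.S18014
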