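import Groth.Statements.S18015
import Mathlib.RingTheory.Ideal.AssociatedPrime.Finiteness
import Mathlib.Algebra.Homology.ShortComplex.ModuleCat

set_option autoImplicit false
universe u
open CategoryTheory
open Coh

namespace Groth.Agent.S18015

/-- Let A be a Noetherian commutative ring and F an additive functor from A-modules to A-modules which
is half-exact, i.e. for every short exact sequence 0 → M' → M → M'' → 0 the sequence F(M') → F(M) →
F(M'') is exact at F(M). Then F(M) is a finitely generated A-module for every finitely generated
A-module M if and only if F(A/p) is a finitely generated A-module for every prime ideal p of A. (The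
published statement takes F from quasi-coherent sheaves on Spec A to abelian groups, with A acting
on each F(M) through F; this row allows any additive functor between A-module categories, A-linear
or not, and the same argument applies, since it uses only that each map F(f) is A-linear.) -/
theorem result {A : Type u} [CommRing A] [IsNoetherianRing A]
    (F : ModuleCat.{u} A ⥤ ModuleCat.{u} A) [F.Additive]
    (hF : ∀ S : ShortComplex (ModuleCat.{u} A), S.ShortExact → (S.map F).Exact) :
    (∀ M : ModuleCat.{u} A, Module.Finite A M → Module.Finite A (F.obj M)) ↔
      ∀ p : PrimeSpectrum A, Module.Finite A (F.obj (ModuleCat.of A (A ⧸ p.asIdeal))) := by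
  constructor
  · intro h p
    exact h _ (inferInstanceAs (Module.Finite A (A ⧸ p.asIdeal)))
  · intro h M hM
    have key := @IsNoetherianRing.induction_on_isQuotientEquivQuotientPrime A _ _
      M _ _ hM (fun N _ _ _ => Module.Finite A (F.obj (ModuleCat.of A N)))
    refine key ?_ ?_ ?_
    · intro N _ _ _ hN
      have hz : CategoryTheory.Limits.IsZero (ModuleCat.of A N) :=
        ModuleCat.isZero_of_subsingleton _
      have hz' := F.map_isZero hz
      have : Subsingleton (F.obj (ModuleCat.of A N)) := ModuleCat.subsingleton_of_isZero hz'
      infer_instance
    · intro N _ _ _ p e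
      have e' : F.obj (ModuleCat.of A (A ⧸ p.asIdeal)) ≅ F.obj (ModuleCat.of A N) :=
        F.mapIso (e.symm.toModuleIso)
      have := h p
      exact Module.Finite.equiv e'.toLinearEquiv
    · intro N₁ _ _ _ N₂ _ _ _ N₃ _ _ _ f g hf hg hfg h1 h3
      let S : ShortComplex (ModuleCat.{u} A) := ShortComplex.mk (ModuleCat.ofHom f) (ModuleCat.ofHom g)
        (by ext x; exact hfg.apply_apply_eq_zero x)
      have hS : S.ShortExact := by
        refine ShortComplex.ShortExact.mk' ?_ ?_ ?_
        · rw [ShortComplex.ShortExact.moduleCat_exact_iff_function_exact]
          exact hfg
        · exact (ModuleCat.mono_iff_injective _).2 hf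
        · exact (ModuleCat.epi_iff_surjective _).2 hg
      have hex := hF S hS
      rw [ShortComplex.ShortExact.moduleCat_exact_iff_function_exact] at hex
      have h1' : Module.Finite A (S.map F).X₁ := h1
      have h3' : Module.Finite A (S.map F).X₃ := h3
      have : IsNoetherian A (S.map F).X₂ :=
        isNoetherian_of_range_eq_ker (S.map F).f.hom (S.map F).g.hom
          (LinearMap.exact_iff.1 hex).symm
      change Module.Finite A (S.map F).X₂
      infer_instance

end Groth.Agent.S18015
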