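import Groth.Statements.S18016
import Groth.Agent.Lim.K342.FPSys
import Mathlib.CategoryTheory.Limits.Comma
import Mathlib.CategoryTheory.Limits.Types.Pullbacks
import Mathlib.Algebra.Category.Ring.Limits
import Mathlib.Algebra.Category.Ring.Constructions

set_option autoImplicit false
universe u
open CategoryTheory CategoryTheory.Limits
open Lim

namespace Groth.Agent.S18016

open K342.FPSys

section

variable {R B D D' : Type u} [CommRing R] [CommRing B] [CommRing D] [CommRing D']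
  [Algebra R B] [Algebra R D] [Algebra R D']

/-- The good triples of finitely presented data. -/
structure Good (f : B →ₐ[R] D) (i : D' →ₐ[R] D) (p : Pres R B × Pres R D' × Pres R D) : Prop where
  cf : Compat f p.1 p.2.2
  ci : Compat i p.2.1 p.2.2
  li : ∀ e ∈ p.2.2.E, ∃ e' ∈ p.2.1.E, i e' = e
  ni : ∀ h : Compat i p.2.1 p.2.2, ∀ x, hom i h x = 0 → IsNilpotent x
  lf : Function.Surjective f → ∀ e ∈ p.2.2.E, ∃ e' ∈ p.1.E, f e' = e
  nf : Function.Surjective f → (∀ x, f x = 0 → IsNilpotent x) →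
    ∀ h : Compat f p.1 p.2.2, ∀ x, hom f h x = 0 → IsNilpotent x
  intf : f.toRingHom.IsIntegral → ∀ h : Compat f p.1 p.2.2, (hom f h).toRingHom.IsIntegral

theorem isIntegral_of_le {f : B →ₐ[R] D} {t t' : Pres R B} {s : Pres R D} (h : t ≤ t')
    (hc : Compat f t s) (hc' : Compat f t' s) (H : (hom f hc).toRingHom.IsIntegral) :
    (hom f hc').toRingHom.IsIntegral := by
  refine RingHom.IsIntegral.tower_top (hom (AlgHom.id R B) h).toRingHom _ ?_
  have h1 : (hom f hc').toRingHom.comp (hom (AlgHom.id R B) h).toRingHom = (hom f hc).toRingHom :=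
    RingHom.ext fun x => congr($(hom_comp hc' h) x)
  rw [h1]
  exact H

theorem exists_good (f : B →ₐ[R] D) (i : D' →ₐ[R] D) (hi : Function.Surjective i)
    (hnil : ∀ x, i x = 0 → IsNilpotent x) (t : Pres R B) (t' : Pres R D') (s : Pres R D) :
    ∃ p : Pres R B × Pres R D' × Pres R D, t ≤ p.1 ∧ t' ≤ p.2.1 ∧ s ≤ p.2.2 ∧ Good f i p := by
  let s₀ : Pres R D := (s.sup (t.map f)).sup (t'.map i)
  have hcf : Compat f t s₀ := (compat_map f t).mono le_rfl
    ((le_sup_right _ _).trans (le_sup_left _ _))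
  have hci : Compat i t' s₀ := (compat_map i t').mono le_rfl (le_sup_right _ _)
  have hs₀ : s ≤ s₀ := (le_sup_left _ _).trans (le_sup_left _ _)
  obtain ⟨t₁, s₁, ht₁, hs₁, hcf₁, hint⟩ : ∃ (t₁ : Pres R B) (s₁ : Pres R D), t ≤ t₁ ∧ s₀ ≤ s₁ ∧
      ∃ hc : Compat f t₁ s₁, f.toRingHom.IsIntegral → (hom f hc).toRingHom.IsIntegral := by
    by_cases hf : f.toRingHom.IsIntegral
    · obtain ⟨t₁, s₁, h1, h2, h3, h4⟩ := exists_integral hf hcf
      exact ⟨t₁, s₁, h2, h3, h1, fun _ => h4⟩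
    · exact ⟨t, s₀, le_rfl, le_rfl, hcf, fun h => absurd h hf⟩
  have hci₁ : Compat i t' s₁ := hci.mono le_rfl hs₁
  obtain ⟨t'₁, ht'₁, hci₂, hli⟩ := exists_lift_vars hi hci₁
  obtain ⟨t'₂, hci₃, ht'₂, hE', hni⟩ := exists_locNilp hnil hci₂ hli
  have hli' : ∀ e ∈ s₁.E, ∃ e' ∈ t'₂.E, i e' = e := fun e he => by
    obtain ⟨e', he', h⟩ := hli e he
    exact ⟨e', hE' ▸ he', h⟩
  by_cases hf : Function.Surjective f
  · obtain ⟨t₂, ht₂, hcf₂, hlf⟩ := exists_lift_vars hf hcf₁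
    by_cases hfn : ∀ x, f x = 0 → IsNilpotent x
    · obtain ⟨t₃, hcf₃, ht₃, hE, hnf⟩ := exists_locNilp hfn hcf₂ hlf
      refine ⟨(t₃, t'₂, s₁), (ht₁.trans ht₂).trans ht₃, ht'₁.trans ht'₂, hs₀.trans hs₁, hcf₃, hci₃,
        hli', fun _ => hni, fun _ e he => ?_, fun _ _ _ => hnf,
        fun h _ => isIntegral_of_le (ht₂.trans ht₃) hcf₁ hcf₃ (hint h)⟩
      obtain ⟨e', he', h⟩ := hlf e he
      exact ⟨e', hE ▸ he', h⟩
    · exact ⟨(t₂, t'₂, s₁), ht₁.trans ht₂, ht'₁.trans ht'₂, hs₀.trans hs₁, hcf₂, hci₃,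
        hli', fun _ => hni, fun _ => hlf, fun _ h => absurd h hfn,
        fun h _ => isIntegral_of_le ht₂ hcf₁ hcf₂ (hint h)⟩
  · exact ⟨(t₁, t'₂, s₁), ht₁, ht'₁.trans ht'₂, hs₀.trans hs₁, hcf₁, hci₃,
      hli', fun _ => hni, fun h => absurd h hf, fun h => absurd h hf, fun h _ => hint h⟩

section System

variable {X Γ : Type u} [CommRing X] [Algebra R X] [Preorder Γ] {τ : Γ → Pres R X}
  (hτ : Monotone τ)

include hτ in
theorem exists_map_eq (hcof : ∀ (γ : Γ) (t : Pres R X), ∃ γ', γ ≤ γ' ∧ t ≤ τ γ') (γ : Γ)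
    (x y : (τ γ).Alg) (hxy : (τ γ).ev x = (τ γ).ev y) :
    ∃ (γ' : Γ) (h : γ ≤ γ'), hom (AlgHom.id R X) (hτ h) x = hom (AlgHom.id R X) (hτ h) y := by
  obtain ⟨p, rfl⟩ := Ideal.Quotient.mk_surjective x
  obtain ⟨q, rfl⟩ := Ideal.Quotient.mk_surjective y
  have hpq : MvPolynomial.aeval (Subtype.val : (τ γ).E → X) (p - q) = 0 := by
    rw [map_sub, sub_eq_zero]
    exact hxy
  obtain ⟨γ', h, h'⟩ := hcof γ ((τ γ).add (Ideal.span {p - q}) ⟨{p - q}, by simp⟩ (by
    intro r hr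
    obtain ⟨a, rfl⟩ := Ideal.mem_span_singleton'.1 hr
    rw [map_mul, hpq, mul_zero]))
  refine ⟨γ', h, ?_⟩
  rw [hom_mk, hom_mk, Ideal.Quotient.eq, ← map_sub]
  exact h'.le _ (Ideal.mem_sup_right (Ideal.subset_span rfl))

theorem exists_ev (hcof : ∀ (γ : Γ) (t : Pres R X), ∃ γ', γ ≤ γ' ∧ t ≤ τ γ') (γ : Γ) (x : X) :
    ∃ (γ' : Γ) (_ : γ ≤ γ') (y : (τ γ').Alg), (τ γ').ev y = x := by
  obtain ⟨γ', h, h'⟩ := hcof γ (ofSet {x} (Set.finite_singleton x))
  refine ⟨γ', h, Ideal.Quotient.mk (τ γ').J (MvPolynomial.X ⟨x, h'.mem x rfl⟩), ?_⟩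
  rw [ev_mk, MvPolynomial.aeval_X]

end System

end

/-- In ring form, let R be a commutative ring, f : B → D any map of R-algebras and i : D' → D a
surjective map of R-algebras every element of whose kernel is nilpotent (so Spec D → Spec D' is a
locally nilpotent closed immersion of affine R-schemes and Spec D → Spec B is affine), and let q₁ :
P → B, q₂ : P → D' exhibit P as the fibre product ring B ×_D D' (the pushout of the two affine
schemes). Then the diagram B → D ← D' is a filtered colimit, in R-algebras, of diagrams B_j → D_j ←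
D'_j of R-algebras of finite presentation in which D'_j → D_j is surjective with locally nilpotent
kernel; and the fibre products P_j = B_j ×_{D_j} D'_j form a compatible diagram whose colimit is P.
Moreover: if f is surjective (resp. surjective with locally nilpotent kernel, resp. integral) then
every B_j → D_j can be taken surjective (resp. surjective with locally nilpotent kernel, resp.
integral). (The published statement also covers two further classes, maps that become a closed or a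
locally nilpotent immersion after composing with a locally nilpotent closed immersion; those two
clauses are not stated here.) -/
theorem result {R B D D' P : Type u} [CommRing R] [CommRing B]
    [CommRing D] [CommRing D'] [CommRing P] [Algebra R B] [Algebra R D] [Algebra R D'] [Algebra R P]
    (f : B →ₐ[R] D) (i : D' →ₐ[R] D) (hi : Function.Surjective i)
    (hnil : ∀ x ∈ RingHom.ker i.toRingHom, IsNilpotent x) (q₁ : P →ₐ[R] B) (q₂ : P →ₐ[R] D')
    (hP : IsPullback (CommRingCat.ofHom q₁.toRingHom) (CommRingCat.ofHom q₂.toRingHom)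
      (CommRingCat.ofHom f.toRingHom) (CommRingCat.ofHom i.toRingHom)) :
    ∃ (ι : Type u) (_ : SmallCategory ι) (_ : IsFiltered ι) (DB DD DD' DP : ι ⥤ Under (CommRingCat.of R))
      (φ : DB ⟶ DD) (ψ : DD' ⟶ DD) (π₁ : DP ⟶ DB) (π₂ : DP ⟶ DD')
      (cB : DB ⟶ (Functor.const ι).obj (Under.mk (CommRingCat.ofHom (algebraMap R B))))
      (cD : DD ⟶ (Functor.const ι).obj (Under.mk (CommRingCat.ofHom (algebraMap R D))))
      (cD' : DD' ⟶ (Functor.const ι).obj (Under.mk (CommRingCat.ofHom (algebraMap R D'))))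
      (cP : DP ⟶ (Functor.const ι).obj (Under.mk (CommRingCat.ofHom (algebraMap R P)))),
      Nonempty (IsColimit (Cocone.mk _ cB)) ∧ Nonempty (IsColimit (Cocone.mk _ cD)) ∧
      Nonempty (IsColimit (Cocone.mk _ cD')) ∧ Nonempty (IsColimit (Cocone.mk _ cP)) ∧
      (∀ j, (φ.app j).right ≫ (cD.app j).right = (cB.app j).right ≫ CommRingCat.ofHom f.toRingHom) ∧
      (∀ j, (ψ.app j).right ≫ (cD.app j).right = (cD'.app j).right ≫ CommRingCat.ofHom i.toRingHom) ∧
      (∀ j, (π₁.app j).right ≫ (cB.app j).right = (cP.app j).right ≫ CommRingCat.ofHom q₁.toRingHom) ∧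
      (∀ j, (π₂.app j).right ≫ (cD'.app j).right = (cP.app j).right ≫ CommRingCat.ofHom q₂.toRingHom) ∧
      (∀ j, (DB.obj j).hom.hom.FinitePresentation ∧ (DD.obj j).hom.hom.FinitePresentation ∧
        (DD'.obj j).hom.hom.FinitePresentation) ∧
      (∀ j, Function.Surjective (ψ.app j).right.hom ∧ ∀ x ∈ RingHom.ker (ψ.app j).right.hom, IsNilpotent x) ∧
      (∀ j, IsPullback (π₁.app j).right (π₂.app j).right (φ.app j).right (ψ.app j).right) ∧
      (Function.Surjective f → ∀ j, Function.Surjective (φ.app j).right.hom) ∧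
      (Function.Surjective f → (∀ x ∈ RingHom.ker f.toRingHom, IsNilpotent x) →
        ∀ j, Function.Surjective (φ.app j).right.hom ∧ ∀ x ∈ RingHom.ker (φ.app j).right.hom, IsNilpotent x) ∧
      (f.toRingHom.IsIntegral → ∀ j, (φ.app j).right.hom.IsIntegral) := by
  have hnil' : ∀ x, i x = 0 → IsNilpotent x := fun x hx => hnil x hx
  let Γ : Type u := {p : Pres R B × Pres R D' × Pres R D // Good f i p}
  have hne : Nonempty Γ := by
    obtain ⟨p, -, -, -, hp⟩ := exists_good f i hi hnil' (ofSet ∅ Set.finite_empty)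
      (ofSet ∅ Set.finite_empty) (ofSet ∅ Set.finite_empty)
    exact ⟨⟨p, hp⟩⟩
  have hcof : ∀ (γ : Γ) (t : Pres R B) (t' : Pres R D') (s : Pres R D),
      ∃ γ' : Γ, γ ≤ γ' ∧ t ≤ γ'.1.1 ∧ t' ≤ γ'.1.2.1 ∧ s ≤ γ'.1.2.2 := by
    intro γ t t' s
    obtain ⟨p, h1, h2, h3, hp⟩ := exists_good f i hi hnil' (γ.1.1.sup t) (γ.1.2.1.sup t')
      (γ.1.2.2.sup s)
    exact ⟨⟨p, hp⟩, ⟨(le_sup_left _ _).trans h1, (le_sup_left _ _).trans h2,
      (le_sup_left _ _).trans h3⟩, (le_sup_right _ _).trans h1, (le_sup_right _ _).trans h2,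
      (le_sup_right _ _).trans h3⟩
  have hdir : IsDirectedOrder Γ := ⟨fun γ γ' => by
    obtain ⟨γ'', h1, h2, h3, h4⟩ := hcof γ γ'.1.1 γ'.1.2.1 γ'.1.2.2
    exact ⟨γ'', h1, ⟨h2, h3, h4⟩⟩⟩
  have hτ : Monotone (fun γ : Γ => γ.1.1) := fun γ γ' h => h.1
  have hτ' : Monotone (fun γ : Γ => γ.1.2.1) := fun γ γ' h => h.2.1
  have hσ : Monotone (fun γ : Γ => γ.1.2.2) := fun γ γ' h => h.2.2
  have cof1 : ∀ (γ : Γ) (t : Pres R B), ∃ γ', γ ≤ γ' ∧ t ≤ γ'.1.1 := fun γ t => by
    obtain ⟨γ', h1, h2, -, -⟩ := hcof γ t (ofSet ∅ Set.finite_empty) (ofSet ∅ Set.finite_empty)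
    exact ⟨γ', h1, h2⟩
  have cof2 : ∀ (γ : Γ) (t : Pres R D'), ∃ γ', γ ≤ γ' ∧ t ≤ γ'.1.2.1 := fun γ t => by
    obtain ⟨γ', h1, -, h2, -⟩ := hcof γ (ofSet ∅ Set.finite_empty) t (ofSet ∅ Set.finite_empty)
    exact ⟨γ', h1, h2⟩
  have cof3 : ∀ (γ : Γ) (t : Pres R D), ∃ γ', γ ≤ γ' ∧ t ≤ γ'.1.2.2 := fun γ t => by
    obtain ⟨γ', h1, -, -, h2⟩ := hcof γ (ofSet ∅ Set.finite_empty) (ofSet ∅ Set.finite_empty) t
    exact ⟨γ', h1, h2⟩
  let φ : diag hτ ⟶ diag hσ := trans hτ hσ (f := f) (fun γ => γ.2.cf)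
  let ψ : diag hτ' ⟶ diag hσ := trans hτ' hσ (f := i) (fun γ => γ.2.ci)
  have hφ : ∀ γ, φ.app γ ≫ (coc hσ).app γ = (coc hτ).app γ ≫ uhom f := fun γ => by
    change uhom (hom f _) ≫ uhom (γ.1.2.2).ev = uhom (γ.1.1).ev ≫ uhom f
    rw [uhom_comp, uhom_comp, ev_hom]
  have hψ : ∀ γ, ψ.app γ ≫ (coc hσ).app γ = (coc hτ').app γ ≫ uhom i := fun γ => by
    change uhom (hom i _) ≫ uhom (γ.1.2.2).ev = uhom (γ.1.2.1).ev ≫ uhom i
    rw [uhom_comp, uhom_comp, ev_hom]
  have hPU : IsPullback (uhom q₁) (uhom q₂) (uhom f) (uhom i) :=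
    IsPullback.of_map (Under.forget (CommRingCat.of R)) (by
      apply Under.UnderMorphism.ext
      exact hP.w) hP
  have hpb : ∀ γ, IsPullback ((pullback.fst φ ψ).app γ) ((pullback.snd φ ψ).app γ)
      (φ.app γ) (ψ.app γ) := fun γ =>
    (IsPullback.of_hasPullback φ ψ).map ((evaluation Γ (Under (CommRingCat.of R))).obj γ)
  have hpb' : ∀ γ, IsPullback ((pullback.fst φ ψ).app γ).right ((pullback.snd φ ψ).app γ).right
      (φ.app γ).right (ψ.app γ).right := fun γ =>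
    (hpb γ).map (Under.forget (CommRingCat.of R))
  have hw : ∀ γ, ((pullback.fst φ ψ).app γ ≫ (coc hτ).app γ) ≫ uhom f =
      ((pullback.snd φ ψ).app γ ≫ (coc hτ').app γ) ≫ uhom i := fun γ => by
    rw [Category.assoc, Category.assoc, ← hφ, ← hψ, ← Category.assoc, ← Category.assoc, (hpb γ).w]
  let cP : pullback φ ψ ⟶
      (Functor.const Γ).obj (Under.mk (CommRingCat.ofHom (algebraMap R P))) :=
    { app := fun γ => hPU.lift _ _ (hw γ)
      naturality := fun γ γ' a => by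
        change (pullback φ ψ).map a ≫ hPU.lift _ _ (hw γ') = hPU.lift _ _ (hw γ) ≫ 𝟙 _
        rw [Category.comp_id]
        apply hPU.hom_ext
        · rw [Category.assoc, hPU.lift_fst, hPU.lift_fst, ← Category.assoc,
            (pullback.fst φ ψ).naturality, Category.assoc, (coc hτ).naturality]
          rfl
        · rw [Category.assoc, hPU.lift_snd, hPU.lift_snd, ← Category.assoc,
            (pullback.snd φ ψ).naturality, Category.assoc, (coc hτ').naturality]
          rfl }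
  have hcP1 : ∀ γ, cP.app γ ≫ uhom q₁ = (pullback.fst φ ψ).app γ ≫ (coc hτ).app γ := fun γ =>
    hPU.lift_fst _ _ (hw γ)
  have hcP2 : ∀ γ, cP.app γ ≫ uhom q₂ = (pullback.snd φ ψ).app γ ≫ (coc hτ').app γ := fun γ =>
    hPU.lift_snd _ _ (hw γ)
  have hT := fun γ => (Types.isPullback_iff _ _ _ _).1 ((hpb' γ).map (forget CommRingCat.{u}))
  have hTP := (Types.isPullback_iff _ _ _ _).1 (hP.map (forget CommRingCat.{u}))
  have hcP1' : ∀ γ (x : ((pullback φ ψ).obj γ).right), q₁ ((cP.app γ).right.hom x) =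
      γ.1.1.ev (((pullback.fst φ ψ).app γ).right.hom x) := fun γ x =>
    congr((Under.Hom.right $(hcP1 γ)).hom x)
  have hcP2' : ∀ γ (x : ((pullback φ ψ).obj γ).right), q₂ ((cP.app γ).right.hom x) =
      γ.1.2.1.ev (((pullback.snd φ ψ).app γ).right.hom x) := fun γ x =>
    congr((Under.Hom.right $(hcP2 γ)).hom x)
  have hcolP : Nonempty (IsColimit (Cocone.mk _ cP)) := by
    refine Groth.Agent.Proet.Ind.isColimit_under (pullback φ ψ) (Cocone.mk _ cP) ?_ ?_
    · intro p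
      obtain ⟨γ₀⟩ := hne
      obtain ⟨γ₁, h₁, b, hb⟩ := exists_ev cof1 γ₀ (q₁ p)
      obtain ⟨γ₂, h₂, d, hd⟩ := exists_ev cof2 γ₁ (q₂ p)
      let b' : γ₂.1.1.Alg := hom (AlgHom.id R B) (hτ h₂) b
      have hb' : γ₂.1.1.ev b' = q₁ p := by
        rw [ev_hom_apply, hb]
        rfl
      have hw' : f (q₁ p) = i (q₂ p) := congr($(hP.w).hom p)
      obtain ⟨γ₃, h₃, h₃'⟩ := exists_map_eq hσ cof3 γ₂ (hom f γ₂.2.cf b') (hom i γ₂.2.ci d) (by
        refine (ev_hom_apply γ₂.2.cf b').trans (Eq.trans ?_ (ev_hom_apply γ₂.2.ci d).symm)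
        rw [hb', hd, hw'])
      have e1 : hom f γ₃.2.cf (hom (AlgHom.id R B) (hτ h₃) b') =
          hom (AlgHom.id R D) (hσ h₃) (hom f γ₂.2.cf b') :=
        (congr($(hom_comp γ₃.2.cf (hτ h₃)) b')).trans (congr($(hom_comp (hσ h₃) γ₂.2.cf) b')).symm
      have e2 : hom i γ₃.2.ci (hom (AlgHom.id R D') (hτ' h₃) d) =
          hom (AlgHom.id R D) (hσ h₃) (hom i γ₂.2.ci d) :=
        (congr($(hom_comp γ₃.2.ci (hτ' h₃)) d)).trans (congr($(hom_comp (hσ h₃) γ₂.2.ci) d)).symm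
      obtain ⟨x, hx1, hx2⟩ := (hT γ₃).2.2 (hom (AlgHom.id R B) (hτ h₃) b')
        (hom (AlgHom.id R D') (hτ' h₃) d) (e1.trans (h₃'.trans e2.symm))
      refine ⟨γ₃, x, hTP.2.1 _ _ ⟨?_, ?_⟩⟩
      · refine (hcP1' γ₃ x).trans ?_
        refine (congrArg γ₃.1.1.ev hx1).trans ?_
        rw [ev_hom_apply, hb']
        rfl
      · refine (hcP2' γ₃ x).trans ?_
        refine (congrArg γ₃.1.2.1.ev hx2).trans ?_
        rw [ev_hom_apply, hd]
        rfl
    · intro γ x y hxy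
      have hxy' : (cP.app γ).right.hom x = (cP.app γ).right.hom y := hxy
      let x1 : γ.1.1.Alg := ((pullback.fst φ ψ).app γ).right.hom x
      let y1 : γ.1.1.Alg := ((pullback.fst φ ψ).app γ).right.hom y
      let x2 : γ.1.2.1.Alg := ((pullback.snd φ ψ).app γ).right.hom x
      let y2 : γ.1.2.1.Alg := ((pullback.snd φ ψ).app γ).right.hom y
      have h1 : γ.1.1.ev x1 = γ.1.1.ev y1 := by
        rw [← hcP1' γ x, ← hcP1' γ y, hxy']
      have h2 : γ.1.2.1.ev x2 = γ.1.2.1.ev y2 := by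
        rw [← hcP2' γ x, ← hcP2' γ y, hxy']
      obtain ⟨γ₁, k₁, hk₁⟩ := exists_map_eq hτ cof1 γ x1 y1 h1
      obtain ⟨γ₂, k₂, hk₂⟩ := exists_map_eq hτ' cof2 γ₁ (hom (AlgHom.id R D') (hτ' k₁) x2)
        (hom (AlgHom.id R D') (hτ' k₁) y2) (by rw [ev_hom_apply, ev_hom_apply, h2])
      have c1 : ∀ z : γ.1.1.Alg, hom (AlgHom.id R B) (hτ (k₁.trans k₂)) z =
          hom (AlgHom.id R B) (hτ k₂) (hom (AlgHom.id R B) (hτ k₁) z) := fun z =>
        (congr($(hom_comp (hτ k₂) (hτ k₁)) z)).symm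
      have c2 : ∀ z : γ.1.2.1.Alg, hom (AlgHom.id R D') (hτ' (k₁.trans k₂)) z =
          hom (AlgHom.id R D') (hτ' k₂) (hom (AlgHom.id R D') (hτ' k₁) z) := fun z =>
        (congr($(hom_comp (hτ' k₂) (hτ' k₁)) z)).symm
      have n1 : ∀ z : ((pullback φ ψ).obj γ).right,
          ((pullback.fst φ ψ).app γ₂).right.hom
            (((pullback φ ψ).map (homOfLE (k₁.trans k₂))).right.hom z) =
          hom (AlgHom.id R B) (hτ (k₁.trans k₂)) (((pullback.fst φ ψ).app γ).right.hom z) :=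
        fun z => congr((Under.Hom.right $((pullback.fst φ ψ).naturality
          (homOfLE (k₁.trans k₂)))).hom z)
      have n2 : ∀ z : ((pullback φ ψ).obj γ).right,
          ((pullback.snd φ ψ).app γ₂).right.hom
            (((pullback φ ψ).map (homOfLE (k₁.trans k₂))).right.hom z) =
          hom (AlgHom.id R D') (hτ' (k₁.trans k₂)) (((pullback.snd φ ψ).app γ).right.hom z) :=
        fun z => congr((Under.Hom.right $((pullback.snd φ ψ).naturality
          (homOfLE (k₁.trans k₂)))).hom z)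
      refine ⟨γ₂, homOfLE (k₁.trans k₂), (hT γ₂).2.1 _ _ ⟨?_, ?_⟩⟩
      · refine (n1 x).trans ((c1 _).trans (Eq.trans ?_ ((c1 _).symm.trans (n1 y).symm)))
        exact congrArg _ hk₁
      · exact (n2 x).trans ((c2 _).trans (Eq.trans hk₂ ((c2 _).symm.trans (n2 y).symm)))
  refine ⟨Γ, inferInstance, inferInstance, diag hτ, diag hσ, diag hτ', pullback φ ψ, φ, ψ,
    pullback.fst φ ψ, pullback.snd φ ψ, coc hτ, coc hσ, coc hτ', cP, isColimit hτ cof1,
    isColimit hσ cof3, isColimit hτ' cof2, hcolP, fun γ => congrArg Under.Hom.right (hφ γ),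
    fun γ => congrArg Under.Hom.right (hψ γ), fun γ => congrArg Under.Hom.right (hcP1 γ).symm,
    fun γ => congrArg Under.Hom.right (hcP2 γ).symm, ?_, ?_, hpb', ?_, ?_, ?_⟩
  · intro γ
    have h1 : (algebraMap R γ.1.1.Alg).FinitePresentation :=
      RingHom.finitePresentation_algebraMap.2 inferInstance
    have h2 : (algebraMap R γ.1.2.2.Alg).FinitePresentation :=
      RingHom.finitePresentation_algebraMap.2 inferInstance
    have h3 : (algebraMap R γ.1.2.1.Alg).FinitePresentation :=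
      RingHom.finitePresentation_algebraMap.2 inferInstance
    exact ⟨h1, h2, h3⟩
  · intro γ
    exact ⟨hom_surjective γ.2.ci γ.2.li, γ.2.ni γ.2.ci⟩
  · intro h γ
    exact hom_surjective γ.2.cf (γ.2.lf h)
  · intro h h' γ
    exact ⟨hom_surjective γ.2.cf (γ.2.lf h), γ.2.nf h h' γ.2.cf⟩
  · intro h γ
    exact γ.2.intf h γ.2.cf

end Groth.Agent.S18016
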