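import Groth.Statements.S18019
import Mathlib.Algebra.Polynomial.Div
import Mathlib.Algebra.Polynomial.Monic
import Mathlib.Algebra.CharP.Two
import Mathlib.Algebra.Polynomial.Degree.Lemmas
import Mathlib.Tactic

set_option autoImplicit false
universe u
open ClassStk

namespace Groth.Agent.S18019

open Polynomial in
theorem aux (R : Type u) [CommRing R] [IsDomain R]
    [CharP R 2] (a : R) (ha : a ≠ 0) (n : ℕ) : ∀ (f : Polynomial R), f.natDegree < n → 
    f.comp (X + C a) = f → f ∈ Algebra.adjoin R ({X * (X + C a)} : Set (Polynomial R)) := by
  induction n with
  | zero => intro f hf; omega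
  | succ n ih =>
    intro f hfn hf
    set u : Polynomial R := X * (X + C a) with hu
    have humon : u.Monic := (monic_X).mul (monic_X_add_C a)
    have hudeg : u.natDegree = 2 := by
      rw [hu, (monic_X (R := R)).natDegree_mul (monic_X_add_C a), natDegree_X, natDegree_X_add_C]
    have haa : (C a : Polynomial R) + C a = 0 := by
      rw [← C_add, CharTwo.add_self_eq_zero, C_0]
    have hucomp : u.comp (X + C a) = u := by
      simp only [hu, mul_comp, add_comp, X_comp, C_comp]
      rw [add_assoc, haa, add_zero, mul_comm]
    set q := f /ₘ u with hq
    set r := f %ₘ u with hr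
    have hdiv : r + u * q = f := modByMonic_add_div f u
    have hrdeg : r.degree < u.degree := degree_modByMonic_lt f humon
    have hudeg' : u.degree = 2 := by
      rw [degree_eq_natDegree humon.ne_zero, hudeg]; rfl
    have hdeg1 : (X + C a : Polynomial R).natDegree = 1 := natDegree_X_add_C a
    have h2 : r.comp (X + C a) + u * q.comp (X + C a) = f := by
      conv_rhs => rw [← hf, ← hdiv]
      rw [add_comp, mul_comp, hucomp]
    have hrdeg' : (r.comp (X + C a)).degree < u.degree := by
      rw [hudeg'] at hrdeg ⊢
      by_cases h0 : r = 0
      · rw [h0, zero_comp, degree_zero]; exact WithBot.bot_lt_coe 2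
      · rw [degree_eq_natDegree h0] at hrdeg
        have : r.natDegree < 2 := by exact_mod_cast hrdeg
        refine lt_of_le_of_lt degree_le_natDegree ?_
        rw [natDegree_comp, hdeg1, mul_one]
        exact_mod_cast this
    have huniq := div_modByMonic_unique (q.comp (X + C a)) (r.comp (X + C a)) humon ⟨h2, hrdeg'⟩
    have hq' : q.comp (X + C a) = q := huniq.1.symm
    have hr' : r.comp (X + C a) = r := huniq.2.symm
    -- r constant
    have hrlin : r = C (r.coeff 1) * X + C (r.coeff 0) := by
      apply eq_X_add_C_of_degree_le_one
      rw [hudeg'] at hrdeg
      by_cases h0 : r = 0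
      · rw [h0, degree_zero]; exact bot_le
      · rw [degree_eq_natDegree h0] at hrdeg ⊢
        have : r.natDegree < 2 := by exact_mod_cast hrdeg
        have : r.natDegree ≤ 1 := by omega
        exact_mod_cast this
    have hrc : r = C (r.coeff 0) := by
      have h3 : r.coeff 1 * a = 0 := by
        have := congrArg (fun g => coeff g 0) hr'
        rw [hrlin] at this
        simp [add_comp, mul_comp] at this
        rcases this with h | h
        · rw [h, zero_mul]
        · exact absurd h ha
      have h4 : r.coeff 1 = 0 := by
        rcases mul_eq_zero.mp h3 with h | h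
        · exact h
        · exact absurd h ha
      rw [h4] at hrlin
      simpa using hrlin
    by_cases hq0 : q = 0
    · rw [← hdiv, hq0, mul_zero, add_zero, hrc]
      exact Subalgebra.algebraMap_mem _ _
    · have hqdeg : q.natDegree < n := by
        have : f.natDegree = 2 + q.natDegree := by
          rw [← hdiv]
          rw [natDegree_add_eq_right_of_degree_lt, natDegree_mul humon.ne_zero hq0, hudeg]
          refine lt_of_lt_of_le hrdeg ?_
          rw [degree_eq_natDegree humon.ne_zero, degree_eq_natDegree (mul_ne_zero humon.ne_zero hq0),
            natDegree_mul humon.ne_zero hq0]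
          exact_mod_cast Nat.le_add_right _ _
        omega
      have := ih q hqdeg hq'
      rw [← hdiv, hrc]
      refine Subalgebra.add_mem _ (Subalgebra.algebraMap_mem _ _) (Subalgebra.mul_mem _ ?_ this)
      exact Algebra.subset_adjoin (by simp)

open Polynomial in
/-- Let R be an integral domain of characteristic 2 and let a be a nonzero element of R, so that x ↦ x +
a defines an R-algebra involution of the polynomial ring R[x] (an action of the group of order two).
A polynomial f is invariant, f(x + a) = f(x), if and only if f belongs to the R-subalgebra generated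
by u = x (x + a); in other words the ring of invariants is the polynomial ring R[u]. -/
theorem result (R : Type u) [CommRing R] [IsDomain R]
    [CharP R 2] (a : R) (ha : a ≠ 0) (f : Polynomial R) :
    f.comp (X + C a) = f ↔ f ∈ Algebra.adjoin R ({X * (X + C a)} : Set (Polynomial R)) := by
  constructor
  · intro h
    exact aux R a ha (f.natDegree + 1) f (Nat.lt_succ_self _) h
  · intro h
    have haa : (C a : Polynomial R) + C a = 0 := by
      rw [← C_add, CharTwo.add_self_eq_zero, C_0]
    induction h using Algebra.adjoin_induction with
    | mem x hx =>
      rw [Set.mem_singleton_iff] at hx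
      subst hx
      simp only [mul_comp, add_comp, X_comp, C_comp]
      rw [add_assoc, haa, add_zero, mul_comm]
    | algebraMap r => rw [Polynomial.algebraMap_eq, C_comp]
    | add x y _ _ hx hy => rw [add_comp, hx, hy]
    | mul x y _ _ hx hy => rw [mul_comp, hx, hy]

end Groth.Agent.S18019
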