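import Groth.Statements.S18026
import Groth.Agent.Hensel.K146.FiniteOpen
import Mathlib.RingTheory.Unramified.LocalStructure
import Mathlib.AlgebraicGeometry.Morphisms.UniversallyOpen
import Mathlib.AlgebraicGeometry.Morphisms.FlatDescent

set_option autoImplicit false
universe u
open Hensel

namespace Groth.Agent.S18026

open AlgebraicGeometry CategoryTheory in
theorem locallyQuasiFinite_of_etale {X Y : Scheme.{u}} (f : X ⟶ Y) [Etale f] :
    LocallyQuasiFinite f where
  quasiFinite_appLE {U} hU {V} hV e := by
    have h := HasRingHomProperty.appLE @AlgebraicGeometry.Etale f ‹_› ⟨U, hU⟩ ⟨V, hV⟩ e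
    algebraize [(f.appLE U V e).hom]
    change Algebra.QuasiFinite Γ(Y, U) Γ(X, V)
    infer_instance


open AlgebraicGeometry CategoryTheory in
/-- Let `A` be a henselian discrete valuation ring and `f : T ⟶ Spec A` an étale surjective morphism of
schemes. Then some open subscheme `U` of `T` is finite over `Spec A` and still maps onto it; in
particular `U → Spec A` is a finite étale cover sitting inside `T` as an open subscheme (étaleness
of the restriction is automatic, and surjectivity records that `U` meets the closed fibre). (The
published statement asks for an open component of `T` finite étale over `Spec A`; when `T` is not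
separated — two copies of `Spec A` glued along the generic point — no open and closed subset of `T`
is finite over `Spec A`, while the published proof constructs an open subscheme, the spectrum of the
local ring of `T` at a point of the closed fibre; so this row asks only for an open subscheme.) -/
theorem result
    (A : Type u) [CommRing A] [IsDomain A] [IsDiscreteValuationRing A] [HenselianLocalRing A]
    (T : Scheme.{u}) (f : T ⟶ Spec (CommRingCat.of A)) [Etale f] [Surjective f] :
    ∃ U : T.Opens, IsFinite (U.ι ≫ f) ∧ Surjective (U.ι ≫ f) := by
  have hqf : LocallyQuasiFinite f := locallyQuasiFinite_of_etale f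
  obtain ⟨t, ht⟩ := f.surjective (IsLocalRing.closedPoint A : Spec (CommRingCat.of A))
  obtain ⟨U, htU, hU⟩ := K146.FiniteOpen.exists_open_isFinite f t ht
  refine ⟨U, hU, ⟨?_⟩⟩
  intro x
  have hopen : IsOpen (Set.range (U.ι ≫ f)) := (U.ι ≫ f).isOpenMap.isOpen_range
  have hmem : (IsLocalRing.closedPoint A : Spec (CommRingCat.of A)) ∈ Set.range (U.ι ≫ f) :=
    ⟨⟨t, htU⟩, ht⟩
  exact (IsLocalRing.specializes_closedPoint (R := A) x).mem_open hopen hmem


end Groth.Agent.S18026
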