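import Groth.Statements.S18028
import Groth.Agent.Hensel.K144.InertC

set_option autoImplicit false
universe u
open Hensel

namespace Groth.Agent.S18028

/-- Let `A` be a henselian discrete valuation ring with fraction field `K`, `L` a separable closure of
`K` and `B` a valuation subring of `L` lying over `A`. Then the inertia subgroup of `B` has a closed
complement inside the decomposition subgroup of `B` in `Gal(L/K)` (Krull topology): the inertia
exact sequence of the absolute Galois group of `K` is split as an extension of profinite groups.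
(`A` being henselian, the decomposition subgroup is the whole Galois group; the row does not use
this.) -/
theorem result
    (K : Type u) [Field K] (A : ValuationSubring K) [IsDiscreteValuationRing A] [HenselianLocalRing A]
    (L : Type u) [Field L] [Algebra K L] [IsSepClosure K L]
    (B : ValuationSubring L) (hB : ∀ x : K, algebraMap K L x ∈ B ↔ x ∈ A) :
    ∃ H : Subgroup (B.decompositionSubgroup K),
      IsClosed ((H.map (B.decompositionSubgroup K).subtype : Subgroup (L ≃ₐ[K] L)) : Set (L ≃ₐ[K] L)) ∧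
      H ⊓ B.inertiaSubgroup K = ⊥ ∧ H ⊔ B.inertiaSubgroup K = ⊤ := by
  classical
  have hsc : IsSepClosed L := IsSepClosure.sep_closed K
  have hsep : Algebra.IsSeparable K L := IsSepClosure.separable
  have hgal : IsGalois K L := IsSepClosure.isGalois
  let D := B.decompositionSubgroup K
  have hmemD : ∀ σ : L ≃ₐ[K] L, σ ∈ D ↔ ∀ b : L, b ∈ B ↔ σ b ∈ B :=
    K144.Inert.mem_decomposition_iff
  have hDc : IsClosed (D : Set (L ≃ₐ[K] L)) := by
    have h1 : (D : Set (L ≃ₐ[K] L)) = ⋂ b : L, {σ | b ∈ B ↔ σ b ∈ B} := by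
      ext σ
      rw [SetLike.mem_coe, hmemD]
      simp
    rw [h1]
    refine isClosed_iInter fun b => ?_
    rw [← isOpen_compl_iff, isOpen_iff_mem_nhds]
    intro τ hτ
    have h2 : IsOpen ((fun g : L ≃ₐ[K] L => τ * g) ''
        (MulAction.stabilizer (L ≃ₐ[K] L) b : Set (L ≃ₐ[K] L))) :=
      (Homeomorph.mulLeft τ).isOpenMap _ (stabilizer_isOpen_of_isIntegral b)
    refine Filter.mem_of_superset (h2.mem_nhds ⟨1, one_mem _, mul_one τ⟩) ?_
    rintro _ ⟨g, hg, rfl⟩
    have h3 : (τ * g) b = τ b := by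
      rw [AlgEquiv.mul_apply]
      congr 1
    change ¬ (b ∈ B ↔ (τ * g) b ∈ B)
    rw [h3]
    exact hτ
  obtain ⟨H, hHD, hHc, h1, h2⟩ := K144.Inert.exists_closed_complement (B := B) D hDc
    (fun σ hσ b hb => ((hmemD σ).1 hσ b).1 hb)
  have hI : ∀ σ : D, σ ∈ B.inertiaSubgroup K ↔ ∀ b ∈ B, B.valuation ((σ : L ≃ₐ[K] L) b - b) < 1 := by
    intro σ
    unfold ValuationSubring.inertiaSubgroup
    rw [MonoidHom.mem_ker]
    constructor
    · intro h b hb
      have h3 := DFunLike.congr_fun h (IsLocalRing.residue B ⟨b, hb⟩)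
      change σ • IsLocalRing.residue B ⟨b, hb⟩ = IsLocalRing.residue B ⟨b, hb⟩ at h3
      rw [← IsLocalRing.ResidueField.residue_smul, ← sub_eq_zero, ← map_sub,
        IsLocalRing.residue_eq_zero_iff, ValuationSubring.valuation_lt_one_iff] at h3
      exact h3
    · intro h
      ext y
      obtain ⟨b, rfl⟩ := IsLocalRing.residue_surjective y
      change σ • IsLocalRing.residue B b = IsLocalRing.residue B b
      rw [← IsLocalRing.ResidueField.residue_smul, ← sub_eq_zero, ← map_sub,
        IsLocalRing.residue_eq_zero_iff, ValuationSubring.valuation_lt_one_iff]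
      exact h b b.2
  refine ⟨H.subgroupOf D, ?_, ?_, ?_⟩
  · have h3 : (H.subgroupOf D).map D.subtype = H := by
      rw [Subgroup.subgroupOf_map_subtype]
      exact inf_eq_left.2 hHD
    have h4 : ((H.subgroupOf (B.decompositionSubgroup K)).map
      (B.decompositionSubgroup K).subtype : Subgroup (L ≃ₐ[K] L)) = H := h3
    rw [h4]
    exact hHc
  · rw [Subgroup.eq_bot_iff_forall]
    rintro σ ⟨hσH, hσI⟩
    apply Subtype.ext
    exact h1 _ (Subgroup.mem_subgroupOf.1 hσH) ((hI σ).1 hσI)
  · rw [Subgroup.eq_top_iff']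
    intro σ
    obtain ⟨τ, hτ, h3⟩ := h2 σ σ.2
    let τ' : D := ⟨τ, hHD hτ⟩
    have h4 : τ'⁻¹ * σ ∈ B.inertiaSubgroup K := by
      rw [hI]
      intro b hb
      have hst : K144.Inert.Cong B (σ : L ≃ₐ[K] L) τ := h3
      have h5 := h3 b hb
      have h6 : B.valuation (τ⁻¹ ((σ : L ≃ₐ[K] L) b - τ b)) < 1 := by
        by_cases h0 : (σ : L ≃ₐ[K] L) b - τ b = 0
        · rw [h0, map_zero, map_zero]; exact zero_lt_one
        have hτi : τ⁻¹ ∈ D := D.inv_mem (hHD hτ)
        rw [K144.Inert.lt_one_iff ((map_ne_zero τ⁻¹).2 h0), ← map_inv₀,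
          ← (hmemD τ⁻¹).1 hτi]
        exact (K144.Inert.lt_one_iff h0).1 h5
      rw [map_sub] at h6
      have h7 : τ⁻¹ (τ b) = b := by
        change (τ⁻¹ * τ) b = b
        rw [inv_mul_cancel]; rfl
      rw [h7] at h6
      exact h6
    have h5 : σ = τ' * (τ'⁻¹ * σ) := by group
    rw [h5]
    exact Subgroup.mul_mem_sup (Subgroup.mem_subgroupOf.2 hτ) h4

end Groth.Agent.S18028
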