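import Groth.Statements.S18030
import Groth.Agent.AlgSt.K736.GenInertia
import Groth.Agent.AlgSt.K739.RepDiag2
import Groth.Agent.AlgSt.K745.DMOver
-- import your own Groth.Agent.* helpers here

set_option autoImplicit false
universe u
open CategoryTheory AlgebraicGeometry
open AlgSt

namespace Groth.Agent.S18030

/-- The generic-finiteness step of its proof: let `B` be a Noetherian ring and `𝒳` a Deligne–Mumford
stack over `Spec B` (big étale topology) which is locally of finite type and quasi-compact over
`Spec B`, has affine diagonal, is reduced and has an irreducible space of points. Then some open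
substack `𝒰 ⊆ 𝒳` with a point has finite étale inertia: there is an open immersion `j : 𝒰 ⟶ 𝒳` with
`|𝒰|` non-empty such that `I𝒰 ⟶ 𝒰` is representable by algebraic spaces, finite and étale. (The
published proposition is the stratification of every Noetherian Deligne–Mumford stack into finitely
many locally closed substacks that are connected with finite étale inertia; this row is the generic
step that its proof establishes and from which the stratification follows by Noetherian induction.) -/
theorem result
    (B : Type u) [CommRing B] [IsNoetherianRing B]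
    (𝒳 : AlgSt.Cat (Spec (CommRingCat.of B)))
    (h𝒳 : AlgSt.IsDM Scheme.etalePrecoverage 𝒳)
    (hft : AlgSt.LocQ (AlgSp.LocP @LocallyOfFiniteType) (FibCat.toSelf 𝒳))
    (hqc : AlgSt.IsQuasiCompact 𝒳)
    (hΔ : AlgSt.RepByAlgSpWith AlgSp.IsAffineMor (FibCat.diag (FibCat.toSelf 𝒳)))
    (hred : AlgSt.SmoothLocally (fun T => IsReduced T) 𝒳)
    (hirr : IrreducibleSpace (AlgSt.Points 𝒳)) :
    ∃ (𝒰 : AlgSt.Cat (Spec (CommRingCat.of B))) (j : 𝒰 ⥤ᵇ 𝒳),
      AlgSt.IsOpenImm j ∧ Nonempty (AlgSt.Points 𝒰) ∧
      AlgSt.RepByAlgSpWith (AlgSp.IsFiniteMor ⊓ AlgSp.IsEtaleMor) (FibCat.inertiaToBase (FibCat.toSelf 𝒰)) := by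
  obtain ⟨W, w, h1, h2, h3, h4⟩ := K745.DMOver.exists_unramified_cover h𝒳.2
  have hdm : AlgSt.IsDMOver 𝒳 := K739.RepDiag2.repByAlgSpWith_diag_toSelf_of_chart K739.Props.bc_unram
    K739.Props.comp_unram K739.RepDiag2.loc_unram K739.RepDiag2.hasMono_unram 𝒳 h𝒳.1.isStack.1 h𝒳.1.diag W w h1 h2 h3 h4
  obtain ⟨T, -, -, hj, hne, hin⟩ := K736.GenInertia.exists_open_inertia h𝒳.1 hred hirr.toNonempty hΔ hdm
  exact ⟨_, AlgSt.subIncl 𝒳 _, hj, hne, hin⟩


end Groth.Agent.S18030
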