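import Groth.Statements.S18032
import Groth.Agent.ThetaS.K686.StMain

set_option autoImplicit false
universe u
open CategoryTheory AlgebraicGeometry
open ThetaS

namespace Groth.Agent.S18032

/-- Let `k` be an algebraically closed field, `G` a connected reductive group over `k` (affine, smooth,
connected, every smooth connected normal closed subgroup scheme containing no non-trivial subtorus
trivial) and `X = Spec A` an affine Noetherian `k`-scheme with an action of `G`. Then the quotient
stack `[X/G]` over `(Sch/k)` (fppf torsors under `G` as schemes, with an equivariant map to `X`) is
S-complete. (The published statement allows `G` disconnected; this is its case of connected `G`.) -/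
theorem result
    (k : Type u) [Field k] [IsAlgClosed k]
    (G : Over (Spec (CommRingCat.of k))) [GrpObj G] (hG : Red.IsReductiveOver k G)
    (X : Over (Spec (CommRingCat.of k))) [IsAffine X.left] [IsNoetherian X.left] (a : AlgGrp.Action G X) :
    ThetaS.IsSCompleteOver Scheme.fppfPrecoverage (AlgSt.QuotSt Scheme.fppfPrecoverage G a) := by
  intro R _ _ _ π hπ h
  obtain ⟨φ, rfl⟩ := Spec.map_surjective h
  letI : Algebra k R := φ.hom.toAlgebra
  exact K686.StMain.liftsUniquely_st hG hπ

end Groth.Agent.S18032
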