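import Groth.Statements.S18034
import Groth.Agent.ThetaS.K943.CohRows
import Groth.Agent.S17418

set_option autoImplicit false
universe u
open CategoryTheory AlgebraicGeometry
open ThetaS

namespace Groth.Agent.S18034

/-- Let `k` be an algebraically closed field and `f : X ⟶ Spec k` projective (a closed immersion into
some projective space over `k` followed by the projection). The category over `(Sch/k)` of coherent
sheaves on `X` — objects over `T` the finitely presented modules on a fibre product `X ×_k T` flat
over `T`, morphisms the cartesian squares with an isomorphism onto the pulled-back module — is
S-complete: every functor over `(Sch/k)` from the punctured stack `[Spec R[s,t]/(st - π) ∖ V(s,t) /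
𝔾_m]` to it, for `R` a discrete valuation ring over `k` with uniformizer `π`, extends to `[Spec
R[s,t]/(st - π) / 𝔾_m]`, uniquely up to a unique 2-isomorphism. -/
theorem result
    (k : Type u) [Field k] [IsAlgClosed k] (X : Scheme.{u}) (f : X ⟶ Spec (CommRingCat.of k))
    (hf : RelProj.IsHProjective f) :
    ThetaS.IsSCompleteOver Scheme.fppfPrecoverage (ModSt.Coh f) := by
  exact K943.CohRows.isSCompleteOver (fun g => Groth.Agent.S17418.result g) hf

end Groth.Agent.S18034
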