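import Groth.Statements.S18035
import Groth.Agent.ThetaS.K749.STCartan

set_option autoImplicit false
universe u
open CategoryTheory AlgebraicGeometry
open scoped CategoryTheory.MonObj
open ThetaS

namespace Groth.Agent.S18035

/-- Let `k` be an algebraically closed field and `G = Spec A` a smooth affine group scheme of finite
type over `k` (`A` a commutative Hopf algebra of finite type over `k`). Suppose `G` has Cartan
decompositions in the following sense: for every complete discrete valuation ring `R` over `k` with
algebraically closed residue field, uniformizer `ϖ` and fraction field `K`, every `K`-point `g` of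
`G` can be written `g = h₁ · λ(ϖ) · h₂` in the group `G(K)`, with `h₁, h₂` points of `G` with values
in `R` and `λ : 𝔾_m → G` a one-parameter subgroup (a homomorphism of group schemes over `k` from
`𝔾_m = Spec k[ℤ]`), `λ(ϖ)` being `λ` evaluated at the `K`-point `ϖ` of `𝔾_m`. Then the classifying
stack `BG` over `(Sch/k)` (fppf `G`-torsors as schemes) is S-complete: for every discrete valuation
ring `R` over `k` with uniformizer `π`, every functor over `(Sch/k)` from `[Spec R[s,t]/(st - π) ∖
V(s,t) / 𝔾_m]` to `BG` extends to `[Spec R[s,t]/(st - π) / 𝔾_m]`, uniquely up to a unique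
2-isomorphism. (The published implication asks for the decomposition only over complete discrete
valuation rings with residue field `k`; its proof first reduces to complete discrete valuation rings
with algebraically closed residue field, so the decomposition is assumed for those here.) -/
theorem result
    (k : Type u) [Field k] [IsAlgClosed k]
    (A : Type u) [CommRing A] [HopfAlgebra k A] [Algebra.FiniteType k A]
    (hsm : Smooth (CoactBr.sp k A).hom)
    (hC : ∀ (R : Type u) [CommRing R] [IsDomain R] [IsDiscreteValuationRing R] [Algebra k R]
      (K : Type u) [Field K] [Algebra R K] [IsFractionRing R K] [Algebra k K] [IsScalarTower k R K],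
      IsAdicComplete (IsLocalRing.maximalIdeal R) R → IsAlgClosed (IsLocalRing.ResidueField R) →
      ∀ (ϖ : R), Irreducible ϖ → ∀ (u : Kˣ), (u : K) = algebraMap R K ϖ →
      ∀ g : CoactBr.sp k K ⟶ CoactBr.sp k A,
        ∃ (h₁ h₂ : CoactBr.sp k R ⟶ CoactBr.sp k A) (lam : ThetaS.Gm k ⟶ CoactBr.sp k A), IsMonHom lam ∧
          g = (CoactBr.pt (IsScalarTower.toAlgHom k R K) ≫ h₁) *
              (CoactBr.pt (MonoidAlgebra.lift k K (Multiplicative ℤ) ((Units.coeHom K).comp (zpowersHom Kˣ u))) ≫ lam) *
              (CoactBr.pt (IsScalarTower.toAlgHom k R K) ≫ h₂)) :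
    ThetaS.IsSCompleteOver Scheme.fppfPrecoverage (AlgSt.BG Scheme.fppfPrecoverage (CoactBr.sp k A)) := by
  exact K749.STCartan.main k A hsm hC

end Groth.Agent.S18035
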