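import Groth.Statements.S18036
import Groth.Agent.ThetaS.K943.ModSep

set_option autoImplicit false
universe u
open CategoryTheory AlgebraicGeometry
open ThetaS

namespace Groth.Agent.S18036

/-- Let `k` be an algebraically closed field, `𝒳` an algebraic stack over `(Sch/k)` for the fppf
topology, of finite type over `k` (quasi-compact and locally of finite type on a smooth chart) with
affine diagonal, `M` an algebraic space over `k` that is quasi-separated over `k`, and `π : 𝒳 ⟶ M` a
quasi-compact quasi-separated good moduli space. If `𝒳` is S-complete over `k` — every functor over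
`(Sch/k)` from the punctured stack `[Spec R[s,t]/(st - ϖ) ∖ V(s,t) / 𝔾_m]` to `𝒳`, for `R` a
discrete valuation ring over `k` with uniformizer `ϖ`, extends to `[Spec R[s,t]/(st - ϖ) / 𝔾_m]`
uniquely up to a unique 2-isomorphism — then `M` is separated over `k`. Here a good moduli space is
a morphism to an algebraic space along which pushforward takes surjections of quasi-coherent modules
to maps surjective on sections over every affine scheme etale over the target, and for which the
canonical map from the functions on any scheme etale over the target to the sections of the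
pushforward of the structure sheaf is bijective. (This is one implication of the published
equivalence 'S-complete iff the good moduli space is separated'; the published statement takes `M`
an algebraic space, read here as quasi-separated over `k`.) -/
theorem result
    (k : Type u) [Field k] [IsAlgClosed k]
    (𝒳 : AlgSt.Cat (Spec (CommRingCat.of k))) (h𝒳 : AlgSt.IsAlgStack Scheme.fppfPrecoverage 𝒳)
    (hft : AlgSt.LocQ (AlgSp.LocP @LocallyOfFiniteType) (FibCat.toSelf 𝒳)) (hq : AlgSt.IsQuasiCompact 𝒳)
    (hdiag : AlgSt.RepByAlgSpWith (AlgSp.RepWith @IsAffineHom) (FibCat.diag (FibCat.toSelf 𝒳)))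
    (M : AlgSp.Space (Spec (CommRingCat.of k))) (hM : AlgSp.IsQuasiSeparatedSp M.obj)
    (π : 𝒳 ⥤ᵇ AlgSt.ofSp M.obj)
    (hqc : AlgSt.IsQuasiCompactMor Scheme.fppfPrecoverage π) (hqs : AlgSt.IsQuasiSeparatedMor π)
    (hπ : StMod.IsGoodModuli π)
    (hS : ThetaS.IsSCompleteOver Scheme.fppfPrecoverage 𝒳) :
    AlgSp.IsSeparatedSp M.obj := by
  exact K943.ModSep.isSeparatedSp_of_goodModuli h𝒳 hft hq M hM π hqc hqs hπ hS

end Groth.Agent.S18036
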