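import Groth.Statements.S18037
import Groth.Agent.ThetaS.K787.ThConv
import Groth.Agent.ThetaS.K943.CohRows
import Groth.Agent.ModSt.K927.CohStack
import Groth.Agent.AlgSt.K737.OpenSt

set_option autoImplicit false
universe u
open CategoryTheory CategoryTheory.Limits AlgebraicGeometry
open ThetaS

namespace Groth.Agent.S18037

/-- Let `k` be an algebraically closed field, `f : C ⟶ Spec k` smooth and projective with `C` connected,
and `𝒰` an open substack of the category over `(Sch/k)` of coherent sheaves on `C` (objects over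
`T`: finitely presented modules on a fibre product `C ×_k T` flat over `T`), cut out by an
isomorphism-closed condition `Q` whose full subcategory is an algebraic stack with open-immersion
inclusion. Then `𝒰` is Θ-complete over `k` if and only if the following holds: for every discrete
valuation ring `R` over `k` with fraction field `K` and residue field `κ`, every cartesian square
`C_R = C ×_k Spec R`, every finitely presented module `E` on `C_R` flat over `R` and every
increasing `ℤ`-indexed chain of quasi-coherent submodules `E_i ⊆ E` (equivalently coherent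
subsheaves, `C_R` being Noetherian) with `E_i = 0` for `i ≤ a`, `E_i = E` for `i ≥ b` and each
`E_i/E_{i-1}` flat over `R`: if `E`, as an object over `Spec R`, satisfies `Q`, and the pullback of
`⊕_i E_i/E_{i-1}` to `C_K` (along any cartesian square over `Spec K ⟶ Spec R`), as an object over
`Spec K`, satisfies `Q`, then the pullback of `⊕_i E_i/E_{i-1}` to `C_κ`, as an object over `Spec
κ`, satisfies `Q`. (Θ-complete: every functor over `(Sch/k)` from `Θ_R ∖ 0` to `𝒰`, `R` a discrete
valuation ring over `k` with uniformizer `ϖ`, extends to `Θ_R = [𝔸¹_R/𝔾_m]` uniquely up to a unique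
2-isomorphism.) -/
theorem result
    (k : Type u) [Field k] [IsAlgClosed k] (C : Scheme.{u}) (f : C ⟶ Spec (CommRingCat.of k))
    (hproj : RelProj.IsHProjective f) (hsm : Smooth f) [ConnectedSpace C]
    (Q : (ModSt.Coh f).obj → Prop) (hQ : AlgSt.IsOpenSubstack (ModSt.Coh f) Q Scheme.fppfPrecoverage) :
    ThetaS.IsThetaComplete Scheme.fppfPrecoverage (AlgSt.fullSub (ModSt.Coh f) Q) ↔
    ∀ (R : Type u) [CommRing R] [IsDomain R] [IsDiscreteValuationRing R] [Algebra k R]
      (K : Type u) [Field K] [Algebra R K] [IsFractionRing R K]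
      (CR : Scheme.{u}) (p : CR ⟶ C) (q : CR ⟶ Spec (CommRingCat.of R))
      (hpb : IsPullback p q f (Spec.map (CommRingCat.ofHom (algebraMap k R))))
      (E : CR.Modules)
      (hE : ModSt.IsCohObj (⟨Over.mk (Spec.map (CommRingCat.ofHom (algebraMap k R))), CR, p, q, hpb, E⟩ : ModSt.Obj f))
      (F : ℤ →o Subobject E) (hFq : ∀ i, Coh.IsQCoh (Subobject.underlying.obj (F i)))
      (a b : ℤ), (∀ i, i ≤ a → F i = ⊥) → (∀ i, b ≤ i → F i = ⊤) →
      (∀ i, FlatMod.IsFlatOver q (cokernel (Subobject.ofLE (F (i - 1)) (F i) (F.monotone (sub_one_lt i).le)))) →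
      ∀ (CK : Scheme.{u}) (iK : CK ⟶ CR) (qK : CK ⟶ Spec (CommRingCat.of K))
        (hK : IsPullback iK qK q (Spec.map (CommRingCat.ofHom (algebraMap R K))))
        (Cκ : Scheme.{u}) (iκ : Cκ ⟶ CR) (qκ : Cκ ⟶ Spec (CommRingCat.of (IsLocalRing.ResidueField R)))
        (hκ : IsPullback iκ qκ q (Spec.map (CommRingCat.ofHom (IsLocalRing.residue R)))),
        Q ⟨⟨Over.mk (Spec.map (CommRingCat.ofHom (algebraMap k R))), CR, p, q, hpb, E⟩, hE⟩ →
        (∀ hK' : ModSt.IsCohObj (⟨Over.mk (Spec.map (CommRingCat.ofHom (algebraMap R K)) ≫ Spec.map (CommRingCat.ofHom (algebraMap k R))),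
            CK, iK ≫ p, qK, (hK.flip.paste_vert hpb.flip).flip,
            (Scheme.Modules.pullback iK).obj (∐ fun i : ℤ => cokernel (Subobject.ofLE (F (i - 1)) (F i) (F.monotone (sub_one_lt i).le)))⟩ : ModSt.Obj f),
          Q ⟨_, hK'⟩) →
        ∀ hκ' : ModSt.IsCohObj (⟨Over.mk (Spec.map (CommRingCat.ofHom (IsLocalRing.residue R)) ≫ Spec.map (CommRingCat.ofHom (algebraMap k R))),
            Cκ, iκ ≫ p, qκ, (hκ.flip.paste_vert hpb.flip).flip,
            (Scheme.Modules.pullback iκ).obj (∐ fun i : ℤ => cokernel (Subobject.ofLE (F (i - 1)) (F i) (F.monotone (sub_one_lt i).le)))⟩ : ModSt.Obj f),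
          Q ⟨_, hκ'⟩ := by
  haveI := K943.CohRows.proper hproj
  have hst : Stk.IsStack (QuotSh.J Scheme.fppfPrecoverage (Spec (CommRingCat.of k))) (ModSt.Coh f) :=
    K927.ModSt.isStack_coh f
  have hQL : K899.OpenCrit.HasOpenLocus Q := K737.OpenSt.hasOpenLocus_of_hasLoci hst.1 hQ.1
    ((K737.Pts.hasLoci_iff _ K737.Open.openImm_le_mono hQ.1).1 hQ.2.2)
  have hT0 : ThetaS.IsThetaComplete Scheme.fppfPrecoverage (ModSt.Coh f) := K943.CohTheta.isThetaComplete_coh hst
  constructor
  · intro hT R _ _ _ _ K _ _ _ CR p q hpb E hE F hFq a b ha hb hfl CK iK qK hK Cκ iκ qκ hκ hQE hQK hκ'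
    obtain ⟨ϖ, hϖ⟩ := IsDiscreteValuationRing.exists_irreducible R
    have h1 := (K881.SubLift.liftsUniquely_fullSub_iff hQL.of_hom
      (hT0 R ϖ hϖ (Spec.map (CommRingCat.ofHom (algebraMap k R))))).1
      (hT R ϖ hϖ (Spec.map (CommRingCat.ofHom (algebraMap k R))))
    exact K881.FwdMain.forward hst hQL R _ hϖ h1 K CR p q hpb E hE F hFq a b ha hb hfl CK iK qK hK Cκ iκ qκ hκ
      hQE hQK hκ'
  · intro crit R _ _ _ ϖ hϖ h
    obtain ⟨ψ, rfl⟩ : ∃ ψ : CommRingCat.of k ⟶ CommRingCat.of R, h = Spec.map ψ :=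
      ⟨Spec.preimage h, (Spec.map_preimage h).symm⟩
    letI : Algebra k R := ψ.hom.toAlgebra
    refine (K881.SubLift.liftsUniquely_fullSub_iff hQL.of_hom (hT0 R ϖ hϖ _)).2 fun Φ H => ?_
    exact K787.ThConv.backward hQL R _ hϖ (FractionRing R)
      (fun CR p q hpb E hE F hFq a b ha hb hfl CK iK qK hK Cκ iκ qκ hκ hQE hQK hκ' =>
        crit R (FractionRing R) CR p q hpb E hE F hFq a b ha hb hfl CK iK qK hK Cκ iκ qκ hκ hQE hQK hκ') Φ H

end Groth.Agent.S18037
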