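import Groth.Statements.S18038
import Groth.Agent.ThetaS.K943.SepRows
import Groth.Agent.S18031

set_option autoImplicit false
universe u
open CategoryTheory AlgebraicGeometry
open ThetaS

namespace Groth.Agent.S18038

/-- Let `k` be an algebraically closed field, `𝒳` an algebraic stack over `(Sch/k)` for the fppf
topology, of finite type over `k` with affine diagonal, `M` an algebraic space over `k` that is
quasi-separated over `k`, and `π : 𝒳 ⟶ M` a quasi-compact quasi-separated good moduli space. Assume
moreover that `π` is etale-locally a quotient presentation by a connected reductive group: there are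
an affine scheme `U` with a representable etale surjective morphism `U ⟶ M`, a connected reductive
group `G` over `k`, an affine Noetherian `k`-scheme `X` with a `G`-action, and an equivalence over
`(Sch/k)` from the quotient stack `[X/G]` (fppf torsors as schemes) to the 2-fibre product `U ×_M
𝒳`. Then `𝒳` is Θ-complete: every functor over `(Sch/k)` from `Θ_R ∖ 0` to `𝒳`, for `R` a discrete
valuation ring over `k` with uniformizer `ϖ`, extends to `Θ_R = [𝔸¹_R/𝔾_m]` uniquely up to a unique
2-isomorphism. Here a good moduli space is a morphism to an algebraic space along which pushforward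
takes surjections of quasi-coherent modules to maps surjective on sections over every affine scheme
etale over the target, and for which the canonical map from the functions on any scheme etale over
the target to the sections of the pushforward of the structure sheaf is bijective. (The published
statement has no hypothesis on local quotient presentations: its proof obtains them from the local
structure of good moduli spaces, which is not proved in full in the text used here, so the row
assumes the presentation the proof uses; `M` is read as quasi-separated over `k`.) -/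
theorem result
    (k : Type u) [Field k] [IsAlgClosed k]
    (𝒳 : AlgSt.Cat (Spec (CommRingCat.of k))) (h𝒳 : AlgSt.IsAlgStack Scheme.fppfPrecoverage 𝒳)
    (hft : AlgSt.LocQ (AlgSp.LocP @LocallyOfFiniteType) (FibCat.toSelf 𝒳)) (hq : AlgSt.IsQuasiCompact 𝒳)
    (hdiag : AlgSt.RepByAlgSpWith (AlgSp.RepWith @IsAffineHom) (FibCat.diag (FibCat.toSelf 𝒳)))
    (M : AlgSp.Space (Spec (CommRingCat.of k))) (hM : AlgSp.IsQuasiSeparatedSp M.obj)
    (π : 𝒳 ⥤ᵇ AlgSt.ofSp M.obj)
    (hqc : AlgSt.IsQuasiCompactMor Scheme.fppfPrecoverage π) (hqs : AlgSt.IsQuasiSeparatedMor π)
    (hπ : StMod.IsGoodModuli π)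
    (U : Over (Spec (CommRingCat.of k))) [IsAffine U.left] (u : (AlgSp.yon (Spec (CommRingCat.of k))).obj U ⟶ M.obj)
    (hu : AlgSp.RepWith @Etale u) (hus : AlgSp.IsSurjectiveMor u)
    (G : Over (Spec (CommRingCat.of k))) [GrpObj G] (hG : Red.IsReductiveOver k G)
    (X : Over (Spec (CommRingCat.of k))) [IsAffine X.left] [IsNoetherian X.left] (a : AlgGrp.Action G X)
    (e : AlgSt.QuotSt Scheme.fppfPrecoverage G a ⥤ᵇ FibCat.fp (AlgSt.ofSpMap u) π) (he : FibCat.IsEquivOver e) :
    ThetaS.IsThetaComplete Scheme.fppfPrecoverage 𝒳 := by
  exact K943.SepRows.isThetaComplete h𝒳.isStack hdiag M.property π u hu hus e he hM (Groth.Agent.S18031.result k G hG X a)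

end Groth.Agent.S18038
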