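import Groth.Statements.S18039
import Groth.Agent.ThetaS.K943.SepRows
import Groth.Agent.S18032

set_option autoImplicit false
universe u
open CategoryTheory AlgebraicGeometry
open ThetaS

namespace Groth.Agent.S18039

/-- Let `k` be an algebraically closed field, `𝒳` an algebraic stack over `(Sch/k)` for the fppf
topology, of finite type over `k` with affine diagonal, `M` an algebraic space over `k` that is
quasi-separated over `k` and separated over `k`, and `π : 𝒳 ⟶ M` a quasi-compact quasi-separated
good moduli space. Assume moreover that `π` is etale-locally a quotient presentation by a connected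
reductive group: there are an affine scheme `U` with a representable etale surjective morphism `U ⟶
M`, a connected reductive group `G` over `k`, an affine Noetherian `k`-scheme `X` with a `G`-action,
and an equivalence over `(Sch/k)` from the quotient stack `[X/G]` (fppf torsors as schemes) to the
2-fibre product `U ×_M 𝒳`. Then `𝒳` is S-complete: every functor over `(Sch/k)` from the punctured
stack `[Spec R[s,t]/(st - ϖ) ∖ V(s,t) / 𝔾_m]` to `𝒳`, for `R` a discrete valuation ring over `k`
with uniformizer `ϖ`, extends to `[Spec R[s,t]/(st - ϖ) / 𝔾_m]` uniquely up to a unique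
2-isomorphism. Here a good moduli space is a morphism to an algebraic space along which pushforward
takes surjections of quasi-coherent modules to maps surjective on sections over every affine scheme
etale over the target, and for which the canonical map from the functions on any scheme etale over
the target to the sections of the pushforward of the structure sheaf is bijective. (The published
statement has no hypothesis on local quotient presentations: its proof obtains them from the local
structure of good moduli spaces, which is not proved in full in the text used here, so the row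
assumes the presentation the proof uses; `M` is read as quasi-separated over `k`.) -/
theorem result
    (k : Type u) [Field k] [IsAlgClosed k]
    (𝒳 : AlgSt.Cat (Spec (CommRingCat.of k))) (h𝒳 : AlgSt.IsAlgStack Scheme.fppfPrecoverage 𝒳)
    (hft : AlgSt.LocQ (AlgSp.LocP @LocallyOfFiniteType) (FibCat.toSelf 𝒳)) (hq : AlgSt.IsQuasiCompact 𝒳)
    (hdiag : AlgSt.RepByAlgSpWith (AlgSp.RepWith @IsAffineHom) (FibCat.diag (FibCat.toSelf 𝒳)))
    (M : AlgSp.Space (Spec (CommRingCat.of k))) (hM : AlgSp.IsQuasiSeparatedSp M.obj)
    (π : 𝒳 ⥤ᵇ AlgSt.ofSp M.obj)
    (hqc : AlgSt.IsQuasiCompactMor Scheme.fppfPrecoverage π) (hqs : AlgSt.IsQuasiSeparatedMor π)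
    (hπ : StMod.IsGoodModuli π)
    (U : Over (Spec (CommRingCat.of k))) [IsAffine U.left] (u : (AlgSp.yon (Spec (CommRingCat.of k))).obj U ⟶ M.obj)
    (hu : AlgSp.RepWith @Etale u) (hus : AlgSp.IsSurjectiveMor u)
    (G : Over (Spec (CommRingCat.of k))) [GrpObj G] (hG : Red.IsReductiveOver k G)
    (X : Over (Spec (CommRingCat.of k))) [IsAffine X.left] [IsNoetherian X.left] (a : AlgGrp.Action G X)
    (e : AlgSt.QuotSt Scheme.fppfPrecoverage G a ⥤ᵇ FibCat.fp (AlgSt.ofSpMap u) π) (he : FibCat.IsEquivOver e)
    (hsep : AlgSp.IsSeparatedSp M.obj) :
    ThetaS.IsSCompleteOver Scheme.fppfPrecoverage 𝒳 := by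
  exact K943.SepRows.isSCompleteOver h𝒳.isStack hdiag π u hu hus e he hsep (Groth.Agent.S18032.result k G hG X a)

end Groth.Agent.S18039
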