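import Groth.Statements.S18040
import Groth.Agent.AdjLin.K802.GorensteinPairing

set_option autoImplicit false
universe u
open AdjLin

namespace Groth.Agent.S18040

/-- Let k be an algebraically closed field of characteristic zero and Z a finite set of points of
projective 3-space over k, realised as points of the projectivization of k⁴, a homogeneous form in
four variables being evaluated at the chosen representative of a point (its vanishing does not
depend on the choice). Suppose Z has the Cayley–Bacharach property in degree n: every form of degree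
n vanishing at all points of Z but one vanishes at that point as well. Then for every m ≤ n, either
there is a nonzero form of degree n − m vanishing at every point of Z, or the rank of the evaluation
map from forms of degree m to functions on Z is at most the number of points of Z minus the
dimension of the space of forms of degree n − m. -/
theorem result (k : Type u) [Field k] [IsAlgClosed k] [CharZero k]
    (Z : Finset (Projectivization k (Fin 4 → k))) (n : ℕ)
    (hCB : (∀ z ∈ Z, ∀ p : MvPolynomial (Fin 4) k, p.IsHomogeneous n →
      (∀ z' ∈ Z, z' ≠ z → MvPolynomial.eval z'.rep p = 0) → MvPolynomial.eval z.rep p = 0))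
    (m : ℕ) (hm : m ≤ n) :
    (∃ s : MvPolynomial (Fin 4) k, s.IsHomogeneous (n - m) ∧ s ≠ 0 ∧ ∀ z ∈ Z, MvPolynomial.eval z.rep s = 0) ∨
      Module.finrank k (LinearMap.range
          ((LinearMap.pi fun z : ↥Z => (MvPolynomial.aeval (R := k) z.1.rep).toLinearMap) ∘ₗ
            (MvPolynomial.homogeneousSubmodule (Fin 4) k m).subtype)) +
        Module.finrank k ↥(MvPolynomial.homogeneousSubmodule (Fin 4) k (n - m)) ≤ Z.card := by
  classical
  haveI : Infinite k := IsAlgClosed.instInfinite
  refine or_iff_not_imp_left.2 fun hno => ?_
  -- evaluation of forms of degree `j`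
  let ev : ∀ j : ℕ, ↥(MvPolynomial.homogeneousSubmodule (Fin 4) k j) →ₗ[k] (↥Z → k) := fun j =>
    (LinearMap.pi fun z : ↥Z => (MvPolynomial.aeval (R := k) z.1.rep).toLinearMap) ∘ₗ
      (MvPolynomial.homogeneousSubmodule (Fin 4) k j).subtype
  have hev : ∀ j p z, ev j p z = MvPolynomial.eval z.1.rep p.1 := fun j p z => by
    simp [ev, MvPolynomial.aeval_eq_eval]
  have hinj : Function.Injective (ev (n - m)) := by
    rw [injective_iff_map_eq_zero]
    rintro ⟨p, hp⟩ h
    by_contra hne
    refine hno ⟨p, hp, fun h0 => hne (by subst h0; rfl), fun z hz => ?_⟩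
    have := congrFun h ⟨z, hz⟩
    rwa [hev] at this
  have key := K802.GorensteinPairing.finrank_add_le_of_notMem (k := k) (R := ↥Z → k)
    (Finset.univ.image fun z : ↥Z => (Pi.single z (1 : k) : ↥Z → k))
    (by
      intro I hI
      obtain ⟨a, ha, hne⟩ := Submodule.exists_mem_ne_zero_of_ne_bot hI
      obtain ⟨z, hz⟩ := Function.ne_iff.1 hne
      refine ⟨Pi.single z 1, by simp, ?_⟩
      have h1 : Pi.single z ((a z)⁻¹) * a = (Pi.single z 1 : ↥Z → k) := by
        funext w
        by_cases hw : w = z
        · subst hw
          have : a w ≠ 0 := hz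
          simp [this]
        · simp [Pi.single_eq_of_ne hw]
      rw [← h1]
      exact I.mul_mem_left _ ha)
    (LinearMap.range (ev n))
    (by
      intro s hs
      obtain ⟨z, -, rfl⟩ := Finset.mem_image.1 hs
      rintro ⟨p, hp⟩
      have h0 := hCB z.1 z.2 p.1 p.2 (fun z' hz' hne => by
        have := congrFun hp ⟨z', hz'⟩
        rw [hev] at this
        rw [this]
        exact Pi.single_eq_of_ne (fun h => hne (congrArg Subtype.val h)) _)
      have := congrFun hp z
      rw [hev, h0] at this
      simp at this)
    (LinearMap.range (ev m)) (LinearMap.range (ev (n - m)))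
    (by
      rintro _ ⟨p, rfl⟩ _ ⟨q, rfl⟩
      refine ⟨⟨p.1 * q.1, ?_⟩, ?_⟩
      · have := MvPolynomial.IsHomogeneous.mul p.2 q.2
        rwa [Nat.add_sub_cancel' hm] at this
      · funext z
        rw [hev, Pi.mul_apply, hev, hev]
        simp)
  rw [LinearMap.finrank_range_of_inj hinj] at key
  have hc : Module.finrank k (↥Z → k) = Z.card := by simp
  rw [hc] at key
  exact key

end Groth.Agent.S18040
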