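import Groth.Statements.S18042
import Groth.Agent.AdjLin.K802.CBPoints

set_option autoImplicit false
universe u
open AdjLin

namespace Groth.Agent.S18042

/-- Let k be an algebraically closed field of characteristic zero, n ≥ 1, and Z a finite set of points
of projective 3-space over k (points of the projectivization of k⁴, forms in four variables being
evaluated at the chosen representative) with the Cayley–Bacharach property in degree n: every form
of degree n vanishing at all points of Z but one vanishes at that point as well. If Z has at most 3n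
+ 1 points, then either all points of Z lie in one plane (a common 3-dimensional subspace of k⁴), or
they lie on the union of two skew lines (two 2-dimensional subspaces of k⁴ meeting in zero), each
line carrying at least n + 1 points of Z, and Z has at least 2n + 3 points. (The source states this
for an arbitrary zero-dimensional subscheme, with a third alternative, containment in the
first-order thickening of a line; for the reduced subschemes treated here that alternative is a case
of coplanarity.) -/
theorem result (k : Type u) [Field k] [IsAlgClosed k] [CharZero k]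
    (Z : Finset (Projectivization k (Fin 4 → k))) (n : ℕ) (hn : 1 ≤ n)
    (hCB : (∀ z ∈ Z, ∀ p : MvPolynomial (Fin 4) k, p.IsHomogeneous n →
      (∀ z' ∈ Z, z' ≠ z → MvPolynomial.eval z'.rep p = 0) → MvPolynomial.eval z.rep p = 0))
    (hcard : Z.card ≤ 3 * n + 1) :
    (∃ W : Submodule k (Fin 4 → k), Module.finrank k ↥W = 3 ∧ ∀ z ∈ Z, z.submodule ≤ W) ∨
      (∃ W₁ W₂ : Submodule k (Fin 4 → k), Module.finrank k ↥W₁ = 2 ∧ Module.finrank k ↥W₂ = 2 ∧ W₁ ⊓ W₂ = ⊥ ∧
        (∀ z ∈ Z, z.submodule ≤ W₁ ∨ z.submodule ≤ W₂) ∧
        n + 1 ≤ Set.ncard {z : Projectivization k (Fin 4 → k) | z ∈ Z ∧ z.submodule ≤ W₁} ∧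
        n + 1 ≤ Set.ncard {z : Projectivization k (Fin 4 → k) | z ∈ Z ∧ z.submodule ≤ W₂} ∧
        2 * n + 3 ≤ Z.card) := by
  classical
  have : Infinite k := IsAlgClosed.instInfinite
  have h : K802.CBPoints.CB Z n := hCB
  have hset : ∀ W : Submodule k (Fin 4 → k),
      Set.ncard {z : Projectivization k (Fin 4 → k) | z ∈ Z ∧ z.submodule ≤ W} =
        (Z.filter fun z => z.rep ∈ W).card := by
    intro W
    rw [← Set.ncard_coe_finset]
    congr 1
    ext z
    simp [K802.CBPoints.rep_mem_iff]
  rcases h.plane_or_two_lines hcard with ⟨W, hW, hm⟩ | ⟨W₁, W₂, hW₁, hW₂, hd, hm, hc₁, hc₂⟩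
  · exact Or.inl ⟨W, hW, fun z hz => (K802.CBPoints.rep_mem_iff z W).1 (hm z hz)⟩
  · refine Or.inr ⟨W₁, W₂, hW₁, hW₂, hd, fun z hz => ?_, ?_, ?_, ?_⟩
    · exact (hm z hz).imp (K802.CBPoints.rep_mem_iff z W₁).1 (K802.CBPoints.rep_mem_iff z W₂).1
    · rw [hset]; omega
    · rw [hset]; omega
    · have h1 : (Z.filter fun z => z.rep ∈ W₁) ∪ (Z.filter fun z => z.rep ∈ W₂) ⊆ Z :=
        Finset.union_subset (Finset.filter_subset _ _) (Finset.filter_subset _ _)
      have h2 := Finset.card_le_card h1
      rw [Finset.card_union_of_disjoint] at h2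
      · omega
      · rw [Finset.disjoint_left]
        intro z hz hz'
        have : z.rep ∈ W₁ ⊓ W₂ := ⟨(Finset.mem_filter.1 hz).2, (Finset.mem_filter.1 hz').2⟩
        rw [hd] at this
        exact z.rep_nonzero (by simpa using this)

end Groth.Agent.S18042
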