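import Groth.Statements.S18044
import Groth.Agent.Surf.K332.MapFac2
import Groth.Agent.Surf.K332.P1Bun
import Groth.Agent.Etcore.SmoothRed

set_option autoImplicit false
universe u
open CategoryTheory CategoryTheory.Limits AlgebraicGeometry
open Surf

namespace Groth.Agent.S18044

/-- Let k be an algebraically closed field of characteristic zero, Y an irreducible smooth k-scheme of
dimension 1 (a smooth curve), U an irreducible smooth proper k-scheme of dimension 2 (a smooth
proper surface) and p : P → Y a P¹-bundle, in the sense that every point of Y has an open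
neighbourhood V over which p⁻¹(V) is V-isomorphic to P¹ × V. Then any morphism f : Y ×_k U → P
compatible with the projections to Y factors through Y ×_k C for some k-scheme C of dimension at
most 1 and some k-morphism g : U → C: f = h ∘ (id_Y × g) for a morphism h : Y ×_k C → P. -/
theorem result
    (k : Type u) [Field k] [IsAlgClosed k] [CharZero k]
    (Y : Scheme.{u}) [Y.Over (Spec (CommRingCat.of k))] [Smooth (Y ↘ (Spec (CommRingCat.of k)))]
    [IrreducibleSpace Y] (hY : topologicalKrullDim Y = 1)
    (U : Scheme.{u}) [U.Over (Spec (CommRingCat.of k))] [IsProper (U ↘ (Spec (CommRingCat.of k)))]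
    [Smooth (U ↘ (Spec (CommRingCat.of k)))] [IrreducibleSpace U] (hU : topologicalKrullDim U = 2)
    (P : Scheme.{u}) (p : P ⟶ Y)
    (hP : ∀ y : Y, ∃ V : Y.Opens, y ∈ V ∧
      ∃ e : (↑(p ⁻¹ᵁ V) : Scheme.{u}) ≅ pullback (CohB1.ProjSpaceOver.toBase 1 Y) V.ι,
        e.hom ≫ pullback.snd (CohB1.ProjSpaceOver.toBase 1 Y) V.ι = p ∣_ V)
    (f : pullback (Y ↘ (Spec (CommRingCat.of k))) (U ↘ (Spec (CommRingCat.of k))) ⟶ P)
    (hf : f ≫ p = pullback.fst (Y ↘ (Spec (CommRingCat.of k))) (U ↘ (Spec (CommRingCat.of k)))) :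
    ∃ (C : Scheme.{u}) (c : C ⟶ Spec (CommRingCat.of k)) (g : U ⟶ C)
      (hg : g ≫ c = U ↘ (Spec (CommRingCat.of k)))
      (h : pullback (Y ↘ (Spec (CommRingCat.of k))) c ⟶ P),
      topologicalKrullDim C ≤ 1 ∧
        f = pullback.map (Y ↘ (Spec (CommRingCat.of k))) (U ↘ (Spec (CommRingCat.of k)))
              (Y ↘ (Spec (CommRingCat.of k))) c (𝟙 Y) g (𝟙 _)
              ((Category.comp_id _).trans (Category.id_comp _).symm)
              ((Category.comp_id _).trans hg.symm) ≫ h := by
  have hp : K332.P1Bun.IsLT p := hP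
  have h1 : IsProper p := K332.P1Bun.isProper hp
  have h2 : IsReduced Y := Etcore.SmoothRed.isReduced_of_smooth (Y ↘ (Spec (CommRingCat.of k)))
  exact K332.MapFac.main (Y ↘ (Spec (CommRingCat.of k))) (U ↘ (Spec (CommRingCat.of k))) p
    (fun y => K332.P1Bun.dim_fibre_le hp k y) f hf

end Groth.Agent.S18044
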