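import Groth.Statements.S18045
import Groth.Agent.AdjLin.K802.BogFin
import Groth.Agent.AdjLin.K427.BogMain
import Groth.Agent.AdjLin.K802.CBTwist
import Groth.Agent.AdjLin.K802.ZeroIso
import Groth.Agent.Variety.K427.GenSmoothZero
import Groth.Agent.AdjLin.K801.SmDim

set_option autoImplicit false
universe u
open CategoryTheory CategoryTheory.Limits AlgebraicGeometry
open AdjLin

namespace Groth.Agent.S18045

open Groth.Agent.Lefpen.H725.CocDef Groth.Agent.Lefpen.H521.CartierCoc K801.CousinH1
open Groth.Agent.Fga.PicMon Groth.Agent.Grpsch.PicGrp K464.Base K464.Curves K464.Comp K464.Ample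

/-- Let k be an algebraically closed field of characteristic zero and X a smooth projective surface over
k (an irreducible proper smooth k-scheme of dimension 2) with an ample invertible O_X-module H
having a tensor inverse H⁻¹; let ω be a second exterior power of Ω_{X/k}, L an invertible module
with a tensor inverse L⁻¹ and positive degree (L·H) > 0, and P ⊂ X a zero-dimensional local complete
intersection subscheme (a quasi-coherent ideal I_P with finite support, generated by two sections on
an affine neighbourhood of every point) which has the Cayley–Bacharach property for L ⊗ ω: for every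
quasi-coherent ideal I' covering I_P in the order of ideal sheaves, every global section of L ⊗ ω
whose zero scheme has ideal ≤ I' has zero scheme with ideal ≤ I_P. Suppose that for every effective
Cartier divisor D on X, given by an ideal I_D locally generated by one nonzerodivisor together with
a tensor inverse O_X(D) of I_D, such that 2(D·H) < (L·H), the module O_X(D) ⊗ I_P has no nonzero
global section. Then (L·L) ≤ 4·χ(O_X/I_P), that is, the length of P is at least L²/4. Here (L·H),
(D·H), (L·L) are the intersection numbers computed as alternating sums of Euler characteristics from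
the inverses L⁻¹, H⁻¹ and I_D ≅ O_X(−D). -/
theorem result
    (k : Type u) [Field k] [IsAlgClosed k] [CharZero k]
    (X : Scheme.{u}) [X.Over (Spec (CommRingCat.of k))] [IsProper (X ↘ (Spec (CommRingCat.of k)))]
    [Smooth (X ↘ (Spec (CommRingCat.of k)))] [IrreducibleSpace X] (hdim : topologicalKrullDim X = 2)
    (H Hinv : X.Modules) (hH : CohB1.IsAmple H) (hHi : PicF.IsInvertible H) (hHinv : ClSub.IsInverseOf Hinv H)
    (ω : X.Modules) (hω : ExtPow.IsExtPow 2 (Omega.sheaf (X ↘ (Spec (CommRingCat.of k)))) ω)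
    (L Linv : X.Modules) (hL : PicF.IsInvertible L) (hLinv : ClSub.IsInverseOf Linv L)
    (hdeg : 0 < FGA.intNum k X 2 ![Linv, Hinv] (Coh.structureModule X))
    (IP : X.IdealSheafData) (hfin : (IP.support : Set X).Finite)
    (hlci : ∀ x : X, ∃ V : X.affineOpens, x ∈ (V : X.Opens) ∧
      ∃ a b : Γ(X, V), IP.ideal V = Ideal.span {a, b})
    (hCB : ∀ I' : X.IdealSheafData, IP ⋖ I' →
      ∀ σ : Coh.structureModule X ⟶ CohB1.tensorMod L ω,
        PicF2.zeroScheme (CohB1.tensorMod L ω) σ ≤ I' → PicF2.zeroScheme (CohB1.tensorMod L ω) σ ≤ IP)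
    (hvan : ∀ (ID : X.IdealSheafData) (OD : X.Modules), FGA.IsEffCartier ID →
      ClSub.IsInverseOf OD (ClSub.idealMod ID) →
        2 * FGA.intNum k X 2 ![ClSub.idealMod ID, Hinv] (Coh.structureModule X) <
            FGA.intNum k X 2 ![Linv, Hinv] (Coh.structureModule X) →
          ∀ σ : Coh.structureModule X ⟶ CohB1.tensorMod OD (ClSub.idealMod IP), σ = 0) :
    FGA.intNum k X 2 ![Linv, Linv] (Coh.structureModule X) ≤
      4 * FGA.eulerCharLE k X (ClSub.quotMod IP) 2 := by
  have hint := K802.GoodPoint.isIntegral_of_smooth (X ↘ (Spec (CommRingCat.of k)))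
  have hnoeth : IsNoetherian X := K802.SurfBase.isNoetherian (X ↘ (Spec (CommRingCat.of k)))
  have hωi := K802.CBTwist.isInvertible_omega k X hdim ω hω
  have hdim' : topologicalKrullDim X ≤ (2 : ℕ) := hdim.le
  by_contra hcon
  push Not at hcon
  -- the extension
  have hN : PicF.IsInvertible (CohB1.tensorMod L ω) := Fdesc.LocGen.isInvertible_tensorMod hL hωi
  obtain ⟨κ⟩ : Nonempty (CohB1.tensorMod (CohB1.tensorMod L (Coh.structureModule X)) ω ≅
      CohB1.tensorMod L ω) := by
    rw [← mc_eq_iff, mc_tensor, mc_tensor, mc_tensor, mc_one, mul_one]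
  obtain ⟨E, i, p, w, hrk, hex⟩ := K802.CBTwist.backward k X hdim H hH ω hω (Coh.structureModule X)
    (Coh.structureModule X) L Fdesc.LocGen.isInvertible_structureModule ⟨Ega2.Tens.runit _⟩ hL IP hfin
    hlci fun I' hI' σ hσ => by
      have hN' : PicF.IsInvertible (CohB1.tensorMod (CohB1.tensorMod L (Coh.structureModule X)) ω) :=
        K802.TwistSES.isInvertible_of_iso κ.symm hN
      have h1 := K802.ZeroIso.zeroScheme_comp_iso hN' hN σ κ
      rw [← h1] at hσ ⊢
      exact hCB I' hI' _ hσ
  -- first half of Bogomolov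
  obtain ⟨n, -, s, hs⟩ := K427.BogMain.main k X hdim H Hinv hH hHinv L Linv hL hLinv E hrk IP hfin
    i p w hex hcon
  have hl1 : mc Linv * mc L = 1 := K802.TwistSES.mc_inv hLinv
  have ha1 : mc Hinv * mc H = 1 := K802.TwistSES.mc_inv hHinv
  obtain ⟨φ, hφ⟩ := K802.BogFin.exists_twisted (M := CohB1.tensorMod (CohB1.tensorPow L n) H)
    (M' := CohB1.tensorMod (CohB1.tensorPow Linv n) Hinv) (V := CohB1.tensorPow E (2 * n)) s hs (by
      rw [mc_tensor, mc_tensor, mc_tensorPow, mc_tensorPow]
      calc _ = (mc Linv * mc L) ^ n * (mc Hinv * mc H) := by rw [mul_pow]; ac_rfl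
        _ = 1 := by rw [hl1, ha1, one_pow, one_mul]) (by
      rw [mc_tensor, mc_tensor, mc_tensor, mc_tensorPow Linv, mc_tensorPow L]
      calc _ = mc (CohB1.tensorPow E (2 * n)) * ((mc Linv * mc L) ^ n * (mc Hinv * mc H)) := by
            rw [mul_pow]; ac_rfl
        _ = _ := by rw [hl1, ha1, one_pow, one_mul, mul_one])
  -- second half of Bogomolov
  obtain ⟨ℓ, hℓ⟩ := exists_hasCoc hL
  obtain ⟨a, ha⟩ := exists_hasCoc hHi
  obtain ⟨D⟩ := nonempty_dat hℓ
  have hjac : JacobsonSpace X := LocallyOfFiniteType.jacobsonSpace (X ↘ (Spec (CommRingCat.of k)))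
  have hufd : ∀ x : X, UniqueFactorizationMonoid (X.presheaf.stalk x) := fun x => by
    have := K802.SurfBase.regular (X ↘ (Spec (CommRingCat.of k))) x
    exact (S2821.result (X.presheaf.stalk x)).2
  have hcod : ∀ z : X, Order.coheight z = 1 → z ∉ (IP.support : Set X) := by
    intro z hz hzP
    have h1 := (K802.GoodPoint.stalk_closedPoint (X ↘ (Spec (CommRingCat.of k))) hdim
      (K802.GoodPoint.isClosed_of_finite IP.support.isClosed hfin hzP)).2
    rw [ringKrullDim_stalk_eq_coheight, hz] at h1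
    exact absurd h1 (by decide)
  have hηP : genericPoint X ∉ (IP.support : Set X) := by
    intro hη
    have h1 := (K802.GoodPoint.stalk_closedPoint (X ↘ (Spec (CommRingCat.of k))) hdim
      (K802.GoodPoint.isClosed_of_finite IP.support.isClosed hfin hη)).2
    have h2 : ringKrullDim (X.presheaf.stalk (genericPoint X)) = 0 :=
      ringKrullDim_eq_zero_of_field X.functionField
    rw [h2] at h1
    exact absurd h1 (by decide)
  have hchar : CharZero X.functionField := K427.GenSmooth.charZero_functionField k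
    (X ↘ (Spec (CommRingCat.of k)))
  have hnaff : ¬ IsAffineOpen (⊤ : X.Opens) := K801.SmDim.not_isAffineOpen_top
    (X ↘ (Spec (CommRingCat.of k))) (n := 2) (by norm_num) hdim
  obtain ⟨γ, hγ0, hγloc, ⟨e, he, ρ, hρ, hρm⟩, halt⟩ := K802.BogSes.main D IP hcod hηP hrk i p w hex n
    (hasCoc_tensor (hasCoc_pow hℓ n) ha) (fun d hd ρ h => by
      refine K801.Amp.eq_zero_of_ample (X ↘ (Spec (CommRingCat.of k))) hnaff
        (Divis.NormAmple.isAmple_tensorPow hH hd) (hasCoc_pow ha d) ρ fun x => ?_
      rw [K801.Cousin.regAt_iff, mul_comm]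
      exact h x) φ hφ
  obtain ⟨C, hC, hCγ⟩ := exists_of_loc γ hγ0 hγloc
  -- intersection numbers
  have hLinvI : PicF.IsInvertible Linv := K802.TwistSES.isInvertible_of_inv hL (by rw [mul_comm]; exact hl1)
  have hHinvI : PicF.IsInvertible Hinv := K802.TwistSES.isInvertible_of_inv hHi (by rw [mul_comm]; exact ha1)
  have hmL : mk Linv hLinvI = (mk L hL)⁻¹ := by
    rw [eq_inv_iff_mul_eq_one, mk_mul_mk, mk_eq_one_iff]
    exact hLinv
  have hmH : mk Hinv hHinvI = (mk H hHi)⁻¹ := by
    rw [eq_inv_iff_mul_eq_one, mk_mul_mk, mk_eq_one_iff]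
    exact hHinv
  have hLH : FGA.intNum k X 2 ![Linv, Hinv] (Coh.structureModule X) = dot k X (mk L hL) (mk H hHi) := by
    rw [intNum_eq_dot k X hdim' hLinvI hHinvI, hmL, hmH, dot_inv_inv k X hdim']
  rw [hLH] at hdeg
  have hkey : 2 * dot k X (mk C hC) (mk H hHi) < - dot k X (mk L hL) (mk H hHi) := by
    have h1 := K802.BogFin.dot_nonpos k hdim
      (N := CohB1.tensorMod (CohB1.tensorMod (CohB1.tensorPow C (2 * e)) H) (CohB1.tensorPow L e))
      (Fdesc.LocGen.isInvertible_tensorMod (Fdesc.LocGen.isInvertible_tensorMod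
        (Fdesc.LocGen.isInvertible_tensorPow hC _) hHi) (Fdesc.LocGen.isInvertible_tensorPow hL _))
      hHi hH (hasCoc_tensor (hasCoc_tensor (hasCoc_pow hCγ (2 * e)) ha) (hasCoc_pow hℓ e)) hρ hρm
    have h2 : mk (CohB1.tensorMod (CohB1.tensorMod (CohB1.tensorPow C (2 * e)) H) (CohB1.tensorPow L e))
        (Fdesc.LocGen.isInvertible_tensorMod (Fdesc.LocGen.isInvertible_tensorMod
        (Fdesc.LocGen.isInvertible_tensorPow hC _) hHi) (Fdesc.LocGen.isInvertible_tensorPow hL _)) =
        mk C hC ^ (2 * e) * mk H hHi * mk L hL ^ e := by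
      rw [← mk_tensorPow hC, ← mk_tensorPow hL, mk_mul_mk, mk_mul_mk]
    have h3 := dot_pos_of_ample k hdim hHi hHi hH hH
    rw [h2, dot_mul_left k X hdim', dot_mul_left k X hdim', dot_pow_left k X hdim',
      dot_pow_left k X hdim'] at h1
    have h4 : (1 : ℤ) ≤ e := by exact_mod_cast he
    push_cast at h1
    nlinarith
  rcases halt with ⟨c0, hc0, hcu⟩ | ⟨t, ht0, htI⟩
  · obtain ⟨e0⟩ := hasCoc_iso hCγ K484.CocIdeal.hasCoc_structure c0⁻¹ (inv_ne_zero hc0) (fun x => by
      have := hcu x
      rwa [div_one, mul_comm, ← div_eq_mul_inv])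
    have h1 : mk C hC = 1 := (mk_eq_one_iff hC).2 ⟨e0⟩
    rw [h1, dot_one_left] at hkey
    linarith
  · have hOD : PicF.IsInvertible (CohB1.tensorMod L C) := Fdesc.LocGen.isInvertible_tensorMod hL hC
    obtain ⟨DO⟩ := nonempty_dat (hasCoc_tensor hℓ hCγ)
    obtain ⟨σ, hσ⟩ := K801.Amp.exists_sv DO t (fun x => by
      rw [K801.Cousin.regAt_iff]
      obtain ⟨b, -, hb⟩ := K802.SesVal.mem_Ix.1 (htI x)
      exact ⟨b, hb⟩)
    have hσ0 : σ ≠ 0 := by
      rintro rfl
      apply ht0
      rw [← hσ, K801.Amp.sv]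
      exact (K802.SesVal.vl_zero DO (W := ⊤) trivial)
    obtain ⟨hE, hinv⟩ := K480.GGCurve.isInverseOf_zeroScheme hOD σ hσ0
    have hle : PicF2.zeroScheme (CohB1.tensorMod L C) σ ≤ IP :=
      K802.BogFin.zeroScheme_le hOD DO σ fun x => by
        rw [hσ]
        exact htI x
    obtain ⟨τ, hτ⟩ := K802.BogFin.exists_section_of_le hH hOD hfin σ hσ0 hle
    apply hτ
    refine hvan (PicF2.zeroScheme (CohB1.tensorMod L C) σ) (CohB1.tensorMod L C) hE hinv ?_ τ
    have h1 := mk_eq_ic_inv hinv hOD hE
    have h2 : ic _ hE = (mk L hL * mk C hC)⁻¹ := by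
      rw [mk_mul_mk, h1, inv_inv]
    have h3 : FGA.intNum k X 2 ![ClSub.idealMod (PicF2.zeroScheme (CohB1.tensorMod L C) σ), Hinv]
        (Coh.structureModule X) = dot k X (mk L hL) (mk H hHi) + dot k X (mk C hC) (mk H hHi) := by
      have h4 : FGA.intNum k X 2 ![ClSub.idealMod (PicF2.zeroScheme (CohB1.tensorMod L C) σ), Hinv]
          (Coh.structureModule X) = dot k X (ic _ hE) (mk Hinv hHinvI) :=
        intNum_eq_dot k X hdim' _ hHinvI
      rw [h4, h2, hmH, dot_inv_inv k X hdim', dot_mul_left k X hdim']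
    rw [h3, hLH]
    linarith

end Groth.Agent.S18045
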