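import Groth.Statements.S18047
import Groth.Agent.AdjLin.K801.Stmt
-- import your own Groth.Agent.* helpers here

set_option autoImplicit false
universe u
open CategoryTheory CategoryTheory.Limits AlgebraicGeometry
open AdjLin

namespace Groth.Agent.S18047

/-- Let k be an algebraically closed field of characteristic zero and X a smooth projective surface over
k (an irreducible proper smooth k-scheme of dimension 2 with an ample invertible O_X-module); let ω
be a second exterior power of Ω_{X/k}, L a numerically effective invertible O_X-module (non-negative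
degree on every integral curve in X) with a tensor inverse L⁻¹ and self-intersection (L·L) ≥ 5, and
x a closed point of X at which every global section of L ⊗ ω vanishes (a base point of the adjoint
series). Then there is a nonzero effective Cartier divisor D through x, given by a quasi-coherent
ideal I_D ≠ ⊤ locally generated by a single nonzerodivisor and whose support contains x, such that
(L·H) − 2(D·H) > 0 for every ample invertible O_X-module H with a tensor inverse H⁻¹, (L·L) − 2(L·D)
≥ 0, and (L·D) − 1 ≤ (D·D) < (L·D)/2. Intersection numbers are the alternating sums of Euler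
characteristics computed from the inverses L⁻¹, H⁻¹ and I_D ≅ O_X(−D). -/
theorem result (k : Type u) [Field k] [IsAlgClosed k] [CharZero k]
    (X : Scheme.{u}) [X.Over (Spec (CommRingCat.of k))] [IsProper (X ↘ (Spec (CommRingCat.of k)))]
    [Smooth (X ↘ (Spec (CommRingCat.of k)))] [IrreducibleSpace X] (hdim : topologicalKrullDim X = 2)
    (A : X.Modules) (hA : CohB1.IsAmple A)
    (L Linv : X.Modules) (hL : PicF.IsInvertible L) (hLinv : ClSub.IsInverseOf Linv L)
    (hnef : (∀ (C : Scheme.{u}) (i : C ⟶ X) [IsClosedImmersion i], IsIntegral C → topologicalKrullDim C = 1 →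
      0 ≤ Pic13.curveDeg k (i ≫ (X ↘ (Spec (CommRingCat.of k)))) ((Scheme.Modules.pullback i).obj L)))
    (hself : 5 ≤ FGA.intNum k X 2 ![Linv, Linv] (Coh.structureModule X))
    (ω : X.Modules) (hω : ExtPow.IsExtPow 2 (Omega.sheaf (X ↘ (Spec (CommRingCat.of k)))) ω)
    (x : X) (hx : IsClosed ({x} : Set X))
    (hbase : ∀ σ : Coh.structureModule X ⟶ CohB1.tensorMod L ω,
      x ∈ (PicF2.zeroScheme (CohB1.tensorMod L ω) σ).support) :
    ∃ I : X.IdealSheafData, FGA.IsEffCartier I ∧ I ≠ ⊤ ∧ x ∈ I.support ∧
      (∀ (H Hinv : X.Modules), CohB1.IsAmple H → PicF.IsInvertible H → ClSub.IsInverseOf Hinv H →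
        0 < FGA.intNum k X 2 ![Linv, Hinv] (Coh.structureModule X) - 2 * FGA.intNum k X 2 ![ClSub.idealMod I, Hinv] (Coh.structureModule X)) ∧
      0 ≤ FGA.intNum k X 2 ![Linv, Linv] (Coh.structureModule X) - 2 * FGA.intNum k X 2 ![Linv, ClSub.idealMod I] (Coh.structureModule X) ∧
      FGA.intNum k X 2 ![Linv, ClSub.idealMod I] (Coh.structureModule X) - 1 ≤ FGA.intNum k X 2 ![ClSub.idealMod I, ClSub.idealMod I] (Coh.structureModule X) ∧
      2 * FGA.intNum k X 2 ![ClSub.idealMod I, ClSub.idealMod I] (Coh.structureModule X) < FGA.intNum k X 2 ![Linv, ClSub.idealMod I] (Coh.structureModule X) := by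
  have hInt := K801.Stmt.isIntegral k X
  have hnef' := K801.Stmt.nef k hdim hL hnef
  rw [K801.Stmt.intNum_inv_inv hdim hL hLinv] at hself
  have hωi : PicF.IsInvertible ω := by
    have := K801.BlowY.smoothOfRel (k := k) hdim
    exact K455.Canon.isInvertible (X ↘ Spec (CommRingCat.of k)) 2 hω
  obtain ⟨D, hD, hxD, h, h3, h4⟩ := K801.Reider.main hdim hA hL hnef' hself hω x hx (fun σ =>
    (Groth.Agent.Pi1C.ZeroScheme.mem_support_iff σ (Fdesc.LocGen.isInvertible_tensorMod hL hωi) x).1 (hbase σ))
  have h2 := hdim.le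
  rw [K464.Base.dot_mul_left k X h2, K464.Base.dot_pow_left k X h2, K464.Base.dot_comm k X (K464.Base.ic D hD)] at h3
  push_cast at h3
  refine ⟨D, K464.Base.isEff_iff.2 hD, ?_, hxD, ?_, ?_, ?_, ?_⟩
  · rintro rfl
    rw [Scheme.IdealSheafData.support_top] at hxD
    exact Set.notMem_empty x hxD
  · intro H Hinv hH hHi hHinv
    rw [K801.Stmt.intNum_mixed hdim hL hLinv hHi hHinv, K801.Stmt.intNum_ic_inv hdim hHi hHinv hD]
    have h5 := h4 H hH
    rw [K464.Base.dot_mul_left k X h2, K464.Base.dot_pow_left k X h2] at h5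
    push_cast at h5
    linarith
  · rw [K801.Stmt.intNum_inv_inv hdim hL hLinv, K801.Stmt.intNum_inv_ic hdim hL hLinv hD]
    linarith
  · rw [K801.Stmt.intNum_inv_ic hdim hL hLinv hD, K801.Stmt.intNum_ic_ic hdim hD]
    rcases h with ⟨h1, h2⟩ | ⟨h1, h2⟩ <;> rw [h1, h2] <;> norm_num
  · rw [K801.Stmt.intNum_inv_ic hdim hL hLinv hD, K801.Stmt.intNum_ic_ic hdim hD]
    rcases h with ⟨h1, h2⟩ | ⟨h1, h2⟩ <;> rw [h1, h2] <;> norm_num


end Groth.Agent.S18047
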