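import Groth.Statements.S18048
import Groth.Agent.AdjLin.K802.HypCanon
import Groth.Agent.AdjLin.K802.ZeroIso
import Groth.Agent.Surf.K455.Canon

set_option autoImplicit false
universe u
open CategoryTheory CategoryTheory.Limits AlgebraicGeometry
open AdjLin

namespace Groth.Agent.S18048

/-- Let k be an algebraically closed field of characteristic zero and X ⊂ P³_k a smooth surface of
degree d, that is, a closed immersion ι : X → P³_k of an irreducible smooth k-scheme of dimension 2
whose hyperplane class H = ι*O(1) has self-intersection (H·H) = d (computed as an alternating sum of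
Euler characteristics from two copies of ι*O(−1)); write O_X(j) = ι*O_{P³}(j). Let P ⊂ X be a
zero-dimensional local complete intersection subscheme (a quasi-coherent ideal I_P with finite
support, generated by two sections on an affine neighbourhood of every point) with the
Cayley–Bacharach property for O_X(n): for every quasi-coherent ideal I' covering I_P in the order of
ideal sheaves, every global section of O_X(n) whose zero scheme has ideal ≤ I' has zero scheme with
ideal ≤ I_P. Then there exist a locally free O_X-module E of rank 2 and morphisms O_X → E → O_X(n +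
4 − d) ⊗ I_P forming a short exact sequence 0 → O_X → E → O_X(n + 4 − d) ⊗ I_P → 0. (The published
corollary is stated for P a general divisor in a base-point-free linear system on a smooth curve in
P³, with X a smooth hypersurface containing P; its proof uses only the Cayley–Bacharach property of
P in degree n, equivalent to the one for O_X(n) on X, and that property is assumed here for an
arbitrary zero-dimensional local complete intersection P ⊂ X.) -/
theorem result
    (k : Type u) [Field k] [IsAlgClosed k] [CharZero k]
    (X : Scheme.{u}) [X.Over (Spec (CommRingCat.of k))] [Smooth (X ↘ (Spec (CommRingCat.of k)))]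
    [IrreducibleSpace X] (hdim : topologicalKrullDim X = 2)
    (ι : X ⟶ CohB1.ProjSpace 3 k) [IsClosedImmersion ι]
    (hι : ι ≫ CohB1.ProjSpace.toSpec 3 k = X ↘ (Spec (CommRingCat.of k)))
    (d : ℤ) (hd : FGA.intNum k X 2 ![((Scheme.Modules.pullback ι).obj (Twist.twistProjSpace 3 k (-1))), ((Scheme.Modules.pullback ι).obj (Twist.twistProjSpace 3 k (-1)))] (Coh.structureModule X) = d)
    (IP : X.IdealSheafData) (hfin : (IP.support : Set X).Finite)
    (hlci : ∀ x : X, ∃ V : X.affineOpens, x ∈ (V : X.Opens) ∧
      ∃ a b : Γ(X, V), IP.ideal V = Ideal.span {a, b})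
    (n : ℤ)
    (hCB : ∀ I' : X.IdealSheafData, IP ⋖ I' →
      ∀ σ : Coh.structureModule X ⟶ ((Scheme.Modules.pullback ι).obj (Twist.twistProjSpace 3 k (n))),
        PicF2.zeroScheme ((Scheme.Modules.pullback ι).obj (Twist.twistProjSpace 3 k (n))) σ ≤ I' → PicF2.zeroScheme ((Scheme.Modules.pullback ι).obj (Twist.twistProjSpace 3 k (n))) σ ≤ IP) :
    ∃ (E : X.Modules) (i : Coh.structureModule X ⟶ E)
      (p : E ⟶ CohB1.tensorMod ((Scheme.Modules.pullback ι).obj (Twist.twistProjSpace 3 k (n + 4 - d))) (ClSub.idealMod IP)) (w : i ≫ p = 0),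
      FlatMod.IsFinLocFreeOfRank 2 E ∧ (ShortComplex.mk i p w).ShortExact := by
  have hint := K802.GoodPoint.isIntegral_of_smooth (X ↘ (Spec (CommRingCat.of k)))
  have hprop := K802.HypCanon.isProper_X ι hι
  have hsm := K802.CBTwist.smooth_two k X hdim
  obtain ⟨ω, hω, hωi⟩ := K455.Canon.exists_canonical (X ↘ (Spec (CommRingCat.of k))) 2
  obtain ⟨e⟩ := K802.HypCanon.nonempty_iso ι hι hdim d hd hω
  have hu : Fga.PicMon.mc (CohB1.tensorMod (CohB1.tensorMod (K802.HypCanon.O ι (n + 4 - d))
      (Coh.structureModule X)) ω) = Fga.PicMon.mc (K802.HypCanon.O ι n) := by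
    rw [Fga.PicMon.mc_tensor, Fga.PicMon.mc_tensor, Fga.PicMon.mc_one, mul_one, Fga.PicMon.mc_eq e,
      K802.HypCanon.mc_O, show (n + 4 - d + (d - 4) : ℤ) = n by ring]
  obtain ⟨κ⟩ := (Fga.PicMon.mc_eq_iff _ _).1 hu
  refine K802.CBTwist.backward k X hdim _ (K802.TwistP.isAmple_one ι) ω hω (Coh.structureModule X)
    (Coh.structureModule X) (K802.HypCanon.O ι (n + 4 - d)) Fdesc.LocGen.isInvertible_structureModule ⟨Ega2.Tens.runit _⟩
    (K802.HypCanon.isInvertible_O ι _) IP hfin hlci fun I' hI' σ hσ => ?_
  have hN : PicF.IsInvertible (CohB1.tensorMod (CohB1.tensorMod (K802.HypCanon.O ι (n + 4 - d))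
      (Coh.structureModule X)) ω) :=
    K802.TwistSES.isInvertible_of_iso κ.symm (K802.HypCanon.isInvertible_O ι n)
  have h1 := K802.ZeroIso.zeroScheme_comp_iso hN (K802.HypCanon.isInvertible_O ι n) σ κ
  rw [← h1] at hσ ⊢
  exact hCB I' hI' _ hσ

end Groth.Agent.S18048
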