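import Groth.Statements.S18049
import Mathlib.Tactic
-- import your own Groth.Agent.* helpers here

set_option autoImplicit false
open STCI

namespace Groth.Agent.S18049

/-- For natural numbers 0 < k < N such that k does not divide N, ⌊N/k⌋ ≤ (N - k)/gcd(k, N); stated here
in the equivalent cleared form ⌊N/k⌋ · gcd(k, N) ≤ N - k. -/
theorem result (k N : ℕ) (hk : 0 < k) (hkN : k < N) (hndvd : ¬ k ∣ N) :
    N / k * Nat.gcd k N ≤ N - k := by
  set g := Nat.gcd k N with hg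
  obtain ⟨a, ha⟩ : g ∣ k := Nat.gcd_dvd_left k N
  obtain ⟨b, hb⟩ : g ∣ N := Nat.gcd_dvd_right k N
  have hg0 : 0 < g := Nat.gcd_pos_of_pos_left N hk
  have hr : g ∣ N % k := (Nat.dvd_mod_iff ⟨a, ha⟩).2 ⟨b, hb⟩
  have hr0 : 0 < N % k := Nat.pos_of_ne_zero (fun h => hndvd (Nat.dvd_of_mod_eq_zero h))
  have hgr : g ≤ N % k := Nat.le_of_dvd hr0 hr
  have ha2 : 2 ≤ a := by
    rcases Nat.lt_or_ge a 2 with h | h
    · exfalso
      have h01 : a = 0 ∨ a = 1 := by omega
      rcases h01 with h0 | h1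
      · rw [h0, mul_zero] at ha; omega
      · apply hndvd; rw [ha, h1, mul_one]; exact ⟨b, hb⟩
    · exact h
  have hdm : k * (N / k) + N % k = N := Nat.div_add_mod N k
  have hq : 1 ≤ N / k := (Nat.one_le_div_iff hk).2 hkN.le
  obtain ⟨q, hq'⟩ : ∃ q, N / k = q + 1 := ⟨N / k - 1, by omega⟩
  rw [hq'] at hdm ⊢
  apply Nat.le_sub_of_add_le
  have hkg : 2 * g ≤ k := by
    calc 2 * g = g * 2 := by ring
      _ ≤ g * a := Nat.mul_le_mul_left g ha2
      _ = k := ha.symm
  have h3 : q * (2 * g) ≤ q * k := Nat.mul_le_mul_left q hkg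
  nlinarith [Nat.zero_le (q * g)]

end Groth.Agent.S18049
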