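import Groth.Statements.S18050
import Mathlib.Tactic
import Groth.Agent.S18049
-- import your own Groth.Agent.* helpers here

set_option autoImplicit false
open STCI

namespace Groth.Agent.S18050

open W4c5stcicurvesp3 in
theorem irem_shift (N k : ℕ) (h : N % k ≠ 0) : ∀ n, irem N k (n + 1) = irem k (N % k) n
  | 0 => by simp [irem]
  | 1 => by simp [irem, h]
  | (n + 2) => by
    have h1 := irem_shift N k h n
    have h2 := irem_shift N k h (n + 1)
    show (if irem N k (n + 2) = 0 then 0 else irem N k (n + 1) % irem N k (n + 2)) =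
      (if irem k (N % k) (n + 1) = 0 then 0 else irem k (N % k) n % irem k (N % k) (n + 1))
    rw [h1, show n + 2 = (n + 1) + 1 from rfl, h2]

open W4c5stcicurvesp3 in
theorem idiv_shift (N k : ℕ) (h : N % k ≠ 0) : ∀ n, 0 < n → idiv N k (n + 1) = idiv k (N % k) n
  | 0, h0 => absurd h0 (lt_irrefl 0)
  | 1, _ => by
    show (if irem N k 1 = 0 then 0 else irem N k 0 / irem N k 1) = k / (N % k)
    simp [irem, h]
  | (n + 2), _ => by
    have h1 := irem_shift N k h n
    have h2 := irem_shift N k h (n + 1)
    show (if irem N k (n + 2) = 0 then 0 else irem N k (n + 1) / irem N k (n + 2)) =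
      (if irem k (N % k) (n + 1) = 0 then 0 else irem k (N % k) n / irem k (N % k) (n + 1))
    rw [h1, show n + 2 = (n + 1) + 1 from rfl, h2]

open W4c5stcicurvesp3 in
theorem aux : ∀ (t k N : ℕ) (_ : 0 < k) (_ : k ≤ N) (_ : 0 < t)
    (_ : irem N k t = 0) (_ : ∀ i, 0 < i → i < t → irem N k i ≠ 0),
    (∑ i ∈ Finset.Icc 1 t, idiv N k i) * Nat.gcd k N ≤ N
  | 0, _, _, _, _, ht, _, _ => absurd ht (lt_irrefl 0)
  | 1, k, N, hk, hkN, _, hzero, _ => by
    have h0 : N % k = 0 := hzero
    have hd : k ∣ N := Nat.dvd_of_mod_eq_zero h0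
    simp only [Finset.Icc_self, Finset.sum_singleton]
    rw [Nat.gcd_eq_left hd]
    exact Nat.div_mul_le_self N k
  | (t + 2), k, N, hk, hkN, _, hzero, hmin => by
    have h0 : N % k ≠ 0 := hmin 1 (by omega) (by omega)
    have hlt : N % k < k := Nat.mod_lt _ hk
    have ih := aux (t + 1) (N % k) k (Nat.pos_of_ne_zero h0) hlt.le (by omega)
      (by rw [← irem_shift N k h0]; exact hzero)
      (fun i hi hit => by rw [← irem_shift N k h0]; exact hmin (i + 1) (by omega) (by omega))
    have hgcd : Nat.gcd (N % k) k = Nat.gcd k N := by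
      rw [← Nat.gcd_rec]
    rw [hgcd] at ih
    have hsum : (∑ i ∈ Finset.Icc 1 (t + 2), idiv N k i) =
        N / k + ∑ i ∈ Finset.Icc 1 (t + 1), idiv k (N % k) i := by
      have e : Finset.Icc 1 (t + 2) = insert 1 ((Finset.Icc 1 (t + 1)).map (addRightEmbedding 1)) := by
        ext x
        simp only [Finset.mem_Icc, Finset.mem_insert, Finset.mem_map, addRightEmbedding_apply]
        constructor
        · rintro ⟨h1, h2⟩
          rcases Nat.eq_or_lt_of_le h1 with h | h
          · exact Or.inl h.symm
          · exact Or.inr ⟨x - 1, ⟨by omega, by omega⟩, by omega⟩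
        · rintro (h | ⟨y, ⟨hy1, hy2⟩, rfl⟩) <;> omega
      rw [e, Finset.sum_insert, Finset.sum_map]
      · congr 1
        apply Finset.sum_congr rfl
        intro i hi
        rw [Finset.mem_Icc] at hi
        exact idiv_shift N k h0 i (by omega)
      · simp only [Finset.mem_map, Finset.mem_Icc, addRightEmbedding_apply, not_exists, not_and]
        intro x hx; omega
    have hkN' : k < N := by
      rcases Nat.lt_or_ge k N with h | h
      · exact h
      · exfalso; apply h0; rw [le_antisymm hkN h]; exact Nat.mod_self N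
    have h1 := Groth.Agent.S18049.result k N hk hkN' (fun hd => h0 (Nat.mod_eq_zero_of_dvd hd))
    rw [hsum, add_mul]
    omega


open W4c5stcicurvesp3 in
/-- Let k ≤ N be positive integers, let t be the least positive integer with rem_t(N, k) = 0, where
rem_0 = k, rem_1 = N mod k and rem_i is the remainder of rem_{i-2} by rem_{i-1} (iterated Euclidean
remainders), and let d_i be the corresponding iterated quotients (d_1 = ⌊N/k⌋, d_i =
⌊rem_{i-2}/rem_{i-1}⌋). Then d_1 + ⋯ + d_t ≤ N/gcd(k, N); stated in the cleared form (d_1 + ⋯ + d_t)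
· gcd(k, N) ≤ N. -/
theorem result (k N t : ℕ) (hk : 0 < k) (hkN : k ≤ N) (ht : 0 < t)
    (hzero : irem N k t = 0) (hmin : ∀ i, 0 < i → i < t → irem N k i ≠ 0) :
    (∑ i ∈ Finset.Icc 1 t, idiv N k i) * Nat.gcd k N ≤ N := by
  exact aux t k N hk hkN ht hzero hmin

end Groth.Agent.S18050
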