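import Groth.Statements.S18051
import Mathlib.Tactic
-- import your own Groth.Agent.* helpers here

set_option autoImplicit false
open STCI

namespace Groth.Agent.S18051

/-- the real-number inequality behind the three-step bound -/
theorem ineq (a b x y k : ℚ) (ha : 2 ≤ a) (hb : 1 ≤ b) (hy : 0 ≤ y) (hyx : y < x)
    (hk : k = b * x + y) (hb' : 2 ≤ b ∨ b = 1) :
    (k - x) / a + (x - y) / (a + b) + y / (a + b + 1) ≤ k ^ 2 / (a * k + x) := by
  have hx : 0 < x := lt_of_le_of_lt hy hyx
  have hk0 : 0 < k := by rw [hk]; positivity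
  have hak : 0 < a * k + x := by positivity
  have ha0 : 0 < a := by linarith
  have hab : 0 < a + b := by linarith
  have hab1 : 0 < a + b + 1 := by linarith
  have key : k ^ 2 / (a * k + x) - ((k - x) / a + (x - y) / (a + b) + y / (a + b + 1)) =
      (x * (k * ((a - 1) * (b - 1) - 1) + b * x) * (a + b + 1) + y * (a * (a * k + x))) /
        (a * (a * k + x) * (a + b) * (a + b + 1)) := by
    field_simp
    ring
  have hnum : 0 ≤ x * (k * ((a - 1) * (b - 1) - 1) + b * x) * (a + b + 1) + y * (a * (a * k + x)) := by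
    rcases hb' with h | h
    · have h1 : 0 ≤ (a - 1) * (b - 1) - 1 := by nlinarith
      have h2 : 0 ≤ k * ((a - 1) * (b - 1) - 1) + b * x := by positivity
      positivity
    · subst h
      have hkx : k = x + y := by rw [hk]; ring
      have e : x * (k * ((a - 1) * (1 - 1) - 1) + 1 * x) * (a + 1 + 1) + y * (a * (a * k + x)) =
          y * (a * (a * k + x) - x * (a + 2)) := by rw [hkx]; ring
      rw [e]
      apply mul_nonneg hy
      have hxk : x ≤ k := by linarith
      have : a * (a * k + x) - x * (a + 2) = a * a * k - 2 * x := by ring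
      rw [this]
      nlinarith [mul_le_mul ha ha (by norm_num) ha0.le, mul_nonneg (mul_nonneg ha0.le ha0.le) (sub_nonneg.2 hxk)]
  have : 0 ≤ k ^ 2 / (a * k + x) - ((k - x) / a + (x - y) / (a + b) + y / (a + b + 1)) := by
    rw [key]
    exact div_nonneg hnum (by positivity)
  linarith

open W4c5stcicurvesp3 in
theorem three (k N : ℕ) (hk : 0 < k) (hkN : 2 * k ≤ N)
    (h1 : irem N k 1 ≠ 0) (h2 : irem N k 2 ≠ 0) :
    ((irem N k 0 : ℚ) - irem N k 1) / (idiv N k 1)
      + ((irem N k 1 : ℚ) - irem N k 2) / ((idiv N k 1 : ℚ) + idiv N k 2)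
      + (irem N k 2 : ℚ) / ((idiv N k 1 : ℚ) + idiv N k 2 + 1)
      ≤ (k : ℚ) ^ 2 / N := by
  have e0 : irem N k 0 = k := rfl
  have e1 : irem N k 1 = N % k := rfl
  have e1' : N % k ≠ 0 := h1
  have e2 : irem N k 2 = k % (N % k) := by
    show (if irem N k 1 = 0 then 0 else irem N k 0 % irem N k 1) = _
    rw [if_neg h1]; rfl
  have f1 : idiv N k 1 = N / k := rfl
  have f2 : idiv N k 2 = k / (N % k) := by
    show (if irem N k 1 = 0 then 0 else irem N k 0 / irem N k 1) = _
    rw [if_neg h1]; rfl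
  rw [e2] at h2
  rw [e0, e1, e2, f1, f2]
  set x := N % k with hx
  set a := N / k with ha
  have hN : k * a + x = N := Nat.div_add_mod N k
  have hK : x * (k / x) + k % x = k := Nat.div_add_mod k x
  set b := k / x with hb
  set y := k % x with hy
  have hx0 : 0 < x := Nat.pos_of_ne_zero e1'
  have hxk : x < k := Nat.mod_lt _ hk
  have hyx : y < x := Nat.mod_lt _ hx0
  have ha2 : 2 ≤ a := (Nat.le_div_iff_mul_le hk).2 hkN
  have hb1 : 1 ≤ b := (Nat.one_le_div_iff hx0).2 hxk.le
  have hKq : (k : ℚ) = b * x + y := by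
    have h : (x : ℚ) * b + y = k := by exact_mod_cast hK
    linear_combination -h
  have := ineq (a : ℚ) (b : ℚ) (x : ℚ) (y : ℚ) (k : ℚ) (by exact_mod_cast ha2) (by exact_mod_cast hb1)
    (by positivity) (by exact_mod_cast hyx) hKq (by
      rcases Nat.lt_or_ge b 2 with h | h
      · right; have : b = 1 := by omega
        rw [this]; norm_num
      · left; exact_mod_cast h)
  have hNq : (N : ℚ) = a * k + x := by rw [← hN]; push_cast; ring
  rw [hNq]
  exact this


open W4c5stcicurvesp3 in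
/-- Let k ≤ N/2 be positive integers and let r_i = rem_i(N, k), d_i = div_i(N, k) be the iterated
Euclidean remainders and quotients of (N, k) (r_0 = k, r_1 = N mod k, r_2 = r_0 mod r_1, d_1 =
⌊N/k⌋, d_2 = ⌊r_0/r_1⌋). If the least positive t with r_t = 0 satisfies t ≥ 3, i.e. r_1 ≠ 0 and r_2
≠ 0, then (r_0 - r_1)/d_1 + (r_1 - r_2)/(d_1 + d_2) + r_2/(d_1 + d_2 + 1) ≤ k²/N (in ℚ). -/
theorem result (k N : ℕ) (hk : 0 < k) (hkN : 2 * k ≤ N)
    (h1 : irem N k 1 ≠ 0) (h2 : irem N k 2 ≠ 0) :
    ((irem N k 0 : ℚ) - irem N k 1) / (idiv N k 1)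
      + ((irem N k 1 : ℚ) - irem N k 2) / ((idiv N k 1 : ℚ) + idiv N k 2)
      + (irem N k 2 : ℚ) / ((idiv N k 1 : ℚ) + idiv N k 2 + 1)
      ≤ (k : ℚ) ^ 2 / N := by
  exact three k N hk hkN h1 h2

end Groth.Agent.S18051
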