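import Groth.Statements.S18052
import Mathlib.Tactic
import Groth.Agent.S18051
-- import your own Groth.Agent.* helpers here

set_option autoImplicit false
open STCI

namespace Groth.Agent.S18052

open W4c5stcicurvesp3 in
/-- Let k ≤ N/2 be positive integers, let r_i = rem_i(N, k) and d_i = div_i(N, k) be the iterated
Euclidean remainders and quotients of (N, k) (r_0 = k, r_1 = N mod k, …; d_1 = ⌊N/k⌋, d_i =
⌊r_{i-2}/r_{i-1}⌋), and let t be the least positive integer with r_t = 0. Then the sum over i = 0,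
…, t - 1 of (r_i - r_{i+1})/(d_1 + ⋯ + d_{i+1}) is at most k²/N (in ℚ). -/
theorem result (k N t : ℕ) (hk : 0 < k) (hkN : 2 * k ≤ N) (ht : 0 < t)
    (hzero : irem N k t = 0) (hmin : ∀ i, 0 < i → i < t → irem N k i ≠ 0) :
    ∑ i ∈ Finset.range t, ((irem N k i : ℚ) - irem N k (i + 1)) / (∑ j ∈ Finset.Icc 1 (i + 1), (idiv N k j : ℚ))
      ≤ (k : ℚ) ^ 2 / N := by
  obtain ⟨t, rfl⟩ : ∃ s, t = s + 1 := ⟨t - 1, by omega⟩
  have f1 : idiv N k 1 = N / k := rfl
  have hN : k * (N / k) + N % k = N := Nat.div_add_mod N k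
  have ha2 : 2 ≤ N / k := (Nat.le_div_iff_mul_le hk).2 hkN
  have hk0 : (0 : ℚ) < k := by exact_mod_cast hk
  rcases Nat.eq_zero_or_pos t with rfl | ht1
  · have h0 : N % k = 0 := hzero
    rw [h0, add_zero] at hN
    have ha0 : (0 : ℚ) < ((N / k : ℕ) : ℚ) := by exact_mod_cast (by omega : 0 < N / k)
    simp only [zero_add, Finset.range_one, Finset.sum_singleton, Finset.Icc_self]
    have e0 : irem N k 0 = k := rfl
    have e1 : irem N k 1 = 0 := hzero
    rw [e0, e1, f1]
    have : (N : ℚ) = k * ((N / k : ℕ) : ℚ) := by exact_mod_cast hN.symm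
    rw [show (k : ℚ) ^ 2 / N = k ^ 2 / (k * ((N / k : ℕ) : ℚ)) by rw [← this]]
    apply le_of_eq
    field_simp
    push_cast
    ring
  · obtain ⟨t, rfl⟩ : ∃ s, t = s + 1 := ⟨t - 1, by omega⟩
    have h1 : irem N k 1 ≠ 0 := hmin 1 (by omega) (by omega)
    have e0 : irem N k 0 = k := rfl
    have e1 : irem N k 1 = N % k := rfl
    have e1' : N % k ≠ 0 := h1
    have e2 : irem N k 2 = k % (N % k) := by
      show (if irem N k 1 = 0 then 0 else irem N k 0 % irem N k 1) = _
      rw [if_neg h1]; rfl
    have f2 : idiv N k 2 = k / (N % k) := by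
      show (if irem N k 1 = 0 then 0 else irem N k 0 / irem N k 1) = _
      rw [if_neg h1]; rfl
    set x := N % k with hx
    set a := N / k with ha
    have hK : x * (k / x) + k % x = k := Nat.div_add_mod k x
    set b := k / x with hb
    set y := k % x with hy
    have hx0 : 0 < x := Nat.pos_of_ne_zero e1'
    have hxk : x < k := Nat.mod_lt _ hk
    have hyx : y < x := Nat.mod_lt _ hx0
    have hb1 : 1 ≤ b := (Nat.one_le_div_iff hx0).2 hxk.le
    have hKq : (k : ℚ) = b * x + y := by
      have h : (x : ℚ) * b + y = k := by exact_mod_cast hK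
      linear_combination -h
    have key := Groth.Agent.S18051.ineq (a : ℚ) (b : ℚ) (x : ℚ) (y : ℚ) (k : ℚ) (by exact_mod_cast ha2)
      (by exact_mod_cast hb1) (by positivity) (by exact_mod_cast hyx) hKq (by
        rcases Nat.lt_or_ge b 2 with h | h
        · right; have : b = 1 := by omega
          rw [this]; norm_num
        · left; exact_mod_cast h)
    have hNq : (N : ℚ) = a * k + x := by rw [← hN]; push_cast; ring
    rw [hNq]
    refine le_trans ?_ key
    have hD1 : (∑ j ∈ Finset.Icc 1 (0 + 1), (idiv N k j : ℚ)) = a := by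
      simp [f1]
    have hD2 : (∑ j ∈ Finset.Icc 1 (1 + 1), (idiv N k j : ℚ)) = a + b := by
      rw [Finset.sum_Icc_succ_top (by norm_num)]
      simp [f1, f2]
    rw [Finset.sum_range_succ', Finset.sum_range_succ', hD1]
    simp only [zero_add]
    rw [show (1 + 1 : ℕ) = 2 from rfl] at *
    rw [hD2, e0, e1, e2]
    have tail : ∑ i ∈ Finset.range t, ((irem N k (i + 1 + 1) : ℚ) - irem N k (i + 1 + 1 + 1)) /
        (∑ j ∈ Finset.Icc 1 (i + 1 + 1 + 1), (idiv N k j : ℚ)) ≤ (y : ℚ) / (a + b + 1) := by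
      have hab1 : (0 : ℚ) < (a : ℚ) + b + 1 := by positivity
      have step : ∀ i ∈ Finset.range t, ((irem N k (i + 1 + 1) : ℚ) - irem N k (i + 1 + 1 + 1)) /
          (∑ j ∈ Finset.Icc 1 (i + 1 + 1 + 1), (idiv N k j : ℚ)) ≤
          ((irem N k (i + 1 + 1) : ℚ) / (a + b + 1) - irem N k (i + 1 + 1 + 1) / (a + b + 1)) := by
        intro i hi
        rw [Finset.mem_range] at hi
        have hle : irem N k (i + 1 + 1 + 1) ≤ irem N k (i + 1 + 1) := by
          show (if irem N k (i + 2) = 0 then 0 else irem N k (i + 1) % irem N k (i + 2)) ≤ irem N k (i + 2)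
          split_ifs with h
          · exact Nat.zero_le _
          · exact (Nat.mod_lt _ (Nat.pos_of_ne_zero h)).le
        rw [← sub_div]
        have h2 : irem N k 2 ≠ 0 := hmin 2 (by omega) (by omega)
        have hd3 : 1 ≤ idiv N k 3 := by
          show 1 ≤ (if irem N k 2 = 0 then 0 else irem N k 1 / irem N k 2)
          rw [if_neg h2, e1, e2]
          rw [e2] at h2
          exact (Nat.one_le_div_iff (Nat.pos_of_ne_zero h2)).2 hyx.le
        have hD : (a : ℚ) + b + 1 ≤ ∑ j ∈ Finset.Icc 1 (i + 1 + 1 + 1), (idiv N k j : ℚ) := by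
          have : (∑ j ∈ Finset.Icc 1 3, (idiv N k j : ℚ)) ≤ ∑ j ∈ Finset.Icc 1 (i + 1 + 1 + 1), (idiv N k j : ℚ) := by
            apply Finset.sum_le_sum_of_subset_of_nonneg
            · apply Finset.Icc_subset_Icc_right; omega
            · intros; positivity
          refine le_trans ?_ this
          rw [Finset.sum_Icc_succ_top (by norm_num), hD2]
          have : (1 : ℚ) ≤ idiv N k 3 := by exact_mod_cast hd3
          linarith
        apply div_le_div_of_nonneg_left _ hab1 hD
        have : (irem N k (i + 1 + 1 + 1) : ℚ) ≤ irem N k (i + 1 + 1) := by exact_mod_cast hle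
        linarith
      refine le_trans (Finset.sum_le_sum step) ?_
      rw [Finset.sum_range_sub' (fun i => (irem N k (i + 1 + 1) : ℚ) / (a + b + 1)) t]
      have hz : irem N k (t + 1 + 1) = 0 := hzero
      simp only [zero_add]
      rw [hz, e2]
      simp
    linarith

end Groth.Agent.S18052
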