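import Groth.Statements.S18053
import Mathlib.Tactic
-- import your own Groth.Agent.* helpers here

set_option autoImplicit false
open STCI

namespace Groth.Agent.S18053

/-- Let (p_k)_{k ≥ 1} be a sequence of nonnegative integers and n a nonnegative integer such that (i)
p_1 ≤ 9 - (2/5)n, (ii) p_1 ≥ p_2 ≥ p_3 ≥ ⋯, (iii) Σ_k p_k ≤ 19 - n, and (iv) n/4 + Σ_{k ≥ 1}
p_k/(k(k+1)) ≥ 6. Then n = 0 and (p_k) is one of (9, 8, 2), (9, 9), (9, 9, 1) (followed by zeros).
Here the sequence is indexed from 0 (so p 0 is p_1 and the weight of p k is 1/((k+1)(k+2))), (iii)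
is stated for every partial sum, and the series in (iv) is the real sum Σ' over all k. -/
theorem result (p : ℕ → ℕ) (n : ℕ)
    (h1 : (p 0 : ℝ) ≤ 9 - (2 / 5 : ℝ) * n) (h2 : Antitone p)
    (h3 : ∀ m : ℕ, ((∑ k ∈ Finset.range m, p k : ℕ) : ℝ) ≤ 19 - (n : ℝ))
    (h4 : (6 : ℝ) ≤ (n : ℝ) / 4 + ∑' k : ℕ, (p k : ℝ) / (((k : ℝ) + 1) * ((k : ℝ) + 2))) :
    n = 0 ∧ (p = (fun k => if k = 0 then 9 else if k = 1 then 8 else if k = 2 then 2 else 0)
      ∨ p = (fun k => if k = 0 then 9 else if k = 1 then 9 else 0)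
      ∨ p = (fun k => if k = 0 then 9 else if k = 1 then 9 else if k = 2 then 1 else 0)) := by
  -- the sequence vanishes from index 19 on
  have hsumN : ∀ m : ℕ, (∑ k ∈ Finset.range m, p k) + n ≤ 19 := by
    intro m
    have := h3 m
    have h : (((∑ k ∈ Finset.range m, p k) + n : ℕ) : ℝ) ≤ (19 : ℕ) := by push_cast at this ⊢; linarith
    exact_mod_cast h
  have hz19 : p 19 = 0 := by
    have h20 := hsumN 20
    have hle : ∑ k ∈ Finset.range 20, p 19 ≤ ∑ k ∈ Finset.range 20, p k :=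
      Finset.sum_le_sum (fun k hk => h2 (by rw [Finset.mem_range] at hk; omega))
    rw [Finset.sum_const, Finset.card_range, smul_eq_mul] at hle
    omega
  have hz : ∀ k, 19 ≤ k → p k = 0 := fun k hk => Nat.le_zero.1 (hz19 ▸ h2 hk)
  have htsum : ∑' k : ℕ, (p k : ℝ) / (((k : ℝ) + 1) * ((k : ℝ) + 2)) =
      ∑ k ∈ Finset.range 19, (p k : ℝ) / (((k : ℝ) + 1) * ((k : ℝ) + 2)) := by
    apply tsum_eq_sum
    intro k hk
    rw [Finset.mem_range, not_lt] at hk
    rw [hz k hk]; simp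
  rw [htsum] at h4
  -- split off the first three terms
  have hsplit : ∀ f : ℕ → ℝ, ∑ k ∈ Finset.range 19, f k = f 0 + f 1 + f 2 + ∑ k ∈ Finset.range 16, f (k + 3) := by
    intro f
    rw [show (19 : ℕ) = 16 + 1 + 1 + 1 from rfl, Finset.sum_range_succ', Finset.sum_range_succ', Finset.sum_range_succ']
    simp only [add_assoc, zero_add]
    norm_num
    ring
  have hsplitN : ∑ k ∈ Finset.range 19, p k = p 0 + p 1 + p 2 + ∑ k ∈ Finset.range 16, p (k + 3) := by
    rw [show (19 : ℕ) = 16 + 1 + 1 + 1 from rfl, Finset.sum_range_succ', Finset.sum_range_succ', Finset.sum_range_succ']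
    simp only [add_assoc, zero_add]
    norm_num
    ring
  set D := ∑ k ∈ Finset.range 16, p (k + 3) with hD
  have htail : ∑ k ∈ Finset.range 16, (p (k + 3) : ℝ) / ((((k + 3 : ℕ) : ℝ) + 1) * (((k + 3 : ℕ) : ℝ) + 2)) ≤ (D : ℝ) / 20 := by
    rw [hD]; push_cast
    rw [Finset.sum_div]
    apply Finset.sum_le_sum
    intro k _
    apply div_le_div_of_nonneg_left (Nat.cast_nonneg _) (by norm_num)
    have h0k : (0 : ℝ) ≤ k := Nat.cast_nonneg _
    calc (20 : ℝ) = 4 * 5 := by norm_num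
      _ ≤ ((k : ℝ) + 3 + 1) * ((k : ℝ) + 3 + 2) :=
        mul_le_mul (by linarith) (by linarith) (by norm_num) (by linarith)
  rw [hsplit] at h4
  have h5 : (6 : ℝ) ≤ n / 4 + (p 0 / 2 + p 1 / 6 + p 2 / 12 + D / 20) := by
    refine le_trans h4 ?_
    norm_num at htail ⊢
    linarith
  have hD3 : p 3 ≤ D := by
    rw [hD]
    exact Finset.single_le_sum (f := fun k => p (k + 3)) (fun _ _ => Nat.zero_le _) (Finset.mem_range.2 (by norm_num : 0 < 16))
  have h8 := hsumN 19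
  rw [hsplitN] at h8
  clear hsplitN hD htail hsplit h4 htsum hz
  clear_value D
  have h6 : 360 ≤ 15 * n + 30 * p 0 + 10 * p 1 + 5 * p 2 + 3 * D := by
    have : ((360 : ℕ) : ℝ) ≤ ((15 * n + 30 * p 0 + 10 * p 1 + 5 * p 2 + 3 * D : ℕ) : ℝ) := by
      push_cast; linarith
    exact Nat.cast_le.1 this
  have h7 : 5 * p 0 + 2 * n ≤ 45 := by
    have : ((5 * p 0 + 2 * n : ℕ) : ℝ) ≤ ((45 : ℕ) : ℝ) := by push_cast; linarith
    exact Nat.cast_le.1 this
  have h01 : p 1 ≤ p 0 := h2 (by norm_num)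
  have h12 : p 2 ≤ p 1 := h2 (by norm_num)
  have h23 : p 3 ≤ p 2 := h2 (by norm_num)
  have hge3 : ∀ k, 3 ≤ k → p k ≤ p 3 := fun k hk => h2 hk
  have hn0 : n = 0 := by omega
  have hA : p 0 = 9 := by omega
  refine ⟨hn0, ?_⟩
  have hcases : (p 1 = 8 ∧ p 2 = 2 ∧ p 3 = 0) ∨ (p 1 = 9 ∧ p 2 = 0 ∧ p 3 = 0) ∨ (p 1 = 9 ∧ p 2 = 1 ∧ p 3 = 0) := by omega
  rcases hcases with ⟨a1, a2, a3⟩ | ⟨a1, a2, a3⟩ | ⟨a1, a2, a3⟩
  · left; funext k
    match k with
    | 0 => simpa using hA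
    | 1 => simpa using a1
    | 2 => simpa using a2
    | (k + 3) => have := hge3 (k + 3) (by omega); simp; omega
  · right; left; funext k
    match k with
    | 0 => simpa using hA
    | 1 => simpa using a1
    | 2 => simpa using a2
    | (k + 3) => have := hge3 (k + 3) (by omega); simp; omega
  · right; right; funext k
    match k with
    | 0 => simpa using hA
    | 1 => simpa using a1
    | 2 => simpa using a2
    | (k + 3) => have := hge3 (k + 3) (by omega); simp; omega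

end Groth.Agent.S18053
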