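import Groth.Statements.S18054
import Mathlib.Tactic
-- import your own Groth.Agent.* helpers here

set_option autoImplicit false
open STCI

namespace Groth.Agent.S18054

/-- Let s, t, d, g be integers with t ≥ s ≥ 4, d ≥ 1, g ≥ 0 and d dividing st; put n = st/d and assume n
≥ 2; put r = d[n(s - 4) + t] + (2 - 2g)n and assume r ≤ (s/3)(2s² - 6s + 7) - 1. Then d ≤ g + 3.
(The bound is written cleared of the denominator 3; s(2s² - 6s + 7) is always divisible by 3, so
this is the same condition.) -/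
theorem result (s t d g n : ℤ) (hs : 4 ≤ s) (hst : s ≤ t) (hd : 1 ≤ d) (hg : 0 ≤ g)
    (hn : s * t = d * n) (hn2 : 2 ≤ n)
    (hr : 3 * (d * (n * (s - 4) + t) + (2 - 2 * g) * n) ≤ s * (2 * s ^ 2 - 6 * s + 7) - 3) :
    d ≤ g + 3 := by
  by_contra hcon
  push Not at hcon
  -- so g ≤ d - 4, d ≥ 4
  have hgd : g ≤ d - 4 := by omega
  have hd4 : 4 ≤ d := by omega
  have ht : 4 ≤ t := le_trans hs hst
  -- the quadratic Q
  set Q := d * s ^ 2 - 6 * d * s + d ^ 2 + 10 * s with hQ
  have hQpos : 0 < Q := by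
    rw [hQ]
    rcases le_or_gt 6 s with h | h
    · nlinarith [mul_nonneg (mul_nonneg (by linarith : (0 : ℤ) ≤ d) (by linarith : (0 : ℤ) ≤ s)) (by linarith : (0 : ℤ) ≤ s - 6)]
    · interval_cases s
      · nlinarith [sq_nonneg (d - 4)]
      · nlinarith [sq_nonneg (2 * d - 5)]
  -- the lower bound for d * r
  have h1 : d * (d * (n * (s - 4) + t) + (2 - 2 * g) * n) = t * (d * (s * (s - 4)) + d ^ 2 + (2 - 2 * g) * s) := by
    linear_combination (-(d * (s - 4)) - (2 - 2 * g)) * hn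
  have h2 : t * Q ≤ d * (d * (n * (s - 4) + t) + (2 - 2 * g) * n) := by
    rw [h1]
    apply mul_le_mul_of_nonneg_left _ (by linarith)
    rw [hQ]
    nlinarith [mul_nonneg (by linarith : (0 : ℤ) ≤ s) (by linarith : (0 : ℤ) ≤ d - 4 - g)]
  have h3 : 3 * (t * Q) ≤ d * (s * (2 * s ^ 2 - 6 * s + 7) - 3) := by
    have := mul_le_mul_of_nonneg_left hr (by linarith : (0 : ℤ) ≤ d)
    linarith
  have h4 : s * Q ≤ t * Q := mul_le_mul_of_nonneg_right hst hQpos.le
  have h5 : s * (3 * d ^ 2 + d * (s ^ 2 - 12 * s - 7) + 30 * s) ≤ - 3 * d := by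
    have : 3 * (s * Q) ≤ d * (s * (2 * s ^ 2 - 6 * s + 7) - 3) := by linarith
    rw [hQ] at this
    linarith
  rcases le_or_gt 13 s with h | h
  · have h6 : 0 ≤ s ^ 2 - 12 * s - 7 := by nlinarith
    have h7 : 0 ≤ 3 * d ^ 2 + d * (s ^ 2 - 12 * s - 7) + 30 * s := by positivity
    have h8 := mul_nonneg (by linarith : (0 : ℤ) ≤ s) h7
    linarith
  · have hcase : s = 4 ∨ s = 5 ∨ s = 6 ∨ s = 7 ∨ s = 8 ∨ s = 9 ∨ s = 10 ∨ s = 11 ∨ s = 12 := by omega
    rcases hcase with rfl | rfl | rfl | rfl | rfl | rfl | rfl | rfl | rfl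
    · -- s = 4
      have h6 : t * (d ^ 2 - 8 * d + 40) ≤ 19 * d := by
        rw [hQ] at h3; nlinarith
      have h7 : d ^ 2 - 13 * d + 40 < 0 := by nlinarith
      have hd5 : 5 < d := by nlinarith
      have hd8 : d < 8 := by nlinarith
      have hd67 : d = 6 ∨ d = 7 := by omega
      rcases hd67 with rfl | rfl
      · have : t ≤ 4 := by omega
        have : t = 4 := by omega
        subst this; omega
      · have : t ≤ 4 := by omega
        have : t = 4 := by omega
        subst this; omega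
    all_goals nlinarith [sq_nonneg (6 * d - 42), sq_nonneg (6 * d - 43), sq_nonneg (6 * d - 39), sq_nonneg (6 * d - 34),
      sq_nonneg (6 * d - 27), sq_nonneg (6 * d - 18), sq_nonneg (6 * d - 7)]

end Groth.Agent.S18054
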