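import Groth.Statements.S18055
import Mathlib.Tactic
-- import your own Groth.Agent.* helpers here

set_option autoImplicit false
open STCI

namespace Groth.Agent.S18055

/-- Let d ≥ 1, g ≥ 0 and 1 ≤ s ≤ t be integers with d dividing st, put n = st/d and r = d[n(s - 4) + t]
+ (2 - 2g)n, and assume n ≥ 2, r > 0 and (n - 1) divides r. Then s < 2d² and t < 2d⁴. This is the
statement about the degree data (d, g the degree and genus of the curve, s ≤ t the degrees of the
two surfaces) to which the published proof reduces the degree bound: there the divisibility and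
positivity express that r/(n - 1), the common value of the type numbers of the pair, is a positive
integer; the geometric hypotheses themselves are not part of this row. -/
theorem result (d g s t n : ℤ) (hd : 1 ≤ d) (hg : 0 ≤ g) (hs : 1 ≤ s) (hst : s ≤ t)
    (hn : s * t = d * n) (hn2 : 2 ≤ n)
    (hpos : 0 < d * (n * (s - 4) + t) + (2 - 2 * g) * n)
    (hdvd : (n - 1) ∣ d * (n * (s - 4) + t) + (2 - 2 * g) * n) :
    s < 2 * d ^ 2 ∧ t < 2 * d ^ 4 := by
  set r := d * (n * (s - 4) + t) + (2 - 2 * g) * n with hr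
  have ht : 1 ≤ t := le_trans hs hst
  set u := d * (s - 4) + 2 - 2 * g with hu
  have hrn : r = n * u + d * t := by rw [hr, hu]; ring
  have hdt : 0 < d * t := mul_pos (by linarith) (by linarith)
  -- u + dt is positive and divisible by n - 1
  have hdvd' : (n - 1) ∣ u + d * t := by
    have : u + d * t = r - (n - 1) * u := by rw [hrn]; ring
    rw [this]
    exact dvd_sub hdvd (Dvd.intro _ rfl)
  have hpos' : 0 < u + d * t := by
    by_contra hcon
    push Not at hcon
    have h1 : n * (u + d * t) ≤ 0 := mul_nonpos_of_nonneg_of_nonpos (by linarith) hcon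
    have h2 : 0 < (n - 1) * (d * t) := mul_pos (by linarith) hdt
    have h3 : n * (u + d * t) = r + (n - 1) * (d * t) := by rw [hrn]; ring
    linarith
  have hle : n - 1 ≤ u + d * t := Int.le_of_dvd hpos' hdvd'
  have hu' : u ≤ d * (s - 4) + 2 := by rw [hu]; linarith
  -- st ≤ d²(s+t-4) + 3d
  have h1 : s * t ≤ d ^ 2 * (s + t - 4) + 3 * d := by
    have : d * (n - 1) ≤ d * (d * (s - 4) + 2 + d * t) := mul_le_mul_of_nonneg_left (by linarith) (by linarith)
    rw [hn]; linarith
  have hs2 : s < 2 * d ^ 2 := by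
    by_contra hcon
    push Not at hcon
    have h2 : d ^ 2 ≤ s - d ^ 2 := by linarith
    have h3 : d ^ 2 ≤ t - d ^ 2 := by linarith
    have h4 : d ^ 2 * d ^ 2 ≤ (s - d ^ 2) * (t - d ^ 2) := mul_le_mul h2 h3 (by positivity) (by nlinarith)
    nlinarith
  refine ⟨hs2, ?_⟩
  -- write u + dt = c (n - 1)
  obtain ⟨c, hc⟩ := hdvd'
  have h5 : (n - 1) * (c * s - d ^ 2) = s * u + d ^ 2 := by
    have e : s * (u + d * t) = s * ((n - 1) * c) := by rw [hc]
    linear_combination (-1 : ℤ) * e + d * hn
  have h6 : 0 < s * u + d ^ 2 := by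
    have e : t * (s * u + d ^ 2) = d * r := by rw [hrn]; linear_combination u * hn
    have : 0 < t * (s * u + d ^ 2) := by rw [e]; exact mul_pos (by linarith) hpos
    exact pos_of_mul_pos_right this (by linarith)
  have h7 : 0 < c * s - d ^ 2 := by
    rw [← h5] at h6
    exact pos_of_mul_pos_right h6 (by linarith)
  have h8 : n - 1 ≤ s * u + d ^ 2 := by
    rw [← h5]
    nlinarith
  have h9 : n - 1 ≤ s * (d * (s - 4) + 2) + d ^ 2 :=
    le_trans h8 (by linarith [mul_le_mul_of_nonneg_left hu' (by linarith : (0 : ℤ) ≤ s)])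
  have h10 : s * t ≤ d * (1 + s * (d * (s - 4) + 2) + d ^ 2) := by
    rw [hn]; apply mul_le_mul_of_nonneg_left _ (by linarith); linarith
  have h11 : d * (1 + s * (d * (s - 4) + 2) + d ^ 2) < s * (2 * d ^ 4) := by
    have k1 : 0 ≤ d ^ 2 * ((s - 1) * (2 * d ^ 2 - 1 - s)) := by
      apply mul_nonneg (by positivity)
      exact mul_nonneg (by linarith) (by linarith)
    have k2 : 0 ≤ (s - 1) * (d * (4 * d - 2)) :=
      mul_nonneg (by linarith) (mul_nonneg (by linarith) (by linarith))
    have k3 : 0 < d * (d ^ 2 * (2 * d - 1) + 3 * (d - 1)) := by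
      apply mul_pos (by linarith)
      have : 0 < d ^ 2 * (2 * d - 1) := mul_pos (by positivity) (by linarith)
      linarith
    nlinarith
  have h12 : s * t < s * (2 * d ^ 4) := lt_of_le_of_lt h10 h11
  exact lt_of_mul_lt_mul_left h12 (by linarith)

end Groth.Agent.S18055
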