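import Groth.Statements.S18056
import Groth.Agent.STCI.K945.ArtinFS
-- import your own Groth.Agent.* helpers here

set_option autoImplicit false
universe u v
open STCI

namespace Groth.Agent.S18056

/-- Let A → B be a homomorphism of Artinian local rings that is flat and formally smooth, where A has a
subring that is a field. Then A and B have the same length, each as a module over itself. -/
theorem result (A : Type u) (B : Type v) [CommRing A] [CommRing B]
    [IsLocalRing A] [IsLocalRing B] [IsArtinianRing A] [IsArtinianRing B] [Algebra A B]
    [Module.Flat A B] [Algebra.FormallySmooth A B] (hK : ∃ K : Subring A, IsField K) :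
    Module.length A A = Module.length B B := by
  have : IsLocalRing (ULift.{v} A) := IsLocalRing.of_surjective' (ULift.ringEquiv (R := A)).symm.toRingHom
    (ULift.ringEquiv (R := A)).symm.surjective
  have : IsLocalRing (ULift.{u} B) := IsLocalRing.of_surjective' (ULift.ringEquiv (R := B)).symm.toRingHom
    (ULift.ringEquiv (R := B)).symm.surjective
  have : IsArtinianRing (ULift.{v} A) := (ULift.ringEquiv (R := A)).symm.isArtinianRing
  have : IsArtinianRing (ULift.{u} B) := (ULift.ringEquiv (R := B)).symm.isArtinianRing
  have : Algebra.FormallySmooth A (ULift.{u} B) :=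
    Algebra.FormallySmooth.of_equiv (ULift.algEquiv (R := A) (A := B)).symm
  let _ : Algebra (ULift.{v} A) A := ULift.algebra' A A
  let _ : Algebra (ULift.{v} A) (ULift.{u} B) := ULift.algebra' A (ULift.{u} B)
  let e : ULift.{v} A ≃ₐ[ULift.{v} A] A := AlgEquiv.ofRingEquiv (f := ULift.ringEquiv) (fun _ => rfl)
  have : Algebra.FormallySmooth (ULift.{v} A) A := Algebra.FormallySmooth.of_equiv e
  have : IsScalarTower (ULift.{v} A) A (ULift.{u} B) := IsScalarTower.of_algebraMap_eq (fun _ => rfl)
  have : Algebra.FormallySmooth (ULift.{v} A) (ULift.{u} B) := Algebra.FormallySmooth.comp (ULift.{v} A) A (ULift.{u} B)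
  have : Module.Flat A (ULift.{u} B) := Module.Flat.of_linearEquiv (ULift.moduleEquiv (R := A) (M := B))
  have : Module.Flat (ULift.{v} A) A := Module.Flat.of_linearEquiv e.symm.toLinearEquiv
  have : Module.Flat (ULift.{v} A) (ULift.{u} B) := Module.Flat.trans (ULift.{v} A) A (ULift.{u} B)
  have h := K945.ArtinFS.length_eq (ULift.{v} A) (ULift.{u} B)
  have hA : Module.length A A = Module.length (ULift.{v} A) (ULift.{v} A) := by
    rw [← Module.length_eq_of_surjective (S := A) (R := ULift.{v} A) (M := ULift.{v} A)
      (ULift.ringEquiv (R := A)).symm.surjective]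
    exact (ULift.moduleEquiv (R := A) (M := A)).symm.length_eq
  have hB : Module.length B B = Module.length (ULift.{u} B) (ULift.{u} B) := by
    rw [← Module.length_eq_of_surjective (S := B) (R := ULift.{u} B) (M := ULift.{u} B)
      (ULift.ringEquiv (R := B)).symm.surjective]
    exact (ULift.moduleEquiv (R := B) (M := B)).symm.length_eq
  rw [hA, hB, h]

end Groth.Agent.S18056
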