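import Groth.Statements.S18058
import Groth.Agent.STCI.K945.PicHyp

set_option autoImplicit false
universe u
open STCI

namespace Groth.Agent.S18058

open AlgebraicGeometry CategoryTheory in
/-- Let k be an algebraically closed field (any characteristic) and S ⊂ P^3_k a normal surface, i.e. an
integral, normal closed subscheme of dimension 2. Then Pic(S)/Pic(P^3) is torsion-free: if L is an
invertible O_S-module and m ≥ 1 is such that L^{⊗m} ≅ O_S(a) for some integer a, then L ≅ O_S(b) for
some integer b. Here O_S(a) denotes the pullback to S of the twisting sheaf O(a) of P^3, and the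
image of Pic(P^3) in Pic(S) is written as the classes of these O_S(a). -/
theorem result (k : Type u) [Field k] [IsAlgClosed k]
    (S : Scheme.{u}) (i : S ⟶ CohB1.ProjSpace 3 k) [IsClosedImmersion i] [AlgebraicGeometry.IsIntegral S]
    (hnorm : Pi1.IsNormalScheme S) (hdim : topologicalKrullDim ↥S = 2)
    (L : S.Modules) (hL : PicF.IsInvertible L) (m : ℕ) (hm : 0 < m) (a : ℤ)
    (hma : Nonempty (CohB1.tensorPow L m ≅ (Scheme.Modules.pullback i).obj (Twist.twistProjSpace 3 k a))) :
    ∃ b : ℤ, Nonempty (L ≅ (Scheme.Modules.pullback i).obj (Twist.twistProjSpace 3 k b)) := by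
  exact K945.PicHyp.main (n := 2) le_rfl i hnorm hdim L hL m hm a hma

end Groth.Agent.S18058
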