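import Groth.Statements.S18059
import Groth.Agent.STCI.K945.CutGeo

set_option autoImplicit false
universe u
open STCI

namespace Groth.Agent.S18059

open AlgebraicGeometry CategoryTheory CategoryTheory.Limits in
/-- Let k be an algebraically closed field and let C, S, T ⊂ P^3_k be a curve and two surfaces, i.e.
integral closed subschemes of dimensions 1, 2 and 2, such that C = S ∩ T as sets. Assume that C does
not meet the singular locus of S: the local ring of S at each of its points lying on C is regular.
Then there is a surface T' ⊂ P^3_k (an integral closed subscheme of dimension 2) with C = S ∩ T'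
scheme-theoretically: the embedding of C factors through an isomorphism of C onto the fibre product
S ×_{P^3} T'. -/
theorem result (k : Type u) [Field k] [IsAlgClosed k]
    (C S T : Scheme.{u}) (iC : C ⟶ CohB1.ProjSpace 3 k) (iS : S ⟶ CohB1.ProjSpace 3 k)
    (iT : T ⟶ CohB1.ProjSpace 3 k) [IsClosedImmersion iC] [IsClosedImmersion iS] [IsClosedImmersion iT]
    [AlgebraicGeometry.IsIntegral C] [AlgebraicGeometry.IsIntegral S] [AlgebraicGeometry.IsIntegral T]
    (hC : topologicalKrullDim ↥C = 1) (hS : topologicalKrullDim ↥S = 2) (hT : topologicalKrullDim ↥T = 2)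
    (hset : Set.range (fun c : ↥C => iC.base c) = Set.range (fun s : ↥S => iS.base s) ∩ Set.range (fun t : ↥T => iT.base t))
    (hreg : ∀ s : ↥S, iS.base s ∈ Set.range (fun c : ↥C => iC.base c) → IsRegularLocalRing (S.presheaf.stalk s)) :
    ∃ (T' : Scheme.{u}) (iT' : T' ⟶ CohB1.ProjSpace 3 k) (e : C ≅ pullback iS iT'),
      IsClosedImmersion iT' ∧ AlgebraicGeometry.IsIntegral T' ∧ topologicalKrullDim ↥T' = 2 ∧
        e.hom ≫ pullback.fst iS iT' ≫ iS = iC := by
  exact K945.CutGeo.main (n := 2) iC iS iT 1 le_rfl rfl hC hS hT hset hreg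

end Groth.Agent.S18059
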