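import Groth.Statements.S18066
import Groth.Agent.AlgGrp.K410.Core
import Groth.Agent.AlgGrp.K410.BdryMain
import Groth.Agent.AlgGrp.K410.StalkBC

set_option autoImplicit false
universe u
open CategoryTheory MonoidalCategory CartesianMonoidalCategory MonObj GrpObj AlgebraicGeometry CategoryTheory.Limits
open AlgGrp

namespace Groth.Agent.S18066

attribute [-instance] CategoryTheory.catToReflQuiver

theorem isPullback_map_left {X X' : Scheme.{u}} (v : X' ⟶ X) {Y Z : Over X} (f : Y ⟶ Z) :
    IsPullback (pullback.fst Y.hom v) ((Over.pullback v).map f).left f.left (pullback.fst Z.hom v) := by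
  refine IsPullback.of_bot (v₂₁ := pullback.snd Z.hom v) (v₂₂ := Z.hom) (h₃₁ := v) ?_ ?_
    (IsPullback.of_hasPullback Z.hom v)
  · have h1 : ((Over.pullback v).map f).left ≫ pullback.snd Z.hom v = pullback.snd Y.hom v :=
      pullback.lift_snd _ _ _
    rw [h1, Over.w]
    exact IsPullback.of_hasPullback Y.hom v
  · exact (pullback.lift_fst _ _ _).symm

theorem algClosed (k : Type u) [Field k] [IsAlgClosed k]
    (G : Over (Spec (CommRingCat.of k))) [GrpObj G] [Smooth G.hom] [QuasiCompact G.hom] [ConnectedSpace ↥G.left]
    (Y : Over (Spec (CommRingCat.of k))) [IsProper Y.hom] (j : G ⟶ Y) [IsOpenImmersion j.left]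
    (hd : Dense (Set.range ⇑j.left.base)) :
    Set.range ⇑j.left.base = Set.univ ∨
      ∃ y : ↥Y.left, y ∉ Set.range ⇑j.left.base ∧
        ringKrullDim ↑(Y.left.presheaf.stalk y) = ((1 : ℕ) : WithBot ℕ∞) := by
  refine K410.BdryMain.main_of k (fun G _ _ _ _ hG hnp => ?_) G Y j hd
  obtain ⟨N, A, _, _, i, q, h1, h2, h3, h4, h5, h6, h7, h8, h9, h10, h11, h12, h13⟩ := K410.Data.exists_data G hG hnp
  obtain ⟨M, hM⟩ := S1841.result k A
  exact ⟨_, Fdesc.LocGen.isInvertible_pullback q.left hM.1, K410.Core.core i q h9 hG h13 hM⟩

/-- Let k be a field, G a connected algebraic group over k (a smooth connected k-group scheme of finite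
type) and j : G → Y an open immersion over k with dense image into a proper k-scheme Y, i.e. Y is a
completion of G. Then the boundary Y ∖ j(G) is either empty or of codimension 1 in Y: if it is
non-empty, it contains a point y whose local ring O_{Y,y} has Krull dimension 1. -/
theorem result (k : Type u) [Field k]
    (G : Over (Spec (CommRingCat.of k))) [GrpObj G] [Smooth G.hom] [QuasiCompact G.hom] [ConnectedSpace ↥G.left]
    (Y : Over (Spec (CommRingCat.of k))) [IsProper Y.hom] (j : G ⟶ Y) [IsOpenImmersion j.left]
    (hd : Dense (Set.range ⇑j.left.base)) :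
    Set.range ⇑j.left.base = Set.univ ∨
      ∃ y : ↥Y.left, y ∉ Set.range ⇑j.left.base ∧
        ringKrullDim ↑(Y.left.presheaf.stalk y) = ((1 : ℕ) : WithBot ℕ∞) := by
  let K := AlgebraicClosure k
  let f : Spec (CommRingCat.of K) ⟶ Spec (CommRingCat.of k) := Spec.map (CommRingCat.ofHom (algebraMap k K))
  have hfi : IsIntegralHom f := by
    rw [IsIntegralHom.SpecMap_iff]
    exact (algebraMap_isIntegral_iff).2 inferInstance
  have hff : Flat f := inferInstance
  let j' : Red.bc f G ⟶ Red.bc f Y := (Over.pullback f).map j
  have hpb := isPullback_map_left f j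
  let pG := pullback.fst G.hom f
  let pY := pullback.fst Y.hom f
  have i1 : Smooth (Red.bc f G).hom := inferInstanceAs (Smooth (pullback.snd G.hom f))
  have i2 : QuasiCompact (Red.bc f G).hom := inferInstanceAs (QuasiCompact (pullback.snd G.hom f))
  have i3 : IsProper (Red.bc f Y).hom := inferInstanceAs (IsProper (pullback.snd Y.hom f))
  have hgi : GeometricallyIntegral G.hom := K399.Basic.geometricallyIntegral G
  have hint : IsIntegral (Red.bc f G).left :=
    GeometricallyIntegral.isIntegral_of_subsingleton (pullback.snd G.hom f)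
  have i4 : ConnectedSpace (Red.bc f G).left := inferInstance
  have i5 : IsOpenImmersion j'.left := MorphismProperty.of_isPullback (P := @IsOpenImmersion) hpb inferInstance
  have hrange : Set.range j'.left = pY ⁻¹' Set.range j.left := by
    have h1 : hpb.flip.isoPullback.hom ≫ pullback.fst pY j.left = j'.left := hpb.flip.isoPullback_hom_fst
    have h2 : Set.range j'.left = Set.range (pullback.fst pY j.left) := by
      rw [← h1]
      ext y
      constructor
      · rintro ⟨x, rfl⟩
        exact ⟨hpb.flip.isoPullback.hom x, (Scheme.Hom.comp_apply _ _ x).symm⟩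
      · rintro ⟨x, rfl⟩
        refine ⟨hpb.flip.isoPullback.inv x, ?_⟩
        rw [← Scheme.Hom.comp_apply, Iso.inv_hom_id_assoc]
    rw [h2, Scheme.Pullback.range_fst]
  have hopen : IsOpenMap pY := (inferInstance : UniversallyOpen pY) |> fun _ => pY.isOpenMap
  have hsurj : Function.Surjective pY := (inferInstance : Surjective pY).surj
  have hd' : Dense (Set.range ⇑j'.left.base) := by
    change Dense (Set.range j'.left)
    rw [hrange]
    exact hd.preimage hopen
  rcases algClosed K (Red.bc f G) (Red.bc f Y) j' hd' with h | ⟨y', hy', hdim⟩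
  · left
    change Set.range j.left = Set.univ
    rw [Set.eq_univ_iff_forall]
    intro y
    obtain ⟨y', rfl⟩ := hsurj y
    have h1 : y' ∈ Set.range j'.left := by
      change Set.range j'.left = Set.univ at h
      rw [h]; trivial
    rw [hrange] at h1
    exact h1
  · right
    refine ⟨pY y', fun h => hy' ?_, ?_⟩
    · change y' ∈ Set.range j'.left
      rw [hrange]
      exact h
    · rw [← K410.StalkBC.ringKrullDim_stalk pY y']
      exact hdim

end Groth.Agent.S18066
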