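import Groth.Statements.S18069
import Groth.Agent.AlgGrp.K399.Basic

set_option autoImplicit false
universe u
open CategoryTheory MonoidalCategory CartesianMonoidalCategory MonObj GrpObj AlgebraicGeometry CategoryTheory.Limits
open AlgGrp

namespace Groth.Agent.S18069

theorem bij_iff {k : Type u} [Field k] (X : Over (Spec (CommRingCat.of k))) :
    Function.Bijective ((Scheme.ΓSpecIso (CommRingCat.of k)).inv ≫ X.hom.appTop).hom ↔
      IsIso X.hom.appTop := by
  rw [← isIso_comp_left_iff (Scheme.ΓSpecIso (CommRingCat.of k)).inv X.hom.appTop]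
  exact (ConcreteCategory.isIso_iff_bijective _).symm

/-- A retract of an anti-affine scheme is anti-affine. -/
theorem isIso_of_retract {k : Type u} [Field k] {X Y : Over (Spec (CommRingCat.of k))}
    (s : X ⟶ Y) (r : Y ⟶ X) (h : s ≫ r = 𝟙 X) [IsIso Y.hom.appTop] : IsIso X.hom.appTop := by
  have h1 : X.hom.appTop ≫ r.left.appTop = Y.hom.appTop := by
    have := Over.w r
    rw [← this, Scheme.Hom.comp_appTop]
  have h2 : r.left.appTop ≫ s.left.appTop = 𝟙 _ := by
    have := congr(($h).left.appTop)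
    rw [Over.comp_left, Scheme.Hom.comp_appTop] at this
    simpa using this
  have h3 : IsIso r.left.appTop := by
    refine ⟨s.left.appTop, h2, ?_⟩
    rw [← cancel_epi Y.hom.appTop, ← h1]
    simp only [Category.assoc]
    rw [← Category.assoc r.left.appTop s.left.appTop, h2]
    simp
  have h4 : IsIso (X.hom.appTop ≫ r.left.appTop) := by rw [h1]; infer_instance
  exact IsIso.of_isIso_comp_right X.hom.appTop r.left.appTop

/-- Let k be a field and G₁, G₂ connected k-group schemes of finite type. Then G₁ × G₂ is anti-affine,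
i.e. O(G₁ × G₂) = k, if and only if G₁ and G₂ are both anti-affine. -/
theorem result (k : Type u) [Field k]
    (G₁ G₂ : Over (Spec (CommRingCat.of k))) [GrpObj G₁] [LocallyOfFiniteType G₁.hom] [QuasiCompact G₁.hom] [ConnectedSpace ↥G₁.left]
    [GrpObj G₂] [LocallyOfFiniteType G₂.hom] [QuasiCompact G₂.hom] [ConnectedSpace ↥G₂.left] :
    Function.Bijective ((Scheme.ΓSpecIso (CommRingCat.of k)).inv ≫ (G₁ ⊗ G₂).hom.appTop).hom ↔
      Function.Bijective ((Scheme.ΓSpecIso (CommRingCat.of k)).inv ≫ G₁.hom.appTop).hom ∧ Function.Bijective ((Scheme.ΓSpecIso (CommRingCat.of k)).inv ≫ G₂.hom.appTop).hom := by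
  rw [bij_iff, bij_iff, bij_iff]
  have hc : CompactSpace G₁.left := (quasiCompact_iff_compactSpace G₁.hom).mp inferInstance
  have hsep : IsSeparated G₁.hom := Books.AntiAffine.isSeparated_hom G₁
  have hs : QuasiSeparatedSpace G₁.left := (quasiSeparated_iff_quasiSeparatedSpace G₁.hom).mp inferInstance
  constructor
  · intro h
    exact ⟨isIso_of_retract (lift (𝟙 G₁) (toUnit G₁ ≫ η[G₂])) (fst G₁ G₂) (lift_fst _ _),
      isIso_of_retract (lift (toUnit G₂ ≫ η[G₁]) (𝟙 G₂)) (snd G₁ G₂) (lift_snd _ _)⟩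
  · rintro ⟨h1, h2⟩
    exact K399.Basic.isIso_tensor G₁ G₂

end Groth.Agent.S18069
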