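import Groth.Statements.S18071
import Groth.Agent.PRed.K540.NoTor
import Groth.Agent.Agf.H609.GrothFinal

set_option autoImplicit false
universe u
open CategoryTheory MonoidalCategory CartesianMonoidalCategory MonObj GrpObj AlgebraicGeometry CategoryTheory.Limits
open AlgGrp

namespace Groth.Agent.S18071

open Groth.Agent.Sga3B K540.NoTor

/-- A group whose unit section is a maximal torus (among subtori over the field) has no subtori. -/
theorem hasNoSubtorus_of_isMaxTorus {K : Type u} [Field K] {U : Over (Spec (CommRingCat.of K))} [GrpObj U]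
    {T : Over (Spec (CommRingCat.of K))} [GrpObj T] (hT : Red.IsTrivialGrp T) {i : T ⟶ U}
    (h : AGF.IsMaxTorus i) : Red.HasNoSubtorus K U := by
  intro T' _ j _ _ hT'
  have hi := h.1
  have h4 := isIso_toUnit hT
  have h5 : ∀ {X : Over _} (f g : X ⟶ T), f = g := fun f g => by
    rw [← cancel_mono (toUnit T)]
    exact toUnit_unique _ _
  have e1 : η[T] ≫ toUnit T = 𝟙 _ := toUnit_unique _ _
  have e2 : toUnit T ≫ η[T] = 𝟙 _ := h5 _ _
  have e3 : Epi (η[T]) := ⟨fun a b hab => by
    rw [← Category.id_comp a, ← Category.id_comp b, ← e2, Category.assoc, Category.assoc, hab]⟩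
  have h6 : IsIso (toUnit T ≫ η[T']) := by
    refine h.2.2.2 T' j _ hT' ?_
    rw [← cancel_epi (η[T]), ← Category.assoc, ← Category.assoc, e1, Category.id_comp,
      IsMonHom.one_hom, IsMonHom.one_hom]
  have h8 : IsIso η[T'] := IsIso.of_isIso_comp_left (toUnit T) _
  have h9 : η[T'] ≫ toUnit T' = 𝟙 _ := toUnit_unique _ _
  have h10 : IsIso (toUnit T') := by
    have h11 : IsIso (η[T'] ≫ toUnit T') := by rw [h9]; infer_instance
    exact IsIso.of_isIso_comp_left η[T'] _
  exact isTrivialGrp_of_isIso_toUnit

/-- Let F be a field with algebraic closure F̄ and M an affine smooth connected F-group. Then all F-tori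
of M are trivial if and only if all F̄-tori of M_{F̄} are trivial; for such M this condition is
equivalent to M being unipotent. -/
theorem result (F : Type u) [Field F]
    (M : Over (Spec (CommRingCat.of F))) [GrpObj M] [Smooth M.hom] [QuasiCompact M.hom] [IsAffine M.left] [ConnectedSpace ↥M.left] :
    Red.HasNoSubtorus F M ↔ Red.HasNoSubtorus (AlgebraicClosure F) (Red.bc (Spec.map (CommRingCat.ofHom (algebraMap F (AlgebraicClosure F)))) M) := by
  let f : Spec (CommRingCat.of (AlgebraicClosure F)) ⟶ Spec (CommRingCat.of F) :=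
    Spec.map (CommRingCat.ofHom (algebraMap F (AlgebraicClosure F)))
  change Red.HasNoSubtorus F M ↔ Red.HasNoSubtorus (AlgebraicClosure F) (Red.bc f M)
  constructor
  · intro h
    have h1 : AGF.IsMaxTorus (η[M] : 𝟙_ (Over (Spec (CommRingCat.of F))) ⟶ M) := by
      refine ⟨inferInstance, mono_unit M, isTorus_of_isTrivialGrp isTrivialGrp_unit, ?_⟩
      intro T' _ j _ _ g hT' _
      have h2 := isIso_toUnit (h T' j hT')
      have h5 : g ≫ toUnit T' = 𝟙 _ := toUnit_unique _ _
      have h6 : IsIso (g ≫ toUnit T') := by rw [h5]; infer_instance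
      exact IsIso.of_isIso_comp_right g (toUnit T')
    have h2 : Red.IsMaximalTorus (η[M] : 𝟙_ (Over (Spec (CommRingCat.of F))) ⟶ M) :=
      (Agf.H609.GrothFinal.isMaxTorus_iff M _ _).1 h1
    have h3 : Red.IsMaximalTorus ((Over.pullback f).map (η[M] : 𝟙_ (Over (Spec (CommRingCat.of F))) ⟶ M)) :=
      Sga3.H830.TorBc.isMaximalTorus_bc f h2
    have h4 := Agf.H609.SchGlue.isMaxTorus_of_isMaximalTorus h3
    exact hasNoSubtorus_of_isMaxTorus (RedIso.isTrivialGrp_bc f isTrivialGrp_unit) h4
  · intro h T _ j _ _ hT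
    have h1 : Red.IsTrivialGrp (Red.bc f T) :=
      h (Red.bc f T) ((Over.pullback f).map j) (TorusBc.isTorus_bc f hT)
    have hs : Surjective f := inferInstance
    exact isTrivialGrp_of_bc f h1

end Groth.Agent.S18071
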