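import Groth.Statements.S18072
import Groth.Agent.AlgGrp.K411.Bc
import Groth.Agent.AlgGrp.K411.IsogUnip

set_option autoImplicit false
universe u
open CategoryTheory MonoidalCategory CartesianMonoidalCategory MonObj GrpObj AlgebraicGeometry CategoryTheory.Limits
open AlgGrp

namespace Groth.Agent.S18072

/-- Let F be a field and f : G → H an isogeny between affine smooth connected F-groups (a surjective
homomorphism with finite kernel, i.e. surjective and finite). Then each of the properties unipotent,
solvable, nilpotent and commutative holds for G exactly when it holds for H; here unipotence is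
expressed as: the base change to an algebraic closure contains no non-trivial subtorus, solvable and
nilpotent through the derived and upper central series of the groups of points. -/
theorem result (F : Type u) [Field F]
    (G H : Over (Spec (CommRingCat.of F))) [GrpObj G] [Smooth G.hom] [QuasiCompact G.hom] [IsAffine G.left] [ConnectedSpace ↥G.left]
    [GrpObj H] [Smooth H.hom] [QuasiCompact H.hom] [IsAffine H.left] [ConnectedSpace ↥H.left]
    (f : G ⟶ H) [IsMonHom f] [Surjective f.left] [IsFinite f.left] :
    (Red.HasNoSubtorus (AlgebraicClosure F) (Red.bc (Spec.map (CommRingCat.ofHom (algebraMap F (AlgebraicClosure F)))) G) ↔ Red.HasNoSubtorus (AlgebraicClosure F) (Red.bc (Spec.map (CommRingCat.ofHom (algebraMap F (AlgebraicClosure F)))) H)) ∧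
    (Red.IsSolvableGrp G ↔ Red.IsSolvableGrp H) ∧ (AGF.IsNilpotentGrp G ↔ AGF.IsNilpotentGrp H) ∧
    (IsCommMonObj G ↔ IsCommMonObj H) := by

  have hgi := AlgGrp.K411.IsogWord.geometricallyIrreducible G
  let φ := Spec.map (CommRingCat.ofHom (algebraMap F (AlgebraicClosure F)))
  have h1 : IsFinite ((Over.pullback φ).map f).left :=
    AlgGrp.K411.Bc.map_left_mem (P := @IsFinite) φ f ‹_›
  have h2 : Surjective ((Over.pullback φ).map f).left :=
    AlgGrp.K411.Bc.map_left_mem (P := @Surjective) φ f ‹_›
  have h3 : Smooth (Red.bc φ G).hom := AlgGrp.K411.Bc.hom_mem (P := @Smooth) φ ‹_›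
  have h4 : LocallyOfFiniteType (Red.bc φ H).hom :=
    AlgGrp.K411.Bc.hom_mem (P := @LocallyOfFiniteType) φ inferInstance
  have h5 : ConnectedSpace (Red.bc φ G).left := AlgGrp.K411.Bc.connectedSpace_bc φ G
  refine ⟨⟨fun h => ?_, fun h => ?_⟩, ⟨fun h => ?_, fun h => ?_⟩, ⟨fun h => ?_, fun h => ?_⟩,
    ⟨fun h => ?_, fun h => ?_⟩⟩
  · exact AlgGrp.K411.IsogUnip.hasNoSubtorus_of_surjective ((Over.pullback φ).map f) h
  · exact AlgGrp.K411.IsogUnip.hasNoSubtorus_of_quasiFinite ((Over.pullback φ).map f) h
  · exact AlgGrp.K411.IsogWord.isSolvableGrp_of_surjective f h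
  · exact AlgGrp.K411.IsogWord.isSolvableGrp_of_quasiFinite f h
  · exact AlgGrp.K411.IsogWord.isNilpotentGrp_of_surjective f h
  · exact AlgGrp.K411.IsogWord.isNilpotentGrp_of_quasiFinite f h
  · exact AlgGrp.K411.IsogWord.isCommMonObj_of_surjective f h
  · exact AlgGrp.K411.IsogWord.isCommMonObj_of_quasiFinite f h


end Groth.Agent.S18072
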