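import Groth.Statements.S18073
import Groth.Agent.AlgGrp.K411.SpecMach

set_option autoImplicit false
universe u
open CategoryTheory MonoidalCategory CartesianMonoidalCategory MonObj GrpObj AlgebraicGeometry CategoryTheory.Limits
open AlgGrp

namespace Groth.Agent.S18073

/-- Let S be a scheme and G a smooth S-group scheme of finite presentation; for s ∈ S let d(s) be the
dimension of the derived group of the geometric fibre of G at s, which is the least dimension of a
closed normal subgroup scheme of that fibre containing all commutators of its points. Then d does
not increase under specialization: for every natural number n, if s specializes to s' (that is, s'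
lies in the closure of s) and d(s) ≤ n, then d(s') ≤ n. (The published statement asserts that d is
lower semicontinuous on S, i.e. that the set of points s with d(s) ≤ n is closed; the published
argument reduces to the spectrum of an integral local ring and establishes that this set is stable
under specialization, which is what is stated here. Closedness would in addition need the set to be
locally constructible, which the argument does not address.) -/
theorem result (S : Scheme.{u}) (G : Over S) [GrpObj G]
    [Smooth G.hom] [QuasiCompact G.hom] [QuasiSeparated G.hom] (n : ℕ) :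
    StableUnderSpecialization {s : ↥S | ∃ (N : Over (Spec (CommRingCat.of (AlgebraicClosure (S.residueField s))))) (_ : GrpObj N)
      (i : N ⟶ Red.geomFibre s G), IsMonHom i ∧ IsClosedImmersion i.left ∧ AlgGrp.IsNormalHom i ∧
      (∀ (T : Over (Spec (CommRingCat.of (AlgebraicClosure (S.residueField s))))) (g h : T ⟶ Red.geomFibre s G),
        ∃ m : T ⟶ N, g * h * g⁻¹ * h⁻¹ = m ≫ i) ∧
      topologicalKrullDim ↥N.left ≤ (n : WithBot ℕ∞)} := by
  rintro s s' h ⟨N, hN, i, h1, h2, h3, h4, h5⟩
  obtain ⟨N', hN', i', h1', h2', ⟨h3', h4'⟩, h5'⟩ :=
    AlgGrp.K411.SpecPair.hasP_of_specializes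
      (AlgGrp.K411.SpecPair.isSpec_normal.and AlgGrp.K411.SpecPair.isSpec_hasComm) G
      ⟨(inferInstance : Flat G.hom), (inferInstance : Flat G.hom)⟩ h
      ⟨N, hN, i, h1, h2, ⟨h3, h4⟩, rfl⟩
  exact ⟨N', hN', i', h1', h2', h3', h4', by rwa [h5']⟩

end Groth.Agent.S18073
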