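import Groth.Statements.S18074
import Groth.Agent.AlgGrp.K411.AntiMin

set_option autoImplicit false
universe u
open CategoryTheory MonoidalCategory CartesianMonoidalCategory MonObj GrpObj AlgebraicGeometry CategoryTheory.Limits
open AlgGrp

namespace Groth.Agent.S18074

/-- Let k be a field and G a non-trivial k-group scheme of finite type. Then G is non-affine with every
closed subgroup scheme H ≠ G affine if and only if G is anti-affine and every anti-affine closed
subgroup scheme H ≠ G of G is trivial. -/
theorem result (k : Type u) [Field k]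
    (G : Over (Spec (CommRingCat.of k))) [GrpObj G] [LocallyOfFiniteType G.hom] [QuasiCompact G.hom] (hG : ¬ Red.IsTrivialGrp G) :
    (¬ IsAffine G.left ∧ ∀ (H : Over (Spec (CommRingCat.of k))) [GrpObj H] (h : H ⟶ G) [IsMonHom h] [IsClosedImmersion h.left], ¬ IsIso h → IsAffine H.left) ↔
    (Function.Bijective ((Scheme.ΓSpecIso (CommRingCat.of k)).inv ≫ G.hom.appTop).hom ∧ ∀ (H : Over (Spec (CommRingCat.of k))) [GrpObj H] (h : H ⟶ G) [IsMonHom h] [IsClosedImmersion h.left], ¬ IsIso h → Function.Bijective ((Scheme.ΓSpecIso (CommRingCat.of k)).inv ≫ H.hom.appTop).hom → Red.IsTrivialGrp H) := by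
  obtain ⟨N, Q, _, _, n, q, hs⟩ := K398.Affin.exists_affSeq G
  have := hs.homN
  have := hs.closed
  constructor
  · rintro ⟨hna, hH⟩
    have hn : IsIso n := by
      by_contra hcon
      have h1 : IsAffine N.left := hH N n hcon
      exact hna (AlgGrp.K411.AntiMin.isAffine_of_trivial n q hs
        (K398.Pts.isIso_hom_of_affine_antiAffine hs.anti))
    have hG' : IsIso G.hom.appTop := AlgGrp.K411.AntiMin.isIso_appTop_of_iso n hs.anti
    refine ⟨K398.AntiAff.bijective_of_isIso hG', ?_⟩
    intro H _ h _ _ hni hb
    have h1 : IsAffine H.left := hH H h hni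
    exact K398.Pts.isIso_hom_of_affine_antiAffine (K398.AntiAff.isIso_appTop hb)
  · rintro ⟨hb, hH⟩
    refine ⟨fun haff => hG (K398.Pts.isIso_hom_of_affine_antiAffine (K398.AntiAff.isIso_appTop hb)), ?_⟩
    intro H _ h _ _ hni
    have hft : LocallyOfFiniteType H.hom := by rw [← Over.w h]; infer_instance
    have hqc : QuasiCompact H.hom := by rw [← Over.w h]; infer_instance
    obtain ⟨M, R, _, _, m, r, hs'⟩ := K398.Affin.exists_affSeq H
    have := hs'.homN
    have := hs'.closed
    have hcl : IsClosedImmersion (m ≫ h).left := by rw [Over.comp_left]; infer_instance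
    have hm : Mono h := (Over.forget _).mono_of_mono_map (inferInstanceAs (Mono h.left))
    refine AlgGrp.K411.AntiMin.isAffine_of_trivial m r hs'
      (hH M (m ≫ h) (fun hiso => hni ?_) (K398.AntiAff.bijective_of_isIso hs'.anti))
    have h2 : IsSplitEpi h := ⟨⟨⟨CategoryTheory.inv (m ≫ h) ≫ m, by
      rw [Category.assoc, IsIso.inv_hom_id]⟩⟩⟩
    exact isIso_of_mono_of_isSplitEpi h

end Groth.Agent.S18074
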