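import Groth.Statements.S18075
import Groth.Agent.AlgGrp.K395.PreImg
import Groth.Agent.AlgGrp.K414.RosQ

set_option autoImplicit false
universe u
open CategoryTheory MonoidalCategory CartesianMonoidalCategory MonObj GrpObj AlgebraicGeometry CategoryTheory.Limits
open AlgGrp

namespace Groth.Agent.S18075

theorem isIso_left {S : Scheme.{u}} {A B : Over S} (f : A ⟶ B) [h : IsIso f] : IsIso f.left :=
  inferInstanceAs (IsIso ((Over.forget S).map f))

theorem isIso_of_left {S : Scheme.{u}} {A B : Over S} (f : A ⟶ B) (h : IsIso f.left) : IsIso f := by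
  have : IsIso ((Over.forget S).map f) := h
  exact isIso_of_reflects_iso f (Over.forget S)

/-- Let k be a field and G a non-trivial anti-affine k-group scheme of finite type, and let i : N → G be
a connected affine closed subgroup scheme which is the kernel of a flat surjective homomorphism q :
G → A onto an abelian variety A (for instance N = G_aff and A = G/G_aff, but any such N is allowed).
Then G has no anti-affine closed subgroup scheme other than G and the trivial group if and only if
the abelian variety A is simple (every smooth connected closed subgroup scheme of A is trivial or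
equal to A). -/
theorem result (k : Type u) [Field k]
    (G : Over (Spec (CommRingCat.of k))) [GrpObj G] [LocallyOfFiniteType G.hom] [QuasiCompact G.hom] (hG : ¬ Red.IsTrivialGrp G)
    (hGa : Function.Bijective ((Scheme.ΓSpecIso (CommRingCat.of k)).inv ≫ G.hom.appTop).hom)
    (N A : Over (Spec (CommRingCat.of k))) [GrpObj N] [GrpObj A] (i : N ⟶ G) [IsMonHom i] [IsClosedImmersion i.left]
    [IsAffine N.left] [ConnectedSpace ↥N.left]
    (q : G ⟶ A) [IsMonHom q] [Surjective q.left] [Flat q.left] [IsProper A.hom] [Smooth A.hom] [ConnectedSpace ↥A.left]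
    (hq : AlgGrp.IsKernel i q) :
    (∀ (H : Over (Spec (CommRingCat.of k))) [GrpObj H] (h : H ⟶ G) [IsMonHom h] [IsClosedImmersion h.left], ¬ IsIso h → Function.Bijective ((Scheme.ΓSpecIso (CommRingCat.of k)).inv ≫ H.hom.appTop).hom → Red.IsTrivialGrp H) ↔
    (∀ (B : Over (Spec (CommRingCat.of k))) [GrpObj B] (b : B ⟶ A) [IsMonHom b] [IsClosedImmersion b.left], Smooth B.hom → ConnectedSpace ↥B.left → IsIso b ∨ Red.IsTrivialGrp B) := by
  have hGi : IsIso G.hom.appTop := K398.AntiAff.isIso_appTop hGa
  have hGconn : ConnectedSpace G.left := Books.AntiAffine.connectedSpace_left G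
  have hGcomm : IsCommMonObj G := (Groth.Agent.S3293.result k G hGa).2
  have hNf : LocallyOfFiniteType N.hom := K414.Kit.locallyOfFiniteType_of_closed i
  have hNq : QuasiCompact N.hom := K414.Kit.quasiCompact_of_closed i
  have hAf : LocallyOfFiniteType A.hom := inferInstance
  constructor
  · intro hmin B _ b _ _ hBs hBc
    have hbm : Mono b := K414.Kit.mono_of_closed b
    obtain ⟨E, _, e, p, i', he, hp, hi', hpb, hie, hk⟩ := K395.PreImg.exists_preimage i q hq b
    have hpb' := hpb.map (Over.forget _)
    have hec : IsClosedImmersion e.left :=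
      MorphismProperty.of_isPullback (P := @IsClosedImmersion) hpb'.flip ‹_›
    have hpf : Flat p.left := MorphismProperty.of_isPullback (P := @Flat) hpb' ‹_›
    have hps : Surjective p.left := MorphismProperty.of_isPullback (P := @Surjective) hpb' ‹_›
    have hEf : LocallyOfFiniteType E.hom := K414.Kit.locallyOfFiniteType_of_closed e
    have hEq : QuasiCompact E.hom := K414.Kit.quasiCompact_of_closed e
    have hBf : LocallyOfFiniteType B.hom := inferInstance
    have hBp : IsProper B.hom := K414.Kit.isProper_of_closed b
    have hEc : ConnectedSpace E.left :=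
      K395.PreImg.connectedSpace_of_extension i' p (K395.CovKit.cov_of p) hk
    obtain ⟨M, _, j, hj, hjc, hMf, hMq, hM, hs⟩ := K414.RosQ.exists_antiAffine_surjective p
    have hjec : IsClosedImmersion (j ≫ e).left := by rw [Over.comp_left]; infer_instance
    by_cases hiso : IsIso (j ≫ e)
    · left
      have h1 : Surjective (((j ≫ p) ≫ b)).left := by
        have e1 : (j ≫ p) ≫ b = (j ≫ e) ≫ q := by rw [Category.assoc, Category.assoc, hpb.w]
        rw [e1, Over.comp_left]
        have : IsIso (j ≫ e).left := isIso_left _
        infer_instance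
      rw [Over.comp_left] at h1
      have h2 : Surjective b.left := Surjective.of_comp (j ≫ p).left b.left
      have h3 : IsReduced A.left := Etcore.SmoothRed.isReduced_of_smooth A.hom
      have h4 : IsIso b.left := isIso_of_isClosedImmersion_of_surjective b.left
      exact isIso_of_left b h4
    · right
      have h1 : IsIso M.hom := hmin M (j ≫ e) hiso (K398.AntiAff.bijective_of_isIso hM)
      have h2 : IsIso (toUnit M).left := by
        have e1 : (toUnit M).left = M.hom := by
          have := Over.w (toUnit M)
          simpa using this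
        rw [e1]; exact h1
      have h3 : IsIso (toUnit M) := isIso_of_left _ h2
      have h4 : j ≫ p = toUnit M ≫ η[B] := by
        have e1 : η[M] = inv (toUnit M) := by
          rw [← cancel_epi (toUnit M), IsIso.hom_inv_id]
          have : IsIso (toUnit M) := h3
          rw [← cancel_mono (toUnit M)]
          exact toUnit_unique _ _
        have e2 : η[M] ≫ (j ≫ p) = η[B] := IsMonHom.one_hom (j ≫ p)
        rw [← e2, e1, IsIso.hom_inv_id_assoc]
      have h5 : Surjective (η[B] : 𝟙_ (Over (Spec (CommRingCat.of k))) ⟶ B).left := by
        rw [h4, Over.comp_left] at hs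
        exact Surjective.of_comp (toUnit M).left _
      have h6 : IsReduced B.left := Etcore.SmoothRed.isReduced_of_smooth B.hom
      have h7 : IsClosedImmersion (η[B] : 𝟙_ (Over (Spec (CommRingCat.of k))) ⟶ B).left := by
        have e1 : (η[B] : 𝟙_ (Over (Spec (CommRingCat.of k))) ⟶ B).left ≫ B.hom = 𝟙 _ := by
          simpa using Over.w (η[B] : 𝟙_ (Over (Spec (CommRingCat.of k))) ⟶ B)
        have : IsClosedImmersion ((η[B] : 𝟙_ (Over (Spec (CommRingCat.of k))) ⟶ B).left ≫ B.hom) := by
          rw [e1]; infer_instance
        exact IsClosedImmersion.of_comp _ B.hom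
      have h8 : IsIso (η[B] : 𝟙_ (Over (Spec (CommRingCat.of k))) ⟶ B).left :=
        isIso_of_isClosedImmersion_of_surjective _
      have e1 : (η[B] : 𝟙_ (Over (Spec (CommRingCat.of k))) ⟶ B).left ≫ B.hom = 𝟙 _ := by
        simpa using Over.w (η[B] : 𝟙_ (Over (Spec (CommRingCat.of k))) ⟶ B)
      have h9 : IsIso ((η[B] : 𝟙_ (Over (Spec (CommRingCat.of k))) ⟶ B).left ≫ B.hom) := by
        rw [e1]; infer_instance
      exact IsIso.of_isIso_comp_left (η[B] : 𝟙_ (Over (Spec (CommRingCat.of k))) ⟶ B).left B.hom
  · intro hsim H _ h _ _ hni hH
    have hHi : IsIso H.hom.appTop := K398.AntiAff.isIso_appTop hH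
    have hHf : LocallyOfFiniteType H.hom := K414.Kit.locallyOfFiniteType_of_closed h
    have hHq : QuasiCompact H.hom := K414.Kit.quasiCompact_of_closed h
    have hHc : ConnectedSpace H.left := Books.AntiAffine.connectedSpace_left H
    have hHs : Smooth H.hom := Groth.Agent.S3026.result k H hH
    have hhm : Mono h := K414.Kit.mono_of_closed h
    obtain ⟨C, _, p, c, hp, hc, hpc, hcov, hcc⟩ := K414.Kit.exists_image (h ≫ q)
    have hCf : LocallyOfFiniteType C.hom := K414.Kit.locallyOfFiniteType_of_closed c
    have hpf := hcov.flat
    have hps := hcov.surj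
    have hCs : Smooth C.hom := by
      have e1 : Smooth (p.left ≫ C.hom) := by rw [Over.w]; exact hHs
      have e2 : LocallyOfFinitePresentation C.hom := inferInstance
      exact Groth.Agent.S0115.smooth_of_comp_field k p.left C.hom
    have hCc : ConnectedSpace C.left := K414.Kit.connectedSpace_of_surjective p
    rcases hsim C c hCs hCc with hci | hct
    · exfalso
      have h1 : Surjective (h ≫ q).left := by
        rw [← hpc, Over.comp_left]
        have : IsIso c.left := isIso_left c
        infer_instance
      have h2 := K414.RosQ.surjective_mul i q hq h h1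
      have h3 : (h ⊗ₘ i) ≫ μ[G] = (β_ H N).hom ≫ (i ⊗ₘ h) ≫ μ[G] := by
        rw [← BraidedCategory.braiding_naturality_assoc, IsCommMonObj.mul_comm]
      have h4 : Surjective ((h ⊗ₘ i) ≫ μ[G]).left := by
        rw [h3, Over.comp_left]
        have : IsIso (β_ H N).hom.left := isIso_left _
        infer_instance
      obtain ⟨g, hg⟩ := K414.RosQ.exists_factor (M := G) i q hq (𝟙 G) h h4
      apply hni
      have h5 : IsSplitEpi h := ⟨⟨g, hg⟩⟩
      exact isIso_of_mono_of_isSplitEpi h
    · have h1 : c = toUnit C ≫ η[A] := by
        have h2 : IsIso (toUnit C).left := by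
          have e1 : (toUnit C).left = C.hom := by
            have := Over.w (toUnit C)
            simpa using this
          rw [e1]; exact hct
        have h3 : IsIso (toUnit C) := isIso_of_left _ h2
        have e1 : η[C] = inv (toUnit C) := by
          rw [← cancel_mono (toUnit C)]
          exact toUnit_unique _ _
        have e2 : η[C] ≫ c = η[A] := IsMonHom.one_hom c
        rw [← e2, e1, IsIso.hom_inv_id_assoc]
      have h2 : h ≫ q = 1 := by
        rw [← hpc, h1, ← Category.assoc, Hom.one_def]
        congr 1
        exact toUnit_unique _ _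
      obtain ⟨x, hx⟩ := K395.Pts.exists_of_comp_eq_one hq h h2
      have h3 := K398.AntiAff.eq_const η[H] x
      have h4 : 𝟙 H = toUnit H ≫ η[H] := by
        rw [← cancel_mono h, Category.id_comp, Category.assoc]
        have e1 := congrArg (· ≫ i) h3
        simp only [Category.assoc, hx] at e1
        exact e1
      have h5 : IsIso (toUnit H) := ⟨η[H], h4.symm, toUnit_unique _ _⟩
      have h6 : (toUnit H).left = H.hom := by
        have := Over.w (toUnit H)
        simpa using this
      have h7 : IsIso H.hom := by
        rw [← h6]; exact isIso_left _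
      exact h7

end Groth.Agent.S18075
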