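import Groth.Statements.S18076
import Groth.Agent.S14604
import Groth.Agent.AlgGrp.K404.AntLin

set_option autoImplicit false
universe u
open CategoryTheory MonoidalCategory CartesianMonoidalCategory MonObj GrpObj AlgebraicGeometry CategoryTheory.Limits
open AlgGrp

namespace Groth.Agent.S18076

/-- Let k be a finite field and G a connected k-group scheme of finite type, i : N → G a connected
affine closed normal subgroup scheme which is the kernel of a flat surjective homomorphism q onto an
abelian variety A (for instance N = G_aff; any such N is allowed) and b : B → G the largest abelian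
subvariety G_ab of G (a smooth connected proper closed subgroup scheme through which every other one
factors). Then G = N G_ab, i.e. multiplication N × B → G is surjective, and N ∩ G_ab is finite; for
N = G_aff this reads G = G_aff G_ab with G_aff ∩ G_ab finite. -/
theorem result (k : Type u) [Field k] [Finite k]
    (G : Over (Spec (CommRingCat.of k))) [GrpObj G] [LocallyOfFiniteType G.hom] [QuasiCompact G.hom] [ConnectedSpace ↥G.left]
    (N A : Over (Spec (CommRingCat.of k))) [GrpObj N] [GrpObj A] (i : N ⟶ G) [IsMonHom i] [IsClosedImmersion i.left]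
    [IsAffine N.left] [ConnectedSpace ↥N.left] (hN : AlgGrp.IsNormalHom i)
    (q : G ⟶ A) [IsMonHom q] [Surjective q.left] [Flat q.left] [IsProper A.hom] [Smooth A.hom] [ConnectedSpace ↥A.left]
    (hq : AlgGrp.IsKernel i q)
    (B : Over (Spec (CommRingCat.of k))) [GrpObj B] (b : B ⟶ G) [IsMonHom b] [IsClosedImmersion b.left] [Smooth B.hom] [ConnectedSpace ↥B.left] [IsProper B.hom]
    (hBmax : ∀ (B' : Over (Spec (CommRingCat.of k))) [GrpObj B'] (b' : B' ⟶ G) [IsMonHom b'] [IsClosedImmersion b'.left], Smooth B'.hom → ConnectedSpace ↥B'.left → IsProper B'.hom →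
      ∃ g : B' ⟶ B, g ≫ b = b') :
    Surjective ((i ⊗ₘ b) ≫ μ[G]).left ∧
    ∀ (P : Over (Spec (CommRingCat.of k))) (p₁ : P ⟶ N) (p₂ : P ⟶ B), IsPullback p₁ p₂ i b → IsFinite P.hom := by
  have hft : LocallyOfFiniteType N.hom := by rw [← Over.w i]; infer_instance
  obtain ⟨M, H, _, _, m, ρ, a1, a2, a3, a4, a5, a6, a7, a8, a9, a10, a11⟩ := K404.QuoKit.exists_hull k G
  have hMft : LocallyOfFiniteType M.hom := by rw [← Over.w m]; infer_instance
  have hMqc : QuasiCompact M.hom := by rw [← Over.w m]; infer_instance
  have hMp : IsProper M.hom := Groth.Agent.S14604.result k M a9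
  obtain ⟨g, hg⟩ := hBmax M m a10 a11 hMp
  have hgi : GeometricallyIntegral A.hom := K404.GeoInt.geometricallyIntegral A
  have hcomm : IsCommMonObj A := isCommMonObj_of_isProper_of_geometricallyIntegral A
  have hs := K404.AntLin.surjective_of_hull k m ρ a6 q
  have h1 : Surjective ((m ⊗ₘ i) ≫ μ[G]).left := K404.MulPb.surjective_mul hq
  refine ⟨?_, fun P p₁ p₂ hP => ?_⟩
  · have h2 : lift (snd M N) (fst M N ≫ g) ≫ (i ⊗ₘ b) ≫ μ[G] = (m ⊗ₘ i) ≫ μ[G] := by
      have h3 := K404.QuoKit.commute_of_antiAffine k G M a9 m (fst M N) (snd M N ≫ i)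
      rw [K404.AbAff.lift_mulMap, Category.assoc, hg, ← h3, ← K404.AbAff.lift_mulMap, lift_fst_snd, Category.id_comp]
    have h4 : Surjective ((lift (snd M N) (fst M N ≫ g)).left ≫ ((i ⊗ₘ b) ≫ μ[G]).left) := by
      rw [← Over.comp_left, h2]
      exact h1
    exact Surjective.of_comp (lift (snd M N) (fst M N ≫ g)).left ((i ⊗ₘ b) ≫ μ[G]).left
  · have hpb : IsPullback p₁.left p₂.left i.left b.left := hP.map (Over.forget _)
    have h5 : IsClosedImmersion p₂.left := MorphismProperty.of_isPullback (P := @IsClosedImmersion) hpb ‹_›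
    have h6 : IsClosedImmersion p₁.left := MorphismProperty.of_isPullback (P := @IsClosedImmersion) hpb.flip ‹_›
    have h7 : IsProper P.hom := by rw [← Over.w p₂]; infer_instance
    have h8 : IsAffine P.left := isAffine_of_isAffineHom p₁.left
    have h9 : IsAffineHom (P.hom : P.left ⟶ Spec (CommRingCat.of k)) := inferInstance
    exact IsFinite.iff_isProper_and_isAffineHom.2 ⟨h7, h9⟩

end Groth.Agent.S18076
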