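import Groth.Statements.S18077
import Groth.Agent.AlgGrp.K646.Row77

set_option autoImplicit false
universe u
open CategoryTheory MonoidalCategory CartesianMonoidalCategory MonObj GrpObj AlgebraicGeometry CategoryTheory.Limits
open AlgGrp

namespace Groth.Agent.S18077

/-- Let k be a field, G an anti-affine algebraic group over k (smooth k-group scheme of finite type with
O(G) = k) which is not complete, and L an ample invertible sheaf on G. Then the k-vector space H⁰(G,
L) is infinite-dimensional; equivalently, the global sections of L are not a finitely generated
module over Γ(G, O_G) = k. -/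
theorem result (k : Type u) [Field k]
    (G : Over (Spec (CommRingCat.of k))) [GrpObj G] [Smooth G.hom] [QuasiCompact G.hom]
    (hG : Function.Bijective ((Scheme.ΓSpecIso (CommRingCat.of k)).inv ≫ G.hom.appTop).hom) (hnc : ¬ IsProper G.hom)
    (L : G.left.Modules) (hL : CohB1.IsAmple L) :
    ¬ Module.Finite ↑(Γ(G.left, ⊤)) ↑(L.val.obj (Opposite.op ⊤)) := by
  exact K646.Row77.main k G ((K414.AntiAffBC.bijective_iff G).1 hG) hnc L hL

end Groth.Agent.S18077
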