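import Groth.Statements.S18081
import Groth.Agent.AlgGrp.K396.AntiHom
import Groth.Agent.AlgGrp.K395.Pts

set_option autoImplicit false
universe u
open CategoryTheory MonoidalCategory CartesianMonoidalCategory MonObj GrpObj AlgebraicGeometry CategoryTheory.Limits
open AlgGrp

namespace Groth.Agent.S18081

/-- Let k be a field, G an anti-affine algebraic group over k and H a connected k-group scheme of finite
type. Then the abelian group of homomorphisms G → H (pointwise multiplication; such homomorphisms
take values in the centre of H) is free of finite rank: there are homomorphisms b₁, …, bₙ such that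
every homomorphism f : G → H is the product b₁^{a₁} ⋯ bₙ^{aₙ} for exactly one n-tuple of integers a. -/
theorem result (k : Type u) [Field k]
    (G H : Over (Spec (CommRingCat.of k))) [GrpObj G] [Smooth G.hom] [QuasiCompact G.hom] (hG : Function.Bijective ((Scheme.ΓSpecIso (CommRingCat.of k)).inv ≫ G.hom.appTop).hom)
    [GrpObj H] [LocallyOfFiniteType H.hom] [QuasiCompact H.hom] [ConnectedSpace ↥H.left] :
    ∃ (n : ℕ) (b : Fin n → (G ⟶ H)), (∀ i, IsMonHom (b i)) ∧
      ∀ f : G ⟶ H, IsMonHom f → ∃! a : Fin n → ℤ, (List.ofFn fun i => b i ^ a i).prod = f := by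
  have hGi : IsIso G.hom.appTop := K398.AntiAff.isIso_appTop hG
  have hcen : ∀ (f : G ⟶ H), IsMonHom f → ∀ {T : Over (Spec (CommRingCat.of k))} (x : T ⟶ G) (h : T ⟶ H),
      (x ≫ f) * h = h * (x ≫ f) := fun f hf T x h =>
    K414.RosQ.central η[G] f (IsMonHom.one_hom f) x h
  obtain ⟨E, _, ψ, hE1, hE2, hE3, hE4⟩ := K396.AntiHom.exists_hom_field G H
  let X : Subgroup (G ⟶ H) :=
    { carrier := {f | IsMonHom f}
      mul_mem' := fun {f g} hf hg => by
        have hf' : IsMonHom f := hf
        have hg' : IsMonHom g := hg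
        refine K395.Pts.isMonHom_of_pts (f * g) fun T x y => ?_
        rw [MonObj.comp_mul, MonObj.comp_mul, MonObj.comp_mul, MonObj.mul_comp, MonObj.mul_comp,
          _root_.mul_assoc, ← _root_.mul_assoc (y ≫ f), hcen f hf' y (x ≫ g), _root_.mul_assoc,
          ← _root_.mul_assoc (x ≫ f)]
      one_mem' := by
        refine K395.Pts.isMonHom_of_pts (1 : G ⟶ H) fun T x y => ?_
        rw [MonObj.comp_one, MonObj.comp_one, MonObj.comp_one, _root_.mul_one]
      inv_mem' := fun {f} hf => by
        have hf' : IsMonHom f := hf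
        refine K395.Pts.isMonHom_of_pts (f⁻¹) fun T x y => ?_
        rw [GrpObj.comp_inv, GrpObj.comp_inv, GrpObj.comp_inv, MonObj.mul_comp, hcen f hf' x (y ≫ f),
          _root_.mul_inv_rev] }
  have hXm : ∀ f : X, IsMonHom (f : G ⟶ H) := fun f => f.2
  letI : CommGroup X :=
    { (inferInstance : Group X) with
      mul_comm := fun a b => Subtype.ext (by
        have h1 := hcen a.1 (hXm a) (𝟙 G) b.1
        rwa [Category.id_comp] at h1) }
  let Ψ : Additive X →+ E := AddMonoidHom.mk' (fun a => ψ a.toMul.1) (fun a b =>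
    hE3 a.toMul.1 b.toMul.1 (hXm _) (hXm _) (hXm (a.toMul * b.toMul)))
  have hinj : Function.Injective Ψ := fun a b hab => by
    have h1 := hE4 a.toMul.1 b.toMul.1 (hXm _) (hXm _) hab
    have h2 : a.toMul = b.toMul := Subtype.ext h1
    exact h2
  have hfin : Module.Finite ℤ (Additive X) := Module.Finite.of_injective Ψ.toIntLinearMap hinj
  have htf : IsAddTorsionFree (Additive X) := by
    refine ⟨fun n hn a b hab => hinj ?_⟩
    apply IsAddTorsionFree.nsmul_right_injective (M := E) hn
    simp only [← map_nsmul]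
    exact congrArg Ψ hab
  have hfree : Module.Free ℤ (Additive X) := inferInstance
  let B := Module.finBasis ℤ (Additive X)
  have hprod : ∀ a : Fin (Module.finrank ℤ (Additive X)) → ℤ,
      (List.ofFn fun i => ((B i).toMul : X).1 ^ a i).prod = ((B.equivFun.symm a).toMul : X).1 := by
    intro a
    rw [Module.Basis.equivFun_symm_apply]
    have h1 : (∑ i, a i • B i).toMul = (List.ofFn fun i => ((B i).toMul : X) ^ a i).prod := by
      rw [List.prod_ofFn, toMul_sum]
      rfl
    rw [h1]
    have h2 := map_list_prod X.subtype (List.ofFn fun i => ((B i).toMul : X) ^ a i)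
    rw [List.map_ofFn] at h2
    exact h2.symm
  refine ⟨_, fun i => ((B i).toMul : X).1, fun i => hXm _, fun f hf => ?_⟩
  refine ⟨B.equivFun (Additive.ofMul ⟨f, hf⟩), ?_, ?_⟩
  · simp only
    rw [hprod, LinearEquiv.symm_apply_apply]
    rfl
  · intro a ha
    simp only at ha
    rw [hprod] at ha
    have h1 : (B.equivFun.symm a).toMul = (⟨f, hf⟩ : X) := Subtype.ext ha
    have h2 : B.equivFun.symm a = Additive.ofMul (⟨f, hf⟩ : X) := h1
    rw [← h2, LinearEquiv.apply_symm_apply]

end Groth.Agent.S18081
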