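import Groth.Statements.S18084
import Groth.Agent.AlgGrp.K411.SpecMach

set_option autoImplicit false
universe u
open CategoryTheory MonoidalCategory CartesianMonoidalCategory MonObj GrpObj AlgebraicGeometry CategoryTheory.Limits
open AlgGrp

namespace Groth.Agent.S18084

/-- Let S be a scheme and G a smooth S-group scheme of finite presentation; for s ∈ S let d_ab(s) be the
dimension of the abelianization of the geometric fibre of G at s, i.e. the dimension of that fibre
minus the dimension of its derived group (the least dimension of a closed normal subgroup scheme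
containing all commutators of points). Then d_ab does not decrease under specialization: for every
natural number n, if s specializes to s' (that is, s' lies in the closure of s) and d_ab(s) ≥ n,
then d_ab(s') ≥ n. (The published statement asserts that d_ab is upper semicontinuous on S, i.e.
that the set of points s with d_ab(s) ≥ n is closed; the published argument reduces to the spectrum
of an integral local ring and establishes that this set is stable under specialization, which is
what is stated here. Closedness would in addition need the set to be locally constructible, which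
the argument does not address.) -/
theorem result (S : Scheme.{u}) (G : Over S) [GrpObj G]
    [Smooth G.hom] [QuasiCompact G.hom] [QuasiSeparated G.hom] (n : ℕ) :
    StableUnderSpecialization {s : ↥S | ∃ (N : Over (Spec (CommRingCat.of (AlgebraicClosure (S.residueField s))))) (_ : GrpObj N)
      (i : N ⟶ Red.geomFibre s G), IsMonHom i ∧ IsClosedImmersion i.left ∧ AlgGrp.IsNormalHom i ∧
      (∀ (T : Over (Spec (CommRingCat.of (AlgebraicClosure (S.residueField s))))) (g h : T ⟶ Red.geomFibre s G),
        ∃ m : T ⟶ N, g * h * g⁻¹ * h⁻¹ = m ≫ i) ∧
      (n : WithBot ℕ∞) + topologicalKrullDim ↥N.left ≤ topologicalKrullDim ↥(Red.geomFibre s G).left} := by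
  rintro s s' h ⟨N, hN, i, h1, h2, h3, h4, h5⟩
  obtain ⟨N', hN', i', h1', h2', ⟨h3', h4'⟩, h5'⟩ :=
    AlgGrp.K411.SpecPair.hasP_of_specializes
      (AlgGrp.K411.SpecPair.isSpec_normal.and AlgGrp.K411.SpecPair.isSpec_hasComm) G
      ⟨(inferInstance : Flat G.hom), (inferInstance : Flat G.hom)⟩ h
      ⟨N, hN, i, h1, h2, ⟨h3, h4⟩, rfl⟩
  refine ⟨N', hN', i', h1', h2', h3', h4', ?_⟩
  rw [h5']
  have h6 : topologicalKrullDim ↥(Red.geomFibre s G).left = topologicalKrullDim ↥(Red.geomFibre s' G).left := by
    refine K412.Dim.dim_eq G (Red.geomPt s) (Red.geomPt s') ?_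
    rwa [Red.geomPt, Scheme.Hom.comp_apply, Scheme.fromSpecResidueField_apply, Red.geomPt,
      Scheme.Hom.comp_apply, Scheme.fromSpecResidueField_apply]
  rwa [← h6]

end Groth.Agent.S18084
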