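import Groth.Statements.S18085
import Groth.Agent.S14600
import Groth.Agent.S0353
import Groth.Agent.Sga3B.TorusIrr
import Groth.Agent.AlgGrp.K404.DimKer

set_option autoImplicit false
universe u
open CategoryTheory MonoidalCategory CartesianMonoidalCategory MonObj GrpObj AlgebraicGeometry CategoryTheory.Limits
open AlgGrp

namespace Groth.Agent.S18085

attribute [-instance] CategoryTheory.catToReflQuiver

/-- Let k be a field and G a connected k-group scheme of finite type, with G_aff = N (the smallest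
normal connected affine closed subgroup scheme with abelian variety quotient), G_ant = M (the
largest anti-affine closed subgroup scheme) and (G_ant)_aff = M' (the smallest connected affine
closed subgroup scheme of M with abelian variety quotient M/M' = B). Then M' is smooth and contained
in N, and (N ∩ M)/M' is finite: the image of N ∩ M in B is a finite set of points. -/
theorem result (k : Type u) [Field k]
    (G : Over (Spec (CommRingCat.of k))) [GrpObj G] [LocallyOfFiniteType G.hom] [QuasiCompact G.hom] [ConnectedSpace ↥G.left]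
    (N : Over (Spec (CommRingCat.of k))) [GrpObj N] (i : N ⟶ G) [IsMonHom i] [IsClosedImmersion i.left]
    [IsAffine N.left] [ConnectedSpace ↥N.left] (hN : AlgGrp.IsNormalHom i)
    (A : Over (Spec (CommRingCat.of k))) [GrpObj A] (q : G ⟶ A) [IsMonHom q] [Surjective q.left] [Flat q.left]
    [IsProper A.hom] [Smooth A.hom] [ConnectedSpace ↥A.left] (hq : AlgGrp.IsKernel i q)
    (hNmin : ∀ (N₁ : Over (Spec (CommRingCat.of k))) [GrpObj N₁] (i₁ : N₁ ⟶ G) [IsMonHom i₁] [IsClosedImmersion i₁.left]
    [IsAffine N₁.left] [ConnectedSpace ↥N₁.left] (A₁ : Over (Spec (CommRingCat.of k))) [GrpObj A₁] (q₁ : G ⟶ A₁) [IsMonHom q₁]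
      [Surjective q₁.left] [Flat q₁.left] [IsProper A₁.hom] [Smooth A₁.hom] [ConnectedSpace ↥A₁.left],
      AlgGrp.IsNormalHom i₁ → AlgGrp.IsKernel i₁ q₁ → ∃ g : N ⟶ N₁, g ≫ i₁ = i)
    (M : Over (Spec (CommRingCat.of k))) [GrpObj M] [LocallyOfFiniteType M.hom] [QuasiCompact M.hom] (j : M ⟶ G) [IsMonHom j] [IsClosedImmersion j.left]
    (hM : Function.Bijective ((Scheme.ΓSpecIso (CommRingCat.of k)).inv ≫ M.hom.appTop).hom)
    (hMmax : ∀ (M₁ : Over (Spec (CommRingCat.of k))) [GrpObj M₁] [LocallyOfFiniteType M₁.hom] [QuasiCompact M₁.hom] (j₁ : M₁ ⟶ G) [IsMonHom j₁] [IsClosedImmersion j₁.left],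
      Function.Bijective ((Scheme.ΓSpecIso (CommRingCat.of k)).inv ≫ M₁.hom.appTop).hom → ∃ g : M₁ ⟶ M, g ≫ j = j₁)
    (M' : Over (Spec (CommRingCat.of k))) [GrpObj M'] (m : M' ⟶ M) [IsMonHom m] [IsClosedImmersion m.left]
    [IsAffine M'.left] [ConnectedSpace ↥M'.left]
    (B : Over (Spec (CommRingCat.of k))) [GrpObj B] (r : M ⟶ B) [IsMonHom r] [Surjective r.left] [Flat r.left]
    [IsProper B.hom] [Smooth B.hom] [ConnectedSpace ↥B.left] (hr : AlgGrp.IsKernel m r)
    (hM'min : ∀ (M₂ : Over (Spec (CommRingCat.of k))) [GrpObj M₂] (m₂ : M₂ ⟶ M) [IsMonHom m₂] [IsClosedImmersion m₂.left]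
    [IsAffine M₂.left] [ConnectedSpace ↥M₂.left] (B₂ : Over (Spec (CommRingCat.of k))) [GrpObj B₂] (r₂ : M ⟶ B₂) [IsMonHom r₂]
      [Surjective r₂.left] [Flat r₂.left] [IsProper B₂.hom] [Smooth B₂.hom] [ConnectedSpace ↥B₂.left],
      AlgGrp.IsKernel m₂ r₂ → ∃ g : M' ⟶ M₂, g ≫ m₂ = m)
    (P : Over (Spec (CommRingCat.of k))) (p₁ : P ⟶ N) (p₂ : P ⟶ M) (hP : IsPullback p₁ p₂ i j) :
    Smooth M'.hom ∧ (∃ g : M' ⟶ N, g ≫ i = m ≫ j) ∧ (Set.range ⇑(p₂ ≫ r).left.base).Finite := by
  -- general facts
  have hmm : Mono m := Groth.Agent.Books.AlgPtsGrp.mono_of_isClosedImmersion m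
  have hM'ft : LocallyOfFiniteType M'.hom := by rw [← Over.w m]; infer_instance
  have hM'sm : Smooth M'.hom := by
    obtain ⟨p, hp⟩ := CharP.exists k
    rcases (CharP.char_is_prime_or_zero k p) with hp' | rfl
    · have : Fact p.Prime := ⟨hp'⟩
      obtain ⟨T, _, t, C, _, s, h1, h2, h3, h4, h5, h6, h7, h8, h9, h10⟩ := Groth.Agent.S14600.result k p M hM
      have hTs : Smooth T.hom := Groth.Agent.Sga3B.TorusAlgClosed.smooth_of_isTorus h3
      have hTa' : IsAffineHom T.hom := Groth.Agent.Sga3B.TorusAlgClosed.isAffineHom_of_isTorus h3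
      have hTa : IsAffine T.left := isAffine_of_isAffineHom T.hom
      have hTirr := Groth.Agent.Sga3B.TorusIrr.geometricallyIrreducible_of_isTorus h3
      have : IrreducibleSpace T.left := GeometricallyIrreducible.irreducibleSpace_of_subsingleton T.hom
      have hTc : ConnectedSpace ↥T.left := inferInstance
      have htm : Mono t := Groth.Agent.Books.AlgPtsGrp.mono_of_isClosedImmersion t
      obtain ⟨g, hg⟩ := hM'min T t C s h7
      have h11 : t ≫ r = 1 := Groth.Agent.Sga3.H821.AffProper.hom_eq_one k T B (t ≫ r)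
      obtain ⟨g', hg'⟩ := K404.Desc.exists_lift_ker hr t h11
      have e1 : g ≫ g' = 𝟙 _ := by rw [← cancel_mono m, Category.assoc, hg', hg, Category.id_comp]
      have e2 : g' ≫ g = 𝟙 _ := by rw [← cancel_mono t, Category.assoc, hg, hg', Category.id_comp]
      have hgi : IsIso g := ⟨g', e1, e2⟩
      have hgl : IsIso g.left := inferInstanceAs (IsIso ((Over.forget _).map g))
      rw [← Over.w g]
      infer_instance
    · have : CharZero k := CharP.charP_to_charZero k
      exact Groth.Agent.S0353.result k M'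
  refine ⟨hM'sm, ?_, ?_⟩
  · have h1 : m ≫ j ≫ q = 1 := Groth.Agent.Sga3.H821.AffProper.hom_eq_one k M' A (m ≫ j ≫ q)
    exact K404.Desc.exists_lift_ker hq (m ≫ j) (by rw [Category.assoc]; exact h1)
  · open Groth.Agent.Sga3B.KerGrp in
    obtain ⟨_, hK⟩ := exists_grpObj (j ≫ q)
    have hKc : IsClosedImmersion (kerι (j ≫ q)).left := inferInstance
    have hKf : LocallyOfFiniteType (kerObj (j ≫ q)).hom := by rw [← Over.w (kerι (j ≫ q))]; infer_instance
    have hKq : QuasiCompact (kerObj (j ≫ q)).hom := by rw [← Over.w (kerι (j ≫ q))]; infer_instance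
    obtain ⟨w, hw⟩ := K404.Desc.exists_lift_ker hq (kerι (j ≫ q) ≫ j) (by
      rw [Category.assoc]
      exact kerι_comp (j ≫ q))
    have hKa : IsAffine (kerObj (j ≫ q)).left := by
      have h2 : IsClosedImmersion (w.left ≫ i.left) := by
        rw [← Over.comp_left, hw, Over.comp_left]
        infer_instance
      have h3 : IsClosedImmersion w.left := IsClosedImmersion.of_comp w.left i.left
      exact isAffine_of_isAffineHom w.left
    have hd := K404.DimKer.discreteTopology_range k (kerι (j ≫ q) ≫ r)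
    have hcs : CompactSpace (kerObj (j ≫ q)).left := QuasiCompact.compactSpace_of_compactSpace (kerObj (j ≫ q)).hom
    have hfin : (Set.range ⇑(kerι (j ≫ q) ≫ r).left).Finite :=
      (isCompact_range (kerι (j ≫ q) ≫ r).left.continuous).finite ⟨hd⟩
    obtain ⟨e, he⟩ := exists_lift (j ≫ q) p₂ (by
      rw [← Category.assoc, ← hP.w, Category.assoc, K404.Desc.ker_eq_one hq, MonObj.comp_one])
    refine hfin.subset ?_
    rw [← he, Category.assoc, Over.comp_left, Scheme.Hom.comp_base, TopCat.coe_comp]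
    exact Set.range_comp_subset_range _ _

end Groth.Agent.S18085
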