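import Groth.Statements.S18086
import Groth.Agent.AlgGrp.K202.SpecUnip

set_option autoImplicit false
universe u
open CategoryTheory MonoidalCategory CartesianMonoidalCategory MonObj GrpObj AlgebraicGeometry CategoryTheory.Limits
open AlgGrp

namespace Groth.Agent.S18086

/-- Let k be a perfect field and G an algebraic k-group. If G_{k((t))} contains a smooth connected
unipotent k((t))-subgroup of dimension at least d, unipotent being expressed for a smooth connected
affine group as having no non-trivial subtorus over the ground field, then G contains a smooth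
connected unipotent k-subgroup of dimension at least d. Hence, counting smooth connected unipotent
subgroups, D_u(k, G) = D_u(k((t)), G), the reverse inequality being base change. (The published
lemma is stated over an arbitrary field k and counts unipotent k-subgroups which need not be smooth;
the subgroup its argument produces over k is the special fibre of a schematic closure over k[[t]]
and need not be smooth. This statement asks for a smooth connected subgroup and therefore takes k
perfect, where the reduced identity component of that special fibre is a smooth connected unipotent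
k-subgroup of the same dimension.) -/
theorem result (k : Type u) [Field k] [PerfectField k]
    (G : Over (Spec (CommRingCat.of k))) [GrpObj G] [LocallyOfFiniteType G.hom] [QuasiCompact G.hom] (d : ℕ)
    (hK : ∃ (U : Over (Spec (CommRingCat.of (LaurentSeries k)))) (_ : GrpObj U) (i : U ⟶ Red.bc (Spec.map (CommRingCat.ofHom (algebraMap k (LaurentSeries k)))) G), IsMonHom i ∧ IsClosedImmersion i.left ∧
        Smooth U.hom ∧ IsAffine U.left ∧ ConnectedSpace ↥U.left ∧ Red.HasNoSubtorus (LaurentSeries k) U ∧
        (d : WithBot ℕ∞) ≤ topologicalKrullDim ↥U.left) :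
    ∃ (U : Over (Spec (CommRingCat.of k))) (_ : GrpObj U) (i : U ⟶ G), IsMonHom i ∧ IsClosedImmersion i.left ∧
        Smooth U.hom ∧ IsAffine U.left ∧ ConnectedSpace ↥U.left ∧ Red.HasNoSubtorus k U ∧
        (d : WithBot ℕ∞) ≤ topologicalKrullDim ↥U.left := by
  obtain ⟨U, _, i, hi, hcl, hsm, haff, hconn, hU, hd⟩ := hK
  have hcomp : (algebraMap (PowerSeries k) (LaurentSeries k)).comp (algebraMap k (PowerSeries k)) =
      algebraMap k (LaurentSeries k) := by
    ext x
    rfl
  obtain ⟨eG2⟩ : Nonempty (Grp.mk (Red.bc (K412.Tower.sp (algebraMap k (LaurentSeries k))) G) ≅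
      Grp.mk (Red.bc (K412.Tower.sp (algebraMap (PowerSeries k) (LaurentSeries k)))
        (Red.bc (K412.Tower.sp (algebraMap k (PowerSeries k))) G))) :=
    ⟨K412.Tower.tower (by rw [K412.Tower.sp_comp, hcomp]) G⟩
  have h1 : IsIso (Groth.Agent.Sga3B.RedIso.und eG2).hom.left := inferInstance
  have h2 : IsClosedImmersion (i ≫ (Groth.Agent.Sga3B.RedIso.und eG2).hom).left := by
    rw [Over.comp_left]; infer_instance
  have h3 : LocallyOfFiniteType (Red.bc (K412.Tower.sp (algebraMap k (PowerSeries k))) G).hom :=
    inferInstanceAs (LocallyOfFiniteType (pullback.snd G.hom (K412.Tower.sp (algebraMap k (PowerSeries k)))))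
  obtain ⟨V, _, j, hj, hjcl, hVsm, hVaff, hVc, hV, hVd⟩ :=
    AlgGrp.K202.SpecUnip.exists_special (PowerSeries k) (LaurentSeries k) k
      (PowerSeries.constantCoeff (R := k)) (Red.bc (K412.Tower.sp (algebraMap k (PowerSeries k))) G) U
      (i ≫ (Groth.Agent.Sga3B.RedIso.und eG2).hom) hU
  obtain ⟨e⟩ : Nonempty (Grp.mk (Red.bc (K412.Tower.sp (PowerSeries.constantCoeff (R := k)))
      (Red.bc (K412.Tower.sp (algebraMap k (PowerSeries k))) G)) ≅ Grp.mk G) := by
    refine ⟨K412.Machine.towerId _ _ ?_ G⟩
    rw [K412.Tower.sp_comp, ← K412.Tower.sp_id]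
    congr 1
  have h4 : IsIso (Groth.Agent.Sga3B.RedIso.und e).hom.left := inferInstance
  refine ⟨V, inferInstance, j ≫ (Groth.Agent.Sga3B.RedIso.und e).hom, inferInstance, ?_, hVsm, hVaff, hVc, hV, ?_⟩
  · rw [Over.comp_left]; infer_instance
  · rw [hVd]; exact hd

end Groth.Agent.S18086
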