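import Groth.Statements.S18090
import Groth.Agent.AlgGrp.K404.Gug2

set_option autoImplicit false
universe u
open CategoryTheory MonoidalCategory CartesianMonoidalCategory MonObj GrpObj AlgebraicGeometry CategoryTheory.Limits
open AlgGrp

namespace Groth.Agent.S18090

attribute [-instance] CategoryTheory.catToReflQuiver

/-- Let k be a perfect field of characteristic p > 0, G a connected algebraic group over k, N = G_aff
its largest connected affine algebraic subgroup (normal, with abelian variety quotient), R =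
R(G_aff) the radical of N, T a maximal torus of R, and H = G_gug the smallest normal connected
algebraic subgroup of G with semi-abelian quotient, which lies in N. Then T is a quasi-complement to
H in N: N = T H and T ∩ H is finite. -/
theorem result (k : Type u) [Field k] [PerfectField k]
    (p : ℕ) [Fact p.Prime] [CharP k p]
    (G : Over (Spec (CommRingCat.of k))) [GrpObj G] [Smooth G.hom] [QuasiCompact G.hom] [ConnectedSpace ↥G.left]
    (N : Over (Spec (CommRingCat.of k))) [GrpObj N] (i : N ⟶ G) [IsMonHom i] [IsClosedImmersion i.left]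
    [Smooth N.hom] [IsAffine N.left] [ConnectedSpace ↥N.left] (hN : AlgGrp.IsNormalHom i)
    (A : Over (Spec (CommRingCat.of k))) [GrpObj A] (q : G ⟶ A) [IsMonHom q] [Surjective q.left] [Flat q.left]
    [IsProper A.hom] [Smooth A.hom] [ConnectedSpace ↥A.left] (hq : AlgGrp.IsKernel i q)
    (hNmax : ∀ (N₁ : Over (Spec (CommRingCat.of k))) [GrpObj N₁] (i₁ : N₁ ⟶ G) [IsMonHom i₁] [IsClosedImmersion i₁.left],
      Smooth N₁.hom → IsAffine N₁.left → ConnectedSpace ↥N₁.left → ∃ f : N₁ ⟶ N, f ≫ i = i₁)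
    (R : Over (Spec (CommRingCat.of k))) [GrpObj R] (r : R ⟶ N) [IsMonHom r] [IsClosedImmersion r.left]
    [Smooth R.hom] [ConnectedSpace ↥R.left] (hRs : Red.IsSolvableGrp R) (hRn : AlgGrp.IsNormalHom r)
    (hRmax : ∀ (R₁ : Over (Spec (CommRingCat.of k))) [GrpObj R₁] (r₁ : R₁ ⟶ N) [IsMonHom r₁] [IsClosedImmersion r₁.left],
      Smooth R₁.hom → ConnectedSpace ↥R₁.left → Red.IsSolvableGrp R₁ → AlgGrp.IsNormalHom r₁ → ∃ f : R₁ ⟶ R, f ≫ r = r₁)
    (T : Over (Spec (CommRingCat.of k))) [GrpObj T] (t : T ⟶ R) (hT : Red.IsMaximalTorus t)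
    (H : Over (Spec (CommRingCat.of k))) [GrpObj H] (h : H ⟶ G) [IsMonHom h] [IsClosedImmersion h.left]
    [Smooth H.hom] [ConnectedSpace ↥H.left] (hHn : AlgGrp.IsNormalHom h)
    (Q : Over (Spec (CommRingCat.of k))) [GrpObj Q] (qH : G ⟶ Q) [IsMonHom qH] [Surjective qH.left] [Flat qH.left]
    (hHker : AlgGrp.IsKernel h qH) (hQ : (∃ (T : Over (Spec (CommRingCat.of k))) (_ : GrpObj T) (t : T ⟶ Q) (A : Over (Spec (CommRingCat.of k))) (_ : GrpObj A) (p : Q ⟶ A),
        IsMonHom t ∧ IsClosedImmersion t.left ∧ Red.IsTorus T ∧ IsMonHom p ∧ Surjective p.left ∧ Flat p.left ∧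
        AlgGrp.IsKernel t p ∧ IsProper A.hom ∧ Smooth A.hom ∧ ConnectedSpace ↥A.left))
    (hHmin : ∀ (H' : Over (Spec (CommRingCat.of k))) [GrpObj H'] (h' : H' ⟶ G) [IsMonHom h'] [IsClosedImmersion h'.left]
        (Q' : Over (Spec (CommRingCat.of k))) [GrpObj Q'] (q' : G ⟶ Q') [IsMonHom q'] [Surjective q'.left] [Flat q'.left],
        AlgGrp.IsNormalHom h' → Smooth H'.hom → ConnectedSpace ↥H'.left → AlgGrp.IsKernel h' q' → (∃ (T : Over (Spec (CommRingCat.of k))) (_ : GrpObj T) (t : T ⟶ Q') (A : Over (Spec (CommRingCat.of k))) (_ : GrpObj A) (p : Q' ⟶ A),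
        IsMonHom t ∧ IsClosedImmersion t.left ∧ Red.IsTorus T ∧ IsMonHom p ∧ Surjective p.left ∧ Flat p.left ∧
        AlgGrp.IsKernel t p ∧ IsProper A.hom ∧ Smooth A.hom ∧ ConnectedSpace ↥A.left) →
        ∃ f : H ⟶ H', f ≫ h' = h)
    (g : H ⟶ N) (hg : g ≫ i = h) :
    Surjective (((t ≫ r) ⊗ₘ g) ≫ μ[N]).left ∧
    ∀ (P : Over (Spec (CommRingCat.of k))) (p₁ : P ⟶ T) (p₂ : P ⟶ H), IsPullback p₁ p₂ (t ≫ r) g → IsFinite P.hom := by
  obtain ⟨U, _, u, hU⟩ := K404.URad.exists_isUnipotentRadical k N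
  have hU' := hU
  obtain ⟨hu1, hu2, hu3, hu4, hu5, hu6, -⟩ := hU'
  have hne' : Nonempty ↥(Spec (CommRingCat.of k)) := inferInstanceAs (Nonempty (PrimeSpectrum k))
  have hUc : ConnectedSpace ↥U.left := by
    obtain ⟨s⟩ := hne'
    exact K402.Quo.connectedSpace_of_bc (f := Red.geomPt s) (hu6 s).1
  have hUa : IsAffine U.left := isAffine_of_isAffineHom u.left
  have hUu : K414.Unip.IsUnip U := K414.UnipTor.isUnip_of_noTor U (fun s => (hu6 s).2)
  have hNq : QuasiCompact N.hom := quasiCompact_of_compactSpace N.hom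
  have hmi : Mono i := Groth.Agent.Books.AlgPtsGrp.mono_of_isClosedImmersion i
  have hQq : QuasiCompact Q.hom := K402.Quo.quasiCompact_of_surjective qH
  have hQc : IsCommMonObj Q := K402.Comm.isCommMonObj hQ
  obtain ⟨Nb, _, n, n1, n2, n3, n4, n5, n6, n7, n8, n9, n10, n11, n12⟩ := K404.QuoKit.exists_quotient k N U u hu3
  have hNbs := n9 inferInstance
  have hNbc := n11 inferInstance
  have hNb : Red.IsReductive Nb := Groth.Agent.S8093.result k N U u hU Nb n n5
  have hns : Smooth n.left := (Groth.Agent.Sga3.H821.ExtConn.smooth_connected u n n5).1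
  have hnq : QuasiCompact n.left := K398.Pts.quasiCompact_left n
  obtain ⟨C, _, f₀, D, _, d, c1, c2, c3, c4, c5, c6, c7, c8, c9, c10, -⟩ := Groth.Agent.S3972.result Nb hNb
  have hCq := K402.Tori.quasiCompact c2
  have hCs := K402.Tori.smooth c2
  have hCsep : IsSeparated C.hom := Groth.Agent.Books.AntiAffine.isSeparated_hom C
  have hCc : IsCommMonObj C := K402.Comm.isCommMonObj (K402.SemiAb.of_torus c2)
  have hC : ∀ (X : Over (Spec (CommRingCat.of k))) (a b : X ⟶ C), a * b = b * a := fun X a b => mul_comm a b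
  have hDr : Red.IsReductive D := ⟨c8.1, c8.2.1, fun s => (c8.2.2 s).1⟩
  have hDs : Smooth D.hom := hDr.2.1
  have hDc : ConnectedSpace ↥D.left := K494.RadRed.connectedSpace_of_isReductive hDr
  have hDa : IsAffine D.left := K494.RadRed.isAffine_of_isReductive hDr
  have hmd : Mono d := Groth.Agent.Books.AlgPtsGrp.mono_of_isClosedImmersion d
  obtain ⟨φ, hφ⟩ : ∃ φ : N ⟶ C, φ = n ≫ f₀ := ⟨_, rfl⟩
  have hφm : IsMonHom φ := by rw [hφ]; infer_instance
  have hφs : Smooth φ.left := by rw [hφ, Over.comp_left]; infer_instance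
  have hφsu : Surjective φ.left := by rw [hφ, Over.comp_left]; infer_instance
  obtain ⟨K₀, _, κ, hκm, hκcl, hκ⟩ : ∃ (K₀ : Over (Spec (CommRingCat.of k))) (_ : GrpObj K₀) (κ : K₀ ⟶ N),
      IsMonHom κ ∧ IsClosedImmersion κ.left ∧ AlgGrp.IsKernel κ φ := by
    obtain ⟨_, h⟩ := Groth.Agent.Sga3B.KerGrp.exists_grpObj φ
    exact ⟨_, inferInstance, Groth.Agent.Sga3B.KerGrp.kerι φ, h, inferInstance,
      Groth.Agent.Sga3B.KerGrp.isPullback_ker φ⟩
  have hmκ : Mono κ := Groth.Agent.Books.AlgPtsGrp.mono_of_isClosedImmersion κ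
  have hK₀s : Smooth K₀.hom := by
    have h1 : Smooth (toUnit K₀).left := MorphismProperty.of_isPullback (P := @Smooth) (hκ.map (Over.forget _)) hφs
    rwa [Over.toUnit_left] at h1
  have hK₀a : IsAffine K₀.left := isAffine_of_isAffineHom κ.left
  have hK₀q : QuasiCompact K₀.hom := quasiCompact_of_compactSpace K₀.hom
  obtain ⟨w, hw⟩ := K404.Desc.exists_lift_ker c7 (κ ≫ n) (by rw [Category.assoc, ← hφ, K404.Desc.ker_eq_one hκ])
  have hwm : IsMonHom w := by
    have : IsMonHom (w ≫ d) := by rw [hw]; infer_instance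
    exact K402.Comm.isMonHom_of_comp_mono w d
  have hsq : IsPullback κ w n d := by
    refine K404.Isotriv.isPullback_of_points hw.symm (fun X x y hxy => ?_) (fun X e e' h1 h2 => ?_)
    · obtain ⟨z, hz⟩ := K404.Desc.exists_lift_ker hκ x (by
        rw [hφ, ← Category.assoc, hxy, Category.assoc, K404.Desc.ker_eq_one c7, MonObj.comp_one])
      refine ⟨z, hz, ?_⟩
      rw [← cancel_mono d, Category.assoc, hw, ← Category.assoc, hz, hxy]
    · rwa [cancel_mono] at h1
  have hwf : Flat w.left := MorphismProperty.of_isPullback (P := @Flat) (hsq.map (Over.forget _)) n2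
  have hwsu : Surjective w.left := MorphismProperty.of_isPullback (P := @Surjective) (hsq.map (Over.forget _)) n3
  obtain ⟨u', hu'⟩ := K404.Desc.exists_lift_ker hκ u (by
    rw [hφ, ← Category.assoc, K404.Desc.ker_eq_one n5, MonObj.one_comp])
  have hu'k : AlgGrp.IsKernel u' w := by
    refine K404.Isotriv.isPullback_of_points ?_ (fun X x y hxy => ?_) (fun X e e' h1 h2 => ?_)
    · rw [← Hom.one_def, ← cancel_mono d, Category.assoc, hw, ← Category.assoc, hu', K404.Desc.ker_eq_one n5,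
        MonObj.one_comp]
    · have hxy' : x ≫ w = 1 := by rw [hxy, toUnit_unique y (toUnit X)]; rfl
      obtain ⟨z, hz⟩ := K404.Desc.exists_lift_ker n5 (x ≫ κ) (by
        rw [Category.assoc, ← hw, ← Category.assoc, hxy', MonObj.one_comp])
      refine ⟨z, ?_, toUnit_unique _ _⟩
      rw [← cancel_mono κ, Category.assoc, hu', hz]
    · have h3 := congrArg (· ≫ κ) h1
      beta_reduce at h3
      rw [Category.assoc, Category.assoc, hu'] at h3
      have hmu : Mono u := Groth.Agent.Books.AlgPtsGrp.mono_of_isClosedImmersion u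
      rwa [cancel_mono] at h3
  have hK₀c : ConnectedSpace ↥K₀.left := (Groth.Agent.Sga3.H821.ExtConn.smooth_connected u' w hu'k).2.2.2
  -- commutators
  have hcomm := K404.Gug2.exists_commutator i q hq φ hC κ hκ
  have hnorm : AlgGrp.IsNormalHom (κ ≫ i) := by
    intro X x y
    obtain ⟨m, hm⟩ := hcomm X x (y ≫ κ ≫ i)
    refine ⟨m * y, ?_⟩
    rw [MonObj.mul_comp, ← hm, inv_mul_cancel_right]
  have hκicl : IsClosedImmersion (κ ≫ i).left := by rw [Over.comp_left]; infer_instance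
  obtain ⟨B, _, β, b1, b2, b3, b4, b5, b6, b7, b8, b9, b10, b11, b12⟩ :=
    K404.QuoKit.exists_quotient k G K₀ (κ ≫ i) hnorm
  have hBs := b9 inferInstance
  have hβq : QuasiCompact β.left := K398.Pts.quasiCompact_left β
  have hBc : IsCommMonObj B := K404.Gug2.isCommMonObj_of_commutators β (fun X x y => by
    obtain ⟨m, hm⟩ := hcomm X x y
    rw [hm, Category.assoc, K404.Desc.ker_eq_one b5, MonObj.comp_one])
  have hBsab : K402.SemiAb.SemiAb B := K404.Gug.semiAb_of_comm i q hq u hU β (by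
    rw [← hu']
    simp only [Category.assoc]
    rw [← Category.assoc κ i β, K404.Desc.ker_eq_one b5, MonObj.comp_one])
  obtain ⟨f, hf⟩ := hHmin K₀ (κ ≫ i) B β hnorm hK₀s hK₀c b5 hBsab
  have hfg : f ≫ κ = g := by rw [← cancel_mono i, Category.assoc, hf, hg]
  -- `K₀ ≤ H`
  have huQ : (u ≫ i) ≫ qH = 1 := by
    obtain ⟨T', _, t', A', _, p, t1, t2, t3, t4, t5, t6, t7, t8, t9, t10⟩ := hQ
    have hmt : Mono t' := Groth.Agent.Books.AlgPtsGrp.mono_of_isClosedImmersion t'
    have h1 : ((u ≫ i) ≫ qH) ≫ p = 1 := Groth.Agent.Sga3.H821.AffProper.hom_eq_one k U A' (((u ≫ i) ≫ qH) ≫ p)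
    obtain ⟨v, hv⟩ := K404.Desc.exists_lift_ker t7 _ h1
    have hvt : IsMonHom (v ≫ t') := by rw [hv]; infer_instance
    have hvm : IsMonHom v := K402.Comm.isMonHom_of_comp_mono v t'
    rw [← hv, K404.Gug.hom_unip_torus U T' hUu t3 v, MonObj.one_comp]
  obtain ⟨ψ, hψ1, hψ2⟩ := K404.Desc.exists_desc_hom u n n5 (i ≫ qH) (by rw [← Category.assoc, huQ])
  obtain ⟨f', hf', -⟩ := c10 Q ψ (fun X a b => mul_comm a b)
  obtain ⟨a, ha⟩ := K404.Desc.exists_lift_ker hHker (κ ≫ i) (by
    have h1 : (1 : K₀ ⟶ C) ≫ f' = 1 := by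
      rw [Hom.one_def, Category.assoc, ← IsMonHom.one_hom f₀, Category.assoc, hf', IsMonHom.one_hom]
      rfl
    rw [Category.assoc, ← hψ2, ← hf', ← Category.assoc n, ← hφ, ← Category.assoc, K404.Desc.ker_eq_one hκ, h1])
  have hag : a ≫ g = κ := by rw [← cancel_mono i, Category.assoc, hg, ha]
  have hTq := K402.Tori.quasiCompact hT.2.2.1
  have hTm := hT.1
  have hTmo := hT.2.1
  have hRa : IsAffine R.left := isAffine_of_isAffineHom r.left
  have hRq : QuasiCompact R.hom := quasiCompact_of_compactSpace R.hom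
  constructor
  · have hs1 : Surjective (r ≫ φ).left := K404.Gug2.surjective_radical r hRs hRn hRmax φ
    have hs2 : Surjective (t ≫ r ≫ φ).left := K404.Gug2.surjective_maximalTorus (r ≫ φ) c2 t hT
    rw [← Category.assoc] at hs2
    have hs3 : Surjective (((t ≫ r) ⊗ₘ κ) ≫ μ[N]).left := K404.MulPb.surjective_mul hκ
    have h4 : ((t ≫ r) ⊗ₘ κ) ≫ μ[N] = (𝟙 T ⊗ₘ a) ≫ ((t ≫ r) ⊗ₘ g) ≫ μ[N] := by
      rw [← Category.assoc, tensorHom_comp_tensorHom, Category.id_comp, hag]
    rw [h4, Over.comp_left] at hs3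
    exact Surjective.of_comp (𝟙 T ⊗ₘ a).left _
  · intro P p₁ p₂ hP
    have hfin : IsFinite (t ≫ r ≫ n ≫ f₀).left :=
      K404.Gug2.isFinite_toCoradical r hRs hRn t hT.2.2.1 u hUu n n5 hNb f₀ hC d c7 c9
    have hgcl : IsClosedImmersion g.left := by
      have : IsClosedImmersion (g.left ≫ i.left) := by rw [← Over.comp_left, hg]; infer_instance
      exact IsClosedImmersion.of_comp g.left i.left
    have hp₁ : IsClosedImmersion p₁.left :=
      MorphismProperty.of_isPullback (P := @IsClosedImmersion) (hP.map (Over.forget _)).flip hgcl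
    have hW : AlgGrp.IsKernel (Groth.Agent.Sga3B.KerGrp.kerι (t ≫ r ≫ n ≫ f₀)) (t ≫ r ≫ n ≫ f₀) :=
      Groth.Agent.Sga3B.KerGrp.isPullback_ker _
    have hWf : IsFinite (Groth.Agent.Sga3B.KerGrp.kerObj (t ≫ r ≫ n ≫ f₀)).hom := by
      have h1 : IsFinite (toUnit (Groth.Agent.Sga3B.KerGrp.kerObj (t ≫ r ≫ n ≫ f₀))).left :=
        MorphismProperty.of_isPullback (P := @IsFinite) (hW.map (Over.forget _)) hfin
      rwa [Over.toUnit_left] at h1
    obtain ⟨s, hs⟩ := K404.Desc.exists_lift_ker hW p₁ (by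
      rw [← hφ, ← Category.assoc t r, ← Category.assoc, hP.w, Category.assoc, ← hfg, Category.assoc,
        K404.Desc.ker_eq_one hκ, MonObj.comp_one, MonObj.comp_one])
    have hscl : IsClosedImmersion s.left := by
      have : IsClosedImmersion (s.left ≫ (Groth.Agent.Sga3B.KerGrp.kerι (t ≫ r ≫ n ≫ f₀)).left) := by
        rw [← Over.comp_left, hs]; infer_instance
      exact IsClosedImmersion.of_comp s.left (Groth.Agent.Sga3B.KerGrp.kerι (t ≫ r ≫ n ≫ f₀)).left
    rw [← Over.w s]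
    infer_instance

end Groth.Agent.S18090
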