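import Groth.Statements.S18095
import Groth.Agent.AlgGrp.K411.IsogSub

set_option autoImplicit false
universe u
open CategoryTheory MonoidalCategory CartesianMonoidalCategory MonObj GrpObj AlgebraicGeometry CategoryTheory.Limits
open AlgGrp

namespace Groth.Agent.S18095

/-- Let k be a field with algebraic closure k̄ and f : G → H an isogeny of algebraic k-groups (a
surjective homomorphism of k-group schemes of finite type with finite kernel, i.e. surjective and
finite). Then for every d, G_{k̄} contains a smooth connected solvable closed subgroup of dimension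
at least d if and only if H_{k̄} does; that is, d'_s(G) = d'_s(H). -/
theorem result (k : Type u) [Field k]
    (G H : Over (Spec (CommRingCat.of k))) [GrpObj G] [LocallyOfFiniteType G.hom] [QuasiCompact G.hom]
    [GrpObj H] [LocallyOfFiniteType H.hom] [QuasiCompact H.hom]
    (f : G ⟶ H) [IsMonHom f] [Surjective f.left] [IsFinite f.left] (d : ℕ) :
    (∃ (U : Over (Spec (CommRingCat.of (AlgebraicClosure k)))) (_ : GrpObj U) (i : U ⟶ Red.bc (Spec.map (CommRingCat.ofHom (algebraMap k (AlgebraicClosure k)))) G), IsMonHom i ∧ IsClosedImmersion i.left ∧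
        Smooth U.hom ∧ ConnectedSpace ↥U.left ∧ Red.IsSolvableGrp U ∧ (d : WithBot ℕ∞) ≤ topologicalKrullDim ↥U.left) ↔
    (∃ (U : Over (Spec (CommRingCat.of (AlgebraicClosure k)))) (_ : GrpObj U) (i : U ⟶ Red.bc (Spec.map (CommRingCat.ofHom (algebraMap k (AlgebraicClosure k)))) H), IsMonHom i ∧ IsClosedImmersion i.left ∧
        Smooth U.hom ∧ ConnectedSpace ↥U.left ∧ Red.IsSolvableGrp U ∧ (d : WithBot ℕ∞) ≤ topologicalKrullDim ↥U.left) := by
  let φ := Spec.map (CommRingCat.ofHom (algebraMap k (AlgebraicClosure k)))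
  have h1 : IsFinite ((Over.pullback φ).map f).left :=
    AlgGrp.K411.Bc.map_left_mem (P := @IsFinite) φ f ‹_›
  have h2 : Surjective ((Over.pullback φ).map f).left :=
    AlgGrp.K411.Bc.map_left_mem (P := @Surjective) φ f ‹_›
  have h3 : LocallyOfFiniteType (Red.bc φ G).hom :=
    AlgGrp.K411.Bc.hom_mem (P := @LocallyOfFiniteType) φ ‹_›
  have h4 : LocallyOfFiniteType (Red.bc φ H).hom :=
    AlgGrp.K411.Bc.hom_mem (P := @LocallyOfFiniteType) φ ‹_›

  exact AlgGrp.K411.IsogSub.exists_subgroup_iff
    AlgGrp.K411.IsogSub.isogInv_solvable ((Over.pullback φ).map f)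
    (fun x => (d : WithBot ℕ∞) ≤ x)

end Groth.Agent.S18095
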