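import Groth.Statements.S18096
import Groth.Agent.AlgGrp.K412.AffRep
import Groth.Agent.AlgGrp.K398.Affin

set_option autoImplicit false
universe u
open CategoryTheory MonoidalCategory CartesianMonoidalCategory MonObj GrpObj AlgebraicGeometry CategoryTheory.Limits
open AlgGrp

namespace Groth.Agent.S18096

/-- Let k be a field and G a k-group scheme of finite type. Then G is anti-affine, i.e. O(G) = k, if and
only if every finite-dimensional linear representation of G is trivial, i.e. for every n every
homomorphism G → GL_{n,k} is trivial. -/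
theorem result (k : Type u) [Field k]
    (G : Over (Spec (CommRingCat.of k))) [GrpObj G] [LocallyOfFiniteType G.hom] [QuasiCompact G.hom] :
    Function.Bijective ((Scheme.ΓSpecIso (CommRingCat.of k)).inv ≫ G.hom.appTop).hom ↔
      ∀ (n : ℕ) (ρ : G ⟶ FrB.GLn n (Spec (CommRingCat.of k))), IsMonHom ρ → ρ = 1 := by
  constructor
  · intro hG n ρ hρ
    have h1 := K398.AntiAff.isIso_appTop hG
    have h2 : IsAffine (FrB.GLn n (Spec (CommRingCat.of k))).left :=
      inferInstanceAs (IsAffine (pullback _ _))
    exact K398.Affin.hom_eq_one ρ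
  · intro h
    obtain ⟨N, Q, _, _, n, q, hs⟩ := K398.Affin.exists_affSeq G
    have i1 := hs.homQ
    have i2 := hs.affine
    have i3 := hs.ftQ
    obtain ⟨A, _, _, e, he, hA⟩ := AlgGrp.K411.IsogUnip.exists_hopf_ft Q
    obtain ⟨m, g, hg, hgm⟩ := K412.AffRep.exists_rep k A
    have h1 : q ≫ e.hom ≫ g = 1 := h m (q ≫ e.hom ≫ g) inferInstance
    have h2 : IsAffine (FrB.GLn m (Spec (CommRingCat.of k))).left :=
      inferInstanceAs (IsAffine (pullback _ _))
    have h3 : e.hom ≫ g = 1 := hs.hom_ext (by rw [h1, MonObj.comp_one])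
    have h4 : Mono (e.hom ≫ g) := inferInstance
    have h5 : Red.IsTrivialGrp Q := by
      apply AlgGrp.K411.IsogUnip.isTrivialGrp_of_id_eq_one
      rw [← cancel_mono (e.hom ≫ g), h3, MonObj.comp_one, MonObj.comp_one]
    have h6 : IsIso Q.hom := h5
    have h7 := hs.affz.isIso
    apply K398.AntiAff.bijective_of_isIso
    have h8 : IsIso Q.hom.appTop := inferInstanceAs (IsIso (Scheme.Γ.map Q.hom.op))
    rw [← Over.w q, Scheme.Hom.comp_appTop]
    exact @IsIso.comp_isIso _ _ _ _ _ _ _ h8 h7

end Groth.Agent.S18096
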