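import Groth.Statements.S18098
import Groth.Agent.AGF.K494.UT.Tors

set_option autoImplicit false
universe u
open CategoryTheory MonoidalCategory CartesianMonoidalCategory MonObj GrpObj AlgebraicGeometry CategoryTheory.Limits
open AlgGrp

namespace Groth.Agent.S18098

/-- Let k be a field and π : X → Y a torsor, over a k-scheme Y of finite type, under a non-trivial
connected unipotent algebraic group U (smooth, connected, affine, geometrically without non-trivial
subtorus). Then the quasi-coherent O_Y-module π_*(O_X) admits an infinite increasing exhaustive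
filtration, starting at 0, whose successive quotients are isomorphic to O_Y. -/
theorem result (k : Type u) [Field k]
    (U : Over (Spec (CommRingCat.of k))) [GrpObj U] [Smooth U.hom] [IsAffine U.left] [ConnectedSpace ↥U.left]
    (hU : Red.HasNoSubtorus (AlgebraicClosure k) (Red.bc (Spec.map (CommRingCat.ofHom (algebraMap k (AlgebraicClosure k)))) U)) (hU1 : ¬ Red.IsTrivialGrp U)
    (Y : Over (Spec (CommRingCat.of k))) [LocallyOfFiniteType Y.hom] [QuasiCompact Y.hom]
    (X : Over Y.left) (a : AlgGrp.Action (Red.bc Y.hom U) X) (hX : RedSub.IsTorsor a) :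
    ∃ (F : ℕ → Subobject ((Scheme.Modules.pushforward X.hom).obj (Coh.structureModule X.left)))
      (hF : ∀ n : ℕ, F n ≤ F (n + 1)),
      F 0 = ⊥ ∧ (∀ N : Subobject ((Scheme.Modules.pushforward X.hom).obj (Coh.structureModule X.left)), (∀ n, F n ≤ N) → N = ⊤) ∧
      ∀ n, Nonempty (cokernel (Subobject.ofLE (F n) (F (n + 1)) (hF n)) ≅ Coh.structureModule Y.left) := by
  obtain ⟨A, _, _, ε, hε, hft, hun, hinf⟩ := K494.UTFin.exists_hopf_unip U hU hU1
  obtain ⟨x, hx⟩ := K494.Flag.exists_span k A
  obtain ⟨e, u, hu1, hu0, hu⟩ := K494.Flag.exists_flag hun x hx hinf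
  have pb := K494.UTTors.isPullback_push a hX.2.2.2
  have hπ := K494.UTTors.push_hom a
  have h1 : Surjective X.hom := hX.1
  have h2 : Flat X.hom := hX.2.1
  have h3 : IsAffineHom U.hom := inferInstance
  have h4 : IsAffineHom X.hom := K494.UTTors.isAffineHom_hom a hX
  exact ⟨fun n => K494.UTShf.FSub ε (K552.Push.push a) X.hom hπ e n, K494.UTShf.FSub_le ε _ _ hπ e,
    K494.UTShf.FSub_zero ε _ _ hπ e, fun N hN => K494.UTShf.eq_top ε _ _ hπ e N hN,
    fun n => K494.UTShf.nonempty_cok ε _ _ hπ e pb u hu1 hu0 hu n⟩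

end Groth.Agent.S18098
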