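import Groth.Statements.S18100
import Groth.Agent.AlgGrp.K393.AntiMin
import Groth.Agent.AlgGrp.K393.GenProper

set_option autoImplicit false
universe u
open CategoryTheory MonoidalCategory CartesianMonoidalCategory MonObj GrpObj AlgebraicGeometry CategoryTheory.Limits
open AlgGrp

namespace Groth.Agent.S18100

/-- Let k be a field and G a non-trivial anti-affine k-group scheme of finite type with no anti-affine
closed subgroup scheme other than G and the trivial one. Then G is either an abelian variety (proper
over k), or every complete subvariety of G has dimension zero: any closed subscheme of G that is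
geometrically integral and proper over k has dimension 0. -/
theorem result (k : Type u) [Field k]
    (G : Over (Spec (CommRingCat.of k))) [GrpObj G] [LocallyOfFiniteType G.hom] [QuasiCompact G.hom] (hG : ¬ Red.IsTrivialGrp G)
    (hGa : Function.Bijective ((Scheme.ΓSpecIso (CommRingCat.of k)).inv ≫ G.hom.appTop).hom)
    (hmin : ∀ (H : Over (Spec (CommRingCat.of k))) [GrpObj H] (h : H ⟶ G) [IsMonHom h] [IsClosedImmersion h.left], ¬ IsIso h → Function.Bijective ((Scheme.ΓSpecIso (CommRingCat.of k)).inv ≫ H.hom.appTop).hom → Red.IsTrivialGrp H) :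
    IsProper G.hom ∨
      ∀ (Z : Over (Spec (CommRingCat.of k))) (z : Z ⟶ G) [IsClosedImmersion z.left] [IsProper Z.hom] [GeometricallyIntegral Z.hom],
        topologicalKrullDim ↥Z.left = 0 := by
  by_cases hp : IsProper G.hom
  · exact Or.inl hp
  refine Or.inr fun Z z _ _ _ => ?_
  have hsep : IsSeparated G.hom := Books.AntiAffine.isSeparated_hom G
  obtain ⟨H, _, i, _, _, hHp, f, hf⟩ := K393.GenProper.exists_proper_subgroup G Z z
  obtain ⟨N, _, n, _, _, hN, hNG⟩ := K393.AntiMin.exists_antiAffine H
  have h3 : Mono i := Over.mono_of_mono_left i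
  have h4 : IsClosedImmersion (n ≫ i).left := inferInstanceAs (IsClosedImmersion (n.left ≫ i.left))
  have hni : ¬ IsIso (n ≫ i) := fun h => hp (by
    have h5 := K393.AntiMin.isIso_of_comp n i h
    have h6 : IsIso i.left := inferInstanceAs (IsIso ((Over.forget _).map i))
    have h7 : G.hom = CategoryTheory.inv i.left ≫ H.hom := by rw [← Over.w i, IsIso.inv_hom_id_assoc]
    rw [h7]
    infer_instance)
  have hA : IsAffine H.left := hNG (hmin N (n ≫ i) hni hN)
  have h5 := K393.GenProper.eq_of_diag Z H f
  have h6 : f ≫ i = 1 := by
    rw [h5, Category.assoc, Category.assoc, hf, MonObj.comp_mul, GrpObj.comp_inv, lift_fst_assoc,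
      lift_snd_assoc, Category.id_comp, mul_inv_cancel, MonObj.comp_one]
  rw [hf, mul_inv_eq_one] at h6
  have h7 : Mono z := Over.mono_of_mono_left z
  exact K393.GenProper.topologicalKrullDim_eq_zero Z ((cancel_mono z).mp h6)

end Groth.Agent.S18100
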