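import Groth.Statements.S18103
import Groth.Agent.AlgGrp.K411.Neut

set_option autoImplicit false
universe u
open CategoryTheory MonoidalCategory CartesianMonoidalCategory MonObj GrpObj AlgebraicGeometry CategoryTheory.Limits
open AlgGrp

namespace Groth.Agent.S18103

/-- Let S be a scheme and G a smooth S-group scheme of finite presentation; for s ∈ S let d_0(s) be the
dimension of the derived group of the identity component of the geometric fibre of G at s, i.e. the
least dimension of a closed subgroup scheme N of the identity component C (the connected open and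
closed subgroup scheme) which is normal in C and contains all commutators of points of C. Then d_0
does not increase under specialization: for every natural number n, if s specializes to s' (that is,
s' lies in the closure of s) and d_0(s) ≤ n, then d_0(s') ≤ n. (The published statement asserts that
d_0 is lower semicontinuous on S, i.e. that the set of points s with d_0(s) ≤ n is closed; the
published argument reduces to the spectrum of an integral local ring and establishes that this set
is stable under specialization, which is what is stated here. Closedness would in addition need the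
set to be locally constructible, which the argument does not address.) -/
theorem result (S : Scheme.{u}) (G : Over S) [GrpObj G]
    [Smooth G.hom] [QuasiCompact G.hom] [QuasiSeparated G.hom] (n : ℕ) :
    StableUnderSpecialization {s : ↥S | ∃ (C : Over (Spec (CommRingCat.of (AlgebraicClosure (S.residueField s))))) (_ : GrpObj C) (c : C ⟶ Red.geomFibre s G)
      (N : Over (Spec (CommRingCat.of (AlgebraicClosure (S.residueField s))))) (_ : GrpObj N) (i : N ⟶ C),
      IsMonHom c ∧ IsOpenImmersion c.left ∧ IsClosedImmersion c.left ∧ ConnectedSpace ↥C.left ∧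
      IsMonHom i ∧ IsClosedImmersion i.left ∧ AlgGrp.IsNormalHom i ∧
      (∀ (T : Over (Spec (CommRingCat.of (AlgebraicClosure (S.residueField s))))) (g h : T ⟶ C), ∃ m : T ⟶ N, g * h * g⁻¹ * h⁻¹ = m ≫ i) ∧
      topologicalKrullDim ↥N.left ≤ (n : WithBot ℕ∞)} := by
  obtain ⟨G0, hG0, hsm, hqc, hG⟩ := AlgGrp.K411.Neut.exists_geom G
  have hQ := AlgGrp.K411.SpecPair.isSpec_normal.and AlgGrp.K411.SpecPair.isSpec_hasComm
  rintro s s' h ⟨C, hC, c, N, hN, i, a1, a2, a3, a4, h1, h2, h3, h4, h5⟩
  obtain ⟨c₀, b1, b2, b3, b4⟩ := hG s
  obtain ⟨e, he, -⟩ := AlgGrp.K411.Neut.exists_iso c c₀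
  obtain ⟨N', hN', i', h1', h2', ⟨h3', h4'⟩, h5'⟩ :=
    AlgGrp.K411.SpecPair.hasP_of_specializes hQ G0
      ⟨(inferInstance : Flat G0.hom), (inferInstance : Flat G0.hom)⟩ h
      (AlgGrp.K411.SpecPair.HasP.of_iso hQ (K412.Tower.grpIso e he) ⟨N, hN, i, h1, h2, ⟨h3, h4⟩, rfl⟩)
  obtain ⟨c', b1', b2', b3', b4'⟩ := hG s'
  exact ⟨_, inferInstance, c', N', hN', i', b1', b2', b3', b4', h1', h2', h3', h4', by rwa [h5']⟩

end Groth.Agent.S18103
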