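import Groth.Statements.S18105
import Groth.Agent.EtCoh.K611.Fin

set_option autoImplicit false
universe u
open CategoryTheory CategoryTheory.Limits AlgebraicGeometry
open EtCoh

namespace Groth.Agent.S18105

open K611.Sh K611.Seq K611.Seq2 K611.Om K611.Zar K611.Glue K611.Exact K611.Cart K611.Dict K611.Dual K611.VanEt
  K611.Pair K611.Calc K611.Count K611.Curve K611.NodeT K611.Charts2 K611.Fin Opposite

theorem prod_three (g : ℕ → ℚ) : ∏ i ∈ Finset.range 3, g i ^ ((-1) ^ i : ℤ) = g 0 * (g 1)⁻¹ * g 2 := by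
  rw [Finset.prod_range_succ, Finset.prod_range_succ, Finset.prod_range_succ, Finset.prod_range_zero]
  norm_num

theorem nat_three (a b c : ℕ) (hb : b ≠ 0) (h : (a : ℚ) * (b : ℚ)⁻¹ * (c : ℚ) = 1) : a * c = b := by
  have h1 : (b : ℚ) ≠ 0 := Nat.cast_ne_zero.2 hb
  have h2 : (a : ℚ) * c = b := by
    field_simp at h
    exact h
  exact_mod_cast h2

theorem chi_three {X : Scheme.{u}} (F : EtCoh.Ab X) (h : K611.chi 3 F = 1) (h0 : ∀ i, Finite (EtCoh.H X F i)) :
    Nat.card (EtCoh.H X F 0) * Nat.card (EtCoh.H X F 2) = Nat.card (EtCoh.H X F 1) := by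
  have e1 := prod_three (fun i => (Nat.card (EtCoh.H X F i) : ℚ))
  have := h0 1
  exact nat_three _ _ _ Nat.card_pos.ne' (e1.symm.trans h)

/-- Let k be a finite field of characteristic p and X an integral scheme, proper and smooth of relative
dimension 1 over k. For i ≤ 2 the étale cohomology group H^i(X_et, G_m/G_m^p), with G_m/G_m^p the
cokernel of the p-th power map on the multiplicative group over the small étale site of X, is
isomorphic to H^{2-i}(X_et, Z/pZ). (Existence of an isomorphism of abelian groups only: the source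
gives a perfect pairing of finite groups H^i(X_et, ν(r)) × H^{m+1-i}(X_et, ν(m-r)) → Z/pZ built from
the cup product and a trace map, stated here for m = 1, r = 1, with ν(1) identified with G_m/G_m^p
by the logarithmic derivative and ν(0) = Z/pZ; both groups being finite-dimensional over Z/pZ, the
pairing yields such an isomorphism.) -/
theorem result
    (k : Type u) [Field k] [Finite k] (p : ℕ) [Fact p.Prime] [CharP k p]
    (X : Scheme.{u}) (f : X ⟶ Spec (.of k)) [AlgebraicGeometry.IsIntegral X] [IsProper f]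
    [SmoothOfRelativeDimension 1 f] (i : ℕ) (hi : i ≤ 2) :
    Nonempty (EtCoh.H X (cokernel (EtCoh.powMap X p)) i ≃+ EtCoh.H X (EtCoh.const X (ZMod p)) (2 - i)) := by
  have h := cast_p_eq_zero k p X f
  have hX := hasChartsN p k X f 1
  have hXg := charts_good hX
  have h𝓑 := base k p X f 1
  have hga := van_ga k p X f 1 h
  have hom := van_om k p X f 1 h
  have hs := surj_cl h hXg 1 hga
  let T : ModL (TD1 p).bc (Omega.sheaf f) := omL p f
  obtain ⟨t, ht, hd⟩ := main_t k p X f 1 (Or.inl rfl) (TD1 p) h (Omega.sheaf f) (coh_omega k X f 1)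
    (Groth.Agent.Sga67.TensorOps.isExtPow_one _) T hs
  -- the counts
  have hkν : ∀ (i : ℕ) (x : EtCoh.H X (nuSeq (X := X) h).X₁ i), p • x = 0 := by
    intro i x
    obtain ⟨y, rfl⟩ := (Hcongr (nuIso (X := X) h) i).surjective x
    rw [← map_nsmul, nsmul_H (nsmul_id_nu X p) i y, map_zero]
  have hkc : ∀ (i : ℕ) (x : EtCoh.H X (EtCoh.const X (ZMod p)) i), p • x = 0 := fun i x =>
    nsmul_H (nsmul_id_const h) i x
  have c2 := card_H_succ (nuSeq_shortExact h hXg) 1 (hom 2 (by norm_num)) (hkν 2) (fin_nu k p X f 1 h 2)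
  have c0 := card_H_zero (nuSeq_shortExact h hXg)
  have d2 := card_H_succ (asSeq_shortExact (X := X) h) 1 (hga 2 (by norm_num)) (hkc 2) (fin_const k p X f 1 h 2)
  have d0 := card_H_zero (asSeq_shortExact (X := X) h)
  have a1 := card_A h (TD1 p) hX h𝓑 T t ht (hd _ (coh_omega k X f 1).1)
  have a2 := card_C h (TD1 p) hX h𝓑 T t ht (hd _ (coh_str k X f).1)
  -- the conditions agree
  have b1 : Nat.card {l : EtCoh.H X (sh QF X) 1 →+ ZMod p //
      ∀ y, l (Sheaf.H.map ((cgN p).sh (X := X) h) 1 y) = 0} =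
      Nat.card {b : EtCoh.sect (sh GaF X) (T0 X) // ((frobN p).sh h).hom.app (op (T0 X)) b = b} := by
    have e : (cgN p).sh (X := X) h = (TD1 p).cl.sh h - (TD1 p).gam.sh h := NT.sh_sub _ _ h
    rw [e]
    exact a1
  have b2 : Nat.card {b : EtCoh.sect (sh GaF X) (T0 X) //
      ((frobN p).sh h - 𝟙 (sh GaF X)).hom.app (op (T0 X)) b = 0} =
      Nat.card {b : EtCoh.sect (sh GaF X) (T0 X) // ((frobN p).sh h).hom.app (op (T0 X)) b = b} :=
    Nat.card_congr (Equiv.subtypeEquivRight fun b => sub_eq_zero)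
  have b3 : Nat.card {x : EtCoh.sect (sh OmF X) (T0 X) // ((cgN p).sh (X := X) h).hom.app (op (T0 X)) x = 0} =
      Nat.card {ζ : EtCoh.sect (sh OmF X) (T0 X) // ((TD1 p).cl.sh h).hom.app (op (T0 X)) ζ =
      ((TD1 p).gam.sh h).hom.app (op (T0 X)) ζ} := by
    have e : (cgN p).sh (X := X) h = (TD1 p).cl.sh h - (TD1 p).gam.sh h := NT.sh_sub _ _ h
    rw [e]
    exact Nat.card_congr (Equiv.subtypeEquivRight fun b => sub_eq_zero)
  have k2 : Nat.card (EtCoh.H X (nuSeq (X := X) h).X₁ 2) = Nat.card (EtCoh.H X (EtCoh.const X (ZMod p)) 0) :=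
    (c2.trans b1).trans (d0.trans b2).symm
  have k0 : Nat.card (EtCoh.H X (nuSeq (X := X) h).X₁ 0) = Nat.card (EtCoh.H X (EtCoh.const X (ZMod p)) 2) :=
    (c0.trans b3).trans (d2.trans a2).symm
  have k1 : Nat.card (EtCoh.H X (nuSeq (X := X) h).X₁ 1) = Nat.card (EtCoh.H X (EtCoh.const X (ZMod p)) 1) := by
    rw [← chi_three _ (chi_nu k p X f 1 h 3 (by norm_num)) (fin_nu k p X f 1 h),
      ← chi_three _ (chi_const k p X f 1 h 3 (by norm_num)) (fin_const k p X f 1 h), k0, k2, mul_comm]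
  have hcard : Nat.card (EtCoh.H X (nuSeq (X := X) h).X₁ i) =
      Nat.card (EtCoh.H X (EtCoh.const X (ZMod p)) (2 - i)) := by
    interval_cases i
    · exact k0
    · exact k1
    · exact k2
  have := fin_nu k p X f 1 h i
  have := fin_const k p X f 1 h (2 - i)
  obtain ⟨e⟩ := K611.nonempty_addEquiv_of_card p _ _ (hkν i) (hkc (2 - i)) hcard
  exact ⟨(Hcongr (nuIso (X := X) h) i).trans e⟩

end Groth.Agent.S18105
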