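import Groth.Statements.S18107
import Groth.Agent.EtCoh.K593.Fin07

set_option autoImplicit false
universe u
open CategoryTheory CategoryTheory.Limits AlgebraicGeometry
open EtCoh

namespace Groth.Agent.S18107

/-- Let k be a finite field of odd characteristic p, X an integral scheme, projective and smooth of
relative dimension 2 over k (a closed subscheme of some projective space over k), and n ≥ 1. For i ≤
3 the étale cohomology group H^i(X_et, G_m/G_m^{p^n}), with G_m/G_m^{p^n} the cokernel of the p^n-th
power map on the multiplicative group over the small étale site of X, is finite and isomorphic to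
H^{3-i}(X_et, G_m/G_m^{p^n}). (Existence of an isomorphism of abelian groups only: the source gives
a perfect pairing of finite groups H^i × H^{3-i} → H^3(X_et, ν_n(2)) ≅ Z/p^nZ built from the cup
product and a trace map; two finite abelian groups in perfect duality are isomorphic.) -/
theorem result
    (k : Type u) [Field k] [Finite k] (p : ℕ) [Fact p.Prime] [CharP k p]
    (X : Scheme.{u}) (f : X ⟶ Spec (.of k)) [AlgebraicGeometry.IsIntegral X] (hp : p ≠ 2)
    (hproj : Neron.IsProjectiveOver k (Over.mk f)) [SmoothOfRelativeDimension 2 f]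
    (n : ℕ) (hn : 1 ≤ n) (i : ℕ) (hi : i ≤ 3) :
    Finite (EtCoh.H X (cokernel (EtCoh.powMap X (p ^ n))) i) ∧
      Nonempty (EtCoh.H X (cokernel (EtCoh.powMap X (p ^ n))) i ≃+
        EtCoh.H X (cokernel (EtCoh.powMap X (p ^ n))) (3 - i)) := by
  have h := K593.Fin07.final k p X f hproj n i hi
  obtain ⟨h1, ⟨e⟩⟩ := h
  exact ⟨(K769.HCmp.toE (K769.Formal.nu X p n) i).toEquiv.finite_iff.2 h1,
    ⟨((K769.HCmp.toE (K769.Formal.nu X p n) i).trans e).trans (K769.HCmp.toE (K769.Formal.nu X p n) (3 - i)).symm⟩⟩

end Groth.Agent.S18107
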