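import Groth.Statements.S18108
import Groth.Agent.S18106
import Groth.Agent.EtCoh.K720.MuFppf
import Groth.Agent.Dix.ProjProper
import Groth.Prelude.Def_BigSite

set_option autoImplicit false
universe u
open CategoryTheory CategoryTheory.Limits AlgebraicGeometry
open EtCoh

namespace Groth.Agent.S18108

open Opposite Abelian

/-- `μ_p` has no sections on a reduced scheme of characteristic `p`. -/
theorem subsingleton_HF_zero (X : Scheme.{u}) (p : ℕ) [Fact p.Prime] [FrobSch.IsCharP X p] [IsReduced X] :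
    Subsingleton (EtFppf.HF X (kernel (p • 𝟙 (EtDl.GmF X))) 0) := by
  have hinj : Function.Injective (Sheaf.H.map (kernel.ι (p • 𝟙 (EtDl.GmF X))) 0) :=
    Ext.postcomp_mk₀_injective_of_mono _ _
  have h0 : ∀ x : EtFppf.HF X (kernel (p • 𝟙 (EtDl.GmF X))) 0, x = 0 := by
    intro x
    apply hinj
    rw [map_zero]
    apply (Sheaf.H.equiv₀ (EtDl.GmF X) (Over.mkIdTerminal (X := X))).injective
    rw [map_zero]
    have e1 : p • (Sheaf.H.equiv₀ (EtDl.GmF X) (Over.mkIdTerminal (X := X))
        (Sheaf.H.map (kernel.ι (p • 𝟙 (EtDl.GmF X))) 0 x)) = 0 := by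
      rw [← K720.MuFppf.nsmul_app (EtDl.GmF X)]
      refine (Sheaf.H.equiv₀_naturality (Over.mkIdTerminal (X := X)) (p • 𝟙 (EtDl.GmF X)) _).trans ?_
      rw [← Sheaf.H.map_comp_apply, kernel.condition]
      change Sheaf.H.equiv₀ (EtDl.GmF X) (Over.mkIdTerminal (X := X)) (((Sheaf.functorH _ 0).map
        (0 : kernel (p • 𝟙 (EtDl.GmF X)) ⟶ EtDl.GmF X)).hom x) = 0
      rw [Functor.map_zero]
      exact map_zero _
    generalize Sheaf.H.equiv₀ (EtDl.GmF X) (Over.mkIdTerminal (X := X))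
        (Sheaf.H.map (kernel.ι (p • 𝟙 (EtDl.GmF X))) 0 x) = s at e1
    let v : (Γ(X, ⊤))ˣ := GmPts.unitOfSect (S := X) (T := op (Over.mk (𝟙 X))) s
    have hv : v ^ p = 1 := congrArg (fun z => GmPts.unitOfSect (S := X) (T := op (Over.mk (𝟙 X))) z) e1
    have h2 := K720.MuFppf.pow_char_inj p (FrobSch.IsCharP.natCast_eq_zero (X := X)) v hv
    have h3 : s = GmPts.sectOfUnit (S := X) (T := op (Over.mk (𝟙 X))) v := rfl
    rw [h3, h2]
    rfl
  exact ⟨fun a b => (h0 a).trans (h0 b).symm⟩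

theorem zero_equiv {G H : Type*} [AddCommGroup G] [AddCommGroup H] (hG : Subsingleton G) (hH : Subsingleton H) :
    Nonempty (G ≃+ H) :=
  ⟨{ toFun := fun _ => 0
     invFun := fun _ => 0
     left_inv := fun _ => hG.elim _ _
     right_inv := fun _ => hH.elim _ _
     map_add' := fun _ _ => (add_zero 0).symm }⟩

theorem isProper_of (k : Type u) [Field k] {X : Scheme.{u}} (f : X ⟶ Spec (.of k))
    (hp : Neron.IsProjectiveOver k (Over.mk f)) : IsProper f := by
  obtain ⟨n, i, hi, hiq⟩ := hp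
  have h1 : IsProper (CohB1.ProjSpaceOver.toBase n (Spec (CommRingCat.of k))) :=
    Groth.Agent.Dix.ProjProper.isProper_toBase n _
  have h2 : i ≫ CohB1.ProjSpaceOver.toBase n (Spec (CommRingCat.of k)) = f := hiq
  rw [← h2]
  infer_instance

/-- Let k be a finite field of characteristic p and X an integral scheme, projective and smooth of
relative dimension 2 over k (a closed subscheme of some projective space over k). For i ≤ 5 the flat
cohomology group H^i_fl(X, μ_p), with μ_p the kernel of the p-th power map on the multiplicative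
group over the big fppf site of X, is finite and isomorphic to H^{5-i}_fl(X, μ_p). (Existence of an
isomorphism of abelian groups only: the source gives canonical non-degenerate pairings of finite
groups H^i_fl(X, μ_p) × H^{5-i}_fl(X, μ_p) → Z/pZ; both groups being finite-dimensional over Z/pZ,
the pairing yields such an isomorphism.) -/
theorem result
    (k : Type u) [Field k] [Finite k] (p : ℕ) [Fact p.Prime] [CharP k p]
    (X : Scheme.{u}) (f : X ⟶ Spec (.of k)) [AlgebraicGeometry.IsIntegral X]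
    (hproj : Neron.IsProjectiveOver k (Over.mk f)) [SmoothOfRelativeDimension 2 f]
    (i : ℕ) (hi : i ≤ 5) :
    Finite (EtFppf.HF X (kernel (p • 𝟙 (EtDl.GmF X))) i) ∧
      Nonempty (EtFppf.HF X (kernel (p • 𝟙 (EtDl.GmF X))) i ≃+
        EtFppf.HF X (kernel (p • 𝟙 (EtDl.GmF X))) (5 - i)) := by
  have hpr := isProper_of k f hproj
  have h := K611.NodeT.cast_p_eq_zero k p X f
  have : FrobSch.IsCharP X p := ⟨h⟩
  have h0 := subsingleton_HF_zero X p
  have main : ∀ n : ℕ, Nonempty (EtFppf.HF X (kernel (p • 𝟙 (EtDl.GmF X))) (n + 1) ≃+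
      EtCoh.H X (cokernel (EtCoh.powMap X p)) n) := fun n => K720.MuFppf.main X p n
  have h5 : Subsingleton (EtFppf.HF X (kernel (p • 𝟙 (EtDl.GmF X))) 5) := by
    obtain ⟨e⟩ := main 4
    have h1 := K611.Fin.van_nu k p X f 2 h 4 (by norm_num)
    exact (e.trans (K611.Exact.Hcongr (K611.Exact.nuIso (X := X) h) 4)).toEquiv.subsingleton
  have hfin : ∀ n : ℕ, Finite (EtFppf.HF X (kernel (p • 𝟙 (EtDl.GmF X))) (n + 1)) := fun n => by
    obtain ⟨e⟩ := main n
    have h1 := K611.Fin.fin_nu k p X f 2 h n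
    exact (e.trans (K611.Exact.Hcongr (K611.Exact.nuIso (X := X) h) n)).toEquiv.finite_iff.2 h1
  have hd : ∀ a b : ℕ, a + b = 3 → Nonempty (EtFppf.HF X (kernel (p • 𝟙 (EtDl.GmF X))) (a + 1) ≃+
      EtFppf.HF X (kernel (p • 𝟙 (EtDl.GmF X))) (b + 1)) := fun a b hab => by
    obtain ⟨e⟩ := main a
    obtain ⟨e'⟩ := main b
    obtain ⟨e''⟩ := Groth.Agent.S18106.result k p X f a (by omega)
    obtain rfl : b = 3 - a := by omega
    exact ⟨e.trans (e''.trans e'.symm)⟩
  obtain rfl | hi0 := Nat.eq_zero_or_pos i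
  · exact ⟨inferInstance, zero_equiv h0 h5⟩
  obtain ⟨a, rfl⟩ : ∃ a, i = a + 1 := ⟨i - 1, by omega⟩
  refine ⟨hfin a, ?_⟩
  obtain rfl | ha := Nat.eq_or_lt_of_le (show a ≤ 4 by omega)
  · exact zero_equiv h5 h0
  · have e1 : 5 - (a + 1) = (3 - a) + 1 := by omega
    rw [e1]
    exact hd a (3 - a) (by omega)

end Groth.Agent.S18108
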