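import Groth.Statements.S18109
import Groth.Agent.S18107
import Groth.Agent.EtCoh.K154.FlatMu
-- import your own Groth.Agent.* helpers here

set_option autoImplicit false
universe u
open CategoryTheory CategoryTheory.Limits AlgebraicGeometry
open EtCoh

namespace Groth.Agent.S18109

/-- Let k be a finite field of odd characteristic p, X an integral scheme, projective and smooth of
relative dimension 2 over k (a closed subscheme of some projective space over k), and n ≥ 1. For i ≤
5 the flat cohomology group H^i_fl(X, μ_{p^n}), with μ_{p^n} the kernel of the p^n-th power map on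
the multiplicative group over the big fppf site of X, is finite and isomorphic to H^{5-i}_fl(X,
μ_{p^n}). (Existence of an isomorphism of abelian groups only: the source gives canonical
non-degenerate pairings of finite groups H^i_fl(X, μ_{p^n}) × H^{5-i}_fl(X, μ_{p^n}) → Z/p^nZ; two
finite abelian groups in perfect duality are isomorphic.) -/
theorem result
    (k : Type u) [Field k] [Finite k] (p : ℕ) [Fact p.Prime] [CharP k p]
    (X : Scheme.{u}) (f : X ⟶ Spec (.of k)) [AlgebraicGeometry.IsIntegral X] (hp : p ≠ 2)
    (hproj : Neron.IsProjectiveOver k (Over.mk f)) [SmoothOfRelativeDimension 2 f]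
    (n : ℕ) (hn : 1 ≤ n) (i : ℕ) (hi : i ≤ 5) :
    Finite (EtFppf.HF X (kernel ((p ^ n) • 𝟙 (EtDl.GmF X))) i) ∧
      Nonempty (EtFppf.HF X (kernel ((p ^ n) • 𝟙 (EtDl.GmF X))) i ≃+
        EtFppf.HF X (kernel ((p ^ n) • 𝟙 (EtDl.GmF X))) (5 - i)) := by
  have := K154.FlatMu.isProper_of_projective hproj
  exact K154.FlatMu.of_etale k p X f n
    (fun j hj => (Groth.Agent.S18107.result k p X f hp hproj n hn j hj).2) i hi

end Groth.Agent.S18109
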