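import Groth.Statements.S18110
import Groth.Agent.DeRham.K852.CartierMain

set_option autoImplicit false
universe u
open DeRham

namespace Groth.Agent.S18110

open exteriorPower K852.DR K852.Cartier in
theorem main
    (p : ℕ) [Fact p.Prime] (A B : Type u) [CommRing A] [CharP A p] [PerfectRing A p]
    [CommRing B] [CharP B p] [Algebra A B] [Algebra.Smooth A B]
    (d : ∀ q : ℕ, ↥(⋀[B]^q (Ω[B⁄A])) →ₗ[A] ↥(⋀[B]^(q + 1) (Ω[B⁄A])))
    (hd : DeRham.IsDiff (KaehlerDifferential.D A B) d) :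
    ∃! C : ↥(DeRham.cocycles d 1) →+ ↥(⋀[B]^1 (Ω[B⁄A])),
      (∀ (f : B) (ω ω' : ↥(DeRham.cocycles d 1)),
          (ω' : ↥(⋀[B]^1 (Ω[B⁄A]))) = f ^ p • (ω : ↥(⋀[B]^1 (Ω[B⁄A]))) → C ω' = f • C ω) ∧
      (∀ ω : ↥(DeRham.cocycles d 1), C ω = 0 ↔ (ω : ↥(⋀[B]^1 (Ω[B⁄A]))) ∈ DeRham.coboundaries d 1) ∧
      (∀ (f : B) (ω : ↥(DeRham.cocycles d 1)),
          (ω : ↥(⋀[B]^1 (Ω[B⁄A]))) = f ^ (p - 1) • d 0 ((exteriorPower.zeroEquiv B (Ω[B⁄A])).symm f) →
            C ω = d 0 ((exteriorPower.zeroEquiv B (Ω[B⁄A])).symm f)) := by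
  have hdd : ∀ (p : ℕ) (x : ↥(⋀[B]^p (Ω[B⁄A]))), d (p + 1) (d p x) = 0 := fun q x =>
    LinearMap.congr_fun (hd.2 q) x
  have hd0 : ∀ f : B, d 0 ((exteriorPower.zeroEquiv B (Ω[B⁄A])).symm f) =
      (oneEquiv B (Ω[B⁄A])).symm (KaehlerDifferential.D A B f) := by
    intro f
    have h1 : (exteriorPower.zeroEquiv B (Ω[B⁄A])).symm f =
        DeRham.gen (KaehlerDifferential.D A B) 0 f (fun i => i.elim0) := by
      rw [LinearEquiv.symm_apply_eq, DeRham.gen, map_smul, zeroEquiv_ιMulti, smul_eq_mul, mul_one]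
    rw [h1, hd.1, oneEquiv_symm_apply]
    congr 1
    funext i
    fin_cases i
    rfl
  have hcob : ∀ x : ↥(⋀[B]^1 (Ω[B⁄A])), x ∈ DeRham.coboundaries d 1 ↔
      mk p A B (oneEquiv B (Ω[B⁄A]) x) = 0 := by
    intro x
    rw [mk_eq_zero_iff, mem_ex]
    constructor
    · rintro ⟨y, rfl⟩
      refine ⟨zeroEquiv B (Ω[B⁄A]) y, ?_⟩
      rw [← LinearEquiv.symm_apply_eq, ← hd0, LinearEquiv.symm_apply_apply]
    · rintro ⟨b, hb⟩
      refine ⟨(zeroEquiv B (Ω[B⁄A])).symm b, ?_⟩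
      rw [hd0, hb, LinearEquiv.symm_apply_apply]
  have hcl : ∀ x : ↥(⋀[B]^1 (Ω[B⁄A])), x ∈ DeRham.cocycles d 1 ↔ Closed A B (oneEquiv B (Ω[B⁄A]) x) := by
    intro x
    rw [closed_iff hd.1, LinearEquiv.symm_apply_apply]
    rfl
  have hex : ∀ ω : ↥(DeRham.cocycles d 1), ∃ η, cinv p A B η = mk p A B (oneEquiv B (Ω[B⁄A]) ω) :=
    fun ω => cinv_surjective p A B _ ((hcl _).mp ω.2)
  choose c hc using hex
  have hinj : ∀ x y, cinv p A B x = cinv p A B y → x = y := fun x y h => by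
    rw [← sub_eq_zero]
    exact cinv_injective p A B _ (by rw [map_sub, h, sub_self])
  let C : ↥(DeRham.cocycles d 1) →+ ↥(⋀[B]^1 (Ω[B⁄A])) :=
    { toFun := fun ω => (oneEquiv B (Ω[B⁄A])).symm (c ω)
      map_zero' := by
        rw [LinearEquiv.symm_apply_eq, map_zero]
        apply hinj
        rw [hc, map_zero, Submodule.coe_zero, map_zero, map_zero]
      map_add' := fun x y => by
        rw [← map_add]
        congr 1
        apply hinj
        rw [map_add, hc, hc, hc, Submodule.coe_add, map_add, map_add] }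
  have hC : ∀ (ω : ↥(DeRham.cocycles d 1)) (η : Ω[B⁄A]), cinv p A B η = mk p A B (oneEquiv B (Ω[B⁄A]) ω) → C ω = (oneEquiv B (Ω[B⁄A])).symm η := by
    intro ω η h
    change (oneEquiv B (Ω[B⁄A])).symm (c ω) = _
    congr 1
    apply hinj
    rw [hc, h]
  refine ⟨C, ⟨?_, ?_, ?_⟩, ?_⟩
  · intro f ω ω' h
    rw [hC ω _ (hc ω), hC ω' (f • c ω) ?_, map_smul]
    rw [(cinv p A B).map_smul, hc, smul_mk, h, (oneEquiv B (Ω[B⁄A])).map_smul]
  · intro ω
    rw [hcob, ← hc ω, hC ω _ (hc ω)]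
    constructor
    · intro h
      rw [LinearEquiv.symm_apply_eq, map_zero] at h
      rw [h, map_zero]
    · intro h
      rw [cinv_injective p A B _ h, map_zero]
  · intro f ω h
    rw [hd0]
    apply hC
    rw [cinv_D, h, hd0, (oneEquiv B (Ω[B⁄A])).map_smul, LinearEquiv.apply_symm_apply]
  · rintro C' ⟨h1, h2, h3⟩
    -- forms representing the inverse Cartier operator are closed
    have hker : ∀ ω ω' : ↥(DeRham.cocycles d 1),
        mk p A B (oneEquiv B (Ω[B⁄A]) ω) = mk p A B (oneEquiv B (Ω[B⁄A]) ω') → C' ω = C' ω' := by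
      intro ω ω' h
      rw [← sub_eq_zero, ← map_sub, h2, hcob, Submodule.coe_sub, map_sub, map_sub, h, sub_self]
    have hcl0 : ∀ f : B, (f ^ (p - 1) • d 0 ((exteriorPower.zeroEquiv B (Ω[B⁄A])).symm f)) ∈
        DeRham.cocycles d 1 := by
      intro f
      change d 1 _ = 0
      rw [d_smul (kaehler_span A B) hd.1, hdd, smul_zero, add_zero, Derivation.leibniz_pow, hd0,
        oneEquiv_symm_apply, map_nsmul, map_smul, LinearMap.smul_apply, LinearMap.smul_apply,
        ιMulti_succ, wedge1_self, smul_zero, smul_zero]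
    have hclp : ∀ (b : B) (x : ↥(⋀[B]^1 (Ω[B⁄A]))), x ∈ DeRham.cocycles d 1 → b ^ p • x ∈ DeRham.cocycles d 1 := by
      intro b x hx
      change d 1 _ = 0
      have hx' : d 1 x = 0 := hx
      rw [d_smul (kaehler_span A B) hd.1, hx', smul_zero, add_zero, Derivation.leibniz_pow,
        ← Nat.cast_smul_eq_nsmul B, CharP.cast_eq_zero, zero_smul, map_zero, LinearMap.zero_apply]
    have hclex : ∀ x : ↥(⋀[B]^1 (Ω[B⁄A])), x ∈ DeRham.coboundaries d 1 → x ∈ DeRham.cocycles d 1 :=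
      fun x hx => coboundaries_le_cocycles hdd 1 hx
    have key : ∀ η : Ω[B⁄A], ∃ ω₀ : ↥(DeRham.cocycles d 1),
        mk p A B (oneEquiv B (Ω[B⁄A]) ω₀) = cinv p A B η ∧ C' ω₀ = (oneEquiv B (Ω[B⁄A])).symm η := by
      intro η
      have hη : η ∈ Submodule.span B (Set.range (KaehlerDifferential.D A B)) := by
        rw [kaehler_span]; trivial
      induction hη using Submodule.span_induction with
      | mem η hη =>
        obtain ⟨g, rfl⟩ := hη
        refine ⟨⟨_, hcl0 g⟩, ?_, ?_⟩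
        · change mk p A B (oneEquiv B (Ω[B⁄A]) (g ^ (p - 1) •
            d 0 ((exteriorPower.zeroEquiv B (Ω[B⁄A])).symm g))) = _
          rw [hd0, (oneEquiv B (Ω[B⁄A])).map_smul, LinearEquiv.apply_symm_apply, cinv_D]
        · rw [h3 g ⟨_, hcl0 g⟩ rfl, hd0]
      | zero => exact ⟨0, by rw [Submodule.coe_zero, map_zero, map_zero, map_zero],
          by rw [map_zero, map_zero]⟩
      | add x y _ _ hx hy =>
        obtain ⟨a, ha, ha'⟩ := hx
        obtain ⟨b, hb, hb'⟩ := hy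
        exact ⟨a + b, by rw [Submodule.coe_add, map_add, map_add, ha, hb, map_add],
          by rw [map_add, ha', hb', map_add]⟩
      | smul b x _ hx =>
        obtain ⟨a, ha, ha'⟩ := hx
        refine ⟨⟨_, hclp b _ a.2⟩, ?_, ?_⟩
        · change mk p A B (oneEquiv B (Ω[B⁄A]) (b ^ p • (a : ↥(⋀[B]^1 (Ω[B⁄A]))))) = _
          rw [(oneEquiv B (Ω[B⁄A])).map_smul, ← smul_mk, ha, (cinv p A B).map_smul]
        · rw [h1 b a ⟨_, hclp b _ a.2⟩ rfl, ha', map_smul]
    ext1 ω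
    obtain ⟨ω₀, hω₀, hω₀'⟩ := key (c ω)
    rw [hC ω _ (hc ω), ← hω₀']
    apply hker
    rw [hω₀, hc]


open exteriorPower in
/-- Let p be a prime, A a perfect ring of characteristic p (its Frobenius is bijective), B a smooth
A-algebra, and d a de Rham differential on the exterior powers of Ω_{B/A} (a degreewise family
obeying the de Rham rule with d ∘ d = 0). Then there is exactly one additive map C from the closed
1-forms (the kernel of d in degree 1) to the 1-forms such that C(f^p ω) = f C(ω) for f in B and ω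
closed, C(ω) = 0 if and only if ω is exact, and C(f^{p-1} df) = df for f in B. (The source states
this for all degrees r at once on a smooth scheme over a perfect base, with two further conditions,
C(1) = 1 in degree 0 and multiplicativity for wedge products of closed forms, which involve other
degrees; this row is the degree-one, affine case, where those two conditions are empty.) -/
theorem result
    (p : ℕ) [Fact p.Prime] (A B : Type u) [CommRing A] [CharP A p] [PerfectRing A p]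
    [CommRing B] [Algebra A B] [Algebra.Smooth A B]
    (d : ∀ q : ℕ, ↥(⋀[B]^q (Ω[B⁄A])) →ₗ[A] ↥(⋀[B]^(q + 1) (Ω[B⁄A])))
    (hd : DeRham.IsDiff (KaehlerDifferential.D A B) d) :
    ∃! C : ↥(DeRham.cocycles d 1) →+ ↥(⋀[B]^1 (Ω[B⁄A])),
      (∀ (f : B) (ω ω' : ↥(DeRham.cocycles d 1)),
          (ω' : ↥(⋀[B]^1 (Ω[B⁄A]))) = f ^ p • (ω : ↥(⋀[B]^1 (Ω[B⁄A]))) → C ω' = f • C ω) ∧
      (∀ ω : ↥(DeRham.cocycles d 1), C ω = 0 ↔ (ω : ↥(⋀[B]^1 (Ω[B⁄A]))) ∈ DeRham.coboundaries d 1) ∧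
      (∀ (f : B) (ω : ↥(DeRham.cocycles d 1)),
          (ω : ↥(⋀[B]^1 (Ω[B⁄A]))) = f ^ (p - 1) • d 0 ((exteriorPower.zeroEquiv B (Ω[B⁄A])).symm f) →
            C ω = d 0 ((exteriorPower.zeroEquiv B (Ω[B⁄A])).symm f)) := by
  rcases subsingleton_or_nontrivial B with hB | hB
  · have hs : Subsingleton ↥(⋀[B]^1 (Ω[B⁄A])) := Module.subsingleton B _
    refine ⟨0, ⟨fun f ω ω' _ => Subsingleton.elim _ _, fun ω => ?_, fun f ω _ => Subsingleton.elim _ _⟩,
      fun C' _ => ?_⟩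
    · refine ⟨fun _ => ?_, fun _ => Subsingleton.elim _ _⟩
      rw [Subsingleton.elim (ω : ↥(⋀[B]^1 (Ω[B⁄A]))) 0]
      exact zero_mem _
    · ext1 ω
      exact Subsingleton.elim _ _
  · have : CharP B p := by
      rw [CharP.charP_iff_prime_eq_zero (Fact.out (p := p.Prime)), ← map_natCast (algebraMap A B),
        CharP.cast_eq_zero, map_zero]
    exact main p A B d hd

end Groth.Agent.S18110
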