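import Groth.Statements.S18111
import Groth.Agent.AbVar.K526.Rows
import Groth.Agent.AbVar.K81.Split
import Groth.Agent.AbVar.K70.TopDualAV
import Groth.Agent.AbDual.K732.AV

set_option autoImplicit false
universe u
open CategoryTheory CategoryTheory.Limits MonoidalCategory CartesianMonoidalCategory MonObj GrpObj AlgebraicGeometry
open AbVar

namespace Groth.Agent.S18111

/-- Let k be an algebraically closed field of characteristic zero, A an abelian variety over k (a proper
smooth k-group scheme with geometrically connected fibres) of dimension g, (A^t, φ) a given dual
abelian variety of A for the fppf topology with A^t itself an abelian variety, and P an invertible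
module on A ×_k A^t whose class is a Poincaré class; for a k-point α of A^t write P_α for the
restriction of P to A × {α}. Let L be an ample invertible O_A-module with an inverse L' (L ⊗ L' ≅
O_A), negative powers of L meaning powers of L'. For a coherent O_A-module G write h^i_gen(G) for
the generic value of h^i(A, G ⊗ P_α), rendered as the minimum over all k-points α of A^t (the
generic value by semicontinuity), and for b ≥ 1 let b_A : A → A be multiplication by b. Let F be a
coherent O_A-module, i ≥ 0, a an integer and b ≥ 1 an integer coprime to g!. Then b^g divides
h^i_gen(b_A^* F ⊗ L^{ab}), i.e. b^{2g} times the value at x = a/b of the i-th cohomological rank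
function of F is divisible by b^g. (Stated for a coherent module; the source allows any object of
the bounded derived category of coherent modules. The published statement writes the twist as L^{a};
already for F = O_A, i = 0, a = 1, g = 2, b = 5 and a principal polarization this would ask 25 to
divide h^0(L) = 1, and the published proof, which evaluates the rank function at a/b, gives the
power L^{ab} stated here.) -/
theorem result (k : Type u) [Field k] [IsAlgClosed k] [CharZero k]
    (A At : Over (Spec (CommRingCat.of k))) [GrpObj A] [IsProper A.hom] [Smooth A.hom] [GeometricallyConnected A.hom]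
    [GrpObj At] [IsProper At.hom] [Smooth At.hom] [GeometricallyConnected At.hom]
    (φ : ∀ T : Over (Spec (CommRingCat.of k)), PicF.Cl (PicF.XT A.hom T) → (T ⟶ At))
    (hφ : AbDual.IsDualAV Scheme.fppfPrecoverage A At φ)
    (P : (pullback A.hom At.hom).Modules) (hP : PicF.IsInvertible P)
    (hPξ : AbDual.IsPoincareCl A At φ (PicF.cl P))
    (g : ℕ) (hg : topologicalKrullDim ↥A.left = g)
    (L L' : A.left.Modules) (hL : CohB1.IsAmple L) (hLL' : Nonempty (CohB1.tensorMod L L' ≅ Coh.structureModule A.left))
    (F : A.left.Modules) (hF : Coh.IsCoh F) (i : ℕ) (a : ℤ) (b : ℕ) (hb : 0 < b)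
    (hcop : Nat.Coprime b (Nat.factorial g)) :
    b ^ g ∣ W4c5cohrankabvar.hgen k P (W4c5cohrankabvar.twist A F L L' b (a * b)) i := by
  have h1 := K732.AV.geomInt A
  have h2 := K732.AV.geomInt At
  have hgm : K526.Rows.HGM A g := fun b hb c hc i =>
    K81.Split.hgmul hg (K526.Inst.surj_ample hL) b hb c hc i
  have td : K526.Rows.TD A g := fun c hc => K70.TopDual.exists_dual hg c hc
  exact K526.Rows.row11 hg hφ hP hPξ hgm td hL hLL' hF i a b hb hcop

end Groth.Agent.S18111
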