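import Groth.Statements.S18113
import Groth.Agent.AbVar.K526.Rows
import Groth.Agent.AbVar.K81.Split
import Groth.Agent.AbDual.K732.AV

set_option autoImplicit false
universe u
open CategoryTheory CategoryTheory.Limits MonoidalCategory CartesianMonoidalCategory MonObj GrpObj AlgebraicGeometry
open AbVar

namespace Groth.Agent.S18113

/-- Let k be an algebraically closed field of characteristic zero, A an abelian variety over k (a proper
smooth k-group scheme with geometrically connected fibres) of dimension g, (A^t, φ) a given dual
abelian variety of A for the fppf topology with A^t itself an abelian variety, and P an invertible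
module on A ×_k A^t whose class is a Poincaré class; for a k-point α of A^t write P_α for the
restriction of P to A × {α}. Let N be an ample invertible O_A-module with an inverse N' (N ⊗ N' ≅
O_A), negative powers of N meaning powers of N', and assume N globally generated: a morphism ev from
a free O_A-module to N is given which is an epimorphism and induces a bijection on global sections
(so ev is the evaluation map H^0(N) ⊗ O_A → N); let M_N be its kernel. Let I_e ⊆ O_A be the ideal of
the unit point (the kernel of O_A → e_*O_{Spec k}). For a coherent O_A-module G write h^i_gen(G) for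
the generic value of h^i(A, G ⊗ P_α), rendered as the minimum over all k-points α of A^t (the
generic value by semicontinuity), and for b ≥ 1 let b_A : A → A be multiplication by b. Then for i =
0 or i = 1 and every rational y = a/b < 1 (a an integer, b ≥ 1, c = b − a ≥ 1) one has h^i_{I_e}(y
n) = ((1 − y)^g / χ(N)) · h^i_{M_N}((y/(1 − y)) n) for the cohomological rank functions with respect
to the class n of N; written out: χ(N) · c^g · h^i_gen(b_A^* I_e ⊗ N^{ab}) = b^g · h^i_gen(c_A^* M_N
⊗ N^{ac}), where χ(N) is the Euler characteristic of N. -/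
theorem result (k : Type u) [Field k] [IsAlgClosed k] [CharZero k]
    (A At : Over (Spec (CommRingCat.of k))) [GrpObj A] [IsProper A.hom] [Smooth A.hom] [GeometricallyConnected A.hom]
    [GrpObj At] [IsProper At.hom] [Smooth At.hom] [GeometricallyConnected At.hom]
    (φ : ∀ T : Over (Spec (CommRingCat.of k)), PicF.Cl (PicF.XT A.hom T) → (T ⟶ At))
    (hφ : AbDual.IsDualAV Scheme.fppfPrecoverage A At φ)
    (P : (pullback A.hom At.hom).Modules) (hP : PicF.IsInvertible P)
    (hPξ : AbDual.IsPoincareCl A At φ (PicF.cl P))
    (g : ℕ) (hg : topologicalKrullDim ↥A.left = g)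
    (N N' : A.left.Modules) (hN : CohB1.IsAmple N) (hNN' : Nonempty (CohB1.tensorMod N N' ≅ Coh.structureModule A.left))
    (J : Type u) (ev : (SheafOfModules.free J : A.left.Modules) ⟶ N) [Epi ev]
    (hev : Function.Bijective (Sheaf.H.map ((SheafOfModules.toSheaf A.left.ringCatSheaf).map ev) 0))
    (i : ℕ) (hi : i = 0 ∨ i = 1) (a : ℤ) (b c : ℕ) (hb : 0 < b) (hc : 0 < c) (habc : a + (c : ℤ) = (b : ℤ)) :
    @Curv2.euler k _ A.left ⟨A.hom⟩ N * (c : ℤ) ^ g *
        ((W4c5cohrankabvar.hgen k P (W4c5cohrankabvar.twist A (kernel (ClSub.unitToPush η[A].left)) N N' b (a * b)) i : ℕ) : ℤ) =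
      (b : ℤ) ^ g * ((W4c5cohrankabvar.hgen k P (W4c5cohrankabvar.twist A (kernel ev) N N' c (a * c)) i : ℕ) : ℤ) := by
  have h1 := K732.AV.geomInt A
  have h2 := K732.AV.geomInt At
  have hgm : K526.Rows.HGM A g := fun b hb c hc i =>
    K81.Split.hgmul hg (K526.Inst.surj_ample hN) b hb c hc i
  have h3 : @Epi A.left.Modules _ (K526.EvalKer.fj A.left J) N ev := ‹Epi ev›
  exact K526.Rows.row13 hg hφ hP hPξ hgm hN hNN' ev hev i a b c hb hc habc

end Groth.Agent.S18113
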