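import Groth.Statements.S18119
import Groth.Agent.AbVar.K110.JumpRow
import Groth.Agent.AbVar.K81.Split
import Groth.Agent.AbVar.K70.TopDualAV
import Groth.Agent.AbDual.K732.AV

set_option autoImplicit false
universe u
open CategoryTheory CategoryTheory.Limits MonoidalCategory CartesianMonoidalCategory MonObj GrpObj AlgebraicGeometry
open AbVar

namespace Groth.Agent.S18119

/-- Let k be an algebraically closed field of characteristic zero, A an abelian variety over k (a proper
smooth k-group scheme with geometrically connected fibres) of dimension g, (A^t, φ) a given dual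
abelian variety of A for the fppf topology with A^t itself an abelian variety, and P an invertible
module on A ×_k A^t whose class is a Poincaré class; for a k-point α of A^t write P_α for the
restriction of P to A × {α}. Let L be an ample invertible O_A-module with an inverse L' (L ⊗ L' ≅
O_A), negative powers of L meaning powers of L'. For a coherent O_A-module G write h^i_gen(G) for
the generic value of h^i(A, G ⊗ P_α), rendered as the minimum over all k-points α of A^t (the
generic value by semicontinuity), and for b ≥ 1 let b_A : A → A be multiplication by b. The i-th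
cohomological rank function of a coherent module G with respect to L is x = c/d ↦ h^i_G(x l) =
d^{-2g} · h^i_gen(d_A^* G ⊗ L^{cd}) on the rationals (d ≥ 1). Let F be a coherent O_A-module, i ≥ 0
and x₀ = a/b rational, and suppose x₀ is a critical point of index k of h^i_F: there are ε > 0 and
polynomials P⁻, P⁺ of degree at most g with h^i_F = P⁻ on the rationals of (x₀ − ε, x₀] and h^i_F =
P⁺ on the rationals of [x₀, x₀ + ε), and P⁺ − P⁻ = (x − x₀)^{k+1} Q with Q(x₀) ≠ 0 (so h^i_F is of
class C^k but not C^{k+1} at x₀). Then the jump locus of the i-th cohomology of F⟨x₀ l⟩, the set of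
k-points α of A^t at which h^i(A, b_A^* F ⊗ L^{ab} ⊗ P_α) exceeds its generic value, has codimension
at most k + 1 in A^t: it is not contained in any closed subset of A^t of dimension less than g − k −
1. (Stated for a coherent module; the source allows any object of the bounded derived category.) -/
theorem result (k : Type u) [Field k] [IsAlgClosed k] [CharZero k]
    (A At : Over (Spec (CommRingCat.of k))) [GrpObj A] [IsProper A.hom] [Smooth A.hom] [GeometricallyConnected A.hom]
    [GrpObj At] [IsProper At.hom] [Smooth At.hom] [GeometricallyConnected At.hom]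
    (φ : ∀ T : Over (Spec (CommRingCat.of k)), PicF.Cl (PicF.XT A.hom T) → (T ⟶ At))
    (hφ : AbDual.IsDualAV Scheme.fppfPrecoverage A At φ)
    (P : (pullback A.hom At.hom).Modules) (hP : PicF.IsInvertible P)
    (hPξ : AbDual.IsPoincareCl A At φ (PicF.cl P))
    (g : ℕ) (hg : topologicalKrullDim ↥A.left = g)
    (L L' : A.left.Modules) (hL : CohB1.IsAmple L) (hLL' : Nonempty (CohB1.tensorMod L L' ≅ Coh.structureModule A.left))
    (F : A.left.Modules) (hF : Coh.IsCoh F) (i : ℕ) (a : ℤ) (b : ℕ) (hb : 0 < b) (kk : ℕ)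
    (ε : ℚ) (hε : 0 < ε) (Pm Pp Q : Polynomial ℚ) (hPm : Pm.natDegree ≤ g) (hPp : Pp.natDegree ≤ g)
    (hleft : ∀ (c : ℤ) (d : ℕ), 0 < d → (a : ℚ) / (b : ℚ) - ε < (c : ℚ) / (d : ℚ) → (c : ℚ) / (d : ℚ) ≤ (a : ℚ) / (b : ℚ) →
      ((W4c5cohrankabvar.hgen k P (W4c5cohrankabvar.twist A F L L' d (c * d)) i : ℕ) : ℚ) / (d : ℚ) ^ (2 * g) =
        Pm.eval ((c : ℚ) / (d : ℚ)))
    (hright : ∀ (c : ℤ) (d : ℕ), 0 < d → (a : ℚ) / (b : ℚ) ≤ (c : ℚ) / (d : ℚ) → (c : ℚ) / (d : ℚ) < (a : ℚ) / (b : ℚ) + ε →
      ((W4c5cohrankabvar.hgen k P (W4c5cohrankabvar.twist A F L L' d (c * d)) i : ℕ) : ℚ) / (d : ℚ) ^ (2 * g) =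
        Pp.eval ((c : ℚ) / (d : ℚ)))
    (hdiff : Pp - Pm = (Polynomial.X - Polynomial.C ((a : ℚ) / (b : ℚ))) ^ (kk + 1) * Q)
    (hQ : Q.eval ((a : ℚ) / (b : ℚ)) ≠ 0)
    (Z : Set ↥At.left) (hZ : IsClosed Z) (hZdim : topologicalKrullDim ↥Z < ((g - (kk + 1) : ℕ) : WithBot ℕ∞)) :
    ∃ α : 𝟙_ (Over (Spec (CommRingCat.of k))) ⟶ At,
      W4c5cohrankabvar.hgen k P (W4c5cohrankabvar.twist A F L L' b (a * b)) i < W4c5cohrankabvar.hAt k P (W4c5cohrankabvar.twist A F L L' b (a * b)) α i ∧
        ¬ (Set.range α.left.base ⊆ Z) := by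
  have h1 := K732.AV.geomInt A
  have h2 := K732.AV.geomInt At
  have hgm : K526.Rows.HGM A g := fun b hb c hc i =>
    K81.Split.hgmul hg (K526.Inst.surj_ample hL) b hb c hc i
  have td : K526.Rows.TD A g := fun c hc => K70.TopDual.exists_dual hg c hc
  exact K110.JumpRow.row19 hg hφ hP hPξ hgm td hL hLL' hF i a b hb kk ε hε Pm Pp Q hPm hPp hleft hright hdiff hQ Z hZ
    hZdim

end Groth.Agent.S18119
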