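import Groth.Statements.S18120
import Groth.Agent.AbVar.K516.GVH

attribute [-instance] CategoryTheory.catToReflQuiver
set_option autoImplicit false
universe u
open CategoryTheory CategoryTheory.Limits MonoidalCategory CartesianMonoidalCategory MonObj GrpObj AlgebraicGeometry
open AbVar

namespace Groth.Agent.S18120

/-- Let k be an algebraically closed field of characteristic zero, A an abelian variety over k (a proper
smooth k-group scheme with geometrically connected fibres) of dimension g, (A^t, φ) a given dual
abelian variety of A for the fppf topology with A^t itself an abelian variety, and P an invertible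
module on A ×_k A^t whose class is a Poincaré class; for a k-point α of A^t write P_α for the
restriction of P to A × {α}. Let L be an ample invertible O_A-module with an inverse L' (L ⊗ L' ≅
O_A), negative powers of L meaning powers of L'. For a coherent O_A-module G write h^i_gen(G) for
the generic value of h^i(A, G ⊗ P_α), rendered as the minimum over all k-points α of A^t (the
generic value by semicontinuity), and for b ≥ 1 let b_A : A → A be multiplication by b. For a
rational x₀ = a/b (b ≥ 1) say that the Q-twisted sheaf F⟨x₀ l⟩ is GV (resp. M-regular) when for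
every i ≥ 1 the locus of k-points α of A^t with h^i(A, b_A^* F ⊗ L^{ab} ⊗ P_α) > 0 is contained in a
closed subset of A^t of dimension at most g − i (resp. less than g − i; empty when this bound is
negative), i.e. the i-th cohomological support locus has codimension ≥ i (resp. > i). Say that F⟨x
l⟩, x = c/d (d ≥ 1), satisfies IT(0) when h^i(A, d_A^* F ⊗ L^{cd} ⊗ P_α) = 0 for every i ≥ 1 and
every k-point α of A^t. Let F be a coherent O_A-module and x₀ = a/b rational. If there is ε > 0 such
that F⟨x l⟩ satisfies IT(0) for every rational x with x₀ < x < x₀ + ε, then F⟨x₀ l⟩ is GV. (The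
source states the equivalence 'GV at x₀ iff IT(0) for all sufficiently small x > x₀, equivalently
for all x > x₀'; only the direction displayed here is stated, for a coherent module, the source
allowing objects of the bounded derived category.) -/
theorem result (k : Type u) [Field k] [IsAlgClosed k] [CharZero k]
    (A At : Over (Spec (CommRingCat.of k))) [GrpObj A] [IsProper A.hom] [Smooth A.hom] [GeometricallyConnected A.hom]
    [GrpObj At] [IsProper At.hom] [Smooth At.hom] [GeometricallyConnected At.hom]
    (φ : ∀ T : Over (Spec (CommRingCat.of k)), PicF.Cl (PicF.XT A.hom T) → (T ⟶ At))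
    (hφ : AbDual.IsDualAV Scheme.fppfPrecoverage A At φ)
    (P : (pullback A.hom At.hom).Modules) (hP : PicF.IsInvertible P)
    (hPξ : AbDual.IsPoincareCl A At φ (PicF.cl P))
    (g : ℕ) (hg : topologicalKrullDim ↥A.left = g)
    (L L' : A.left.Modules) (hL : CohB1.IsAmple L) (hLL' : Nonempty (CohB1.tensorMod L L' ≅ Coh.structureModule A.left))
    (F : A.left.Modules) (hF : Coh.IsCoh F) (a : ℤ) (b : ℕ) (hb : 0 < b)
    (hIT : ∃ ε : ℚ, 0 < ε ∧ ∀ (c : ℤ) (d : ℕ), 0 < d → (a : ℚ) / (b : ℚ) < (c : ℚ) / (d : ℚ) →
      (c : ℚ) / (d : ℚ) < (a : ℚ) / (b : ℚ) + ε →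
      ∀ (i : ℕ) (α : 𝟙_ (Over (Spec (CommRingCat.of k))) ⟶ At), 1 ≤ i →
        W4c5cohrankabvar.hAt k P (W4c5cohrankabvar.twist A F L L' d (c * d)) α i = 0) :
    (∀ i : ℕ, 1 ≤ i → ∃ Z : Set ↥At.left, IsClosed Z ∧
        topologicalKrullDim ↥Z < ((g - i + 1 : ℕ) : WithBot ℕ∞) ∧
        ∀ α : 𝟙_ (Over (Spec (CommRingCat.of k))) ⟶ At,
          0 < W4c5cohrankabvar.hAt k P (W4c5cohrankabvar.twist A F L L' b (a * b)) α i → Set.range α.left.base ⊆ Z) := by
  have := K732.AV.geomInt A
  have := K732.AV.geomInt At
  have hℓ : K527.ITGV.IsAmp (Groth.Agent.Grpsch.PicGrp.mk L hL.1) := ⟨L, hL, rfl⟩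
  rw [K527.Rows.GV_twist_iff hφ hP hPξ g hL hLL' hF]
  obtain ⟨ε, hε, hIT⟩ := hIT
  refine K516.GVH.GV_of_right hℓ hg (K527.Cls.CO.mk' hF) hb ⟨ε, hε, fun c d hd h1 h2 => ?_⟩
  rw [← K527.Rows.IT_twist_iff hφ hP hPξ hL hLL' hF]
  exact hIT c d hd h1 h2

end Groth.Agent.S18120
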