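import Groth.Statements.S18121
import Groth.Agent.Pinch.K838.Chart

set_option autoImplicit false
universe u
open Pinch

namespace Groth.Agent.S18121

/-- Let B be a commutative ring, b an element of B, B' := B[z]/(z^2 - b) the rank-two B-algebra with z^2
= b, and Ψ : B[u, v] → B'[t] the B-algebra homomorphism with u ↦ z t and v ↦ t. Then the kernel of Ψ
is the principal ideal generated by u^2 - b v^2, and a polynomial of B'[t] lies in the image of Ψ as
soon as its constant coefficient lies in B. Equivalently, B[u, v]/(u^2 - b v^2) is the fibre product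
of B'[t] and B over B' (for t ↦ 0 and the inclusion of B): the pinching of Spec B' × 𝔸¹ along Spec
B' × {0} by the double cover Spec B' → Spec B is the hypersurface u^2 = b v^2 over B; for B = K[w]
and b = w this is the pinch point u^2 = v^2 w. -/
theorem result (B : Type u) [CommRing B] (b : B) :
    letI Ψ : MvPolynomial (Fin 2) B →ₐ[B] Polynomial (AdjoinRoot (Polynomial.X ^ 2 - Polynomial.C b)) :=
      MvPolynomial.aeval
        ![Polynomial.C (AdjoinRoot.root (Polynomial.X ^ 2 - Polynomial.C b)) * Polynomial.X, Polynomial.X]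
    RingHom.ker Ψ.toRingHom =
        Ideal.span {MvPolynomial.X 0 ^ 2 - MvPolynomial.C b * MvPolynomial.X 1 ^ 2} ∧
      ∀ G : Polynomial (AdjoinRoot (Polynomial.X ^ 2 - Polynomial.C b)),
        (∃ c : B, G.coeff 0 = algebraMap B (AdjoinRoot (Polynomial.X ^ 2 - Polynomial.C b)) c) →
          G ∈ Ψ.range := by
  set f : Polynomial B := Polynomial.X ^ 2 - Polynomial.C b with hf
  set Ψ : MvPolynomial (Fin 2) B →ₐ[B] Polynomial (AdjoinRoot f) :=
    MvPolynomial.aeval ![Polynomial.C (AdjoinRoot.root f) * Polynomial.X, Polynomial.X] with hΨ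
  have hz : AdjoinRoot.root f ^ 2 = algebraMap B (AdjoinRoot f) b := by
    have := AdjoinRoot.eval₂_root f
    rw [hf, Polynomial.eval₂_sub, Polynomial.eval₂_X_pow, Polynomial.eval₂_C, sub_eq_zero] at this
    exact this
  have hX0 : Ψ (MvPolynomial.X 0) = Polynomial.C (AdjoinRoot.root f) * Polynomial.X := by
    simp only [Ψ, MvPolynomial.aeval_X]
    rfl
  have hX1 : Ψ (MvPolynomial.X 1) = Polynomial.X := by
    simp only [Ψ, MvPolynomial.aeval_X]
    rfl
  have hC : ∀ a : B, Ψ (MvPolynomial.C a) = Polynomial.C (algebraMap B (AdjoinRoot f) a) := by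
    intro a
    simp only [Ψ, MvPolynomial.aeval_C]
    rfl
  have hrel : Ψ (MvPolynomial.X 0 ^ 2 - MvPolynomial.C b * MvPolynomial.X 1 ^ 2) = 0 := by
    rw [map_sub, map_mul, map_pow, map_pow, hX0, hX1, hC, ← hz, map_pow]
    ring
  have haev : ∀ F0 : Polynomial B, Ψ (Polynomial.aeval (MvPolynomial.X 1) F0) =
      F0.map (algebraMap B (AdjoinRoot f)) := by
    intro F0
    rw [← Polynomial.aeval_algHom_apply, hX1, Polynomial.aeval_X_left_eq_map]
  have hker : ∀ x ∈ Ideal.span {(MvPolynomial.X 0 ^ 2 - MvPolynomial.C b * MvPolynomial.X 1 ^ 2 :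
      MvPolynomial (Fin 2) B)}, Ψ x = 0 := by
    intro x hx
    obtain ⟨y, rfl⟩ := Ideal.mem_span_singleton'.mp hx
    rw [map_mul, hrel, mul_zero]
  refine ⟨?_, ?_⟩
  · apply le_antisymm
    · intro F hF
      have hF : Ψ F = 0 := hF
      obtain ⟨F0, F1, h⟩ := K838.Chart.decomp b F
      have h1 := hker _ h
      rw [map_sub, hF, zero_sub, neg_eq_zero, map_add, map_mul, haev, haev, hX0] at h1
      have hco : ∀ n, (F0.coeff n = 0 ∧ F1.coeff n = 0) := by
        intro n
        have hn1 := congrArg (fun p => Polynomial.coeff p (n + 1)) h1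
        have hn := congrArg (fun p => Polynomial.coeff p n) h1
        simp only [Polynomial.coeff_add, Polynomial.coeff_map, Polynomial.coeff_zero, mul_assoc,
          Polynomial.coeff_C_mul, Polynomial.coeff_X_mul] at hn hn1
        have h3 := K838.Chart.indep b hn1
        refine ⟨?_, h3.2⟩
        cases n with
        | zero =>
          have h4 : algebraMap B (AdjoinRoot f) (F0.coeff 0) +
              AdjoinRoot.root f * algebraMap B (AdjoinRoot f) 0 = 0 := by
            rw [← hn]
            congr 1
            simp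
          exact (K838.Chart.indep b h4).1
        | succ n =>
          have hn1 := congrArg (fun p => Polynomial.coeff p (n + 1)) h1
          simp only [Polynomial.coeff_add, Polynomial.coeff_map, Polynomial.coeff_zero, mul_assoc,
            Polynomial.coeff_C_mul, Polynomial.coeff_X_mul] at hn1
          exact (K838.Chart.indep b hn1).1
      have e0 : F0 = 0 := Polynomial.ext fun n => (hco n).1
      have e1 : F1 = 0 := Polynomial.ext fun n => (hco n).2
      rw [e0, e1] at h
      simpa using h
    · rw [Ideal.span_le, Set.singleton_subset_iff]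
      exact hrel
  · rintro G ⟨c, hc⟩
    have hv : (Polynomial.X : Polynomial (AdjoinRoot f)) ∈ Ψ.range := ⟨_, hX1⟩
    have hzv : (Polynomial.C (AdjoinRoot.root f) * Polynomial.X : Polynomial (AdjoinRoot f)) ∈
        Ψ.range := ⟨_, hX0⟩
    have hcc : ∀ a : B, (Polynomial.C (algebraMap B (AdjoinRoot f) a)) ∈ Ψ.range :=
      fun a => ⟨_, hC a⟩
    have hX : ∀ H : Polynomial (AdjoinRoot f), H * Polynomial.X ∈ Ψ.range := by
      intro H
      induction H using Polynomial.induction_on' with
      | add p q hp hq =>
        rw [add_mul]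
        exact add_mem hp hq
      | monomial n r =>
        obtain ⟨a, d, rfl⟩ := K838.Chart.exists_rep b r
        rw [← Polynomial.C_mul_X_pow_eq_monomial, map_add, map_mul]
        have : (Polynomial.C (algebraMap B (AdjoinRoot f) a) + Polynomial.C (AdjoinRoot.root f) *
            Polynomial.C (algebraMap B (AdjoinRoot f) d)) * Polynomial.X ^ n * Polynomial.X =
            Polynomial.C (algebraMap B (AdjoinRoot f) a) * Polynomial.X ^ n * Polynomial.X +
            (Polynomial.C (AdjoinRoot.root f) * Polynomial.X) *
              Polynomial.C (algebraMap B (AdjoinRoot f) d) * Polynomial.X ^ n := by ring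
        rw [this]
        exact add_mem (mul_mem (mul_mem (hcc a) (pow_mem hv n)) hv)
          (mul_mem (mul_mem hzv (hcc d)) (pow_mem hv n))
    rw [← Polynomial.divX_mul_X_add G, hc]
    exact add_mem (hX _) (hcc c)

end Groth.Agent.S18121
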