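import Groth.Statements.S18124
import Groth.Agent.Deform.K682.LciBC

set_option autoImplicit false
universe u
open CategoryTheory TensorProduct
open Deform

namespace Groth.Agent.S18124

/-- Let K be an algebraically closed field in which 2 ≠ 0, A a finitely generated K-algebra, and P a
flat A-algebra which is a local complete intersection over A (of finite type, with Koszul-regular
kernel for some polynomial presentation) and whose fibres are generically smooth: every prime of P
that is minimal among the primes of its fibre over A lies in the smooth locus of A → P. Let J be an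
ideal of A and P' := P/JP, so that Spec P' = Spec P ×_{Spec A} Spec (A/J) and Ω_{P'/A} =
Ω_{P'/(A/J)}. Then the P'-modules P' ⊗_P Ext^1_P(Ω_{P/A}, P) and Ext^1_{P'}(Ω_{P'/A}, P') are
isomorphic: the first cotangent sheaf T^1 of a flat local complete intersection morphism with
generically smooth fibres commutes with base change along a closed embedding. (The text constructs a
natural base-change map and proves it is an isomorphism; only the existence of an isomorphism on
affine pieces is stated here, the natural map not being available as a named map.) -/
theorem result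
    (K : Type u) [Field K] [IsAlgClosed K] [NeZero (2 : K)]
    (A : Type u) [CommRing A] [Algebra K A] [Algebra.FiniteType K A]
    (P : Type u) [CommRing P] [Algebra A P] [Module.Flat A P] (hlci : LCI.IsLCI A P)
    (hgs : ∀ 𝔓 : PrimeSpectrum P,
      (∀ 𝔔 : PrimeSpectrum P, 𝔔 ≤ 𝔓 →
          𝔔.asIdeal.comap (algebraMap A P) = 𝔓.asIdeal.comap (algebraMap A P) → 𝔔 = 𝔓) →
        𝔓 ∈ Algebra.smoothLocus A P)
    (J : Ideal A) :
    Nonempty
      ((P ⧸ J.map (algebraMap A P)) ⊗[P]
          Abelian.Ext.{u} (ModuleCat.of P (KaehlerDifferential A P)) (ModuleCat.of P P) 1 ≃ₗ[P ⧸ J.map (algebraMap A P)]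
        Abelian.Ext.{u}
          (ModuleCat.of (P ⧸ J.map (algebraMap A P)) (KaehlerDifferential A (P ⧸ J.map (algebraMap A P))))
          (ModuleCat.of (P ⧸ J.map (algebraMap A P)) (P ⧸ J.map (algebraMap A P))) 1) := by
  have hN : IsNoetherianRing A := Algebra.FiniteType.isNoetherianRing K A
  have hFT := hlci.1
  have hNP : IsNoetherianRing P := Algebra.FiniteType.isNoetherianRing A P
  obtain ⟨n, f, hf, hK⟩ := hlci.2
  let G : Algebra.Generators A P (Fin n) := Algebra.Generators.ofAlgHom f hf
  have hk : G.ker = RingHom.ker f.toRingHom := Algebra.Generators.ker_ofAlgHom f hf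
  have hflat : Module.Flat P G.toExtension.Cotangent := by
    rw [Groth.Agent.Models.NLIdeal.flat_cotangent_iff G.toExtension]
    have := Groth.Agent.Models.KoszulCot.flat_cotangent hK
    rw [← hk] at this
    exact this
  have hfin : Module.Finite P G.toExtension.Cotangent := by
    have : IsNoetherianRing G.toExtension.Ring :=
      inferInstanceAs (IsNoetherianRing (MvPolynomial (Fin n) A))
    exact Algebra.Extension.Cotangent.finite ((isNoetherianRing_iff_ideal_fg _).1 this _)
  have hfp : Module.FinitePresentation P G.toExtension.Cotangent :=
    Module.finitePresentation_of_finite _ _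
  have hproj : Module.Projective P G.toExtension.Cotangent :=
    Module.Flat.projective_of_finitePresentation
  have hH : Subsingleton G.toExtension.H1Cotangent := by
    have h1 := K682.LciAss.subsingleton_h1Cotangent A P hlci hgs
    have e : Algebra.H1Cotangent A P ≃ₗ[P] G.toExtension.H1Cotangent :=
      Algebra.Generators.H1Cotangent.equiv _ _
    exact e.symm.toEquiv.subsingleton
  have hφ : Function.Injective G.toExtension.cotangentComplex :=
    (Algebra.Extension.subsingleton_h1Cotangent _).1 hH
  have hπ : Function.Surjective G.toExtension.toKaehler := G.toExtension.toKaehler_surjective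
  have hex : Function.Exact G.toExtension.cotangentComplex G.toExtension.toKaehler :=
    G.toExtension.exact_cotangentComplex_toKaehler
  have hess : Algebra.EssFiniteType A P := inferInstance
  have hinj := K682.LciBC.injective_baseChange (J.map (algebraMap A P))
    G.toExtension.cotangentComplex G.toExtension.toKaehler hφ hπ hex (by
      intro q hq hqass
      have h1 : (⟨q, hq⟩ : PrimeSpectrum P) ∈ Algebra.smoothLocus A P := by
        refine hgs _ fun r hr hc => ?_
        exact PrimeSpectrum.ext
          (K682.LciBC.minimal_of_ass_quotient A P hlci J q hqass r.asIdeal r.2 hr hc)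
      rw [Algebra.smoothLocus_eq_compl_support_inter] at h1
      exact h1.2)
  exact K682.ExtOne.nonempty_quotEquiv (J.map (algebraMap A P)) G.toExtension.cotangentComplex
    G.toExtension.toKaehler hφ hπ hex hinj
    (LinearEquiv.ofBijective _ (K682.LciBC.mapBaseChange_bijective A P J))

end Groth.Agent.S18124
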