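import Groth.Statements.S18125
import Mathlib.Algebra.MvPolynomial.Division
import Mathlib.Tactic.LinearCombination

set_option autoImplicit false
universe u
open Pinch

namespace Groth.Agent.S18125

/-- Let K be a field in which 2 ≠ 0, n ≥ 0, S = K[u, v, w, t_1, …, t_n] (u, v, w the first three
variables), h = u^2 - v^2 w the equation of the pinch-point model, and Jac the ideal generated by h
and its three partial derivatives 2u, -2vw, -v^2, which cuts out the scheme-theoretic singular locus
of {h = 0}. Then the ideal (u, v) of the double locus is Jac + (v), and the colon ideal of Jac by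
(v) is (u, v, w). Consequently (u, v)/Jac, the ideal of the double locus restricted to the singular
locus, is an invertible sheaf on the pinch locus u = v = w = 0: it is free of rank one over K[t_1,
…, t_n] on the class of v. (The text states this for every semi-smooth variety and reduces to this
model; K algebraically closed is not needed for the model computation.) -/
theorem result
    (K : Type u) [Field K] [NeZero (2 : K)] (n : ℕ) :
    letI u : MvPolynomial (Fin (n + 3)) K := MvPolynomial.X 0
    letI v : MvPolynomial (Fin (n + 3)) K := MvPolynomial.X 1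
    letI w : MvPolynomial (Fin (n + 3)) K := MvPolynomial.X 2
    letI Jac : Ideal (MvPolynomial (Fin (n + 3)) K) :=
      Ideal.span {u ^ 2 - v ^ 2 * w, 2 * u, -(2 * v * w), -(v ^ 2)}
    Ideal.span {u, v} = Jac ⊔ Ideal.span {v} ∧ Jac.colon (Ideal.span {v}) = Ideal.span {u, v, w} := by
  set u : MvPolynomial (Fin (n + 3)) K := MvPolynomial.X 0 with hu
  set v : MvPolynomial (Fin (n + 3)) K := MvPolynomial.X 1 with hv
  set w : MvPolynomial (Fin (n + 3)) K := MvPolynomial.X 2 with hw
  have h2 : (2 : MvPolynomial (Fin (n + 3)) K) * MvPolynomial.C (2 : K)⁻¹ = 1 := by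
    have h : (2 : MvPolynomial (Fin (n + 3)) K) = MvPolynomial.C (2 : K) :=
      (map_ofNat MvPolynomial.C 2).symm
    rw [h, ← MvPolynomial.C_mul, mul_inv_cancel₀ (NeZero.ne (2 : K)), MvPolynomial.C_1]
  have huJ : u ∈ Ideal.span {u ^ 2 - v ^ 2 * w, 2 * u, -(2 * v * w), -(v ^ 2)} := by
    have : 2 * u ∈ Ideal.span {u ^ 2 - v ^ 2 * w, 2 * u, -(2 * v * w), -(v ^ 2)} :=
      Ideal.subset_span (by simp)
    have h := Ideal.mul_mem_left _ (MvPolynomial.C (2 : K)⁻¹) this
    convert h using 1
    linear_combination -u * h2
  have hvwJ : v * w ∈ Ideal.span {u ^ 2 - v ^ 2 * w, 2 * u, -(2 * v * w), -(v ^ 2)} := by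
    have : -(2 * v * w) ∈ Ideal.span {u ^ 2 - v ^ 2 * w, 2 * u, -(2 * v * w), -(v ^ 2)} :=
      Ideal.subset_span (by simp)
    have h := Ideal.mul_mem_left _ (-MvPolynomial.C (2 : K)⁻¹) this
    convert h using 1
    linear_combination -v * w * h2
  have hvvJ : v * v ∈ Ideal.span {u ^ 2 - v ^ 2 * w, 2 * u, -(2 * v * w), -(v ^ 2)} := by
    have : -(v ^ 2) ∈ Ideal.span {u ^ 2 - v ^ 2 * w, 2 * u, -(2 * v * w), -(v ^ 2)} :=
      Ideal.subset_span (by simp)
    have h := Ideal.mul_mem_left _ (-1) this
    convert h using 1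
    ring
  have hle : Ideal.span {u ^ 2 - v ^ 2 * w, 2 * u, -(2 * v * w), -(v ^ 2)} ≤
      Ideal.span {u, v * w, v * v} := by
    have e1 : u ∈ Ideal.span {u, v * w, v * v} := Ideal.subset_span (by simp)
    have e2 : v * w ∈ Ideal.span {u, v * w, v * v} := Ideal.subset_span (by simp)
    have e3 : v * v ∈ Ideal.span {u, v * w, v * v} := Ideal.subset_span (by simp)
    rw [Ideal.span_le]
    intro x hx
    simp only [Set.mem_insert_iff, Set.mem_singleton_iff] at hx
    rcases hx with rfl | rfl | rfl | rfl
    · have e : u ^ 2 - v ^ 2 * w = u * u - v * (v * w) := by ring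
      rw [SetLike.mem_coe, e]
      exact sub_mem (Ideal.mul_mem_left _ u e1) (Ideal.mul_mem_left _ v e2)
    · exact Ideal.mul_mem_left _ 2 e1
    · have e : -(2 * v * w) = (-2) * (v * w) := by ring
      rw [SetLike.mem_coe, e]
      exact Ideal.mul_mem_left _ (-2) e2
    · have e : -(v ^ 2) = (-1) * (v * v) := by ring
      rw [SetLike.mem_coe, e]
      exact Ideal.mul_mem_left _ (-1) e3
  refine ⟨?_, ?_⟩
  · apply le_antisymm
    · rw [Ideal.span_le]
      intro x hx
      simp only [Set.mem_insert_iff, Set.mem_singleton_iff] at hx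
      rcases hx with rfl | rfl
      · exact Ideal.mem_sup_left huJ
      · exact Ideal.mem_sup_right (Ideal.subset_span rfl)
    · refine sup_le (hle.trans ?_) (Ideal.span_mono (by simp))
      have e1 : u ∈ Ideal.span {u, v} := Ideal.subset_span (by simp)
      have e2 : v ∈ Ideal.span {u, v} := Ideal.subset_span (by simp)
      rw [Ideal.span_le]
      intro x hx
      simp only [Set.mem_insert_iff, Set.mem_singleton_iff] at hx
      rcases hx with rfl | rfl | rfl
      · exact e1
      · exact Ideal.mul_mem_right _ _ e2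
      · exact Ideal.mul_mem_right _ _ e2
  · ext x
    rw [Submodule.mem_colon]
    constructor
    · intro h
      have h1 := hle (h v (Ideal.subset_span rfl))
      rw [smul_eq_mul, Ideal.mem_span_insert] at h1
      obtain ⟨a, z, hz, h1⟩ := h1
      obtain ⟨b, c, hbc⟩ := Ideal.mem_span_pair.mp hz
      have h3 : v * (x - b * w - c * v) = u * a := by
        linear_combination h1 - hbc
      have h4 : u ∣ v * (x - b * w - c * v) := ⟨a, h3⟩
      rw [hu, MvPolynomial.X_dvd_mul_iff] at h4
      have h5 : MvPolynomial.X 0 ∣ x - b * w - c * v := by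
        refine h4.resolve_left ?_
        rw [hv, MvPolynomial.X_dvd_X]
        intro h
        have := congrArg Fin.val h
        simp at this
      obtain ⟨d, hd⟩ := h5
      have h6 : x = d * u + (c * v + b * w) := by
        rw [hu]
        linear_combination hd
      rw [h6]
      have e1 : u ∈ Ideal.span {u, v, w} := Ideal.subset_span (by simp)
      have e2 : v ∈ Ideal.span {u, v, w} := Ideal.subset_span (by simp)
      have e3 : w ∈ Ideal.span {u, v, w} := Ideal.subset_span (by simp)
      exact add_mem (Ideal.mul_mem_left _ _ e1)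
        (add_mem (Ideal.mul_mem_left _ _ e2) (Ideal.mul_mem_left _ _ e3))
    · intro h p hp
      obtain ⟨q, rfl⟩ := Ideal.mem_span_singleton'.mp hp
      obtain ⟨a, z, hz, rfl⟩ := Ideal.mem_span_insert.mp h
      obtain ⟨b, c, rfl⟩ := Ideal.mem_span_pair.mp hz
      rw [smul_eq_mul]
      have : (a * u + (b * v + c * w)) * (q * v) = (a * q * v) * u + ((b * q) * (v * v) +
        (c * q) * (v * w)) := by ring
      rw [this]
      exact add_mem (Ideal.mul_mem_left _ _ huJ)
        (add_mem (Ideal.mul_mem_left _ _ hvvJ) (Ideal.mul_mem_left _ _ hvwJ))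

end Groth.Agent.S18125
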