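import Groth.Statements.S18127
import Mathlib.LinearAlgebra.Matrix.Transvection
import Mathlib.LinearAlgebra.Matrix.Rank
import Mathlib.LinearAlgebra.Matrix.Diagonal

set_option autoImplicit false
universe u
open LocAlg

namespace Groth.Agent.S18127

/-- Let R be a local ring with maximal ideal m and algebraically closed residue field, and M an n × n
matrix over R whose reduction modulo m has rank at most r. Then the determinant of M lies in m^(n −
r). (The published setting is the local ring of germs of holomorphic functions at a point of a
complex manifold, where this says that the determinant vanishes to order at least n − r at a point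
where the matrix has rank at most r.) -/
theorem result
    {R : Type u} [CommRing R] [IsLocalRing R] [IsAlgClosed (IsLocalRing.ResidueField R)]
    {n : ℕ} (M : Matrix (Fin n) (Fin n) R) (r : ℕ)
    (hr : (M.map (IsLocalRing.residue R)).rank ≤ r) :
    M.det ∈ IsLocalRing.maximalIdeal R ^ (n - r) := by
  classical
  set res := IsLocalRing.residue R
  obtain ⟨L, L', D, hD⟩ := Matrix.Pivot.exists_list_transvec_mul_mul_list_transvec_eq_diagonal (M.map res)
  set P' := (L.map Matrix.TransvectionStruct.toMatrix).prod with hP'
  set Q' := (L'.map Matrix.TransvectionStruct.toMatrix).prod with hQ'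
  have hPdet : P'.det = 1 := Matrix.TransvectionStruct.det_toMatrix_prod L
  have hQdet : Q'.det = 1 := Matrix.TransvectionStruct.det_toMatrix_prod L'
  have hsurj : Function.Surjective res := IsLocalRing.residue_surjective
  choose g hg using hsurj
  have hlift : ∀ X : Matrix (Fin n) (Fin n) (IsLocalRing.ResidueField R), (X.map g).map res = X := by
    intro X; ext i j; simp [hg]
  set P := P'.map g
  set Q := Q'.map g
  have hPu : IsUnit P.det := by
    have h1 : res P.det = 1 := by
      rw [RingHom.map_det, RingHom.mapMatrix_apply, hlift, hPdet]
    by_contra hcon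
    have h2 : P.det ∈ IsLocalRing.maximalIdeal R := by simpa using hcon
    have h3 : res P.det = 0 := (IsLocalRing.residue_eq_zero_iff _).2 h2
    rw [h1] at h3
    exact one_ne_zero h3
  have hQu : IsUnit Q.det := by
    have h1 : res Q.det = 1 := by
      rw [RingHom.map_det, RingHom.mapMatrix_apply, hlift, hQdet]
    by_contra hcon
    have h2 : Q.det ∈ IsLocalRing.maximalIdeal R := by simpa using hcon
    have h3 : res Q.det = 0 := (IsLocalRing.residue_eq_zero_iff _).2 h2
    rw [h1] at h3
    exact one_ne_zero h3
  set N := P * M * Q with hN
  have hNres : N.map res = Matrix.diagonal D := by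
    rw [← hD, hN, Matrix.map_mul, Matrix.map_mul, hlift, hlift]
  have hrk : (Matrix.diagonal D).rank ≤ r := by
    rw [← hD]
    have hPunit : IsUnit P'.det := by rw [hPdet]; exact isUnit_one
    have hQunit : IsUnit Q'.det := by rw [hQdet]; exact isUnit_one
    rw [Matrix.rank_mul_eq_left_of_isUnit_det _ _ hQunit, Matrix.rank_mul_eq_right_of_isUnit_det _ _ hPunit]
    exact hr
  set S : Finset (Fin n) := Finset.univ.filter fun i => D i = 0 with hS
  have hcard : n - r ≤ S.card := by
    rw [Matrix.rank_diagonal] at hrk
    have h1 : (Finset.univ.filter fun i => D i = 0).card + (Finset.univ.filter fun i => ¬ D i = 0).card = n := by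
      rw [Finset.card_filter_add_card_filter_not]
      simp
    have h2 : Fintype.card {i // D i ≠ 0} = (Finset.univ.filter fun i => ¬ D i = 0).card := by
      rw [Fintype.card_subtype]
    rw [h2] at hrk
    have h3 : S.card = (Finset.univ.filter fun i => D i = 0).card := rfl
    omega
  have hcol : ∀ i ∈ S, ∀ j, N j i ∈ IsLocalRing.maximalIdeal R := by
    intro i hi j
    have h1 : res (N j i) = 0 := by
      have h2 : (N.map res) j i = (Matrix.diagonal D) j i := by rw [hNres]
      rw [Matrix.map_apply] at h2
      rw [h2]
      by_cases hji : j = i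
      · subst hji
        simpa using (Finset.mem_filter.1 hi).2
      · exact Matrix.diagonal_apply_ne _ hji
    exact (IsLocalRing.residue_eq_zero_iff _).1 h1
  have hdetN : N.det ∈ IsLocalRing.maximalIdeal R ^ S.card := by
    rw [Matrix.det_apply']
    refine Ideal.sum_mem _ fun σ _ => ?_
    refine Ideal.mul_mem_left _ _ ?_
    rw [← Finset.prod_mul_prod_compl S]
    refine Ideal.mul_mem_right _ _ ?_
    rw [← Finset.prod_const]
    exact Ideal.prod_mem_prod fun i hi => hcol i hi _
  have hdetM : M.det ∈ IsLocalRing.maximalIdeal R ^ S.card := by
    rw [hN, Matrix.det_mul, Matrix.det_mul] at hdetN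
    have h1 := (Ideal.mul_unit_mem_iff_mem _ hQu).1 hdetN
    exact (Ideal.unit_mul_mem_iff_mem _ hPu).1 h1
  exact Ideal.pow_le_pow_right hcard hdetM

end Groth.Agent.S18127
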