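import Groth.Statements.S18128
import Groth.Agent.CalgB.BuchEis2

set_option autoImplicit false
universe u
open CAlg

namespace Groth.Agent.S18128

open IsLocalRing Matrix Groth.Agent.CalgB.BuchEis Groth.Agent.CalgB.Minors
  Groth.Agent.CalgB.DepthLite in
/-- Exactness off the maximal ideal and depth at least the length. -/
theorem exact_of_punctured' {R : Type u} [CommRing R] [IsLocalRing R] [IsNoetherianRing R]
    (e : ℕ) (n : ℕ → ℕ)
    (A : (i : ℕ) → Matrix (Fin (n i)) (Fin (n (i + 1))) R) (hz : A e = 0)
    (hA : ∀ i, i + 1 ≤ e → A i * A (i + 1) = 0)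
    (hdep : EV (kk R) (ModuleCat.of R R) e)
    (hpunc : ∀ j, j + 1 ≤ e → ∀ p : Ideal R, p.IsPrime → p ≠ maximalIdeal R →
      ExAt p (A j) (A (j + 1))) :
    ∀ j, j + 1 ≤ e → Ex (A j) (A (j + 1)) := by
  -- descending induction
  have main : ∀ k j, j + k = e → (∀ i, j ≤ i → i + 1 ≤ e → Ex (A i) (A (i + 1))) ∧
      EV (kk R) (ModuleCat.of R (Cok n A j)) j := by
    intro k
    induction k with
    | zero =>
      intro j hj
      obtain rfl : j = e := by omega
      refine ⟨fun i h1 h2 => by omega, ?_⟩
      exact EV_cok_of_SR n A j 0 j (by rw [hz]; exact SR_zero _ _) hdep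
    | succ k ih =>
      intro j hj
      obtain ⟨ih1, ih2⟩ := ih (j + 1) (by omega)
      have hexj : Ex (A j) (A (j + 1)) := by
        have hEV1 := ih2.mono (show 1 ≤ j + 1 by omega)
        rw [EV_one_iff] at hEV1
        intro v hv
        by_contra hcon
        have hx : (Submodule.Quotient.mk v : Cok n A (j + 1)) ≠ 0 := by
          rw [Ne, Submodule.Quotient.mk_eq_zero]
          rintro ⟨u, hu⟩
          exact hcon ⟨u, hu⟩
        obtain ⟨P, hP, b, hb, hPb⟩ := exists_prime_ann (R := R) _ hx
        by_cases hPm : P = maximalIdeal R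
        · apply hb
          apply hEV1
          intro a ha
          rw [hPb, hPm]
          exact ha
        · obtain ⟨t, htP, u, hu⟩ := hpunc j (by omega) P hP hPm v hv
          apply htP
          rw [← hPb, smul_comm]
          have : t • (Submodule.Quotient.mk v : Cok n A (j + 1)) = 0 := by
            rw [← Submodule.Quotient.mk_smul, Submodule.Quotient.mk_eq_zero]
            exact ⟨u, hu⟩
          rw [this, smul_zero]
      refine ⟨?_, ?_⟩
      · intro i h1 h2
        rcases eq_or_lt_of_le h1 with h | h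
        · subst h
          exact hexj
        · exact ih1 i h h2
      · exact EV_cok_step n A j j (hA j (by omega)) hexj ih2 (hdep.mono (by omega))
  intro j hj
  exact (main (e - j) j (by omega)).1 j le_rfl hj

open Groth.Agent.CalgB.BuchEis Groth.Agent.CalgB.DepthLite in
/-- Local step of Buchsbaum–Eisenbud: let R be a Noetherian local ring with maximal ideal m, and 0 →
R^(n_e) → ⋯ → R^(n_1) → R^(n_0) a complex of finite free modules, the map R^(n_(i+1)) → R^(n_i)
being given by the matrix A i, with 1 ≤ e and e at most the depth of R (there is an R-regular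
sequence of length e inside m). If for every prime ideal p ≠ m the complex of matrices over R_p
obtained by localization is exact at R_p^(n_e), …, R_p^(n_1), then the complex is exact at R^(n_e),
…, R^(n_1). -/
theorem result
    {R : Type u} [CommRing R] [IsLocalRing R] [IsNoetherianRing R]
    (e : ℕ) (he : 1 ≤ e) (n : ℕ → ℕ) (A : (i : ℕ) → Matrix (Fin (n i)) (Fin (n (i + 1))) R)
    (hA : ∀ i, i + 2 ≤ e → A i * A (i + 1) = 0)
    (rs : List R) (hlen : rs.length = e) (hmem : ∀ x ∈ rs, x ∈ IsLocalRing.maximalIdeal R)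
    (hreg : RingTheory.Sequence.IsRegular R rs)
    (hloc : ∀ (p : Ideal R) [p.IsPrime], p ≠ IsLocalRing.maximalIdeal R →
      LinearMap.ker ((A (e - 1)).map (algebraMap R (Localization.AtPrime p))).mulVecLin = ⊥ ∧
        ∀ i, i + 2 ≤ e →
          LinearMap.ker ((A i).map (algebraMap R (Localization.AtPrime p))).mulVecLin =
            LinearMap.range ((A (i + 1)).map (algebraMap R (Localization.AtPrime p))).mulVecLin) :
    LinearMap.ker (A (e - 1)).mulVecLin = ⊥ ∧
      ∀ i, i + 2 ≤ e → LinearMap.ker (A i).mulVecLin = LinearMap.range (A (i + 1)).mulVecLin := by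
  classical
  let A' : (i : ℕ) → Matrix (Fin (n i)) (Fin (n (i + 1))) R := fun i => if i < e then A i else 0
  have hA'1 : ∀ i, i < e → A' i = A i := fun i hi => if_pos hi
  have hz : A' e = 0 := if_neg (lt_irrefl e)
  have hA' : ∀ i, i + 1 ≤ e → A' i * A' (i + 1) = 0 := by
    intro i hi
    rcases eq_or_lt_of_le hi with h | h
    · subst h
      rw [hz, Matrix.mul_zero]
    · rw [hA'1 i (by omega), hA'1 (i + 1) h]
      exact hA i h
  have hdep : EV (kk R) (ModuleCat.of R R) e := by
    rw [← hlen]
    exact EV.of_regular rs hmem hreg.toIsWeaklyRegular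
  have hex := exact_of_punctured' e n A' hz hA' hdep (by
    intro j hj p hp hpm
    refine ExAt.of_ex p (Localization.AtPrime p) ?_
    obtain ⟨h1, h2⟩ := hloc p hpm
    intro v hv
    rcases eq_or_lt_of_le hj with h | h
    · subst h
      rw [hA'1 j (by omega)] at hv
      refine ⟨0, ?_⟩
      rw [Matrix.mulVec_zero]
      have h3 : v ∈ LinearMap.ker
        ((A (j + 1 - 1)).map (algebraMap R (Localization.AtPrime p))).mulVecLin := hv
      rw [h1] at h3
      exact ((Submodule.mem_bot _).mp h3).symm
    · rw [hA'1 j (by omega)] at hv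
      rw [hA'1 (j + 1) h]
      have h3 : v ∈ LinearMap.ker
        ((A j).map (algebraMap R (Localization.AtPrime p))).mulVecLin := hv
      rw [h2 j h] at h3
      exact h3)
  refine ⟨?_, ?_⟩
  · rw [LinearMap.ker_eq_bot']
    intro v hv
    obtain ⟨k, rfl⟩ : ∃ k, e = k + 1 := ⟨e - 1, by omega⟩
    obtain ⟨u, hu⟩ := hex k le_rfl v (by
      rw [hA'1 k (by omega)]
      exact hv)
    rw [← hu, hz, Matrix.zero_mulVec]
  · intro i hi
    apply le_antisymm
    · intro v hv
      obtain ⟨u, hu⟩ := hex i (by omega) v (by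
        rw [hA'1 i (by omega)]
        exact hv)
      rw [hA'1 (i + 1) (by omega)] at hu
      exact ⟨u, hu⟩
    · rintro _ ⟨u, rfl⟩
      rw [LinearMap.mem_ker]
      change (A i).mulVec ((A (i + 1)).mulVec u) = 0
      rw [Matrix.mulVec_mulVec, hA i hi, Matrix.zero_mulVec]

end Groth.Agent.S18128
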