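import Groth.Statements.S18131
import Groth.Agent.Surf.K462.LMChi
import Groth.Agent.Surf.K462.HFree
import Groth.Agent.S1530

set_option autoImplicit false
universe u
open CategoryTheory CategoryTheory.Limits AlgebraicGeometry
open Surf

namespace Groth.Agent.S18131

/-- Let X be a K3 surface over an algebraically closed field k of characteristic zero — an integral
scheme, smooth and proper over k, of dimension two, carrying an ample invertible module, whose
structure sheaf is a second exterior power of its sheaf of differentials (trivial canonical sheaf)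
and with H^1(X, O_X) = 0. Let i : C → X be a closed immersion over k with C integral, smooth over k
and of dimension one, A an invertible O_C-module, and lam : O_X^e → i_*A an epimorphism from the
free module of rank e which induces a bijection H^0(X, O_X^e) → H^0(X, i_*A) (so e = h^0(C, A) and A
is generated by its global sections); let F be the kernel of lam, the Lazarsfeld–Mukai bundle of (C,
A). Then the Euler characteristic of the sheaf of endomorphisms Hom(F, F) equals 2 − 2ρ(A), where
ρ(A) = g(C) − h^0(C, A) · h^1(C, A) is the Brill–Noether number and g(C) = dim_k H^1(C, O_C). -/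
theorem result (k : Type u) [Field k] [IsAlgClosed k] [CharZero k]
    (X : Scheme.{u}) [X.Over (Spec (CommRingCat.of k))] [IsIntegral X]
    [Smooth (X ↘ Spec (CommRingCat.of k))] (hdim : topologicalKrullDim X = 2)
    [IsProper (X ↘ Spec (CommRingCat.of k))]
    (H : X.Modules) (hHa : CohB1.IsAmple H)
    (hK : Canon.IsTopDiff (X ↘ Spec (CommRingCat.of k)) 2 (Coh.structureModule X))
    (hq : Module.finrank k (Coh.HH X (Coh.structureModule X) 1) = 0)
    (C : Scheme.{u}) [C.Over (Spec (CommRingCat.of k))] [IsIntegral C]
    [Smooth (C ↘ Spec (CommRingCat.of k))] (hC : topologicalKrullDim C = 1)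
    (i : C ⟶ X) [IsClosedImmersion i] (hi : i ≫ (X ↘ Spec (CommRingCat.of k)) = C ↘ Spec (CommRingCat.of k))
    (A : C.Modules) (hA : PicF.IsInvertible A) (e : ℕ)
    (lam : FlatMod.freeMod X e ⟶ (Coh.push i).obj A) [Epi lam]
    (hlam : Function.Bijective (Sheaf.H.map ((SheafOfModules.toSheaf _).map lam) 0)) :
    Curv2.euler k X (RefHull.homSh (kernel lam) (kernel lam)) =
      2 - 2 * ((Curv2.genus k C : ℤ) -
        (Module.finrank k (Coh.HH C A 0) : ℤ) * (Module.finrank k (Coh.HH C A 1) : ℤ)) := by
  have := Groth.Agent.Fga.SnapperTwist.isNoetherian_of_proper k X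
  have hd : topologicalKrullDim X ≤ (2 : ℕ) := hdim.le
  have hAc := K462.LM.isCoh_push k i hi hA
  have hF := K462.LM.isFinLocFree_F k i hi hdim hC hA lam
  have hinv := K462.K3Inv.invDual k X hdim hK
  have hO : Curv2.euler k X (Coh.structureModule X) = 2 := by
    rw [← K462.Num.eulerLE_eq k X hd]
    exact hinv.euler_unit hq
  rw [K464.Base.euler_congr k X (K462.HomMon.kap hF (kernel lam)).symm,
    K462.LMChi.euler_end k hdim hK i hC hO hA hAc lam hF]
  rw [K462.LMChi.euler_quotMod_ker k i hi]
  have := K462.LM.isProper_C k X C i hi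
  have := Groth.Agent.Fga.SnapperTwist.isNoetherian_of_proper k C
  have h1 : Curv2.euler k X ((Coh.push i).obj A) = Curv2.euler k C A :=
    Groth.Agent.CurvesC.DegIso.euler_push k i hi A
  have h2 : e = Module.finrank k (Coh.HH C A 0) := by
    have e1 := K462.HFree.finrank_freeMod k (X := X) e 0
    rw [Groth.Agent.VarietyA.CurveFin.finrank_h0_structure k X, mul_one] at e1
    rw [← Groth.Agent.CurvesC.DegIso.finrank_push k i hi A 0, ← e1]
    exact (LinearEquiv.ofBijective (Groth.Agent.VarietyA.EulerLES.mapA k lam 0) hlam).finrank_eq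
  rw [h1, Groth.Agent.S1530.euler_eq k hC, Groth.Agent.S1530.euler_eq k hC,
    Groth.Agent.VarietyA.CurveFin.finrank_h0_structure k C, ← h2]
  unfold Curv2.genus
  push_cast
  ring

end Groth.Agent.S18131
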