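import Groth.Statements.S18132
import Groth.Agent.Surf.K462.LM
import Groth.Agent.Surf.K462.Scalar
import Groth.Agent.PicGrp.K858.Basic

set_option autoImplicit false
universe u
open CategoryTheory CategoryTheory.Limits AlgebraicGeometry
open Surf

namespace Groth.Agent.S18132

/-- Simplicity of Lazarsfeld–Mukai bundles: let X be a K3 surface over an algebraically closed field k
of characteristic zero — an integral scheme, smooth and proper over k, of dimension two, carrying an
ample invertible module, whose structure sheaf is a second exterior power of its sheaf of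
differentials (trivial canonical sheaf) and with H^1(X, O_X) = 0. Let i : C → X be a closed
immersion over k with C integral, smooth over k and of dimension one, whose ideal sheaf I_C is
invertible with the Picard group of X infinite cyclic generated by its class. Let A be an invertible
O_C-module and lam : O_X^e → i_*A an epimorphism from the free module of rank e inducing a bijection
H^0(X, O_X^e) → H^0(X, i_*A), with kernel F (the Lazarsfeld–Mukai bundle of (C, A)). Then F is
simple: for every endomorphism φ of F there is c ∈ k with φ(s) = c·s for every local section s of F.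
(The published proof passes through the slope-stability of F with respect to O_X(C): a nonzero
endomorphism of a slope-stable torsion-free module is an isomorphism, and subtracting an eigenvalue
of φ at a closed point then forces φ to be a scalar.) -/
theorem result (k : Type u) [Field k] [IsAlgClosed k] [CharZero k]
    (X : Scheme.{u}) [X.Over (Spec (CommRingCat.of k))] [IsIntegral X]
    [Smooth (X ↘ Spec (CommRingCat.of k))] (hdim : topologicalKrullDim X = 2)
    [IsProper (X ↘ Spec (CommRingCat.of k))]
    (H : X.Modules) (hHa : CohB1.IsAmple H)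
    (hK : Canon.IsTopDiff (X ↘ Spec (CommRingCat.of k)) 2 (Coh.structureModule X))
    (hq : Module.finrank k (Coh.HH X (Coh.structureModule X) 1) = 0)
    [PicGrp.Law X]
    (C : Scheme.{u}) [C.Over (Spec (CommRingCat.of k))] [IsIntegral C]
    [Smooth (C ↘ Spec (CommRingCat.of k))] (hC : topologicalKrullDim C = 1)
    (i : C ⟶ X) [IsClosedImmersion i] (hi : i ≫ (X ↘ Spec (CommRingCat.of k)) = C ↘ Spec (CommRingCat.of k))
    (hI : PicF.IsInvertible (ClSub.idealMod i.ker))
    (hgen : ∀ c : PicLoc.PicSet X, ∃ n : ℤ, c = PicGrp.cls (ClSub.idealMod i.ker) hI ^ n)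
    (hfree : ∀ n : ℤ, PicGrp.cls (ClSub.idealMod i.ker) hI ^ n = 1 → n = 0)
    (A : C.Modules) (hA : PicF.IsInvertible A) (e : ℕ)
    (lam : FlatMod.freeMod X e ⟶ (Coh.push i).obj A) [Epi lam]
    (hlam : Function.Bijective (Sheaf.H.map ((SheafOfModules.toSheaf _).map lam) 0))
    (φ : kernel lam ⟶ kernel lam) :
    ∃ c : k, ∀ (V : X.Opens) (s : (kernel lam).val.obj (Opposite.op V)),
        (φ.val.app (Opposite.op V)) s =
          (X.ringCatSheaf.obj.map (homOfLE (le_top : V ≤ ⊤)).op
            (Coh.toGlobal (X ↘ Spec (CommRingCat.of k)) c : X.ringCatSheaf.obj.obj (Opposite.op ⊤))) • s := by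
  have := Groth.Agent.Fga.SnapperTwist.isNoetherian_of_proper k X
  obtain ⟨H', hH', hHH'⟩ := Groth.Agent.Grpsch.PicGrp.exists_inverse hHa.1
  have hn : ∀ x : X, IsIntegrallyClosed (X.presheaf.stalk x) := fun x => by
    have h2 := Groth.Agent.S1535.result k X x
    have h3 : IsDomain (X.presheaf.stalk x) := inferInstance
    have := Groth.Agent.Dix.RegTwoDim.ufd (K464.Curves.ringKrullDim_stalk_le hdim.le x)
    infer_instance
  have hgen' : ∀ b : Groth.Agent.Grpsch.PicGrp.Pic X, ∃ n : ℤ,
      b = Groth.Agent.Grpsch.PicGrp.mk (ClSub.idealMod i.ker) hI ^ n := fun b => by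
    obtain ⟨n, hn⟩ := hgen (K858.Basic.ofPic X b)
    refine ⟨n, (K858.Basic.ofPic X).injective ?_⟩
    rw [hn, map_zpow, K858.Basic.ofPic_mk]
  obtain ⟨c, hc⟩ := K462.Scalar.scalar k hdim hn hHa hHH' hH' (K462.LM.isCoh_F k i hi hA lam)
    (K462.LM.isFinLocFree_F k i hi hdim hC hA lam) (K462.LM.hom_unit_kernel lam hlam.injective) (kernel.ι lam)
    (fun G hG => K462.DivDeg.dvd_deg k hdim hH' hgen' hG) (K462.LM.deg_F k i hi hdim hC hI hH' hA lam)
    (K462.LM.dot_pos k i hdim hC hI hHa hHH' hH') φ
  refine ⟨c, fun V s => ?_⟩
  rw [hc]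
  rfl

end Groth.Agent.S18132
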