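import Groth.Statements.S18133
-- import your own Groth.Agent.* helpers here
import Groth.Agent.ShStab.K848.SubFree
import Groth.Agent.ShStab.K848.PushCurve
import Groth.Agent.ShStab.K848.FreeHp
import Groth.Agent.S1535
import Groth.Agent.CurvesB.HZero
import Groth.Agent.Dcoh.StalkMod

set_option autoImplicit false
universe u
open CategoryTheory CategoryTheory.Limits AlgebraicGeometry
open ShStab

namespace Groth.Agent.S18133

open K848.Rank K848.Hull K848.Poly K848.HB K848.TF K848.Dim K848.Stab K848.PicOne K848.Extn K848.Hull2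
  Groth.Agent.CurvesB Groth.Agent.Dcoh.StalkMod K848.SubFree K848.PushCurve K848.FreeHp StabCat ShStab Groth.Agent.CycB.StalkExact Groth.Agent.Fga.PicMon

/-- Let X be a K3 surface over an algebraically closed field k of characteristic zero — an integral
scheme, smooth and proper over k, of dimension two, carrying an ample invertible module, whose
structure sheaf is a second exterior power of its sheaf of differentials (trivial canonical sheaf)
and with H^1(X, O_X) = 0. Let i : C → X be a closed immersion over k with C integral, smooth over k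
and of dimension one, whose ideal sheaf I_C is invertible with the Picard group of X infinite cyclic
generated by its class, and let H be an ample O_X-module which is a tensor inverse of I_C (the
module O_X(C)). Let A be an invertible O_C-module and lam : O_X^e → i_*A an epimorphism inducing a
bijection H^0(X, O_X^e) → H^0(X, i_*A), with kernel F (the Lazarsfeld–Mukai bundle). Then F is
coherent with torsion-free stalks and is slope-stable of dimension 2 with respect to H: it has no
coherent submodule with one-dimensional support, and every coherent submodule whose multiplicity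
lies strictly between 0 and that of F has strictly smaller slope. -/
theorem result (k : Type u) [Field k] [IsAlgClosed k] [CharZero k]
    (X : Scheme.{u}) [X.Over (Spec (CommRingCat.of k))] [IsIntegral X]
    [Smooth (X ↘ Spec (CommRingCat.of k))] (hdim : topologicalKrullDim X = 2)
    [IsProper (X ↘ Spec (CommRingCat.of k))]
    (H : X.Modules) (hHa : CohB1.IsAmple H)
    (hK : Canon.IsTopDiff (X ↘ Spec (CommRingCat.of k)) 2 (Coh.structureModule X))
    (hq : Module.finrank k (Coh.HH X (Coh.structureModule X) 1) = 0)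
    [PicGrp.Law X]
    (C : Scheme.{u}) [C.Over (Spec (CommRingCat.of k))] [IsIntegral C]
    [Smooth (C ↘ Spec (CommRingCat.of k))] (hC : topologicalKrullDim C = 1)
    (i : C ⟶ X) [IsClosedImmersion i] (hi : i ≫ (X ↘ Spec (CommRingCat.of k)) = C ↘ Spec (CommRingCat.of k))
    (hI : PicF.IsInvertible (ClSub.idealMod i.ker))
    (hgen : ∀ c : PicLoc.PicSet X, ∃ n : ℤ, c = PicGrp.cls (ClSub.idealMod i.ker) hI ^ n)
    (hfree : ∀ n : ℤ, PicGrp.cls (ClSub.idealMod i.ker) hI ^ n = 1 → n = 0)
    (Hc : X.Modules) (hHc : ClSub.IsInverseOf Hc (ClSub.idealMod i.ker)) (hHca : CohB1.IsAmple Hc)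
    (A : C.Modules) (hA : PicF.IsInvertible A) (e : ℕ)
    (lam : FlatMod.freeMod X e ⟶ (Coh.push i).obj A) [Epi lam]
    (hlam : Function.Bijective (Sheaf.H.map ((SheafOfModules.toSheaf _).map lam) 0)) :
    Coh.IsCoh (kernel lam) ∧ TorSh.IsTorsionFree (kernel lam) ∧
      ShStab.IsMuStable k X Hc (kernel lam) 2 := by
  have hreg := fun x => Groth.Agent.S1535.result k X x
  have := Groth.Agent.Fga.SnapperTwist.isNoetherian_of_proper k X
  have hn : topologicalKrullDim X = ((2 : ℕ) : WithBot ℕ∞) := hdim
  have hC' : topologicalKrullDim C = ((1 : ℕ) : WithBot ℕ∞) := hC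
  have hHi : PicF.IsInvertible Hc := hHca.1
  have hinv : PicGrp.cls Hc hHi * PicGrp.cls (ClSub.idealMod i.ker) hI = 1 :=
    (PicGrp.cls_mul_cls_eq_one_iff hHi hI).2 hHc
  have hgen' : ∀ c : PicLoc.PicSet X, ∃ n : ℤ, c = PicGrp.cls Hc hHi ^ n := by
    intro c
    obtain ⟨m, rfl⟩ := hgen c
    refine ⟨-m, ?_⟩
    rw [zpow_neg, ← inv_zpow, inv_eq_of_mul_eq_one_right hinv]
  have hO : Coh.IsCoh (Coh.structureModule X) := isCoh_structureModule
  have hloc : IsLocallyNoetherian C := LocallyOfFiniteType.isLocallyNoetherian i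
  have hAc : Coh.IsCoh A := isCoh_of_isInvertible hA
  have hpA : Coh.IsCoh ((Coh.push i).obj A) := Groth.Agent.CohqB.FinAmple.isCoh_push i hAc
  have hfree : Coh.IsCoh (FlatMod.freeMod X e) := Groth.Agent.PerfA.CohSerre.isCoh_freeMod e
  have hfreet : TorSh.IsTorsionFree (FlatMod.freeMod X e) :=
    isTorsionFree_of_isFinLocFree (Groth.Agent.Dcoh.FinLocFree.isFinLocFree_freeMod X e)
  have hF : Coh.IsCoh (kernel lam) := Groth.Agent.PerfA.CohSerre.isCoh_kernel lam hfree hpA.1
  have hFt : TorSh.IsTorsionFree (kernel lam) := isTorsionFree_of_mono (kernel.ι lam) hfreet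
  have hα := alpha_O_pos k hHca hn
  have hS : (ShortComplex.mk (kernel.ι lam) lam (kernel.condition lam)).ShortExact :=
    { exact := ShortComplex.exact_kernel lam, mono_f := inferInstance, epi_g := inferInstance }
  -- the direct image of `A`
  have hA1 : alpha 1 (hp k Hc ((Coh.push i).obj A)) = alpha 2 (hp k Hc (Coh.structureModule X)) := by
    rw [alpha_push k i hHi hC' hAc, rk_structureModule_of_isInvertible hA, Nat.cast_one, one_mul]
    have h1 := hp_push_structureModule k i hHi
    have h2 := alpha_pred_invertible hHi k hn (by norm_num) hI (-1) (by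
      rw [zpow_neg, zpow_one, inv_eq_of_mul_eq_one_right hinv])
    have h3 := congrArg (alpha 1) h1
    rw [alpha_add] at h3
    norm_num at h2
    linarith
  have hAg : genericPoint X ∉ CohB1.support ((Coh.push i).obj A) := by
    intro hg
    have h1 : topologicalKrullDim (CohB1.support ((Coh.push i).obj A)) = ((2 : ℕ) : WithBot ℕ∞) :=
      dim_support_eq hn hpA fun h0 => (rk_eq_zero_iff hpA).1 h0 hg
    rw [Groth.Agent.Sga67.ClosedPush.support_pushforward] at h1
    have h2 := dim_image i (CohB1.support A)
    have h3 := dim_support_eq hC' hAc (by rw [rk_structureModule_of_isInvertible hA]; exact one_ne_zero)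
    rw [h3] at h2
    have h4 : ((1 : ℕ) : WithBot ℕ∞) = ((2 : ℕ) : WithBot ℕ∞) := h2.symm.trans h1
    have h5 : (1 : ℕ) = 2 := by exact_mod_cast h4
    omega
  have hFr : rk (kernel lam) = e := by
    have h1 := rk_shortExact hS hfree
    dsimp only at h1
    rw [rk_freeMod, (rk_eq_zero_iff hpA).2 hAg] at h1
    omega
  have hF1 : alpha 1 (hp k Hc (kernel lam)) = e * alpha 1 (hp k Hc (Coh.structureModule X)) -
      alpha 2 (hp k Hc (Coh.structureModule X)) := by
    have h1 := hp_add k hHi hS hF hfree hpA
    dsimp only at h1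
    have h2 := congrArg (alpha 1) h1
    rw [alpha_add, alpha_freeMod k hHi, hA1] at h2
    linarith
  have he : e ≠ 0 := by
    rintro rfl
    have h0 := isZero_of_rk hF hFt hFr
    rw [hp_isZero k hHi h0] at hF1
    simp only [alpha, Polynomial.coeff_zero, mul_zero, Nat.cast_zero, zero_mul, zero_sub] at hF1
    rw [alpha] at hα
    linarith
  refine ⟨hF, hFt, isMuStable_of k hHca hn hF hFt (by omega) ?_⟩
  intro F' ι hι hF' hr0 hr1
  have hF't : TorSh.IsTorsionFree F' := isTorsionFree_of_mono ι hFt
  obtain ⟨r, hr⟩ : ∃ r, rk F' = r + 1 := ⟨rk F' - 1, by omega⟩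
  have hm : Mono (ι ≫ kernel.ι lam) := mono_comp _ _
  obtain ⟨m, hm0, hm1, hm2⟩ := sub_cogen k hHca hn (by norm_num) hreg hgen'
    (G := FlatMod.freeMod X e) (fun F ι _ h0 => exists_coord ι h0) r F' (ι ≫ kernel.ι lam) hm hF' hF't hr
  have hmne : m ≠ 0 := by
    intro h0
    obtain ⟨F₁, j, φ, hj, hφ, hF₁, hr₁, hcod⟩ := hm2 h0
    -- extend the inclusion to a section
    obtain ⟨s, hs⟩ := exists_factor (isIntegrallyClosed_of_regular hreg) (big_cokOpen hF₁ hO φ hcod) φ
      (bijective_cokOpen hF₁ hO φ) hfree (Groth.Agent.Dcoh.FinLocFree.isFinLocFree_freeMod X e)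
      (j ≫ ι ≫ kernel.ι lam)
    have hsl : s ≫ lam = 0 := by
      refine hom_push_eq_zero i hAc.1 (isTorsionFree_of_isInvertible hA) (s ≫ lam) ?_
      have hx : i (genericPoint C) ∈ cokOpen hF₁ hO φ := by
        intro hx
        obtain ⟨a, t, n', h1, -, h2, h3, h4⟩ := Groth.Agent.CycA.IntLocal.exists_dims
          (X ↘ Spec (CommRingCat.of k)) (i (genericPoint C))
        have h5 := hcod _ hx
        rw [h1] at h5
        have h6 : 2 ≤ a := by exact_mod_cast h5
        rw [hn] at h3
        have h7 : 2 = n' := by exact_mod_cast h3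
        have h8 : i '' Set.univ ⊆ closure {i (genericPoint C)} := by
          rintro _ ⟨c, -, rfl⟩
          exact specializes_iff_mem_closure.1 ((gen c).map i.continuous)
        have h9 := Groth.Agent.Fga.DimLt.topologicalKrullDim_mono h8
        rw [dim_image, dim_univ hC', h2] at h9
        have h10 : 1 ≤ t := by exact_mod_cast h9
        omega
      have h1 : φ ≫ s ≫ lam = 0 := by
        rw [← Category.assoc, hs]
        simp
      have h2 : stalkLin (φ ≫ s ≫ lam) (i (genericPoint C)) = 0 := by
        rw [h1]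
        exact stalkLin_zero _
      rw [stalkLin_comp] at h2
      have h3 := (bijective_cokOpen hF₁ hO φ _ hx).2
      ext z
      obtain ⟨y, rfl⟩ := h3 z
      exact LinearMap.congr_fun h2 y
    have hs0 : s = 0 := by
      let x := (HZero.equivAdd (FlatMod.freeMod X e)).symm (s.app ⊤ (Groth.Agent.S0938.one X))
      have hx : HZero.equivAdd (FlatMod.freeMod X e) x = s.app ⊤ (Groth.Agent.S0938.one X) :=
        AddEquiv.apply_symm_apply _ _
      have h1 : Sheaf.H.map ((SheafOfModules.toSheaf _).map lam) 0 x =
          Sheaf.H.map ((SheafOfModules.toSheaf _).map lam) 0 0 := by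
        apply (HZero.equivAdd ((Coh.push i).obj A)).injective
        refine (HZero.equivAdd_map lam x).trans (Eq.trans ?_ (HZero.equivAdd_map lam 0).symm)
        rw [hx, map_zero, map_zero]
        have h2 : (s ≫ lam).app ⊤ (Groth.Agent.S0938.one X) = 0 := by rw [hsl]; rfl
        exact h2
      have h2 := hlam.1 h1
      apply Groth.Agent.S0938.hom_unit_ext
      rw [← hx, h2, map_zero]
      rfl
    rw [hs0, Limits.comp_zero] at hs
    have hmj : Mono (j ≫ ι ≫ kernel.ι lam) := mono_comp _ _
    rw [← hs] at hmj
    refine not_isZero_of_rk (E := F₁) (by omega) ?_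
    rw [IsZero.iff_id_eq_zero, ← cancel_mono (0 : F₁ ⟶ FlatMod.freeMod X e)]
    simp
  have hm' : m ≤ -1 := by omega
  have hm'' : (m : ℚ) ≤ -1 := by exact_mod_cast hm'
  have hre : (r : ℚ) + 1 < e := by
    have : r + 1 < e := by omega
    exact_mod_cast this
  norm_num at hm1
  norm_num
  rw [hF1, hm1, hFr, hr]
  push_cast
  have h1 : (m : ℚ) * alpha 2 (hp k Hc (Coh.structureModule X)) * e ≤
      -1 * alpha 2 (hp k Hc (Coh.structureModule X)) * e := by
    gcongr
  have h2 : ((r : ℚ) + 1) * alpha 2 (hp k Hc (Coh.structureModule X)) <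
      e * alpha 2 (hp k Hc (Coh.structureModule X)) := by
    gcongr
  linarith

end Groth.Agent.S18133
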