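import Groth.Statements.S18136
import Mathlib.Order.Directed

set_option autoImplicit false
universe u v
open IsLocalRing
open CAlg

namespace Groth.Agent.S18136

lemma linindep_of_local {B A : Type u} [CommRing B] [IsLocalRing B] [CommRing A] [IsLocalRing A]
    (ψ : B →+* A) [IsLocalHom ψ] {κ : Type*} [Fintype κ] (x : κ → maximalIdeal B)
    (y : κ → maximalIdeal A) (hxy : ∀ i, ψ (x i) = y i)
    (hind : LinearIndependent (ResidueField A) (⇑(maximalIdeal A).toCotangent ∘ y)) :
    LinearIndependent (ResidueField B) (⇑(maximalIdeal B).toCotangent ∘ x) := by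
  rw [Fintype.linearIndependent_iff] at hind ⊢
  intro r hr i
  have hsurj : ∀ i, ∃ c : B, residue B c = r i := fun i => residue_surjective (r i)
  choose c hc using hsurj
  have h1 : (maximalIdeal B).toCotangent (∑ i, c i • x i) = 0 := by
    rw [map_sum, ← hr]
    refine Finset.sum_congr rfl fun i _ => ?_
    rw [map_smul, ← hc i]
    exact (algebraMap_smul (ResidueField B) (c i) _).symm
  rw [Ideal.toCotangent_eq_zero] at h1
  have h2 : ((∑ i, ψ (c i) • y i : maximalIdeal A) : A) ∈ maximalIdeal A ^ 2 := by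
    have h3 : ψ ((∑ i, c i • x i : maximalIdeal B) : B) ∈ (maximalIdeal B ^ 2).map ψ :=
      Ideal.mem_map_of_mem ψ h1
    have h4 : (maximalIdeal B ^ 2).map ψ ≤ maximalIdeal A ^ 2 := by
      rw [Ideal.map_pow]
      exact Ideal.pow_right_mono (((IsLocalRing.local_hom_TFAE ψ).out 0 2).1 ‹IsLocalHom ψ›) 2
    have h5 := h4 h3
    convert h5 using 1
    simp only [AddSubmonoidClass.coe_finsetSum, map_sum, SetLike.val_smul, smul_eq_mul, map_mul,
      hxy]
  rw [← Ideal.toCotangent_eq_zero, map_sum] at h2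
  have h6 := hind (fun i => residue A (ψ (c i))) (by
    rw [← h2]
    refine Finset.sum_congr rfl fun i _ => ?_
    rw [map_smul]
    exact algebraMap_smul (ResidueField A) (ψ (c i)) _) i
  rw [← hc i, residue_eq_zero_iff]
  have h7 : ψ (c i) ∈ maximalIdeal A := (residue_eq_zero_iff _).1 h6
  rw [mem_maximalIdeal, mem_nonunits_iff] at h7 ⊢
  exact fun h => h7 (h.map ψ)

/-- Let A be a regular local ring with maximal ideal m and residue field k, written as a directed
colimit of regular local rings A_j with local transition maps (compatible maps ψ_j : A_j → A that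
are jointly surjective, an element dying in A dying at some later stage). Let f_1, …, f_c, g_1, …,
g_d ∈ m have linearly independent classes in m/m^2 over k, and put I = (f_1, …, f_c) ⊆ I' = (f_1, …,
f_c, g_1, …, g_d) (so I is generated by part of a regular system of parameters of A and I'/I by part
of a regular system of parameters of A/I; for a regular local ring the condition on I ⊆ I' is stated
through such a joint family). Then there are an index j_0 and ideals I_j ⊆ I'_j ⊆ A_j for j ≥ j_0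
such that: each I_j is generated by c elements and I'_j by these together with d further elements of
the maximal ideal m_j, the c + d classes in m_j/m_j^2 being linearly independent over the residue
field of A_j; the transition maps carry I_i, I'_i onto generators of I_j, I'_j for j_0 ≤ i ≤ j; and
I_j, I'_j generate I, I' in A. -/
theorem result
    {A : Type u} [CommRing A] [IsRegularLocalRing A]
    {ι : Type v} [Preorder ι] [Nonempty ι] [IsDirected ι (· ≤ ·)]
    (B : ι → Type u) [∀ j, CommRing (B j)] [∀ j, IsRegularLocalRing (B j)]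
    (φ : ∀ i j, i ≤ j → (B i →+* B j)) (hφloc : ∀ i j (h : i ≤ j), IsLocalHom (φ i j h))
    (hφ : ∀ i j l (hij : i ≤ j) (hjl : j ≤ l), (φ j l hjl).comp (φ i j hij) = φ i l (hij.trans hjl))
    (ψ : ∀ j, B j →+* A) (hψ : ∀ i j (h : i ≤ j), (ψ j).comp (φ i j h) = ψ i)
    (hsurj : ∀ a : A, ∃ j, ∃ x : B j, ψ j x = a)
    (hker : ∀ j (x : B j), ψ j x = 0 → ∃ l, ∃ h : j ≤ l, φ j l h x = 0)
    (c d : ℕ) (f : Fin c → maximalIdeal A) (g : Fin d → maximalIdeal A)
    (hind : LinearIndependent (ResidueField A) (⇑(maximalIdeal A).toCotangent ∘ Sum.elim f g)) :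
    ∃ j₀ : ι, ∃ (P : ∀ j, j₀ ≤ j → Ideal (B j)) (Q : ∀ j, j₀ ≤ j → Ideal (B j)),
      (∀ j (hj : j₀ ≤ j), ∃ (F : Fin c → maximalIdeal (B j)) (E : Fin d → maximalIdeal (B j)),
        LinearIndependent (ResidueField (B j)) (⇑(maximalIdeal (B j)).toCotangent ∘ Sum.elim F E) ∧
        P j hj = Ideal.span (Set.range (fun s => (F s : B j))) ∧
        Q j hj = P j hj ⊔ Ideal.span (Set.range (fun t => (E t : B j)))) ∧
      (∀ i j (hi : j₀ ≤ i) (hij : i ≤ j),
        (P i hi).map (φ i j hij) = P j (le_trans hi hij) ∧ (Q i hi).map (φ i j hij) = Q j (le_trans hi hij)) ∧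
      (∀ j (hj : j₀ ≤ j),
        (P j hj).map (ψ j) = Ideal.span (Set.range (fun s => (f s : A))) ∧
        (Q j hj).map (ψ j) = Ideal.span (Set.range (fun s => (f s : A))) ⊔ Ideal.span (Set.range (fun t => (g t : A)))) := by
  classical
  have hloc : ∀ j, IsLocalHom (ψ j) := by
    intro j
    constructor
    intro x hx
    obtain ⟨u, hu⟩ := hx.exists_right_inv
    obtain ⟨l, u', rfl⟩ := hsurj u
    obtain ⟨m, hjm, hlm⟩ := exists_ge_ge j l
    have h1 : ψ m (φ j m hjm x * φ l m hlm u' - 1) = 0 := by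
      rw [map_sub, map_mul, map_one, ← RingHom.comp_apply, ← RingHom.comp_apply, hψ, hψ, hu, sub_self]
    obtain ⟨n, hmn, hn⟩ := hker m _ h1
    rw [map_sub, map_mul, map_one, sub_eq_zero, ← RingHom.comp_apply, hφ] at hn
    have : IsUnit (φ j n (hjm.trans hmn) x) := IsUnit.of_mul_eq_one _ hn
    exact (hφloc j n (hjm.trans hmn)).map_nonunit x this
  have hlift : ∀ s : Fin c ⊕ Fin d, ∃ j, ∃ x : B j, ψ j x = (Sum.elim f g s : maximalIdeal A) :=
    fun s => hsurj _
  choose js xs hxs using hlift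
  obtain ⟨j₀, hj₀⟩ := Finite.exists_le js
  set X0 : Fin c ⊕ Fin d → B j₀ := fun s => φ (js s) j₀ (hj₀ s) (xs s) with hX0
  have hX0ψ : ∀ s, ψ j₀ (X0 s) = (Sum.elim f g s : maximalIdeal A) := by
    intro s
    rw [hX0, ← hxs s, ← hψ _ _ (hj₀ s)]
    rfl
  have hXψ : ∀ j (hj : j₀ ≤ j) s, ψ j (φ j₀ j hj (X0 s)) = (Sum.elim f g s : maximalIdeal A) := by
    intro j hj s
    rw [← hX0ψ s, ← RingHom.comp_apply, hψ]
  have hXmem : ∀ j (hj : j₀ ≤ j) s, φ j₀ j hj (X0 s) ∈ maximalIdeal (B j) := by
    intro j hj s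
    rw [mem_maximalIdeal, mem_nonunits_iff]
    intro h
    have h1 := h.map (ψ j)
    rw [hXψ] at h1
    exact (mem_maximalIdeal _).1 (Sum.elim f g s).2 h1
  refine ⟨j₀, fun j hj => Ideal.span (Set.range fun s : Fin c => φ j₀ j hj (X0 (Sum.inl s))),
    fun j hj => Ideal.span (Set.range fun s : Fin c => φ j₀ j hj (X0 (Sum.inl s))) ⊔
      Ideal.span (Set.range fun s : Fin d => φ j₀ j hj (X0 (Sum.inr s))), ?_, ?_, ?_⟩
  · intro j hj
    refine ⟨fun s => ⟨_, hXmem j hj (Sum.inl s)⟩, fun s => ⟨_, hXmem j hj (Sum.inr s)⟩, ?_, rfl, rfl⟩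
    have := hloc j
    refine linindep_of_local (ψ j) _ (Sum.elim f g) ?_ hind
    rintro (s | s)
    · exact hXψ j hj (Sum.inl s)
    · exact hXψ j hj (Sum.inr s)
  · intro i j hi hij
    have hcomp : ∀ s, φ i j hij (φ j₀ i hi (X0 s)) = φ j₀ j (le_trans hi hij) (X0 s) := by
      intro s
      rw [← RingHom.comp_apply, hφ]
    have h1 : ∀ (κ : Type) (e : κ → Fin c ⊕ Fin d),
        (Ideal.span (Set.range fun s : κ => φ j₀ i hi (X0 (e s)))).map (φ i j hij) =
          Ideal.span (Set.range fun s : κ => φ j₀ j (le_trans hi hij) (X0 (e s))) := by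
      intro κ e
      rw [Ideal.map_span, ← Set.range_comp]
      congr 1
      congr 1
      funext s
      exact hcomp (e s)
    refine ⟨h1 _ _, ?_⟩
    rw [Ideal.map_sup, h1 _ Sum.inl, h1 _ Sum.inr]
  · intro j hj
    have h1 : ∀ (κ : Type) (e : κ → Fin c ⊕ Fin d),
        (Ideal.span (Set.range fun s : κ => φ j₀ j hj (X0 (e s)))).map (ψ j) =
          Ideal.span (Set.range fun s : κ => ((Sum.elim f g (e s) : maximalIdeal A) : A)) := by
      intro κ e
      rw [Ideal.map_span, ← Set.range_comp]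
      congr 1
      congr 1
      funext s
      exact hXψ j hj (e s)
    refine ⟨h1 _ Sum.inl, ?_⟩
    rw [Ideal.map_sup, h1 _ Sum.inl, h1 _ Sum.inr]
    rfl

end Groth.Agent.S18136
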