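import Groth.Statements.S18137
import Groth.Agent.EtDual.K3.PureTop
import Groth.Agent.EtDual.K3.PureFinal

set_option autoImplicit false
universe u
open CategoryTheory CategoryTheory.Limits AlgebraicGeometry Opposite
open EtDual

namespace Groth.Agent.S18137

attribute [-instance] CategoryTheory.catToReflQuiver

/-- Let X be a Noetherian scheme all of whose local rings are regular, i : Y → X a closed immersion with
Y regular and of pure codimension c (dim O_{X,y} = dim O_{Y,y} + c at every point y of Y), j : U → X
the open immersion of the complement of Y, and n ≥ 1 an integer invertible on X. Then the local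
cohomology sheaves H^q_Y(X, Z/n) (right derived functors of F ↦ ker(F → j_* j^* F)) vanish for every
q ≠ 2c. -/
theorem result {X Y U : Scheme.{u}} [IsNoetherian X]
    (hXreg : ∀ x : X, IsRegularLocalRing (X.presheaf.stalk x))
    (i : Y ⟶ X) [IsClosedImmersion i] [EtCoh.BCCont i]
    (hYreg : ∀ y : Y, IsRegularLocalRing (Y.presheaf.stalk y))
    (j : U ⟶ X) [IsOpenImmersion j] [EtCoh.BCCont j] (hij : Set.range j.base = (Set.range i.base)ᶜ)
    (c : ℕ) (hcodim : ∀ y : Y, ringKrullDim (X.presheaf.stalk (i.base y)) = ringKrullDim (Y.presheaf.stalk y) + c)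
    (n : ℕ) (hn0 : 0 < n) (hn : IsUnit (n : Γ(X, ⊤))) (q : ℕ) (hq : q ≠ 2 * c) :
    IsZero ((EtDual.locCoh j q).obj (EtCoh.const X (ZMod n))) := by
  exact K3.PureTop.van K3.PureFinal.divPure hXreg i hYreg j hij c hcodim n hn0 hn q hq

end Groth.Agent.S18137
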