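import Groth.Statements.S18139
import Groth.Agent.EtDual.K152.PuncPure

set_option autoImplicit false
universe u
open CategoryTheory CategoryTheory.Limits AlgebraicGeometry Opposite
open EtDual

namespace Groth.Agent.S18139


/-- Let A be a strictly henselian regular local ring of equal characteristic (A and its residue field k
have the same characteristic) and of Krull dimension d, X = Spec A with closed point x, j : U → X
the open immersion with image X - {x}, i : Spec k → X the closed point, and n ≥ 1 an integer
invertible in A. Then X is punctually pure at x: the local cohomology sheaves H^q_x(X, Z/n) (right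
derived functors of F ↦ ker(F → j_* j^* F)) vanish for q ≠ 2d, and H^{2d}_x(X, Z/n(d)) is isomorphic
to i_* of the constant sheaf Z/n. (Only the existence of the last isomorphism is asserted; the
canonical one is induced by the cycle class of x. A Noetherian regular scheme of equal
characteristic is punctually pure at every point, which is this statement for the strict
henselizations of its local rings.) -/
theorem result (A : Type u) [CommRing A] [IsRegularLocalRing A]
    (hsh : EtCoh.IsStrictlyHenselianLocalRing A)
    (hchar : ringChar A = ringChar (IsLocalRing.ResidueField A))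
    (d : ℕ) (hd : ringKrullDim A = d)
    {U : Scheme.{u}} (j : U ⟶ Spec (CommRingCat.of A)) [IsOpenImmersion j] [EtCoh.BCCont j]
    (hU : ∀ x : PrimeSpectrum A, x ∈ Set.range j.base ↔ x ≠ IsLocalRing.closedPoint A)
    [EtCoh.BCCont (Spec.map (CommRingCat.ofHom (IsLocalRing.residue A)))]
    (n : ℕ) (hn0 : 0 < n) (hn : IsUnit (n : A)) :
    (∀ q : ℕ, q ≠ 2 * d → IsZero ((EtDual.locCoh j q).obj (EtCoh.const (Spec (CommRingCat.of A)) (ZMod n)))) ∧
      Nonempty ((EtDual.locCoh j (2 * d)).obj (EtDual.tate (Spec (CommRingCat.of A)) n d) ≅
        (EtCoh.push (Spec.map (CommRingCat.ofHom (IsLocalRing.residue A)))).obj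
          (EtCoh.const (Spec (CommRingCat.of (IsLocalRing.ResidueField A))) (ZMod n))) := by
  exact K152.PuncPure.pure_of_equalChar A hchar hd j hU n hn

end Groth.Agent.S18139
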