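import Groth.Statements.S18141
import Groth.Agent.EtDual.K152.DvrPure
import Groth.Agent.ParaF.K588.SHDesc
import Groth.Agent.S19379
import Groth.Agent.S2743
import Groth.Agent.Ega4dB.SmoothReg
import Groth.Agent.Sga4h.X144Geo1

set_option autoImplicit false
universe u
open CategoryTheory CategoryTheory.Limits AlgebraicGeometry Opposite
open EtDual

namespace Groth.Agent.S18141

open IsLocalRing Groth.Agent in
/-- Punctual purity for a strict henselization of a formally smooth local algebra over a regular local ring of
dimension at most one. -/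
theorem pure_of_smooth (V A B : Type u) [CommRing V] [IsRegularLocalRing V] (hdV : ringKrullDim V ≤ 1)
    [CommRing A] [IsRegularLocalRing A] [Algebra V A] [IsLocalHom (algebraMap V A)]
    [Algebra.FormallySmooth V A] [CommRing B] [IsLocalRing B] [Algebra A B] [IsLocalHom (algebraMap A B)]
    [Hensel.IsStrictHenselization A B] (n : ℕ) (hn0 : 0 < n) (hn : IsUnit (n : V))
    (d : ℕ) (hd : ringKrullDim B = d)
    {U : Scheme.{u}} (j : U ⟶ Spec (CommRingCat.of B)) [IsOpenImmersion j]
    (hU : ∀ x : PrimeSpectrum B, x ∈ Set.range j.base ↔ x ≠ closedPoint B) :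
    (∀ q : ℕ, q ≠ 2 * d → IsZero ((EtDual.locCoh j q).obj (EtCoh.const (Spec (CommRingCat.of B)) (ZMod n)))) ∧
      Nonempty ((EtDual.locCoh j (2 * d)).obj (EtDual.tate (Spec (CommRingCat.of B)) n d) ≅
        (EtCoh.push (Spec.map (CommRingCat.ofHom (residue B)))).obj
          (EtCoh.const (Spec (CommRingCat.of (ResidueField B))) (ZMod n))) := by
  letI : Algebra V B := ((algebraMap A B).comp (algebraMap V A)).toAlgebra
  haveI : IsScalarTower V A B := IsScalarTower.of_algebraMap_eq fun x => rfl
  have hB : IsRegularLocalRing B := (Groth.Agent.S2743.result A B).2 inferInstance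
  have h1 : CAlg.IsRegularHom V A := Groth.Agent.S19379.result V A
  have h2 : CAlg.IsRegularHom A B := K588.SHDesc.isRegularHom_sh A B
  have h3 : CAlg.IsRegularHom V B := CalgB.RegHom6.isRegularHom_comp h1 h2
  have hloc : IsLocalHom (algebraMap V B) :=
    inferInstanceAs (IsLocalHom ((algebraMap A B).comp (algebraMap V A)))
  have hSH : EtCoh.IsStrictlyHenselianLocalRing B :=
    ⟨Hensel.IsStrictHenselization.henselian A,
      (Hensel.IsStrictHenselization.isSepClosure (R := A) (S := B)).sep_closed⟩
  have hdom : IsDomain V := Ega2.RegLow.isDomain V hdV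
  by_cases h0 : ringKrullDim V ≤ 0
  · have hk : Ring.KrullDimLE 0 V := (Ring.krullDimLE_iff).2 (by exact_mod_cast h0)
    have hF : IsField V := Ring.KrullDimLE.isField_of_isDomain
    have hs : IsSimpleRing V := (isSimpleRing_iff_isField V).2 hF
    have hnB : IsUnit (n : B) := by
      have := hn.map (algebraMap V B)
      rwa [map_natCast] at this
    refine K152.PuncPure.pure_of_equalChar B ?_ hd j hU n hnB
    rw [K152.DvrAlg.ringChar_eq (algebraMap V B),
      K152.DvrAlg.ringChar_eq ((residue B).comp (algebraMap V B))]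
  · have hDVR : IsDiscreteValuationRing V :=
      Sga4h.X144Geo1.isDiscreteValuationRing V (Sga4h.X144Geo1.dim_eq_one hdV h0)
    exact K152.DvrPure.main V B hSH h3 n hn0 hn hd j hU


/-- Let S be a Noetherian scheme all of whose local rings are regular of Krull dimension at most one, P
→ S a smooth morphism, p a point of P, and B a strict henselization of the local ring O_{P,p}, of
Krull dimension d; let X = Spec B with closed point x, j : U → X the open immersion with image X -
{x}, i the inclusion of the closed point, and n ≥ 1 an integer invertible on S. Then P is punctually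
pure at p: the local cohomology sheaves H^q_x(X, Z/n) (right derived functors of F ↦ ker(F → j_* j^*
F)) vanish for q ≠ 2d, and H^{2d}_x(X, Z/n(d)) is isomorphic to i_* of the constant sheaf Z/n. (Only
the existence of the last isomorphism is asserted; the canonical one is induced by the cycle class
of x.) -/
theorem result
    {P S : Scheme.{u}} [IsNoetherian S] (hSreg : ∀ s : S, IsRegularLocalRing (S.presheaf.stalk s))
    (hSdim : ∀ s : S, ringKrullDim (S.presheaf.stalk s) ≤ 1)
    (f : P ⟶ S) [Smooth f] (p : P) (n : ℕ) (hn0 : 0 < n) (hn : IsUnit (n : Γ(S, ⊤)))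
    (B : Type u) [CommRing B] [IsLocalRing B] [Algebra (P.presheaf.stalk p) B]
    [IsLocalHom (algebraMap (P.presheaf.stalk p) B)] [Hensel.IsStrictHenselization (P.presheaf.stalk p) B]
    (d : ℕ) (hd : ringKrullDim B = d)
    {U : Scheme.{u}} (j : U ⟶ Spec (CommRingCat.of B)) [IsOpenImmersion j] [EtCoh.BCCont j]
    (hU : ∀ x : PrimeSpectrum B, x ∈ Set.range j.base ↔ x ≠ IsLocalRing.closedPoint B)
    [EtCoh.BCCont (Spec.map (CommRingCat.ofHom (IsLocalRing.residue B)))] :
    (∀ q : ℕ, q ≠ 2 * d → IsZero ((EtDual.locCoh j q).obj (EtCoh.const (Spec (CommRingCat.of B)) (ZMod n)))) ∧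
      Nonempty ((EtDual.locCoh j (2 * d)).obj (EtDual.tate (Spec (CommRingCat.of B)) n d) ≅
        (EtCoh.push (Spec.map (CommRingCat.ofHom (IsLocalRing.residue B)))).obj
          (EtCoh.const (Spec (CommRingCat.of (IsLocalRing.ResidueField B))) (ZMod n))) := by
  haveI : IsLocallyNoetherian P := LocallyOfFiniteType.isLocallyNoetherian f
  have hV := hSreg (f p)
  have hA : IsRegularLocalRing (P.presheaf.stalk p) :=
    Groth.Agent.Ega4dB.SmoothReg.isRegularLocalRing_stalk_of_smooth f p hV
  letI : Algebra (S.presheaf.stalk (f p)) (P.presheaf.stalk p) := (f.stalkMap p).hom.toAlgebra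
  haveI : IsLocalHom (algebraMap (S.presheaf.stalk (f p)) (P.presheaf.stalk p)) :=
    inferInstanceAs (IsLocalHom (f.stalkMap p).hom)
  haveI : Algebra.FormallySmooth (S.presheaf.stalk (f p)) (P.presheaf.stalk p) := by
    have h1 : p ∈ f.smoothLocus := by rw [Scheme.Hom.smoothLocus_eq_top]; trivial
    exact h1
  have hn' : IsUnit (n : S.presheaf.stalk (f p)) := by
    have h1 := hn.map (S.presheaf.germ ⊤ (f p) trivial).hom
    rwa [map_natCast] at h1
  exact pure_of_smooth (S.presheaf.stalk (f p)) (P.presheaf.stalk p) B (hSdim (f p)) n hn0 hn' d hd j hU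

end Groth.Agent.S18141
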