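import Groth.Statements.S18142
import Groth.Agent.EtDual.K174.CompPunct

set_option autoImplicit false
universe u
open CategoryTheory CategoryTheory.Limits AlgebraicGeometry Opposite
open EtDual

namespace Groth.Agent.S18142

attribute [-instance] CategoryTheory.catToReflQuiver

/-- Let A be a strictly henselian regular local ring of Krull dimension d with maximal ideal m, Â its
m-adic completion, and n ≥ 1 an integer invertible in A. Let X = Spec A and X' = Spec Â with closed
points x, x', let j : U → X and j' : U' → X' be the open immersions with images X - {x} and X' -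
{x'}, and i, i' the inclusions of the closed points. Then punctual purity at the closed point holds
for X exactly when it holds for X', where punctual purity at the closed point of the spectrum of a
d-dimensional local ring means here: the local cohomology sheaves H^q at the closed point with
coefficients Z/n (right derived functors of F ↦ ker(F → j_* j^* F)) vanish for q ≠ 2d, and the one
in degree 2d with coefficients Z/n(d) is isomorphic to the direct image of the constant sheaf Z/n
from the closed point (existence of an isomorphism; the canonical isomorphism is induced by the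
cycle class of the closed point). -/
theorem result (A : Type u) [CommRing A] [IsRegularLocalRing A]
    (hsh : EtCoh.IsStrictlyHenselianLocalRing A) (d : ℕ) (hd : ringKrullDim A = d)
    (n : ℕ) (hn0 : 0 < n) (hn : IsUnit (n : A))
    {U : Scheme.{u}} (j : U ⟶ Spec (CommRingCat.of A)) [IsOpenImmersion j] [EtCoh.BCCont j]
    (hU : ∀ x : PrimeSpectrum A, x ∈ Set.range j.base ↔ x ≠ IsLocalRing.closedPoint A)
    [EtCoh.BCCont (Spec.map (CommRingCat.ofHom (IsLocalRing.residue A)))]
    {U' : Scheme.{u}} (j' : U' ⟶ Spec (CommRingCat.of (AdicCompletion (IsLocalRing.maximalIdeal A) A)))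
    [IsOpenImmersion j'] [EtCoh.BCCont j']
    (hU' : ∀ x : PrimeSpectrum (AdicCompletion (IsLocalRing.maximalIdeal A) A), x ∈ Set.range j'.base ↔
      x ≠ IsLocalRing.closedPoint (AdicCompletion (IsLocalRing.maximalIdeal A) A))
    [EtCoh.BCCont (Spec.map (CommRingCat.ofHom (IsLocalRing.residue (AdicCompletion (IsLocalRing.maximalIdeal A) A))))] :
    ((∀ q : ℕ, q ≠ 2 * d → IsZero ((EtDual.locCoh j q).obj (EtCoh.const (Spec (CommRingCat.of A)) (ZMod n)))) ∧
      Nonempty ((EtDual.locCoh j (2 * d)).obj (EtDual.tate (Spec (CommRingCat.of A)) n d) ≅
        (EtCoh.push (Spec.map (CommRingCat.ofHom (IsLocalRing.residue A)))).obj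
          (EtCoh.const (Spec (CommRingCat.of (IsLocalRing.ResidueField A))) (ZMod n)))) ↔
    ((∀ q : ℕ, q ≠ 2 * d → IsZero ((EtDual.locCoh j' q).obj
        (EtCoh.const (Spec (CommRingCat.of (AdicCompletion (IsLocalRing.maximalIdeal A) A))) (ZMod n)))) ∧
      Nonempty ((EtDual.locCoh j' (2 * d)).obj
          (EtDual.tate (Spec (CommRingCat.of (AdicCompletion (IsLocalRing.maximalIdeal A) A))) n d) ≅
        (EtCoh.push (Spec.map (CommRingCat.ofHom (IsLocalRing.residue (AdicCompletion (IsLocalRing.maximalIdeal A) A))))).obj
          (EtCoh.const (Spec (CommRingCat.of (IsLocalRing.ResidueField (AdicCompletion (IsLocalRing.maximalIdeal A) A)))) (ZMod n)))) :=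
  K174.CompPunct.main A hsh d hd n hn0 hn j hU j' hU'

end Groth.Agent.S18142
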