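import Groth.Statements.S18143
import Groth.Agent.EtDual.K690.PunctRows
import Groth.Agent.EtDual.K690.Purity
-- import your own Groth.Agent.* helpers here

set_option autoImplicit false
universe u
open CategoryTheory CategoryTheory.Limits AlgebraicGeometry Opposite
open EtDual

namespace Groth.Agent.S18143

/-- Let S be a Noetherian scheme all of whose local rings are regular of Krull dimension at most one and
n ≥ 1 an integer invertible on S. Let O be a regular local ring of Krull dimension d that is a
strict henselization of the local ring O_{T,t} of a separated S-scheme T of finite type at a point t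
(so O is of arithmetic type over S), X = Spec O with closed point x, and f an element of the maximal
ideal m not in m^2, so that Y = V(f) is a regular divisor and X - Y = Spec O[1/f]. Assume (a) Y is
punctually pure at every point and (b) X is punctually pure at every point other than x, where
punctual purity of a scheme at a point means, for every strict henselization B of the local ring at
that point, with e = dim B: the local cohomology sheaves of Spec B with support in the closed point
(right derived functors of F ↦ ker(F → k_* k^* F), k the open immersion of the punctured spectrum)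
with coefficients Z/n vanish in degrees ≠ 2e, and in degree 2e the one with coefficients Z/n(e) is
isomorphic to the direct image of the constant sheaf Z/n from the closed point (existence of an
isomorphism; by injectivity of the cycle class map this is the same as asking that the cycle class
of the closed point be an isomorphism). Then H^q(Spec O[1/f], Z/n) = 0 for every q other than 0, 1,
d - 1, d. -/
theorem result
    {S T : Scheme.{u}} [IsNoetherian S] (hSreg : ∀ s : S, IsRegularLocalRing (S.presheaf.stalk s))
    (hSdim : ∀ s : S, ringKrullDim (S.presheaf.stalk s) ≤ 1)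
    (n : ℕ) (hn0 : 0 < n) (hn : IsUnit (n : Γ(S, ⊤)))
    (g : T ⟶ S) [IsSeparated g] [LocallyOfFiniteType g] [QuasiCompact g] (t : T)
    (O : Type u) [CommRing O] [IsRegularLocalRing O] [Algebra (T.presheaf.stalk t) O]
    [IsLocalHom (algebraMap (T.presheaf.stalk t) O)] [Hensel.IsStrictHenselization (T.presheaf.stalk t) O]
    (d : ℕ) (hd : ringKrullDim O = d)
    (f : O) (hf : f ∈ IsLocalRing.maximalIdeal O) (hf2 : f ∉ IsLocalRing.maximalIdeal O ^ 2)
    (ha : ∀ y : PrimeSpectrum (O ⧸ Ideal.span ({f} : Set O)),
      ∀ (B : Type u) [CommRing B] [IsLocalRing B] [Algebra (Localization.AtPrime y.asIdeal) B]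
        [IsLocalHom (algebraMap (Localization.AtPrime y.asIdeal) B)] [Hensel.IsStrictHenselization (Localization.AtPrime y.asIdeal) B]
        (e : ℕ), ringKrullDim B = e →
        ∀ {W : Scheme.{u}} (k : W ⟶ Spec (CommRingCat.of B)) [IsOpenImmersion k] [EtCoh.BCCont k],
        (∀ w : PrimeSpectrum B, w ∈ Set.range k.base ↔ w ≠ IsLocalRing.closedPoint B) →
        ∀ [EtCoh.BCCont (Spec.map (CommRingCat.ofHom (IsLocalRing.residue B)))],
        (∀ q : ℕ, q ≠ 2 * e → IsZero ((EtDual.locCoh k q).obj (EtCoh.const (Spec (CommRingCat.of B)) (ZMod n)))) ∧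
          Nonempty ((EtDual.locCoh k (2 * e)).obj (EtDual.tate (Spec (CommRingCat.of B)) n e) ≅
            (EtCoh.push (Spec.map (CommRingCat.ofHom (IsLocalRing.residue B)))).obj
              (EtCoh.const (Spec (CommRingCat.of (IsLocalRing.ResidueField B))) (ZMod n))))
    (hb : ∀ y : PrimeSpectrum O, y ≠ IsLocalRing.closedPoint O →
      ∀ (B' : Type u) [CommRing B'] [IsLocalRing B'] [Algebra (Localization.AtPrime y.asIdeal) B']
        [IsLocalHom (algebraMap (Localization.AtPrime y.asIdeal) B')] [Hensel.IsStrictHenselization (Localization.AtPrime y.asIdeal) B']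
        (e : ℕ), ringKrullDim B' = e →
        ∀ {W : Scheme.{u}} (k : W ⟶ Spec (CommRingCat.of B')) [IsOpenImmersion k] [EtCoh.BCCont k],
        (∀ w : PrimeSpectrum B', w ∈ Set.range k.base ↔ w ≠ IsLocalRing.closedPoint B') →
        ∀ [EtCoh.BCCont (Spec.map (CommRingCat.ofHom (IsLocalRing.residue B')))],
        (∀ q : ℕ, q ≠ 2 * e → IsZero ((EtDual.locCoh k q).obj (EtCoh.const (Spec (CommRingCat.of B')) (ZMod n)))) ∧
          Nonempty ((EtDual.locCoh k (2 * e)).obj (EtDual.tate (Spec (CommRingCat.of B')) n e) ≅
            (EtCoh.push (Spec.map (CommRingCat.ofHom (IsLocalRing.residue B')))).obj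
              (EtCoh.const (Spec (CommRingCat.of (IsLocalRing.ResidueField B'))) (ZMod n))))
    (q : ℕ) (hq0 : q ≠ 0) (hq1 : q ≠ 1) (hqd1 : q ≠ d - 1) (hqd : q ≠ d) :
    Subsingleton (EtCoh.H (Spec (CommRingCat.of (Localization.Away f)))
      (EtCoh.const (Spec (CommRingCat.of (Localization.Away f))) (ZMod n)) q) := by
  have hP : ∀ n : ℕ, 0 < n → K3.DivDef.DivPure.{u} n := fun n hn => K690.Purity.divPure n hn
  have hO := K690.PunctRows.isStrictlyHenselian (T.presheaf.stalk t) O
  exact hP n hn0 O hO (K690.PunctRows.isUnit_of n hn g t O) f hf hf2 q (by omega)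

end Groth.Agent.S18143
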