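import Groth.Statements.S18144
import Groth.Agent.EtDual.K338.Assemble

set_option autoImplicit false
universe u
open CategoryTheory CategoryTheory.Limits AlgebraicGeometry Opposite
open EtDual

namespace Groth.Agent.S18144

attribute [-instance] CategoryTheory.catToReflQuiver

/-- Let X be a Noetherian scheme, i : Y → X a closed immersion that is a regular immersion of constant
codimension c with c > 0 (its ideal is locally generated by a regular sequence of length c), b : X'
→ X a blowing up of X in the ideal sheaf of Y, E ⊆ X' the exceptional locus (support of the inverse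
image ideal), j : U → X and j' : U' → X' the open immersions with images X - Y and X' - E, and n ≥ 1
an integer invertible on X. Then the local cohomology group H^{2c}_E(X', Z/n(c)) (right derived
functors of global sections supported off U') is isomorphic as an abelian group to the direct sum of
the groups H^{2k}(Y, Z/n(k)) for 1 ≤ k ≤ c - 1 and of H^{2c}_Y(X, Z/n(c)). (Only the existence of an
additive isomorphism is asserted; the canonical isomorphism sends (γ_1, …, γ_{c-1}, γ) to the sum of
the products γ_k · c_1(O(1))^{c-k} with powers of the localized first Chern class of O(1) = O(-E)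
and of the pull-back of γ.) -/
theorem result {X Y U X' U' : Scheme.{u}} [IsNoetherian X]
    (i : Y ⟶ X) [IsClosedImmersion i] (c : ℕ) (hc : 0 < c)
    (hreg : RegImm.IsRegularImmersionOfCodim RegImm.Kind.regular c i)
    (j : U ⟶ X) [IsOpenImmersion j] [EtCoh.BCCont j] (hij : Set.range j.base = (Set.range i.base)ᶜ)
    (b : X' ⟶ X) (hb : BlowUp.IsBlowUp b i.ker)
    (j' : U' ⟶ X') [IsOpenImmersion j'] [EtCoh.BCCont j']
    (hj' : Set.range j'.base = ((BlowUp.exceptional b i.ker).support : Set X')ᶜ)
    (n : ℕ) (hn0 : 0 < n) (hn : IsUnit (n : Γ(X, ⊤))) :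
    Nonempty ((((k : Fin (c - 1)) → EtCoh.H Y (EtDual.tate Y n ((k : ℕ) + 1)) (2 * ((k : ℕ) + 1))) ×
        ((EtDual.HY j (2 * c)).obj (EtDual.tate X n c))) ≃+
      ((EtDual.HY j' (2 * c)).obj (EtDual.tate X' n c))) := by
  obtain ⟨e₀, rfl⟩ : ∃ e₀, c = e₀ + 1 := ⟨c - 1, by omega⟩
  exact K338.Assemble.main i e₀ hreg j hij b hb j' hj' n hn0.ne' hn

end Groth.Agent.S18144
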