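import Groth.Statements.S18145
import Groth.Agent.EtDual.K690.PunctRows
import Groth.Agent.EtDual.K690.Purity
-- import your own Groth.Agent.* helpers here

set_option autoImplicit false
universe u
open CategoryTheory CategoryTheory.Limits AlgebraicGeometry Opposite
open EtDual

namespace Groth.Agent.S18145

/-- Let S be a Noetherian scheme all of whose local rings are regular of Krull dimension at most one and
n ≥ 1 an integer invertible on S. Let O be a regular local ring of Krull dimension d ≥ 1 that is a
strict henselization of the local ring O_{T,t} of a separated S-scheme T of finite type at a point t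
(so O is of arithmetic type over S), X = Spec O with closed point x, and j : U → X the open
immersion with image X - {x} (the punctured spectrum). Assume X is punctually pure at every point
other than x, meaning, for every strict henselization B of a local ring of O at a non-maximal prime,
with e = dim B: the local cohomology sheaves of Spec B with support in the closed point (right
derived functors of F ↦ ker(F → k_* k^* F), k the open immersion of the punctured spectrum) with
coefficients Z/n vanish in degrees ≠ 2e, and in degree 2e the one with coefficients Z/n(e) is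
isomorphic to the direct image of the constant sheaf Z/n from the closed point (existence of an
isomorphism). Then, for all q, q' with q + q' = 2d - 1, the group H^q(U, Z/n) is isomorphic to the
group of additive maps H^{q'}(U, Z/n) → Z/n. (Only the existence of an additive isomorphism is
asserted. In the original argument the punctual purity assumption makes the renormalized dualizing
complex of X restrict to the constant sheaf on U, and local duality is a perfect pairing H^q(U, K) ×
H^{2d-1-q}(U, D K) → Z/n(-d) for every bounded constructible K, here specialised to K = Z/n.) -/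
theorem result
    {S T : Scheme.{u}} [IsNoetherian S] (hSreg : ∀ s : S, IsRegularLocalRing (S.presheaf.stalk s))
    (hSdim : ∀ s : S, ringKrullDim (S.presheaf.stalk s) ≤ 1)
    (n : ℕ) (hn0 : 0 < n) (hn : IsUnit (n : Γ(S, ⊤)))
    (g : T ⟶ S) [IsSeparated g] [LocallyOfFiniteType g] [QuasiCompact g] (t : T)
    (O : Type u) [CommRing O] [IsRegularLocalRing O] [Algebra (T.presheaf.stalk t) O]
    [IsLocalHom (algebraMap (T.presheaf.stalk t) O)] [Hensel.IsStrictHenselization (T.presheaf.stalk t) O]
    (d : ℕ) (hd : ringKrullDim O = d) (hd1 : 1 ≤ d)
    {U : Scheme.{u}} (j : U ⟶ Spec (CommRingCat.of O)) [IsOpenImmersion j]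
    (hU : ∀ x : PrimeSpectrum O, x ∈ Set.range j.base ↔ x ≠ IsLocalRing.closedPoint O)
    (hb : ∀ y : PrimeSpectrum O, y ≠ IsLocalRing.closedPoint O →
      ∀ (B : Type u) [CommRing B] [IsLocalRing B] [Algebra (Localization.AtPrime y.asIdeal) B]
        [IsLocalHom (algebraMap (Localization.AtPrime y.asIdeal) B)] [Hensel.IsStrictHenselization (Localization.AtPrime y.asIdeal) B]
        (e : ℕ), ringKrullDim B = e →
        ∀ {W : Scheme.{u}} (k : W ⟶ Spec (CommRingCat.of B)) [IsOpenImmersion k] [EtCoh.BCCont k],
        (∀ w : PrimeSpectrum B, w ∈ Set.range k.base ↔ w ≠ IsLocalRing.closedPoint B) →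
        ∀ [EtCoh.BCCont (Spec.map (CommRingCat.ofHom (IsLocalRing.residue B)))],
        (∀ q : ℕ, q ≠ 2 * e → IsZero ((EtDual.locCoh k q).obj (EtCoh.const (Spec (CommRingCat.of B)) (ZMod n)))) ∧
          Nonempty ((EtDual.locCoh k (2 * e)).obj (EtDual.tate (Spec (CommRingCat.of B)) n e) ≅
            (EtCoh.push (Spec.map (CommRingCat.ofHom (IsLocalRing.residue B)))).obj
              (EtCoh.const (Spec (CommRingCat.of (IsLocalRing.ResidueField B))) (ZMod n))))
    (q q' : ℕ) (hq : q + q' = 2 * d - 1) :
    Nonempty (EtCoh.H U (EtCoh.const U (ZMod n)) q ≃+ (EtCoh.H U (EtCoh.const U (ZMod n)) q' →+ ZMod n)) := by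
  have hP : ∀ n : ℕ, 0 < n → K3.DivDef.DivPure.{u} n := fun n hn => K690.Purity.divPure n hn
  have hO := K690.PunctRows.isStrictlyHenselian (T.presheaf.stalk t) O
  exact K690.PunctRows.duality O hO hP hd hd1 j hU n hn0 (K690.PunctRows.isUnit_of n hn g t O) q q' hq

end Groth.Agent.S18145
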