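import Groth.Statements.S18146
import Groth.Agent.CAlg.K93.PopStrict
import Groth.Agent.Etdl.H438.PowStrict
import Groth.Agent.S0595
import Groth.Agent.S0598
import Groth.Agent.S2704

set_option autoImplicit false
universe u
open CAlg

namespace Groth.Agent.S18146

open Groth.Agent.Proet in
/-- A regular homomorphism of Noetherian rings is ind-smooth. -/
theorem indSmooth {A B : Type u} [CommRing A] [CommRing B] [Algebra A B]
    [IsNoetherianRing A] [IsNoetherianRing B] (h : CAlg.IsRegularHom A B) :
    IndAlg (fun R S => Algebra.Smooth R S) A B := by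
  rw [IndAlg.indAlg_iff_factor]
  · intro Z _ _ hZ g
    obtain ⟨W, _, _, hW, u, v, huv⟩ := Groth.Agent.S0595.result A B h Z g
    exact ⟨W, inferInstance, inferInstance, u, v, hW, huv⟩
  · intro R S _ _ _ h
    exact inferInstance

/-- Let C be a complete discrete valuation ring whose maximal ideal is generated by a prime number p and
whose residue field k is separably closed (a Cohen ring for k, as arises as coefficient ring of a
strictly henselian complete regular local ring of mixed characteristic), and let m ≥ 0. Then there
is a directed system (S_j) of local C-algebras with local C-algebra transition maps whose colimit is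
C-isomorphic to the power series ring C[[X_1, …, X_m]] (given here by compatible C-algebra maps ψ_j
: S_j → C[[X_1, …, X_m]] that are jointly surjective and such that an element mapping to zero maps
to zero at some later stage), and each S_j is, compatibly with the C-algebra structures, a strict
henselization of the localization of a polynomial ring C[Y_1, …, Y_N] (N depending on j) at the
maximal ideal (p, Y_1, …, Y_N). -/
theorem result (C : Type u) [CommRing C] [IsDomain C]
    [IsDiscreteValuationRing C] [IsAdicComplete (IsLocalRing.maximalIdeal C) C]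
    (p : ℕ) (hp : p.Prime) (hpC : IsLocalRing.maximalIdeal C = Ideal.span ({(p : C)} : Set C))
    (hk : IsSepClosed (IsLocalRing.ResidueField C)) (m : ℕ) :
    ∃ (ι : Type u) (_ : Preorder ι) (_ : Nonempty ι) (_ : IsDirected ι (· ≤ ·))
      (S : ι → Type u) (_ : ∀ j, CommRing (S j)) (_ : ∀ j, IsLocalRing (S j)) (_ : ∀ j, Algebra C (S j))
      (φ : ∀ i j, i ≤ j → (S i →ₐ[C] S j)) (ψ : ∀ j, S j →ₐ[C] MvPowerSeries (Fin m) C),
      (∀ i j (h : i ≤ j), IsLocalHom (φ i j h)) ∧
      (∀ i j l (hij : i ≤ j) (hjl : j ≤ l), (φ j l hjl).comp (φ i j hij) = φ i l (le_trans hij hjl)) ∧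
      (∀ i j (h : i ≤ j), (ψ j).comp (φ i j h) = ψ i) ∧
      (∀ a : MvPowerSeries (Fin m) C, ∃ j, ∃ x : S j, ψ j x = a) ∧
      (∀ j (x : S j), ψ j x = 0 → ∃ l, ∃ h : j ≤ l, φ j l h x = 0) ∧
      (∀ j, ∃ (N : ℕ) (_ : Algebra (Localization.AtPrime ((IsLocalRing.maximalIdeal C).comap (MvPolynomial.constantCoeff : MvPolynomial (Fin N) C →+* C))) (S j))
          (_ : IsLocalHom (algebraMap (Localization.AtPrime ((IsLocalRing.maximalIdeal C).comap (MvPolynomial.constantCoeff : MvPolynomial (Fin N) C →+* C))) (S j))),
          IsScalarTower C (Localization.AtPrime ((IsLocalRing.maximalIdeal C).comap (MvPolynomial.constantCoeff : MvPolynomial (Fin N) C →+* C))) (S j) ∧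
          Hensel.IsStrictHenselization (Localization.AtPrime ((IsLocalRing.maximalIdeal C).comap (MvPolynomial.constantCoeff : MvPolynomial (Fin N) C →+* C))) (S j)) := by
  have hens : HenselianLocalRing (MvPowerSeries (Fin m) C) :=
    Groth.Agent.Etdl.H438.PowStrict.henselian C m
  have hloc : IsLocalHom (algebraMap C (MvPowerSeries (Fin m) C)) :=
    Groth.Agent.Etdl.H438.PowStrict.isLocalHom_algebraMap C m
  have hreg : CAlg.IsRegularHom C (MvPowerSeries (Fin m) C) :=
    Groth.Agent.S2704.result C (Groth.Agent.S0598.result C) m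
  refine K93.PopStrict.main C (MvPowerSeries (Fin m) C) hk (fun a => ?_) (indSmooth hreg)
  refine ⟨MvPowerSeries.constantCoeff a, ?_⟩
  rw [IsLocalRing.mem_maximalIdeal, mem_nonunits_iff, MvPowerSeries.isUnit_iff_constantCoeff,
    map_sub, Groth.Agent.Etdl.H438.PowStrict.constantCoeff_algebraMap, sub_self]
  exact not_isUnit_zero

end Groth.Agent.S18146
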