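import Groth.Statements.S18147
import Groth.Agent.DelIll.K905.Band
import Groth.Agent.CurvesA.HHMap
import Groth.Agent.Sga67.TensorOps

set_option autoImplicit false
universe u
open CategoryTheory CategoryTheory.Limits AlgebraicGeometry TopologicalSpace
open DelIll

namespace Groth.Agent.S18147

/-- Let p be a prime, k a perfect field of characteristic p, and X a smooth proper k-scheme admitting a
lifting to the Witt vectors of length two, given as a flat g : X~ → Spec W_2(k) and a morphism i : X
→ X~ making X the base change of X~ along Spec k → Spec W_2(k). Let (Ω', d) be a universal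
receptacle for the differentials of X over k, fix for each a an a-th exterior power Ω^a of Ω', and
assume the Hodge cohomology vanishes off the band of width p around the diagonal: H^b(X, Ω^a) = 0
whenever |a − b| ≥ p. Then for every de Rham complex K of X over k on this receptacle the spectral
sequence of the stupid filtration of K on hypercohomology over X (E_1^{ab} = H^b(X, Ω^a), abutting
to H^{a+b}(X, K)) degenerates at the first page, in the form: for all c, i the map H^c(X, σ_{≥ i+1}
K) → H^c(X, σ_{≥ i} K) on hypercohomology is injective and H^c(X, σ_{≥ i} K) → H^c(X, K^i in degree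
i) is surjective. (The first assertion of the source, degeneration of the conjugate spectral
sequence for X not necessarily proper, is not stated here.) -/
theorem result (p : ℕ) [Fact p.Prime]
    (k : Type u) [Field k] [CharP k p] [PerfectRing k p]
    (X : Scheme.{u}) [X.Over (Spec (CommRingCat.of k))] [IsProper (X ↘ Spec (CommRingCat.of k))]
    [Smooth (X ↘ Spec (CommRingCat.of k))]
    (Xl : Scheme.{u}) (g : Xl ⟶ Spec (CommRingCat.of (FrobAlg.W2 p k))) [Flat g] (i : X ⟶ Xl)
    (hlift : IsPullback i (X ↘ Spec (CommRingCat.of k)) g (Spec.map (CommRingCat.ofHom (FrobAlg.res p k))))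
    {Ω' : X.Modules} (d : OmegaSh.Der (X ↘ Spec (CommRingCat.of k)) Ω') (hd : OmegaSh.IsUniversal d)
    (Om : ℕ → X.Modules) (hOm : ∀ a, ExtPow.IsExtPow a Ω' (Om a))
    (hvan : ∀ a b : ℕ, (p : ℤ) ≤ |(a : ℤ) - (b : ℤ)| → Subsingleton (Coh.HH X (Om a) b))
    (D : DeRhamSh.Cx (X ↘ Spec (CommRingCat.of k)) Ω' d)
    [HasDerivedCategory.{u} (Sheaf (Opens.grothendieckTopology ↥X) AddCommGrpCat.{u})] :
    E1Deg.HyperDegenerates D.KZ (⊤ : X.Opens) := by
  refine K905.Band.main p k X Xl g i hlift d hd D (fun a b hab => ?_)
  obtain ⟨e⟩ := Groth.Agent.Sga67.TensorOps.nonempty_iso_of_isExtPow (Iso.refl _) (D.isExtPow a) (hOm a)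
  have := hvan a b hab
  exact (Groth.Agent.CurvesA.HHMap.equivOver k e b).toEquiv.subsingleton

end Groth.Agent.S18147
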