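import Groth.Statements.S18148
import Groth.Agent.DelIll.K905.GeoCov

set_option autoImplicit false
universe u
open CategoryTheory CategoryTheory.Limits AlgebraicGeometry TopologicalSpace
open DelIll

namespace Groth.Agent.S18148

/-- Let p be a prime, k a perfect field of characteristic p, and X a smooth k-scheme admitting a lifting
to the Witt vectors of length two, given as a flat g : X~ → Spec W_2(k) and a morphism i : X → X~
making X the base change of X~ along Spec k → Spec W_2(k). Let (Ω', d) be a universal receptacle for
the differentials of X over k and K a de Rham complex of X over k on it, a complex of abelian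
sheaves on X. Then for integers a ≤ b with b < a + p − 1 the truncation τ_{≥a} τ_{≤b} K (canonical
truncations of the derived category of abelian sheaves on X) is decomposable: it is isomorphic in
that derived category to the direct sum over a ≤ j ≤ b of the cohomology sheaf H^j(K) placed in
degree j (existence of an isomorphism; decomposability asks no more). (The source states
decomposability in the derived category of modules over the Frobenius twist, for the Frobenius
push-forward of the de Rham complex; the form here, for the complex of abelian sheaves on X itself,
follows from it because the relative Frobenius is a homeomorphism and forgetting the module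
structure preserves truncations, cohomology sheaves and direct sums. For p = 2 the source's
assertion concerns two-term truncations and is covered by the separate statement on τ_{≥q−1}
τ_{≤q}.) -/
theorem result (p : ℕ) [Fact p.Prime]
    (k : Type u) [Field k] [CharP k p] [PerfectRing k p]
    (X : Scheme.{u}) [X.Over (Spec (CommRingCat.of k))] [Smooth (X ↘ Spec (CommRingCat.of k))]
    (Xl : Scheme.{u}) (g : Xl ⟶ Spec (CommRingCat.of (FrobAlg.W2 p k))) [Flat g] (i : X ⟶ Xl)
    (hlift : IsPullback i (X ↘ Spec (CommRingCat.of k)) g (Spec.map (CommRingCat.ofHom (FrobAlg.res p k))))
    {Ω' : X.Modules} (d : OmegaSh.Der (X ↘ Spec (CommRingCat.of k)) Ω') (hd : OmegaSh.IsUniversal d)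
    (D : DeRhamSh.Cx (X ↘ Spec (CommRingCat.of k)) Ω' d)
    [HasDerivedCategory.{u} (Sheaf (Opens.grothendieckTopology ↥X) AddCommGrpCat.{u})]
    (a b : ℤ) (hab : a ≤ b) (hb : b + 2 ≤ a + p) :
    Nonempty ((DerivedCategory.TStructure.t.truncGELE a b).obj (DerivedCategory.Q.obj D.KZ) ≅
      ⨁ (fun j : Finset.Icc a b =>
        (DerivedCategory.singleFunctor (Sheaf (Opens.grothendieckTopology ↥X) AddCommGrpCat.{u}) j.1).obj
          (D.KZ.homology j.1))) := by
  exact K905.GeoMain.decomp D (K905.GeoUp.isOpenEmbedding hlift) (K905.GeoCov.natCast_eq_zero p k X)
    (K905.GeoCov.exists_isCh hlift hd _ _) a b (Or.inl hb)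

end Groth.Agent.S18148
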