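import Groth.Statements.S18149
import Groth.Agent.DelIll.K224.TwoD

set_option autoImplicit false
universe u
open CategoryTheory CategoryTheory.Limits AlgebraicGeometry TopologicalSpace
open DelIll

namespace Groth.Agent.S18149

/-- Let p be a prime and S a scheme of characteristic p that is the reduction modulo p of a flat
Z/p²-scheme S~ (a cartesian square of S → S~ over Spec Z/p → Spec Z/p² with S~ flat over Z/p²). Let
f : X → S be smooth, separated and quasi-compact, and suppose the Frobenius twist X' = X ×_{S, F_S}
S of X admits a lifting over S~: a smooth X~ → S~ and a morphism X' → X~ making X' the base change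
of X~ along S → S~. Let (Ω', d) be a universal receptacle for the differentials of X over S and K a
de Rham complex of X over S on it, a complex of abelian sheaves on X. Then for every integer q the
two-term truncation τ_{≥q−1} τ_{≤q} K (canonical truncations of the derived category of abelian
sheaves on X) is decomposable: it is isomorphic in that derived category to the direct sum of the
cohomology sheaf H^{q−1}(K) placed in degree q − 1 and H^q(K) placed in degree q (existence of an
isomorphism; decomposability asks no more). (The source states decomposability in the derived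
category of modules over the Frobenius twist, for the push-forward of the de Rham complex along the
relative Frobenius; the form here, for the complex of abelian sheaves on X itself, follows from it
because the relative Frobenius is a homeomorphism and forgetting the module structure preserves
truncations, cohomology sheaves and direct sums.) -/
theorem result (p : ℕ) [Fact p.Prime]
    (S : Scheme.{u}) [FrobSch.IsCharP S p]
    (St : Scheme.{u}) (gS : St ⟶ Spec (CommRingCat.of (ULift.{u} (ZMod (p ^ 2))))) [Flat gS]
    (iS : S ⟶ St) (sS : S ⟶ Spec (CommRingCat.of (ULift.{u} (ZMod p))))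
    (hS : IsPullback iS sS gS (Spec.map (CommRingCat.ofHom
      (ULift.ringEquiv.symm.toRingHom.comp ((ZMod.castHom (dvd_pow_self p two_ne_zero) (ZMod p)).comp
        ULift.ringEquiv.toRingHom)))))
    {X : Scheme.{u}} (f : X ⟶ S) [Smooth f] [IsSeparated f] [QuasiCompact f]
    (Xt : Scheme.{u}) (gt : Xt ⟶ St) [Smooth gt] (iX : FrobSch.frobTwist f p ⟶ Xt)
    (hX : IsPullback iX (pullback.snd f (FrobSch.frob S p)) gt iS)
    {Ω' : X.Modules} (d : OmegaSh.Der f Ω') (hd : OmegaSh.IsUniversal d)
    (D : DeRhamSh.Cx f Ω' d)
    [HasDerivedCategory.{u} (Sheaf (Opens.grothendieckTopology ↥X) AddCommGrpCat.{u})]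
    (q : ℤ) :
    Nonempty ((DerivedCategory.TStructure.t.truncGELE (q - 1) q).obj (DerivedCategory.Q.obj D.KZ) ≅
      (DerivedCategory.singleFunctor (Sheaf (Opens.grothendieckTopology ↥X) AddCommGrpCat.{u}) (q - 1)).obj
          (D.KZ.homology (q - 1)) ⊞
        (DerivedCategory.singleFunctor (Sheaf (Opens.grothendieckTopology ↥X) AddCommGrpCat.{u}) q).obj
          (D.KZ.homology q)) := by
  have : FrobSch.IsCharP X p := FrobSch.IsCharP.of_hom f p
  have H : K224.RelGD.IsGeo p f (pullback.fst f (FrobSch.frob S p)) (pullback.snd f (FrobSch.frob S p))
      (FrobSch.relFrob f p) iX gt iS := K224.RelThm.isGeo (K224.RelBase.isLft_φ₀ p) hS hX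
  exact K224.TwoD.decomp D H
    (fun U x hx => K224.RelCov.exists_isCh H (K224.RelBase.isLft_φ₀ p) hS hX hd U x hx) q

end Groth.Agent.S18149
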