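import Groth.Statements.S18150
import Groth.Agent.S0051
import Groth.Agent.S2122
import Groth.Agent.Models.TrivGeom
import Groth.Agent.Flat2B.SmoothGeom
import Groth.Agent.Picfga.CurveRelDim
import Groth.Agent.Krr.H495.ExtExist
import Groth.Agent.Dual.H339.OmegaRank
import Groth.Agent.PerfA.CohSerre
import Groth.Agent.Surf.K461.SerreDual
import Groth.Agent.FrobSch.K865.FrobIterLine

set_option autoImplicit false
universe u
open CategoryTheory AlgebraicGeometry Opposite TopologicalSpace
open FrobSch

namespace Groth.Agent.S18150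

/-- Let p be a prime, k a perfect field of characteristic p, and X an irreducible smooth proper k-scheme
of dimension n. Let φ be the p-th power map on the sheaf of additive groups underlying O_X and
suppose X is Frobenius split: φ admits a retraction s, an additive endomorphism of O_X with s ∘ φ
the identity and s(a^p·b) = a·s(b) on every open. Then Kodaira vanishing holds on X: for every ample
invertible module L with tensor inverse L⁻¹ and every i < n, the cohomology group H^i(X, L⁻¹)
vanishes. (The source allows X Gorenstein projective; X is taken smooth, proper with an ample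
invertible module, and irreducible so that n is the dimension of every component.) -/
theorem result (p : ℕ) [Fact p.Prime]
    (k : Type u) [Field k] [CharP k p] [PerfectRing k p]
    (X : Scheme.{u}) [X.Over (Spec (CommRingCat.of k))] [IsProper (X ↘ Spec (CommRingCat.of k))]
    [Smooth (X ↘ Spec (CommRingCat.of k))] [IrreducibleSpace X] (n : ℕ) (hn : topologicalKrullDim X = n)
    (φ : Coh.toAb (Coh.structureModule X) ⟶ Coh.toAb (Coh.structureModule X))
    (hφ : ∀ (U : X.Opens) (t : Γ(X, U)), φ.hom.app (op U) t = t ^ p)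
    (s : Coh.toAb (Coh.structureModule X) ⟶ Coh.toAb (Coh.structureModule X))
    (hs : φ ≫ s = 𝟙 _)
    (hlin : ∀ (U : X.Opens) (a b : Γ(X, U)),
      s.hom.app (op U) (a ^ p * b) = a * @id Γ(X, U) (s.hom.app (op U) b))
    (L Linv : X.Modules) (hL : CohB1.IsAmple L) (hLinv : ClSub.IsInverseOf Linv L)
    (i : ℕ) (hi : i < n) :
    Subsingleton (Coh.HH X Linv i) := by
  have hLi : PicF.IsInvertible Linv := by
    obtain ⟨e⟩ := hLinv
    exact Groth.Agent.S2122.result Linv L e
  have hred : IsReduced X :=
    Groth.Agent.Flat2B.SmoothGeom.isReduced_of_smooth (X ↘ Spec (CommRingCat.of k))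
  have hint : IsIntegral X := isIntegral_of_irreducibleSpace_of_isReduced X
  have hsm : SmoothOfRelativeDimension n (X ↘ Spec (CommRingCat.of k)) :=
    Groth.Agent.Picfga.CurveRelDim.smoothOfRelativeDimension_of_topologicalKrullDim_eq k X _ n hn
  have hΩ : FlatMod.IsFinLocFree (Omega.sheaf (X ↘ Spec (CommRingCat.of k))) := fun x => by
    obtain ⟨U, hU, he⟩ := Groth.Agent.Dual.H339.OmegaRank.isFinLocFreeOfRank_omega n
      (X ↘ Spec (CommRingCat.of k)) x
    exact ⟨U, n, hU, he⟩
  obtain ⟨W, hWf, hW⟩ := Groth.Agent.Krr.H495.ExtExist.exists_isExtPow n _ hΩ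
  have hWc : Coh.IsCoh W := Groth.Agent.PerfA.CohSerre.isCoh_of_isFinLocFree hWf
  obtain ⟨n₀, hn₀⟩ := (Groth.Agent.S0051.result k X (X ↘ Spec (CommRingCat.of k)) L hL.1).1 hL W hWc
  have hp : 2 ≤ p := (Fact.out : p.Prime).two_le
  have hpe : n₀ ≤ p ^ n₀ := (Nat.lt_pow_self hp).le
  have hvan := hn₀ (p ^ n₀) hpe (n - i) (by omega)
  refine K865.FrobLine.subsingleton_of_iterPow φ s hφ hs hlin hLi i n₀ ?_
  obtain ⟨D⟩ := K461.SerreDual.nonempty_dual_equiv k n hW
    (K865.FrobLine.inverse_iterPow (p := p) hLinv n₀)
    (Groth.Agent.Models.TrivGeom.isCoh_of_isInvertible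
      (K865.FrobLine.isInvertible_iterPow hLi n₀)).1 (n - i) i (by omega)
  have hsub : Subsingleton (Module.Dual k (Coh.HH X (K865.FrobLine.iterPow Linv p n₀) i)) :=
    D.toEquiv.subsingleton
  exact (Module.subsingleton_dual_iff k).1 hsub

end Groth.Agent.S18150
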