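import Groth.Statements.S18152
import Groth.Agent.DelIll.K173.Final

set_option autoImplicit false
universe u
open CategoryTheory CategoryTheory.Limits AlgebraicGeometry Opposite TopologicalSpace
open DelIll

namespace Groth.Agent.S18152

/-- With the decomposition of the truncated de Rham complex that the source quotes from the literature
carried here as a hypothesis, let p be a prime, k a perfect field of characteristic p, and X an
irreducible smooth proper k-scheme of dimension p + 1 carrying an ample invertible module (X
projective). Let φ be the p-th power map on the sheaf of additive groups underlying O_X and suppose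
X is Frobenius split: φ admits a retraction s, an additive endomorphism of O_X with s ∘ φ the
identity and s(a^p·b) = a·s(b) on every open. Let (Ω', d) be a universal receptacle for the
differentials of X over k and K a de Rham complex of X over k on it, and assume that for every
integer q the truncation τ_{≥q−p+1} τ_{≤q} K is decomposable in the derived category of abelian
sheaves on X, that is, isomorphic there to the direct sum over q−p+1 ≤ j ≤ q of the cohomology sheaf
H^j(K) placed in degree j. Then the spectral sequence of the stupid filtration of K on
hypercohomology over X (E_1^{ab} = H^b(X, K^a), abutting to H^{a+b}(X, K)) degenerates at the first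
page, in the form: for all c, i the map H^c(X, σ_{≥ i+1} K) → H^c(X, σ_{≥ i} K) on hypercohomology
is injective and H^c(X, σ_{≥ i} K) → H^c(X, K^i in degree i) is surjective. (In the source the
decomposability is not a hypothesis: it is quoted from the literature for X liftable to W_2(k), and
every Frobenius split X is so liftable; there it is a statement in the derived category of modules
over the Frobenius twist, and the argument uses it only through the vanishing of the differentials
d_r, 2 ≤ r ≤ p, of the conjugate spectral sequence on hypercohomology, which the decomposability of
abelian sheaves assumed here already gives. The source does not ask X irreducible; its argument uses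
duality in dimension p + 1 on every component.) -/
theorem result
    (p : ℕ) [Fact p.Prime] (k : Type u) [Field k] [CharP k p] [PerfectRing k p]
    (X : Scheme.{u}) [X.Over (Spec (CommRingCat.of k))] [IsProper (X ↘ Spec (CommRingCat.of k))]
    [Smooth (X ↘ Spec (CommRingCat.of k))] [IrreducibleSpace X] (hdim : topologicalKrullDim X = (p + 1 : ℕ))
    (H : X.Modules) (hH : CohB1.IsAmple H)
    (φ : Coh.toAb (Coh.structureModule X) ⟶ Coh.toAb (Coh.structureModule X))
    (hφ : ∀ (U : X.Opens) (t : Γ(X, U)), φ.hom.app (op U) t = t ^ p)
    (s : Coh.toAb (Coh.structureModule X) ⟶ Coh.toAb (Coh.structureModule X))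
    (hs : φ ≫ s = 𝟙 _)
    (hlin : ∀ (U : X.Opens) (a b : Γ(X, U)),
      s.hom.app (op U) (a ^ p * b) = a * @id Γ(X, U) (s.hom.app (op U) b))
    {Ω' : X.Modules} (d : OmegaSh.Der (X ↘ Spec (CommRingCat.of k)) Ω') (hd : OmegaSh.IsUniversal d)
    (D : DeRhamSh.Cx (X ↘ Spec (CommRingCat.of k)) Ω' d)
    [HasDerivedCategory.{u} (Sheaf (Opens.grothendieckTopology ↥X) AddCommGrpCat.{u})]
    (hdec : ∀ q : ℤ, Nonempty ((DerivedCategory.TStructure.t.truncGELE (q + 1 - p) q).obj (DerivedCategory.Q.obj D.KZ) ≅
      ⨁ (fun j : Finset.Icc (q + 1 - p) q =>
        (DerivedCategory.singleFunctor (Sheaf (Opens.grothendieckTopology ↥X) AddCommGrpCat.{u}) j.1).obj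
          (D.KZ.homology j.1)))) :
    E1Deg.HyperDegenerates D.KZ (⊤ : X.Opens) := by
  exact K173.Final.main p k X hdim φ hφ s hs hlin d hd D hdec

end Groth.Agent.S18152
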