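import Groth.Statements.S18153
import Mathlib.LinearAlgebra.Matrix.Determinant.Basic
import Mathlib.LinearAlgebra.Matrix.ToLin
import Mathlib.LinearAlgebra.Multilinear.Basis
import Mathlib.RingTheory.MvPolynomial.Basic

set_option autoImplicit false
universe u w
open FrobAlg

namespace Groth.Agent.S18153

open MvPolynomial

/-- A square matrix over a ring of characteristic `p` whose columns sum up to `0` has determinant zero. -/
theorem det_eq_zero_of_sum_row_eq_zero {R : Type u} [CommRing R] {m : ℕ} (hm : 0 < m)
    (M : Matrix (Fin m) (Fin m) R) (h : ∀ j, ∑ i, M i j = 0) : M.det = 0 := by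
  have h1 := Matrix.det_updateRow_sum M ⟨0, hm⟩ (fun _ => 1)
  rw [one_smul] at h1
  rw [← h1]
  apply Matrix.det_eq_zero_of_row_eq_zero ⟨0, hm⟩
  intro j
  rw [Matrix.updateRow_self, Finset.sum_apply]
  simpa using h j

/-- The case of monomials. -/
theorem monomial_case (p : ℕ) [Fact p.Prime] (R : Type u) [CommRing R] [CharP R p]
    {m : ℕ} (hm : 0 < m) (σ : Type w) (v : Fin m → (Fin m ⊕ σ →₀ ℕ)) :
    MvPolynomial.coeff
        (Finsupp.sumElim (Finsupp.equivFunOnFinite.symm fun _ : Fin m => p - 1) (0 : σ →₀ ℕ))
        (Matrix.of fun i j : Fin m =>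
          MvPolynomial.pderiv (Sum.inl j) (MvPolynomial.monomial (v i) (1 : R))).det = 0 := by
  classical
  set E : Fin m ⊕ σ →₀ ℕ :=
    Finsupp.sumElim (Finsupp.equivFunOnFinite.symm fun _ : Fin m => p - 1) (0 : σ →₀ ℕ) with hE
  set D := (Matrix.of fun i j : Fin m =>
          MvPolynomial.pderiv (Sum.inl j) (MvPolynomial.monomial (v i) (1 : R))).det with hD
  set e : Fin m ⊕ σ →₀ ℕ := ∑ j : Fin m, Finsupp.single (Sum.inl j) 1 with he
  have hX : (∏ j : Fin m, (MvPolynomial.X (Sum.inl j : Fin m ⊕ σ) : MvPolynomial (Fin m ⊕ σ) R)) =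
      MvPolynomial.monomial e 1 := by
    rw [he, MvPolynomial.monomial_sum_one]
    rfl
  have h1 : MvPolynomial.monomial e (1 : R) * D =
      MvPolynomial.monomial (∑ i, v i)
        (Matrix.of fun i j : Fin m => ((v i (Sum.inl j) : ℕ) : R)).det := by
    rw [← hX, hD, ← Matrix.det_mul_row]
    have h2 : (Matrix.of fun i j : Fin m => MvPolynomial.X (Sum.inl j : Fin m ⊕ σ) *
        (Matrix.of fun i j : Fin m =>
          MvPolynomial.pderiv (Sum.inl j) (MvPolynomial.monomial (v i) (1 : R))) i j) =
        Matrix.of fun i j : Fin m => MvPolynomial.monomial (v i) (1 : R) *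
          ((MvPolynomial.C : R →+* MvPolynomial (Fin m ⊕ σ) R).mapMatrix
            (Matrix.of fun i j : Fin m => ((v i (Sum.inl j) : ℕ) : R))) i j := by
      ext1 i j
      simp only [Matrix.of_apply, RingHom.mapMatrix_apply, Matrix.map_apply]
      rw [MvPolynomial.X_mul_pderiv_monomial, nsmul_eq_mul, mul_comm, map_natCast]
    rw [h2]
    change (Matrix.of fun i j : Fin m => (fun i => MvPolynomial.monomial (v i) (1 : R)) i *
          ((MvPolynomial.C : R →+* MvPolynomial (Fin m ⊕ σ) R).mapMatrix
            (Matrix.of fun i j : Fin m => ((v i (Sum.inl j) : ℕ) : R))) i j).det = _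
    rw [Matrix.det_mul_column, ← RingHom.map_det, ← MvPolynomial.monomial_sum_one, mul_comm,
      MvPolynomial.C_mul_monomial, mul_one]
  have h3 : MvPolynomial.coeff E D = MvPolynomial.coeff (e + E) (MvPolynomial.monomial e (1 : R) * D) := by
    rw [MvPolynomial.coeff_monomial_mul, one_mul]
  rw [h3, h1, MvPolynomial.coeff_monomial]
  split_ifs with h
  · apply det_eq_zero_of_sum_row_eq_zero hm
    intro j
    have h4 : (∑ i, v i) (Sum.inl j) = p := by
      rw [h, Finsupp.add_apply, he, hE, Finsupp.finsetSum_apply]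
      simp only [Finsupp.single_apply, Sum.inl.injEq, Finsupp.sumElim_inl,
        Finsupp.equivFunOnFinite_symm_apply_apply, Finset.sum_ite_eq', Finset.mem_univ, if_true]
      have := (Fact.out : p.Prime).pos
      omega
    rw [Finsupp.finsetSum_apply] at h4
    simp only [Matrix.of_apply]
    rw [← Nat.cast_sum, h4, CharP.cast_eq_zero]
  · rfl

/-- Let R be a commutative ring of prime characteristic p and f_1, …, f_m (m ≥ 1) polynomials over R in
the variables t_1, …, t_m and a further, possibly empty, family of variables s_a. Then in the m × m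
Jacobian determinant det(∂f_i/∂t_j) with respect to the t-variables, the coefficient of the monomial
t_1^{p-1} ⋯ t_m^{p-1} (all s-exponents zero) vanishes. (In the source this is the claim, for formal
power series in n ≥ m variables over the base field, to which the proof of the proposition reduces;
the coefficient in question only involves truncations of the f_i, so the polynomial form over any
ring of characteristic p is the same assertion.) -/
theorem result
    (p : ℕ) [Fact p.Prime] (R : Type u) [CommRing R] [CharP R p]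
    {m : ℕ} (hm : 0 < m) (σ : Type w) (f : Fin m → MvPolynomial (Fin m ⊕ σ) R) :
    MvPolynomial.coeff
        (Finsupp.sumElim (Finsupp.equivFunOnFinite.symm fun _ : Fin m => p - 1) (0 : σ →₀ ℕ))
        (Matrix.of fun i j : Fin m => MvPolynomial.pderiv (Sum.inl j) (f i)).det = 0 := by
  classical
  -- the functional, as a multilinear map in `f`
  let L : MvPolynomial (Fin m ⊕ σ) R →ₗ[R] (Fin m → MvPolynomial (Fin m ⊕ σ) R) :=
    LinearMap.pi fun j => (MvPolynomial.pderiv (R := R) (Sum.inl j : Fin m ⊕ σ)).toLinearMap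
  let D : MultilinearMap R (fun _ : Fin m => (Fin m → MvPolynomial (Fin m ⊕ σ) R))
      (MvPolynomial (Fin m ⊕ σ) R) :=
    (Matrix.detRowAlternating (n := Fin m) (R := MvPolynomial (Fin m ⊕ σ) R)).toMultilinearMap.restrictScalars R
  let Φ : MultilinearMap R (fun _ : Fin m => MvPolynomial (Fin m ⊕ σ) R) R :=
    (MvPolynomial.lcoeff R
      (Finsupp.sumElim (Finsupp.equivFunOnFinite.symm fun _ : Fin m => p - 1) (0 : σ →₀ ℕ))).compMultilinearMap
      (D.compLinearMap fun _ => L)
  have hΦ : Φ = 0 := by
    refine Module.Basis.ext_multilinear (fun _ => MvPolynomial.basisMonomials (Fin m ⊕ σ) R) fun v => ?_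
    exact monomial_case p R hm σ fun i => v i
  exact congrArg (fun Ψ : MultilinearMap R (fun _ : Fin m => MvPolynomial (Fin m ⊕ σ) R) R => Ψ f) hΦ

end Groth.Agent.S18153
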