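import Groth.Statements.S18159
import Groth.Agent.Lift.K724.CurveMap
import Groth.Agent.Lift.K724.RatMap

set_option autoImplicit false
universe u
open CategoryTheory CategoryTheory.Limits AlgebraicGeometry TopologicalSpace
open Lift

namespace Groth.Agent.S18159

/-- Let k be an algebraically closed field of characteristic p and X a smooth, proper, integral k-scheme
of dimension d whose canonical module ω, a d-th exterior power of Ω_{X/k}, is torsion: ω^{⊗m} ≅ O_X
for some m ≥ 1. Suppose given a scheme X~ flat over Spec W_2(k), a morphism i : X → X~ making X the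
base change of X~ along Spec k → Spec W_2(k) (the residue map), and an endomorphism F~ of X~ with i
∘ F_X = F~ ∘ i, F_X the absolute Frobenius. Then X contains no rational curves: every k-morphism
from the projective line over k to X factors through a k-rational point of X. (In the source X is a
surface; its argument is independent of the dimension, which is left free here. The source's
companion assertions — that the map F_X^*Ω_{X/k} → Ω_{X/k} attached to the lifting is an
isomorphism, and that Ω_{X/k} becomes trivial on a finite étale cover — are not stated here.) -/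
theorem result
    (p : ℕ) [Fact p.Prime] (k : Type u) [Field k] [IsAlgClosed k] [CharP k p]
    (X : Scheme.{u}) (f : X ⟶ Spec (CommRingCat.of k)) [IsProper f] [Smooth f]
    [AlgebraicGeometry.IsIntegral X] [FrobSch.IsCharP X p]
    (d : ℕ) (hd : topologicalKrullDim X = d)
    (W : X.Modules) (hW : ExtPow.IsExtPow d (Omega.sheaf f) W)
    (m : ℕ) (hm : 0 < m) (htors : Nonempty (CohB1.tensorPow W m ≅ Coh.structureModule X))
    (Xl : Scheme.{u}) (g : Xl ⟶ Spec (CommRingCat.of (FrobAlg.W2 p k))) [Flat g]
    (i : X ⟶ Xl) (hsq : IsPullback i f g (Spec.map (CommRingCat.ofHom (FrobAlg.res p k))))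
    (Fl : Xl ⟶ Xl) (hF : i ≫ Fl = FrobSch.frob X p ≫ i)
    (u : CohB1.ProjSpace 1 k ⟶ X) (hu : u ≫ f = CohB1.ProjSpace.toSpec 1 k) :
    ∃ x : Spec (CommRingCat.of k) ⟶ X, x ≫ f = 𝟙 _ ∧ u = CohB1.ProjSpace.toSpec 1 k ≫ x := by
  have hsm := Groth.Agent.Picfga.CurveRelDim.smoothOfRelativeDimension_of_topologicalKrullDim_eq k X f d hd
  have hWi : PicF.IsInvertible W := K455.Canon.isInvertible f d hW
  obtain ⟨φ, hφ⟩ := Groth.Agent.Sga67.ExtSheaf.exists_phi hW
  obtain ⟨Ψ, Θ, -, hΘ, hne⟩ := K724.Main.exists_maps hsq Fl hF φ hφ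
  have hiso := K724.SemIso.isIso_adj_of_torsion (p := p) f hWi hm htors hne
  have hrk := Groth.Agent.Dual.H339.OmegaRank.isFinLocFreeOfRank_omega d f
  have hiso' := K724.SemIso.isIso_adj hrk φ hφ Ψ Θ hΘ
  rcases K724.RatMap.dichotomy k f u hu with h | ⟨V, u', hV, hu', hmono⟩
  · exact h
  · have hchar : FrobSch.IsCharP (CohB1.ProjSpace 1 k) p :=
      FrobSch.IsCharP.of_hom (CohB1.ProjSpace.toSpec 1 k) p
    exact (K724.CurveMap.not_mono (p := p) f hrk (asIso (K724.Main.adj Ψ)) u' hu' V).elim


end Groth.Agent.S18159
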