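import Groth.Statements.S18162
import Groth.Agent.BSB.K946.UnifTwo
import Groth.Agent.BSB.K946.AffToR

set_option autoImplicit false
universe u
open BSB

namespace Groth.Agent.S18162

open AlgebraicGeometry CategoryTheory CategoryTheory.Limits in
/-- Let S be a Noetherian scheme, π : X ⟶ S a proper morphism, L and M invertible O_X-modules each ample
relative to π, and F a coherent O_X-module. Then there is n such that R^i π_* (F ⊗ L^a ⊗ M^b) = 0
for every i > 0 and all a, b ≥ 0 with max(a, b) ≥ n. (Projectivity of π in the source is rendered as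
properness together with the given relatively ample invertible modules; the instance argument
recording injective resolutions of O_X-modules is true but not yet in Mathlib.) -/
theorem result {X S : Scheme.{u}} (π : X ⟶ S) [IsNoetherian S] [IsProper π]
    [HasInjectiveResolutions X.Modules]
    (L M : X.Modules) (hLi : PicF.IsInvertible L) (hMi : PicF.IsInvertible M)
    (hL : RelAmple.IsRelAmple π L) (hM : RelAmple.IsRelAmple π M)
    (F : X.Modules) (hF : Coh.IsCoh F) :
    ∃ n : ℕ, ∀ (i a b : ℕ), 0 < i → n ≤ max a b →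
      IsZero ((Coh.Rpush π i).obj (CohB1.tensorMod F (CohB1.tensorMod (CohB1.tensorPow L a) (CohB1.tensorPow M b)))) := by
  let T : ℕ × ℕ → X.Modules := fun k =>
    CohB1.tensorMod F (CohB1.tensorMod (CohB1.tensorPow L k.1) (CohB1.tensorPow M k.2))
  have hcoh : ∀ k, Coh.IsCoh (T k) := fun k =>
    Groth.Agent.CohqB.SerTw.isCoh_tensorMod hF
      (Groth.Agent.Fdesc.LocGen.isInvertible_tensorMod (Groth.Agent.Fdesc.LocGen.isInvertible_tensorPow hLi _)
        (Groth.Agent.Fdesc.LocGen.isInvertible_tensorPow hMi _))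
  obtain ⟨n, hn⟩ := K946.AffToR.exists_uniform π T (fun k => (hcoh k).1) (fun i => 1 ≤ i)
    (fun n k => n ≤ max k.1 k.2) (fun n n' k h h' => h.trans h') fun W hW => by
      have hR : IsNoetherianRing Γ(S, W) := IsLocallyNoetherian.component_noetherian ⟨W, hW⟩
      letI : (π ⁻¹ᵁ W).toScheme.Over (Spec (CommRingCat.of Γ(S, W))) := ⟨(π ∣_ W) ≫ hW.isoSpec.hom⟩
      have : IsProper ((π ⁻¹ᵁ W).toScheme ↘ Spec (CommRingCat.of Γ(S, W))) :=
        inferInstanceAs (IsProper ((π ∣_ W) ≫ hW.isoSpec.hom))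
      obtain ⟨n, hn⟩ := K946.UnifTwo.unif_pair (A := Γ(S, W)) (hL.2 ⟨W, hW⟩) (hM.2 ⟨W, hW⟩)
        (Groth.Agent.CohqB.LocalQC.isCoh_restrict (π ⁻¹ᵁ W).ι hF)
      refine ⟨n, fun k hk i hi => ?_⟩
      obtain ⟨e₁⟩ := Groth.Agent.Ega3B.TensRestrict.restrictPowIso (π ⁻¹ᵁ W).ι L k.1
      obtain ⟨e₂⟩ := Groth.Agent.Ega3B.TensRestrict.restrictPowIso (π ⁻¹ᵁ W).ι M k.2
      refine Groth.Agent.CohqA.UnifVan.subsingleton_of_iso ?_ i (hn k.1 k.2 hk i hi)
      exact (Groth.Agent.Ega3B.TensRestrict.restrictIso (π ⁻¹ᵁ W).ι _ _ ≪≫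
        Groth.Agent.Ega2.Tens.mapTIso (Iso.refl _)
          (Groth.Agent.Ega3B.TensRestrict.restrictIso (π ⁻¹ᵁ W).ι _ _ ≪≫
            Groth.Agent.Ega2.Tens.mapTIso e₁ e₂)).symm
  exact ⟨n, fun i a b hi hab => hn (a, b) hab i hi⟩

end Groth.Agent.S18162
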