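import Groth.Statements.S18166
import Groth.Agent.BSB.K946.FlatContr2
import Groth.Agent.BSB.K946.AffToR
import Groth.Agent.Ega3B.NearFibre

set_option autoImplicit false
universe u
open BSB

attribute [-instance] Groth.Agent.Dcoh.MonCx.TensorGood.zero

namespace Groth.Agent.S18166

open AlgebraicGeometry CategoryTheory CategoryTheory.Limits in
/-- Let S be a Noetherian scheme, π : X ⟶ S and q : Y ⟶ S proper, ψ : X ⟶ Y a flat S-morphism with O_Y ⟶
ψ_* O_X an isomorphism, L an invertible O_X-module and N an invertible O_Y-module ample relative to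
q with ψ^* N ≅ L^ℓ for some ℓ > 0 (over affine opens of S the module L is then semiample and ψ is
the flat contraction it determines), and M an invertible O_X-module ample relative to π. If c and d
are such that H^i(X_y, (L^r ⊗ M^j) restricted to X_y) = 0 for every point y of Y, all r ≥ 0, all 1 ≤
i ≤ c and all j ≥ d, then there is n with R^i π_* (L^a ⊗ M^b) = 0 for all 1 ≤ i ≤ c and all a, b
with b ≥ d and max(a, b) ≥ n. (The published statement asks the fibrewise vanishing only for the
powers M^j, that is for r = 0; since L restricted to a fibre of ψ is merely a torsion module of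
order dividing ℓ, that is not enough: for a curve of genus two over a field, with ψ = π its
structure morphism, ℓ = 2, L a non-trivial invertible module with L^2 trivial and M the canonical
module twisted by L, the published hypothesis holds with c = d = 1 while H^1(L^a ⊗ M) ≠ 0 for every
odd a. The published proof uses the vanishing of the higher direct images under ψ, in degrees 1 to
c, of the twists L^e ⊗ M^b with 0 ≤ e < ℓ, which is what the fibrewise hypothesis of this row
supplies through cohomology and base change; as L^ℓ is trivial on the fibres of ψ, asking it for all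
r ≥ 0 is the same as asking it for 0 ≤ r < ℓ. The instance argument recording injective resolutions
of O_X-modules is true but not yet in Mathlib.) -/
theorem result {X Y S : Scheme.{u}} [IsNoetherian S]
    (π : X ⟶ S) [IsProper π] (q : Y ⟶ S) [IsProper q] (ψ : X ⟶ Y) [Flat ψ] (hψ : ψ ≫ q = π)
    (hψO : ∀ U : Y.Opens, IsIso (ψ.app U)) [HasInjectiveResolutions X.Modules]
    (L : X.Modules) (hLi : PicF.IsInvertible L) (N : Y.Modules) (hNi : PicF.IsInvertible N) (hN : RelAmple.IsRelAmple q N)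
    (ℓ : ℕ) (hℓ : 0 < ℓ) (eN : Nonempty ((Scheme.Modules.pullback ψ).obj N ≅ CohB1.tensorPow L ℓ))
    (M : X.Modules) (hMi : PicF.IsInvertible M) (hM : RelAmple.IsRelAmple π M)
    (c d : ℕ) (hfib : ∀ (y : Y) (i r j : ℕ), 1 ≤ i → i ≤ c → d ≤ j →
      Subsingleton (CohIII.fiberH ψ (CohB1.tensorMod (CohB1.tensorPow L r) (CohB1.tensorPow M j)) y i)) :
    ∃ n : ℕ, ∀ (i a b : ℕ), 1 ≤ i → i ≤ c → d ≤ b → n ≤ max a b →
      IsZero ((Coh.Rpush π i).obj (CohB1.tensorMod (CohB1.tensorPow L a) (CohB1.tensorPow M b))) := by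
  subst hψ
  have : IsProper ψ := IsProper.of_comp ψ q
  have : IsLocallyNoetherian Y := LocallyOfFiniteType.isLocallyNoetherian q
  have : IsLocallyNoetherian X := LocallyOfFiniteType.isLocallyNoetherian ψ
  have hinv : ∀ a b : ℕ, PicF.IsInvertible (CohB1.tensorMod (CohB1.tensorPow L a) (CohB1.tensorPow M b)) :=
    fun a b => Groth.Agent.Fdesc.LocGen.isInvertible_tensorMod
      (Groth.Agent.Fdesc.LocGen.isInvertible_tensorPow hLi _) (Groth.Agent.Fdesc.LocGen.isInvertible_tensorPow hMi _)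
  have hR : ∀ q' r j : ℕ, 1 ≤ q' → q' ≤ c → d ≤ j →
      K946.RZ ψ (CohB1.tensorMod (CohB1.tensorPow L r) (CohB1.tensorPow M j)) q' := fun q' r j h1 h2 h3 =>
    K946.RZ.of_fiber (Groth.Agent.Models.TrivGeom.isCoh_of_isInvertible (hinv r j))
      (Groth.Agent.Ega3B.NearFibre.isFlatOver_of_isInvertible ψ (hinv r j)) fun y => hfib y q' r j h1 h2 h3
  let T : ℕ × ℕ → X.Modules := fun k =>
    CohB1.tensorMod (CohB1.tensorPow L k.1) (CohB1.tensorPow M k.2)
  obtain ⟨n, hn⟩ := K946.AffToR.exists_uniform (ψ ≫ q) T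
    (fun k => (Groth.Agent.Models.TrivGeom.isCoh_of_isInvertible (hinv k.1 k.2)).1) (fun i => 1 ≤ i ∧ i ≤ c)
    (fun n k => d ≤ k.2 ∧ n ≤ max k.1 k.2) (fun n n' k h h' => ⟨h'.1, h.trans h'.2⟩) fun W hW => by
      have hR' : IsNoetherianRing Γ(S, W) := IsLocallyNoetherian.component_noetherian ⟨W, hW⟩
      obtain ⟨eN⟩ := eN
      have hψW : IsProper (ψ ∣_ (q ⁻¹ᵁ W)) := inferInstance
      let f : (ψ ⁻¹ᵁ (q ⁻¹ᵁ W)).toScheme ⟶ Spec (CommRingCat.of Γ(S, W)) := ((ψ ≫ q) ∣_ W) ≫ hW.isoSpec.hom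
      have hf : IsProper f := inferInstanceAs (IsProper (((ψ ≫ q) ∣_ W) ≫ hW.isoSpec.hom))
      obtain ⟨n, hn⟩ := K946.FlatContr.main_restrict (A := Γ(S, W)) ψ (q ⁻¹ᵁ W) f
        ((q ∣_ W) ≫ hW.isoSpec.hom) (Groth.Agent.Ega3B.NearFibre.isInvertible_restrict hLi _) (hN.2 ⟨W, hW⟩) hℓ eN (hM.2 ⟨W, hW⟩) c d hR
      exact ⟨n, fun k hk i hi => hn i k.1 k.2 hi.1 hi.2 hk.1 hk.2⟩
  exact ⟨n, fun i a b hi hic hdb hab => hn (a, b) ⟨hdb, hab⟩ i ⟨hi, hic⟩⟩

end Groth.Agent.S18166
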