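import Groth.Statements.S18167
import Groth.Agent.BSB.K946.NgSpread
import Groth.Agent.CalgB.ProjImm2
import Groth.Agent.EGA2.K43.VABackward
import Groth.Agent.EGA2.K43.VAFree

set_option autoImplicit false
universe u
open BSB

namespace Groth.Agent.S18167

open AlgebraicGeometry CategoryTheory CategoryTheory.Limits Opposite in
/-- Let A be a Noetherian ring, π : X ⟶ Spec A proper and flat, L an ample invertible O_X-module and y a
point of Spec A. Suppose the restriction L_y of L to the fibre X_y is very ample over the residue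
field of y, that for every n ≥ 1 the global sections of L_y^(n+1) are additively generated by the
products m ⊗ s of a global section m of L_y^n and a global section s of L_y (normal generation), and
that H^1(X_y, L^n restricted to X_y) = 0 for all n ≥ 1. Then y has an open neighbourhood U such that
L restricted to π⁻¹(U) is very ample relative to π⁻¹(U) ⟶ U and, for every n ≥ 1, the sections of
L^(n+1) over π⁻¹(U) are additively generated by products of a section of L^n over π⁻¹(U) and a
section of L over π⁻¹(U). (Projectivity of π in the source is rendered as properness together with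
the ample module L; surjectivity of the symmetric powers of the sections of L onto the sections of
the powers is rendered degree by degree.) -/
theorem result (A : Type u) [CommRing A] [IsNoetherianRing A]
    (X : Scheme.{u}) (π : X ⟶ Spec (CommRingCat.of A)) [IsProper π] [Flat π]
    (L : X.Modules) (hLi : PicF.IsInvertible L) (hLa : CohB1.IsAmple L) (y : Spec (CommRingCat.of A))
    (hva : RelAmple.IsRelVeryAmplePn (π.fiberToSpecResidueField y) (CohIII.fiberMod π L y))
    (hng : ∀ n : ℕ, 1 ≤ n → AddSubgroup.closure {t | ∃ (m : (CohB1.tensorPow (CohIII.fiberMod π L y) n).val.obj (op ⊤)) (s : (CohIII.fiberMod π L y).val.obj (op ⊤)), t = SecTwist.tmul (CohB1.tensorPow (CohIII.fiberMod π L y) n) (CohIII.fiberMod π L y) ⊤ m s} = ⊤)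
    (h1 : ∀ n : ℕ, 1 ≤ n → Subsingleton (CohIII.fiberH π (CohB1.tensorPow L n) y 1)) :
    ∃ U : (Spec (CommRingCat.of A)).Opens, y ∈ U ∧ RelProj.IsRelVeryAmple (π ∣_ U) (L.restrict (π ⁻¹ᵁ U).ι) ∧
      ∀ n : ℕ, 1 ≤ n → AddSubgroup.closure {t | ∃ (m : (CohB1.tensorPow L n).val.obj (op (π ⁻¹ᵁ U))) (s : L.val.obj (op (π ⁻¹ᵁ U))), t = SecTwist.tmul (CohB1.tensorPow L n) L (π ⁻¹ᵁ U) m s} = ⊤ := by
  have h1y : Subsingleton (CohIII.fiberH π L y 1) :=
    Groth.Agent.CohqA.UnifVan.subsingleton_of_iso ((Scheme.Modules.pullback (π.fiberι y)).mapIso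
      (Groth.Agent.Ega2.TensPow.powOne L)) 1 (h1 1 le_rfl)
  obtain ⟨U₁, hyU₁, hU₁⟩ := K471.VaLift.exists_near π y L hLi hva h1y
  obtain ⟨W, hW, hyW, hWU⟩ := exists_isAffineOpen_mem_and_subset (x := y) (U := U₁) hyU₁
  have hWva := Groth.Agent.K385.VeryAmpleBC.restrict_of_le (f := π) hWU hU₁
  have hWa : CohB1.IsAmple (L.restrict (π ⁻¹ᵁ W).ι) :=
    Groth.Agent.CalgB.ProjImm.isAmple_restrict_of_isCompact hLa _
      (QuasiCompact.isCompact_preimage (f := π) _ W.2 hW.isCompact)
  obtain ⟨U, hyU, hUW, hU⟩ := K946.NgSpread.near π hLi hW ⟨y, hyW⟩ hWva hWa hng h1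
  have hUva := Groth.Agent.K385.VeryAmpleBC.restrict_of_le (f := π) hUW hWva
  obtain ⟨n, φ, hφ⟩ := K43.VAFree.exists_va_of_pn hUva
  exact ⟨U, hyU, K43.VABackward.isRelVeryAmple_of_va (π ∣_ U)
    (K43.VAFree.isInvertible_of_pn hUva)
    (Groth.Agent.Ega2.QCohLocal.isQCoh_freeMod _ _) φ hφ, hU⟩

end Groth.Agent.S18167
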