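import Groth.Statements.S18168
import Groth.Agent.BSB.K946.FlatBase
import Groth.Agent.BSB.K946.FlatContr2

set_option autoImplicit false
universe u
open BSB

attribute [-instance] Groth.Agent.Dcoh.MonCx.TensorGood.zero

namespace Groth.Agent.S18168

open AlgebraicGeometry CategoryTheory CategoryTheory.Limits in
/-- Let S be a Noetherian scheme, φ : X ⟶ S proper and flat, L an invertible O_X-module, q : X' ⟶ S
proper and ψ : X ⟶ X' an S-morphism with O_{X'} ⟶ ψ_* O_X an isomorphism, and N an invertible module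
on X', ample relative to q, with ψ^* N ≅ L^m for some m > 0 (L is then relatively semiample and ψ is
the contraction it determines). If for some n > 0 the higher direct images R^i φ_* (L^(jn)) vanish
for all i > 0 and j ≥ 1, then X' is flat over S. (The published statement also asserts that the
direct images φ_* (L^(jn)) are finite locally free and that their formation commutes with base
change; those clauses are not restated. The instance argument recording injective resolutions of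
O_X-modules is true but not yet in Mathlib.) -/
theorem result {X X' S : Scheme.{u}} [IsNoetherian S]
    (φ : X ⟶ S) [IsProper φ] [Flat φ] [HasInjectiveResolutions X.Modules]
    (L : X.Modules) (hLi : PicF.IsInvertible L)
    (q : X' ⟶ S) [IsProper q] (ψ : X ⟶ X') (hψ : ψ ≫ q = φ) (hψO : ∀ U : X'.Opens, IsIso (ψ.app U))
    (N : X'.Modules) (hNi : PicF.IsInvertible N) (hN : RelAmple.IsRelAmple q N)
    (m : ℕ) (hm : 0 < m) (eN : Nonempty ((Scheme.Modules.pullback ψ).obj N ≅ CohB1.tensorPow L m))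
    (n : ℕ) (hn : 0 < n)
    (hvan : ∀ (i j : ℕ), 0 < i → 1 ≤ j → IsZero ((Coh.Rpush φ i).obj (CohB1.tensorPow L (j * n)))) :
    Flat q := by
  subst hψ
  obtain ⟨eN⟩ := eN
  have : IsProper ψ := IsProper.of_comp ψ q
  have hcoh : ∀ k : ℕ, Coh.IsCoh (CohB1.tensorPow L k) := fun k =>
    Groth.Agent.Models.TrivGeom.isCoh_of_isInvertible (Groth.Agent.Fdesc.LocGen.isInvertible_tensorPow hLi k)
  refine K946.FlatBase.flat_of_affineOpens q fun V => ?_
  have hV : IsAffine V.1.toScheme := V.2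
  have hc : (ψ ∣_ (q ⁻¹ᵁ V.1)) ≫ (q ∣_ V.1) = (ψ ≫ q) ∣_ V.1 := (morphismRestrict_comp ψ q V.1).symm
  have h1 : IsProper ((ψ ∣_ (q ⁻¹ᵁ V.1)) ≫ (q ∣_ V.1)) := inferInstance
  have h2 : Flat ((ψ ∣_ (q ⁻¹ᵁ V.1)) ≫ (q ∣_ V.1)) := by
    rw [hc]
    exact inferInstanceAs (Flat ((ψ ≫ q) ∣_ V.1))
  have h3 : QuasiSeparatedSpace (q ⁻¹ᵁ V.1).toScheme :=
    quasiSeparatedSpace_of_quasiSeparated (q ∣_ V.1)
  obtain ⟨eL⟩ := Groth.Agent.Ega3B.TensRestrict.restrictPowIso (ψ ⁻¹ᵁ (q ⁻¹ᵁ V.1)).ι L m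
  refine K946.FlatBase.flat_of_contr (ψ ∣_ (q ⁻¹ᵁ V.1)) (q ∣_ V.1) (fun U => ?_) (hN.2 V)
    (L := L.restrict (ψ ⁻¹ᵁ (q ⁻¹ᵁ V.1)).ι) (Groth.Agent.Ega3B.NearFibre.isInvertible_restrict hLi _) hm
    ((Groth.Agent.FormalB.PullCoh.restrictPullbackIso ψ (q ⁻¹ᵁ V.1)).app N ≪≫
      (Scheme.Modules.restrictFunctor (ψ ⁻¹ᵁ (q ⁻¹ᵁ V.1)).ι).mapIso eN ≪≫ eL) n hn fun i j hi hj => ?_
  · exact K946.FlatBase.isIso_restrict_app ψ hψO _ U
  · obtain ⟨e⟩ := Groth.Agent.Ega3B.TensRestrict.restrictPowIso (ψ ⁻¹ᵁ (q ⁻¹ᵁ V.1)).ι L (j * n)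
    exact Groth.Agent.CohqA.UnifVan.subsingleton_of_iso e i
      (K946.RZ.of_isZero (ψ ≫ q) (hcoh (j * n)).1 (hvan i j hi hj) V.1 V.2)

end Groth.Agent.S18168
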