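import Groth.Statements.S18169
import Groth.Agent.BSB.K946.PointCase

set_option autoImplicit false
universe u
open BSB

namespace Groth.Agent.S18169

open AlgebraicGeometry CategoryTheory CategoryTheory.Limits Opposite in
/-- Let X be proper over a field k with an ample invertible module L0 and E the effective Cartier
divisor of an ideal sheaf I, with H^0(E, O_E) = k; let O_X(E) be an invertible module inverse to I,
N its restriction to E and C = I restricted to E (the conormal bundle, dual to N). Assume C is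
ample, L0 restricted to E tensored with N^m has finite order r in Pic(E) for some m > 0, C is
normally generated (degree by degree: sections of C^(n+1) are generated additively by products of
sections of C^n and of C) and H^1(E, C^n) = 0 for n ≥ 1. Then, with L = L0 ⊗ O_X(E)^m: for all large
s the power L^s is globally generated exactly when r ∣ s; and for every proper Y over k with a
k-morphism π : X ⟶ Y such that O_Y ⟶ π_* O_X is an isomorphism and an ample invertible M on Y with
π^* M ≅ L^s for some s > 0 (the contraction L determines), there is a k-point p of Y whose ideal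
sheaf pulls back along π to I, π is a blowing up of Y in p, and for every n the length of m_p^n /
m_p^(n+1) over O_{Y,p} equals the dimension of H^0(E, C^n) over H^0(E, O_E) = k. (The source's
isomorphism of the associated graded ring of O_{Y,p} with ⊕ H^0(E, C^n) is rendered by this equality
of dimensions in every degree.) -/
theorem result (k : Type u) [Field k] (X : Scheme.{u})
    [X.Over (Spec (CommRingCat.of k))] [IsProper (X ↘ Spec (CommRingCat.of k))]
    (L0 : X.Modules) (hL0i : PicF.IsInvertible L0) (hL0a : CohB1.IsAmple L0)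
    (I : X.IdealSheafData) (hI : BlowUp.IsEffCartierIdeal I)
    (hE : Function.Bijective ((Scheme.ΓSpecIso (CommRingCat.of k)).inv ≫ (X ↘ Spec (CommRingCat.of k)).appTop ≫ I.subschemeι.appTop).hom)
    (OE : X.Modules) (hOEi : PicF.IsInvertible OE) (hOE : ClSub.IsInverseOf OE (ClSub.idealMod I))
    (hCa : CohB1.IsAmple ((Scheme.Modules.pullback I.subschemeι).obj (ClSub.idealMod I)))
    (m : ℕ) (hm : 0 < m) (r : ℕ) (hr : 0 < r)
    (htors : Nonempty (CohB1.tensorPow (CohB1.tensorMod ((Scheme.Modules.pullback I.subschemeι).obj L0) (CohB1.tensorPow ((Scheme.Modules.pullback I.subschemeι).obj OE) m)) r ≅ Coh.structureModule _))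
    (hord : ∀ r' : ℕ, 0 < r' → r' < r → ¬ Nonempty (CohB1.tensorPow (CohB1.tensorMod ((Scheme.Modules.pullback I.subschemeι).obj L0) (CohB1.tensorPow ((Scheme.Modules.pullback I.subschemeι).obj OE) m)) r' ≅ Coh.structureModule _))
    (hng : ∀ n : ℕ, 1 ≤ n → AddSubgroup.closure {t | ∃ (a : (CohB1.tensorPow ((Scheme.Modules.pullback I.subschemeι).obj (ClSub.idealMod I)) n).val.obj (op ⊤)) (b : ((Scheme.Modules.pullback I.subschemeι).obj (ClSub.idealMod I)).val.obj (op ⊤)), t = SecTwist.tmul (CohB1.tensorPow ((Scheme.Modules.pullback I.subschemeι).obj (ClSub.idealMod I)) n) ((Scheme.Modules.pullback I.subschemeι).obj (ClSub.idealMod I)) ⊤ a b} = ⊤)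
    (h1 : ∀ n : ℕ, 1 ≤ n → Subsingleton (Coh.HH _ (CohB1.tensorPow ((Scheme.Modules.pullback I.subschemeι).obj (ClSub.idealMod I)) n) 1)) :
    (∃ s0 : ℕ, ∀ s : ℕ, s0 ≤ s → (Curv2.IsGloballyGenerated (CohB1.tensorPow (CohB1.tensorMod L0 (CohB1.tensorPow OE m)) s) ↔ r ∣ s)) ∧
    (∀ (Y : Scheme.{u}) [Y.Over (Spec (CommRingCat.of k))] [IsProper (Y ↘ Spec (CommRingCat.of k))]
      (π : X ⟶ Y) (hover : π ≫ (Y ↘ Spec (CommRingCat.of k)) = X ↘ Spec (CommRingCat.of k))
      (hπ : ∀ U : Y.Opens, IsIso (π.app U))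
      (M : Y.Modules) (hMi : PicF.IsInvertible M) (hMa : CohB1.IsAmple M) (s : ℕ) (hs : 0 < s)
      (e : Nonempty ((Scheme.Modules.pullback π).obj M ≅ CohB1.tensorPow (CohB1.tensorMod L0 (CohB1.tensorPow OE m)) s)),
      ∃ (pt : Spec (CommRingCat.of k) ⟶ Y), pt ≫ (Y ↘ Spec (CommRingCat.of k)) = 𝟙 _ ∧
        pt.ker.comap π = I ∧ BlowUp.IsBlowUp π pt.ker ∧
        ∀ n : ℕ, Module.length (Y.presheaf.stalk (pt.base (IsLocalRing.closedPoint k))) (↥((IsLocalRing.maximalIdeal (Y.presheaf.stalk (pt.base (IsLocalRing.closedPoint k)))) ^ n) ⧸ ((IsLocalRing.maximalIdeal (Y.presheaf.stalk (pt.base (IsLocalRing.closedPoint k)))) • (⊤ : Submodule (Y.presheaf.stalk (pt.base (IsLocalRing.closedPoint k))) ↥((IsLocalRing.maximalIdeal (Y.presheaf.stalk (pt.base (IsLocalRing.closedPoint k)))) ^ n)))) =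
          (Module.finrank Γ(↑(I.subscheme), ⊤) (Coh.HH _ (CohB1.tensorPow ((Scheme.Modules.pullback I.subschemeι).obj (ClSub.idealMod I)) n) 0) : ℕ∞)) := by
  have hE' : IsIso ((I.subschemeι ≫ (X ↘ Spec (CommRingCat.of k))).app ⊤) := by
    have h2 : IsIso ((Scheme.ΓSpecIso (CommRingCat.of k)).inv ≫ (X ↘ Spec (CommRingCat.of k)).appTop ≫
        I.subschemeι.appTop) := (ConcreteCategory.isIso_iff_bijective _).2 hE
    have h3 := IsIso.of_isIso_comp_left (Scheme.ΓSpecIso (CommRingCat.of k)).inv
      ((X ↘ Spec (CommRingCat.of k)).appTop ≫ I.subschemeι.appTop)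
    have h4 : (I.subschemeι ≫ (X ↘ Spec (CommRingCat.of k))).app ⊤ =
        (X ↘ Spec (CommRingCat.of k)).appTop ≫ I.subschemeι.appTop := Scheme.Hom.comp_appTop _ _
    rw [h4]
    exact h3
  exact ⟨K946.PointCase.point_one hL0i hL0a hI hE' hOEi hOE hm hr htors hord h1,
    fun Y _ _ π hover hπ M hMi hMa s hs e =>
      K946.PointCase.point_two hL0i hL0a hI hE' hOEi hOE hm hr htors hord hng h1 hover hπ hMi hMa hs e⟩

end Groth.Agent.S18169
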