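import Groth.Statements.S18170
import Groth.Agent.BSB.K946.PartOne
import Groth.Agent.BSB.K946.PartTwo

set_option autoImplicit false
universe u
open BSB

namespace Groth.Agent.S18170

open AlgebraicGeometry CategoryTheory CategoryTheory.Limits Opposite in
/-- Let S be Noetherian, f : X ⟶ S proper with a relatively ample invertible L0, E the effective Cartier
divisor of an ideal sheaf I with O_X(E) an invertible inverse of I, N the restriction of O_X(E) to E
and C the restriction of I to E (the conormal bundle). Suppose that for some m > 0 the module L_E =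
(L0 restricted to E) ⊗ N^m determines over affine opens of S a flat contraction, pinned here as: g :
F ⟶ S proper, ψ : E ⟶ F a flat S-morphism with O_F ⟶ ψ_* O_E an isomorphism, and a g-relatively
ample invertible G on F with ψ^* G ≅ L_E^r for some r > 0. Suppose C is ample relative to ψ,
normally generated on every fibre of ψ (degree by degree through products of sections) and H^1(E_y,
C^n restricted to E_y) = 0 for all y and n ≥ 1. Then with L = L0 ⊗ O_X(E)^m: over every affine open
U of S there is d > 0 such that for all large s the powers L^s over f⁻¹(U) and L_E^s over the part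
of E above U are each globally generated exactly when d ∣ s; and for every q : Y ⟶ S proper,
S-morphism π : X ⟶ Y with O_Y ⟶ π_* O_X an isomorphism and q-relatively ample invertible M with π^*
M ≅ L^s, s > 0 (the contraction L determines), there is a closed immersion j : F ⟶ Y over S with ι ≫
π = ψ ≫ j whose ideal sheaf J satisfies: J pulls back along π to I, π is a blowing up of Y in J, and
for every n the restriction of J^n to F is finite locally free and isomorphic to ψ_* (C^n). (The
source's normal cone Spec ⊕ ψ_* C^n is rendered by these termwise isomorphisms, existence only.) -/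
theorem result {X S : Scheme.{u}} [IsNoetherian S] (f : X ⟶ S) [IsProper f]
    (L0 : X.Modules) (hL0i : PicF.IsInvertible L0) (hL0a : RelAmple.IsRelAmple f L0)
    (I : X.IdealSheafData) (hI : BlowUp.IsEffCartierIdeal I)
    (OE : X.Modules) (hOEi : PicF.IsInvertible OE) (hOE : ClSub.IsInverseOf OE (ClSub.idealMod I))
    (m : ℕ) (hm : 0 < m)
    {F : Scheme.{u}} (g : F ⟶ S) [IsProper g] (ψ : ↑(I.subscheme) ⟶ F) [Flat ψ] (hψg : ψ ≫ g = I.subschemeι ≫ f)
    (hψO : ∀ V : F.Opens, IsIso (ψ.app V))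
    (G : F.Modules) (hGi : PicF.IsInvertible G) (hGa : RelAmple.IsRelAmple g G) (r : ℕ) (hr : 0 < r)
    (eG : Nonempty ((Scheme.Modules.pullback ψ).obj G ≅ CohB1.tensorPow (CohB1.tensorMod ((Scheme.Modules.pullback I.subschemeι).obj L0) (CohB1.tensorPow ((Scheme.Modules.pullback I.subschemeι).obj OE) m)) r))
    (hCa : RelAmple.IsRelAmple ψ ((Scheme.Modules.pullback I.subschemeι).obj (ClSub.idealMod I)))
    (hng : ∀ (y : F) (n : ℕ), 1 ≤ n → AddSubgroup.closure {t | ∃ (a : (CohB1.tensorPow (CohIII.fiberMod ψ ((Scheme.Modules.pullback I.subschemeι).obj (ClSub.idealMod I)) y) n).val.obj (op ⊤)) (b : (CohIII.fiberMod ψ ((Scheme.Modules.pullback I.subschemeι).obj (ClSub.idealMod I)) y).val.obj (op ⊤)), t = SecTwist.tmul (CohB1.tensorPow (CohIII.fiberMod ψ ((Scheme.Modules.pullback I.subschemeι).obj (ClSub.idealMod I)) y) n) (CohIII.fiberMod ψ ((Scheme.Modules.pullback I.subschemeι).obj (ClSub.idealMod I)) y) ⊤ a b} = ⊤)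
    (h1 : ∀ (y : F) (n : ℕ), 1 ≤ n → Subsingleton (CohIII.fiberH ψ (CohB1.tensorPow ((Scheme.Modules.pullback I.subschemeι).obj (ClSub.idealMod I)) n) y 1)) :
    (∀ U : S.affineOpens, ∃ d : ℕ, 0 < d ∧ ∃ s0 : ℕ, ∀ s : ℕ, s0 ≤ s →
      ((Curv2.IsGloballyGenerated ((CohB1.tensorPow (CohB1.tensorMod L0 (CohB1.tensorPow OE m)) s).restrict (f ⁻¹ᵁ U.1).ι) ↔ d ∣ s) ∧
       (Curv2.IsGloballyGenerated ((CohB1.tensorPow (CohB1.tensorMod ((Scheme.Modules.pullback I.subschemeι).obj L0) (CohB1.tensorPow ((Scheme.Modules.pullback I.subschemeι).obj OE) m)) s).restrict ((I.subschemeι ≫ f) ⁻¹ᵁ U.1).ι) ↔ d ∣ s))) ∧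
    (∀ (Y : Scheme.{u}) (q : Y ⟶ S) [IsProper q] (π : X ⟶ Y) (hπq : π ≫ q = f)
      (hπ : ∀ U : Y.Opens, IsIso (π.app U))
      (M : Y.Modules) (hMi : PicF.IsInvertible M) (hMa : RelAmple.IsRelAmple q M) (s : ℕ) (hs : 0 < s)
      (e : Nonempty ((Scheme.Modules.pullback π).obj M ≅ CohB1.tensorPow (CohB1.tensorMod L0 (CohB1.tensorPow OE m)) s)),
      ∃ (j : F ⟶ Y), IsClosedImmersion j ∧ j ≫ q = g ∧ I.subschemeι ≫ π = ψ ≫ j ∧
        j.ker.comap π = I ∧ BlowUp.IsBlowUp π j.ker ∧
        ∀ n : ℕ, FlatMod.IsFinLocFree ((Scheme.Modules.pullback j).obj (ClSub.idealMod (j.ker ^ n))) ∧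
          Nonempty ((Scheme.Modules.pullback j).obj (ClSub.idealMod (j.ker ^ n)) ≅ (Scheme.Modules.pushforward ψ).obj (CohB1.tensorPow ((Scheme.Modules.pullback I.subschemeι).obj (ClSub.idealMod I)) n))) := by
  have hIi := Groth.Agent.Dix.IdealModCartier.isInvertible_idealMod hI
  have hCi := Fdesc.LocGen.isInvertible_pullback I.subschemeι hIi
  have hpf : IsProper (ψ ≫ g) := by rw [hψg]; infer_instance
  have hpψ : IsProper ψ := IsProper.of_comp ψ g
  have hNF : IsLocallyNoetherian F := LocallyOfFiniteType.isLocallyNoetherian g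
  have hR : ∀ n, 1 ≤ n → K946.RZ ψ (CohB1.tensorPow ((Scheme.Modules.pullback I.subschemeι).obj (ClSub.idealMod I)) n) 1 :=
    fun n hn => K946.RZ.of_fiber (Groth.Agent.Models.TrivGeom.isCoh_of_isInvertible (Fdesc.LocGen.isInvertible_tensorPow hCi n))
      (Groth.Agent.Ega3B.NearFibre.isFlatOver_of_isInvertible ψ (Fdesc.LocGen.isInvertible_tensorPow hCi n)) fun y => h1 y n hn
  exact ⟨fun U => K946.PartOne.part_one hL0i hL0a hIi hOEi hOE hm hψg hψO hGi hGa hr eG hR U,
    fun Y q _ π hπq hπ M hMi hMa s hs e =>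
      K946.PartTwo.part_two hL0i hL0a hI hOEi hOE hm hψg hψO hGi hGa hr eG hng h1 hπq hπ hMi hMa hs e⟩

end Groth.Agent.S18170
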