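import Groth.Statements.S18171
import Groth.Agent.BSB.K946.CoreVan
import Groth.Agent.BSB.K946.FlatBase
import Groth.Agent.Dix.IdealModCartier

set_option autoImplicit false
universe u
open BSB

attribute [-instance] Groth.Agent.Dcoh.MonCx.TensorGood.zero

namespace Groth.Agent.S18171

open AlgebraicGeometry CategoryTheory CategoryTheory.Limits Opposite in
/-- Let S be Noetherian, f : X ⟶ S proper AND flat with a relatively ample invertible L0, E the
effective Cartier divisor of an ideal sheaf I with O_X(E) an invertible inverse of I, C the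
restriction of I to E, m > 0, and a flat contraction of E over S determined by L_E = (L0 restricted
to E) ⊗ N^m, pinned as g : F ⟶ S proper, ψ : E ⟶ F flat over S with O_F ⟶ ψ_* O_E an isomorphism and
a g-relatively ample invertible G with ψ^* G ≅ L_E^r, r > 0. Suppose C is ample relative to ψ,
normally generated on every fibre of ψ (degree by degree through products of sections), and H^i(E_y,
C^n restricted to E_y) = 0 for all y, all i > 0 and all n ≥ 0. Then for every q : Y ⟶ S proper,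
S-morphism π : X ⟶ Y with O_Y ⟶ π_* O_X an isomorphism and q-relatively ample invertible M with π^*
M ≅ L^s for some s > 0, where L = L0 ⊗ O_X(E)^m (the contraction L determines), Y is flat over S. -/
theorem result {X S : Scheme.{u}} [IsNoetherian S] (f : X ⟶ S) [IsProper f] [Flat f]
    (L0 : X.Modules) (hL0i : PicF.IsInvertible L0) (hL0a : RelAmple.IsRelAmple f L0)
    (I : X.IdealSheafData) (hI : BlowUp.IsEffCartierIdeal I)
    (OE : X.Modules) (hOEi : PicF.IsInvertible OE) (hOE : ClSub.IsInverseOf OE (ClSub.idealMod I))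
    (m : ℕ) (hm : 0 < m)
    {F : Scheme.{u}} (g : F ⟶ S) [IsProper g] (ψ : ↑(I.subscheme) ⟶ F) [Flat ψ] (hψg : ψ ≫ g = I.subschemeι ≫ f)
    (hψO : ∀ V : F.Opens, IsIso (ψ.app V))
    (G : F.Modules) (hGi : PicF.IsInvertible G) (hGa : RelAmple.IsRelAmple g G) (r : ℕ) (hr : 0 < r)
    (eG : Nonempty ((Scheme.Modules.pullback ψ).obj G ≅ CohB1.tensorPow (CohB1.tensorMod ((Scheme.Modules.pullback I.subschemeι).obj L0) (CohB1.tensorPow ((Scheme.Modules.pullback I.subschemeι).obj OE) m)) r))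
    (hCa : RelAmple.IsRelAmple ψ ((Scheme.Modules.pullback I.subschemeι).obj (ClSub.idealMod I)))
    (hng : ∀ (y : F) (n : ℕ), 1 ≤ n → AddSubgroup.closure {t | ∃ (a : (CohB1.tensorPow (CohIII.fiberMod ψ ((Scheme.Modules.pullback I.subschemeι).obj (ClSub.idealMod I)) y) n).val.obj (op ⊤)) (b : (CohIII.fiberMod ψ ((Scheme.Modules.pullback I.subschemeι).obj (ClSub.idealMod I)) y).val.obj (op ⊤)), t = SecTwist.tmul (CohB1.tensorPow (CohIII.fiberMod ψ ((Scheme.Modules.pullback I.subschemeι).obj (ClSub.idealMod I)) y) n) (CohIII.fiberMod ψ ((Scheme.Modules.pullback I.subschemeι).obj (ClSub.idealMod I)) y) ⊤ a b} = ⊤)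
    (hall : ∀ (y : F) (i n : ℕ), 0 < i → Subsingleton (CohIII.fiberH ψ (CohB1.tensorPow ((Scheme.Modules.pullback I.subschemeι).obj (ClSub.idealMod I)) n) y i)) :
    ∀ (Y : Scheme.{u}) (q : Y ⟶ S) [IsProper q] (π : X ⟶ Y) (hπq : π ≫ q = f)
      (hπ : ∀ U : Y.Opens, IsIso (π.app U))
      (M : Y.Modules) (hMi : PicF.IsInvertible M) (hMa : RelAmple.IsRelAmple q M) (s : ℕ) (hs : 0 < s)
      (e : Nonempty ((Scheme.Modules.pullback π).obj M ≅ CohB1.tensorPow (CohB1.tensorMod L0 (CohB1.tensorPow OE m)) s)),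
      Flat q := by
  intro Y q hqp π hπq hπ M hMi hMa s hs e
  obtain ⟨e⟩ := e
  obtain ⟨eG⟩ := eG
  have : IsProper (ψ ≫ g) := by rw [hψg]; infer_instance
  have : IsProper ψ := IsProper.of_comp ψ g
  have : IsLocallyNoetherian F := LocallyOfFiniteType.isLocallyNoetherian g
  have hIi := Groth.Agent.Dix.IdealModCartier.isInvertible_idealMod hI
  have hCi := Groth.Agent.Fdesc.LocGen.isInvertible_pullback I.subschemeι hIi
  have hLi : PicF.IsInvertible (CohB1.tensorMod L0 (CohB1.tensorPow OE m)) :=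
    Groth.Agent.Fdesc.LocGen.isInvertible_tensorMod hL0i (Groth.Agent.Fdesc.LocGen.isInvertible_tensorPow hOEi m)
  have hR : ∀ n, 0 ≤ n → ∀ q, 1 ≤ q → True → K946.RZ ψ
      (CohB1.tensorPow ((Scheme.Modules.pullback I.subschemeι).obj (ClSub.idealMod I)) n) q := fun n _ q hq _ =>
    K946.RZ.of_fiber (Groth.Agent.Models.TrivGeom.isCoh_of_isInvertible
      (Groth.Agent.Fdesc.LocGen.isInvertible_tensorPow hCi n))
      (Groth.Agent.Ega3B.NearFibre.isFlatOver_of_isInvertible ψ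
        (Groth.Agent.Fdesc.LocGen.isInvertible_tensorPow hCi n)) fun y => hall y q n hq
  refine K946.FlatBase.flat_of_affineOpens q fun V => ?_
  obtain ⟨k₀, hk₀⟩ := K946.CoreVan.core_van f V.1 V.2 hL0i (hL0a.2 V) I hIi hOEi hOE hm g ψ hψg (hGa.2 V) hr
    ⟨(Groth.Agent.FormalB.PullCoh.restrictPullbackIso ψ (g ⁻¹ᵁ V.1)).app G ≪≫
      (Scheme.Modules.restrictFunctor (ψ ⁻¹ᵁ (g ⁻¹ᵁ V.1)).ι).mapIso eG⟩ (fun _ => True) (fun _ _ _ _ => trivial) 0 hR
  subst hπq
  have hV : IsAffine V.1.toScheme := V.2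
  have hc : (π ∣_ (q ⁻¹ᵁ V.1)) ≫ (q ∣_ V.1) = (π ≫ q) ∣_ V.1 := (morphismRestrict_comp π q V.1).symm
  have h0 : IsProper π := IsProper.of_comp π q
  have h1 : IsProper ((π ∣_ (q ⁻¹ᵁ V.1)) ≫ (q ∣_ V.1)) := inferInstance
  have h2 : Flat ((π ∣_ (q ⁻¹ᵁ V.1)) ≫ (q ∣_ V.1)) := by
    rw [hc]
    exact inferInstanceAs (Flat ((π ≫ q) ∣_ V.1))
  have h3 : QuasiSeparatedSpace (q ⁻¹ᵁ V.1).toScheme :=
    quasiSeparatedSpace_of_quasiSeparated (q ∣_ V.1)
  obtain ⟨eL⟩ := Groth.Agent.Ega3B.TensRestrict.restrictPowIso (π ⁻¹ᵁ (q ⁻¹ᵁ V.1)).ι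
    (CohB1.tensorMod L0 (CohB1.tensorPow OE m)) s
  refine K946.FlatBase.flat_of_contr (π ∣_ (q ⁻¹ᵁ V.1)) (q ∣_ V.1)
    (fun U => K946.FlatBase.isIso_restrict_app π hπ _ U) (hMa.2 V)
    (L := (CohB1.tensorMod L0 (CohB1.tensorPow OE m)).restrict (π ⁻¹ᵁ (q ⁻¹ᵁ V.1)).ι)
    (Groth.Agent.Ega3B.NearFibre.isInvertible_restrict hLi _) hs
    ((Groth.Agent.FormalB.PullCoh.restrictPullbackIso π (q ⁻¹ᵁ V.1)).app M ≪≫
      (Scheme.Modules.restrictFunctor (π ⁻¹ᵁ (q ⁻¹ᵁ V.1)).ι).mapIso e ≪≫ eL) (r * (k₀ + 1))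
    (Nat.mul_pos hr (Nat.succ_pos _)) fun i j hi hj => ?_
  obtain ⟨e₁⟩ := Groth.Agent.Ega3B.TensRestrict.restrictPowIso (π ⁻¹ᵁ (q ⁻¹ᵁ V.1)).ι
    (CohB1.tensorMod L0 (CohB1.tensorPow OE m)) (j * (r * (k₀ + 1)))
  have h4 := hk₀ (j * (k₀ + 1)) (by nlinarith) 0 le_rfl (Nat.zero_le _) i hi trivial
  have h5 : r * (j * (k₀ + 1)) = j * (r * (k₀ + 1)) := by ring
  rw [h5] at h4
  exact Groth.Agent.CohqA.UnifVan.subsingleton_of_iso e₁ i
    (K946.DivVan.HHon_of_iso (Groth.Agent.Ega2.Tens.runit _) _ i h4)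

end Groth.Agent.S18171
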