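import Groth.Statements.S18172
import Groth.Agent.BSB.K50.IsoAct

set_option autoImplicit false
universe u
open BSB

namespace Groth.Agent.S18172

open AlgebraicGeometry CategoryTheory CategoryTheory.Limits in
/-- Let A be a Noetherian Henselian local ring with residue field κ; let f_X : X ⟶ Spec A and f_Y : Y ⟶
Spec A be smooth and proper, each with a relatively ample invertible module, and let a finite group
G of order invertible in κ act on A by ring automorphisms inducing the identity on κ, and on X and Y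
by morphisms σ_g, τ_g (σ_1 = 𝟙, σ_{gh} = σ_g ≫ σ_h, likewise τ) compatibly with the structure
morphisms. Let i : X_0 ⟶ X, j : Y_0 ⟶ Y be the closed fibres (cartesian squares over Spec κ ⟶ Spec
A) with actions σ_0, τ_0 compatible with σ, τ, and φ : X_0 ≅ Y_0 an equivariant isomorphism over κ.
If every short exact sequence 0 ⟶ O_{X_0} ⟶ E ⟶ Ω_{X_0/κ} ⟶ 0 of O_{X_0}-modules splits (the
condition H^1(X_0, T_{X_0}) = 0), then there is an equivariant isomorphism X ≅ Y over Spec A that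
restricts to φ. (The published statement allows any Henselian local ring A; this row assumes A
Noetherian.) -/
theorem result (A : Type u) [CommRing A] [IsNoetherianRing A] [HenselianLocalRing A]
    (G : Type u) [Group G] [Finite G] [MulSemiringAction G A]
    (hG : IsUnit ((Nat.card G : ℕ) : IsLocalRing.ResidueField A))
    (htriv : ∀ (g : G) (a : A), g • a - a ∈ IsLocalRing.maximalIdeal A)
    (X Y : Scheme.{u}) (fX : X ⟶ Spec (CommRingCat.of A)) (fY : Y ⟶ Spec (CommRingCat.of A))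
    [Smooth fX] [IsProper fX] [Smooth fY] [IsProper fY]
    (LX : X.Modules) (hLXi : PicF.IsInvertible LX) (hLX : RelAmple.IsRelAmple fX LX)
    (LY : Y.Modules) (hLYi : PicF.IsInvertible LY) (hLY : RelAmple.IsRelAmple fY LY)
    (σ : G → (X ⟶ X)) (hσ1 : σ 1 = 𝟙 X) (hσmul : ∀ g h : G, σ (g * h) = σ g ≫ σ h)
    (hσf : ∀ g : G, σ g ≫ fX = fX ≫ Spec.map (CommRingCat.ofHom (MulSemiringAction.toRingHom G A g)))
    (τ : G → (Y ⟶ Y)) (hτ1 : τ 1 = 𝟙 Y) (hτmul : ∀ g h : G, τ (g * h) = τ g ≫ τ h)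
    (hτf : ∀ g : G, τ g ≫ fY = fY ≫ Spec.map (CommRingCat.ofHom (MulSemiringAction.toRingHom G A g)))
    (X0 Y0 : Scheme.{u}) (i : X0 ⟶ X) (p0 : X0 ⟶ Spec (CommRingCat.of (IsLocalRing.ResidueField A)))
    (hi : IsPullback i p0 fX (Spec.map (CommRingCat.ofHom (IsLocalRing.residue A))))
    (j : Y0 ⟶ Y) (q0 : Y0 ⟶ Spec (CommRingCat.of (IsLocalRing.ResidueField A)))
    (hj : IsPullback j q0 fY (Spec.map (CommRingCat.ofHom (IsLocalRing.residue A))))
    (σ0 : G → (X0 ⟶ X0)) (hσ0 : ∀ g : G, σ0 g ≫ i = i ≫ σ g)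
    (τ0 : G → (Y0 ⟶ Y0)) (hτ0 : ∀ g : G, τ0 g ≫ j = j ≫ τ g)
    (φ : X0 ≅ Y0) (hφ : φ.hom ≫ q0 = p0) (hφeq : ∀ g : G, σ0 g ≫ φ.hom = φ.hom ≫ τ0 g)
    (hT : ∀ (E : X0.Modules) (a : Coh.structureModule X0 ⟶ E) (b : E ⟶ Omega.sheaf p0) (w : a ≫ b = 0),
      (ShortComplex.mk a b w).ShortExact → IsSplitMono a) :
    ∃ Φ : X ≅ Y, Φ.hom ≫ fY = fX ∧ (∀ g : G, σ g ≫ Φ.hom = Φ.hom ≫ τ g) ∧ i ≫ Φ.hom = φ.hom ≫ j := by
  obtain ⟨I, fI, U, hft, hR⟩ := K50.IsoRep.exists_rep fX fY
    (K50.IsoRep.isHProjective fX LX hLX)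
    (K50.IsoRep.isHProjective fY LY hLY)
  have hSN : IsLocallyNoetherian (Spec (CommRingCat.of A)) := inferInstance
  have hIN : IsLocallyNoetherian I := LocallyOfFiniteType.isLocallyNoetherian fI
  have hfp : LocallyOfFinitePresentation fI :=
    LocallyOfFinitePresentation.iff_locallyOfFiniteType.2 hft
  let s : G → (Spec (CommRingCat.of A) ⟶ Spec (CommRingCat.of A)) := fun g =>
    Spec.map (CommRingCat.ofHom (MulSemiringAction.toRingHom G A g))
  have hs1 : s 1 = 𝟙 _ := by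
    show Spec.map (CommRingCat.ofHom (MulSemiringAction.toRingHom G A 1)) = 𝟙 _
    rw [← Spec.map_id]
    congr 1
    ext a
    exact one_smul G a
  have hsm : ∀ g h, s (g * h) = s g ≫ s h := fun g h => by
    show Spec.map (CommRingCat.ofHom (MulSemiringAction.toRingHom G A (g * h))) =
      Spec.map (CommRingCat.ofHom (MulSemiringAction.toRingHom G A g)) ≫
        Spec.map (CommRingCat.ofHom (MulSemiringAction.toRingHom G A h))
    rw [← Spec.map_comp]
    congr 1
    ext a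
    exact mul_smul g h a
  have is := K50.IsoRep.isIso_act s hs1 hsm
  let z : Spec (CommRingCat.of (IsLocalRing.ResidueField A)) ⟶ Spec (CommRingCat.of A) :=
    Spec.map (CommRingCat.ofHom (IsLocalRing.residue A))
  have hzs : ∀ g, z ≫ s g = z := fun g => by
    show Spec.map (CommRingCat.ofHom (IsLocalRing.residue A)) ≫
      Spec.map (CommRingCat.ofHom (MulSemiringAction.toRingHom G A g)) = _
    rw [← Spec.map_comp]
    congr 1
    ext a
    have h1 : IsLocalRing.residue A (g • a) = IsLocalRing.residue A a := by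
      rw [← sub_eq_zero, ← map_sub, IsLocalRing.residue_eq_zero_iff]
      exact htriv g a
    exact h1
  have hzc : IsClosedImmersion z :=
    IsClosedImmersion.spec_of_surjective _ IsLocalRing.residue_surjective
  have hzm : Mono z := inferInstance
  have hic : IsClosedImmersion i := MorphismProperty.of_isPullback (P := @IsClosedImmersion) hi.flip
    hzc
  have him : Mono i := inferInstance
  have hσ01 : σ0 1 = 𝟙 X0 := by
    rw [← cancel_mono i, hσ0, hσ1, Category.comp_id, Category.id_comp]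
  have hσ0m : ∀ g h, σ0 (g * h) = σ0 g ≫ σ0 h := fun g h => by
    rw [← cancel_mono i, hσ0, hσmul, Category.assoc, hσ0, ← Category.assoc, ← Category.assoc, hσ0]
  have hσ0i := K50.IsoRep.isIso_act σ0 hσ01 hσ0m
  have hσ0p : ∀ g, σ0 g ≫ p0 = p0 := fun g => by
    rw [← cancel_mono z, Category.assoc, ← hi.w, ← Category.assoc, hσ0, Category.assoc, hσf,
      ← Category.assoc, hi.w, Category.assoc]
    exact congrArg (p0 ≫ ·) (hzs g)
  obtain ⟨ρ, w, hρ1, hρm, hρf, hw, hwp, hwq⟩ := K50.IsoRep.exists_action U hR s hs1 hsm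
    σ hσ1 hσmul hσf τ hτ1 hτmul hτf
  -- the point
  let V0 : K50.IsoRep.Fam fX fY z :=
    { W := X0
      p := i
      q := φ.hom ≫ j
      r := p0
      hp := hi
      hq := by
        have h1 : IsPullback φ.hom p0 q0 (𝟙 _) := IsPullback.of_horiz_isIso
          ⟨by rw [hφ, Category.comp_id]⟩
        have h2 := h1.paste_horiz hj
        rwa [Category.id_comp] at h2 }
  have hNk : IsLocallyNoetherian (Spec (CommRingCat.of (IsLocalRing.ResidueField A))) :=
    inferInstance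
  obtain ⟨x, hx, w0, hw0, hw0p, hw0q⟩ : ∃ x : Spec (CommRingCat.of (IsLocalRing.ResidueField A)) ⟶ I,
      x ≫ fI = z ∧ ∃ w0 : X0 ⟶ U.W, IsPullback w0 p0 U.r x ∧ w0 ≫ U.p = i ∧
        w0 ≫ U.q = φ.hom ≫ j := by
    obtain ⟨x, hx, w0, h1, h2, h3⟩ := hR.exi z V0
    exact ⟨x, hx, w0, h1, h2, h3⟩
  have hfix : ∀ g, x ≫ ρ g = x := fun g => by
    refine hR.uni z V0 _ _ (by rw [Category.assoc, hρf, ← Category.assoc, hx, hzs]) hx ?_
      ⟨w0, hw0, hw0p, hw0q⟩
    refine ⟨inv (σ0 g) ≫ w0 ≫ w g, ?_, ?_, ?_⟩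
    · have h1 : IsPullback (inv (σ0 g)) p0 p0 (𝟙 _) := IsPullback.of_horiz_isIso
        ⟨by rw [IsIso.inv_comp_eq, Category.comp_id, hσ0p]⟩
      have h2 := h1.paste_horiz (hw0.paste_horiz (hw g))
      rwa [Category.id_comp] at h2
    · show (inv (σ0 g) ≫ w0 ≫ w g) ≫ U.p = i
      rw [Category.assoc, Category.assoc, hwp, ← Category.assoc w0, hw0p, ← hσ0,
        IsIso.inv_hom_id_assoc]
    · show (inv (σ0 g) ≫ w0 ≫ w g) ≫ U.q = φ.hom ≫ j
      rw [Category.assoc, Category.assoc, hwq, ← Category.assoc w0, hw0q, Category.assoc, ← hτ0,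
        ← Category.assoc φ.hom, ← hφeq, Category.assoc, IsIso.inv_hom_id_assoc]
  -- smoothness
  have hEI := K697.ExtTw.enoughInjectives X0
  have hHE := K697.ExtTw.hasExt X0
  have hE := K50.ExtSplit.subsingleton_ext_one (Omega.sheaf p0) (Coh.structureModule X0) hT
  let x₀ : I := x (IsLocalRing.closedPoint (IsLocalRing.ResidueField A))
  have hsm0 : x₀ ∈ fI.smoothLocus := by
    refine K50.SmCrit.mem_smoothLocus fI x hx ?_
    intro B _ _ _ t ht htm ht0 β e e₁ he₁ he α hα hαx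
    exact K50.IsoRep.exists_lift fX fY fI U hR p0 z i hi hE B t ht htm ht0 β e e₁ he₁ he α hα
      (by rw [← Category.assoc, hαx, hx])
  let O : I.Opens := fI.smoothLocus
  have hOr : Set.range O.ι = (O : Set I) := by simp
  have hρi := K50.IsoRep.isIso_act ρ hρ1 hρm
  have hOρ : ∀ g, ρ g ⁻¹ᵁ O = O := fun g => by
    have h1 : ρ g ⁻¹ᵁ O = (ρ g ≫ fI).smoothLocus := Scheme.Hom.preimage_smoothLocus_eq (ρ g) fI
    have h2 : (fI ≫ s g).smoothLocus = fI.smoothLocus :=
      K50.IsoRep.smoothLocus_comp_isIso fI (s g)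
    have h3 : ∀ (u v : I ⟶ Spec (CommRingCat.of A)) [LocallyOfFinitePresentation u]
      [LocallyOfFinitePresentation v], u = v → u.smoothLocus = v.smoothLocus := by
      rintro u v _ _ rfl; rfl
    rw [h1, h3 _ _ (hρf g), h2]
  have hOsm : Smooth (O.ι ≫ fI) := by
    rw [← Scheme.Hom.smoothLocus_eq_top_iff, ← Scheme.Hom.preimage_smoothLocus_eq]
    exact Scheme.Opens.ι_preimage_self O
  have hrρ : ∀ g, Set.range (O.ι ≫ ρ g) ⊆ Set.range O.ι := by
    rintro g _ ⟨y, rfl⟩
    rw [hOr]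
    have h1 : O.ι y ∈ ρ g ⁻¹ᵁ O := by
      rw [hOρ, ← SetLike.mem_coe, ← hOr]
      exact ⟨y, rfl⟩
    exact h1
  have hrx : Set.range x ⊆ Set.range O.ι := by
    rintro _ ⟨y, rfl⟩
    have hy : y = IsLocalRing.closedPoint (IsLocalRing.ResidueField A) := Subsingleton.elim _ _
    rw [hy, hOr]
    exact hsm0
  let ρ' : G → (O.toScheme ⟶ O.toScheme) := fun g => IsOpenImmersion.lift O.ι (O.ι ≫ ρ g) (hrρ g)
  have hρ' : ∀ g, ρ' g ≫ O.ι = O.ι ≫ ρ g := fun g => IsOpenImmersion.lift_fac _ _ _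
  let x' : Spec (CommRingCat.of (IsLocalRing.ResidueField A)) ⟶ O.toScheme :=
    IsOpenImmersion.lift O.ι x hrx
  have hx' : x' ≫ O.ι = x := IsOpenImmersion.lift_fac _ _ _
  obtain ⟨a, ha1, ha2, ha3⟩ := K50.EqSecSch.main A G hG htriv O.toScheme (O.ι ≫ fI) ρ'
    (by rw [← cancel_mono O.ι, hρ', hρ1, Category.comp_id, Category.id_comp])
    (fun g h => by
      rw [← cancel_mono O.ι, hρ', hρm, Category.assoc, hρ', ← Category.assoc, ← Category.assoc, hρ'])
    (fun g => by rw [← Category.assoc, hρ', Category.assoc, hρf, Category.assoc])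
    x' (by rw [← Category.assoc, hx', hx])
    (fun g => by rw [← cancel_mono O.ι, Category.assoc, hρ', ← Category.assoc, hx', hfix])
  obtain ⟨Φ, h1, h2, h3⟩ := K50.IsoRep.exists_iso_of_section U s σ τ ρ w hw hwp hwq (a ≫ O.ι)
    (by rw [Category.assoc, ha1]) (fun g => by
      rw [← Category.assoc, ha3, Category.assoc, hρ', Category.assoc])
  refine ⟨Φ, h1, h2, ?_⟩
  have h4 := h3 p0 z w0 (by rw [hw0.w, ← hx', ← ha2, Category.assoc])
  rwa [hw0p, hw0q] at h4

end Groth.Agent.S18172
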