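import Groth.Statements.S18178
import Groth.Agent.FunFld.K659.BNAll
import Groth.Agent.FunFld.K659.BNEt

set_option autoImplicit false
open FunFld

namespace Groth.Agent.S18178

/-- Let `k` be an algebraically closed field of characteristic zero and `K/k` a function field of one
variable of genus `g` (the function field of a smooth projective curve of genus `g` over `k`), and
let `r, d` be natural numbers whose Brill–Noether number `ρ = g - (r+1)(g+r-d)` is nonnegative. Then
the curve carries a `g^r_d`: there is a divisor `D` of degree `d` with `ℓ(D) ≥ r + 1`. (The source
works over the complex numbers and asserts moreover that the family of such linear series has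
dimension at least `ρ`; only existence is stated here.) -/
theorem result
    (k : Type*) [Field k] [IsAlgClosed k] [CharZero k]
    (K : Type*) [Field K] [Algebra k K] (hK : FunFld.IsFunctionField k K)
    (g r d : ℕ) (hg : FunFld.genus k K = g)
    (hrho : ((r : ℤ) + 1) * ((g : ℤ) + r - d) ≤ g) :
    ∃ D : FunFld.Divisor k K, D.deg = d ∧ r + 1 ≤ FunFld.ell D := by
  refine K659.BNAll.transfer k K hK g r d hg hrho ?_
  intro k' _ _ _ T _ _ N r hN U p _ h
  exact K659.BNEt.le_of_bundle T.hom N r hN p h

end Groth.Agent.S18178
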