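import Groth.Statements.S18179
import Groth.Agent.FunFld.K670.Chain

set_option autoImplicit false
set_option linter.style.haveILetI false
set_option linter.unusedVariables false
open FunFld

namespace Groth.Agent.S18179

/-- Let `k` be an algebraically closed field of characteristic zero and `K/k` a function field of one
variable (the function field of a smooth projective curve over `k`). A `g^r_d` is a divisor `D` of
degree `d` with a subspace `V ⊆ L(D)` of dimension `r + 1`; for a place `P` and `n ≥ 0`, `V(-nP) = V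
∩ L(D - nP)` is the space of members vanishing to order at least `n` at `P`, so `dim V(-nP)` counts
the vanishing orders `m_0 < ⋯ < m_r` of `V` at `P` that are at least `n`, and the weight of `V` at
`P` is `∑_{n=1}^{d} dim V(-nP) - r(r+1)/2`. Aspects `(D_Y, V_Y)` on `K_Y` and `(D_Z, V_Z)` on `K_Z`
of a limit `g^r_d` on two components meeting in a node (a place `P` of `K_Y` and a place `Q` of
`K_Z`) are compatible there when `m_i(V_Y, P) + m_{r-i}(V_Z, Q) = d` for every `i`, equivalently
`dim V_Y(-nP) + dim V_Z(-(d+1-n)Q) = r + 1` for `0 ≤ n ≤ d + 1`. A backbone is a chain of rational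
components `Z_0, …, Z_N` (function fields `K_i` of genus `0`), `Z_i` meeting `Z_{i+1}` in a node
given by a place `B_i` of `K_i` and a place `A_{i+1}` of `K_{i+1}`, the two node places `A_i ≠ B_i`
of an inner component being distinct; each `Z_i` carries an aspect `(D_i, V_i)` of a limit `g^r_d`
and consecutive aspects are compatible at the nodes. A set `T` of indices marks the components
carrying a tail: for `i ∈ T` the aspect `V_i` has at least a cusp (`dim V_i(-2Q_i) ≥ r`) at a
further place `Q_i` of `K_i`, distinct from the node places of `Z_i`. (In the source these are the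
backbone components of a flag curve to which a chain of rational curves ending in an elliptic tail
is attached, `T` has `g` elements, and the cusp is forced by that chain.) Conclusion: `r · |T| ≤
(r+1)(d-r)`, that is, the Brill–Noether number `ρ(|T|, r, d) = |T| - (r+1)(|T| - d + r)` is
nonnegative. (The source deduces from this, by degenerating a general curve of genus `g` to a flag
curve with `g` tails, that a general curve has no `g^r_d` when `ρ < 0`; that consequence is not
stated here.) (The source states this for curves over the complex numbers.) -/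
theorem result
    (k : Type*) [Field k] [IsAlgClosed k] [CharZero k]
    (N : ℕ) (Z : Fin (N + 1) → Type*) [∀ i, Field (Z i)] [∀ i, Algebra k (Z i)]
    (hZ : ∀ i, FunFld.IsFunctionField k (Z i)) (hrat : ∀ i, FunFld.genus k (Z i) = 0)
    (d r : ℕ) (D : ∀ i, FunFld.Divisor k (Z i)) (hD : ∀ i, (D i).deg = d)
    (V : ∀ i, Submodule k (Z i)) (hV : ∀ i, V i ≤ FunFld.L (D i))
    (hVr : ∀ i, Module.finrank k ↥(V i) = r + 1)
    (A B : ∀ i, FunFld.Place k (Z i))
    (hAB : ∀ i : Fin (N + 1), 0 < (i : ℕ) → (i : ℕ) < N → A i ≠ B i)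
    (hcomp : ∀ (l : Fin N) (m : ℕ), m ≤ d + 1 →
      Module.finrank k ↥((V l.castSucc) ⊓ FunFld.L ((D l.castSucc) - Finsupp.single (B l.castSucc) ((m : ℤ)))) +
        Module.finrank k ↥((V l.succ) ⊓ FunFld.L ((D l.succ) - Finsupp.single (A l.succ) ((d : ℤ) + 1 - m))) = r + 1)
    (T : Finset (Fin (N + 1))) (Q : ∀ i, FunFld.Place k (Z i))
    (hQA : ∀ i ∈ T, 0 < (i : ℕ) → Q i ≠ A i) (hQB : ∀ i ∈ T, (i : ℕ) < N → Q i ≠ B i)
    (hcusp : ∀ i ∈ T, r ≤ Module.finrank k ↥((V i) ⊓ FunFld.L ((D i) - Finsupp.single (Q i) ((2 : ℤ))))) :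
    r * T.card + r * (r + 1) ≤ (r + 1) * d := by
  classical
  set wA : Fin (N + 1) → ℕ := fun i => ∑ n ∈ Finset.range d, Module.finrank k
    ↥((V i) ⊓ FunFld.L ((D i) - Finsupp.single (A i) ((n : ℤ) + 1))) with hwA
  set wB : Fin (N + 1) → ℕ := fun i => ∑ n ∈ Finset.range d, Module.finrank k
    ↥((V i) ⊓ FunFld.L ((D i) - Finsupp.single (B i) ((n : ℤ) + 1))) with hwB
  have c : ∀ l : Fin N, wB l.castSucc + wA l.succ = (r + 1) * d := fun l =>
    K670.Chain.sum_compat (hcomp l)
  have e0 : ∀ i : Fin (N + 1), (i : ℕ) = 0 → (i : ℕ) < N →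
      2 * wB i + 2 * r * (if i ∈ T then 1 else 0) + r * (r + 1) ≤ 2 * ((r + 1) * d) := by
    intro i _ hiN
    split_ifs with hT
    · have h := K670.Chain.sum_van_upper_cusp (hZ i) (hD i) (hV i) (hVr i)
        (Ne.symm (hQB i hT hiN)) (hcusp i hT)
      simp only [hwB]; omega
    · have h := K670.Chain.sum_van_upper (hZ i) (hD i) (hV i) (hVr i) (B i)
      simp only [hwB]; omega
  have eN : ∀ i : Fin (N + 1), (i : ℕ) = N → 0 < (i : ℕ) →
      2 * wA i + 2 * r * (if i ∈ T then 1 else 0) + r * (r + 1) ≤ 2 * ((r + 1) * d) := by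
    intro i _ hi0
    split_ifs with hT
    · have h := K670.Chain.sum_van_upper_cusp (hZ i) (hD i) (hV i) (hVr i)
        (Ne.symm (hQA i hT hi0)) (hcusp i hT)
      simp only [hwA]; omega
    · have h := K670.Chain.sum_van_upper (hZ i) (hD i) (hV i) (hVr i) (A i)
      simp only [hwA]; omega
  have m : ∀ i : Fin (N + 1), 0 < (i : ℕ) → (i : ℕ) < N →
      wA i + wB i + r * (if i ∈ T then 1 else 0) ≤ (r + 1) * d := by
    intro i hi0 hiN
    split_ifs with hT
    · have h := K670.Two.sum_add_sum_add_le_of_cusp (hZ i) (hrat i) (hD i) (hV i) (hVr i)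
        (hcusp i hT) (hAB i hi0 hiN) (Ne.symm (hQA i hT hi0)) (Ne.symm (hQB i hT hiN))
      simp only [hwA, hwB]; omega
    · have h := K670.Chain.sum_pair_le (hZ i) (hD i) (hV i) (hVr i) (hAB i hi0 hiN)
      simp only [hwA, hwB]; omega
  rcases Nat.eq_zero_or_pos N with hN | hN
  · -- a single component
    subst hN
    have hrd := K670.Chain.r_le_d (hZ 0) (hD 0) (hV 0) (hVr 0) (A 0)
    rcases Finset.eq_empty_or_nonempty T with hT | ⟨i, hi⟩
    · rw [hT, Finset.card_empty, mul_zero, zero_add, mul_comm]
      exact Nat.mul_le_mul_left _ hrd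
    · have hcard : T.card ≤ 1 := by
        have := Finset.card_le_univ T
        simpa using this
      have hi0 : i = 0 := Fin.ext (by simp)
      subst hi0
      rcases Nat.eq_zero_or_pos r with h0 | hpos
      · subst h0; simp
      · have h1 := K670.Van.van_le_add (hZ 0) (D := D 0) (V 0) (P := Q 0) (n := 2) (m := (d : ℤ) + 1)
          (by omega)
        rw [K670.Van.van_eq_zero (hZ 0) (V 0) (n := (d : ℤ) + 1) (by rw [hD 0]; linarith)] at h1
        have h2 := hcusp 0 hi
        have h3 : r + 1 ≤ d := by omega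
        calc r * T.card + r * (r + 1) ≤ r * 1 + r * (r + 1) := by
              exact Nat.add_le_add_right (Nat.mul_le_mul_left r hcard) _
          _ ≤ (r + 1) * (r + 1) := by nlinarith
          _ ≤ (r + 1) * d := Nat.mul_le_mul_left _ h3
  · exact K670.Chain.chain_total hN wA wB T r ((r + 1) * d) (r * (r + 1)) c e0 eN m

end Groth.Agent.S18179
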