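import Groth.Statements.S18183
import Groth.Agent.FunFld.K671.Backbone

set_option autoImplicit false
open FunFld

namespace Groth.Agent.S18183

/-- Let `k` be an algebraically closed field of characteristic zero and `K/k` a function field of one
variable (the function field of a smooth projective curve over `k`). A `g^r_d` is a divisor `D` of
degree `d` with a subspace `V ⊆ L(D)` of dimension `r + 1`; for a place `P` and `n ≥ 0`, `V(-nP) = V
∩ L(D - nP)` is the space of members vanishing to order at least `n` at `P`, so `dim V(-nP)` counts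
the vanishing orders `m_0 < ⋯ < m_r` of `V` at `P` that are at least `n`, and the weight of `V` at
`P` is `∑_{n=1}^{d} dim V(-nP) - r(r+1)/2`. Aspects `(D_Y, V_Y)` on `K_Y` and `(D_Z, V_Z)` on `K_Z`
of a limit `g^r_d` on two components meeting in a node (a place `P` of `K_Y` and a place `Q` of
`K_Z`) are compatible there when `m_i(V_Y, P) + m_{r-i}(V_Z, Q) = d` for every `i`, equivalently
`dim V_Y(-nP) + dim V_Z(-(d+1-n)Q) = r + 1` for `0 ≤ n ≤ d + 1`. A backbone is a chain of rational
components `Z_0, …, Z_N` (function fields `K_i` of genus `0`), `Z_i` meeting `Z_{i+1}` in a node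
given by a place `B_i` of `K_i` and a place `A_{i+1}` of `K_{i+1}`, the two node places `A_i ≠ B_i`
of an inner component being distinct; each `Z_i` carries an aspect `(D_i, V_i)` of a limit `g^r_d`
and consecutive aspects are compatible at the nodes. A set `T` of indices marks the components
carrying a tail: for `i ∈ T` the aspect `V_i` has at least a cusp (`dim V_i(-2Q_i) ≥ r`) at a
further place `Q_i` of `K_i`, distinct from the node places of `Z_i`. (In the source these are the
backbone components of a flag curve to which a chain of rational curves ending in an elliptic tail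
is attached, `T` has `g` elements, and the cusp is forced by that chain.) Let `Q'` be a place of
some `Z_i` other than its node places and other than `Q_i` when `i ∈ T`. Then `w(V_i, Q') ≤
(r+1)(d-r) - r · |T|`, that is `∑_{j=1}^{d} dim V_i(-jQ') + r · |T| + r(r+1) ≤ (r+1)d + r(r+1)/2`.
Hence, when `|T| = g` and the moving-point Brill–Noether number `ρ = 1 + g - (r+1)(g+r-d) - ∑(m_i -
i)` is `≤ 0`, a point with vanishing sequence `(m_i)`, whose weight is then at least `(r+1)(d-r) -
rg + 1`, cannot lie on a backbone component away from the nodes; the source states this as: the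
limit of the ramification point lies on an elliptic tail. (The printed argument bounds such weights
only by `(r+1)(d-r) - r(g-1)`; the sharper bound here also uses that the aspect has weight at least
`r` at a cusp.) (The source states this for curves over the complex numbers.) -/
theorem result
    (k : Type*) [Field k] [IsAlgClosed k] [CharZero k]
    (N : ℕ) (Z : Fin (N + 1) → Type*) [∀ i, Field (Z i)] [∀ i, Algebra k (Z i)]
    (hZ : ∀ i, FunFld.IsFunctionField k (Z i)) (hrat : ∀ i, FunFld.genus k (Z i) = 0)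
    (d r : ℕ) (D : ∀ i, FunFld.Divisor k (Z i)) (hD : ∀ i, (D i).deg = d)
    (V : ∀ i, Submodule k (Z i)) (hV : ∀ i, V i ≤ FunFld.L (D i))
    (hVr : ∀ i, Module.finrank k ↥(V i) = r + 1)
    (A B : ∀ i, FunFld.Place k (Z i))
    (hAB : ∀ i : Fin (N + 1), 0 < (i : ℕ) → (i : ℕ) < N → A i ≠ B i)
    (hcomp : ∀ (l : Fin N) (m : ℕ), m ≤ d + 1 →
      Module.finrank k ↥((V l.castSucc) ⊓ FunFld.L ((D l.castSucc) - Finsupp.single (B l.castSucc) ((m : ℤ)))) +
        Module.finrank k ↥((V l.succ) ⊓ FunFld.L ((D l.succ) - Finsupp.single (A l.succ) ((d : ℤ) + 1 - m))) = r + 1)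
    (T : Finset (Fin (N + 1))) (Q : ∀ i, FunFld.Place k (Z i))
    (hQA : ∀ i ∈ T, 0 < (i : ℕ) → Q i ≠ A i) (hQB : ∀ i ∈ T, (i : ℕ) < N → Q i ≠ B i)
    (hcusp : ∀ i ∈ T, r ≤ Module.finrank k ↥((V i) ⊓ FunFld.L ((D i) - Finsupp.single (Q i) ((2 : ℤ)))))
    (i : Fin (N + 1)) (Q' : FunFld.Place k (Z i)) (hQ'A : 0 < (i : ℕ) → Q' ≠ A i)
    (hQ'B : (i : ℕ) < N → Q' ≠ B i) (hQ'Q : i ∈ T → Q' ≠ Q i) :
    (∑ j ∈ Finset.range d, Module.finrank k ↥((V i) ⊓ FunFld.L ((D i) - Finsupp.single Q' ((j : ℤ) + 1)))) + r * T.card + r * (r + 1) ≤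
      (r + 1) * d + r * (r + 1) / 2 := by
  have hG := K671.Backbone.r_le_d (hZ i) (hrat i) (hD i) (hV i) (hVr i)
  have hcomp' : ∀ l : Fin N, K671.Backbone.ex (D l.castSucc) (V l.castSucc) d r (B l.castSucc) +
      K671.Backbone.ex (D l.succ) (V l.succ) d r (A l.succ) = (r + 1) * d - r * (r + 1) :=
    fun l => K671.Backbone.ex_add_ex_of_compat (hZ _) (hZ _) (hD _) (hD _) (hV _) (hV _)
      (hVr _) (hVr _) (fun m hm => hcomp l m hm)
  have hsum : ∀ (j : Fin (N + 1)) (S : Finset (FunFld.Place k (Z j))),
      ∑ P ∈ S, K671.Backbone.ex (D j) (V j) d r P ≤ (r + 1) * d - r * (r + 1) :=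
    fun j S => K671.Backbone.sum_ex_le (hZ j) (hrat j) (hD j) (hV j) (hVr j) S
  have hq : ∀ j ∈ T, r ≤ K671.Backbone.ex (D j) (V j) d r (Q j) :=
    fun j hj => K671.Backbone.le_ex_of_cusp (hZ j) (hD j) (hVr j) (Q j) (hcusp j hj)
  have hle : ∀ j : Fin (N + 1), (if 0 < (j : ℕ) then K671.Backbone.ex (D j) (V j) d r (A j) else 0) +
      (if (j : ℕ) < N then K671.Backbone.ex (D j) (V j) d r (B j) else 0) +
      (if j ∈ T then K671.Backbone.ex (D j) (V j) d r (Q j) else 0) ≤
      (r + 1) * d - r * (r + 1) := by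
    intro j
    have := K671.Backbone.four (K671.Backbone.ex (D j) (V j) d r) _ (hsum j) (A j) (B j) (Q j) (A j)
      (0 < (j : ℕ)) ((j : ℕ) < N) (j ∈ T) False (fun h0 h1 => hAB j h0 h1)
      (fun h0 h1 => (hQA j h1 h0).symm) (fun _ h => h.elim) (fun h0 h1 => (hQB j h1 h0).symm)
      (fun _ h => h.elim) (fun _ h => h.elim)
    rwa [if_neg not_false, add_zero] at this
  have h4 := K671.Backbone.four (K671.Backbone.ex (D i) (V i) d r) _ (hsum i) (A i) (B i) (Q i) Q'
      (0 < (i : ℕ)) ((i : ℕ) < N) (i ∈ T) True (fun h0 h1 => hAB i h0 h1)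
      (fun h0 h1 => (hQA i h1 h0).symm) (fun h _ => (hQ'A h).symm) (fun h0 h1 => (hQB i h1 h0).symm)
      (fun h _ => (hQ'B h).symm) (fun h _ => (hQ'Q h).symm)
  rw [if_pos trivial] at h4
  have hA : r * K671.Backbone.below T i ≤
      if 0 < (i : ℕ) then K671.Backbone.ex (D i) (V i) d r (A i) else 0 := by
    split_ifs with h
    · exact K671.Backbone.low (fun j => K671.Backbone.ex (D j) (V j) d r (A j))
        (fun j => K671.Backbone.ex (D j) (V j) d r (B j))
        (fun j => K671.Backbone.ex (D j) (V j) d r (Q j)) T hcomp' hle hq i i.2 h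
    · have : (i : ℕ) = 0 := by omega
      rw [this, K671.Backbone.below_zero, mul_zero]
  have hB : r * K671.Backbone.above T i ≤
      if (i : ℕ) < N then K671.Backbone.ex (D i) (V i) d r (B i) else 0 := by
    split_ifs with h
    · exact K671.Backbone.high (fun j => K671.Backbone.ex (D j) (V j) d r (A j))
        (fun j => K671.Backbone.ex (D j) (V j) d r (B j))
        (fun j => K671.Backbone.ex (D j) (V j) d r (Q j)) T hcomp' hle hq (N - 1 - i) i i.2 (by omega)
    · have : K671.Backbone.above T i = 0 := by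
        unfold K671.Backbone.above
        rw [Finset.card_eq_zero, Finset.filter_eq_empty_iff]
        intro j _
        have := j.2
        have := i.2
        omega
      rw [this, mul_zero]
  have hC : r * (if i ∈ T then 1 else 0) ≤
      if i ∈ T then K671.Backbone.ex (D i) (V i) d r (Q i) else 0 := by
    split_ifs with h
    · rw [mul_one]; exact hq i h
    · simp
  have hT := K671.Backbone.card_eq T i
  have hex := K671.Backbone.ex_add (hZ i) (hD i) (hV i) (hVr i) Q'
  have h2 := K671.Limit.two_mul_half r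
  change K671.Limit.wt (D i) (V i) Q' d + r * T.card + r * (r + 1) ≤ _
  rw [hT, mul_add, mul_add]
  omega

end Groth.Agent.S18183
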