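import Groth.Statements.S18188
import Mathlib.Algebra.Field.GeomSum
import Mathlib.Tactic

set_option autoImplicit false
universe u
open OrbRR

namespace Groth.Agent.S18188

/-- second difference of a finite sequence vanish + periodic + sum zero → zero -/
theorem lin_zero {K : Type u} [Field K] (N : ℕ) (hN : (N : K) ≠ 0) (g : ℕ → K)
    (h2 : ∀ j, j + 2 ≤ N → g (j + 2) - 2 * g (j + 1) + g j = 0)
    (hper : g N = g 0) (hsum : ∑ j ∈ Finset.range N, g j = 0) : ∀ j, j ≤ N → g j = 0 := by
  have hN0 : N ≠ 0 := by rintro rfl; simp at hN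
  have hlin : ∀ j, j ≤ N → g j = g 0 + j * (g 1 - g 0) := by
    intro j
    induction j using Nat.strong_induction_on with
    | _ j ih =>
      intro hj
      match j, ih, hj with
      | 0, _, _ => simp
      | 1, _, _ => simp
      | (k + 2), ih, hj =>
        have h := h2 k hj
        rw [ih k (by omega) (by omega), ih (k + 1) (by omega) (by omega)] at h
        have : g (k + 2) = 2 * (g 0 + ↑(k + 1) * (g 1 - g 0)) - (g 0 + ↑k * (g 1 - g 0)) := by
          linear_combination h
        rw [this]; push_cast; ring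
  have hb : g 1 - g 0 = 0 := by
    have := hlin N le_rfl
    rw [hper] at this
    have h3 : (N : K) * (g 1 - g 0) = 0 := by linear_combination -this
    exact (mul_eq_zero.mp h3).resolve_left hN
  have hconst : ∀ j, j ≤ N → g j = g 0 := by
    intro j hj
    rw [hlin j hj, hb, mul_zero, add_zero]
  have h0 : g 0 = 0 := by
    rw [Finset.sum_congr rfl (fun j hj => hconst j (Finset.mem_range.mp hj).le), Finset.sum_const,
      Finset.card_range, nsmul_eq_mul] at hsum
    exact (mul_eq_zero.mp hsum).resolve_left hN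
  intro j hj
  rw [hconst j hj, h0]

/-- Let K be a field in which 6 ≠ 0, let j < N be natural numbers (so N ≥ 1), and let ζ ∈ K be a
primitive N-th root of unity. Then the sum over i = 1, …, N − 1 of ζ^{ij} / (2 − ζ^i − ζ^{−i})
equals j(j − N)/2 + (N² − 1)/12. (The published setting is characteristic zero; the identity is
stated here over any field of characteristic different from 2 and 3, where the published proof
applies unchanged: a field containing a primitive N-th root of unity has characteristic prime to N,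
and each denominator 2 − ζ^i − ζ^{−i} = −(1 − ζ^i)²/ζ^i with 0 < i < N is nonzero. In
characteristics 2 and 3 the right-hand side has no meaning.) -/
theorem result (K : Type u) [Field K] (h6 : (6 : K) ≠ 0)
    (N j : ℕ) (hj : j < N) (ζ : K) (hζ : IsPrimitiveRoot ζ N) :
    ∑ i ∈ Finset.Ioo 0 N, ζ ^ (i * j) / (2 - ζ ^ i - (ζ ^ i)⁻¹) =
      (j : K) * ((j : K) - (N : K)) / 2 + ((N : K) ^ 2 - 1) / 12 := by
  have hN0 : N ≠ 0 := by omega
  have : NeZero N := ⟨hN0⟩
  have hNK : (N : K) ≠ 0 := hζ.neZero'.out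
  have h2 : (2 : K) ≠ 0 := fun h => h6 (by rw [show (6 : K) = 2 * 3 by norm_num, h, zero_mul])
  have h3 : (3 : K) ≠ 0 := fun h => h6 (by rw [show (6 : K) = 2 * 3 by norm_num, h, mul_zero])
  have h12 : (12 : K) ≠ 0 := by rw [show (12 : K) = 2 * 6 by norm_num]; exact mul_ne_zero h2 h6
  have hζ0 : ζ ≠ 0 := hζ.ne_zero hN0
  have hz1 : ∀ i ∈ Finset.Ioo 0 N, ζ ^ i ≠ 1 := fun i hi => by
    rw [Finset.mem_Ioo] at hi
    exact hζ.pow_ne_one_of_pos_of_lt hi.1.ne' hi.2
  have hden : ∀ i ∈ Finset.Ioo 0 N, (2 - ζ ^ i - (ζ ^ i)⁻¹) ≠ 0 := fun i hi h => by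
    have hi0 : ζ ^ i ≠ 0 := pow_ne_zero _ hζ0
    have : (1 - ζ ^ i) ^ 2 = 0 := by
      have h' : (2 - ζ ^ i - (ζ ^ i)⁻¹) * ζ ^ i = 0 := by rw [h, zero_mul]
      rw [sub_mul, inv_mul_cancel₀ hi0] at h'
      linear_combination -h'
    exact hz1 i hi (by linear_combination -(pow_eq_zero_iff (two_ne_zero)).mp this)
  set f : ℕ → K := fun j => ∑ i ∈ Finset.Ioo 0 N, ζ ^ (i * j) / (2 - ζ ^ i - (ζ ^ i)⁻¹) with hf
  set c : ℕ → K := fun j => (j : K) * ((j : K) - (N : K)) / 2 + ((N : K) ^ 2 - 1) / 12 with hc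
  -- geometric sums
  have hgeom : ∀ k, 0 < k → k < N → ∑ i ∈ Finset.Ioo 0 N, ζ ^ (i * k) = -1 := by
    intro k hk0 hkN
    have h1 : ζ ^ k ≠ 1 := hζ.pow_ne_one_of_pos_of_lt hk0.ne' hkN
    have h := geom_sum_eq h1 N
    have e : (ζ ^ k) ^ N = 1 := by rw [← pow_mul, mul_comm, pow_mul, hζ.pow_eq_one, one_pow]
    rw [e, sub_self, zero_div] at h
    have hr : Finset.range N = insert 0 (Finset.Ioo 0 N) := by
      ext x; simp only [Finset.mem_range, Finset.mem_insert, Finset.mem_Ioo]; omega
    rw [hr, Finset.sum_insert (by simp)] at h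
    rw [pow_zero] at h
    have : ∀ i, (ζ ^ k) ^ i = ζ ^ (i * k) := fun i => by rw [← pow_mul, mul_comm]
    simp only [this] at h
    linear_combination h
  have hsumf : ∑ j ∈ Finset.range N, f j = 0 := by
    simp only [hf]
    rw [Finset.sum_comm]
    refine Finset.sum_eq_zero fun i hi => ?_
    rw [← Finset.sum_div]
    have h1 := hz1 i hi
    have h := geom_sum_eq h1 N
    have e : (ζ ^ i) ^ N = 1 := by rw [← pow_mul, mul_comm, pow_mul, hζ.pow_eq_one, one_pow]
    rw [e, sub_self, zero_div] at h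
    simp only [pow_mul]
    rw [h, zero_div]
  have hsumc : ∑ j ∈ Finset.range N, c j = 0 := by
    have key : ∀ n : ℕ, 12 * ∑ j ∈ Finset.range n, c j =
        (n : K) * (n - 1) * (2 * n - 1) - 3 * N * (n * (n - 1)) + n * (N ^ 2 - 1) := by
      intro n
      induction n with
      | zero => simp
      | succ n ih =>
        rw [Finset.sum_range_succ, mul_add, ih]
        simp only [hc]
        have e2 : (12 : K) * ((n : K) * ((n : K) - (N : K)) / 2 + ((N : K) ^ 2 - 1) / 12) =
          6 * (n * (n - N)) + (N ^ 2 - 1) := by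
          field_simp
          ring
        rw [e2]; push_cast; ring
    have := key N
    have h0 : 12 * ∑ j ∈ Finset.range N, c j = 0 := by rw [this]; ring
    exact (mul_eq_zero.mp h0).resolve_left h12
  have hfper : f N = f 0 := by
    simp only [hf]
    refine Finset.sum_congr rfl fun i _ => ?_
    rw [mul_zero, pow_zero, mul_comm, pow_mul, hζ.pow_eq_one, one_pow]
  have hcper : c N = c 0 := by simp [hc]
  have hd2f : ∀ j, j + 2 ≤ N → f (j + 2) - 2 * f (j + 1) + f j = 1 := by
    intro j hj
    by_cases hjN : j + 1 < N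
    · have := hgeom (j + 1) (by omega) hjN
      have e : f (j + 2) - 2 * f (j + 1) + f j = - ∑ i ∈ Finset.Ioo 0 N, ζ ^ (i * (j + 1)) := by
        simp only [hf]
        rw [Finset.mul_sum, ← Finset.sum_sub_distrib, ← Finset.sum_add_distrib, ← Finset.sum_neg_distrib]
        refine Finset.sum_congr rfl fun i hi => ?_
        have hd := hden i hi
        have hi0 : ζ ^ i ≠ 0 := pow_ne_zero _ hζ0
        have e1 : ζ ^ (i * (j + 2)) = ζ ^ (i * (j + 1)) * ζ ^ i := by rw [← pow_add]; congr 1
        have e2 : ζ ^ (i * j) = ζ ^ (i * (j + 1)) * (ζ ^ i)⁻¹ := by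
          rw [eq_mul_inv_iff_mul_eq₀ hi0, ← pow_add]; congr 1
        rw [e1, e2, mul_div_assoc', ← sub_div, ← add_div, div_eq_iff hd]
        ring
      rw [e, this, neg_neg]
    · omega
  have hd2c : ∀ j, j + 2 ≤ N → c (j + 2) - 2 * c (j + 1) + c j = 1 := by
    intro j _
    simp only [hc]
    push_cast
    field_simp
    ring
  have := lin_zero N hNK (fun j => f j - c j) (fun j hj => by
      have a := hd2f j hj
      have b := hd2c j hj
      linear_combination a - b) (by simp only [hfper, hcper]) (by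
      rw [Finset.sum_sub_distrib, hsumf, hsumc, sub_zero]) j hj.le
  exact sub_eq_zero.mp this

end Groth.Agent.S18188
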