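import Groth.Statements.S18189
import Groth.Agent.S18188
import Mathlib.Algebra.Field.GeomSum
import Mathlib.Analysis.Complex.Basic
import Mathlib.RingTheory.RootsOfUnity.Complex
import Mathlib.Tactic

set_option autoImplicit false
open OrbRR

namespace Groth.Agent.S18189

open scoped ComplexOrder ComplexConjugate in
theorem den_nonneg (z : ℂ) (hz : ‖z‖ = 1) : 0 ≤ (2 - z - z⁻¹ : ℂ) := by
  have h1 : z⁻¹ = conj z := by
    rw [Complex.inv_def, Complex.normSq_eq_norm_sq, hz]; simp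
  have h2 : (2 - z - z⁻¹ : ℂ) = ((2 - 2 * z.re : ℝ) : ℂ) := by
    rw [h1]
    have := Complex.add_conj z
    push_cast at this ⊢
    linear_combination -this
  rw [h2]
  have h3 : z.re ≤ 1 := hz ▸ Complex.re_le_norm z
  exact_mod_cast (by linarith : (0 : ℝ) ≤ 2 - 2 * z.re)

open scoped ComplexOrder in
theorem geom_nonneg (N : ℕ) (z : ℂ) (hz : z ^ N = 1) : 0 ≤ ∑ i ∈ Finset.range N, z ^ i := by
  by_cases h1 : z = 1
  · subst h1
    simp
  · rw [geom_sum_eq h1, hz, sub_self, zero_div]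

open scoped ComplexOrder in
theorem main (N : ℕ) (hN : 0 < N) (ζ : ℂ)
    (hζ : IsPrimitiveRoot ζ N) (m : ℕ) :
    0 ≤ ∑ i ∈ Finset.range N,
        ((i : ℂ) * ((i : ℂ) - (N : ℂ)) / 2 + ((N : ℂ) ^ 2 - 1) / 12) / (N : ℂ) * ζ ^ (m * i) := by
  have hnorm : ∀ k, ‖ζ ^ k‖ = 1 := fun k => by
    rw [norm_pow, hζ.norm'_eq_one hN.ne', one_pow]
  have e : ∑ i ∈ Finset.range N,
        ((i : ℂ) * ((i : ℂ) - (N : ℂ)) / 2 + ((N : ℂ) ^ 2 - 1) / 12) / (N : ℂ) * ζ ^ (m * i) =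
      ∑ k ∈ Finset.Ioo 0 N, (2 - ζ ^ k - (ζ ^ k)⁻¹)⁻¹ * (N : ℂ)⁻¹ * ∑ i ∈ Finset.range N, (ζ ^ (k + m)) ^ i := by
    simp only [Finset.mul_sum]
    rw [Finset.sum_comm]
    refine Finset.sum_congr rfl fun i hi => ?_
    rw [← Groth.Agent.S18188.result ℂ (by norm_num) N i (Finset.mem_range.mp hi) ζ hζ, Finset.sum_div,
      Finset.sum_mul]
    refine Finset.sum_congr rfl fun k _ => ?_
    rw [← pow_mul, add_mul, pow_add]
    rw [div_eq_mul_inv, div_eq_mul_inv]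
    ring
  rw [e]
  refine Finset.sum_nonneg fun k _ => ?_
  refine mul_nonneg (mul_nonneg (inv_nonneg.mpr (den_nonneg _ (hnorm k))) ?_) ?_
  · exact inv_nonneg.mpr (Nat.cast_nonneg N)
  · refine geom_nonneg N _ ?_
    rw [← pow_mul, mul_comm, pow_mul, hζ.pow_eq_one, one_pow]

/-- Let N ≥ 1 be a natural number, let ζ ∈ ℂ be a primitive N-th root of unity, and put f(i) = i(i −
N)/2 + (N² − 1)/12 for 0 ≤ i < N. For every natural number m the complex number ε_m = (1/N)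
∑_{i=0}^{N−1} f(i) ζ^{mi}, an eigenvalue of the symmetric circulant N × N matrix with (i, j) entry
f(j − i)/N, is real and nonnegative. -/
theorem result (N : ℕ) (hN : 0 < N) (ζ : ℂ)
    (hζ : IsPrimitiveRoot ζ N) (m : ℕ) :
    (∑ i ∈ Finset.range N,
        ((i : ℂ) * ((i : ℂ) - (N : ℂ)) / 2 + ((N : ℂ) ^ 2 - 1) / 12) / (N : ℂ) * ζ ^ (m * i)).im = 0 ∧
    0 ≤ (∑ i ∈ Finset.range N,
        ((i : ℂ) * ((i : ℂ) - (N : ℂ)) / 2 + ((N : ℂ) ^ 2 - 1) / 12) / (N : ℂ) * ζ ^ (m * i)).re := by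
  have h := main N hN ζ hζ m
  rw [Complex.nonneg_iff] at h
  exact ⟨h.2.symm, h.1⟩

end Groth.Agent.S18189
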