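import Groth.Statements.S18190
import Groth.Agent.S18188
import Groth.Agent.S18189
import Mathlib.Analysis.Complex.Basic
import Mathlib.RingTheory.RootsOfUnity.Complex
import Mathlib.Tactic

set_option autoImplicit false
open OrbRR

namespace Groth.Agent.S18190

/-- the function `f`. -/
noncomputable def fN (N : ℕ) (x : ZMod N) : ℝ :=
  ((((x).val : ℝ) * (((x).val : ℝ) - (N : ℝ))) / 2 + ((N : ℝ) ^ 2 - 1) / 12) / (N : ℝ)

theorem fN_neg (N : ℕ) [NeZero N] (x : ZMod N) : fN N (-x) = fN N x := by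
  unfold fN
  by_cases hx : x = 0
  · subst hx; simp
  · rw [ZMod.neg_val, if_neg hx]
    have : x.val ≤ N := (ZMod.val_lt x).le
    push_cast [this]
    ring

open scoped ComplexOrder ComplexConjugate in
theorem main (N : ℕ) [NeZero N] (x : ZMod N →₀ ℝ) :
    0 ≤ x.sum fun i xi ↦ x.sum fun j xj ↦ xi * fN N (j - i) * xj := by
  have hN : N ≠ 0 := NeZero.ne N
  obtain ⟨ζ, hζ⟩ : ∃ ζ : ℂ, IsPrimitiveRoot ζ N := ⟨_, Complex.isPrimitiveRoot_exp N hN⟩
  have hnorm : ∀ k, ‖ζ ^ k‖ = 1 := fun k => by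
    rw [norm_pow, hζ.norm'_eq_one hN, one_pow]
  have hζ0 : ζ ≠ 0 := hζ.ne_zero hN
  -- formula for fN (j - i)
  have hval : ∀ (k : ℕ) (i j : ZMod N), ζ ^ (k * (j - i).val) = conj (ζ ^ (k * i.val)) * ζ ^ (k * j.val) := by
    intro k i j
    have hc : conj (ζ ^ (k * i.val)) = (ζ ^ (k * i.val))⁻¹ := by
      rw [Complex.inv_def, Complex.normSq_eq_norm_sq, hnorm]; simp
    have h1 : ζ ^ (j - i).val * ζ ^ i.val = ζ ^ j.val := by
      rw [← pow_add]
      have e : ((j - i).val + i.val) % N = j.val := by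
        rw [← ZMod.val_add, sub_add_cancel]
      rw [← e]
      conv_lhs => rw [← Nat.div_add_mod ((j - i).val + i.val) N]
      rw [pow_add, pow_mul, hζ.pow_eq_one, one_pow, one_mul]
    rw [hc, eq_inv_mul_iff_mul_eq₀ (pow_ne_zero _ hζ0), mul_comm k i.val, mul_comm k j.val,
      mul_comm k, pow_mul, pow_mul, pow_mul, ← mul_pow, mul_comm (ζ ^ i.val), h1]
  have hf : ∀ i j : ZMod N, ((fN N (j - i) : ℝ) : ℂ) =
      ∑ k ∈ Finset.Ioo 0 N, (2 - ζ ^ k - (ζ ^ k)⁻¹)⁻¹ * (N : ℂ)⁻¹ * (conj (ζ ^ (k * i.val)) * ζ ^ (k * j.val)) := by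
    intro i j
    have h := Groth.Agent.S18188.result ℂ (by norm_num) N (j - i).val (ZMod.val_lt _) ζ hζ
    unfold fN
    push_cast
    rw [← h, Finset.sum_div]
    refine Finset.sum_congr rfl fun k _ => ?_
    rw [hval]
    rw [div_eq_mul_inv, div_eq_mul_inv]
    ring
  have e : ((x.sum fun i xi ↦ x.sum fun j xj ↦ xi * fN N (j - i) * xj : ℝ) : ℂ) =
      ∑ k ∈ Finset.Ioo 0 N, (2 - ζ ^ k - (ζ ^ k)⁻¹)⁻¹ * (N : ℂ)⁻¹ *
        (conj (∑ i ∈ x.support, (x i : ℂ) * ζ ^ (k * i.val)) * (∑ j ∈ x.support, (x j : ℂ) * ζ ^ (k * j.val))) := by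
    have e1 : ∀ k, (conj (∑ i ∈ x.support, (x i : ℂ) * ζ ^ (k * i.val)) * (∑ j ∈ x.support, (x j : ℂ) * ζ ^ (k * j.val))) =
        ∑ i ∈ x.support, ∑ j ∈ x.support, (x i : ℂ) * (x j : ℂ) * (conj (ζ ^ (k * i.val)) * ζ ^ (k * j.val)) := by
      intro k
      rw [map_sum, Finset.sum_mul_sum]
      refine Finset.sum_congr rfl fun a _ => Finset.sum_congr rfl fun b _ => ?_
      rw [map_mul, Complex.conj_ofReal]; ring
    simp only [e1, Finset.mul_sum]
    rw [Finset.sum_comm]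
    simp only [Finsupp.sum]
    push_cast
    refine Finset.sum_congr rfl fun a _ => ?_
    rw [Finset.sum_comm]
    refine Finset.sum_congr rfl fun b _ => ?_
    rw [hf, Finset.mul_sum, Finset.sum_mul]
    refine Finset.sum_congr rfl fun k _ => ?_
    ring
  have h0 : (0 : ℂ) ≤ ((x.sum fun i xi ↦ x.sum fun j xj ↦ xi * fN N (j - i) * xj : ℝ) : ℂ) := by
    rw [e]
    refine Finset.sum_nonneg fun k _ => ?_
    refine mul_nonneg (mul_nonneg (inv_nonneg.mpr (Groth.Agent.S18189.den_nonneg _ (hnorm k))) ?_) ?_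
    · exact inv_nonneg.mpr (Nat.cast_nonneg N)
    · rw [← Complex.normSq_eq_conj_mul_self]
      exact_mod_cast Complex.normSq_nonneg _
  exact_mod_cast h0

/-- Let N ≥ 1 and let f : ℤ/Nℤ → ℚ be f(x) = x(x − N)/2 + (N² − 1)/12, where x is read as its
representative with 0 ≤ x < N. The real N × N matrix indexed by ℤ/Nℤ whose (i, j) entry is f(j −
i)/N, a symmetric circulant matrix, is positive semidefinite. -/
theorem result (N : ℕ) [NeZero N] :
    (Matrix.of fun i j : ZMod N =>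
        ((((j - i).val : ℝ) * (((j - i).val : ℝ) - (N : ℝ))) / 2 + ((N : ℝ) ^ 2 - 1) / 12) / (N : ℝ)).PosSemidef := by
  refine ⟨?_, fun x => ?_⟩
  · ext i j
    have := fN_neg N (j - i)
    rw [neg_sub] at this
    rw [Matrix.conjTranspose_apply, Matrix.of_apply, Matrix.of_apply, star_trivial]
    exact this
  · exact main N x

end Groth.Agent.S18190
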