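import Groth.Statements.S18200
import Groth.Agent.LocImm.K947.Applications
import Groth.Agent.S0385

set_option autoImplicit false
universe u
open LocImm

namespace Groth.Agent.S18200

open CategoryTheory AlgebraicGeometry in
/-- Let `f : X ⟶ Y` be a separated morphism of Noetherian schemes that is essentially quasi-finite:
essentially of finite type with every fibre the spectrum of a finite algebra over the residue field
(equivalently, `f` locally quasi-finite in the fibrewise sense, which carries no finite-type
condition). Then `f` factors as a localizing immersion `i : X ⟶ Z` (localizing and injective on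
points, `Z` Noetherian) followed by a finite morphism `h : Z ⟶ Y`. -/
theorem result {X Y : Scheme.{u}} [IsNoetherian X] [IsNoetherian Y] (f : X ⟶ Y) [IsSeparated f] [EssFT.EssFiniteType f] [LocallyQuasiFinite f] :
    ∃ (Z : Scheme.{u}) (i : X ⟶ Z) (h : Z ⟶ Y), IsNoetherian Z ∧ LocImm.IsLocImmersion i ∧ IsFinite h ∧ i ≫ h = f := by
  obtain ⟨Z, k, p, hZ, hk, hs, hf, hq, rfl⟩ := K947.Factor.fac_of_essFiniteType f
  have hr : Set.range k ⊆ Set.range p.quasiFiniteLocus.ι := by
    rw [Scheme.Opens.range_ι]
    rintro _ ⟨x, rfl⟩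
    exact K947.Applications.quasiFiniteAt_of_comp hk.1 x ((k ≫ p).quasiFiniteAt x)
  have hl : IsOpenImmersion.lift p.quasiFiniteLocus.ι k hr ≫ p.quasiFiniteLocus.ι = k :=
    IsOpenImmersion.lift_fac _ _ _
  have hN := K947.TwoModels.isNoetherian_opens p.quasiFiniteLocus
  obtain ⟨T, j, π, hj, -, hπ, e⟩ := Groth.Agent.S0385.result (p.quasiFiniteLocus.ι ≫ p)
  have hk' : LocImm.IsLocImmersion (IsOpenImmersion.lift p.quasiFiniteLocus.ι k hr) := by
    apply K947.TwoModels.isLocImmersion_of_comp
      (K947.Immersion.isLocImmersion_of_isOpenImmersion p.quasiFiniteLocus.ι)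
    rw [hl]
    exact hk
  exact ⟨T, IsOpenImmersion.lift p.quasiFiniteLocus.ι k hr ≫ j, π,
    K947.TwoModels.isNoetherian_of_finiteType π,
    K947.Immersion.IsLocImmersion.comp hk' (K947.Immersion.isLocImmersion_of_isOpenImmersion j), hπ,
    by rw [Category.assoc, e, reassoc_of% hl]⟩

end Groth.Agent.S18200
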