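import Groth.Statements.S18201
import Groth.Agent.LocImm.K947.Applications

set_option autoImplicit false
universe u
open LocImm

namespace Groth.Agent.S18201

open CategoryTheory AlgebraicGeometry in
/-- Let `P` be a property of morphisms of schemes such that (α) for every separated, essentially
finite-type `f : X ⟶ Y` of Noetherian schemes and every localizing immersion `i : W ⟶ X` (`W`
Noetherian; localizing and injective on points), `P f` implies `P (i ≫ f)`; and (β) for every
separated finite-type `f : X ⟶ Y` of Noetherian schemes, (i) `P f` holds whenever `P` holds for each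
composite `Spec O_{X,x} ⟶ X ⟶ Y`, and (ii) the set of `x` for which that composite satisfies `P` is
open. Then (i) and (ii) hold for every separated, essentially finite-type `f : X ⟶ Y` of Noetherian
schemes, and any such `f` with `P f` factors as a localizing immersion `X ⟶ Z` (`Z` Noetherian)
followed by a separated morphism of finite type `h : Z ⟶ Y` satisfying `P`. -/
theorem result (P : MorphismProperty Scheme.{u})
    (hα : ∀ {W X Y : Scheme.{u}} [IsNoetherian W] [IsNoetherian X] [IsNoetherian Y] (i : W ⟶ X) (f : X ⟶ Y) [IsSeparated f] [EssFT.EssFiniteType f], LocImm.IsLocImmersion i → P f → P (i ≫ f))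
    (hβ₁ : ∀ {X Y : Scheme.{u}} [IsNoetherian X] [IsNoetherian Y] (f : X ⟶ Y) [IsSeparated f] [LocallyOfFiniteType f], (∀ x : X, P (X.fromSpecStalk x ≫ f)) → P f)
    (hβ₂ : ∀ {X Y : Scheme.{u}} [IsNoetherian X] [IsNoetherian Y] (f : X ⟶ Y) [IsSeparated f] [LocallyOfFiniteType f], IsOpen {x : X | P (X.fromSpecStalk x ≫ f)})
    {X Y : Scheme.{u}} [IsNoetherian X] [IsNoetherian Y] (f : X ⟶ Y) [IsSeparated f] [EssFT.EssFiniteType f] :
    ((∀ x : X, P (X.fromSpecStalk x ≫ f)) → P f) ∧ IsOpen {x : X | P (X.fromSpecStalk x ≫ f)} ∧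
      (P f → ∃ (Z : Scheme.{u}) (i : X ⟶ Z) (h : Z ⟶ Y), IsNoetherian Z ∧ LocImm.IsLocImmersion i ∧ IsSeparated h ∧ LocallyOfFiniteType h ∧ QuasiCompact h ∧ P h ∧ i ≫ h = f) := by
  obtain ⟨Z, k, p, hZ, hk, hs, hf, hq, rfl⟩ := K947.Factor.fac_of_essFiniteType f
  have hpE : EssFT.EssFiniteType p :=
    { toLocallyEssFiniteType := K947.TwoModels.locallyEssFiniteType_of_locallyOfFiniteType p
      toQuasiCompact := hq }
  have hiff := fun x => K947.Applications.localizable_iff P hα p hk x
  let U : Z.Opens := ⟨{z : Z | P (Z.fromSpecStalk z ≫ p)}, hβ₂ p⟩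
  have hN := K947.TwoModels.isNoetherian_opens U
  have hUE : EssFT.EssFiniteType (U.ι ≫ p) :=
    { toLocallyEssFiniteType := K947.TwoModels.locallyEssFiniteType_of_locallyOfFiniteType _
      toQuasiCompact := inferInstance }
  have hPU : P (U.ι ≫ p) := by
    apply hβ₁
    intro u
    exact (K947.Applications.localizable_iff P hα p
      (K947.Immersion.isLocImmersion_of_isOpenImmersion U.ι) u).2 u.2
  have hlift : (∀ x : X, P (X.fromSpecStalk x ≫ k ≫ p)) →
      ∃ k' : X ⟶ U, LocImm.IsLocImmersion k' ∧ k' ≫ U.ι = k := by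
    intro h
    have hr : Set.range k ⊆ Set.range U.ι := by
      rw [Scheme.Opens.range_ι]
      rintro _ ⟨x, rfl⟩
      exact (hiff x).1 (h x)
    have hl : IsOpenImmersion.lift U.ι k hr ≫ U.ι = k := IsOpenImmersion.lift_fac _ _ _
    refine ⟨IsOpenImmersion.lift U.ι k hr, ?_, hl⟩
    apply K947.TwoModels.isLocImmersion_of_comp
      (K947.Immersion.isLocImmersion_of_isOpenImmersion U.ι)
    rw [hl]
    exact hk
  refine ⟨fun h => ?_, ?_, fun h => ?_⟩
  · obtain ⟨k', hk', e⟩ := hlift h
    have := hα k' (U.ι ≫ p) hk' hPU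
    rwa [reassoc_of% e] at this
  · have h1 : {x : X | P (X.fromSpecStalk x ≫ k ≫ p)} = k ⁻¹' {z : Z | P (Z.fromSpecStalk z ≫ p)} :=
      Set.ext fun x => hiff x
    rw [h1]
    exact (hβ₂ p).preimage k.continuous
  · obtain ⟨k', hk', e⟩ := hlift fun x =>
      hα _ _ (K947.Applications.isLocalizing_fromSpecStalk X x) h
    exact ⟨U, k', U.ι ≫ p, hN, hk', inferInstance, inferInstance, inferInstance, hPU,
      by rw [reassoc_of% e]⟩

end Groth.Agent.S18201
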