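import Groth.Statements.S18206
import Groth.Agent.LocImm.K947.Chart
import Groth.Agent.Divis.IdealComap

set_option autoImplicit false
universe u
open LocImm

namespace Groth.Agent.S18206

open CategoryTheory AlgebraicGeometry in
/-- Let `f : X ⟶ Y` be a localizing immersion (localizing and injective on points) of Noetherian
schemes. Then every quasi-coherent ideal sheaf `I` on `X` is the inverse image ideal `J·O_X` of some
quasi-coherent ideal sheaf `J` on `Y` (all such ideals are coherent, the schemes being Noetherian). -/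
theorem result {X Y : Scheme.{u}} [IsNoetherian X] [IsNoetherian Y]
    (f : X ⟶ Y) (hf : LocImm.IsLocImmersion f) (I : X.IdealSheafData) : ∃ J : Y.IdealSheafData, J.comap f = I := by
  refine ⟨I.map f, ?_⟩
  have h := (K947.Chart.isLocImmersion_iff f).mp hf
  choose V hfx hV hW hloc using h
  refine Scheme.IdealSheafData.ext_of_iSup_eq_top (fun x : X => ⟨f ⁻¹ᵁ V x, hW x⟩) ?_ ?_
  · refine top_le_iff.mp fun x _ => ?_
    exact TopologicalSpace.Opens.mem_iSup.mpr ⟨x, hfx x⟩
  · intro x
    rw [Groth.Agent.Divis.IdealComap.ideal_comap (I.map f) f ⟨V x, hV x⟩ ⟨f ⁻¹ᵁ V x, hW x⟩ le_rfl,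
      Scheme.IdealSheafData.ideal_map I f ⟨V x, hV x⟩ (hW x)]
    obtain ⟨S, hS⟩ := hloc x
    let _ := (f.app (V x)).hom.toAlgebra
    have := IsLocalization.map_under S (Γ(X, f ⁻¹ᵁ V x)) (I.ideal ⟨f ⁻¹ᵁ V x, hW x⟩)
    rw [Scheme.Hom.appLE_eq_app]
    exact this

end Groth.Agent.S18206
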