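import Groth.Statements.S18216
import Groth.Agent.AbVar.K527.Rows
import Groth.Agent.AbVar.K527.PresRow

set_option autoImplicit false
universe u
open CategoryTheory CategoryTheory.Limits MonoidalCategory CartesianMonoidalCategory MonObj GrpObj AlgebraicGeometry
open AbVar

namespace Groth.Agent.S18216

/-- Let k be an algebraically closed field (any characteristic), A an abelian variety over k (a proper
smooth k-group scheme with geometrically connected fibres) of dimension g, (A^t, φ) a given dual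
abelian variety of A for the fppf topology with A^t itself an abelian variety, and P an invertible
module on A ×_k A^t whose class is a Poincaré class; for a k-point α of A^t write P_α for the
restriction of P to A × {α}. Let L be an ample invertible O_A-module with an inverse L' (L ⊗ L' ≅
O_A), negative powers of L meaning powers of L', and l its class; for b ≥ 1 let b_A : A → A be
multiplication by b. For a coherent O_A-module F and a rational x = a/b (a an integer, b ≥ 1) the
Q-twisted sheaf F⟨x l⟩ stands for the module b_A^*F ⊗ L^{ab}; it is said to satisfy IT(0) when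
h^i(A, b_A^*F ⊗ L^{ab} ⊗ P_α) = 0 for every i ≥ 1 and every k-point α of A^t, and to be GV when for
every i ≥ 1 the k-points α with h^i(A, b_A^*F ⊗ L^{ab} ⊗ P_α) > 0 lie in a closed subset of A^t of
dimension less than g − i + 1 (the i-th cohomological support locus has codimension at least i).
Tensor products of Q-twisted sheaves add the twists: F⟨x l⟩ ⊗ G⟨y l⟩ = (F ⊗ G)⟨(x + y) l⟩. Let F be
a coherent O_A-module and G a finite locally free O_A-module, x = a/b and y = c/d rationals (b, d ≥
1). If F⟨x l⟩ is GV and G⟨y l⟩ satisfies IT(0), then (F ⊗ G)⟨(x + y) l⟩ satisfies IT(0), in the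
representation x + y = (ad + bc)/(bd): h^i(A, (bd)_A^*(F ⊗ G) ⊗ L^{(ad + bc)bd} ⊗ P_α) = 0 for every
i ≥ 1 and every k-point α of A^t. -/
theorem result (k : Type u) [Field k] [IsAlgClosed k]
    (A At : Over (Spec (CommRingCat.of k))) [GrpObj A] [IsProper A.hom] [Smooth A.hom] [GeometricallyConnected A.hom]
    [GrpObj At] [IsProper At.hom] [Smooth At.hom] [GeometricallyConnected At.hom]
    (φ : ∀ T : Over (Spec (CommRingCat.of k)), PicF.Cl (PicF.XT A.hom T) → (T ⟶ At))
    (hφ : AbDual.IsDualAV Scheme.fppfPrecoverage A At φ)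
    (P : (pullback A.hom At.hom).Modules) (hP : PicF.IsInvertible P)
    (hPξ : AbDual.IsPoincareCl A At φ (PicF.cl P))
    (g : ℕ) (hg : topologicalKrullDim ↥A.left = g)
    (L L' : A.left.Modules) (hL : CohB1.IsAmple L) (hLL' : Nonempty (CohB1.tensorMod L L' ≅ Coh.structureModule A.left))
    (F G : A.left.Modules) (hF : Coh.IsCoh F) (hG : FlatMod.IsFinLocFree G)
    (a c : ℤ) (b d : ℕ) (hb : 0 < b) (hd : 0 < d)
    (hFgv : (∀ i : ℕ, 1 ≤ i → ∃ Z : Set ↥At.left, IsClosed Z ∧
        topologicalKrullDim ↥Z < ((g - i + 1 : ℕ) : WithBot ℕ∞) ∧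
        ∀ α : 𝟙_ (Over (Spec (CommRingCat.of k))) ⟶ At, 0 < W4c5cohrankabvar.hAt k P (W4c5cohrankabvar.twist A F L L' b (a * b)) α i → Set.range α.left.base ⊆ Z))
    (hGit : (∀ (i : ℕ) (α : 𝟙_ (Over (Spec (CommRingCat.of k))) ⟶ At), 1 ≤ i → W4c5cohrankabvar.hAt k P (W4c5cohrankabvar.twist A G L L' d (c * d)) α i = 0)) :
    (∀ (i : ℕ) (α : 𝟙_ (Over (Spec (CommRingCat.of k))) ⟶ At), 1 ≤ i → W4c5cohrankabvar.hAt k P (W4c5cohrankabvar.twist A (CohB1.tensorMod F G) L L' (b * d) ((a * d + b * c) * ((b * d : ℕ) : ℤ))) α i = 0) := by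
  have := K732.AV.geomInt A
  have := K732.AV.geomInt At
  have hN : IsLocallyNoetherian A.left := LocallyOfFiniteType.isLocallyNoetherian A.hom
  have hℓ : K527.ITGV.IsAmp (Grpsch.PicGrp.mk L hL.1) := ⟨L, hL, rfl⟩
  have hG' : Coh.IsCoh G := PerfA.CohSerre.isCoh_of_isFinLocFree hG
  have hFG : Coh.IsCoh (CohB1.tensorMod F G) :=
    K527.Rows.isCoh_of_mc (by
      rw [Fga.PicMon.mc_tensor]
      exact K527.Seq.CO.mul (K527.Cls.CO.mk' hF) (K527.Cls.CO.mk' hG'))
  rw [K527.Rows.GV_twist_iff hφ hP hPξ g hL hLL' hF] at hFgv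
  rw [K527.Rows.IT_twist_iff hφ hP hPξ hL hLL' hG'] at hGit
  rw [K527.Rows.IT_twist_iff hφ hP hPξ hL hLL' hFG, Fga.PicMon.mc_tensor]
  exact K527.PresRow.IT_mul_twist hℓ hg (K527.Cls.CO.mk' hF) (K527.LocFree.LF.mk' hG) hb hd hFgv hGit

end Groth.Agent.S18216
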