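import Groth.Statements.S18217
import Groth.Agent.AbVar.K527.Rows

set_option autoImplicit false
universe u
open CategoryTheory CategoryTheory.Limits MonoidalCategory CartesianMonoidalCategory MonObj GrpObj AlgebraicGeometry
open AbVar

namespace Groth.Agent.S18217

/-- Let k be an algebraically closed field (any characteristic), A an abelian variety over k (a proper
smooth k-group scheme with geometrically connected fibres) of dimension g, (A^t, φ) a given dual
abelian variety of A for the fppf topology with A^t itself an abelian variety, and P an invertible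
module on A ×_k A^t whose class is a Poincaré class; for a k-point α of A^t write P_α for the
restriction of P to A × {α}. Let L be an ample invertible O_A-module with an inverse L' (L ⊗ L' ≅
O_A), negative powers of L meaning powers of L', and l its class; for b ≥ 1 let b_A : A → A be
multiplication by b. For a coherent O_A-module F and a rational x = a/b (a an integer, b ≥ 1) the
Q-twisted sheaf F⟨x l⟩ stands for the module b_A^*F ⊗ L^{ab}; it is said to satisfy IT(0) when
h^i(A, b_A^*F ⊗ L^{ab} ⊗ P_α) = 0 for every i ≥ 1 and every k-point α of A^t, and to be GV when for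
every i ≥ 1 the k-points α with h^i(A, b_A^*F ⊗ L^{ab} ⊗ P_α) > 0 lie in a closed subset of A^t of
dimension less than g − i + 1 (the i-th cohomological support locus has codimension at least i). Let
f : B → A be an isogeny of abelian varieties (a homomorphism which is finite and surjective), B also
equipped with a dual abelian variety (B^t, ψ) and an invertible module Q on B ×_k B^t whose class is
a Poincaré class, Q_β its restriction to B × {β}; f^*L is ample on B with inverse f^*L', and the
pull-back of a Q-twisted sheaf is f^*(F⟨x l⟩) = (f^*F)⟨x f^*l⟩. Then for a coherent O_A-module F and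
a rational x = a/b (b ≥ 1), F⟨x l⟩ satisfies IT(0) on A if and only if (f^*F)⟨x f^*l⟩ satisfies
IT(0) on B, that is h^i(B, b_B^*f^*F ⊗ (f^*L)^{ab} ⊗ Q_β) = 0 for every i ≥ 1 and every k-point β of
B^t. -/
theorem result (k : Type u) [Field k] [IsAlgClosed k]
    (A At : Over (Spec (CommRingCat.of k))) [GrpObj A] [IsProper A.hom] [Smooth A.hom] [GeometricallyConnected A.hom]
    [GrpObj At] [IsProper At.hom] [Smooth At.hom] [GeometricallyConnected At.hom]
    (φ : ∀ T : Over (Spec (CommRingCat.of k)), PicF.Cl (PicF.XT A.hom T) → (T ⟶ At))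
    (hφ : AbDual.IsDualAV Scheme.fppfPrecoverage A At φ)
    (P : (pullback A.hom At.hom).Modules) (hP : PicF.IsInvertible P)
    (hPξ : AbDual.IsPoincareCl A At φ (PicF.cl P))
    (B Bt : Over (Spec (CommRingCat.of k))) [GrpObj B] [IsProper B.hom] [Smooth B.hom] [GeometricallyConnected B.hom]
    [GrpObj Bt] [IsProper Bt.hom] [Smooth Bt.hom] [GeometricallyConnected Bt.hom]
    (ψ : ∀ T : Over (Spec (CommRingCat.of k)), PicF.Cl (PicF.XT B.hom T) → (T ⟶ Bt))
    (hψ : AbDual.IsDualAV Scheme.fppfPrecoverage B Bt ψ)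
    (Q : (pullback B.hom Bt.hom).Modules) (hQ : PicF.IsInvertible Q)
    (hQξ : AbDual.IsPoincareCl B Bt ψ (PicF.cl Q))
    (f : B ⟶ A) [IsMonHom f] [IsFinite f.left] [Surjective f.left]
    (L L' : A.left.Modules) (hL : CohB1.IsAmple L) (hLL' : Nonempty (CohB1.tensorMod L L' ≅ Coh.structureModule A.left))
    (F : A.left.Modules) (hF : Coh.IsCoh F) (a : ℤ) (b : ℕ) (hb : 0 < b) :
    (∀ (i : ℕ) (α : 𝟙_ (Over (Spec (CommRingCat.of k))) ⟶ At), 1 ≤ i → W4c5cohrankabvar.hAt k P (W4c5cohrankabvar.twist A F L L' b (a * b)) α i = 0) ↔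
    (∀ (i : ℕ) (α : 𝟙_ (Over (Spec (CommRingCat.of k))) ⟶ Bt), 1 ≤ i → W4c5cohrankabvar.hAt k Q (W4c5cohrankabvar.twist B ((Scheme.Modules.pullback f.left).obj F) ((Scheme.Modules.pullback f.left).obj L) ((Scheme.Modules.pullback f.left).obj L') b (a * b)) α i = 0) := by
  have := K732.AV.geomInt A
  have := K732.AV.geomInt At
  have := K732.AV.geomInt B
  have := K732.AV.geomInt Bt
  have hℓ : K527.ITGV.IsAmp (Grpsch.PicGrp.mk L hL.1) := ⟨L, hL, rfl⟩
  have hfL : CohB1.IsAmple ((Scheme.Modules.pullback f.left).obj L) := Sga5.AmpleFib.isAmple_pullback f.left hL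
  have hfLL' : Nonempty (CohB1.tensorMod ((Scheme.Modules.pullback f.left).obj L)
      ((Scheme.Modules.pullback f.left).obj L') ≅ Coh.structureModule B.left) :=
    K527.Rows.nonempty_pullback f.left hLL'
  rw [K527.Rows.IT_twist_iff hφ hP hPξ hL hLL' hF, K527.Rows.IT_twist_iff hψ hQ hQξ hfL hfLL'
    (FormalB.PullCoh.isCoh_pullback f.left hF)]
  have h1 := K527.Rows.pmo_twist f b (Fga.PicMon.mc F) (Grpsch.PicGrp.mk L hL.1) (a * b)
  have h2 := K527.AVIso.IT_iff f hℓ ((K527.Cls.CO.mk' hF).pm ((𝟙 A) ^ b).left |>.mul_ic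
    ((Grpsch.PicGrp.mk L hL.1) ^ (a * b))).qc
  exact h2.symm.trans (by rw [h1]; rfl)

end Groth.Agent.S18217
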