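import Groth.Statements.S18220
import Groth.Agent.AbVar.K527.Syz
import Groth.Agent.AbVar.K527.FreeFin

set_option autoImplicit false
universe u
open CategoryTheory CategoryTheory.Limits MonoidalCategory CartesianMonoidalCategory MonObj GrpObj AlgebraicGeometry
open AbVar

namespace Groth.Agent.S18220

attribute [-instance] Groth.Agent.Ega3B.LeraySheaf.hasSheafifySh Groth.Agent.Ega3B.LeraySheaf.isGrothendieckAbelianSh
  Groth.Agent.Ega3B.LeraySheaf.hasExtSh

/-- Let k be an algebraically closed field (any characteristic), A an abelian variety over k (a proper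
smooth k-group scheme with geometrically connected fibres) of dimension g, (A^t, φ) a given dual
abelian variety of A for the fppf topology with A^t itself an abelian variety, and P an invertible
module on A ×_k A^t whose class is a Poincaré class; for a k-point α of A^t write P_α for the
restriction of P to A × {α}. Let L be an ample invertible O_A-module with an inverse L' (L ⊗ L' ≅
O_A), negative powers of L meaning powers of L', and l its class; for b ≥ 1 let b_A : A → A be
multiplication by b. For a coherent O_A-module F and a rational x = a/b (a an integer, b ≥ 1) the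
Q-twisted sheaf F⟨x l⟩ stands for the module b_A^*F ⊗ L^{ab}; it is said to satisfy IT(0) when
h^i(A, b_A^*F ⊗ L^{ab} ⊗ P_α) = 0 for every i ≥ 1 and every k-point α of A^t, and to be GV when for
every i ≥ 1 the k-points α with h^i(A, b_A^*F ⊗ L^{ab} ⊗ P_α) > 0 lie in a closed subset of A^t of
dimension less than g − i + 1 (the i-th cohomological support locus has codimension at least i). Let
d ≥ 1 with L^{⊗d} globally generated, its evaluation map given as an epimorphism ev from a free
module onto L^{⊗d} inducing a bijection on global sections, and M_d = ker ev the kernel bundle of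
L^{⊗d}. Let F be a coherent O_A-module such that F ⊗ L' is GV (for every i ≥ 1 the k-points α with
h^i(A, F ⊗ L' ⊗ P_α) > 0 lie in a closed subset of A^t of dimension less than g − i + 1), and t ≥ 1
such that M_d⟨(1/t) l⟩ satisfies IT(0): h^i(A, t_A^*M_d ⊗ L^t ⊗ P_α) = 0 for every i ≥ 1 and every
α, t_A being multiplication by t. Then M_d^{⊗t} ⊗ F satisfies IT(0): h^i(A, M_d^{⊗t} ⊗ F ⊗ P_α) = 0
for every i ≥ 1 and every α. (In the text the hypothesis is that the basepoint-freeness threshold
ε_1(l) is less than 1/t and the conclusion is drawn for all large d; the threshold enters the proof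
only through the IT(0) condition on M_d assumed here, which holds for large d by the relation κ_1 =
ε_1/(1 − ε_1) between the thresholds of the ideal of a point and of the kernel bundle, quoted from
the literature; this row is the statement for a fixed d with that condition.) -/
theorem result (k : Type u) [Field k] [IsAlgClosed k]
    (A At : Over (Spec (CommRingCat.of k))) [GrpObj A] [IsProper A.hom] [Smooth A.hom] [GeometricallyConnected A.hom]
    [GrpObj At] [IsProper At.hom] [Smooth At.hom] [GeometricallyConnected At.hom]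
    (φ : ∀ T : Over (Spec (CommRingCat.of k)), PicF.Cl (PicF.XT A.hom T) → (T ⟶ At))
    (hφ : AbDual.IsDualAV Scheme.fppfPrecoverage A At φ)
    (P : (pullback A.hom At.hom).Modules) (hP : PicF.IsInvertible P)
    (hPξ : AbDual.IsPoincareCl A At φ (PicF.cl P))
    (g : ℕ) (hg : topologicalKrullDim ↥A.left = g)
    (L L' : A.left.Modules) (hL : CohB1.IsAmple L) (hLL' : Nonempty (CohB1.tensorMod L L' ≅ Coh.structureModule A.left))
    (d : ℕ) (hd : 1 ≤ d)
    (J : Type u) (ev : (SheafOfModules.free J : A.left.Modules) ⟶ CohB1.tensorPow L d) [Epi ev]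
    (hev : Function.Bijective (Sheaf.H.map ((SheafOfModules.toSheaf A.left.ringCatSheaf).map ev) 0))
    (F : A.left.Modules) (hF : Coh.IsCoh F)
    (hFgv : (∀ i : ℕ, 1 ≤ i → ∃ Z : Set ↥At.left, IsClosed Z ∧
        topologicalKrullDim ↥Z < ((g - i + 1 : ℕ) : WithBot ℕ∞) ∧
        ∀ α : 𝟙_ (Over (Spec (CommRingCat.of k))) ⟶ At, 0 < W4c5cohrankabvar.hAt k P (CohB1.tensorMod F L') α i → Set.range α.left.base ⊆ Z))
    (t : ℕ) (ht : 1 ≤ t)
    (hM : (∀ (i : ℕ) (α : 𝟙_ (Over (Spec (CommRingCat.of k))) ⟶ At), 1 ≤ i → W4c5cohrankabvar.hAt k P (W4c5cohrankabvar.twist A (kernel ev) L L' t ((t : ℕ) : ℤ)) α i = 0)) :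
    (∀ (i : ℕ) (α : 𝟙_ (Over (Spec (CommRingCat.of k))) ⟶ At), 1 ≤ i → W4c5cohrankabvar.hAt k P (CohB1.tensorMod (CohB1.tensorPow (kernel ev) t) F) α i = 0) := by
  have := K732.AV.geomInt A
  have := K732.AV.geomInt At
  have hN : IsLocallyNoetherian A.left := LocallyOfFiniteType.isLocallyNoetherian A.hom
  have hint : IsIntegral A.left := GeometricallyIntegral.isIntegral_of_subsingleton A.hom
  have hℓ : K527.ITGV.IsAmp (Grpsch.PicGrp.mk L hL.1) := ⟨L, hL, rfl⟩
  let _ : A.left.Over (Spec (CommRingCat.of k)) := ⟨A.hom⟩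
  have hpr : IsProper (A.left ↘ Spec (CommRingCat.of k)) := inferInstanceAs (IsProper A.hom)
  have hLd : PicF.IsInvertible (CohB1.tensorPow L d) := Fdesc.LocGen.isInvertible_tensorPow hL.1 d
  have hK : FlatMod.IsFinLocFree (kernel ev) := K527.FreeFin.lf_kernel k hLd ev hev.1
  have hKc : Coh.IsCoh (kernel ev) := PerfA.CohSerre.isCoh_of_isFinLocFree hK
  have hK' : K527.LocFree.LF (Fga.PicMon.mc (kernel ev)) := K527.LocFree.LF.mk' hK
  have hL' : Fga.PicMon.mc L' = K527.Cls.ic _ (Grpsch.PicGrp.mk L hL.1)⁻¹ :=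
    K527.Rows.mc_inv (K527.Cls.ic_mk hL.1).symm hLL'
  have hFL : Fga.PicMon.mc (CohB1.tensorMod F L') =
      Fga.PicMon.mc F * K527.Cls.ic _ (Grpsch.PicGrp.mk L hL.1)⁻¹ := by
    rw [Fga.PicMon.mc_tensor, hL']
  have hFLc : Coh.IsCoh (CohB1.tensorMod F L') := K527.Rows.isCoh_of_mc (by
    rw [hFL]
    exact (K527.Cls.CO.mk' hF).mul_ic _)
  rw [K527.Rows.GV_row_iff hφ hP hPξ hℓ g hFLc, hFL] at hFgv
  rw [K527.Rows.IT_twist_iff hφ hP hPξ hL hLL' hKc] at hM
  have h1 := K527.Syz.IT_pow_mul hℓ hg hK' (K527.Cls.CO.mk' hF) ht hM hFgv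
  have h2 : Fga.PicMon.mc (CohB1.tensorMod (CohB1.tensorPow (kernel ev) t) F) =
      Fga.PicMon.mc (kernel ev) ^ t * Fga.PicMon.mc F := by
    rw [Fga.PicMon.mc_tensor, K527.Syz.mc_tensorPow']
  have h3 : Coh.IsCoh (CohB1.tensorMod (CohB1.tensorPow (kernel ev) t) F) :=
    K527.Rows.isCoh_of_mc (by
      rw [h2]
      exact K527.Seq.CO.mul (K527.Syz.LF.pow hK' t).co (K527.Cls.CO.mk' hF))
  rw [K527.Rows.IT_row_iff hφ hP hPξ hℓ h3, h2]
  exact h1

end Groth.Agent.S18220
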