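import Groth.Statements.S18222
import Groth.Agent.AbVar.K132.GreenFin
import Groth.Agent.S18221
import Groth.Agent.S17501

set_option autoImplicit false
universe u
open CategoryTheory CategoryTheory.Limits MonoidalCategory CartesianMonoidalCategory MonObj GrpObj AlgebraicGeometry
open AbVar

namespace Groth.Agent.S18222

/-- Let k be an algebraically closed field (any characteristic) and X a simple abelian variety over k of
dimension g ≥ 1: a proper smooth k-group scheme with geometrically connected fibres whose only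
geometrically integral closed k-subgroup schemes are the trivial subgroup and X itself. Let L be an
ample invertible O_X-module which is globally generated, its evaluation map H^0(X, L) ⊗ O_X → L
given as an epimorphism ev from a free module inducing a bijection on global sections, and let M_L =
ker ev be the syzygy (kernel) bundle. Then M_L is slope-stable of dimension g with respect to the
polarization L. -/
theorem result (k : Type u) [Field k] [IsAlgClosed k]
    (X : Over (Spec (CommRingCat.of k))) [GrpObj X] [IsProper X.hom] [Smooth X.hom] [GeometricallyConnected X.hom]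
    (g : ℕ) (hg : topologicalKrullDim ↥X.left = g) (hg1 : 1 ≤ g)
    (hsimple : ∀ (B : Over (Spec (CommRingCat.of k))) [GrpObj B] [GeometricallyIntegral B.hom] (i : B ⟶ X) [IsMonHom i]
      [IsClosedImmersion i.left], Subsingleton ↥B.left ∨ IsIso i)
    (L : X.left.Modules) (hL : CohB1.IsAmple L)
    (J : Type u) (ev : (SheafOfModules.free J : X.left.Modules) ⟶ L) [Epi ev]
    (hev : Function.Bijective (Sheaf.H.map ((SheafOfModules.toSheaf X.left.ringCatSheaf).map ev) 0)) :
    @ShStab.IsMuStable k _ X.left ⟨X.hom⟩ L (kernel ev) g := by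
  have hint : IsIntegral X.left := K528.Irr.isIntegral_of_av X
  have hgr : GeometricallyReduced X.hom := Groth.Agent.Sga3C.GeomRedPerf.geometricallyReduced_of_isReduced X.hom
  have hgir : GeometricallyIrreducible X.hom :=
    Groth.Agent.Fdesc.GeomAlgClosed.geometricallyIrreducible_of_irreducibleSpace X.hom
  have hgi : GeometricallyIntegral X.hom :=
    GeometricallyIntegral.of_geometricallyReduced_of_geometricallyIrreducible X.hom
  let _ : X.left.Over (Spec (CommRingCat.of k)) := ⟨X.hom⟩
  have hp : IsProper (X.left ↘ (Spec (CommRingCat.of k))) := inferInstanceAs (IsProper X.hom)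
  have hs : Smooth (X.left ↘ (Spec (CommRingCat.of k))) := inferInstanceAs (Smooth X.hom)
  have hgr' : GeometricallyReduced (X.left ↘ (Spec (CommRingCat.of k))) := hgr
  have hgc' : GeometricallyConnected (X.left ↘ (Spec (CommRingCat.of k))) :=
    inferInstanceAs (GeometricallyConnected X.hom)
  let ev' : Groth.Agent.S18223.Fr X.left J ⟶ L := ev
  have hepi : Epi ev' := ‹Epi ev›
  have hev' : Function.Bijective (ev'.app ⊤) := by
    let f : Coh.HH X.left (Groth.Agent.S18223.Fr X.left J) 0 → Coh.HH X.left L 0 :=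
      Sheaf.H.map ((SheafOfModules.toSheaf X.left.ringCatSheaf).map ev') 0
    have hf : Function.Bijective f := hev
    have h1 : (fun y => ev'.app ⊤ (Groth.Agent.CurvesB.HZero.equivAdd (Groth.Agent.S18223.Fr X.left J) y)) =
        fun y => Groth.Agent.CurvesB.HZero.equivAdd L (f y) :=
      funext fun y => (Groth.Agent.CurvesB.HZero.equivAdd_map ev' y).symm
    have h2 : Function.Bijective (fun y => Groth.Agent.CurvesB.HZero.equivAdd L (f y)) :=
      (Groth.Agent.CurvesB.HZero.equivAdd L).bijective.comp hf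
    rw [← h1] at h2
    exact (Function.Bijective.of_comp_iff _
      (Groth.Agent.CurvesB.HZero.equivAdd (Groth.Agent.S18223.Fr X.left J)).bijective).mp h2
  have hL1 : PicF.IsInvertible L := hL.1
  have hcohL : Coh.IsCoh L := Groth.Agent.Models.TrivGeom.isCoh_of_isInvertible hL1
  have hfin : Module.Finite k (Coh.HH X.left L 0) := Groth.Agent.S0002.result k X.left L hcohL 0
  have hJ : Finite J := Groth.Agent.S18223.finite_index k L J ev' hev'.injective
  have hJ' : Fintype J := Fintype.ofFinite J
  have h0 : Module.finrank k (Coh.HH X.left (Coh.structureModule X.left) 0) = 1 := Groth.Agent.S1536.result k X.left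
  have hbij : Function.Bijective (Groth.Agent.Sga67.Sec.appS ev' (⊤ : X.left.Opens)) := hev'
  have hcard : Module.finrank k (Coh.HH X.left L 0) = Fintype.card J := K132.GreenMain.card_eq h0 ev' hbij
  have hne0 : Fintype.card J ≠ 0 := K132.GreenFin.card_ne_zero J hL1 ev'
  have hnt : Nontrivial (Coh.HH X.left L 0) :=
    Module.nontrivial_of_finrank_pos (R := k) (by rw [hcard]; omega)
  have hchi : K524.Chi.chi (X := X) (Groth.Agent.Grpsch.PicGrp.mk L hL1) = (Fintype.card J : ℤ) := by
    rw [K132.GreenAV.chi_eq_finrank hL hnt]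
    exact_mod_cast hcard
  have hne1 : Fintype.card J ≠ 1 := K132.GreenFin.card_ne_one hg1 hg hL1 J ev' hchi
  obtain ⟨ρ, hρ⟩ : ∃ ρ, Fintype.card J = ρ + 1 := ⟨Fintype.card J - 1, by omega⟩
  have hρ1 : 1 ≤ ρ := by omega
  have hchi' : K524.Chi.chi (X := X) (Groth.Agent.Grpsch.PicGrp.mk L hL1) = (ρ : ℤ) + 1 := by
    rw [hchi, hρ]
    push_cast
    rfl
  have hE := K132.GreenHilb.rank_kernel hL1 J ev' hρ
  obtain ⟨pO, hpO⟩ := K847.HilbBasic.exists_hilbPoly k hL1
    (Groth.Agent.Models.TrivGeom.isCoh_of_isInvertible (K132.GreenHilb.isInvertible_structureModule (X := X.left)))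
  have hNoeth : IsNoetherian X.left := Groth.Agent.VarietyA.TwistExist.isNoetherian k X.left
  have hkc : Coh.IsCoh (kernel ev') := K132.GreenHilb.isCoh_ker hL1 J ev'
  obtain ⟨pE, hpE⟩ := K847.HilbBasic.exists_hilbPoly k hL1 hkc
  refine Groth.Agent.S18221.result k X.left g hg1 hg L hL (kernel ev') ρ hρ1 hE pO pE hpO hpE ?_
  intro r hr hrρ G G' hG hinv pG hpG hcond Er hEr
  obtain ⟨hG', hmk⟩ := K132.GreenFin.isInvertible_of_inverse hG hinv
  have hfin' : Module.Finite k (Coh.HH X.left G' 0) :=
    Groth.Agent.S0002.result k X.left G' (Groth.Agent.Models.TrivGeom.isCoh_of_isInvertible hG') 0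
  suffices hle : Module.finrank k (Coh.HH X.left G' 0) ≤ r from
    K132.GreenMain.vanish_of_finrank hL1 ev' hbij.1 hEr hG' hle
  rcases subsingleton_or_nontrivial (Coh.HH X.left G' 0) with hsub | hnt'
  · rw [Module.finrank_zero_of_subsingleton]
    omega
  by_cases hO : Nonempty (G' ≅ Coh.structureModule X.left)
  · obtain ⟨e⟩ := hO
    rw [Groth.Agent.CurvesC.DegIso.finrank_congr k e 0, h0]
    omega
  have hamp : CohB1.IsAmple G' := Groth.Agent.S18229.result k X hsimple G' hG' hnt' hO
  obtain ⟨Φ, hΦ⟩ := K132.GreenPoly.exists_hilb hg (Groth.Agent.Grpsch.PicGrp.mk G' hG')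
    (Groth.Agent.Grpsch.PicGrp.mk L hL1)
  have hroots := Groth.Agent.S17501.result k X G' hG' 0
    (fun j hj => K511.AmpleVan.vanish X G' hamp j (Nat.pos_of_ne_zero hj)) hnt' L hL Φ
    (fun n => (hΦ n).trans (K132.GreenAV.chi_modules hG' hL1 n))
  refine K132.GreenAV.finrank_le hg1 hg hL1 hamp hnt' hG hmk hr hrρ hchi' hΦ hroots.1 hroots.2 hpG ?_
  have hcO : pO.coeff (g - 1) = 0 := K132.GreenAV.coeff_unit hg1 hg hL1 hpO
  have hcE : pE.coeff (g - 1) = - ((g : ℚ) * ((ρ : ℚ) + 1)) := by
    rw [K132.GreenAV.coeff_kernel hg1 hg hL1 hpO J ev' hpE hρ, hchi']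
    push_cast
    rfl
  have hfac : (0 : ℚ) < ((g - 1).factorial : ℚ) := by exact_mod_cast (g - 1).factorial_pos
  unfold StabCat.alpha at hcond
  rw [hcO, hcE] at hcond
  have h3 : ((g - 1).factorial : ℚ) * ((r : ℚ) * (- ((g : ℚ) * ((ρ : ℚ) + 1)))) ≤
      ((g - 1).factorial : ℚ) * ((ρ : ℚ) * pG.coeff (g - 1)) := by
    nlinarith [hcond]
  exact le_of_mul_le_mul_left h3 hfac

end Groth.Agent.S18222
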