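import Groth.Statements.S18230
import Groth.Agent.S18225
import Groth.Agent.S1841
import Groth.Agent.Vanish.K909.NefIff
import Groth.Agent.Variety.K424.NakMain
import Groth.Agent.Variety.K427.KleimanNef
import Groth.Agent.AbVar.K527.Rows
import Groth.Agent.Divis.NormAmple

set_option autoImplicit false
universe u
open CategoryTheory CategoryTheory.Limits MonoidalCategory CartesianMonoidalCategory MonObj GrpObj AlgebraicGeometry
open AbVar

namespace Groth.Agent.S18230

section aux

open Groth.Agent.Grpsch.PicGrp Groth.Agent.Grpsch.Cube Groth.Agent.Fga.PicMon K527.Cls K527.ITGV K518.Phi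

variable {k : Type u} [Field k] [IsAlgClosed k] {A : Over (Spec (CommRingCat.of k))} [GrpObj A] [IsProper A.hom]
  [GeometricallyIntegral A.hom]

omit [IsAlgClosed k] [GrpObj A] [GeometricallyIntegral A.hom] in
/-- The pull-back of a nef class times an ample class is ample. -/
theorem isAmp_pull_mul (f : A ⟶ A) {L : A.left.Modules} (hL : CohB1.IsAmple L)
    {N : A.left.Modules} (hN : PicF.IsInvertible N) (hnef : K432.NefBasic.Nef A.hom N) (m : ℕ) (hm : 0 < m) :
    IsAmp (pl f (mk N hN) * (mk L hL.1) ^ m) := by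
  let _ : A.left.Over (Spec (CommRingCat.of k)) := ⟨A.hom⟩
  have hp : IsProper (A.left ↘ (Spec (CommRingCat.of k))) := ‹IsProper A.hom›
  obtain ⟨d, hd⟩ := EtpbcA.CdFinDim.exists_dim_le (A.left ↘ (Spec (CommRingCat.of k)))
  have h1 := K427.KleimanNef.nef_pullback (k := k) (X := A.left) (W := A.left) f.left (Over.w f) N hN hnef
  have hN' := Fdesc.LocGen.isInvertible_pullback f.left hN
  have hLm : CohB1.IsAmple (CohB1.tensorPow L m) := Divis.NormAmple.isAmple_tensorPow hL hm
  have h2 := K909.Kleiman.isAmple_tensorPow_tensor k (K424.NakMain.nak k) A.left d hd _ _ h1 hN' hLm 1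
  refine ⟨_, h2, ?_⟩
  have e1 : mk _ h2.1 = mk _ hN' ^ 1 * mk L hL.1 ^ m := by
    rw [← mk_tensorPow hN', ← mk_tensorPow hL.1, mk_mul_mk]
  rw [e1, pow_one]
  congr 1

/-- `IT(0)` for ample classes. -/
theorem IT_of_isAmp {c : Pic A.left} (h : IsAmp c) : IT (ic _ c) := by
  intro i hi κ hκ
  rw [← map_mul, mul_comm]
  exact (h.mul_inv hκ).van hi

omit [IsAlgClosed k] [IsProper A.hom] [GeometricallyIntegral A.hom] in
theorem e_zero (N : A.left.Modules) (ℓ : Pic A.left) :
    pmo ((𝟙 A) ^ 1) (mc N) * ic _ (ℓ ^ ((0 : ℤ) * (1 : ℕ))) = mc N := by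
  rw [pow_one, zero_mul, zpow_zero, map_one, _root_.mul_one]
  exact pmo_id _

/-- The generic vanishing input: for a nef `N` and `c, d > 0` the class `d^* N · L^{cd}` satisfies `IT(0)`. -/
theorem IT_pos {L : A.left.Modules} (hL : CohB1.IsAmple L) {N : A.left.Modules} (hN : PicF.IsInvertible N)
    (hnef : K432.NefBasic.Nef A.hom N) {c : ℤ} (hc : 0 < c) {d : ℕ} (hd : 0 < d) :
    IT (pmo ((𝟙 A) ^ d) (mc N) * ic _ (mk L hL.1 ^ (c * (d : ℤ)))) := by
  obtain ⟨m, rfl⟩ := Int.eq_ofNat_of_zero_le hc.le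
  have hm : 0 < m * d := Nat.mul_pos (by exact_mod_cast hc) hd
  have h3 := IT_of_isAmp (isAmp_pull_mul ((𝟙 A) ^ d) hL hN hnef (m * d) hm)
  have e2 : pmo ((𝟙 A) ^ d) (mc N) * ic _ (mk L hL.1 ^ ((m : ℤ) * (d : ℤ))) =
      ic _ (pl ((𝟙 A) ^ d) (mk N hN) * mk L hL.1 ^ (m * d)) := by
    rw [map_mul, ← pmo_ic, ic_mk, ← Int.natCast_mul, zpow_natCast]
  rwa [e2]

end aux

-- only keeps the elaborated statement syntactically equal to the frozen one
attribute [-instance] CategoryTheory.catToReflQuiver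

/-- Let k be an algebraically closed field (any characteristic), A an abelian variety over k (a proper
smooth k-group scheme with geometrically connected fibres) of dimension g, (A^t, φ) a given dual
abelian variety of A for the fppf topology with A^t itself an abelian variety, and P an invertible
module on A ×_k A^t whose class is a Poincaré class, P_α its restriction to A × {α} for a k-point α
of A^t. Let N be an invertible O_A-module which is nef: (N · C) = χ(O_C ⊗ N) − χ(O_C) ≥ 0 for every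
integral closed subscheme C ⊆ A of dimension one. Then N is a GV sheaf: for every i ≥ 1 the k-points
α of A^t with h^i(A, N ⊗ P_α) > 0 lie in a closed subset of A^t of dimension less than g − i + 1,
i.e. the i-th cohomological support locus of N has codimension at least i. -/
theorem result (k : Type u) [Field k] [IsAlgClosed k]
    (A At : Over (Spec (CommRingCat.of k))) [GrpObj A] [IsProper A.hom] [Smooth A.hom] [GeometricallyConnected A.hom]
    [GrpObj At] [IsProper At.hom] [Smooth At.hom] [GeometricallyConnected At.hom]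
    (φ : ∀ T : Over (Spec (CommRingCat.of k)), PicF.Cl (PicF.XT A.hom T) → (T ⟶ At))
    (hφ : AbDual.IsDualAV Scheme.fppfPrecoverage A At φ)
    (P : (pullback A.hom At.hom).Modules) (hP : PicF.IsInvertible P)
    (hPξ : AbDual.IsPoincareCl A At φ (PicF.cl P))
    (g : ℕ) (hg : topologicalKrullDim ↥A.left = g)
    (N : A.left.Modules) (hN : PicF.IsInvertible N)
    (hnef : ∀ C : A.left.IdealSheafData, IsIntegral C.subscheme → topologicalKrullDim (C.support : Set ↥A.left) = 1 →
      0 ≤ @Curv2.euler k _ A.left ⟨A.hom⟩ (CohB1.tensorMod (ClSub.quotMod C) N) - @Curv2.euler k _ A.left ⟨A.hom⟩ (ClSub.quotMod C)) :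
    (∀ i : ℕ, 1 ≤ i → ∃ Z : Set ↥At.left, IsClosed Z ∧
        topologicalKrullDim ↥Z < ((g - i + 1 : ℕ) : WithBot ℕ∞) ∧
        ∀ α : 𝟙_ (Over (Spec (CommRingCat.of k))) ⟶ At, 0 < W4c5cohrankabvar.hAt k P (N) α i → Set.range α.left.base ⊆ Z) := by
  have := K732.AV.geomInt A
  have := K732.AV.geomInt At
  obtain ⟨L, hL⟩ := Groth.Agent.S1841.result k A
  have hℓ : K527.ITGV.IsAmp (Groth.Agent.Grpsch.PicGrp.mk L hL.1) := ⟨L, hL, rfl⟩
  have hNc : Coh.IsCoh N := Groth.Agent.S2329.isCoh_of_isInvertible hN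
  have hn : K432.NefBasic.Nef A.hom N := by
    let _ : A.left.Over (Spec (CommRingCat.of k)) := ⟨A.hom⟩
    exact (K432.NefBasic.nef_iff_hyp N hN).1 hnef
  rw [K527.Rows.GV_row_iff hφ hP hPξ hℓ g hNc]
  have key := K516.GVH.GV_of_right (a := 0) (b := 1) hℓ hg (K527.Cls.CO.mk' hNc) one_pos ⟨1, one_pos, fun c d hd hcd _ => ?_⟩
  · rwa [e_zero N (Grpsch.PicGrp.mk L hL.1)] at key
  · have hc : 0 < c := by
      have hd' : (0 : ℚ) < d := by exact_mod_cast hd
      have h0 : (0 : ℚ) < (c : ℚ) / d := by simpa using hcd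
      have h1 : (0 : ℚ) < c := by
        have := mul_pos h0 hd'
        rwa [div_mul_cancel₀ _ hd'.ne'] at this
      exact_mod_cast h1
    exact IT_pos hL hN hn hc hd

end Groth.Agent.S18230
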