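import Groth.Statements.S18237
import Groth.Agent.Magnet.K950.EtSq
import Groth.Agent.Magnet.K950.AttrIdeal
import Groth.Agent.Magnet.K951.PureAff
import Groth.Agent.Magnet.K949.Eval
-- import your own Groth.Agent.* helpers here

set_option autoImplicit false
universe u
open CategoryTheory MonoidalCategory CartesianMonoidalCategory AlgebraicGeometry Opposite
open Magnet

namespace Groth.Agent.S18237

/-- Let S be a quasi-compact scheme, M a finitely generated abelian group, X a scheme which is
quasi-compact, separated and locally of finite presentation over S with an action of the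
diagonalizable group scheme D(M)_S, and N a submonoid of M with subgroup of invertible elements Z =
N*. Assume X admits an S-affine N*-FPR atlas: an equivariant, étale and surjective g : U → X with U
affine over S such that, for the actions restricted along D(M/Z)_S → D(M)_S, the square of
fixed-point subfunctors U^{D(M/Z)} → X^{D(M/Z)} over U → X is cartesian. Then there is a finitely
generated submonoid N_c of N with the same invertible elements as N such that the canonical map of
attractors X^{N_c} → X^N is an isomorphism of functors. (Stated for schemes, the published statement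
being for algebraic spaces. The published statement assumes only M finitely generated and X → S
quasi-compact and separated; it fails without X locally of finite presentation over S or without S
quasi-compact, so this row assumes both, and it assumes an S-affine N*-FPR atlas, which the
published argument obtains from a general existence result.) -/
theorem result (S : Scheme.{u}) [CompactSpace S] (M : Type)
    [AddCommGroup M] [AddGroup.FG M] {X : Over S} [QuasiCompact X.hom] [IsSeparated X.hom]
    [LocallyOfFinitePresentation X.hom] (a : Magnet.MonAct (Magnet.AMonS S M) X) (N : AddSubmonoid M)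
    (Z : AddSubgroup M) (hZ : ∀ m : M, m ∈ Z ↔ (m ∈ N ∧ -m ∈ N)) (U : Over S) [IsAffineHom U.hom]
    (aU : Magnet.MonAct (Magnet.AMonS S M) U) (g : U ⟶ X) (hg : Magnet.MonAct.IsEquivariant aU a g)
    [Etale g.left] [Surjective g.left]
    (hgZ : Magnet.MonAct.IsEquivariant (aU.restrict (Magnet.AMonS.map S (QuotientAddGroup.mk' Z))) (a.restrict (Magnet.AMonS.map S (QuotientAddGroup.mk' Z))) g)
    (hfpr : IsPullback (Magnet.MonAct.fixedPsh.map g hgZ)
      (Magnet.MonAct.fixedPshι (aU.restrict (Magnet.AMonS.map S (QuotientAddGroup.mk' Z))))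
      (Magnet.MonAct.fixedPshι (a.restrict (Magnet.AMonS.map S (QuotientAddGroup.mk' Z)))) (yoneda.map g)) :
    ∃ (Nc : AddSubmonoid M) (h : Nc ≤ N), Nc.FG ∧ (∀ m : M, (m ∈ Nc ∧ -m ∈ Nc) ↔ (m ∈ N ∧ -m ∈ N)) ∧
      IsIso (Magnet.attrMap a h) := by
  classical
  have : Module.Finite ℤ M := Module.Finite.iff_addGroup_fg.2 inferInstance
  have hZfg : Z.toAddSubmonoid.FG := by
    rw [← AddSubgroup.fg_iff_addSubmonoid_fg]
    have := (Submodule.fg_iff_addSubgroup_fg (AddSubgroup.toIntSubmodule Z)).1 (IsNoetherian.noetherian _)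
    exact this
  obtain ⟨s, hs⟩ := hZfg
  have hfU : LocallyOfFiniteType U.hom := by
    have h1 : U.hom = g.left ≫ X.hom := (Over.w g).symm
    rw [h1]
    infer_instance
  obtain ⟨E, hE⟩ := K951.PureAff.exists_degrees aU
  let Nc : AddSubmonoid M := AddSubmonoid.closure (((E.filter (fun m => m ∈ N)) ∪ s : Finset M) : Set M)
  have hZN : Z.toAddSubmonoid ≤ N := fun m hm => ((hZ m).1 hm).1
  have hsN : ∀ m ∈ s, m ∈ N := fun m hm => hZN (hs ▸ AddSubmonoid.subset_closure hm)
  have hNc : Nc ≤ N := by
    refine AddSubmonoid.closure_le.2 ?_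
    intro m hm
    rw [Finset.coe_union] at hm
    rcases hm with hm | hm
    · exact (Finset.mem_filter.1 hm).2
    · exact hsN m hm
  have hZNc : Z.toAddSubmonoid ≤ Nc := by
    rw [← hs]
    refine AddSubmonoid.closure_mono ?_
    rw [Finset.coe_union]
    exact Set.subset_union_right
  refine ⟨Nc, hNc, ⟨_, rfl⟩, fun m => ⟨fun h => ⟨hNc h.1, hNc h.2⟩, fun h => ?_⟩, ?_⟩
  · have h1 : m ∈ Z := (hZ m).2 h
    exact ⟨hZNc h1, hZNc (Z.neg_mem h1)⟩
  · have hinj : ∀ T : Over S, Function.Injective ((Magnet.attrMap a hNc).app (op T)) := by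
      intro T φ ψ hφψ
      apply Subtype.ext
      exact K949.Eval.eq_of_map (AddSubmonoid.inclusion hNc) (AddSubmonoid.inclusion_injective hNc) T φ.1 ψ.1
        (congrArg Subtype.val hφψ)
    rw [NatTrans.isIso_iff_isIso_app]
    rintro ⟨T⟩
    rw [isIso_iff_bijective]
    refine ⟨hinj T, fun x => ?_⟩
    obtain ⟨T', t, u, ht1, ht2, hu⟩ := K950.EtSq.exists_lift_cover hg hZ hgZ hfpr
      (Or.inr ⟨inferInstance, inferInstance⟩) T x
    obtain ⟨u', hu'⟩ : K950.RepClosed.Mem (Magnet.attrToX aU Nc) ((Magnet.attrToX aU N).app (op T') u) := by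
      refine hE T' N Nc (fun m hmE hmN => ?_) _ ⟨u, rfl⟩
      refine AddSubmonoid.subset_closure ?_
      rw [Finset.coe_union]
      exact Or.inl (Finset.mem_filter.2 ⟨hmE, hmN⟩)
    have hu2 : (Magnet.attrMap aU hNc).app (op T') u' = u := by
      apply K950.AttrIdeal.attrToX_injective aU N (op T')
      rw [K950.EtSq.attrToX_attrMap]
      exact hu'
    have hx' : (Magnet.attrMap a hNc).app (op T')
        ((Magnet.MonAct.eqvHom.postcomp (Magnet.subAct S M Nc) g hg).app (op T') u') = (Magnet.attr a N).map t.op x := by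
      rw [← hu, ← hu2]
      apply Subtype.ext
      change (Magnet.AMonS.map S (AddSubmonoid.inclusion hNc) ▷ T') ≫ u'.1 ≫ g =
        ((Magnet.AMonS.map S (AddSubmonoid.inclusion hNc) ▷ T') ≫ u'.1) ≫ g
      rw [Category.assoc]
    refine K950.ZarAff.mem_range_of_sieve (J := QuotSh.J Scheme.fppfPrecoverage S) (Magnet.attrMap a hNc)
      (K951.Shf.isSheaf_eqvHom _ _ _) (K951.Shf.isSheaf_eqvHom _ _ _).isSeparated hinj
      (R := (Sieve.overEquiv T).symm (Sieve.generate (Presieve.singleton t.left)))
      (K950.RepClosed.mem_J (Precoverage.generate_mem_toGrothendieck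
        (Scheme.Hom.singleton_mem_fppfPrecoverage t.left))) x ?_
    intro W w hw
    obtain ⟨V, k, b, ⟨⟩, hkb⟩ := K950.RepClosed.overEquiv_symm_apply w hw
    have hkS : k ≫ T'.hom = W.hom := by
      rw [← Over.w t, ← Category.assoc, hkb, Over.w w]
    let k' : W ⟶ T' := Over.homMk k hkS
    have hk' : k' ≫ t = w := by
      apply Over.OverMorphism.ext
      exact hkb
    refine ⟨(Magnet.attr a Nc).map k'.op ((Magnet.MonAct.eqvHom.postcomp (Magnet.subAct S M Nc) g hg).app (op T') u'), ?_⟩
    rw [K950.EtSq.attrMap_map, hx', ← hk', op_comp, Functor.map_comp]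
    rfl

end Groth.Agent.S18237
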