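import Groth.Statements.S18245
import Groth.Agent.Magnet.K950.OpenRep
-- import your own Groth.Agent.* helpers here

set_option autoImplicit false
universe u
open CategoryTheory MonoidalCategory CartesianMonoidalCategory AlgebraicGeometry Opposite
open Magnet

namespace Groth.Agent.S18245

open MonObj Limits Magnet.MonAct K951.Pts K951.Prd K951.Coact K951.AttrAff K951.Stab K951.ClSub K951.LocS K950.StabUnit

section Aux

variable {S : Scheme.{u}} {M : Type} [AddCommGroup M]

/-- The idempotent of the units of a group is the unit. -/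
theorem idem_eq (Q : AddSubmonoid M) (h : ∀ m ∈ Q, m ∈ unitFace Q) : idem S Q = η[AMonS S Q] := by
  have e1 : idem S Q = (1 : 𝟙_ (Over S) ⟶ AMonS S (unitFace Q)) ≫ AMonS.faceMap S (isFace_unitFace Q) := by
    rw [idem, Hom.one_def, toUnit_unit, Category.id_comp]
  have e2 : η[AMonS S Q] = (1 : 𝟙_ (Over S) ⟶ AMonS S Q) := by
    rw [Hom.one_def, toUnit_unit, Category.id_comp]
  rw [e1, e2]
  apply chi_injective
  refine MonoidHom.ext fun m => ?_
  have h5 := chi_faceMap (isFace_unitFace Q) (1 : 𝟙_ (Over S) ⟶ AMonS S (unitFace Q)) (Multiplicative.toAdd m)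
  rw [ofAdd_toAdd] at h5
  rw [h5, dif_pos (h _ (Multiplicative.toAdd m).2), chi_one, chi_one, MonoidHom.one_apply, MonoidHom.one_apply]

theorem mem_unitFace_unitFace (N : AddSubmonoid M) (m : M) (hm : m ∈ unitFace N) : m ∈ unitFace (unitFace N) := by
  obtain ⟨h1, y, hy, hxy⟩ := hm
  exact ⟨⟨h1, y, hy, hxy⟩, y, ⟨hy, m, h1, by rw [add_comm, hxy]⟩, hxy⟩

end Aux

/-- Let S be a scheme, M a finitely generated abelian group, X a scheme smooth and locally of finite
presentation over S with an action a of the diagonalizable group scheme D(M)_S which is Zariski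
locally linearizable (every point of X lies in a D(M)_S-stable open subscheme affine over S), and N
a submonoid of M such that N is finitely generated or X is quasi-compact over S. If the attractors
X^N and X^{N*} are represented by S-schemes Z_N and Z_* and j : Z_N → Z_* is the S-morphism
corresponding to the canonical map X^N → X^{N*} under the two representing bijections, then j is a
vector bundle, in the following Zariski-local sense: every point of Z_* has an affine open
neighbourhood W with a finitely generated projective module P over B = Γ(W, O) and an isomorphism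
j⁻¹(W) ≅ Spec Sym_B(P) over W. (Stated for schemes and for the local structure only; the published
statement is for algebraic spaces over S and says that X^N → X^{N*} is a vector bundle.) -/
theorem result (S : Scheme.{u}) (M : Type) [AddCommGroup M]
    [AddGroup.FG M] {X : Over S} [LocallyOfFinitePresentation X.hom] [Smooth X.hom]
    (a : Magnet.MonAct (Magnet.AMonS S M) X)
    (hlin : ∀ x : X.left, ∃ V : X.left.Opens, x ∈ V ∧ IsAffineHom (V.ι ≫ X.hom) ∧
      (CartesianMonoidalCategory.snd (Magnet.AMonS S M) X).left ⁻¹ᵁ V ≤ a.act.left ⁻¹ᵁ V)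
    (N : AddSubmonoid M) (hN : N.FG ∨ QuasiCompact X.hom) {ZN Z0 : Over S}
    (eN : (Magnet.attr a N).RepresentableBy ZN) (e0 : (Magnet.attr a (Magnet.unitFace N)).RepresentableBy Z0)
    (j : ZN ⟶ Z0) (hj : ∀ (T : Over S) (z : T ⟶ ZN),
      e0.homEquiv (z ≫ j) = (Magnet.attrFace a (Magnet.isFace_unitFace N)).app (op T) (eN.homEquiv z))
    (z : Z0.left) :
    ∃ (W : Z0.left.Opens) (hW : IsAffineOpen W), z ∈ W ∧
      ∃ (P : Type u) (_ : AddCommGroup P) (_ : Module Γ(Z0.left, W) P),
        Module.Finite Γ(Z0.left, W) P ∧ Module.Projective Γ(Z0.left, W) P ∧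
        ∃ e : (↑(j.left ⁻¹ᵁ W) : Scheme.{u}) ≅ Spec (CommRingCat.of (SymmetricAlgebra Γ(Z0.left, W) P)),
          e.hom ≫ Spec.map (CommRingCat.ofHom (algebraMap Γ(Z0.left, W) (SymmetricAlgebra Γ(Z0.left, W) P))) =
            (j.left ∣_ W) ≫ hW.isoSpec.hom := by
  classical
  let Q : AddSubmonoid M := Magnet.unitFace N
  have hQ : Magnet.IsFace N Q := Magnet.isFace_unitFace N
  have hQQ : idem S Q = η[Magnet.AMonS S Q] := idem_eq Q (mem_unitFace_unitFace N)
  let vQ : Z0 ⟶ X := (Magnet.MonAct.eqvHom.evalAt (Magnet.subAct S M Q) a (idem S Q)).app (op Z0) (e0.homEquiv (𝟙 Z0))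
  let vN : ZN ⟶ X := (Magnet.MonAct.eqvHom.evalAt (Magnet.subAct S M N) a (idem S N)).app (op ZN) (eN.homEquiv (𝟙 ZN))
  have hv : vN = j ≫ vQ := by
    have h1 : j ≫ vQ = (Magnet.MonAct.eqvHom.evalAt (Magnet.subAct S M Q) a (idem S Q)).app (op ZN)
        (e0.homEquiv j) := (K950.OpenRep.app_homEquiv _ e0 j).symm
    have h2 := hj ZN (𝟙 ZN)
    rw [Category.id_comp] at h2
    rw [h1, h2]
    change lift (toUnit ZN ≫ idem S N) (𝟙 ZN) ≫ _ =
      lift (toUnit ZN ≫ idem S Q) (𝟙 ZN) ≫ (Magnet.AMonS.faceMap S hQ ▷ ZN) ≫ _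
    rw [lift_whiskerRight_assoc, hQQ, Category.assoc]
    rfl
  -- the chart
  obtain ⟨V, hxV, hVaff, hVst⟩ := hlin (vQ.left z)
  have hVst' : IsStable a V := hVst
  let XV : Over S := opT X V
  have hXV : IsAffineHom XV.hom := hVaff
  let aV : Magnet.MonAct (Magnet.AMonS S M) XV := K951.BBGlue.openAct a V hVst'
  obtain ⟨S₁, hS₁, hxS₁, -⟩ := exists_isAffineOpen_mem_and_subset (x := X.hom (vQ.left z)) (U := ⊤) trivial
  have hT₁ : IsAffine (opS S₁).left := hS₁
  let P : Over S := XV ⊗ opS S₁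
  have hP : IsAffine P.left := isAffine_tensor XV (opS S₁)
  let b : Magnet.MonAct (Magnet.AMonS S M) P := aV.prod (Magnet.MonAct.trivial (Magnet.AMonS S M) (opS S₁))
  let p : P ⟶ opS S₁ := snd XV (opS S₁)
  have hp : Magnet.MonAct.IsEquivariant b (Magnet.MonAct.trivial (Magnet.AMonS S M) (opS S₁)) p :=
    Magnet.MonAct.isEquivariant_prod_snd _ _
  have hXVsm : Smooth XV.hom := inferInstanceAs (Smooth (V.ι ≫ X.hom))
  have hpsm : Smooth p.left := inferInstanceAs (Smooth (pullback.snd XV.hom (opS S₁).hom))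
  let q : P ⟶ X := fst XV (opS S₁) ≫ opι X V
  have hq : Magnet.MonAct.IsEquivariant b a q :=
    (Magnet.MonAct.isEquivariant_prod_fst _ _).comp (K951.BBGlue.isEquivariant_opι a V hVst')
  have hqop : IsOpenImmersion q.left := by
    have h1 : IsOpenImmersion (opι X V).left := inferInstanceAs (IsOpenImmersion V.ι)
    rw [Over.comp_left]
    infer_instance
  have hxq : vQ.left z ∈ Set.range q.left := by
    have h1 : (⟨vQ.left z, hxV⟩ : V) ∈ Set.range (fst XV (opS S₁)).left := (mem_range_fst XV S₁ _).2 hxS₁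
    obtain ⟨y, hy⟩ := h1
    refine ⟨y, ?_⟩
    rw [Over.comp_left, Scheme.Hom.comp_apply, hy]
    rfl
  -- the representing objects over the chart
  let WQ : Over S := pullback vQ q
  let WN : Over S := pullback vN q
  let kQ : WQ ⟶ Z0 := pullback.fst vQ q
  let kN : WN ⟶ ZN := pullback.fst vN q
  obtain ⟨eWQ, hWQ1, hWQ2⟩ := K950.OpenRep.exists_representableBy (isPullback hq Q) e0
    (k := kQ) (w := pullback.snd vQ q) (IsPullback.of_hasPullback vQ q)
  obtain ⟨eWN, hWN1, hWN2⟩ := K950.OpenRep.exists_representableBy (isPullback hq N) eN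
    (k := kN) (w := pullback.snd vN q) (IsPullback.of_hasPullback vN q)
  let j' : WN ⟶ WQ := pullback.lift (kN ≫ j) (pullback.snd vN q) (by
    rw [Category.assoc, ← hv]
    exact pullback.condition)
  have hj'1 : j' ≫ kQ = kN ≫ j := pullback.lift_fst _ _ _
  have hj'2 : j' ≫ pullback.snd vQ q = pullback.snd vN q := pullback.lift_snd _ _ _
  have hsq : IsPullback kN j' j kQ := by
    have h1 : IsPullback kQ (pullback.snd vQ q) vQ q := IsPullback.of_hasPullback vQ q
    have h2 : IsPullback kN (pullback.snd vN q) vN q := IsPullback.of_hasPullback vN q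
    refine (IsPullback.of_right (h₁₁ := j') (h₁₂ := pullback.snd vQ q) (h₂₁ := j) (h₂₂ := vQ) ?_ hj'1 h1.flip).flip
    rw [hj'2, ← hv]
    exact h2.flip
  have hkQ : IsOpenImmersion kQ.left :=
    MorphismProperty.of_isPullback (P := @IsOpenImmersion)
      ((IsPullback.of_hasPullback vQ q).map (Over.forget S)).flip hqop
  have hkN : IsOpenImmersion kN.left :=
    MorphismProperty.of_isPullback (P := @IsOpenImmersion)
      ((IsPullback.of_hasPullback vN q).map (Over.forget S)).flip hqop
  have hj' : ∀ (T : Over S) (t : T ⟶ WN),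
      eWQ.homEquiv (t ≫ j') = (Magnet.attrFace b hQ).app (op T) (eWN.homEquiv t) := by
    intro T t
    apply (K951.Psh.exists_of_isPullback (isPullback hq Q) (op T)).1
    · rw [hWQ1, Category.assoc, hj'1, ← Category.assoc, hj, ← hWN1]
      apply Subtype.ext
      change (Magnet.AMonS.faceMap S hQ ▷ T) ≫ (eWN.homEquiv t).1 ≫ q = ((Magnet.AMonS.faceMap S hQ ▷ T) ≫ (eWN.homEquiv t).1) ≫ q
      rw [Category.assoc]
    · rw [hWQ2, Category.assoc, hj'2, ← hWN2]
      change lift (toUnit T ≫ idem S N) (𝟙 T) ≫ _ =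
        lift (toUnit T ≫ idem S Q) (𝟙 T) ≫ (Magnet.AMonS.faceMap S hQ ▷ T) ≫ _
      rw [lift_whiskerRight_assoc, hQQ, Category.assoc]
      rfl
  let W : Z0.left.Opens := kQ.left.opensRange
  have hWle : ⊤ ≤ kQ.left ⁻¹ᵁ W := by rw [Scheme.Hom.preimage_opensRange]
  have hW' : j.left ⁻¹ᵁ W = kN.left.opensRange := by
    ext y
    constructor
    · rintro ⟨w, hw⟩
      obtain ⟨o, ho, -⟩ := Scheme.exists_preimage_of_isPullback (hsq.map (Over.forget S)) y w hw.symm
      exact ⟨o, ho⟩
    · rintro ⟨o, rfl⟩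
      refine ⟨j'.left o, ?_⟩
      have h1 := congrArg (fun m => m.left) hj'1
      change j'.left ≫ kQ.left = kN.left ≫ j.left at h1
      change kQ.left (j'.left o) = j.left (kN.left o)
      rw [← Scheme.Hom.comp_apply, h1, Scheme.Hom.comp_apply]
  have hWle' : ⊤ ≤ kN.left ⁻¹ᵁ (j.left ⁻¹ᵁ W) := by rw [hW', Scheme.Hom.preimage_opensRange]
  let εC : Fn WQ ≃+* Γ(Z0.left, W) := (RingEquiv.ofBijective _ (K950.OpenRep.bijective_appLE' kQ.left W rfl hWle)).symm
  let εB : Fn WN ≃+* Γ(ZN.left, j.left ⁻¹ᵁ W) :=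
    (RingEquiv.ofBijective _ (K950.OpenRep.bijective_appLE' kN.left (j.left ⁻¹ᵁ W) hW' hWle')).symm
  obtain ⟨hA1, hA2, E, hE1, hE2, hE3, hE4, e, he⟩ := K950.Chart.exists_symm b hp hQ eWN eWQ j' hj' εC εB (j.left.app W).hom (by
    intro x
    rw [← εB.symm.injective.eq_iff, RingEquiv.symm_apply_apply]
    obtain ⟨y, rfl⟩ := εC.symm.surjective x
    rw [RingEquiv.apply_symm_apply]
    have h1 := K950.OpenRep.appLE_square (kN := kN.left) (j' := j'.left) (j := j.left) (kQ := kQ.left)
      (congrArg (fun m => m.left) hj'1) W hWle hWle'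
    exact (congrArg (fun m => m.hom y) h1).symm)
  have hzW : z ∈ W := by
    obtain ⟨y, hy⟩ := hxq
    obtain ⟨o, ho, -⟩ := Scheme.exists_preimage_of_isPullback
      ((IsPullback.of_hasPullback vQ q).map (Over.forget S)) z y hy.symm
    exact ⟨o, ho⟩
  have hWaff : IsAffineOpen W := isAffineOpen_opensRange kQ.left
  have hWaff' : IsAffineOpen (j.left ⁻¹ᵁ W) := by
    rw [hW']
    exact isAffineOpen_opensRange kN.left
  obtain ⟨e', he'⟩ := K950.OpenRep.transfer j.left W hWaff hWaff' E e he
  exact ⟨W, hWaff, hzW, E, hE1, hE2, hE3, hE4, e', he'⟩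

end Groth.Agent.S18245
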