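import Groth.Statements.S18246
import Groth.Agent.Curves.K332.CFin

set_option autoImplicit false
universe u
open W4c5m1nsnscurves
open Curves

namespace Groth.Agent.S18246

open K332.UBasic K332.CSpan K332.CFin MvPolynomial

theorem four {R : Type u} [CommRing R] {M : Type u} [AddCommGroup M] [Module R M] {ι : Type} {b : ι → M}
    (hb : LinearIndependent R b) {s0 s1 s2 s3 : ι} (h01 : s0 ≠ s1) (h02 : s0 ≠ s2) (h03 : s0 ≠ s3)
    (h12 : s1 ≠ s2) (h13 : s1 ≠ s3) (h23 : s2 ≠ s3) {x0 x1 x2 x3 : R}
    (h : x0 • b s0 + x1 • b s1 + x2 • b s2 + x3 • b s3 = 0) : x0 = 0 ∧ x1 = 0 ∧ x2 = 0 := by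
  classical
  rw [linearIndependent_iff] at hb
  have h' := hb (Finsupp.single s0 x0 + Finsupp.single s1 x1 + Finsupp.single s2 x2 + Finsupp.single s3 x3)
    (by simpa [map_add, Finsupp.linearCombination_single] using h)
  have e0 := DFunLike.congr_fun h' s0
  have e1 := DFunLike.congr_fun h' s1
  have e2 := DFunLike.congr_fun h' s2
  simp only [Finsupp.add_apply, Finsupp.single_apply, Finsupp.zero_apply, if_true, h01, h02, h03, h12, h13, h23,
    h01.symm, h02.symm, h03.symm, h12.symm, h13.symm, h23.symm, if_false, add_zero, zero_add] at e0 e1 e2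
  exact ⟨e0, e1, e2⟩

theorem upoint_of_indep {R : Type u} [CommRing R] {m : ℕ} {v : UGen m → R}
    (h : LinearIndependent R (cmon R m v)) : UPoint v := by
  have hx := cpoint_cvar v
  have sm : ∀ (r : R) (z : CurveAlg R m v), r • z = algebraMap R (CurveAlg R m v) r * z :=
    fun r z => Algebra.smul_def r z
  have pair : ∀ (i j : Fin m) (h1 : i ≠ j) (h2 : j ≠ i),
      v (.cij i j h1) + v (.cij j i h2) - (v .a + v (.ci i) + v (.cbi i) + v (.ci j) + v (.cbi j)) = 0 ∧
      v (.cij i j h1) * v (.ci j) - (v .a + v (.ci j) + v (.cbi j)) * v (.ci j) - v (.ci i) * v (.cij i j h1) -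
        v (.cbi i) * v (.ci j) + v .c = 0 ∧
      v (.cij i j h1) * v (.cbi j) + v (.cij j i h2) * v (.cbi i) - v .cb - v (.cbi i) * v (.cbi j) = 0 := by
    intro i j h1 h2
    refine four h (s0 := some (Sum.inl 0)) (s1 := some (Sum.inr (.xi j, 0))) (s2 := some (Sum.inr (.x2, 0)))
      (s3 := none) (by simp) (by simp) (by simp) (by simp) (by simp) (by simp)
      (x3 := - v .c * (v (.cij i j h1) + v (.cij j i h2) - (v .a + v (.ci i) + v (.cbi i) + v (.ci j) + v (.cbi j)))) ?_
    have e0 : cmon R m v (some (Sum.inl 0)) = cvar v .x2 ^ 1 * cvar v .x3 := rfl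
    have e1 : cmon R m v (some (Sum.inr (.xi j, 0))) = cvar v (.xi j) ^ 1 := rfl
    have e2 : cmon R m v (some (Sum.inr (.x2, 0))) = cvar v .x2 ^ 1 := rfl
    have e3 : cmon R m v none = 1 := rfl
    rw [e0, e1, e2, e3]
    have a2 := hx.r2 i
    have a2' := hx.r2 j
    have a3 := hx.r3 j
    have a4 := hx.rij i j h1 h2
    rw [sm, sm, sm, sm]
    simp only [map_sub, map_add, map_mul, map_neg]
    linear_combination (-cvar v (.x2) + algebraMap R (CurveAlg R m v) (v (.ci i))) * a4 +
      (-algebraMap R (CurveAlg R m v) (v (.cij i j h1)) + (algebraMap R (CurveAlg R m v) (v .a) +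
        algebraMap R (CurveAlg R m v) (v (.ci j)) + algebraMap R (CurveAlg R m v) (v (.cbi j))) +
        algebraMap R (CurveAlg R m v) (v (.cbi i))) * a2' +
      (cvar v (.xi j) - algebraMap R (CurveAlg R m v) (v (.cij j i h2))) * a2 + cvar v .x2 * a3
  refine ⟨fun i j h1 h2 => ?_, fun i j h1 h2 => ?_, fun i j h1 h2 => ?_, fun i j k hij hji hjk hik => ?_⟩
  · exact sub_eq_zero.mp (pair i j h1 h2).1
  · obtain ⟨p1, p2, p3⟩ := pair i j h1 h2
    linear_combination p2 - v (.ci j) * p1
  · obtain ⟨p1, p2, p3⟩ := pair i j h1 h2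
    linear_combination -p3
  · have := four h (s0 := some (Sum.inl 0)) (s1 := some (Sum.inr (.xi k, 0))) (s2 := some (Sum.inr (.xi i, 0)))
      (s3 := none) (by simp) (by simp) (by simp) (by simp [hik.symm]) (by simp) (by simp)
      (x0 := (v .a + v (.ci k) + v (.cbi k)) + v (.cij i j hij) + v (.cij j i hji) - (v .a + v (.ci i) + v (.cbi i)) -
        v (.cij j k hjk) - v (.cij k j hjk.symm))
      (x1 := (v .a + v (.ci k) + v (.cbi k)) * v (.ci k) + v (.cij i j hij) * v (.cij j k hjk) +
        v (.cij j i hji) * v (.cij i k hik) - v .c - v (.cij j k hjk) * v (.cij i k hik))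
      (x2 := v (.cij j i hji) * v (.cij k i hik.symm) - (v .a + v (.ci i) + v (.cbi i)) * v (.ci i) -
        v (.cij j k hjk) * v (.cij k i hik.symm) - v (.cij k j hjk.symm) * v (.cij j i hji) + v .c)
      (x3 := - v .c * ((v .a + v (.ci k) + v (.cbi k)) + v (.cij i j hij) + v (.cij j i hji) -
        (v .a + v (.ci i) + v (.cbi i)) - v (.cij j k hjk) - v (.cij k j hjk.symm))) ?_
    · linear_combination -this.2.1
    have e0 : cmon R m v (some (Sum.inl 0)) = cvar v .x2 ^ 1 * cvar v .x3 := rfl
    have e1 : cmon R m v (some (Sum.inr (.xi k, 0))) = cvar v (.xi k) ^ 1 := rfl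
    have e2 : cmon R m v (some (Sum.inr (.xi i, 0))) = cvar v (.xi i) ^ 1 := rfl
    have e3 : cmon R m v none = 1 := rfl
    rw [e0, e1, e2, e3]
    have i2 := hx.r2 i
    have i3 := hx.r3 i
    have k2 := hx.r2 k
    have k3 := hx.r3 k
    have aij := hx.rij i j hij hji
    have ajk := hx.rij j k hjk hjk.symm
    have aik := hx.rij i k hik hik.symm
    rw [sm, sm, sm, sm]
    simp only [map_sub, map_add, map_mul, map_neg]
    linear_combination (-cvar v (.xi k) + algebraMap R (CurveAlg R m v) (v (.cij k j hjk.symm))) * aij +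
      (cvar v (.xi i) - algebraMap R (CurveAlg R m v) (v (.cij i j hij))) * ajk +
      (algebraMap R (CurveAlg R m v) (v (.cij j k hjk)) - algebraMap R (CurveAlg R m v) (v (.cij j i hji))) * aik -
      cvar v .x2 * k3 - (algebraMap R (CurveAlg R m v) (v .a) + algebraMap R (CurveAlg R m v) (v (.ci k)) +
        algebraMap R (CurveAlg R m v) (v (.cbi k))) * k2 +
      cvar v .x2 * i3 + (algebraMap R (CurveAlg R m v) (v .a) + algebraMap R (CurveAlg R m v) (v (.ci i)) +
        algebraMap R (CurveAlg R m v) (v (.cbi i))) * i2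

/-- Let R be a commutative ring and m ≥ 1, so that n = m + 3 ≥ 4 points are marked, and let v assign
values in R to the coordinates a, c, c̄, c_i, c̄_i (one index i for each of the points 4, …, n) and
c_{ij} (i ≠ j) of U_n, with no condition. Let A be the R-algebra on x_2, x_3, x_i with the relations
x_2 x_i = x_2 x_3 + c_i x_i + c̄_i x_2 − c, x_3 x_i = x_2 x_3 + (a + c_i + c̄_i)(x_i − c̄_i) + c̄ −
c and x_i x_j = x_2 x_3 + c_{ij} x_j + c_{ji} x_i − c for i ≠ j. Then the classes of the monomials
1, x_2^k x_3 (k ≥ 1) and y^k (y any one of the variables, k ≥ 1) are linearly independent over R and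
span A if and only if the values v satisfy all the defining relations of U_n: c_{ij} + c_{ji} = a +
c_i + c̄_i + c_j + c̄_j, c = c_{ji} c_j + c_{ij} c_i − c_i c_j, c̄ = c_{ji} c̄_i + c_{ij} c̄_j −
c̄_i c̄_j for i ≠ j, and c_{ij} c_{jk} + c_{ji} c_{ik} − c_{ik} c_{jk} + (a + c_k + c̄_k) c_k = c
for i, j, k distinct. (The published statement writes the relations of the curve with constants
c_{ij} for all pairs, d_{ij}, a, b, c, d and asserts the equivalence with a longer list of equations
among them; here the constants are already expressed in the coordinates a, c, c̄, c_i, c̄_i, c_{ij}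
of U_n, in which that list becomes the relations above.) -/
theorem result (R : Type u) [CommRing R] (m : ℕ) (hm : 1 ≤ m)
    (v : UGen m → R) :
    (LinearIndependent R (cmon R m v) ∧ Submodule.span R (Set.range (cmon R m v)) = ⊤) ↔
      (∀ p ∈ URel R m, MvPolynomial.eval v p = 0) := by
  rw [← upoint_iff_eval]
  exact ⟨fun h => upoint_of_indep h.1, fun h => ⟨linInd_cmon hm h, span_cmon hm v⟩⟩

end Groth.Agent.S18246
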