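import Groth.Statements.S18247
import Groth.Agent.Curves.K332.UBasic
import Mathlib.Tactic.FinCases

set_option autoImplicit false
universe u
open W4c5m1nsnscurves
open Curves

namespace Groth.Agent.S18247

open K332.UBasic MvPolynomial

/-- the values of the generators in the polynomial ring -/
noncomputable def vals : UGen 2 → MvPolynomial (Fin 6) ℤ
  | .a => X 0
  | .c => (X 0 + X 1 + X 2 + X 3 + X 4 - X 5) * X 3 + X 5 * X 1 - X 1 * X 3
  | .cb => (X 0 + X 1 + X 2 + X 3 + X 4 - X 5) * X 2 + X 5 * X 4 - X 2 * X 4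
  | .ci i => if i = 0 then X 1 else X 3
  | .cbi i => if i = 0 then X 2 else X 4
  | .cij i _ _ => if i = 0 then X 5 else (X 0 + X 1 + X 2 + X 3 + X 4 - X 5)

theorem vals_upoint : UPoint vals where
  lin i j h h' := by
    fin_cases i <;> fin_cases j <;> first | exact absurd rfl h | (simp [vals]; done) | (simp [vals]; ring)
  hc i j h h' := by
    fin_cases i <;> fin_cases j <;> first | exact absurd rfl h | (simp [vals]; done) | (simp [vals]; ring)
  hcb i j h h' := by
    fin_cases i <;> fin_cases j <;> first | exact absurd rfl h | (simp [vals]; done) | (simp [vals]; ring)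
  tri i j k hij hji hjk hik := by
    fin_cases i <;> fin_cases j <;> fin_cases k <;>
      first | exact absurd rfl hij | exact absurd rfl hik | exact absurd rfl hjk

/-- Case n = 5: the coordinate ring of U_5 over ℤ (m = 2 indices, standing for the points 4 and 5;
generators a, c, c̄, c_4, c̄_4, c_5, c̄_5, c_{45}, c_{54} with the linear and the two quadratic
relations for the one pair of indices, and no triple) is the polynomial ring on a, c_4, c̄_4, c_5,
c̄_5, c_{45}: the ℤ-algebra map from the polynomial ring in six variables sending the variables to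
these six classes, in this order, is bijective. -/
theorem result :
    Function.Bijective (MvPolynomial.aeval (R := ℤ) (S₁ := URing ℤ 2)
      ![ugen ℤ 2 .a, ugen ℤ 2 (.ci 0), ugen ℤ 2 (.cbi 0), ugen ℤ 2 (.ci 1), ugen ℤ 2 (.cbi 1),
        ugen ℤ 2 (.cij 0 1 Fin.zero_ne_one)]) := by
  set F : MvPolynomial (Fin 6) ℤ →ₐ[ℤ] URing ℤ 2 := MvPolynomial.aeval (R := ℤ) (S₁ := URing ℤ 2)
      ![ugen ℤ 2 .a, ugen ℤ 2 (.ci 0), ugen ℤ 2 (.cbi 0), ugen ℤ 2 (.ci 1), ugen ℤ 2 (.cbi 1),
        ugen ℤ 2 (.cij 0 1 Fin.zero_ne_one)] with hF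
  have h1 : (ulift (R := ℤ) vals vals_upoint).comp F = AlgHom.id ℤ _ := by
    apply MvPolynomial.algHom_ext
    intro i
    fin_cases i <;> simp [hF, ulift_ugen, vals]
  have h2 : F.comp (ulift (R := ℤ) vals vals_upoint) = AlgHom.id ℤ _ := by
    have hu := upoint_ugen ℤ 2
    have hl := hu.lin 0 1 Fin.zero_ne_one Fin.zero_ne_one.symm
    have hl1 := hu.lin 1 0 Fin.zero_ne_one.symm Fin.zero_ne_one
    have hc := hu.hc 0 1 Fin.zero_ne_one Fin.zero_ne_one.symm
    have hcb := hu.hcb 0 1 Fin.zero_ne_one Fin.zero_ne_one.symm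
    apply uhom_ext
    intro g
    simp only [AlgHom.comp_apply, ulift_ugen, AlgHom.id_apply]
    rcases g with _ | _ | _ | i | i | ⟨i, j, h⟩
    · simp [hF, vals]
    · simp [hF, vals]
      linear_combination -hc - ugen ℤ 2 (.ci 1) * hl
    · simp [hF, vals]
      linear_combination -hcb - ugen ℤ 2 (.cbi 0) * hl
    · fin_cases i <;> simp [hF, vals]
    · fin_cases i <;> simp [hF, vals]
    · fin_cases i <;> fin_cases j
      · exact absurd rfl h
      · simp [hF, vals]
      · simp [hF, vals]
        linear_combination -hl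
      · exact absurd rfl h
  constructor
  · intro x y hxy
    have := congrArg (ulift (R := ℤ) vals vals_upoint) hxy
    have e := fun z => AlgHom.congr_fun h1 z
    simp only [AlgHom.comp_apply, AlgHom.id_apply] at e
    rw [e, e] at this
    exact this
  · intro y
    exact ⟨_, AlgHom.congr_fun h2 y⟩

end Groth.Agent.S18247
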