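import Groth.Statements.S18248
import Groth.Agent.Curves.K332.UBasic
import Mathlib.Algebra.DualNumber
import Mathlib.LinearAlgebra.Dimension.StrongRankCondition
import Mathlib.Algebra.BigOperators.Fin
import Mathlib.Algebra.BigOperators.Intervals

set_option autoImplicit false
universe u
open W4c5m1nsnscurves
open Curves

namespace Groth.Agent.S18248

open K332.UBasic MvPolynomial

/-- Indices of the weight-one generators. -/
abbrev Idx (m : ℕ) : Type := Option (Fin m ⊕ Fin m ⊕ {q : Fin m × Fin m // q.1 < q.2})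

/-- The generator of an index. -/
def gen {m : ℕ} : Idx m → UGen m
  | none => .a
  | some (Sum.inl i) => .ci i
  | some (Sum.inr (Sum.inl i)) => .cbi i
  | some (Sum.inr (Sum.inr q)) => .cij q.1.1 q.1.2 (ne_of_lt q.2)

theorem card_pairs (m : ℕ) : Fintype.card {q : Fin m × Fin m // q.1 < q.2} = m * (m - 1) / 2 := by
  have e : {q : Fin m × Fin m // q.1 < q.2} ≃ (Σ j : Fin m, Fin j) :=
    { toFun := fun q => ⟨q.1.2, ⟨q.1.1, q.2⟩⟩
      invFun := fun p => ⟨(⟨p.2, p.2.2.trans p.1.2⟩, p.1), p.2.2⟩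
      left_inv := fun q => rfl
      right_inv := fun p => rfl }
  rw [Fintype.card_congr e, Fintype.card_sigma]
  simp only [Fintype.card_fin]
  rw [Fin.sum_univ_eq_sum_range (fun i => i) m, Finset.sum_range_id]

theorem card_idx (m : ℕ) : Fintype.card (Idx m) = (m + 2) * (m + 1) / 2 := by
  rw [Fintype.card_option, Fintype.card_sum, Fintype.card_sum, card_pairs, Fintype.card_fin]
  rcases m with _ | m
  · rfl
  · rw [Nat.add_sub_cancel]
    have : (m + 1 + 2) * (m + 1 + 1) = (m + 1) * m + 2 * (m + 1 + (m + 1) + 1) := by ring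
    rw [this, Nat.add_mul_div_left _ _ two_pos]
    ring

section adj
variable (m : ℕ) (hm : 2 ≤ m)
include hm

theorem adjoin_eq : Algebra.adjoin ℤ ({ugen ℤ m .a} ∪ Set.range (fun i : Fin m => ugen ℤ m (.ci i)) ∪
        Set.range (fun i : Fin m => ugen ℤ m (.cbi i)) ∪
        Set.range (fun q : {q : Fin m × Fin m // q.1 < q.2} => ugen ℤ m (.cij q.1.1 q.1.2 (ne_of_lt q.2)))) = ⊤ := by
  set A := Algebra.adjoin ℤ ({ugen ℤ m .a} ∪ Set.range (fun i : Fin m => ugen ℤ m (.ci i)) ∪
        Set.range (fun i : Fin m => ugen ℤ m (.cbi i)) ∪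
        Set.range (fun q : {q : Fin m × Fin m // q.1 < q.2} => ugen ℤ m (.cij q.1.1 q.1.2 (ne_of_lt q.2)))) with hA
  have hu := upoint_ugen ℤ m
  have ha : ugen ℤ m .a ∈ A := Algebra.subset_adjoin (Or.inl (Or.inl (Or.inl rfl)))
  have hci : ∀ i, ugen ℤ m (.ci i) ∈ A := fun i => Algebra.subset_adjoin (Or.inl (Or.inl (Or.inr ⟨i, rfl⟩)))
  have hcbi : ∀ i, ugen ℤ m (.cbi i) ∈ A := fun i => Algebra.subset_adjoin (Or.inl (Or.inr ⟨i, rfl⟩))
  have hcij : ∀ i j (h : i ≠ j), ugen ℤ m (.cij i j h) ∈ A := by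
    intro i j h
    rcases lt_or_gt_of_ne h with h' | h'
    · exact Algebra.subset_adjoin (Or.inr ⟨⟨(i, j), h'⟩, rfl⟩)
    · have h1 : ugen ℤ m (.cij j i h.symm) ∈ A := Algebra.subset_adjoin (Or.inr ⟨⟨(j, i), h'⟩, rfl⟩)
      have h2 := hu.lin i j h h.symm
      have : ugen ℤ m (.cij i j h) = ugen ℤ m .a + ugen ℤ m (.ci i) + ugen ℤ m (.cbi i) + ugen ℤ m (.ci j) +
          ugen ℤ m (.cbi j) - ugen ℤ m (.cij j i h.symm) := by linear_combination h2
      rw [this]
      exact sub_mem (add_mem (add_mem (add_mem (add_mem ha (hci i)) (hcbi i)) (hci j)) (hcbi j)) h1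
  have i0 : Fin m := ⟨0, by omega⟩
  obtain ⟨i, j, hij⟩ : ∃ i j : Fin m, i ≠ j := ⟨⟨0, by omega⟩, ⟨1, by omega⟩, by simp⟩
  have hgen : ∀ g, ugen ℤ m g ∈ A := by
    rintro (_ | _ | _ | i' | i' | ⟨i', j', h'⟩)
    · exact ha
    · rw [hu.hc i j hij hij.symm]
      exact sub_mem (add_mem (mul_mem (hcij _ _ _) (hci _)) (mul_mem (hcij _ _ _) (hci _))) (mul_mem (hci _) (hci _))
    · rw [hu.hcb i j hij hij.symm]
      exact sub_mem (add_mem (mul_mem (hcij _ _ _) (hcbi _)) (mul_mem (hcij _ _ _) (hcbi _)))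
        (mul_mem (hcbi _) (hcbi _))
    · exact hci _
    · exact hcbi _
    · exact hcij _ _ _
  rw [eq_top_iff]
  rintro z -
  obtain ⟨p, rfl⟩ := Ideal.Quotient.mk_surjective z
  induction p using MvPolynomial.induction_on with
  | C r => exact A.algebraMap_mem r
  | add p q hp hq => rw [map_add]; exact add_mem hp hq
  | mul_X p g hp => rw [map_mul]; exact mul_mem hp (hgen g)

end adj

section cot
variable {k : Type u} [Field k] {m : ℕ}

theorem ugen_mem (g : UGen m) : ugen k m g ∈ uorigin k m := Ideal.subset_span ⟨g, rfl⟩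

/-- The linearised assignment. -/
def lam (c : Idx m → k) : UGen m → k
  | .a => c none
  | .c => 0
  | .cb => 0
  | .ci i => c (some (Sum.inl i))
  | .cbi i => c (some (Sum.inr (Sum.inl i)))
  | .cij i j h => if h' : i < j then c (some (Sum.inr (Sum.inr ⟨(i, j), h'⟩))) else
      c none + c (some (Sum.inl i)) + c (some (Sum.inr (Sum.inl i))) + c (some (Sum.inl j)) +
        c (some (Sum.inr (Sum.inl j))) - c (some (Sum.inr (Sum.inr ⟨(j, i), lt_of_le_of_ne (not_lt.mp h') h.symm⟩)))

theorem lam_gen (c : Idx m → k) (s : Idx m) : lam c (gen s) = c s := by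
  rcases s with _ | i | i | ⟨q, h⟩
  · rfl
  · rfl
  · rfl
  · simp only [gen, lam, dif_pos h]

theorem lam_upoint (c : Idx m → k) : UPoint (fun g => (TrivSqZeroExt.inr (lam c g) : DualNumber k)) where
  lin i j h h' := by
    rw [← TrivSqZeroExt.inr_add, ← TrivSqZeroExt.inr_add, ← TrivSqZeroExt.inr_add, ← TrivSqZeroExt.inr_add,
      ← TrivSqZeroExt.inr_add]
    congr 1
    rcases lt_or_gt_of_ne h with h1 | h1
    · simp only [lam, dif_pos h1, dif_neg (not_lt.mpr h1.le)]; ring
    · simp only [lam, dif_pos h1, dif_neg (not_lt.mpr h1.le)]; ring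
  hc i j h h' := by
    simp [lam, TrivSqZeroExt.inr_mul_inr]
  hcb i j h h' := by
    simp [lam, TrivSqZeroExt.inr_mul_inr]
  tri i j l hij hji hjl hil := by
    simp only [TrivSqZeroExt.inr_mul_inr, ← TrivSqZeroExt.inr_add]
    simp [lam]

/-- The algebra map to the dual numbers. -/
noncomputable def fl (c : Idx m → k) : URing k m →ₐ[k] DualNumber k := ulift _ (lam_upoint c)

theorem fl_fst (c : Idx m → k) {x : URing k m} (hx : x ∈ uorigin k m) : (fl c x).fst = 0 := by
  induction hx using Submodule.span_induction with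
  | mem x hx =>
    obtain ⟨g, rfl⟩ := hx
    rw [fl, ulift_ugen]; simp
  | zero => simp
  | add x y _ _ hx hy => rw [map_add, TrivSqZeroExt.fst_add, hx, hy, add_zero]
  | smul r x _ hx => rw [smul_eq_mul, map_mul, TrivSqZeroExt.fst_mul, hx, mul_zero]

theorem fl_sq (c : Idx m → k) {x : URing k m} (hx : x ∈ uorigin k m ^ 2) : fl c x = 0 := by
  rw [pow_two] at hx
  refine Submodule.mul_induction_on hx (fun x hx y hy => ?_) (fun x y hx hy => ?_)
  · rw [map_mul]
    ext
    · rw [TrivSqZeroExt.fst_mul, fl_fst c hx, zero_mul]; rfl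
    · rw [TrivSqZeroExt.snd_mul, fl_fst c hx, fl_fst c hy]; simp
  · rw [map_add, hx, hy, add_zero]

theorem exists_const (r : URing k m) : ∃ c : k, r - algebraMap k (URing k m) c ∈ uorigin k m := by
  obtain ⟨p, rfl⟩ := Ideal.Quotient.mk_surjective r
  induction p using MvPolynomial.induction_on with
  | C r => exact ⟨r, by
      have : Ideal.Quotient.mk (Ideal.span (URel k m)) (C r) - algebraMap k (URing k m) r = 0 := sub_self _
      rw [this]; exact zero_mem _⟩
  | add p q hp hq =>
    obtain ⟨c, hc⟩ := hp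
    obtain ⟨d, hd⟩ := hq
    refine ⟨c + d, ?_⟩
    rw [map_add, map_add, add_sub_add_comm]
    exact add_mem hc hd
  | mul_X p g hp =>
    refine ⟨0, ?_⟩
    rw [map_zero, sub_zero, map_mul]
    exact Ideal.mul_mem_left _ _ (ugen_mem g)

end cot

section abs
variable {k : Type u} [Field k] {A : Type u} [CommRing A] [Algebra k A] {I : Ideal A} {ι : Type} [Fintype ι]

theorem cot_abs {G : Type} (hconst : ∀ r : A, ∃ c : k, r - algebraMap k A c ∈ I) (t : G → A)
    (hI : I = Ideal.span (Set.range t)) (ht : ∀ g, t g ∈ I) (s : ι → G)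
    (h1 : ∀ g, ∃ c : ι → k, t g - ∑ i, c i • t (s i) ∈ I ^ 2)
    (h2 : ∀ i, ∃ f : A →ₗ[k] k, (∀ x ∈ I ^ 2, f x = 0) ∧ f (t (s i)) = 1 ∧ ∀ j, j ≠ i → f (t (s j)) = 0) :
    Module.finrank k I.Cotangent = Fintype.card ι := by
  classical
  let b : ι → I.Cotangent := fun i => I.toCotangent ⟨t (s i), ht _⟩
  have hli : LinearIndependent k b := by
    rw [Fintype.linearIndependent_iff]
    intro c hc i
    have e : ∑ i, c i • b i = I.toCotangent (∑ i, c i • (⟨t (s i), ht _⟩ : I)) := by
      rw [map_sum]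
      refine Finset.sum_congr rfl fun s _ => ?_
      exact (LinearMap.map_smul_of_tower I.toCotangent (c s) _).symm
    rw [e, Ideal.toCotangent_eq_zero] at hc
    obtain ⟨f, hf, hf1, hf2⟩ := h2 i
    have h3 := hf _ hc
    have e2 : (((∑ i, c i • (⟨t (s i), ht _⟩ : I) : I)) : A) = ∑ i, c i • t (s i) := by
      rw [AddSubmonoidClass.coe_finsetSum]
      rfl
    rw [e2, map_sum, Finset.sum_eq_single i] at h3
    · rw [map_smul, hf1] at h3; simpa using h3
    · intro j _ hj
      rw [map_smul, hf2 j hj, smul_zero]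
    · intro h; exact absurd (Finset.mem_univ i) h
  have hsp : ⊤ ≤ Submodule.span k (Set.range b) := by
    set N := Submodule.span k (Set.range b) with hN
    have hb : ∀ s, b s ∈ N := fun s => Submodule.subset_span ⟨s, rfl⟩
    have tg : ∀ g, I.toCotangent ⟨t g, ht g⟩ ∈ N := by
      intro g
      obtain ⟨c, hc⟩ := h1 g
      have e : ∑ i, c i • b i = I.toCotangent (∑ i, c i • (⟨t (s i), ht _⟩ : I)) := by
        rw [map_sum]
        refine Finset.sum_congr rfl fun s _ => ?_
        exact (LinearMap.map_smul_of_tower I.toCotangent (c s) _).symm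
      have e2 : (((∑ i, c i • (⟨t (s i), ht _⟩ : I) : I)) : A) = ∑ i, c i • t (s i) := by
        rw [AddSubmonoidClass.coe_finsetSum]
        rfl
      have : I.toCotangent ⟨t g, ht g⟩ = ∑ i, c i • b i := by
        rw [e, Ideal.toCotangent_eq, e2]
        exact hc
      rw [this]
      exact Submodule.sum_mem _ fun i _ => Submodule.smul_mem _ _ (hb i)
    have hsm : ∀ (r : A) (z : I.Cotangent), z ∈ N → r • z ∈ N := by
      intro r z hz
      obtain ⟨c, hc⟩ := hconst r
      have : r • z = c • z := by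
        have h1 := Ideal.Cotangent.smul_eq_zero_of_mem hc z
        rw [sub_smul, sub_eq_zero] at h1
        rw [h1, algebraMap_smul]
      rw [this]; exact N.smul_mem c hz
    have key : ∀ (x : A) (hx : x ∈ I), I.toCotangent ⟨x, hx⟩ ∈ N := by
      intro x hx
      have hx' : x ∈ Ideal.span (Set.range t) := hI ▸ hx
      induction hx' using Submodule.span_induction with
      | mem x hx' =>
        obtain ⟨g, rfl⟩ := hx'
        exact tg g
      | zero =>
        have : I.toCotangent ⟨0, zero_mem _⟩ = 0 := map_zero I.toCotangent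
        rw [this]; exact zero_mem _
      | add x y hx1 hy1 h1 h2 =>
        have hx2 : x ∈ I := hI ▸ hx1
        have hy2 : y ∈ I := hI ▸ hy1
        have : I.toCotangent ⟨x + y, add_mem hx2 hy2⟩ = I.toCotangent ⟨x, hx2⟩ + I.toCotangent ⟨y, hy2⟩ := by
          rw [← map_add]; rfl
        rw [this]; exact add_mem (h1 _) (h2 _)
      | smul r x hx1 h1 =>
        have hx2 : x ∈ I := hI ▸ hx1
        have : I.toCotangent ⟨r • x, Submodule.smul_mem _ _ hx2⟩ = r • I.toCotangent ⟨x, hx2⟩ := by
          rw [← map_smul]; rfl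
        rw [this]; exact hsm r _ (h1 _)
    rintro z -
    obtain ⟨x, rfl⟩ := I.toCotangent_surjective z
    exact key x.1 x.2
  rw [Module.finrank_eq_card_basis (Module.Basis.mk hli hsp)]

end abs

section cot2
variable {k : Type u} [Field k] {m : ℕ}

theorem finrank_cot (hm : 2 ≤ m) : Module.finrank k (uorigin k m).Cotangent = (m + 2) * (m + 1) / 2 := by
  classical
  rw [← card_idx]
  refine cot_abs (exists_const (k := k) (m := m)) (ugen k m) rfl ugen_mem gen ?_ ?_
  · have hu := upoint_ugen k m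
    obtain ⟨i, j, hij⟩ : ∃ i j : Fin m, i ≠ j := ⟨⟨0, by omega⟩, ⟨1, by omega⟩, by simp⟩
    have hmul : ∀ g g' : UGen m, ugen k m g * ugen k m g' ∈ uorigin k m ^ 2 := fun g g' => by
      rw [pow_two]; exact Ideal.mul_mem_mul (ugen_mem g) (ugen_mem g')
    have hs : ∀ s : Idx m, ∃ c : Idx m → k, ugen k m (gen s) - ∑ i, c i • ugen k m (gen i) ∈ uorigin k m ^ 2 := by
      intro s
      refine ⟨Pi.single s 1, ?_⟩
      rw [Finset.sum_eq_single s]
      · rw [Pi.single_eq_same, one_smul, sub_self]; exact zero_mem _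
      · intro t _ ht; rw [Pi.single_eq_of_ne ht, zero_smul]
      · intro h; exact absurd (Finset.mem_univ s) h
    rintro (_ | _ | _ | i' | i' | ⟨i', j', h'⟩)
    · exact hs none
    · refine ⟨0, ?_⟩
      simp only [Pi.zero_apply, zero_smul, Finset.sum_const_zero, sub_zero]
      rw [hu.hc i j hij hij.symm]
      exact sub_mem (add_mem (hmul _ _) (hmul _ _)) (hmul _ _)
    · refine ⟨0, ?_⟩
      simp only [Pi.zero_apply, zero_smul, Finset.sum_const_zero, sub_zero]
      rw [hu.hcb i j hij hij.symm]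
      exact sub_mem (add_mem (hmul _ _) (hmul _ _)) (hmul _ _)
    · exact hs (some (Sum.inl i'))
    · exact hs (some (Sum.inr (Sum.inl i')))
    · rcases lt_or_gt_of_ne h' with h1 | h1
      · exact hs (some (Sum.inr (Sum.inr ⟨(i', j'), h1⟩)))
      · have h2 := hu.lin i' j' h' h'.symm
        have key : ∀ s : Idx m, ∑ t, (Pi.single s (1 : k) : Idx m → k) t • ugen k m (gen t) = ugen k m (gen s) := by
          intro s
          rw [Finset.sum_eq_single s]
          · rw [Pi.single_eq_same, one_smul]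
          · intro t _ ht; rw [Pi.single_eq_of_ne ht, zero_smul]
          · intro h; exact absurd (Finset.mem_univ s) h
        refine ⟨Pi.single none 1 + Pi.single (some (Sum.inl i')) 1 + Pi.single (some (Sum.inr (Sum.inl i'))) 1 +
          Pi.single (some (Sum.inl j')) 1 + Pi.single (some (Sum.inr (Sum.inl j'))) 1 -
          Pi.single (some (Sum.inr (Sum.inr ⟨(j', i'), h1⟩))) 1, ?_⟩
        simp only [Pi.add_apply, Pi.sub_apply, add_smul, sub_smul, Finset.sum_add_distrib, Finset.sum_sub_distrib, key]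
        simp only [gen]
        convert (Ideal.zero_mem (uorigin k m ^ 2)) using 1
        linear_combination h2
  · intro s
    refine ⟨(TrivSqZeroExt.sndHom k k).restrictScalars k ∘ₗ (fl (k := k) (m := m) (Pi.single s 1)).toLinearMap, ?_, ?_, ?_⟩
    · intro x hx
      simp only [LinearMap.comp_apply, AlgHom.toLinearMap_apply]
      rw [fl_sq _ hx, map_zero]
    · simp only [LinearMap.comp_apply, AlgHom.toLinearMap_apply, fl, ulift_ugen, lam_gen]
      simp
    · intro t ht
      simp only [LinearMap.comp_apply, AlgHom.toLinearMap_apply, fl, ulift_ugen, lam_gen]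
      rw [Pi.single_eq_of_ne ht]
      simp

end cot2


/-- Let m ≥ 2, so that n = m + 3 ≥ 5 points are marked. For every field k, the Zariski cotangent space
of U_n over k at the origin, that is I/I² for the ideal I of the coordinate ring of U_n over k
generated by the classes of all the generators a, c, c̄, c_i, c̄_i, c_{ij}, has dimension (n − 1)(n
− 2)/2 = (m + 2)(m + 1)/2 over k; and the weight-one classes a, c_i, c̄_i (all indices i) and c_{ij}
(i < j) generate the coordinate ring of U_n over ℤ as a ℤ-algebra (so they form a minimal generating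
set). -/
theorem result (m : ℕ) (hm : 2 ≤ m) :
    (∀ (k : Type u) [Field k], Module.finrank k (uorigin k m).Cotangent = (m + 2) * (m + 1) / 2) ∧
    Algebra.adjoin ℤ ({ugen ℤ m .a} ∪ Set.range (fun i : Fin m => ugen ℤ m (.ci i)) ∪
        Set.range (fun i : Fin m => ugen ℤ m (.cbi i)) ∪
        Set.range (fun q : {q : Fin m × Fin m // q.1 < q.2} => ugen ℤ m (.cij q.1.1 q.1.2 (ne_of_lt q.2)))) = ⊤ :=
  ⟨fun _ _ => finrank_cot hm, adjoin_eq m hm⟩

end Groth.Agent.S18248
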