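import Groth.Statements.S18252
import Groth.Agent.Curves.K332.UBasic

set_option autoImplicit false
universe u
open W4c5m1nsnscurves
open Curves

namespace Groth.Agent.S18252

open K332.UBasic MvPolynomial

section
variable (R : Type u) [CommRing R] (m : ℕ)

/-- The map `O(C_n) → O(U_{n+1})`. -/
noncomputable def fwd : CurveAlg (URing R m) m (ugen R m) →+* URing R (m + 1) :=
  letI := (uincl R m).toRingHom.toAlgebra
  (clift (S := URing R (m + 1)) (w := ugen R m)
    (xext (fun g => ugen R (m + 1) g.castSucc) (ugen R (m + 1) (.ci (Fin.last m)))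
      (ugen R (m + 1) (.cbi (Fin.last m)))
      (fun i => ugen R (m + 1) (.cij i.castSucc (Fin.last m) (Fin.castSucc_lt_last i).ne)))
    (by
      have h := cpoint_of_upoint (upoint_ugen R (m + 1))
      have e : (fun g => algebraMap (URing R m) (URing R (m + 1)) (ugen R m g)) =
          fun g => ugen R (m + 1) g.castSucc := funext fun g => uincl_ugen g
      rw [e]
      exact h)).toRingHom

theorem fwd_algebraMap (r : URing R m) : fwd R m (algebraMap (URing R m) (CurveAlg (URing R m) m (ugen R m)) r) =
    uincl R m r := by
  letI := (uincl R m).toRingHom.toAlgebra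
  exact (clift (S := URing R (m + 1)) (w := ugen R m) _ _).commutes r

theorem fwd_cvar (y : CVar m) : fwd R m (cvar (ugen R m) y) =
    xext (fun g => ugen R (m + 1) g.castSucc) (ugen R (m + 1) (.ci (Fin.last m)))
      (ugen R (m + 1) (.cbi (Fin.last m)))
      (fun i => ugen R (m + 1) (.cij i.castSucc (Fin.last m) (Fin.castSucc_lt_last i).ne)) y := by
  letI := (uincl R m).toRingHom.toAlgebra
  exact clift_cvar _ _ y

/-- The tautological assignment on the curve. -/
noncomputable def bval : UGen (m + 1) → CurveAlg (URing R m) m (ugen R m) :=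
  uext (fun g => algebraMap (URing R m) (CurveAlg (URing R m) m (ugen R m)) (ugen R m g))
    (cvar (ugen R m) .x2)
    (cvar (ugen R m) .x3 - cvar (ugen R m) .x2 -
      algebraMap (URing R m) (CurveAlg (URing R m) m (ugen R m)) (ugen R m .a))
    (fun i => cvar (ugen R m) (.xi i))

theorem bval_upoint : UPoint (bval R m) := by
  refine upoint_uext ((upoint_ugen R m).map (algebraMap (URing R m) (CurveAlg (URing R m) m (ugen R m)))) ?_
  have h := cpoint_cvar (R := URing R m) (m := m) (ugen R m)
  convert h using 1
  funext y
  rcases y with _ | _ | i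
  · rfl
  · simp only [xext]; ring
  · rfl

/-- The map `O(U_{n+1}) → O(C_n)`. -/
noncomputable def bwd : URing R (m + 1) →ₐ[R] CurveAlg (URing R m) m (ugen R m) :=
  ulift (bval R m) (bval_upoint R m)

theorem bwd_fwd : (bwd R m).toRingHom.comp (fwd R m) = RingHom.id _ := by
  apply cringHom_ext
  · intro r
    have : ((bwd R m).toRingHom.comp ((fwd R m).comp (algebraMap (URing R m) (CurveAlg (URing R m) m (ugen R m))))) =
        algebraMap (URing R m) (CurveAlg (URing R m) m (ugen R m)) := by
      apply uringHom_ext
      · intro r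
        simp only [RingHom.comp_apply, fwd_algebraMap]
        have h1 : uincl R m (algebraMap R (URing R m) r) = algebraMap R (URing R (m + 1)) r :=
          (uincl R m).commutes r
        rw [h1]
        exact (bwd R m).commutes r
      · intro g
        simp only [RingHom.comp_apply, fwd_algebraMap, uincl_ugen]
        have : (bwd R m).toRingHom (ugen R (m + 1) g.castSucc) = bval R m g.castSucc := ulift_ugen _ _ _
        rw [this]
        rcases g with _ | _ | _ | i | i | ⟨i, j, h⟩ <;> simp [bval, UGen.castSucc]
    exact RingHom.congr_fun this r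
  · intro y
    simp only [RingHom.comp_apply, fwd_cvar, RingHom.id_apply]
    have h (g) : (bwd R m).toRingHom (ugen R (m + 1) g) = bval R m g := ulift_ugen _ _ _
    rcases y with _ | _ | i
    · simp only [xext, h]; simp [bval]
    · simp only [xext, map_add, h]; simp [bval, UGen.castSucc]; ring
    · simp only [xext, h]; simp [bval]

theorem fwd_bwd : (fwd R m).comp (bwd R m).toRingHom = RingHom.id _ := by
  apply uringHom_ext
  · intro r
    have : (bwd R m).toRingHom (algebraMap R (URing R (m + 1)) r) = algebraMap R _ r := (bwd R m).commutes r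
    simp only [RingHom.comp_apply, this, RingHom.id_apply]
    have : algebraMap R (CurveAlg (URing R m) m (ugen R m)) r =
      algebraMap (URing R m) (CurveAlg (URing R m) m (ugen R m)) (algebraMap R (URing R m) r) := rfl
    rw [this, fwd_algebraMap]
    exact (uincl R m).commutes r
  · intro g
    have h (g) : (bwd R m).toRingHom (ugen R (m + 1) g) = bval R m g := ulift_ugen _ _ _
    simp only [RingHom.comp_apply, h, RingHom.id_apply]
    have h1 : (fun g => fwd R m (bval R m g)) = ugen R (m + 1) := by
      have h3 := ((upoint_ugen R m).map (algebraMap (URing R m) (CurveAlg (URing R m) m (ugen R m)))).map (fwd R m)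
      have h2 := eq_uext ((bval_upoint R m).map (fwd R m))
      rw [h2, eq_uext (upoint_ugen R (m + 1))]
      congr 1
      · funext g
        rcases g with _ | _ | _ | i | i | ⟨i, j, h⟩ <;>
          simp [bval, UGen.castSucc, fwd_algebraMap, uincl_ugen]
      · simp [bval, fwd_cvar, xext]
      · simp [bval, fwd_cvar, xext, fwd_algebraMap, uincl_ugen, UGen.castSucc]; ring
      · funext i
        simp [bval, fwd_cvar, xext]
    exact congrFun h1 g

end

/-- Let R be a commutative ring and m ≥ 1, so that n = m + 3 ≥ 4. Consider the projection U_{n+1} → U_n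
forgetting the coordinates c_{n+1}, c̄_{n+1}, c_{i,n+1}, c_{n+1,i}, i.e. the ring map O(U_n) →
O(U_{n+1}) sending each generator to the generator with the same indices, and the affine curve C_n →
U_n, i.e. the curve algebra over O(U_n) whose constants a, c, c̄, c_i, c̄_i, c_{ij} are the
generators of O(U_n) themselves. Then x_2 ↦ c_{n+1}, x_3 ↦ a + c_{n+1} + c̄_{n+1}, x_i ↦ c_{i,n+1}
defines an isomorphism O(C_n) ≅ O(U_{n+1}) over O(U_n): there is a ring isomorphism with these
values on the variables whose composite with the structure map O(U_n) → O(C_n) is the projection's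
ring map. -/
theorem result (R : Type u) [CommRing R] (m : ℕ) (hm : 1 ≤ m) :
    ∃ e : CurveAlg (URing R m) m (ugen R m) ≃+* URing R (m + 1),
      (∀ r : URing R m, e (algebraMap (URing R m) (CurveAlg (URing R m) m (ugen R m)) r) = uincl R m r) ∧
      e (Ideal.Quotient.mk (Ideal.span (CRel (URing R m) m (ugen R m))) (MvPolynomial.X CVar.x2)) =
        ugen R (m + 1) (UGen.ci (Fin.last m)) ∧
      e (Ideal.Quotient.mk (Ideal.span (CRel (URing R m) m (ugen R m))) (MvPolynomial.X CVar.x3)) =
        ugen R (m + 1) UGen.a + ugen R (m + 1) (UGen.ci (Fin.last m)) + ugen R (m + 1) (UGen.cbi (Fin.last m)) ∧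
      ∀ i : Fin m, e (Ideal.Quotient.mk (Ideal.span (CRel (URing R m) m (ugen R m))) (MvPolynomial.X (CVar.xi i))) =
        ugen R (m + 1) (UGen.cij i.castSucc (Fin.last m) (Fin.castSucc_lt_last i).ne) := by
  refine ⟨RingEquiv.ofRingHom (fwd R m) (bwd R m).toRingHom (fwd_bwd R m) (bwd_fwd R m), ?_, ?_, ?_, ?_⟩
  · intro r; exact fwd_algebraMap R m r
  · exact fwd_cvar R m .x2
  · exact fwd_cvar R m .x3
  · intro i; exact fwd_cvar R m (.xi i)

end Groth.Agent.S18252
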