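import Groth.Statements.S18249
import Groth.Agent.Curves.K332.Cnt
import Groth.Agent.Curves.K332.CFin
import Groth.Agent.S18247
import Groth.Agent.S18252

set_option autoImplicit false
universe u
open W4c5m1nsnscurves
open Curves

namespace Groth.Agent.S18249

open K332.UBasic K332.Cnt K332.CFin MvPolynomial

attribute [local instance] MvPolynomial.weightedGradedAlgebra

theorem ugen_mem (m : ℕ) (g : UGen m) : ugen ℤ m g ∈ upiece ℤ m (uwt g) :=
  GrQuot.mk_mem_quot _ _ (isWeightedHomogeneous_X ℤ uwt g)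

theorem mul_mem (m : ℕ) {i j : ℕ} {x y : URing ℤ m} (hx : x ∈ upiece ℤ m i) (hy : y ∈ upiece ℤ m j) :
    x * y ∈ upiece ℤ m (i + j) :=
  (GrQuot.gradedMonoid (weightedHomogeneousSubmodule ℤ (uwt (m := m))) (Ideal.span (URel ℤ m))).mul_mem hx hy

theorem one_mem (m : ℕ) : (1 : URing ℤ m) ∈ upiece ℤ m 0 :=
  (GrQuot.gradedMonoid (weightedHomogeneousSubmodule ℤ (uwt (m := m))) (Ideal.span (URel ℤ m))).one_mem

theorem pow_mem (m : ℕ) {i : ℕ} {x : URing ℤ m} (hx : x ∈ upiece ℤ m i) (k : ℕ) : x ^ k ∈ upiece ℤ m (k * i) := by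
  induction k with
  | zero => simpa using one_mem m
  | succ k ih =>
    have := mul_mem m ih hx
    rw [pow_succ, Nat.succ_mul]; exact this

theorem isInternal (m : ℕ) : DirectSum.IsInternal (upiece ℤ m) := by
  have hX : ∀ g : UGen m, IsWeightedHomogeneous uwt (X g : MvPolynomial (UGen m) ℤ) (uwt g) :=
    fun g => isWeightedHomogeneous_X ℤ uwt g
  have hh : (Ideal.span (URel ℤ m)).IsHomogeneous (weightedHomogeneousSubmodule ℤ (uwt (m := m))) := by
    refine Ideal.homogeneous_span _ _ ?_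
    intro p hp
    rcases hp with ((⟨q, rfl⟩ | ⟨q, rfl⟩) | ⟨q, rfl⟩) | ⟨q, rfl⟩
    · refine ⟨1, ?_⟩
      have a1 := hX .a
      have a2 := hX (.ci q.1.1)
      have a3 := hX (.cbi q.1.1)
      have a4 := hX (.ci q.1.2)
      have a5 := hX (.cbi q.1.2)
      have a6 := hX (.cij q.1.1 q.1.2 q.2)
      have a7 := hX (.cij q.1.2 q.1.1 (Ne.symm q.2))
      exact sub_mem (add_mem a6 a7) (add_mem (add_mem (add_mem (add_mem a1 a2) a3) a4) a5)
    · refine ⟨2, ?_⟩
      have a1 := (hX (.cij q.1.2 q.1.1 (Ne.symm q.2))).mul (hX (.ci q.1.2))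
      have a2 := (hX (.cij q.1.1 q.1.2 q.2)).mul (hX (.ci q.1.1))
      have a3 := (hX (.ci q.1.1)).mul (hX (.ci q.1.2))
      exact sub_mem (sub_mem (add_mem a1 a2) a3) (hX .c)
    · refine ⟨2, ?_⟩
      have a1 := (hX (.cij q.1.2 q.1.1 (Ne.symm q.2))).mul (hX (.cbi q.1.1))
      have a2 := (hX (.cij q.1.1 q.1.2 q.2)).mul (hX (.cbi q.1.2))
      have a3 := (hX (.cbi q.1.1)).mul (hX (.cbi q.1.2))
      exact sub_mem (sub_mem (add_mem a1 a2) a3) (hX .cb)
    · refine ⟨2, ?_⟩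
      have a1 := (hX (.cij q.1.1 q.1.2.1 q.2.1)).mul (hX (.cij q.1.2.1 q.1.2.2 q.2.2.1))
      have a2 := (hX (.cij q.1.2.1 q.1.1 (Ne.symm q.2.1))).mul (hX (.cij q.1.1 q.1.2.2 q.2.2.2))
      have a3 := (hX (.cij q.1.1 q.1.2.2 q.2.2.2)).mul (hX (.cij q.1.2.1 q.1.2.2 q.2.2.1))
      have a5 : IsWeightedHomogeneous uwt (X .a + X (.ci q.1.2.2) + X (.cbi q.1.2.2) :
          MvPolynomial (UGen m) ℤ) 1 :=
        ((weightedHomogeneousSubmodule ℤ uwt 1).add_mem ((weightedHomogeneousSubmodule ℤ uwt 1).add_mem (hX .a)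
          (hX (.ci q.1.2.2))) (hX (.cbi q.1.2.2)))
      have a4 : IsWeightedHomogeneous uwt ((X .a + X (.ci q.1.2.2) + X (.cbi q.1.2.2)) * X (.ci q.1.2.2) :
          MvPolynomial (UGen m) ℤ) (1 + 1) := a5.mul (hX _)
      exact sub_mem (add_mem (sub_mem (add_mem a1 a2) a3) a4) (hX .c)
  haveI : GrQuot.IsHomog (weightedHomogeneousSubmodule ℤ (uwt (m := m))) (Ideal.span (URel ℤ m)) :=
    (GrQuot.isHomog_iff _ _).mpr hh
  exact @DirectSum.Decomposition.isInternal ℕ (URing ℤ m) (Submodule ℤ (URing ℤ m)) _ _ _ _ (upiece ℤ m)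
    (GrQuot.decomposition (weightedHomogeneousSubmodule ℤ (uwt (m := m))) (Ideal.span (URel ℤ m)))

theorem castSucc_wt {m : ℕ} (g : UGen m) : uwt g.castSucc = uwt g := by
  rcases g with _ | _ | _ | i | i | ⟨i, j, h⟩ <;> rfl

theorem uincl_mem (m : ℕ) {d : ℕ} {x : URing ℤ m} (hx : x ∈ upiece ℤ m d) : uincl ℤ m x ∈ upiece ℤ (m + 1) d := by
  obtain ⟨p, hp, rfl⟩ := hx
  refine ⟨rename UGen.castSucc p, ?_, rfl⟩
  change IsWeightedHomogeneous uwt (rename UGen.castSucc p) d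
  have hp' : IsWeightedHomogeneous uwt p d := hp
  intro e he
  obtain ⟨u, rfl, hu⟩ := coeff_rename_ne_zero _ _ _ he
  rw [← hp' hu, Finsupp.weight_apply, Finsupp.weight_apply, Finsupp.sum_mapDomain_index]
  · simp only [castSucc_wt]
  · intro b; simp
  · intro b x y; rw [add_smul]

/-- A homogeneous basis with the right number of elements in each degree. -/
def HasHilb (m : ℕ) : Prop := ∃ (ι : Type) (w : ι → ℕ) (B : Module.Basis ι ℤ (URing ℤ m)),
  (∀ i, B i ∈ upiece ℤ m (w i)) ∧ Cnt w (uhilb m)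

theorem hasHilb_two : HasHilb 2 := by
  let F : MvPolynomial (Fin 6) ℤ →ₐ[ℤ] URing ℤ 2 := MvPolynomial.aeval (R := ℤ) (S₁ := URing ℤ 2)
      ![ugen ℤ 2 .a, ugen ℤ 2 (.ci 0), ugen ℤ 2 (.cbi 0), ugen ℤ 2 (.ci 1), ugen ℤ 2 (.cbi 1),
        ugen ℤ 2 (.cij 0 1 Fin.zero_ne_one)]
  have hF : Function.Bijective F := Groth.Agent.S18247.result
  let e : MvPolynomial (Fin 6) ℤ ≃ₗ[ℤ] URing ℤ 2 := LinearEquiv.ofBijective F.toLinearMap hF
  refine ⟨Fin 6 →₀ ℕ, fun s => ∑ i, s i, (basisMonomials (Fin 6) ℤ).map e, fun s => ?_, ?_⟩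
  · rw [Module.Basis.map_apply]
    have h1 : e ((basisMonomials (Fin 6) ℤ) s) = F (monomial s 1) := by
      rw [coe_basisMonomials]; rfl
    rw [h1, aeval_monomial, map_one, one_mul, Finsupp.prod_fintype _ _ (fun i => pow_zero _)]
    show _ ∈ upiece ℤ 2 (∑ i, s i)
    rw [Fin.sum_univ_six, Fin.prod_univ_six]
    refine mul_mem 2 (mul_mem 2 (mul_mem 2 (mul_mem 2 (mul_mem 2 ?_ ?_) ?_) ?_) ?_) ?_
    · have := pow_mem 2 (ugen_mem 2 .a) (s 0)
      simpa [uwt] using this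
    · have := pow_mem 2 (ugen_mem 2 (.ci 0)) (s 1)
      simpa [uwt] using this
    · have := pow_mem 2 (ugen_mem 2 (.cbi 0)) (s 2)
      simpa [uwt] using this
    · have := pow_mem 2 (ugen_mem 2 (.ci 1)) (s 3)
      simpa [uwt] using this
    · have := pow_mem 2 (ugen_mem 2 (.cbi 1)) (s 4)
      simpa [uwt] using this
    · have := pow_mem 2 (ugen_mem 2 (.cij 0 1 Fin.zero_ne_one)) (s 5)
      simpa [uwt] using this
  · have h := cnt_pi 6
    have h2 : uhilb 2 = (PowerSeries.mk fun _ => (1 : ℤ)) ^ 6 := by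
      rw [uhilb]
      simp
    rw [h2]
    exact h.equiv Finsupp.equivFunOnFinite (fun s => rfl)

theorem uhilb_succ {m : ℕ} (hm : 2 ≤ m) : uhilb (m + 1) = ((PowerSeries.mk fun _ => (1 : ℤ)) *
    (1 + PowerSeries.C ((m + 1 : ℕ) : ℤ) * PowerSeries.X + PowerSeries.X ^ 2)) * uhilb m := by
  rw [uhilb, uhilb, Finset.prod_Icc_succ_top (by omega : 3 ≤ m + 1)]
  ring

theorem hasHilb_succ {m : ℕ} (hm : 2 ≤ m) (h : HasHilb m) : HasHilb (m + 1) := by
  obtain ⟨ι, w, B, hB, hc⟩ := h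
  obtain ⟨e, he0, he2, he3, hei⟩ := Groth.Agent.S18252.result ℤ m (by omega)
  let B' : Module.Basis (Option (ℕ ⊕ (CVar m × ℕ))) (URing ℤ m) (CurveAlg (URing ℤ m) m (ugen ℤ m)) :=
    Module.Basis.mk (linInd_cmon (by omega) (upoint_ugen ℤ m)) (span_cmon (by omega) (ugen ℤ m)).ge
  let B2 := B.smulTower B'
  let e' : CurveAlg (URing ℤ m) m (ugen ℤ m) ≃ₗ[ℤ] URing ℤ (m + 1) := e.toAddEquiv.toIntLinearEquiv
  refine ⟨ι × Option (ℕ ⊕ (CVar m × ℕ)), fun p => w p.1 + cwt p.2, B2.map e', ?_, ?_⟩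
  · rintro ⟨i, s⟩
    rw [Module.Basis.map_apply]
    have h1 : e' (B2 (i, s)) = uincl ℤ m (B i) * e (cmon (URing ℤ m) m (ugen ℤ m) s) := by
      have : B2 (i, s) = algebraMap (URing ℤ m) (CurveAlg (URing ℤ m) m (ugen ℤ m)) (B i) *
          cmon (URing ℤ m) m (ugen ℤ m) s := by
        rw [Module.Basis.smulTower_apply, Module.Basis.mk_apply]
        exact Algebra.smul_def (R := URing ℤ m) (A := CurveAlg (URing ℤ m) m (ugen ℤ m)) (B i) _
      rw [this]
      change e _ = _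
      rw [map_mul, he0]
    rw [h1]
    refine mul_mem _ (uincl_mem m (hB i)) ?_
    have g2 : e (Ideal.Quotient.mk (Ideal.span (CRel (URing ℤ m) m (ugen ℤ m))) (X CVar.x2)) ∈ upiece ℤ (m + 1) 1 := by
      rw [he2]; exact ugen_mem (m + 1) (.ci (Fin.last m))
    have g3 : e (Ideal.Quotient.mk (Ideal.span (CRel (URing ℤ m) m (ugen ℤ m))) (X CVar.x3)) ∈ upiece ℤ (m + 1) 1 := by
      rw [he3]
      exact (Submodule.add_mem _ (Submodule.add_mem _ (ugen_mem (m + 1) .a) (ugen_mem (m + 1) (.ci (Fin.last m))))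
        (ugen_mem (m + 1) (.cbi (Fin.last m))))
    have gi : ∀ y, e (Ideal.Quotient.mk (Ideal.span (CRel (URing ℤ m) m (ugen ℤ m))) (X y)) ∈ upiece ℤ (m + 1) 1 := by
      rintro (_ | _ | i)
      · exact g2
      · exact g3
      · rw [hei]; exact ugen_mem (m + 1) (.cij i.castSucc (Fin.last m) (Fin.castSucc_lt_last i).ne)
    rcases s with _ | k | ⟨y, k⟩
    · have : e (cmon (URing ℤ m) m (ugen ℤ m) none) = 1 := map_one e
      rw [this]; exact one_mem _
    · have : e (cmon (URing ℤ m) m (ugen ℤ m) (some (Sum.inl k))) =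
          e (Ideal.Quotient.mk _ (X CVar.x2)) ^ (k + 1) * e (Ideal.Quotient.mk _ (X CVar.x3)) := by
        rw [← map_pow, ← map_mul, ← map_pow, ← map_mul]; rfl
      rw [this]
      have h2 := mul_mem _ (pow_mem _ g2 (k + 1)) g3
      simpa [cwt] using h2
    · have : e (cmon (URing ℤ m) m (ugen ℤ m) (some (Sum.inr (y, k)))) =
          e (Ideal.Quotient.mk _ (X y)) ^ (k + 1) := by
        rw [← map_pow, ← map_pow]; rfl
      rw [this]
      have h2 := pow_mem _ (gi y) (k + 1)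
      simpa [cwt] using h2
  · rw [uhilb_succ hm, mul_comm]
    exact hc.prod (cnt_cwt m)

theorem hasHilb {m : ℕ} (hm : 2 ≤ m) : HasHilb m := by
  induction m, hm using Nat.le_induction with
  | base => exact hasHilb_two
  | succ m hm ih => exact hasHilb_succ hm ih

/-- Let m ≥ 2, so that n = m + 3 ≥ 5 points are marked. Grade the coordinate ring of U_n over ℤ by
giving the generators a, c_i, c̄_i, c_{ij} weight 1 and c, c̄ weight 2 (the defining relations are
weighted-homogeneous). Then the coordinate ring of U_n is a free ℤ-module, it is the internal direct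
sum of its weight pieces (the weight-d piece being the image of the weighted-homogeneous polynomials
of weight d), and the weight-d piece has rank the coefficient of t^d in the power series (1 −
t)^{−(n+1)} ∏_{k=3}^{n−3} (1 + k t + t²). -/
theorem result (m : ℕ) (hm : 2 ≤ m) :
    Module.Free ℤ (URing ℤ m) ∧ DirectSum.IsInternal (upiece ℤ m) ∧
      ∀ d : ℕ, (Module.finrank ℤ (upiece ℤ m d) : ℤ) = PowerSeries.coeff d (uhilb m) := by
  obtain ⟨ι, w, B, hB, hc⟩ := hasHilb hm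
  refine ⟨Module.Free.of_basis B, isInternal m, fun d => ?_⟩
  rw [finrank_piece (isInternal m) B w hB d (hc.1 d)]
  exact hc.2 d

end Groth.Agent.S18249
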