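import Groth.Statements.S18250
import Groth.Agent.Curves.K840.OmegaPt
import Groth.Agent.Surf.K458.KerMul2
import Groth.Agent.Curves.K326.DegPts
import Groth.Agent.CurvesC.EulerHV
import Groth.Agent.Fga.SnapperTwist
import Groth.Agent.CycB.CohProp

set_option autoImplicit false
universe u
open AlgebraicGeometry CategoryTheory CategoryTheory.Limits
open Curves

namespace Groth.Agent.S18250

/-- Let k be an algebraically closed field and C a reduced, connected scheme, proper over k and of
dimension one (a reduced connected projective curve), of arithmetic genus 1, i.e. dim_k H^1(C, O_C)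
= 1. Let (ω, tr) be a 1-dualizing pair for C over k (ω a dualizing sheaf with its trace on H^1), let
p be a closed point of C whose local ring is regular (a smooth point), and let L be an invertible
O_C-module inverse to the ideal sheaf of the reduced point p (L = O_C(p)). Then dim_k H^0(C, L) = 1
if and only if H^1(C, L) = 0; and H^1(C, L) = 0 if and only if every nonzero global section s of ω
generates ω near p, i.e. p lies in the open C_s (equivalently, since H^0(C, ω) and the fibre of ω at
p are one-dimensional, the restriction map from H^0(C, ω) to the fibre of ω at p is an isomorphism). -/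
theorem result
    (k : Type u) [Field k] [IsAlgClosed k] (C : Scheme.{u}) [C.Over (Spec (CommRingCat.of k))]
    [IsProper (C ↘ Spec (CommRingCat.of k))] [AlgebraicGeometry.IsReduced C] [ConnectedSpace C]
    (hdim : topologicalKrullDim C = 1) (hg : Curv2.genus k C = 1)
    (ω : C.Modules) (tr : Coh.HH C ω 1 →ₗ[k] k) (hω : Canon.IsRDualOver k C 1 ω tr)
    (p : C) (hp : IsClosed ({p} : Set C)) (hreg : IsRegularLocalRing (C.presheaf.stalk p))
    (L : C.Modules)
    (hL : ClSub.IsInverseOf L (ClSub.idealMod (Scheme.IdealSheafData.vanishingIdeal ⟨{p}, hp⟩))) :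
    (Module.finrank k (Coh.HH C L 0) = 1 ↔ Subsingleton (Coh.HH C L 1)) ∧
      (Subsingleton (Coh.HH C L 1) ↔
        ∀ s : Coh.structureModule C ⟶ ω, s ≠ 0 → p ∈ CohB1.genLocus ω s) := by
  have hle : topologicalKrullDim C ≤ 1 := hdim.le
  have hN : AlgebraicGeometry.IsNoetherian C := Groth.Agent.VarietyB.DegFin.isNoetherian_of_isProper k C
  have h0 : Module.finrank k (Coh.HH C (Coh.structureModule C) 0) = 1 := K326.DegPts.finrank_zero k C
  obtain ⟨-, hCM, hequi⟩ := Groth.Agent.S1534.result k C hdim h0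
  have hLi := (Groth.Agent.Dix.IdealModCartier.isInvertible_of_isInverseOf hL).1
  have heff := Groth.Agent.Dix.IdealModCartier.isEffCartierIdeal_of_isInverseOf hL
  obtain ⟨hwc, hgen⟩ := K840.OmegaPt.exists_gen k C (by exact_mod_cast hle) hCM
    (fun Z hZ => by exact_mod_cast hequi Z hZ) hω
  obtain ⟨U, e, hpU, he⟩ := hgen p (Groth.Agent.S0342.result _)
  have hdual := K840.OmegaPt.isDual_of_isRDualOver hω
  obtain ⟨s0, hs0⟩ := K246.CanSec.exists_isCan hL
  let c : Coh.structureModule C ⟶ L := Groth.Agent.Fdesc.LocGen.homOf s0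
  have hc : ∀ V : C.Opens, Groth.Agent.Fdesc.LocGen.sec c V = Groth.Agent.Fdesc.LocGen.res L le_top s0 := fun V =>
    Groth.Agent.Fdesc.LocGen.sec_homOf s0 V
  have hst := K326.PtIdeal.stalkIdeal_point p hp
  have hcp : ∀ x : C, x ∈ CohB1.genLocus L c ↔ x ≠ p := by
    intro x
    obtain ⟨U₁, g₁, a₁, hx₁, hg₁, ha₁, hs₁⟩ := hs0 x
    have h1 := Groth.Agent.Fdesc.LocGen.genLocus_inf_eq c hg₁ ((hc U₁.1).trans hs₁)
    have h2 : x ∈ CohB1.genLocus L c ↔ x ∈ C.basicOpen a₁ := by
      rw [← h1]
      exact ⟨fun h => ⟨h, hx₁⟩, fun h => h.1⟩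
    rw [h2, Scheme.mem_basicOpen _ _ _ hx₁]
    have h3 := K458.KerMul2.stalkIdeal_genOn ha₁ x hx₁
    rw [← Ideal.span_singleton_eq_top, ← h3, ← not_iff_not, not_not]
    rw [← K326.PtIdeal.mem_support_iff p hp x]
    exact (Groth.Agent.Divis.CartierBasic.mem_support_iff_stalkIdeal_ne_top _ x).symm
  obtain ⟨U', g, a, hpU', hg', ha, hsa⟩ := hs0 p
  have hgenpt : ∀ ξ : C, Groth.Agent.CurvesB.SubH1.IsGen ξ → ξ ∈ CohB1.genLocus L c := by
    intro ξ hξ
    rw [hcp]
    rintro rfl
    exact K326.PtIdeal.not_isClosed_of_generic (hequi _ (K314.RegPow.closure_mem_irreducibleComponents hξ)) hp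
  have hLc := Groth.Agent.CurvesB.SubPoint.isCoh_of_isInvertible hLi
  have hfin1 : Module.Finite k (Coh.HH C L 1) := Groth.Agent.S0002.result k C _ hLc 1
  refine ⟨?_, ?_, ?_⟩
  · have hs : ((Scheme.IdealSheafData.vanishingIdeal ⟨{p}, hp⟩ : C.IdealSheafData).support : Set C) = {p} :=
      Scheme.IdealSheafData.coe_support_vanishingIdeal _
    have := K326.DegPts.isFinite_of_finite k C (Scheme.IdealSheafData.vanishingIdeal ⟨{p}, hp⟩)
      (by rw [hs]; exact Set.finite_singleton p)
    have h1 := Groth.Agent.S1604.euler_eq k C hle _ heff L hLi hL 1 (Coh.structureModule C)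
      (Groth.Agent.Ega2.QCohLocal.isFinLocFreeOfRank_one_iff.mpr Groth.Agent.Fdesc.LocGen.isInvertible_structureModule)
    rw [K326.DegPts.finrank_quotMod_eq_ncard k C _ (fun x hx => by
        obtain rfl := (K326.PtIdeal.mem_support_iff p hp x).mp hx
        exact hst), hs, Set.ncard_singleton,
      Groth.Agent.VarietyA.EulerAdd.euler_congr k (Groth.Agent.Ega2.Tens.lunit L),
      Groth.Agent.CurvesC.EulerHV.euler_eq k C hle, Groth.Agent.CurvesC.EulerHV.euler_eq k C hle] at h1
    have e0 : Module.finrank k (Groth.Agent.CurvesC.HV C (Coh.structureModule C) 0) = 1 := h0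
    have e1 : Module.finrank k (Groth.Agent.CurvesC.HV C (Coh.structureModule C) 1) = 1 := hg
    rw [e0, e1] at h1
    have h2 : (Module.finrank k (Coh.HH C L 0) : ℤ) - Module.finrank k (Coh.HH C L 1) = 1 := by
      have h3 : (Module.finrank k (Coh.HH C L 0) : ℤ) - Module.finrank k (Coh.HH C L 1) =
        (1 : ℤ) - 1 + ((1 : ℕ) : ℤ) * ((1 : ℕ) : ℤ) := h1
      rw [h3]
      norm_num
    rw [← Module.finrank_zero_iff (R := k)]
    omega
  · intro h1 s hs
    exact K840.OmegaPt.mem_genLocus_of_subsingleton hdual hwc hLi c (fun x hx => (hcp x).mpr hx) hpU he hpU' hg'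
      ((hc _).trans hsa) (by rw [← hst]; exact K458.KerMul2.stalkIdeal_genOn ha p hpU')
      (K458.KerMul2.germ_mem_nonZeroDivisors heff ha p hpU')
      (Groth.Agent.CycB.CohProp.isCoh_kernel _ hwc (Groth.Agent.Fga.SnapperTwist.isCoh_tensor' hLi hwc)).1 h1 s hs
  · intro hall
    exact K840.OmegaPt.subsingleton_of_gen hle hdual hLi c hgenpt (fun h => (hcp p).mp h rfl) hall

end Groth.Agent.S18250
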