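import Groth.Statements.S18251
import Groth.Agent.Curves.K332.CBase

set_option autoImplicit false
universe u
open W4c5m1nsnscurves
open Curves

namespace Groth.Agent.S18251

open K332.UBasic K332.CSpan K332.CBase MvPolynomial

theorem aux {R : Type u} [CommRing R] (a b c d : R) {A : Type u} [CommRing A] (f : MvPolynomial (Fin 2) R →+* A)
    (h : f (X 0 * X 1 ^ 2 - X 0 ^ 2 * X 1 - (C a * X 0 * X 1 + C b * X 0 + C c * X 1 + C d)) = 0) :
    f (X 0) * f (X 1) ^ 2 = f (X 0) ^ 2 * f (X 1) + f (C a) * f (X 0) * f (X 1) + f (C b) * f (X 0) +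
      f (C c) * f (X 1) + f (C d) := by
  simp only [map_sub, map_add, map_mul, map_pow] at h
  linear_combination h

/-- Case n = 3: let R be a commutative ring and a, b, c, d elements of R (a point of U_3, which is
affine 4-space, so no condition is imposed). Then in the R-algebra R[x_2, x_3]/(x_2 x_3² − x_2² x_3
− a x_2 x_3 − b x_2 − c x_3 − d) the classes of the monomials 1, x_2^k x_3, x_2^k and x_3^k (k ≥ 1)
are linearly independent over R and span, i.e. form an R-basis. -/
theorem result (R : Type u) [CommRing R] (a b c d : R) :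
    LinearIndependent R (cmon3 R a b c d) ∧
      Submodule.span R (Set.range (cmon3 R a b c d)) = ⊤ := by
  refine ⟨linInd3 R a b c d, ?_⟩
  let x : CVar 0 → CurveAlg3 R a b c d := fun y => match y with
    | .x2 => Ideal.Quotient.mk _ (X 0)
    | .x3 => Ideal.Quotient.mk _ (X 1)
    | .xi i => i.elim0
  have hc : Cubic x a b c d := by
    have h : (Ideal.Quotient.mk (Ideal.span {(X 0 * X 1 ^ 2 - X 0 ^ 2 * X 1 -
        (C a * X 0 * X 1 + C b * X 0 + C c * X 1 + C d) : MvPolynomial (Fin 2) R)}))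
        (X 0 * X 1 ^ 2 - X 0 ^ 2 * X 1 - (C a * X 0 * X 1 + C b * X 0 + C c * X 1 + C d)) = 0 :=
      Ideal.Quotient.eq_zero_iff_mem.mpr (Ideal.subset_span rfl)
    exact aux a b c d _ h
  have hx : CPoint (fun g : UGen 0 => algebraMap R (CurveAlg3 R a b c d) ((fun _ => (0 : R)) g)) x :=
    ⟨fun i => i.elim0, fun i => i.elim0, fun i => i.elim0⟩
  have hs : Function.Surjective (aeval (R := R) x) := by
    intro z
    obtain ⟨p, rfl⟩ := Ideal.Quotient.mk_surjective z
    refine ⟨aeval (fun i : Fin 2 => if i = 0 then (X .x2 : MvPolynomial (CVar 0) R) else X .x3) p, ?_⟩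
    have : (aeval (R := R) x).comp (aeval (fun i : Fin 2 => if i = 0 then (X .x2 : MvPolynomial (CVar 0) R) else X .x3)) =
        Ideal.Quotient.mkₐ R _ := by
      apply MvPolynomial.algHom_ext
      intro i
      fin_cases i <;> simp [x]
    exact AlgHom.congr_fun this p
  have := qspan_eq_top (v := fun _ => (0 : R)) hc hx hs
  rw [← this]
  congr 1
  ext z
  constructor
  · rintro ⟨s, rfl⟩
    rcases s with _ | k | ⟨y, k⟩
    · exact ⟨none, rfl⟩
    · exact ⟨some (Sum.inl k), rfl⟩
    · fin_cases y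
      · exact ⟨some (Sum.inr (.x2, k)), rfl⟩
      · exact ⟨some (Sum.inr (.x3, k)), rfl⟩
  · rintro ⟨s, rfl⟩
    rcases s with _ | k | ⟨y, k⟩
    · exact ⟨none, rfl⟩
    · exact ⟨some (Sum.inl k), rfl⟩
    · rcases y with _ | _ | i
      · exact ⟨some (Sum.inr (0, k)), rfl⟩
      · exact ⟨some (Sum.inr (1, k)), rfl⟩
      · exact i.elim0

end Groth.Agent.S18251
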