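import Groth.Statements.S18255
import Groth.Agent.Pi1.K344.Final
import Groth.Agent.S3097

set_option autoImplicit false
universe u
open CategoryTheory CategoryTheory.Limits AlgebraicGeometry Opposite
open Pi1

namespace Groth.Agent.S18255

/-- Let k be an algebraically closed field of characteristic p > 0, S a smooth, proper, integral
k-scheme of dimension one, and f : X → S a smooth and proper morphism with geometrically irreducible
fibres. Then there is a positive integer d with the following property. For every natural number n
coprime to p and to d, every k-point s of S (a closed point), every cartesian square exhibiting X_s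
as the fibre of f over s, and every class c in H¹ of the small étale site of X_s with coefficients
in the constant sheaf Z/n, there exist a finite étale morphism h : S' → S with S' integral, a
k-point s' of S' mapping to s, and a class c' in H¹(X ×_S S', Z/n) such that, for the morphism j :
X_s → X ×_S S' induced by X_s → X and X_s → Spec k → S', the pull-back of c' along j (transported
along the canonical isomorphism between the pulled-back constant sheaf and the constant sheaf)
equals c. Over an algebraically closed field in which n is invertible such classes are the classes
of μ_n-torsors, so this says that every μ_n-torsor over a closed fibre is, after a finite étale base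
change of the base curve, the fibre of a μ_n-torsor over the whole family (a good lifting). The
source states this for smooth proper families of curves of genus at least two; its argument uses
only that f is smooth and proper with geometrically irreducible fibres over a smooth proper integral
curve, which is the form stated here. The source also introduces d after n; here d depends on f
alone, which is what the argument gives and is the non-vacuous reading. (Exactness of pull-back of
abelian étale sheaves, which always holds, is carried as an instance hypothesis on j.) -/
theorem result (k : Type u) [Field k] [IsAlgClosed k]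
    (p : ℕ) [Fact p.Prime] [CharP k p]
    (S : Scheme.{u}) (t : S ⟶ Spec (CommRingCat.of k)) [Smooth t] [IsProper t]
    [AlgebraicGeometry.IsIntegral S] (hdimS : topologicalKrullDim ↥S = 1)
    (X : Scheme.{u}) (f : X ⟶ S) [Smooth f] [IsProper f] [GeometricallyIrreducible f] :
    ∃ d : ℕ, 0 < d ∧ ∀ (n : ℕ), Nat.Coprime n p → Nat.Coprime n d →
      ∀ (s : Spec (CommRingCat.of k) ⟶ S), s ≫ t = 𝟙 (Spec (CommRingCat.of k)) →
      ∀ (Xs : Scheme.{u}) (i : Xs ⟶ X) (q : Xs ⟶ Spec (CommRingCat.of k)), IsPullback i q f s →
      ∀ (c : EtCoh.H Xs (EtCoh.const Xs (ZMod n)) 1),
      ∃ (S' : Scheme.{u}) (h : S' ⟶ S) (_ : IsFinite h) (_ : Etale h) (_ : AlgebraicGeometry.IsIntegral S')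
        (s' : Spec (CommRingCat.of k) ⟶ S') (_ : s' ≫ h = s)
        (c' : EtCoh.H (pullback f h) (EtCoh.const (pullback f h) (ZMod n)) 1),
        ∀ (j : Xs ⟶ pullback f h), j ≫ pullback.fst f h = i → j ≫ pullback.snd f h = q ≫ s' →
          ∀ [PreservesFiniteLimits (EtCoh.pull j)],
            ((EtCoh.HF Xs 1).map (EtCore.pullConst j (ZMod n)).hom).hom
              (EtCore.Hpull j (EtCoh.const (pullback f h) (ZMod n)) 1 c') = c := by
  obtain ⟨d, hd0, hd⟩ := Groth.Agent.Pi1.K344.Final.main k p S t hdimS X f
    (fun n hn hk hF => Groth.Agent.S3097.result f n hn (EtCoh.const X (ZMod n)) hF hk 1)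
  refine ⟨d, hd0, fun n hnp hnd s _ Xs i q H c => ?_⟩
  obtain ⟨S', h, h1, h2, h3, s', hs', hsurj⟩ := hd n hnp hnd s Xs i q H
  have w : i ≫ f = (q ≫ s') ≫ h := by rw [Category.assoc, hs', H.w]
  obtain ⟨c', hc'⟩ := Groth.Agent.Pi1.K344.Final.exists_class (pullback.lift i (q ≫ s') w)
    (hsurj _ (pullback.lift_fst _ _ _) (pullback.lift_snd _ _ _)) c
  refine ⟨S', h, h1, h2, h3, s', hs', c', fun j hj1 hj2 => ?_⟩
  have hj : j = pullback.lift i (q ≫ s') w := by
    apply pullback.hom_ext
    · rw [hj1, pullback.lift_fst]
    · rw [hj2, pullback.lift_snd]
  subst hj
  intro _
  exact hc'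

end Groth.Agent.S18255
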