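import Groth.Statements.S18256
import Groth.Agent.ArtFun.K726.Basic
import Mathlib.RingTheory.LocalRing.Module

set_option autoImplicit false
universe u
open ArtFun

namespace Groth.Agent.S18256

open CategoryTheory TensorProduct in
/-- Let R be an Artinian local ring with residue field k and M a finitely generated R-module. Suppose
that for every small extension p : A' → A of local Artinian R-algebras with residue field k (p
surjective, its kernel I a nonzero principal ideal killed by the maximal ideal of A'), the map M ⊗_R
I → M ⊗_R A' induced by the inclusion I ⊆ A' is injective (equivalently, the sequence 0 → M ⊗_R I →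
M ⊗_R A' → M ⊗_R A → 0 is exact). Then M is a free R-module. (The printed conclusion reads free over
the residue field; the proof establishes freeness over R, which is what is stated here.) -/
theorem result
    (R : Type u) [CommRing R] [IsArtinianRing R] [IsLocalRing R]
    (k : Type u) [Field k] [Algebra R k] (hk : Function.Surjective (algebraMap R k))
    (M : Type u) [AddCommGroup M] [Module R M] [Module.Finite R M]
    (h : ∀ (A' A : ArtFun.Art R k) (p : A' ⟶ A), ArtFun.Art.IsSmallExt p →
      Function.Injective
        (LinearMap.lTensor M (((RingHom.ker p.toAlgHom).restrictScalars R).subtype))) :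
    Module.Free R M := by
  classical
  let R0 : ArtFun.Art R k := ArtFun.Art.of R (Algebra.ofId R k) hk
  let b : Module.Basis _ (IsLocalRing.ResidueField R) (IsLocalRing.ResidueField R ⊗[R] M) :=
    Module.Free.chooseBasis (IsLocalRing.ResidueField R) (IsLocalRing.ResidueField R ⊗[R] M)
  have hx : ∀ i, ∃ x : M, (1 : IsLocalRing.ResidueField R) ⊗ₜ[R] x = b i := fun i =>
    TensorProduct.mk_surjective R M (IsLocalRing.ResidueField R) Ideal.Quotient.mk_surjective (b i)
  choose x hx using hx
  have hspan : Submodule.span R (Set.range x) = ⊤ := IsLocalRing.span_eq_top_of_tmul_eq_basis x b hx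
  -- the coordinate functionals
  let φ : ∀ i, M →ₗ[R] IsLocalRing.ResidueField R := fun i =>
    (b.coord i).restrictScalars R ∘ₗ TensorProduct.mk R (IsLocalRing.ResidueField R) M 1
  have hφ : ∀ i j, φ i (x j) = if j = i then 1 else 0 := by
    intro i j
    change b.coord i ((1 : IsLocalRing.ResidueField R) ⊗ₜ[R] x j) = _
    rw [hx, Module.Basis.coord_apply, Module.Basis.repr_self, Finsupp.single_apply]
  have hφl : ∀ i (l : _ →₀ R), φ i (Finsupp.linearCombination R x l) = IsLocalRing.residue R (l i) := by
    intro i l
    rw [Finsupp.linearCombination_apply, map_finsuppSum, Finsupp.sum]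
    simp only [map_smul, hφ, smul_ite, smul_zero, Finset.sum_ite_eq', Finsupp.mem_support_iff]
    by_cases hli : l i = 0
    · rw [if_neg (not_not.2 hli), hli, map_zero]
    · rw [if_pos hli, Algebra.smul_def, mul_one]; rfl
  have hli : LinearIndependent R x := by
    rw [linearIndependent_iff]
    by_contra hcon
    push Not at hcon
    obtain ⟨l₀, hl₀, hl₀'⟩ := hcon
    let C : Ideal R := Ideal.span {r | ∃ l, Finsupp.linearCombination R x l = 0 ∧ ∃ i, l i = r}
    have hC : C ≤ IsLocalRing.maximalIdeal R := by
      rw [Ideal.span_le]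
      rintro r ⟨l, hl, i, rfl⟩
      have := hφl i l
      rw [hl, map_zero] at this
      exact Ideal.Quotient.eq_zero_iff_mem.1 this.symm
    have hC0 : ⊥ < C := by
      rw [bot_lt_iff_ne_bot]
      intro h0
      apply hl₀'
      ext i
      have : l₀ i ∈ C := Ideal.subset_span ⟨l₀, hl₀, i, rfl⟩
      rw [h0] at this
      simpa using this
    obtain ⟨J', -, hJ'⟩ := K726.Basic.exists_covBy hC0
    obtain ⟨l, hl, i, hli⟩ : ∃ l, Finsupp.linearCombination R x l = 0 ∧ ∃ i, l i ∉ J' := by
      by_contra hcon
      push Not at hcon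
      apply hJ'.lt.not_ge
      rw [Ideal.span_le]
      rintro r ⟨l, hl, i, rfl⟩
      exact hcon l hl i
    have hmem : ∀ j, l j ∈ C := fun j => Ideal.subset_span ⟨l, hl, j, rfl⟩
    have hsm := K726.Basic.isSmallExt_quotMap R0 hJ' hC
    have hinj := h _ _ _ hsm
    set p := K726.Basic.quotMap R0 hJ'.le hC with hp
    let I : Submodule R (ArtFun.Art.quot R0 J' (hJ'.le.trans hC)) :=
      (RingHom.ker p.toAlgHom).restrictScalars R
    let cbar : _ → I := fun j => ⟨ArtFun.Art.quotMk R0 J' (hJ'.le.trans hC) (l j),
      (K726.Basic.quotMk_mem_ker_quotMap R0 hJ'.le hC (l j)).2 (hmem j)⟩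
    have hzero : (∑ j ∈ l.support, x j ⊗ₜ[R] cbar j : M ⊗[R] I) = 0 := by
      apply hinj
      rw [map_zero, map_sum]
      have hterm : ∀ j, LinearMap.lTensor M I.subtype (x j ⊗ₜ[R] cbar j) =
          (l j • x j) ⊗ₜ[R] (1 : ArtFun.Art.quot R0 J' (hJ'.le.trans hC)) := by
        intro j
        rw [LinearMap.lTensor_tmul, TensorProduct.smul_tmul]
        congr 1
        change Ideal.Quotient.mk J' (l j) = l j • (1 : R ⧸ J')
        rw [Algebra.smul_def, mul_one]; rfl
      rw [Finset.sum_congr rfl (fun j _ => hterm j), ← TensorProduct.sum_tmul]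
      have : ∑ j ∈ l.support, l j • x j = Finsupp.linearCombination R x l := by
        rw [Finsupp.linearCombination_apply]; rfl
      rw [this, hl, TensorProduct.zero_tmul]
    have hkill : ∀ r ∈ IsLocalRing.maximalIdeal R, ∀ y : I, r • y = 0 := by
      rintro r hr ⟨y, hy⟩
      apply Subtype.ext
      change r • y = 0
      have h1 : (ArtFun.Art.quotMk R0 J' (hJ'.le.trans hC) r) * y = 0 := by
        have h2 := hsm.2.2.2
        rw [Submodule.eq_bot_iff] at h2
        apply h2
        apply Ideal.mul_mem_mul
        · exact (ArtFun.Art.mem_maximalIdeal_iff _ _).2 ((ArtFun.Art.res_app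
            (ArtFun.Art.quotMk R0 J' (hJ'.le.trans hC)) r).trans ((ArtFun.Art.mem_maximalIdeal_iff R0 r).1 hr))
        · exact hy
      rw [Algebra.smul_def]
      exact h1
    obtain ⟨ψ, hψ⟩ := K726.Basic.exists_residueField_act R I hkill
    have hfin : (TensorProduct.lift (ψ ∘ₗ φ i)) (∑ j ∈ l.support, x j ⊗ₜ[R] cbar j : M ⊗[R] I) = cbar i := by
      rw [map_sum]
      have hterm : ∀ j, (TensorProduct.lift (ψ ∘ₗ φ i)) (x j ⊗ₜ[R] cbar j) = if j = i then cbar j else 0 := by
        intro j
        rw [TensorProduct.lift.tmul]
        change ψ (φ i (x j)) (cbar j) = _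
        rw [hφ]
        split_ifs with hj
        · exact hψ _
        · rw [map_zero]; rfl
      rw [Finset.sum_congr rfl (fun j _ => hterm j), Finset.sum_ite_eq', if_pos]
      rw [Finsupp.mem_support_iff]
      intro h0
      rw [h0] at hli
      exact hli (zero_mem _)
    rw [hzero, map_zero] at hfin
    apply hli
    have := congrArg Subtype.val hfin
    exact Ideal.Quotient.eq_zero_iff_mem.1 this.symm
  exact Module.Free.of_basis (Module.Basis.mk hli hspan.ge)

end Groth.Agent.S18256
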