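import Groth.Statements.S18259
import Groth.Agent.UnitsSh.K953.Main

set_option autoImplicit false
universe u
open UnitsSh

namespace Groth.Agent.S18259

open CategoryTheory CategoryTheory.Limits AlgebraicGeometry in
/-- In the case of the multiplicative group, for schemes and with Zariski cohomology of the sheaf of
units, in the form 'the functor A ↦ H^q(X ⊗ A, O^×) on local Artinian algebras is formally smooth'.
Let A be an Artinian local ring with maximal ideal m, J ⊆ m an ideal, X' a scheme flat over Spec A,
i : X ⟶ X' the closed subscheme defined by J (base change to A/J) and X₀ the closed fibre (base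
change to A/m). If H^{q+1}(X₀, O_{X₀}) = 0, then the map H^q(X', O_{X'}^×) → H^q(X', i_* O_X^×)
induced by the units map of i is surjective. (The published statement asserts formal smoothness for
any smooth commutative group scheme in place of the multiplicative group, with the Lie algebra of
its closed fibre in place of O_{X₀}, and uses étale cohomology.) -/
theorem result
    (A : Type u) [CommRing A] [IsArtinianRing A] [IsLocalRing A]
    (J : Ideal A) (hJ : J ≤ IsLocalRing.maximalIdeal A)
    (X' : Scheme.{u}) [X'.Over (Spec (CommRingCat.of A))] [Flat (X' ↘ Spec (CommRingCat.of A))]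
    (q : ℕ)
    (hvan : Subsingleton (Coh.HH (pullback (X' ↘ Spec (CommRingCat.of A)) (Spec.map (CommRingCat.ofHom (IsLocalRing.residue A)))) (Coh.structureModule _) (q + 1))) :
    Function.Surjective (Sheaf.H.map (UnitsSh.comap
      (pullback.fst (X' ↘ Spec (CommRingCat.of A)) (Spec.map (CommRingCat.ofHom (Ideal.Quotient.mk J))))) q) := by
  have i2 := K953.Geo.isClosedImmersion_fst (X' ↘ Spec (CommRingCat.of A))
    (Ideal.Quotient.mk J) Ideal.Quotient.mk_surjective
  refine K953.UnitsMain.H_surjective _ ?_ q
    (K953.UnitsMain.subsingleton_H_Ker (X' ↘ Spec (CommRingCat.of A)) (q + 1) hvan J hJ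
      (Ideal.Quotient.mk J) Ideal.Quotient.mk_surjective Ideal.mk_ker)
  refine K953.UnitsMain.isNilpotent_of_mem _ _ Ideal.Quotient.mk_surjective ?_
  rw [Ideal.mk_ker]
  have h1 : IsNilpotent (IsLocalRing.maximalIdeal A) := by
    rw [← IsLocalRing.jacobson_eq_maximalIdeal (⊥ : Ideal A) bot_ne_top]
    exact IsArtinianRing.isNilpotent_jacobson_bot
  obtain ⟨N, hN⟩ := h1
  intro x hx
  rw [mem_nilradical]
  refine ⟨N, ?_⟩
  have h2 := Ideal.pow_mem_pow (hJ hx) N
  rw [hN] at h2
  exact h2

end Groth.Agent.S18259
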