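import Groth.Statements.S18263
import Groth.Agent.InvQ.K702.PointStab

set_option autoImplicit false
universe u
open InvQ

namespace Groth.Agent.S18263

/-- Let k be an algebraically closed field in which m! is non-zero, n ≥ 1 and m ≤ n natural numbers, and
p_1, …, p_m non-zero vectors of k^(n+1), an ordered configuration of m points of projective n-space,
encoded by the product π = ∏_i (Σ_j p_i,j x_j) of its linear forms, on which the special linear
group SL(n+1) acts by substitution; let a be the point of the affine space of degree-m forms in n +
1 variables whose form is π. Then a is not stable for SL(n+1): a configuration of at most n points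
of projective n-space is never stable. (The case n = 0 is excluded: there the group is trivial and
the empty configuration is stable. The published statement allows any characteristic; this row
assumes m! non-zero in k, as the space of forms used here requires.) -/
theorem result (k : Type u) [Field k] [IsAlgClosed k] (n m : ℕ) (hn : 1 ≤ n) (hmn : m ≤ n)
    (hm : (Nat.factorial m : k) ≠ 0) (p : Fin m → Fin (n + 1) → k) (hp : ∀ i, p i ≠ 0)
    (a : CoordGrp.FormIdx (n + 1) m → k)
    (ha : CoordGrp.formPoly a = ∏ i, ∑ j, MvPolynomial.C (p i j) * MvPolynomial.X j) :
    ¬ @GLin.IsStableVec k _ (CoordGrp.SLn (n + 1) k) _ _ (CoordGrp.FormIdx (n + 1) m)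
      (GLin.comodAlong ((CoordGrp.SLn.mkHom (n + 1) k).comp (CoordGrp.Mat.toGLn (n + 1) k)) (CoordGrp.formsCoact k (n + 1) m))
      (GLin.isCoactAlg_comodAlong ((CoordGrp.SLn.mkHom (n + 1) k).comp (CoordGrp.Mat.toGLn (n + 1) k)) (CoordGrp.formsCoact k (n + 1) m) (CoordGrp.formsCoact_isCoactAlg k (n + 1) m)) a := by
  classical
  intro hst
  rcases Nat.eq_zero_or_pos m with h0 | hpos
  · subst h0
    -- any line
    let v : Fin (n + 1) → k := Pi.single 0 1
    have hv : v ≠ 0 := by
      intro h
      have := congrFun h 0
      simp [v] at this
    have h1 : Module.finrank k (Submodule.span k {v}) = 1 := finrank_span_singleton hv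
    have h2 : Submodule.span k {v} ≠ ⊥ := by
      intro h
      rw [h, finrank_bot] at h1
      omega
    have h3 : Submodule.span k {v} ≠ ⊤ := by
      intro h
      rw [h, finrank_top, Module.finrank_fintype_fun_eq_card, Fintype.card_fin] at h1
      omega
    have h4 := K702.PointStab.strict_of_stable hm p a ha hst _ h2 h3
    simp at h4
  · let W := Submodule.span k (Set.range p)
    have h1 : Module.finrank k W ≤ m := by
      have := finrank_range_le_card (R := k) p
      rw [Fintype.card_fin] at this
      exact this
    have hmem : ∀ i, p i ∈ W := fun i => Submodule.subset_span ⟨i, rfl⟩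
    have h2 : W ≠ ⊥ := by
      intro h
      have := hmem ⟨0, hpos⟩
      rw [h, Submodule.mem_bot] at this
      exact hp _ this
    have h3 : W ≠ ⊤ := by
      intro h
      rw [h, finrank_top, Module.finrank_fintype_fun_eq_card, Fintype.card_fin] at h1
      omega
    have h4 := K702.PointStab.strict_of_stable hm p a ha hst _ h2 h3
    have h5 : Nat.card {i : Fin m // p i ∈ W} = m := by
      rw [Nat.card_eq_fintype_card, Fintype.card_subtype, Finset.filter_true_of_mem (fun i _ => hmem i),
        Finset.card_univ, Fintype.card_fin]
    rw [h5] at h4
    have h6 := lt_of_mul_lt_mul_left h4 (Nat.zero_le m)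
    omega

end Groth.Agent.S18263
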