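import Groth.Statements.S18264
import Groth.Agent.Surf.K463.MinModel
import Groth.Agent.Pic13.H950.Curves

set_option autoImplicit false
universe u
open CategoryTheory CategoryTheory.Limits AlgebraicGeometry
open Surf

namespace Groth.Agent.S18264

open K463.MinModel

/-- Every surface dominates a minimal surface. Let k be an algebraically closed field and X a surface
over k — an integral scheme of dimension two with all local rings regular, admitting a closed
immersion over k into some projective space P^n_k. Then there are a surface Y over k of the same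
kind and a birational k-morphism f : X → Y (f restricts to an isomorphism over a dense open subset
of Y) with Y minimal: every birational k-morphism g : Y → Z to a surface Z of the same kind is an
isomorphism. -/
theorem result (k : Type u) [Field k] [IsAlgClosed k]
    (X : Scheme.{u}) (sX : X ⟶ Spec (CommRingCat.of k)) [AlgebraicGeometry.IsIntegral X]
    (hdim : topologicalKrullDim X = 2) (hreg : ∀ x : X, IsRegularLocalRing (X.presheaf.stalk x))
    (hproj : (∃ (n : ℕ) (ι : X ⟶ CohB1.ProjSpace n k), IsClosedImmersion ι ∧ ι ≫ CohB1.ProjSpace.toSpec n k = sX)) :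
    ∃ (Y : Scheme.{u}) (sY : Y ⟶ Spec (CommRingCat.of k)) (f : X ⟶ Y),
      f ≫ sY = sX ∧ AlgebraicGeometry.IsIntegral Y ∧ topologicalKrullDim Y = 2 ∧
      (∀ y : Y, IsRegularLocalRing (Y.presheaf.stalk y)) ∧ (∃ (n : ℕ) (ι : Y ⟶ CohB1.ProjSpace n k), IsClosedImmersion ι ∧ ι ≫ CohB1.ProjSpace.toSpec n k = sY) ∧
      (∃ V : Y.Opens, Dense (V : Set Y) ∧ IsIso (f ∣_ V)) ∧
      ∀ (Z : Scheme.{u}) (sZ : Z ⟶ Spec (CommRingCat.of k)), AlgebraicGeometry.IsIntegral Z →
        topologicalKrullDim Z = 2 → (∀ z : Z, IsRegularLocalRing (Z.presheaf.stalk z)) → (∃ (n : ℕ) (ι : Z ⟶ CohB1.ProjSpace n k), IsClosedImmersion ι ∧ ι ≫ CohB1.ProjSpace.toSpec n k = sZ) →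
        ∀ g : Y ⟶ Z, g ≫ sZ = sY → (∃ V : Z.Opens, Dense (V : Set Z) ∧ IsIso (g ∣_ V)) → IsIso g := by
  let _ : X.Over (Spec (CommRingCat.of k)) := ⟨sX⟩
  have hX : PS k sX := ⟨‹_›, hdim, hreg, hproj⟩
  have hpX : IsProper (X ↘ Spec (CommRingCat.of k)) := hX.isProper
  obtain ⟨A, hA⟩ := hX.exists_ample
  obtain ⟨p, Γ, hΓ⟩ := Pic13.H950.Curves.exists_curves k X
  -- the possible numbers of exceptional curves
  let P : ℕ → Prop := fun n => ∃ (Y : Scheme.{u}) (sY : Y ⟶ Spec (CommRingCat.of k)) (f : X ⟶ Y),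
    f ≫ sY = sX ∧ PS k sY ∧ Bir f ∧ (Dix.ExcPts.excPts f).ncard = n
  have hbd : ∀ n, P n → n ≤ p := by
    rintro n ⟨Y, sY, f, hf, hY, hbir, rfl⟩
    have := hY.int
    let _ : Y.Over (Spec (CommRingCat.of k)) := ⟨sY⟩
    have hpY : IsProper (Y ↘ Spec (CommRingCat.of k)) := hY.isProper
    obtain ⟨H, hH⟩ := hY.exists_ample
    exact K463.PicBound.ncard_le k hdim hY.dim hX.isSurf hY.isSurf hA hH f hf (isBir hX hY hf hbir) Γ hΓ
  have h0 : P (Dix.ExcPts.excPts (𝟙 X)).ncard := by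
    refine ⟨X, sX, 𝟙 X, Category.id_comp _, hX, ⟨⊤, dense_univ, inferInstance⟩, rfl⟩
  classical
  obtain ⟨Y, sY, f, hf, hY, hbir, hn⟩ := Nat.findGreatest_spec (P := P) (hbd _ h0) h0
  have hmax : ∀ n, P n → n ≤ (Dix.ExcPts.excPts f).ncard := fun n h => by
    rw [hn]
    exact Nat.le_findGreatest (hbd n h) h
  refine ⟨Y, sY, f, hf, hY.int, hY.dim, hY.reg, hY.proj, hbir, ?_⟩
  intro Z sZ hZi hZd hZr hZp g hg hgb
  have hZ : PS k sZ := ⟨hZi, hZd, hZr, hZp⟩
  have := hY.int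
  have hgB := isBir hY hZ hg hgb
  have hfB := isBir hX hY hf hbir
  rcases Dix.ExcPts.isIso_or_exists_big hY.isSurf hZ.isSurf g hgB with h | ⟨z, x, x', hne, hx, hx'⟩
  · exact h
  · exfalso
    have hcomp := Dix.ExcPts.isBir_comp f g hfB hgB
    obtain ⟨w, hw⟩ := Dix.ExcPts.surjective f hfB x
    obtain ⟨w', hw'⟩ := Dix.ExcPts.surjective f hfB x'
    have hlt := Dix.ExcPts.ncard_excPts_lt hX.isSurf hZ.isSurf hY.isSurf f g hcomp hgB z
      ⟨w, w', fun h => hne (by rw [← hw, ← hw', h]), by rw [Scheme.Hom.comp_apply, hw, hx],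
        by rw [Scheme.Hom.comp_apply, hw', hx']⟩ ⟨x, x', hne, hx, hx'⟩
    have h1 := hmax _ ⟨Z, sZ, f ≫ g, by rw [Category.assoc, hg, hf], hZ, hbir.comp hgb, rfl⟩
    exact absurd hlt (not_lt.mpr h1)

end Groth.Agent.S18264
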