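import Groth.Statements.S18265
import Mathlib.RingTheory.Polynomial.UniqueFactorization
import Mathlib.RingTheory.Polynomial.RationalRoot
import Groth.Agent.InvQ.K702.FixedIC

set_option autoImplicit false
universe u
open InvQ

namespace Groth.Agent.S18265

/-- Let k be an algebraically closed field and n, m natural numbers, and let R be the ring of polynomial
functions of m vectors of k^(n+1) invariant under the special linear group SL(n+1, k) acting on all
the vectors at once and under the rescalings of the individual vectors by units with product 1
(equivalently: invariant and homogeneous of one and the same degree in each vector) — the graded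
ring of invariant sections whose Proj is the quotient variety of ordered m-point sets in projective
n-space. Then R is integrally closed in its field of fractions; hence that quotient variety is
normal. (Only the normality assertion of the source's statement is given here; its dimension,
rationality and singular-locus assertions are not.) -/
theorem result (k : Type u) [Field k] [IsAlgClosed k] (n m : ℕ) :
    IsIntegrallyClosed (W4c5pointsetsdelpezzo.invRing k n m) := by
  haveI hU : UniqueFactorizationMonoid (MvPolynomial (Fin m × Fin (n + 1)) k) := inferInstance
  haveI hIC : IsIntegrallyClosed (MvPolynomial (Fin m × Fin (n + 1)) k) := inferInstance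
  have hmem : ∀ f : MvPolynomial (Fin m × Fin (n + 1)) k, f ∈ W4c5pointsetsdelpezzo.invRing k n m ↔
      (∀ g : Matrix.SpecialLinearGroup (Fin (n + 1)) k, W4c5pointsetsdelpezzo.slSubst k n m g f = f) ∧
      (∀ s : {s : Fin m → kˣ // ∏ i, s i = 1}, W4c5pointsetsdelpezzo.colScale k n m s.1 f = f) := by
    intro f
    rw [W4c5pointsetsdelpezzo.invRing, Algebra.mem_inf, Algebra.mem_iInf, Algebra.mem_iInf]
    exact Iff.rfl
  refine K702.FixedIC.isIntegrallyClosed_subalgebra_of_div _ ?_
  intro a b c ha hb hb0 habc
  have ha' := (hmem a).1 ha
  have hb' := (hmem b).1 hb
  refine (hmem c).2 ⟨fun g => ?_, fun s => ?_⟩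
  · have h := ha'.1 g
    rw [habc, map_mul, hb'.1 g] at h
    exact mul_left_cancel₀ hb0 h
  · have h := ha'.2 s
    rw [habc, map_mul, hb'.2 s] at h
    exact mul_left_cancel₀ hb0 h

end Groth.Agent.S18265
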