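import Groth.Statements.S18266
import Groth.Agent.FDesc.K108.FlatClosure

set_option autoImplicit false
universe u
open CategoryTheory AlgebraicGeometry
open FDesc

namespace Groth.Agent.S18266

/-- Let A be a discrete valuation ring, η the generic point of Spec A, and f : X → Spec A a morphism
from an arbitrary scheme X. The scheme-theoretic closure of the generic fibre X_η in X (the flat
completion) is flat over Spec A, and it is the largest closed subscheme of X flat over Spec A: for
every closed immersion i : Z → X with Z flat over Spec A, the ideal sheaf of the flat completion is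
contained in the ideal sheaf of i. -/
theorem result (A : Type u) [CommRing A] [IsDomain A]
    [IsDiscreteValuationRing A] {X : Scheme.{u}} (f : X ⟶ Spec (CommRingCat.of A))
    (η : ↥(Spec (CommRingCat.of A))) (hη : η.asIdeal = ⊥) :
    Flat ((f.fiberι η).imageι ≫ f) ∧
      ∀ (Z : Scheme.{u}) (i : Z ⟶ X), IsClosedImmersion i → Flat (i ≫ f) → (f.fiberι η).ker ≤ i.ker := by
  have hqc : QuasiCompact (f.fiberι η) :=
    MorphismProperty.pullback_fst (P := @QuasiCompact) f ((Spec (CommRingCat.of A)).fromSpecResidueField η)
      inferInstance
  constructor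
  · have := K108.IdealDesc.isSchemeTheoreticallyDominant_toImage (f.fiberι η)
    refine K108.FlatClosure.flat_of_dominant (f.fiberι η).toImage _ fun x => ?_
    have h1 : ((f.fiberι η).imageι ≫ f) ((f.fiberι η).toImage x) = f (f.fiberι η x) := by
      rw [← Scheme.Hom.comp_apply, Scheme.Hom.toImage_imageι_assoc, Scheme.Hom.comp_apply]
    rw [h1]
    have h2 : f.fiberι η x ∈ Set.range (f.fiberι η) := ⟨x, rfl⟩
    rw [Scheme.Hom.range_fiberι] at h2
    have h3 : f (f.fiberι η x) = η := h2
    rw [h3, hη]
  · intro Z i hi hflat
    let g := (Spec (CommRingCat.of A)).fromSpecResidueField η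
    have hdom : IsDominant g := by
      constructor
      have h1 : η ∈ Set.range g := by
        rw [Scheme.range_fromSpecResidueField]
        rfl
      have h2 : Dense ({η} : Set (Spec (CommRingCat.of A))) := by
        rw [dense_iff_closure_eq, Set.eq_univ_iff_forall]
        intro p
        rw [← specializes_iff_mem_closure]
        refine (PrimeSpectrum.le_iff_specializes _ _).mp ?_
        change η.asIdeal ≤ p.asIdeal
        rw [hη]
        exact bot_le
      exact h2.mono (Set.singleton_subset_iff.mpr h1)
    have hg : IsSchemeTheoreticallyDominant g := .of_isDominant g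
    have hj : IsSchemeTheoreticallyDominant (Limits.pullback.fst (i ≫ f) g) := inferInstance
    let k : Limits.pullback (i ≫ f) g ⟶ f.fiber η :=
      Limits.pullback.lift (Limits.pullback.fst (i ≫ f) g ≫ i) (Limits.pullback.snd (i ≫ f) g)
        (by rw [Category.assoc, Limits.pullback.condition])
    have hk : k ≫ f.fiberι η = Limits.pullback.fst (i ≫ f) g ≫ i := Limits.pullback.lift_fst _ _ _
    have h4 := Scheme.Hom.le_ker_comp k (f.fiberι η)
    rw [hk, Scheme.Hom.ker_comp, hj.ker_eq_bot, Scheme.IdealSheafData.map_bot] at h4
    exact h4

end Groth.Agent.S18266
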