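import Groth.Statements.S18267
import Groth.Agent.ZCorr.K952.OneDim
import Groth.Agent.S1535

set_option autoImplicit false
open CategoryTheory CategoryTheory.Limits AlgebraicGeometry
open ZCorr

namespace Groth.Agent.S18267

/-- Over the complex numbers, suppose C is a quasi-projective curve that is smooth and irreducible and X
is a projective variety that is smooth and irreducible; take Z to be an integral closed subscheme of
C × X of dimension one whose projection to C is surjective (a non-vertical irreducible component of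
a correspondence from C to X). Then the projection Z → C is finite and flat. -/
theorem result
    (C X : Scheme.{0}) [C.Over (Spec (CommRingCat.of ℂ))] [X.Over (Spec (CommRingCat.of ℂ))]
    [AlgebraicGeometry.IsIntegral C] [Smooth (C ↘ Spec (CommRingCat.of ℂ))] (hC : RelProj.IsHQuasiProjective (C ↘ Spec (CommRingCat.of ℂ)))
    (hdimC : topologicalKrullDim C = 1)
    [AlgebraicGeometry.IsIntegral X] [Smooth (X ↘ Spec (CommRingCat.of ℂ))] (hX : RelProj.IsHProjective (X ↘ Spec (CommRingCat.of ℂ)))
    {Z : Scheme.{0}} (i : Z ⟶ pullback (C ↘ Spec (CommRingCat.of ℂ)) (X ↘ Spec (CommRingCat.of ℂ))) [IsClosedImmersion i]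
    [AlgebraicGeometry.IsIntegral Z] (hdimZ : topologicalKrullDim Z = 1)
    (hsurj : Function.Surjective ⇑(i ≫ pullback.fst (C ↘ Spec (CommRingCat.of ℂ)) (X ↘ Spec (CommRingCat.of ℂ)))) :
    IsFinite (i ≫ pullback.fst (C ↘ Spec (CommRingCat.of ℂ)) (X ↘ Spec (CommRingCat.of ℂ))) ∧
      Flat (i ≫ pullback.fst (C ↘ Spec (CommRingCat.of ℂ)) (X ↘ Spec (CommRingCat.of ℂ))) := by
  have hX1 : IsProper (X ↘ Spec (CommRingCat.of ℂ)) := K952.Basic.isProper_of_isHProjective hX
  have hW2 := K952.Basic.locallyOfFiniteType_of_isHQuasiProjective hC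
  have hW3 := K952.Basic.quasiCompact_of_isHQuasiProjective hC
  set π := i ≫ pullback.fst (C ↘ Spec (CommRingCat.of ℂ)) (X ↘ Spec (CommRingCat.of ℂ)) with hπ
  have hgen : π (genericPoint Z) = genericPoint C := K952.OneDim.map_genericPoint_of_surjective π hsurj
  refine ⟨K952.OneDim.isFinite_of_dominant π (C ↘ Spec (CommRingCat.of ℂ)) hdimZ hdimC hgen,
    K952.OneDim.flat_of_dominant π (fun y => ?_) hgen⟩
  have h1 := Groth.Agent.S1535.result ℂ C y
  exact Groth.Agent.Ega43.DedekindOpen.isDomain_isPrincipalIdealRing_of_regular_dim_le_one _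
    ((Groth.Agent.CurvesA.DimOne.ringKrullDim_stalk_le C y).trans hdimC.le)


end Groth.Agent.S18267
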