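import Groth.Statements.S18269
import Groth.Agent.ZCorr.K305.SecInj
import Groth.Agent.ZCorr.K952.Basic

set_option autoImplicit false
open CategoryTheory CategoryTheory.Limits AlgebraicGeometry
open ZCorr

namespace Groth.Agent.S18269

/-- Over the complex numbers let X and Y be smooth quasi-projective varieties, with the dimension
functions induced from the base, and let f : X → Y be a morphism over the base which is smooth of
relative dimension r and admits a section s. Then f^* : CH_k(Y) → CH_{k+r}(X) is injective: a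
k-cycle α on Y whose flat pullback f^*α is rationally equivalent to zero on X is itself rationally
equivalent to zero. (The published statement allows any smooth f with a section; this row takes f
smooth of constant relative dimension r.) -/
theorem result
    (X Y : Scheme.{0}) [X.Over (Spec (CommRingCat.of ℂ))] [Y.Over (Spec (CommRingCat.of ℂ))]
    [Smooth (X ↘ Spec (CommRingCat.of ℂ))] (hX : RelProj.IsHQuasiProjective (X ↘ Spec (CommRingCat.of ℂ)))
    [Smooth (Y ↘ Spec (CommRingCat.of ℂ))] (hY : RelProj.IsHQuasiProjective (Y ↘ Spec (CommRingCat.of ℂ)))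
    (δX : X → ℤ) (hδX : Cyc.DeltaCompat (X ↘ Spec (CommRingCat.of ℂ)) δX (fun _ => 0))
    (δY : Y → ℤ) (hδY : Cyc.DeltaCompat (Y ↘ Spec (CommRingCat.of ℂ)) δY (fun _ => 0))
    (f : X ⟶ Y) (hf : f ≫ (Y ↘ Spec (CommRingCat.of ℂ)) = X ↘ Spec (CommRingCat.of ℂ)) (r : ℕ) [SmoothOfRelativeDimension r f]
    (s : Y ⟶ X) (hs : s ≫ f = 𝟙 Y)
    (k : ℤ) (α : AlgebraicCycle Y ℤ) (hα : α ∈ Cyc.Zk Y δY k)
    (β : AlgebraicCycle X ℤ) (hβ : ⇑β = Cyc.pullFun f δX δY r ⇑α)
    (h0 : Cyc.RatEquivZero δX (k + r) β) :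
    Cyc.RatEquivZero δY k α := by
  have sX : IsSeparated (X ↘ Spec (CommRingCat.of ℂ)) :=
    K952.Basic.isSeparated_of_isHQuasiProjective hX
  have sY : IsSeparated (Y ↘ Spec (CommRingCat.of ℂ)) :=
    K952.Basic.isSeparated_of_isHQuasiProjective hY
  have hXs : Cyc.IsSetup X δX := Groth.Agent.CycB.SetupLft.isSetup_of_deltaCompat
    (X ↘ Spec (CommRingCat.of ℂ)) (Groth.Agent.CycB.SetupDVR.isSetup_spec_field ℂ) hδX
  have hYs : Cyc.IsSetup Y δY := Groth.Agent.CycB.SetupLft.isSetup_of_deltaCompat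
    (Y ↘ Spec (CommRingCat.of ℂ)) (Groth.Agent.CycB.SetupDVR.isSetup_spec_field ℂ) hδY
  have sf : IsSeparated f := by
    have : IsSeparated (f ≫ (Y ↘ Spec (CommRingCat.of ℂ))) := by rw [hf]; exact sX
    exact IsSeparated.of_comp f (Y ↘ Spec (CommRingCat.of ℂ))
  have cs : IsClosedImmersion s := by
    have : IsClosedImmersion (s ≫ f) := by rw [hs]; infer_instance
    exact IsClosedImmersion.of_comp s f
  have smf : Smooth f := SmoothOfRelativeDimension.smooth r f
  have hδf : Cyc.DeltaCompat f δX δY := by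
    refine K308.Grp.deltaCompat_of_comp' f (Y ↘ Spec (CommRingCat.of ℂ)) ?_ hδY
    rw [hf]
    exact hδX
  have sh : K308.Grp.Shift f δX δY r :=
    K308.Grp.shift_of_hasRelDim (K308.PB.hasRelDim_of_smooth f) hδf
  refine K305.SecInj.main (X ↘ Spec (CommRingCat.of ℂ)) hXs hYs hδf hs sh hα ?_
  rw [K308.Grp.pull_cl hXs hYs f sh hβ]
  exact K308.Grp.cl_eq_zero_of_ratEquivZero h0

end Groth.Agent.S18269
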