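import Groth.Statements.S18270
import Groth.Agent.Cyc.K309.GenTor
import Groth.Agent.Cyc.K308.PBBasic
import Groth.Agent.Dix.ProjProper

set_option autoImplicit false
open CategoryTheory CategoryTheory.Limits AlgebraicGeometry
open ZCorr

namespace Groth.Agent.S18270

/-- Over the complex numbers let T, W and X be smooth irreducible quasi-projective varieties, f : T → W
a morphism over the base that is smooth of relative dimension r, and Γ a k-cycle on X × W, all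
dimension functions being induced from the base. Let F : X × T → X × W be id × f. If the flat
pullback F^*Γ is rationally equivalent to zero on X × T, then for some nonempty open U ⊂ W and some
integer m > 0 the restriction of m·Γ to X × U is rationally equivalent to zero on X × U. -/
theorem result
    (T W X : Scheme.{0}) [T.Over (Spec (CommRingCat.of ℂ))] [W.Over (Spec (CommRingCat.of ℂ))] [X.Over (Spec (CommRingCat.of ℂ))]
    [AlgebraicGeometry.IsIntegral T] [Smooth (T ↘ Spec (CommRingCat.of ℂ))] (hT : RelProj.IsHQuasiProjective (T ↘ Spec (CommRingCat.of ℂ)))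
    [AlgebraicGeometry.IsIntegral W] [Smooth (W ↘ Spec (CommRingCat.of ℂ))] (hW : RelProj.IsHQuasiProjective (W ↘ Spec (CommRingCat.of ℂ)))
    [AlgebraicGeometry.IsIntegral X] [Smooth (X ↘ Spec (CommRingCat.of ℂ))] (hX : RelProj.IsHQuasiProjective (X ↘ Spec (CommRingCat.of ℂ)))
    (f : T ⟶ W) (hf : f ≫ (W ↘ Spec (CommRingCat.of ℂ)) = T ↘ Spec (CommRingCat.of ℂ)) (r : ℕ) [SmoothOfRelativeDimension r f]
    (F : pullback (X ↘ Spec (CommRingCat.of ℂ)) (T ↘ Spec (CommRingCat.of ℂ)) ⟶ pullback (X ↘ Spec (CommRingCat.of ℂ)) (W ↘ Spec (CommRingCat.of ℂ)))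
    (hF₁ : F ≫ pullback.fst (X ↘ Spec (CommRingCat.of ℂ)) (W ↘ Spec (CommRingCat.of ℂ)) = pullback.fst (X ↘ Spec (CommRingCat.of ℂ)) (T ↘ Spec (CommRingCat.of ℂ)))
    (hF₂ : F ≫ pullback.snd (X ↘ Spec (CommRingCat.of ℂ)) (W ↘ Spec (CommRingCat.of ℂ)) = pullback.snd (X ↘ Spec (CommRingCat.of ℂ)) (T ↘ Spec (CommRingCat.of ℂ)) ≫ f)
    (δT : ↥(pullback (X ↘ Spec (CommRingCat.of ℂ)) (T ↘ Spec (CommRingCat.of ℂ))) → ℤ)
    (hδT : Cyc.DeltaCompat (pullback.fst (X ↘ Spec (CommRingCat.of ℂ)) (T ↘ Spec (CommRingCat.of ℂ)) ≫ (X ↘ Spec (CommRingCat.of ℂ))) δT (fun _ => 0))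
    (δW : ↥(pullback (X ↘ Spec (CommRingCat.of ℂ)) (W ↘ Spec (CommRingCat.of ℂ))) → ℤ)
    (hδW : Cyc.DeltaCompat (pullback.fst (X ↘ Spec (CommRingCat.of ℂ)) (W ↘ Spec (CommRingCat.of ℂ)) ≫ (X ↘ Spec (CommRingCat.of ℂ))) δW (fun _ => 0))
    (k : ℤ) (Γ : AlgebraicCycle (pullback (X ↘ Spec (CommRingCat.of ℂ)) (W ↘ Spec (CommRingCat.of ℂ))) ℤ)
    (hΓ : Γ ∈ Cyc.Zk (pullback (X ↘ Spec (CommRingCat.of ℂ)) (W ↘ Spec (CommRingCat.of ℂ))) δW k)
    (γ : AlgebraicCycle (pullback (X ↘ Spec (CommRingCat.of ℂ)) (T ↘ Spec (CommRingCat.of ℂ))) ℤ) (hγ : ⇑γ = Cyc.pullFun F δT δW r ⇑Γ)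
    (h0 : Cyc.RatEquivZero δT (k + r) γ) :
    ∃ (U : W.Opens) (m : ℤ), (U : Set W).Nonempty ∧ 0 < m ∧
      ∀ β : AlgebraicCycle (↑(pullback.snd (X ↘ Spec (CommRingCat.of ℂ)) (W ↘ Spec (CommRingCat.of ℂ)) ⁻¹ᵁ U)) ℤ,
        (∀ y, β y = m * Γ ((pullback.snd (X ↘ Spec (CommRingCat.of ℂ)) (W ↘ Spec (CommRingCat.of ℂ)) ⁻¹ᵁ U).ι y)) →
          Cyc.RatEquivZero (fun y => δW ((pullback.snd (X ↘ Spec (CommRingCat.of ℂ)) (W ↘ Spec (CommRingCat.of ℂ)) ⁻¹ᵁ U).ι y)) k β := by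
  have hqc : QuasiCompact (X ↘ Spec (CommRingCat.of ℂ)) := by
    obtain ⟨n, i, -, hi, he⟩ := hX
    rw [← he]
    exact inferInstance
  obtain ⟨dW, hdW⟩ := Groth.Agent.CycB.SetupLft.exists_deltaCompat (W ↘ Spec (CommRingCat.of ℂ)) (fun _ => 0)
  obtain ⟨dT, hdT⟩ := Groth.Agent.CycB.SetupLft.exists_deltaCompat (T ↘ Spec (CommRingCat.of ℂ)) (fun _ => 0)
  have hWs := Groth.Agent.CycB.SetupLft.isSetup_of_deltaCompat _ (Groth.Agent.CycB.SetupDVR.isSetup_spec_field ℂ) hdW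
  have hTs := Groth.Agent.CycB.SetupLft.isSetup_of_deltaCompat _ (Groth.Agent.CycB.SetupDVR.isSetup_spec_field ℂ) hdT
  have hlf : LocallyOfFiniteType f := by
    have : LocallyOfFiniteType (f ≫ (W ↘ Spec (CommRingCat.of ℂ))) := by rw [hf]; infer_instance
    exact locallyOfFiniteType_of_comp f (W ↘ Spec (CommRingCat.of ℂ))
  have hc1 : Cyc.DeltaCompat (pullback.snd (X ↘ Spec (CommRingCat.of ℂ)) (W ↘ Spec (CommRingCat.of ℂ))) δW dW := by
    refine K930.PushPull.deltaCompat_of_comp _ (W ↘ Spec (CommRingCat.of ℂ)) ?_ hdW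
    rwa [← pullback.condition]
  have hc2 : Cyc.DeltaCompat (pullback.snd (X ↘ Spec (CommRingCat.of ℂ)) (T ↘ Spec (CommRingCat.of ℂ))) δT dT := by
    refine K930.PushPull.deltaCompat_of_comp _ (T ↘ Spec (CommRingCat.of ℂ)) ?_ hdT
    rwa [← pullback.condition]
  have hc3 : Cyc.DeltaCompat f dT dW := by
    refine K930.PushPull.deltaCompat_of_comp _ (W ↘ Spec (CommRingCat.of ℂ)) ?_ hdW
    rwa [hf]
  have hsm : Smooth f := SmoothOfRelativeDimension.smooth r f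
  have hsq : IsPullback F (pullback.snd (X ↘ Spec (CommRingCat.of ℂ)) (T ↘ Spec (CommRingCat.of ℂ)))
      (pullback.snd (X ↘ Spec (CommRingCat.of ℂ)) (W ↘ Spec (CommRingCat.of ℂ))) f := by
    refine IsPullback.of_right ?_ hF₂ (IsPullback.of_hasPullback (X ↘ Spec (CommRingCat.of ℂ)) (W ↘ Spec (CommRingCat.of ℂ)))
    rw [hF₁, hf]
    exact IsPullback.of_hasPullback _ _
  exact K309.GenTor.exists_open hWs hTs (K309.DimIrr.map_genericPoint_of_flat f) hsq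
    (K308.Grp.shift_of_hasRelDim (K308.PB.hasRelDim_of_smooth f) hc3) hc1 hc2 hΓ hγ
    (K308.Grp.cl_eq_zero_of_ratEquivZero h0)

end Groth.Agent.S18270
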