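import Groth.Statements.S18272
import Groth.Agent.AbVar.K528.Gen
import Mathlib.Analysis.Complex.Polynomial.Basic

set_option autoImplicit false
open CategoryTheory MonoidalCategory CartesianMonoidalCategory MonObj GrpObj AlgebraicGeometry
open AbVar

namespace Groth.Agent.S18272

open Groth.Agent.Books.AlgPts

/-- Let A be an abelian variety over the complex numbers (a proper integral group scheme over Spec of
the complex numbers), G an abstract group and f : A(ℂ) → G a homomorphism from the group of complex
points. If V ⊂ A is an irreducible closed subset containing the neutral element and every complex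
point lying in V is in the kernel of f, then there is an abelian subvariety A' ⊂ A (an integral
closed subgroup scheme) containing V and with all its complex points in the kernel of f. -/
theorem result
    (A : Over (Spec (CommRingCat.of ℂ))) [GrpObj A] [IsProper A.hom] [AlgebraicGeometry.IsIntegral A.left]
    (G : Type) [Group G] (f : (𝟙_ (Over (Spec (CommRingCat.of ℂ))) ⟶ A) →* G)
    (V : Set ↥A.left) (hVcl : IsClosed V) (hVirr : IsIrreducible V)
    (hV1 : Set.range ⇑(η[A]).left ⊆ V)
    (hVker : ∀ a : 𝟙_ (Over (Spec (CommRingCat.of ℂ))) ⟶ A, Set.range ⇑a.left ⊆ V → f a = 1) :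
    ∃ (B : Over (Spec (CommRingCat.of ℂ))) (_ : GrpObj B) (incl : B ⟶ A), IsMonHom incl ∧ IsClosedImmersion incl.left ∧
      AlgebraicGeometry.IsIntegral B.left ∧ V ⊆ Set.range ⇑incl.left ∧
      ∀ b : 𝟙_ (Over (Spec (CommRingCat.of ℂ))) ⟶ B, f (b ≫ incl) = 1 := by
  have hsub : Subsingleton (Spec (CommRingCat.of ℂ)) := inferInstanceAs (Subsingleton (PrimeSpectrum ℂ))
  obtain ⟨B, inst, i, hmon, hcl, hint, hVi, hgen⟩ := K528.Gen.exists_generated A V hVcl hVirr (by
    rw [← K528.Irr.eta_eq_one]; exact hV1 ⟨_, rfl⟩)
  refine ⟨B, inst, i, hmon, hcl, hint, hVi, fun b => ?_⟩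
  have h1 : Subgroup.closure {x : 𝟙_ (Over (Spec (CommRingCat.of ℂ))) ⟶ A | pt x ∈ V} ≤ f.ker := by
    rw [Subgroup.closure_le]
    intro x hx
    refine hVker x ?_
    rintro _ ⟨s, rfl⟩
    have h2 : s = IsLocalRing.closedPoint ℂ := hsub.elim _ _
    rw [h2]; exact hx
  exact h1 (hgen b)

end Groth.Agent.S18272
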