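import Groth.Statements.S18274
import Groth.Agent.ZCorr.K303.BlochSri
import Groth.Agent.ZCorr.K952.Basic
import Mathlib.Analysis.Complex.Cardinality
import Mathlib.Analysis.Complex.Polynomial.Basic

set_option autoImplicit false
open CategoryTheory CategoryTheory.Limits AlgebraicGeometry
open ZCorr

namespace Groth.Agent.S18274

/-- Over the complex numbers let W be a smooth irreducible quasi-projective variety of dimension n, X a
smooth irreducible projective variety and Γ an n-cycle on X × W (a correspondence from W to X),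
dimension functions induced from the base. Assume that over some nonempty open U ⊂ W the closures of
the support points of Γ have finite fibres and that for every complex point u of U the fibre cycle
Γ_u — the sum over the support points ξ of Γ of Γ(ξ) times the fundamental cycle of the
scheme-theoretic fibre over u of the closure of ξ, read on X — is rationally equivalent to zero on
X. Then some nonzero multiple m·Γ is rationally equivalent on X × W to an n-cycle supported over a
proper closed subset W' ⊊ W. (The published hypothesis is that the induced map from closed points of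
W to CH_0(X), defined by refined intersection with the slices, vanishes identically; at points over
which the components of Γ are finite and flat that value is the class of Γ_u, so the published
hypothesis gives the present one on the nonempty open finite flat locus, and the argument only uses
such an open set.) -/
theorem result
    (W X : Scheme.{0}) [W.Over (Spec (CommRingCat.of ℂ))] [X.Over (Spec (CommRingCat.of ℂ))]
    [AlgebraicGeometry.IsIntegral W] [Smooth (W ↘ Spec (CommRingCat.of ℂ))] (hW : RelProj.IsHQuasiProjective (W ↘ Spec (CommRingCat.of ℂ)))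
    (n : ℕ) (hdimW : topologicalKrullDim W = n)
    [AlgebraicGeometry.IsIntegral X] [Smooth (X ↘ Spec (CommRingCat.of ℂ))] (hX : RelProj.IsHProjective (X ↘ Spec (CommRingCat.of ℂ)))
    (δX : X → ℤ) (hδX : Cyc.DeltaCompat (X ↘ Spec (CommRingCat.of ℂ)) δX (fun _ => 0))
    (δ : ↥(pullback (X ↘ Spec (CommRingCat.of ℂ)) (W ↘ Spec (CommRingCat.of ℂ))) → ℤ)
    (hδ : Cyc.DeltaCompat (pullback.fst (X ↘ Spec (CommRingCat.of ℂ)) (W ↘ Spec (CommRingCat.of ℂ)) ≫ (X ↘ Spec (CommRingCat.of ℂ))) δ (fun _ => 0))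
    (Γ : AlgebraicCycle (pullback (X ↘ Spec (CommRingCat.of ℂ)) (W ↘ Spec (CommRingCat.of ℂ))) ℤ)
    (hΓ : Γ ∈ Cyc.Zk (pullback (X ↘ Spec (CommRingCat.of ℂ)) (W ↘ Spec (CommRingCat.of ℂ))) δ n)
    (U : W.Opens) (hU : (U : Set W).Nonempty)
    (hfin : ∀ ξ, Γ ξ ≠ 0 → ∀ w ∈ U,
      (closure {ξ} ∩ pullback.snd (X ↘ Spec (CommRingCat.of ℂ)) (W ↘ Spec (CommRingCat.of ℂ)) ⁻¹' {w}).Finite)
    (hzero : ∀ (u : Spec (CommRingCat.of ℂ) ⟶ W) (hu : u ≫ (W ↘ Spec (CommRingCat.of ℂ)) = 𝟙 _),
      u (IsLocalRing.closedPoint ℂ) ∈ U →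
        ∃ β : AlgebraicCycle X ℤ, ⇑β = AlgEqCyc.fibreFun (X ↘ Spec (CommRingCat.of ℂ)) (W ↘ Spec (CommRingCat.of ℂ)) Γ u hu ∧
          Cyc.RatEquivZero δX 0 β) :
    ∃ (W' : Set W) (m : ℤ) (Γ' : AlgebraicCycle (pullback (X ↘ Spec (CommRingCat.of ℂ)) (W ↘ Spec (CommRingCat.of ℂ))) ℤ),
      IsClosed W' ∧ W' ≠ Set.univ ∧ m ≠ 0 ∧ Γ' ∈ Cyc.Zk (pullback (X ↘ Spec (CommRingCat.of ℂ)) (W ↘ Spec (CommRingCat.of ℂ))) δ n ∧
      (∀ ζ, Γ' ζ ≠ 0 → pullback.snd (X ↘ Spec (CommRingCat.of ℂ)) (W ↘ Spec (CommRingCat.of ℂ)) ζ ∈ W') ∧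
      Cyc.RatEquiv δ n (m • Γ) Γ' := by
  have hX1 : IsProper (X ↘ Spec (CommRingCat.of ℂ)) := K952.Basic.isProper_of_isHProjective hX
  have hW1 := K952.Basic.isSeparated_of_isHQuasiProjective hW
  have hW2 := K952.Basic.locallyOfFiniteType_of_isHQuasiProjective hW
  have hW3 := K952.Basic.quasiCompact_of_isHQuasiProjective hW
  have hunc : Uncountable ℂ := by
    rw [← Cardinal.aleph0_lt_mk_iff, Cardinal.mk_complex]
    exact Cardinal.aleph0_lt_continuum
  exact K303.BlochSri.main _ _ n hdimW δX hδX δ hδ Γ hΓ U hU hzero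

end Groth.Agent.S18274
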