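import Groth.Statements.S18277
import Groth.Agent.ZCorr.K952.SymFam
import Groth.Agent.ZCorr.K952.SymDim
import Mathlib.Analysis.Complex.Polynomial.Basic

set_option autoImplicit false
open CategoryTheory CategoryTheory.Limits AlgebraicGeometry
open ZCorr

namespace Groth.Agent.S18277

/-- Over the complex numbers let W be a smooth irreducible quasi-projective variety of dimension n, X a
smooth irreducible projective variety with a symmetric product Sym^d X, and Γ an effective n-cycle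
on X × W (an effective correspondence from W to X) whose components — the closures of its support
points, with their reduced structure — are finite and flat over W, and whose fibre cycles Γ_u have
degree d. Then the induced map u ↦ Γ_u from complex points of W to Sym^d X is a morphism of
varieties: there is a morphism F : W → Sym^d X over the base such that, for every complex point u of
W, the zero-cycle of F(u) is Γ_u, the sum over support points ξ of Γ(ξ) times the fundamental cycle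
of the fibre over u of the closure of ξ. -/
theorem result
    (W X : Scheme.{0}) [W.Over (Spec (CommRingCat.of ℂ))] [X.Over (Spec (CommRingCat.of ℂ))]
    [AlgebraicGeometry.IsIntegral W] [Smooth (W ↘ Spec (CommRingCat.of ℂ))] (hW : RelProj.IsHQuasiProjective (W ↘ Spec (CommRingCat.of ℂ)))
    (n : ℕ) (hdimW : topologicalKrullDim W = n)
    [AlgebraicGeometry.IsIntegral X] [Smooth (X ↘ Spec (CommRingCat.of ℂ))] (hX : RelProj.IsHProjective (X ↘ Spec (CommRingCat.of ℂ)))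
    (d : ℕ) (Sy : Scheme.{0}) (q : SymProd.fibPow (X ↘ Spec (CommRingCat.of ℂ)) d ⟶ Sy) (g : Sy ⟶ Spec (CommRingCat.of ℂ))
    (hS : SymProd.IsSymProd (X ↘ Spec (CommRingCat.of ℂ)) d q g)
    (δ : ↥(pullback (X ↘ Spec (CommRingCat.of ℂ)) (W ↘ Spec (CommRingCat.of ℂ))) → ℤ)
    (hδ : Cyc.DeltaCompat (pullback.fst (X ↘ Spec (CommRingCat.of ℂ)) (W ↘ Spec (CommRingCat.of ℂ)) ≫ (X ↘ Spec (CommRingCat.of ℂ))) δ (fun _ => 0))
    (Γ : AlgebraicCycle (pullback (X ↘ Spec (CommRingCat.of ℂ)) (W ↘ Spec (CommRingCat.of ℂ))) ℤ)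
    (hΓ : Γ ∈ Cyc.Zk (pullback (X ↘ Spec (CommRingCat.of ℂ)) (W ↘ Spec (CommRingCat.of ℂ))) δ n) (hΓ0 : ∀ ξ, 0 ≤ Γ ξ)
    (hfin : ∀ ξ, Γ ξ ≠ 0 → ∀ w : W,
      (closure {ξ} ∩ pullback.snd (X ↘ Spec (CommRingCat.of ℂ)) (W ↘ Spec (CommRingCat.of ℂ)) ⁻¹' {w}).Finite)
    (hflat : ∀ ξ, Γ ξ ≠ 0 → ∀ (z : ↥(pullback (X ↘ Spec (CommRingCat.of ℂ)) (W ↘ Spec (CommRingCat.of ℂ)))) (h : ξ ⤳ z),
      ((Ideal.Quotient.mk (RingHom.ker (Cyc.specMap z ξ h))).comp
        ((pullback.snd (X ↘ Spec (CommRingCat.of ℂ)) (W ↘ Spec (CommRingCat.of ℂ))).stalkMap z).hom).Flat)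
    (hdeg : ∀ (u : Spec (CommRingCat.of ℂ) ⟶ W) (hu : u ≫ (W ↘ Spec (CommRingCat.of ℂ)) = 𝟙 _),
      ∑ᶠ x, AlgEqCyc.fibreFun (X ↘ Spec (CommRingCat.of ℂ)) (W ↘ Spec (CommRingCat.of ℂ)) Γ u hu x = (d : ℤ)) :
    ∃ F : W ⟶ Sy, F ≫ g = (W ↘ Spec (CommRingCat.of ℂ)) ∧
      ∀ (u : Spec (CommRingCat.of ℂ) ⟶ W) (hu : u ≫ (W ↘ Spec (CommRingCat.of ℂ)) = 𝟙 _),
        ZCorr.IsCycleOfSymPt (X ↘ Spec (CommRingCat.of ℂ)) d q (u ≫ F) (AlgEqCyc.fibreFun (X ↘ Spec (CommRingCat.of ℂ)) (W ↘ Spec (CommRingCat.of ℂ)) Γ u hu) := by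
  have hX1 : IsProper (X ↘ Spec (CommRingCat.of ℂ)) := K952.Basic.isProper_of_isHProjective hX
  have hW2 := K952.Basic.locallyOfFiniteType_of_isHQuasiProjective hW
  have hW3 := K952.Basic.quasiCompact_of_isHQuasiProjective hW
  have hWc : CompactSpace W :=
    QuasiCompact.compactSpace_of_compactSpace (W ↘ Spec (CommRingCat.of ℂ))
  refine K952.SymFam.main (X ↘ Spec (CommRingCat.of ℂ)) (W ↘ Spec (CommRingCat.of ℂ))
    (K952.SymDim.isIntegrallyClosed_stalk (W ↘ Spec (CommRingCat.of ℂ))) d q g hS Γ hΓ0 ?_ hfin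
    hflat hdeg
  intro ξ hξ
  refine K952.SymDim.eq_genericPoint (pullback.snd (X ↘ Spec (CommRingCat.of ℂ))
    (W ↘ Spec (CommRingCat.of ℂ))) (W ↘ Spec (CommRingCat.of ℂ)) hdimW (hfin ξ hξ) ?_
  have h1 : δ ξ = n := by
    by_contra h
    exact hξ (hΓ ξ h)
  rw [K952.Basic.delta_eq_dm hδ ξ] at h1
  have h2 : pullback.fst (X ↘ Spec (CommRingCat.of ℂ)) (W ↘ Spec (CommRingCat.of ℂ)) ≫
      (X ↘ Spec (CommRingCat.of ℂ)) = pullback.snd (X ↘ Spec (CommRingCat.of ℂ))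
      (W ↘ Spec (CommRingCat.of ℂ)) ≫ (W ↘ Spec (CommRingCat.of ℂ)) := pullback.condition
  rw [← h2]
  exact_mod_cast h1


end Groth.Agent.S18277
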