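import Groth.Statements.S18278
import Groth.Agent.ZCorr.K754.SymRat
import Mathlib.Analysis.Complex.Cardinality
import Mathlib.Analysis.Complex.Polynomial.Basic

set_option autoImplicit false
open CategoryTheory CategoryTheory.Limits AlgebraicGeometry
open ZCorr

namespace Groth.Agent.S18278

/-- Over the complex numbers let X be a smooth irreducible projective variety with symmetric products
Sym^n X for all n, and d ≥ 0. The set R of complex points (a, b) of Sym^d X × Sym^d X whose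
zero-cycles are rationally equivalent is a countable union of irreducible closed subsets Z_i such
that: (a) a complex point lies in some Z_i if and only if it lies in R; (b) for each i there are m ≥
0, a reduced quasi-projective scheme T, a morphism e : T → Sym^d X × Sym^d X whose complex points
map onto exactly the complex points of Z_i, morphisms g' : T → Sym^m X and h : T × P^1 → Sym^{d+m}
X, all over the base, and complex points t₀, t₁ of P^1, such that for every complex point t of T the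
zero-cycle of h(t, t₀) is cycle(g'(t)) + cycle(pr₁ e(t)) and that of h(t, t₁) is cycle(g'(t)) +
cycle(pr₂ e(t)). (The source takes t₀ = 0, t₁ = ∞ and the addition morphism of symmetric powers;
here sums are taken on the attached zero-cycles.) -/
theorem result
    (X : Scheme.{0}) [X.Over (Spec (CommRingCat.of ℂ))]
    [AlgebraicGeometry.IsIntegral X] [Smooth (X ↘ Spec (CommRingCat.of ℂ))] (hX : RelProj.IsHProjective (X ↘ Spec (CommRingCat.of ℂ)))
    (Sy : ℕ → Scheme.{0}) (q : (n : ℕ) → (SymProd.fibPow (X ↘ Spec (CommRingCat.of ℂ)) n ⟶ Sy n))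
    (g : (n : ℕ) → (Sy n ⟶ Spec (CommRingCat.of ℂ))) (hS : ∀ n, SymProd.IsSymProd (X ↘ Spec (CommRingCat.of ℂ)) n (q n) (g n))
    (δ : X → ℤ) (hδ : Cyc.DeltaCompat (X ↘ Spec (CommRingCat.of ℂ)) δ (fun _ => 0)) (d : ℕ) :
    ∃ Z : ℕ → Set ↥(pullback (g d) (g d)), (∀ i, IsClosed (Z i) ∧ IsIrreducible (Z i)) ∧
      (∀ (c : Spec (CommRingCat.of ℂ) ⟶ pullback (g d) (g d)), c ≫ pullback.fst (g d) (g d) ≫ g d = 𝟙 _ →
        ((∃ i, c (IsLocalRing.closedPoint ℂ) ∈ Z i) ↔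
          ∃ α β : AlgebraicCycle X ℤ,
            ZCorr.IsCycleOfSymPt (X ↘ Spec (CommRingCat.of ℂ)) d (q d) (c ≫ pullback.fst (g d) (g d)) ⇑α ∧
            ZCorr.IsCycleOfSymPt (X ↘ Spec (CommRingCat.of ℂ)) d (q d) (c ≫ pullback.snd (g d) (g d)) ⇑β ∧
            Cyc.RatEquiv δ 0 α β)) ∧
      ∀ i, ∃ (m : ℕ) (T : Scheme.{0}) (sT : T ⟶ Spec (CommRingCat.of ℂ)) (e : T ⟶ pullback (g d) (g d))
          (g' : T ⟶ Sy m) (h : pullback sT (CohB1.ProjSpace.toSpec 1 ℂ) ⟶ Sy (d + m))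
          (t₀ t₁ : Spec (CommRingCat.of ℂ) ⟶ CohB1.ProjSpace 1 ℂ) (ht₀ : t₀ ≫ CohB1.ProjSpace.toSpec 1 ℂ = 𝟙 _) (ht₁ : t₁ ≫ CohB1.ProjSpace.toSpec 1 ℂ = 𝟙 _),
        IsReduced T ∧ RelProj.IsHQuasiProjective sT ∧
        e ≫ pullback.fst (g d) (g d) ≫ g d = sT ∧ g' ≫ g m = sT ∧ h ≫ g (d + m) = pullback.fst sT (CohB1.ProjSpace.toSpec 1 ℂ) ≫ sT ∧
        (∀ (c : Spec (CommRingCat.of ℂ) ⟶ pullback (g d) (g d)), c ≫ pullback.fst (g d) (g d) ≫ g d = 𝟙 _ →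
          (c (IsLocalRing.closedPoint ℂ) ∈ Z i ↔ ∃ (t : Spec (CommRingCat.of ℂ) ⟶ T), t ≫ sT = 𝟙 _ ∧ t ≫ e = c)) ∧
        ∀ (t : Spec (CommRingCat.of ℂ) ⟶ T) (ht : t ≫ sT = 𝟙 _),
          ∃ γ a b c₀ c₁ : AlgebraicCycle X ℤ,
            ZCorr.IsCycleOfSymPt (X ↘ Spec (CommRingCat.of ℂ)) m (q m) (t ≫ g') ⇑γ ∧
            ZCorr.IsCycleOfSymPt (X ↘ Spec (CommRingCat.of ℂ)) d (q d) (t ≫ e ≫ pullback.fst (g d) (g d)) ⇑a ∧
            ZCorr.IsCycleOfSymPt (X ↘ Spec (CommRingCat.of ℂ)) d (q d) (t ≫ e ≫ pullback.snd (g d) (g d)) ⇑b ∧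
            ZCorr.IsCycleOfSymPt (X ↘ Spec (CommRingCat.of ℂ)) (d + m) (q (d + m)) (pullback.lift t t₀ (ht.trans ht₀.symm) ≫ h) ⇑c₀ ∧
            ZCorr.IsCycleOfSymPt (X ↘ Spec (CommRingCat.of ℂ)) (d + m) (q (d + m)) (pullback.lift t t₁ (ht.trans ht₁.symm) ≫ h) ⇑c₁ ∧
            c₀ = γ + a ∧ c₁ = γ + b := by
  classical
  let p := X ↘ Spec (CommRingCat.of ℂ)
  have hXp : IsProper (X ↘ Spec (CommRingCat.of ℂ)) := K952.Basic.isProper_of_isHProjective hX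
  obtain rfl : δ = fun x => (K952.Basic.dm (X ↘ Spec (CommRingCat.of ℂ)) x : ℤ) :=
    funext (K952.Basic.delta_eq_dm hδ)
  have hunc : Uncountable ℂ :=
    not_countable_iff.1 fun h => not_countable_complex (Set.countable_univ_iff.2 h)
  obtain ⟨Z, hZ1, hZ2, hZ3⟩ := K754.SymLocus.exists_locus (k := ℂ) hS hX d
  refine ⟨Z, hZ1, fun c hc => (hZ2 c hc).trans (K754.SymRat.ratPt_iff hS c hc), fun i => ?_⟩
  obtain ⟨m, F, hF⟩ := hZ3 i
  refine ⟨m, F.T, F.τ, F.b ≫ K754.SymLocus.ρ hS d m, F.b ≫ K754.SymPt.rx p (K754.SymFwd.i3 d m) ≫ q m, F.h,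
    K952.P1Core.tp ℂ 0, K952.P1Core.tp ℂ 1, K952.P1Core.tp_toSpec ℂ 0, K952.P1Core.tp_toSpec ℂ 1, F.red, F.qproj, ?_, ?_,
    F.hh, hF, fun t ht => ?_⟩
  · rw [Category.assoc, K754.SymLocus.ρ_base, F.hb]
  · rw [Category.assoc, Category.assoc, (hS m).over, K754.SymPt.rx_base, F.hb]
  · exact K754.SymRat.exists_cycles hS F t ht

end Groth.Agent.S18278
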