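import Groth.Statements.S18279
import Groth.Agent.ZCorr.K754.RatFib

set_option autoImplicit false
universe u
open CategoryTheory CategoryTheory.Limits AlgebraicGeometry
open ZCorr

namespace Groth.Agent.S18279

/-- Let A be a discrete valuation ring with algebraically closed residue field, η and s the generic and
closed points of Spec A, and f : X → Spec A a projective morphism whose generic fibre X_η is an
irreducible curve dominated by the projective line over κ(η). Then the flat limit of X, namely the
fibre over s of the scheme-theoretic closure of X_η in X, is connected and each of its irreducible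
components is the image of a nonconstant morphism from the projective line over κ(s). (The residue
field is taken algebraically closed: over a general discrete valuation ring the limit may acquire
components that are projective lines over a finite extension of κ(s), e.g. after blowing up a
non-rational closed point of the special fibre of P^1_A, and these are not rational curves over κ(s)
in the strict sense.) -/
theorem result
    (A : Type u) [CommRing A] [IsDomain A] [IsDiscreteValuationRing A]
    [IsAlgClosed (IsLocalRing.ResidueField A)]
    {X : Scheme.{u}} (f : X ⟶ Spec (CommRingCat.of A)) (hf : RelProj.IsHProjective f)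
    (η s : ↥(Spec (CommRingCat.of A))) (hη : η.asIdeal = ⊥) (hs : s.asIdeal = IsLocalRing.maximalIdeal A)
    (hirr : IsIrreducible (Set.univ : Set ↥(f.fiber η))) (hdim : topologicalKrullDim ↥(f.fiber η) = 1)
    (hrat : ∃ φ : CohB1.ProjSpace 1 ↑((Spec (CommRingCat.of A)).residueField η) ⟶ f.fiber η,
      φ ≫ f.fiberToSpecResidueField η = CohB1.ProjSpace.toSpec 1 ↑((Spec (CommRingCat.of A)).residueField η) ∧ DenseRange ⇑φ) :
    _root_.IsConnected (Set.univ : Set ↥(((f.fiberι η).imageι ≫ f).fiber s)) ∧
      ∀ Z ∈ irreducibleComponents ↥(((f.fiberι η).imageι ≫ f).fiber s),
        ∃ ψ : CohB1.ProjSpace 1 ↑((Spec (CommRingCat.of A)).residueField s) ⟶ ((f.fiberι η).imageι ≫ f).fiber s,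
          ψ ≫ ((f.fiberι η).imageι ≫ f).fiberToSpecResidueField s = CohB1.ProjSpace.toSpec 1 ↑((Spec (CommRingCat.of A)).residueField s) ∧
          (Set.range ⇑ψ).Nontrivial ∧ Set.range ⇑ψ = Z := by
  exact K754.RatFib.main f hf η s hη hs hdim hrat

end Groth.Agent.S18279
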