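import Groth.Statements.S18281
import Groth.Agent.ZCorr.K952.QFin
import Groth.Agent.Sga3C.QFlatOpen

set_option autoImplicit false
open CategoryTheory CategoryTheory.Limits AlgebraicGeometry
open ZCorr

namespace Groth.Agent.S18281

/-- Over the complex numbers let W be a smooth irreducible quasi-projective variety of dimension n, X a
smooth irreducible projective variety, and Z an integral closed subscheme of X × W of dimension n
(an irreducible component of a correspondence from W to X), with projection π : Z → W. (a) The set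
of points of W over which π is flat (flat at every point of the fibre) is open and nonempty. (b) The
set U of points of W with finite fibre is open and nonempty, and π restricted over U is finite. -/
theorem result
    (W X : Scheme.{0}) [W.Over (Spec (CommRingCat.of ℂ))] [X.Over (Spec (CommRingCat.of ℂ))]
    [AlgebraicGeometry.IsIntegral W] [Smooth (W ↘ Spec (CommRingCat.of ℂ))] (hW : RelProj.IsHQuasiProjective (W ↘ Spec (CommRingCat.of ℂ)))
    (n : ℕ) (hdimW : topologicalKrullDim W = n)
    [AlgebraicGeometry.IsIntegral X] [Smooth (X ↘ Spec (CommRingCat.of ℂ))] (hX : RelProj.IsHProjective (X ↘ Spec (CommRingCat.of ℂ)))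
    {Z : Scheme.{0}} (i : Z ⟶ pullback (X ↘ Spec (CommRingCat.of ℂ)) (W ↘ Spec (CommRingCat.of ℂ))) [IsClosedImmersion i]
    [AlgebraicGeometry.IsIntegral Z] (hdimZ : topologicalKrullDim Z = n) :
    (IsOpen {w : W | ∀ z : Z, (i ≫ pullback.snd (X ↘ Spec (CommRingCat.of ℂ)) (W ↘ Spec (CommRingCat.of ℂ))) z = w →
        ((i ≫ pullback.snd (X ↘ Spec (CommRingCat.of ℂ)) (W ↘ Spec (CommRingCat.of ℂ))).stalkMap z).hom.Flat} ∧
      {w : W | ∀ z : Z, (i ≫ pullback.snd (X ↘ Spec (CommRingCat.of ℂ)) (W ↘ Spec (CommRingCat.of ℂ))) z = w →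
        ((i ≫ pullback.snd (X ↘ Spec (CommRingCat.of ℂ)) (W ↘ Spec (CommRingCat.of ℂ))).stalkMap z).hom.Flat}.Nonempty) ∧
    ∃ U : W.Opens, (U : Set W) = {w : W | ((i ≫ pullback.snd (X ↘ Spec (CommRingCat.of ℂ)) (W ↘ Spec (CommRingCat.of ℂ))) ⁻¹' {w}).Finite} ∧
      (U : Set W).Nonempty ∧ IsFinite ((i ≫ pullback.snd (X ↘ Spec (CommRingCat.of ℂ)) (W ↘ Spec (CommRingCat.of ℂ))) ∣_ U) := by
  have hX1 : IsProper (X ↘ Spec (CommRingCat.of ℂ)) := K952.Basic.isProper_of_isHProjective hX
  have hW1 := K952.Basic.isSeparated_of_isHQuasiProjective hW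
  have hW2 := K952.Basic.locallyOfFiniteType_of_isHQuasiProjective hW
  have hW3 := K952.Basic.quasiCompact_of_isHQuasiProjective hW
  have hWN : IsLocallyNoetherian W := LocallyOfFiniteType.isLocallyNoetherian (W ↘ Spec (CommRingCat.of ℂ))
  set π := i ≫ pullback.snd (X ↘ Spec (CommRingCat.of ℂ)) (W ↘ Spec (CommRingCat.of ℂ)) with hπ
  have hπp : IsProper π := inferInstance
  have hgen : π ⁻¹' {genericPoint W} ⊆ {genericPoint Z} := by
    apply K952.QFin.fibre_subset_genericPoint π (W ↘ Spec (CommRingCat.of ℂ))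
    rw [K952.Basic.dm_genericPoint _ hdimZ, K952.Basic.dm_genericPoint _ hdimW]
  refine ⟨⟨?_, ⟨genericPoint W, ?_⟩⟩, K952.QFin.finLocus π, K952.QFin.coe_finLocus π,
    ⟨genericPoint W, ?_⟩, K952.QFin.isFinite_restrict_finLocus π⟩
  · have h1 := Groth.Agent.Sga3C.QFlatOpen.isOpen_flatLocus π
    have h2 : {w : W | ∀ z : Z, π z = w → (π.stalkMap z).hom.Flat} =
        (π '' {z : Z | (π.stalkMap z).hom.Flat}ᶜ)ᶜ := by
      ext w
      constructor
      · rintro h ⟨z, hz, hzw⟩
        exact hz (h z hzw)
      · intro h z hz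
        by_contra h3
        exact h ⟨z, h3, hz⟩
    rw [h2]
    exact (π.isClosedMap _ h1.isClosed_compl).isOpen_compl
  · intro z hz
    have h1 : IsField (W.presheaf.stalk (π z)) := by
      rw [hz]
      exact Field.toIsField (W.functionField)
    let := h1.toField
    let := (π.stalkMap z).hom.toAlgebra
    change Module.Flat _ _
    infer_instance
  · rw [SetLike.mem_coe, K952.QFin.mem_finLocus]
    exact (Set.finite_singleton _).subset hgen


end Groth.Agent.S18281
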