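import Groth.Statements.S18282
import Groth.Agent.ZCorr.K952.SymCorr
import Mathlib.Analysis.Complex.Polynomial.Basic

set_option autoImplicit false
open CategoryTheory CategoryTheory.Limits AlgebraicGeometry
open ZCorr

namespace Groth.Agent.S18282

/-- Over the complex numbers let W be a smooth irreducible quasi-projective variety of dimension n, X a
smooth irreducible projective variety with a symmetric product Sym^d X, and F : W → Sym^d X a
morphism over the base. Then there is an effective n-cycle Γ on X × W, with every component finite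
over W (finite fibres), such that at every complex point u of W over which the components of Γ are
flat the zero-cycle of F(u) is the fibre cycle Γ_u. -/
theorem result
    (W X : Scheme.{0}) [W.Over (Spec (CommRingCat.of ℂ))] [X.Over (Spec (CommRingCat.of ℂ))]
    [AlgebraicGeometry.IsIntegral W] [Smooth (W ↘ Spec (CommRingCat.of ℂ))] (hW : RelProj.IsHQuasiProjective (W ↘ Spec (CommRingCat.of ℂ)))
    (n : ℕ) (hdimW : topologicalKrullDim W = n)
    [AlgebraicGeometry.IsIntegral X] [Smooth (X ↘ Spec (CommRingCat.of ℂ))] (hX : RelProj.IsHProjective (X ↘ Spec (CommRingCat.of ℂ)))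
    (d : ℕ) (Sy : Scheme.{0}) (q : SymProd.fibPow (X ↘ Spec (CommRingCat.of ℂ)) d ⟶ Sy) (g : Sy ⟶ Spec (CommRingCat.of ℂ))
    (hS : SymProd.IsSymProd (X ↘ Spec (CommRingCat.of ℂ)) d q g)
    (δ : ↥(pullback (X ↘ Spec (CommRingCat.of ℂ)) (W ↘ Spec (CommRingCat.of ℂ))) → ℤ) (hδ : Cyc.DeltaCompat (pullback.fst (X ↘ Spec (CommRingCat.of ℂ)) (W ↘ Spec (CommRingCat.of ℂ)) ≫ (X ↘ Spec (CommRingCat.of ℂ))) δ (fun _ => 0))
    (F : W ⟶ Sy) (hF : F ≫ g = (W ↘ Spec (CommRingCat.of ℂ))) :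
    ∃ Γ : AlgebraicCycle (pullback (X ↘ Spec (CommRingCat.of ℂ)) (W ↘ Spec (CommRingCat.of ℂ))) ℤ, Γ ∈ Cyc.Zk (pullback (X ↘ Spec (CommRingCat.of ℂ)) (W ↘ Spec (CommRingCat.of ℂ))) δ n ∧ (∀ ξ, 0 ≤ Γ ξ) ∧
      (∀ ξ, Γ ξ ≠ 0 → ∀ w : W, (closure {ξ} ∩ pullback.snd (X ↘ Spec (CommRingCat.of ℂ)) (W ↘ Spec (CommRingCat.of ℂ)) ⁻¹' {w}).Finite) ∧
      ∀ (u : Spec (CommRingCat.of ℂ) ⟶ W) (hu : u ≫ (W ↘ Spec (CommRingCat.of ℂ)) = 𝟙 _),
        (∀ ξ, Γ ξ ≠ 0 → ∀ (z : ↥(pullback (X ↘ Spec (CommRingCat.of ℂ)) (W ↘ Spec (CommRingCat.of ℂ)))) (h : ξ ⤳ z),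
          pullback.snd (X ↘ Spec (CommRingCat.of ℂ)) (W ↘ Spec (CommRingCat.of ℂ)) z = u (IsLocalRing.closedPoint ℂ) →
            ((Ideal.Quotient.mk (RingHom.ker (Cyc.specMap z ξ h))).comp
              ((pullback.snd (X ↘ Spec (CommRingCat.of ℂ)) (W ↘ Spec (CommRingCat.of ℂ))).stalkMap z).hom).Flat) →
        ZCorr.IsCycleOfSymPt (X ↘ Spec (CommRingCat.of ℂ)) d q (u ≫ F) (AlgEqCyc.fibreFun (X ↘ Spec (CommRingCat.of ℂ)) (W ↘ Spec (CommRingCat.of ℂ)) Γ u hu) := by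
  have hX1 : IsProper (X ↘ Spec (CommRingCat.of ℂ)) := K952.Basic.isProper_of_isHProjective hX
  have hW2 := K952.Basic.locallyOfFiniteType_of_isHQuasiProjective hW
  have hW3 := K952.Basic.quasiCompact_of_isHQuasiProjective hW
  have hWc : CompactSpace W :=
    QuasiCompact.compactSpace_of_compactSpace (W ↘ Spec (CommRingCat.of ℂ))
  obtain ⟨L, _, _, _, _, Φ, hΦ⟩ := K952.SymCorr.exists_lift (X ↘ Spec (CommRingCat.of ℂ))
    (W ↘ Spec (CommRingCat.of ℂ)) d q g hS F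
  obtain ⟨Γ, h1, h2, h3, -, h5⟩ := K952.SymCorr.exists_corr (X ↘ Spec (CommRingCat.of ℂ))
    (W ↘ Spec (CommRingCat.of ℂ)) d q g hS F hF Φ hΦ
    (K952.SymDim.isIntegrallyClosed_stalk (W ↘ Spec (CommRingCat.of ℂ))) n hdimW
  refine ⟨Γ, ?_, h2, h3, h5⟩
  intro ξ hξ
  by_contra h
  apply hξ
  rw [K952.Basic.delta_eq_dm hδ ξ]
  have h6 : pullback.fst (X ↘ Spec (CommRingCat.of ℂ)) (W ↘ Spec (CommRingCat.of ℂ)) ≫
      (X ↘ Spec (CommRingCat.of ℂ)) = pullback.snd (X ↘ Spec (CommRingCat.of ℂ))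
      (W ↘ Spec (CommRingCat.of ℂ)) ≫ (W ↘ Spec (CommRingCat.of ℂ)) := pullback.condition
  rw [h6]
  exact_mod_cast h1 ξ h


end Groth.Agent.S18282
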