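import Groth.Statements.S18283
import Mathlib.LinearAlgebra.Alternating.Basic
import Mathlib.LinearAlgebra.Matrix.Determinant.Basic
import Mathlib.LinearAlgebra.StdBasis
import Mathlib.LinearAlgebra.Pi

set_option autoImplicit false
universe u v
open CAlgX

namespace Groth.Agent.S18283

/-- Let A be a commutative ring, ι a finite index type, H a finite set of indices (the head indices) and
c : ι → ι → A a table of coefficients; for j ∈ H put f_j = e_j − Σ_{i ∉ H} c_{ji} e_i in the free
module A^ι, so that each f_j has head e_j with coefficient 1 and tail supported outside H. If a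
submodule M of A^ι contains every f_j with j ∈ H, then M is the A-span of these f_j if and only if
every wedge product of |H|+1 elements of M vanishes in the (|H|+1)-st exterior power of A^ι
(equivalently, every (|H|+1)-minor of every matrix whose rows lie in M vanishes). The published
statement is the case where A is a Noetherian algebra over a field of characteristic zero, A^ι is
the degree-(m+1) part of the polynomial ring over A with its basis of terms, H is the set of
degree-(m+1) terms of a strongly stable monomial ideal generated in degree m, and M is the
degree-(m+1) part of an ideal generated by a marked set on that monomial ideal; this row allows any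
commutative ring and any submodule containing the marked polynomials. -/
theorem result
    {A : Type u} [CommRing A] {ι : Type v} [Fintype ι] [DecidableEq ι]
    (H : Finset ι) (c : ι → ι → A) (M : Submodule A (ι → A))
    (hf : ∀ j ∈ H, (Pi.single j (1 : A) - ∑ i ∈ Hᶜ, c j i • Pi.single i (1 : A)) ∈ M) :
    M = Submodule.span A ((fun j => Pi.single j (1 : A) - ∑ i ∈ Hᶜ, c j i • Pi.single i (1 : A)) '' ↑H)
      ↔ ∀ v : Fin (H.card + 1) → ι → A, (∀ k, v k ∈ M) →
          exteriorPower.ιMulti A (H.card + 1) v = 0 := by
  classical
  set F : ι → (ι → A) := fun j => Pi.single j (1 : A) - ∑ i ∈ Hᶜ, c j i • Pi.single i (1 : A) with hF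
  have hFH : ∀ j ∈ H, ∀ i ∈ H, F j i = if i = j then 1 else 0 := by
    intro j hj i hi
    rw [hF]
    simp only [Pi.sub_apply, Finset.sum_apply, Pi.smul_apply, Pi.single_apply, smul_eq_mul]
    rw [Finset.sum_eq_zero, sub_zero]
    intro l hl
    rw [if_neg, mul_zero]
    rintro rfl
    exact (Finset.mem_compl.1 hl) hi
  constructor
  · intro hM v hv
    let L : (↥H → A) →ₗ[A] (ι → A) := Fintype.linearCombination A (fun j : ↥H => F j)
    have hL : ∀ m ∈ M, ∃ w, L w = m := by
      intro m hm
      have h1 : m ∈ LinearMap.range L := by
        rw [Fintype.range_linearCombination]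
        rw [hM] at hm
        convert hm using 2
        ext x
        constructor
        · rintro ⟨j, rfl⟩
          exact ⟨j.1, j.2, rfl⟩
        · rintro ⟨j, hj, rfl⟩
          exact ⟨⟨j, hj⟩, rfl⟩
      exact h1
    choose w hw using fun k => hL (v k) (hv k)
    have h2 : (exteriorPower.ιMulti A (H.card + 1)).compLinearMap L = 0 := by
      refine Module.Basis.ext_alternating (Pi.basisFun A ↥H) fun u hu => ?_
      exfalso
      have := Fintype.card_le_of_injective u hu
      simp at this
    have h3 := DFunLike.congr_fun h2 w
    rw [AlternatingMap.compLinearMap_apply] at h3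
    have h4 : (fun i => L (w i)) = v := funext hw
    have h5 : (⇑L ∘ w) = v := h4
    first
      | (rw [h5] at h3; simpa using h3)
      | (rw [h4] at h3; simpa using h3)
  · intro hwedge
    apply le_antisymm
    · intro m hm
      let e : Fin H.card ≃ ↥H := H.equivFin.symm
      set m' : ι → A := m - ∑ j ∈ H, m j • F j with hm'
      have hm'M : m' ∈ M := Submodule.sub_mem _ hm
        (Submodule.sum_mem _ fun j hj => Submodule.smul_mem _ _ (hf j hj))
      have hm'H : ∀ i ∈ H, m' i = 0 := by
        intro i hi
        rw [hm', Pi.sub_apply, Finset.sum_apply]
        have h1 : ∀ j ∈ H, (m j • F j) i = if i = j then m j else 0 := by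
          intro j hj
          rw [Pi.smul_apply, hFH j hj i hi, smul_eq_mul, mul_ite, mul_one, mul_zero]
        rw [Finset.sum_congr rfl h1, Finset.sum_ite_eq, if_pos hi, sub_self]
      have hzero : m' = 0 := by
        ext i
        by_cases hi : i ∈ H
        · rw [hm'H i hi]; rfl
        · let g : Fin (H.card + 1) → ι := Fin.cons i (fun l => (e l : ι))
          let v : Fin (H.card + 1) → ι → A := Fin.cons m' (fun l => F (e l))
          have hv : ∀ k, v k ∈ M := by
            intro k
            refine Fin.cases ?_ ?_ k
            · exact hm'M
            · intro l; exact hf _ (e l).2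
          have h1 := hwedge v hv
          let D : (ι → A) [⋀^Fin (H.card + 1)]→ₗ[A] A :=
            (Matrix.detRowAlternating (R := A) (n := Fin (H.card + 1))).compLinearMap
              (LinearMap.funLeft A A g)
          have h2 : D v = 0 := by
            rw [← exteriorPower.alternatingMapLinearEquiv_apply_ιMulti D v, h1, map_zero]
          have h3 : D v = (Matrix.of fun k l => v k (g l)).det := rfl
          rw [h3, Matrix.det_succ_row_zero, Fin.sum_univ_succ] at h2
          have h4 : ∀ l : Fin H.card, (Matrix.of fun k l => v k (g l)) 0 l.succ = 0 := by
            intro l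
            exact hm'H _ (e l).2
          have h5 : ((Matrix.of fun k l => v k (g l)).submatrix Fin.succ (Fin.succAbove 0)) = 1 := by
            ext a b
            have h6 : (Matrix.of fun k l => v k (g l)).submatrix Fin.succ (Fin.succAbove 0) a b =
              F (e a) (e b) := by
              simp [v, g]
            rw [h6, hFH _ (e a).2 _ (e b).2, Matrix.one_apply]
            simp only [Subtype.coe_inj, EmbeddingLike.apply_eq_iff_eq, eq_comm]
          simp only [h4, mul_zero, zero_mul, Finset.sum_const_zero, add_zero, h5, Matrix.det_one,
            mul_one, Fin.val_zero, pow_zero, one_mul] at h2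
          exact h2
      have h7 : m = ∑ j ∈ H, m j • F j := by
        rw [← sub_eq_zero]; exact hzero
      rw [h7]
      exact Submodule.sum_mem _ fun j hj => Submodule.smul_mem _ _
        (Submodule.subset_span ⟨j, hj, rfl⟩)
    · rw [Submodule.span_le]
      rintro _ ⟨j, hj, rfl⟩
      exact hf j hj

end Groth.Agent.S18283
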