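import Groth.Statements.S18287
import Groth.Agent.Magnet.K950.AttrIdeal
-- import your own Groth.Agent.* helpers here

set_option autoImplicit false
universe u
open CategoryTheory MonoidalCategory CartesianMonoidalCategory MonObj AlgebraicGeometry Opposite
open Magnet

namespace Groth.Agent.S18287

/-- Let f : M → Z be a homomorphism of commutative monoids, Y a submonoid of Z and N its preimage in M,
and let X be an S-scheme affine over S with an action of the diagonalizable monoid scheme A(M)_S.
Regard X as an A(Z)_S-scheme through A(Z)_S → A(M)_S. Then the canonical map of attractors X^{N ⊂ M}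
→ X^{Y ⊂ Z} (precomposition with A(Y)_S → A(N)_S) is an isomorphism. -/
theorem result (S : Scheme.{u}) (M Z : Type) [AddCommMonoid M] [AddCommMonoid Z]
    (f : M →+ Z) (Y : AddSubmonoid Z) (X : Over S) [IsAffineHom X.hom] (a : Magnet.MonAct (Magnet.AMonS S M) X) :
    IsIso (Magnet.attrComap a f Y) := by
  have hcomp : Magnet.attrComap a f Y ≫ Magnet.attrToX (a.restrict (Magnet.AMonS.map S f)) Y =
      Magnet.attrToX a (Y.comap f) := by
    ext T φ
    change lift (toUnit (unop T) ≫ η[Magnet.AMonS S Y]) (𝟙 (unop T)) ≫ (Magnet.AMonS.map S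
      ((f.comp (Y.comap f).subtype).codRestrict Y (fun x => x.2)) ▷ unop T) ≫ φ.1 =
      lift (toUnit (unop T) ≫ η[Magnet.AMonS S (Y.comap f)]) (𝟙 (unop T)) ≫ φ.1
    rw [lift_whiskerRight_assoc, Category.assoc, IsMonHom.one_hom]
  have hcomp' : ∀ (T : Over S) (φ : (Magnet.attr a (Y.comap f)).obj (op T)),
      (Magnet.attrToX (a.restrict (Magnet.AMonS.map S f)) Y).app (op T) ((Magnet.attrComap a f Y).app (op T) φ) =
        (Magnet.attrToX a (Y.comap f)).app (op T) φ := by
    intro T φ
    rw [← hcomp]
    rfl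
  refine K950.ZarAff.isIso_of_bijective _ (K951.Shf.isSheaf_eqvHom _ _ _) (K951.Shf.isSheaf_eqvHom _ _ _) ?_
  intro T hT
  constructor
  · intro φ φ' h
    apply K950.AttrIdeal.attrToX_injective a (Y.comap f) (op T)
    rw [← hcomp', ← hcomp', h]
  · intro ψ
    have h1 : ∃ φ : (Magnet.attr a (Y.comap f)).obj (op T), (Magnet.attrToX a (Y.comap f)).app (op T) φ =
        (Magnet.attrToX (a.restrict (Magnet.AMonS.map S f)) Y).app (op T) ψ := by
      have := K951.AttrAff.isAffine_tensor X T
      rw [K951.AttrAff.mem_range_attrToX_iff]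
      intro m hm h hh
      refine (K951.AttrAff.mem_range_attrToX_iff Y _).1 ⟨ψ, rfl⟩ (f m) hm h ?_
      rw [K951.Coact.isHomog_iff] at hh ⊢
      intro W g y
      have h2 := hh W (g ≫ Magnet.AMonS.map S f) y
      rw [K951.Pts.chi_map_apply] at h2
      rw [← h2]
      congr 2
      rw [← lift_comp_fst_snd y, Magnet.MonAct.lift_prod_act, Magnet.MonAct.lift_prod_act,
        Magnet.MonAct.lift_restrict_act, Magnet.MonAct.lift_trivial_act, Magnet.MonAct.lift_trivial_act]
    obtain ⟨φ, hφ⟩ := h1
    refine ⟨φ, ?_⟩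
    apply K950.AttrIdeal.attrToX_injective (a.restrict (Magnet.AMonS.map S f)) Y (op T)
    rw [hcomp', hφ]

end Groth.Agent.S18287
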