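import Groth.Statements.S18288
import Groth.Agent.Magnet.K950.Descend
import Groth.Agent.Magnet.K949.Eval
-- import your own Groth.Agent.* helpers here

set_option autoImplicit false
universe u
open CategoryTheory MonoidalCategory CartesianMonoidalCategory MonObj AlgebraicGeometry Opposite
open Magnet

namespace Groth.Agent.S18288

/-- Let M be a commutative monoid with an injective homomorphism f : M → Z into a commutative group Z
(so M is cancellative; the published statement takes Z to be the group completion of M, and the same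
argument applies to any such Z), let Y be a submonoid of Z contained in the image of M, and let X be
an S-scheme separated over S with an action of the diagonalizable monoid scheme A(M)_S. Regard X as
a D(Z)_S-scheme through D(Z)_S → A(M)_S. Then the canonical map of attractors X^{f⁻¹Y ⊂ M} → X^{Y ⊂
Z} is an isomorphism: a D(Z)_S-equivariant family out of A(Y)_S is automatically A(M)_S-equivariant.
(The published statement allows X to be an algebraic space; here X is a scheme.) -/
theorem result (S : Scheme.{u}) (M Z : Type) [AddCommMonoid M]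
    [AddCommGroup Z] (f : M →+ Z) (hf : Function.Injective f) (Y : AddSubmonoid Z)
    (hY : Y ≤ AddMonoidHom.mrange f) (X : Over S) [IsSeparated X.hom]
    (a : Magnet.MonAct (Magnet.AMonS S M) X) :
    IsIso (Magnet.attrComap a f Y) := by
  rw [NatTrans.isIso_iff_isIso_app]
  rintro ⟨T⟩
  rw [isIso_iff_bijective]
  let N : AddSubmonoid M := Y.comap f
  let r : N →+ Y := (f.comp N.subtype).codRestrict Y (fun x => x.2)
  have hr : Function.Bijective r := by
    constructor
    · intro n n' h
      exact Subtype.ext (hf (congrArg Subtype.val h))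
    · intro y
      obtain ⟨m, hm⟩ := hY y.2
      exact ⟨⟨m, by change f m ∈ Y; rw [hm]; exact y.2⟩, Subtype.ext hm⟩
  let e : N ≃+ Y := AddEquiv.ofBijective r hr
  let i : Magnet.AMonS S Y ⟶ Magnet.AMonS S N := Magnet.AMonS.map S r
  let i' : Magnet.AMonS S N ⟶ Magnet.AMonS S Y := Magnet.AMonS.map S e.symm.toAddMonoidHom
  have hi1 : ∀ {W : Over S} (w : W ⟶ Magnet.AMonS S N), (w ≫ i') ≫ i = w := by
    intro W w
    rw [Category.assoc, ← Magnet.AMonS.map_comp]
    apply K951.Pts.chi_injective
    rw [K951.Pts.chi_map]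
    refine MonoidHom.ext fun n => ?_
    exact congrArg (fun k => K951.Pts.chi w (Multiplicative.ofAdd k)) (e.symm_apply_apply (Multiplicative.toAdd n))
  have hi2 : ∀ {W : Over S} (w : W ⟶ Magnet.AMonS S Y), (w ≫ i) ≫ i' = w := by
    intro W w
    rw [Category.assoc, ← Magnet.AMonS.map_comp]
    apply K951.Pts.chi_injective
    rw [K951.Pts.chi_map]
    refine MonoidHom.ext fun n => ?_
    exact congrArg (fun k => K951.Pts.chi w (Multiplicative.ofAdd k)) (e.apply_symm_apply (Multiplicative.toAdd n))
  have hi3 : (i' ▷ T) ≫ (i ▷ T) = 𝟙 _ := by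
    rw [← comp_whiskerRight, ← id_whiskerRight]
    congr 1
    simpa using hi1 (𝟙 _)
  have hi4 : (i ▷ T) ≫ (i' ▷ T) = 𝟙 _ := by
    rw [← comp_whiskerRight, ← id_whiskerRight]
    congr 1
    simpa using hi2 (𝟙 _)
  constructor
  · intro φ φ' hφ
    have hφ' : (i ▷ T) ≫ φ.1 = (i ▷ T) ≫ φ'.1 := congrArg Subtype.val hφ
    apply Subtype.ext
    have := congrArg (fun k => (i' ▷ T) ≫ k) hφ'
    dsimp only at this
    rw [reassoc_of% hi3, reassoc_of% hi3] at this
    exact this
  · intro ψ
    have hψ : ∀ {W : Over S} (z : W ⟶ Magnet.AMonS S Z) (y : W ⟶ Magnet.AMonS S Y) (t : W ⟶ T),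
        lift (z ≫ Magnet.AMonS.map S Y.subtype * y) t ≫ ψ.1 =
          lift (z ≫ Magnet.AMonS.map S f) (lift y t ≫ ψ.1) ≫ a.act := by
      intro W' z y t
      have e := (Magnet.MonAct.mem_eqvHom_iff ψ.1).1 ψ.2 W' z y t
      rw [Magnet.MonAct.lift_restrict_act] at e
      rw [← e]
      change _ = lift (lift z y ≫ ((Magnet.MonAct.regular _).restrict _).act) t ≫ ψ.1
      rw [Magnet.MonAct.lift_restrict_act, Magnet.MonAct.lift_regular_act]
    have hsub : ∀ {W : Over S} (z : W ⟶ Magnet.AMonS S M) (y : W ⟶ Magnet.AMonS S N),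
        lift z y ≫ (Magnet.subAct S M N).act = z ≫ Magnet.AMonS.map S N.subtype * y := by
      intro W z y
      change lift z y ≫ ((Magnet.MonAct.regular _).restrict _).act = _
      rw [Magnet.MonAct.lift_restrict_act, Magnet.MonAct.lift_regular_act]
    have heq : Magnet.MonAct.IsEquivariant ((Magnet.subAct S M N).prod (Magnet.MonAct.trivial _ T)) a
        ((i' ▷ T) ≫ ψ.1) := by
      let P : Over S := Magnet.AMonS S N ⊗ T
      have hd := K949.Dominant.dominant_map (S := S) f hf P
      refine K951.Dense.eq_of_separated_over (Magnet.AMonS.map S f ▷ P) _ _ ?_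
      apply Magnet.hom_ext_lift₂
      intro W z w
      have e1 : lift z w ≫ (Magnet.AMonS.map S f ▷ P) ≫ ((Magnet.subAct S M N).prod (Magnet.MonAct.trivial _ T)).act ≫
          (i' ▷ T) ≫ ψ.1 = lift (z ≫ Magnet.AMonS.map S Y.subtype * ((w ≫ fst _ _) ≫ i')) (w ≫ snd _ _) ≫ ψ.1 := by
        conv_lhs => rw [← lift_comp_fst_snd w]
        rw [lift_whiskerRight_assoc, Magnet.MonAct.lift_prod_act_assoc, Magnet.MonAct.lift_trivial_act,
          lift_whiskerRight_assoc]
        rw [hsub, MonObj.mul_comp, Category.assoc, Category.assoc, ← Magnet.AMonS.map_comp, ← Magnet.AMonS.map_comp]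
        have e3 : (f.comp N.subtype).comp e.symm.toAddMonoidHom = Y.subtype :=
          AddMonoidHom.ext fun y => congrArg Subtype.val (e.apply_symm_apply y)
        rw [← AddMonoidHom.comp_assoc, e3, Category.assoc]
      have e2 : lift z w ≫ (Magnet.AMonS.map S f ▷ P) ≫ (Magnet.AMonS S M ◁ ((i' ▷ T) ≫ ψ.1)) ≫ a.act =
          lift (z ≫ Magnet.AMonS.map S f) (lift ((w ≫ fst _ _) ≫ i') (w ≫ snd _ _) ≫ ψ.1) ≫ a.act := by
        rw [lift_whiskerRight_assoc, lift_whiskerLeft_assoc]
        conv_lhs => rw [← lift_comp_fst_snd w]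
        rw [lift_whiskerRight_assoc]
      exact e1.trans ((hψ z _ _).trans e2.symm)
    refine ⟨⟨(i' ▷ T) ≫ ψ.1, heq⟩, ?_⟩
    apply Subtype.ext
    change (i ▷ T) ≫ (i' ▷ T) ≫ ψ.1 = ψ.1
    rw [reassoc_of% hi4]

end Groth.Agent.S18288
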