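import Groth.Statements.S18298
import Groth.Agent.Magnet.K950.Descend
import Groth.Agent.Magnet.K949.Eval
-- import your own Groth.Agent.* helpers here

set_option autoImplicit false
universe u
open CategoryTheory MonoidalCategory CartesianMonoidalCategory MonObj AlgebraicGeometry Opposite
open Magnet

namespace Groth.Agent.S18298

/-- Let f : M → Z be a homomorphism of finitely generated commutative groups, Y a submonoid of Z
contained in the image f(M), N = f⁻¹(Y), and X an S-scheme with an action of the diagonalizable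
group scheme D(M)_S. Regard X as a D(Z)_S-scheme through D(Z)_S → D(M)_S. Then the canonical map of
attractors X^{N ⊂ M} → X^{Y ⊂ Z} (precomposition with A(Y)_S → A(N)_S) is an isomorphism. (The
published statement has no condition on Y; its argument passes through a quotient of D(M)_T ×_T
A(Y)_T by the diagonalizable group of f(M) + Y^gp, whose action is not free in general — for f
multiplication by 2 on the integers and Y the natural numbers the points over the vertex of A(Y)
have stabilizer μ₂ — but is free when Y lies in f(M), so the statement is given here under that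
condition. X may be an algebraic space in the source; here it is a scheme.) -/
theorem result (S : Scheme.{u}) (M Z : Type) [AddCommGroup M] [AddCommGroup Z]
    [AddGroup.FG M] [AddGroup.FG Z] (f : M →+ Z) (Y : AddSubmonoid Z) (hY : Y ≤ AddMonoidHom.mrange f)
    (X : Over S) (a : AlgGrp.Action (Red.DS S M) X) :
    IsIso (Magnet.attrComap (Magnet.MonAct.ofAction a) f Y) := by
  rw [NatTrans.isIso_iff_isIso_app]
  rintro ⟨T⟩
  rw [isIso_iff_bijective]
  let b : Magnet.MonAct (Magnet.AMonS S M) X := Magnet.MonAct.ofAction a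
  let N : AddSubmonoid M := Y.comap f
  let r : N →+ Y := (f.comp N.subtype).codRestrict Y (fun x => x.2)
  let i : Magnet.AMonS S Y ⟶ Magnet.AMonS S N := Magnet.AMonS.map S r
  let d : N →+ M × Y := N.subtype.prod r
  let p : Magnet.AMonS S (M × Y) ⟶ Magnet.AMonS S N := Magnet.AMonS.map S d
  let pM : Magnet.AMonS S (M × Y) ⟶ Magnet.AMonS S M := Magnet.AMonS.map S (AddMonoidHom.inl M Y)
  let pY : Magnet.AMonS S (M × Y) ⟶ Magnet.AMonS S Y := Magnet.AMonS.map S (AddMonoidHom.inr M Y)
  -- the covering
  have hfs : Flat (p ▷ T).left ∧ Surjective (p ▷ T).left := by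
    have hsec : ∀ k : AddMonoidHom.mrange f, ∃ m : M, f m = k := fun k => k.2
    choose s hs using hsec
    refine K950.FlatMap.flat_surjective d T (I := AddMonoidHom.mrange f) (fun k => (s k, 0)) ⟨?_, ?_⟩
    · rintro ⟨k, n⟩ ⟨k', n'⟩ h
      have h1 : s k + (n : M) = s k' + n' := congrArg Prod.fst h
      have h2 : (0 : Y) + r n = 0 + r n' := congrArg Prod.snd h
      have h3 : f n = f n' := by
        rw [zero_add, zero_add] at h2
        exact congrArg (Subtype.val : Y → Z) h2
      have h4 : k = k' := by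
        apply Subtype.ext
        have := congrArg f h1
        rw [map_add, map_add, h3, hs, hs] at this
        exact add_right_cancel this
      subst h4
      have h5 : n = n' := Subtype.ext (add_left_cancel h1)
      rw [h5]
    · rintro ⟨m, y⟩
      obtain ⟨m₀, hm₀⟩ := hY y.2
      let k : AddMonoidHom.mrange f := ⟨f m - y, ⟨m - m₀, by rw [map_sub, hm₀]⟩⟩
      have hn : f (m - s k) = y := by rw [map_sub, hs]; simp [k]
      refine ⟨(k, ⟨m - s k, by change f (m - s k) ∈ Y; rw [hn]; exact y.2⟩), Prod.ext ?_ ?_⟩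
      · change s k + (m - s k) = m
        abel
      · apply Subtype.ext
        change (0 : Z) + f (m - s k) = y
        rw [hn, zero_add]
  have hp1 := hfs.1
  have hp2 := hfs.2
  have hp3 : QuasiCompact (p ▷ T).left := K950.FlatMap.quasiCompact_map_whiskerRight _ T
  have hpepi : Epi (p ▷ T) := K950.FlatMap.epi_of_fpqc _
  -- the points of the covering
  have hpt : ∀ {W : Over S} (w : W ⟶ Magnet.AMonS S (M × Y)),
      w ≫ p = (w ≫ pM) ≫ Magnet.AMonS.map S N.subtype * (w ≫ pY) ≫ i := by
    intro W w
    apply K951.Pts.chi_injective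
    rw [K951.Pts.chi_mul]
    refine MonoidHom.ext fun n => ?_
    have e1 := K951.Pts.chi_map_apply w d (Multiplicative.toAdd n)
    have e2 := K951.Pts.chi_map_apply (w ≫ pM) N.subtype (Multiplicative.toAdd n)
    have e3 := K951.Pts.chi_map_apply w (AddMonoidHom.inl M Y) ((Multiplicative.toAdd n : N) : M)
    have e4 := K951.Pts.chi_map_apply (w ≫ pY) r (Multiplicative.toAdd n)
    have e5 := K951.Pts.chi_map_apply w (AddMonoidHom.inr M Y) (r (Multiplicative.toAdd n))
    rw [MonoidHom.mul_apply]
    refine e1.trans ?_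
    have e6 : d (Multiplicative.toAdd n) = AddMonoidHom.inl M Y ((Multiplicative.toAdd n : N) : M) +
        AddMonoidHom.inr M Y (r (Multiplicative.toAdd n)) := by
      refine Prod.ext ?_ ?_
      · change ((Multiplicative.toAdd n : N) : M) = ((Multiplicative.toAdd n : N) : M) + 0
        rw [add_zero]
      · change r (Multiplicative.toAdd n) = 0 + r (Multiplicative.toAdd n)
        rw [zero_add]
    rw [e6, ofAdd_add, map_mul]
    exact congrArg₂ (· * ·) (e2.trans e3).symm (e4.trans e5).symm
  -- equivariance for the image of `f`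
  let R : AddSubgroup Z := f.range
  have hYR : ∀ y : Y, (y : Z) ∈ R := fun y => by
    obtain ⟨m, hm⟩ := hY y.2
    exact ⟨m, hm⟩
  let j : Y →+ R := Y.subtype.codRestrict R hYR
  let q : Magnet.AMonS S Z ⟶ Magnet.AMonS S R := Magnet.AMonS.map S R.toAddSubmonoid.subtype
  let fR : Magnet.AMonS S R ⟶ Magnet.AMonS S M := Magnet.AMonS.map S f.rangeRestrict
  have hψR : ∀ (ψ : (Magnet.attr (b.restrict (Magnet.AMonS.map S f)) Y).obj (op T)) {W : Over S}
      (h : W ⟶ Magnet.AMonS S R) (y : W ⟶ Magnet.AMonS S Y) (t : W ⟶ T),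
      lift (h ≫ Magnet.AMonS.map S j * y) t ≫ ψ.1 = lift (h ≫ fR) (lift y t ≫ ψ.1) ≫ b.act := by
    intro ψ W h y t
    let P : Over S := Magnet.AMonS S Y ⊗ T
    let bY : Magnet.MonAct (Magnet.AMonS S R) P :=
      ((Magnet.MonAct.regular (Magnet.AMonS S Y)).restrict (Magnet.AMonS.map S j)).prod
        (Magnet.MonAct.trivial _ T)
    have hq := K950.FlatMap.flat_surjective_subgroup P R
    have hq1 := hq.1
    have hq2 := hq.2
    have hq3 : QuasiCompact (q ▷ P).left := K950.FlatMap.quasiCompact_map_whiskerRight _ P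
    have hqepi : Epi (q ▷ P) := K950.FlatMap.epi_of_fpqc _
    have hψZ : ∀ {W' : Over S} (z : W' ⟶ Magnet.AMonS S Z) (y : W' ⟶ Magnet.AMonS S Y) (t : W' ⟶ T),
        lift (z ≫ Magnet.AMonS.map S Y.subtype * y) t ≫ ψ.1 =
          lift (z ≫ Magnet.AMonS.map S f) (lift y t ≫ ψ.1) ≫ b.act := by
      intro W' z y t
      have e := (Magnet.MonAct.mem_eqvHom_iff ψ.1).1 ψ.2 W' z y t
      rw [Magnet.MonAct.lift_restrict_act] at e
      rw [← e]
      change _ = lift (lift z y ≫ ((Magnet.MonAct.regular _).restrict _).act) t ≫ ψ.1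
      rw [Magnet.MonAct.lift_restrict_act, Magnet.MonAct.lift_regular_act]
    have key : bY.act ≫ ψ.1 = (Magnet.AMonS S R ◁ ψ.1) ≫ (b.restrict fR).act := by
      rw [← cancel_epi (q ▷ P)]
      apply Magnet.hom_ext_lift₂
      intro W' z w
      have e1 : lift z w ≫ (q ▷ P) ≫ bY.act ≫ ψ.1 =
          lift (z ≫ Magnet.AMonS.map S Y.subtype * (w ≫ fst _ _)) (w ≫ snd _ _) ≫ ψ.1 := by
        conv_lhs => rw [← lift_comp_fst_snd w]
        rw [lift_whiskerRight_assoc, Magnet.MonAct.lift_prod_act_assoc,
          Magnet.MonAct.lift_restrict_act, Magnet.MonAct.lift_trivial_act, Magnet.MonAct.lift_regular_act]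
        congr 2
        rw [Category.assoc, ← Magnet.AMonS.map_comp]
        rfl
      have e2 : lift z w ≫ (q ▷ P) ≫ (Magnet.AMonS S R ◁ ψ.1) ≫ (b.restrict fR).act =
          lift (z ≫ Magnet.AMonS.map S f) (lift (w ≫ fst _ _) (w ≫ snd _ _) ≫ ψ.1) ≫ b.act := by
        rw [lift_whiskerRight_assoc, lift_whiskerLeft_assoc, Magnet.MonAct.lift_restrict_act, lift_comp_fst_snd]
        congr 2
        rw [Category.assoc, ← Magnet.AMonS.map_comp]
        rfl
      rw [e1, e2]
      exact hψZ z _ _
    have e := congrArg (fun k => lift h (lift y t) ≫ k) key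
    dsimp only at e
    rw [Magnet.MonAct.lift_prod_act_assoc, Magnet.MonAct.lift_restrict_act, Magnet.MonAct.lift_trivial_act,
      Magnet.MonAct.lift_regular_act, lift_whiskerLeft_assoc, Magnet.MonAct.lift_restrict_act] at e
    exact e
  constructor
  · intro φ φ' hφ
    have hφ' : (i ▷ T) ≫ φ.1 = (i ▷ T) ≫ φ'.1 := congrArg Subtype.val hφ
    apply Subtype.ext
    rw [← cancel_epi (p ▷ T)]
    apply Magnet.hom_ext_lift₂
    intro W w t
    have e : ∀ φ : (Magnet.attr b N).obj (op T), lift w t ≫ (p ▷ T) ≫ φ.1 =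
        lift (w ≫ pM) (lift (w ≫ pY) t ≫ (i ▷ T) ≫ φ.1) ≫ b.act := by
      intro φ
      have e1 := (Magnet.MonAct.mem_eqvHom_iff φ.1).1 φ.2 W (w ≫ pM) ((w ≫ pY) ≫ i) t
      rw [lift_whiskerRight_assoc, lift_whiskerRight_assoc, hpt, ← e1]
      change _ = lift (lift (w ≫ pM) ((w ≫ pY) ≫ i) ≫ ((Magnet.MonAct.regular _).restrict _).act) t ≫ φ.1
      rw [Magnet.MonAct.lift_restrict_act, Magnet.MonAct.lift_regular_act]
    rw [e φ, e φ', hφ']
  · intro ψ
    let Φ : Magnet.AMonS S (M × Y) ⊗ T ⟶ X := lift (fst _ _ ≫ pM) ((pY ▷ T) ≫ ψ.1) ≫ b.act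
    have hΦ : ∀ {W : Over S} (w : W ⟶ Magnet.AMonS S (M × Y)) (t : W ⟶ T),
        lift w t ≫ Φ = lift (w ≫ pM) (lift (w ≫ pY) t ≫ ψ.1) ≫ b.act := by
      intro W w t
      simp only [Φ]
      rw [comp_lift_assoc, lift_fst_assoc, lift_whiskerRight_assoc]
    obtain ⟨Ψ, hΨ, hΨ'⟩ := K950.Descend.exists_equivariant_desc
      (aP := ((Magnet.MonAct.regular (Magnet.AMonS S (M × Y))).restrict
        (Magnet.AMonS.map S (AddMonoidHom.fst M Y))).prod (Magnet.MonAct.trivial _ T))
      (aQ := (Magnet.subAct S M N).prod (Magnet.MonAct.trivial _ T))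
      (aX := b)
      (p := p ▷ T) (Φ := Φ) (by
        rw [Magnet.MonAct.isEquivariant_iff]
        intro W g z
        rw [← lift_comp_fst_snd z, Magnet.MonAct.lift_prod_act_assoc, Magnet.MonAct.lift_trivial_act,
          lift_whiskerRight, lift_whiskerRight, Magnet.MonAct.lift_prod_act, Magnet.MonAct.lift_trivial_act]
        congr 1
        change _ = lift g ((z ≫ fst _ _) ≫ p) ≫ ((Magnet.MonAct.regular _).restrict _).act
        rw [Magnet.MonAct.lift_restrict_act, Magnet.MonAct.lift_regular_act, Magnet.MonAct.lift_restrict_act,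
          Magnet.MonAct.lift_regular_act, MonObj.mul_comp, Category.assoc, ← Magnet.AMonS.map_comp]
        rfl)
      (by
        rw [Magnet.MonAct.mem_eqvHom_iff]
        intro W g w t
        rw [Magnet.MonAct.lift_restrict_act, Magnet.MonAct.lift_regular_act, hΦ, hΦ, MonObj.mul_comp, MonObj.mul_comp,
          Category.assoc, Category.assoc, ← Magnet.AMonS.map_comp, ← Magnet.AMonS.map_comp]
        have e1 : g ≫ Magnet.AMonS.map S ((AddMonoidHom.fst M Y).comp (AddMonoidHom.inl M Y)) = g := by
          apply K951.Pts.chi_injective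
          rw [K951.Pts.chi_map]
          rfl
        have e2 : g ≫ Magnet.AMonS.map S ((AddMonoidHom.fst M Y).comp (AddMonoidHom.inr M Y)) = 1 := by
          apply K951.Pts.chi_injective
          rw [K951.Pts.chi_map, K951.Pts.chi_one]
          refine MonoidHom.ext fun y => ?_
          exact map_one (K951.Pts.chi g)
        rw [e1, e2, _root_.one_mul, b.lift_mul_act])
      (by
        intro W u v huv
        have e1 : u ≫ snd _ _ = v ≫ snd _ _ := by
          have := congrArg (fun w => w ≫ snd _ _) huv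
          simpa using this
        have e2 : (u ≫ fst _ _) ≫ p = (v ≫ fst _ _) ≫ p := by
          have := congrArg (fun w => w ≫ fst _ _) huv
          simpa using this
        rw [← lift_comp_fst_snd u, ← lift_comp_fst_snd v, hΦ, hΦ, ← e1]
        generalize u ≫ fst _ _ = w at e2 ⊢
        generalize v ≫ fst _ _ = w' at e2 ⊢
        generalize u ≫ snd _ _ = t
        have e3 : ∀ n : N, K951.Pts.chi (w ≫ pM) (Multiplicative.ofAdd (n : M)) *
            K951.Pts.chi (w ≫ pY) (Multiplicative.ofAdd (r n)) =
            K951.Pts.chi (w' ≫ pM) (Multiplicative.ofAdd (n : M)) *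
              K951.Pts.chi (w' ≫ pY) (Multiplicative.ofAdd (r n)) := by
          intro n
          have e4 : ∀ w : W ⟶ Magnet.AMonS S (M × Y), K951.Pts.chi (w ≫ p) (Multiplicative.ofAdd n) =
              K951.Pts.chi (w ≫ pM) (Multiplicative.ofAdd (n : M)) *
                K951.Pts.chi (w ≫ pY) (Multiplicative.ofAdd (r n)) := by
            intro w
            rw [hpt, K951.Pts.chi_mul, MonoidHom.mul_apply]
            have a1 := K951.Pts.chi_map_apply (w ≫ pM) N.subtype n
            have a2 := K951.Pts.chi_map_apply (w ≫ pY) r n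
            exact congrArg₂ (· * ·) a1 a2
          rw [← e4, ← e4, e2]
        obtain ⟨k, hk⟩ := K950.Descend.exists_eq_mul (f := f.rangeRestrict) f.rangeRestrict_surjective
          (w ≫ pM) (w' ≫ pM) (by
            intro m hm
            have hm' : f m = 0 := congrArg Subtype.val hm
            have hmN : m ∈ N := by change f m ∈ Y; rw [hm']; exact Y.zero_mem
            have e5 := e3 ⟨m, hmN⟩
            have e6 : r ⟨m, hmN⟩ = 0 := Subtype.ext hm'
            rw [e6, ofAdd_zero, map_one, map_one, _root_.mul_one, _root_.mul_one] at e5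
            exact e5)
        have e7 : w ≫ pY = k ≫ Magnet.AMonS.map S j * (w' ≫ pY) := by
          apply K951.Pts.chi_injective
          rw [K951.Pts.chi_mul]
          refine MonoidHom.ext fun y => ?_
          obtain ⟨m, hm⟩ := hY (Multiplicative.toAdd y : Y).2
          have hmN : m ∈ N := by change f m ∈ Y; rw [hm]; exact (Multiplicative.toAdd y : Y).2
          have e8 : r ⟨m, hmN⟩ = (Multiplicative.toAdd y : Y) := Subtype.ext hm
          have e9 := e3 ⟨m, hmN⟩
          have e12 := K951.Pts.chi_map_apply k f.rangeRestrict m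
          rw [e8, hk, K951.Pts.chi_mul, MonoidHom.mul_apply] at e9
          have e10 : f.rangeRestrict m = j (Multiplicative.toAdd y) := Subtype.ext hm
          have e11 := K951.Pts.chi_map_apply k j (Multiplicative.toAdd y)
          change K951.Pts.chi (w ≫ pY) y = K951.Pts.chi (k ≫ Magnet.AMonS.map S j) y * K951.Pts.chi (w' ≫ pY) y
          rw [ofAdd_toAdd] at e9 e11
          rw [e11, ← e10]
          have hu := K950.Descend.chi_add_neg (w ≫ pM) m
          have hunit : IsUnit (K951.Pts.chi (w ≫ pM) (Multiplicative.ofAdd m)) := IsUnit.of_mul_eq_one _ hu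
          apply hunit.mul_left_cancel
          rw [← _root_.mul_assoc, ← e12]
          exact e9
        rw [e7, hψR, hk, b.lift_mul_act])
    refine ⟨⟨Ψ, hΨ⟩, ?_⟩
    apply Subtype.ext
    change (i ▷ T) ≫ Ψ = ψ.1
    have e1 : i ▷ T = (Magnet.AMonS.map S (AddMonoidHom.snd M Y) ▷ T) ≫ (p ▷ T) := by
      rw [← comp_whiskerRight, ← Magnet.AMonS.map_comp]
      rfl
    rw [e1, Category.assoc, hΨ']
    apply Magnet.hom_ext_lift₂
    intro W y t
    rw [lift_whiskerRight_assoc, hΦ, Category.assoc, Category.assoc, ← Magnet.AMonS.map_comp,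
      ← Magnet.AMonS.map_comp]
    have e2 : y ≫ Magnet.AMonS.map S ((AddMonoidHom.snd M Y).comp (AddMonoidHom.inr M Y)) = y := by
      apply K951.Pts.chi_injective
      rw [K951.Pts.chi_map]
      rfl
    have e3 : y ≫ Magnet.AMonS.map S ((AddMonoidHom.snd M Y).comp (AddMonoidHom.inl M Y)) = 1 := by
      apply K951.Pts.chi_injective
      rw [K951.Pts.chi_map, K951.Pts.chi_one]
      refine MonoidHom.ext fun m => ?_
      exact map_one (K951.Pts.chi y)
    rw [e2, e3, b.lift_one_act]

end Groth.Agent.S18298
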