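import Groth.Statements.S18300
-- import your own Groth.Agent.* helpers here

set_option autoImplicit false
universe u
open CategoryTheory MonoidalCategory CartesianMonoidalCategory MonObj AlgebraicGeometry Opposite
open Magnet

namespace Groth.Agent.S18300

/-- The twice base-changed action is identified with the base change along the composite by `ActBC.bcCompIso`. -/
theorem bc_bc_act {S S' S'' : Scheme.{u}} (f : S'' ⟶ S') (g : S' ⟶ S) {A X : Over S} [MonObj A]
    (a : Magnet.MonAct A X) :
    ((a.bc g).bc f).act ≫ (ActBC.bcCompIso f g X rfl).hom =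
      ((ActBC.bcCompIso f g A rfl).hom ⊗ₘ (ActBC.bcCompIso f g X rfl).hom) ≫ (a.bc (f ≫ g)).act := by
  ext
  apply Limits.pullback.hom_ext
  · simp only [Magnet.MonAct.bc_act, Over.comp_left, Category.assoc,
      ActBC.bcCompIso_hom_left_fst, ActBC.pullback_map_left_fst, ActBC.pullback_map_left_fst_assoc]
    simp only [← Category.assoc]
    congr 1
    simp only [Category.assoc]
    apply Limits.pullback.hom_ext
    · simp only [Category.assoc]
      rw [ActBC.μ_left_fst_fst, ActBC.μ_left_fst_fst_assoc, ActBC.μ_left_fst_fst,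
        ActBC.tensorHom_left_fst'_assoc, ActBC.bcCompIso_hom_left_fst]
    · simp only [Category.assoc]
      rw [ActBC.μ_left_fst_snd, ActBC.μ_left_fst_snd_assoc, ActBC.μ_left_fst_snd,
        ActBC.tensorHom_left_snd'_assoc, ActBC.bcCompIso_hom_left_fst]
  · exact (Over.w _).trans (Over.w _).symm

/-- Conjugation by the canonical isomorphisms of iterated base change preserves and reflects equivariance. -/
theorem isEquivariant_conj_iff {S S' S'' : Scheme.{u}} (f : S'' ⟶ S') (g : S' ⟶ S) {A B X : Over S} [MonObj A]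
    (ρ : Magnet.MonAct A B) (a : Magnet.MonAct A X) (ψ : Red.bc (f ≫ g) B ⟶ Red.bc (f ≫ g) X) :
    Magnet.MonAct.IsEquivariant ((ρ.bc g).bc f) ((a.bc g).bc f)
      ((ActBC.bcCompIso f g B rfl).hom ≫ ψ ≫ (ActBC.bcCompIso f g X rfl).inv) ↔
    Magnet.MonAct.IsEquivariant (ρ.bc (f ≫ g)) (a.bc (f ≫ g)) ψ := by
  unfold Magnet.MonAct.IsEquivariant
  have h1 := bc_bc_act f g ρ
  have h2 := bc_bc_act f g a
  rw [← cancel_mono (ActBC.bcCompIso f g X rfl).hom]
  simp only [Category.assoc, Iso.inv_hom_id, Category.comp_id]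
  rw [h2, reassoc_of% h1, ← id_tensorHom, tensorHom_comp_tensorHom_assoc, Category.id_comp]
  simp only [Category.assoc, Iso.inv_hom_id, Category.comp_id]
  rw [← Category.comp_id (ActBC.bcCompIso f g A rfl).hom, ← tensorHom_comp_tensorHom_assoc, id_tensorHom]
  simp only [Category.comp_id]
  exact cancel_epi _

/-- Let X be an S-scheme with an action of the diagonalizable monoid scheme A(M)_S of a commutative
monoid M, N a submonoid of M, and T an S-scheme; X_T = X ×_S T carries the base-changed action of
A(M)_T. Then X^N ×_S T = (X_T)^N objectwise: for every scheme T'' over T, the value of the attractor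
X^N at T'' (regarded over S) is in bijection with the value at T'' of the attractor of X_T, namely
the maps A(N)_T ×_T T'' → X_T equivariant for the base-changed actions; the bijection is pinned by
requiring that, under the identifications of both sides with equivariant morphisms between base
changes to T'', it is conjugation by the canonical isomorphisms (Y ×_S T) ×_T T'' ≅ Y ×_S T'' for Y
= A(N)_S and Y = X. (Naturality in T'' is not part of this statement; X may be an algebraic space in
the source, here it is a scheme.) -/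
theorem result (S : Scheme.{u}) (M : Type) [AddCommMonoid M] (N : AddSubmonoid M)
    (X : Over S) (a : Magnet.MonAct (Magnet.AMonS S M) X) (T : Over S) (T'' : Over T.left) :
    ∃ Φ : (Magnet.attr a N).obj (op ((Over.map T.hom).obj T'')) ≃
        (Magnet.MonAct.eqvHom ((Magnet.subAct S M N).bc T.hom) (a.bc T.hom)).obj (op T''),
      ∀ φ, (Magnet.eqvHomEquivBc T'' ((Magnet.subAct S M N).bc T.hom) (a.bc T.hom) (Φ φ)).1 ≫
          (ActBC.bcCompIso T''.hom T.hom X rfl).hom =
        (ActBC.bcCompIso T''.hom T.hom (Magnet.AMonS S N) rfl).hom ≫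
          (Magnet.eqvHomEquivBc ((Over.map T.hom).obj T'') (Magnet.subAct S M N) a φ).1 := by
  let f := T''.hom
  let g := T.hom
  let e₁ := Magnet.eqvHomEquivBc ((Over.map T.hom).obj T'') (Magnet.subAct S M N) a
  let e₂ := Magnet.eqvHomEquivBc T'' ((Magnet.subAct S M N).bc T.hom) (a.bc T.hom)
  let c : {ψ : Red.bc ((Over.map T.hom).obj T'').hom (Magnet.AMonS S N) ⟶
        Red.bc ((Over.map T.hom).obj T'').hom X //
        Magnet.MonAct.IsEquivariant ((Magnet.subAct S M N).bc ((Over.map T.hom).obj T'').hom)
          (a.bc ((Over.map T.hom).obj T'').hom) ψ} ≃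
      {ψ : Red.bc T''.hom (Red.bc T.hom (Magnet.AMonS S N)) ⟶ Red.bc T''.hom (Red.bc T.hom X) //
        Magnet.MonAct.IsEquivariant (((Magnet.subAct S M N).bc T.hom).bc T''.hom)
          ((a.bc T.hom).bc T''.hom) ψ} :=
    { toFun := fun ψ => ⟨(ActBC.bcCompIso T''.hom T.hom (Magnet.AMonS S N) rfl).hom ≫ ψ.1 ≫
          (ActBC.bcCompIso T''.hom T.hom X rfl).inv, (isEquivariant_conj_iff _ _ _ _ _).2 ψ.2⟩
      invFun := fun ψ => ⟨(ActBC.bcCompIso T''.hom T.hom (Magnet.AMonS S N) rfl).inv ≫ ψ.1 ≫
          (ActBC.bcCompIso T''.hom T.hom X rfl).hom, (isEquivariant_conj_iff T''.hom T.hom _ _ _).1 (by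
            simp only [Category.assoc, Iso.hom_inv_id, Category.comp_id, Iso.hom_inv_id_assoc]
            exact ψ.2)⟩
      left_inv := fun ψ => Subtype.ext (by simp)
      right_inv := fun ψ => Subtype.ext (by simp) }
  refine ⟨(e₁.trans c).trans e₂.symm, fun φ => ?_⟩
  rw [Equiv.trans_apply]
  change (e₂ (e₂.symm (c (e₁ φ)))).1 ≫ _ = _
  rw [Equiv.apply_symm_apply]
  change (_ ≫ (e₁ φ).1 ≫ _) ≫ _ = _
  simp only [Category.assoc, Iso.inv_hom_id, Category.comp_id]
  rfl

end Groth.Agent.S18300
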