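import Groth.Statements.S18302
import Groth.Agent.Magnet.K950.EtExt
import Groth.Agent.Magnet.K950.ZarPull
import Groth.Agent.Magnet.K949.Height
import Groth.Agent.Magnet.K949.Eval
import Groth.Agent.S18290
-- import your own Groth.Agent.* helpers here

set_option autoImplicit false
universe u
open CategoryTheory MonoidalCategory CartesianMonoidalCategory MonObj AlgebraicGeometry Opposite
open Magnet

namespace Groth.Agent.S18302

section Aux

open K951.Pts

variable {S : Scheme.{u}} {M : Type}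

/-- A family over an affine `T` is defined on a finitely generated submonoid. -/
theorem exists_fg [AddCommMonoid M] {X : Over S} [IsSeparated X.hom] [LocallyOfFinitePresentation X.hom]
    (a : Magnet.MonAct (Magnet.AMonS S M) X) (N : AddSubmonoid M) (T : Over S) [IsAffine T.left]
    (φ : (Magnet.attr a N).obj (op T)) :
    ∃ (P : AddSubmonoid M) (h : P ≤ N) (ψ : (Magnet.attr a P).obj (op T)), P.FG ∧
      (Magnet.attrMap a h).app (op T) ψ = φ := by
  let J : Type := {P : AddSubmonoid M // P.FG ∧ P ≤ N}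
  have hne : Nonempty J := ⟨⟨⊥, AddSubmonoid.FG.bot, bot_le⟩⟩
  have hdir : IsDirected J (· ≤ ·) := ⟨fun P Q => ⟨⟨P.1 ⊔ Q.1, P.2.1.sup Q.2.1, sup_le P.2.2 Q.2.2⟩,
    (le_sup_left : P.1 ≤ P.1 ⊔ Q.1), (le_sup_right : Q.1 ≤ P.1 ⊔ Q.1)⟩⟩
  have hsup : N = ⨆ P : J, P.1 := by
    apply le_antisymm
    · intro n hn
      have h1 : AddSubmonoid.closure {n} ≤ N := by
        rw [AddSubmonoid.closure_le]
        rintro _ rfl
        exact hn
      have h2 : (AddSubmonoid.closure {n}).FG := ⟨{n}, by simp⟩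
      exact le_iSup (fun P : J => P.1) ⟨_, h2, h1⟩ (AddSubmonoid.subset_closure rfl)
    · exact iSup_le fun P => P.2.2
  have key : ∀ (N' : AddSubmonoid M) (hN' : N' = ⨆ P : J, P.1) (φ : (Magnet.attr a N').obj (op T)),
      ∃ (P : J) (h : P.1 ≤ N') (ψ : (Magnet.attr a P.1).obj (op T)), (Magnet.attrMap a h).app (op T) ψ = φ := by
    intro N' hN' φ
    subst hN'
    obtain ⟨P, ψ, hψ⟩ := Groth.Agent.S18290.result S M X a (fun P : J => P.1) (fun P Q h => h) T φ
    exact ⟨P, _, ψ, hψ⟩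
  obtain ⟨P, h, ψ, hψ⟩ := key N hsup φ
  exact ⟨P.1, h, ψ, P.2.1, hψ⟩

/-- Faces of submonoids. -/
theorem isFace_inf [AddCommMonoid M] {N Q P : AddSubmonoid M} (hQ : Magnet.IsFace N Q) (hP : P ≤ N) :
    Magnet.IsFace P (P ⊓ Q) where
  le := inf_le_left
  mem_of_add_mem x hx y hy hxy := by
    obtain ⟨h1, h2⟩ := hQ.mem_of_add_mem x (hP hx) y (hP hy) hxy.2
    exact ⟨⟨hx, h1⟩, ⟨hy, h2⟩⟩

theorem map_faceMap [AddCommMonoid M] {N Q P : AddSubmonoid M} (hQ : Magnet.IsFace N Q) (hP : P ≤ N) :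
    Magnet.AMonS.map S (AddSubmonoid.inclusion (inf_le_right : P ⊓ Q ≤ Q)) ≫
        Magnet.AMonS.faceMap S (isFace_inf hQ hP) =
      Magnet.AMonS.faceMap S hQ ≫ Magnet.AMonS.map S (AddSubmonoid.inclusion hP) := by
  classical
  have key : ∀ w : Magnet.AMonS S Q ⟶ Magnet.AMonS S Q,
      (w ≫ Magnet.AMonS.map S (AddSubmonoid.inclusion (inf_le_right : P ⊓ Q ≤ Q))) ≫
        Magnet.AMonS.faceMap S (isFace_inf hQ hP) =
      (w ≫ Magnet.AMonS.faceMap S hQ) ≫ Magnet.AMonS.map S (AddSubmonoid.inclusion hP) := by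
    intro w
    apply chi_injective
    refine MonoidHom.ext fun n => ?_
    have h1 := chi_faceMap (isFace_inf hQ hP)
      (w ≫ Magnet.AMonS.map S (AddSubmonoid.inclusion (inf_le_right : P ⊓ Q ≤ Q))) (Multiplicative.toAdd n)
    have h2 := chi_map_apply (w ≫ Magnet.AMonS.faceMap S hQ) (AddSubmonoid.inclusion hP) (Multiplicative.toAdd n)
    have h3 := chi_faceMap hQ w (AddSubmonoid.inclusion hP (Multiplicative.toAdd n))
    refine h1.trans (Eq.symm (h2.trans (h3.trans ?_)))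
    by_cases hn : ((Multiplicative.toAdd n : P) : M) ∈ Q
    · have hn' : ((Multiplicative.toAdd n : P) : M) ∈ P ⊓ Q := ⟨(Multiplicative.toAdd n : P).2, hn⟩
      rw [dif_pos hn', dif_pos (show ((AddSubmonoid.inclusion hP (Multiplicative.toAdd n) : N) : M) ∈ Q from hn),
        chi_map_apply]
      rfl
    · have hn' : ((Multiplicative.toAdd n : P) : M) ∉ P ⊓ Q := fun h => hn h.2
      rw [dif_neg hn', dif_neg (show ((AddSubmonoid.inclusion hP (Multiplicative.toAdd n) : N) : M) ∉ Q from hn)]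
  simpa using key (𝟙 _)

theorem map_faceMap_whisker [AddCommMonoid M] {N Q P : AddSubmonoid M} (hQ : Magnet.IsFace N Q) (hP : P ≤ N)
    (T : Over S) :
    (Magnet.AMonS.map S (AddSubmonoid.inclusion (inf_le_right : P ⊓ Q ≤ Q)) ▷ T) ≫
        (Magnet.AMonS.faceMap S (isFace_inf hQ hP) ▷ T) =
      (Magnet.AMonS.faceMap S hQ ▷ T) ≫ (Magnet.AMonS.map S (AddSubmonoid.inclusion hP) ▷ T) := by
  rw [← comp_whiskerRight, ← comp_whiskerRight, map_faceMap hQ hP]

variable [AddCommGroup M] [AddGroup.FG M] {X U : Over S} {aX : Magnet.MonAct (Magnet.AMonS S M) X}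
  {aU : Magnet.MonAct (Magnet.AMonS S M) U} [IsAffineHom U.hom] {f : U ⟶ X} [Etale f.left]
  (hf : Magnet.MonAct.IsEquivariant aU aX f) {N Q : AddSubmonoid M} (hQ : Magnet.IsFace N Q)

include hf

/-- Injectivity, finitely generated case. -/
theorem inj_fg (hN : N.FG) (T : Over S) [IsAffine T.left] (φ φ' : (Magnet.attr aU N).obj (op T))
    (h1 : φ.1 ≫ f = φ'.1 ≫ f)
    (h2 : (Magnet.AMonS.faceMap S hQ ▷ T) ≫ φ.1 = (Magnet.AMonS.faceMap S hQ ▷ T) ≫ φ'.1) : φ = φ' := by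
  obtain ⟨lam, hlam⟩ := K949.Height.exists_height hN hQ
  exact Subtype.ext (K950.EtExt.eq_of_comp_eq lam T hQ hlam φ.1 φ'.1 φ.2 φ'.2 h1 h2)

/-- Surjectivity, finitely generated case. -/
theorem surj_fg (hN : N.FG) (T : Over S) [IsAffine T.left] (ψ : (Magnet.attr aX N).obj (op T))
    (v : (Magnet.attr aU Q).obj (op T)) (h : v.1 ≫ f = (Magnet.AMonS.faceMap S hQ ▷ T) ≫ ψ.1) :
    ∃ φ : (Magnet.attr aU N).obj (op T), φ.1 ≫ f = ψ.1 ∧ (Magnet.AMonS.faceMap S hQ ▷ T) ≫ φ.1 = v.1 := by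
  obtain ⟨lam, hlam⟩ := K949.Height.exists_height hN hQ
  obtain ⟨φ, h1, h2, h3⟩ := K950.EtExt.exists_ext lam T hQ hlam aX aU f hf ψ.1 ψ.2 v.1 v.2 h
  exact ⟨⟨φ, h1⟩, h2, h3⟩

variable [IsSeparated X.hom] [LocallyOfFinitePresentation X.hom]

/-- Injectivity, finitely presented case. -/
theorem inj_lfp (T : Over S) [IsAffine T.left] (φ φ' : (Magnet.attr aU N).obj (op T))
    (h1 : φ.1 ≫ f = φ'.1 ≫ f)
    (h2 : (Magnet.AMonS.faceMap S hQ ▷ T) ≫ φ.1 = (Magnet.AMonS.faceMap S hQ ▷ T) ≫ φ'.1) : φ = φ' := by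
  have hU : LocallyOfFinitePresentation U.hom := by
    rw [← Over.w f]
    infer_instance
  obtain ⟨P₁, hP₁, ψ₁, hfg₁, rfl⟩ := exists_fg aU N T φ
  obtain ⟨P₂, hP₂, ψ₂, hfg₂, rfl⟩ := exists_fg aU N T φ'
  let P := P₁ ⊔ P₂
  have hP : P ≤ N := sup_le hP₁ hP₂
  let χ₁ : (Magnet.attr aU P).obj (op T) := (Magnet.attrMap aU (le_sup_left : P₁ ≤ P)).app (op T) ψ₁
  let χ₂ : (Magnet.attr aU P).obj (op T) := (Magnet.attrMap aU (le_sup_right : P₂ ≤ P)).app (op T) ψ₂
  have e₁ : ((Magnet.attrMap aU hP₁).app (op T) ψ₁).1 = (Magnet.AMonS.map S (AddSubmonoid.inclusion hP) ▷ T) ≫ χ₁.1 := by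
    change (Magnet.AMonS.map S (AddSubmonoid.inclusion hP₁) ▷ T) ≫ ψ₁.1 =
      (Magnet.AMonS.map S (AddSubmonoid.inclusion hP) ▷ T) ≫
        (Magnet.AMonS.map S (AddSubmonoid.inclusion (le_sup_left : P₁ ≤ P)) ▷ T) ≫ ψ₁.1
    rw [← comp_whiskerRight_assoc, ← Magnet.AMonS.map_comp]
    rfl
  have e₂ : ((Magnet.attrMap aU hP₂).app (op T) ψ₂).1 = (Magnet.AMonS.map S (AddSubmonoid.inclusion hP) ▷ T) ≫ χ₂.1 := by
    change (Magnet.AMonS.map S (AddSubmonoid.inclusion hP₂) ▷ T) ≫ ψ₂.1 =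
      (Magnet.AMonS.map S (AddSubmonoid.inclusion hP) ▷ T) ≫
        (Magnet.AMonS.map S (AddSubmonoid.inclusion (le_sup_right : P₂ ≤ P)) ▷ T) ≫ ψ₂.1
    rw [← comp_whiskerRight_assoc, ← Magnet.AMonS.map_comp]
    rfl
  rw [e₁, e₂] at h1 h2
  have h3 : χ₁.1 ≫ f = χ₂.1 ≫ f := by
    apply K949.Eval.eq_of_map (AddSubmonoid.inclusion hP) (AddSubmonoid.inclusion_injective _) T
    rw [← Category.assoc, ← Category.assoc]
    exact h1
  have h4 : (Magnet.AMonS.faceMap S (isFace_inf hQ hP) ▷ T) ≫ χ₁.1 =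
      (Magnet.AMonS.faceMap S (isFace_inf hQ hP) ▷ T) ≫ χ₂.1 := by
    apply K949.Eval.eq_of_map (AddSubmonoid.inclusion (inf_le_right : P ⊓ Q ≤ Q)) (AddSubmonoid.inclusion_injective _) T
    rw [← Category.assoc, ← Category.assoc, map_faceMap_whisker hQ hP, Category.assoc, Category.assoc]
    exact h2
  have h5 := inj_fg hf (isFace_inf hQ hP) (hfg₁.sup hfg₂) T χ₁ χ₂ h3 h4
  apply Subtype.ext
  rw [e₁, e₂, h5]

/-- Surjectivity, finitely presented case. -/
theorem surj_lfp (T : Over S) [IsAffine T.left] (ψ : (Magnet.attr aX N).obj (op T))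
    (v : (Magnet.attr aU Q).obj (op T)) (h : v.1 ≫ f = (Magnet.AMonS.faceMap S hQ ▷ T) ≫ ψ.1) :
    ∃ φ : (Magnet.attr aU N).obj (op T), φ.1 ≫ f = ψ.1 ∧ (Magnet.AMonS.faceMap S hQ ▷ T) ≫ φ.1 = v.1 := by
  have hU : LocallyOfFinitePresentation U.hom := by
    rw [← Over.w f]
    infer_instance
  obtain ⟨P₁, hP₁, ψ₁, hfg₁, rfl⟩ := exists_fg aX N T ψ
  obtain ⟨P₂, hP₂, v₂, hfg₂, rfl⟩ := exists_fg aU Q T v
  let P := P₁ ⊔ P₂
  have hP : P ≤ N := sup_le hP₁ (hP₂.trans hQ.le)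
  have hP₂' : P₂ ≤ P ⊓ Q := le_inf le_sup_right hP₂
  let χ : (Magnet.attr aX P).obj (op T) := (Magnet.attrMap aX (le_sup_left : P₁ ≤ P)).app (op T) ψ₁
  let w : (Magnet.attr aU (P ⊓ Q : AddSubmonoid M)).obj (op T) := (Magnet.attrMap aU hP₂').app (op T) v₂
  have e₁ : ((Magnet.attrMap aX hP₁).app (op T) ψ₁).1 = (Magnet.AMonS.map S (AddSubmonoid.inclusion hP) ▷ T) ≫ χ.1 := by
    change (Magnet.AMonS.map S (AddSubmonoid.inclusion hP₁) ▷ T) ≫ ψ₁.1 =
      (Magnet.AMonS.map S (AddSubmonoid.inclusion hP) ▷ T) ≫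
        (Magnet.AMonS.map S (AddSubmonoid.inclusion (le_sup_left : P₁ ≤ P)) ▷ T) ≫ ψ₁.1
    rw [← comp_whiskerRight_assoc, ← Magnet.AMonS.map_comp]
    rfl
  have e₂ : ((Magnet.attrMap aU hP₂).app (op T) v₂).1 =
      (Magnet.AMonS.map S (AddSubmonoid.inclusion (inf_le_right : P ⊓ Q ≤ Q)) ▷ T) ≫ w.1 := by
    change (Magnet.AMonS.map S (AddSubmonoid.inclusion hP₂) ▷ T) ≫ v₂.1 =
      (Magnet.AMonS.map S (AddSubmonoid.inclusion (inf_le_right : P ⊓ Q ≤ Q)) ▷ T) ≫
        (Magnet.AMonS.map S (AddSubmonoid.inclusion hP₂') ▷ T) ≫ v₂.1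
    rw [← comp_whiskerRight_assoc, ← Magnet.AMonS.map_comp]
    rfl
  rw [e₁, e₂] at h
  have h3 : w.1 ≫ f = (Magnet.AMonS.faceMap S (isFace_inf hQ hP) ▷ T) ≫ χ.1 := by
    apply K949.Eval.eq_of_map (AddSubmonoid.inclusion (inf_le_right : P ⊓ Q ≤ Q)) (AddSubmonoid.inclusion_injective _) T
    rw [← Category.assoc, ← Category.assoc, map_faceMap_whisker hQ hP, Category.assoc]
    exact h
  obtain ⟨φ, h4, h5⟩ := surj_fg hf (isFace_inf hQ hP) (hfg₁.sup hfg₂) T χ w h3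
  refine ⟨(Magnet.attrMap aU hP).app (op T) φ, ?_, ?_⟩
  · change ((Magnet.AMonS.map S (AddSubmonoid.inclusion hP) ▷ T) ≫ φ.1) ≫ f = _
    rw [Category.assoc, h4, e₁]
  · change (Magnet.AMonS.faceMap S hQ ▷ T) ≫ (Magnet.AMonS.map S (AddSubmonoid.inclusion hP) ▷ T) ≫ φ.1 = _
    rw [← Category.assoc, ← map_faceMap_whisker hQ hP, Category.assoc, h5, e₂]

end Aux

/-- Let M be a finitely generated commutative group, X an S-scheme with an action of the diagonalizable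
group scheme D(M)_S, U an S-scheme affine over S with a D(M)_S-action and f : U → X an étale
equivariant morphism; let N be a submonoid (magnet) of M and Q a face of N. Assume that N is
finitely generated as a monoid, or that X is locally of finite presentation and separated over S.
Then the natural map U^N → X^N ×_{X^Q} U^Q is an isomorphism: the square of functors formed by f^N :
U^N → X^N, the face projections U^N → U^Q and X^N → X^Q, and f^Q : U^Q → X^Q is cartesian. (The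
published alternative to finite generation is only 'X separated'; its argument passes through the
directed-union description of X^N on T-points, which is established for X locally of finite
presentation and separated, and T affine, so finite presentation is assumed here in that case; X may
be an algebraic space in the source, here it is a scheme.) -/
theorem result (S : Scheme.{u}) (M : Type) [AddCommGroup M]
    [AddGroup.FG M] (X U : Over S) (aX : AlgGrp.Action (Red.DS S M) X) (aU : AlgGrp.Action (Red.DS S M) U)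
    [IsAffineHom U.hom] (f : U ⟶ X) [Etale f.left]
    (hf : Magnet.MonAct.IsEquivariant (Magnet.MonAct.ofAction aU) (Magnet.MonAct.ofAction aX) f)
    (N Q : AddSubmonoid M) (hQ : Magnet.IsFace N Q)
    (h : N.FG ∨ (IsSeparated X.hom ∧ LocallyOfFinitePresentation X.hom)) :
    IsPullback (Magnet.MonAct.eqvHom.postcomp (Magnet.subAct S M N) f hf)
      (Magnet.attrFace (Magnet.MonAct.ofAction aU) hQ) (Magnet.attrFace (Magnet.MonAct.ofAction aX) hQ)
      (Magnet.MonAct.eqvHom.postcomp (Magnet.subAct S M Q) f hf) := by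
  refine K950.ZarPull.isPullback_of_affine ?_ (K951.Shf.isSheaf_eqvHom _ _ _) (K951.Shf.isSheaf_eqvHom _ _ _)
    (K951.Shf.isSheaf_eqvHom _ _ _) ?_ ?_
  · ext T φ
    apply Subtype.ext
    change (Magnet.AMonS.faceMap S hQ ▷ unop T) ≫ φ.1 ≫ f = ((Magnet.AMonS.faceMap S hQ ▷ unop T) ≫ φ.1) ≫ f
    rw [Category.assoc]
  · intro T hT φ φ' h1 h2
    rcases h with h | ⟨h, h'⟩
    · exact inj_fg hf hQ h T φ φ' (congrArg Subtype.val h1) (congrArg Subtype.val h2)
    · exact inj_lfp hf hQ T φ φ' (congrArg Subtype.val h1) (congrArg Subtype.val h2)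
  · intro T hT ψ v hv
    have hv' : v.1 ≫ f = (Magnet.AMonS.faceMap S hQ ▷ T) ≫ ψ.1 := (congrArg Subtype.val hv).symm
    rcases h with h | ⟨h, h'⟩
    · obtain ⟨φ, h1, h2⟩ := surj_fg hf hQ h T ψ v hv'
      exact ⟨φ, Subtype.ext h1, Subtype.ext h2⟩
    · obtain ⟨φ, h1, h2⟩ := surj_lfp hf hQ T ψ v hv'
      exact ⟨φ, Subtype.ext h1, Subtype.ext h2⟩

end Groth.Agent.S18302
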