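import Groth.Statements.S18303
import Groth.Agent.Magnet.K950.Joint
import Groth.Agent.Magnet.K950.ZarPull
import Groth.Agent.Magnet.K951.FacePush
import Groth.Agent.Magnet.K951.Shf
-- import your own Groth.Agent.* helpers here

set_option autoImplicit false
universe u
open CategoryTheory MonoidalCategory CartesianMonoidalCategory MonObj AlgebraicGeometry Opposite
open Magnet

namespace Groth.Agent.S18303

/-- Let M be a commutative group, X an S-scheme with an action of the diagonalizable group scheme
D(M)_S, and N, N', L, L' submonoids (magnets) of M with N ≤ L ≤ L', N' ≤ L', L a face of L', N a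
face of N', N = L ∩ N', L' = L + N' and N' = L' minus (L minus N). Then the square formed by the
inclusion maps of attractors X^{N'} → X^{L'}, X^N → X^L and the face projections X^{N'} → X^N,
X^{L'} → X^L is cartesian as a square of functors on S-schemes. (The published statement assumes the
four attractors representable by schemes and concludes that the square of schemes is cartesian; its
argument is on T-valued points and gives the square of functors, which is what is stated.) -/
theorem result (S : Scheme.{u}) (M : Type) [AddCommGroup M] (X : Over S)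
    (a : AlgGrp.Action (Red.DS S M) X) (N N' L L' : AddSubmonoid M) (hNL : N ≤ L) (hN'L' : N' ≤ L')
    (hL : Magnet.IsFace L' L) (hN : Magnet.IsFace N' N) (hmeet : N = L ⊓ N') (hjoin : L' = L ⊔ N')
    (hdiff : (N' : Set M) = (L' : Set M) \ ((L : Set M) \ (N : Set M))) :
    IsPullback (Magnet.attrMap (Magnet.MonAct.ofAction a) hN'L') (Magnet.attrFace (Magnet.MonAct.ofAction a) hN)
      (Magnet.attrFace (Magnet.MonAct.ofAction a) hL) (Magnet.attrMap (Magnet.MonAct.ofAction a) hNL) := by
  have hw : ∀ T : Over S, (Magnet.AMonS.faceMap S hL ▷ T) ≫ (Magnet.AMonS.map S (AddSubmonoid.inclusion hN'L') ▷ T) =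
      (Magnet.AMonS.map S (AddSubmonoid.inclusion hNL) ▷ T) ≫ (Magnet.AMonS.faceMap S hN ▷ T) := by
    intro T
    rw [← comp_whiskerRight, ← comp_whiskerRight, (K951.FacePush.isPushout_face S hNL hN'L' hL hN hdiff).w]
  have hi : Magnet.MonAct.IsEquivariant (Magnet.subAct S M L') (Magnet.subAct S M N')
      (Magnet.AMonS.map S (AddSubmonoid.inclusion hN'L')) :=
    Magnet.MonAct.isEquivariant_restrict_regular _ _ _ (by rw [← Magnet.AMonS.map_comp]; rfl)
  refine K950.ZarPull.isPullback_of_affine ?_ (K951.Shf.isSheaf_eqvHom _ _ _) (K951.Shf.isSheaf_eqvHom _ _ _)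
    (K951.Shf.isSheaf_eqvHom _ _ _) ?_ ?_
  · ext T φ
    apply Subtype.ext
    change (Magnet.AMonS.faceMap S hL ▷ unop T) ≫ (Magnet.AMonS.map S (AddSubmonoid.inclusion hN'L') ▷ unop T) ≫ φ.1 =
      (Magnet.AMonS.map S (AddSubmonoid.inclusion hNL) ▷ unop T) ≫ (Magnet.AMonS.faceMap S hN ▷ unop T) ≫ φ.1
    rw [reassoc_of% hw (unop T)]
  · intro T hT φ φ' h1 h2
    apply Subtype.ext
    exact (K951.FacePush.isPushout_whisker T hNL hN'L' hL hN hdiff).hom_ext (congrArg Subtype.val h1)
      (congrArg Subtype.val h2)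
  · intro T hT φ χ h
    have hp := K951.FacePush.isPushout_whisker T hNL hN'L' hL hN hdiff
    have hA : IsAffine (Magnet.AMonS S M ⊗ T).left := K951.Prd.isAffine_prod M T
    have hp' := K951.FacePush.isPushout_whisker (Magnet.AMonS S M ⊗ T) hNL hN'L' hL hN hdiff
    have h' : (Magnet.AMonS.faceMap S hL ▷ T) ≫ φ.1 = (Magnet.AMonS.map S (AddSubmonoid.inclusion hNL) ▷ T) ≫ χ.1 :=
      congrArg Subtype.val h
    refine ⟨⟨hp.desc φ.1 χ.1 h', ?_⟩, Subtype.ext (hp.inl_desc _ _ _), Subtype.ext (hp.inr_desc _ _ _)⟩
    refine K950.Joint.isEquivariant_of_isPushout (ρ₁ := Magnet.subAct S M L') (ρ₂ := Magnet.subAct S M N) hp' hi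
      (Magnet.isEquivariant_faceMapS S hN) _ ?_ ?_
    · rw [hp.inl_desc]
      exact φ.2
    · rw [hp.inr_desc]
      exact χ.2

end Groth.Agent.S18303
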