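import Groth.Statements.S18314
import Groth.Agent.Neron.K490.BGLift

set_option autoImplicit false
universe u
open CategoryTheory AlgebraicGeometry
open NonAbH1

namespace Groth.Agent.S18314

/-- Let R be a Henselian local ring, a an ideal of R, and G a group scheme over Spec R whose structure
morphism G → Spec R is affine, flat and locally of finite presentation. Then every fppf torsor under
G ×_R (R/a) over Spec (R/a) (a scheme with a simply transitive action, trivialised on an fppf
covering) is, up to equivariant isomorphism, the base change of an fppf torsor under G over Spec R:
the base-change map on H¹ is surjective. The source allows G to be a flat, locally of finite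
presentation group algebraic space whose special fibre is a scheme, with H¹ the set of classes of
sheaf torsors; for G affine over the base every fppf torsor is a scheme, and that case is stated
here. -/
theorem result (R : Type u) [CommRing R]
    [HenselianLocalRing R] (a : Ideal R) (G : Over (Spec (CommRingCat.of R))) [GrpObj G]
    [IsAffineHom G.hom] [Flat G.hom] [LocallyOfFinitePresentation G.hom] :
    Function.Surjective
      (NonAbH1.H1Sch.bcMap (Spec.map (CommRingCat.ofHom (Ideal.Quotient.mk a))) G Scheme.fppfPrecoverage) := by
  intro c
  obtain ⟨P⟩ := c
  by_cases ha : a = ⊤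
  · have h1 : Subsingleton (R ⧸ a) := Ideal.Quotient.subsingleton_iff.2 ha
    have h2 : IsEmpty (Spec (CommRingCat.of (R ⧸ a))) := inferInstanceAs (IsEmpty (PrimeSpectrum (R ⧸ a)))
    exact ⟨1, (H1Sch.bcMap_one _ _).trans (K490.BGLift.one_eq_cl P)⟩
  · obtain ⟨Y, hY⟩ := K490.BGLift.exists_lift R a ha G P
    exact ⟨Y.cl, hY⟩

end Groth.Agent.S18314
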