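import Groth.Statements.S18317
import Groth.Agent.NonAbH1.K553.FinConn
import Groth.Agent.CurvesA.EtFieldObj

set_option autoImplicit false
universe u
open CategoryTheory AlgebraicGeometry
open NonAbH1

namespace Groth.Agent.S18317

/-- Let K be a field and G a finite connected K-group scheme (G → Spec K finite, G connected as a
topological space). Then every G-torsor X over Spec K for the étale topology (a K-scheme with an
action of G whose shear map G ×_K X → X ×_K X is an isomorphism and which acquires a section over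
the members of some étale covering of Spec K) is trivial: X has a K-point. -/
theorem result (K : Type u) [Field K]
    (G X : Over (Spec (CommRingCat.of K))) [GrpObj G] [IsFinite G.hom] [ConnectedSpace G.left]
    (a : AlgGrp.Action G X) (h : NonAbH1.IsTorsorFor Scheme.etalePrecoverage a) :
    NonAbH1.HasSectionOver X (𝟙 (Spec (CommRingCat.of K))) := by
  obtain ⟨κ, i1, i2, i3, i4, ⟨t, ht⟩, -, hu⟩ := K553.FinConn.exists_purelyInseparable_point
    (a := a) ⟨h.1, K553.FinConn.isLocallyTrivialFor_fppf_of_etale h.2⟩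
  -- a point over a separable extension
  have h0 : ∃ (L : Type u) (_ : Field L) (_ : Algebra K L) (_ : Algebra.IsSeparable K L),
      NonAbH1.HasSectionOver X (Spec.map (CommRingCat.ofHom (algebraMap K L))) := by
    obtain ⟨R, hR, hs⟩ := h.2
    have hR' : R ∈ Scheme.precoverage @Etale (Spec (CommRingCat.of K)) := hR
    have h5 : ∃ (Y : Scheme.{u}) (g : Y ⟶ Spec (CommRingCat.of K)), R g ∧ (⊥ : PrimeSpectrum K) ∈ Set.range g := by
      obtain ⟨Y, g, hg, hs⟩ := hR'.1 (⊥ : PrimeSpectrum K)
      obtain ⟨hg⟩ := hg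
      exact ⟨_, _, hg, hs⟩
    obtain ⟨U, f, hf, u, -⟩ := h5
    obtain ⟨s, hs⟩ := hs _ hf
    have hE : Etale f := hR'.2 hf
    obtain ⟨L, j1, j2, j3, j4, g, hg, -⟩ := Groth.Agent.CurvesA.EtFieldObj.exists_field_hit
      (Scheme.Etale.mk f) u
    let g' : Spec (CommRingCat.of L) ⟶ U := g
    have hg' : g' ≫ f = Spec.map (CommRingCat.ofHom (algebraMap K L)) := hg
    exact ⟨L, j1, j2, j4, g' ≫ s, by rw [Category.assoc, hs, hg']⟩
  obtain ⟨L, j1, j2, j3, hL⟩ := h0
  obtain ⟨ψ⟩ := hu L j1 j2 hL
  have h1 : Algebra.IsSeparable K κ := Algebra.IsSeparable.of_algHom K L ψ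
  have h2 : Function.Bijective (algebraMap K κ) :=
    ⟨(algebraMap K κ).injective, IsPurelyInseparable.surjective_algebraMap_of_isSeparable K κ⟩
  have h3 : IsIso (CommRingCat.ofHom (algebraMap K κ)) := by
    rw [ConcreteCategory.isIso_iff_bijective]
    exact h2
  refine ⟨inv (Spec.map (CommRingCat.ofHom (algebraMap K κ))) ≫ t, ?_⟩
  rw [Category.assoc, ht, IsIso.inv_hom_id]

end Groth.Agent.S18317
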