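import Groth.Statements.S18321
import Groth.Agent.S0353
import Groth.Agent.TateLoc.K114.FrobSmooth
import Groth.Agent.AlgGrp.K413.SmoothEmb

set_option autoImplicit false
universe u
open CategoryTheory AlgebraicGeometry
open AlgGrp

namespace Groth.Agent.S18321

/-- Let K be a field and H a commutative K-group scheme whose structure morphism H → Spec K is locally
of finite type. Then one can realize H as a closed subgroup inside some smooth commutative K-group
scheme: there are a commutative K-group scheme G with G → Spec K smooth and a homomorphism of
K-group schemes i : H → G whose underlying morphism of schemes is a closed immersion; moreover, if H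
→ Spec K is quasi-compact, G can be chosen with G → Spec K quasi-compact. -/
theorem result (K : Type u) [Field K]
    (H : Over (Spec (CommRingCat.of K))) [GrpObj H] [IsCommMonObj H] [LocallyOfFiniteType H.hom] :
    ∃ (G : Over (Spec (CommRingCat.of K))) (_ : GrpObj G) (_ : IsCommMonObj G) (i : H ⟶ G),
      Smooth G.hom ∧ IsMonHom i ∧ IsClosedImmersion i.left ∧ (QuasiCompact H.hom → QuasiCompact G.hom) := by
  obtain ⟨p, hp⟩ := CharP.exists K
  rcases CharP.char_is_prime_or_zero K p with h | h
  · have : Fact p.Prime := ⟨h⟩
    obtain ⟨Q, gQ, q, hq, h1, h2, h3, h4, h5, -⟩ := K114.FrobSmooth.exists_smooth p H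
    exact K413.SmoothEmb.exists_emb H Q q
  · subst h
    have : CharZero K := CharP.charP_to_charZero K
    have hG : Smooth H.hom := Groth.Agent.S0353.result K H
    exact ⟨H, inferInstance, inferInstance, 𝟙 H, hG, inferInstance, inferInstanceAs (IsClosedImmersion (𝟙 H.left)),
      id⟩

end Groth.Agent.S18321
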