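import Groth.Statements.S18322
import Groth.Agent.CGrpSh.K731.HNil

set_option autoImplicit false
universe u
open CategoryTheory AlgebraicGeometry
open CGrpSh

namespace Groth.Agent.S18322

/-- Let R be a commutative ring, a an ideal of R which is nilpotent and different from R, and G a
commutative group scheme over Spec R whose structure morphism is smooth. Then for every n ≥ 1 the
restriction map H^n((Spec R)_fppf, G) → H^n((Spec R/a)_fppf, G) is bijective; here the cohomology is
that of the abelian fppf sheaf of points T ↦ G(T) on the big fppf site, restricted along the closed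
immersion Spec (R/a) → Spec R (the restricted sheaf is the sheaf of points of G ×_R R/a). The source
allows G to be a commutative smooth group algebraic space; the group-scheme case is stated here. -/
theorem result (R : Type u) [CommRing R] (a : Ideal R)
    (ha : a ≠ ⊤) (hnil : IsNilpotent a) (G : Over (Spec (CommRingCat.of R))) [GrpObj G] [IsCommMonObj G] [Smooth G.hom]
    (n : ℕ) (hn : 1 ≤ n) :
    Function.Bijective (HRes.pull Scheme.fppfPrecoverage (Spec.map (CommRingCat.ofHom (Ideal.Quotient.mk a)))
      (CGrpSh.pts Scheme.fppfPrecoverage G) n) := by
  obtain ⟨k, hk⟩ := hnil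
  refine K731.HNil.pull_bijective k (Ideal.Quotient.mk a) Ideal.Quotient.mk_surjective ?_ G n hn
  rw [Ideal.mk_ker, pow_succ, hk]
  exact Ideal.bot_mul a

end Groth.Agent.S18322
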