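import Groth.Statements.S18324
import Groth.Agent.AlgSt.K748.HensChart
import Groth.Agent.AlgSt.K748.SmOver
import Groth.Agent.AlgSp.K651.HensSec
import Groth.Agent.AlgSp.K651.Hens2

set_option autoImplicit false
universe u
open AlgSt

namespace Groth.Agent.S18324

open CategoryTheory AlgebraicGeometry in
/-- Let R be a Henselian local ring, S = Spec R, and 𝒵 an algebraic stack over (Sch/S) for the fppf
topology which is smooth over S (in the chart sense: a smooth surjective scheme chart U of 𝒵 and a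
smooth V → S with a smooth U → V compatible up to isomorphism) and whose diagonal 𝒵 → 𝒵 ×_{(Sch/S)}
𝒵 is separated (representable by algebraic spaces with closed-immersion relative diagonal). Then for
every ideal a ≠ R, with q : Spec (R/a) → S the closed immersion, the restriction functor 𝒵(R) →
𝒵(R/a) is essentially surjective: every functor z₀ : (Sch/Spec (R/a)) → 𝒵 over (Sch/S) is isomorphic
to the composite of (Sch/q) with some functor z : (Sch/S) → 𝒵 over (Sch/S). The source assumes only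
that the fibre of the diagonal over the closed point is separated; the diagonal itself is taken
separated here. -/
theorem result (R : Type u) [CommRing R]
    [HenselianLocalRing R] (𝒵 : AlgSt.Cat (Spec (CommRingCat.of R)))
    (h𝒵 : AlgSt.IsAlgStack Scheme.fppfPrecoverage 𝒵)
    (hsm : AlgSt.LocQ (AlgSp.LocP @Smooth) (FibCat.toSelf 𝒵))
    (hΔ : AlgSt.RepByAlgSpWith AlgSp.IsSeparatedMor (FibCat.diag (FibCat.toSelf 𝒵)))
    (a : Ideal R) (ha : a ≠ ⊤)
    (z₀ : FibCat.overCat (Over.mk (Spec.map (CommRingCat.ofHom (Ideal.Quotient.mk a)))) ⥤ᵇ 𝒵) :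
    ∃ z : FibCat.overCat (Over.mk (𝟙 (Spec (CommRingCat.of R)))) ⥤ᵇ 𝒵,
      Nonempty (BasedFunctor.comp (AlgSt.overMap (Over.homMk (Spec.map (CommRingCat.ofHom (Ideal.Quotient.mk a)))
        (Category.comp_id _) : Over.mk (Spec.map (CommRingCat.ofHom (Ideal.Quotient.mk a))) ⟶ Over.mk (𝟙 _))) z ≅ z₀) := by
  have hnt : Nontrivial (R ⧸ a) := Ideal.Quotient.nontrivial_iff.2 ha
  have : HenselianLocalRing (R ⧸ a) := K651.Hens.henselianLocalRing_quotient R a ha
  obtain ⟨Z, hZ, p, g, hp, ⟨e⟩⟩ := K748.El.exists_affine_smooth_chart 𝒵 h𝒵 (R ⧸ a)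
    (Spec.map (CommRingCat.ofHom (Ideal.Quotient.mk a))) z₀
  have hZs : Smooth Z.hom := K748.SmOver.smooth_hom_of_locQ h𝒵.isStack.1 hsm p hp
  obtain ⟨s, hs1, hs2⟩ := K651.HensSec.exists_section Z.hom hZs a ha g.left (Over.w g)
  let s' : Over.mk (𝟙 (Spec (CommRingCat.of R))) ⟶ Z := Over.homMk s hs1
  refine ⟨BasedFunctor.comp (AlgSt.overMap s') p, ⟨?_⟩⟩
  have hc : (Over.homMk (Spec.map (CommRingCat.ofHom (Ideal.Quotient.mk a))) (Category.comp_id _) :
      Over.mk (Spec.map (CommRingCat.ofHom (Ideal.Quotient.mk a))) ⟶ Over.mk (𝟙 _)) ≫ s' = g := by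
    ext : 1
    exact hs2
  exact (K735.Fib.whiskerRightIso (K748.Lift.overMapComp _ s').symm p : _ ≅ BasedFunctor.comp (AlgSt.overMap _) p) ≪≫
    eqToIso (by rw [hc]) ≪≫ e

end Groth.Agent.S18324
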