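import Groth.Statements.S18327
import Groth.Agent.CGrpSh.K186.LieIso

set_option autoImplicit false
universe u
open CategoryTheory CategoryTheory.Limits AlgebraicGeometry
open CGrpSh

namespace Groth.Agent.S18327

/-- Let j : T' → T be a closed immersion of schemes which is a square-zero thickening of its image (the
kernel ideal sheaf I of j satisfies I·I = 0), and let G be a commutative group scheme over T whose
structure morphism is smooth. On the big fppf site of T let N be the kernel of the restriction
morphism from the abelian sheaf of points U ↦ G(U) to U ↦ G(U ×_T T') (the unit of the adjunction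
between restriction to T'-schemes and its right adjoint). Then there is a quasi-coherent module M on
the big fppf site of T (a module over the structure sheaf U ↦ Γ(U, O_U), locally presented by free
modules) together with an isomorphism, natural in the flat T-scheme U, between N(U) and M(U): the
underlying abelian presheaves of N and of M become isomorphic after restriction to the full
subcategory of T-schemes flat over T. The source states this for algebraic spaces T, T', G and flat
T-algebraic spaces U, with a quasi-coherent sheaf on T; schemes and a quasi-coherent big-site module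
are used here, and only the existence of the natural isomorphism is asserted. -/
theorem result {T T' : Scheme.{u}} (j : T' ⟶ T)
    [IsClosedImmersion j] (hj : j.ker * j.ker = ⊥) (G : Over T) [GrpObj G] [IsCommMonObj G] [Smooth G.hom] :
    ∃ (M : BigSite.Mod Scheme.fppfPrecoverage T) (_ : M.IsQuasicoherent),
      Nonempty ((ObjectProperty.ι (fun U : Over T => Flat U.hom)).op ⋙
          (kernel ((BigSite.bigAdj Scheme.fppfPrecoverage j AddCommGrpCat.{u + 1}).unit.app
            (CGrpSh.pts Scheme.fppfPrecoverage G))).obj ≅
        (ObjectProperty.ι (fun U : Over T => Flat U.hom)).op ⋙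
          ((BigSite.toAbMod Scheme.fppfPrecoverage T).obj M).obj) := by
  have h : BigSite.OSh (Scheme.precoverage K186.Big.Qf.{u}) :=
    inferInstanceAs (BigSite.OSh Scheme.fppfPrecoverage.{u})
  have h2 : (QuotSh.J (Scheme.precoverage K186.Big.Qf.{u}) T).Subcanonical :=
    inferInstanceAs (QuotSh.J Scheme.fppfPrecoverage.{u} T).Subcanonical
  have hc := K186.LieMain.exists_chart j hj G
  have hs := K186.Pinch.σ_π j.ker
  have ht := K186.Pinch.τ_π j.ker
  exact ⟨K186.LieIso.Mod hs ht K186.Big.Qf.{u} hc,
    K186.LieMod.isQuasicoherent_Mo hs ht K186.Big.Qf.{u} (K186.LieIso.hcov' hc),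
    K186.LieIso.exists_iso hs ht (K186.LieMain.j_σ j) K186.Big.Qf.{u} hc⟩

end Groth.Agent.S18327
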