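import Groth.Statements.S18329
import Groth.Agent.SGA3.K211.IdemSpan
import Groth.Agent.Sga3C.NormalHopfF
import Groth.Agent.Sga3.H814.SubInv

set_option autoImplicit false
universe u
open TensorProduct
open SGA3

namespace Groth.Agent.S18329


open Groth.Agent.Books.ComodDual Groth.Agent.SGA3.K211.IdemSpan

section Aux

variable {k : Type u} [Field k] {A : Type u} [CommRing A] [HopfAlgebra k A]

theorem contr_mem (W : Submodule k A) (z : A ⊗[k] A)
    (hz : z ∈ LinearMap.range (TensorProduct.map W.subtype W.subtype)) (f : A →ₗ[k] k) :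
    contr f z ∈ W := by
  obtain ⟨y, rfl⟩ := hz
  induction y with
  | zero => simp
  | add x y hx hy => rw [map_add, map_add]; exact W.add_mem hx hy
  | tmul a b =>
    rw [TensorProduct.map_tmul, contr_tmul]
    exact W.smul_mem _ a.2

theorem lid_mem (W : Submodule k A) (z : A ⊗[k] A)
    (hz : z ∈ LinearMap.range (TensorProduct.map W.subtype W.subtype)) (f : A →ₗ[k] k) :
    TensorProduct.lid k A (f.rTensor A z) ∈ W := by
  obtain ⟨y, rfl⟩ := hz
  induction y with
  | zero => simp
  | add x y hx hy => rw [map_add, map_add, map_add]; exact W.add_mem hx hy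
  | tmul a b =>
    rw [TensorProduct.map_tmul, LinearMap.rTensor_tmul, TensorProduct.lid_tmul]
    exact W.smul_mem _ b.2

/-- The intersection of two sub-Hopf-algebras is one. -/
theorem isHopfSubalgebra_inf (B C : Subalgebra k A) (hB : SGA3.IsHopfSubalgebra k A B)
    (hC : SGA3.IsHopfSubalgebra k A C) : SGA3.IsHopfSubalgebra k A (B ⊓ C) := by
  refine ⟨fun b hb => ?_, fun b hb => ⟨hB.2 b hb.1, hC.2 b hb.2⟩⟩
  refine Groth.Agent.Sga3.H814.SubInv.mem_range_map (Subalgebra.toSubmodule (B ⊓ C))
    (Subalgebra.toSubmodule (B ⊓ C)) _ (fun f => ?_) (fun f => ?_)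
  · exact ⟨contr_mem (Subalgebra.toSubmodule B) _ (hB.1 b hb.1) f,
      contr_mem (Subalgebra.toSubmodule C) _ (hC.1 b hb.2) f⟩
  · exact ⟨lid_mem (Subalgebra.toSubmodule B) _ (hB.1 b hb.1) f,
      lid_mem (Subalgebra.toSubmodule C) _ (hC.1 b hb.2) f⟩

/-- The subalgebra of separable elements is a sub-Hopf-algebra (`k` algebraically closed). -/
theorem isHopfSubalgebra_sep [IsAlgClosed k] (B₀ : Subalgebra k A) (hB₀ : ∀ a : A, a ∈ B₀ ↔ IsSeparable k a) :
    SGA3.IsHopfSubalgebra k A B₀ := by
  have hid : ∀ e : A, IsIdempotentElem e → e ∈ B₀ := fun e he => (hB₀ e).2 (isSeparable_of_idem e he)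
  have hspan : ∀ b ∈ B₀, b ∈ Submodule.span k {e : A | IsIdempotentElem e} := fun b hb =>
    mem_span_idem_of_isSeparable b ((hB₀ b).1 hb)
  constructor
  · intro b hb
    refine Submodule.span_induction (p := fun b _ => CoalgebraStruct.comul (R := k) (A := A) b ∈
      LinearMap.range (TensorProduct.map B₀.val.toLinearMap B₀.val.toLinearMap)) ?_ ?_ ?_ ?_ (hspan b hb)
    · intro e he
      have he' : IsIdempotentElem e := he
      obtain ⟨A', hA', hfg, heA⟩ := Groth.Agent.Sga3C.NormalHopfF.exists_fg_hopfSubalgebra (k := k) {e}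
      obtain ⟨y, hy⟩ := hA'.1 e (heA (by simp))
      have hft : Algebra.FiniteType k A' := A'.fg_iff_finiteType.1 hfg
      have hinj : Function.Injective (Algebra.TensorProduct.map A'.val A'.val) :=
        TensorProduct.map_injective_of_flat_flat _ _ Subtype.val_injective Subtype.val_injective
      have hy' : Algebra.TensorProduct.map A'.val A'.val y = Bialgebra.comulAlgHom k A e := hy
      have hidem : IsIdempotentElem y := by
        apply hinj
        rw [map_mul, hy']
        exact he'.map (Bialgebra.comulAlgHom k A)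
      rw [← hy]
      have h1 := idem_mem_span y hidem
      refine Submodule.span_induction (p := fun y _ =>
        TensorProduct.map A'.val.toLinearMap A'.val.toLinearMap y ∈
        LinearMap.range (TensorProduct.map B₀.val.toLinearMap B₀.val.toLinearMap)) ?_ ?_ ?_ ?_ h1
      · rintro _ ⟨b, a, hb, ha, rfl⟩
        exact ⟨(⟨b, hid _ (hb.map A'.val)⟩ : B₀) ⊗ₜ (⟨a, hid _ (ha.map A'.val)⟩ : B₀), rfl⟩
      · rw [map_zero]; exact Submodule.zero_mem _
      · intro x y _ _ hx hy; rw [map_add]; exact Submodule.add_mem _ hx hy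
      · intro c x _ hx; rw [map_smul]; exact Submodule.smul_mem _ _ hx
    · rw [map_zero]; exact Submodule.zero_mem _
    · intro x y _ _ hx hy; rw [map_add]; exact Submodule.add_mem _ hx hy
    · intro c x _ hx; rw [map_smul]; exact Submodule.smul_mem _ _ hx
  · intro b hb
    refine Submodule.span_induction (p := fun b _ => HopfAlgebraStruct.antipode (R := k) (A := A) b ∈ B₀)
      ?_ ?_ ?_ ?_ (hspan b hb)
    · intro e he
      have he' : IsIdempotentElem e := he
      exact hid _ (he'.map (HopfAlgebra.antipodeAlgHom k A))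
    · rw [map_zero]; exact B₀.zero_mem
    · intro x y _ _ hx hy; rw [map_add]; exact B₀.add_mem hx hy
    · intro c x _ hx; rw [map_smul]; exact B₀.smul_mem hx c

end Aux

/-- Let k be an algebraically closed field of prime characteristic p and A a commutative Hopf algebra
over k, the coordinate ring of an affine k-group G, quotient groups of G being read as
sub-Hopf-algebras of A (subalgebras stable under comultiplication and antipode). Let B₀ be the
subalgebra of elements of A that are separable over k (its spectrum is the group of connected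
components π₀(G)) and let C be the largest cocommutative sub-Hopf-algebra of A (its spectrum is the
largest commutative quotient group G_ab). Then B₀ ⊓ C, whose spectrum is π₀(G_ab), is the largest
cocommutative sub-Hopf-algebra of A contained in B₀, whose spectrum is the largest commutative
quotient of π₀(G): the canonical homomorphism from π₀(G_ab) to (π₀(G))_ab is an isomorphism. (The
abelianization is rendered through its universal property among affine quotient groups, as the
largest cocommutative sub-Hopf-algebra, rather than as the quotient by the derived subgroup.) -/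
theorem result (k A : Type u) [Field k] [IsAlgClosed k]
    (p : ℕ) [Fact p.Prime] [CharP k p] [CommRing A] [HopfAlgebra k A]
    (B₀ : Subalgebra k A) (hB₀ : ∀ a : A, a ∈ B₀ ↔ IsSeparable k a)
    (C : Subalgebra k A) (hC : SGA3.IsHopfSubalgebra k A C)
    (hCc : ∀ c ∈ C, TensorProduct.comm k A A (Coalgebra.comul c) = Coalgebra.comul c)
    (hCmax : ∀ D : Subalgebra k A, SGA3.IsHopfSubalgebra k A D →
      (∀ d ∈ D, TensorProduct.comm k A A (Coalgebra.comul d) = Coalgebra.comul d) → D ≤ C) :
    IsGreatest {D : Subalgebra k A | SGA3.IsHopfSubalgebra k A D ∧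
      (∀ d ∈ D, TensorProduct.comm k A A (Coalgebra.comul d) = Coalgebra.comul d) ∧ D ≤ B₀}
      (B₀ ⊓ C) := by
  refine ⟨⟨isHopfSubalgebra_inf _ _ (isHopfSubalgebra_sep B₀ hB₀) hC, fun d hd => hCc d hd.2,
    inf_le_left⟩, fun D hD => le_inf hD.2.2 (hCmax D hD.1 hD.2.1)⟩

end Groth.Agent.S18329
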