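import Groth.Statements.S18336
import Groth.Agent.AlgSp.K607.HomAx

set_option autoImplicit false
universe u
open AlgSp

namespace Groth.Agent.S18336

open CategoryTheory AlgebraicGeometry in
/-- Let S be a locally Noetherian scheme, X → S proper and flat and Y → S separated of finite type. Then
the functor on S-schemes sending T to the set of T-morphisms X ×_S T → Y ×_S T — equivalently to the
set of X-morphisms T ×_S X → Y ×_S X, the Weil-restriction functor of Y ×_S X along X → S — is an
algebraic space which is separated and locally of finite type over S. (Stated for schemes X, Y, S;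
the isomorphism with the sheaf is up to a universe lift of the values.) -/
theorem result (S : Scheme.{u}) [IsLocallyNoetherian S]
    (X Y : Over S) [IsProper X.hom] [Flat X.hom] [IsSeparated Y.hom] [LocallyOfFiniteType Y.hom]
    [QuasiCompact Y.hom] :
    ∃ R : AlgSp.Sp S, AlgSp.IsAlgSpace R ∧
      Nonempty (R.obj ≅ WeilRes.functor X.hom (Red.bc X.hom Y) ⋙ CategoryTheory.uliftFunctor.{u + 1, u}) ∧
      AlgSp.IsSeparatedSp R ∧
      ∀ t : R ⟶ (AlgSp.yon S).obj (Over.mk (𝟙 S)), AlgSp.LocP @LocallyOfFiniteType t := by
  have : LocallyOfFinitePresentation X.hom := inferInstance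
  have : LocallyOfFinitePresentation Y.hom := inferInstance
  exact K607.HomRed.main K607.HomRed.homAx S X Y

end Groth.Agent.S18336
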