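import Groth.Statements.S18337
import Groth.Agent.AlgSp.K37.WeilPF
import Groth.Agent.AlgSt.K738.YonProps

set_option autoImplicit false
universe u
open AlgSp

namespace Groth.Agent.S18337

open CategoryTheory AlgebraicGeometry in
/-- Let T be a locally Noetherian scheme, f : S → T a proper flat morphism and I → S a finite morphism.
Then the functor on T-schemes sending W to the set of sections of I ×_T W → S ×_T W — the
Weil-restriction functor of I along f — is an algebraic space which is separated and of finite type
over T. (The published statement does not assume f flat; for the closed point S of the affine line T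
over a field and I two copies of S the functor is the affine line with doubled origin, which is not
separated, and the published proof goes through the Hom-space lemma, which needs flatness; so f is
taken flat here. Stated for schemes; the source allows algebraic spaces. Its quasi-projectivity
clause for projective f is not included.) -/
theorem result (T : Scheme.{u})
    [IsLocallyNoetherian T] (S : Over T) [IsProper S.hom] [Flat S.hom] (I : Over S.left) [IsFinite I.hom] :
    ∃ R : AlgSp.Sp T, AlgSp.IsAlgSpace R ∧
      Nonempty (R.obj ≅ WeilRes.functor S.hom I ⋙ CategoryTheory.uliftFunctor.{u + 1, u}) ∧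
      AlgSp.IsSeparatedSp R ∧
      ∀ t : R ⟶ (AlgSp.yon T).obj (Over.mk (𝟙 T)), AlgSp.IsFiniteTypeMor t := by
  obtain ⟨R, q, h1, h2, h3⟩ := K37.WeilPF.exists_weilRes S.hom I.hom
  have e : yoneda.obj R ≅ WeilRes.functor S.hom I := h3.representableBy.toIso
  refine ⟨(AlgSp.yon T).obj R, AlgSp.IsAlgSpace.yon_obj R, ⟨Functor.isoWhiskerRight e uliftFunctor.{u + 1, u}⟩,
    (AlgSp.repWith_diag_yon_iff _ R).2 inferInstance, fun t => ?_⟩
  obtain ⟨g, rfl⟩ := (AlgSp.yon T).map_surjective t
  have hg : g.left = R.hom := (Category.comp_id g.left).symm.trans (Over.w g)
  rw [K738.isFiniteTypeMor_yon_iff, hg]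
  exact ⟨h2, inferInstance⟩

end Groth.Agent.S18337
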