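import Groth.Statements.S18338
import Groth.Agent.AlgSt.K749.HilbF

set_option autoImplicit false
universe u
open AlgSt

namespace Groth.Agent.S18338

open CategoryTheory AlgebraicGeometry in
/-- Let 𝒳 be an algebraic stack over a scheme S, locally of finite presentation over S with
quasi-compact separated diagonal over S, and let V → 𝒳 be a finitely presented, quasi-finite, flat,
surjective morphism from a separated S-scheme V. Then there are an S-separated algebraic stack 𝒲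
with a representable étale surjective morphism h : 𝒲 → 𝒳, and a scheme Z with an open immersion Z →
V ×_𝒳 𝒲 whose composite with the projection to 𝒲 is a finite locally free surjection Z → 𝒲. (The
source says the immersion is open and closed; closedness follows from the finiteness over 𝒲. Its
additional assertion about rational points and quasi-projective neighbourhoods is not included.) -/
theorem result (S : Scheme.{u}) (𝒳 : AlgSt.Cat S)
    (h𝒳 : AlgSt.IsAlgStack Scheme.fppfPrecoverage 𝒳)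
    (hΔ : AlgSt.RepByAlgSpWith (AlgSp.IsSeparatedMor ⊓ AlgSp.IsQuasiCompactMor) (FibCat.diag (FibCat.toSelf 𝒳)))
    (hfp : AlgSt.LocQ (AlgSp.LocP @LocallyOfFinitePresentation) (FibCat.toSelf 𝒳))
    (V : Over S) [IsSeparated V.hom] (v : FibCat.overCat V ⥤ᵇ 𝒳)
    (hv : AlgSt.RepByAlgSpWith
      (AlgSp.LocP (@Flat ⊓ @LocallyOfFinitePresentation ⊓ @LocallyQuasiFinite) ⊓
        AlgSp.IsQuasiCompactMor ⊓ AlgSp.IsQuasiSeparatedMor ⊓ AlgSp.IsSurjectiveMor) v) :
    ∃ (𝒲 : AlgSt.Cat S) (h : 𝒲 ⥤ᵇ 𝒳) (Z : Over S) (z : FibCat.overCat Z ⥤ᵇ FibCat.fp v h),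
      AlgSt.IsAlgStack Scheme.fppfPrecoverage 𝒲 ∧ AlgSt.IsSeparatedOver 𝒲 ∧
      AlgSt.RepByAlgSpWith (AlgSp.IsEtaleMor ⊓ AlgSp.IsSurjectiveMor) h ∧
      AlgSt.IsOpenImm z ∧
      AlgSt.RepByAlgSpWith
        (AlgSp.IsFiniteMor ⊓ AlgSp.LocP (@Flat ⊓ @LocallyOfFinitePresentation) ⊓ AlgSp.IsSurjectiveMor)
        (BasedFunctor.comp z (FibCat.fpSnd v h)) := by
  have h1 := K749.Hilb.repByAlgSpWith_sep h𝒳.isStack.1 (K739.Alg.repByAlgSpWith_mono (fun _ _ _ h => h.1) hΔ) v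
  have h2 := K740.SpIso.repByAlgSpWith_inf (K739.Alg.repByAlgSpWith_mono (P := AlgSp.LocP (@Flat ⊓
    @LocallyOfFinitePresentation ⊓ @LocallyQuasiFinite) ⊓ AlgSp.IsQuasiCompactMor ⊓ AlgSp.IsQuasiSeparatedMor ⊓
    AlgSp.IsSurjectiveMor) (Q := AlgSp.LocP (@Flat ⊓ @LocallyOfFinitePresentation ⊓ @LocallyQuasiFinite) ⊓
    AlgSp.IsSurjectiveMor) (fun _ _ _ h => ⟨h.1.1.1, h.2⟩) hv) h1
  obtain ⟨d, hd⟩ := K749.Hilb.exists_dat h𝒳.isStack.1 h2
  obtain ⟨𝒲, h, Z, z, k1, k2, k3, k4, k5⟩ := K749.Hilb.main h𝒳 d hd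
  exact ⟨𝒲, h, Z, z, k1, k2, K739.Alg.repByAlgSpWith_mono (fun _ _ _ h => h.1) k3, k4, k5⟩

end Groth.Agent.S18338
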