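import Groth.Statements.S18340
import Groth.Agent.ArtinApx.K953.FGColim
import Groth.Agent.ArtinApx.K953.EtaleApprox
import Groth.Agent.S0599
import Groth.Agent.Gaga.H987.StalkGRing

set_option autoImplicit false
universe u
open ArtinApx

namespace Groth.Agent.S18340

open CategoryTheory in
/-- Let k be an algebraically closed field, A a finitely generated k-algebra with a maximal ideal m (a
k-point of Spec A), F a functor from commutative A-algebras to sets which preserves filtered
colimits, and ξ an element of F(Â), Â the m-adic completion of A. Then for every natural number N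
there are an étale A-algebra A′, a surjective A-algebra homomorphism ψ : A′ → A/m^(N+1) and an
element ξ′ of F(A′) whose image under F(ψ) is the image of ξ under F of the canonical map Â →
A/m^(N+1). (Affine form of the statement for limit-preserving functors on schemes over a finite-type
k-scheme S with a k-point s: Spec A′ is the étale neighbourhood of s, the kernel of ψ is the
(N+1)-st power of the maximal ideal of the point above s, and the equation says that ξ′ and ξ agree
to order N.) -/
theorem result (k : Type u) [Field k] [IsAlgClosed k]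
    (A : Type u) [CommRing A] [Algebra k A] [Algebra.FiniteType k A] (m : Ideal A) [m.IsMaximal]
    (F : CommAlgCat.{u} A ⥤ Type u) [Limits.PreservesFilteredColimits F]
    (ξ : F.obj (CommAlgCat.of A (AdicCompletion m A))) (N : ℕ) :
    ∃ (A' : Type u) (_ : CommRing A') (_ : Algebra A A') (_ : Algebra.Etale A A')
      (ψ : A' →ₐ[A] (A ⧸ m ^ (N + 1))) (_ : Function.Surjective ψ) (ξ' : F.obj (CommAlgCat.of A A')),
      F.map (CommAlgCat.ofHom ψ) ξ' =
        F.map (CommAlgCat.ofHom (AdicCompletion.evalₐ m (N + 1))) ξ := by
  have hN : IsNoetherianRing A := Algebra.FiniteType.isNoetherianRing k A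
  have hG : CAlg.IsGRing A := Groth.Agent.Gaga.H987.StalkGRing.isGRing_of_finiteType_field k A
  obtain ⟨s, η, rfl⟩ := K953.FGColim.exists_adjoin F ξ
  have hft : Algebra.FiniteType A (Algebra.adjoin A (s : Set (AdicCompletion m A))) :=
    (Subalgebra.fg_iff_finiteType _).mp (Subalgebra.fg_adjoin_finset s)
  have hfp : Algebra.FinitePresentation A (Algebra.adjoin A (s : Set (AdicCompletion m A))) :=
    Algebra.FinitePresentation.of_finiteType.mp hft
  obtain ⟨E, _, _, _, α, ψ, hψ⟩ := K953.EtaleApprox.exists_etale_approx m hG
    (Algebra.adjoin A (s : Set (AdicCompletion m A))).val (N + 1)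
  refine ⟨E, inferInstance, inferInstance, inferInstance, ψ, ?_, F.map (CommAlgCat.ofHom α) η, ?_⟩
  · intro y
    obtain ⟨a, rfl⟩ := Ideal.Quotient.mk_surjective y
    exact ⟨algebraMap A E a, ψ.commutes a⟩
  · have h1 : CommAlgCat.ofHom α ≫ CommAlgCat.ofHom ψ =
        CommAlgCat.ofHom (Algebra.adjoin A (s : Set (AdicCompletion m A))).val ≫
          CommAlgCat.ofHom (AdicCompletion.evalₐ m (N + 1)) := by
      rw [← CommAlgCat.ofHom_comp, ← CommAlgCat.ofHom_comp, hψ]
    rw [← Functor.map_comp_apply, ← Functor.map_comp_apply, h1]

end Groth.Agent.S18340
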