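import Groth.Statements.S18345
import Groth.Agent.MultCurve.K953.RibIso

set_option autoImplicit false
universe w u
open CategoryTheory CategoryTheory.Limits AlgebraicGeometry
open MultCurve

namespace Groth.Agent.S18345

/-- Let k be a field and C a ribbon, locally of finite type over k, on the reduced connected scheme D
along i : D ⟶ C, with its restricted cotangent sequence 0 → L → Ω_C|_D → Ω_D → 0 presented by a
universal k-derivation d₁ : O_C → Ω₁, a universal k-derivation d₂ : O_D → Ω₂, the map φ from the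
conormal bundle L of D in C to i^*Ω₁ induced by d₁ and the map c : i^*Ω₁ → Ω₂ compatible with d₁ and
d₂, assumed short exact, that is, with φ injective; let e_C ∈ Ext¹(Ω_D, L) be the class of that
sequence. Then the ribbon is split — i admits a retraction C ⟶ D that is a morphism over k — if and
only if e_C = 0. (The published text treats the restricted cotangent sequence as short exact for
every ribbon and puts the retractions in bijection with the splittings of e_C. Short exactness holds
over a perfect field but not in general: for k of characteristic p and a ∈ k not a p-th power, the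
ribbon Spec k[x]/((x^p − a)²) on D = Spec k(a^{1/p}) has φ = 0 and admits no retraction, although
Ext¹(Ω_D, L) = 0 there. So short exactness is assumed here, and this row states the existence part
of the bijection.) -/
theorem result (k : Type u) [Field k] (D C : Scheme.{u}) (i : D ⟶ C)
    (pC : C ⟶ Spec (CommRingCat.of k)) [LocallyOfFiniteType pC] [ConnectedSpace D] (hR : MultCurve.IsRibbon i)
    (Ω₁ : C.Modules) (d₁ : OmegaSh.Der pC Ω₁) (hd₁ : OmegaSh.IsUniversal d₁)
    (Ω₂ : D.Modules) (d₂ : OmegaSh.Der (i ≫ pC) Ω₂) (hd₂ : OmegaSh.IsUniversal d₂)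
    (φ : Omega.conormal i ⟶ (Scheme.Modules.pullback i).obj Ω₁) (hφ : OmegaSh.IsConormalDiff i d₁ φ)
    (c : (Scheme.Modules.pullback i).obj Ω₁ ⟶ Ω₂) (hc : OmegaSh.IsDiffCompat i d₁ d₂ c)
    (hw : φ ≫ c = 0) (hS : (ShortComplex.mk φ c hw).ShortExact) [HasExt.{w} D.Modules] :
    (∃ r : C ⟶ D, i ≫ r = 𝟙 D ∧ r ≫ i ≫ pC = pC) ↔ hS.extClass = 0 := by
  have h1 := hR.1.1
  have h2 := K953.MultBasic.surjective_of_ker_pow i 2 hR.1.2.1
  have hi := Groth.Agent.UnramB.FirstOrderNbhd.SqZ.of_ker i hR.1.2.1
  have h3 : Mono φ := hS.mono_f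
  have hdf := K953.RibIso.isDiffCompat_id d₂
  rw [← K953.ExtMor.exists_section_iff hS]
  constructor
  · rintro ⟨r, hr, hrS⟩
    refine ⟨(Scheme.Modules.pullbackId D).inv.app Ω₂ ≫ K953.RibDiff.gMap d₁ hd₂ hr hrS, ?_⟩
    change (_ ≫ _) ≫ c = 𝟙 Ω₂
    rw [Category.assoc, K953.RibDiff.gMap_comp hc hd₂ hdf hr hrS]
    exact Iso.inv_hom_id_app _ _
  · rintro ⟨σ, hσ⟩
    change σ ≫ c = 𝟙 Ω₂ at hσ
    obtain ⟨g, hg, hgS, -⟩ := K953.RibDiff.exists_hom_over (f := 𝟙 D) (pX := i ≫ pC) hi hφ hc
      hS.exact (Category.id_comp _) hd₂ hdf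
      ((Scheme.Modules.pullbackId D).hom.app Ω₂ ≫ σ) (by
        rw [Category.assoc, hσ]
        exact Category.comp_id _)
    exact ⟨g, hg, hgS⟩

end Groth.Agent.S18345
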