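import Groth.Statements.S18347
import Groth.Agent.MultCurve.K953.ExtRibbon
import Groth.Agent.Sga7.H745.ExtReal
import Groth.Agent.S17663
import Groth.Agent.Ega2.VeryAmpleAmple
import Groth.Agent.Ega2.QCohLocal

set_option autoImplicit false
universe w u
open CategoryTheory CategoryTheory.Limits AlgebraicGeometry
open MultCurve

namespace Groth.Agent.S18347

/-- Let k be a field, D a reduced connected scheme locally of finite type over k with structure morphism
pD and a universal k-derivation d₂ : O_D → Ω₂, let L be an invertible O_D-module and e ∈ Ext¹(Ω₂,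
L). Then there is a ribbon C on D over k with class e: a k-scheme C locally of finite type with a
closed immersion i : D ⟶ C over k making C a ribbon on D, a universal k-derivation d₁ : O_C → Ω₁
with the map φ from the conormal bundle of D in C to i^*Ω₁ induced by d₁ and the map c : i^*Ω₁ → Ω₂
compatible with d₁ and d₂, such that φ followed by c is zero and the resulting sequence is short
exact, and an isomorphism θ from the conormal bundle to L along which the class of that short exact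
sequence becomes e. -/
theorem result (k : Type u) [Field k] (D : Scheme.{u}) (pD : D ⟶ Spec (CommRingCat.of k))
    [LocallyOfFiniteType pD] [AlgebraicGeometry.IsReduced D] [ConnectedSpace D]
    (L : D.Modules) (hL : PicF.IsInvertible L)
    (Ω₂ : D.Modules) (d₂ : OmegaSh.Der pD Ω₂) (hd₂ : OmegaSh.IsUniversal d₂) [HasExt.{w} D.Modules]
    (e : Abelian.Ext Ω₂ L 1) :
    ∃ (C : Scheme.{u}) (i : D ⟶ C) (pC : C ⟶ Spec (CommRingCat.of k)), i ≫ pC = pD ∧ MultCurve.IsRibbon i ∧
      LocallyOfFiniteType pC ∧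
      ∃ (Ω₁ : C.Modules) (d₁ : OmegaSh.Der pC Ω₁) (hd₁ : OmegaSh.IsUniversal d₁)
        (φ : Omega.conormal i ⟶ (Scheme.Modules.pullback i).obj Ω₁) (hφ : OmegaSh.IsConormalDiff i d₁ φ)
        (c : (Scheme.Modules.pullback i).obj Ω₁ ⟶ Ω₂) (hc : OmegaSh.IsDiffCompat i d₁ d₂ c)
        (hw : φ ≫ c = 0) (hS : (ShortComplex.mk φ c hw).ShortExact) (θ : Omega.conormal i ≅ L),
        hS.extClass.comp (Abelian.Ext.mk₀ θ.hom) (add_zero 1) = e := by
  obtain ⟨E, α, v, w, hS, hE⟩ := Groth.Agent.Sga7.H745.ExtReal.exists_extClass e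
  have hL' : Coh.IsQCoh L := Ega2.QCohLocal.isQCoh_of_isInvertible hL
  obtain ⟨C, i, pC, hci, hsi, δ, hp, hft, h1, h2, h3⟩ :=
    K953.ExtGlue.exists_thick d₂ hS hL' fun V hV => Groth.Agent.S17663.finite_of_isInvertible hL V hV
  subst hp
  obtain ⟨Ω₁, d₁, hd₁⟩ := K583.ExistsUniv.exists_isUniversal pC
  obtain ⟨φ, hφ⟩ := K561.ConDiff.exists_isConormalDiff i d₁
  have hc := K953.ExtRibbon.isDiffCompat_tau h1 hd₁
  have hw := K953.ExtRibbon.phi_comp h1 hd₁ hφ
  obtain ⟨hepi, him⟩ := Groth.Agent.S5976.result pC i Ω₁ d₁ hd₁ Ω₂ d₂ hd₂ φ hφ _ hc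
  obtain ⟨θ, hθ⟩ := K953.ExtRibbon.exists_theta hS h1 hd₁ hφ
  have hiso : IsIso θ := K953.ExtRibbon.isIso_theta hS h2 h3 hd₁ hφ hθ
  have hα : Mono α := hS.mono_f
  have hmono : Mono φ := by
    have : Mono (φ ≫ K953.ExtRibbon.tau δ hd₁) := by rw [← hθ]; exact mono_comp _ _
    exact mono_of_mono φ (K953.ExtRibbon.tau δ hd₁)
  have hSE : (ShortComplex.mk φ (K953.ExtRibbon.tau δ hd₁ ≫ v) hw).ShortExact := by
    refine ShortComplex.ShortExact.mk' ?_ hmono hepi
    exact (ShortComplex.exact_iff_image_eq_kernel _).mpr him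
  have hk : i.ker ^ 2 = ⊥ := K953.ExtRibbon.ker_sq (δ := δ) h2
  have hinv : PicF.IsInvertible (Omega.conormal i) :=
    Groth.Agent.Ega2.VeryAmpleAmple.isInvertible_of_iso (asIso θ).symm hL
  refine ⟨C, i, pC, rfl, ⟨⟨hci, hk, K953.MultConormal.isPrincipal_of_isInvertible i
    (Groth.Agent.UnramB.FirstOrderNbhd.SqZ.of_ker i hk) hinv⟩, inferInstance⟩, hft, Ω₁, d₁, hd₁, φ, hφ,
    _, hc, hw, hSE, asIso θ, ?_⟩
  rw [← hE]
  exact K953.ExtMor.extClass_comp_of_hom hSE hS θ (K953.ExtRibbon.tau δ hd₁) rfl hθ.symm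

end Groth.Agent.S18347
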