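import Groth.Statements.S18348
import Groth.Agent.MultCurve.K953.RibIso
import Groth.Agent.OmegaSh.K583.ConMap

set_option autoImplicit false
universe w u
open CategoryTheory CategoryTheory.Limits AlgebraicGeometry
open MultCurve

namespace Groth.Agent.S18348

/-- Let k be a field and D a reduced connected scheme locally of finite type over k, with structure
morphism pD and a universal k-derivation d₂ : O_D → Ω₂. Let C and C′ be ribbons on D over k
(k-schemes locally of finite type with closed immersions i, i′ of D over k making them ribbons),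
each with its restricted cotangent sequence 0 → L → Ω_C|_D → Ω_D → 0 presented by a universal
k-derivation d₁ : O_C → Ω₁, the fixed universal k-derivation d₂ of D, the map φ from the conormal
bundle L of D in C to i^*Ω₁ induced by d₁ and the map c : i^*Ω₁ → Ω₂ compatible with d₁ and d₂,
assumed short exact, that is, with φ and φ′ injective, with classes e ∈ Ext¹(Ω₂, L) and e′ ∈
Ext¹(Ω₂, L′). Then C and C′ are isomorphic over D (by an isomorphism under D that is a k-morphism)
if and only if there is an isomorphism of O_D-modules α : L ≅ L′ carrying e to e′. In particular a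
ribbon with short exact restricted cotangent sequence is determined up to isomorphism over D by its
conormal bundle together with its class. (The published statement asserts the uniqueness for all
ribbons, treating the restricted cotangent sequence as short exact for every ribbon; it is so over a
perfect field but not in general: for k of characteristic p and a ∈ k not a p-th power, D = Spec
k(a^{1/p}) has Ext¹(Ω_D, L) = 0 for every L, yet the split ribbon with conormal bundle O_D and Spec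
k[x]/((x^p − a)²) are ribbons on D with conormal bundle O_D that are not isomorphic over D, the
second having φ = 0; so short exactness is assumed here for both ribbons. The published statement
also, for D proper over k, phrases the criterion as e = a·e′ with a a nonzero scalar, identifying
the automorphisms of the line bundle L with the nonzero constants; that identification needs Γ(D,
O_D) = k and fails, for example, for the projective line over a quadratic extension of k regarded as
a k-scheme, so the criterion is stated here with an arbitrary automorphism of the conormal bundle,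
in which form it holds for every reduced connected D.) -/
theorem result (k : Type u) [Field k] (D : Scheme.{u})
    (pD : D ⟶ Spec (CommRingCat.of k)) [LocallyOfFiniteType pD] [ConnectedSpace D]
    (Ω₂ : D.Modules) (d₂ : OmegaSh.Der pD Ω₂) (hd₂ : OmegaSh.IsUniversal d₂) [HasExt.{w} D.Modules]
    (C : Scheme.{u}) (i : D ⟶ C) (pC : C ⟶ Spec (CommRingCat.of k)) [LocallyOfFiniteType pC]
    (hp : i ≫ pC = pD) (hR : MultCurve.IsRibbon i)
    (Ω₁ : C.Modules) (d₁ : OmegaSh.Der pC Ω₁) (hd₁ : OmegaSh.IsUniversal d₁)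
    (φ : Omega.conormal i ⟶ (Scheme.Modules.pullback i).obj Ω₁) (hφ : OmegaSh.IsConormalDiff i d₁ φ)
    (c : (Scheme.Modules.pullback i).obj Ω₁ ⟶ Ω₂) (hc : OmegaSh.IsDiffCompat i d₁ d₂ c)
    (hw : φ ≫ c = 0) (hS : (ShortComplex.mk φ c hw).ShortExact)
    (C' : Scheme.{u}) (i' : D ⟶ C') (pC' : C' ⟶ Spec (CommRingCat.of k)) [LocallyOfFiniteType pC']
    (hp' : i' ≫ pC' = pD) (hR' : MultCurve.IsRibbon i')
    (Ω₁' : C'.Modules) (d₁' : OmegaSh.Der pC' Ω₁') (hd₁' : OmegaSh.IsUniversal d₁')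
    (φ' : Omega.conormal i' ⟶ (Scheme.Modules.pullback i').obj Ω₁') (hφ' : OmegaSh.IsConormalDiff i' d₁' φ')
    (c' : (Scheme.Modules.pullback i').obj Ω₁' ⟶ Ω₂) (hc' : OmegaSh.IsDiffCompat i' d₁' d₂ c')
    (hw' : φ' ≫ c' = 0) (hS' : (ShortComplex.mk φ' c' hw').ShortExact) :
    (∃ ψ : C ≅ C', i ≫ ψ.hom = i' ∧ ψ.hom ≫ pC' = pC) ↔
      ∃ α : Omega.conormal i ≅ Omega.conormal i',
        hS.extClass.comp (Abelian.Ext.mk₀ α.hom) (add_zero 1) = hS'.extClass := by
  have h1 := hR.1.1
  have h1' := hR'.1.1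
  have h2 := K953.MultBasic.surjective_of_ker_pow i 2 hR.1.2.1
  have h2' := K953.MultBasic.surjective_of_ker_pow i' 2 hR'.1.2.1
  have hi := Groth.Agent.UnramB.FirstOrderNbhd.SqZ.of_ker i hR.1.2.1
  have hi' := Groth.Agent.UnramB.FirstOrderNbhd.SqZ.of_ker i' hR'.1.2.1
  have h3 : Mono φ := hS.mono_f
  have h3' : Mono φ' := hS'.mono_f
  constructor
  · rintro ⟨ψ, hψ, hψS⟩
    have hψ' : i' ≫ ψ.inv = i := by rw [← hψ, Category.assoc, Iso.hom_inv_id, Category.comp_id]
    have hψS' : ψ.inv ≫ pC = pC' := by rw [← hψS, Iso.inv_hom_id_assoc]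
    have w₁ : i ≫ ψ.hom = 𝟙 D ≫ i' := by rw [hψ, Category.id_comp]
    have w₂ : i' ≫ ψ.inv = 𝟙 D ≫ i := by rw [hψ', Category.id_comp]
    have e₁ := K953.RibIso.conormal_gMap hd₁' hφ hφ' hψ hψS (K583.ConMap.isConormalMap w₁)
    have e₂ := K953.RibIso.conormal_gMap hd₁ hφ' hφ hψ' hψS' (K583.ConMap.isConormalMap w₂)
    have c₁ : K953.RibDiff.gMap d₁' hd₁ hψ' hψS' ≫ K953.RibDiff.gMap d₁ hd₁' hψ hψS = 𝟙 _ := by
      rw [K953.RibIso.gMap_comp_gMap hd₁' hd₁ hψ hψS hψ' hψS' (by simp) (by simp)]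
      have : ψ.hom ≫ ψ.inv = 𝟙 C := ψ.hom_inv_id
      have key : ∀ (g : C ⟶ C) (hg : i ≫ g = i) (hgS : g ≫ pC = pC), g = 𝟙 C →
          K953.RibDiff.gMap d₁ hd₁ hg hgS = 𝟙 _ := by
        rintro g hg hgS rfl
        exact K953.RibIso.gMap_id hd₁ hg hgS
      exact key _ _ _ this
    have c₂ : K953.RibDiff.gMap d₁ hd₁' hψ hψS ≫ K953.RibDiff.gMap d₁' hd₁ hψ' hψS' = 𝟙 _ := by
      rw [K953.RibIso.gMap_comp_gMap hd₁ hd₁' hψ' hψS' hψ hψS (by simp) (by simp)]
      have : ψ.inv ≫ ψ.hom = 𝟙 C' := ψ.inv_hom_id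
      have key : ∀ (g : C' ⟶ C') (hg : i' ≫ g = i') (hgS : g ≫ pC' = pC'), g = 𝟙 C' →
          K953.RibDiff.gMap d₁' hd₁' hg hgS = 𝟙 _ := by
        rintro g hg hgS rfl
        exact K953.RibIso.gMap_id hd₁' hg hgS
      exact key _ _ _ this
    obtain ⟨b, hb⟩ : ∃ b : Omega.conormal i' ⟶ Omega.conormal i,
        φ' ≫ K953.RibDiff.gMap d₁ hd₁' hψ hψS = b ≫ φ := ⟨_, e₁⟩
    obtain ⟨a, ha⟩ : ∃ a : Omega.conormal i ⟶ Omega.conormal i',
        φ ≫ K953.RibDiff.gMap d₁' hd₁ hψ' hψS' = a ≫ φ' := ⟨_, e₂⟩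
    refine ⟨⟨a, b, ?_, ?_⟩, K953.ExtMor.extClass_comp_of_hom hS hS' a
      (K953.RibDiff.gMap d₁' hd₁ hψ' hψS') (K953.RibDiff.gMap_comp hc' hd₁ hc hψ' hψS') ha⟩
    · rw [← cancel_mono φ, Category.id_comp, Category.assoc, ← hb, ← Category.assoc, ← ha,
        Category.assoc, c₁, Category.comp_id]
    · rw [← cancel_mono φ', Category.id_comp, Category.assoc, ← ha, ← Category.assoc, ← hb,
        Category.assoc, c₂, Category.comp_id]
  · rintro ⟨α, hα⟩
    obtain ⟨τ, hτ, hτ'⟩ := K953.ExtMor.exists_middle hS hS' α.hom hα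
    have hτi : IsIso τ := K953.ExtMor.isIso_middle hS hS' α.hom τ hτ hτ'
    have hτ₂ : inv τ ≫ c = c' := by rw [IsIso.inv_comp_eq, hτ]
    obtain ⟨g, hg, hgS, e⟩ := K953.RibDiff.exists_hom_over (f := i') (pX := pC') hi hφ hc
      hS.exact (by rw [hp', hp]) hd₁' hc' (inv τ) hτ₂
    obtain ⟨g', hg', hgS', e'⟩ := K953.RibDiff.exists_hom_over (f := i) (pX := pC) hi' hφ' hc'
      hS'.exact (by rw [hp', hp]) hd₁ hc τ hτ
    have i₁ : i ≫ g ≫ g' = i := by rw [← Category.assoc, hg, hg']
    have i₂ : i' ≫ g' ≫ g = i' := by rw [← Category.assoc, hg', hg]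
    have s₁ : (g ≫ g') ≫ pC = pC := by rw [Category.assoc, hgS', hgS]
    have s₂ : (g' ≫ g) ≫ pC' = pC' := by rw [Category.assoc, hgS, hgS']
    have k₁ : g ≫ g' = 𝟙 C := by
      refine K953.RibDiff.hom_ext hi hφ hd₁ i₁ s₁ (Category.comp_id i) (Category.id_comp pC) ?_
      rw [← K953.RibIso.gMap_comp_gMap hd₁' hd₁ hg hgS hg' hgS' i₁ s₁, e, e',
        K953.RibIso.gMap_id, IsIso.hom_inv_id]
    have k₂ : g' ≫ g = 𝟙 C' := by
      refine K953.RibDiff.hom_ext hi' hφ' hd₁' i₂ s₂ (Category.comp_id i')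
        (Category.id_comp pC') ?_
      rw [← K953.RibIso.gMap_comp_gMap hd₁ hd₁' hg' hgS' hg hgS i₂ s₂, e, e',
        K953.RibIso.gMap_id, IsIso.inv_hom_id]
    exact ⟨⟨g, g', k₁, k₂⟩, hg, hgS⟩

end Groth.Agent.S18348
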