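import Groth.Statements.S18349
import Groth.Agent.MultCurve.K953.VBLift
import Groth.Agent.Pi1.H421.TwoAff

set_option autoImplicit false
universe u
open CategoryTheory CategoryTheory.Limits AlgebraicGeometry
open MultCurve

namespace Groth.Agent.S18349

/-- Let k be a field and X a primitive multiple curve of multiplicity n over k — a separated
quasi-compact k-scheme with a closed immersion i : C ⟶ X of a smooth integral curve C whose ideal I
satisfies Iⁿ = 0 and is locally generated by one section z with the annihilator of z^(n-1) inside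
(z) — with canonical filtration C = C_1 ⊂ C_2 ⊂ ⋯ ⊂ C_n = X, C_j being cut out by I^j. Let A be a
finitely generated k-algebra that is an integral domain, P = Spec A ×_k X, and 1 ≤ j < n. Let Y ⊂ P
be a closed subscheme containing Spec A ×_k C_j, i.e. defined by a quasi-coherent ideal contained in
the pullback to P of I^j. Then every finite locally free O_Y-module is isomorphic to the restriction
to Y of a finite locally free O_P-module. (Stated over an arbitrary field; the published setting is
the complex numbers, which the argument does not use.) -/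
theorem result (k : Type u) [Field k] (C X : Scheme.{u}) (i : C ⟶ X)
    (f : X ⟶ Spec (CommRingCat.of k)) [IsSeparated f] [QuasiCompact f]
    (n : ℕ) (h : MultCurve.IsPrimitive k i f n)
    (A : Type u) [CommRing A] [IsDomain A] [Algebra k A] [Algebra.FiniteType k A]
    (j : ℕ) (hj : 1 ≤ j) (hjn : j < n)
    (IY : (pullback (Spec.map (CommRingCat.ofHom (algebraMap k A))) f).IdealSheafData)
    (hY : IY ≤ (i.ker ^ j).comap (pullback.snd (Spec.map (CommRingCat.ofHom (algebraMap k A))) f))
    (E : IY.subscheme.Modules) (hE : FlatMod.IsFinLocFree E) :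
    ∃ E' : (pullback (Spec.map (CommRingCat.ofHom (algebraMap k A))) f).Modules,
      FlatMod.IsFinLocFree E' ∧ Nonempty ((Scheme.Modules.pullback IY.subschemeι).obj E' ≅ E) := by
  obtain ⟨⟨hci, hI, -⟩, hCi, hsm, hdC⟩ := h
  have hN : IsLocallyNoetherian C := LocallyOfFiniteType.isLocallyNoetherian (i ≫ f)
  have hc : CompactSpace C := QuasiCompact.compactSpace_of_compactSpace (i ≫ f)
  have : IsNoetherian C := ⟨⟩
  have hsepC : IsSeparated (i ≫ f) := inferInstance
  have : C.IsSeparated := by
    constructor
    rw [← Limits.terminal.comp_from (i ≫ f)]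
    infer_instance
  have hs := K953.MultBasic.surjective_of_ker_pow i n hI
  have h1 : K953.VBLift.TwoAff X :=
    K953.VBLift.TwoAff.of_thickening i (Groth.Agent.Pi1.H421.TwoAff.twoAffine C hdC.le)
  have haf : IsAffineHom (Spec.map (CommRingCat.ofHom (algebraMap k A))) := inferInstance
  have haf2 : IsAffineHom (pullback.snd (Spec.map (CommRingCat.ofHom (algebraMap k A))) f) :=
    MorphismProperty.pullback_snd _ _ haf
  have h2 := h1.of_isAffineHom (pullback.snd (Spec.map (CommRingCat.ofHom (algebraMap k A))) f)
  refine K953.VBLift.exists_lift n IY.subschemeι h2 ?_ E hE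
  rw [Scheme.IdealSheafData.ker_subschemeι]
  refine le_bot_iff.1 ?_
  have h3 : IY ^ n ≤ ((i.ker ^ j).comap (pullback.snd (Spec.map (CommRingCat.ofHom (algebraMap k A))) f)) ^ n :=
    fun U => by simpa only [Scheme.IdealSheafData.ideal_pow, Pi.pow_apply] using Ideal.pow_right_mono (hY U) n
  refine h3.trans ?_
  rw [← Groth.Agent.Divis.IdealComap.comap_pow, ← pow_mul]
  have h4 : i.ker ^ (j * n) = ⊥ := le_bot_iff.1 (hI ▸ MultCurve.ker_pow_anti i (Nat.le_mul_of_pos_left n hj))
  rw [h4, Scheme.IdealSheafData.comap_bot]

end Groth.Agent.S18349
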