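import Groth.Statements.S18353
import Groth.Agent.Curv2.K96.NormalGen
import Groth.Agent.Ega3B.NormalBirational
import Groth.Agent.Ega1.GenPts
import Groth.Agent.S1340

set_option autoImplicit false
universe u
open Curv2

namespace Groth.Agent.S18353

open AlgebraicGeometry CategoryTheory in
theorem isIntegral_total {S C : Scheme.{u}} [IsIntegral S] [IsNoetherian S]
    (hS : Pi1.IsNormalScheme S) (f : C ⟶ S) [Flat f] [IsProper f] [LocallyOfFinitePresentation f]
    [GeometricallyReduced f] [GeometricallyConnected f]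
    (hdim : ∀ s : ↥S, topologicalKrullDim ↥(f.fiber s) = 1)
    (hsm : Smooth (f.fiberToSpecResidueField (genericPoint ↥S))) : IsIntegral C := by
  have hN : IsLocallyNoetherian C := LocallyOfFiniteType.isLocallyNoetherian f
  have hn := Groth.Agent.Curv2.K96.NormalGen.normal_of_smooth_generic hS f (fun s => (hdim s).le) hsm
  rw [Groth.Agent.Ega1.GenPts.isIntegral_iff]
  refine ⟨GeometricallyConnected.connectedSpace f f.isOpenMap, fun x => (hn x).1⟩

open AlgebraicGeometry CategoryTheory in
theorem gen_of_iso {X Y : Scheme.{u}} [IsIntegral X] [IsIntegral Y] (φ : X ⟶ Y) (U : Y.Opens)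
    (hU : Dense (U : Set ↥Y)) [IsIso (φ ∣_ U)] :
    φ (genericPoint X) = genericPoint Y ∧ IsIso (φ.stalkMap (genericPoint X)) := by
  have hne : (U : Set ↥Y).Nonempty := hU.nonempty
  have hgU : genericPoint ↥Y ∈ U :=
    ((genericPoint_spec ↥Y).mem_open_set_iff U.isOpen).mpr (by simpa using hne)
  -- a point of `X` over the generic point
  have hsurj : ∃ x : X, φ x = genericPoint Y := by
    let y' : U.toScheme := ⟨genericPoint ↥Y, hgU⟩
    refine ⟨(φ ⁻¹ᵁ U).ι ((inv (φ ∣_ U)) y'), ?_⟩
    have h1 : (inv (φ ∣_ U) ≫ (φ ⁻¹ᵁ U).ι ≫ φ) y' = genericPoint Y := by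
      rw [← morphismRestrict_ι, IsIso.inv_hom_id_assoc]
      rfl
    exact h1
  obtain ⟨x, hx⟩ := hsurj
  have h1 : φ (genericPoint X) ⤳ genericPoint Y := by
    rw [← hx]
    exact (genericPoint_specializes x).map φ.continuous
  have hgen : φ (genericPoint X) = genericPoint Y :=
    (h1.antisymm (genericPoint_specializes _)).eq
  refine ⟨hgen, ?_⟩
  have hgX : genericPoint X ∈ φ ⁻¹ᵁ U := by
    change φ (genericPoint X) ∈ U
    rw [hgen]; exact hgU
  have h2 := (MorphismProperty.arrow_mk_iso_iff (MorphismProperty.isomorphisms CommRingCat)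
    (morphismRestrictStalkMap φ U ⟨genericPoint X, hgX⟩))
  exact h2.mp (inferInstanceAs (IsIso ((φ ∣_ U).stalkMap ⟨genericPoint X, hgX⟩)))

open CategoryTheory AlgebraicGeometry in
/-- Let S be an integral Noetherian scheme all of whose local rings are integrally closed domains, and
let f₁ : C₁ → S and f₂ : C₂ → S be flat, proper, locally finitely presented morphisms of schemes
whose fibres are geometrically reduced and geometrically connected, all of Krull dimension one, and
whose fibres over the generic point of S are smooth. Let φ : C₁ → C₂ be a morphism over S which is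
birational, in the sense that it restricts to an isomorphism over some dense open subset of C₂. Then
the canonical map O_{C₂} → φ_* O_{C₁} is an isomorphism: for every open V of C₂ the pull-back map
from sections over V to sections over φ⁻¹(V) is an isomorphism of rings. The total spaces are
schemes here; the source also allows algebraic spaces. -/
theorem result (S C₁ C₂ : Scheme.{u}) [IsIntegral S]
    [IsNoetherian S] (hS : Pi1.IsNormalScheme S) (f₁ : C₁ ⟶ S) (f₂ : C₂ ⟶ S)
    [Flat f₁] [IsProper f₁] [LocallyOfFinitePresentation f₁] [GeometricallyReduced f₁] [GeometricallyConnected f₁]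
    [Flat f₂] [IsProper f₂] [LocallyOfFinitePresentation f₂] [GeometricallyReduced f₂] [GeometricallyConnected f₂]
    (hdim₁ : ∀ s : ↥S, topologicalKrullDim ↥(f₁.fiber s) = 1) (hdim₂ : ∀ s : ↥S, topologicalKrullDim ↥(f₂.fiber s) = 1)
    (hsm₁ : Smooth (f₁.fiberToSpecResidueField (genericPoint ↥S)))
    (hsm₂ : Smooth (f₂.fiberToSpecResidueField (genericPoint ↥S)))
    (φ : C₁ ⟶ C₂) (hφ : φ ≫ f₂ = f₁) (hbir : ∃ U : C₂.Opens, Dense (U : Set ↥C₂) ∧ IsIso (φ ∣_ U)) :
    ∀ V : C₂.Opens, IsIso (φ.app V) := by
  have hI₁ := isIntegral_total hS f₁ hdim₁ hsm₁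
  have hI₂ := isIntegral_total hS f₂ hdim₂ hsm₂
  have hn₂ := Groth.Agent.Curv2.K96.NormalGen.normal_of_smooth_generic hS f₂
    (fun s => (hdim₂ s).le) hsm₂
  obtain ⟨U, hU, hiso⟩ := hbir
  have hprop : IsProper φ := by
    have : IsProper (φ ≫ f₂) := hφ ▸ inferInstance
    exact IsProper.of_comp φ f₂
  obtain ⟨hgen, hst⟩ := gen_of_iso φ U hU
  have h1 : IsIso φ.fromNormalization :=
    Groth.Agent.Ega3B.NormalBirational.isIso_fromNormalization (fun y => (hn₂ y).2) φ hgen hst
  intro V
  have h2 := Groth.Agent.S1340.result φ (φ.fromNormalization ⁻¹ᵁ V)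
  have h4 : (φ.toNormalization ≫ φ.fromNormalization).app V =
      φ.fromNormalization.app V ≫ φ.toNormalization.app _ := Scheme.Hom.comp_app _ _ _
  have h5 : IsIso ((φ.toNormalization ≫ φ.fromNormalization).app V) := by
    rw [h4]
    have h7 : IsIso (φ.fromNormalization.app V) := inferInstance
    exact IsIso.comp_isIso' h7 h2
  rw [Scheme.Hom.toNormalization_fromNormalization] at h5
  exact h5

end Groth.Agent.S18353
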