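-- S18354: very ample invertible modules of uniformly bounded degree on reduced connected curves.
import Groth.Statements.S18354
import Groth.Agent.Curves.K46.PtsBundle
import Groth.Agent.Curves.K326.SemiMain

set_option autoImplicit false
universe u
open Curves

namespace Groth.Agent.S18354

open CategoryTheory CategoryTheory.Limits AlgebraicGeometry in
/-- For all natural numbers g and e there is a natural number D with the following property. For every
algebraically closed field k and every reduced, connected scheme X proper over k, of Krull dimension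
one, with finitely many and at most e irreducible components and with dim_k H^1(X, O_X) = g, there
is an invertible O_X-module L of degree at most D with H^1(X, L) = 0, together with a closed
immersion i of X into some projective space P^m_k over k with i^* O(1) ≅ L. The source phrases the
conclusion as the existence of an embedding of degree at most D and reduces it to this form at the
start of its proof; its genus is the arithmetic genus 1 − χ(O_X), which equals dim_k H^1(X, O_X) for
X reduced, connected and proper over an algebraically closed field. -/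
theorem result (g e : ℕ) :
    ∃ D : ℕ, ∀ (k : Type u) [Field k] [IsAlgClosed k] (X : Scheme.{u}) [X.Over (Spec (CommRingCat.of k))]
      [IsProper (X ↘ Spec (CommRingCat.of k))] [IsReduced X] [ConnectedSpace ↥X],
      topologicalKrullDim ↥X = 1 → (irreducibleComponents (↥X : Type u)).Finite →
      (irreducibleComponents (↥X : Type u)).ncard ≤ e → Curv2.genus k X = g →
      ∃ L : X.Modules, PicF.IsInvertible L ∧ Curv2.deg k X L 1 ≤ (D : ℤ) ∧ Subsingleton (Coh.HH X L 1) ∧
        ∃ (m : ℕ) (i : X ⟶ CohB1.ProjSpace m k), IsClosedImmersion i ∧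
          i ≫ CohB1.ProjSpace.toSpec m k = X ↘ Spec (CommRingCat.of k) ∧
          Nonempty ((Scheme.Modules.pullback i).obj (Twist.twistProjSpace m k 1) ≅ L) := by
  refine ⟨(2 * g + 1) * e, ?_⟩
  intro k _ _ X _ _ _ _ hdim hfin hcard hg
  have hN0 := CurvesC.CurveCoh.noetherianSpace k X
  have hpure := CurvesC.TailMain.pure_of_connected X hdim
  obtain ⟨n, p, hn, hp, hC⟩ := Curves.K46.PtsBundle.exists_pts k X hfin
  obtain ⟨N, hN⟩ := Models.H68.Main.exists_inverse (Curves.K46.PtsBundle.isEff k hdim.le hpure hp)
  have hNi := (Dix.IdealModCartier.isInvertible_of_isInverseOf hN).1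
  have hL := Curves.K46.PtsBundle.isInvertible_twPow hNi (2 * g + 1)
  have hvan := Curves.K46.PtsBundle.subsingleton_H1 k X hdim hp hC N hN (2 * g + 1) (by rw [hg])
  refine ⟨Curves.K46.PtsBundle.twPow N (2 * g + 1), hL, ?_, ?_, ?_⟩
  · rw [Curves.K46.PtsBundle.deg_twPow k X hdim hp N hN]
    have h1 : (n : ℤ) ≤ e := by exact_mod_cast hn.trans hcard
    push_cast
    exact mul_le_mul_of_nonneg_left h1 (by positivity)
  · have h0 : ((⊤ : X.IdealSheafData).support : Set X) = ∅ := by
      rw [Scheme.IdealSheafData.support_top]; rfl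
    have hZ : topologicalKrullDim (((⊤ : X.IdealSheafData).support : Set X) : Type u) ≤ 0 := by
      rw [h0]
      have h2 : IsEmpty (TopologicalSpace.IrreducibleCloseds ((∅ : Set X) : Type u)) :=
        ⟨fun Z => (Z.isIrreducible.1.some).2⟩
      exact (Order.krullDim_eq_bot (α := TopologicalSpace.IrreducibleCloseds _)).le.trans bot_le
    have h1 := hvan ⊤ (by rw [h0]; exact Set.finite_empty) hZ
      (by rw [K326.SemiMain.finrank_quotMod_top k X]; exact Nat.zero_le _)
    obtain ⟨e0⟩ := K326.SemiMain.idealMod_top X
    have e1 : CohB1.tensorMod (ClSub.idealMod (⊤ : X.IdealSheafData))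
        (Curves.K46.PtsBundle.twPow N (2 * g + 1)) ≅ Curves.K46.PtsBundle.twPow N (2 * g + 1) :=
      Ega2.Tens.mapTIso e0.symm (Iso.refl _) ≪≫ Ega2.Tens.lunit _
    exact (CurvesA.HHMap.equivOver k e1 1).symm.toEquiv.subsingleton
  · let f := X ↘ Spec (CommRingCat.of k)
    have H : IsPullback (𝟙 X) f f (Spec.map (CommRingCat.ofHom (algebraMap k k))) := by
      have h1 : Spec.map (CommRingCat.ofHom (algebraMap k k)) = 𝟙 _ := by
        rw [← Spec.map_id]; rfl
      rw [h1]
      exact IsPullback.of_horiz_isIso ⟨by simp⟩
    let eL : (Scheme.Modules.pullback (𝟙 X)).obj (Curves.K46.PtsBundle.twPow N (2 * g + 1)) ≅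
        Curves.K46.PtsBundle.twPow N (2 * g + 1) :=
      (Scheme.Modules.pullbackId X).app (Curves.K46.PtsBundle.twPow N (2 * g + 1))
    have hM : PicF.IsInvertible ((Scheme.Modules.pullback (𝟙 X)).obj (Curves.K46.PtsBundle.twPow N (2 * g + 1))) :=
      Fdesc.LocGen.isInvertible_pullback _ hL
    have hV : CurvesB.SepPoints.VanShort k X
        ((Scheme.Modules.pullback (𝟙 X)).obj (Curves.K46.PtsBundle.twPow N (2 * g + 1))) := by
      intro Z hZf _ hZ hle
      have h1 := hvan Z hZf hZ hle
      exact (CurvesA.HHMap.equivOver k (Ega2.Tens.mapTIso (Iso.refl _) eL) 1).toEquiv.subsingleton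
    refine CurvesB.VeryAmple.of_separates H hL ⟨?_, ?_, ?_⟩
    · intro y hy
      obtain ⟨s, hs, -⟩ := CurvesB.SepPoints.exists_sec_points _ hM hV y y hy hy
      exact ⟨s, hs⟩
    · intro x y hx hy hne
      obtain ⟨s, hs, h⟩ := CurvesB.SepPoints.exists_sec_points _ hM hV x y hx hy
      exact ⟨s, h hne, hs⟩
    · intro y hy I hI
      exact CurvesB.SepPoints.exists_sec_tangent _ hM hV y hy I hI

end Groth.Agent.S18354
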