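import Groth.Statements.S18355
import Groth.Agent.CurvSt.K903.StdCurves

set_option autoImplicit false
universe u
open CurvSt

namespace Groth.Agent.S18355

open CategoryTheory AlgebraicGeometry in
/-- Let S be a scheme and consider the category over schemes over S whose objects over T are the proper,
flat, finitely presented morphisms X → T from an algebraic space X over S all of whose geometric
fibres (realised as schemes over algebraically closed fields) have Krull dimension one, with
cartesian squares as morphisms — inside the category of families of curves (algebraic-space total
space, flat, proper, of finite presentation, relative dimension at most one) the full subcategory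
cut out by that fibre condition. Then this category is an algebraic stack for the etale topology,
its structure functor to schemes over S is locally of finite type (on some smooth chart square with
surjective source chart the chart morphism is locally of finite type), and its diagonal over S is
representable by algebraic spaces, quasi-compact and separated. The source works over the spectrum
of the integers; over a base scheme S the statement is its base change. -/
theorem result (S : Scheme.{u}) :
    AlgSt.IsAlgStack Scheme.etalePrecoverage (AlgSt.fullSub (CurvSt.Curves S 0) (fun A => CurvSt.GeomFib (fun _ _ _ X' _ _ => topologicalKrullDim ↥X' = 1) A.obj)) ∧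
      AlgSt.LocQ (AlgSp.LocP @LocallyOfFiniteType) (FibCat.toSelf (AlgSt.fullSub (CurvSt.Curves S 0) (fun A => CurvSt.GeomFib (fun _ _ _ X' _ _ => topologicalKrullDim ↥X' = 1) A.obj))) ∧
      AlgSt.RepByAlgSpWith (AlgSp.IsQuasiCompactMor ⊓ AlgSp.IsSeparatedMor)
        (FibCat.diag (FibCat.toSelf (AlgSt.fullSub (CurvSt.Curves S 0) (fun A => CurvSt.GeomFib (fun _ _ _ X' _ _ => topologicalKrullDim ↥X' = 1) A.obj)))) :=
  K903.StdCurves.main S 0 (K903.StdCurves.hasOpenLocus_dimOne S 0)

end Groth.Agent.S18355
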