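import Groth.Statements.S18356
import Groth.Agent.CurvSt.K903.StdCurves

set_option autoImplicit false
universe u
open CurvSt

namespace Groth.Agent.S18356

open CategoryTheory AlgebraicGeometry in
/-- Let S be a scheme and g, n natural numbers, and consider the category over schemes over S whose
objects over T are the proper, flat, finitely presented morphisms X → T from an algebraic space X
over S together with n sections, all of whose geometric fibres (realised as schemes over
algebraically closed fields) are reduced, connected, of Krull dimension one and of genus g, with
cartesian squares compatible with the sections as morphisms — a full subcategory of the category of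
n-pointed families of curves. Then this category is an algebraic stack for the etale topology, its
structure functor to schemes over S is locally of finite type (on some smooth chart square with
surjective source chart the chart morphism is locally of finite type), and its diagonal over S is
representable by algebraic spaces, quasi-compact and separated. The genus is read as the dimension
of the first cohomology of the structure sheaf of the geometric fibre, which for a reduced connected
proper curve over an algebraically closed field is the arithmetic genus of the source. The source
works over the spectrum of the integers; over a base scheme S the statement is its base change. -/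
theorem result (S : Scheme.{u}) (g n : ℕ) :
    AlgSt.IsAlgStack Scheme.etalePrecoverage (AlgSt.fullSub (CurvSt.Curves S n) (fun A => CurvSt.GeomFib (fun _ _ _ X' _ _ =>
        IsReduced X' ∧ ConnectedSpace ↥X' ∧ topologicalKrullDim ↥X' = 1) A.obj ∧ CurvSt.SpHasGenus A.obj g)) ∧
      AlgSt.LocQ (AlgSp.LocP @LocallyOfFiniteType) (FibCat.toSelf (AlgSt.fullSub (CurvSt.Curves S n) (fun A => CurvSt.GeomFib (fun _ _ _ X' _ _ =>
        IsReduced X' ∧ ConnectedSpace ↥X' ∧ topologicalKrullDim ↥X' = 1) A.obj ∧ CurvSt.SpHasGenus A.obj g))) ∧
      AlgSt.RepByAlgSpWith (AlgSp.IsQuasiCompactMor ⊓ AlgSp.IsSeparatedMor)
        (FibCat.diag (FibCat.toSelf (AlgSt.fullSub (CurvSt.Curves S n) (fun A => CurvSt.GeomFib (fun _ _ _ X' _ _ =>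
        IsReduced X' ∧ ConnectedSpace ↥X' ∧ topologicalKrullDim ↥X' = 1) A.obj ∧ CurvSt.SpHasGenus A.obj g)))) :=
  K903.StdCurves.main S n (K903.StdCurves.hasOpenLocus_redConn_genus S n g)

end Groth.Agent.S18356
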