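import Groth.Statements.S18357
import Groth.Agent.CurvSt.K898.CompStack
import Groth.Agent.CurvSt.K898.StdCurves
import Groth.Agent.S18354

set_option autoImplicit false
universe u
open CurvSt

namespace Groth.Agent.S18357

open CategoryTheory AlgebraicGeometry in
/-- Let S be a quasi-compact scheme and g, n, e natural numbers, and consider the category over schemes
over S whose objects over T are the proper, flat, finitely presented morphisms X → T from an
algebraic space X over S together with n sections, all of whose geometric fibres (realised as
schemes over algebraically closed fields) are reduced, connected, of Krull dimension one, have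
finitely many and at most e irreducible components, and have genus g, with cartesian squares
compatible with the sections as morphisms. Then this category is an algebraic stack for the etale
topology which is quasi-compact (there is a smooth surjective morphism onto it from an affine
scheme), whose structure functor to schemes over S is locally of finite type (on some smooth chart
square with surjective source chart the chart morphism is locally of finite type), and whose
diagonal over S is representable by algebraic spaces, quasi-compact and separated. The genus is read
as the dimension of the first cohomology of the structure sheaf of the geometric fibre, the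
arithmetic genus for such fibres. The source states this over the spectrum of the integers as being
of finite type with quasi-compact separated diagonal; quasi-compactness of the base S stands in for
that of the base there. -/
theorem result (S : Scheme.{u}) [CompactSpace ↥S]
    (g n e : ℕ) :
    AlgSt.IsAlgStack Scheme.etalePrecoverage (AlgSt.fullSub (CurvSt.Curves S n) (fun A => CurvSt.GeomFib (fun _ _ _ X' _ _ =>
        IsReduced X' ∧ ConnectedSpace ↥X' ∧ topologicalKrullDim ↥X' = 1 ∧
          (irreducibleComponents (↥X' : Type u)).Finite ∧ (irreducibleComponents (↥X' : Type u)).ncard ≤ e) A.obj ∧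
        CurvSt.SpHasGenus A.obj g)) ∧
      AlgSt.IsQuasiCompact (AlgSt.fullSub (CurvSt.Curves S n) (fun A => CurvSt.GeomFib (fun _ _ _ X' _ _ =>
        IsReduced X' ∧ ConnectedSpace ↥X' ∧ topologicalKrullDim ↥X' = 1 ∧
          (irreducibleComponents (↥X' : Type u)).Finite ∧ (irreducibleComponents (↥X' : Type u)).ncard ≤ e) A.obj ∧
        CurvSt.SpHasGenus A.obj g)) ∧
      AlgSt.LocQ (AlgSp.LocP @LocallyOfFiniteType) (FibCat.toSelf (AlgSt.fullSub (CurvSt.Curves S n) (fun A => CurvSt.GeomFib (fun _ _ _ X' _ _ =>
        IsReduced X' ∧ ConnectedSpace ↥X' ∧ topologicalKrullDim ↥X' = 1 ∧
          (irreducibleComponents (↥X' : Type u)).Finite ∧ (irreducibleComponents (↥X' : Type u)).ncard ≤ e) A.obj ∧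
        CurvSt.SpHasGenus A.obj g))) ∧
      AlgSt.RepByAlgSpWith (AlgSp.IsQuasiCompactMor ⊓ AlgSp.IsSeparatedMor)
        (FibCat.diag (FibCat.toSelf (AlgSt.fullSub (CurvSt.Curves S n) (fun A => CurvSt.GeomFib (fun _ _ _ X' _ _ =>
        IsReduced X' ∧ ConnectedSpace ↥X' ∧ topologicalKrullDim ↥X' = 1 ∧
          (irreducibleComponents (↥X' : Type u)).Finite ∧ (irreducibleComponents (↥X' : Type u)).ncard ≤ e) A.obj ∧
        CurvSt.SpHasGenus A.obj g)))) := by
  exact K898.CompStack.main g e (Groth.Agent.S18354.result g e) S
    (fun _ A => K902.EtSchFin.etLocSch A.property) (K898.StdCurves.std S n)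

end Groth.Agent.S18357
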