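import Groth.Statements.S18358
import Groth.Agent.Curv2.K96.ContrGeo
import Groth.Agent.Curv2.K96.ContrField
import Groth.Agent.Sga7.H591.GeoFib
import Groth.Agent.CurvesB.NodalDescent
-- import your own Groth.Agent.* helpers here

set_option autoImplicit false
universe u
open Curv2

namespace Groth.Agent.S18358

section

open CategoryTheory CategoryTheory.Limits AlgebraicGeometry

/-- At-worst-nodal families over the spectrum of a field are at-worst-nodal curves. -/
theorem atWorstNodal_of_family {k : Type u} [Field k] {X : Scheme.{u}} (p : X ⟶ Spec (CommRingCat.of k))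
    (hp : Curv2.IsNodalFamily p) : @Curv2.AtWorstNodal k _ X ⟨p⟩ := by
  let s : ↥(Spec (CommRingCat.of k)) := IsLocalRing.closedPoint k
  obtain ⟨φ, hφ⟩ := Spec.map_surjective ((Spec (CommRingCat.of k)).fromSpecResidueField s)
  let _ : Algebra k ((Spec (CommRingCat.of k)).residueField s) := φ.hom.toAlgebra
  have H : IsPullback (p.fiberι s) (p.fiberToSpecResidueField s) p
      (Spec.map (CommRingCat.ofHom (algebraMap k ((Spec (CommRingCat.of k)).residueField s)))) := by
    have H0 : IsPullback (p.fiberι s) (p.fiberToSpecResidueField s) p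
      ((Spec (CommRingCat.of k)).fromSpecResidueField s) := IsPullback.of_hasPullback _ _
    rw [← hφ] at H0
    exact H0
  let _ : X.Over (Spec (CommRingCat.of k)) := ⟨p⟩
  let _ : (p.fiber s).Over (Spec (CommRingCat.of ((Spec (CommRingCat.of k)).residueField s))) :=
    ⟨p.fiberToSpecResidueField s⟩
  have hlfp : LocallyOfFinitePresentation (X ↘ Spec (CommRingCat.of k)) := hp.2.1
  exact Groth.Agent.CurvesB.NodalDescent.atWorstNodal_of_isPullback k ((Spec (CommRingCat.of k)).residueField s)
    (p.fiberι s) H (Groth.Agent.Sga7.H591.GeoFib.pure p hp) (hp.2.2 s).2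

end

open CategoryTheory CategoryTheory.Limits AlgebraicGeometry in
/-- Let S be an integral Noetherian scheme all of whose local rings are integrally closed domains; let
π₁ : X → S be proper with geometrically connected fibres and at-worst-nodal of relative dimension
one (flat, locally of finite presentation, every fibre a curve with at-worst-nodal singularities),
and π₂ : Y → S flat, proper, locally of finite presentation, with geometrically reduced and
geometrically connected fibres all of Krull dimension one; assume both fibres over the generic point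
of S are smooth, and let φ : X → Y be a morphism over S which restricts to an isomorphism over some
dense open subset of Y. Then for every algebraically closed field Ω, every point t : Spec Ω → S and
all cartesian squares realising the fibres X_t and Y_t as schemes over Ω, the induced morphism φ_t :
X_t → Y_t is a contraction of curves. Here a morphism c : C → D of curves over Ω is called a
contraction (the source's notion) when, first, c is surjective with connected fibres; second,
writing E ⊆ C for the union of those irreducible components of C that c maps to a single point, the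
restriction of c to the open complement of E is an open immersion; and third, for every connected
component Z of E, with p the point c(Z), the number of branches m(p) of D at p equals the number of
points of Z lying in the closure of C ∖ Z, and δ(p) + 1 = p_a(Z) + m(p), where δ(p) is the
δ-invariant of the local ring of D at p and p_a(Z) = dim_Ω H^1(Z, O_Z) for the reduced closed
subscheme structure on Z (so the singularity p has genus δ(p) − m(p) + 1 = p_a(Z)). The total spaces
are schemes here; the source also allows algebraic spaces. -/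
theorem result (S X Y : Scheme.{u}) [IsIntegral S]
    [IsNoetherian S] (hS : Pi1.IsNormalScheme S) (π₁ : X ⟶ S) (π₂ : Y ⟶ S)
    (hX : Curv2.IsNodalFamily π₁) [IsProper π₁] [GeometricallyConnected π₁]
    [Flat π₂] [IsProper π₂] [LocallyOfFinitePresentation π₂] [GeometricallyReduced π₂] [GeometricallyConnected π₂]
    (hdimY : ∀ s : ↥S, topologicalKrullDim ↥(π₂.fiber s) = 1)
    (hsm₁ : Smooth (π₁.fiberToSpecResidueField (genericPoint ↥S)))
    (hsm₂ : Smooth (π₂.fiberToSpecResidueField (genericPoint ↥S)))
    (φ : X ⟶ Y) (hφ : φ ≫ π₂ = π₁) (hbir : ∃ U : Y.Opens, Dense (U : Set ↥Y) ∧ IsIso (φ ∣_ U))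
    (Ω : Type u) [Field Ω] [IsAlgClosed Ω] (t : Spec (CommRingCat.of Ω) ⟶ S)
    (Xt Yt : Scheme.{u}) (iX : Xt ⟶ X) (qX : Xt ⟶ Spec (CommRingCat.of Ω)) (iY : Yt ⟶ Y)
    (qY : Yt ⟶ Spec (CommRingCat.of Ω)) (hXt : IsPullback iX qX π₁ t) (hYt : IsPullback iY qY π₂ t)
    (φt : Xt ⟶ Yt) (hφt₁ : φt ≫ iY = iX ≫ φ) (hφt₂ : φt ≫ qY = qX) :
    let E : Set ↥Xt := ⋃₀ {Z : Set ↥Xt | Z ∈ irreducibleComponents (↥Xt : Type u) ∧ (φt.base '' Z).Subsingleton}
    Function.Surjective φt.base ∧ (∀ y : ↥Yt, _root_.IsPreconnected (φt.base ⁻¹' {y})) ∧
      IsOpenImmersion (Scheme.Opens.ι (⟨(closure E)ᶜ, isClosed_closure.isOpen_compl⟩ : Xt.Opens) ≫ φt) ∧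
      ∀ x ∈ E,
        Brnch.numBranchesAt Yt (φt.base x) =
            (connectedComponentIn E x ∩ closure (connectedComponentIn E x)ᶜ).encard ∧
          Curv2.deltaInv (Yt.presheaf.stalk (φt.base x)) + 1 =
            ((@Curv2.genus Ω _
                (Scheme.IdealSheafData.vanishingIdeal
                    (⟨closure (connectedComponentIn E x), isClosed_closure⟩ : TopologicalSpace.Closeds ↥Xt)).subscheme
                ⟨(Scheme.IdealSheafData.vanishingIdeal
                    (⟨closure (connectedComponentIn E x), isClosed_closure⟩ : TopologicalSpace.Closeds ↥Xt)).subschemeι ≫ qX⟩ : ℕ) : ℕ∞) +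
              Brnch.numBranchesAt Yt (φt.base x) := by
  have hred : GeometricallyReduced π₁ := Groth.Agent.Sga7.H591.GeoFib.geometricallyReduced π₁ hX
  have hfl : Flat π₁ := hX.1
  have hlfp : LocallyOfFinitePresentation π₁ := hX.2.1
  have hdim₁ : ∀ s : ↥S, topologicalKrullDim ↥(π₁.fiber s) = 1 := fun s =>
    Groth.Agent.CurvesB.FibreBC.topologicalKrullDim_eq_one (hX.2.2 s).1
  obtain ⟨hsurj, hconn, hcount⟩ := Groth.Agent.Curv2.K96.ContrGeo.part_one S X Y hS π₁ π₂ hdim₁ hdimY hsm₁ hsm₂ φ hφ hbir
    Ω t Xt Yt iX qX iY qY hXt hYt φt hφt₁ hφt₂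
  have hqX : Curv2.IsNodalFamily qX := Groth.Agent.Sga7.H591.GeoFib.isNodalFamily_of_isPullback π₁ hX qX iX t hXt
  have hnod := atWorstNodal_of_family qX hqX
  have hXr : IsReduced Xt := Groth.Agent.Sga7.H591.GeoFib.isReduced qX hqX
  have hXc : ConnectedSpace Xt := GeometricallyConnected.geometrically_connectedSpace t iX qX hXt
  have hXd : topologicalKrullDim Xt ≤ 1 :=
    (Groth.Agent.CurvesB.FibreBC.topologicalKrullDim_eq_one (Groth.Agent.Sga7.H591.GeoFib.pure qX hqX)).le
  have hYr : IsReduced Yt := GeometricallyReduced.geometrically_isReduced t iY qY hYt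
  have hYd : topologicalKrullDim Yt = 1 := by
    rw [Groth.Agent.Flat2G.ProperDim.topologicalKrullDim_field_point π₂ (Field.toIsField Ω) qY iY t hYt
      (IsLocalRing.closedPoint Ω)]
    exact hdimY _
  have hpX : IsProper qX := MorphismProperty.of_isPullback hXt inferInstance
  have hpY : IsProper qY := MorphismProperty.of_isPullback hYt inferInstance
  exact ⟨hsurj, hconn, Groth.Agent.Curv2.K96.ContrField.field_result qX qY φt hφt₂ hnod hXd hYd hsurj hconn hcount⟩

end Groth.Agent.S18358
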