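import Groth.Statements.S18360
import Groth.Agent.Alter.K955.FinCover

set_option autoImplicit false
universe u
open CategoryTheory CategoryTheory.Limits AlgebraicGeometry
open Alter

namespace Groth.Agent.S18360

/-- Let Y be a Noetherian scheme, i : F ⟶ Y a closed immersion and s : F' ⟶ F a finite surjective
morphism. Then there are a scheme Y' and a finite surjective morphism g : Y' ⟶ Y such that every
irreducible component of F ×_Y Y', with its reduced closed-subscheme structure, is the source of an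
F-morphism to F': for every reduced scheme G and every closed immersion ι : G ⟶ F ×_Y Y' whose image
is an irreducible component, there is φ : G ⟶ F' with φ ≫ s = ι ≫ pr₁. -/
theorem result {Y F F' : Scheme.{u}} [IsNoetherian Y]
    (i : F ⟶ Y) [IsClosedImmersion i] (s : F' ⟶ F) [IsFinite s] [Surjective s] :
    ∃ (Y' : Scheme.{u}) (g : Y' ⟶ Y), IsFinite g ∧ Surjective g ∧
      ∀ (G : Scheme.{u}) (ι : G ⟶ pullback i g) [IsClosedImmersion ι] [AlgebraicGeometry.IsReduced G],
        Set.range ι.base ∈ irreducibleComponents ↥(pullback i g) →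
          ∃ φ : G ⟶ F', φ ≫ s = ι ≫ pullback.fst i g := by
  obtain ⟨Y', g, hg1, hg2, hg3⟩ := K955.FinCover.exists_cover (s ≫ i)
  refine ⟨Y', g, hg1, hg2, ?_⟩
  intro G ι _ _ hι
  have hirr : IrreducibleSpace G := by
    have h1 : IsIrreducible (Set.range ι.base) := hι.1
    have h2 : IsPreirreducible (Set.univ : Set G) := by
      intro u v hu hv hu' hv'
      obtain ⟨x, -, hx⟩ := hu'
      obtain ⟨y, -, hy⟩ := hv'
      obtain ⟨u', hu1, rfl⟩ := ι.isClosedEmbedding.isEmbedding.isInducing.isOpen_iff.mp hu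
      obtain ⟨v', hv1, rfl⟩ := ι.isClosedEmbedding.isEmbedding.isInducing.isOpen_iff.mp hv
      obtain ⟨_, ⟨z, rfl⟩, hz1, hz2⟩ := h1.2 u' v' hu1 hv1 ⟨_, ⟨x, rfl⟩, hx⟩ ⟨_, ⟨y, rfl⟩, hy⟩
      exact ⟨z, trivial, hz1, hz2⟩
    have : PreirreducibleSpace G := ⟨h2⟩
    obtain ⟨_, x, rfl⟩ := h1.1
    exact ⟨⟨x⟩⟩
  have := isIntegral_of_irreducibleSpace_of_isReduced G
  obtain ⟨L, _, _, ξ, hξ⟩ := K955.FinCover.exists_geometric_point G
  obtain ⟨σ₀, hσ₀⟩ := K955.FinCover.exists_section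
    (pullback.snd s (ξ ≫ ι ≫ pullback.fst i g))
  have hσ : (σ₀ ≫ pullback.fst s (ξ ≫ ι ≫ pullback.fst i g)) ≫ s ≫ i =
      ξ ≫ (ι ≫ pullback.snd i g) ≫ g := by
    rw [Category.assoc, pullback.condition_assoc, reassoc_of% hσ₀]
    simp only [Category.assoc, pullback.condition]
  obtain ⟨φ, hφ⟩ := K955.FinCover.exists_lift (s ≫ i) ((ι ≫ pullback.snd i g) ≫ g) ξ _ hσ (by
    intro y
    obtain ⟨U, hU, hy, P, hP1, hP2⟩ := hg3 y
    exact ⟨U, hU, hy, P, hP1, hP2.comp (ι ≫ pullback.snd i g) g⟩)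
  refine ⟨φ, ?_⟩
  rw [← cancel_mono i, Category.assoc, hφ]
  simp only [Category.assoc, pullback.condition]

end Groth.Agent.S18360
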