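import Groth.Statements.S18361
import Groth.Agent.EtPBC.K349.QuasiSec
import Groth.Agent.EtPBC.K349.FLCOpenDesc
import Groth.Agent.EtpbcA.PullFLC
import Mathlib.AlgebraicGeometry.Limits
import Mathlib.AlgebraicGeometry.Morphisms.Immersion

set_option autoImplicit false
universe u v
open CategoryTheory CategoryTheory.Limits AlgebraicGeometry
open EtPBC

namespace Groth.Agent.S18361

/-- Let q : X' ⟶ X be a surjective morphism locally of finite type between Noetherian schemes (hence of
finite type) and let (F k) be any family of abelian sheaves on the small étale site of X. Suppose X'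
carries one finite stratification adapted to the whole pulled-back family: finitely many immersions
g i : T i ⟶ X' with pairwise disjoint images covering X', such that each q⁻¹(F k) pulled back along
each g i is finite locally constant. Then X carries a finite stratification by immersions with
pairwise disjoint images covering X along each of which every F k becomes finite locally constant.
The published statement is an equivalence; this row states only the implication from X' to X. -/
theorem result {X' X : Scheme.{u}}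
    [IsNoetherian X] [IsNoetherian X'] (q : X' ⟶ X) [Surjective q] [LocallyOfFiniteType q]
    {ι : Type v} (F : ι → EtCoh.Ab X) {n : ℕ} (T : Fin n → Scheme.{u}) (g : ∀ i, T i ⟶ X')
    [∀ i, IsImmersion (g i)]
    (hdisj : Pairwise fun i j => Disjoint (Set.range (g i).base) (Set.range (g j).base))
    (hcov : (⋃ i, Set.range (g i).base) = Set.univ)
    (hF : ∀ k i, EtCoh.IsFiniteLocallyConstant ((EtCoh.pull (g i)).obj ((EtCoh.pull q).obj (F k)))) :
    ∃ (m : ℕ) (T₀ : Fin m → Scheme.{u}) (g₀ : ∀ j, T₀ j ⟶ X),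
      (∀ j, IsImmersion (g₀ j)) ∧
      Pairwise (fun j j' => Disjoint (Set.range (g₀ j).base) (Set.range (g₀ j').base)) ∧
      (⋃ j, Set.range (g₀ j).base) = Set.univ ∧
      ∀ k j, EtCoh.IsFiniteLocallyConstant ((EtCoh.pull (g₀ j)).obj (F k)) := by
  let f : (∐ T) ⟶ X := Sigma.desc fun i => g i ≫ q
  have h3 : ∀ i : Fin n, LocallyOfFiniteType (g i ≫ q) := fun i => inferInstance
  have hlft : LocallyOfFiniteType f := by
    have hloc : IsZariskiLocalAtSource @LocallyOfFiniteType :=
      HasRingHomProperty.instIsZariskiLocalAtSource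
    rw [IsZariskiLocalAtSource.iff_of_openCover (P := @LocallyOfFiniteType) (sigmaOpenCover T)]
    intro i
    have h1 : (sigmaOpenCover T).f i ≫ f = g i ≫ q := Sigma.ι_desc _ _
    rw [h1]
    exact h3 i
  have hfp : LocallyOfFinitePresentation f :=
    LocallyOfFinitePresentation.iff_locallyOfFiniteType.2 hlft
  have hsurj : Surjective f := by
    constructor
    intro x
    obtain ⟨x', rfl⟩ := (inferInstance : Surjective q).surj x
    obtain ⟨i, t, rfl⟩ := Set.mem_iUnion.1 (hcov.symm ▸ Set.mem_univ x')
    refine ⟨Sigma.ι T i t, ?_⟩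
    have h1 : Sigma.ι T i ≫ f = g i ≫ q := Sigma.ι_desc _ _
    exact congrArg (fun (r : T i ⟶ X) => r t) h1
  obtain ⟨m, T₀, e, he, hdisj', hcov', hdata⟩ := K349.QuasiSec.exists_partition_quasiSection f
  refine ⟨m, T₀, e, fun j => (he j).1, hdisj', hcov', fun k j => ?_⟩
  obtain ⟨T', T'', hh, gg, s, ⟨_, _, _⟩, ⟨_, _, _, _, _⟩, w⟩ := hdata j
  refine K349.FLCOpenDesc.isFLC_of_pull _ fun x => ?_
  obtain ⟨x', rfl⟩ := (inferInstance : Surjective hh).surj x
  obtain ⟨x'', rfl⟩ := (inferInstance : Surjective gg).surj x'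
  obtain ⟨i, t, ht⟩ := (sigmaOpenCover T).exists_eq (s x'')
  obtain ⟨z, hz1, hz2⟩ := Scheme.Pullback.exists_preimage_pullback
    (f := s) (g := Sigma.ι T i) x'' t ht.symm
  refine ⟨pullback s (Sigma.ι T i), pullback.fst s (Sigma.ι T i) ≫ gg ≫ hh, inferInstance, z, ?_, ?_⟩
  · rw [Scheme.Hom.comp_apply, hz1]
    rfl
  · have h1 : pullback.snd s (Sigma.ι T i) ≫ g i ≫ q =
        (pullback.fst s (Sigma.ι T i) ≫ gg ≫ hh) ≫ e j := by
      rw [← Sigma.ι_desc (fun i => g i ≫ q) i, ← Category.assoc, ← pullback.condition,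
        Category.assoc]
      change _ ≫ s ≫ f = _
      rw [w]
      simp only [Category.assoc]
    refine Groth.Agent.EtpbcA.PullFLC.isFLC_of_iso
      ((Groth.Agent.EtpbcA.PullFLC.pullComp (pullback.fst s (Sigma.ι T i) ≫ gg ≫ hh) (e j)).app
        (F k)).symm ?_
    refine Groth.Agent.EtpbcA.PullFLC.isFLC_of_iso
      ((Groth.Agent.EtpbcA.PullFLC.pullCongr h1).app (F k)) ?_
    refine Groth.Agent.EtpbcA.PullFLC.isFLC_of_iso
      ((Groth.Agent.EtpbcA.PullFLC.pullComp (pullback.snd s (Sigma.ι T i)) (g i ≫ q)).app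
        (F k)) ?_
    exact Groth.Agent.EtpbcA.PullFLC.isFLC_pull _ _
      (Groth.Agent.EtpbcA.PullFLC.isFLC_of_iso
        ((Groth.Agent.EtpbcA.PullFLC.pullComp (g i) q).app (F k)) (hF k i))

end Groth.Agent.S18361
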