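import Groth.Statements.S18365
import Groth.Agent.CAlg.K93.Modif

set_option autoImplicit false
universe u
open CAlg

namespace Groth.Agent.S18365

/-- Let A be a Noetherian ring, π an element of A, (𝔓_i)_{i ∈ ι} an injective finite family listing
exactly the minimal prime ideals over (π), and M a finitely generated A-module on which π acts
injectively; put M̄ = M/πM. For T ⊆ ι let K(T) ⊆ M̄ be the submodule of elements whose image in the
localisation of M̄ at 𝔓_i vanishes for every i ∈ T, and N(T) ⊆ M its preimage; assume K(ι) = 0.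
Suppose that M̄ decomposes at Y, i.e. K(Y) + K(Yᶜ) = M̄, and that for a subset Z the module
N(Y)/πN(Y) decomposes at Z, i.e. its submodule of elements vanishing at every 𝔓_i (i ∈ Z) and its
submodule of elements vanishing at every 𝔓_i (i ∉ Z) together span it. Then M̄ decomposes at Z: K(Z)
+ K(Zᶜ) = M̄. (Geometric meaning: for a flat family of curves over a discrete valuation ring with
uniformizer π, I a torsion-free rank-one sheaf flat over the base, Y a subcurve of the special fibre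
X(s) at which I(s) decomposes and I^Y = ker(I → I(s)_Y): if I^Y(s) decomposes at a subcurve Z then
so does I(s); decomposition of a sheaf at Z is the surjectivity of I(s) → I(s)_Z ⊕ I(s)_{Z^c},
checked on stalks. Reducedness of the special fibre and rank one are not used.) -/
theorem result
    (A : Type u) [CommRing A] [IsNoetherianRing A] (π : A)
    (ι : Type) [Finite ι] (𝔓 : ι → Ideal A) [∀ i, (𝔓 i).IsPrime]
    (h𝔓 : ∀ i, 𝔓 i ∈ (Ideal.span {π}).minimalPrimes) (h𝔓inj : Function.Injective 𝔓)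
    (h𝔓surj : ∀ 𝔔 ∈ (Ideal.span {π}).minimalPrimes, ∃ i, 𝔓 i = 𝔔)
    (M : Type u) [AddCommGroup M] [Module A M] [Module.Finite A M]
    (hπ : ∀ m : M, π • m = 0 → m = 0)
    (K : Set ι → Submodule A (M ⧸ Ideal.span {π} • (⊤ : Submodule A M)))
    (hK : ∀ T : Set ι, K T = ⨅ i ∈ T, LinearMap.ker
      (LocalizedModule.mkLinearMap (𝔓 i).primeCompl (M ⧸ Ideal.span {π} • (⊤ : Submodule A M))))
    (htf : K Set.univ = ⊥)
    (N : Set ι → Submodule A M)
    (hN : ∀ T : Set ι, N T = (K T).comap (Submodule.mkQ (Ideal.span {π} • (⊤ : Submodule A M))))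
    (Y Z : Set ι) (hY : K Y ⊔ K Yᶜ = ⊤)
    (K' : Set ι → Submodule A (↥(N Y) ⧸ Ideal.span {π} • (⊤ : Submodule A ↥(N Y))))
    (hK' : ∀ T : Set ι, K' T = ⨅ i ∈ T, LinearMap.ker
      (LocalizedModule.mkLinearMap (𝔓 i).primeCompl (↥(N Y) ⧸ Ideal.span {π} • (⊤ : Submodule A ↥(N Y)))))
    (hZ : K' Z ⊔ K' Zᶜ = ⊤) :
    K Z ⊔ K Zᶜ = ⊤ := by
  have memN : ∀ (T : Set ι) (m : M), m ∈ N T ↔ ∀ i ∈ T, m ∈ K93.Modif.V π 𝔓 M i :=
    K93.Modif.mem_N K hK N hN
  have hpiN : ∀ (T : Set ι) (m : M), π • m ∈ N T := fun T m =>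
    (memN T _).2 fun i _ => K93.Modif.pi_smul_mem_V π 𝔓 i m
  -- the target in terms of `N`
  suffices h : ∀ m : M, ∃ a ∈ N Z, ∃ b ∈ N Zᶜ, a + b = m by
    rw [eq_top_iff]
    intro x _
    obtain ⟨m, rfl⟩ := Submodule.mkQ_surjective _ x
    obtain ⟨a, ha, b, hb, rfl⟩ := h m
    rw [hN] at ha hb
    rw [map_add]
    exact Submodule.add_mem _ (Submodule.mem_sup_left ha) (Submodule.mem_sup_right hb)
  -- Claim 1
  have claim1 : ∀ n : N Y, ∃ a b : N Y, a + b = n ∧ (∀ i ∈ Z, a ∈ K93.Modif.V π 𝔓 (N Y) i) ∧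
      (∀ i ∈ Zᶜ, b ∈ K93.Modif.V π 𝔓 (N Y) i) := by
    intro n
    have h1 : Submodule.mkQ (Ideal.span {π} • (⊤ : Submodule A ↥(N Y))) n ∈ K' Z ⊔ K' Zᶜ := by
      rw [hZ]; trivial
    obtain ⟨k1, hk1, k2, hk2, h2⟩ := Submodule.mem_sup.1 h1
    obtain ⟨a, rfl⟩ := Submodule.mkQ_surjective _ k1
    obtain ⟨b, rfl⟩ := Submodule.mkQ_surjective _ k2
    rw [hK', ← Submodule.mem_comap, K93.Modif.mem_comap_iInf] at hk1 hk2
    rw [← map_add, Submodule.mkQ_apply, Submodule.mkQ_apply, eq_comm, Submodule.Quotient.eq,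
      K93.Modif.mem_span_smul_top] at h2
    obtain ⟨y, hy⟩ := h2
    refine ⟨a + π • y, b, ?_, ?_, hk2⟩
    · rw [hy]
      abel
    · intro i hi
      exact Submodule.add_mem _ (hk1 i hi) (K93.Modif.pi_smul_mem_V π 𝔓 i y)
  -- decomposition of elements of `N Y`
  have claim1' : ∀ n ∈ N Y, ∃ a ∈ N Z, ∃ b ∈ N Zᶜ, a + b = n := by
    intro n hn
    obtain ⟨a, b, hab, ha, hb⟩ := claim1 ⟨n, hn⟩
    refine ⟨a, (memN _ _).2 fun i hi => K93.Modif.mem_V_of_mem_V_sub _ _ (ha i hi), b,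
      (memN _ _).2 fun i hi => K93.Modif.mem_V_of_mem_V_sub _ _ (hb i hi), ?_⟩
    exact congrArg Subtype.val hab
  -- decomposition from `hY`
  have claimY : ∀ m : M, ∃ a ∈ N Y, ∃ b ∈ N Yᶜ, a + b = m := by
    intro m
    have h1 : Submodule.mkQ (Ideal.span {π} • (⊤ : Submodule A M)) m ∈ K Y ⊔ K Yᶜ := by
      rw [hY]; trivial
    obtain ⟨k1, hk1, k2, hk2, h2⟩ := Submodule.mem_sup.1 h1
    obtain ⟨a, rfl⟩ := Submodule.mkQ_surjective _ k1
    obtain ⟨b, rfl⟩ := Submodule.mkQ_surjective _ k2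
    rw [← Submodule.mem_comap, ← hN] at hk1 hk2
    rw [← map_add, Submodule.mkQ_apply, Submodule.mkQ_apply, eq_comm, Submodule.Quotient.eq,
      K93.Modif.mem_span_smul_top] at h2
    obtain ⟨y, hy⟩ := h2
    refine ⟨a + π • y, Submodule.add_mem _ hk1 (hpiN _ _), b, hk2, ?_⟩
    rw [hy]
    abel
  -- pulling back through multiplication by `π`
  have claimV : ∀ (i : ι) (hi : i ∈ Y) (x : N Y) (a : M), π • a = x →
      x ∈ K93.Modif.V π 𝔓 (N Y) i → a ∈ K93.Modif.V π 𝔓 M i := by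
    intro i hi x a hxa hx
    rw [K93.Modif.mem_V] at hx
    obtain ⟨t, ht, y, hy⟩ := hx
    have h1 : π • (y : M) = π • (t • a) := by
      rw [smul_comm, hxa]
      exact congrArg Subtype.val hy
    have h2 : (y : M) = t • a := by
      rw [← sub_eq_zero]
      apply hπ
      rw [smul_sub, h1, sub_self]
    have h3 := (memN Y _).1 y.2 i hi
    rw [h2, K93.Modif.mem_V] at h3
    obtain ⟨t', ht', z, hz⟩ := h3
    rw [K93.Modif.mem_V]
    refine ⟨t' * t, ?_, z, by rw [hz, mul_smul]⟩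
    intro h
    rcases (inferInstance : (𝔓 i).IsPrime).mem_or_mem h with h | h
    · exact ht' h
    · exact ht h
  intro m
  let x : N Y := ⟨π • m, hpiN _ _⟩
  have hx : ∀ i ∈ Yᶜ, x ∈ K93.Modif.V π 𝔓 (N Y) i :=
    (K93.Modif.second h𝔓 h𝔓inj K hK htf N hN Y x).2 ⟨m, rfl⟩
  obtain ⟨a, b, hab, ha, hb⟩ := claim1 x
  have hab' : ∀ i ∈ Yᶜ, a ∈ K93.Modif.V π 𝔓 (N Y) i ∧ b ∈ K93.Modif.V π 𝔓 (N Y) i := by
    intro i hi
    have hxi := hx i hi
    rw [← hab] at hxi
    by_cases hiZ : i ∈ Z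
    · exact ⟨ha i hiZ, (Submodule.add_mem_iff_right _ (ha i hiZ)).1 hxi⟩
    · exact ⟨(Submodule.add_mem_iff_left _ (hb i hiZ)).1 hxi, hb i hiZ⟩
  obtain ⟨a', ha'⟩ := (K93.Modif.second h𝔓 h𝔓inj K hK htf N hN Y a).1 fun i hi => (hab' i hi).1
  obtain ⟨b', hb'⟩ := (K93.Modif.second h𝔓 h𝔓inj K hK htf N hN Y b).1 fun i hi => (hab' i hi).2
  have hm : m = a' + b' := by
    rw [← sub_eq_zero]
    apply hπ
    rw [smul_sub, smul_add, ha', hb', sub_eq_zero]
    exact (congrArg Subtype.val hab).symm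
  obtain ⟨a1, ha1, a2, ha2, ha12⟩ := claimY a'
  obtain ⟨b1, hb1, b2, hb2, hb12⟩ := claimY b'
  have ha2Z : a2 ∈ N Z := by
    rw [memN]
    intro i hi
    by_cases hiY : i ∈ Y
    · have h1 := claimV i hiY a a' ha' (ha i hi)
      rw [← ha12] at h1
      exact (Submodule.add_mem_iff_right _ ((memN _ _).1 ha1 i hiY)).1 h1
    · exact (memN _ _).1 ha2 i hiY
  have hb2Z : b2 ∈ N Zᶜ := by
    rw [memN]
    intro i hi
    by_cases hiY : i ∈ Y
    · have h1 := claimV i hiY b b' hb' (hb i hi)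
      rw [← hb12] at h1
      exact (Submodule.add_mem_iff_right _ ((memN _ _).1 hb1 i hiY)).1 h1
    · exact (memN _ _).1 hb2 i hiY
  obtain ⟨c, hc, d, hd, hcd⟩ := claim1' (a1 + b1) (Submodule.add_mem _ ha1 hb1)
  refine ⟨c + a2, Submodule.add_mem _ hc ha2Z, d + b2, Submodule.add_mem _ hd hb2Z, ?_⟩
  rw [hm, ← ha12, ← hb12]
  have : c + a2 + (d + b2) = (c + d) + (a2 + b2) := by abel
  rw [this, hcd]
  abel

end Groth.Agent.S18365
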