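import Groth.Statements.S18368
import Groth.Agent.AbVar.K528.Rigid

set_option autoImplicit false
universe u
open CategoryTheory CategoryTheory.Limits MonoidalCategory CartesianMonoidalCategory AlgebraicGeometry
open AbVar

namespace Groth.Agent.S18368

/-- Let k be a field, X and Y geometrically integral k-schemes of finite type with X proper, Z a
separated k-scheme and f : X ×_k Y → Z a k-morphism (products in the cartesian monoidal category of
k-schemes). If for some algebraically closed field K over k there are points y₀ : Spec K → Y and z₀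
: Spec K → Z over k such that f restricted to X ×_k Spec K along y₀ is the constant map z₀, then f
factors uniquely through the second projection: there is exactly one g : Y → Z over k with f = pr₂ ≫
g. (The target Z is not assumed to be of finite type over k.) -/
theorem result (k : Type u) [Field k]
    (X Y Z : Over (Spec (CommRingCat.of k)))
    [IsProper X.hom] [GeometricallyIntegral X.hom]
    [LocallyOfFiniteType Y.hom] [QuasiCompact Y.hom] [GeometricallyIntegral Y.hom]
    [IsSeparated Z.hom] (f : X ⊗ Y ⟶ Z)
    (K : Type u) [Field K] [Algebra k K] [IsAlgClosed K]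
    (y₀ : (Over.mk (Spec.map (CommRingCat.ofHom (algebraMap k K))) : Over (Spec (CommRingCat.of k))) ⟶ Y)
    (z₀ : (Over.mk (Spec.map (CommRingCat.ofHom (algebraMap k K))) : Over (Spec (CommRingCat.of k))) ⟶ Z)
    (h : (X ◁ y₀) ≫ f = snd X _ ≫ z₀) :
    ∃! g : Y ⟶ Z, f = snd X Y ≫ g := by
  have hsub : Subsingleton (Spec (CommRingCat.of k)) := inferInstanceAs (Subsingleton (PrimeSpectrum k))
  have hsubK : Subsingleton (Spec (CommRingCat.of K)) := inferInstanceAs (Subsingleton (PrimeSpectrum K))
  have hYint : IsIntegral Y.left := GeometricallyIntegral.isIntegral_of_subsingleton Y.hom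
  have hYn : IsLocallyNoetherian Y.left := LocallyOfFiniteType.isLocallyNoetherian Y.hom
  have hXY : IsIntegral (X ⊗ Y).left := by dsimp; infer_instance
  have hXYt : LocallyOfFiniteType (X ⊗ Y).hom := by dsimp; infer_instance
  have hXYn : IsLocallyNoetherian (X ⊗ Y).left := LocallyOfFiniteType.isLocallyNoetherian (X ⊗ Y).hom
  have hXXY : IsIntegral (X ⊗ (X ⊗ Y)).left := by
    rw [Over.tensorObj_left]
    infer_instance
  let pt : Spec (CommRingCat.of K) := IsLocalRing.closedPoint K
  obtain ⟨g, hg⟩ := K528.Rigid.exists_fac X Y Z f (y₀.left pt) (z₀.left pt) (by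
    intro z hz
    have hpb : IsPullback (X ◁ y₀).left (snd X _).left (snd X Y).left y₀.left := by
      have h1 : IsPullback (X ◁ y₀) (snd X _) (snd X Y) y₀ := by
        refine ⟨⟨by simp⟩, ⟨PullbackCone.IsLimit.mk _ (fun s => lift (s.fst ≫ fst X Y) s.snd) ?_ ?_ ?_⟩⟩
        · intro s
          apply CartesianMonoidalCategory.hom_ext
          · simp
          · simp [s.condition]
        · intro s; simp
        · intro s m h1 h2
          apply CartesianMonoidalCategory.hom_ext
          · simp [← h1]
          · simp [← h2]
      exact h1.map (Over.forget _)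
    obtain ⟨w, hw, -⟩ := Scheme.exists_preimage_of_isPullback hpb z pt hz
    rw [← hw, ← Scheme.Hom.comp_apply, ← Over.comp_left, h, Over.comp_left, Scheme.Hom.comp_apply]
    congr 1
    exact hsubK.elim _ _)
  refine ⟨g, hg, fun g' hg' => ?_⟩
  exact K528.Rigid.snd_cancel X Y Z (hg'.symm.trans hg)

end Groth.Agent.S18368
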