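import Groth.Statements.S18370
import Groth.Agent.GrpSch.K270.Ker

set_option autoImplicit false
universe u
open CategoryTheory CategoryTheory.Limits MonoidalCategory CartesianMonoidalCategory MonObj GrpObj AlgebraicGeometry
open GrpSch

namespace Groth.Agent.S18370

/-- Let S be a scheme and G a commutative S-group scheme which is killed by a natural number n, i.e. the
n-th power map of G is the trivial homomorphism, and let n = a·b with a and b coprime. If i_a : G_a
→ G and i_b : G_b → G are scheme-theoretic kernels of the a-th and b-th power maps of G, then the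
morphism G_a ×_S G_b → G sending (x, y) to i_a(x)·i_b(y) is an isomorphism of S-schemes. (The
published statement assumes n ≠ 0; the case n = 0, where {a, b} = {0, 1} and one kernel is all of G
while the other is trivial, is included here.) -/
theorem result {S : Scheme.{u}} (G Ga Gb : Over S)
    [GrpObj G] [IsCommMonObj G] (n a b : ℕ) (hn : n = a * b) (hab : Nat.Coprime a b)
    (hG : (𝟙 G) ^ n = 1)
    (ia : Ga ⟶ G) (hia : AlgGrp.IsKernel ia ((𝟙 G) ^ a))
    (ib : Gb ⟶ G) (hib : AlgGrp.IsKernel ib ((𝟙 G) ^ b)) :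
    IsIso ((fst Ga Gb ≫ ia) * (snd Ga Gb ≫ ib)) := by
  have hT : ∀ {T : Over S} (t : T ⟶ G), t ^ n = 1 := fun t => by
    have := congrArg (fun z => t ≫ z) hG
    simpa [MonObj.comp_pow, MonObj.comp_one] using this
  have hbez : (a : ℤ) * Nat.gcdA a b + (b : ℤ) * Nat.gcdB a b = 1 := by
    rw [← Nat.gcd_eq_gcd_ab, hab]; simp
  set u : ℤ := Nat.gcdA a b
  set v : ℤ := Nat.gcdB a b
  have key : ∀ {T : Over S} (t : T ⟶ G), (t ^ (b * v : ℤ)) * (t ^ (a * u : ℤ)) = t := fun t => by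
    rw [← zpow_add, add_comm, hbez, zpow_one]
  have haT : ∀ {T : Over S} (t : T ⟶ G), (t ^ (b * v : ℤ)) ≫ (𝟙 G) ^ a = 1 := fun t => by
    rw [MonObj.comp_pow, Category.comp_id, ← zpow_natCast, ← zpow_mul,
      show (b * v * (a : ℤ) : ℤ) = ((n : ℕ) : ℤ) * v by rw [hn]; push_cast; ring, zpow_mul, zpow_natCast, hT,
      one_zpow]
  have hbT : ∀ {T : Over S} (t : T ⟶ G), (t ^ (a * u : ℤ)) ≫ (𝟙 G) ^ b = 1 := fun t => by
    rw [MonObj.comp_pow, Category.comp_id, ← zpow_natCast, ← zpow_mul,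
      show (a * u * (b : ℤ) : ℤ) = ((n : ℕ) : ℤ) * u by rw [hn]; push_cast; ring, zpow_mul, zpow_natCast, hT,
      one_zpow]
  have ha1 : ∀ {T : Over S} (t : T ⟶ Ga), (t ≫ ia) ^ a = 1 := fun t => by
    have := K270.Ker.comp_eq_one hia t
    rw [MonObj.comp_pow, MonObj.comp_pow] at this
    simpa using this
  have hb1 : ∀ {T : Over S} (t : T ⟶ Gb), (t ≫ ib) ^ b = 1 := fun t => by
    have := K270.Ker.comp_eq_one hib t
    rw [MonObj.comp_pow, MonObj.comp_pow] at this
    simpa using this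
  have hma := K270.Ker.mono hia
  have hmb := K270.Ker.mono hib
  let g : G ⟶ Ga ⊗ Gb := CartesianMonoidalCategory.lift (K270.Ker.lift hia ((𝟙 G) ^ (b * v : ℤ)) (haT _))
    (K270.Ker.lift hib ((𝟙 G) ^ (a * u : ℤ)) (hbT _))
  have hbid : ∀ {T : Over S} (x : T ⟶ Ga) (y : T ⟶ Gb),
      ((x ≫ ia) * (y ≫ ib)) ^ (b * v : ℤ) = x ≫ ia := fun x y => by
    rw [mul_zpow]
    have h1 : (y ≫ ib) ^ (b * v : ℤ) = 1 := by rw [zpow_mul, zpow_natCast, hb1, one_zpow]
    have h2 : (x ≫ ia) ^ (b * v : ℤ) = x ≫ ia := by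
      have h3 := key (x ≫ ia)
      have h4 : (x ≫ ia) ^ (a * u : ℤ) = 1 := by rw [zpow_mul, zpow_natCast, ha1, one_zpow]
      rwa [h4, _root_.mul_one] at h3
    rw [h1, h2, _root_.mul_one]
  have haid : ∀ {T : Over S} (x : T ⟶ Ga) (y : T ⟶ Gb),
      ((x ≫ ia) * (y ≫ ib)) ^ (a * u : ℤ) = y ≫ ib := fun x y => by
    rw [mul_zpow]
    have h1 : (x ≫ ia) ^ (a * u : ℤ) = 1 := by rw [zpow_mul, zpow_natCast, ha1, one_zpow]
    have h2 : (y ≫ ib) ^ (a * u : ℤ) = y ≫ ib := by
      have h3 := key (y ≫ ib)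
      have h4 : (y ≫ ib) ^ (b * v : ℤ) = 1 := by rw [zpow_mul, zpow_natCast, hb1, one_zpow]
      rwa [h4, _root_.one_mul] at h3
    rw [h1, h2, _root_.one_mul]
  refine ⟨g, ?_, ?_⟩
  · apply CartesianMonoidalCategory.hom_ext
    · rw [Category.id_comp, Category.assoc, lift_fst, ← cancel_mono ia, Category.assoc,
        K270.Ker.lift_comp, GrpObj.comp_zpow, Category.comp_id, hbid]
    · rw [Category.id_comp, Category.assoc, lift_snd, ← cancel_mono ib, Category.assoc,
        K270.Ker.lift_comp, GrpObj.comp_zpow, Category.comp_id, haid]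
  · rw [MonObj.comp_mul, ← Category.assoc, ← Category.assoc, lift_fst, lift_snd, K270.Ker.lift_comp,
      K270.Ker.lift_comp, key]

end Groth.Agent.S18370
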