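import Groth.Statements.S18372
import Groth.Agent.AbVar.K528.RedClosed

set_option autoImplicit false
universe u
open CategoryTheory CategoryTheory.Limits MonoidalCategory CartesianMonoidalCategory MonObj GrpObj AlgebraicGeometry
open AbVar

namespace Groth.Agent.S18372

open Groth.Agent.Books.AlgPts Groth.Agent.Books.AlgPtsGen

/-- A closed subset of a proper scheme over a field contained in an affine open subset is finite. -/
theorem finite_of_subset_affineOpen {k : Type u} [Field k] (A : Over (Spec (CommRingCat.of k))) [IsProper A.hom]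
    (U : A.left.Opens) (hU : IsAffineOpen U) (Z : Set A.left) (hZ : IsClosed Z) (hZU : Z ⊆ U) : Z.Finite := by
  have hsub : Subsingleton (Spec (CommRingCat.of k)) := inferInstanceAs (Subsingleton (PrimeSpectrum k))
  obtain ⟨P, j, hj, hred, hr⟩ := K528.RedClosed.exists_redSub A Z hZ
  have hPp : IsProper P.hom := by
    rw [← Over.w j]; infer_instance
  have hsub2 : Set.range j.left ⊆ Set.range U.ι := by
    rw [hr, Scheme.Opens.range_ι]; exact hZU
  let j' : P.left ⟶ U := IsOpenImmersion.lift U.ι j.left hsub2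
  have hj' : j' ≫ U.ι = j.left := IsOpenImmersion.lift_fac _ _ _
  have h0 : IsClosedImmersion (j' ≫ U.ι) := by rw [hj']; exact hj
  have h1 : IsClosedImmersion j' := .of_comp _ (g := U.ι)
  have h2 : IsAffine U := hU
  have h3 : IsAffine P.left := isAffine_of_isAffineHom j'
  have h4 : IsFinite P.hom := by
    rw [IsFinite.iff_isProper_and_isAffineHom]
    exact ⟨hPp, inferInstance⟩
  have h5 : (P.hom ⁻¹' {IsLocalRing.closedPoint k}).Finite := P.hom.finite_preimage_singleton _
  have h6 : P.hom ⁻¹' {IsLocalRing.closedPoint k} = Set.univ := by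
    ext z
    simp only [Set.mem_preimage, Set.mem_univ, iff_true]
    exact hsub.elim _ _
  rw [h6, Set.finite_univ_iff] at h5
  rw [← hr]
  exact Set.finite_range _

theorem result (k : Type u) [Field k] [IsAlgClosed k]
    (A : Over (Spec (CommRingCat.of k))) [GrpObj A] [IsProper A.hom] [Smooth A.hom] [GeometricallyConnected A.hom]
    (U : A.left.Opens) (hU : IsAffineOpen U) (he : Set.range η[A].left.base ⊆ (U : Set A.left)) :
    Set.Finite {x : 𝟙_ (Over (Spec (CommRingCat.of k))) ⟶ A |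
      (𝟙 A * (toUnit A ≫ x)).left.base ⁻¹' ((U : Set A.left)ᶜ) = (U : Set A.left)ᶜ} := by
  have hone : (η[A] : 𝟙_ (Over (Spec (CommRingCat.of k))) ⟶ A) = 1 := by
    rw [Hom.one_def, toUnit_unique (toUnit (𝟙_ _)) (𝟙 _), Category.id_comp]
  have he' : pt (1 : 𝟙_ (Over (Spec (CommRingCat.of k))) ⟶ A) ∈ (U : Set A.left) := by
    rw [← hone]; exact he ⟨_, rfl⟩
  set S : Set (𝟙_ (Over (Spec (CommRingCat.of k))) ⟶ A) := {x : 𝟙_ (Over (Spec (CommRingCat.of k))) ⟶ A |
      (𝟙 A * (toUnit A ≫ x)).left.base ⁻¹' ((U : Set A.left)ᶜ) = (U : Set A.left)ᶜ} with hS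
  have hmem : ∀ x ∈ S, ∀ d : 𝟙_ (Over (Spec (CommRingCat.of k))) ⟶ A,
      pt d ∈ (U : Set A.left)ᶜ → pt (d * x⁻¹) ∈ (U : Set A.left)ᶜ := by
    intro x hx d hd
    have hx' : (rmul x).left ⁻¹' ((U : Set A.left)ᶜ) = (U : Set A.left)ᶜ := hx
    rw [← hx']
    change (rmul x).left (pt (d * x⁻¹)) ∈ (U : Set A.left)ᶜ
    rw [← pt_comp, comp_rmul, inv_mul_cancel_right]
    exact hd
  let Z : Set A.left := closure (pt '' S)
  have hZU : Z ⊆ U := by
    by_contra hcon
    obtain ⟨z, hz, hz'⟩ := Set.not_subset.1 hcon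
    obtain ⟨w, hwZ, hwU⟩ := exists_pt_mem (X := A) (U := Z ∩ (U : Set A.left)ᶜ) ⟨z, hz, hz'⟩
      (isClosed_closure.inter U.isOpen.isClosed_compl).isLocallyClosed
    have hcl : IsClosed ((ι[A] ≫ lmul w).left ⁻¹' ((U : Set A.left)ᶜ)) :=
      U.isOpen.isClosed_compl.preimage (ι[A] ≫ lmul w).left.continuous
    have hsub : pt '' S ⊆ (ι[A] ≫ lmul w).left ⁻¹' ((U : Set A.left)ᶜ) := by
      rintro _ ⟨x, hx, rfl⟩
      rw [Set.mem_preimage, ← pt_comp, ← Category.assoc, comp_lmul]
      exact hmem x hx w hwU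
    have h1 := closure_minimal hsub hcl hwZ
    rw [Set.mem_preimage, ← pt_comp, ← Category.assoc, comp_lmul] at h1
    have h2 : w * (w ≫ ι[A]) = 1 := by
      rw [← Hom.inv_def, mul_inv_cancel]
    rw [h2] at h1
    exact h1 he'
  have hfin : Z.Finite := finite_of_subset_affineOpen A U hU Z isClosed_closure hZU
  have hinj : Set.InjOn (pt : (𝟙_ (Over (Spec (CommRingCat.of k))) ⟶ A) → A.left) S :=
    fun x _ y _ h => pt_injective h
  exact Set.Finite.of_finite_image (hfin.subset subset_closure) hinj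

end Groth.Agent.S18372
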