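import Groth.Statements.S18373
import Groth.Agent.AbVar.K528.Irr

set_option autoImplicit false
universe u
open CategoryTheory CategoryTheory.Limits MonoidalCategory CartesianMonoidalCategory MonObj GrpObj AlgebraicGeometry
open AbVar

namespace Groth.Agent.S18373

open Groth.Agent.Books.AlgPts Groth.Agent.Books.AlgPtsGen Groth.Agent.Books.AlgPtsIrred K528.Irr

/-- In an integral scheme, a point with one-dimensional local ring has no strict generization besides the
generic point. -/
lemma eq_of_specializes_of_dim_one {X : Scheme.{u}} [IsIntegral X] {ξ ζ : X}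
    (hdim : ringKrullDim (X.presheaf.stalk ξ) = 1) (h : ζ ⤳ ξ) (hne : ζ ≠ genericPoint X) : ζ = ξ := by
  by_contra hcon
  have h1 : ξ < ζ := by
    rw [lt_iff_le_not_ge]
    exact ⟨h, fun h' => hcon (Specializes.antisymm h h').eq⟩
  have h2 : ζ < (⊤ : X) := by
    rw [lt_iff_le_not_ge]
    exact ⟨le_top, fun h' => hne (Specializes.antisymm h' (genericPoint_specializes ζ)).eq⟩
  rw [ringKrullDim_stalk_eq_coheight] at hdim
  have h3 : Order.coheight ξ = 1 := by exact_mod_cast hdim
  have h4 : (2 : ℕ∞) ≤ Order.coheight ξ := by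
    let p : LTSeries X := ((RelSeries.singleton _ (⊤ : X)).cons ζ (by simpa using h2)).cons ξ
      (by rw [RelSeries.head_cons]; exact h1)
    have h5 : ξ ≤ p.head := le_of_eq (by simp only [p, RelSeries.head_cons])
    have := Order.length_le_coheight h5
    simpa [p] using this
  rw [h3] at h4
  exact absurd h4 (by decide)

theorem result (k : Type u) [Field k] [IsAlgClosed k]
    (A : Over (Spec (CommRingCat.of k))) [GrpObj A] [IsProper A.hom] [Smooth A.hom] [GeometricallyConnected A.hom]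
    (Δ : Set A.left) (hΔ : IsClosed Δ) (ξ : A.left) (hξ : closure {ξ} = Δ)
    (hcodim : ringKrullDim (A.left.presheaf.stalk ξ) = 1)
    (C : Set A.left) (hC : IsClosed C) (hCirr : IsIrreducible C) (hCdim : topologicalKrullDim C = 1)
    (hdisj : Disjoint C Δ)
    (x y : 𝟙_ (Over (Spec (CommRingCat.of k))) ⟶ A)
    (hx : Set.range x.left.base ⊆ C) (hy : Set.range y.left.base ⊆ C) :
    (𝟙 A * (toUnit A ≫ (x * y⁻¹))).left.base ⁻¹' Δ = Δ := by
  have hint : IsIntegral A.left := isIntegral_of_av A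
  have hcomm : IsCommMonObj A := isCommMonObj_of_isIntegral A
  have hΔirr : IsIrreducible Δ := by rw [← hξ]; exact isIrreducible_singleton.closure
  obtain ⟨P, j, hj, hPred, hPirr, hPr⟩ := exists_irrSub A C hC hCirr
  obtain ⟨Q, i, hi, hQred, hQirr, hQr⟩ := exists_irrSub A Δ hΔ hΔirr
  have hPp : IsProper P.hom := by rw [← Over.w j]; infer_instance
  have hQp : IsProper Q.hom := by rw [← Over.w i]; infer_instance
  have hPQirr : IrreducibleSpace (P ⊗ Q).left := irreducibleSpace_tensor P Q
  have hPQp : IsProper (P ⊗ Q).hom := K528.RedClosed.isProper_tensor P Q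
  let g : P ⊗ Q ⟶ A := (snd P Q ≫ i) * (fst P Q ≫ j)⁻¹
  have hgp : IsProper g.left := by
    have : IsProper (g.left ≫ A.hom) := by rw [Over.w]; exact hPQp
    exact .of_comp _ A.hom
  let Z : Set A.left := Set.range g.left
  have hZcl : IsClosed Z := by
    have := g.left.isClosedMap _ isClosed_univ
    rwa [Set.image_univ] at this
  have hZirr : IsIrreducible Z := by
    have := (IrreducibleSpace.isIrreducible_univ (P ⊗ Q).left).image g.left g.left.continuous.continuousOn
    rwa [Set.image_univ] at this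
  -- the points of `Z`
  have hZpt : ∀ c d : 𝟙_ (Over (Spec (CommRingCat.of k))) ⟶ A, pt c ∈ C → pt d ∈ Δ → pt (d * c⁻¹) ∈ Z := by
    intro c d hc hd
    obtain ⟨c', hc'⟩ := exists_comp_eq_of_pt_mem_range j c (by rw [hPr]; exact hc)
    obtain ⟨d', hd'⟩ := exists_comp_eq_of_pt_mem_range i d (by rw [hQr]; exact hd)
    refine ⟨pt (lift c' d'), ?_⟩
    rw [← pt_comp, MonObj.comp_mul, GrpObj.comp_inv, lift_snd_assoc, lift_fst_assoc, hc', hd']
  have hZne : ∀ z ∈ Z, z ≠ pt (1 : 𝟙_ (Over (Spec (CommRingCat.of k))) ⟶ A) := by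
    rintro z hz rfl
    have : LocallyOfFiniteType (P ⊗ Q).hom := inferInstance
    obtain ⟨w, hw⟩ := exists_comp_eq_of_pt_mem_range g 1 hz
    rw [MonObj.comp_mul, GrpObj.comp_inv, mul_inv_eq_one, ← Category.assoc, ← Category.assoc] at hw
    have h1 : pt ((w ≫ snd P Q) ≫ i) ∈ Δ := by
      rw [← hQr, pt_comp]; exact ⟨_, rfl⟩
    have h2 : pt ((w ≫ fst P Q) ≫ j) ∈ C := by
      rw [← hPr, pt_comp]; exact ⟨_, rfl⟩
    rw [hw] at h1
    exact Set.disjoint_left.1 hdisj h2 h1
  obtain ⟨ζ, hζ⟩ : ∃ ζ : A.left, closure {ζ} = Z := ⟨_, hZirr.genericPoint_closure_eq.trans hZcl.closure_eq⟩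
  have hζne : ζ ≠ genericPoint A.left := by
    intro h
    have h1 : Z = Set.univ := by
      rw [← hζ, h]; exact (genericPoint_spec A.left)
    exact hZne (pt 1) (by rw [h1]; trivial) rfl
  -- translates of `Δ`
  have key : ∀ c : 𝟙_ (Over (Spec (CommRingCat.of k))) ⟶ A, pt c ∈ C → (rmul c).left ⁻¹' Δ = Z := by
    intro c hc
    let e := homeo (rmulIso A c)
    have he : (rmul c).left ⁻¹' Δ = closure {e.symm ξ} := by
      have h1 : (rmul c).left ⁻¹' Δ = e ⁻¹' Δ := rfl
      rw [h1, ← hξ, e.preimage_closure]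
      congr 1
      ext z
      simp only [Set.mem_preimage, Set.mem_singleton_iff]
      constructor
      · rintro rfl; simp
      · rintro rfl; simp
    have hsub : (rmul c).left ⁻¹' Δ ⊆ Z := by
      refine subset_of_forall_pt (hΔ.preimage (rmul c).left.continuous).isLocallyClosed hZcl ?_
      intro z hz
      rw [Set.mem_preimage, ← pt_comp, comp_rmul] at hz
      have := hZpt c (z * c) hc hz
      rwa [mul_inv_cancel_right] at this
    have hspec : ζ ⤳ e.symm ξ := by
      rw [specializes_iff_mem_closure, hζ]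
      apply hsub
      rw [he]
      exact subset_closure rfl
    have hdim : ringKrullDim (A.left.presheaf.stalk (e.symm ξ)) = 1 := by
      have hiso : IsIso (rmul c).left := ((Over.forget _).mapIso (rmulIso A c)).isIso_hom
      have h1 : (rmul c).left (e.symm ξ) = ξ := e.apply_symm_apply ξ
      rw [← hcodim]
      have h2 := (asIso ((rmul c).left.stalkMap (e.symm ξ))).commRingCatIsoToRingEquiv
      have h3 := ringKrullDim_eq_of_ringEquiv h2
      rw [← h3, h1]
    have h4 := eq_of_specializes_of_dim_one hdim hspec hζne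
    rw [he, ← h4, hζ]
  have hcl : pt x ∈ C := hx ⟨_, rfl⟩
  have hcl' : pt y ∈ C := hy ⟨_, rfl⟩
  have h1 := (key x hcl).trans (key y hcl').symm
  have h2 : (𝟙 A * (toUnit A ≫ (x * y⁻¹))) = rmul y⁻¹ ≫ rmul x := by
    rw [rmul_comp_rmul, mul_comm y⁻¹ x]; rfl
  rw [h2, Over.comp_left]
  change (rmul y⁻¹).left ⁻¹' ((rmul x).left ⁻¹' Δ) = Δ
  rw [h1]
  change (rmul y⁻¹ ≫ rmul y).left ⁻¹' Δ = Δ
  rw [rmul_comp_rmul, inv_mul_cancel, rmul_one]
  rfl

end Groth.Agent.S18373
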