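import Groth.Statements.S18380
import Groth.Agent.Divisors.K722.EffEq
import Groth.Agent.S0002
import Groth.Agent.CurvesB.HZero
import Groth.Agent.CurvesC.UnitCoh
import Groth.Agent.Dix.GenFibre

set_option autoImplicit false
universe u
open Divisors

namespace Groth.Agent.S18380

open CategoryTheory AlgebraicGeometry in
/-- Let k be an algebraically closed field of characteristic 0 and M a scheme, smooth and projective
over k. Let D₁ and D₂ be effective Cartier divisors on M, given by invertible ideal sheaves with
I_{D₂} ⊆ I_{D₁} (so D₁ is a closed subscheme of D₂). If I_{D₁} and I_{D₂} are isomorphic as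
O_M-modules, that is D₁ and D₂ are linearly equivalent, then D₁ = D₂. The published statement is an
equivalence, for effective divisors on a smooth proper Deligne–Mumford stack with equal divisor
classes; its proof reduces to a smooth projective scheme, the case stated here, and the other
direction is immediate. -/
theorem result (k : Type u) [Field k] [IsAlgClosed k] [CharZero k]
    (M : Scheme.{u}) (f : M ⟶ Spec (CommRingCat.of k)) [Smooth f]
    (hproj : Neron.IsProjectiveOver k (Over.mk f))
    (D₁ D₂ : M.IdealSheafData) (h₁ : BlowUp.IsEffCartierIdeal D₁) (h₂ : BlowUp.IsEffCartierIdeal D₂)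
    (hle : D₂ ≤ D₁) (hiso : Nonempty (ClSub.idealMod D₁ ≅ ClSub.idealMod D₂)) :
    D₁ = D₂ := by
  letI : M.Over (Spec (CommRingCat.of k)) := ⟨f⟩
  have hf : IsProper (M ↘ Spec (CommRingCat.of k)) :=
    Groth.Agent.Dix.GenFibre.isProper_of_isProjectiveOver hproj
  have hfin : Module.Finite k (Coh.HH M (Coh.structureModule M) 0) :=
    Groth.Agent.S0002.result k M (Coh.structureModule M)
      (Groth.Agent.CurvesC.UnitCoh.isCoh_unit M) 0
  have hart : IsArtinianRing Γ(M, ⊤) := by
    letI : Algebra k Γ(M, ⊤) := (Groth.Agent.CurvesB.HZero.gl k M).toAlgebra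
    let e : Coh.HH M (Coh.structureModule M) 0 ≃ₗ[k] Γ(M, ⊤) :=
      { Groth.Agent.CurvesB.HZero.equivO M with
        map_smul' := fun t x => by
          change Groth.Agent.CurvesB.HZero.equivO M (t • x) = t • Groth.Agent.CurvesB.HZero.equivO M x
          rw [Groth.Agent.CurvesB.HZero.equivO_smul, Algebra.smul_def]; rfl }
    have : Module.Finite k Γ(M, ⊤) := Module.Finite.equiv e
    exact IsArtinianRing.of_finite k Γ(M, ⊤)
  obtain ⟨φ⟩ := hiso
  exact K722.EffEq.eq_of_iso hle h₁ φ

end Groth.Agent.S18380
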