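import Groth.Statements.S18384
import Mathlib.RingTheory.Filtration
import Mathlib.AlgebraicGeometry.Stalk
import Mathlib.AlgebraicGeometry.Morphisms.ClosedImmersion

set_option autoImplicit false
universe u
open CategoryTheory CategoryTheory.Limits AlgebraicGeometry
open Coherent

namespace Groth.Agent.S18384

section Germ

variable {X : Scheme.{u}} (x : X)

/-- `Spec (O_{X,x} / J) ⟶ X`. -/
noncomputable def thk (J : Ideal (X.presheaf.stalk x)) :
    Spec (CommRingCat.of (X.presheaf.stalk x ⧸ J)) ⟶ X :=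
  Spec.map (CommRingCat.ofHom (Ideal.Quotient.mk J)) ≫ X.fromSpecStalk x

set_option backward.isDefEq.respectTransparency false in
theorem germ_eq_zero {R : CommRingCat.{u}} (q : X.presheaf.stalk x ⟶ R) {U : X.Opens} (hx : x ∈ U)
    (a : Γ(X, U)) (ha : (Spec.map q ≫ X.fromSpecStalk x).app U a = 0) :
    q (X.presheaf.germ U x hx a) = 0 := by
  have hU : (⊤ : (Spec (X.presheaf.stalk x)).Opens) ≤ X.fromSpecStalk x ⁻¹ᵁ U := by
    intro y _
    have : X.fromSpecStalk x y ∈ Set.range (X.fromSpecStalk x) := ⟨_, rfl⟩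
    rw [Scheme.range_fromSpecStalk] at this
    exact (show X.fromSpecStalk x y ⤳ x from this).mem_open U.isOpen hx
  have e1 : (⊤ : (Spec R).Opens) ≤ (Spec.map q ≫ X.fromSpecStalk x) ⁻¹ᵁ U := fun y _ =>
    hU (show Spec.map q y ∈ (⊤ : (Spec (X.presheaf.stalk x)).Opens) from trivial)
  have h1 : (Spec.map q ≫ X.fromSpecStalk x).appLE U ⊤ e1 =
      X.presheaf.germ U x hx ≫ q ≫ (Scheme.ΓSpecIso R).inv := by
    rw [← Scheme.Hom.appLE_comp_appLE (Spec.map q) (X.fromSpecStalk x) U ⊤ ⊤ hU (by rfl)]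
    rw [Scheme.Hom.appLE, Scheme.fromSpecStalk_app hx]
    have h2 : (Spec.map q).appLE ⊤ ⊤ (by rfl) = (Spec.map q).appTop := by
      rw [Scheme.Hom.appTop, Scheme.Hom.app_eq_appLE]
      rfl
    simp only [Category.assoc]
    rw [← Functor.map_comp_assoc]
    rw [Subsingleton.elim ((homOfLE le_top).op ≫ (homOfLE hU).op) (𝟙 _)]
    rw [CategoryTheory.Functor.map_id, Category.id_comp, h2, ← Scheme.ΓSpecIso_inv_naturality]
  have h3 : (Spec.map q ≫ X.fromSpecStalk x).appLE U ⊤ e1 a = 0 := by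
    rw [Scheme.Hom.appLE, CommRingCat.comp_apply, ha, map_zero]
  rw [h1, CommRingCat.comp_apply, CommRingCat.comp_apply] at h3
  have h4 := congrArg (Scheme.ΓSpecIso R).hom h3
  rw [map_zero] at h4
  rw [← h4]
  exact (CommRingCat.hom_inv_apply (Scheme.ΓSpecIso R) _).symm

/-- A function pulling back to zero on `Spec (O_{X,x} / J)` has its germ in `J`. -/
theorem germ_mem (J : Ideal (X.presheaf.stalk x)) {U : X.Opens} (hx : x ∈ U) (a : Γ(X, U))
    (ha : (thk x J).app U a = 0) : X.presheaf.germ U x hx a ∈ J :=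
  Ideal.Quotient.eq_zero_iff_mem.mp
    (germ_eq_zero x (CommRingCat.ofHom (Ideal.Quotient.mk J)) hx a ha)

end Germ

section Local

variable {X : Scheme.{u}}

/-- If `I.ideal W = ⊥`, germs at points of `W` of sections of `I` vanish. -/
theorem germ_eq_zero_of_bot (I : X.IdealSheafData) {W : X.affineOpens} (hW : I.ideal W = ⊥)
    (V : X.affineOpens) (a : Γ(X, V.1)) (ha : a ∈ I.ideal V) (y : X) (hyW : y ∈ W.1) (hyV : y ∈ V.1) :
    X.presheaf.germ V.1 y hyV a = 0 := by
  obtain ⟨W', hW', hyW', hle⟩ := X.isBasis_affineOpens.exists_subset_of_mem_open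
    (show y ∈ ((W.1 ⊓ V.1 : X.Opens) : Set X) from ⟨hyW, hyV⟩) (W.1 ⊓ V.1).isOpen
  obtain ⟨W'', hW'', rfl⟩ := hW'
  have hleW : (⟨W'', hW''⟩ : X.affineOpens) ≤ W := fun z hz => (hle hz).1
  have hleV : (⟨W'', hW''⟩ : X.affineOpens) ≤ V := fun z hz => (hle hz).2
  have h0 : I.ideal ⟨W'', hW''⟩ = ⊥ := by
    rw [← I.map_ideal hleW, hW, Ideal.map_bot]
  have h1 : X.presheaf.map (homOfLE hleV).op a ∈ I.ideal ⟨W'', hW''⟩ :=
    I.ideal_le_comap_ideal hleV ha
  rw [h0, Ideal.mem_bot] at h1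
  rw [← X.presheaf.germ_res_apply (homOfLE hleV) y hyW' a]
  erw [h1]
  rw [map_zero]

/-- The union of the affine opens on which `I` vanishes. -/
def van (I : X.IdealSheafData) : X.Opens :=
  ⨆ W : {W : X.affineOpens // I.ideal W = ⊥}, W.1.1

theorem mem_van (I : X.IdealSheafData) (W : X.affineOpens) (hW : I.ideal W = ⊥) (x : X)
    (hx : x ∈ W.1) : x ∈ van I :=
  (le_iSup (fun W : {W : X.affineOpens // I.ideal W = ⊥} => W.1.1) ⟨W, hW⟩) hx

theorem le_ker_van (I : X.IdealSheafData) : I ≤ (van I).ι.ker := by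
  rw [Scheme.Hom.ker, Scheme.IdealSheafData.le_ofIdeals_iff]
  intro V a ha
  rw [RingHom.mem_ker]
  rw [Scheme.Opens.ι_app]
  refine TopCat.Presheaf.section_ext X.sheaf _ _ _ fun y hy => ?_
  have hyV : y ∈ V.1 := by
    obtain ⟨z, hz, rfl⟩ := hy
    exact hz
  have hyU : y ∈ van I := by
    obtain ⟨z, hz, rfl⟩ := hy
    exact z.2
  obtain ⟨⟨W, hW⟩, hyW⟩ := TopologicalSpace.Opens.mem_iSup.mp hyU
  have h1 := germ_eq_zero_of_bot I hW V a ha y hyW hyV
  refine Eq.trans ?_ (map_zero _).symm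
  refine Eq.trans ?_ h1
  exact X.presheaf.germ_res_apply _ y hy a

/-- If all germs at `x` of sections of `I` over an affine neighbourhood vanish then `I` vanishes
near `x` (locally Noetherian). -/
theorem mem_van_of_germ [IsLocallyNoetherian X] (I : X.IdealSheafData) (x : X) (W : X.affineOpens)
    (hx : x ∈ W.1) (h : ∀ a ∈ I.ideal W, X.presheaf.germ W.1 x hx a = 0) : x ∈ van I := by
  have : IsNoetherianRing Γ(X, W.1) := IsLocallyNoetherian.component_noetherian W
  obtain ⟨s, hs⟩ := (IsNoetherian.noetherian (I.ideal W) : (I.ideal W).FG)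
  -- an affine neighbourhood on which the generators vanish
  have hex : ∀ a ∈ s, ∃ O : X.Opens, x ∈ O ∧ ∃ hO : O ≤ W.1,
      X.presheaf.map (homOfLE hO).op a = 0 := by
    intro a ha
    have h0 := h a (by rw [← hs]; exact Ideal.subset_span ha)
    have h0' : X.presheaf.germ W.1 x hx a = X.presheaf.germ W.1 x hx 0 := by rw [h0, map_zero]
    obtain ⟨O, hxO, i, j, hO⟩ := X.presheaf.germ_eq x hx hx _ _ h0'
    refine ⟨O, hxO, i.le, ?_⟩
    rw [map_zero] at hO
    exact hO
  choose O hxO hO hO0 using hex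
  have hN : IsOpen (⋂ a : s, (O a.1 a.2 : Set X)) :=
    isOpen_iInter_of_finite fun a => (O a.1 a.2).isOpen
  have hxN : x ∈ (⋂ a : s, (O a.1 a.2 : Set X)) ∩ (W.1 : Set X) :=
    ⟨Set.mem_iInter.mpr fun a => hxO a.1 a.2, hx⟩
  obtain ⟨_, ⟨W', hW', rfl⟩, hxW', hle⟩ := X.isBasis_affineOpens.exists_subset_of_mem_open
    hxN (hN.inter W.1.isOpen)
  have hleW : (⟨W', hW'⟩ : X.affineOpens) ≤ W := fun z hz => (hle hz).2
  refine mem_van I ⟨W', hW'⟩ ?_ x hxW'
  rw [← I.map_ideal hleW, ← hs, Ideal.map_span, Ideal.span_eq_bot]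
  rintro _ ⟨a, ha, rfl⟩
  have h1 : W' ≤ O a ha := fun z hz => Set.mem_iInter.mp (hle hz).1 ⟨a, ha⟩
  have h2 : X.presheaf.map (homOfLE hleW).op a =
      X.presheaf.map (homOfLE h1).op (X.presheaf.map (homOfLE (hO a ha)).op a) := by
    rw [← CommRingCat.comp_apply, ← Functor.map_comp]
    rfl
  refine h2.trans ?_
  rw [hO0 a ha, map_zero]

end Local

section Main

variable {X S : Scheme.{u}} (p : X ⟶ S) (x : X)

theorem thk_comp (n : ℕ) : ∃ ψ : CommRingCat.of (S.presheaf.stalk (p.base x) ⧸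
      (IsLocalRing.maximalIdeal (S.presheaf.stalk (p.base x)) ^ (n + 1))) ⟶
      CommRingCat.of (X.presheaf.stalk x ⧸ (IsLocalRing.maximalIdeal (X.presheaf.stalk x) ^ (n + 1))),
    thk x (IsLocalRing.maximalIdeal (X.presheaf.stalk x) ^ (n + 1)) ≫ p =
      Spec.map ψ ≫ Spec.map (CommRingCat.ofHom (Ideal.Quotient.mk
        (IsLocalRing.maximalIdeal ↑(S.presheaf.stalk (p.base x)) ^ (n + 1)))) ≫
          S.fromSpecStalk (p.base x) := by
  have hle : (IsLocalRing.maximalIdeal (S.presheaf.stalk (p.base x)) ^ (n + 1)) ≤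
      (IsLocalRing.maximalIdeal (X.presheaf.stalk x) ^ (n + 1)).comap (p.stalkMap x).hom := by
    rw [← Ideal.map_le_iff_le_comap, Ideal.map_pow]
    refine Ideal.pow_right_mono ?_ _
    rw [Ideal.map_le_iff_le_comap]
    intro b hb
    rw [Ideal.mem_comap, IsLocalRing.mem_maximalIdeal, mem_nonunits_iff]
    intro hu
    exact hb ((isUnit_map_iff (p.stalkMap x).hom b).mp hu)
  refine ⟨CommRingCat.ofHom (Ideal.quotientMap _ (p.stalkMap x).hom hle), ?_⟩
  rw [thk, Category.assoc, ← Scheme.SpecMap_stalkMap_fromSpecStalk, ← Spec.map_comp_assoc,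
    ← Spec.map_comp_assoc]
  congr 2

theorem germ_mem_pow (I : X.IdealSheafData) (n : ℕ)
    (h : ∃ g : pullback p (Spec.map (CommRingCat.ofHom (Ideal.Quotient.mk
        (IsLocalRing.maximalIdeal ↑(S.presheaf.stalk (p.base x)) ^ (n + 1)))) ≫
          S.fromSpecStalk (p.base x)) ⟶ I.subscheme,
        g ≫ I.subschemeι = pullback.fst p _)
    (W : X.affineOpens) (hx : x ∈ W.1) (a : Γ(X, W.1)) (ha : a ∈ I.ideal W) :
    X.presheaf.germ W.1 x hx a ∈ IsLocalRing.maximalIdeal (X.presheaf.stalk x) ^ (n + 1) := by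
  obtain ⟨g, hg⟩ := h
  obtain ⟨ψ, hψ⟩ := thk_comp p x n
  let l := pullback.lift (thk x (IsLocalRing.maximalIdeal (X.presheaf.stalk x) ^ (n + 1)))
    (Spec.map ψ) hψ
  have hl : l ≫ g ≫ I.subschemeι =
      thk x (IsLocalRing.maximalIdeal (X.presheaf.stalk x) ^ (n + 1)) := by
    rw [hg]
    exact pullback.lift_fst _ _ _
  have h1 : I ≤ (thk x (IsLocalRing.maximalIdeal (X.presheaf.stalk x) ^ (n + 1))).ker := by
    rw [← hl, ← Category.assoc]
    refine le_trans ?_ (Scheme.Hom.le_ker_comp _ _)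
    rw [Scheme.IdealSheafData.ker_subschemeι]
  refine germ_mem x _ hx a ?_
  exact Scheme.Hom.ideal_ker_le _ W (h1 W ha)

end Main

/-- Let p : X → S be a morphism of locally Noetherian schemes, t a point of S, m the maximal ideal of
the local ring O_{S,t}, and Z the closed subscheme of X defined by a quasi-coherent ideal I. Suppose
that for every n ≥ 1 the projection X ×_S Spec(O_{S,t}/m^n) → X factors through Z. Then there is an
open subscheme U of X containing every point of the fibre p⁻¹(t) such that the inclusion U → X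
factors through Z. -/
theorem result {X S : Scheme.{u}}
    [IsLocallyNoetherian X] [IsLocallyNoetherian S] (p : X ⟶ S) (t : S) (I : X.IdealSheafData)
    (h : ∀ n : ℕ, ∃ g : pullback p (Spec.map (CommRingCat.ofHom (Ideal.Quotient.mk
        (IsLocalRing.maximalIdeal ↑(S.presheaf.stalk t) ^ (n + 1)))) ≫ S.fromSpecStalk t) ⟶ I.subscheme,
        g ≫ I.subschemeι = pullback.fst p _) :
    ∃ U : X.Opens, (∀ x : X, p.base x = t → x ∈ U) ∧
      ∃ g : (U : Scheme.{u}) ⟶ I.subscheme, g ≫ I.subschemeι = U.ι := by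
  refine ⟨van I, ?_, IsClosedImmersion.lift I.subschemeι (van I).ι ?_,
    IsClosedImmersion.lift_fac _ _ _⟩
  · rintro x rfl
    obtain ⟨_, ⟨W, hW, rfl⟩, hxW, -⟩ := X.isBasis_affineOpens.exists_subset_of_mem_open
      (show x ∈ (Set.univ : Set X) from trivial) isOpen_univ
    refine mem_van_of_germ I x ⟨W, hW⟩ hxW fun a ha => ?_
    have hall : ∀ n : ℕ, X.presheaf.germ W x hxW a ∈
        IsLocalRing.maximalIdeal (X.presheaf.stalk x) ^ n := by
      intro n
      have := germ_mem_pow p x I n (h n) ⟨W, hW⟩ hxW a ha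
      exact Ideal.pow_le_pow_right (Nat.le_succ n) this
    have hK : (⨅ n : ℕ, IsLocalRing.maximalIdeal (X.presheaf.stalk x) ^ n) = ⊥ :=
      Ideal.iInf_pow_eq_bot_of_isLocalRing _ (IsLocalRing.maximalIdeal.isMaximal _).ne_top
    have := (Submodule.mem_iInf _).mpr hall
    rw [hK] at this
    exact this
  · rw [Scheme.IdealSheafData.ker_subschemeι]
    exact le_ker_van I

end Groth.Agent.S18384
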