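import Groth.Statements.S18385
import Groth.Agent.AbSch.K452.LqfSurj

set_option autoImplicit false
universe u
open CategoryTheory CategoryTheory.Limits MonoidalCategory CartesianMonoidalCategory MonObj GrpObj AlgebraicGeometry
open AbSch

namespace Groth.Agent.S18385

/-- (2) ⇔ (3): let S be a scheme, A and B abelian schemes over S (S-group schemes, smooth and proper
over S with geometrically connected fibres) whose fibres A_s and B_s have the same dimension for
every point s of S, and f : A → B a homomorphism of S-group schemes. Then f is locally quasi-finite
if and only if f is surjective (and then f is an isogeny). -/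
theorem result {S : Scheme.{u}} (A B : Over S)
    [GrpObj A] [Smooth A.hom] [IsProper A.hom] [GeometricallyConnected A.hom]
    [GrpObj B] [Smooth B.hom] [IsProper B.hom] [GeometricallyConnected B.hom]
    (f : A ⟶ B) [IsMonHom f]
    (hdim : ∀ s : S, topologicalKrullDim ↥(A.hom.fiber s) = topologicalKrullDim ↥(B.hom.fiber s)) :
    LocallyQuasiFinite f.left ↔ Surjective f.left := by
  have hw : f.left ≫ B.hom = A.hom := Over.w f
  have hlft : LocallyOfFiniteType f.left := by
    have : LocallyOfFiniteType (f.left ≫ B.hom) := by rw [hw]; infer_instance
    exact locallyOfFiniteType_of_comp f.left B.hom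
  -- the square over a point
  have hsq (s : S) := Groth.Agent.Grpsch.AbBC.isPullback_pullback_map (S.fromSpecResidueField s) f
  have key (s : S) : LocallyQuasiFinite ((Over.pullback (S.fromSpecResidueField s)).map f).left ↔
      Surjective ((Over.pullback (S.fromSpecResidueField s)).map f).left := by
    let A' : Over (Spec (CommRingCat.of (S.residueField s))) :=
      (Over.pullback (S.fromSpecResidueField s)).obj A
    let B' : Over (Spec (CommRingCat.of (S.residueField s))) :=
      (Over.pullback (S.fromSpecResidueField s)).obj B
    let f' : A' ⟶ B' := (Over.pullback (S.fromSpecResidueField s)).map f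
    let _ : GrpObj A' := Functor.grpObjObj
    let _ : GrpObj B' := Functor.grpObjObj
    have : IsMonHom f' := inferInstanceAs (IsMonHom ((Over.pullback (S.fromSpecResidueField s)).map f))
    have : Smooth A'.hom := inferInstanceAs (Smooth (pullback.snd A.hom _))
    have : IsProper A'.hom := inferInstanceAs (IsProper (pullback.snd A.hom _))
    have : Smooth B'.hom := inferInstanceAs (Smooth (pullback.snd B.hom _))
    have : IsProper B'.hom := inferInstanceAs (IsProper (pullback.snd B.hom _))
    have : ConnectedSpace B'.left :=
      GeometricallyConnected.geometrically_connectedSpace (f := B.hom) (S.fromSpecResidueField s)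
        (pullback.fst B.hom _) (pullback.snd B.hom _) (IsPullback.of_hasPullback _ _)
    have : IsIntegral B'.left := Groth.Agent.Sga3.H780.Pointed.isIntegral B'
    exact K452.LqfSurj.field_iff A' B' f' (hdim s)
  constructor
  · intro hq
    refine ⟨fun b => ?_⟩
    let s : S := B.hom b
    have h1 : LocallyQuasiFinite ((Over.pullback (S.fromSpecResidueField s)).map f).left :=
      MorphismProperty.of_isPullback (hsq s).flip hq
    have h2 := (key s).mp h1
    obtain ⟨b', hb'⟩ : b ∈ Set.range (pullback.fst B.hom (S.fromSpecResidueField s)) := by
      have := Scheme.Hom.range_fiberι B.hom s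
      rw [show Set.range (pullback.fst B.hom (S.fromSpecResidueField s)) = _ from this]
      rfl
    obtain ⟨a', ha'⟩ := h2.surj b'
    refine ⟨pullback.fst A.hom (S.fromSpecResidueField s) a', ?_⟩
    rw [← Scheme.Hom.comp_apply, ← (hsq s).w, Scheme.Hom.comp_apply, ha', hb']
  · intro hs
    rw [locallyQuasiFinite_iff_isDiscrete_preimage_singleton]
    intro b
    let s : S := B.hom b
    have h1 : Surjective ((Over.pullback (S.fromSpecResidueField s)).map f).left :=
      MorphismProperty.of_isPullback (hsq s).flip hs
    have h2 := (key s).mpr h1
    obtain ⟨b', hb'⟩ : b ∈ Set.range (pullback.fst B.hom (S.fromSpecResidueField s)) := by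
      have := Scheme.Hom.range_fiberι B.hom s
      rw [show Set.range (pullback.fst B.hom (S.fromSpecResidueField s)) = _ from this]
      rfl
    have h3 := Scheme.Hom.isDiscrete_preimage_singleton
      ((Over.pullback (S.fromSpecResidueField s)).map f).left b'
    have h4 := h3.image (f := pullback.fst A.hom (S.fromSpecResidueField s))
      (Scheme.Hom.isEmbedding (A.hom.fiberι s)).isInducing
    convert h4 using 1
    ext a
    constructor
    · intro ha
      have ha1 : f.left a = b := ha
      obtain ⟨a', ha'⟩ : a ∈ Set.range (pullback.fst A.hom (S.fromSpecResidueField s)) := by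
        have := Scheme.Hom.range_fiberι A.hom s
        rw [show Set.range (pullback.fst A.hom (S.fromSpecResidueField s)) = _ from this]
        change A.hom a = B.hom b
        rw [← ha1, ← Scheme.Hom.comp_apply, hw]
      refine ⟨a', ?_, ha'⟩
      change ((Over.pullback (S.fromSpecResidueField s)).map f).left a' = b'
      have hinj : Function.Injective (pullback.fst B.hom (S.fromSpecResidueField s)) :=
        (Scheme.Hom.isEmbedding (B.hom.fiberι s)).injective
      apply hinj
      rw [hb', ← Scheme.Hom.comp_apply, (hsq s).w, Scheme.Hom.comp_apply, ha', ha1]
    · rintro ⟨a', ha', rfl⟩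
      change f.left _ = b
      have ha'' : ((Over.pullback (S.fromSpecResidueField s)).map f).left a' = b' := ha'
      rw [← Scheme.Hom.comp_apply, ← (hsq s).w, Scheme.Hom.comp_apply, ha'', hb']

end Groth.Agent.S18385
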