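import Groth.Statements.S18386
import Groth.Agent.LVCorr.K954.IdemIdeal

set_option autoImplicit false
universe u
open LVCorr

namespace Groth.Agent.S18386

open AlgebraicGeometry in
/-- Let X be a connected Noetherian scheme and I a quasi-coherent sheaf of ideals on X, different from
the structure sheaf, such that I^k = I^(k+1) for some natural number k. Then I^k = 0. -/
theorem result (X : Scheme.{u}) [AlgebraicGeometry.IsNoetherian X]
    [ConnectedSpace X] (I : X.IdealSheafData) (hI : I ≠ ⊤) (k : ℕ)
    (h : I ^ k = I ^ (k + 1)) : I ^ k = ⊥ := by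
  rcases eq_or_ne k 0 with rfl | hk
  · exfalso
    apply hI
    rw [pow_zero, zero_add, pow_one] at h
    exact h.symm
  · refine K954.IdemIdeal.pow_eq_bot I k h hk ?_
    have hclopen : IsClopen (I.support : Set X) :=
      ⟨I.support.isClosed, K954.IdemIdeal.isOpen_support I k h⟩
    refine hclopen.eq_univ ?_
    rw [Set.nonempty_iff_ne_empty]
    intro hemp
    apply hI
    rw [← Scheme.IdealSheafData.support_eq_bot_iff]
    exact TopologicalSpace.Closeds.ext hemp

end Groth.Agent.S18386
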