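import Groth.Statements.S18387
import Mathlib.RingTheory.Nakayama
import Mathlib.LinearAlgebra.FiniteDimensional.Lemmas
import Mathlib.RingTheory.KrullDimension.Basic

set_option autoImplicit false
universe u
open LVCorr

namespace Groth.Agent.S18387

/-- In the affine form which its proof establishes. Let A be a commutative algebra over a field F which
is finite-dimensional of dimension d over F. Then the d-th power of the nilradical of A vanishes.
(Applied to the fibre algebra A = B/mB of a quasi-finite morphism over a closed point with maximal
ideal m, this says that the d-th power of the radical of mB lies in mB, i.e. the ramification of the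
morphism at that point is at most the degree d of the fibre.) -/
theorem result (F A : Type u) [Field F] [CommRing A] [Algebra F A]
    [FiniteDimensional F A] : nilradical A ^ Module.finrank F A = ⊥ := by
  have key : ∀ i : ℕ, nilradical A ^ i = ⊥ ∨
      Module.finrank F ((nilradical A ^ i).restrictScalars F) + i ≤ Module.finrank F A := by
    intro i
    induction i with
    | zero =>
      right
      rw [pow_zero, add_zero]
      exact Submodule.finrank_le _
    | succ i ih =>
      by_cases h0 : nilradical A ^ (i + 1) = ⊥
      · exact Or.inl h0
      right
      rcases ih with h | h
      · exact absurd (by rw [pow_succ, h, Ideal.bot_mul]) h0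
      have hlt : nilradical A ^ (i + 1) < nilradical A ^ i := by
        refine lt_of_le_of_ne (Ideal.pow_le_pow_right (Nat.le_succ i)) fun heq => h0 ?_
        have : IsNoetherianRing A := IsNoetherianRing.of_finite F A
        have hfg : (nilradical A ^ i).FG := IsNoetherian.noetherian _
        have hN : nilradical A ^ i = ⊥ := by
          refine Submodule.eq_bot_of_le_smul_of_le_jacobson_bot (nilradical A) _ hfg ?_
            ((Ideal.radical_le_jacobson (I := (⊥ : Ideal A))))
          rw [smul_eq_mul, ← pow_succ', heq]
        rw [heq, hN]
      have := Submodule.finrank_lt_finrank_of_lt
        (s := (nilradical A ^ (i + 1)).restrictScalars F)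
        (t := (nilradical A ^ i).restrictScalars F) hlt
      omega
  rcases key (Module.finrank F A) with h | h
  · exact h
  · have h0 : Module.finrank F ((nilradical A ^ Module.finrank F A).restrictScalars F) = 0 := by
      omega
    have := Submodule.finrank_eq_zero.1 h0
    exact (Submodule.restrictScalars_eq_bot_iff _ _ _).1 this

end Groth.Agent.S18387
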