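import Groth.Statements.S18388
import Groth.Agent.S0384
import Mathlib.AlgebraicGeometry.Morphisms.Proper
import Mathlib.AlgebraicGeometry.Morphisms.Immersion

set_option autoImplicit false
universe u
open LVCorr

namespace Groth.Agent.S18388

open AlgebraicGeometry CategoryTheory Limits in
theorem aux {S C X₁ X₂ Xb₁ Xb₂ : Scheme.{u}}
    [CompactSpace S] [QuasiSeparatedSpace S]
    (pC : C ⟶ S) [IsSeparated pC] [QuasiCompact pC] [LocallyOfFiniteType pC]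
    (pX₁ : X₁ ⟶ S) (pX₂ : X₂ ⟶ S) (pXb₁ : Xb₁ ⟶ S) (pXb₂ : Xb₂ ⟶ S) [IsProper pXb₁] [IsProper pXb₂]
    (c₁ : C ⟶ X₁) (c₂ : C ⟶ X₂) (hc₁ : c₁ ≫ pX₁ = pC) (hc₂ : c₂ ≫ pX₂ = pC)
    (j₁ : X₁ ⟶ Xb₁) (j₂ : X₂ ⟶ Xb₂)
    (hj₁ : j₁ ≫ pXb₁ = pX₁) (hj₂ : j₂ ≫ pXb₂ = pX₂) :
    ∃ (Cb : Scheme.{u}) (pCb : Cb ⟶ S) (j : C ⟶ Cb) (cb₁ : Cb ⟶ Xb₁) (cb₂ : Cb ⟶ Xb₂),
      IsProper pCb ∧ IsOpenImmersion j ∧ DenseRange j.base ∧ j ≫ pCb = pC ∧
      cb₁ ≫ pXb₁ = pCb ∧ cb₂ ≫ pXb₂ = pCb ∧ j ≫ cb₁ = c₁ ≫ j₁ ∧ j ≫ cb₂ = c₂ ≫ j₂ := by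
  subst hc₁
  let π : pullback pXb₁ pXb₂ ⟶ S := pullback.fst pXb₁ pXb₂ ≫ pXb₁
  have hπ : IsProper π := inferInstance
  have hcomp : CompactSpace ↥(pullback pXb₁ pXb₂) :=
    QuasiCompact.compactSpace_of_compactSpace π
  have hqs : QuasiSeparatedSpace ↥(pullback pXb₁ pXb₂) :=
    quasiSeparatedSpace_of_quasiSeparated π
  let g : C ⟶ pullback pXb₁ pXb₂ := pullback.lift (c₁ ≫ j₁) (c₂ ≫ j₂) (by
    rw [Category.assoc, Category.assoc, hj₁, hj₂, hc₂])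
  have hg : g ≫ π = c₁ ≫ pX₁ := by
    simp only [g, π, pullback.lift_fst_assoc, Category.assoc, hj₁]
  have h1 : IsSeparated (g ≫ π) := by rw [hg]; infer_instance
  have h2 : QuasiCompact (g ≫ π) := by rw [hg]; infer_instance
  have h3 : LocallyOfFiniteType (g ≫ π) := by rw [hg]; infer_instance
  have h1' : IsSeparated g := IsSeparated.of_comp g π
  have h2' : QuasiCompact g := QuasiCompact.of_comp g π
  have h3' : LocallyOfFiniteType g := locallyOfFiniteType_of_comp g π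
  obtain ⟨Y, j, b, hj, hjq, hb, hjb⟩ := Groth.Agent.S0384.result g
  refine ⟨j.image, (j.imageι ≫ b) ≫ π, j.toImage, (j.imageι ≫ b) ≫ pullback.fst _ _,
    (j.imageι ≫ b) ≫ pullback.snd _ _, inferInstance, inferInstance, ?_, ?_, ?_, ?_, ?_, ?_⟩
  · exact j.toImage.denseRange
  · rw [Category.assoc, Scheme.Hom.toImage_imageι_assoc, ← Category.assoc, hjb, hg]
  · simp only [π, Category.assoc]
  · simp only [π, Category.assoc, pullback.condition]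
  · rw [Category.assoc, Scheme.Hom.toImage_imageι_assoc, ← Category.assoc, hjb]
    exact pullback.lift_fst _ _ _
  · rw [Category.assoc, Scheme.Hom.toImage_imageι_assoc, ← Category.assoc, hjb]
    exact pullback.lift_snd _ _ _

open AlgebraicGeometry CategoryTheory in
/-- A correspondence admits a compactification compatible with any given compactifications of its
targets. Over a quasi-compact quasi-separated base scheme S, let C → S be separated and of finite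
type, let c₁ : C → X₁ and c₂ : C → X₂ be morphisms over S, and let jᵢ : Xᵢ → X̄ᵢ (i = 1, 2) be open
immersions over S with X̄ᵢ proper over S. Then there are a scheme C̄ proper over S, an open
immersion j : C → C̄ over S with dense image, and morphisms c̄ᵢ : C̄ → X̄ᵢ over S such that j
followed by c̄ᵢ equals cᵢ followed by jᵢ. (The source works over an algebraically closed field; the
base here is any quasi-compact quasi-separated scheme, over which compactifications of separated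
schemes of finite type exist.) -/
theorem result {S C X₁ X₂ Xb₁ Xb₂ : Scheme.{u}}
    [CompactSpace S] [QuasiSeparatedSpace S]
    (pC : C ⟶ S) [IsSeparated pC] [QuasiCompact pC] [LocallyOfFiniteType pC]
    (pX₁ : X₁ ⟶ S) (pX₂ : X₂ ⟶ S) (pXb₁ : Xb₁ ⟶ S) (pXb₂ : Xb₂ ⟶ S) [IsProper pXb₁] [IsProper pXb₂]
    (c₁ : C ⟶ X₁) (c₂ : C ⟶ X₂) (hc₁ : c₁ ≫ pX₁ = pC) (hc₂ : c₂ ≫ pX₂ = pC)
    (j₁ : X₁ ⟶ Xb₁) (j₂ : X₂ ⟶ Xb₂) [IsOpenImmersion j₁] [IsOpenImmersion j₂]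
    (hj₁ : j₁ ≫ pXb₁ = pX₁) (hj₂ : j₂ ≫ pXb₂ = pX₂) :
    ∃ (Cb : Scheme.{u}) (pCb : Cb ⟶ S) (j : C ⟶ Cb) (cb₁ : Cb ⟶ Xb₁) (cb₂ : Cb ⟶ Xb₂),
      IsProper pCb ∧ IsOpenImmersion j ∧ DenseRange j.base ∧ j ≫ pCb = pC ∧
      cb₁ ≫ pXb₁ = pCb ∧ cb₂ ≫ pXb₂ = pCb ∧ j ≫ cb₁ = c₁ ≫ j₁ ∧ j ≫ cb₂ = c₂ ≫ j₂ := by
  exact aux pC pX₁ pX₂ pXb₁ pXb₂ c₁ c₂ hc₁ hc₂ j₁ j₂ hj₁ hj₂

end Groth.Agent.S18388
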