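import Groth.Statements.S18389
import Groth.Agent.Sga4h.H299.Geo

set_option autoImplicit false
universe u
open LVCorr

namespace Groth.Agent.S18389

open AlgebraicGeometry CategoryTheory in
/-- Let j : C → C̄ be an open immersion with dense image and jX : X → X̄ an open immersion, and let c₁ :
C → X and c̄₁ : C̄ → X̄ satisfy j followed by c̄₁ equals c₁ followed by jX, with c̄₁ separated. Let
U be an open subset of X such that c₁⁻¹(U) is dense in C and the restriction c₁⁻¹(U) → U of c₁ is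
proper. Then c̄₁⁻¹(jX(U)) = j(c₁⁻¹(U)) as open subsets of C̄. (In the source all schemes are
separated of finite type over a field, C̄ and X̄ are compactifications of a correspondence and of X,
so that c̄₁ is automatically separated.) -/
theorem result {C Cb X Xb : Scheme.{u}}
    (j : C ⟶ Cb) [IsOpenImmersion j] (hj : DenseRange j.base)
    (jX : X ⟶ Xb) [IsOpenImmersion jX] (c₁ : C ⟶ X) (cb₁ : Cb ⟶ Xb) [IsSeparated cb₁]
    (h : j ≫ cb₁ = c₁ ≫ jX) (U : X.Opens) (hU : Dense ((c₁ ⁻¹ᵁ U : C.Opens) : Set C))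
    [IsProper (c₁ ∣_ U)] :
    cb₁ ⁻¹ᵁ (jX ''ᵁ U) = j ''ᵁ (c₁ ⁻¹ᵁ U) := by
  let m : (c₁ ⁻¹ᵁ U : Scheme.{u}) ⟶ Cb := (c₁ ⁻¹ᵁ U).ι ≫ j
  have hw : m ≫ cb₁ = (c₁ ∣_ U) ≫ (U.ι ≫ jX) := by
    simp only [m, Category.assoc, h]
    rw [← Category.assoc (c₁ ∣_ U), morphismRestrict_ι, Category.assoc]
  have hd : IsDominant m := by
    refine ⟨?_⟩
    have h1 : DenseRange (c₁ ⁻¹ᵁ U).ι := by
      rw [DenseRange, Scheme.Opens.range_ι]
      exact hU
    exact hj.comp h1 j.continuous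
  have hp := Groth.Agent.Sga4h.H299.Geo.isPullback_of_dominant m (c₁ ∣_ U) cb₁ (U.ι ≫ jX) hw
  ext x
  constructor
  · rintro hx
    obtain ⟨u, hu, hux⟩ := hx
    obtain ⟨y, hy, -⟩ := Scheme.exists_preimage_of_isPullback hp x ⟨u, hu⟩ hux.symm
    have hy' : j y.1 = x := hy
    exact ⟨y.1, y.2, hy'⟩
  · rintro ⟨y, hy, rfl⟩
    refine ⟨c₁ y, hy, ?_⟩
    change jX (c₁ y) = cb₁ (j y)
    rw [← Scheme.Hom.comp_apply, ← Scheme.Hom.comp_apply, h]

end Groth.Agent.S18389
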