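import Groth.Statements.S18390
import Mathlib.RingTheory.Ideal.Operations
import Mathlib.RingTheory.Finiteness.Ideal

set_option autoImplicit false
universe u
open LVCorr

namespace Groth.Agent.S18390

/-- In the affine, ring-theoretic form which its proof establishes. Let φ : A' → A be a ring
homomorphism, I' a finitely generated ideal of A' and I an ideal of A containing the image of I'.
Then some power I'^k is mapped into I^(k+1) if and only if for every n ≥ 1 and every a ∈ I'^n there
is a k with φ(a)^k ∈ I^(nk+1). (Geometrically, for a morphism f : (X, Z) → (X', Z') of pairs with Z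
a closed subscheme of the preimage of Z', the normal cone of Z in X is the spectrum of the
associated graded algebra of I, and the second condition says that the induced map of normal cones
sends the normal cone of Z set-theoretically into the zero section Z'; the source states the
equivalence in that language.) -/
theorem result (A' A : Type u) [CommRing A'] [CommRing A]
    (φ : A' →+* A) (I' : Ideal A') (hI' : I'.FG) (I : Ideal A) (hle : I'.map φ ≤ I) :
    (∃ k : ℕ, (I' ^ k).map φ ≤ I ^ (k + 1)) ↔
      ∀ n : ℕ, 1 ≤ n → ∀ a ∈ I' ^ n, ∃ k : ℕ, 1 ≤ k ∧ φ a ^ k ∈ I ^ (n * k + 1) := by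
  constructor
  · rintro ⟨k, hk⟩ n hn a ha
    rcases Nat.eq_zero_or_pos k with rfl | hk0
    · refine ⟨1, le_rfl, ?_⟩
      have hI : I = ⊤ := by
        rw [pow_zero, zero_add, pow_one, Ideal.one_eq_top, Ideal.map_top] at hk
        exact top_le_iff.1 hk
      rw [hI, ← Ideal.one_eq_top, one_pow, Ideal.one_eq_top]
      trivial
    · refine ⟨k, hk0, ?_⟩
      have h1 : a ^ k ∈ (I' ^ k) ^ n := by
        rw [← pow_mul, mul_comm, pow_mul]
        exact Ideal.pow_mem_pow ha k
      have h2 : φ (a ^ k) ∈ (I ^ (k + 1)) ^ n := by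
        have := Ideal.mem_map_of_mem φ h1
        rw [Ideal.map_pow] at this
        exact Ideal.pow_right_mono hk n this
      rw [map_pow, ← pow_mul] at h2
      refine Ideal.pow_le_pow_right ?_ h2
      nlinarith
  · intro H
    have key : ∀ J : Ideal A', J.FG → J ≤ I' → ∃ k : ℕ, (J.map φ) ^ k ≤ I ^ (k + 1) := by
      intro J hJ
      induction J, hJ using Submodule.fg_induction with
      | singleton a =>
        intro ha
        obtain ⟨k, -, hk⟩ := H 1 le_rfl a (by
          rw [pow_one]; exact ha (Ideal.subset_span rfl))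
        refine ⟨k, ?_⟩
        rw [one_mul] at hk
        change (Ideal.map φ (Ideal.span {a})) ^ k ≤ _
        rw [Ideal.map_span, Set.image_singleton, Ideal.span_singleton_pow]
        exact (Ideal.span_singleton_le_iff_mem _).2 hk
      | sup J₁ J₂ _ _ h₁ h₂ =>
        intro hle'
        obtain ⟨k₁, hk₁⟩ := h₁ (le_sup_left.trans hle')
        obtain ⟨k₂, hk₂⟩ := h₂ (le_sup_right.trans hle')
        have e₁ : Ideal.map φ J₁ ≤ I := (Ideal.map_mono (le_sup_left.trans hle')).trans hle
        have e₂ : Ideal.map φ J₂ ≤ I := (Ideal.map_mono (le_sup_right.trans hle')).trans hle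
        refine ⟨k₁ + k₂, ?_⟩
        rw [Ideal.map_sup, ← Ideal.add_eq_sup, add_pow]
        refine Finset.sum_induction _ (fun K : Ideal A => K ≤ I ^ (k₁ + k₂ + 1))
          (fun _ _ => sup_le) bot_le ?_
        intro m hm
        refine Ideal.mul_le_left.trans ?_
        rw [Finset.mem_range] at hm
        by_cases h : k₁ ≤ m
        · calc Ideal.map φ J₁ ^ m * Ideal.map φ J₂ ^ (k₁ + k₂ - m)
              = Ideal.map φ J₁ ^ k₁ * (Ideal.map φ J₁ ^ (m - k₁) *
                  Ideal.map φ J₂ ^ (k₁ + k₂ - m)) := by
                rw [← mul_assoc, ← pow_add, Nat.add_sub_cancel' h]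
            _ ≤ I ^ (k₁ + 1) * (I ^ (m - k₁) * I ^ (k₁ + k₂ - m)) :=
                Ideal.mul_mono hk₁ (Ideal.mul_mono (Ideal.pow_right_mono e₁ _)
                  (Ideal.pow_right_mono e₂ _))
            _ ≤ I ^ (k₁ + k₂ + 1) := by
                rw [← pow_add, ← pow_add]
                exact Ideal.pow_le_pow_right (by omega)
        · calc Ideal.map φ J₁ ^ m * Ideal.map φ J₂ ^ (k₁ + k₂ - m)
              = Ideal.map φ J₂ ^ k₂ * (Ideal.map φ J₁ ^ m *
                  Ideal.map φ J₂ ^ (k₁ + k₂ - m - k₂)) := by
                rw [mul_left_comm, ← pow_add, Nat.add_sub_cancel' (by omega)]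
            _ ≤ I ^ (k₂ + 1) * (I ^ m * I ^ (k₁ + k₂ - m - k₂)) :=
                Ideal.mul_mono hk₂ (Ideal.mul_mono (Ideal.pow_right_mono e₁ _)
                  (Ideal.pow_right_mono e₂ _))
            _ ≤ I ^ (k₁ + k₂ + 1) := by
                rw [← pow_add, ← pow_add]
                exact Ideal.pow_le_pow_right (by omega)
    obtain ⟨k, hk⟩ := key I' hI' le_rfl
    exact ⟨k, by rw [Ideal.map_pow]; exact hk⟩

end Groth.Agent.S18390
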