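import Groth.Statements.S18391
import Groth.Agent.LVCorr.K954.RadicalPrime

set_option autoImplicit false
universe u
open LVCorr

namespace Groth.Agent.S18391

/-- Let A be a normal (integrally closed) Noetherian domain and z an element of A such that the radical
of the principal ideal (z) is prime. Then there exist elements w, t of A and a natural number r,
with w not in the radical of (z), such that in the localization A[1/w] the ideal generated by z
equals the ideal generated by t^r and the ideal generated by t is prime. (The condition on w is the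
one the printed proof produces and the later use of the lemma needs.) -/
theorem result (A : Type u) [CommRing A] [IsDomain A]
    [IsNoetherianRing A] [IsIntegrallyClosed A] (z : A) (hz : (Ideal.span {z}).radical.IsPrime) :
    ∃ (w t : A) (r : ℕ), w ∉ (Ideal.span {z}).radical ∧
      Ideal.span {algebraMap A (Localization.Away w) z} =
        Ideal.span {algebraMap A (Localization.Away w) t ^ r} ∧
      (Ideal.span {algebraMap A (Localization.Away w) t}).IsPrime := by
  by_cases h0 : z = 0
  · subst h0
    refine ⟨1, 0, 1, ?_, by simp, ?_⟩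
    · exact fun h => hz.ne_top ((Ideal.eq_top_iff_one _).2 h)
    · have hdom : IsDomain (Localization.Away (1 : A)) :=
        IsLocalization.isDomain_localization (M := Submonoid.powers (1 : A)) (by
          rw [Submonoid.powers_one]
          exact bot_le)
      rw [map_zero, Ideal.span_singleton_eq_bot.2 rfl]
      exact Ideal.isPrime_bot
  set P := (Ideal.span {z}).radical with hP
  have hzP : z ∈ P := Ideal.le_radical (Ideal.subset_span rfl)
  have hinj : Function.Injective (algebraMap A (Localization.AtPrime P)) :=
    IsLocalization.injective _ P.primeCompl_le_nonZeroDivisors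
  have hdvr : IsDiscreteValuationRing (Localization.AtPrime P) :=
    K954.RadicalPrime.isDiscreteValuationRing hz h0
  obtain ⟨ϖ, hϖ⟩ := IsDiscreteValuationRing.exists_irreducible (Localization.AtPrime P)
  have hm := hϖ.maximalIdeal_eq
  obtain ⟨⟨t, s⟩, hts⟩ := IsLocalization.surj P.primeCompl ϖ
  have hspan : Ideal.span {algebraMap A (Localization.AtPrime P) t} =
      Ideal.span {ϖ} := by
    rw [Ideal.span_singleton_eq_span_singleton]
    refine Associated.symm ⟨(IsLocalization.map_units (Localization.AtPrime P) s).unit, ?_⟩
    rw [IsUnit.unit_spec]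
    exact hts
  have hz0 : Ideal.span {algebraMap A (Localization.AtPrime P) z} ≠ ⊥ := by
    rw [Ne, Ideal.span_singleton_eq_bot]
    exact fun h => h0 ((map_eq_zero_iff _ hinj).1 h)
  obtain ⟨r, hr⟩ := IsDiscreteValuationRing.ideal_eq_span_pow_irreducible hz0 hϖ
  have hr' : Ideal.span {algebraMap A (Localization.AtPrime P) z} =
      Ideal.span {algebraMap A (Localization.AtPrime P) (t ^ r)} := by
    rw [hr, map_pow, ← Ideal.span_singleton_pow, ← Ideal.span_singleton_pow, hspan]
  -- clear denominators
  obtain ⟨w₁, hw₁, H₁⟩ := K954.RadicalPrime.exists_mul_mem P P (Ideal.span {t}) (by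
    rw [Ideal.map_span, Set.image_singleton, hspan, ← hm,
      Localization.AtPrime.map_eq_maximalIdeal])
  obtain ⟨w₂, hw₂, H₂⟩ := K954.RadicalPrime.exists_mul_mem P (Ideal.span {z})
    (Ideal.span {t ^ r}) (by
    rw [Ideal.map_span, Set.image_singleton, Ideal.map_span, Set.image_singleton, hr'])
  obtain ⟨w₃, hw₃, H₃⟩ := K954.RadicalPrime.exists_mul_mem P (Ideal.span {t ^ r})
    (Ideal.span {z}) (by
    rw [Ideal.map_span, Set.image_singleton, Ideal.map_span, Set.image_singleton, hr'])
  have htP : t ∈ P := by
    rw [← IsLocalization.AtPrime.to_map_mem_maximal_iff (Localization.AtPrime P) P t, hm, ← hspan]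
    exact Ideal.subset_span rfl
  set w := w₁ * w₂ * w₃ with hw
  have hwP : w ∉ P := fun h =>
    (hz.mem_or_mem h).elim (fun h => (hz.mem_or_mem h).elim hw₁ hw₂) hw₃
  have hunit : IsUnit (algebraMap A (Localization.Away w) w) :=
    IsLocalization.Away.algebraMap_isUnit w
  have key : ∀ a b c : A, c ∣ w → c * a ∈ Ideal.span {b} →
      algebraMap A (Localization.Away w) a ∈ Ideal.span {algebraMap A (Localization.Away w) b} := by
    intro a b c hc hab
    have hcu : IsUnit (algebraMap A (Localization.Away w) c) :=
      isUnit_of_dvd_unit ((algebraMap A (Localization.Away w)).map_dvd hc) hunit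
    have h1 := Ideal.mem_map_of_mem (algebraMap A (Localization.Away w)) hab
    rw [Ideal.map_span, Set.image_singleton, map_mul] at h1
    exact (Ideal.unit_mul_mem_iff_mem _ hcu).1 h1
  refine ⟨w, t, r, hwP, ?_, ?_⟩
  · refine le_antisymm ?_ ?_
    · rw [Ideal.span_singleton_le_iff_mem, ← map_pow]
      exact key _ _ w₂ ⟨w₁ * w₃, by rw [hw]; ring⟩ (H₂ _ (Ideal.subset_span rfl))
    · rw [Ideal.span_singleton_le_iff_mem, ← map_pow]
      exact key _ _ w₃ ⟨w₁ * w₂, by rw [hw]; ring⟩ (H₃ _ (Ideal.subset_span rfl))
  · have hPw : Ideal.span {algebraMap A (Localization.Away w) t} =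
        P.map (algebraMap A (Localization.Away w)) := by
      refine le_antisymm ?_ ?_
      · rw [Ideal.span_singleton_le_iff_mem]
        exact Ideal.mem_map_of_mem _ htP
      · rw [Ideal.map_le_iff_le_comap]
        intro x hx
        exact key _ _ w₁ ⟨w₂ * w₃, by rw [hw]; ring⟩ (H₁ _ hx)
    rw [hPw]
    refine IsLocalization.isPrime_of_isPrime_disjoint (Submonoid.powers w) _ P hz ?_
    rw [Set.disjoint_left]
    rintro _ ⟨n, rfl⟩ hn
    exact hwP (hz.mem_of_pow_mem n hn)

end Groth.Agent.S18391
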