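import Groth.Statements.S18392
import Groth.Agent.LVCorr.K954.RadicalPrime

set_option autoImplicit false
universe u
open LVCorr

namespace Groth.Agent.S18392

/-- Let A be a normal (integrally closed) Noetherian domain and z an element of A such that the radical
of (z) is prime. Then for every non-empty open subset V of Spec A contained in the basic open set
D(z) (that is, every non-empty open subset of Spec A[1/z]) there is an element x of A, not in the
radical of (z), such that the basic open set D(xz) = Spec A[1/xz] is contained in V. -/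
theorem result (A : Type u) [CommRing A]
    [IsDomain A] [IsNoetherianRing A] [IsIntegrallyClosed A] (z : A)
    (hz : (Ideal.span {z}).radical.IsPrime) (V : Set (PrimeSpectrum A)) (hV : IsOpen V)
    (hVz : V ⊆ (PrimeSpectrum.basicOpen z : Set (PrimeSpectrum A))) (hne : V.Nonempty) :
    ∃ x : A, x ∉ (Ideal.span {z}).radical ∧
      ((PrimeSpectrum.basicOpen (x * z) : TopologicalSpace.Opens (PrimeSpectrum A)) :
        Set (PrimeSpectrum A)) ⊆ V := by
  obtain ⟨p, hp⟩ := hne
  obtain ⟨_, ⟨f, rfl⟩, hpf, hfV⟩ :=
    PrimeSpectrum.isTopologicalBasis_basic_opens.exists_subset_of_mem_open hp hV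
  have hf : f ≠ 0 := by
    rintro rfl
    exact hpf p.asIdeal.zero_mem
  obtain ⟨x, N, hx, hxN⟩ := K954.RadicalPrime.exists_mul_pow_mem hz f hf
  refine ⟨x, hx, fun q hq => hfV ?_⟩
  intro hfq
  have hq' : x * z ∉ q.asIdeal := hq
  have h1 : x * z ^ N ∈ q.asIdeal := (Ideal.span_singleton_le_iff_mem _).2 hfq hxN
  rcases q.isPrime.mem_or_mem h1 with h | h
  · exact hq' (q.asIdeal.mul_mem_right _ h)
  · exact hq' (q.asIdeal.mul_mem_left _ (q.isPrime.mem_of_pow_mem N h))

end Groth.Agent.S18392
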