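import Groth.Statements.S18393
import Mathlib.Topology.NoetherianSpace

set_option autoImplicit false
universe u v
open LVCorr

namespace Groth.Agent.S18393

/-- Stated for the underlying continuous maps. Let c₁, c₂ : C → X be continuous maps with C a Noetherian
topological space, let Z be a closed subset of X and B the closure in C of c₂⁻¹(Z) ∖ c₁⁻¹(Z). Call Z
locally invariant when every point x of Z has an open neighbourhood U such that every y in C with
c₂(y) ∈ Z ∩ U and c₁(y) ∈ U satisfies c₁(y) ∈ Z. Then Z is locally invariant if and only if for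
every irreducible subset T of B the closures of c₁(T) and of c₂(T) in X are disjoint. (The source
states this for a correspondence c = (c₁, c₂) : C → X × X of separated schemes of finite type over
an algebraically closed field and for the irreducible components of B; the condition for all
irreducible subsets of B is the same condition.) -/
theorem result {C : Type u} {X : Type v}
    [TopologicalSpace C] [TopologicalSpace X] [TopologicalSpace.NoetherianSpace C]
    (c₁ c₂ : C → X) (hc₁ : Continuous c₁) (hc₂ : Continuous c₂) (Z : Set X) (hZ : IsClosed Z) :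
    (∀ x ∈ Z, ∃ U : Set X, IsOpen U ∧ x ∈ U ∧
        ∀ y : C, c₂ y ∈ Z → c₂ y ∈ U → c₁ y ∈ U → c₁ y ∈ Z) ↔
      ∀ T : Set C, T ⊆ closure (c₂ ⁻¹' Z \ c₁ ⁻¹' Z) → IsIrreducible T →
        closure (c₁ '' T) ∩ closure (c₂ '' T) = ∅ := by
  constructor
  · intro hloc T hT hirr
    rw [← Set.not_nonempty_iff_eq_empty]
    rintro ⟨x, hx₁, hx₂⟩
    have hBZ : closure (c₂ ⁻¹' Z \ c₁ ⁻¹' Z) ⊆ c₂ ⁻¹' Z :=
      closure_minimal Set.sdiff_subset (hZ.preimage hc₂)
    have hxZ : x ∈ Z := by
      refine closure_minimal ?_ hZ hx₂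
      rintro _ ⟨y, hy, rfl⟩
      exact hBZ (hT hy)
    obtain ⟨U, hU, hxU, H⟩ := hloc x hxZ
    have h₁ : (T ∩ c₁ ⁻¹' U).Nonempty := by
      obtain ⟨_, hyU, y, hy, rfl⟩ := mem_closure_iff.1 hx₁ U hU hxU
      exact ⟨y, hy, hyU⟩
    have h₂ : (T ∩ c₂ ⁻¹' U).Nonempty := by
      obtain ⟨_, hyU, y, hy, rfl⟩ := mem_closure_iff.1 hx₂ U hU hxU
      exact ⟨y, hy, hyU⟩
    obtain ⟨y, hyT, hy⟩ := hirr.2 _ _ (hU.preimage hc₁) (hU.preimage hc₂) h₁ h₂
    obtain ⟨z, ⟨hz₁, hz₂⟩, hzS⟩ := mem_closure_iff.1 (hT hyT) _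
      ((hU.preimage hc₁).inter (hU.preimage hc₂)) hy
    exact hzS.2 (H z hzS.1 hz₂ hz₁)
  · intro H x hx
    have hfin : Set.Finite (irreducibleComponents ↥(closure (c₂ ⁻¹' Z \ c₁ ⁻¹' Z))) :=
      TopologicalSpace.NoetherianSpace.finite_irreducibleComponents
    let B := closure (c₂ ⁻¹' Z \ c₁ ⁻¹' Z)
    let F : Set ↥B → Set C := fun t => Subtype.val '' t
    have hF : ∀ t ∈ irreducibleComponents ↥B,
        closure (c₁ '' (F t)) ∩ closure (c₂ '' (F t)) = ∅ := by
      intro t ht
      refine H _ ?_ ?_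
      · rintro _ ⟨y, -, rfl⟩; exact y.2
      · exact IsIrreducible.image ht.1 _ continuous_subtype_val.continuousOn
    have key : ∀ t : Set ↥B, ∃ U : Set X, IsOpen U ∧ (t ∈ irreducibleComponents ↥B → x ∈ U ∧
        ∀ y ∈ F t, c₂ y ∈ U → c₁ y ∈ U → False) := by
      intro t
      by_cases ht : t ∈ irreducibleComponents ↥B
      · by_cases hx1 : x ∈ closure (c₁ '' (F t))
        · refine ⟨(closure (c₂ '' (F t)))ᶜ, isClosed_closure.isOpen_compl, fun _ => ⟨?_, ?_⟩⟩
          · intro hx2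
            have : x ∈ (∅ : Set X) := hF t ht ▸ ⟨hx1, hx2⟩
            exact this
          · intro y hy h2 _
            exact h2 (subset_closure ⟨y, hy, rfl⟩)
        · refine ⟨(closure (c₁ '' (F t)))ᶜ, isClosed_closure.isOpen_compl, fun _ => ⟨hx1, ?_⟩⟩
          intro y hy _ h1
          exact h1 (subset_closure ⟨y, hy, rfl⟩)
      · exact ⟨Set.univ, isOpen_univ, fun h => absurd h ht⟩
    choose U hUo hU using key
    refine ⟨⋂ t ∈ irreducibleComponents ↥B, U t, hfin.isOpen_biInter fun t _ => hUo t, ?_, ?_⟩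
    · exact Set.mem_iInter₂.2 fun t ht => (hU t ht).1
    · intro y hy2 hyU2 hyU1
      by_contra hy1
      have hyB : y ∈ B := subset_closure ⟨hy2, hy1⟩
      have ht := irreducibleComponent_mem_irreducibleComponents (⟨y, hyB⟩ : ↥B)
      refine (hU _ ht).2 y ⟨⟨y, hyB⟩, mem_irreducibleComponent, rfl⟩
        (Set.mem_iInter₂.1 hyU2 _ ht) (Set.mem_iInter₂.1 hyU1 _ ht)

end Groth.Agent.S18393
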