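import Groth.Statements.S18395
import Groth.Agent.S18388
import Groth.Agent.S18389
import Groth.Agent.S18393
import Groth.Agent.S18394

set_option autoImplicit false
universe u
open LVCorr

namespace Groth.Agent.S18395

open AlgebraicGeometry CategoryTheory in
/-- Let X and C be schemes separated and of finite type over a field k, let c₁, c₂ : C → X be morphisms
over k (a correspondence C → X × X), and fix an open U ⊆ X whose preimage c₁⁻¹(U) forms a dense
subset of C, such that the restriction c₁⁻¹(U) → U of c₁ is proper, and the closed subset Z = X ∖ U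
is locally invariant: every point x of Z has an open neighbourhood U' such that every y in C with
c₂(y) ∈ Z ∩ U' and c₁(y) ∈ U' satisfies c₁(y) ∈ Z. Then the correspondence has a compactification
for which the complement of U is again locally invariant: there are schemes C̄ and X̄ proper over k,
open immersions j : C → C̄ and jX : X → X̄ over k with dense images, and morphisms c̄₁, c̄₂ : C̄ →
X̄ over k with j followed by c̄ᵢ equal to cᵢ followed by jX, such that X̄ ∖ jX(U) is locally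
invariant for (c̄₁, c̄₂) in the same sense. (The source has k algebraically closed.) -/
theorem result {C X : Scheme.{u}} (k : Type u) [Field k]
    (pC : C ⟶ Spec (CommRingCat.of k)) [IsSeparated pC] [QuasiCompact pC] [LocallyOfFiniteType pC]
    (pX : X ⟶ Spec (CommRingCat.of k)) [IsSeparated pX] [QuasiCompact pX] [LocallyOfFiniteType pX]
    (c₁ c₂ : C ⟶ X) (hc₁ : c₁ ≫ pX = pC) (hc₂ : c₂ ≫ pX = pC) (U : X.Opens)
    (hU : Dense ((c₁ ⁻¹ᵁ U : C.Opens) : Set C)) [IsProper (c₁ ∣_ U)]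
    (hZ : ∀ x ∈ ((U : Set X)ᶜ), ∃ U' : Set X, IsOpen U' ∧ x ∈ U' ∧
        ∀ y, c₂.base y ∈ ((U : Set X)ᶜ) → c₂.base y ∈ U' → c₁.base y ∈ U' → c₁.base y ∈ ((U : Set X)ᶜ)) :
    ∃ (Cb Xb : Scheme.{u}) (pCb : Cb ⟶ Spec (CommRingCat.of k)) (pXb : Xb ⟶ Spec (CommRingCat.of k))
      (j : C ⟶ Cb) (jX : X ⟶ Xb) (cb₁ cb₂ : Cb ⟶ Xb),
      IsProper pCb ∧ IsProper pXb ∧ IsOpenImmersion j ∧ IsOpenImmersion jX ∧
      DenseRange j.base ∧ DenseRange jX.base ∧ j ≫ pCb = pC ∧ jX ≫ pXb = pX ∧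
      cb₁ ≫ pXb = pCb ∧ cb₂ ≫ pXb = pCb ∧ j ≫ cb₁ = c₁ ≫ jX ∧ j ≫ cb₂ = c₂ ≫ jX ∧
      ∀ x ∈ ((jX.base '' (U : Set X))ᶜ), ∃ U' : Set Xb, IsOpen U' ∧ x ∈ U' ∧
        ∀ y, cb₂.base y ∈ ((jX.base '' (U : Set X))ᶜ) → cb₂.base y ∈ U' → cb₁.base y ∈ U' → cb₁.base y ∈ ((jX.base '' (U : Set X))ᶜ) := by
  have hk : IsNoetherianRing (CommRingCat.of k) := inferInstanceAs (IsNoetherianRing k)
  have hCl : IsLocallyNoetherian C := LocallyOfFiniteType.isLocallyNoetherian pC
  have hCc : CompactSpace C := QuasiCompact.compactSpace_of_compactSpace pC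
  have hCn : AlgebraicGeometry.IsNoetherian C := {}
  have hZcl : IsClosed ((U : Set X)ᶜ) := U.isOpen.isClosed_compl
  have H := (Groth.Agent.S18393.result (fun y => c₁.base y) (fun y => c₂.base y) c₁.continuous
    c₂.continuous ((U : Set X)ᶜ) hZcl).1 hZ
  set S : Set C := (fun y => c₂.base y) ⁻¹' ((U : Set X)ᶜ) \ (fun y => c₁.base y) ⁻¹' ((U : Set X)ᶜ)
    with hS
  let ι := irreducibleComponents ↥(closure S)
  have hfin : Finite ι := TopologicalSpace.NoetherianSpace.finite_irreducibleComponents.to_subtype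
  let T : ι → Set C := fun i => Subtype.val '' i.1
  have hTirr : ∀ i, IsIrreducible (T i) := fun i =>
    i.2.1.image _ continuous_subtype_val.continuousOn
  have hTB : ∀ i, T i ⊆ closure S := by
    rintro i _ ⟨y, -, rfl⟩
    exact y.2
  have hcov : closure S ⊆ ⋃ i, T i := by
    intro y hy
    rw [Set.mem_iUnion]
    exact ⟨⟨_, irreducibleComponent_mem_irreducibleComponents (⟨y, hy⟩ : ↥(closure S))⟩,
      ⟨y, hy⟩, mem_irreducibleComponent, rfl⟩
  obtain ⟨Xb, jX, pXb, hpXb, hjX, hjXd, hjXp, Hd⟩ := Groth.Agent.S18394.result k pX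
    (fun i : ι => closure ((fun y => c₁.base y) '' T i))
    (fun i : ι => closure ((fun y => c₂.base y) '' T i))
    (fun _ => isClosed_closure) (fun _ => isClosed_closure)
    (fun i => H (T i) (hTB i) (hTirr i))
  obtain ⟨Cb, pCb, j, cb₁, cb₂, hpCb, hj, hjd, hjp, hcb₁, hcb₂, hjc₁, hjc₂⟩ :=
    Groth.Agent.S18388.result pC pX pX pXb pXb c₁ c₂ hc₁ hc₂ jX jX hjXp hjXp
  have hCbl : IsLocallyNoetherian Cb := LocallyOfFiniteType.isLocallyNoetherian pCb
  have hCbc : CompactSpace Cb := QuasiCompact.compactSpace_of_compactSpace pCb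
  have hCbn : AlgebraicGeometry.IsNoetherian Cb := {}
  have hsep : IsSeparated cb₁ := by
    have : IsSeparated (cb₁ ≫ pXb) := by rw [hcb₁]; infer_instance
    exact IsSeparated.of_comp cb₁ pXb
  have hpre := Groth.Agent.S18389.result j hjd jX c₁ cb₁ hjc₁ U hU
  refine ⟨Cb, Xb, pCb, pXb, j, jX, cb₁, cb₂, hpCb, hpXb, hj, hjX, hjd, hjXd, hjp, hjXp, hcb₁, hcb₂,
    hjc₁, hjc₂, ?_⟩
  refine (Groth.Agent.S18393.result (fun y => cb₁.base y) (fun y => cb₂.base y) cb₁.continuous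
    cb₂.continuous ((jX.base '' (U : Set X))ᶜ) ?_).2 ?_
  · exact (jX.isOpenEmbedding.isOpenMap _ U.isOpen).isClosed_compl
  intro T' hT' hirr
  have hSb : (fun y => cb₂.base y) ⁻¹' ((jX.base '' (U : Set X))ᶜ) \
      (fun y => cb₁.base y) ⁻¹' ((jX.base '' (U : Set X))ᶜ) ⊆ j '' S := by
    rintro y ⟨hy2, hy1⟩
    have hy1' : cb₁ y ∈ jX '' (U : Set X) := by
      by_contra h
      exact hy1 h
    have : y ∈ (cb₁ ⁻¹ᵁ (jX ''ᵁ U) : Cb.Opens) := hy1'
    rw [hpre] at this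
    obtain ⟨z, hz, rfl⟩ := this
    refine ⟨z, ⟨?_, fun h => h hz⟩, rfl⟩
    intro hzU
    apply hy2
    refine ⟨c₂ z, hzU, ?_⟩
    change jX (c₂ z) = cb₂ (j z)
    rw [← Scheme.Hom.comp_apply, ← Scheme.Hom.comp_apply, hjc₂]
  have hcov' : T' ⊆ ⋃ i, closure (j '' T i) := by
    refine hT'.trans (closure_minimal ?_ (isClosed_iUnion_of_finite fun _ => isClosed_closure))
    refine hSb.trans ?_
    rintro _ ⟨z, hz, rfl⟩
    obtain ⟨i, hi⟩ := Set.mem_iUnion.1 (hcov (subset_closure hz))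
    exact Set.mem_iUnion.2 ⟨i, subset_closure ⟨z, hi, rfl⟩⟩
  obtain ⟨i, hi⟩ : ∃ i, T' ⊆ closure (j '' T i) := by
    classical
    have : Fintype ι := Fintype.ofFinite ι
    obtain ⟨z, hz, hz'⟩ := isIrreducible_iff_sUnion_isClosed.1 hirr
      (Finset.univ.image fun i : ι => closure (j '' T i)) (by
        intro z hz
        obtain ⟨i, -, rfl⟩ := Finset.mem_image.1 hz
        exact isClosed_closure) (by
        intro y hy
        obtain ⟨i, hi⟩ := Set.mem_iUnion.1 (hcov' hy)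
        exact ⟨_, by simp only [Finset.coe_image]; exact ⟨i, by simp, rfl⟩, hi⟩)
    obtain ⟨i, -, rfl⟩ := Finset.mem_image.1 hz
    exact ⟨i, hz'⟩
  have e₁ : (fun y => cb₁.base y) '' T' ⊆
      closure (jX.base '' closure ((fun y => c₁.base y) '' T i)) := by
    rintro _ ⟨y, hy, rfl⟩
    have h1 : cb₁ y ∈ closure (cb₁ '' (j '' T i)) :=
      image_closure_subset_closure_image cb₁.continuous ⟨y, hi hy, rfl⟩
    refine closure_mono ?_ h1
    rintro _ ⟨_, ⟨z, hz, rfl⟩, rfl⟩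
    refine ⟨c₁ z, subset_closure ⟨z, hz, rfl⟩, ?_⟩
    change jX (c₁ z) = cb₁ (j z)
    rw [← Scheme.Hom.comp_apply, ← Scheme.Hom.comp_apply, hjc₁]
  have e₂ : (fun y => cb₂.base y) '' T' ⊆
      closure (jX.base '' closure ((fun y => c₂.base y) '' T i)) := by
    rintro _ ⟨y, hy, rfl⟩
    have h1 : cb₂ y ∈ closure (cb₂ '' (j '' T i)) :=
      image_closure_subset_closure_image cb₂.continuous ⟨y, hi hy, rfl⟩
    refine closure_mono ?_ h1
    rintro _ ⟨_, ⟨z, hz, rfl⟩, rfl⟩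
    refine ⟨c₂ z, subset_closure ⟨z, hz, rfl⟩, ?_⟩
    change jX (c₂ z) = cb₂ (j z)
    rw [← Scheme.Hom.comp_apply, ← Scheme.Hom.comp_apply, hjc₂]
  rw [Set.eq_empty_iff_forall_notMem]
  rintro x ⟨hx1, hx2⟩
  have := Hd i
  rw [Set.eq_empty_iff_forall_notMem] at this
  exact this x ⟨closure_minimal e₁ isClosed_closure hx1, closure_minimal e₂ isClosed_closure hx2⟩

end Groth.Agent.S18395
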