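import Groth.Statements.S18397
import Groth.Agent.LVCorr.K954.FrobIter
import Groth.Agent.LVCorr.K954.OpenComap
import Mathlib.Topology.DiscreteSubset

set_option autoImplicit false
universe u
open LVCorr

namespace Groth.Agent.S18397

open AlgebraicGeometry CategoryTheory CategoryTheory.Limits in
/-- Let k₀ be a finite field with p^e elements, K an algebraic closure of k₀, C₀ a scheme locally of
finite type over k₀, C = C₀ ×_{k₀} Spec K with its projections, and Fr : C → C the n-th power of the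
geometric Frobenius (over K, compatible with the (e·n)-th power of the absolute p-Frobenius of C₀).
Let X be locally of finite type over K and c₁, c₂ : C → X morphisms over K with c₂ quasi-finite, and
let d < p^(e n) be such that for every closed point x of X, with J_x the inverse image under c₂ of
the ideal sheaf of the reduced point x, one has (√J_x)^d ⊂ J_x (d bounds the ramification of c₂).
Then the twisted correspondence (c₁ ∘ Fr, c₂) is contracting near every closed point in a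
neighbourhood of its fixed points: for every closed point x of X there is an open subset W of C
containing every point of C whose image under (c₁ ∘ Fr, c₂) : C → X ×_K X lies in the diagonal, such
that, writing L and J for the inverse image ideal sheaves on W of the ideal of x under c₁ ∘ Fr and
under c₂, one has L ⊂ J and L^k ⊂ J^(k+1) for some k. (In the source the correspondence is defined
over k₀ and the twist is written with the geometric Frobenius of X.) -/
theorem result {C C₀ X : Scheme.{u}}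
    (p : ℕ) [Fact p.Prime] (k₀ : Type u) [Field k₀] [Fintype k₀] [CharP k₀ p] (e : ℕ)
    (hq : Fintype.card k₀ = p ^ e) (K : Type u) [Field K] [Algebra k₀ K] [IsAlgClosure k₀ K]
    (f₀ : C₀ ⟶ Spec (CommRingCat.of k₀)) [LocallyOfFiniteType f₀] [FrobSch.IsCharP C₀ p]
    (πC₀ : C ⟶ C₀) (πK : C ⟶ Spec (CommRingCat.of K))
    (hC : IsPullback πC₀ πK f₀ (Spec.map (CommRingCat.ofHom (algebraMap k₀ K))))
    (n : ℕ) (Fr : C ⟶ C)
    (hFr₀ : Fr ≫ πC₀ = πC₀ ≫ End.asHom (End.of (FrobSch.frob C₀ p) ^ (e * n)))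
    (hFrK : Fr ≫ πK = πK)
    (pX : X ⟶ Spec (CommRingCat.of K)) [LocallyOfFiniteType pX]
    (c₁ c₂ : C ⟶ X) (hc₁ : c₁ ≫ pX = πK) (hc₂ : c₂ ≫ pX = πK)
    [LocallyQuasiFinite c₂] [LocallyOfFiniteType c₂]
    (hcomm : (Fr ≫ c₁) ≫ pX = c₂ ≫ pX) (d : ℕ) (hn : d < p ^ (e * n))
    (hd : ∀ (x : X) (hx : IsClosed ({x} : Set X)),
      ((Scheme.IdealSheafData.vanishingIdeal ⟨{x}, hx⟩).comap c₂).radical ^ d ≤
        (Scheme.IdealSheafData.vanishingIdeal ⟨{x}, hx⟩).comap c₂)
    (x : X) (hx : IsClosed ({x} : Set X)) :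
    ∃ W : C.Opens,
      (pullback.lift (Fr ≫ c₁) c₂ hcomm).base ⁻¹' Set.range (pullback.diagonal pX).base ⊆ (W : Set C) ∧
      (Scheme.IdealSheafData.vanishingIdeal ⟨{x}, hx⟩).comap (W.ι ≫ Fr ≫ c₁) ≤
        (Scheme.IdealSheafData.vanishingIdeal ⟨{x}, hx⟩).comap (W.ι ≫ c₂) ∧
      ∃ k : ℕ, (Scheme.IdealSheafData.vanishingIdeal ⟨{x}, hx⟩).comap (W.ι ≫ Fr ≫ c₁) ^ k ≤
        (Scheme.IdealSheafData.vanishingIdeal ⟨{x}, hx⟩).comap (W.ι ≫ c₂) ^ (k + 1) := by
  have hCp : FrobSch.IsCharP C p := FrobSch.IsCharP.of_hom πC₀ p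
  obtain ⟨τ, hτ⟩ := K954.FrobIter.exists_eq_comp_fm p k₀ e hq K f₀ πC₀ πK hC n Fr hFr₀ hFrK
  have h1 : Fr ≫ c₁ = K954.FrobIter.fm C p (e * n) ≫ (τ ≫ c₁) := by
    rw [hτ, ← Category.assoc, K954.FrobIter.fm_comp, Category.assoc]
  set V := Scheme.IdealSheafData.vanishingIdeal ⟨{x}, hx⟩ with hV
  have h2 : V.comap (Fr ≫ c₁) =
      (V.comap (τ ≫ c₁)).comap (K954.FrobIter.fm C p (e * n)) := by
    rw [h1, Scheme.IdealSheafData.comap_comp]
  have hVs : (V.support : Set X) = {x} := by
    rw [hV, Scheme.IdealSheafData.coe_support_vanishingIdeal]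
    rfl
  have hDcl : IsClosed (c₂ ⁻¹' {x} \ (Fr ≫ c₁) ⁻¹' {x}) :=
    isClosed_of_subset_discrete_closed Set.sdiff_subset (c₂.isDiscrete_preimage_singleton x)
      (hx.preimage c₂.continuous)
  let W : C.Opens := ⟨(c₂ ⁻¹' {x} \ (Fr ≫ c₁) ⁻¹' {x})ᶜ, hDcl.isOpen_compl⟩
  have hW : ∀ y : C, y ∈ W → c₂ y = x → (Fr ≫ c₁) y = x := by
    intro y hy hyx
    by_contra hne
    exact hy ⟨hyx, hne⟩
  have key : ∀ U : C.affineOpens, U.1 ≤ W → (V.comap (Fr ≫ c₁)).ideal U ≤ (V.comap c₂).ideal U ∧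
      (V.comap (Fr ≫ c₁)).ideal U ^ d ≤ (V.comap c₂).ideal U ^ (d + 1) := by
    intro U hU
    rw [h2]
    refine K954.FrobIter.ideal_comap_fm_bounds p (e * n) (V.comap (τ ≫ c₁)) (V.comap c₂) U
      ?_ d hn (hd x hx U)
    intro y hyU hy
    have hy' : y ∈ ((V.comap c₂).support : Set C) := hy
    rw [Scheme.IdealSheafData.support_comap] at hy'
    have h3 : c₂ y ∈ (V.support : Set X) := hy'
    rw [hVs] at h3
    have h4 := hW y (hU hyU) h3
    rw [h1, Scheme.Hom.comp_apply, K954.FrobIter.fm_apply] at h4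
    have h5 : y ∈ ((V.comap (τ ≫ c₁)).support : Set C) := by
      rw [Scheme.IdealSheafData.support_comap]
      change (τ ≫ c₁) y ∈ (V.support : Set X)
      rw [hVs]
      exact h4
    exact h5
  refine ⟨W, ?_, ?_, d, ?_⟩
  · rintro y ⟨z, hz⟩
    rintro ⟨hy2, hy1⟩
    apply hy1
    have e1 : (Fr ≫ c₁) y = z := by
      have : pullback.fst pX pX (pullback.lift (Fr ≫ c₁) c₂ hcomm y) =
          pullback.fst pX pX (pullback.diagonal pX z) := congrArg _ hz.symm
      rw [← Scheme.Hom.comp_apply, ← Scheme.Hom.comp_apply, pullback.lift_fst,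
        pullback.diagonal_fst] at this
      exact this
    have e2 : c₂ y = z := by
      have : pullback.snd pX pX (pullback.lift (Fr ≫ c₁) c₂ hcomm y) =
          pullback.snd pX pX (pullback.diagonal pX z) := congrArg _ hz.symm
      rw [← Scheme.Hom.comp_apply, ← Scheme.Hom.comp_apply, pullback.lift_snd,
        pullback.diagonal_snd] at this
      exact this
    change (Fr ≫ c₁) y = x
    rw [e1, ← e2]
    exact hy2
  · rw [Scheme.IdealSheafData.comap_comp V W.ι (Fr ≫ c₁), Scheme.IdealSheafData.comap_comp V W.ι c₂]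
    exact K954.OpenComap.comap_ι_le W _ _ fun U hU => (key U hU).1
  · rw [Scheme.IdealSheafData.comap_comp V W.ι (Fr ≫ c₁), Scheme.IdealSheafData.comap_comp V W.ι c₂,
      ← Groth.Agent.Divis.IdealComap.comap_pow (V.comap (Fr ≫ c₁)) W.ι d,
      ← Groth.Agent.Divis.IdealComap.comap_pow (V.comap c₂) W.ι (d + 1)]
    exact K954.OpenComap.comap_ι_le W (V.comap (Fr ≫ c₁) ^ d) (V.comap c₂ ^ (d + 1))
      fun U hU => (key U hU).2

end Groth.Agent.S18397
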