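import Groth.Statements.S18399
import Mathlib.RingTheory.Nakayama
import Mathlib.LinearAlgebra.Basis.VectorSpace
import Mathlib.RingTheory.RegularLocalRing.Defs
import Mathlib.RingTheory.LocalRing.RingHom.Basic

set_option autoImplicit false
universe u
open CAlg

namespace Groth.Agent.S18399

open IsLocalRing in
theorem aux {k : Type u} [Field k] {A : Type u} [CommRing A] [Algebra k A] [IsLocalRing A]
    [IsNoetherianRing A]
    (hres : Function.Surjective ⇑(algebraMap k (ResidueField A))) (σ : A →ₐ[k] A) (n : ℕ)
    (hσ : ∀ a : A, (⇑σ)^[n] a = a) (hn : (n : k) ≠ 0) :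
    ∃ (m : ℕ) (f : Fin m → ↥(maximalIdeal A)),
      Ideal.span (Set.range fun i : Fin m => (f i : A)) =
        Ideal.span (Set.range fun a : A => a - σ a) ∧
      LinearIndependent (ResidueField A) (fun i : Fin m => (maximalIdeal A).toCotangent (f i)) := by
  classical
  have hn0 : n ≠ 0 := by rintro rfl; simp at hn
  set 𝔪 := maximalIdeal A with h𝔪
  -- `σ` preserves the maximal ideal
  have hσ𝔪 : ∀ a ∈ 𝔪, σ a ∈ 𝔪 := by
    intro a ha hu
    apply ha
    rw [← hσ a]
    obtain ⟨j, rfl⟩ := Nat.exists_eq_succ_of_ne_zero hn0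
    rw [Function.iterate_succ_apply]
    have : ∀ (j : ℕ) (x : A), IsUnit x → IsUnit ((⇑σ)^[j] x) := by
      intro j
      induction j with
      | zero => exact fun x hx => hx
      | succ j ih =>
        intro x hx
        rw [Function.iterate_succ_apply]
        exact ih _ (hx.map σ)
    exact this j _ hu
  have hσ𝔪2 : ∀ a ∈ 𝔪 ^ 2, σ a ∈ 𝔪 ^ 2 := by
    intro a ha
    have h1 : σ a ∈ (𝔪 ^ 2).map σ := Ideal.mem_map_of_mem σ ha
    rw [Ideal.map_pow] at h1
    refine Ideal.pow_right_mono ?_ 2 h1
    rw [Ideal.map_le_iff_le_comap]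
    exact hσ𝔪
  have hconst : ∀ a : A, ∃ c : k, a - algebraMap k A c ∈ 𝔪 := by
    intro a
    obtain ⟨c, hc⟩ := hres (residue A a)
    refine ⟨c, ?_⟩
    rw [h𝔪, ← residue_eq_zero_iff, map_sub, ← hc, IsScalarTower.algebraMap_apply k A (ResidueField A)]
    exact sub_self _
  have hdiff : ∀ a : A, a - σ a ∈ 𝔪 := by
    intro a
    obtain ⟨c, hc⟩ := hconst a
    have h1 := 𝔪.sub_mem hc (hσ𝔪 _ hc)
    rw [map_sub, AlgHom.commutes] at h1
    convert h1 using 1
    ring
  set I := Ideal.span (Set.range fun a : A => a - σ a) with hI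
  have hmemI : ∀ a, a - σ a ∈ I := fun a => Ideal.subset_span ⟨a, rfl⟩
  -- elements of `𝔪 ^ 2`
  have hsq : ∀ h ∈ 𝔪 ^ 2, h - σ h ∈ 𝔪 * I := by
    intro h hh
    rw [pow_two] at hh
    refine Submodule.mul_induction_on hh ?_ ?_
    · intro a ha b hb
      have : a * b - σ (a * b) = b * (a - σ a) + σ a * (b - σ b) := by
        rw [map_mul]; ring
      rw [this]
      exact Ideal.add_mem _ (Ideal.mul_mem_mul hb (hmemI a))
        (Ideal.mul_mem_mul (hσ𝔪 a ha) (hmemI b))
    · intro a b ha hb
      have : a + b - σ (a + b) = (a - σ a) + (b - σ b) := by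
        rw [map_add]; ring
      rw [this]
      exact Ideal.add_mem _ ha hb
  have hkey : ∀ g : A, g - σ g ∈ 𝔪 ^ 2 → g - σ g ∈ 𝔪 * I := by
    intro g hg
    have hj : ∀ j : ℕ, (⇑σ)^[j] (g - σ g) ∈ 𝔪 ^ 2 := by
      intro j
      induction j with
      | zero => exact hg
      | succ j ih =>
        rw [Function.iterate_succ_apply']
        exact hσ𝔪2 _ ih
    have hsub : ∀ (j : ℕ) (x y : A), (⇑σ)^[j] (x - y) = (⇑σ)^[j] x - (⇑σ)^[j] y := by
      intro j
      induction j with
      | zero => exact fun x y => rfl
      | succ j ih =>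
        intro x y
        rw [Function.iterate_succ_apply, Function.iterate_succ_apply, Function.iterate_succ_apply,
          map_sub, ih]
    have hj' : ∀ j : ℕ, g - (⇑σ)^[j] g ∈ 𝔪 ^ 2 := by
      intro j
      induction j with
      | zero =>
        change g - g ∈ _
        rw [sub_self]; exact Ideal.zero_mem _
      | succ j ih =>
        have h1 := Ideal.add_mem _ ih (hj j)
        rw [hsub, ← Function.iterate_succ_apply] at h1
        convert h1 using 1
        ring
    set h : A := algebraMap k A (n : k)⁻¹ * ∑ j ∈ Finset.range n, (g - (⇑σ)^[j] g) with hh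
    have hmem : h ∈ 𝔪 ^ 2 := Ideal.mul_mem_left _ _ (Ideal.sum_mem _ fun j _ => hj' j)
    have hinv : σ (∑ j ∈ Finset.range n, (⇑σ)^[j] g) = ∑ j ∈ Finset.range n, (⇑σ)^[j] g := by
      rw [map_sum]
      have h1 : ∑ j ∈ Finset.range n, σ ((⇑σ)^[j] g) =
          ∑ j ∈ Finset.range n, (⇑σ)^[j + 1] g := by
        refine Finset.sum_congr rfl fun j _ => ?_
        rw [Function.iterate_succ_apply']
      have h2 := Finset.sum_range_succ (fun j => (⇑σ)^[j] g) n
      have h3 := Finset.sum_range_succ' (fun j => (⇑σ)^[j] g) n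
      rw [h2, hσ] at h3
      rw [h1]
      exact (add_right_cancel h3).symm
    have heq : h - σ h = g - σ g := by
      have hu : algebraMap k A (n : k)⁻¹ * (n : A) = 1 := by
        rw [← map_natCast (algebraMap k A), ← map_mul, inv_mul_cancel₀ hn, map_one]
      have h1 : ∑ j ∈ Finset.range n, (g - (⇑σ)^[j] g) =
          n * g - ∑ j ∈ Finset.range n, (⇑σ)^[j] g := by
        rw [Finset.sum_sub_distrib, Finset.sum_const, Finset.card_range, nsmul_eq_mul]
      rw [hh, h1, map_mul, map_sub, hinv, map_mul, map_natCast, AlgHom.commutes]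
      linear_combination (g - σ g) * hu
    rw [← heq]
    exact hsq h hmem
  -- choose a basis of the image
  let v : A → CotangentSpace A := fun a => 𝔪.toCotangent ⟨a - σ a, hdiff a⟩
  obtain ⟨b, hbs, hbspan, hbli⟩ := exists_linearIndependent (ResidueField A) (Set.range v)
  have hbfin : b.Finite := hbli.setFinite
  have := hbfin.fintype
  let e := Fintype.equivFin b
  have hchoose : ∀ i : Fin (Fintype.card b), ∃ a : A, v a = (e.symm i : CotangentSpace A) :=
    fun i => hbs (e.symm i).2
  choose a ha using hchoose
  refine ⟨Fintype.card b, fun i => ⟨a i - σ (a i), hdiff _⟩, ?_, ?_⟩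
  swap
  · have h1 : (fun i : Fin (Fintype.card b) => 𝔪.toCotangent (⟨a i - σ (a i), hdiff _⟩ : 𝔪)) =
      (fun x : b => (x : CotangentSpace A)) ∘ e.symm := by
      funext i
      exact ha i
    rw [h1]
    exact hbli.comp _ e.symm.injective
  set J := Ideal.span (Set.range fun i : Fin (Fintype.card b) =>
    ((⟨a i - σ (a i), hdiff _⟩ : 𝔪) : A)) with hJ
  apply le_antisymm
  · rw [hJ, Ideal.span_le]
    rintro _ ⟨i, rfl⟩
    exact hmemI _
  · apply Submodule.le_of_le_smul_of_le_jacobson_bot (IsNoetherian.noetherian I)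
      (IsLocalRing.maximalIdeal_le_jacobson ⊥)
    conv_lhs => rw [hI]
    rw [Ideal.span_le]
    rintro _ ⟨x, rfl⟩
    have hx : v x ∈ Submodule.span (ResidueField A) (Set.range fun i => v (a i)) := by
      have h1 : Set.range (fun i => v (a i)) = b := by
        ext y
        constructor
        · rintro ⟨i, rfl⟩
          change v (a i) ∈ b
          rw [ha]
          exact (e.symm i).2
        · intro hy
          exact ⟨e ⟨y, hy⟩, by change v (a _) = y; rw [ha, e.symm_apply_apply]⟩
      rw [h1, hbspan]
      exact Submodule.subset_span ⟨x, rfl⟩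
    rw [Submodule.mem_span_range_iff_exists_fun] at hx
    obtain ⟨c, hc⟩ := hx
    choose l hl using fun i => hres (c i)
    set g := x - ∑ i, algebraMap k A (l i) * a i with hg
    have hgσ : g - σ g = (x - σ x) - ∑ i, algebraMap k A (l i) * (a i - σ (a i)) := by
      rw [hg, map_sub, map_sum]
      simp only [map_mul, AlgHom.commutes, mul_sub, Finset.sum_sub_distrib]
      ring
    have hg2 : g - σ g ∈ 𝔪 ^ 2 := by
      have h1 : 𝔪.toCotangent ((⟨x - σ x, hdiff x⟩ : 𝔪) -
          ∑ i, algebraMap k A (l i) • (⟨a i - σ (a i), hdiff _⟩ : 𝔪)) = 0 := by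
        rw [map_sub, map_sum, sub_eq_zero]
        change v x = _
        rw [← hc]
        refine Finset.sum_congr rfl fun i _ => ?_
        rw [map_smul, ← hl i, IsScalarTower.algebraMap_apply k A (ResidueField A)]
        exact algebraMap_smul (ResidueField A) (algebraMap k A (l i)) _
      rw [Ideal.toCotangent_eq_zero] at h1
      rw [hgσ]
      convert h1 using 1
      simp only [AddSubgroupClass.coe_sub, AddSubmonoidClass.coe_finsetSum, SetLike.val_smul,
        smul_eq_mul]
    have h3 := hkey g hg2
    have h4 : x - σ x = ∑ i, algebraMap k A (l i) * (a i - σ (a i)) + (g - σ g) := by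
      rw [hgσ]; ring
    change x - σ x ∈ J ⊔ 𝔪 • I
    rw [h4]
    refine Submodule.add_mem_sup ?_ h3
    exact Ideal.sum_mem _ fun i _ => Ideal.mul_mem_left _ _ (Ideal.subset_span ⟨i, rfl⟩)

/-- Let k be a field and A a regular local k-algebra with residue field k (the structure map from k onto
the residue field of A is surjective), let σ be a k-algebra endomorphism of A of finite order n with
n invertible in k, and let I_σ be the ideal of A generated by the elements f - σ f. Then I_σ is
generated by finitely many elements of the maximal ideal whose classes in the cotangent space m/m^2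
are linearly independent over the residue field. (Such elements are part of a regular system of
parameters of A, hence part of a regular sequence, which is the printed conclusion; the generators
with independent classes are what the argument produces.) -/
theorem result {k : Type u} [Field k] {A : Type u} [CommRing A] [Algebra k A] [IsRegularLocalRing A] (hres : Function.Surjective ⇑(algebraMap k (IsLocalRing.ResidueField A))) (σ : A →ₐ[k] A) (n : ℕ) (hσ : ∀ a : A, (⇑σ)^[n] a = a) (hn : (n : k) ≠ 0) : ∃ (m : ℕ) (f : Fin m → ↥(IsLocalRing.maximalIdeal A)), Ideal.span (Set.range fun i : Fin m => (f i : A)) = Ideal.span (Set.range fun a : A => a - σ a) ∧ LinearIndependent (IsLocalRing.ResidueField A) (fun i : Fin m => (IsLocalRing.maximalIdeal A).toCotangent (f i)) := by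
  exact aux hres σ n hσ hn

end Groth.Agent.S18399
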