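import Groth.Statements.S18402
import Mathlib.AlgebraicGeometry.Morphisms.UniversallyOpen
import Mathlib.AlgebraicGeometry.Morphisms.QuasiFinite
import Mathlib.Topology.Connected.Clopen

set_option autoImplicit false
universe u
open Pi1

namespace Groth.Agent.S18402

open AlgebraicGeometry CategoryTheory CategoryTheory.Limits in
/-- Let X be an irreducible scheme and π : W ⟶ X a flat morphism whose fibre over every field-valued
point of X is irreducible (so every fibre is geometrically irreducible and π is surjective). Then
for every finite étale cover Z of X with Z connected, the base change of Z along π is connected.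
Ranging over all finite étale covers of X, this says that the monodromy group of each cover (the
image of the fundamental group in the permutations of a geometric fibre) is unchanged by pullback
along π. The published statement asserts that equality of monodromy groups, for generically finite,
generically étale covers between irreducible algebraic stacks. -/
theorem result {X W : Scheme.{u}}
    [IrreducibleSpace X] (π : W ⟶ X) [Flat π] [GeometricallyIrreducible π]
    (Z : FEt.Cat X) [ConnectedSpace Z.left] :
    ConnectedSpace ↥(pullback Z.hom π) := by
  have hfinZ : IsFinite Z.hom := Z.prop.1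
  have hetZ : Etale Z.hom := Z.prop.2
  set p : pullback Z.hom π ⟶ Z.left := pullback.fst Z.hom π with hp
  have hpf : Flat p := inferInstance
  have hpg : GeometricallyIrreducible p := inferInstance
  have hsurj : Function.Surjective p := p.surjective
  have hgenp : GeneralizingMap p := Flat.generalizingMap p
  -- the images of the two halves of a decomposition are closed
  have key : ∀ s : Set ↥(pullback Z.hom π), IsClopen s → (p '' s) ∩ (p '' sᶜ) = ∅ ∧ IsClosed (p '' s) := by
    intro s hs
    have hdisj : (p '' s) ∩ (p '' sᶜ) = ∅ := by
      rw [Set.eq_empty_iff_forall_notMem]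
      rintro z ⟨⟨a, ha, haz⟩, ⟨b, hb, hbz⟩⟩
      have hirr : _root_.IsPreconnected (p ⁻¹' {z}) := by
        rw [← p.range_fiberι z]
        exact isPreconnected_range (p.fiberι z).continuous
      have := hirr.subset_isClopen hs ⟨a, haz, ha⟩
      exact hb (this hbz)
    refine ⟨hdisj, ?_⟩
    have hcov : (p '' s) ∪ (p '' sᶜ) = Set.univ := by
      rw [← Set.image_union, Set.union_compl_self, Set.image_univ, hsurj.range_eq]
    have hgs : StableUnderGeneralization (p '' s) :=
      hgenp.stableUnderGeneralization_image hs.isOpen.stableUnderGeneralization
    have hgc : StableUnderGeneralization (p '' sᶜ) :=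
      hgenp.stableUnderGeneralization_image hs.compl.isOpen.stableUnderGeneralization
    have hfin : ((Z.hom ⁻¹' {genericPoint X}) ∩ (p '' s)).Finite :=
      (Z.hom.finite_preimage_singleton (genericPoint X)).subset Set.inter_subset_left
    have heq : p '' s = ⋃ ζ ∈ (Z.hom ⁻¹' {genericPoint X}) ∩ (p '' s), closure {ζ} := by
      apply Set.Subset.antisymm
      · intro z hz
        -- `z` specializes from a point above the generic point
        have hspec : genericPoint X ⤳ Z.hom z := genericPoint_specializes _
        obtain ⟨ζ, hζ, hζX⟩ := Flat.generalizingMap Z.hom hspec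
        simp only [Set.mem_iUnion]
        refine ⟨ζ, ⟨hζX, hgs hζ hz⟩, ?_⟩
        exact hζ.mem_closure
      · intro z hz
        simp only [Set.mem_iUnion] at hz
        obtain ⟨ζ, ⟨-, hζ⟩, hz⟩ := hz
        by_contra hzs
        have hzc : z ∈ p '' sᶜ := by
          have : z ∈ (p '' s) ∪ (p '' sᶜ) := by rw [hcov]; trivial
          exact this.resolve_left hzs
        have : ζ ∈ (p '' s) ∩ (p '' sᶜ) :=
          ⟨hζ, hgc (specializes_iff_mem_closure.2 hz) hzc⟩
        rw [hdisj] at this
        exact this
    rw [heq]
    exact hfin.isClosed_biUnion fun _ _ => isClosed_closure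
  have hpre : PreconnectedSpace ↥(pullback Z.hom π) := by
    rw [preconnectedSpace_iff_clopen]
    intro s hs
    obtain ⟨hd, hcl⟩ := key s hs
    obtain ⟨-, hcl'⟩ := key sᶜ hs.compl
    have hcov : (p '' s) ∪ (p '' sᶜ) = Set.univ := by
      rw [← Set.image_union, Set.union_compl_self, Set.image_univ, hsurj.range_eq]
    have hc : (p '' s)ᶜ = p '' sᶜ := by
      apply Set.Subset.antisymm
      · intro z hz
        have : z ∈ (p '' s) ∪ (p '' sᶜ) := by rw [hcov]; trivial
        exact this.resolve_left hz
      · intro z hz hz'
        have : z ∈ (p '' s) ∩ (p '' sᶜ) := ⟨hz', hz⟩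
        rw [hd] at this
        exact this
    have hclopen : IsClopen (p '' s) := ⟨hcl, by rw [← isClosed_compl_iff, hc]; exact hcl'⟩
    rcases isClopen_iff.1 hclopen with h | h
    · left
      exact Set.image_eq_empty.1 h
    · right
      rw [h, Set.compl_univ] at hc
      exact Set.compl_empty_iff.1 (Set.image_eq_empty.1 hc.symm)
  obtain ⟨z⟩ := (inferInstance : Nonempty Z.left)
  obtain ⟨w, -⟩ := hsurj z
  exact { toPreconnectedSpace := hpre, toNonempty := ⟨w⟩ }

end Groth.Agent.S18402
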