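import Groth.Statements.S18403
import Groth.Agent.Cubic.K655.HesseB
import Groth.Agent.Cubic.K656.Bridge
import Mathlib.Analysis.Complex.Polynomial.Basic

set_option autoImplicit false
universe u
open Cubic

namespace Groth.Agent.S18403

open K656.Trilin K656.Eckardt K656.Bridge K655.Hesse K655.HesseB

open MvPolynomial in
/-- Let f be a nonzero homogeneous cubic in three variables over ℂ whose plane curve is smooth (at every
nonzero zero of f some partial derivative of f is nonzero). Then f is projectively equivalent to a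
Hesse cubic: there are an invertible matrix A, a constant c ≠ 0 and a parameter k with k³ ≠ 1 such
that the linear substitution X_i ↦ Σ_j A_ij X_j carries f to c · (X₀³ + X₁³ + X₂³ − 3k·X₀X₁X₂). -/
theorem result (f : MvPolynomial (Fin 3) ℂ) (hf : f.IsHomogeneous 3)
    (hf0 : f ≠ 0) (hsm : ∀ v : Fin 3 → ℂ, v ≠ 0 → eval v f = 0 → ∃ i : Fin 3, eval v (pderiv i f) ≠ 0) :
    ∃ (A : Matrix (Fin 3) (Fin 3) ℂ) (k c : ℂ), IsUnit A.det ∧ k ^ 3 ≠ 1 ∧ c ≠ 0 ∧
      aeval (fun i : Fin 3 => ∑ j : Fin 3, C (A i j) * X j) f = C c * HesseCubic.form k := by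
  have hT := tri_sym f
  have hS : Smooth (tri f) := smooth_tri hf hsm
  obtain ⟨p, u₀, hp, hu₀, hppp, hppu₀, hpu₀⟩ := exists_flex hf hS
  obtain ⟨u, w, x, y, z, hv, hα, hβ, hppu, hpuu, hpuw, hpww, huuw⟩ :=
    exists_weierstrass (by simp) hT hS hp hu₀ hppp hppu₀ hpu₀
  obtain ⟨X', Y', Z', κ, c, hκ, hc, hform⟩ :=
    exists_hesse hT hS x y z hv hppp hα hβ hppu hpuu hpuw hpww huuw
  -- the matrix
  let L : (Fin 3 → ℂ) →ₗ[ℂ] (Fin 3 → ℂ) := LinearMap.pi ![X', Y', Z']
  have hL0 : ∀ v, L v 0 = X' v := fun v => rfl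
  have hL1 : ∀ v, L v 1 = Y' v := fun v => rfl
  have hL2 : ∀ v, L v 2 = Z' v := fun v => rfl
  let B : Matrix (Fin 3) (Fin 3) ℂ := LinearMap.toMatrix' L
  have hB : ∀ v, B.mulVec v = L v := fun v => by
    rw [← Matrix.toLin'_apply, Matrix.toLin'_toMatrix']
  have hBdet : B.det ≠ 0 := by
    intro h0
    obtain ⟨v, hv0, hBv⟩ := Matrix.exists_mulVec_eq_zero_iff.mpr h0
    rw [hB] at hBv
    have e0 : X' v = 0 := by rw [← hL0, hBv]; rfl
    have e1 : Y' v = 0 := by rw [← hL1, hBv]; rfl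
    have e2 : Z' v = 0 := by rw [← hL2, hBv]; rfl
    have hvvv : tri f v v v = 0 := by rw [hform, e0, e1, e2]; ring
    obtain ⟨w', hw'⟩ := hS v hv0 hvvv
    apply hw'
    have h6 : (6 : ℂ) ≠ 0 := by norm_num
    have := hT.polar v v w'
    simp only [hform] at this
    simp only [map_add, e0, e1, e2] at this
    apply mul_left_cancel₀ h6
    rw [this]; ring
  have hBu : IsUnit B.det := hBdet.isUnit
  refine ⟨B⁻¹, κ, c, ?_, hκ, hc, ?_⟩
  · rw [Matrix.isUnit_nonsing_inv_det_iff]; exact hBu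
  · rw [aeval_linear_eq_iff]
    intro v
    have h1 : L (B⁻¹.mulVec v) = v := by
      rw [← hB, Matrix.mulVec_mulVec, Matrix.mul_nonsing_inv _ hBu, Matrix.one_mulVec]
    rw [← tri_diag hf, hform, ← hL0, ← hL1, ← hL2, h1]
    simp only [HesseCubic.form, map_mul, map_sub, map_add, map_pow, eval_C, eval_X]

end Groth.Agent.S18403
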