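import Groth.Statements.S18404
import Mathlib.Tactic
import Mathlib.LinearAlgebra.LinearIndependent.Lemmas

set_option autoImplicit false
universe u
open Cubic

namespace Groth.Agent.S18404

open MvPolynomial in
/-- Let k ∈ ℂ with k³ ≠ 1 and let h = X₀³ + X₁³ + X₂³ − 3k·X₀X₁X₂ be the Hesse cubic. For a nonzero
vector v with h(v) = 0, the corresponding point is a flex of the plane curve of h — some line
through it meets the curve there with multiplicity three, i.e. there is a vector w linearly
independent from v with h(v + t·w) = t³·h(w) for every t — exactly when v is a scalar multiple of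
one of the nine vectors (0, 1, −γ), (−γ, 0, 1), (1, −γ, 0) with γ³ = 1. -/
theorem result (k : ℂ) (hk : k ^ 3 ≠ 1) (v : Fin 3 → ℂ) (hv : v ≠ 0)
    (hCv : eval v (HesseCubic.form k) = 0) :
    (∃ w : Fin 3 → ℂ, LinearIndependent ℂ ![v, w] ∧
        ∀ t : ℂ, eval (v + t • w) (HesseCubic.form k) = t ^ 3 * eval w (HesseCubic.form k)) ↔
      ∃ γ c : ℂ, γ ^ 3 = 1 ∧ (v = c • ![0, 1, -γ] ∨ v = c • ![-γ, 0, 1] ∨ v = c • ![1, -γ, 0]) := by
  have hev : ∀ u : Fin 3 → ℂ, eval u (HesseCubic.form k) =
      u 0 ^ 3 + u 1 ^ 3 + u 2 ^ 3 - 3 * k * (u 0 * u 1 * u 2) := by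
    intro u; simp [HesseCubic.form]
  simp only [hev] at hCv ⊢
  constructor
  · rintro ⟨w, hlin, hw⟩
    have h1 := hw 1
    have h2 := hw (-1)
    simp only [Pi.add_apply, Pi.smul_apply, smul_eq_mul] at h1 h2
    -- polar forms
    have hP : v 0 ^ 2 * w 0 + v 1 ^ 2 * w 1 + v 2 ^ 2 * w 2 -
        k * (w 0 * v 1 * v 2 + v 0 * w 1 * v 2 + v 0 * v 1 * w 2) = 0 := by
      linear_combination (h1 - h2) / 6
    have hQ : v 0 * w 0 ^ 2 + v 1 * w 1 ^ 2 + v 2 * w 2 ^ 2 -
        k * (w 0 * w 1 * v 2 + w 0 * v 1 * w 2 + v 0 * w 1 * w 2) = 0 := by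
      linear_combination (h1 + h2) / 6 - hCv / 3
    have hk1 : 1 - k ^ 3 ≠ 0 := fun h => hk (by linear_combination -h)
    have hxyz : v 0 * v 1 * v 2 = 0 := by
      by_contra hne
      -- the symmetric matrix of the polar conic has a two-dimensional isotropic subspace
      have c2 : (1 - k ^ 3) * (v 0 * v 1 * v 2) * (v 0 * w 1 - v 1 * w 0) ^ 2 = 0 := by
        linear_combination ((v 0 * w 0 ^ 2 + v 1 * w 1 ^ 2 + v 2 * w 2 ^ 2 - k * (w 0 * w 1 * v 2 + w 0 * v 1 * w 2 + v 0 * w 1 * w 2)) * v 2 - (w 0 * (-(k * v 1 / 2)) + w 1 * (-(k * v 0 / 2)) + w 2 * v 2) ^ 2 + k ^ 2 / 4 * (v 0 * w 1 - v 1 * w 0) ^ 2) * hCv +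
          (-((v 0 ^ 2 * w 0 + v 1 ^ 2 * w 1 + v 2 ^ 2 * w 2 - k * (w 0 * v 1 * v 2 + v 0 * w 1 * v 2 + v 0 * v 1 * w 2)) * v 2) + 2 * (v 0 * (-(k * v 1 / 2)) + v 1 * (-(k * v 0 / 2)) + v 2 * v 2) * (w 0 * (-(k * v 1 / 2)) + w 1 * (-(k * v 0 / 2)) + w 2 * v 2)) * hP + (-((v 0 * (-(k * v 1 / 2)) + v 1 * (-(k * v 0 / 2)) + v 2 * v 2) ^ 2)) * hQ
      have c1 : (1 - k ^ 3) * (v 0 * v 1 * v 2) * (v 0 * w 2 - v 2 * w 0) ^ 2 = 0 := by
        linear_combination ((v 0 * w 0 ^ 2 + v 1 * w 1 ^ 2 + v 2 * w 2 ^ 2 - k * (w 0 * w 1 * v 2 + w 0 * v 1 * w 2 + v 0 * w 1 * w 2)) * v 1 - (w 0 * (-(k * v 2 / 2)) + w 1 * v 1 + w 2 * (-(k * v 0 / 2))) ^ 2 + k ^ 2 / 4 * (v 0 * w 2 - v 2 * w 0) ^ 2) * hCv +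
          (-((v 0 ^ 2 * w 0 + v 1 ^ 2 * w 1 + v 2 ^ 2 * w 2 - k * (w 0 * v 1 * v 2 + v 0 * w 1 * v 2 + v 0 * v 1 * w 2)) * v 1) + 2 * (v 0 * (-(k * v 2 / 2)) + v 1 * v 1 + v 2 * (-(k * v 0 / 2))) * (w 0 * (-(k * v 2 / 2)) + w 1 * v 1 + w 2 * (-(k * v 0 / 2)))) * hP + (-((v 0 * (-(k * v 2 / 2)) + v 1 * v 1 + v 2 * (-(k * v 0 / 2))) ^ 2)) * hQ
      have hne' := mul_ne_zero hk1 hne
      have d2 := pow_eq_zero_iff (two_ne_zero) |>.mp ((mul_eq_zero.mp c2).resolve_left hne')
      have d1 := pow_eq_zero_iff (two_ne_zero) |>.mp ((mul_eq_zero.mp c1).resolve_left hne')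
      rw [LinearIndependent.pair_iff] at hlin
      have hv0 : v 0 ≠ 0 := fun h => hne (by rw [h]; ring)
      have := (hlin (w 0) (-(v 0)) (by
        funext i
        fin_cases i
        · simp; ring
        · simp; linear_combination -d2
        · simp; linear_combination -d1)).2
      exact hv0 (by linear_combination -this)
    have hvne : ∀ i j l : Fin 3, i ≠ j → j ≠ l → i ≠ l → v i = 0 → v j = 0 → v l ≠ 0 := by
      intro i j l hij hjl hil hi hj hl
      apply hv
      funext a
      fin_cases i <;> fin_cases j <;> fin_cases l <;> first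
        | exact absurd rfl hij
        | exact absurd rfl hjl
        | exact absurd rfl hil
        | (fin_cases a <;> first | exact hi | exact hj | exact hl)
    rcases mul_eq_zero.mp hxyz with h01 | hz
    · rcases mul_eq_zero.mp h01 with hx | hy
      · have hs : v 1 ^ 3 + v 2 ^ 3 = 0 := by rw [hx] at hCv; linear_combination hCv
        have hy : v 1 ≠ 0 := by
          intro hy
          have hz : v 2 ^ 3 = 0 := by rw [hy] at hs; linear_combination hs
          exact hvne 0 1 2 (by decide) (by decide) (by decide) hx hy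
            (pow_eq_zero_iff three_ne_zero |>.mp hz)
        refine ⟨-(v 2 / v 1), v 1, ?_, Or.inl ?_⟩
        · field_simp; linear_combination -hs
        · funext i
          fin_cases i
          · simp [hx]
          · simp
          · simp; field_simp
      · have hs : v 0 ^ 3 + v 2 ^ 3 = 0 := by rw [hy] at hCv; linear_combination hCv
        have hz : v 2 ≠ 0 := by
          intro hz
          have hx : v 0 ^ 3 = 0 := by rw [hz] at hs; linear_combination hs
          exact hvne 2 1 0 (by decide) (by decide) (by decide) hz hy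
            (pow_eq_zero_iff three_ne_zero |>.mp hx)
        refine ⟨-(v 0 / v 2), v 2, ?_, Or.inr (Or.inl ?_)⟩
        · field_simp; linear_combination -hs
        · funext i
          fin_cases i
          · simp; field_simp
          · simp [hy]
          · simp
    · have hs : v 0 ^ 3 + v 1 ^ 3 = 0 := by rw [hz] at hCv; linear_combination hCv
      have hx : v 0 ≠ 0 := by
        intro hx
        have hy : v 1 ^ 3 = 0 := by rw [hx] at hs; linear_combination hs
        exact hvne 0 2 1 (by decide) (by decide) (by decide) hx hz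
          (pow_eq_zero_iff three_ne_zero |>.mp hy)
      refine ⟨-(v 1 / v 0), v 0, ?_, Or.inr (Or.inr ?_)⟩
      · field_simp; linear_combination -hs
      · funext i
        fin_cases i
        · simp
        · simp; field_simp
        · simp [hz]
  · rintro ⟨γ, c, hγ, h⟩
    have hc : c ≠ 0 := by
      rintro rfl
      apply hv
      rcases h with h | h | h <;> rw [h, zero_smul]
    rcases h with rfl | rfl | rfl
    · refine ⟨![1, -(k * γ), 0], ?_, ?_⟩
      · rw [LinearIndependent.pair_iff]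
        intro s t hst
        have e0 := congrFun hst 0
        have e1 := congrFun hst 1
        simp at e0 e1
        simp [e0, hc] at e1
        exact ⟨e1, e0⟩
      · intro t
        simp
        linear_combination (-(c ^ 3) + 0) * hγ
    · refine ⟨![0, 1, -(k * γ)], ?_, ?_⟩
      · rw [LinearIndependent.pair_iff]
        intro s t hst
        have e0 := congrFun hst 1
        have e1 := congrFun hst 2
        simp at e0 e1
        simp [e0, hc] at e1
        exact ⟨e1, e0⟩
      · intro t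
        simp
        linear_combination (-(c ^ 3) + 0) * hγ
    · refine ⟨![-(k * γ), 0, 1], ?_, ?_⟩
      · rw [LinearIndependent.pair_iff]
        intro s t hst
        have e0 := congrFun hst 2
        have e1 := congrFun hst 0
        simp at e0 e1
        simp [e0, hc] at e1
        exact ⟨e1, e0⟩
      · intro t
        simp
        linear_combination (-(c ^ 3) + 0) * hγ

end Groth.Agent.S18404
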