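import Groth.Statements.S18413
import Groth.Agent.Curves.K363.FibChi
import Groth.Agent.Etdl.H426.FibDim

set_option autoImplicit false
universe u
open CategoryTheory AlgebraicGeometry
open Curves

namespace Groth.Agent.S18413

/-- Let k be an algebraically closed field, X a k-scheme that is smooth of relative dimension 2 and
proper over k (a smooth proper surface), S an irreducible k-scheme smooth of relative dimension 1 (a
smooth curve), and π : X → S a proper flat k-morphism with O_S → π_* O_X bijective on every open
subset of S. For a closed point s of S whose scheme-theoretic fibre X_s is reduced: (a) H^0(X_s,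
O_{X_s}) is one-dimensional over κ(s), and (b) the arithmetic genus dim H^1(X_s, O_{X_s}) equals
that of the generic fibre X_η over κ(η). -/
theorem result
    {k : Type u} [Field k] [IsAlgClosed k] {X S : Scheme.{u}}
    (π : X ⟶ S) (g : S ⟶ Spec (CommRingCat.of k))
    [SmoothOfRelativeDimension 1 g] [IrreducibleSpace S]
    [SmoothOfRelativeDimension 2 (π ≫ g)] [IsProper (π ≫ g)]
    [IsProper π] [Flat π]
    (hO : ∀ U : S.Opens, Function.Bijective (π.app U))
    (s : S) (hs : IsClosed ({s} : Set S)) [AlgebraicGeometry.IsReduced (π.fiber s)] :
    PerfAux.betti π (Coh.structureModule X) s 0 = 1 ∧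
      PerfAux.betti π (Coh.structureModule X) s 1 =
        PerfAux.betti π (Coh.structureModule X) (genericPoint S) 1 := by
  have hsm : Smooth g := SmoothOfRelativeDimension.smooth 1 g
  have hlft : LocallyOfFiniteType g := inferInstance
  have : IsLocallyNoetherian S := LocallyOfFiniteType.isLocallyNoetherian g
  have hdX : topologicalKrullDim X ≤ 2 :=
    Groth.Agent.Etdl.H426.FibDim.field_le (k := CommRingCat.of k) (Field.toIsField k) 2 (π ≫ g)
  have : IsAlgClosed (S.residueField s) := K431.GeomGenFib.isAlgClosed_residueField k g s hs
  exact K363.FibChi.main π hdX hO s hs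

end Groth.Agent.S18413
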