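import Groth.Statements.S18414
import Groth.Agent.S0002
import Groth.Agent.Pi1B.GaFin104

set_option autoImplicit false
universe u
open CategoryTheory AlgebraicGeometry
open EtCoh

namespace Groth.Agent.S18414

/-- In the case of a proper scheme — let k be a separably closed field of characteristic p > 0 and X a
scheme proper over k, so that p = 0 in Γ(X, O_X). Then for every q ≥ 0 the endomorphism of the étale
cohomology group H^q(X_et, G_a) induced by the Artin–Schreier endomorphism x ↦ x^p − x of G_a is
surjective; by the long exact sequence of 0 → Z/p → G_a → G_a → 0 this says that 0 → H^q(X_et, Z/p)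
→ H^q(X_et, G_a) → H^q(X_et, G_a) → 0 is exact for every q. (The published statement writes the
middle terms as the Zariski cohomology H^q(X, O_X), canonically isomorphic to H^q(X_et, G_a), and
also records the vanishing of H^q(X_et, Z/p) for q > dim X, and for q ≥ 2 when X is affine.) -/
theorem result
    {k : Type u} [Field k] [IsSepClosed k] (p : ℕ) [hp : Fact p.Prime] [CharP k p]
    {X : Scheme.{u}} (f : X ⟶ Spec (CommRingCat.of k)) [IsProper f]
    (h0 : (p : Γ(X, ⊤)) = 0) (q : ℕ) :
    Function.Surjective
      ((EtCoh.HF X q).map (W4c5etcohweilstudent.artinSchreierEndo X p hp.out h0)) := by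
  have hfin : ∀ n : ℕ, letI : X.Over (Spec (CommRingCat.of k)) := ⟨f⟩
      Module.Finite k (Coh.HH X (Coh.structureModule X) n) := by
    intro n
    let _ : X.Over (Spec (CommRingCat.of k)) := ⟨f⟩
    have hp : IsProper (X ↘ Spec (CommRingCat.of k)) := ‹IsProper f›
    exact Groth.Agent.S0002.result k X (Coh.structureModule X)
      (Groth.Agent.Fdesc.StructMod.isCoh_structureModule X) n
  have h1 := Groth.Agent.Cohder.ASFinite.surjective_post p f (EtCoh.const X ℤ) q
    (Groth.Agent.Pi1B.GaFin104.finite_ga f q (hfin q))
  have h2 : W4c5etcohweilstudent.artinSchreierEndo X p hp.out h0 =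
      Groth.Agent.Cohder.ASFinite.frob p (Groth.Agent.Cohder.ASFinite.cast_eq_zero p f) - 𝟙 _ := by
    rw [← Groth.Agent.Cohder.ASFinite.asMap_eq]
    rfl
  rw [h2]
  exact h1

end Groth.Agent.S18414
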