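import Groth.Statements.S18417
import Groth.Agent.CalgB.QuasiRegularAppend
import Groth.Agent.Sga67.SymAlg

set_option autoImplicit false
universe u v
open CAlg

namespace Groth.Agent.S18417

open MvPolynomial

section

variable {A : Type v} [CommRing A] {d : ℕ} (x : Fin d → A) {Q : Type v} [CommRing Q]
  (q : A →+* Q) (s : A ⧸ Ideal.span (Set.range x) →+* Q)

/-- The error between the evaluation via a section and the evaluation via the quotient map. -/
theorem error_mem
    (hs : ∀ a : A, s (Ideal.Quotient.mk _ a) - q a ∈ (Ideal.span (Set.range x)).map q)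
    (k : ℕ) (P : MvPolynomial (Fin d) A) (hP : P ∈ idealOfVars (Fin d) A ^ k) :
    eval₂ s (fun i => q (x i)) (P.map (Ideal.Quotient.mk (Ideal.span (Set.range x)))) -
      q (eval x P) ∈ (Ideal.span (Set.range x)).map q ^ (k + 1) := by
  have h1 : eval₂ s (fun i => q (x i)) (P.map (Ideal.Quotient.mk (Ideal.span (Set.range x)))) -
      q (eval x P) = ∑ m ∈ P.support, (s (Ideal.Quotient.mk _ (P.coeff m)) - q (P.coeff m)) *
        m.prod fun i n => q (x i) ^ n := by
    rw [eval₂_map, eval₂_eq, eval_eq, map_sum, ← Finset.sum_sub_distrib]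
    refine Finset.sum_congr rfl fun m _ => ?_
    rw [RingHom.comp_apply, sub_mul, map_mul, map_prod]
    congr 2
    · simp only [Finsupp.prod, map_pow]
  rw [h1]
  refine Ideal.sum_mem _ fun m hm => ?_
  have hk : k ≤ m.degree := by
    by_contra hk
    exact (mem_support_iff.mp hm) ((mem_pow_idealOfVars_iff' k P).mp hP m (by omega))
  rw [add_comm, pow_add, pow_one]
  refine Ideal.mul_mem_mul (hs _) (Ideal.pow_le_pow_right hk ?_)
  rw [Finsupp.degree_apply, ← Finset.prod_pow_eq_pow_sum, Finsupp.prod]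
  have hx : ∀ i, q (x i) ∈ (Ideal.span (Set.range x)).map q := fun i =>
    Ideal.mem_map_of_mem _ (Ideal.subset_span ⟨i, rfl⟩)
  exact Ideal.prod_mem_prod fun i _ => Ideal.pow_mem_pow (hx i) _

end

/-- Let R → A be a ring homomorphism and x_1, …, x_d a weakly regular sequence in A generating an ideal
J such that B = A/J is formally smooth over R. Then for every N ≥ 1 there is an isomorphism of
R-algebras e : A/J^N ≅ B[T_1, …, T_d]/(T_1, …, T_d)^N which sends the class of x_i to the class of
T_i and which is compatible with the projections to B: for every a ∈ A, e(a mod J^N) is congruent to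
the constant a mod J modulo the ideal generated by the variables. (The source also assumes R → A
smooth, which its argument does not use, and a regular sequence; weak regularity is what the
argument uses.) -/
theorem result
    (R : Type u) (A : Type v) [CommRing R] [CommRing A] [Algebra R A] (d : ℕ) (x : Fin d → A)
    (hreg : RingTheory.Sequence.IsWeaklyRegular A (List.ofFn x))
    [Algebra.FormallySmooth R (A ⧸ Ideal.span (Set.range x))] (N : ℕ) (hN : 1 ≤ N) :
    ∃ e : (A ⧸ Ideal.span (Set.range x) ^ N) ≃ₐ[R]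
        (MvPolynomial (Fin d) (A ⧸ Ideal.span (Set.range x)) ⧸
          Ideal.span (Set.range (MvPolynomial.X : Fin d → MvPolynomial (Fin d) (A ⧸ Ideal.span (Set.range x)))) ^ N),
      (∀ i : Fin d, e (Ideal.Quotient.mk _ (x i)) = Ideal.Quotient.mk _ (MvPolynomial.X i)) ∧
      ∀ a : A, e (Ideal.Quotient.mk _ a) - Ideal.Quotient.mk _ (MvPolynomial.C (Ideal.Quotient.mk _ a)) ∈
        (Ideal.span (Set.range (MvPolynomial.X : Fin d → MvPolynomial (Fin d) (A ⧸ Ideal.span (Set.range x))))).map
          (Ideal.Quotient.mk _) := by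
  have hqr : CAlgX.IsQuasiRegular x :=
    Groth.Agent.Sga67.SymAlg.isQuasiRegular_of_isWeaklyRegular x hreg
  set J : Ideal A := Ideal.span (Set.range x) with hJ
  have hle : J ^ N ≤ J := Ideal.pow_le_self (by omega)
  let π : (A ⧸ J ^ N) →ₐ[R] (A ⧸ J) := Ideal.Quotient.factorₐ R hle
  have hπ : ∀ a : A, π (Ideal.Quotient.mk _ a) = Ideal.Quotient.mk _ a := fun a => rfl
  have hπs : Function.Surjective π := Ideal.Quotient.factor_surjective hle
  set q : A →+* A ⧸ J ^ N := Ideal.Quotient.mk (J ^ N) with hq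
  have hqs : Function.Surjective q := Ideal.Quotient.mk_surjective
  have hker : RingHom.ker π = J.map q := by
    ext y
    obtain ⟨a, rfl⟩ := hqs y
    rw [RingHom.mem_ker, hπ, Ideal.Quotient.eq_zero_iff_mem]
    constructor
    · exact fun h => Ideal.mem_map_of_mem _ h
    · intro h
      rw [Ideal.mem_map_iff_of_surjective _ hqs] at h
      obtain ⟨b, hb, hab⟩ := h
      rw [hq, Ideal.Quotient.mk_eq_mk_iff_sub_mem] at hab
      have h2 : a = b - (b - a) := by ring
      rw [h2]
      exact J.sub_mem hb (hle hab)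
  have hnil0 : J.map q ^ N = ⊥ := by
    rw [← Ideal.map_pow, hq, Ideal.map_quotient_self]
  have hnil : IsNilpotent (RingHom.ker π) := ⟨N, by rw [hker, hnil0]; rfl⟩
  let s : (A ⧸ J) →ₐ[R] (A ⧸ J ^ N) :=
    Algebra.FormallySmooth.liftOfSurjective (AlgHom.id R (A ⧸ J)) π hπs hnil
  have hs : ∀ b : A ⧸ J, π (s b) = b := fun b =>
    Algebra.FormallySmooth.liftOfSurjective_apply (AlgHom.id R (A ⧸ J)) π hπs hnil b
  have hs' : ∀ a : A, s.toRingHom (Ideal.Quotient.mk _ a) - q a ∈ J.map q := by
    intro a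
    rw [← hker, RingHom.mem_ker, map_sub]
    change π (s (Ideal.Quotient.mk _ a)) - π (q a) = 0
    rw [hs, hπ, sub_self]
  let Ψ : MvPolynomial (Fin d) (A ⧸ J) →ₐ[R] (A ⧸ J ^ N) :=
    { eval₂Hom s.toRingHom (fun i => q (x i)) with
      commutes' := fun r => by
        change eval₂ s.toRingHom (fun i => q (x i))
          (algebraMap R (MvPolynomial (Fin d) (A ⧸ J)) r) = _
        rw [IsScalarTower.algebraMap_apply R (A ⧸ J) (MvPolynomial (Fin d) (A ⧸ J)),
          MvPolynomial.algebraMap_eq, eval₂_C]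
        exact s.commutes r }
  have hΨ : ∀ P, Ψ P = eval₂ s.toRingHom (fun i => q (x i)) P := fun P => rfl
  have hΨX : ∀ i, Ψ (X i) = q (x i) := fun i => by rw [hΨ, eval₂_X]
  have hqJ : ∀ i, q (x i) ∈ J.map q := fun i =>
    Ideal.mem_map_of_mem _ (Ideal.subset_span ⟨i, rfl⟩)
  have hT : (Ideal.span (Set.range (X : Fin d → MvPolynomial (Fin d) (A ⧸ J)))) =
    idealOfVars (Fin d) (A ⧸ J) := rfl
  have hmaps : Function.Surjective (MvPolynomial.map (σ := Fin d) (Ideal.Quotient.mk J)) :=
    MvPolynomial.map_surjective _ Ideal.Quotient.mk_surjective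
  have hmapT : (idealOfVars (Fin d) A).map (MvPolynomial.map (σ := Fin d) (Ideal.Quotient.mk J)) =
      idealOfVars (Fin d) (A ⧸ J) := by
    rw [idealOfVars, idealOfVars, Ideal.map_span, ← Set.range_comp]
    congr 2
    ext i
    simp
  -- the powers of the ideal of variables are killed
  have h1 : idealOfVars (Fin d) (A ⧸ J) ^ N ≤ RingHom.ker Ψ := by
    have h2 : (idealOfVars (Fin d) (A ⧸ J)).map Ψ ≤ J.map q := by
      rw [idealOfVars, Ideal.map_span, Ideal.span_le]
      rintro _ ⟨_, ⟨i, rfl⟩, rfl⟩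
      rw [hΨX]
      exact hqJ i
    have h3 : (idealOfVars (Fin d) (A ⧸ J) ^ N).map Ψ ≤ ⊥ := by
      rw [Ideal.map_pow, ← hnil0]
      exact Ideal.pow_right_mono h2 N
    intro P hP
    have := h3 (Ideal.mem_map_of_mem _ hP)
    exact this
  -- nothing else is killed
  have h2 : RingHom.ker Ψ ≤ idealOfVars (Fin d) (A ⧸ J) ^ N := by
    intro P hP
    have hP0 : Ψ P = 0 := hP
    have key : ∀ k ≤ N, P ∈ idealOfVars (Fin d) (A ⧸ J) ^ k := by
      intro k
      induction k with
      | zero => intro _; simp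
      | succ k ih =>
        intro hk
        have hPk := ih (by omega)
        rw [← hmapT, ← Ideal.map_pow, Ideal.mem_map_iff_of_surjective _ hmaps] at hPk
        obtain ⟨P', hP', rfl⟩ := hPk
        have h3 := error_mem x q s.toRingHom hs' k P' hP'
        rw [← hΨ, hP0, zero_sub, neg_mem_iff, ← hJ, ← Ideal.map_pow,
          Ideal.mem_map_iff_of_surjective _ hqs] at h3
        obtain ⟨b, hb, hab⟩ := h3
        rw [hq, Ideal.Quotient.mk_eq_mk_iff_sub_mem] at hab
        have h4 : eval x P' ∈ J ^ (k + 1) := by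
          have h5 : eval x P' = b - (b - eval x P') := by ring
          rw [h5]
          exact (J ^ (k + 1)).sub_mem hb (Ideal.pow_le_pow_right hk hab)
        rw [mem_pow_idealOfVars_iff'] at *
        intro m hm
        rw [coeff_map, Ideal.Quotient.eq_zero_iff_mem]
        rcases Nat.lt_succ_iff_lt_or_eq.mp hm with hm | hm
        · rw [hP' m hm]
          exact J.zero_mem
        · exact Groth.Agent.CalgB.QuasiRegularAppend.coeff_mem_of_isQuasiRegular hqr k P'
            ((mem_pow_idealOfVars_iff' k P').mpr hP') h4 m hm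
    exact key N le_rfl
  have hkerΨ : RingHom.ker Ψ = idealOfVars (Fin d) (A ⧸ J) ^ N := le_antisymm h2 h1
  have hsurj : Function.Surjective Ψ := by
    have key : ∀ k : ℕ, ∀ y : A ⧸ J ^ N, ∃ P, y - Ψ P ∈ J.map q ^ k := by
      intro k
      induction k with
      | zero => intro y; exact ⟨0, by simp⟩
      | succ k ih =>
        intro y
        obtain ⟨P, hP⟩ := ih y
        rw [← Ideal.map_pow, Ideal.mem_map_iff_of_surjective _ hqs] at hP
        obtain ⟨a, ha, hay⟩ := hP
        obtain ⟨P', hP', rfl⟩ :=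
          Groth.Agent.CalgB.QuasiRegular.exists_mem_pow_eval k a ha
        have h3 := error_mem x q s.toRingHom hs' k P' hP'
        refine ⟨P + P'.map (Ideal.Quotient.mk J), ?_⟩
        rw [map_add]
        have h4 : y - (Ψ P + Ψ (P'.map (Ideal.Quotient.mk J))) =
            -(Ψ (P'.map (Ideal.Quotient.mk J)) - q (eval x P')) := by
          rw [hay]; ring
        rw [h4, neg_mem_iff]
        exact h3
    intro y
    obtain ⟨P, hP⟩ := key N y
    rw [hnil0, Ideal.mem_bot, sub_eq_zero] at hP
    exact ⟨P, hP.symm⟩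
  let e₀ : (MvPolynomial (Fin d) (A ⧸ J) ⧸
      Ideal.span (Set.range (X : Fin d → MvPolynomial (Fin d) (A ⧸ J))) ^ N) ≃ₐ[R]
        (A ⧸ J ^ N) :=
    (Ideal.quotientEquivAlgOfEq R (hkerΨ.symm)).trans
      (Ideal.quotientKerAlgEquivOfSurjective hsurj)
  have he₀ : ∀ P, e₀ (Ideal.Quotient.mk _ P) = Ψ P := fun P => rfl
  refine ⟨e₀.symm, fun i => ?_, fun a => ?_⟩
  · rw [AlgEquiv.symm_apply_eq, he₀, hΨX]
  · obtain ⟨P, hP⟩ := hsurj (q a)
    have h3 : e₀.symm (q a) = Ideal.Quotient.mk _ P := by
      rw [AlgEquiv.symm_apply_eq, he₀, hP]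
    change e₀.symm (q a) - _ ∈ _
    rw [h3, ← map_sub]
    refine Ideal.mem_map_of_mem _ ?_
    rw [hT, Groth.Agent.CalgB.QuasiRegular.mem_idealOfVars_iff, map_sub, constantCoeff_C,
      sub_eq_zero]
    have h4 : π.toRingHom.comp Ψ.toRingHom = constantCoeff := by
      refine MvPolynomial.ringHom_ext (fun b => ?_) (fun i => ?_)
      · change π (Ψ (C b)) = _
        rw [hΨ, eval₂_C, constantCoeff_C]
        exact hs b
      · change π (Ψ (X i)) = _
        rw [hΨX, constantCoeff_X, hπ, Ideal.Quotient.eq_zero_iff_mem]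
        exact Ideal.subset_span ⟨i, rfl⟩
    have h5 := congrArg (fun f => f P) (congrArg DFunLike.coe h4)
    change π (Ψ P) = constantCoeff P at h5
    rw [← h5, hP]
    rfl

end Groth.Agent.S18417
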