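import Groth.Statements.S18419
import Groth.Agent.DPow.K977.DeRhamMain

set_option autoImplicit false
universe u v
open DPow

namespace Groth.Agent.S18419

open exteriorPower in
/-- Let R be a ring and (B, J, δ) a divided power ring with B an R-algebra, and let P = B⟨X_1, …, X_n⟩
be the divided power polynomial algebra over it: a divided power ring (P, J_P, δ_P) with a B-algebra
structure making B → P a divided power morphism and elements X_i ∈ J_P, universal among divided
power rings (C, K, ε) receiving a divided power morphism from (B, J, δ) together with chosen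
elements k_i ∈ K. Let z : P → B be the B-algebra retraction sending each X_i to 0 that is a divided
power morphism (it kills all X_i^[m], m ≥ 1). Form the divided power Kähler differentials on both
sides — Ω_{P/R} modulo the P-submodule generated by the d(δ_P^{[m+1]}x) − δ_P^{[m]}x·dx (x ∈ J_P, m
≥ 0), and likewise Ω_{B/R} modulo the relations from (J, δ) — with their induced derivations, let
d_P and d_B be de Rham differentials on the exterior powers of these receptacles and ψ the map of de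
Rham complexes induced by z, compatible with d_P and d_B. Then ψ is a quasi-isomorphism: in every
degree i, every closed i-form on the B side is, up to an exact form, the image of a closed i-form on
the P side, and a closed i-form on the P side whose image is exact is itself exact. (The source
states more: the map is a filtered homotopy equivalence for the divided power Hodge filtrations;
only the quasi-isomorphism is stated here.) -/
theorem result (R : Type v) [CommRing R]
    (B : Type u) [CommRing B] [Algebra R B] (J : Ideal B) (δ : DividedPowers J) (n : ℕ)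
    (P : Type u) [CommRing P] [Algebra B P] [Algebra R P] [IsScalarTower R B P]
    (JP : Ideal P) (δP : DividedPowers JP) (X : Fin n → P) (hX : ∀ i, X i ∈ JP)
    (hmor : δ.IsDPMorphism δP (algebraMap B P))
    (huniv : ∀ (C : Type u) [CommRing C] [Algebra B C] (K : Ideal C) (ε : DividedPowers K),
      δ.IsDPMorphism ε (algebraMap B C) → ∀ k : Fin n → C, (∀ i, k i ∈ K) →
        ∃! φ : P →ₐ[B] C, (∀ i, φ (X i) = k i) ∧ δP.IsDPMorphism ε φ.toRingHom)
    (z : P →ₐ[B] B) (hz : ∀ i, z (X i) = 0) (hzmor : δP.IsDPMorphism δ z.toRingHom)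
    (NP : Submodule P (Ω[P⁄R]))
    (hNP : NP = Submodule.span P {ω : Ω[P⁄R] | ∃ x ∈ JP, ∃ m : ℕ,
      ω = KaehlerDifferential.D R P (δP.dpow (m + 1) x) - δP.dpow m x • KaehlerDifferential.D R P x})
    (NB : Submodule B (Ω[B⁄R]))
    (hNB : NB = Submodule.span B {ω : Ω[B⁄R] | ∃ x ∈ J, ∃ m : ℕ,
      ω = KaehlerDifferential.D R B (δ.dpow (m + 1) x) - δ.dpow m x • KaehlerDifferential.D R B x})
    (dP : ∀ p : ℕ, ↥(⋀[P]^p (Ω[P⁄R] ⧸ NP)) →ₗ[R] ↥(⋀[P]^(p + 1) (Ω[P⁄R] ⧸ NP)))
    (hdP : DeRham.IsDiff (NP.mkQ.compDer (KaehlerDifferential.D R P)) dP)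
    (dB : ∀ p : ℕ, ↥(⋀[B]^p (Ω[B⁄R] ⧸ NB)) →ₗ[R] ↥(⋀[B]^(p + 1) (Ω[B⁄R] ⧸ NB)))
    (hdB : DeRham.IsDiff (NB.mkQ.compDer (KaehlerDifferential.D R B)) dB)
    (ψ : ∀ p : ℕ, ↥(⋀[P]^p (Ω[P⁄R] ⧸ NP)) →+ ↥(⋀[B]^p (Ω[B⁄R] ⧸ NB)))
    (hψ : DeRham.IsCxMap (NP.mkQ.compDer (KaehlerDifferential.D R P))
      (NB.mkQ.compDer (KaehlerDifferential.D R B)) z.toRingHom ψ)
    (hψd : ∀ (p : ℕ) (x : ↥(⋀[P]^p (Ω[P⁄R] ⧸ NP))), ψ (p + 1) (dP p x) = dB p (ψ p x)) (i : ℕ) :
    (∀ c ∈ DeRham.cocycles dB i, ∃ c' ∈ DeRham.cocycles dP i, ψ i c' - c ∈ DeRham.coboundaries dB i) ∧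
      (∀ c' ∈ DeRham.cocycles dP i, ψ i c' ∈ DeRham.coboundaries dB i → c' ∈ DeRham.coboundaries dP i) := by
  have hz' : ∀ b : B, z.toRingHom (algebraMap B P b) = b := fun b => z.commutes b
  have h := K977.DeRhamMain.map_NB (R := R) hmor hNP hNB
  constructor
  · intro c hc
    refine ⟨K977.DeRhamMain.sB h i c, ?_, ?_⟩
    · change dP i (K977.DeRhamMain.sB h i c) = 0
      rw [K977.DeRhamMain.d_sB h hdP.1 hdB.1]
      have : dB i c = 0 := hc
      rw [this, map_zero]
    · rw [K977.DeRhamMain.psi_sB h z.toRingHom hz' hψ, sub_self]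
      exact Submodule.zero_mem _
  · intro c' hc' hex
    have hc : dP i c' = 0 := hc'
    have htop : c' ∈ K977.Forms.F (K977.DeRhamMain.DQ R NP)
        (K977.DeRhamMain.Sk B δP X n).toSubring i := by
      rw [K977.DeRhamMain.Sk_top hX hmor huniv]
      have : (⊤ : Subalgebra B P).toSubring = ⊤ := rfl
      rw [this, K977.Forms.F_top _ (K977.DeRhamMain.span_DQ R NP)]
      trivial
    rcases i with _ | p
    · have h0 := K977.DeRhamMain.reduce_zero hX hmor huniv hNP hdP n le_rfl c' htop hc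
      obtain ⟨c, rfl⟩ := K977.DeRhamMain.sB_mem_of_F h 0 (fun c hc => K977.DeRhamMain.Sk_zero hc) h0
      rw [K977.DeRhamMain.psi_sB h z.toRingHom hz' hψ] at hex
      have hc0 : c = 0 := hex
      rw [hc0, map_zero]
      exact Submodule.zero_mem _
    · obtain ⟨η, hη⟩ := K977.DeRhamMain.reduce_succ hX hmor huniv hNP hdP p n le_rfl c' htop hc
      obtain ⟨c, hc2⟩ := K977.DeRhamMain.sB_mem_of_F h (p + 1)
        (fun c hc => K977.DeRhamMain.Sk_zero hc) hη
      obtain ⟨ζ, hζ⟩ : ∃ ζ, dB p ζ = ψ (p + 1) c' := hex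
      have h1 : c = dB p (ζ - ψ p η) := by
        rw [map_sub, hζ, ← hψd, ← map_sub, ← hc2, K977.DeRhamMain.psi_sB h z.toRingHom hz' hψ]
      refine ⟨η + K977.DeRhamMain.sB h p (ζ - ψ p η), ?_⟩
      rw [map_add, K977.DeRhamMain.d_sB h hdP.1 hdB.1, ← h1, hc2]
      abel

end Groth.Agent.S18419
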