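import Groth.Statements.S18421
import Groth.Agent.DPow.K977.Lift
import Groth.Agent.S2191
import Groth.Agent.S2193
import Mathlib.RingTheory.DividedPowers.SubDPIdeal

set_option autoImplicit false
universe u v w
open DPow

namespace Groth.Agent.S18421

open K977.Lift

/-- Let (R, I, γ) be a divided power ring, Λ a set and P = R⟨X_λ : λ ∈ Λ⟩ the divided power polynomial
algebra, presented concretely as an R-algebra P with elements x l n = X_λ^[n] such that X_λ^[0] = 1,
X_λ^[n] · X_λ^[m] = C(n+m, n) X_λ^[n+m], and the monomials ∏_λ X_λ^[e_λ] form an R-basis of P; let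
P_+ be the ideal generated by the X_λ^[n] with n ≥ 1 and δ_+ a divided power structure on P_+ with
δ_+,n(X_λ^[1]) = X_λ^[n]. Put J = IP + P_+. Then there is exactly one divided power structure δ on J
which is compatible with γ (the structure map R → P is a divided power morphism from (I, γ) to (J,
δ)) and with δ_+ (δ_n(y) = δ_+,n(y) for all y ∈ P_+ and all n). -/
theorem result (R : Type u) [CommRing R] {I : Ideal R}
    (γ : DividedPowers I) (Λ : Type w)
    (P : Type v) [CommRing P] [Algebra R P] (x : Λ → ℕ → P)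
    (hx0 : ∀ l, x l 0 = 1)
    (hxmul : ∀ l n m, x l n * x l m = ((n + m).choose n : P) * x l (n + m))
    (b : Module.Basis (Λ →₀ ℕ) R P) (hb : ∀ e : Λ →₀ ℕ, b e = e.prod (fun l k => x l k))
    (δplus : DividedPowers (Ideal.span {y : P | ∃ (l : Λ) (n : ℕ), 1 ≤ n ∧ y = x l n}))
    (hδplus : ∀ (l : Λ) (n : ℕ), δplus.dpow n (x l 1) = x l n) :
    ∃! δ : DividedPowers (I.map (algebraMap R P) ⊔ Ideal.span {y : P | ∃ (l : Λ) (n : ℕ), 1 ≤ n ∧ y = x l n}),
      γ.IsDPMorphism δ (algebraMap R P) ∧
        ∀ (n : ℕ) (y : P), y ∈ Ideal.span {y : P | ∃ (l : Λ) (n : ℕ), 1 ≤ n ∧ y = x l n} →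
          δ.dpow n y = δplus.dpow n y := by
  have hx : DPSys x := ⟨hx0, hxmul⟩
  have hb' : ∀ e : Λ →₀ ℕ, b e = mon x e := hb
  have : Module.Free R P := Module.Free.of_basis b
  obtain ⟨γP, hγP⟩ := (S2193.result (A := R) (B := P) γ).2 inferInstance
  -- coordinates of elements of `I P` lie in `I`
  have hcoord : ∀ p ∈ I.map (algebraMap R P), ∀ e, b.repr p e ∈ I := by
    intro p hp
    unfold Ideal.map at hp
    induction hp using Submodule.span_induction with
    | mem p hp =>
      obtain ⟨r, hr, rfl⟩ := hp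
      intro e
      have : algebraMap R P r = r • b 0 := by rw [hb', mon_zero, Algebra.algebraMap_eq_smul_one]
      rw [this, map_smul, Module.Basis.repr_self, Finsupp.smul_apply, smul_eq_mul]
      exact I.mul_mem_right _ hr
    | zero => intro e; simp
    | add p q _ _ h1 h2 => intro e; rw [map_add, Finsupp.add_apply]; exact I.add_mem (h1 e) (h2 e)
    | smul a p _ h =>
      intro e
      rw [← b.linearCombination_repr p, Finsupp.linearCombination_apply, Finsupp.sum,
        smul_eq_mul, Finset.mul_sum, map_sum, Finsupp.finsetSum_apply]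
      refine I.sum_mem fun f _ => ?_
      rw [mul_smul_comm, map_smul, Finsupp.smul_apply, smul_eq_mul]
      exact I.mul_mem_right _ (h f)
  have hinf : ∀ p, p ∈ I.map (algebraMap R P) ⊓ aug x → p ∈ I.map (algebraMap R P) • aug x := by
    rintro p ⟨hp1, hp2⟩
    have h0 : b.repr p 0 = 0 := (mem_aug_iff hx b hb' p).mp hp2
    rw [← b.linearCombination_repr p, Finsupp.linearCombination_apply]
    refine sum_mem (fun e he => ?_)
    by_cases h : e = 0
    · subst h; exact absurd h0 (Finsupp.mem_support_iff.mp he)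
    · change b.repr p e • b e ∈ _
      rw [Algebra.smul_def (b.repr p e) (b e), hb']
      exact Submodule.smul_mem_smul (Ideal.mem_map_of_mem (algebraMap R P) (hcoord p hp1 e))
        (mon_mem_aug hx h)
  have hagree : ∀ (n : ℕ) (p : P), p ∈ I.map (algebraMap R P) ⊓ aug x →
      γP.dpow n p = δplus.dpow n p := by
    intro n p hp
    exact DividedPowers.coincide_on_smul γP δplus (hinf p hp)
  obtain ⟨ε, ⟨hε1, hε2⟩, hε3⟩ := S2191.result γP δplus hagree
  refine ⟨ε, ⟨⟨?_, ?_⟩, fun n y hy => hε2 n y hy⟩, ?_⟩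
  · exact le_sup_left
  · intro n a ha
    rw [hε1 n _ (Ideal.mem_map_of_mem _ ha)]
    exact hγP.dpow_comp a ha
  · rintro ε' ⟨h1, h2⟩
    refine hε3 ε' ⟨?_, fun n y hy => h2 n y hy⟩
    intro n y hy
    have hsub : DividedPowers.IsSubDPIdeal ε' (I.map (algebraMap R P)) := by
      unfold Ideal.map
      have hS : (algebraMap R P) '' I ⊆
          (I.map (algebraMap R P) ⊔ Ideal.span {y : P | ∃ (l : Λ) (n : ℕ), 1 ≤ n ∧ y = x l n} :
            Ideal P) := by
        rintro _ ⟨r, hr, rfl⟩
        exact Ideal.mem_sup_left (Ideal.mem_map_of_mem _ hr)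
      refine (DividedPowers.span_isSubDPIdeal_iff hS).mpr ?_
      rintro n hn _ ⟨r, hr, rfl⟩
      rw [h1.dpow_comp r hr]
      exact Ideal.subset_span ⟨_, γ.dpow_mem hn hr, rfl⟩
    classical
    have h3 : DividedPowers.IsSubDPIdeal.dividedPowers ε' hsub = γP := by
      apply (S2193.result (A := R) (B := P) γ).1
      · refine ⟨le_rfl, fun {n} a ha => ?_⟩
        rw [DividedPowers.IsSubDPIdeal.dpow_eq_of_mem ε' hsub (Ideal.mem_map_of_mem _ ha)]
        exact h1.dpow_comp a ha
      · exact hγP
    rw [← h3, DividedPowers.IsSubDPIdeal.dpow_eq_of_mem ε' hsub hy]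

end Groth.Agent.S18421
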