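import Groth.Statements.S18422
import Mathlib.Topology.Algebra.ClopenNhdofOne
import Mathlib.Data.Nat.Prime.Basic
import Mathlib.GroupTheory.PGroup


set_option autoImplicit false
universe u v
open Pi1

namespace Groth.Agent.S18422

/-- Let p and l be distinct primes, G a profinite group (a compact totally disconnected topological
group) which is pro-p, meaning that every open normal subgroup of G has index a power of p, and H a
profinite group which is pro-l in the same sense. Then every continuous group homomorphism from G to
H is trivial. -/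
theorem result {p l : ℕ} (hp : p.Prime) (hl : l.Prime) (hpl : p ≠ l)
    (G : Type u) [Group G] [TopologicalSpace G] [IsTopologicalGroup G] [CompactSpace G]
    [TotallyDisconnectedSpace G]
    (H : Type v) [Group H] [TopologicalSpace H] [IsTopologicalGroup H] [CompactSpace H]
    [TotallyDisconnectedSpace H]
    (hG : ∀ U : OpenNormalSubgroup G, ∃ n : ℕ, U.toSubgroup.index = p ^ n)
    (hH : ∀ V : OpenNormalSubgroup H, ∃ n : ℕ, V.toSubgroup.index = l ^ n)
    (f : G →* H) (hf : Continuous f) (g : G) : f g = 1 := by
  by_contra hne
  -- an open normal subgroup of `H` missing `f g`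
  obtain ⟨V, hV⟩ := ProfiniteGrp.exist_openNormalSubgroup_sub_open_nhds_of_one (G := H)
    (U := {f g}ᶜ) isOpen_compl_singleton (fun h => hne h.symm)
  -- its preimage
  let W : OpenNormalSubgroup G :=
    { toOpenSubgroup := V.toOpenSubgroup.comap f hf
      isNormal' := by
        change (V.toSubgroup.comap f).Normal
        infer_instance }
  obtain ⟨n, hn⟩ := hG W
  obtain ⟨m, hm⟩ := hH V
  have hidx : W.toSubgroup.index = V.toSubgroup.relIndex f.range :=
    Subgroup.index_comap V.toSubgroup f
  have hdvd : W.toSubgroup.index ∣ V.toSubgroup.index := by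
    rw [hidx]
    exact Subgroup.relIndex_dvd_index_of_normal _ _
  rw [hn, hm] at hdvd
  have hcop : Nat.Coprime (p ^ n) (l ^ m) :=
    Nat.Coprime.pow _ _ ((Nat.coprime_primes hp hl).2 hpl)
  have h1 : p ^ n = 1 := Nat.Coprime.eq_one_of_dvd hcop hdvd
  rw [h1] at hn
  have htop : W.toSubgroup = ⊤ := Subgroup.index_eq_one.1 hn
  have hg : g ∈ W.toSubgroup := by rw [htop]; trivial
  have : f g ∈ (V : Set H) := hg
  exact hV this rfl

end Groth.Agent.S18422
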