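import Groth.Statements.S18423
import Groth.Agent.S2195
import Mathlib.RingTheory.Localization.NormTrace
import Mathlib.RingTheory.Ideal.KrullsHeightTheorem
import Mathlib.RingTheory.LocalRing.Module

set_option autoImplicit false
universe u v
open Pi1

namespace Groth.Agent.S18423

/-- Let A be a Noetherian local ring of Krull dimension at least 2 and B a finite flat commutative
A-algebra. If B is etale over A at every prime of B lying over a non-maximal prime of A (that is,
Spec B is etale over the punctured spectrum of A), then B is etale over A. -/
theorem result (A : Type u) (B : Type v) [CommRing A] [CommRing B]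
    [Algebra A B] [IsNoetherianRing A] [IsLocalRing A] (hdim : (2 : WithBot ℕ∞) ≤ ringKrullDim A)
    [Module.Finite A B] [Module.Flat A B]
    (h : ∀ q : PrimeSpectrum B, q.asIdeal.comap (algebraMap A B) ≠ IsLocalRing.maximalIdeal A →
      Algebra.IsEtaleAt A q.asIdeal) :
    Algebra.Etale A B := by
  classical
  haveI : Module.FinitePresentation A B := Module.finitePresentation_of_finite A B
  haveI : Algebra.FinitePresentation A B := inferInstance
  haveI : Module.Free A B := Module.free_of_flat_of_isLocalRing
  -- a basis indexed by a small type
  obtain ⟨n, b⟩ : Σ n : ℕ, Module.Basis (Fin n) A B :=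
    ⟨_, Module.finBasis A B⟩
  rw [Groth.Agent.S2195.result b]
  by_contra hunit
  have hmem : Algebra.discr A b ∈ IsLocalRing.maximalIdeal A := hunit
  -- a minimal prime over the discriminant
  obtain ⟨p, hp, hpm⟩ := Ideal.exists_minimalPrimes_le
    (I := Ideal.span {Algebra.discr A b}) (J := IsLocalRing.maximalIdeal A)
    ((Ideal.span_singleton_le_iff_mem _).2 hmem)
  haveI : p.IsPrime := hp.1.1
  have hht : p.height ≤ 1 := Ideal.height_le_one_of_isPrincipal_of_mem_minimalPrimes _ p hp
  have hne : p ≠ IsLocalRing.maximalIdeal A := by
    rintro rfl
    rw [← IsLocalRing.maximalIdeal_height_eq_ringKrullDim] at hdim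
    have h2 : (2 : ℕ∞) ≤ (IsLocalRing.maximalIdeal A).height :=
      WithBot.coe_le_coe.1 (by simpa using hdim)
    exact absurd (h2.trans hht) (by decide)
  obtain ⟨f, hfm, hfp⟩ := SetLike.exists_of_lt (lt_of_le_of_ne hpm hne)
  have hdisc : Algebra.discr A b ∈ p := hp.1.2 (Ideal.mem_span_singleton_self _)
  -- étale over the basic open of `f`
  have het : Algebra.Etale A (Localization.Away (algebraMap A B f)) := by
    rw [← Algebra.basicOpen_subset_etaleLocus_iff_etale]
    intro q hq
    refine h q fun hq' => hq ?_
    have : f ∈ q.asIdeal.comap (algebraMap A B) := by rw [hq']; exact hfm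
    exact this
  letI : Algebra (Localization.Away f) (Localization.Away (algebraMap A B f)) :=
    (Localization.awayMap (algebraMap A B) f).toAlgebra
  haveI : IsScalarTower A (Localization.Away f) (Localization.Away (algebraMap A B f)) := by
    refine IsScalarTower.of_algebraMap_eq' ?_
    ext x
    simp [RingHom.algebraMap_toAlgebra, Localization.awayMap, IsLocalization.Away.map,
      IsScalarTower.algebraMap_apply A B (Localization.Away (algebraMap A B f))]
  haveI : IsLocalization (Algebra.algebraMapSubmonoid B (Submonoid.powers f))
      (Localization.Away (algebraMap A B f)) := by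
    rw [Algebra.algebraMapSubmonoid_powers]
    infer_instance
  haveI : Algebra.Etale A (Localization.Away f) := .of_isLocalizationAway f
  haveI : Algebra.Etale (Localization.Away f) (Localization.Away (algebraMap A B f)) :=
    Algebra.Etale.of_restrictScalars A _ _
  have hu := (Groth.Agent.S2195.result (b.localizationLocalization (Localization.Away f)
    (Submonoid.powers f) (Localization.Away (algebraMap A B f)))).1 inferInstance
  rw [Algebra.discr_localizationLocalization] at hu
  -- but the discriminant lies in the proper ideal generated by `p`
  have hdisj : Disjoint (Submonoid.powers f : Set A) (p : Set A) :=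
    (Ideal.disjoint_powers_iff_notMem _ (Ideal.IsPrime.isRadical ‹_›)).2 hfp
  have hprime := IsLocalization.isPrime_of_isPrime_disjoint (Submonoid.powers f)
    (Localization.Away f) p ‹_› hdisj
  exact hprime.ne_top (Ideal.eq_top_of_isUnit_mem _ (Ideal.mem_map_of_mem _ hdisc) hu)

end Groth.Agent.S18423
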