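import Groth.Statements.S18424
import Groth.Agent.Sga1.Birat
import Groth.Agent.Pi1A.FEtAffine
import Groth.Agent.S0244

set_option autoImplicit false
universe u
open Pi1

namespace Groth.Agent.S18424

open AlgebraicGeometry CategoryTheory CategoryTheory.Limits in
/-- Let k be a field, X and Y integral schemes separated and of finite type over k with X normal and Y
nonsingular (every local ring of Y regular), and f : X → Y a proper k-morphism which is birational,
i.e. an isomorphism over some nonempty open subset V of Y. Then pulling back finite etale covers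
along f is an equivalence between the categories of finite etale covers of Y and of X; in particular
f induces an isomorphism of etale fundamental groups. -/
theorem result (k : Type u) [Field k]
    {X Y : Scheme.{u}} (f : X ⟶ Y) (g : Y ⟶ Spec (CommRingCat.of k))
    [IsSeparated g] [LocallyOfFiniteType g] [QuasiCompact g]
    [IsSeparated (f ≫ g)] [LocallyOfFiniteType (f ≫ g)] [QuasiCompact (f ≫ g)]
    [IsIntegral X] [IsIntegral Y] (hX : Pi1.IsNormalScheme X)
    (hY : ∀ y : Y, IsRegularLocalRing (Y.presheaf.stalk y)) [IsProper f]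
    (V : Y.Opens) (hV : (V : Set Y).Nonempty) (hf : IsIso (f ∣_ V)) :
    (FEt.restrict f).IsEquivalence := by
  have hYc : CompactSpace Y := QuasiCompact.compactSpace_of_compactSpace g
  have hYl : IsLocallyNoetherian Y := LocallyOfFiniteType.isLocallyNoetherian g
  have hYn : IsNoetherian Y := { }
  have hVd : Dense (V : Set Y) := V.2.dense hV
  -- the section over `V`
  let s : (V : Scheme.{u}) ⟶ ((f ⁻¹ᵁ V : X.Opens) : Scheme.{u}) := inv (f ∣_ V)
  have hs : s ≫ (f ⁻¹ᵁ V).ι ≫ f = V.ι := by
    rw [← morphismRestrict_ι, IsIso.inv_hom_id_assoc]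
  have hne : ((f ⁻¹ᵁ V : X.Opens) : Set X).Nonempty := by
    obtain ⟨y, hy⟩ := hV
    exact ⟨_, (s ⟨y, hy⟩).2⟩
  obtain ⟨hXf, hXf'⟩ := Groth.Agent.S0244.result hX (f ⁻¹ᵁ V) hne
  obtain ⟨hYf, hYf'⟩ := Groth.Agent.Sga1.BiratFF.restrict_fullyFaithful hY V hVd
  -- restriction along the section
  let G : FEt.Cat X ⥤ FEt.Cat (V : Scheme.{u}) := FEt.restrict (s ≫ (f ⁻¹ᵁ V).ι)
  let eG : G ≅ FEt.restrict (f ⁻¹ᵁ V).ι ⋙ FEt.restrict s :=
    Groth.Agent.Sga1.Birat.restrictComp s (f ⁻¹ᵁ V).ι _ rfl
  have hG : G.Full := Functor.Full.of_iso eG.symm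
  have hG' : G.Faithful := Functor.Faithful.of_iso eG.symm
  let eF : FEt.restrict V.ι ≅ FEt.restrict f ⋙ G :=
    Groth.Agent.Sga1.Birat.restrictComp (s ≫ (f ⁻¹ᵁ V).ι) f V.ι (by rw [Category.assoc, hs])
  have hFG : (FEt.restrict f ⋙ G).Full := Functor.Full.of_iso eF
  have hFG' : (FEt.restrict f ⋙ G).Faithful := Functor.Faithful.of_iso eF
  have hF' : (FEt.restrict f).Faithful := Functor.Faithful.of_comp (FEt.restrict f) G
  have hF : (FEt.restrict f).Full := Functor.Full.of_comp_faithful (FEt.restrict f) G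
  have hE : (FEt.restrict f).EssSurj := by
    refine ⟨fun B => ?_⟩
    obtain ⟨A, ⟨i⟩⟩ := Groth.Agent.Sga1.Birat.essImage_of_extension (𝟙 Y) f hY V hVd
      (s ≫ (f ⁻¹ᵁ V).ι) (by rw [Category.assoc, hs, Category.comp_id]) B
    exact ⟨A, ⟨G.preimageIso ((eF.app A).symm ≪≫ i)⟩⟩
  exact { }

end Groth.Agent.S18424
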