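import Groth.Statements.S18426
import Groth.Agent.Pi1A.NormalEtale
import Mathlib.RingTheory.DedekindDomain.IntegralClosure

set_option autoImplicit false
universe u
open Pi1

namespace Groth.Agent.S18426

open AlgebraicGeometry CategoryTheory CategoryTheory.Limits in
theorem app_fromSpecStalk_comp {X : Scheme.{u}} (x : X) (R : CommRingCat.{u}) (φ : X.presheaf.stalk x ⟶ R)
    (U : X.Opens) (hxU : x ∈ U) (h : ⊤ ≤ (Spec.map φ ≫ X.fromSpecStalk x) ⁻¹ᵁ U) :
    (Spec.map φ ≫ X.fromSpecStalk x).appLE U ⊤ h ≫ (Scheme.ΓSpecIso R).hom =
      X.presheaf.germ U x hxU ≫ φ := by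
  have h' : ⊤ ≤ Spec.map φ ⁻¹ᵁ (X.fromSpecStalk x ⁻¹ᵁ U) := h
  have h1 : (Spec.map φ ≫ X.fromSpecStalk x).appLE U ⊤ h =
      (X.fromSpecStalk x).app U ≫ (Spec.map φ).appLE (X.fromSpecStalk x ⁻¹ᵁ U) ⊤ h' :=
    Scheme.Hom.comp_appLE _ _ _ _ _
  have h2 : (Spec.map φ).appLE ⊤ ⊤ le_top = (Spec.map φ).appTop := by
    rw [Scheme.Hom.appTop, Scheme.Hom.app_eq_appLE]
    rfl
  rw [h1, Scheme.fromSpecStalk_app hxU]
  rw [Category.assoc, Category.assoc, Category.assoc, Scheme.Hom.map_appLE_assoc]
  rw [h2, Scheme.ΓSpecIso_naturality, Iso.inv_hom_id_assoc]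


open AlgebraicGeometry CategoryTheory CategoryTheory.Limits in
/-- Suppose X is an integral scheme that is Noetherian and normal, write K for its function field, and
take L to be a finite separable extension of K. Then the normalization of X in L, namely the
relative normalization of the morphism Spec L → Spec K → X, is finite over X. (That this
normalization is a normal integral scheme with function field L is not restated.) -/
theorem result {X : Scheme.{u}} [IsIntegral X] [IsNoetherian X]
    (hX : Pi1.IsNormalScheme X) (L : Type u) [Field L] [Algebra X.functionField L] [FiniteDimensional X.functionField L]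
    [Algebra.IsSeparable X.functionField L]
    [QuasiCompact (Spec.map (CommRingCat.ofHom (algebraMap X.functionField L)) ≫ X.fromSpecStalk (genericPoint X))]
    [QuasiSeparated (Spec.map (CommRingCat.ofHom (algebraMap X.functionField L)) ≫ X.fromSpecStalk (genericPoint X))] :
    IsFinite (Spec.map (CommRingCat.ofHom (algebraMap X.functionField L)) ≫ X.fromSpecStalk (genericPoint X)).fromNormalization := by
  set g := Spec.map (CommRingCat.ofHom (algebraMap X.functionField L)) ≫
    X.fromSpecStalk (genericPoint X) with hg
  refine ⟨fun U hU => ?_⟩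
  have hN : IsNoetherianRing Γ(X, U) := IsLocallyNoetherian.component_noetherian ⟨U, hU⟩
  algebraize [(g.app U).hom]
  have h : Module.Finite Γ(X, U) (integralClosure Γ(X, U) Γ(Spec (CommRingCat.of L), g ⁻¹ᵁ U)) := by
    by_cases hU0 : (U : Set X).Nonempty
    · have : Nonempty U := hU0.to_subtype
      have hic : IsIntegrallyClosed Γ(X, U) :=
        Groth.Agent.Pi1A.NormalEtale.isIntegrallyClosed_of_isAffineOpen hX hU
      let _ : Algebra Γ(X, U) L :=
        ((algebraMap X.functionField L).comp (algebraMap Γ(X, U) X.functionField)).toAlgebra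
      have : IsScalarTower Γ(X, U) X.functionField L := IsScalarTower.of_algebraMap_eq' rfl
      have : IsFractionRing Γ(X, U) X.functionField := functionField_isFractionRing_of_isAffineOpen X U hU
      have hfin : Module.Finite Γ(X, U) (integralClosure Γ(X, U) L) :=
        IsIntegralClosure.finite Γ(X, U) X.functionField L (integralClosure Γ(X, U) L)
      have hxU : genericPoint X ∈ U :=
        ((genericPoint_spec X).mem_open_set_iff U.isOpen).mpr (by simpa using hU0)
      have hgU : (⊤ : (Spec (CommRingCat.of L)).Opens) = g ⁻¹ᵁ U := by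
        apply TopologicalSpace.Opens.ext
        ext z
        simp only [TopologicalSpace.Opens.coe_top, Set.mem_univ, true_iff]
        change g z ∈ U
        have h1 : Spec.map (CommRingCat.ofHom (algebraMap X.functionField L)) z =
            IsLocalRing.closedPoint X.functionField := by
          let _ : Unique (PrimeSpectrum X.functionField) := PrimeSpectrum.instUnique
          exact Subsingleton.elim (α := PrimeSpectrum X.functionField) _ _
        rw [hg, Scheme.Hom.comp_apply, h1, X.fromSpecStalk_closedPoint]
        exact hxU
      let i : CommRingCat.of L ≅ Γ(Spec (CommRingCat.of L), g ⁻¹ᵁ U) :=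
        (Scheme.ΓSpecIso (CommRingCat.of L)).symm ≪≫
          (Spec (CommRingCat.of L)).presheaf.mapIso (eqToIso hgU.symm).op
      have hcompat : g.app U = X.presheaf.germ U (genericPoint X) hxU ≫
          CommRingCat.ofHom (algebraMap X.functionField L) ≫ i.hom := by
        have h1 : g.app U = g.appLE U ⊤ hgU.le ≫
            (Spec (CommRingCat.of L)).presheaf.map (eqToHom hgU.symm).op := by
          rw [Scheme.Hom.appLE_map, Scheme.Hom.app_eq_appLE]
        have h2 : g.appLE U ⊤ hgU.le ≫ (Scheme.ΓSpecIso (CommRingCat.of L)).hom =
            X.presheaf.germ U (genericPoint X) hxU ≫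
              CommRingCat.ofHom (algebraMap X.functionField L) :=
          app_fromSpecStalk_comp (genericPoint X) (CommRingCat.of L)
            (CommRingCat.ofHom (algebraMap X.functionField L)) U hxU hgU.le
        have h3 : g.appLE U ⊤ hgU.le = (X.presheaf.germ U (genericPoint X) hxU ≫
              CommRingCat.ofHom (algebraMap X.functionField L)) ≫
                (Scheme.ΓSpecIso (CommRingCat.of L)).inv := (Iso.eq_comp_inv _).2 h2
        rw [h1, h3]
        rfl
      let e : L ≃ₐ[Γ(X, U)] Γ(Spec (CommRingCat.of L), g ⁻¹ᵁ U) :=
        { i.commRingCatIsoToRingEquiv with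
          commutes' := fun r => by
            exact (congrArg (fun φ => φ.hom r) hcompat).symm }
      exact Module.Finite.equiv (e.mapIntegralClosure).toLinearEquiv
    · have hUe : U = ⊥ := by
        apply TopologicalSpace.Opens.ext
        exact Set.not_nonempty_iff_eq_empty.mp hU0
      have h1 : Subsingleton Γ(X, U) := by
        rw [hUe]
        infer_instance
      have h2 : Subsingleton (integralClosure Γ(X, U) Γ(Spec (CommRingCat.of L), g ⁻¹ᵁ U)) :=
        Module.subsingleton Γ(X, U) _
      infer_instance
  rw [Scheme.Hom.fromNormalization_app _ hU]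
  exact RingHom.finite_respectsIso.1 _ (g.normalizationObjIso hU).symm.commRingCatIsoToRingEquiv
    (RingHom.finite_algebraMap.mpr h)

end Groth.Agent.S18426
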