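import Groth.Statements.S18429
-- import your own Groth.Agent.* helpers here

set_option autoImplicit false
universe u
open SpinCurv

namespace Groth.Agent.S18429

/-- Let n ≥ 1 and r ≥ 2 be integers and let e_0, …, e_{nr} be integers with e_0 = e_{nr} = 0 (the
coefficients of a chain of nr - 1 exceptional curves joining two non-exceptional components with
coefficient zero) such that at every interior index 1 ≤ j ≤ nr - 1 the second difference e_{j-1} - 2
e_j + e_{j+1} (the degree of the divisor Σ e_i E_i on the j-th curve of the chain) is divisible by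
r. Then there are integers e'_0, …, e'_{nr}, with e'_j ≡ e_j modulo r for every interior j, with
e'_0 = e'_{nr} = 0 and every e'_j ≤ 0, whose second differences at the interior indices are each 0
or r, and are nonzero at no two distinct interior indices. -/
theorem result (n r : ℕ) (hn : 1 ≤ n) (hr : 2 ≤ r)
    (e : ℕ → ℤ) (he0 : e 0 = 0) (henr : e (n * r) = 0)
    (hdiv : ∀ j : ℕ, 1 ≤ j → j < n * r → (r : ℤ) ∣ e (j - 1) - 2 * e j + e (j + 1)) :
    ∃ e' : ℕ → ℤ, e' 0 = 0 ∧ e' (n * r) = 0 ∧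
      (∀ j : ℕ, 1 ≤ j → j < n * r → (r : ℤ) ∣ e' j - e j) ∧
      (∀ j : ℕ, j ≤ n * r → e' j ≤ 0) ∧
      (∀ j : ℕ, 1 ≤ j → j < n * r →
        (e' (j - 1) - 2 * e' j + e' (j + 1) = 0 ∨ e' (j - 1) - 2 * e' j + e' (j + 1) = r)) ∧
      (∀ j j' : ℕ, 1 ≤ j → j < n * r → 1 ≤ j' → j' < n * r →
        e' (j - 1) - 2 * e' j + e' (j + 1) ≠ 0 → e' (j' - 1) - 2 * e' j' + e' (j' + 1) ≠ 0 → j = j') := by
  classical
  -- the congruence `e j ≡ j * d₀ mod r`
  have key : ∀ j : ℕ, j < n * r → (r : ℤ) ∣ (e (j + 1) - e j) - (e 1 - e 0) ∧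
      (r : ℤ) ∣ e (j + 1) - e 0 - (j + 1) * (e 1 - e 0) := by
    intro j
    induction j with
    | zero => intro _; simp
    | succ j ih =>
      intro hj
      obtain ⟨h1, h2⟩ := ih (by omega)
      have h3 := hdiv (j + 1) (by omega) hj
      rw [Nat.add_sub_cancel] at h3
      have h4 : (r : ℤ) ∣ (e (j + 1 + 1) - e (j + 1)) - (e 1 - e 0) := by
        obtain ⟨c3, hc3⟩ := h3
        obtain ⟨c1, hc1⟩ := h1
        exact ⟨c3 + c1, by linear_combination hc3 + hc1⟩
      refine ⟨h4, ?_⟩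
      obtain ⟨c4, hc4⟩ := h4
      obtain ⟨c2, hc2⟩ := h2
      exact ⟨c4 + c2, by push_cast; linear_combination hc4 + hc2⟩
  have hr0 : (0 : ℤ) < r := by exact_mod_cast (by omega : 0 < r)
  -- `a = (-d₀) mod r`, slope `s = -a`
  set a : ℤ := (-(e 1)) % r with ha
  have ha0 : 0 ≤ a := Int.emod_nonneg _ hr0.ne'
  have har : a < r := Int.emod_lt_of_pos _ hr0
  have hda : (r : ℤ) ∣ e 1 + a := by
    have h := Int.emod_add_mul_ediv (-(e 1)) r
    refine ⟨-((-(e 1)) / r), ?_⟩
    rw [← ha] at h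
    linear_combination h
  obtain ⟨b, hb⟩ := Int.eq_ofNat_of_zero_le (sub_nonneg.mpr har.le)
  -- the break point `t = n * b`, `b = r - a`
  have hb' : a = r - b := by linarith
  have hbr : b ≤ r := by
    have : (b : ℤ) ≤ r := by linarith
    exact_mod_cast this
  have hb1 : 1 ≤ b := by
    have : (0 : ℤ) < b := by linarith
    exact_mod_cast this
  have hE : ∀ j : ℕ, (r : ℤ) * ((j - n * b : ℕ) : ℤ) - a * j =
      (if n * b ≤ j then (r : ℤ) * ((j : ℤ) - n * b) - a * j else - a * j) := by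
    intro j
    split_ifs with h
    · rw [Nat.cast_sub h]; push_cast; ring
    · rw [Nat.sub_eq_zero_of_le (by omega)]; push_cast; ring
  have hntr : n * b ≤ n * r := Nat.mul_le_mul_left _ hbr
  have hsecond : ∀ j : ℕ, 1 ≤ j → j < n * r →
      ((r : ℤ) * ((j - 1 - n * b : ℕ) : ℤ) - a * ((j - 1 : ℕ) : ℤ)) -
        2 * ((r : ℤ) * ((j - n * b : ℕ) : ℤ) - a * j) +
        ((r : ℤ) * ((j + 1 - n * b : ℕ) : ℤ) - a * ((j + 1 : ℕ) : ℤ)) = if j = n * b then (r : ℤ) else 0 := by
    intro j hj _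
    obtain ⟨i, rfl⟩ : ∃ i, j = i + 1 := ⟨j - 1, by omega⟩
    rw [Nat.add_sub_cancel]
    rcases lt_trichotomy (i + 1) (n * b) with h | h | h
    · rw [if_neg (by omega), Nat.sub_eq_zero_of_le (by omega : i ≤ n * b),
        Nat.sub_eq_zero_of_le (by omega : i + 1 ≤ n * b),
        Nat.sub_eq_zero_of_le (by omega : i + 1 + 1 ≤ n * b)]
      push_cast
      ring
    · rw [if_pos h, ← h, Nat.sub_eq_zero_of_le (by omega : i ≤ i + 1), Nat.sub_self,
        Nat.add_sub_cancel_left]
      push_cast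
      ring
    · rw [if_neg (by omega), Nat.cast_sub (by omega : n * b ≤ i),
        Nat.cast_sub (by omega : n * b ≤ i + 1), Nat.cast_sub (by omega : n * b ≤ i + 1 + 1)]
      push_cast
      ring
  refine ⟨fun j => (r : ℤ) * ((j - n * b : ℕ) : ℤ) - a * j, ?_, ?_, ?_, ?_, ?_, ?_⟩
  · simp
  · have : ((n * r - n * b : ℕ) : ℤ) = n * r - n * b := by
      rw [Nat.cast_sub hntr]; push_cast; ring
    simp only [this]
    push_cast
    rw [hb']
    ring
  · intro j hj1 hj
    obtain ⟨i, rfl⟩ : ∃ i, j = i + 1 := ⟨j - 1, by omega⟩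
    have h := (key i (by omega)).2
    rw [he0, sub_zero, sub_zero] at h
    have h1 : (r : ℤ) ∣ ((i : ℤ) + 1) * (e 1 + a) := Dvd.dvd.mul_left hda _
    have h2 : (r : ℤ) ∣ (r : ℤ) * ((i + 1 - n * b : ℕ) : ℤ) := Dvd.intro _ rfl
    obtain ⟨c, hc⟩ := h
    obtain ⟨c1, hc1⟩ := h1
    refine ⟨((i + 1 - n * b : ℕ) : ℤ) - c - c1, ?_⟩
    push_cast
    linear_combination -hc - hc1
  · intro j hj
    simp only
    rcases le_total (n * b) j with h | h
    · have h1 : (((j - n * b : ℕ)) : ℤ) = j - n * b := by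
        rw [Nat.cast_sub h]; push_cast; ring
      rw [h1, hb']
      have hjr : (j : ℤ) ≤ n * r := by exact_mod_cast hj
      have : (r : ℤ) * ((j : ℤ) - n * b) - (r - b) * j = b * (j - n * r) := by ring
      rw [this]
      have hb0 : (0 : ℤ) ≤ b := by positivity
      nlinarith
    · rw [Nat.sub_eq_zero_of_le h]
      have : (0 : ℤ) ≤ a * j := by positivity
      push_cast
      linarith
  · intro j hj1 hj
    have := hsecond j hj1 hj
    simp only
    rw [this]
    split_ifs
    · exact Or.inr rfl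
    · exact Or.inl rfl
  · intro j j' hj1 hj hj1' hj' hne hne'
    simp only at hne hne'
    rw [hsecond j hj1 hj] at hne
    rw [hsecond j' hj1' hj'] at hne'
    have h1 : j = n * b := by
      by_contra h
      rw [if_neg h] at hne
      exact hne rfl
    have h2 : j' = n * b := by
      by_contra h
      rw [if_neg h] at hne'
      exact hne' rfl
    rw [h1, h2]

end Groth.Agent.S18429
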