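import Groth.Statements.S18430
-- import your own Groth.Agent.* helpers here

set_option autoImplicit false
universe u
open SpinCurv

namespace Groth.Agent.S18430

/-- Let n ≥ 1 and r ≥ 2 be integers and let e_0, …, e_{nr} be integers, thought of as the coefficients
of two non-exceptional components C = E_0 and D = E_{nr} of the special fibre and of the chain of nr
- 1 exceptional curves joining them. If at every interior index 1 ≤ j ≤ nr - 1 the second difference
e_{j-1} - 2 e_j + e_{j+1} is divisible by r (the degree of the divisor on each exceptional curve of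
the chain is a multiple of r), then e_0 ≡ e_{nr} modulo r. (The published statement deduces from
this step, using that the special fibre is connected, that all non-exceptional components are joined
by such chains and that one non-exceptional coefficient may be taken to be 0, that every
non-exceptional coefficient can be assumed divisible by r; only the chain step is stated here.) -/
theorem result (n r : ℕ) (hn : 1 ≤ n) (hr : 2 ≤ r)
    (e : ℕ → ℤ)
    (hdiv : ∀ j : ℕ, 1 ≤ j → j < n * r → (r : ℤ) ∣ e (j - 1) - 2 * e j + e (j + 1)) :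
    (r : ℤ) ∣ e (n * r) - e 0 := by
  have key : ∀ j : ℕ, j < n * r → (r : ℤ) ∣ (e (j + 1) - e j) - (e 1 - e 0) ∧
      (r : ℤ) ∣ e (j + 1) - e 0 - (j + 1) * (e 1 - e 0) := by
    intro j
    induction j with
    | zero => intro _; simp
    | succ j ih =>
      intro hj
      obtain ⟨h1, h2⟩ := ih (by omega)
      have h3 := hdiv (j + 1) (by omega) hj
      rw [Nat.add_sub_cancel] at h3
      have h4 : (r : ℤ) ∣ (e (j + 1 + 1) - e (j + 1)) - (e 1 - e 0) := by
        obtain ⟨c3, hc3⟩ := h3
        obtain ⟨c1, hc1⟩ := h1
        exact ⟨c3 + c1, by linear_combination hc3 + hc1⟩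
      refine ⟨h4, ?_⟩
      obtain ⟨c4, hc4⟩ := h4
      obtain ⟨c2, hc2⟩ := h2
      exact ⟨c4 + c2, by push_cast; linear_combination hc4 + hc2⟩
  have hpos : 0 < n * r := Nat.mul_pos (by omega) (by omega)
  have h := (key (n * r - 1) (by omega)).2
  rw [Nat.sub_add_cancel (by omega)] at h
  have hc : ((n * r - 1 : ℕ) : ℤ) + 1 = n * r := by
    rw [Nat.cast_sub (by omega)]
    push_cast
    ring
  rw [hc] at h
  have h5 : (r : ℤ) ∣ (n : ℤ) * r * (e 1 - e 0) := ⟨n * (e 1 - e 0), by ring⟩
  obtain ⟨c1, hc1⟩ := h
  obtain ⟨c2, hc2⟩ := h5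
  exact ⟨c1 + c2, by linear_combination hc1 + hc2⟩

end Groth.Agent.S18430
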