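import Groth.Statements.S18431
import Mathlib.Algebra.Ring.GeomSum
import Mathlib.RingTheory.LocalRing.ResidueField.Basic
import Mathlib.Tactic

set_option autoImplicit false
universe u
open SpinCurv

namespace Groth.Agent.S18431

/-- Let R be a Noetherian local ring in which the natural number r is invertible and let ξ, ζ ∈ R
satisfy ξ^r = 1 and ζ^r = 1. Then either ξ = ζ, or ξ - ζ is a unit of R. (Consequently an element of
R annihilated by ξ - ζ is zero unless ξ = ζ. In the published setting R is moreover complete; the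
step does not use completeness.) -/
theorem result (R : Type u) [CommRing R] [IsNoetherianRing R] [IsLocalRing R]
    (r : ℕ) (hr : IsUnit (r : R)) (ξ ζ : R) (hξ : ξ ^ r = 1) (hζ : ζ ^ r = 1) :
    ξ = ζ ∨ IsUnit (ξ - ζ) := by
  by_cases hu : IsUnit (ξ - ζ)
  · exact Or.inr hu
  left
  have hr0 : r ≠ 0 := by
    rintro rfl
    simp at hr
  have hξu : IsUnit ξ := IsUnit.of_pow_eq_one hξ hr0
  -- the factorisation of `ξ ^ r - ζ ^ r`
  have hfac := (Commute.all ξ ζ : Commute ξ ζ).geom_sum₂_mul r
  rw [hξ, hζ, sub_self] at hfac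
  have hsum : IsUnit (∑ i ∈ Finset.range r, ξ ^ i * ζ ^ (r - 1 - i)) := by
    have hm : (ξ - ζ) ∈ IsLocalRing.maximalIdeal R := by
      rwa [IsLocalRing.mem_maximalIdeal, mem_nonunits_iff]
    have hmap : IsLocalRing.residue R ζ = IsLocalRing.residue R ξ := by
      have : IsLocalRing.residue R (ξ - ζ) = 0 := by
        rwa [IsLocalRing.residue_eq_zero_iff]
      rw [map_sub, sub_eq_zero] at this
      exact this.symm
    rw [← isUnit_map_iff (IsLocalRing.residue R)]
    rw [map_sum]
    have h1 : ∀ i ∈ Finset.range r, IsLocalRing.residue R (ξ ^ i * ζ ^ (r - 1 - i)) =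
        IsLocalRing.residue R ξ ^ (r - 1) := by
      intro i hi
      rw [Finset.mem_range] at hi
      rw [map_mul, map_pow, map_pow, hmap, ← pow_add]
      congr 1
      omega
    rw [Finset.sum_congr rfl h1, Finset.sum_const, Finset.card_range, nsmul_eq_mul]
    refine IsUnit.mul ?_ ?_
    · have := hr.map (IsLocalRing.residue R)
      simpa using this
    · exact (hξu.map _).pow _
  have := hsum.mul_right_eq_zero.mp hfac
  exact sub_eq_zero.mp this

end Groth.Agent.S18431
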