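import Groth.Statements.S18432
import Groth.Agent.SpinCurv.K955.NodeAlpha

set_option autoImplicit false
universe u
open SpinCurv

namespace Groth.Agent.S18432

/-- Let R be a complete Noetherian local ring, p, q elements of its maximal ideal, A = R[[x, y]]/(xy -
pq), and α(p, q) the A-linear endomorphism of A² with matrix (x p; q y), sending a column (a, b) to
(x a + p b, q a + y b). Then the kernel of α(p, q) is the submodule of A² generated by the columns
(p, -x) and (y, -q); equivalently the image of α(p, q) (the standard rank-one torsion-free module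
E(p, q)) is presented by two generators ξ, v with the relations p ξ = x v and y ξ = q v. -/
theorem result (R : Type u) [CommRing R] [IsNoetherianRing R] [IsLocalRing R]
    [IsAdicComplete (IsLocalRing.maximalIdeal R) R]
    (p q : R) (hp : p ∈ IsLocalRing.maximalIdeal R) (hq : q ∈ IsLocalRing.maximalIdeal R) :
    LinearMap.ker (Matrix.mulVecLin (SpinCurv.nodeAlpha R p q)) =
      Submodule.span (SpinCurv.NodeRing R (p * q))
        {![algebraMap R (SpinCurv.NodeRing R (p * q)) p, -SpinCurv.NodeRing.x R (p * q)],
         ![SpinCurv.NodeRing.y R (p * q), -algebraMap R (SpinCurv.NodeRing R (p * q)) q]} := by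
  have hpq : p * q ∈ IsLocalRing.maximalIdeal R := Ideal.mul_mem_right _ _ hp
  apply le_antisymm
  · intro v hv
    rw [LinearMap.mem_ker, Matrix.mulVecLin_apply] at hv
    obtain ⟨f, g, s, t, h⟩ := K955.NodeAlpha.exists_reduction (IsLocalRing.maximalIdeal R) hpq v
    have h1 := K955.NodeAlpha.alpha_rel (p := p) (q := q) s t
    rw [h, Matrix.mulVec_add, h1, add_zero] at hv
    obtain ⟨rfl, rfl⟩ := K955.NodeAlpha.eq_zero_of_alpha (IsLocalRing.maximalIdeal R) hpq hv
    have h2 : (![SpinCurv.NodeRing.ofX R (p * q) 0, SpinCurv.NodeRing.ofY R (p * q) 0] :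
        Fin 2 → SpinCurv.NodeRing R (p * q)) = 0 := by
      funext i
      fin_cases i
      · change Ideal.Quotient.mk _ _ = 0
        rw [map_zero, map_zero]
      · change Ideal.Quotient.mk _ _ = 0
        rw [map_zero, map_zero]
    rw [h, h2, zero_add]
    exact Submodule.add_mem _
      (Submodule.smul_mem _ _ (Submodule.subset_span (Set.mem_insert _ _)))
      (Submodule.smul_mem _ _ (Submodule.subset_span (Set.mem_insert_of_mem _ rfl)))
  · rw [Submodule.span_le]
    rintro v (rfl | rfl)
    · exact K955.NodeAlpha.alpha_rel_one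
    · exact K955.NodeAlpha.alpha_rel_two

end Groth.Agent.S18432
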