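import Groth.Statements.S18433
import Groth.Agent.SpinCurv.K955.NodeAlpha

set_option autoImplicit false
universe u
open SpinCurv

namespace Groth.Agent.S18433

/-- Let R be a complete Noetherian local ring, p, q elements of its maximal ideal, A = R[[x, y]]/(xy -
pq), and α(p, q) the endomorphism (a, b) ↦ (x a + p b, q a + y b) of A². Restrict α(p, q) to pairs
(f, g) with f a power series in x alone and g a power series in y alone: the resulting map R[[x]] ×
R[[y]] → A², (f, g) ↦ (x f + p g, q f + y g), is injective and has the same image as α(p, q). Thus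
the image E(p, q) of α(p, q) is identified, R-linearly, with R[[x]] ⊕ R[[y]]. -/
theorem result (R : Type u) [CommRing R] [IsNoetherianRing R] [IsLocalRing R]
    [IsAdicComplete (IsLocalRing.maximalIdeal R) R]
    (p q : R) (hp : p ∈ IsLocalRing.maximalIdeal R) (hq : q ∈ IsLocalRing.maximalIdeal R) :
    Function.Injective (fun fg : PowerSeries R × PowerSeries R =>
        Matrix.mulVec (SpinCurv.nodeAlpha R p q)
          ![SpinCurv.NodeRing.ofX R (p * q) fg.1, SpinCurv.NodeRing.ofY R (p * q) fg.2]) ∧
    Set.range (fun fg : PowerSeries R × PowerSeries R =>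
        Matrix.mulVec (SpinCurv.nodeAlpha R p q)
          ![SpinCurv.NodeRing.ofX R (p * q) fg.1, SpinCurv.NodeRing.ofY R (p * q) fg.2]) =
      Set.range (Matrix.mulVec (SpinCurv.nodeAlpha R p q)) := by
  have hpq : p * q ∈ IsLocalRing.maximalIdeal R := Ideal.mul_mem_right _ _ hp
  constructor
  · rintro ⟨f, g⟩ ⟨f', g'⟩ h
    have hsub : Matrix.mulVec (SpinCurv.nodeAlpha R p q)
        ![SpinCurv.NodeRing.ofX R (p * q) (f - f'), SpinCurv.NodeRing.ofY R (p * q) (g - g')] = 0 := by
      have e : (![SpinCurv.NodeRing.ofX R (p * q) (f - f'), SpinCurv.NodeRing.ofY R (p * q) (g - g')] :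
          Fin 2 → SpinCurv.NodeRing R (p * q)) =
          ![SpinCurv.NodeRing.ofX R (p * q) f, SpinCurv.NodeRing.ofY R (p * q) g] -
          ![SpinCurv.NodeRing.ofX R (p * q) f', SpinCurv.NodeRing.ofY R (p * q) g'] := by
        funext i
        fin_cases i
        · change SpinCurv.NodeRing.ofX R (p * q) (f - f') =
            SpinCurv.NodeRing.ofX R (p * q) f - SpinCurv.NodeRing.ofX R (p * q) f'
          rw [SpinCurv.NodeRing.ofX, map_sub, map_sub]
        · change SpinCurv.NodeRing.ofY R (p * q) (g - g') =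
            SpinCurv.NodeRing.ofY R (p * q) g - SpinCurv.NodeRing.ofY R (p * q) g'
          rw [SpinCurv.NodeRing.ofY, map_sub, map_sub]
      rw [e, Matrix.mulVec_sub]
      exact sub_eq_zero.mpr h
    obtain ⟨h1, h2⟩ := K955.NodeAlpha.eq_zero_of_alpha (IsLocalRing.maximalIdeal R) hpq hsub
    rw [sub_eq_zero.mp h1, sub_eq_zero.mp h2]
  · apply Set.Subset.antisymm
    · rintro _ ⟨fg, rfl⟩
      exact ⟨_, rfl⟩
    · rintro _ ⟨v, rfl⟩
      obtain ⟨f, g, s, t, h⟩ := K955.NodeAlpha.exists_reduction (IsLocalRing.maximalIdeal R) hpq v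
      refine ⟨(f, g), ?_⟩
      have h1 := K955.NodeAlpha.alpha_rel (p := p) (q := q) s t
      rw [h, Matrix.mulVec_add, h1, add_zero]

end Groth.Agent.S18433
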