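import Groth.Statements.S18434
import Groth.Agent.SpinCurv.K955.NodeCoord
import Mathlib.LinearAlgebra.Dimension.Constructions

set_option autoImplicit false
universe u
open SpinCurv

namespace Groth.Agent.S18434

/-- Let k be a field, u, v ≥ 1 integers and w ∈ k nonzero. In the ring A = k[[x, y]]/(xy), the quotient
A/(x^u, w y^v) has dimension u + v - 1 over k (a basis is 1, x, …, x^{u-1}, y, …, y^{v-1}); this is
the length of the cokernel at the node of a map whose image is generated by x^u and w y^v. -/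
theorem result (k : Type u) [Field k] (u v : ℕ) (hu : 1 ≤ u) (hv : 1 ≤ v)
    (w : k) (hw : w ≠ 0) :
    Module.finrank k (SpinCurv.NodeRing k 0 ⧸
      Ideal.span {SpinCurv.NodeRing.x k 0 ^ u, algebraMap k (SpinCurv.NodeRing k 0) w * SpinCurv.NodeRing.y k 0 ^ v}) =
      u + v - 1 := by
  classical
  have h0 : (0 : k) ∈ (⊥ : Ideal k) := Submodule.zero_mem _
  -- the coordinate functionals `x ^ i` (`i < u`) and `y ^ (j + 1)` (`j + 1 < v`)
  let L₀ : MvPowerSeries (Fin 2) k →ₗ[k] (Fin u → k) × (Fin (v - 1) → k) :=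
    (LinearMap.pi fun i : Fin u => K955.NodeCoord.cf (i : ℕ) 0).prod
      (LinearMap.pi fun j : Fin (v - 1) => K955.NodeCoord.cf 0 ((j : ℕ) + 1))
  have hL₀ : ∀ f ∈ (Ideal.span {(MvPowerSeries.X 0 * MvPowerSeries.X 1 - MvPowerSeries.C 0 :
      MvPowerSeries (Fin 2) k)}).restrictScalars k, L₀ f = 0 := by
    intro f hf
    have hf' := Ideal.mem_span_singleton'.mp hf
    obtain ⟨H, rfl⟩ := hf'
    have e : H * (MvPowerSeries.X 0 * MvPowerSeries.X 1 - MvPowerSeries.C 0) =
        MvPowerSeries.X 0 * MvPowerSeries.X 1 * H := by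
      rw [map_zero, sub_zero]; ring
    rw [e]
    apply Prod.ext
    · funext i
      exact K955.NodeCoord.cf_XX_mul_right H _
    · funext j
      exact K955.NodeCoord.cf_XX_mul_left H _
  let L : SpinCurv.NodeRing k 0 →ₗ[k] (Fin u → k) × (Fin (v - 1) → k) :=
    ((Ideal.span {(MvPowerSeries.X 0 * MvPowerSeries.X 1 - MvPowerSeries.C 0 :
      MvPowerSeries (Fin 2) k)}).restrictScalars k).liftQ L₀ hL₀
  have hLmk : ∀ f, L (Ideal.Quotient.mk _ f) = L₀ f := fun f => rfl
  have hLX : ∀ A : PowerSeries k, L (SpinCurv.NodeRing.ofX k 0 A) =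
      ((fun i : Fin u => PowerSeries.coeff (i : ℕ) A), (fun _ : Fin (v - 1) => (0 : k))) := by
    intro A
    rw [hLmk]
    apply Prod.ext
    · funext i
      exact (K955.NodeCoord.cf_toMv_zero A _ _).trans (if_pos rfl)
    · funext j
      exact (K955.NodeCoord.cf_toMv_zero A _ _).trans (if_neg (by omega))
  have hLY : ∀ B : PowerSeries k, PowerSeries.constantCoeff B = 0 → L (SpinCurv.NodeRing.ofY k 0 B) =
      ((fun _ : Fin u => (0 : k)), (fun j : Fin (v - 1) => PowerSeries.coeff ((j : ℕ) + 1) B)) := by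
    intro B hB
    rw [hLmk]
    apply Prod.ext
    · funext i
      refine (K955.NodeCoord.cf_toMv_one B _ _).trans ?_
      rw [PowerSeries.coeff_zero_eq_constantCoeff_apply, hB, ite_self]
    · funext j
      exact (K955.NodeCoord.cf_toMv_one B _ _).trans (if_pos rfl)
  have hLsurj : Function.Surjective L := by
    rintro ⟨a, b⟩
    refine ⟨SpinCurv.NodeRing.ofX k 0 (PowerSeries.mk fun m => if h : m < u then a ⟨m, h⟩ else 0) +
      SpinCurv.NodeRing.ofY k 0 (PowerSeries.mk fun m => if h : m - 1 < v - 1 then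
        (if m = 0 then 0 else b ⟨m - 1, h⟩) else 0), ?_⟩
    rw [map_add, hLX, hLY]
    · apply Prod.ext
      · funext i
        simp
      · funext j
        simp
    · rw [← PowerSeries.coeff_zero_eq_constantCoeff_apply, PowerSeries.coeff_mk]
      simp
  set J : Ideal (SpinCurv.NodeRing k 0) := Ideal.span {SpinCurv.NodeRing.x k 0 ^ u,
    algebraMap k (SpinCurv.NodeRing k 0) w * SpinCurv.NodeRing.y k 0 ^ v} with hJ
  have hyv : SpinCurv.NodeRing.y k 0 ^ v ∈ J := by
    have h1 : algebraMap k (SpinCurv.NodeRing k 0) w * SpinCurv.NodeRing.y k 0 ^ v ∈ J :=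
      Ideal.subset_span (by simp)
    have h2 := J.mul_mem_left (algebraMap k (SpinCurv.NodeRing k 0) w⁻¹) h1
    rwa [← mul_assoc, ← map_mul (algebraMap k (SpinCurv.NodeRing k 0)), inv_mul_cancel₀ hw,
      map_one (algebraMap k (SpinCurv.NodeRing k 0)), one_mul] at h2
  have hxu : SpinCurv.NodeRing.x k 0 ^ u ∈ J := Ideal.subset_span (by simp)
  have hxX : ∀ (m : ℕ) (A : PowerSeries k), SpinCurv.NodeRing.x k 0 ^ m * SpinCurv.NodeRing.ofX k 0 A =
      SpinCurv.NodeRing.ofX k 0 (PowerSeries.X ^ m * A) := by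
    intro m
    induction m with
    | zero => intro A; rw [pow_zero, one_mul, pow_zero, one_mul]
    | succ m ih => intro A; rw [pow_succ, mul_assoc, K955.NodeCoord.x_mul_ofX, ih, pow_succ, mul_assoc]
  have hyY : ∀ (m : ℕ) (A : PowerSeries k), SpinCurv.NodeRing.y k 0 ^ m * SpinCurv.NodeRing.ofY k 0 A =
      SpinCurv.NodeRing.ofY k 0 (PowerSeries.X ^ m * A) := by
    intro m
    induction m with
    | zero => intro A; rw [pow_zero, one_mul, pow_zero, one_mul]
    | succ m ih => intro A; rw [pow_succ, mul_assoc, K955.NodeCoord.y_mul_ofY, ih, pow_succ, mul_assoc]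
  have hxy : SpinCurv.NodeRing.x k 0 * SpinCurv.NodeRing.y k 0 = 0 :=
    (K955.NodeCoord.x_mul_y (0 : k)).trans (map_zero (algebraMap k (SpinCurv.NodeRing k 0)))
  -- the kernel of `L` is `J`
  have hker : LinearMap.ker L = J.restrictScalars k := by
    apply le_antisymm
    · intro a ha
      rw [LinearMap.mem_ker] at ha
      obtain ⟨A, B, hB, rfl⟩ := K955.NodeCoord.exists_normalForm (⊥ : Ideal k) h0 a
      rw [map_add, hLX, hLY B hB, Prod.mk_add_mk, Prod.mk_eq_zero] at ha
      have hA' : (PowerSeries.X : PowerSeries k) ^ u ∣ A := by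
        rw [PowerSeries.X_pow_dvd_iff]
        intro m hm
        have := congrFun ha.1 ⟨m, hm⟩
        simpa using this
      have hB' : (PowerSeries.X : PowerSeries k) ^ v ∣ B := by
        rw [PowerSeries.X_pow_dvd_iff]
        intro m hm
        rcases m with _ | m
        · rwa [PowerSeries.coeff_zero_eq_constantCoeff_apply]
        · have := congrFun ha.2 ⟨m, by omega⟩
          simpa using this
      obtain ⟨A', rfl⟩ := hA'
      obtain ⟨B', rfl⟩ := hB'
      rw [← hxX, ← hyY]
      exact J.add_mem (J.mul_mem_right _ hxu) (J.mul_mem_right _ hyv)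
    · intro a ha
      rw [Submodule.restrictScalars_mem, hJ, Ideal.mem_span_pair] at ha
      obtain ⟨s, t, rfl⟩ := ha
      rw [LinearMap.mem_ker]
      obtain ⟨A, B, hB, hs⟩ := K955.NodeCoord.exists_normalForm (⊥ : Ideal k) h0 s
      obtain ⟨A', B', hB', ht⟩ := K955.NodeCoord.exists_normalForm (⊥ : Ideal k) h0 t
      obtain ⟨B, rfl⟩ := PowerSeries.X_dvd_iff.mpr hB
      have e1 : s * SpinCurv.NodeRing.x k 0 ^ u = SpinCurv.NodeRing.ofX k 0 (PowerSeries.X ^ u * A) := by
        obtain ⟨u', rfl⟩ : ∃ u', u = u' + 1 := ⟨u - 1, by omega⟩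
        rw [← hxX, hs, ← K955.NodeCoord.y_mul_ofY]
        linear_combination (SpinCurv.NodeRing.x k 0 ^ u' * SpinCurv.NodeRing.ofY k 0 B) * hxy
      have e2 : t * (algebraMap k (SpinCurv.NodeRing k 0) w * SpinCurv.NodeRing.y k 0 ^ v) =
          SpinCurv.NodeRing.ofY k 0 (PowerSeries.X ^ v *
            (PowerSeries.C w * (PowerSeries.C (PowerSeries.constantCoeff A') + B'))) := by
        obtain ⟨v', rfl⟩ : ∃ v', v = v' + 1 := ⟨v - 1, by omega⟩
        have e3 : SpinCurv.NodeRing.ofX k 0 A' = SpinCurv.NodeRing.x k 0 *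
            SpinCurv.NodeRing.ofX k 0 (PowerSeries.mk fun m => PowerSeries.coeff (m + 1) A') +
            SpinCurv.NodeRing.ofY k 0 (PowerSeries.C (PowerSeries.constantCoeff A')) := by
          conv_lhs => rw [PowerSeries.eq_X_mul_shift_add_const A']
          rw [K955.NodeCoord.x_mul_ofX, SpinCurv.NodeRing.ofX, SpinCurv.NodeRing.ofX,
            SpinCurv.NodeRing.ofY, map_add, map_add, PowerSeries.toMvPowerSeries_C,
            PowerSeries.toMvPowerSeries_C]
        have e4 : SpinCurv.NodeRing.ofY k 0 (PowerSeries.C (PowerSeries.constantCoeff A') + B') =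
            SpinCurv.NodeRing.ofY k 0 (PowerSeries.C (PowerSeries.constantCoeff A')) +
            SpinCurv.NodeRing.ofY k 0 B' := by
          rw [SpinCurv.NodeRing.ofY, map_add, map_add]
        rw [← hyY, ← K955.NodeCoord.C_mul_ofY, e4, ht, e3]
        linear_combination (SpinCurv.NodeRing.y k 0 ^ v' * algebraMap k (SpinCurv.NodeRing k 0) w *
          SpinCurv.NodeRing.ofX k 0 (PowerSeries.mk fun m => PowerSeries.coeff (m + 1) A')) * hxy
      rw [e1, e2, map_add, hLX, hLY]
      · apply Prod.ext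
        · funext i
          have : PowerSeries.coeff (i : ℕ) (PowerSeries.X ^ u * A) = 0 :=
            (PowerSeries.X_pow_dvd_iff.mp (Dvd.intro _ rfl)) _ i.2
          simpa using this
        · funext j
          have : PowerSeries.coeff ((j : ℕ) + 1) (PowerSeries.X ^ v *
            (PowerSeries.C w * (PowerSeries.C (PowerSeries.constantCoeff A') + B'))) = 0 :=
            (PowerSeries.X_pow_dvd_iff.mp (Dvd.intro _ rfl)) _ (by have := j.2; omega)
          simpa using this
      · rw [map_mul, map_pow, PowerSeries.constantCoeff_X, zero_pow (by omega), zero_mul]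
  have e : (SpinCurv.NodeRing k 0 ⧸ J) ≃ₗ[k] ((Fin u → k) × (Fin (v - 1) → k)) :=
    (Submodule.Quotient.restrictScalarsEquiv k J).symm.trans
      ((Submodule.quotEquivOfEq _ _ hker.symm).trans (L.quotKerEquivOfSurjective hLsurj))
  rw [e.finrank_eq, Module.finrank_prod, Module.finrank_fin_fun, Module.finrank_fin_fun]
  omega

end Groth.Agent.S18434
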