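import Groth.Statements.S18435
import Groth.Agent.SpinCurv.K955.Twist

set_option autoImplicit false
universe u
open SpinCurv

namespace Groth.Agent.S18435

/-- Let k be a field and A = k[x, y]/(xy) the node, with the two affine charts U = Spec k[s, y]/(sy) and
V = Spec k[t, x]/(tx) of the curve obtained by the (p, q)-construction with p = q = 0, glued along
k[s, s⁻¹] by t = s⁻¹ (y ↦ 0 from U, x ↦ 0 from V), and with A → O(U) given by x ↦ 0, y ↦ y and A →
O(V) by x ↦ x, y ↦ 0. A global section of O(1) is a pair (g, f) with g = s f on U ∩ V. If such a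
pair is annihilated by both x and y (acting through the two restriction maps), then g = 0 and f = 0;
so the module of global sections of O(1) has no nonzero element killed by the maximal ideal (x, y),
i.e. its direct image on the node is torsion-free there. All three coordinate rings are written as
the quotient of the polynomial ring in two variables by the product of the variables, and the four
restriction homomorphisms are k-algebra maps pinned by their values on generators. (The published
proof reduces the torsion-freeness of the direct image of O(1), for general R, p, q, to exactly this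
case of a field with p = q = 0.) -/
theorem result (k : Type u) [Field k]
    (rU : SpinCurv.PolyNodeRing k 0 →ₐ[k] SpinCurv.PolyNodeRing k 0)
    (hrUx : rU (SpinCurv.PolyNodeRing.x k 0) = 0)
    (hrUy : rU (SpinCurv.PolyNodeRing.y k 0) = SpinCurv.PolyNodeRing.y k 0)
    (rV : SpinCurv.PolyNodeRing k 0 →ₐ[k] SpinCurv.PolyNodeRing k 0)
    (hrVx : rV (SpinCurv.PolyNodeRing.x k 0) = SpinCurv.PolyNodeRing.y k 0)
    (hrVy : rV (SpinCurv.PolyNodeRing.y k 0) = 0)
    (gU : SpinCurv.PolyNodeRing k 0 →ₐ[k] LaurentPolynomial k)
    (hgUs : gU (SpinCurv.PolyNodeRing.x k 0) = LaurentPolynomial.T 1)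
    (hgUy : gU (SpinCurv.PolyNodeRing.y k 0) = 0)
    (gV : SpinCurv.PolyNodeRing k 0 →ₐ[k] LaurentPolynomial k)
    (hgVt : gV (SpinCurv.PolyNodeRing.x k 0) = LaurentPolynomial.T (-1))
    (hgVx : gV (SpinCurv.PolyNodeRing.y k 0) = 0)
    (g f : SpinCurv.PolyNodeRing k 0) (hsec : gU g = LaurentPolynomial.T 1 * gV f)
    (hx : rU (SpinCurv.PolyNodeRing.x k 0) * g = 0 ∧ rV (SpinCurv.PolyNodeRing.x k 0) * f = 0)
    (hy : rU (SpinCurv.PolyNodeRing.y k 0) * g = 0 ∧ rV (SpinCurv.PolyNodeRing.y k 0) * f = 0) :
    g = 0 ∧ f = 0 := by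
  classical
  open K955.PolyCoord K955.Twist in
  -- multiplication by the second variable shifts the nonpositive coordinates
  have hyg : ∀ (a : SpinCurv.PolyNodeRing k 0), SpinCurv.PolyNodeRing.y k 0 * a = 0 →
      ∀ m : ℤ, m ≤ 0 → toZ k 0 a m = 0 := by
    intro a ha m hm
    have h : (Finsupp.lapply (m - 1) ∘ₗ toZ k 0) ∘ₗ LinearMap.mulLeft k (SpinCurv.PolyNodeRing.y k 0) =
        Finsupp.lapply m ∘ₗ toZ k 0 := by
      apply hom_ext
      intro j
      simp only [LinearMap.comp_apply, LinearMap.mulLeft_apply, Finsupp.lapply_apply, toZ_bas]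
      rcases le_or_gt j 0 with hj | hj
      · have h1 : SpinCurv.PolyNodeRing.y k 0 * bas k 0 j = bas k 0 (j - 1) := by
          rw [bas, bas]
          have h2 : j.toNat = 0 := by omega
          have h3 : (j - 1).toNat = 0 := by omega
          have h4 : (-(j - 1)).toNat = (-j).toNat + 1 := by omega
          rw [h2, h3, h4, pow_succ]
          ring
        rw [h1, toZ_bas, Finsupp.single_apply, Finsupp.single_apply]
        by_cases hjm : j = m
        · subst hjm; rw [if_pos rfl, if_pos rfl]
        · rw [if_neg (by omega), if_neg hjm]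
      · have h1 : SpinCurv.PolyNodeRing.y k 0 * bas k 0 j = 0 := by
          rw [bas]
          have h2 : j.toNat = (j.toNat - 1) + 1 := by omega
          rw [h2, pow_succ]
          have h3 : SpinCurv.PolyNodeRing.x k 0 * SpinCurv.PolyNodeRing.y k 0 = 0 :=
            (x_mul_y k (0 : k)).trans (map_zero (algebraMap k (SpinCurv.PolyNodeRing k 0)))
          linear_combination (SpinCurv.PolyNodeRing.x k 0 ^ (j.toNat - 1) *
            SpinCurv.PolyNodeRing.y k 0 ^ (-j).toNat) * h3
        rw [h1, map_zero, Finsupp.single_apply, if_neg (by omega)]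
        rfl
    have h2 := LinearMap.congr_fun h a
    simp only [LinearMap.comp_apply, LinearMap.mulLeft_apply, ha, map_zero, Finsupp.lapply_apply] at h2
    exact h2.symm
  have hg0 := hyg g (by rw [← hrUy]; exact hy.1)
  have hf0 := hyg f (by rw [← hrVx]; exact hx.2)
  have hgUy' : gU (SpinCurv.PolyNodeRing.y k 0) = LaurentPolynomial.C 0 * LaurentPolynomial.T (-1) := by
    rw [hgUy, map_zero, zero_mul]
  have hgVx' : gV (SpinCurv.PolyNodeRing.y k 0) = LaurentPolynomial.C 0 * LaurentPolynomial.T 1 := by
    rw [hgVx, map_zero, zero_mul]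
  have hc := (K955.Twist.cond_iff gU hgUs hgUy' gV hgVt hgVx' 1 g f).mp hsec
  constructor
  · apply K955.PolyCoord.eq_zero_of_toZ
    intro m
    rcases le_or_gt m 0 with hm | hm
    · exact hg0 m hm
    · have h1 := hc m
      have h2 : (-m).toNat = 0 := by omega
      rw [h2, pow_zero, one_mul, hf0 (1 - m) (by omega), mul_zero] at h1
      exact h1
  · apply K955.PolyCoord.eq_zero_of_toZ
    intro m
    rcases le_or_gt m 0 with hm | hm
    · exact hf0 m hm
    · have h1 := hc (1 - m)
      have h2 : (1 - m - 1).toNat = 0 := by omega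
      rw [h2, pow_zero, one_mul, hg0 (1 - m) (by omega), mul_zero, sub_sub_cancel] at h1
      exact h1.symm

end Groth.Agent.S18435
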