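import Groth.Statements.S18436
import Groth.Agent.SpinCurv.K955.Twist

set_option autoImplicit false
universe u
open SpinCurv

namespace Groth.Agent.S18436

/-- Let R be a commutative ring and p, q ∈ R, and consider the two affine charts U = Spec R[s, y]/(sy -
q) and V = Spec R[t, x]/(xt - p) of the curve obtained from the node xy = pq by the (p,
q)-construction, glued along R[s, s⁻¹] by t = s⁻¹ (so y = q s⁻¹ on U and x = p s on V). For an
integer n ≥ -1 the global sections of the twisting sheaf O(n) (equal to vⁿ O on U and to ξⁿ O on V,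
ξ = s v) are the pairs (g, f) of functions on U and V with g = sⁿ f on U ∩ V. This R-module, written
as the kernel of the R-linear map (g, f) ↦ g|_{U ∩ V} - sⁿ · f|_{U ∩ V} into R[s, s⁻¹], is free over
R (hence the direct image of O(n) on the node is flat over R). Both chart rings are written as the
quotient of the polynomial ring in two variables by (first variable)·(second variable) - constant,
and the two restriction homomorphisms to R[s, s⁻¹] are R-algebra maps pinned by their values on
generators. (The published setting has R complete local and p, q in the maximal ideal; the printed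
computation uses neither.) -/
theorem result (R : Type u) [CommRing R] (p q : R)
    (gU : SpinCurv.PolyNodeRing R q →ₐ[R] LaurentPolynomial R)
    (hgUs : gU (SpinCurv.PolyNodeRing.x R q) = LaurentPolynomial.T 1)
    (hgUy : gU (SpinCurv.PolyNodeRing.y R q) = LaurentPolynomial.C q * LaurentPolynomial.T (-1))
    (gV : SpinCurv.PolyNodeRing R p →ₐ[R] LaurentPolynomial R)
    (hgVt : gV (SpinCurv.PolyNodeRing.x R p) = LaurentPolynomial.T (-1))
    (hgVx : gV (SpinCurv.PolyNodeRing.y R p) = LaurentPolynomial.C p * LaurentPolynomial.T 1)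
    (n : ℤ) (hn : -1 ≤ n) :
    Module.Free R (LinearMap.ker
      (gU.toLinearMap.comp (LinearMap.fst R (SpinCurv.PolyNodeRing R q) (SpinCurv.PolyNodeRing R p)) -
        (LinearMap.mulLeft R (LaurentPolynomial.T n)).comp
          (gV.toLinearMap.comp (LinearMap.snd R (SpinCurv.PolyNodeRing R q) (SpinCurv.PolyNodeRing R p))))) := by
  classical
  set L := gU.toLinearMap.comp (LinearMap.fst R (SpinCurv.PolyNodeRing R q) (SpinCurv.PolyNodeRing R p)) -
        (LinearMap.mulLeft R (LaurentPolynomial.T n)).comp
          (gV.toLinearMap.comp (LinearMap.snd R (SpinCurv.PolyNodeRing R q) (SpinCurv.PolyNodeRing R p)))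
    with hL
  have hmem : ∀ x : SpinCurv.PolyNodeRing R q × SpinCurv.PolyNodeRing R p,
      x ∈ LinearMap.ker L ↔ K955.Twist.Cond q p n x.1 x.2 := by
    intro x
    rw [LinearMap.mem_ker, ← K955.Twist.cond_iff gU hgUs hgUy gV hgVt hgVx, ← sub_eq_zero (b := _ * _)]
    rfl
  let θ : (ℤ →₀ R) →ₗ[R] LinearMap.ker L :=
    LinearMap.codRestrict (LinearMap.ker L) ((K955.Twist.thetaU q p n).prod (K955.Twist.thetaV q p n))
      (fun c => (hmem _).mpr (K955.Twist.cond_theta q p n c))
  have hθ : Function.Bijective θ := by
    constructor
    · rw [injective_iff_map_eq_zero]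
      intro c hc
      have h1 : ((K955.Twist.thetaU q p n c, K955.Twist.thetaV q p n c) :
        SpinCurv.PolyNodeRing R q × SpinCurv.PolyNodeRing R p) = 0 := congrArg Subtype.val hc
      rw [Prod.mk_eq_zero] at h1
      exact K955.Twist.theta_injective q p hn h1.1 h1.2
    · rintro ⟨x, hx⟩
      obtain ⟨c, h1, h2⟩ := K955.Twist.exists_theta q p hn ((hmem x).mp hx)
      refine ⟨c, Subtype.ext ?_⟩
      exact Prod.ext h1 h2
  exact Module.Free.of_equiv (LinearEquiv.ofBijective θ hθ)

end Groth.Agent.S18436
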