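import Groth.Statements.S18439
import Groth.Agent.Surf.K463.Plane
import Groth.Agent.Surf.K463.Roof
import Groth.Agent.Surf.K465.ClP

set_option autoImplicit false
universe u
open CategoryTheory CategoryTheory.Limits AlgebraicGeometry TopologicalSpace
open Surf

namespace Groth.Agent.S18439

/-- Let k be an algebraically closed field and X a smooth projective rational surface over k: an
integral scheme, proper and smooth over k of dimension 2, carrying an ample invertible module, and
birational to the projective plane over k (some nonempty open subscheme of X admits an open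
immersion into P²_k over k). Let W be a canonical module of X (a second exterior power of Ω_{X/k})
and write (L·M) = χ(O_X) − χ(L) − χ(M) + χ(L ⊗ M) for the intersection number of invertible modules,
so that (W·W) = K². Assume the Picard group law on X (the group of isomorphism classes of invertible
modules under tensor product). Then Pic(X) is a free abelian group of finite rank ρ, and ρ + K² =
10. -/
theorem result (k : Type u) [Field k] [IsAlgClosed k] (X : Scheme.{u})
    [X.Over (Spec (CommRingCat.of k))] [IsIntegral X] [IsProper (X ↘ (Spec (CommRingCat.of k)))] [Smooth (X ↘ (Spec (CommRingCat.of k)))]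
    (hdim : topologicalKrullDim X = 2)
    (W : X.Modules) (hW : ExtPow.IsExtPow 2 (Omega.sheaf (X ↘ (Spec (CommRingCat.of k)))) W)
    (hproj : ∃ H : X.Modules, CohB1.IsAmple H)
    (hrat : ∃ (U : X.Opens) (j : (U : Scheme.{u}) ⟶ CohB1.ProjSpace 2 k), (U : Set X).Nonempty ∧
      IsOpenImmersion j ∧ j ≫ CohB1.ProjSpace.toSpec 2 k = U.ι ≫ (X ↘ (Spec (CommRingCat.of k))))
    [PicGrp.Law X] :
    Module.Free ℤ (Additive (PicLoc.PicSet X)) ∧ Module.Finite ℤ (Additive (PicLoc.PicSet X)) ∧
      (Module.finrank ℤ (Additive (PicLoc.PicSet X)) : ℤ) + FGA.intNum k X 2 ![W, W] (Coh.structureModule X) = 10 := by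
  have hs : K463.Bir.SPS k (X ↘ (Spec (CommRingCat.of k))) := ⟨inferInstance, hdim, inferInstance, inferInstance⟩
  obtain ⟨U, j, hU, hj, hjk⟩ := hrat
  -- the roof
  obtain ⟨X', r, g, hX'i, hXi, hs', hr, hg1, hg2⟩ := K463.Roof.exists_roof hs 2 U hU j hjk
  have hP := K463.Plane.sps k
  have := hP.int
  have hgp : IsProper g := by
    have h1 := hs'.proper
    have h2 := hP.proper
    rw [← hg1] at h1
    exact IsProper.of_comp g (CohB1.ProjSpace.toSpec 2 k)
  have hgb := K463.Roof.isBir_of_open r hr U hU j g hg2
  have h1 : K463.Noether.NF k (X ↘ (Spec (CommRingCat.of k))) :=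
    (K463.Noether.NF_bir hs' hs r rfl hr).mp ((K463.Noether.NF_bir hs' hP g hg1 hgb).mpr (K463.Plane.nf k))
  have hWi := K463.RRd.isInvertible_W k hdim hW
  obtain ⟨h2, h3, h4⟩ := h1
  have h5 := h4 W hWi hW
  have hbij : Function.Bijective (K465.ClP.toSet X) := by
    refine ⟨K465.ClP.toSet_injective X, fun c => ?_⟩
    obtain ⟨L, hL, rfl⟩ := PicGrp.exists_eq_cls c
    exact ⟨Groth.Agent.Grpsch.PicGrp.mk L hL, K465.ClP.toSet_mk hL⟩
  let E₀ : Additive (Groth.Agent.Grpsch.PicGrp.Pic X) →+ Additive (PicLoc.PicSet X) :=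
    MonoidHom.toAdditive (K465.ClP.toSet X)
  have E : Additive (Groth.Agent.Grpsch.PicGrp.Pic X) ≃ₗ[ℤ] Additive (PicLoc.PicSet X) :=
    (AddEquiv.ofBijective E₀ (show Function.Bijective E₀ from hbij)).toIntLinearEquiv
  refine ⟨Module.Free.of_equiv E, Module.Finite.equiv E, ?_⟩
  rw [← E.finrank_eq, K464.Base.intNum_eq_dot k X hdim.le hWi hWi]
  exact h5

end Groth.Agent.S18439
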