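import Groth.Statements.S18440
import Groth.Agent.Surf.K463.RRd

set_option autoImplicit false
universe u
open CategoryTheory CategoryTheory.Limits AlgebraicGeometry TopologicalSpace
open Surf

namespace Groth.Agent.S18440

/-- Let k be an algebraically closed field and X a smooth projective surface over k (an integral scheme,
proper and smooth over k of dimension 2) with H¹(X, O_X) = 0, and W a canonical module of X (a
second exterior power of Ω_{X/k}). Let C ⊆ X be an integral closed one-dimensional subscheme, smooth
over k, of arithmetic genus one, written χ(O_C) = 0 with the Euler characteristic of O_C computed on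
X through the closed immersion (k being algebraically closed and C integral, H⁰(C, O_C) = k, so this
says dim_k H¹(C, O_C) = 1), whose module O_X(C) — a tensor inverse N of the ideal I_C — is ample.
Then W ≅ I_C, that is ω_X ≅ O_X(−C) (existence of an isomorphism of invertible modules). (The
published statement is that a smooth del Pezzo surface of degree d embedded in projective d-space
has canonical module O_X(−1); its argument takes C a general hyperplane section and uses about the
embedding only that C is a smooth curve of genus one and that H¹(X, O_X) vanishes, facts it draws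
from results quoted without proof; those two properties are the hypotheses here.) -/
theorem result (k : Type u) [Field k] [IsAlgClosed k] (X : Scheme.{u})
    [X.Over (Spec (CommRingCat.of k))] [IsIntegral X] [IsProper (X ↘ (Spec (CommRingCat.of k)))] [Smooth (X ↘ (Spec (CommRingCat.of k)))]
    (hdim : topologicalKrullDim X = 2)
    (W : X.Modules) (hW : ExtPow.IsExtPow 2 (Omega.sheaf (X ↘ (Spec (CommRingCat.of k)))) W)
    (hq : Subsingleton (Coh.HH X (Coh.structureModule X) 1))
    (C : X.IdealSheafData) (hC : IsIntegral C.subscheme) (hC1 : topologicalKrullDim (C.support : Set X) = 1)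
    (hCs : Smooth (C.subschemeι ≫ (X ↘ (Spec (CommRingCat.of k)))))
    (hg : Curv2.euler k X (ClSub.quotMod C) = 0)
    (N : X.Modules) (hN : ClSub.IsInverseOf N (ClSub.idealMod C)) (hNample : CohB1.IsAmple N) :
    Nonempty (W ≅ ClSub.idealMod C) := by
  have hCc : K464.Curves.IsCurve C := ⟨hC, hC1⟩
  have hE := K464.Curves.isEff_of_smooth k hdim hCc
  have hWi := K463.RRd.isInvertible_W k hdim hW
  have hNi := (Groth.Agent.Dix.IdealModCartier.isInvertible_of_isInverseOf hN).1
  have hI := Groth.Agent.Dix.IdealModCartier.isInvertible_idealMod hE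
  have hn : Groth.Agent.Grpsch.PicGrp.mk N hNi = (K464.Base.ic C hE)⁻¹ :=
    K463.RRd.mk_eq_inv_of_isInverseOf hN hNi hI
  -- `χ(I_C) = χ(O_X) ≥ 1`
  have h1 : Curv2.euler k X (ClSub.quotMod C) = K464.Base.chi k X 1 - K464.Base.chi k X (K464.Base.ic C hE) :=
    K464.Base.euler_quotMod_eq k X hE
  have h2 := K463.HC.chi_eq k X hdim.le 1
  have h3 : K463.HC.hc k X 1 1 = 0 := by
    rw [K463.HC.hc_one]
    exact Module.finrank_zero_of_subsingleton
  have h4 : K463.HC.hc k X 0 1 = 1 := K463.RRd.hc_zero_one k
  have h5 := K463.HC.chi_le k X hdim.le (K464.Base.ic C hE)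
  have h6 : K463.HC.hc k X 0 (K464.Base.ic C hE) = 0 :=
    K463.RRd.hc_zero_eq_zero k hdim hNi hNample (K463.RRd.dot_ic_neg_of_ample k hdim hCc hE hNi hNample)
  have h7 := K463.RRd.hc_dual k hdim hW hWi (K464.Base.ic C hE) 0 2 rfl
  have h8 : 0 < K463.HC.hc k X 0 (Groth.Agent.Grpsch.PicGrp.mk W hWi * (K464.Base.ic C hE)⁻¹) := by
    rw [← h7]; omega
  obtain ⟨E, hEE, hEeq⟩ := K463.HC.exists_div k h8
  have h9 := K463.RRd.adj k hdim hW hWi hE
  have hE1 : E = ⊤ := by
    by_contra hne
    have h10 := K463.RRd.dot_ic_neg_of_ample_eff k hdim hEE hne hNi hNample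
    have h11 : K464.Base.ic E hEE = K464.Base.ic C hE * (Groth.Agent.Grpsch.PicGrp.mk W hWi)⁻¹ := by
      rw [← inv_inj, ← hEeq, mul_inv, inv_inv, mul_comm]
    rw [hn, K464.Base.dot_inv_right k X hdim.le, h11, K464.Base.dot_mul_left k X hdim.le,
      K464.Base.dot_inv_left k X hdim.le, K464.Base.dot_comm k X (Groth.Agent.Grpsch.PicGrp.mk W hWi)] at h10
    rw [hg] at h9
    omega
  subst hE1
  rw [show K464.Base.ic ⊤ hEE = 1 from K464.Base.ic_top, inv_one, mul_inv_eq_one] at hEeq
  exact (Groth.Agent.Grpsch.PicGrp.mk_eq_iff hWi hI).mp hEeq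

end Groth.Agent.S18440
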