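import Groth.Statements.S18441
import Groth.Agent.Surf.K463.DPMain
import Groth.Agent.Surf.K463.QuadIso

set_option autoImplicit false
universe u
open CategoryTheory CategoryTheory.Limits AlgebraicGeometry TopologicalSpace
open Surf

namespace Groth.Agent.S18441

/-- Let k be an algebraically closed field and X a smooth projective surface over k whose anticanonical
module is ample: an integral scheme, proper and smooth over k of dimension 2, with canonical module
W (a second exterior power of Ω_{X/k}) and an ample tensor inverse D of W; write d = K² = (W·W),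
intersection numbers of invertible modules being (L·M) = χ(O_X) − χ(L) − χ(M) + χ(L ⊗ M). Assume
moreover that X is rational: some nonempty open subscheme of X admits an open immersion into P²_k
over k. Then either d = 8 and X is isomorphic over k to P¹_k ×_k P¹_k, or X is isomorphic over k to
the blow-up of P²_k at 9 − d distinct closed points in general position — no three of them on a line
and no six of them on a conic — in the sense that there is a morphism σ : X → P²_k over k which is a
blow-up (universal property) of the ideal of the reduced finite set of those points. (The published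
statement does not assume X rational; its argument applies the classification of minimal rational
surfaces to a minimal model of X, which requires rationality, so that hypothesis is carried here.
Points of P²_k lie on the line or conic of a nonzero form when they belong to the support of its
ideal sheaf.) -/
theorem result (k : Type u) [Field k] [IsAlgClosed k] (X : Scheme.{u})
    [X.Over (Spec (CommRingCat.of k))] [IsIntegral X] [IsProper (X ↘ (Spec (CommRingCat.of k)))] [Smooth (X ↘ (Spec (CommRingCat.of k)))]
    (hdim : topologicalKrullDim X = 2)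
    (W : X.Modules) (hW : ExtPow.IsExtPow 2 (Omega.sheaf (X ↘ (Spec (CommRingCat.of k)))) W)
    (D : X.Modules) (hD : ClSub.IsInverseOf D W) (hample : CohB1.IsAmple D)
    (hrat : ∃ (U : X.Opens) (j : (U : Scheme.{u}) ⟶ CohB1.ProjSpace 2 k), (U : Set X).Nonempty ∧
      IsOpenImmersion j ∧ j ≫ CohB1.ProjSpace.toSpec 2 k = U.ι ≫ (X ↘ (Spec (CommRingCat.of k)))) :
    (FGA.intNum k X 2 ![W, W] (Coh.structureModule X) = 8 ∧
      ∃ e : X ≅ pullback (CohB1.ProjSpace.toSpec 1 k) (CohB1.ProjSpace.toSpec 1 k),
        e.hom ≫ pullback.fst (CohB1.ProjSpace.toSpec 1 k) (CohB1.ProjSpace.toSpec 1 k) ≫ CohB1.ProjSpace.toSpec 1 k =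
          X ↘ (Spec (CommRingCat.of k))) ∨
    (∃ (r : ℕ) (P : Fin r → ↥(CohB1.ProjSpace 2 k)) (hZ : IsClosed (Set.range P)) (σ : X ⟶ CohB1.ProjSpace 2 k),
      (r : ℤ) + FGA.intNum k X 2 ![W, W] (Coh.structureModule X) = 9 ∧ Function.Injective P ∧ (∀ i, IsClosed ({P i} : Set ↥(CohB1.ProjSpace 2 k))) ∧
      (∀ G : LefPen.Form 2 k 1, G ≠ 0 →
        {i : Fin r | P i ∈ ((LefPen.hypIdeal G).support : Set ↥(CohB1.ProjSpace 2 k))}.ncard ≤ 2) ∧
      (∀ G : LefPen.Form 2 k 2, G ≠ 0 →
        {i : Fin r | P i ∈ ((LefPen.hypIdeal G).support : Set ↥(CohB1.ProjSpace 2 k))}.ncard ≤ 5) ∧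
      σ ≫ CohB1.ProjSpace.toSpec 2 k = X ↘ (Spec (CommRingCat.of k)) ∧
      BlowUp.IsBlowUp σ (Scheme.IdealSheafData.vanishingIdeal ⟨Set.range P, hZ⟩)) := by
  have hs : K463.Bir.SPS k (X ↘ (Spec (CommRingCat.of k))) := ⟨inferInstance, hdim, inferInstance, inferInstance⟩
  have hWi := K463.RRd.isInvertible_W k hdim hW
  set w := Grpsch.PicGrp.mk W hWi with hwdef
  have hcan : K463.PtsBlow.Can k (X ↘ (Spec (CommRingCat.of k))) w := ⟨W, hWi, hW, rfl⟩
  have hamp : K463.PtsBlow.Amp w⁻¹ := ⟨D, hample, (K463.RRd.mk_eq_inv_of_isInverseOf hD hample.1 hWi).symm⟩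
  have hRS := K463.RS.RS_of_rat hs hrat
  have hint : FGA.intNum k X 2 ![W, W] (Coh.structureModule X) = K464.Base.dot k X w w :=
    K464.Base.intNum_eq_dot k X hdim.le hWi hWi
  have hbd : 0 ≤ 10 - K464.Base.dot k X w w := by
    have h1 := hRS.1.2.2 W hWi hW
    have h2 : (Module.finrank ℤ (Additive (Grpsch.PicGrp.Pic X)) : ℤ) + K464.Base.dot k X w w = 10 := h1
    omega
  obtain ⟨n, hn⟩ := Int.eq_ofNat_of_zero_le hbd
  rw [hint]
  rcases K463.DPMain.main n hs hcan hamp hRS (by
    change K464.Base.dot k X w w = 10 - n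
    omega) with hq | ⟨r, P, σ, hP⟩
  · exact Or.inl (K463.QuadIso.exists_iso hs hcan hamp hRS hq)
  · right
    obtain ⟨hZ, hblow⟩ := hP.blow
    refine ⟨r, P, hZ, σ, hP.ksq w hcan, hP.inj, hP.cl, fun G hG => ?_, fun G hG => ?_, hP.ov, hblow⟩
    · have := K463.PtsBlow.ncard_lt hdim hcan hamp hP one_pos G hG
      omega
    · have := K463.PtsBlow.ncard_lt hdim hcan hamp hP two_pos G hG
      omega

end Groth.Agent.S18441
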