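import Groth.Statements.S18442
import Groth.Agent.Surf.K463.PnTw
import Groth.Agent.Surf.K463.CI2

set_option autoImplicit false
universe u
open CategoryTheory CategoryTheory.Limits AlgebraicGeometry TopologicalSpace
open Surf

namespace Groth.Agent.S18442

/-- Let k be an algebraically closed field and X ⊆ P⁴_k a smooth surface which is the complete
intersection of two quadrics: X is an integral scheme, smooth over k of dimension 2, with a closed
immersion ι : X → P⁴_k over k whose kernel ideal sheaf is the ideal sheaf generated by two quadratic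
forms G_0, G_1. Then a canonical module W of X (a second exterior power of Ω_{X/k}) is isomorphic to
ι^*O(−1) (existence of an isomorphism), so its tensor inverse ι^*O(1) is ample and X is a del Pezzo
surface. -/
theorem result (k : Type u) [Field k] [IsAlgClosed k] (X : Scheme.{u})
    [X.Over (Spec (CommRingCat.of k))] [IsIntegral X] [Smooth (X ↘ (Spec (CommRingCat.of k)))] (hdim : topologicalKrullDim X = 2)
    (ι : X ⟶ CohB1.ProjSpace 4 k) [IsClosedImmersion ι] (hι : ι ≫ CohB1.ProjSpace.toSpec 4 k = X ↘ (Spec (CommRingCat.of k)))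
    (G : Fin 2 → LefPen.Form 4 k 2) (hker : ι.ker = LefPen.ciIdeal G)
    (W : X.Modules) (hW : ExtPow.IsExtPow 2 (Omega.sheaf (X ↘ (Spec (CommRingCat.of k)))) W) :
    Nonempty (W ≅ (Scheme.Modules.pullback ι).obj (Twist.twistProjSpace 4 k (-1))) := by
  have hprop : IsProper (X ↘ (Spec (CommRingCat.of k))) := by
    rw [← hι]
    have := Groth.Agent.VarietyB.EulerBinom.isProper_over k 4
    exact inferInstanceAs (IsProper (ι ≫ (CohB1.ProjSpace 4 k ↘ Spec (CommRingCat.of k))))
  have hWi := K463.RRd.isInvertible_W k hdim hW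
  -- the Hilbert function
  have hd : topologicalKrullDim (LefPen.ciIdeal (a := fun _ => 2) G).subscheme = ((4 - 2 : ℕ) : WithBot ℕ∞) := by
    obtain ⟨e, he⟩ := Groth.Agent.Lefpen.H879.Ker.exists_iso_of_ker_eq ι
      (LefPen.ciIdeal (a := fun _ => 2) G).subschemeι (by rw [Scheme.IdealSheafData.ker_subschemeι, hker])
    rw [← IsHomeomorph.topologicalKrullDim_eq _ (Scheme.Hom.homeomorph e.hom).isHomeomorph, hdim]
    rfl
  have hhf : ∀ m : ℤ, K464.Base.chi k X (K463.PnTw.tw k 4 ι m) = Groth.Agent.VarietyB.EulerBinom.c 4 m -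
      2 * Groth.Agent.VarietyB.EulerBinom.c 4 (m - 2) + Groth.Agent.VarietyB.EulerBinom.c 4 (m - 4) := by
    intro m
    rw [K463.PnTw.chi_tw k 4 ι hι, hker, K463.CI2.hf_ci_two G (by norm_num) hd]
  have e0 : K464.Base.chi k X 1 = 1 := by
    rw [← K463.PnTw.tw_zero k 4 ι, hhf]
    simp [Groth.Agent.VarietyB.EulerBinom.c, K463.CI2.N_eq]
  have e1 : K464.Base.chi k X (K463.PnTw.tw k 4 ι (-1)) = 1 := by
    rw [hhf]
    norm_num [Groth.Agent.VarietyB.EulerBinom.c, K463.CI2.N_eq]
  have e2 : K464.Base.chi k X (K463.PnTw.tw k 4 ι (-2)) = 5 := by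
    rw [hhf]
    norm_num [Groth.Agent.VarietyB.EulerBinom.c, K463.CI2.N_eq]
  set h := K463.PnTw.tw k 4 ι (-1) with hh
  have h2 : K463.PnTw.tw k 4 ι (-2) = h * h := by
    rw [hh, ← K463.PnTw.tw_add]
    norm_num
  have hdot : K464.Base.dot k X h h = 4 := by
    rw [K464.Base.dot_def, ← h2, e0, e1, e2]
    norm_num
  have hrr := K463.RRd.rr k hdim hW hWi h
  rw [e0, e1, hdot] at hrr
  have hamp := K463.PnTw.isAmple_one k 4 ι
  have hone : K463.PnTw.tw k 4 ι 1 = h⁻¹ := by rw [hh, K463.PnTw.tw_neg, inv_inv]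
  have hc0 : K463.HC.hc k X 0 h = 0 := by
    refine K463.RRd.hc_zero_eq_zero k hdim (K463.PnTw.isInv k 4 ι 1) hamp ?_
    change K464.Base.dot k X h (K463.PnTw.tw k 4 ι 1) < 0
    rw [hone, K464.Base.dot_inv_right k X hdim.le, hdot]
    norm_num
  have hle := K463.HC.chi_le k X hdim.le h
  rw [e1, hc0, K463.RRd.hc_dual k hdim hW hWi h 0 2 rfl] at hle
  have h1 : Groth.Agent.Grpsch.PicGrp.mk W hWi * h⁻¹ = 1 := by
    refine K463.RRd.eq_one_of_dot_eq_zero k hdim (by omega) (K463.PnTw.isInv k 4 ι 1) hamp ?_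
    change K464.Base.dot k X _ (K463.PnTw.tw k 4 ι 1) = 0
    rw [hone, K464.Base.dot_inv_right k X hdim.le, K464.Base.dot_mul_left k X hdim.le,
      K464.Base.dot_inv_left k X hdim.le, hdot, K464.Base.dot_comm]
    omega
  rw [mul_inv_eq_one] at h1
  exact (Groth.Agent.Grpsch.PicGrp.mk_eq_iff hWi (K463.PnTw.isInv k 4 ι (-1))).mp h1

end Groth.Agent.S18442
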