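import Groth.Statements.S18443
import Groth.Agent.Surf.K883.Lines
import Groth.Agent.Surf.K463.PnTw

set_option autoImplicit false
universe u
open CategoryTheory CategoryTheory.Limits AlgebraicGeometry TopologicalSpace
open Surf

namespace Groth.Agent.S18443

/-- Let k be an algebraically closed field, r ≤ 6, and p_1, …, p_r distinct closed points of P²_k in
general position (no three on a line, no six on a conic; a point lies on the curve of a nonzero form
when it is in the support of its ideal sheaf). Let σ : X → P²_k be the blow-up of P²_k in the ideal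
of the reduced finite set {p_i} (universal property), X being regarded over k through σ and being an
integral smooth proper surface (carried as hypotheses), with canonical module W (a second exterior
power of Ω_{X/k}) and a tensor inverse D of W which is very ample relative to k: some closed
immersion ι : X → Pⁿ_k over k has ι^*O(1) ≅ D (X is then a del Pezzo surface of degree 9 − r
embedded by its anticanonical system, and its lines are the integral curves C with −K·C = 1). Write
(L·M) = χ(O_X) − χ(L) − χ(M) + χ(L ⊗ M), so that K·C = −(I_C·W) for a closed subscheme C with ideal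
I_C. Then the integral closed one-dimensional subschemes C ⊆ X with (I_C·W) = 1 are finite in
number, and their number is r + r(r−1)/2 + (r choose 5): they are the exceptional curves over the
p_i, the strict transforms of the lines through two of the p_i, and the strict transforms of the
conics through five of them. -/
theorem result (k : Type u) [Field k] [IsAlgClosed k]
    (r : ℕ) (hr : r ≤ 6) (P : Fin r → ↥(CohB1.ProjSpace 2 k)) (hP : Function.Injective P)
    (hPc : ∀ i, IsClosed ({P i} : Set ↥(CohB1.ProjSpace 2 k))) (hZ : IsClosed (Set.range P))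
    (h3 : ∀ G : LefPen.Form 2 k 1, G ≠ 0 →
      {i : Fin r | P i ∈ ((LefPen.hypIdeal G).support : Set ↥(CohB1.ProjSpace 2 k))}.ncard ≤ 2)
    (h6 : ∀ G : LefPen.Form 2 k 2, G ≠ 0 →
      {i : Fin r | P i ∈ ((LefPen.hypIdeal G).support : Set ↥(CohB1.ProjSpace 2 k))}.ncard ≤ 5)
    (X : Scheme.{u}) [X.Over (Spec (CommRingCat.of k))] (σ : X ⟶ CohB1.ProjSpace 2 k)
    (hσk : σ ≫ CohB1.ProjSpace.toSpec 2 k = X ↘ (Spec (CommRingCat.of k)))
    (hσ : BlowUp.IsBlowUp σ (Scheme.IdealSheafData.vanishingIdeal ⟨Set.range P, hZ⟩))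
    [IsIntegral X] [IsProper (X ↘ (Spec (CommRingCat.of k)))] [Smooth (X ↘ (Spec (CommRingCat.of k)))] (hdim : topologicalKrullDim X = 2)
    (W : X.Modules) (hW : ExtPow.IsExtPow 2 (Omega.sheaf (X ↘ (Spec (CommRingCat.of k)))) W)
    (D : X.Modules) (hD : ClSub.IsInverseOf D W)
    (hva : ∃ (n : ℕ) (ι : X ⟶ CohB1.ProjSpace n k), IsClosedImmersion ι ∧
      ι ≫ CohB1.ProjSpace.toSpec n k = X ↘ (Spec (CommRingCat.of k)) ∧
      Nonempty ((Scheme.Modules.pullback ι).obj (Twist.twistProjSpace n k 1) ≅ D)) :
    {C : X.IdealSheafData | IsIntegral C.subscheme ∧ topologicalKrullDim (C.support : Set X) = 1 ∧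
        FGA.intNum k X 2 ![ClSub.idealMod C, W] (Coh.structureModule X) = 1}.Finite ∧
      {C : X.IdealSheafData | IsIntegral C.subscheme ∧ topologicalKrullDim (C.support : Set X) = 1 ∧
        FGA.intNum k X 2 ![ClSub.idealMod C, W] (Coh.structureModule X) = 1}.ncard = r + r.choose 2 + r.choose 5 := by
  have hWi := K463.RRd.isInvertible_W k hdim hW
  obtain ⟨n, ι, hι, hιk, ⟨e⟩⟩ := hva
  have hLi := K463.PnTw.isInv k n ι 1
  have hDi : PicF.IsInvertible D := fun x => by
    obtain ⟨U, hxU, ⟨f⟩⟩ := hLi x
    exact ⟨U, hxU, ⟨(Scheme.Modules.restrictFunctor U.ι).mapIso e.symm ≪≫ f⟩⟩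
  have hamp : CohB1.IsAmple ((Scheme.Modules.pullback ι).obj (Twist.twistProjSpace n k 1)) :=
    K463.PnTw.isAmple_one k n ι
  have hLW : Groth.Agent.Grpsch.PicGrp.mk _ hLi = (Groth.Agent.Grpsch.PicGrp.mk W hWi)⁻¹ := by
    rw [← K463.RRd.mk_eq_inv_of_isInverseOf hD hDi hWi]
    exact Groth.Agent.Grpsch.PicGrp.mk_congr e
  obtain ⟨Dt⟩ := K883.PlaneNum.exists_data k hP hPc hZ σ hσk hσ hdim hW hWi
  exact K883.Lines.lines k hdim hWi Dt hLi hamp hLW hW hr

end Groth.Agent.S18443
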