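import Groth.Statements.S18444
import Groth.Agent.Surf.K33.DP4
import Groth.Agent.S3719

set_option autoImplicit false
universe u
open CategoryTheory CategoryTheory.Limits AlgebraicGeometry TopologicalSpace
open Surf

namespace Groth.Agent.S18444

attribute [-instance] CategoryTheory.catToReflQuiver

theorem h3719 : Groth.Agent.Sga7.H5.HypConn.Stmt.{u} := by
  intro k _ _ X _ _ _ hN r g hg hdim ℓ hℓ hℓ0 X' _
  exact Groth.Agent.S3719.result k X hN r g hg hdim ℓ hℓ hℓ0 X'


/-- Let k be an algebraically closed field and X a smooth del Pezzo surface of degree 4 anticanonically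
embedded in P⁴_k: X is an integral scheme, proper and smooth over k of dimension 2, W a canonical
module (a second exterior power of Ω_{X/k}), D an ample tensor inverse of W with (W·W) = 4, where
(L·M) = χ(O_X) − χ(L) − χ(M) + χ(L ⊗ M), and ι : X → P⁴_k a closed immersion over k with ι^*O(1) ≅ D
whose image lies in no hyperplane (for every nonzero linear form G the inverse image under ι of the
ideal sheaf of V(G) is nonzero). Then X is the complete intersection of two quadrics: there are two
linearly independent quadratic forms G_0, G_1 such that the kernel ideal sheaf of ι is the ideal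
sheaf generated by G_0 and G_1. (The degree-three companion assertion, that a del Pezzo surface of
degree 3 in P³_k is a cubic surface, and the uniqueness assertion about complete intersections are
not stated here.) -/
theorem result (k : Type u) [Field k] [IsAlgClosed k] (X : Scheme.{u})
    [X.Over (Spec (CommRingCat.of k))] [IsIntegral X] [IsProper (X ↘ (Spec (CommRingCat.of k)))] [Smooth (X ↘ (Spec (CommRingCat.of k)))]
    (hdim : topologicalKrullDim X = 2)
    (W : X.Modules) (hW : ExtPow.IsExtPow 2 (Omega.sheaf (X ↘ (Spec (CommRingCat.of k)))) W)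
    (D : X.Modules) (hD : ClSub.IsInverseOf D W) (hample : CohB1.IsAmple D) (hd : FGA.intNum k X 2 ![W, W] (Coh.structureModule X) = 4)
    (ι : X ⟶ CohB1.ProjSpace 4 k) [IsClosedImmersion ι] (hι : ι ≫ CohB1.ProjSpace.toSpec 4 k = X ↘ (Spec (CommRingCat.of k)))
    (hpol : Nonempty ((Scheme.Modules.pullback ι).obj (Twist.twistProjSpace 4 k 1) ≅ D))
    (hnd : ∀ G : LefPen.Form 4 k 1, G ≠ 0 → (LefPen.hypIdeal G).comap ι ≠ ⊥) :
    ∃ G : Fin 2 → LefPen.Form 4 k 2, LinearIndependent k G ∧ ι.ker = LefPen.ciIdeal G := by
  exact K33.DP4.main h3719 k X hdim W hW D hD hd ι hι hpol hnd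

end Groth.Agent.S18444
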