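import Groth.Statements.S18445
import Groth.Agent.Deform.K682.T1Lift

set_option autoImplicit false
universe u
open CategoryTheory
open Deform

namespace Groth.Agent.S18445

/-- Let k be a field of characteristic zero and R a complete local Noetherian k-algebra with residue
field k, with n the dimension of its cotangent space m_R/m_R². Then R is isomorphic as a k-algebra
to the power series ring k[[x_1, …, x_n]] if and only if for every local Artinian k-algebra A with
residue field k, all A-modules M and M' and every surjective A-linear map f : M' → M, every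
k-algebra homomorphism R → A ⊕ M into the trivial square-zero extension is the composite of some
k-algebra homomorphism R → A ⊕ M' with the map A ⊕ M' → A ⊕ M induced by f. (The modules are taken
in the universe of k, with the A-action on both sides equal; in positive characteristic the
criterion fails, e.g. for k[x]/(x^p).) -/
theorem result
    {k : Type u} [Field k] [CharZero k] (R : ArtFun.CRing k k) :
    Nonempty (R.carrier ≃ₐ[k] MvPowerSeries
        (Fin (Module.finrank (IsLocalRing.ResidueField R.carrier) (IsLocalRing.CotangentSpace R.carrier))) k) ↔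
      ∀ (A : ArtFun.Art k k) (M M' : Type u) [AddCommGroup M] [Module (↥A) M] [Module (↥A)ᵐᵒᵖ M]
        [IsCentralScalar (↥A) M] [Module k M] [IsScalarTower k (↥A) M] [IsScalarTower k (↥A)ᵐᵒᵖ M]
        [AddCommGroup M'] [Module (↥A) M'] [Module (↥A)ᵐᵒᵖ M'] [IsCentralScalar (↥A) M'] [Module k M']
        [IsScalarTower k (↥A) M'] [IsScalarTower k (↥A)ᵐᵒᵖ M'] (f : M' →ₗ[↥A] M),
        Function.Surjective f →
          ∀ φ : R.carrier →ₐ[k] TrivSqZeroExt (↥A) M,
            ∃ ψ : R.carrier →ₐ[k] TrivSqZeroExt (↥A) M',
              ∀ r : R.carrier, (ψ r).fst = (φ r).fst ∧ f (ψ r).snd = (φ r).snd := by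
  constructor
  · rintro ⟨e⟩ A M M' _ _ _ _ _ _ _ _ _ _ _ _ _ _ f hf φ
    obtain ⟨ψ, hψ⟩ := K682.T1Lift.forward _ A A.res M M' f hf (φ.comp e.symm.toAlgHom)
    refine ⟨ψ.comp e.toAlgHom, fun r => ?_⟩
    have := hψ (e r)
    have h1 : (φ.comp e.symm.toAlgHom) (e r) = φ r := by
      change φ (e.symm (e r)) = φ r
      rw [AlgEquiv.symm_apply_apply]
    rw [h1] at this
    exact this
  · intro h
    have hcompl := R.isAdicComplete
    obtain ⟨Φ, hΦ, hX, hres, hmin⟩ := K682.T1Lift.exists_presentation k R.carrier R.res
    have hinj : Function.Injective Φ := by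
      rw [injective_iff_map_eq_zero]
      intro f hf
      exact K682.T1Lift.eq_zero_of_pderiv (fun f => Φ f = 0)
        (fun f hf => by rw [← hres, hf, map_zero])
        (fun f hf i => K682.T1Lift.pderiv_mem R h Φ hΦ hX hres hmin f hf i) f hf
    exact ⟨(AlgEquiv.ofBijective Φ ⟨hinj, hΦ⟩).symm⟩

end Groth.Agent.S18445
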