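import Groth.Statements.S18446
import Groth.Agent.Deform.K694.CYFin

set_option autoImplicit false
universe u
open CategoryTheory CategoryTheory.Limits AlgebraicGeometry
open Deform

namespace Groth.Agent.S18446

/-- Let k be a field of characteristic zero and X an integral scheme, smooth and projective over k (a
closed subscheme of some Pⁿ_k over k), of dimension d, with trivial canonical sheaf (the structure
sheaf O_X is a d-th exterior power of Ω_{X/k}) and without infinitesimal automorphisms, H⁰(X, T_X) =
Hom(Ω_{X/k}, O_X) = 0. Then the functor Def_X of isomorphism classes of deformations of X over local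
Artinian k-algebras with residue field k is pro-representable and smooth: every deformation over A
lifts along every surjection B → A. Equivalently Def_X is pro-represented by a power series ring
over k; that the number of variables is dim H¹(X, T_X) is the separate identification of the tangent
space and is not restated here. -/
theorem result
    {k : Type u} [Field k] [CharZero k] (X : Scheme.{u}) (x : X ⟶ Spec (CommRingCat.of k))
    [AlgebraicGeometry.IsIntegral X] [Smooth x]
    (hproj : ∃ (n : ℕ) (c : X ⟶ CohB1.ProjSpaceOver n (Spec (CommRingCat.of k))),
      IsClosedImmersion c ∧ c ≫ CohB1.ProjSpaceOver.toBase n (Spec (CommRingCat.of k)) = x)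
    (d : ℕ) (hdim : topologicalKrullDim X = d)
    (hω : ExtPow.IsExtPow d (Omega.sheaf x) (Coh.structureModule X))
    (h0 : Subsingleton (Omega.sheaf x ⟶ Coh.structureModule X)) :
    ArtFun.IsProrepresentable (ArtFun.defFunctor (Λ := k) X x) ∧
      ArtFun.IsSmoothFunctor (ArtFun.defFunctor (Λ := k) X x) := by
  have hp := K680.RigPro.isProper_of_proj hproj
  exact ⟨K680.RigPro.isProrepresentable h0 K694.CY.hasHull, (K694.CY.main K694.hodgeCech d hdim hω).1⟩

end Groth.Agent.S18446
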