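import Groth.Statements.S18447
import Groth.Agent.Deform.K185.DefLift
import Groth.Agent.Deform.K185.CurveLift

set_option autoImplicit false
universe u
open CategoryTheory CategoryTheory.Limits AlgebraicGeometry
open Deform

namespace Groth.Agent.S18447

/-- Generically smooth local complete intersection curves are unobstructed. Let k be a field and X a
scheme of finite type over k, of dimension at most one, such that X → Spec k is a local complete
intersection morphism (syntomic at every point of X) and X is smooth over k on some dense open
subset. Then the functor Def_X of isomorphism classes of deformations of X over local Artinian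
k-algebras with residue field k is smooth: for every surjection B → A every deformation over A lifts
to B. The published statement is for a local complete intersection curve over k that is
geometrically reduced at its generic points; this row assumes instead that X is smooth over k on a
dense open subset (the same condition for schemes of finite type over a field), does not assume
properness, and allows dimension zero. -/
theorem result
    {k : Type u} [Field k] (X : Scheme.{u}) (x : X ⟶ Spec (CommRingCat.of k))
    [LocallyOfFiniteType x] [QuasiCompact x]
    (hdim : topologicalKrullDim X ≤ 1)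
    (hlci : ∀ p : X, Synt.IsSyntomicAt x p)
    (hsm : ∃ U : X.Opens, Dense (U : Set X) ∧ Smooth (U.ι ≫ x)) :
    ArtFun.IsSmoothFunctor (ArtFun.defFunctor (Λ := k) X x) := by
  intro B A μ hμ
  refine K185.DefLift.surjective_map μ fun ξ => ?_
  obtain ⟨U, hU, hUs⟩ := hsm
  have hx : Synt.IsSyntomicMor x := hlci
  have h1 := K185.DefLift.locallyOfFiniteType ξ
  have h2 := K185.DefLift.isSyntomicMor ξ hx
  have h3 := K185.DefLift.isHomeomorph_i ξ
  obtain ⟨D, hD, hDU⟩ := K185.DefLift.exists_open_smooth ξ U hUs
  have hDd : Dense (D : Set ξ.total) :=
    (h3.surjective.denseRange.dense_image h3.continuous hU).mono hDU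
  have hdim' : topologicalKrullDim ξ.total ≤ 1 := by
    rw [← h3.topologicalKrullDim_eq]
    exact hdim
  have hln : IsLocallyNoetherian ξ.total := LocallyOfFiniteType.isLocallyNoetherian ξ.f
  have hXc : CompactSpace X := QuasiCompact.compactSpace_of_compactSpace x
  have hc : CompactSpace ξ.total := by
    rw [← isCompact_univ_iff, ← h3.surjective.range_eq]
    exact isCompact_range h3.continuous
  have hN : IsNoetherian ξ.total := ⟨⟩
  set φ := μ.toAlgHom.toRingHom with hφ
  have hker := K185.DefLift.isNilpotent_ker μ
  let e : (B ⧸ RingHom.ker φ) ≃+* A := RingHom.quotientKerEquivOfSurjective (f := φ) hμ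
  have e1 : Spec.map (CommRingCat.ofHom (e : (B ⧸ RingHom.ker φ) →+* A)) ≫
      Spec.map (CommRingCat.ofHom (Ideal.Quotient.mk (RingHom.ker φ))) = ArtFun.Art.specMap μ := by
    rw [← Spec.map_comp]
    congr 1
  have hi : IsIso (Spec.map (CommRingCat.ofHom (e : (B ⧸ RingHom.ker φ) →+* A))) := by
    have : IsIso (CommRingCat.ofHom (e : (B ⧸ RingHom.ker φ) →+* A)) :=
      (RingEquiv.toCommRingCatIso e).isIso_hom
    infer_instance
  rw [← e1]
  refine K185.FlatLift.HasFLift.of_iso _ _ (K185.CurveLift.hasFLift_curve _ hker _ ?_ hdim' D hDd ?_)
  · exact K563.SchDict2.isSyntomicMor_comp_openImmersion _ _ h2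
  · rw [← Category.assoc]
    infer_instance

end Groth.Agent.S18447
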