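import Groth.Statements.S18448
import Groth.Agent.Deform.K694.CYFin

set_option autoImplicit false
universe u
open CategoryTheory CategoryTheory.Limits AlgebraicGeometry
open Deform

namespace Groth.Agent.S18448

/-- Infinitesimal deformations of weak Calabi–Yau varieties have trivial relative canonical sheaf. Let k
be a field of characteristic zero, A a local Artinian k-algebra with residue field k, X an integral
scheme, smooth and projective over k (closed in some Pⁿ_k), of dimension d, with trivial canonical
sheaf (O_X is a d-th exterior power of Ω_{X/k}), and let 𝒳 → Spec A be a deformation of X over A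
(flat, with X as the fibre over the closed point) which is smooth and proper. Then the relative
canonical sheaf ω_{𝒳/A} = Λ^d Ω_{𝒳/A} is trivial: any O_𝒳-module that is a d-th exterior power of
Ω_{𝒳/A} is isomorphic to O_𝒳 (existence of an isomorphism only). -/
theorem result
    {k : Type u} [Field k] [CharZero k] (X : Scheme.{u}) (x : X ⟶ Spec (CommRingCat.of k))
    [AlgebraicGeometry.IsIntegral X] [Smooth x]
    (hproj : ∃ (n : ℕ) (c : X ⟶ CohB1.ProjSpaceOver n (Spec (CommRingCat.of k))),
      IsClosedImmersion c ∧ c ≫ CohB1.ProjSpaceOver.toBase n (Spec (CommRingCat.of k)) = x)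
    (d : ℕ) (hdim : topologicalKrullDim X = d)
    (hω : ExtPow.IsExtPow d (Omega.sheaf x) (Coh.structureModule X))
    (A : ArtFun.Art k k) (ξ : ArtFun.DefSch X x A) [Smooth ξ.f] [IsProper ξ.f]
    (ω : ξ.total.Modules) (hωA : ExtPow.IsExtPow d (Omega.sheaf ξ.f) ω) :
    Nonempty (ω ≅ Coh.structureModule ξ.total) := by
  have hp := K680.RigPro.isProper_of_proj hproj
  exact K694.CY.nonempty_iso K694.hodgeCech d hdim hω A ξ ω hωA

end Groth.Agent.S18448
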