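import Groth.Statements.S18449
import Groth.Agent.Surf.K463.RatZ

set_option autoImplicit false
universe u
open CategoryTheory CategoryTheory.Limits AlgebraicGeometry TopologicalSpace
open Surf

namespace Groth.Agent.S18449

/-- Let k be an algebraically closed field of characteristic zero and X a smooth projective surface over
k (an integral scheme, proper and smooth over k, of dimension 2). Let Z be a nonzero effective
Cartier divisor on X, given by its ideal sheaf I_Z ≠ O_X, and consider the nonzero effective Cartier
divisors Z' ≤ Z, i.e. those with I_Z = I_{Z'} · J for some effective Cartier ideal J. Then H¹(Z',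
O_{Z'}) = 0 for every such Z' if and only if χ(O_{Z'}) ≥ 1, i.e. the arithmetic genus 1 − χ(O_{Z'})
is at most 0, for every such Z'; here cohomology and Euler characteristics are computed on X through
the direct image of O_{Z'}. The published statement is about the cycles supported on the exceptional
curves of a resolution of a normal surface singularity over the complex numbers, where the first
condition is rationality of the singularity; this row states the equivalence, which the printed
induction proves using only adjunction and the sub-divisors of the given cycle, for the sub-divisors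
of one effective divisor. -/
theorem result (k : Type u) [Field k] [IsAlgClosed k] [CharZero k]
    (X : Scheme.{u}) [X.Over (Spec (CommRingCat.of k))] [IsProper (X ↘ (Spec (CommRingCat.of k)))]
    [Smooth (X ↘ (Spec (CommRingCat.of k)))] [IsIntegral X] (hdim : topologicalKrullDim X = 2)
    (Z : X.IdealSheafData) (hZ : FGA.IsEffCartier Z) (hZ0 : Z ≠ ⊤) :
    (∀ Z' J : X.IdealSheafData, FGA.IsEffCartier Z' → FGA.IsEffCartier J → Z' ≠ ⊤ → Z = Z' * J →
        Subsingleton (Coh.HH X (ClSub.quotMod Z') 1)) ↔
      (∀ Z' J : X.IdealSheafData, FGA.IsEffCartier Z' → FGA.IsEffCartier J → Z' ≠ ⊤ → Z = Z' * J →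
        1 ≤ Curv2.euler k X (ClSub.quotMod Z')) := by
  constructor
  · intro h Z' J hZ' hJ hne heq
    exact K463.RatZ.one_le_euler k hdim hZ' hne (h Z' J hZ' hJ hne heq)
  · intro h Z' J hZ' hJ hne heq
    obtain ⟨W, hW⟩ := K463.RRd.exists_W k (X := X)
    obtain ⟨s, hs, rfl⟩ := K463.NumConn.exists_multiset k hdim Z' hZ'
    refine K463.RatZ.subsingleton_H1 k hdim hW s hs ?_ ?_
    · rintro rfl
      exact hne (by rw [Multiset.prod_zero, Scheme.IdealSheafData.one_eq_top])
    · intro t ht ht0
      obtain ⟨r, rfl⟩ := Multiset.le_iff_exists_add.mp ht
      have ht1 : ∀ C ∈ t, K464.Curves.IsCurve C := fun C hC => hs C (Multiset.mem_add.mpr (Or.inl hC))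
      have hr1 : ∀ C ∈ r, K464.Curves.IsCurve C := fun C hC => hs C (Multiset.mem_add.mpr (Or.inr hC))
      have hte := K458.Ram.isEff_prod t fun D hD => K464.Curves.isEff_of_smooth k hdim (ht1 D hD)
      have hre := K458.Ram.isEff_prod r fun D hD => K464.Curves.isEff_of_smooth k hdim (hr1 D hD)
      refine h t.prod (r.prod * J) hte (K458.Ram.isEff_mul hre hJ) (K463.NumConn.prod_ne_top ht1 ht0) ?_
      rw [heq, Multiset.prod_add, mul_assoc]

end Groth.Agent.S18449
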