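import Groth.Statements.S18450
import Groth.Agent.Surf.K463.NumSec

set_option autoImplicit false
universe u
open CategoryTheory CategoryTheory.Limits AlgebraicGeometry TopologicalSpace
open Surf

namespace Groth.Agent.S18450

/-- Let k be an algebraically closed field of characteristic zero and X a smooth projective surface over
k (integral, proper and smooth over k, of dimension 2). Let Z be a nonzero effective Cartier divisor
on X (ideal sheaf I_Z ≠ O_X) which is numerically connected: whenever I_Z = I_{Z₁} · I_{Z₂} with Z₁,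
Z₂ nonzero effective Cartier divisors, (Z₁·Z₂) = χ(O_X) − χ(I_{Z₁}) − χ(I_{Z₂}) + χ(I_{Z₁} ⊗ I_{Z₂})
> 0. Let L be an invertible O_X-module whose degree χ(O_C ⊗ L) − χ(O_C) is ≤ 0 on every integral
curve C contained in Z (integral closed one-dimensional C with I_Z ⊆ I_C). Then H⁰(Z, L|_Z) has
dimension at most 1 over k, and if the dimension is 1 then L|_Z ≅ O_Z (existence of an isomorphism);
here L|_Z = O_Z ⊗ L with O_Z the direct image on X of the structure sheaf of Z. The published
statement is over the complex numbers, for a connected cycle admitting a computation sequence, which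
numerical connectedness provides, and for any line bundle on Z; this row takes restrictions of
invertible O_X-modules. The converse, that the dimension is 1 when L|_Z is trivial, is not restated. -/
theorem result (k : Type u) [Field k] [IsAlgClosed k] [CharZero k]
    (X : Scheme.{u}) [X.Over (Spec (CommRingCat.of k))] [IsProper (X ↘ (Spec (CommRingCat.of k)))]
    [Smooth (X ↘ (Spec (CommRingCat.of k)))] [IsIntegral X] (hdim : topologicalKrullDim X = 2)
    (Z : X.IdealSheafData) (hZ : FGA.IsEffCartier Z) (hZ0 : Z ≠ ⊤)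
    (hnc : ∀ Z₁ Z₂ : X.IdealSheafData, FGA.IsEffCartier Z₁ → FGA.IsEffCartier Z₂ → Z₁ ≠ ⊤ → Z₂ ≠ ⊤ →
      Z = Z₁ * Z₂ → 0 < FGA.intNum k X 2 ![(ClSub.idealMod Z₁), (ClSub.idealMod Z₂)] (Coh.structureModule X))
    (L : X.Modules) (hL : PicF.IsInvertible L)
    (hdeg : ∀ C : X.IdealSheafData, IsIntegral C.subscheme → topologicalKrullDim (C.support : Set X) = 1 → Z ≤ C →
      Curv2.euler k X (CohB1.tensorMod (ClSub.quotMod C) L) - Curv2.euler k X (ClSub.quotMod C) ≤ 0) :
    Module.finrank k (Coh.HH X (CohB1.tensorMod (ClSub.quotMod Z) L) 0) ≤ 1 ∧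
      (Module.finrank k (Coh.HH X (CohB1.tensorMod (ClSub.quotMod Z) L) 0) = 1 →
        Nonempty (CohB1.tensorMod (ClSub.quotMod Z) L ≅ ClSub.quotMod Z)) := by
  have hZ' : BlowUp.IsEffCartierIdeal Z := hZ
  have hnc' : ∀ Z₁ Z₂ : X.IdealSheafData, ∀ (h₁ : BlowUp.IsEffCartierIdeal Z₁) (h₂ : BlowUp.IsEffCartierIdeal Z₂),
      Z₁ ≠ ⊤ → Z₂ ≠ ⊤ → Z = Z₁ * Z₂ → 0 < K464.Base.dot k X (K464.Base.ic Z₁ h₁) (K464.Base.ic Z₂ h₂) := by
    intro Z₁ Z₂ h₁ h₂ h3 h4 h5
    have h := hnc Z₁ Z₂ h₁ h₂ h3 h4 h5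
    rw [K464.Base.intNum_eq_dot k X hdim.le (Groth.Agent.Dix.IdealModCartier.isInvertible_idealMod h₁)
      (Groth.Agent.Dix.IdealModCartier.isInvertible_idealMod h₂)] at h
    exact h
  have hdeg' : ∀ C : X.IdealSheafData, K464.Curves.IsCurve C → Z ≤ C →
      K464.Curves.degOn k X C (Groth.Agent.Grpsch.PicGrp.mk L hL) ≤ 0 := fun C hC hle => hdeg C hC.integral hC.dim hle
  have hsw := K464.Cohom.finrank_congr k (Groth.Agent.Ega2.Tens.swap (ClSub.quotMod Z) L) 0
  refine ⟨?_, fun h1 => ?_⟩
  · rw [hsw]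
    exact K463.NumSec.finrank_le_one k hdim hZ' hnc' hL hdeg' hZ0
  · rw [hsw] at h1
    have : Nontrivial (Coh.HH X (CohB1.tensorMod L (ClSub.quotMod Z)) 0) := by
      by_contra hcon
      rw [not_nontrivial_iff_subsingleton] at hcon
      rw [Module.finrank_zero_of_subsingleton] at h1
      omega
    obtain ⟨x, hx⟩ := exists_ne (0 : Coh.HH X (CohB1.tensorMod L (ClSub.quotMod Z)) 0)
    exact K463.NumSec.nonempty_iso_of_ne_zero k hdim hZ' hnc' hL hdeg' x hx

end Groth.Agent.S18450
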