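import Groth.Statements.S18451
import Groth.Agent.Surf.K463.SmoothSurf

set_option autoImplicit false
universe u
open CategoryTheory CategoryTheory.Limits AlgebraicGeometry TopologicalSpace
open Surf

namespace Groth.Agent.S18451

open K463.Form K463.Cl K463.PicBound K463.SmoothSurf

/-- Let k be an algebraically closed field of characteristic zero and X a smooth projective surface over
k (integral, proper and smooth over k, of dimension 2, carrying an ample invertible module). Let
C_1, …, C_r be pairwise distinct integral curves on X (integral closed one-dimensional subschemes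
with ideal sheaves I_1, …, I_r) and write G_{ij} = (I_i·I_j) = χ(O_X) − χ(I_i) − χ(I_j) + χ(I_i ⊗
I_j) for their intersection matrix. Suppose the classes of the C_i span a negative definite
sublattice modulo numerical equivalence: for every integer vector a such that Σ_i a_i [C_i] is
numerically nontrivial, meaning that Σ_i a_i (I_i·M) ≠ 0 for some invertible O_X-module M, one has
Σ_{i,j} a_i a_j G_{ij} < 0. Then the classes are linearly independent, i.e. G itself is negative
definite: Σ_{i,j} a_i a_j G_{ij} < 0 for every nonzero integer vector a. -/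
theorem result (k : Type u) [Field k] [IsAlgClosed k] [CharZero k]
    (X : Scheme.{u}) [X.Over (Spec (CommRingCat.of k))] [IsProper (X ↘ (Spec (CommRingCat.of k)))]
    [Smooth (X ↘ (Spec (CommRingCat.of k)))] [IsIntegral X] (hdim : topologicalKrullDim X = 2)
    (hproj : ∃ H : X.Modules, CohB1.IsAmple H)
    (r : ℕ) (C : Fin r → X.IdealSheafData) (hC : Function.Injective C)
    (hCi : ∀ i, IsIntegral (C i).subscheme) (hCd : ∀ i, topologicalKrullDim ((C i).support : Set X) = 1)
    (hneg : ∀ a : Fin r → ℤ,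
      (∃ M : X.Modules, PicF.IsInvertible M ∧
        ∑ i, a i * FGA.intNum k X 2 ![(ClSub.idealMod (C i)), M] (Coh.structureModule X) ≠ 0) →
      ∑ i, ∑ j, a i * a j * FGA.intNum k X 2 ![(ClSub.idealMod (C i)), (ClSub.idealMod (C j))] (Coh.structureModule X) < 0) :
    ∀ a : Fin r → ℤ, a ≠ 0 →
      ∑ i, ∑ j, a i * a j * FGA.intNum k X 2 ![(ClSub.idealMod (C i)), (ClSub.idealMod (C j))] (Coh.structureModule X) < 0 := by
  have hS := isSurf k X hdim
  have hN := hS.noeth
  obtain ⟨A, hA⟩ := hproj
  choose ξ hξ hCξ using fun i => exists_pt k X hdim (C i) (hCi i) (hCd i)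
  obtain rfl : C = fun i => cl (ξ i) := funext hCξ
  have hinj : Function.Injective ξ := fun i j h => hC (by simp only [h])
  let B := bil k X hdim.le
  let e : Fin r → Additive (Grpsch.PicGrp.Pic X) := fun i => ic hS (hξ i)
  have hE : ∀ i, PicF.IsInvertible (ClSub.idealMod (cl (ξ i))) := fun i =>
    Dix.IdealModCartier.isInvertible_idealMod (isEff_cl hS.regular (hξ i))
  have hBe : ∀ i j, FGA.intNum k X 2 ![ClSub.idealMod (cl (ξ i)), ClSub.idealMod (cl (ξ j))] (Coh.structureModule X) =
      B (e i) (e j) := fun i j => intNum_eq_bil k X hdim.le (hE i) (hE j)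
  have hBM : ∀ i (M : X.Modules) (hM : PicF.IsInvertible M),
      FGA.intNum k X 2 ![ClSub.idealMod (cl (ξ i)), M] (Coh.structureModule X) =
      B (e i) (Additive.ofMul (Grpsch.PicGrp.mk M hM)) := fun i M hM => intNum_eq_bil k X hdim.le (hE i) hM
  have hsum : ∀ a : Fin r → ℤ, ∑ i, ∑ j, a i * a j * FGA.intNum k X 2
      ![(ClSub.idealMod (cl (ξ i))), (ClSub.idealMod (cl (ξ j)))] (Coh.structureModule X) =
      B (∑ i, a i • e i) (∑ i, a i • e i) := by
    intro a
    rw [K463.Gram.sum_sum]
    simp only [hBe]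
  have hlin : ∀ (a : Fin r → ℤ) (v : Additive (Grpsch.PicGrp.Pic X)), B (∑ i, a i • e i) v = ∑ i, a i * B (e i) v := by
    intro a v
    rw [map_sum, AddMonoidHom.finsetSum_apply]
    refine Finset.sum_congr rfl fun i _ => ?_
    rw [map_zsmul, AddMonoidHom.zsmul_apply, smul_eq_mul]
  have hneg' : ∀ a : Fin r → ℤ, (∃ v, B (∑ i, a i • e i) v ≠ 0) → B (∑ i, a i • e i) (∑ i, a i • e i) < 0 := by
    rintro a ⟨v, hv⟩
    rw [← hsum]
    obtain ⟨c, hc⟩ : ∃ c : Grpsch.PicGrp.Pic X, v = Additive.ofMul c := ⟨v.toMul, rfl⟩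
    obtain ⟨M, hM, rfl⟩ := Grpsch.PicGrp.exists_mk c
    refine hneg a ⟨M, hM, ?_⟩
    simp only [hBM _ M hM]
    rw [← hlin, ← hc]
    exact hv
  intro a ha
  rw [hsum]
  refine hneg' a ?_
  by_contra hcon
  push Not at hcon
  refine ha (K463.Gram.gram B e (bil_symm k X hdim.le)
    (fun i j hij => bil_ic_nonneg k hdim hS (hξ i) (hξ j) (fun h => hij (hinj h))) (fun b hb hbne => ?_) a
    (fun j => hcon _))
  refine hneg' b ⟨Additive.ofMul (Grpsch.PicGrp.mk A hA.1), ne_of_lt ?_⟩
  rw [hlin]
  obtain ⟨j, hj⟩ := Function.ne_iff.mp hbne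
  exact Finset.sum_neg' (fun i _ => mul_nonpos_of_nonneg_of_nonpos (hb i) (bil_ample_neg k hdim hS hA (hξ i)).le)
    ⟨j, Finset.mem_univ j, mul_neg_of_pos_of_neg (lt_of_le_of_ne (hb j) (Ne.symm hj)) (bil_ample_neg k hdim hS hA (hξ j))⟩

end Groth.Agent.S18451
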