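import Groth.Statements.S18453
import Groth.Agent.Surf.K464.CanSeq
import Groth.Agent.S14407
import Groth.Agent.S14056

set_option autoImplicit false
universe u
open CategoryTheory CategoryTheory.Limits AlgebraicGeometry TopologicalSpace
open Surf

namespace Groth.Agent.S18453

open K464.Base K464.Curves K464.DegCurve K464.Cohom K464.ConSeq K464.CanSeq K463.Bir Groth.Agent.Grpsch.PicGrp

/-- Let k be an algebraically closed field of characteristic zero and Y a smooth projective surface over
k (integral, proper and smooth over k, of dimension 2) one of whose plurigenera is nonzero: H⁰(Y,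
W^{⊗N}) ≠ 0 for some N ≥ 1, where W is a second exterior power of Ω_{Y/k}. Let f : Y → X be a
k-morphism onto a minimal surface X which is a finite composite of contractions of exceptional
curves of the first kind (a sequence of blow-downs), minimality meaning that no closed subscheme of
X is an exceptional curve of the first kind. Then Y has X as a strong minimal model: whenever g' :
Y' → Y is a finite composite of such contractions (Y' a blow-up of Y) and g : Y' → X' is a finite
composite of such contractions onto a k-scheme X' (a birational morphism to a smooth surface,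
factored into blow-downs), there is a morphism h : X' → X with g ≫ h = g' ≫ f. -/
theorem result (k : Type u) [Field k] [IsAlgClosed k] [CharZero k]
    (Y : Scheme.{u}) [Y.Over (Spec (CommRingCat.of k))] [IsProper (Y ↘ (Spec (CommRingCat.of k)))]
    [Smooth (Y ↘ (Spec (CommRingCat.of k)))] [IsIntegral Y] (hdimY : topologicalKrullDim Y = 2)
    (W : Y.Modules) (hW : ExtPow.IsExtPow 2 (Omega.sheaf (Y ↘ (Spec (CommRingCat.of k)))) W)
    (N : ℕ) (hN : 0 < N) (hP : Nontrivial (Coh.HH Y (CohB1.tensorPow W N) 0))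
    (X : Scheme.{u}) [X.Over (Spec (CommRingCat.of k))] (f : Y ⟶ X)
    (hfk : f ≫ (X ↘ (Spec (CommRingCat.of k))) = (Y ↘ (Spec (CommRingCat.of k)))) (hf : Models.IsContractionSeq f)
    (hmin : ∀ (E : Scheme.{u}) (ι : E ⟶ X), IsClosedImmersion ι → ¬ Models.IsExcCurve ι)
    (Y' : Scheme.{u}) (g' : Y' ⟶ Y) (hg' : Models.IsContractionSeq g')
    (X' : Scheme.{u}) [X'.Over (Spec (CommRingCat.of k))] (g : Y' ⟶ X')
    (hgk : g ≫ (X' ↘ (Spec (CommRingCat.of k))) = g' ≫ (Y ↘ (Spec (CommRingCat.of k)))) (hg : Models.IsContractionSeq g) :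
    ∃ h : X' ⟶ X, g ≫ h = g' ≫ f := by
  have hY : SPS k (Y ↘ (Spec (CommRingCat.of k))) := ⟨inferInstance, hdimY, inferInstance, inferInstance⟩
  obtain ⟨t, ht1, ht2, ht3⟩ := seq_down hf hY
  have hX : SPS k (X ↘ (Spec (CommRingCat.of k))) := by rw [ht3 _ hfk]; exact ht2
  have := hX.int
  have : IsProper (X ↘ (Spec (CommRingCat.of k))) := hX.proper
  have : Smooth (X ↘ (Spec (CommRingCat.of k))) := hX.smooth
  have hbir := seq_bir hf hX
  obtain ⟨W₀, hW₀⟩ := K463.RRd.exists_W k (X := X)
  have hW₀i := K463.RRd.isInvertible_W k hX.dim hW₀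
  have hWi := K463.RRd.isInvertible_W k hdimY hW
  -- plurigenera
  obtain ⟨V, hV, hVi⟩ := exists_open f hbir
  have hVne : ((f ⁻¹ᵁ V : Y.Opens) : Set Y).Nonempty := by
    obtain ⟨v, hv⟩ := hV.nonempty
    obtain ⟨w, hw⟩ := Groth.Agent.Dix.BirIso.surj f V hVi v hv
    exact ⟨w, by change f w ∈ V; rw [hw]; exact hv⟩
  have hpl := Groth.Agent.S14407.result k 2 Y X hY.isSurf.regular hX.isSurf.regular hdimY hX.dim (f ⁻¹ᵁ V) V hVne
    (asIso (f ∣_ V)) (by rw [asIso_hom, morphismRestrict_ι_assoc, hfk]) W hW W₀ hW₀ N hN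
  have hsec : Nontrivial (Coh.HH X (CohB1.tensorPow W₀ N) 0) := by
    have := K464.Cohom.finite_HH k (isCoh_of_isInvertible k Y (Groth.Agent.Fdesc.LocGen.isInvertible_tensorPow hWi N)) 0
    have h1 : 0 < Module.finrank k (Coh.HH Y (CohB1.tensorPow W N) 0) := Module.finrank_pos
    rw [hpl] at h1
    exact Module.nontrivial_of_finrank_pos h1
  -- the canonical class of `X` is nef
  have hnef : K432.NefBasic.Nef (X ↘ (Spec (CommRingCat.of k))) W₀ := by
    refine (K432.NefBasic.nef_iff_hyp W₀ hW₀i).1 (Groth.Agent.S14056.result k X hX.dim W₀ hW₀ N hN hsec ?_)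
    intro E M hEi hEd hM h1 heq
    have hE : IsCurve E := ⟨hEi, hEd⟩
    have hEe := isEff_of_smooth k hX.dim hE
    have hIi := Groth.Agent.Dix.IdealModCartier.isInvertible_idealMod hEe
    have hMi : PicF.IsInvertible M := K456.SecTriv.isInvertible_of_inverse hIi hM.some
    have h2 : mk M hMi = (ic E hEe)⁻¹ := mk_eq_ic_inv hM hMi hEe
    rw [← degOn_mk k X E hMi, h2, degOn_inv k hE] at heq
    exact hmin E.subscheme E.subschemeι inferInstance (isExcCurve hE hEe h1 (by linarith))
  -- the morphism `Y' ⟶ X`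
  have hY' := seq_up hg' hY
  have := hY'.int
  have hbir' := seq_bir hg' hY
  exact factor hg hX hW₀ hW₀i hnef hY' (g' ≫ f) (by rw [Category.assoc, hfk])
    (K463.Bir.isBir_comp hbir' hbir)

end Groth.Agent.S18453
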