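import Groth.Statements.S18454
import Groth.Agent.Surf.K464.RatConf

set_option autoImplicit false
universe u
open CategoryTheory CategoryTheory.Limits AlgebraicGeometry TopologicalSpace
open Surf

namespace Groth.Agent.S18454

open K464.Base K464.Curves K464.DivLat K464.NegDef K464.Comp K464.Cohom K464.RatConf Groth.Agent.Grpsch.PicGrp Groth.Agent.Dix.IdealModCartier

/-- Let k be an algebraically closed field of characteristic zero and X a smooth projective surface over
k (integral, proper and smooth over k, of dimension 2). Let C_1, …, C_r (r ≥ 1) be pairwise distinct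
integral curves on X, with ideal sheaves I_i, forming a connected configuration whose intersection
matrix is negative definite: writing (A·B) = χ(O_X) − χ(A) − χ(B) + χ(A ⊗ B), there is no partition
of the indices into two nonempty sets with (I_i·I_j) = 0 for all i, j on opposite sides, and Σ_{i,j}
a_i a_j (I_i·I_j) < 0 for every nonzero integer vector a. Let Z₀ be a fundamental cycle of the
configuration: a nonzero effective Cartier divisor supported on ⋃ C_i such that Z₀·C_i ≤ 0 for every
i, stated as deg(I_{Z₀}|_{C_i}) = χ(O_{C_i} ⊗ I_{Z₀}) − χ(O_{C_i}) ≥ 0, and such that every nonzero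
effective Cartier divisor Z supported on ⋃ C_i with the same property satisfies Z ≥ Z₀ (I_Z ⊆
I_{Z₀}). Then H¹(Z, O_Z) = 0 for every nonzero effective Cartier divisor Z supported on ⋃ C_i if and
only if χ(O_{Z₀}) = 1, i.e. the arithmetic genus of Z₀ is 0; cohomology and Euler characteristics
are computed on X through direct images. The published statement characterises rationality of the
normal surface singularity obtained by contracting the configuration over the complex numbers; this
row uses the equivalent condition that H¹(O_Z) = 0 for every nonzero effective divisor Z supported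
on the configuration, which is what the printed algebraic argument establishes. -/
theorem result (k : Type u) [Field k] [IsAlgClosed k] [CharZero k]
    (X : Scheme.{u}) [X.Over (Spec (CommRingCat.of k))] [IsProper (X ↘ (Spec (CommRingCat.of k)))]
    [Smooth (X ↘ (Spec (CommRingCat.of k)))] [IsIntegral X] (hdim : topologicalKrullDim X = 2)
    (r : ℕ) (hr : 0 < r) (C : Fin r → X.IdealSheafData) (hC : Function.Injective C)
    (hCi : ∀ i, IsIntegral (C i).subscheme) (hCd : ∀ i, topologicalKrullDim ((C i).support : Set X) = 1)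
    (hconn : ∀ S : Finset (Fin r), S.Nonempty → Sᶜ.Nonempty →
      ∃ i ∈ S, ∃ j ∈ Sᶜ, FGA.intNum k X 2 ![(ClSub.idealMod (C i)), (ClSub.idealMod (C j))] (Coh.structureModule X) ≠ 0)
    (hneg : ∀ a : Fin r → ℤ, a ≠ 0 →
      ∑ i, ∑ j, a i * a j * FGA.intNum k X 2 ![(ClSub.idealMod (C i)), (ClSub.idealMod (C j))] (Coh.structureModule X) < 0)
    (Z₀ : X.IdealSheafData) (hZ₀ : FGA.IsEffCartier Z₀) (hZ₀0 : Z₀ ≠ ⊤)
    (hZ₀s : (Z₀.support : Set X) ⊆ ⋃ i, ((C i).support : Set X))
    (hZ₀C : ∀ i, 0 ≤ Curv2.euler k X (CohB1.tensorMod (ClSub.quotMod (C i)) (ClSub.idealMod Z₀)) -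
      Curv2.euler k X (ClSub.quotMod (C i)))
    (hZ₀min : ∀ Z : X.IdealSheafData, FGA.IsEffCartier Z → Z ≠ ⊤ → (Z.support : Set X) ⊆ ⋃ i, ((C i).support : Set X) →
      (∀ i, 0 ≤ Curv2.euler k X (CohB1.tensorMod (ClSub.quotMod (C i)) (ClSub.idealMod Z)) -
        Curv2.euler k X (ClSub.quotMod (C i))) → Z ≤ Z₀) :
    (∀ Z : X.IdealSheafData, FGA.IsEffCartier Z → Z ≠ ⊤ → (Z.support : Set X) ⊆ ⋃ i, ((C i).support : Set X) →
        Subsingleton (Coh.HH X (ClSub.quotMod Z) 1)) ↔
      Curv2.euler k X (ClSub.quotMod Z₀) = 1 := by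
  have hdim' : topologicalKrullDim X ≤ (2 : ℕ) := hdim.le
  have hCu : ∀ i, IsCurve (C i) := fun i => ⟨hCi i, hCd i⟩
  have hE : ∀ i, BlowUp.IsEffCartierIdeal (C i) := fun i => isEff_of_smooth k hdim (hCu i)
  have : IsNoetherian X := Groth.Agent.CurvesB.CurveRR.isNoetherian_of_proper k X
  simp only [gram_eq_intNum k hE hdim'] at hneg hconn
  obtain ⟨z₀, rfl, hchain, hpos, hrow⟩ := exists_fundamental k hE hCu hC hdim' ⟨0, hr⟩ hconn hZ₀ hZ₀0 hZ₀s hZ₀C
    (fun Z hZ h1 h2 h3 => hZ₀min Z hZ h1 h2 h3)
  have hmain := chain_main k hE hCu hdim' z₀ hchain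
  constructor
  · intro h
    have h1 := h _ hZ₀ hZ₀0 hZ₀s
    have h2 : topologicalKrullDim ((cyc C z₀).support : Set X) ≤ 1 := dim_support_cyc hCu z₀
    have h3 := euler_quot_eq k (cyc C z₀) h2
    rw [Module.finrank_zero_of_subsingleton (M := Coh.HH X (ClSub.quotMod (cyc C z₀)) 1)] at h3
    have h4 := one_le_h0 k hZ₀0
    have h5 := hmain.1
    push_cast at h3
    have h6 : (1 : ℤ) ≤ Module.finrank k (Coh.HH X (ClSub.quotMod (cyc C z₀)) 0) := by exact_mod_cast h4
    linarith
  · intro hchi Z hZ hZ0 hZs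
    obtain ⟨n, rfl⟩ := exists_cyc hCu hE hZ hZs
    exact Groth.Agent.Fga.HShift.subsingleton_of_iso (Groth.Agent.Ega2.Tens.runit _) 1
      (subsingleton_H1_cyc k hE hCu hdim' z₀ hchain hpos hrow hchi n
        (L := Coh.structureModule X) Groth.Agent.Fdesc.LocGen.isInvertible_structureModule
        (fun i => by rw [← Groth.Agent.Grpsch.PicGrp.one_def, degOn_one]))

end Groth.Agent.S18454
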