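import Groth.Statements.S18455
import Groth.Agent.Surf.K464.DegCurve
import Groth.Agent.Surf.K455.BlowCanon
import Groth.Agent.Surf.K455.ResOne
import Groth.Agent.Surf.K455.RelDim
import Groth.Agent.Surf.K455.Canon
import Groth.Agent.CurvesB.CurveRR

set_option autoImplicit false
universe u
open CategoryTheory CategoryTheory.Limits AlgebraicGeometry TopologicalSpace
open Surf

namespace Groth.Agent.S18455

open K464.Base K464.Curves Groth.Agent.Grpsch.PicGrp Groth.Agent.Dix.IdealModCartier

/-- Let k be an algebraically closed field of characteristic zero and X a smooth projective surface over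
k (integral, proper and smooth over k, of dimension 2) with canonical module W, a second exterior
power of Ω_{X/k}. Let x be a closed point of X and π : X' → X a blowing up of X in the ideal of x
(characterised by its universal property), with X' again an integral scheme of dimension 2, proper
and smooth over k through π, W' a canonical module of X' and I_E the exceptional ideal (the inverse
image of the ideal of x). Let C be an integral curve on X with ideal I_C and C' an integral curve on
X' with ideal I_{C'}, such that the inverse image ideal of C on X' equals I_{C'} · I_E^m for some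
natural number m; thus C' is the proper transform of C and m the multiplicity of C at x. Writing
(A·B) = χ(O) − χ(A) − χ(B) + χ(A ⊗ B) for intersection numbers on X and on X', one has
(I_{C'}·I_{C'}) − (I_{C'}·W') = (I_C·I_C) − (I_C·W) − m(m − 1); in terms of arithmetic genera
2p_a(C') − 2 = K'·C' + C'² = K·C + C² − m(m−1) = 2p_a(C) − 2 − m(m−1), so p_a drops by m(m−1)/2. -/
theorem result (k : Type u) [Field k] [IsAlgClosed k] [CharZero k]
    (X : Scheme.{u}) [X.Over (Spec (CommRingCat.of k))] [IsProper (X ↘ (Spec (CommRingCat.of k)))]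
    [Smooth (X ↘ (Spec (CommRingCat.of k)))] [IsIntegral X] (hdim : topologicalKrullDim X = 2)
    (W : X.Modules) (hW : ExtPow.IsExtPow 2 (Omega.sheaf (X ↘ (Spec (CommRingCat.of k)))) W)
    (x : X) (hx : IsClosed ({x} : Set X))
    (X' : Scheme.{u}) (π : X' ⟶ X) (hπ : BlowUp.IsBlowUp π (Scheme.IdealSheafData.vanishingIdeal ⟨{x}, hx⟩))
    [IsIntegral X'] (hdim' : topologicalKrullDim X' = 2)
    [IsProper (π ≫ (X ↘ (Spec (CommRingCat.of k))))] [Smooth (π ≫ (X ↘ (Spec (CommRingCat.of k))))]
    (W' : X'.Modules) (hW' : ExtPow.IsExtPow 2 (Omega.sheaf (π ≫ (X ↘ (Spec (CommRingCat.of k))))) W')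
    (C : X.IdealSheafData) (hCi : IsIntegral C.subscheme) (hCd : topologicalKrullDim (C.support : Set X) = 1)
    (C' : X'.IdealSheafData) (hC'i : IsIntegral C'.subscheme) (hC'd : topologicalKrullDim (C'.support : Set X') = 1)
    (m : ℕ) (hm : C.comap π = C' * (BlowUp.exceptional π (Scheme.IdealSheafData.vanishingIdeal ⟨{x}, hx⟩)) ^ m) :
    letI : X'.Over (Spec (CommRingCat.of k)) := ⟨π ≫ (X ↘ (Spec (CommRingCat.of k)))⟩
    FGA.intNum k X' 2 ![(ClSub.idealMod C'), (ClSub.idealMod C')] (Coh.structureModule X') -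
        FGA.intNum k X' 2 ![(ClSub.idealMod C'), W'] (Coh.structureModule X') =
      FGA.intNum k X 2 ![(ClSub.idealMod C), (ClSub.idealMod C)] (Coh.structureModule X) -
        FGA.intNum k X 2 ![(ClSub.idealMod C), W] (Coh.structureModule X) - (m : ℤ) * ((m : ℤ) - 1) := by
  let _ : X'.Over (Spec (CommRingCat.of k)) := ⟨π ≫ (X ↘ (Spec (CommRingCat.of k)))⟩
  have hP' : IsProper (X' ↘ (Spec (CommRingCat.of k))) := ‹IsProper (π ≫ (X ↘ (Spec (CommRingCat.of k))))›
  have hS' : Smooth (X' ↘ (Spec (CommRingCat.of k))) := ‹Smooth (π ≫ (X ↘ (Spec (CommRingCat.of k))))›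
  have hW'' : ExtPow.IsExtPow 2 (Omega.sheaf (X' ↘ (Spec (CommRingCat.of k)))) W' := hW'
  have hd : topologicalKrullDim X ≤ (2 : ℕ) := hdim.le
  have hd' : topologicalKrullDim X' ≤ (2 : ℕ) := hdim'.le
  have hcomp : ∀ (Z : Scheme.{u}) [AlgebraicGeometry.IsIntegral Z], topologicalKrullDim Z = 2 →
      ∀ T ∈ irreducibleComponents (Z : Type u), topologicalKrullDim T = ((2 : ℕ) : WithBot ℕ∞) := by
    intro Z _ hZ T hT
    rw [irreducibleComponents_eq_singleton, Set.mem_singleton_iff] at hT
    subst hT
    rw [IsHomeomorph.topologicalKrullDim_eq _ (Homeomorph.Set.univ Z).isHomeomorph, hZ]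
    rfl
  have hN : AlgebraicGeometry.IsNoetherian X := Groth.Agent.CurvesB.CurveRR.isNoetherian_of_proper k X
  have hN' : AlgebraicGeometry.IsNoetherian X' := Groth.Agent.CurvesB.CurveRR.isNoetherian_of_proper k X'
  have hR : SmoothOfRelativeDimension 2 (X ↘ Spec (CommRingCat.of k)) :=
    K455.RelDim.smoothOfRelativeDimension k _ 2 (hcomp X hdim)
  have hR' : SmoothOfRelativeDimension 2 (X' ↘ Spec (CommRingCat.of k)) :=
    K455.RelDim.smoothOfRelativeDimension k _ 2 (hcomp X' hdim')
  have hreg : IsRegularLocalRing (X.presheaf.stalk x) := Groth.Agent.S1535.result k X x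
  have hdimx : ringKrullDim (X.presheaf.stalk x) = 2 := by
    obtain ⟨a, t, n, h1, -, h3, h4, h5⟩ := Groth.Agent.CycA.IntLocal.exists_dims (X ↘ (Spec (CommRingCat.of k))) x
    rw [hx.closure_eq] at h3
    have h6 : topologicalKrullDim ({x} : Set X) ≤ 0 := topologicalKrullDim_zero_of_discreteTopology _
    rw [h3] at h6
    rw [hdim] at h4
    have ht : t = 0 := by
      have : (t : WithBot ℕ∞) ≤ ((0 : ℕ) : WithBot ℕ∞) := by simpa using h6
      exact Nat.le_zero.1 (by exact_mod_cast this)
    have hn : n = 2 := by exact_mod_cast h4.symm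
    have ha : a = 2 := by omega
    rw [h1, ha]; rfl
  have hWi : PicF.IsInvertible W := K455.Canon.isInvertible (X ↘ Spec (CommRingCat.of k)) 2 hW
  have hWi' : PicF.IsInvertible W' := K455.Canon.isInvertible (X' ↘ Spec (CommRingCat.of k)) 2 hW''
  have hC : IsCurve C := ⟨hCi, hCd⟩
  have hC' : IsCurve C' := ⟨hC'i, hC'd⟩
  have hCE : BlowUp.IsEffCartierIdeal C := isEff_of_smooth k hdim hC
  have hCE' : BlowUp.IsEffCartierIdeal C' := isEff_of_smooth k hdim' hC'
  set E : X'.IdealSheafData := (Scheme.IdealSheafData.vanishingIdeal ⟨{x}, hx⟩).comap π with hEdef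
  have hE : BlowUp.IsEffCartierIdeal E := hπ.1
  have hm' : C.comap π = C' * E ^ m := hm
  have hEm : BlowUp.IsEffCartierIdeal (C.comap π) := by
    rw [hm']; exact Groth.Agent.Divis.EffCartier.isEff_mul hCE' (Groth.Agent.Divis.EffCartier.isEff_pow hE m)
  have hone := K455.ResOne.finrank_residueField k X hx
  have hrules := fun (L M : X.Modules) (hL : PicF.IsInvertible L) (hM : PicF.IsInvertible M) =>
    K455.BlowDim.main π x hx hdimx hπ k rfl hd L M hL hM
  have hcan := K455.BlowCanon.mc_eq k π rfl x hx hdimx hπ hd' hW'' hW (by rw [hone]; exact one_pos)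
  -- in the Picard group
  set c := ic C hCE
  set c' := ic C' hCE'
  set e := ic E hE
  set w := mk W hWi
  set w' := mk W' hWi'
  have r1 : ∀ a b : Pic X, dot k X' (pull π a) (pull π b) = dot k X a b := by
    intro a b
    obtain ⟨L, hL, rfl⟩ := exists_mk a
    obtain ⟨M, hM, rfl⟩ := exists_mk b
    have h := (hrules L M hL hM).1
    rw [intNum_eq_dot k X hd hL hM] at h
    rw [← h, pull_mk, pull_mk, ← intNum_eq_dot k X' hd']
  have r2 : ∀ a : Pic X, dot k X' (pull π a) e = 0 := by
    intro a
    obtain ⟨L, hL, rfl⟩ := exists_mk a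
    have h := (hrules L L hL hL).2.1
    rw [← h, pull_mk]
    exact (intNum_eq_dot k X' hd' (Groth.Agent.Fdesc.LocGen.isInvertible_pullback π hL) (isInvertible_idealMod hE)).symm
  have r3 : dot k X' e e = -1 := by
    have h := (hrules W W hWi hWi).2.2
    rw [hone] at h
    have h2 := intNum_eq_dot k X' hd' (isInvertible_idealMod hE) (isInvertible_idealMod hE)
    exact h2.symm.trans h
  have hpc : pull π c = c' * e ^ m := by
    have h1 : pull π c = ic (C.comap π) hEm := K464.DegCurve.pull_ic π hCE hEm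
    have hpe := Groth.Agent.Divis.EffCartier.isEff_pow hE m
    have h2 : ic (C.comap π) hEm = ic (C' * E ^ m) (Groth.Agent.Divis.EffCartier.isEff_mul hCE' hpe) := ic_congr _ _ hm'
    rw [h1, h2, ic_mul hCE' hpe, ic_pow hE m]
  have hpw : w' * e = pull π w := by
    have h1 : w' * e = mk _ (Groth.Agent.Fdesc.LocGen.isInvertible_tensorMod hWi' (isInvertible_idealMod hE)) := rfl
    rw [h1, pull_mk, mk_eq_iff]
    rw [← Groth.Agent.Fga.PicMon.mc_tensor] at hcan
    exact (Groth.Agent.Fga.PicMon.mc_eq_iff _ _).1 hcan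
  have hc' : c' = pull π c * (e ^ m)⁻¹ := by rw [hpc, mul_inv_cancel_right]
  have hw' : w' = pull π w * e⁻¹ := by rw [← hpw, mul_inv_cancel_right]
  have r2' : ∀ a : Pic X, dot k X' e (pull π a) = 0 := fun a => by rw [dot_comm, r2]
  rw [intNum_eq_dot k X' hd' (isInvertible_idealMod hCE') (isInvertible_idealMod hCE'),
    intNum_eq_dot k X' hd' (isInvertible_idealMod hCE') hWi',
    intNum_eq_dot k X hd (isInvertible_idealMod hCE) (isInvertible_idealMod hCE),
    intNum_eq_dot k X hd (isInvertible_idealMod hCE) hWi]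
  change dot k X' c' c' - dot k X' c' w' = dot k X c c - dot k X c w - (m : ℤ) * ((m : ℤ) - 1)
  rw [hc', hw']
  simp only [dot_mul_left k X' hd', dot_mul_right k X' hd', dot_inv_left k X' hd', dot_inv_right k X' hd',
    dot_pow_left k X' hd', dot_pow_right k X' hd', r1, r2, r2', r3]
  ring

end Groth.Agent.S18455
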