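import Groth.Statements.S18456
import Groth.Agent.Surf.K464.RatConf

set_option autoImplicit false
universe u
open CategoryTheory CategoryTheory.Limits AlgebraicGeometry TopologicalSpace
open Surf

namespace Groth.Agent.S18456

open K464.Base K464.Curves K464.DivLat K464.NegDef K464.Comp K464.Cohom K464.RatConf Groth.Agent.Grpsch.PicGrp Groth.Agent.Dix.IdealModCartier

/-- Let k be an algebraically closed field of characteristic zero and X a smooth projective surface over
k (integral, proper and smooth over k, of dimension 2). Let C_1, …, C_r be pairwise distinct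
integral curves on X with ideal sheaves I_i, each with H¹(C_i, O_{C_i}) = 0 (so C_i ≅ P¹) and
self-intersection (I_i·I_i) = −2, and with negative definite intersection matrix: Σ_{i,j} a_i a_j
(I_i·I_j) < 0 for every nonzero integer vector a, where (A·B) = χ(O_X) − χ(A) − χ(B) + χ(A ⊗ B).
Then H¹(Z, O_Z) = 0 for every nonzero effective Cartier divisor Z on X supported on ⋃ C_i,
cohomology computed on X through the direct image of O_Z. The published statement concludes that the
singularity obtained by contracting the configuration over the complex numbers is rational; the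
vanishing for all supported nonzero effective divisors is the form of rationality the printed
argument establishes, and this row states that form. -/
theorem result (k : Type u) [Field k] [IsAlgClosed k] [CharZero k]
    (X : Scheme.{u}) [X.Over (Spec (CommRingCat.of k))] [IsProper (X ↘ (Spec (CommRingCat.of k)))]
    [Smooth (X ↘ (Spec (CommRingCat.of k)))] [IsIntegral X] (hdim : topologicalKrullDim X = 2)
    (r : ℕ) (C : Fin r → X.IdealSheafData) (hC : Function.Injective C)
    (hCi : ∀ i, IsIntegral (C i).subscheme) (hCd : ∀ i, topologicalKrullDim ((C i).support : Set X) = 1)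
    (hCrat : ∀ i, Subsingleton (Coh.HH X (ClSub.quotMod (C i)) 1))
    (hC2 : ∀ i, FGA.intNum k X 2 ![(ClSub.idealMod (C i)), (ClSub.idealMod (C i))] (Coh.structureModule X) = -2)
    (hneg : ∀ a : Fin r → ℤ, a ≠ 0 →
      ∑ i, ∑ j, a i * a j * FGA.intNum k X 2 ![(ClSub.idealMod (C i)), (ClSub.idealMod (C j))] (Coh.structureModule X) < 0)
    (Z : X.IdealSheafData) (hZ : FGA.IsEffCartier Z) (hZ0 : Z ≠ ⊤)
    (hZs : (Z.support : Set X) ⊆ ⋃ i, ((C i).support : Set X)) :
    Subsingleton (Coh.HH X (ClSub.quotMod Z) 1) := by
  have hdim' : topologicalKrullDim X ≤ (2 : ℕ) := hdim.le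
  have hCu : ∀ i, IsCurve (C i) := fun i => ⟨hCi i, hCd i⟩
  have hE : ∀ i, BlowUp.IsEffCartierIdeal (C i) := fun i => isEff_of_smooth k hdim (hCu i)
  have : IsNoetherian X := Groth.Agent.CurvesB.CurveRR.isNoetherian_of_proper k X
  simp only [gram_eq_intNum k hE hdim'] at hneg hC2
  obtain ⟨n, rfl⟩ := exists_cyc hCu hE hZ hZs
  have hn0 : n ≠ 0 := fun h => hZ0 ((cyc_eq_top_iff hCu hE hC).2 h)
  clear hZ0 hZs hZ
  have key : ∀ (m : ℕ) (n : Fin r → ℕ), ∑ i, n i = m → n ≠ 0 →
      Subsingleton (Coh.HH X (CohB1.tensorMod (ClSub.quotMod (cyc C n)) (Coh.structureModule X)) 1) := by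
    intro m
    induction m with
    | zero =>
      intro n hn hn0
      exact absurd (funext fun i => (Finset.sum_eq_zero_iff (s := Finset.univ) (f := n)).1 hn i (Finset.mem_univ i)) hn0
    | succ m ih =>
      intro n hn hn0
      obtain ⟨i, hi, hlt⟩ := exists_row_neg (G := gram k hE) hneg n hn0
      obtain ⟨d, rfl⟩ : ∃ d : Fin r → ℕ, n = d + Pi.single i 1 := by
        refine ⟨fun j => n j - (Pi.single i 1 : Fin r → ℕ) j, funext fun j => ?_⟩
        by_cases hij : j = i
        · subst hij; simp; omega
        · simp [hij]
      by_cases hd0 : d = 0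
      · subst hd0
        rw [zero_add, cyc_single]
        exact Groth.Agent.Fga.HShift.subsingleton_of_iso (Groth.Agent.Ega2.Tens.runit _).symm 1 (hCrat i)
      · have hsum : ∑ j, d j = m := by
          simp only [Pi.add_apply, Finset.sum_add_distrib] at hn
          have : ∑ j, (Pi.single i 1 : Fin r → ℕ) j = 1 := by
            rw [Finset.sum_eq_single i]
            · simp
            · intro j _ hj; simp [hj]
            · intro h; exact absurd (Finset.mem_univ i) h
          omega
        have hdeg : ∑ j, ((d + Pi.single i 1 : Fin r → ℕ) j : ℤ) * gram k hE j i =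
            ∑ j, (d j : ℤ) * gram k hE j i - 2 := by
          simp only [Pi.add_apply, Nat.cast_add, add_mul, Finset.sum_add_distrib]
          rw [Finset.sum_eq_single (s := Finset.univ) (f := fun j => ((Pi.single i 1 : Fin r → ℕ) j : ℤ) * gram k hE j i) i]
          · simp [hC2 i]; ring
          · intro j _ hj; simp [hj]
          · intro h; exact absurd (Finset.mem_univ i) h
        rw [cyc_add, cyc_single]
        refine step_H1 k (hCu i) (hCrat i) (isEff_cyc hE d)
          Groth.Agent.Fdesc.LocGen.isInvertible_structureModule ?_ (ih d hsum hd0)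
        rw [← Groth.Agent.Grpsch.PicGrp.one_def, degOn_one, degOn_cyc k hE hdim']
        rw [hdeg] at hlt
        linarith
  exact Groth.Agent.Fga.HShift.subsingleton_of_iso (Groth.Agent.Ega2.Tens.runit _) 1 (key _ n rfl hn0)

end Groth.Agent.S18456
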