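import Groth.Statements.S18457
import Mathlib.Tactic
import Mathlib.Algebra.Order.Chebyshev

set_option autoImplicit false
open Finset
open Surf

namespace Groth.Agent.S18457

/-- In the Picard lattice of the plane blown up at n ≤ 8 points, with basis h, e_1, …, e_n, form h² = 1,
e_i² = −1, all other products 0, and anticanonical class D = 3h − Σ e_i, let d·h − Σ a_i e_i be a
class with all a_i ≥ 0 (the class of the strict transform of a degree-d plane curve having
multiplicity a_i at the i-th point) which is a (−2)-class orthogonal to D, that is d² − Σ a_i² = −2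
and 3d = Σ a_i. Then one of the following holds: d = 1 and every a_i is 0 or 1 with exactly three
equal to 1; d = 2 and every a_i is 0 or 1 with exactly six equal to 1; d = 3, n = 8, and one a_i
equals 2 while the remaining seven equal 1. The published statement is geometric: under the
general-position hypotheses on the points, no smooth rational curve on the blown-up plane is
orthogonal to D; this row is the lattice enumeration its proof carries out (a line through three of
the points, a conic through six, a cubic through all eight and singular at one). -/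
theorem result (n : ℕ) (hn : n ≤ 8)
    (d : ℤ) (a : Fin n → ℤ) (ha : ∀ i, 0 ≤ a i)
    (hsq : d ^ 2 - ∑ i, (a i) ^ 2 = -2) (hK : 3 * d = ∑ i, a i) :
    (d = 1 ∧ (∀ i, a i = 0 ∨ a i = 1) ∧ (Finset.univ.filter (fun i => a i = 1)).card = 3) ∨
      (d = 2 ∧ (∀ i, a i = 0 ∨ a i = 1) ∧ (Finset.univ.filter (fun i => a i = 1)).card = 6) ∨
      (d = 3 ∧ n = 8 ∧ ∃ j, a j = 2 ∧ ∀ i, i ≠ j → a i = 1) := by
  have hsum_nonneg : 0 ≤ ∑ i, a i := Finset.sum_nonneg (fun i _ => ha i)
  have hd0 : 0 ≤ d := by omega
  have hn' : (n : ℤ) ≤ 8 := by exact_mod_cast hn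
  have hcs : (∑ i, a i) ^ 2 ≤ (n : ℤ) * ∑ i, (a i) ^ 2 := by
    have := sq_sum_le_card_mul_sum_sq (s := (Finset.univ : Finset (Fin n))) (f := a)
    simpa using this
  have hsqn : 0 ≤ ∑ i, (a i) ^ 2 := Finset.sum_nonneg (fun i _ => sq_nonneg _)
  have hsq' : ∑ i, (a i) ^ 2 = d ^ 2 + 2 := by linarith
  have hd4 : d ≤ 4 := by
    by_contra h
    push Not at h
    have h1 : (n : ℤ) * ∑ i, (a i) ^ 2 ≤ 8 * ∑ i, (a i) ^ 2 := mul_le_mul_of_nonneg_right hn' hsqn
    rw [← hK, hsq'] at *
    nlinarith
  have hterm : ∀ i, 0 ≤ a i * (a i - 1) := by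
    intro i
    rcases (lt_or_ge (a i) 1) with h | h
    · have : a i = 0 := le_antisymm (by omega) (ha i)
      simp [this]
    · exact mul_nonneg (by omega) (by omega)
  have hsum1 : ∑ i, a i * (a i - 1) = d ^ 2 + 2 - 3 * d := by
    have : ∑ i, a i * (a i - 1) = ∑ i, (a i) ^ 2 - ∑ i, a i := by
      rw [← Finset.sum_sub_distrib]
      exact Finset.sum_congr rfl (fun i _ => by ring)
    rw [this, hsq', ← hK]
  have h01 : (∑ i, a i * (a i - 1) = 0) → (∀ i, a i = 0 ∨ a i = 1) := by
    intro h i
    have := (Finset.sum_eq_zero_iff_of_nonneg (fun i _ => hterm i)).1 h i (Finset.mem_univ i)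
    rcases mul_eq_zero.1 this with h | h
    · exact Or.inl h
    · exact Or.inr (by omega)
  have hcard : (∀ i, a i = 0 ∨ a i = 1) → ((Finset.univ.filter (fun i => a i = 1)).card : ℤ) = ∑ i, a i := by
    intro h
    rw [Finset.card_filter]
    push_cast
    refine Finset.sum_congr rfl (fun i _ => ?_)
    rcases h i with h | h <;> simp [h]
  interval_cases d
  · exfalso
    have h0 : ∀ i, a i = 0 := by
      intro i
      have h := (Finset.sum_eq_zero_iff_of_nonneg (fun i _ => ha i)).1 (by linarith) i (Finset.mem_univ i)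
      exact h
    simp [h0] at hsq'
  · left
    have h := h01 (by rw [hsum1]; norm_num)
    refine ⟨rfl, h, ?_⟩
    have := hcard h
    rw [← hK] at this
    exact_mod_cast this
  · right; left
    have h := h01 (by rw [hsum1]; norm_num)
    refine ⟨rfl, h, ?_⟩
    have := hcard h
    rw [← hK] at this
    exact_mod_cast this
  · right; right
    have hs2 : ∑ i, a i * (a i - 1) = 2 := by rw [hsum1]; norm_num
    have hex : ∃ j, a j * (a j - 1) ≠ 0 := by
      by_contra h
      push Not at h
      simp [h] at hs2
    obtain ⟨j, hj⟩ := hex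
    have hle : ∀ i, a i * (a i - 1) ≤ 2 := by
      intro i
      rw [← hs2]
      exact Finset.single_le_sum (fun i _ => hterm i) (Finset.mem_univ i)
    have hj2 : a j = 2 := by
      have h1 := hle j
      have h2 := ha j
      have h3 : a j ≤ 2 := by
        by_contra h
        push Not at h
        nlinarith
      interval_cases (a j)
      · simp at hj
      · simp at hj
      · rfl
    have hsplit : ∑ i, a i * (a i - 1) = a j * (a j - 1) + ∑ i ∈ Finset.univ.erase j, a i * (a i - 1) :=
      (Finset.add_sum_erase _ _ (Finset.mem_univ j)).symm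
    have hrest : ∑ i ∈ Finset.univ.erase j, a i * (a i - 1) = 0 := by
      rw [hs2, hj2] at hsplit
      linarith
    have hrest' : ∀ i, i ≠ j → a i = 0 ∨ a i = 1 := by
      intro i hi
      have := (Finset.sum_eq_zero_iff_of_nonneg (fun i _ => hterm i)).1 hrest i (Finset.mem_erase.2 ⟨hi, Finset.mem_univ i⟩)
      rcases mul_eq_zero.1 this with h | h
      · exact Or.inl h
      · exact Or.inr (by omega)
    have hsplit' : ∑ i, a i = a j + ∑ i ∈ Finset.univ.erase j, a i :=
      (Finset.add_sum_erase _ _ (Finset.mem_univ j)).symm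
    have h7 : ∑ i ∈ Finset.univ.erase j, a i = 7 := by
      rw [← hK, hj2] at hsplit'
      linarith
    have hcd : ((Finset.univ.erase j : Finset (Fin n)).card : ℤ) = n - 1 := by
      have hnpos : 0 < n := Fin.pos j
      rw [Finset.card_erase_of_mem (Finset.mem_univ j)]
      simp only [Finset.card_univ, Fintype.card_fin]
      omega
    have hdef : ∑ i ∈ Finset.univ.erase j, (1 - a i) = n - 8 := by
      rw [Finset.sum_sub_distrib, h7]
      simp only [Finset.sum_const, nsmul_eq_mul, mul_one]
      rw [hcd]
      ring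
    have hnn : ∀ i ∈ Finset.univ.erase j, 0 ≤ 1 - a i := by
      intro i hi
      rcases hrest' i (Finset.ne_of_mem_erase hi) with h | h <;> rw [h] <;> norm_num
    have h8 : (n : ℤ) = 8 := by
      have := Finset.sum_nonneg hnn
      rw [hdef] at this
      linarith
    refine ⟨rfl, by exact_mod_cast h8, j, hj2, ?_⟩
    intro i hi
    have := (Finset.sum_eq_zero_iff_of_nonneg hnn).1 (by rw [hdef, h8]; norm_num) i
      (Finset.mem_erase.2 ⟨hi, Finset.mem_univ i⟩)
    linarith
  · exfalso
    have hq : ∀ i, 0 ≤ (a i - 1) * (a i - 2) := by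
      intro i
      rcases (lt_or_ge (a i) 2) with h | h
      · exact mul_nonneg_of_nonpos_of_nonpos (by omega) (by omega)
      · exact mul_nonneg (by omega) (by omega)
    have hsumq : ∑ i, (a i - 1) * (a i - 2) = 2 * n - 18 := by
      have : ∑ i, (a i - 1) * (a i - 2) = ∑ i, (a i) ^ 2 - 3 * ∑ i, a i + ∑ i : Fin n, 2 := by
        rw [Finset.mul_sum, ← Finset.sum_sub_distrib, ← Finset.sum_add_distrib]
        exact Finset.sum_congr rfl (fun i _ => by ring)
      rw [this, hsq', ← hK]
      simp
      ring
    have := Finset.sum_nonneg (fun i (_ : i ∈ Finset.univ) => hq i)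
    rw [hsumq] at this
    linarith

end Groth.Agent.S18457
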