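import Groth.Statements.S18458
import Groth.Agent.Surf.K464.Ample

set_option autoImplicit false
universe u
open CategoryTheory CategoryTheory.Limits AlgebraicGeometry TopologicalSpace
open Surf

namespace Groth.Agent.S18458

open K464.Base K464.Curves K464.DivLat K464.NegDef K464.Comp K464.Ample Groth.Agent.Grpsch.PicGrp Groth.Agent.Dix.IdealModCartier

/-- Let k be an algebraically closed field of characteristic zero and X a smooth projective surface over
k (integral, proper and smooth over k, of dimension 2, carrying an ample invertible module). Let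
C_1, …, C_r be pairwise distinct integral curves on X with ideal sheaves I_i whose intersection
matrix is negative definite: Σ_{i,j} a_i a_j (I_i·I_j) < 0 for every nonzero integer vector a, where
(A·B) = χ(O_X) − χ(A) − χ(B) + χ(A ⊗ B). Then there is an invertible O_X-module L (the sheaf of a
divisor H) which is nef and big and is orthogonal to exactly the curves C_i: writing (L·C) = χ(O_C ⊗
L) − χ(O_C) for the degree of L on an integral curve C, one has (L·C) ≥ 0 for every integral curve
C, (L·L) > 0, and (L·C) = 0 if and only if C is one of the C_i. -/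
theorem result (k : Type u) [Field k] [IsAlgClosed k] [CharZero k]
    (X : Scheme.{u}) [X.Over (Spec (CommRingCat.of k))] [IsProper (X ↘ (Spec (CommRingCat.of k)))]
    [Smooth (X ↘ (Spec (CommRingCat.of k)))] [IsIntegral X] (hdim : topologicalKrullDim X = 2)
    (hproj : ∃ H : X.Modules, CohB1.IsAmple H)
    (r : ℕ) (C : Fin r → X.IdealSheafData) (hC : Function.Injective C)
    (hCi : ∀ i, IsIntegral (C i).subscheme) (hCd : ∀ i, topologicalKrullDim ((C i).support : Set X) = 1)
    (hneg : ∀ a : Fin r → ℤ, a ≠ 0 →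
      ∑ i, ∑ j, a i * a j * FGA.intNum k X 2 ![(ClSub.idealMod (C i)), (ClSub.idealMod (C j))] (Coh.structureModule X) < 0) :
    ∃ L : X.Modules, PicF.IsInvertible L ∧
      (∀ D : X.IdealSheafData, IsIntegral D.subscheme → topologicalKrullDim (D.support : Set X) = 1 →
        0 ≤ Curv2.euler k X (CohB1.tensorMod (ClSub.quotMod D) L) - Curv2.euler k X (ClSub.quotMod D)) ∧
      0 < FGA.intNum k X 2 ![L, L] (Coh.structureModule X) ∧
      (∀ D : X.IdealSheafData, IsIntegral D.subscheme → topologicalKrullDim (D.support : Set X) = 1 →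
        (Curv2.euler k X (CohB1.tensorMod (ClSub.quotMod D) L) - Curv2.euler k X (ClSub.quotMod D) = 0 ↔
          ∃ i, D = C i)) := by
  have hdim' : topologicalKrullDim X ≤ (2 : ℕ) := hdim.le
  have hCu : ∀ i, IsCurve (C i) := fun i => ⟨hCi i, hCd i⟩
  have hE : ∀ i, BlowUp.IsEffCartierIdeal (C i) := fun i => isEff_of_smooth k hdim (hCu i)
  simp only [gram_eq_intNum k hE hdim'] at hneg
  obtain ⟨H, hamp⟩ := hproj
  have hH : PicF.IsInvertible H := hamp.1
  have hHpos : ∀ D : X.IdealSheafData, IsCurve D → 0 < degOn k X D (mk H hH) := fun D hD =>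
    degOn_pos_of_ample k hD hH hamp
  obtain ⟨N, s, hN, hs⟩ := exists_orthogonal (G := gram k hE) hneg (fun j => degOn k X (C j) (mk H hH))
  have hNz : (0 : ℤ) < N := by exact_mod_cast hN
  have hs0 : ∀ i, 0 ≤ s i := nonneg_of_row_nonpos (G := gram k hE) (fun i j => gram_nonneg k hE hCu hC i j) hneg s
    (fun j => by rw [hs j]; have := mul_pos hNz (hHpos (C j) (hCu j)); linarith)
  -- the class
  obtain ⟨L, hL, hLm⟩ := exists_mk (mk H hH ^ N * (∏ i, ic (C i) (hE i) ^ s i)⁻¹)
  have hdegL : ∀ D : X.IdealSheafData, IsCurve D →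
      degOn k X D (mk L hL) = N * degOn k X D (mk H hH) - ∑ i, s i * degOn k X D (ic (C i) (hE i)) := by
    intro D hD
    rw [← hLm, degOn_mul k hD, degOn_inv k hD, degOn_pow k hD, degOn_prod k hD]
    simp only [degOn_zpow k hD]
    ring
  have hC0 : ∀ j, degOn k X (C j) (mk L hL) = 0 := by
    intro j
    rw [hdegL _ (hCu j)]
    have h1 : ∑ i, s i * degOn k X (C j) (ic (C i) (hE i)) = - ∑ i, s i * gram k hE i j := by
      rw [← Finset.sum_neg_distrib]
      refine Finset.sum_congr rfl fun i _ => ?_
      rw [degOn_ic_eq_neg_gram k hE, gram_comm]; ring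
    rw [h1, hs j]; ring
  have hpos : ∀ D : X.IdealSheafData, IsCurve D → (∀ i, D ≠ C i) → 0 < degOn k X D (mk L hL) := by
    intro D hD hne
    rw [hdegL _ hD]
    have h1 : ∑ i, s i * degOn k X D (ic (C i) (hE i)) ≤ 0 := Finset.sum_nonpos fun i _ =>
      mul_nonpos_of_nonneg_of_nonpos (hs0 i) (degOn_ic_nonpos k hD (hE i) (gp_notMem hD (hCu i) (hne i)))
    have h2 := mul_pos hNz (hHpos D hD)
    linarith
  refine ⟨L, hL, fun D hDi hDd => ?_, ?_, fun D hDi hDd => ?_⟩
  · have hD : IsCurve D := ⟨hDi, hDd⟩
    rw [← degOn_mk k X D hL]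
    by_cases h : ∃ i, D = C i
    · obtain ⟨i, rfl⟩ := h
      exact (hC0 i).ge
    · push Not at h
      exact (hpos D hD h).le
  · rw [intNum_eq_dot k X hdim' hL hL]
    have h1 : dot k X (mk L hL) (mk L hL) = N * dot k X (mk H hH) (mk L hL) := by
      conv_lhs => rw [← hLm]
      rw [dot_mul_left k X hdim', dot_inv_left k X hdim', dot_pow_left k X hdim', dot_prod_left k X hdim']
      have h2 : ∑ i, dot k X (ic (C i) (hE i) ^ s i) (mk L hL) = 0 := Finset.sum_eq_zero fun i _ => by
        rw [dot_zpow_left k X hdim', dot_ic_eq, hC0 i]; ring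
      rw [hLm, h2]; ring
    have h3 : dot k X (mk H hH) (mk L hL) =
        N * dot k X (mk H hH) (mk H hH) + ∑ i, s i * degOn k X (C i) (mk H hH) := by
      conv_lhs => rw [← hLm]
      rw [dot_mul_right k X hdim', dot_inv_right k X hdim', dot_pow_right k X hdim', dot_prod_right k X hdim']
      have h2 : ∑ i, dot k X (mk H hH) (ic (C i) (hE i) ^ s i) = - ∑ i, s i * degOn k X (C i) (mk H hH) := by
        rw [← Finset.sum_neg_distrib]
        refine Finset.sum_congr rfl fun i _ => ?_
        rw [dot_zpow_right k X hdim', dot_comm, dot_ic_eq]; ring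
      rw [h2]; ring
    rw [h1, h3]
    have h4 := dot_pos_of_ample k hdim hH hH hamp hamp
    have h5 : 0 ≤ ∑ i, s i * degOn k X (C i) (mk H hH) :=
      Finset.sum_nonneg fun i _ => mul_nonneg (hs0 i) (hHpos _ (hCu i)).le
    have h6 := mul_pos hNz h4
    exact mul_pos hNz (by linarith)
  · have hD : IsCurve D := ⟨hDi, hDd⟩
    rw [← degOn_mk k X D hL]
    constructor
    · intro h0
      by_contra hne
      push Not at hne
      exact absurd h0 (hpos D hD hne).ne'
    · rintro ⟨i, rfl⟩
      exact hC0 i

end Groth.Agent.S18458
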