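import Groth.Statements.S18459
import Groth.Agent.Surf.K464.Hirz
import Groth.Agent.Surf.K465.Eff
import Groth.Agent.Ega2.GlobGenCrit
import Groth.Agent.Fga.HShift

set_option autoImplicit false
universe u
open CategoryTheory CategoryTheory.Limits AlgebraicGeometry TopologicalSpace
open Surf

namespace Groth.Agent.S18459

open K464.Base K464.Curves K464.DegCurve K464.PtCurve K464.FibCurve K464.Cohom K464.Hirz Groth.Agent.Grpsch.PicGrp Groth.Agent.Fdesc.LocGen Groth.Agent.Dix.IdealModCartier

/-- Fix an algebraically closed field k of characteristic zero, and suppose X is a smooth projective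
surface over k (integral, proper and smooth over k, of dimension 2). Assume given a surjective
k-morphism π : X → P¹_k each of whose fibres over a closed point is isomorphic to P¹_k, together
with an integral curve σ ⊂ X having ideal sheaf I_σ, such that π^*O(1) restricts to a degree-1 sheaf
on σ (σ·f = 1 for the fibre class f, so σ is a section) and (I_σ·I_σ) = −n for some natural number n
(σ² = −n); in other words X is the rational ruled surface F_n and σ its negative section. Take N to
be a tensor inverse of I_σ (the sheaf O_X(σ)), fix integers a ≥ 0 and b, and set L = N^{⊗a} ⊗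
π^*O_{P¹}(b), the sheaf attached to aσ + bf. The conclusions: (i) L is nef, meaning χ(O_C ⊗ L) −
χ(O_C) ≥ 0 for each integral curve C ⊂ X, exactly when na ≤ b; (ii) L is globally generated exactly
when na ≤ b; (iii) L admits a nonzero global section (equivalently, some effective divisor lies in
the linear class of aσ + bf) exactly when 0 ≤ b. Intersection numbers are computed as (A·B) = χ(O_X)
− χ(A) − χ(B) + χ(A ⊗ B). In the published version a may be any integer, with a ≥ 0 included in the
numerical condition; when a < 0 none of the three properties holds, and here a ≥ 0 is imposed.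
Neither the published second condition (|aσ + bf| non-empty with no fixed curve) nor the ampleness
criterion a > 0, b > na is restated. -/
theorem result (k : Type u) [Field k] [IsAlgClosed k] [CharZero k]
    (X : Scheme.{u}) [X.Over (Spec (CommRingCat.of k))] [IsProper (X ↘ (Spec (CommRingCat.of k)))]
    [Smooth (X ↘ (Spec (CommRingCat.of k)))] [IsIntegral X] (hdim : topologicalKrullDim X = 2)
    (π : X ⟶ CohB1.ProjSpace 1 k) (hπ : π ≫ CohB1.ProjSpace.toSpec 1 k = (X ↘ (Spec (CommRingCat.of k))))
    (hsurj : Function.Surjective π)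
    (hfib : ∀ y : CohB1.ProjSpace 1 k, IsClosed ({y} : Set (CohB1.ProjSpace 1 k)) →
      Nonempty (pullback π ((CohB1.ProjSpace 1 k).fromSpecResidueField y) ≅ CohB1.ProjSpace 1 k))
    (σ : X.IdealSheafData) (hσi : IsIntegral σ.subscheme) (hσd : topologicalKrullDim (σ.support : Set X) = 1)
    (hσf : Curv2.euler k X (CohB1.tensorMod (ClSub.quotMod σ) ((Scheme.Modules.pullback π).obj (Twist.twistProjSpace 1 k 1))) -
      Curv2.euler k X (ClSub.quotMod σ) = 1)
    (n : ℕ) (hσσ : FGA.intNum k X 2 ![(ClSub.idealMod σ), (ClSub.idealMod σ)] (Coh.structureModule X) = -(n : ℤ))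
    (N : X.Modules) (hN : ClSub.IsInverseOf N (ClSub.idealMod σ)) (a : ℕ) (b : ℤ) :
    ((∀ C : X.IdealSheafData, IsIntegral C.subscheme → topologicalKrullDim (C.support : Set X) = 1 →
        0 ≤ Curv2.euler k X (CohB1.tensorMod (ClSub.quotMod C)
          (CohB1.tensorMod (CohB1.tensorPow N a) ((Scheme.Modules.pullback π).obj (Twist.twistProjSpace 1 k b)))) -
          Curv2.euler k X (ClSub.quotMod C)) ↔ (n : ℤ) * a ≤ b) ∧
      (Curv2.IsGloballyGenerated (CohB1.tensorMod (CohB1.tensorPow N a) ((Scheme.Modules.pullback π).obj (Twist.twistProjSpace 1 k b))) ↔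
        (n : ℤ) * a ≤ b) ∧
      (Nontrivial (Coh.HH X (CohB1.tensorMod (CohB1.tensorPow N a) ((Scheme.Modules.pullback π).obj (Twist.twistProjSpace 1 k b))) 0) ↔
        0 ≤ b) := by
  have hd2 : topologicalKrullDim X ≤ (2 : ℕ) := hdim.le
  have hsj : Surjective π := ⟨hsurj⟩
  have hXN : AlgebraicGeometry.IsNoetherian X := Groth.Agent.CurvesB.CurveRR.isNoetherian_of_proper k X
  have hC : IsCurve σ := ⟨hσi, hσd⟩
  have hσe : BlowUp.IsEffCartierIdeal σ := isEff_of_smooth k hdim hC
  have hIi : PicF.IsInvertible (ClSub.idealMod σ) := isInvertible_idealMod hσe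
  have hNi : PicF.IsInvertible N := K456.SecTriv.isInvertible_of_inverse hIi hN.some
  set s : Pic X := mk N hNi with hs
  set f : Pic X := pull π (o1 k) with hf
  have hsσ : s = (ic σ hσe)⁻¹ := mk_eq_ic_inv hN hNi hσe
  have hdegf : degOn k X σ f = 1 := hσf
  have hsf : dot k X s f = 1 := by
    rw [hsσ, dot_inv_left k X hd2, dot_ic_eq, neg_neg, hdegf]
  have hss : dot k X s s = -(n : ℤ) := by
    rw [hsσ, dot_inv_inv k X hd2, ← hσσ, intNum_eq_dot k X hd2 hIi hIi]; rfl
  have hff : dot k X f f = 0 := dot_f_f k hd2 π hπ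
  have hdegσ : ∀ c : Pic X, degOn k X σ c = dot k X s c := fun c => by
    rw [hsσ, dot_inv_left k X hd2, dot_ic_eq, neg_neg]
  have hsL : ∀ (a b : ℤ), dot k X s (s ^ a * f ^ b) = -(n : ℤ) * a + b := fun a b => by
    rw [dot_mul_right k X hd2, dot_zpow_right k X hd2, dot_zpow_right k X hd2, hss, hsf]; ring
  have hfL : ∀ (a b : ℤ), dot k X f (s ^ a * f ^ b) = a := fun a b => by
    rw [dot_mul_right k X hd2, dot_zpow_right k X hd2, dot_zpow_right k X hd2, dot_comm k X f s, hsf, hff]; ring
  have hOi : ∀ b : ℤ, PicF.IsInvertible ((Scheme.Modules.pullback π).obj (Twist.twistProjSpace 1 k b)) := fun b =>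
    isInvertible_pullback π (isInv k b)
  have hOb : ∀ b : ℤ, mk _ (hOi b) = f ^ b := fun b => by
    rw [← pull_mk π (isInv k b), mk_twist, map_zpow]
  have hOgg : ∀ b : ℤ, 0 ≤ b → Curv2.IsGloballyGenerated ((Scheme.Modules.pullback π).obj (Twist.twistProjSpace 1 k b)) :=
    fun b hb => Groth.Agent.VarietyB.GGStalk.isGloballyGenerated_pullback π _ (gg_twist k hb)
  have hNa : PicF.IsInvertible (CohB1.tensorPow N a) := isInvertible_tensorPow hNi a
  have hL := isInvertible_tensorMod hNa (hOi b)
  have hLc : mk _ hL = s ^ (a : ℤ) * f ^ b := by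
    rw [← mk_mul_mk hNa (hOi b), mk_tensorPow hNi a, hOb, zpow_natCast]
  -- nonnegativity of `f` on curves
  have hfnef : ∀ C : X.IdealSheafData, IsCurve C → 0 ≤ degOn k X C f := fun C hC' =>
    degOn_nonneg_of_gg k hC' (hOi 1) (hOgg 1 zero_le_one)
  have hdegC : ∀ C : X.IdealSheafData, IsCurve C → (n : ℤ) * a ≤ b → 0 ≤ degOn k X C (mk _ hL) := by
    intro C hC' hab
    rw [hLc]
    by_cases hne : C = σ
    · subst hne
      rw [hdegσ, hsL]; linarith
    · rw [degOn_mul k hC', degOn_zpow k hC', degOn_zpow k hC']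
      have h1 := degOn_ic_nonpos k hC' hσe (gp_notMem hC' hC hne)
      have h2 : 0 ≤ degOn k X C s := by rw [hsσ, degOn_inv k hC']; linarith
      have h3 := hfnef C hC'
      have h4 : (0 : ℤ) ≤ (n : ℤ) * a := by positivity
      have h5 : 0 ≤ b := h4.trans hab
      positivity
  refine ⟨⟨?_, ?_⟩, ⟨?_, ?_⟩, ⟨?_, ?_⟩⟩
  · intro h
    have h1 := h σ hσi hσd
    rw [← degOn_mk k X σ hL, hdegσ, hLc, hsL] at h1
    linarith
  · intro hab C hCi hCd
    exact hdegC C ⟨hCi, hCd⟩ hab
  · intro h
    have h1 := degOn_nonneg_of_gg k hC hL h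
    rw [hdegσ, hLc, hsL] at h1
    linarith
  · intro hab
    have hMi := isInvertible_tensorMod hNi (hOi n)
    have hMc : mk _ hMi = s ^ (1 : ℤ) * f ^ (n : ℤ) := by
      rw [← mk_mul_mk hNi (hOi n), hOb, zpow_one]
    -- the curve `σ` is rational
    have hH1O : Subsingleton (Coh.HH X (Coh.structureModule X) 1) := by
      have h1 := H1_twist k hd2 π hπ hfib (m := 0) le_rfl
      have h2 : mk _ (hOi 0) = mk (Coh.structureModule X) isInvertible_structureModule := by
        rw [hOb, zpow_zero]; rfl
      obtain ⟨e⟩ := (mk_eq_iff _ _).1 h2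
      exact Groth.Agent.Fga.HShift.subsingleton_of_iso e 1 h1
    have hH2 : Subsingleton (Coh.HH X (ClSub.idealMod σ) 2) := by
      refine H2_of_fdeg k hd2 π hπ hfib hIi ?_
      have h1 : dot k X f (ic σ hσe) = -1 := by
        have h2 : ic σ hσe = s⁻¹ := by rw [hsσ, inv_inv]
        rw [h2, dot_inv_right k X hd2, dot_comm, hsf]
      exact h1.ge
    have hg : Subsingleton (Coh.HH X (ClSub.quotMod σ) 1) :=
      Groth.Agent.Fga.HShift.subsingleton₃ (Groth.Agent.VarietyB.RestrSeq.idealSeq_shortExact σ) 1 hH1O hH2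
    have hMgg : Curv2.IsGloballyGenerated (CohB1.tensorMod N
        ((Scheme.Modules.pullback π).obj (Twist.twistProjSpace 1 k (n : ℤ)))) := by
      rw [gg_iff hMi]
      intro x
      by_cases hx : x ∈ σ.support
      · refine exists_gen_on_curve k hC hg hMi ?_ ?_ hx
        · have h1 := H1_twist k hd2 π hπ hfib (m := n) (by positivity)
          have h2 : mk _ (isInvertible_tensorMod hIi hMi) = mk _ (hOi n) := by
            rw [← mk_mul_mk hIi hMi, hMc, hOb]
            change ic σ hσe * _ = _
            rw [zpow_one, hsσ, mul_inv_cancel_left]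
          obtain ⟨e⟩ := (mk_eq_iff _ _).1 h2
          exact Groth.Agent.Fga.HShift.subsingleton_of_iso e.symm 1 h1
        · rw [hdegσ, hMc, hsL]; linarith
      · obtain ⟨t, ht⟩ := Groth.Agent.Surf.K460.DPGlob.exists_section_off hσe hNi hsσ hx
        obtain ⟨U, u, hxU, hu⟩ := exists_gen_of_mem t ht
        obtain ⟨V, v, hxV, hv⟩ := exists_gen_of_gg (hOi n) (hOgg n (by positivity)) x
        refine ⟨homOf (tmul u v), ?_⟩
        have h1 : U ⊓ V ≤ CohB1.genLocus _ (homOf (tmul u v)) := by
          rw [le_genLocus_iff, sec_homOf, res_tmul]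
          refine IsGen.tmul ?_ ?_
          · rw [← res_res _ le_top (inf_le_left : U ⊓ V ≤ U)]; exact hu.res _
          · rw [← res_res _ le_top (inf_le_right : U ⊓ V ≤ V)]; exact hv.res _
        exact h1 ⟨hxU, hxV⟩
    have hMa := isInvertible_tensorPow hMi a
    have h1 := gg_tensor_gg hMa (hOi (b - n * a)) (gg_tensorPow hMi hMgg a) (hOgg _ (by linarith))
    have h2 : mk _ (isInvertible_tensorMod hMa (hOi (b - n * a))) = mk _ hL := by
      rw [← mk_mul_mk hMa (hOi (b - n * a)), mk_tensorPow hMi a, hOb, hMc, hLc, zpow_one, mul_pow, mul_assoc,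
        ← zpow_natCast s a, ← zpow_natCast (f ^ (n : ℤ)) a, ← zpow_mul, ← zpow_add]
      congr 2
      ring
    obtain ⟨e⟩ := (mk_eq_iff _ _).1 h2
    exact Groth.Agent.Ega2.GlobGenCrit.isGloballyGenerated_of_iso e h1
  · intro hnt
    obtain ⟨t, ht⟩ := K456.SecTriv.exists_ne_zero_of_nontrivial hnt
    obtain ⟨D, hD, hDc⟩ := K465.Eff.exists_eff' hL t ht
    rw [hLc] at hDc
    -- removing the negative curve
    have hrem : ∀ (c : Pic X) (D : X.IdealSheafData) (hD : BlowUp.IsEffCartierIdeal D), c = (ic D hD)⁻¹ →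
        dot k X s c < 0 → ∃ (D' : X.IdealSheafData) (hD' : BlowUp.IsEffCartierIdeal D'), c * s⁻¹ = (ic D' hD')⁻¹ := by
      intro c D hD hc hneg
      have hgp : gp hC ∈ D.support := by
        by_contra hcon
        have h1 := degOn_ic_nonpos k hC hD hcon
        rw [hdegσ] at h1
        rw [hc, dot_inv_right k X hd2] at hneg
        linarith
      obtain ⟨J, hJ, hmul⟩ := Groth.Agent.Divis.ColonIdeal.exists_mul_eq hσe hD ((le_iff_gp_mem hC D).2 hgp)
      refine ⟨J, hJ, ?_⟩
      have h1 : ic D hD = ic σ hσe * ic J hJ := by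
        rw [← ic_mul hσe hJ]; exact ic_congr _ _ hmul.symm
      rw [hc, h1, hsσ, inv_inv, mul_inv, mul_comm, ← mul_assoc, mul_inv_cancel, one_mul]
    by_contra hb
    push Not at hb
    have key : ∀ (m : ℕ) (D : X.IdealSheafData) (hD : BlowUp.IsEffCartierIdeal D),
        s ^ (m : ℤ) * f ^ b = (ic D hD)⁻¹ → False := by
      intro m
      induction m with
      | zero =>
        intro D hD hc
        obtain ⟨D', hD', h1⟩ := hrem _ D hD hc (by rw [hsL]; simpa using hb)
        have h2 : dot k X f ((ic D' hD')⁻¹) = -1 := by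
          rw [← h1]
          have h3 : s ^ ((0 : ℕ) : ℤ) * f ^ b * s⁻¹ = s ^ (-1 : ℤ) * f ^ b := by
            rw [Nat.cast_zero, zpow_zero, one_mul, zpow_neg_one, mul_comm]
          rw [h3, hfL]
        have h4 := K464.Comp.degOn_nonneg_of_forall k hdim hfnef hD'
        rw [degOn_eq_neg_dot k X hD', dot_comm] at h4
        rw [dot_inv_right k X hd2] at h2
        linarith
      | succ m ih =>
        intro D hD hc
        have hneg : dot k X s (s ^ ((m + 1 : ℕ) : ℤ) * f ^ b) < 0 := by
          rw [hsL]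
          have h4 : (0 : ℤ) ≤ (n : ℤ) * ((m + 1 : ℕ) : ℤ) := by positivity
          linarith
        obtain ⟨D', hD', h1⟩ := hrem _ D hD hc hneg
        refine ih D' hD' ?_
        rw [← h1, Nat.cast_succ, zpow_add_one]
        rw [mul_assoc, mul_assoc, mul_comm (f ^ b) s⁻¹, ← mul_assoc s s⁻¹, mul_inv_cancel, one_mul]
    exact key a D hD hDc
  · intro hb
    obtain ⟨t, ht⟩ := exists_section_of_gg (hOi b) (hOgg b hb)
    obtain ⟨u, hu⟩ := exists_section_of_eff hσe hNi hsσ
    obtain ⟨v, hv⟩ := K456.SecTriv.exists_ne_zero_tensorPow hNi hu a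
    exact K456.SecTriv.nontrivial_of_ne_zero (K456.SecTriv.tmul_ne_zero hNa (hOi b) hv ht)

end Groth.Agent.S18459
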