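import Groth.Statements.S18460
import Groth.Agent.Surf.K464.LocalNeg

set_option autoImplicit false
universe u
open CategoryTheory CategoryTheory.Limits AlgebraicGeometry TopologicalSpace
open Surf

namespace Groth.Agent.S18460

open K464.Base K464.Curves K464.DivLat K464.NegDef K464.Comp K464.LocalNeg Groth.Agent.Grpsch.PicGrp Groth.Agent.Dix.IdealModCartier

/-- Let k be an algebraically closed field of characteristic zero and X a smooth projective surface over
k (integral, proper and smooth over k, of dimension 2). Let Y be an integral normal scheme of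
dimension 2, locally of finite type over k, y a closed point of Y, and π : X → Y a proper k-morphism
which restricts to an isomorphism over Y ∖ {y} and whose fibre over y is, as a set, the union of
pairwise distinct integral curves C_1, …, C_r on X (r ≥ 1, ideal sheaves I_i), this union being
connected; so π contracts the connected curve C = ⋃ C_i to the normal point y. Then the intersection
matrix of the C_i is negative definite: Σ_{i,j} a_i a_j (I_i·I_j) < 0 for every nonzero integer
vector a, where (A·B) = χ(O_X) − χ(A) − χ(B) + χ(A ⊗ B). The published statement is about a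
holomorphic contraction of a compact connected curve in a complex surface to a point of a normal
analytic surface; this row is the algebraic case, with Y locally of finite type so that the local
ring at y is a two-dimensional Noetherian normal domain and a nonzero function vanishing at y cuts
out a curve through y, which is what the printed argument (pull back such a function and apply the
formal negativity lemma proved there) uses. -/
theorem result (k : Type u) [Field k] [IsAlgClosed k] [CharZero k]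
    (X : Scheme.{u}) [X.Over (Spec (CommRingCat.of k))] [IsProper (X ↘ (Spec (CommRingCat.of k)))]
    [Smooth (X ↘ (Spec (CommRingCat.of k)))] [IsIntegral X] (hdim : topologicalKrullDim X = 2)
    (Y : Scheme.{u}) [Y.Over (Spec (CommRingCat.of k))] [IsIntegral Y] (hYn : Pi1.IsNormalScheme Y)
    (hYd : topologicalKrullDim Y = 2)
    [LocallyOfFiniteType (Y ↘ (Spec (CommRingCat.of k)))]
    (π : X ⟶ Y) (hπk : π ≫ (Y ↘ (Spec (CommRingCat.of k))) = (X ↘ (Spec (CommRingCat.of k)))) [IsProper π]
    (y : Y) (hy : IsClosed ({y} : Set Y)) (hiso : IsIso (π ∣_ (⟨({y} : Set Y)ᶜ, hy.isOpen_compl⟩ : Y.Opens)))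
    (r : ℕ) (hr : 0 < r) (C : Fin r → X.IdealSheafData) (hC : Function.Injective C)
    (hCi : ∀ i, IsIntegral (C i).subscheme) (hCd : ∀ i, topologicalKrullDim ((C i).support : Set X) = 1)
    (hfib : (π.base : X → Y) ⁻¹' {y} = ⋃ i, ((C i).support : Set X))
    (hconn : _root_.IsConnected (⋃ i, ((C i).support : Set X))) :
    ∀ a : Fin r → ℤ, a ≠ 0 →
      ∑ i, ∑ j, a i * a j * FGA.intNum k X 2 ![(ClSub.idealMod (C i)), (ClSub.idealMod (C j))] (Coh.structureModule X) < 0 := by
  have hdim' : topologicalKrullDim X ≤ (2 : ℕ) := hdim.le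
  have hCu : ∀ i, IsCurve (C i) := fun i => ⟨hCi i, hCd i⟩
  have hE : ∀ i, BlowUp.IsEffCartierIdeal (C i) := fun i => isEff_of_smooth k hdim (hCu i)
  have hNX : IsLocallyNoetherian X := LocallyOfFiniteType.isLocallyNoetherian (X ↘ (Spec (CommRingCat.of k)))
  simp only [gram_eq_intNum k hE hdim']
  have hconn' := isConn_of_isPreconnected k hE hCu hC hconn.isPreconnected
  change IsNegDef (gram k hE)
  -- the fibre
  have hfibre : ∀ x : X, π x = y ↔ ∃ i, x ∈ (C i).support := by
    intro x
    have h1 : x ∈ (π.base : X → Y) ⁻¹' {y} ↔ x ∈ ⋃ i, ((C i).support : Set X) := by rw [hfib]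
    rw [Set.mem_iUnion] at h1
    exact h1
  have hsurj : ∀ y' : Y, y' ≠ y → ∃ x : X, π x = y' := by
    intro y' hy'
    let W : Y.Opens := ⟨({y} : Set Y)ᶜ, hy.isOpen_compl⟩
    have h1 : Function.Surjective (π ∣_ W) := (π ∣_ W).surjective
    obtain ⟨x, hx⟩ := h1 ⟨y', hy'⟩
    refine ⟨(π ⁻¹ᵁ W).ι x, ?_⟩
    have h2 : ((π ∣_ W) ≫ W.ι) x = ((π ⁻¹ᵁ W).ι ≫ π) x := by rw [morphismRestrict_ι]
    rw [Scheme.Hom.comp_apply, Scheme.Hom.comp_apply, hx] at h2
    exact h2.symm
  -- the local ring at `y` has dimension two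
  have hdimy : ringKrullDim (Y.presheaf.stalk y) = 2 := by
    obtain ⟨a, t, n, h1, -, h3, h4, h5⟩ := Groth.Agent.CycA.IntLocal.exists_dims (Y ↘ (Spec (CommRingCat.of k))) y
    rw [hy.closure_eq] at h3
    have h6 : topologicalKrullDim ({y} : Set Y) ≤ 0 := topologicalKrullDim_zero_of_discreteTopology _
    rw [h3] at h6
    rw [hYd] at h4
    have ht : t = 0 := by
      have : (t : WithBot ℕ∞) ≤ ((0 : ℕ) : WithBot ℕ∞) := by simpa using h6
      exact Nat.le_zero.1 (by exact_mod_cast this)
    have hn : n = 2 := by exact_mod_cast h4.symm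
    have ha : a = 2 := by omega
    rw [h1, ha]; rfl
  -- an intermediate prime
  obtain ⟨q, hq1, hq2⟩ : ∃ q : PrimeSpectrum (Y.presheaf.stalk y), q.asIdeal ≠ ⊥ ∧
      q ≠ IsLocalRing.closedPoint (Y.presheaf.stalk y) := by
    have h1 : ((2 : ℕ) : WithBot ℕ∞) ≤ Order.krullDim (PrimeSpectrum (Y.presheaf.stalk y)) := by
      have : Order.krullDim (PrimeSpectrum (Y.presheaf.stalk y)) = 2 := hdimy
      rw [this]; rfl
    obtain ⟨l, hl⟩ := Order.le_krullDim_iff.1 h1
    have h2 : l ⟨0, by omega⟩ < l ⟨1, by omega⟩ := l.strictMono (by rw [Fin.lt_def]; norm_num)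
    have h3 : l ⟨1, by omega⟩ < l ⟨2, by omega⟩ := l.strictMono (by simp [Fin.lt_def])
    refine ⟨l ⟨1, by omega⟩, fun h => ?_, fun h => ?_⟩
    · have h4 : (l ⟨0, by omega⟩).asIdeal < (l ⟨1, by omega⟩).asIdeal := h2
      rw [h] at h4
      exact not_lt_bot h4
    · rw [h] at h3
      exact absurd (IsLocalRing.le_maximalIdeal (l ⟨2, by omega⟩).isPrime.ne_top) (not_le_of_gt h3)
  obtain ⟨g, hgq, hg0⟩ := Submodule.exists_mem_ne_zero_of_ne_bot hq1
  obtain ⟨U, hyU, f, hf⟩ := Y.presheaf.exists_germ_eq g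
  -- vanishing of `f`
  have hfy : y ∉ Y.basicOpen f := by
    rw [Scheme.mem_basicOpen _ _ _ hyU, hf]
    intro hu
    exact q.isPrime.ne_top (Ideal.eq_top_of_isUnit_mem _ hgq hu)
  set η : Y := Y.fromSpecStalk y q with hη
  have hηy : η ⤳ y := by
    have h1 : η ∈ Set.range (Y.fromSpecStalk y) := ⟨q, rfl⟩
    rw [Scheme.range_fromSpecStalk] at h1
    exact h1
  have hηU : η ∈ U := hηy.mem_open U.2 hyU
  have hηne : η ≠ y := by
    intro h
    apply hq2
    apply (Y.fromSpecStalk y).isEmbedding.injective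
    rw [Scheme.fromSpecStalk_closedPoint]
    exact h
  have hfη : η ∉ Y.basicOpen f := (notMem_basicOpen_of_germ_mem U f y hyU q (by rw [hf]; exact hgq)).2
  have hf0 : f ≠ 0 := by
    rintro rfl
    rw [map_zero] at hf
    exact hg0 hf.symm
  -- the point over the generic point of `Y`
  obtain ⟨x₀, hx₀⟩ := hsurj (genericPoint Y) (by
    intro h
    apply hηne
    have h1 : genericPoint Y ⤳ η := genericPoint_specializes η
    rw [h] at h1
    exact (h1.antisymm hηy).eq.symm)
  have : Nonempty U := ⟨⟨y, hyU⟩⟩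
  have hx₀f : genericPoint Y ∈ Y.basicOpen f := genericPoint_mem_basicOpen hf0
  set V : X.Opens := π ⁻¹ᵁ U with hVdef
  have hx₀V : x₀ ∈ V := by
    change π x₀ ∈ U
    rw [hx₀]; exact Y.basicOpen_le f hx₀f
  have : Nonempty V := ⟨⟨x₀, hx₀V⟩⟩
  have hVC : ∀ i, ((C i).support : Set X) ⊆ V := fun i x hx => by
    change π x ∈ U
    rw [(hfibre x).2 ⟨i, hx⟩]; exact hyU
  set a : Γ(V.toScheme, ⊤) := (V.ι ≫ π).appLE U ⊤ (fun v _ => v.2) f with ha
  have hmem : ∀ v : V.toScheme, v ∈ V.toScheme.basicOpen a ↔ π (V.ι v) ∈ Y.basicOpen f := by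
    intro v
    have h1 := Scheme.basicOpen_appLE (V.ι ≫ π) ⊤ U (fun v _ => v.2) f
    change v ∈ V.toScheme.basicOpen ((V.ι ≫ π).appLE U ⊤ (fun v _ => v.2) f) ↔ _
    rw [h1]
    constructor
    · intro h; exact h.2
    · intro h; exact ⟨trivial, h⟩
  refine negDef_of_local k hE hCu hC V hVC hconn' a ?_ ?_ ?_
  · intro h0
    have h1 : (⟨x₀, hx₀V⟩ : V.toScheme) ∈ V.toScheme.basicOpen a := by
      refine (hmem _).2 ?_
      change π x₀ ∈ _
      rw [hx₀]; exact hx₀f
    rw [h0, Scheme.basicOpen_zero] at h1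
    exact h1
  · intro i v hv h
    have h3 := (hmem _).1 h
    rw [hv, (hfibre _).2 ⟨i, gp_mem (hCu i)⟩] at h3
    exact hfy h3
  · obtain ⟨x₁, hx₁⟩ := hsurj η hηne
    have h1 : IsClosed (π '' closure {x₁}) := π.isClosedMap _ isClosed_closure
    have h2 : y ∈ π '' closure {x₁} := hηy.mem_closed h1 ⟨x₁, subset_closure rfl, hx₁⟩
    obtain ⟨x₂, hx₂, hx₂y⟩ := h2
    obtain ⟨j, hj⟩ := (hfibre x₂).1 hx₂y
    refine ⟨j, ⟨x₁, by change π x₁ ∈ U; rw [hx₁]; exact hηU⟩, ⟨x₂, hVC j hj⟩, ?_, ?_, ?_, hj⟩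
    · intro h
      have h3 := (hmem _).1 h
      change π x₁ ∈ _ at h3
      rw [hx₁] at h3; exact hfη h3
    · intro i hi
      apply hηne
      rw [← hx₁]
      exact (hfibre x₁).2 ⟨i, hi⟩
    · exact V.ι.isOpenEmbedding.isInducing.specializes_iff.1 (specializes_iff_mem_closure.2 hx₂)

end Groth.Agent.S18460
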