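import Groth.Statements.S18461
import Groth.Agent.Surf.K464.RatConf

set_option autoImplicit false
universe u
open CategoryTheory CategoryTheory.Limits AlgebraicGeometry TopologicalSpace
open Surf

namespace Groth.Agent.S18461

open K464.Base K464.Curves K464.DivLat K464.NegDef K464.Comp K464.Cohom K464.RatConf Groth.Agent.Grpsch.PicGrp Groth.Agent.Dix.IdealModCartier

/-- Let k be an algebraically closed field of characteristic zero and X a smooth projective surface over
k (integral, proper and smooth over k, of dimension 2). Let C_1, …, C_r (r ≥ 1) be pairwise distinct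
integral curves on X, with ideal sheaves I_i, forming a connected configuration with negative
definite intersection matrix (no partition of the indices into two nonempty sets with (I_i·I_j) = 0
across; Σ a_i a_j (I_i·I_j) < 0 for every nonzero integer vector a; (A·B) = χ(O_X) − χ(A) − χ(B) +
χ(A ⊗ B)), and let Z₀ be a fundamental cycle: a nonzero effective Cartier divisor supported on ⋃ C_i
with deg(I_{Z₀}|_{C_i}) = χ(O_{C_i} ⊗ I_{Z₀}) − χ(O_{C_i}) ≥ 0 for all i, every other such divisor Z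
satisfying Z ≥ Z₀ (I_Z ⊆ I_{Z₀}). Suppose the configuration is rational in the sense that H¹(Z, O_Z)
= 0 for every nonzero effective Cartier divisor Z supported on ⋃ C_i. Then for every natural number
N, writing O_{Z₀}(−NZ₀) = O_{Z₀} ⊗ I_{Z₀}^{⊗N}: H¹(Z₀, O_{Z₀}(−NZ₀)) = 0 and dim_k H⁰(Z₀,
O_{Z₀}(−NZ₀)) = −N·(I_{Z₀}·I_{Z₀}) + 1, that is −N·Z₀² + 1; cohomology is computed on X through the
direct image of O_{Z₀}. The published statement assumes the singularity obtained by contracting the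
configuration over the complex numbers rational, which is equivalent to the vanishing assumed here,
and also asserts R¹π_*O_X(−NZ₀) = 0 for the contraction π and two facts on the maximal ideal of that
singularity; those are not restated. -/
theorem result (k : Type u) [Field k] [IsAlgClosed k] [CharZero k]
    (X : Scheme.{u}) [X.Over (Spec (CommRingCat.of k))] [IsProper (X ↘ (Spec (CommRingCat.of k)))]
    [Smooth (X ↘ (Spec (CommRingCat.of k)))] [IsIntegral X] (hdim : topologicalKrullDim X = 2)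
    (r : ℕ) (hr : 0 < r) (C : Fin r → X.IdealSheafData) (hC : Function.Injective C)
    (hCi : ∀ i, IsIntegral (C i).subscheme) (hCd : ∀ i, topologicalKrullDim ((C i).support : Set X) = 1)
    (hconn : ∀ S : Finset (Fin r), S.Nonempty → Sᶜ.Nonempty →
      ∃ i ∈ S, ∃ j ∈ Sᶜ, FGA.intNum k X 2 ![(ClSub.idealMod (C i)), (ClSub.idealMod (C j))] (Coh.structureModule X) ≠ 0)
    (hneg : ∀ a : Fin r → ℤ, a ≠ 0 →
      ∑ i, ∑ j, a i * a j * FGA.intNum k X 2 ![(ClSub.idealMod (C i)), (ClSub.idealMod (C j))] (Coh.structureModule X) < 0)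
    (Z₀ : X.IdealSheafData) (hZ₀ : FGA.IsEffCartier Z₀) (hZ₀0 : Z₀ ≠ ⊤)
    (hZ₀s : (Z₀.support : Set X) ⊆ ⋃ i, ((C i).support : Set X))
    (hZ₀C : ∀ i, 0 ≤ Curv2.euler k X (CohB1.tensorMod (ClSub.quotMod (C i)) (ClSub.idealMod Z₀)) -
      Curv2.euler k X (ClSub.quotMod (C i)))
    (hZ₀min : ∀ Z : X.IdealSheafData, FGA.IsEffCartier Z → Z ≠ ⊤ → (Z.support : Set X) ⊆ ⋃ i, ((C i).support : Set X) →
      (∀ i, 0 ≤ Curv2.euler k X (CohB1.tensorMod (ClSub.quotMod (C i)) (ClSub.idealMod Z)) -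
        Curv2.euler k X (ClSub.quotMod (C i))) → Z ≤ Z₀)
    (hrat : ∀ Z : X.IdealSheafData, FGA.IsEffCartier Z → Z ≠ ⊤ → (Z.support : Set X) ⊆ ⋃ i, ((C i).support : Set X) →
      Subsingleton (Coh.HH X (ClSub.quotMod Z) 1))
    (N : ℕ) :
    Subsingleton (Coh.HH X (CohB1.tensorMod (ClSub.quotMod Z₀) (CohB1.tensorPow (ClSub.idealMod Z₀) N)) 1) ∧
      (Module.finrank k (Coh.HH X (CohB1.tensorMod (ClSub.quotMod Z₀) (CohB1.tensorPow (ClSub.idealMod Z₀) N)) 0) : ℤ) =
        -(N : ℤ) * FGA.intNum k X 2 ![(ClSub.idealMod Z₀), (ClSub.idealMod Z₀)] (Coh.structureModule X) + 1 := by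
  have hdim' : topologicalKrullDim X ≤ (2 : ℕ) := hdim.le
  have hCu : ∀ i, IsCurve (C i) := fun i => ⟨hCi i, hCd i⟩
  have hE : ∀ i, BlowUp.IsEffCartierIdeal (C i) := fun i => isEff_of_smooth k hdim (hCu i)
  have : IsNoetherian X := Groth.Agent.CurvesB.CurveRR.isNoetherian_of_proper k X
  simp only [gram_eq_intNum k hE hdim'] at hneg hconn
  obtain ⟨z₀, rfl, hchain, hpos, hrow⟩ := exists_fundamental k hE hCu hC hdim' ⟨0, hr⟩ hconn hZ₀ hZ₀0 hZ₀s hZ₀C
    (fun Z hZ h1 h2 h3 => hZ₀min Z hZ h1 h2 h3)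
  have hmain := chain_main k hE hCu hdim' z₀ hchain
  have h1 := hrat _ hZ₀ hZ₀0 hZ₀s
  have h2 : topologicalKrullDim ((cyc C z₀).support : Set X) ≤ 1 := dim_support_cyc hCu z₀
  have h3 := euler_quot_eq k (cyc C z₀) h2
  rw [Module.finrank_zero_of_subsingleton (M := Coh.HH X (ClSub.quotMod (cyc C z₀)) 1)] at h3
  have h4 := one_le_h0 k hZ₀0
  have hchi : Curv2.euler k X (ClSub.quotMod (cyc C z₀)) = 1 := by
    have h5 := hmain.1
    push_cast at h3
    have h6 : (1 : ℤ) ≤ Module.finrank k (Coh.HH X (ClSub.quotMod (cyc C z₀)) 0) := by exact_mod_cast h4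
    linarith
  have hI : PicF.IsInvertible (ClSub.idealMod (cyc C z₀)) := isInvertible_idealMod hZ₀
  have hIN : PicF.IsInvertible (CohB1.tensorPow (ClSub.idealMod (cyc C z₀)) N) :=
    Groth.Agent.Fdesc.LocGen.isInvertible_tensorPow hI N
  have hmk : mk _ hIN = ic (cyc C z₀) hZ₀ ^ N := mk_tensorPow hI N
  have hdegN : ∀ i, 0 ≤ degOn k X (C i) (mk _ hIN) := by
    intro i
    rw [hmk, degOn_pow k (hCu i)]
    exact mul_nonneg (by positivity) (hZ₀C i)
  have hsub := hmain.2 hchi _ hIN hdegN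
  refine ⟨hsub, ?_⟩
  have h7 := euler_quot_tensor_eq k (cyc C z₀) h2 hIN
  rw [Module.finrank_zero_of_subsingleton (M := Coh.HH X (CohB1.tensorMod (ClSub.quotMod (cyc C z₀))
    (CohB1.tensorPow (ClSub.idealMod (cyc C z₀)) N)) 1)] at h7
  have h8 := degOn_mk k X (cyc C z₀) hIN
  rw [hmk, degOn_eq_neg_dot k X hZ₀, dot_pow_right k X hdim', hchi] at h8
  have h9 : FGA.intNum k X 2 ![(ClSub.idealMod (cyc C z₀)), (ClSub.idealMod (cyc C z₀))] (Coh.structureModule X) =
      dot k X (ic (cyc C z₀) hZ₀) (ic (cyc C z₀) hZ₀) := intNum_eq_dot k X hdim' hI hI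
  rw [h9]
  push_cast at h7
  linarith

end Groth.Agent.S18461
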