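import Groth.Statements.S18463
import Groth.Agent.Surf.K464.NegDef
import Groth.Agent.Surf.K464.Comp

set_option autoImplicit false
universe u
open CategoryTheory CategoryTheory.Limits AlgebraicGeometry TopologicalSpace
open Surf

namespace Groth.Agent.S18463

open K464.Base K464.Curves K464.DivLat K464.NegDef K464.Comp Groth.Agent.Grpsch.PicGrp Groth.Agent.Dix.IdealModCartier

/-- Let k be an algebraically closed field of characteristic zero and X a smooth projective surface over
k (integral, proper and smooth over k, of dimension 2, carrying an ample invertible module). Let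
C_1, …, C_r be pairwise distinct integral curves on X with ideal sheaves I_i and negative definite
intersection matrix (Σ_{i,j} a_i a_j (I_i·I_j) < 0 for every nonzero integer vector a, where (A·B) =
χ(O_X) − χ(A) − χ(B) + χ(A ⊗ B)), let F be an effective Cartier divisor on X, with ideal I_F, none
of whose components is a C_i, and let s_1, …, s_r be integers such that F is numerically equivalent
to Σ_i s_i C_i: (I_F·M) = Σ_i s_i (I_i·M) for every invertible O_X-module M (equivalently (F·D) = Σ
s_i (C_i·D) for every divisor D). Then F = 0, i.e. I_F = O_X, and every s_i is 0. The published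
statement writes the hypothesis as [F] + Σ s_i[C_i] = 0 with real s_i; this row writes F ≡ Σ s_i C_i
with integer s_i, which is the same after changing the signs of the s_i. -/
theorem result (k : Type u) [Field k] [IsAlgClosed k] [CharZero k]
    (X : Scheme.{u}) [X.Over (Spec (CommRingCat.of k))] [IsProper (X ↘ (Spec (CommRingCat.of k)))]
    [Smooth (X ↘ (Spec (CommRingCat.of k)))] [IsIntegral X] (hdim : topologicalKrullDim X = 2)
    (hproj : ∃ H : X.Modules, CohB1.IsAmple H)
    (r : ℕ) (C : Fin r → X.IdealSheafData) (hC : Function.Injective C)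
    (hCi : ∀ i, IsIntegral (C i).subscheme) (hCd : ∀ i, topologicalKrullDim ((C i).support : Set X) = 1)
    (hneg : ∀ a : Fin r → ℤ, a ≠ 0 →
      ∑ i, ∑ j, a i * a j * FGA.intNum k X 2 ![(ClSub.idealMod (C i)), (ClSub.idealMod (C j))] (Coh.structureModule X) < 0)
    (F : X.IdealSheafData) (hF : FGA.IsEffCartier F) (hFC : ∀ i, ¬ ((C i).support : Set X) ⊆ (F.support : Set X))
    (s : Fin r → ℤ)
    (hnum : ∀ M : X.Modules, PicF.IsInvertible M →
      FGA.intNum k X 2 ![(ClSub.idealMod F), M] (Coh.structureModule X) =
        ∑ i, s i * FGA.intNum k X 2 ![(ClSub.idealMod (C i)), M] (Coh.structureModule X)) :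
    F = ⊤ ∧ ∀ i, s i = 0 := by
  have hdim' : topologicalKrullDim X ≤ (2 : ℕ) := hdim.le
  have hCu : ∀ i, IsCurve (C i) := fun i => ⟨hCi i, hCd i⟩
  have hE : ∀ i, BlowUp.IsEffCartierIdeal (C i) := fun i => isEff_of_smooth k hdim (hCu i)
  have hFE : BlowUp.IsEffCartierIdeal F := hF
  -- in terms of degrees
  have hdeg : ∀ (M : X.Modules) (hM : PicF.IsInvertible M),
      degOn k X F (mk M hM) = ∑ i, s i * degOn k X (C i) (mk M hM) := by
    intro M hM
    have h1 := hnum M hM
    simp only [intNum_idealMod_mk k X hdim' _ hM] at h1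
    rw [← neg_inj, h1, ← Finset.sum_neg_distrib]
    exact Finset.sum_congr rfl fun i _ => by ring
  simp only [gram_eq_intNum k hE hdim'] at hneg
  have hs : ∀ i, s i ≤ 0 := by
    intro i
    have h2 := nonneg_of_row_nonpos (G := gram k hE) (fun i j => gram_nonneg k hE hCu hC i j) hneg (fun i => - s i)
      (fun j => ?_) i
    · linarith
    · have h3 := hdeg _ (isInvertible_idealMod (hE j))
      have h4 : 0 ≤ - degOn k X F (ic (C j) (hE j)) := by
        rw [← dot_ic_eq k X hFE, dot_comm, dot_ic_eq]
        have := degOn_ic_nonpos k (hCu j) hFE (fun h => hFC j ((support_subset_iff (hCu j) F).2 h))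
        linarith
      have h5 : degOn k X F (ic (C j) (hE j)) = ∑ i, - s i * gram k hE i j := by
        rw [ic, h3]
        refine Finset.sum_congr rfl fun i _ => ?_
        change s i * degOn k X (C i) (ic (C j) (hE j)) = _
        rw [degOn_ic_eq_neg_gram k hE]; ring
      rw [← h5]; linarith
  obtain ⟨H, hHamp⟩ := hproj
  have hH : PicF.IsInvertible H := hHamp.1
  have h6 := hdeg H hH
  have h7 : ∀ i, 0 < degOn k X (C i) (mk H hH) := fun i => degOn_pos_of_ample k (hCu i) hH hHamp
  have h8 : ∀ i, s i * degOn k X (C i) (mk H hH) ≤ 0 := fun i =>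
    mul_nonpos_of_nonpos_of_nonneg (hs i) (h7 i).le
  have hFtop : F = ⊤ := by
    by_contra hne
    have h9 := degOn_pos_of_ample_eff k hdim hH hHamp hFE hne
    rw [h6] at h9
    exact absurd h9 (not_lt.2 (Finset.sum_nonpos fun i _ => h8 i))
  refine ⟨hFtop, fun i => ?_⟩
  rw [hFtop, degOn_top] at h6
  have h9 := (Finset.sum_eq_zero_iff_of_nonpos fun i _ => h8 i).1 h6.symm i (Finset.mem_univ i)
  rcases mul_eq_zero.1 h9 with h | h
  · exact h
  · exact absurd h (h7 i).ne'

end Groth.Agent.S18463
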