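import Groth.Statements.S18465
import Mathlib.Tactic

set_option autoImplicit false
universe u v w x
open WildLef

namespace Groth.Agent.S18465

/-- Let f : G₁ → G₂ be a homomorphism of groups, ρ : G₂ → Γ a homomorphism with finite image G, and A a
nontrivial commutative ring. Let G₂ act on the group algebra A[G] through ρ followed by the left
regular representation, and G₁ through f. If the elements of A[G] fixed by G₁ coincide with those
fixed by G₂, then ρ ∘ f and ρ have the same image. (The published statement has Γ a general linear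
group GL_r(A); over the zero ring that group is trivial, so requiring A nontrivial and allowing any
target group loses nothing.) -/
theorem result
    {G₁ : Type u} {G₂ : Type v} {Γ : Type w} [Group G₁] [Group G₂] [Group Γ]
    (f : G₁ →* G₂) (ρ : G₂ →* Γ) [Finite ρ.range] (A : Type x) [CommRing A] [Nontrivial A]
    (h : {x : MonoidAlgebra A ρ.range | ∀ g : G₁, MonoidAlgebra.of A ρ.range (ρ.rangeRestrict (f g)) * x = x} =
      {x : MonoidAlgebra A ρ.range | ∀ g : G₂, MonoidAlgebra.of A ρ.range (ρ.rangeRestrict g) * x = x}) :
    (ρ.comp f).range = ρ.range := by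
  classical
  apply le_antisymm
  · rintro _ ⟨g, rfl⟩
    exact ⟨f g, rfl⟩
  · rintro _ ⟨g, rfl⟩
    -- the image of `G₁` in the finite group `G = ρ.range`
    let H : Subgroup ρ.range := (ρ.rangeRestrict.comp f).range
    let x : MonoidAlgebra A ρ.range :=
      MonoidAlgebra.ofCoeff (Finsupp.equivFunOnFinite.symm fun h => if h ∈ H then (1 : A) else 0)
    have hxc : ∀ h, x.coeff h = if h ∈ H then (1 : A) else 0 := fun h => rfl
    have hmul : ∀ (t h : ρ.range), (MonoidAlgebra.of A ρ.range t * x).coeff h = x.coeff (t⁻¹ * h) := by
      intro t h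
      rw [MonoidAlgebra.of_apply, MonoidAlgebra.coeff_single_mul_eq_mul_coeff (t⁻¹ * h), one_mul]
      intro m' _
      constructor
      · rintro rfl
        group
      · rintro rfl
        group
    have hx1 : x ∈ {x : MonoidAlgebra A ρ.range |
        ∀ g : G₁, MonoidAlgebra.of A ρ.range (ρ.rangeRestrict (f g)) * x = x} := by
      intro g₁
      apply MonoidAlgebra.coeff_injective
      ext h
      rw [hmul, hxc, hxc]
      have hmem : ρ.rangeRestrict (f g₁) ∈ H := ⟨g₁, rfl⟩
      have : (ρ.rangeRestrict (f g₁))⁻¹ * h ∈ H ↔ h ∈ H :=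
        H.mul_mem_cancel_left (H.inv_mem hmem)
      simp only [this]
    rw [h] at hx1
    have h2 := congrArg (fun y => y.coeff (ρ.rangeRestrict g)) (hx1 g)
    rw [hmul, hxc, hxc, inv_mul_cancel, if_pos H.one_mem] at h2
    have h3 : ρ.rangeRestrict g ∈ H := by
      by_contra hcon
      rw [if_neg hcon] at h2
      exact one_ne_zero h2
    obtain ⟨g₁, hg₁⟩ := h3
    refine ⟨g₁, ?_⟩
    have := congrArg Subtype.val hg₁
    exact this

end Groth.Agent.S18465
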