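import Groth.Statements.S18466
import Groth.Agent.Hopf.K503.ConstChar
import Mathlib.RingTheory.RootsOfUnity.PrimitiveRoots

set_option autoImplicit false
universe u
open Hopf

namespace Groth.Agent.S18466

/-- Let k be a field and n ≥ 1. The constant group scheme ℤ/n over k is self-dual, that is, isomorphic
to its Cartier dual μ_n — equivalently the Hopf algebra of k-valued functions on the cyclic group of
order n and the group algebra of that group over k (group elements group-like) are isomorphic as
bialgebras — precisely when the field k has a primitive n-th root of unity, i.e. k contains n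
distinct n-th roots of unity in k. (The published statement assumes that the characteristic of k
does not divide n; both directions hold without that assumption by the same argument, since a
primitive n-th root of unity forces n to be nonzero in k, so it is omitted here.) -/
theorem result
    (k : Type u) [Field k] (n : ℕ) [NeZero n] :
    Nonempty (ConstGrp.F k (Multiplicative (ZMod n)) ≃ₐc[k] MonoidAlgebra k (Multiplicative (ZMod n))) ↔
      ∃ ζ : k, IsPrimitiveRoot ζ n := by
  classical
  let C := Multiplicative (ZMod n)
  have hcardC : Fintype.card C = n := by
    rw [Fintype.card_multiplicative, ZMod.card]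
  constructor
  · rintro ⟨E⟩
    -- n distinct algebra maps from the group algebra to k
    let c : C → (MonoidAlgebra k C →ₐ[k] k) := fun g =>
      (ConstGrp.ev k g).comp (E.symm : MonoidAlgebra k C →ₐ[k] _)
    have hc : Function.Injective c := by
      intro g g' h
      by_contra hne
      have h1 := congrArg (fun φ : MonoidAlgebra k C →ₐ[k] k => φ (E (ConstGrp.e k g))) h
      have h2 : ∀ h, c h (E (ConstGrp.e k g)) = ConstGrp.e k g h := by
        intro h
        change (E.symm (E (ConstGrp.e k g))) h = _
        rw [BialgEquiv.symm_apply_apply]
      simp only [h2] at h1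
      rw [ConstGrp.e_apply_self, ConstGrp.e_apply_of_ne (fun h => hne h.symm)] at h1
      exact one_ne_zero h1
    let gen : C := Multiplicative.ofAdd 1
    have hgen : ∀ x : C, ∃ m : ℕ, x = gen ^ m := by
      intro x
      refine ⟨(Multiplicative.toAdd x).val, ?_⟩
      rw [← ofAdd_nsmul, nsmul_one, ZMod.natCast_zmod_val]
      rfl
    have hgenn : gen ^ n = 1 := by
      have := pow_card_eq_one (x := gen)
      rwa [hcardC] at this
    let r : C → rootsOfUnity n k := fun g => rootsOfUnity.mkOfPowEq (c g (MonoidAlgebra.of k C gen)) (by
      rw [← map_pow, ← map_pow, hgenn, map_one, map_one])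
    have hr : Function.Injective r := by
      intro g g' h
      apply hc
      have h1 : c g (MonoidAlgebra.of k C gen) = c g' (MonoidAlgebra.of k C gen) := by
        have := congrArg (fun x : rootsOfUnity n k => ((x : kˣ) : k)) h
        exact this
      apply MonoidAlgebra.algHom_ext'
      · apply MonoidHom.ext
        intro x
        obtain ⟨m, rfl⟩ := hgen x
        change c g (MonoidAlgebra.of k C (gen ^ m)) = c g' (MonoidAlgebra.of k C (gen ^ m))
        rw [map_pow, map_pow, map_pow, h1]
      · exact Subsingleton.elim _ _
    have h1 : n ≤ Nat.card (rootsOfUnity n k) := by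
      have := Nat.card_le_card_of_injective r hr
      rwa [Nat.card_eq_fintype_card, hcardC] at this
    have h2 : Nat.card (rootsOfUnity n k) = n := le_antisymm (card_rootsOfUnity k n) h1
    exact card_rootsOfUnity_eq_iff_exists_isPrimitiveRoot.1 h2
  · rintro ⟨ζ, hζ⟩
    obtain ⟨z, rfl⟩ : ∃ z : kˣ, (z : k) = ζ := ⟨(hζ.isUnit (NeZero.ne n)).unit, rfl⟩
    have hz : IsPrimitiveRoot z n := IsPrimitiveRoot.coe_units_iff.1 hζ
    let e : ZMod n →+ Additive kˣ := (Subgroup.zpowers z).subtype.toAdditive.comp hz.zmodEquivZPowers.toAddMonoidHom
    have he : Function.Injective e := by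
      intro x y h
      exact hz.zmodEquivZPowers.injective (Subtype.ext h)
    let b : C →* (C →* k) :=
      { toFun := fun x =>
          { toFun := fun y => (((e (Multiplicative.toAdd x * Multiplicative.toAdd y)).toMul : kˣ) : k)
            map_one' := by simp
            map_mul' := fun y y' => by rw [toAdd_mul, mul_add, map_add, toMul_add, Units.val_mul] }
        map_one' := by
          apply MonoidHom.ext; intro y
          simp
        map_mul' := fun x x' => by
          apply MonoidHom.ext; intro y
          change (((e (Multiplicative.toAdd (x * x') * Multiplicative.toAdd y)).toMul : kˣ) : k) =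
            (((e (Multiplicative.toAdd x * Multiplicative.toAdd y)).toMul : kˣ) : k) *
              (((e (Multiplicative.toAdd x' * Multiplicative.toAdd y)).toMul : kˣ) : k)
          rw [toAdd_mul, add_mul, map_add, toMul_add, Units.val_mul] }
    have hb : Function.Injective b := by
      intro x x' h
      have h1 := DFunLike.congr_fun h (Multiplicative.ofAdd 1)
      have h2 : (((e (Multiplicative.toAdd x * 1)).toMul : kˣ) : k) = (((e (Multiplicative.toAdd x' * 1)).toMul : kˣ) : k) := h1
      rw [mul_one, mul_one] at h2
      exact Multiplicative.toAdd.injective (he (Additive.toMul.injective (Units.ext h2)))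
    exact ⟨(BialgEquiv.ofBijective (K503.ConstChar.pairHom b) (K503.ConstChar.pairHom_bijective b hb)).symm⟩

end Groth.Agent.S18466
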