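import Groth.Statements.S18467
import Mathlib.RingTheory.IntegralDomain
import Mathlib.FieldTheory.Finite.Basic

set_option autoImplicit false
universe u
open Hopf

namespace Groth.Agent.S18467

/-- Let p be a prime and R a commutative ring containing an element u with u(p − 1) = 1, and let χ be a
homomorphism from the group of units of ℤ/p to the group of units of R such that χ(m) − 1 is a unit
of R for every m ≠ 1. For 0 ≤ i < p − 1 put e_i = u · Σ_m χ(m)^{−i} [m] in the group algebra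
R[(ℤ/p)ˣ]. Then the e_i are idempotents, e_i e_j = 0 for i ≠ j, and Σ_i e_i = 1. (The published
statement is for algebras over the subring of the p-adic integers generated over ℤ by the values of
the Teichmüller character χ and by 1/(p(p − 1)); the hypotheses on R and χ here are the properties
of that situation which the computation uses, so the row is stated for every such pair.) -/
theorem result
    (p : ℕ) [Fact p.Prime] (R : Type u) [CommRing R] (u : R) (hu : u * ((p - 1 : ℕ) : R) = 1)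
    (χ : (ZMod p)ˣ →* Rˣ) (hχ : ∀ m : (ZMod p)ˣ, m ≠ 1 → IsUnit ((χ m : R) - 1)) :
    CompleteOrthogonalIdempotents (fun i : Fin (p - 1) =>
      u • ∑ m : (ZMod p)ˣ, ((χ m⁻¹ : Rˣ) : R) ^ (i : ℕ) • MonoidAlgebra.of R (ZMod p)ˣ m) := by
  classical
  have hp : p.Prime := Fact.out
  have hcard : Fintype.card (ZMod p)ˣ = p - 1 := ZMod.card_units p
  -- the power sums vanish
  have hsum1 : ∀ d : ℕ, 0 < d → d < p - 1 → ∑ m : (ZMod p)ˣ, ((χ m : Rˣ) : R) ^ d = 0 := by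
    intro d hd0 hd
    obtain ⟨a, ha⟩ := IsCyclic.exists_generator (α := (ZMod p)ˣ)
    have hord : orderOf a = p - 1 := by
      rw [orderOf_eq_card_of_forall_mem_zpowers ha, Nat.card_eq_fintype_card, hcard]
    have h1 : a ^ d ≠ 1 := by
      intro h
      have := orderOf_dvd_of_pow_eq_one h
      rw [hord] at this
      exact absurd (Nat.le_of_dvd hd0 this) (by omega)
    have h2 := hχ _ h1
    have h3 : (((χ (a ^ d) : Rˣ) : R) - 1) * ∑ m : (ZMod p)ˣ, ((χ m : Rˣ) : R) ^ d = 0 := by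
      rw [sub_mul, one_mul, Finset.mul_sum, sub_eq_zero]
      refine Fintype.sum_equiv (Equiv.mulLeft a) _ _ fun m => ?_
      simp only [Equiv.coe_mulLeft, map_mul, map_pow, Units.val_mul, Units.val_pow_eq_pow_val, mul_pow]
    exact (h2.mul_right_eq_zero).1 h3
  have hsum1' : ∀ d : ℕ, 0 < d → d < p - 1 → ∑ m : (ZMod p)ˣ, ((χ m⁻¹ : Rˣ) : R) ^ d = 0 := by
    intro d hd0 hd
    rw [← hsum1 d hd0 hd]
    exact Fintype.sum_equiv (Equiv.inv _) _ _ fun m => rfl
  have hsum2 : ∀ m : (ZMod p)ˣ, m ≠ 1 → ∑ i : Fin (p - 1), ((χ m⁻¹ : Rˣ) : R) ^ (i : ℕ) = 0 := by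
    intro m hm
    have h1 : m⁻¹ ≠ 1 := by simpa using hm
    have h2 := hχ _ h1
    have h3 : (((χ m⁻¹ : Rˣ) : R) - 1) * ∑ i ∈ Finset.range (p - 1), ((χ m⁻¹ : Rˣ) : R) ^ i = 0 := by
      rw [mul_geom_sum]
      have : ((χ m⁻¹ : Rˣ) : R) ^ (p - 1) = 1 := by
        rw [← Units.val_pow_eq_pow_val, ← map_pow, ← hcard, pow_card_eq_one, map_one, Units.val_one]
      rw [this, sub_self]
    rw [← Fin.sum_univ_eq_sum_range (fun i => ((χ m⁻¹ : Rˣ) : R) ^ i)] at h3
    exact (h2.mul_right_eq_zero).1 h3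
  have hmul : ∀ (j : ℕ) (a : (ZMod p)ˣ), MonoidAlgebra.of R (ZMod p)ˣ a *
      (u • ∑ m : (ZMod p)ˣ, ((χ m⁻¹ : Rˣ) : R) ^ j • MonoidAlgebra.of R (ZMod p)ˣ m) =
      ((χ a : Rˣ) : R) ^ j • (u • ∑ m : (ZMod p)ˣ, ((χ m⁻¹ : Rˣ) : R) ^ j • MonoidAlgebra.of R (ZMod p)ˣ m) := by
    intro j a
    rw [mul_smul_comm, smul_comm]
    congr 1
    rw [Finset.mul_sum, Finset.smul_sum]
    refine Fintype.sum_equiv (Equiv.mulLeft a) _ _ fun m => ?_
    rw [Equiv.coe_mulLeft, mul_smul_comm, ← map_mul, smul_smul, ← mul_pow]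
    congr 2
    rw [← Units.val_mul, ← map_mul]
    congr 2
    rw [mul_inv_rev, mul_comm m⁻¹ a⁻¹, mul_inv_cancel_left]
  rw [CompleteOrthogonalIdempotents.iff_ortho_complete]
  constructor
  · intro i j hij
    have hij' : (i : ℕ) ≠ (j : ℕ) := fun h => hij (Fin.ext h)
    have hi := i.2
    have hj := j.2
    have hz : ∑ m : (ZMod p)ˣ, ((χ m⁻¹ : Rˣ) : R) ^ (i : ℕ) * ((χ m : Rˣ) : R) ^ (j : ℕ) = 0 := by
      have hinv : ∀ m : (ZMod p)ˣ, ((χ m⁻¹ : Rˣ) : R) * ((χ m : Rˣ) : R) = 1 := by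
        intro m
        rw [← Units.val_mul, ← map_mul, inv_mul_cancel, map_one, Units.val_one]
      rcases lt_or_gt_of_ne hij' with h | h
      · rw [← hsum1 ((j : ℕ) - i) (by omega) (by omega)]
        refine Finset.sum_congr rfl fun m _ => ?_
        conv_lhs => rw [show (j : ℕ) = i + (j - i) by omega, pow_add, ← mul_assoc, ← mul_pow, hinv, one_pow, one_mul]
      · rw [← hsum1' ((i : ℕ) - j) (by omega) (by omega)]
        refine Finset.sum_congr rfl fun m _ => ?_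
        conv_lhs => rw [show (i : ℕ) = (i - j) + j by omega, pow_add, mul_assoc, ← mul_pow, hinv, one_pow, mul_one]
    show (u • ∑ m : (ZMod p)ˣ, ((χ m⁻¹ : Rˣ) : R) ^ (i : ℕ) • MonoidAlgebra.of R (ZMod p)ˣ m) *
      (u • ∑ m : (ZMod p)ˣ, ((χ m⁻¹ : Rˣ) : R) ^ (j : ℕ) • MonoidAlgebra.of R (ZMod p)ˣ m) = 0
    rw [smul_mul_assoc, Finset.sum_mul]
    have h1 : ∀ m : (ZMod p)ˣ, (((χ m⁻¹ : Rˣ) : R) ^ (i : ℕ) • MonoidAlgebra.of R (ZMod p)ˣ m) *
        (u • ∑ m : (ZMod p)ˣ, ((χ m⁻¹ : Rˣ) : R) ^ (j : ℕ) • MonoidAlgebra.of R (ZMod p)ˣ m) =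
        (((χ m⁻¹ : Rˣ) : R) ^ (i : ℕ) * ((χ m : Rˣ) : R) ^ (j : ℕ)) •
          (u • ∑ m : (ZMod p)ˣ, ((χ m⁻¹ : Rˣ) : R) ^ (j : ℕ) • MonoidAlgebra.of R (ZMod p)ˣ m) := by
      intro m
      rw [smul_mul_assoc, hmul, smul_smul]
    rw [Finset.sum_congr rfl fun m _ => h1 m, ← Finset.sum_smul, hz, zero_smul, smul_zero]
  · rw [← Finset.smul_sum, Finset.sum_comm]
    have h1 : ∀ m : (ZMod p)ˣ, ∑ i : Fin (p - 1), ((χ m⁻¹ : Rˣ) : R) ^ (i : ℕ) • MonoidAlgebra.of R (ZMod p)ˣ m =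
        if m = 1 then ((p - 1 : ℕ) : R) • (1 : MonoidAlgebra R (ZMod p)ˣ) else 0 := by
      intro m
      rw [← Finset.sum_smul]
      split_ifs with hm
      · subst hm
        rw [map_one (MonoidAlgebra.of R (ZMod p)ˣ)]
        simp only [inv_one, map_one, Units.val_one, one_pow, Finset.sum_const, Finset.card_univ, Fintype.card_fin,
          nsmul_eq_mul, mul_one]
      · rw [hsum2 m hm, zero_smul]
    rw [Finset.sum_congr rfl fun m _ => h1 m, Finset.sum_ite_eq', if_pos (Finset.mem_univ _), smul_smul, hu, one_smul]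

end Groth.Agent.S18467
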