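import Groth.Statements.S18481
import Groth.Agent.S4282
import Groth.Agent.TwC.K776.Main

set_option autoImplicit false
open CategoryTheory CategoryTheory.Limits MonoidalCategory CartesianMonoidalCategory MonObj GrpObj AlgebraicGeometry
universe u
open TwC

namespace Groth.Agent.S18481

/-- For a field K of characteristic zero, let C be an integral K-scheme which is smooth of relative
dimension one and proper over K, and π : X → C a flat proper morphism all of whose geometric fibres
are integral. Let P be a C-group scheme, separated and locally of finite type over C, representing
through φ the fppf-sheafified relative Picard functor of X over C, with φ turning tensor products of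
invertible modules into products of points. Assume that P → C satisfies the existence part of the
valuative criterion, that H¹ and H² of the structure sheaf of X ×_C T vanish for every affine scheme
T over C, and that for every geometric point ξ of C supported at the generic point the fibre X ×_C ξ
is smooth over the algebraically closed field of ξ and every connected finite étale cover of it is
an isomorphism. Then there is a natural number r such that P is an isotrivial twisted constant
C-group of type ℤ^r: there is one finite étale surjective morphism D → C such that over every member
of some cover of D by open and closed subschemes, P becomes isomorphic as a group to the constant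
group scheme on ℤ^r. (The published statement takes π and C projective; this row assumes them
proper, the Picard scheme being given as the datum P. The published hypothesis that the Picard
scheme be proper over C is rendered by the valuative criterion, since a group of type ℤ^r with r ≥ 1
has infinitely many connected components and is never quasi-compact. The published statement allows
a ground field of any characteristic; its argument for torsion-freeness covers only torsion of order
invertible in K, so characteristic zero is assumed here.) -/
theorem result (K : Type u) [Field K] [CharZero K]
    (C : Scheme.{u}) (c : C ⟶ Spec (CommRingCat.of K)) [SmoothOfRelativeDimension 1 c] [IsProper c]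
    [AlgebraicGeometry.IsIntegral C]
    (X : Scheme.{u}) (π : X ⟶ C) [Flat π] [IsProper π]
    (hgeom : ∀ (Ω : Type u) [Field Ω] [IsAlgClosed Ω] (ξ : Spec (CommRingCat.of Ω) ⟶ C),
      AlgebraicGeometry.IsIntegral (pullback π ξ))
    (P : Over C) [GrpObj P] [LocallyOfFiniteType P.hom] [AlgebraicGeometry.IsSeparated P.hom]
    (φ : ∀ T : Over C, PicF.Cl (PicF.XT π T) → (T ⟶ P))
    (hP : AbDual.IsRelPicK Scheme.fppfPrecoverage π P φ)
    (hmul : ∀ (T : Over C) (L M : (PicF.XT π T).Modules), PicF.IsInvertible L → PicF.IsInvertible M →
      φ T (PicF.cl (CohB1.tensorMod L M)) = φ T (PicF.cl L) * φ T (PicF.cl M))
    (hval : ValuativeCriterion.Existence P.hom)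
    (hcoh : ∀ (T : Scheme.{u}) (g : T ⟶ C), IsAffine T →
      Subsingleton (Coh.HH (pullback π g) (Coh.structureModule (pullback π g)) 1) ∧
        Subsingleton (Coh.HH (pullback π g) (Coh.structureModule (pullback π g)) 2))
    (hsc : ∀ (Ω : Type u) [Field Ω] [IsAlgClosed Ω] (ξ : Spec (CommRingCat.of Ω) ⟶ C),
      Set.range ξ.base = {genericPoint C} →
        Smooth (pullback.snd π ξ) ∧
          ∀ (Y : Scheme.{u}) (p : Y ⟶ pullback π ξ), IsFinite p → Etale p → ConnectedSpace Y → IsIso p) :
    ∃ r : ℕ, TwC.IsTwConstGrpOfType TwC.Topology.finiteEtale (Multiplicative (Fin r → ℤ)) P := by
  exact K776.TwMain.main (fun k _ _ X _ _ => Groth.Agent.S4282.result k X) K C c X π hgeom P φ hP hmul hval hcoh hsc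
end Groth.Agent.S18481
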