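import Groth.Statements.S18482
import Groth.Agent.NonAbH1.K553.SubTorsMain

set_option autoImplicit false
universe u
open NonAbH1

namespace Groth.Agent.S18482

section

open CategoryTheory CategoryTheory.Limits MonoidalCategory CartesianMonoidalCategory AlgebraicGeometry

theorem isPullback_map_left {X X' : Scheme.{u}} (v : X' ⟶ X) {Y Z : Over X} (f : Y ⟶ Z) :
    IsPullback (pullback.fst Y.hom v) ((Over.pullback v).map f).left f.left (pullback.fst Z.hom v) := by
  refine IsPullback.of_bot (v₂₁ := pullback.snd Z.hom v) (v₂₂ := Z.hom) (h₃₁ := v) ?_ ?_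
    (IsPullback.of_hasPullback Z.hom v)
  · have h1 : ((Over.pullback v).map f).left ≫ pullback.snd Z.hom v = pullback.snd Y.hom v :=
      pullback.lift_snd _ _ _
    rw [h1, Over.w]
    exact IsPullback.of_hasPullback Y.hom v
  · exact (pullback.lift_fst _ _ _).symm

/-- the isomorphy of the shear map is local on the base -/
theorem isIso_shear_of_cover {X : Scheme.{u}} {H Z : Over X} [GrpObj H] (b : AlgGrp.Action H Z)
    (𝒰 : X.OpenCover) (h : ∀ i, IsIso (lift (b.bc (𝒰.f i)).act (snd (Red.bc (𝒰.f i) H) (Red.bc (𝒰.f i) Z)))) :
    IsIso (lift b.act (snd H Z)) := by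
  have h1 : ∀ i, IsIso ((Over.pullback (𝒰.f i)).map (lift b.act (snd H Z))) := by
    intro i
    have key : lift (b.bc (𝒰.f i)).act (snd _ _) ≫ Functor.LaxMonoidal.μ (Over.pullback (𝒰.f i)) Z Z =
        Functor.LaxMonoidal.μ (Over.pullback (𝒰.f i)) H Z ≫ (Over.pullback (𝒰.f i)).map (lift b.act (snd H Z)) := by
      rw [← Functor.Monoidal.lift_μ, comp_lift_assoc, Functor.Monoidal.μ_snd, AlgGrp.Action.bc_act]
    have h2 := h i
    have h3 : IsIso (Functor.LaxMonoidal.μ (Over.pullback (𝒰.f i)) H Z ≫
        (Over.pullback (𝒰.f i)).map (lift b.act (snd H Z))) := by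
      rw [← key]; infer_instance
    exact IsIso.of_isIso_comp_left (Functor.LaxMonoidal.μ (Over.pullback (𝒰.f i)) H Z) _
  have h2 : IsIso (lift b.act (snd H Z)).left := by
    have h3 : (MorphismProperty.isomorphisms Scheme.{u}) (lift b.act (snd H Z)).left := by
      rw [IsZariskiLocalAtTarget.iff_of_openCover (P := MorphismProperty.isomorphisms Scheme.{u})
        (𝒰.pullback₁ (Z ⊗ Z).hom)]
      intro i
      have h4 := h1 i
      have h5 : IsIso ((Over.pullback (𝒰.f i)).map (lift b.act (snd H Z))).left :=
        inferInstanceAs (IsIso ((Over.forget _).map ((Over.pullback (𝒰.f i)).map (lift b.act (snd H Z)))))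
      have h6 := isPullback_map_left (𝒰.f i) (lift b.act (snd H Z))
      exact (K554.Fpqc.prop_snd_iff_of_isPullback (MorphismProperty.isomorphisms Scheme.{u}) h6).1 h5
    exact h3
  have : IsIso ((Over.forget _).map (lift b.act (snd H Z))) := h2
  exact isIso_of_reflects_iso _ (Over.forget _)

theorem local_step' {R : Type u} [CommRing R] [IsDomain R] [IsDiscreteValuationRing R] {X : Scheme.{u}}
    (f : X ⟶ Spec (CommRingCat.of R)) [Flat f] (A : CommRingCat.{u}) (v : Spec A ⟶ X) [IsOpenImmersion v]
    (hred : AlgebraicGeometry.IsReduced (pullback f (Spec.map (CommRingCat.ofHom (IsLocalRing.residue R)))))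
    {H Z : Over X} [GrpObj H] [IsFinite H.hom] [Flat H.hom] [LocallyOfFinitePresentation H.hom] [IsFinite Z.hom]
    (b : AlgGrp.Action H Z) (hm : Mono (lift b.act (snd H Z))) (hZ : Flat (Z.hom ≫ f))
    (hη : NonAbH1.IsPseudoTorsorSch (b.bc (pullback.fst f (Spec.map (CommRingCat.ofHom (algebraMap R (FractionRing R)))))))
    (h1 : Flat (Red.bc (pullback.fst f (Spec.map (CommRingCat.ofHom (algebraMap R (FractionRing R))))) Z).hom)
    (h2 : Surjective (Red.bc (pullback.fst f (Spec.map (CommRingCat.ofHom (algebraMap R (FractionRing R))))) Z).hom) :
    IsIso (lift (b.bc v).act (snd (Red.bc v H) (Red.bc v Z))) ∧ Flat (Red.bc v Z).hom ∧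
      Surjective (Red.bc v Z).hom := by
  let φ : CommRingCat.of R ⟶ A := Spec.preimage (v ≫ f)
  let _ : Algebra R A := φ.hom.toAlgebra
  exact K553.SubTorsMain.local_step (A := A) f v (Spec.map_preimage (v ≫ f)).symm hred b hm hZ hη h1 h2

end

open CategoryTheory CategoryTheory.Limits MonoidalCategory AlgebraicGeometry in
/-- Let R be a discrete valuation ring with fraction field K, G a finite flat group scheme over Spec R
and H a closed subgroup scheme of G, flat over Spec R. Let X be a scheme faithfully flat over Spec R
whose generic and special fibres are reduced and irreducible, and P an affine X-scheme with an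
action of the base change of G making it a torsor for the fpqc topology over X. Let Z be a closed
subscheme of P which is flat over Spec R (equivalently: Z is the scheme-theoretic closure in P of
its generic fibre), and suppose that the generic fibre of Z is stable under H, through an action for
which its inclusion into the generic fibre of P is equivariant (H acting on P through G), and is an
fpqc torsor under H over the generic fibre of X. Then Z itself is stable under H: there is an action
of the base change of H on Z for which the inclusion of Z in P is equivariant, and with it Z is an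
fpqc torsor under H over X. (The published statement concerns the Zariski closure in P of a closed
sub-torsor of the generic fibre of P; over a discrete valuation ring a closed subscheme of P is such
a closure exactly when it is flat over R, so the two formulations are equivalent. Flatness of H over
R, which the published notion of torsor requires of the structure group, is assumed explicitly here;
H is also taken closed in G, which the conclusion forces (a torsor under H over X, finite over X,
makes H finite over R, hence closed in G) and which the proof uses. Torsors are written with left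
actions and fpqc-local triviality, the published ones with right actions and an affine faithfully
flat structure map, an equivalent notion for a finite flat group.) -/
theorem result
    (R : Type u) [CommRing R] [IsDomain R] [IsDiscreteValuationRing R]
    (G : Over (Spec (CommRingCat.of R))) [GrpObj G] [IsFinite G.hom] [Flat G.hom]
    (H : Over (Spec (CommRingCat.of R))) [GrpObj H] [Flat H.hom]
    (i : H ⟶ G) [IsMonHom i] [IsClosedImmersion i.left]
    (X : Scheme.{u}) (f : X ⟶ Spec (CommRingCat.of R)) [Flat f] [Surjective f]
    [AlgebraicGeometry.IsReduced (pullback f (Spec.map (CommRingCat.ofHom (algebraMap R (FractionRing R)))))]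
    [IrreducibleSpace ↥(pullback f (Spec.map (CommRingCat.ofHom (algebraMap R (FractionRing R)))))]
    [AlgebraicGeometry.IsReduced (pullback f (Spec.map (CommRingCat.ofHom (IsLocalRing.residue R))))]
    [IrreducibleSpace ↥(pullback f (Spec.map (CommRingCat.ofHom (IsLocalRing.residue R))))]
    (P : Over X) [IsAffineHom P.hom] (a : AlgGrp.Action (Red.bc f G) P)
    (hP : NonAbH1.IsTorsorFor Scheme.fpqcPrecoverage a)
    (Z : Over X) (j : Z ⟶ P) [IsClosedImmersion j.left] [Flat (Z.hom ≫ f)]
    (bη : AlgGrp.Action
      (Red.bc (pullback.fst f (Spec.map (CommRingCat.ofHom (algebraMap R (FractionRing R))))) (Red.bc f H))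
      (Red.bc (pullback.fst f (Spec.map (CommRingCat.ofHom (algebraMap R (FractionRing R))))) Z))
    (hj : AlgGrp.Action.IsEquivariant bη
      (((a.restrict ((Over.pullback f).map i)).bc
        (pullback.fst f (Spec.map (CommRingCat.ofHom (algebraMap R (FractionRing R)))))))
      ((Over.pullback (pullback.fst f (Spec.map (CommRingCat.ofHom (algebraMap R (FractionRing R)))))).map j))
    (hZ : NonAbH1.IsTorsorFor Scheme.fpqcPrecoverage bη) :
    ∃ b : AlgGrp.Action (Red.bc f H) Z,
      AlgGrp.Action.IsEquivariant b (a.restrict ((Over.pullback f).map i)) j ∧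
      NonAbH1.IsTorsorFor Scheme.fpqcPrecoverage b := by
  let gK := pullback.fst f (Spec.map (CommRingCat.ofHom (algebraMap R (FractionRing R))))
  let H' := Red.bc f H
  let G' := Red.bc f G
  let i' : H' ⟶ G' := (Over.pullback f).map i
  let a' := a.restrict i'
  -- finiteness
  have f1 : IsFinite H.hom := by rw [← Over.w i]; infer_instance
  have f2 : LocallyOfFinitePresentation H.hom := inferInstance
  have f3 : IsFinite H'.hom := inferInstanceAs (IsFinite (pullback.snd H.hom f))
  have f4 : Flat H'.hom := inferInstanceAs (Flat (pullback.snd H.hom f))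
  have f5 : LocallyOfFinitePresentation H'.hom :=
    inferInstanceAs (LocallyOfFinitePresentation (pullback.snd H.hom f))
  have f6 : IsFinite G'.hom := inferInstanceAs (IsFinite (pullback.snd G.hom f))
  have := Groth.Agent.Desc.MorDescent.descendsAlong_isFinite.{u}
  have f7 : IsFinite P.hom := K554.Fpqc.prop_of_isTorsorFor @IsFinite hP f6
  have f8 : IsFinite Z.hom := by rw [← Over.w j]; infer_instance
  -- the action
  have d0 : Flat ((H' ⊗ Z).hom ≫ f) := by
    have e1 : (H' ⊗ Z).hom = (CartesianMonoidalCategory.snd H' Z).left ≫ Z.hom := (Over.w _).symm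
    have e2 : Flat (CartesianMonoidalCategory.snd H' Z).left := inferInstanceAs (Flat (pullback.snd H'.hom Z.hom))
    rw [e1, Category.assoc]; infer_instance
  have d1 : IsSchemeTheoreticallyDominant (pullback.fst (H' ⊗ Z).hom gK) :=
    (K553.SubTorsGen.dom_of_isPullback ((IsPullback.of_hasPullback (H' ⊗ Z).hom gK).paste_vert
      (IsPullback.of_hasPullback _ _))).1
  obtain ⟨b, hb, hbη⟩ := K553.SubTorsMain.exists_action gK a' j d1 bη hj
  have hη : NonAbH1.IsTorsorFor Scheme.fpqcPrecoverage (b.bc gK) := by rw [hbη]; exact hZ
  refine ⟨b, hb, ?_⟩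
  -- freeness
  have m1 : Mono i' := by
    have : Mono i := by
      have : Mono i.left := inferInstance
      exact (Over.forget _).mono_of_mono_map this
    infer_instance
  have m2 : Mono (CartesianMonoidalCategory.lift a'.act (CartesianMonoidalCategory.snd H' P)) := by
    have : IsIso (CartesianMonoidalCategory.lift a.act (CartesianMonoidalCategory.snd G' P)) := hP.1
    have e : CartesianMonoidalCategory.lift a'.act (CartesianMonoidalCategory.snd H' P) =
        (i' ▷ P) ≫ CartesianMonoidalCategory.lift a.act (CartesianMonoidalCategory.snd G' P) := by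
      apply CartesianMonoidalCategory.hom_ext <;> simp [a']
    have m3 : Mono (i' ▷ P) := by
      refine ⟨fun {T} x y hxy => ?_⟩
      apply CartesianMonoidalCategory.hom_ext
      · have := congrArg (· ≫ CartesianMonoidalCategory.fst _ _) hxy
        simp only [Category.assoc, CartesianMonoidalCategory.whiskerRight_fst] at this
        rw [← cancel_mono i', Category.assoc, Category.assoc, this]
      · have := congrArg (· ≫ CartesianMonoidalCategory.snd _ _) hxy
        simpa using this
    rw [e]; infer_instance
  have m4 : Mono (CartesianMonoidalCategory.lift b.act (CartesianMonoidalCategory.snd H' Z)) :=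
    K553.SubTorsMain.mono_shear a' j b hb
  -- the generic fibre
  have g1 : Surjective (Red.bc gK Z).hom := K554.Fpqc2.surjective_of_isLocallyTrivialFor hη.2
  have g2 : Flat (Red.bc gK Z).hom := by
    have := K554.FibProd.flat_descends.{u}
    exact K554.Fpqc.prop_of_isTorsorFor @Flat hη (inferInstanceAs (Flat (pullback.snd H'.hom gK)))
  have hred : AlgebraicGeometry.IsReduced (pullback f (Spec.map (CommRingCat.ofHom (IsLocalRing.residue R)))) := inferInstance
  have loc : ∀ x : X.affineCover.I₀, IsIso (CartesianMonoidalCategory.lift (b.bc (X.affineCover.f x)).act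
      (CartesianMonoidalCategory.snd (Red.bc (X.affineCover.f x) H') (Red.bc (X.affineCover.f x) Z))) ∧
      Flat (Red.bc (X.affineCover.f x) Z).hom ∧ Surjective (Red.bc (X.affineCover.f x) Z).hom := by
    intro x
    have hx : IsOpenImmersion (X.affineCover.f x) := inferInstance
    exact @local_step' R _ _ _ X f _ _ (X.affineCover.f x) hx hred H' Z _ _ _ _ _ b m4 inferInstance hη.1 g2 g1
  have l1 := isIso_shear_of_cover b X.affineCover (fun x => (loc x).1)
  have l2 : Flat Z.hom := by
    rw [IsZariskiLocalAtTarget.iff_of_openCover (P := @Flat) X.affineCover]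
    exact fun x => (loc x).2.1
  have l3 : Surjective Z.hom := by
    rw [IsZariskiLocalAtTarget.iff_of_openCover (P := @Surjective) X.affineCover]
    exact fun x => (loc x).2.2
  exact ⟨l1, K554.Fpqc2.isLocallyTrivialFor_of_flat Z⟩

end Groth.Agent.S18482
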