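import Groth.Statements.S18483
import Groth.Agent.Models.WeilChart
import Groth.Agent.Neron.K490.PullMap

set_option autoImplicit false
universe u
open CategoryTheory CategoryTheory.Limits AlgebraicGeometry MonObj
open Neron

namespace Groth.Agent.S18483

/-- Let R be a Dedekind domain with fraction field K and N a proper smooth group scheme over Spec R,
with no connectedness condition on its fibres. Then N is a Néron model of its generic fibre N_K: N
is smooth, separated and of finite type over Spec R, and for every smooth Spec R-scheme Y
restriction to generic fibres is a bijection from R-morphisms Y → N onto K-morphisms Y_K → N_K. (The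
source allows any connected Dedekind scheme as base; the affine case is stated.) -/
theorem result (R : Type u) [CommRing R] [IsDedekindDomain R]
    (N : Over (Spec (CommRingCat.of R))) [GrpObj N] [IsProper N.hom] [Smooth N.hom] :
    Neron.IsNeronModelOf R N ((Neron.genericFibre R).obj N) (Iso.refl _) := by
  have hG : GrpObj (Over.mk N.hom) := inferInstanceAs (GrpObj N)
  refine ⟨inferInstance, inferInstance, inferInstance, inferInstance, fun Y hY => ⟨?_, ?_⟩⟩
  · intro f g hfg
    have h1 := (K490.PullMap.pullback_map_eq_iff (Neron.genPt R) f g).mp (by simpa using hfg)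
    obtain ⟨u, -, hu⟩ := Groth.Agent.Models.WeilChart.existsUnique_extension N.hom Y.hom (FractionRing R)
      (pullback.fst Y.hom (Neron.genPt R) ≫ f.left) (by rw [Category.assoc, Over.w f])
    ext1
    rw [hu f.left ⟨Over.w f, rfl⟩, hu g.left ⟨Over.w g, h1.symm⟩]
  · intro φ
    obtain ⟨u, ⟨hu1, hu2⟩, -⟩ := Groth.Agent.Models.WeilChart.existsUnique_extension N.hom Y.hom
      (FractionRing R) (φ.left ≫ pullback.fst N.hom (Neron.genPt R)) (by
        have h1 := Over.w φ
        change φ.left ≫ pullback.snd N.hom (Neron.genPt R) = pullback.snd Y.hom (Neron.genPt R) at h1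
        rw [Category.assoc, pullback.condition, reassoc_of% h1, pullback.condition])
    refine ⟨Over.homMk u hu1, ?_⟩
    ext1
    apply pullback.hom_ext
    · simp only [Iso.refl_hom, Category.comp_id]
      rw [K490.PullMap.pullback_map_left_fst]
      exact hu2
    · simp only [Iso.refl_hom, Category.comp_id]
      rw [K490.PullMap.pullback_map_left_snd]
      exact (Over.w φ).symm

end Groth.Agent.S18483
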