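import Groth.Statements.S18484
import Groth.Agent.Dix.GenExtUniq
import Groth.Agent.Neron.K490.PullMap
import Groth.Agent.Neron.K490.ClosedLift

set_option autoImplicit false
universe u
open CategoryTheory CategoryTheory.Limits AlgebraicGeometry MonObj
open Neron

namespace Groth.Agent.S18484

/-- Let R be a Dedekind domain with fraction field K, X a Spec R-scheme which is a Néron model of its
generic fibre X_K, and i : G → X a closed immersion with G smooth over Spec R. Then G is a Néron
model of its generic fibre G_K: smooth, separated, of finite type, and for every smooth Spec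
R-scheme Y restriction to generic fibres is a bijection from R-morphisms Y → G onto K-morphisms Y_K
→ G_K. (The source states this for a closed subgroup scheme of a Néron model; the group laws play no
part and are not assumed. The converse direction of the source, that a Néron model is a closed
subgroup of a Néron model, is immediate and not stated.) -/
theorem result (R : Type u) [CommRing R] [IsDedekindDomain R]
    (X G : Over (Spec (CommRingCat.of R))) (hX : Neron.IsNeronModelOf R X ((Neron.genericFibre R).obj X) (Iso.refl _))
    (i : G ⟶ X) [IsClosedImmersion i.left] [Smooth G.hom] :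
    Neron.IsNeronModelOf R G ((Neron.genericFibre R).obj G) (Iso.refl _) := by
  obtain ⟨hX1, hX2, hX3, hX4, hX5⟩ := hX
  have hG2 : IsSeparated G.hom := by rw [← Over.w i]; infer_instance
  have hG3 : LocallyOfFiniteType G.hom := by rw [← Over.w i]; infer_instance
  have hG4 : QuasiCompact G.hom := by rw [← Over.w i]; infer_instance
  refine ⟨inferInstance, hG2, hG3, hG4, fun Y hY => ⟨?_, ?_⟩⟩
  · intro f g hfg
    exact Groth.Agent.Dix.GenExtUniq.ext_of_genericFibre (by simpa using hfg)
  · intro φ
    obtain ⟨u, hu⟩ := (hX5 Y hY).2 (φ ≫ (Neron.genericFibre R).map i)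
    have hu' : (Neron.genericFibre R).map u = φ ≫ (Neron.genericFibre R).map i := by simpa using hu
    have h1 := Groth.Agent.Dix.GenFibre.isSchemeTheoreticallyDominant_genι Y
    obtain ⟨v, hv1, hv2⟩ := K490.ClosedLift.exists_lift (Groth.Agent.Dix.GenFibre.genι Y) i.left u.left
      (φ.left ≫ Groth.Agent.Dix.GenFibre.genι G) (by
        rw [← Groth.Agent.Dix.GenFibre.genι_naturality, hu', Over.comp_left, Category.assoc,
          Category.assoc, Groth.Agent.Dix.GenFibre.genι_naturality])
    refine ⟨Over.homMk v (by rw [← Over.w i, reassoc_of% hv1, Over.w u]), ?_⟩
    ext1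
    apply pullback.hom_ext
    · simp only [Iso.refl_hom, Category.comp_id]
      rw [K490.PullMap.pullback_map_left_fst]
      exact hv2
    · simp only [Iso.refl_hom, Category.comp_id]
      rw [K490.PullMap.pullback_map_left_snd]
      exact (Over.w φ).symm

end Groth.Agent.S18484
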