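import Groth.Statements.S18490
import Groth.Agent.FlatMor.K265.Retract

set_option autoImplicit false
universe u
open CategoryTheory CategoryTheory.Limits AlgebraicGeometry
open FlatMor

namespace Groth.Agent.S18490

/-- Let f : X → S and g : Y → S be morphisms of schemes and suppose that g has a section y : S → Y. If
the structure morphism X ×_S Y → S (first projection followed by f) is quasi-compact, then so is f;
likewise for locally of finite type, for separated, and for flat. (Finite type, also listed in the
source, is the conjunction of the first two.) -/
theorem result {X Y S : Scheme.{u}} (f : X ⟶ S) (g : Y ⟶ S)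
    (y : S ⟶ Y) (hy : y ≫ g = 𝟙 S) :
    (QuasiCompact (pullback.fst f g ≫ f) → QuasiCompact f) ∧
    (LocallyOfFiniteType (pullback.fst f g ≫ f) → LocallyOfFiniteType f) ∧
    (IsSeparated (pullback.fst f g ≫ f) → IsSeparated f) ∧
    (Flat (pullback.fst f g ≫ f) → Flat f) := by
  set s : X ⟶ pullback f g := pullback.lift (𝟙 X) (f ≫ y) (by simp [hy]) with hs
  have hsf : s ≫ pullback.fst f g = 𝟙 X := pullback.lift_fst _ _ _
  have hf : s ≫ (pullback.fst f g ≫ f) = f := by rw [← Category.assoc, hsf, Category.id_comp]
  refine ⟨fun h => ?_, fun h => ?_, fun h => ?_, fun h => ?_⟩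
  · have : Surjective (pullback.fst f g) := by
      have : Surjective (s ≫ pullback.fst f g) := by rw [hsf]; infer_instance
      exact Surjective.of_comp s _
    exact K265.Retract.quasiCompact_of_surjective_comp (pullback.fst f g) f
  · have : LocallyOfFiniteType (s ≫ pullback.fst f g) := by rw [hsf]; infer_instance
    have := locallyOfFiniteType_of_comp s (pullback.fst f g)
    rw [← hf]; infer_instance
  · have : IsSeparated (s ≫ pullback.fst f g) := by rw [hsf]; infer_instance
    have := IsSeparated.of_comp s (pullback.fst f g)
    rw [← hf]; infer_instance
  · exact K265.Retract.flat_of_section (pullback.fst f g) f s hsf h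

end Groth.Agent.S18490
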