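import Groth.Statements.S18491
import Groth.Agent.Flat2E.Thick
import Groth.Agent.S4113
import Groth.Agent.Books.AffBridge2
import Mathlib.AlgebraicGeometry.Morphisms.FlatRank

set_option autoImplicit false
universe u
open CategoryTheory CategoryTheory.Limits AlgebraicGeometry MonObj
open GrpSch

namespace Groth.Agent.S18491

open Groth.Agent.Books.AffBridge Groth.Agent.Books.AffBridge2 in
/-- A finite group scheme over a field whose rank is invertible is étale. -/
theorem etale_of_field (k : Type u) [Field k] (G : Over (Spec (CommRingCat.of k))) [GrpObj G] [IsFinite G.hom]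
    (x : Spec (CommRingCat.of k)) (h : (G.hom.finrank x : k) ≠ 0) : Etale G.hom := by
  have haff : IsAffine G.left := isAffine_of_isAffineHom G.hom
  obtain ⟨A, _, _, e, he⟩ := exists_hopf k G
  have h1 : e.inv.left ≫ G.hom = (SpecOver k A).hom := Over.w e.inv
  have h2 : IsFinite (SpecOver k A).hom := by rw [← h1]; infer_instance
  have h2' : IsFinite (Spec.map (CommRingCat.ofHom (algebraMap k A))) := h2
  have hfin : Module.Finite k A := by
    rw [IsFinite.SpecMap_iff] at h2'
    exact (RingHom.finite_algebraMap).mp h2'
  have : Subsingleton (Spec (CommRingCat.of k)) := inferInstanceAs (Subsingleton (PrimeSpectrum k))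
  have hflat : Flat G.hom := inferInstance
  have h3 : (SpecOver k A).hom.finrank x = G.hom.finrank x := by
    rw [← h1]
    exact congrFun (Scheme.Hom.finrank_comp_left_of_isIso e.inv.left G.hom) x
  have h4 : (SpecOver k A).hom.finrank x = Module.finrank k A := by
    refine (Scheme.Hom.finrank_SpecMap_algebraMap k A x).trans ?_
    rw [Module.rankAtStalk_eq_finrank_of_free]
    rfl
  have hA : Algebra.Etale k A := Groth.Agent.S4113.result k A (by rw [← h4, h3]; exact h)
  have h5 : Etale (SpecOver k A).hom := by
    change Etale (Spec.map (CommRingCat.ofHom (algebraMap k A)))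
    rw [HasRingHomProperty.Spec_iff (P := @Etale)]
    exact (RingHom.etale_algebraMap).mpr hA
  have h6 : e.hom.left ≫ (SpecOver k A).hom = G.hom := Over.w e.hom
  rw [← h6]
  infer_instance

/-- Let S be a scheme and G an S-group scheme whose structure morphism is locally quasi-finite, of
finite type, flat and locally of finite presentation (a quasi-finite fppf group scheme). Suppose
that for every point s of S the fibre G_s, a finite group scheme over the residue field k(s), has
order non-zero in k(s): the rank of G_s → Spec k(s) at the point of Spec k(s) is not divisible by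
the characteristic. Then G → S is étale. -/
theorem result {S : Scheme.{u}} (G : Over S) [GrpObj G]
    [LocallyQuasiFinite G.hom] [QuasiCompact G.hom] [Flat G.hom] [LocallyOfFinitePresentation G.hom]
    (h : ∀ (s : S) (x : ↥(Spec (S.residueField s))),
      ((pullback.snd G.hom (S.fromSpecResidueField s)).finrank x : S.residueField s) ≠ 0) :
    Etale G.hom := by
  refine Groth.Agent.Flat2E.Thick.etale_of_fiber G.hom (fun s => ?_)
  have hf : IsFinite (G.hom.fiberToSpecResidueField s) := inferInstance
  let G' : Over (Spec (CommRingCat.of (S.residueField s))) := (Over.pullback (S.fromSpecResidueField s)).obj G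
  have hG' : GrpObj G' := inferInstanceAs (GrpObj ((Over.pullback (S.fromSpecResidueField s)).obj G))
  have hf' : IsFinite G'.hom := hf
  exact etale_of_field (S.residueField s) G' (Classical.arbitrary (PrimeSpectrum (S.residueField s))) (h s _)

end Groth.Agent.S18491
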