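import Groth.Statements.S18492
import Groth.Agent.NonAbH1.K553.NeronInj
import Groth.Agent.NonAbH1.K553.FibExt

set_option autoImplicit false
universe u
open CategoryTheory CategoryTheory.Limits AlgebraicGeometry MonObj
open NonAbH1

namespace Groth.Agent.S18492

/-- Let R be a Dedekind domain with fraction field K, X a group scheme over Spec R which is a Néron
model of its generic fibre, and G a flat group scheme over Spec R with a homomorphism i : G → X
which is a closed immersion. Then restriction to the generic fibre, from the set of classes of
G-torsors for the fppf topology (Spec R-schemes with a G-action, pseudo-torsors trivialised on an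
fppf covering family, up to equivariant isomorphism) to the set of classes of G_K-torsors, is
injective. (The source works with a Néron lft model X over an arbitrary connected Dedekind scheme,
all fppf torsors, and an arbitrary closed subgroup G, and it reduces to the flat case by swapping G
for the scheme-theoretic image of the generic fibre of G; stated here is the flat case over an
affine base, with X of finite type and torsors representable by schemes.) -/
theorem result (R : Type u) [CommRing R]
    [IsDedekindDomain R] (X G : Over (Spec (CommRingCat.of R))) [GrpObj X] [GrpObj G]
    (hX : Neron.IsNeronModelOf R X ((Neron.genericFibre R).obj X) (Iso.refl _))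
    (i : G ⟶ X) [IsMonHom i] [IsClosedImmersion i.left] [Flat G.hom] :
    Function.Injective (NonAbH1.H1Sch.bcMap (Neron.genPt R) G Scheme.fppfPrecoverage) := by
  exact K553.FibExt.bcMap_injective (Neron.genPt R) fun P Q ⟨φ⟩ =>
    K553.NeronInj.exists_equivIso hX i P.isTorsor Q.isTorsor φ

end Groth.Agent.S18492
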