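import Groth.Statements.S18493
import Groth.Agent.Neron.K490.IsogFlat
import Groth.Agent.S2993
import Mathlib.AlgebraicGeometry.ZariskisMainTheorem
import Mathlib.RingTheory.KrullDimension.Basic

set_option autoImplicit false
universe u
open CategoryTheory CategoryTheory.Limits AlgebraicGeometry MonObj
open Neron

namespace Groth.Agent.S18493

/-- Let R be a Dedekind domain with fraction field K, let A and B be group schemes over Spec R which are
Néron models of their generic fibres, both abelian varieties over K (proper and geometrically
integral), let φ : A → B be a homomorphism whose generic fibre is an isogeny (surjective with finite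
kernel), and let i : N → A be a kernel of φ (cartesian square against the unit section of B). If φ
is flat, then N → Spec R is locally quasi-finite, of finite type, flat and affine; if moreover A is
proper over Spec R then N → Spec R is finite. -/
theorem result (R : Type u) [CommRing R]
    [IsDedekindDomain R] (A B : Over (Spec (CommRingCat.of R))) [GrpObj A] [GrpObj B]
    (hA : Neron.IsNeronModelOf R A ((Neron.genericFibre R).obj A) (Iso.refl _))
    (hB : Neron.IsNeronModelOf R B ((Neron.genericFibre R).obj B) (Iso.refl _))
    [IsProper ((Neron.genericFibre R).obj A).hom] [GeometricallyIntegral ((Neron.genericFibre R).obj A).hom]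
    [IsProper ((Neron.genericFibre R).obj B).hom] [GeometricallyIntegral ((Neron.genericFibre R).obj B).hom]
    (φ : A ⟶ B) [IsMonHom φ] (hφ : SGA7.IsIsogenyOver ((Neron.genericFibre R).map φ)) [Flat φ.left]
    (N : Over (Spec (CommRingCat.of R))) (i : N ⟶ A) (hN : AlgGrp.IsKernel i φ) :
    (LocallyQuasiFinite N.hom ∧ QuasiCompact N.hom ∧ Flat N.hom ∧ IsAffineHom N.hom) ∧
    (IsProper A.hom → IsFinite N.hom) := by
  have h1 : Smooth A.hom := hA.1
  have h2 : Smooth B.hom := hB.1
  have h3 : QuasiCompact A.hom := hA.2.2.2.1
  have h4 : QuasiCompact B.hom := hB.2.2.2.1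
  have h5 : IsSeparated B.hom := hB.2.1
  have h5' : IsSeparated A.hom := hA.2.1
  have h6 : LocallyOfFiniteType φ.left := by
    have : LocallyOfFiniteType (φ.left ≫ B.hom) := by rw [Over.w]; infer_instance
    exact locallyOfFiniteType_of_comp φ.left B.hom
  have h7 : QuasiCompact φ.left := by
    have : QuasiCompact (φ.left ≫ B.hom) := by rw [Over.w]; infer_instance
    exact QuasiCompact.of_comp φ.left B.hom
  have h8 : IsSeparated φ.left := by
    have : IsSeparated (φ.left ≫ B.hom) := by rw [Over.w]; infer_instance
    exact IsSeparated.of_comp φ.left B.hom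
  have h9 : LocallyQuasiFinite φ.left := K490.IsogFlat.lqf_of_flat φ hφ
  have hsq := K490.IsogFlat.isPullback_left_of_isKernel hN
  have hdim : topologicalKrullDim ↥(Spec (CommRingCat.of R)) ≤ 1 := by
    have h : topologicalKrullDim (PrimeSpectrum R) ≤ 1 := by
      rw [PrimeSpectrum.topologicalKrullDim_eq_ringKrullDim]
      exact Ring.krullDimLE_iff.mp (Ring.krullDimLE_one_iff_of_noZeroDivisors.mpr fun I h0 hI => hI.isMaximal h0)
    exact h
  have hnoeth : IsLocallyNoetherian (Spec (CommRingCat.of R)) := by
    have : IsNoetherianRing (CommRingCat.of R) := inferInstanceAs (IsNoetherianRing R)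
    infer_instance
  have haff : IsAffineHom φ.left := Groth.Agent.S2993.result hdim A B φ
  have hN1 : LocallyQuasiFinite N.hom :=
    MorphismProperty.of_isPullback (P := @LocallyQuasiFinite) hsq h9
  have hN2 : QuasiCompact N.hom :=
    MorphismProperty.of_isPullback (P := @QuasiCompact) hsq h7
  have hN3 : Flat N.hom :=
    MorphismProperty.of_isPullback (P := @Flat) hsq inferInstance
  have hN4 : IsAffineHom N.hom :=
    MorphismProperty.of_isPullback (P := @IsAffineHom) hsq haff
  refine ⟨⟨hN1, hN2, hN3, hN4⟩, fun hp => ?_⟩
  have hcl : IsClosedImmersion (Groth.Agent.Sga7.H760.Ker.unit B) := by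
    have : IsClosedImmersion (Groth.Agent.Sga7.H760.Ker.unit B ≫ B.hom) := by
      rw [Groth.Agent.Sga7.H760.Ker.unit_comp]; infer_instance
    exact IsClosedImmersion.of_comp _ B.hom
  have hi : IsClosedImmersion i.left :=
    MorphismProperty.of_isPullback (P := @IsClosedImmersion) hsq.flip hcl
  have hprop : IsProper N.hom := by
    rw [← Over.w i]
    infer_instance
  exact IsFinite.of_isProper_of_locallyQuasiFinite N.hom

end Groth.Agent.S18493
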