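import Groth.Statements.S18494
import Groth.Agent.Neron.K490.DualIsog
import Groth.Agent.S18484

set_option autoImplicit false
universe u
open CategoryTheory CategoryTheory.Limits AlgebraicGeometry MonObj
open Neron

namespace Groth.Agent.S18494

/-- Let R be a Dedekind domain with fraction field K, let A and B be group schemes over Spec R which are
Néron models of their generic fibres, both abelian varieties over K (proper and geometrically
integral), let φ : A → B be a homomorphism whose generic fibre φ_K is an isogeny (surjective with
finite kernel), and let i : N → A be a kernel of φ. If the degree of φ_K, that is the order of the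
finite K-group scheme N_K (its rank over Spec K), is a unit in R, then N is a Néron model of its
generic fibre N_K (smooth, separated, of finite type, with the Néron mapping property for smooth
Spec R-schemes) and N → Spec R is étale. -/
theorem result (R : Type u) [CommRing R]
    [IsDedekindDomain R] (A B : Over (Spec (CommRingCat.of R))) [GrpObj A] [GrpObj B]
    (hA : Neron.IsNeronModelOf R A ((Neron.genericFibre R).obj A) (Iso.refl _))
    (hB : Neron.IsNeronModelOf R B ((Neron.genericFibre R).obj B) (Iso.refl _))
    [IsProper ((Neron.genericFibre R).obj A).hom] [GeometricallyIntegral ((Neron.genericFibre R).obj A).hom]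
    [IsProper ((Neron.genericFibre R).obj B).hom] [GeometricallyIntegral ((Neron.genericFibre R).obj B).hom]
    (φ : A ⟶ B) [IsMonHom φ] (hφ : SGA7.IsIsogenyOver ((Neron.genericFibre R).map φ))
    (N : Over (Spec (CommRingCat.of R))) (i : N ⟶ A) (hN : AlgGrp.IsKernel i φ)
    (hdeg : ∀ x : ↥(Spec (CommRingCat.of (FractionRing R))),
      IsUnit ((((Neron.genericFibre R).obj N).hom.finrank x : ℕ) : R)) :
    Neron.IsNeronModelOf R N ((Neron.genericFibre R).obj N) (Iso.refl _) ∧ Etale N.hom := by
  have h1 : Smooth A.hom := hA.1
  have h2 : Smooth B.hom := hB.1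
  have h3 : QuasiCompact A.hom := hA.2.2.2.1
  have h5 : IsSeparated B.hom := hB.2.1
  have h5' : IsSeparated A.hom := hA.2.1
  let x : ↥(Spec (CommRingCat.of (FractionRing R))) := IsLocalRing.closedPoint (FractionRing R)
  obtain ⟨ψ, hψ⟩ := K490.DualIsog.exists_dual hA hB.1 φ hφ hN x
  have h8 : Surjective ((Neron.genericFibre R).map φ).left := hφ.1
  have het : Etale φ.left := K490.DualIsog.etale_of_comp_eq_pow φ ψ _ (hdeg x) hψ
  have hsq := K490.IsogFlat.isPullback_left_of_isKernel hN
  have hN1 : Etale N.hom := MorphismProperty.of_isPullback (P := @Etale) hsq het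
  have hcl : IsClosedImmersion (Groth.Agent.Sga7.H760.Ker.unit B) := by
    have : IsClosedImmersion (Groth.Agent.Sga7.H760.Ker.unit B ≫ B.hom) := by
      rw [Groth.Agent.Sga7.H760.Ker.unit_comp]; infer_instance
    exact IsClosedImmersion.of_comp _ B.hom
  have hi : IsClosedImmersion i.left :=
    MorphismProperty.of_isPullback (P := @IsClosedImmersion) hsq.flip hcl
  have hN2 : Smooth N.hom := inferInstance
  exact ⟨Groth.Agent.S18484.result R A N hA i, hN1⟩

end Groth.Agent.S18494
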