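import Groth.Statements.S18495
import Groth.Agent.Neron.K491.PowFlat
import Groth.Agent.Sga7.H617.PowTfae
import Groth.Agent.S4077
import Groth.Agent.Sga7.H749.GeomPts

set_option autoImplicit false
universe u
open CategoryTheory CategoryTheory.Limits AlgebraicGeometry MonObj
open Neron

namespace Groth.Agent.S18495

/-- The case of multiplication by n over a discrete valuation ring. Let R be a discrete valuation ring
with fraction field K and residue field of characteristic p (p = 0 allowed), let A be a commutative
group scheme over Spec R which is a Néron model of its generic fibre A_K, an abelian variety over K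
(proper and geometrically integral), and let n ≥ 1. Then the n-th power endomorphism of A is flat if
and only if: whenever p divides n, A_K has semistable reduction over R (A_K extends to a smooth
separated group scheme of finite type over Spec R all of whose geometric fibres contain no closed
subgroup isomorphic to the additive group). (The published lemma is over a connected Dedekind
scheme, with the reduction condition at every nongeneric point whose residue characteristic divides
n; the case of a discrete valuation ring is stated.) -/
theorem result (R : Type u) [CommRing R] [IsDomain R]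
    [IsDiscreteValuationRing R] (A : Over (Spec (CommRingCat.of R))) [GrpObj A] [IsCommMonObj A]
    (hA : Neron.IsNeronModelOf R A ((Neron.genericFibre R).obj A) (Iso.refl _))
    [IsProper ((Neron.genericFibre R).obj A).hom] [GeometricallyIntegral ((Neron.genericFibre R).obj A).hom]
    (n : ℕ) (hn : 1 ≤ n) :
    Flat (((𝟙 A) ^ n : A ⟶ A)).left ↔
      (ringChar (IsLocalRing.ResidueField R) ∣ n →
        SGA7.HasSemistableReduction R (FractionRing R) ((Neron.genericFibre R).obj A)) := by
  have hsm : Smooth A.hom := hA.1
  have hsep : IsSeparated A.hom := hA.2.1
  have hqc : QuasiCompact A.hom := hA.2.2.2.1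
  have hN : SGA7.IsNeron R (FractionRing R) A := by
    refine ⟨hA.1, hA.2.1, hA.2.2.2.1, fun Y hY => ?_⟩
    have h := hA.2.2.2.2 Y hY
    simp only [Iso.refl_hom, Category.comp_id] at h
    exact h
  have hss := Groth.Agent.S4077.result R (FractionRing R) A hN
  constructor
  · intro hflat hdvd
    have h0 : (n : IsLocalRing.ResidueField R) = 0 := (ringChar.spec _ n).mpr hdvd
    refine hss.mpr fun s => ?_
    by_cases hs : s.asIdeal = ⊥
    · exact Groth.Agent.Sga7.H749.GeomPts.generic (K := FractionRing R) A ‹_› s hs
    · have hs' : s = IsLocalRing.closedPoint R := by
        apply PrimeSpectrum.ext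
        exact IsLocalRing.eq_maximalIdeal (Ring.DimensionLEOne.maximalOfPrime hs s.isPrime)
      subst hs'
      exact K491.PowFlat.rankZero_of_flat A n _
        (Groth.Agent.Sga7.H617.PowFib.natCast_eq_zero R n h0)
  · intro h
    refine (Groth.Agent.Sga7.H617.PowTfae.flat_lqf R (FractionRing R) A n (by omega) ?_).1
    by_cases h0 : (n : IsLocalRing.ResidueField R) = 0
    · exact Or.inr (hss.mp (h ((ringChar.spec _ n).mp h0)) _)
    · exact Or.inl h0

end Groth.Agent.S18495
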