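import Groth.Statements.S18496
import Groth.Agent.NonAbH1.K597.RepMain

set_option autoImplicit false
universe u
open CategoryTheory CategoryTheory.Limits AlgebraicGeometry MonObj
open NonAbH1

namespace Groth.Agent.S18496

/-- Let R be a discrete valuation ring with fraction field K, let R^sh be a strict henselization of R
which is a domain, with fraction field K^sh (a K-algebra compatibly with R → R^sh), let X be a group
scheme over Spec R which is a Néron model of its generic fibre X_K, and let T be an X_K-torsor for
the fppf topology (a K-scheme with an X_K-action, a pseudo-torsor trivialised on an fppf covering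
family). Then T extends to an X-torsor, in the sense that there is an fppf X-torsor P over Spec R (a
scheme) whose generic fibre is equivariantly isomorphic to T, if and only if T acquires a point over
Spec K^sh → Spec K: the X_K-torsors that extend are exactly those trivialised over K^sh. (The source
treats Néron lft models and all fppf torsors; the case of a Néron model of finite type and torsors
representable by schemes is stated.) -/
theorem result (R : Type u) [CommRing R]
    [IsDomain R] [IsDiscreteValuationRing R]
    (Rsh : Type u) [CommRing Rsh] [IsLocalRing Rsh] [IsDomain Rsh] [Algebra R Rsh] [IsLocalHom (algebraMap R Rsh)]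
    [Hensel.IsStrictHenselization R Rsh]
    (Ksh : Type u) [Field Ksh] [Algebra Rsh Ksh] [IsFractionRing Rsh Ksh] [Algebra R Ksh] [IsScalarTower R Rsh Ksh]
    [Algebra (FractionRing R) Ksh] [IsScalarTower R (FractionRing R) Ksh]
    (X : Over (Spec (CommRingCat.of R))) [GrpObj X] (hX : Neron.IsNeronModelOf R X ((Neron.genericFibre R).obj X) (Iso.refl _))
    (T : NonAbH1.TorsorSch (Red.bc (Neron.genPt R) X) Scheme.fppfPrecoverage) :
    (∃ P : NonAbH1.TorsorSch X Scheme.fppfPrecoverage, Nonempty (NonAbH1.EquivIso (P.act.bc (Neron.genPt R)) T.act)) ↔
      NonAbH1.HasSectionOver T.X (Spec.map (CommRingCat.ofHom (algebraMap (FractionRing R) Ksh))) := by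
  exact K597.NeronPt.main K597.RepMain.rep R Rsh Ksh X hX T

end Groth.Agent.S18496
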