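import Groth.Statements.S18498
import Mathlib.AlgebraicGeometry.Morphisms.SchemeTheoreticallyDominant
import Groth.Agent.Neron.K491.Ext

set_option autoImplicit false
universe u
open CategoryTheory CategoryTheory.Limits AlgebraicGeometry MonObj
open Neron

namespace Groth.Agent.S18498

/-- Let R be a Dedekind domain with fraction field K, X a Spec R-scheme which is flat over Spec R, Y a
Spec R-scheme which is separated over Spec R, and f, g : X → Y two R-morphisms whose restrictions to
generic fibres X_K → Y_K are equal. Then f = g: an R-morphism from a flat R-scheme to a separated
R-scheme is determined by its generic fibre. (The source states this for algebraic spaces over a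
connected Dedekind scheme; the case of schemes over an affine base is stated.) -/
theorem result (R : Type u) [CommRing R] [IsDedekindDomain R]
    (X Y : Over (Spec (CommRingCat.of R))) [Flat X.hom] [IsSeparated Y.hom] (f g : X ⟶ Y)
    (h : (Neron.genericFibre R).map f = (Neron.genericFibre R).map g) : f = g := by
  apply Over.OverMorphism.ext
  have e1 : ∀ u : X ⟶ Y, ((Neron.genericFibre R).map u).left ≫ pullback.fst Y.hom (Neron.genPt R) =
      pullback.fst X.hom (Neron.genPt R) ≫ u.left := fun u => pullback.lift_fst _ _ _
  have h0 : IsSchemeTheoreticallyDominant (Neron.genPt R) := K491.Ext.dom_genPt R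
  refine K491.Ext.eq_of_comp_eq X.hom Y.hom (pullback.fst X.hom (Neron.genPt R)) f.left g.left
    (Over.w f) (Over.w g) ?_
  rw [← e1, ← e1, h]

end Groth.Agent.S18498
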