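import Groth.Statements.S18499
import Groth.Agent.Neron.K491.IsogFlat
import Groth.Agent.S4077
import Groth.Agent.Sga7.H742.P1
import Groth.Agent.Sga7.H760.GeomKer

set_option autoImplicit false
universe u
open CategoryTheory CategoryTheory.Limits AlgebraicGeometry MonObj
open Neron

namespace Groth.Agent.S18499

/-- Let R be a discrete valuation ring with fraction field K and residue field of characteristic p (p =
0 allowed), let A and B be group schemes over Spec R which are Néron models of their generic fibres,
both abelian varieties over K (proper and geometrically integral), let φ : A → B be a homomorphism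
whose generic fibre φ_K is an isogeny (surjective with finite kernel), and let i : N → A be a kernel
of φ, so that N_K is a finite K-group scheme whose order (rank over Spec K) is the degree of φ_K.
If, whenever p divides that degree, A_K has semistable reduction over R (it extends to a smooth
separated group scheme of finite type over Spec R whose geometric fibres contain no closed subgroup
isomorphic to the additive group), then φ is flat. (The converse fails in general. The published
lemma is over a connected Dedekind scheme, with the reduction condition at every nongeneric point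
whose residue characteristic divides the degree; the case of a discrete valuation ring is stated.) -/
theorem result (R : Type u) [CommRing R]
    [IsDomain R] [IsDiscreteValuationRing R] (A B : Over (Spec (CommRingCat.of R))) [GrpObj A] [GrpObj B]
    (hA : Neron.IsNeronModelOf R A ((Neron.genericFibre R).obj A) (Iso.refl _))
    (hB : Neron.IsNeronModelOf R B ((Neron.genericFibre R).obj B) (Iso.refl _))
    [IsProper ((Neron.genericFibre R).obj A).hom] [GeometricallyIntegral ((Neron.genericFibre R).obj A).hom]
    [IsProper ((Neron.genericFibre R).obj B).hom] [GeometricallyIntegral ((Neron.genericFibre R).obj B).hom]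
    (φ : A ⟶ B) [IsMonHom φ] (hφ : SGA7.IsIsogenyOver ((Neron.genericFibre R).map φ))
    (N : Over (Spec (CommRingCat.of R))) (i : N ⟶ A) (hN : AlgGrp.IsKernel i φ)
    (h : ∀ x : ↥(Spec (CommRingCat.of (FractionRing R))),
      ringChar (IsLocalRing.ResidueField R) ∣ ((Neron.genericFibre R).obj N).hom.finrank x →
        SGA7.HasSemistableReduction R (FractionRing R) ((Neron.genericFibre R).obj A)) :
    Flat φ.left := by
  have hsm : Smooth A.hom := hA.1
  have hsep : IsSeparated A.hom := hA.2.1
  have hqc : QuasiCompact A.hom := hA.2.2.2.1
  have hsmB : Smooth B.hom := hB.1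
  have hsepB : IsSeparated B.hom := hB.2.1
  have hqcB : QuasiCompact B.hom := hB.2.2.2.1
  let K := FractionRing R
  have hN' : SGA7.IsNeron R (FractionRing R) A := by
    refine ⟨hA.1, hA.2.1, hA.2.2.2.1, fun Y hY => ?_⟩
    have h := hA.2.2.2.2 Y hY
    simp only [Iso.refl_hom, Category.comp_id] at h
    exact h
  have hss := Groth.Agent.S4077.result R (FractionRing R) A hN'
  have hcomm : IsCommMonObj A := Groth.Agent.Sga7.H617.PowTfae.isCommMonObj R (FractionRing R) A
  let j := Groth.Agent.Sga7.H756.DvrPt.jK R (FractionRing R)
  let C' : Over (Spec (CommRingCat.of (FractionRing R))) := Red.bc j A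
  let A' : Over (Spec (CommRingCat.of (FractionRing R))) := Red.bc j B
  let u : C' ⟶ A' := (Over.pullback j).map φ
  have hiso : SGA7.IsIsogenyOver u := hφ
  have hmonu : IsMonHom u := inferInstance
  have hNfin : IsFinite ((Neron.genericFibre R).obj N).hom :=
    hφ.2 _ _ (Groth.Agent.Sga7.H760.KerBc.isKernel_bc j hN)
  let x : Spec (CommRingCat.of (FractionRing R)) := IsLocalRing.closedPoint (FractionRing R)
  let d : ℕ := ((Neron.genericFibre R).obj N).hom.finrank x
  have hker := Groth.Agent.Sga7.H760.KerBc.isKernel_bc j hN
  have hsurj : Surjective u.left := hφ.1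
  have hd : 1 ≤ d := by
    let e : MonoidalCategoryStruct.tensorUnit (Over (Spec (CommRingCat.of (FractionRing R)))) ⟶ (Neron.genericFibre R).obj N :=
      hker.lift 1 (CartesianMonoidalCategory.toUnit _) (by rw [MonObj.one_comp]; rfl)
    have hx : ((Neron.genericFibre R).obj N).hom (e.left x) = x :=
      Subsingleton.elim (α := PrimeSpectrum (FractionRing R)) _ _
    have h1 := Scheme.Hom.one_le_finrank_map ((Neron.genericFibre R).obj N).hom (e.left x)
    rwa [hx] at h1
  have hlqf : LocallyQuasiFinite (SGA7.fibreHom (S := Spec (CommRingCat.of R))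
      (IsLocalRing.closedPoint R) φ).left := by
    by_cases h0 : ringChar (IsLocalRing.ResidueField R) ∣ d
    · have h1 := hss.mp (h x h0)
      have hP1 : Groth.Agent.Sga7.H760.GeomKer.P1Prop.{u} := by
        intro K _ _ A _ _ _ _ hA l hl hlK B hB
        exact Groth.Agent.Sga7.H742.P1.isFinite_of_bounded_torsion K A hA l hl hlK B hB
      exact Groth.Agent.Sga7.H760.GeomKer.lqf_of_rankZero hP1 A B φ _ _
        (IsLocalRing.specializes_closedPoint (R := R) _) (h1 _)
        (K491.IsogFlat.isIsogenyOver_fibreHom R (FractionRing R) A B φ hiso).2
    · have h1 : (d : IsLocalRing.ResidueField R) ≠ 0 := fun h2 => h0 ((ringChar.spec _ d).mp h2)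
      obtain ⟨v, hv⟩ := K491.IsogFlat.exists_factor u d (fun k hk =>
        K491.IsogFlat.pow_eq_one_of_finrank u _ _ 
          (Groth.Agent.Sga7.H760.KerBc.isKernel_bc j hN) hNfin x k hk)
      obtain ⟨ψ, hψ⟩ := (hA.2.2.2.2 B hsmB).2 v
      simp only [Iso.refl_hom, Category.comp_id] at hψ
      have h3 : φ ≫ ψ = (𝟙 A) ^ d := by
        apply Groth.Agent.Sga7.H756.GenBase.ext_of_flat j
        rw [Functor.map_comp, Groth.Agent.Sga7.H742.PowUnram.map_pow_one]
        exact (congrArg (fun w => u ≫ w) hψ).trans hv
      have h4 := (Groth.Agent.Sga7.H617.PowTfae.flat_lqf R (FractionRing R) A d (by omega)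
        (Or.inl h1)).2
      rw [← h3] at h4
      have h5 : LocallyQuasiFinite (φ.left ≫ ψ.left) := h4
      have h6 : LocallyQuasiFinite φ.left := LocallyQuasiFinite.of_comp φ.left ψ.left
      exact MorphismProperty.of_isPullback (P := @LocallyQuasiFinite)
        (Groth.Agent.Sga7.H756.GenBase.isPullback_map _ φ).flip inferInstance
  exact (K491.IsogFlat.flat_lqf_of_fibre R (FractionRing R) A B φ hiso).1

end Groth.Agent.S18499
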