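import Groth.Statements.S18501
import Groth.Agent.Neron.K491.NeutFlat
import Groth.Agent.Sga7.H760.Nhd
import Groth.Agent.Sga7.H756.GenBase

set_option autoImplicit false
universe u
open CategoryTheory CategoryTheory.Limits AlgebraicGeometry MonObj
open Neron

namespace Groth.Agent.S18501

open Groth.Agent.Sga3C.FlatPt Groth.Agent.Sga7.H756.GenBase in
/-- A homomorphism of smooth group schemes over a discrete valuation ring is flat if it is flat on
the special fibre. -/
theorem flat_of_fibre (R : Type u) [CommRing R] [IsDomain R] [IsDiscreteValuationRing R]
    (A B : Over (Spec (CommRingCat.of R))) [GrpObj A] [GrpObj B] [Smooth A.hom] [Smooth B.hom]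
    (φ : A ⟶ B) [IsMonHom φ]
    (h : Flat ((Over.pullback (Spec.map (CommRingCat.ofHom (IsLocalRing.residue R)))).map φ).left) :
    Flat φ.left := by
  let s : Spec (CommRingCat.of R) := IsLocalRing.closedPoint R
  let x := Spec.map (CommRingCat.ofHom (IsLocalRing.residue R))
  -- the point factors through `x`
  obtain ⟨g, hg⟩ : ∃ g : Spec ((Spec (CommRingCat.of R)).residueField s) ⟶
      Spec (CommRingCat.of (IsLocalRing.ResidueField R)),
      g ≫ x = (Spec (CommRingCat.of R)).fromSpecResidueField s := by
    obtain ⟨ρ, hρ⟩ := Spec.map_surjective ((Spec (CommRingCat.of R)).fromSpecResidueField s)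
    have h1 : Spec.map ρ (IsLocalRing.closedPoint ((Spec (CommRingCat.of R)).residueField s)) = s := by
      rw [hρ]
      exact Scheme.fromSpecResidueField_apply _ _
    have h2 : (IsLocalRing.maximalIdeal ((Spec (CommRingCat.of R)).residueField s)).comap ρ.hom =
        IsLocalRing.maximalIdeal R := congrArg PrimeSpectrum.asIdeal h1
    have h3 : IsLocalHom ρ.hom := ((IsLocalRing.local_hom_TFAE ρ.hom).out 0 4).2 h2
    let l : IsLocalRing.ResidueField R →+* (Spec (CommRingCat.of R)).residueField s :=
      IsLocalRing.ResidueField.lift ρ.hom
    refine ⟨Spec.map (CommRingCat.ofHom l), ?_⟩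
    rw [← Spec.map_comp, ← hρ]
    congr 1
  let a : ((Over.pullback ((Spec (CommRingCat.of R)).fromSpecResidueField s)).obj B).left ⟶
      ((Over.pullback x).obj B).left :=
    pullback.lift (pullback.fst _ _) (pullback.snd _ _ ≫ g)
      (by rw [Category.assoc, hg, pullback.condition])
  let b : ((Over.pullback ((Spec (CommRingCat.of R)).fromSpecResidueField s)).obj A).left ⟶
      ((Over.pullback x).obj A).left :=
    pullback.lift (pullback.fst _ _) (pullback.snd _ _ ≫ g)
      (by rw [Category.assoc, hg, pullback.condition])
  have ha : a ≫ bcι x B = bcι _ B := pullback.lift_fst _ _ _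
  have hb : b ≫ bcι x A = bcι _ A := pullback.lift_fst _ _ _
  have hpb : IsPullback (SGA7.fibreHom s φ).left b a ((Over.pullback x).map φ).left := by
    refine IsPullback.of_bot ?_ ?_ (isPullback_map x φ)
    · rw [ha, hb]
      exact isPullback_map ((Spec (CommRingCat.of R)).fromSpecResidueField s) φ
    · apply pullback.hom_ext
      · have e1 : ((SGA7.fibreHom s φ).left ≫ a) ≫ bcι x B = bcι _ A ≫ φ.left := by
          rw [Category.assoc, ha]
          exact bcι_naturality _ φ
        have e2 : (b ≫ ((Over.pullback x).map φ).left) ≫ bcι x B =
            bcι _ A ≫ φ.left := by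
          rw [Category.assoc, bcι_naturality, ← Category.assoc, hb]
        exact e1.trans e2.symm
      · have h1 : a ≫ ((Over.pullback x).obj B).hom =
          ((Over.pullback ((Spec (CommRingCat.of R)).fromSpecResidueField s)).obj B).hom ≫ g :=
          pullback.lift_snd _ _ _
        have h2 : b ≫ ((Over.pullback x).obj A).hom =
          ((Over.pullback ((Spec (CommRingCat.of R)).fromSpecResidueField s)).obj A).hom ≫ g :=
          pullback.lift_snd _ _ _
        change ((SGA7.fibreHom s φ).left ≫ a) ≫ ((Over.pullback x).obj B).hom =
          (b ≫ ((Over.pullback x).map φ).left) ≫ ((Over.pullback x).obj B).hom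
        rw [Category.assoc, Category.assoc, h1, Over.w, h2, ← Category.assoc]
        congr 1
        exact Over.w _
  have hf1 : Flat (SGA7.fibreHom s φ).left :=
    MorphismProperty.of_isPullback (P := @Flat) hpb.flip h
  obtain ⟨U, hU⟩ := Groth.Agent.Sga7.H760.Nhd.exists_open_flat φ
  have hsU : s ∈ U := by
    have h1 := Groth.Agent.Sga7.H760.Nhd.hom_unit A s
    rw [← h1, hU]
    exact Groth.Agent.Sga7.H760.FibreFlat.isFlatAt_of_flat_fibreHom φ s _ h1
  refine flat_of_forall_isFlatAt _ fun y => (hU y).1 ?_
  exact (IsLocalRing.specializes_closedPoint (R := R) (A.hom y)).mem_open U.2 hsU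

/-- Let R be a discrete valuation ring with fraction field K and residue field k, let A and B be group
schemes over Spec R which are Néron models of their generic fibres, both abelian varieties over K
(proper and geometrically integral), and let φ : A → B be a homomorphism whose generic fibre is an
isogeny (surjective with finite kernel). Then φ is flat if and only if the special fibre φ_k : A_k →
B_k maps the connected component of the identity point of A_k onto the connected component of the
identity point of B_k, i.e. the image of the former subset is the latter (φ induces a surjection of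
identity components; on the generic fibre this is automatic). (The published lemma is over a
connected Dedekind scheme, with this condition at every point, and includes a further equivalent
condition, quasi-finiteness of φ; the case of a discrete valuation ring is stated here, where only
the closed point matters.) -/
theorem result (R : Type u) [CommRing R]
    [IsDomain R] [IsDiscreteValuationRing R] (A B : Over (Spec (CommRingCat.of R))) [GrpObj A] [GrpObj B]
    (hA : Neron.IsNeronModelOf R A ((Neron.genericFibre R).obj A) (Iso.refl _))
    (hB : Neron.IsNeronModelOf R B ((Neron.genericFibre R).obj B) (Iso.refl _))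
    [IsProper ((Neron.genericFibre R).obj A).hom] [GeometricallyIntegral ((Neron.genericFibre R).obj A).hom]
    [IsProper ((Neron.genericFibre R).obj B).hom] [GeometricallyIntegral ((Neron.genericFibre R).obj B).hom]
    (φ : A ⟶ B) [IsMonHom φ] (hφ : SGA7.IsIsogenyOver ((Neron.genericFibre R).map φ)) :
    Flat φ.left ↔
      ((Over.pullback (Spec.map (CommRingCat.ofHom (IsLocalRing.residue R)))).map φ).left.base ''
          connectedComponent ((η[Red.bc (Spec.map (CommRingCat.ofHom (IsLocalRing.residue R))) A]).left.base (IsLocalRing.closedPoint (IsLocalRing.ResidueField R))) =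
        connectedComponent ((η[Red.bc (Spec.map (CommRingCat.ofHom (IsLocalRing.residue R))) B]).left.base (IsLocalRing.closedPoint (IsLocalRing.ResidueField R))) := by
  have hsm : Smooth A.hom := hA.1
  have hqc : QuasiCompact A.hom := hA.2.2.2.1
  have hsmB : Smooth B.hom := hB.1
  let x := Spec.map (CommRingCat.ofHom (IsLocalRing.residue R))
  have h1 : Smooth (Red.bc x A).hom := inferInstanceAs (Smooth (pullback.snd A.hom x))
  have h2 : Smooth (Red.bc x B).hom := inferInstanceAs (Smooth (pullback.snd B.hom x))
  have h3 : QuasiCompact (Red.bc x A).hom := inferInstanceAs (QuasiCompact (pullback.snd A.hom x))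
  have h4 : IsMonHom (M := Red.bc x A) (N := Red.bc x B) ((Over.pullback x).map φ) := inferInstance
  have h5 := K491.NeutFlat.flat_iff_image_eq (G := Red.bc x A) (H := Red.bc x B)
    ((Over.pullback x).map φ) (IsLocalRing.closedPoint (IsLocalRing.ResidueField R))
  refine Iff.trans ⟨fun h => ?_, fun h => flat_of_fibre R A B φ h⟩ h5
  exact MorphismProperty.of_isPullback (P := @Flat)
    (Groth.Agent.Sga7.H756.GenBase.isPullback_map x φ).flip h

end Groth.Agent.S18501
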