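import Groth.Statements.S18506
import Groth.Agent.EqInt.K957.Invt
import Groth.Agent.EqInt.K957.Triv
-- import your own Groth.Agent.* helpers here

set_option autoImplicit false
universe u
open CategoryTheory MonoidalCategory CartesianMonoidalCategory MonObj GrpObj AlgebraicGeometry Topology
open EqInt

namespace Groth.Agent.S18506

/-- Over a field k, let an affine group scheme G of finite type act on X and on U (quasi-separated
schemes of finite type over k), and let π : U → B be a principal bundle quotient (π is G-invariant,
flat and surjective and (σ, p₂) : G × U → U ×_B U is an isomorphism) which is locally trivial in the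
Zariski topology: every point of B has an open neighbourhood over which π has a section. Then the
diagonal action of G on X × U has a principal bundle quotient X × U → Q in the category of schemes.
(The published hypothesis is that G is special, i.e. every principal G-bundle is Zariski-locally
trivial; only the local triviality of U → B is used, and it is what is assumed here.) -/
theorem result (k : Type u) [Field k]
    (G X U B : Over (Spec (CommRingCat.of k))) [GrpObj G] [IsAffine G.left] [LocallyOfFiniteType G.hom]
    [LocallyOfFiniteType X.hom] [QuasiCompact X.hom] [QuasiSeparated X.hom]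
    [LocallyOfFiniteType U.hom] [QuasiCompact U.hom] [QuasiSeparated U.hom]
    [LocallyOfFiniteType B.hom] [QuasiCompact B.hom] [QuasiSeparated B.hom]
    (a : AlgGrp.Action G X) (b : AlgGrp.Action G U) (π : U ⟶ B) (hinv : GIT.IsInvariant b π)
    [Flat π.left] [Surjective π.left] (hcart : IsIso (GIT.PsiY b π hinv))
    (hzar : ∀ y : ↥B.left, ∃ (W : B.left.Opens) (s : (↑W : Scheme.{u}) ⟶ U.left), y ∈ W ∧ s ≫ π.left = W.ι) :
    ∃ (Q : Over (Spec (CommRingCat.of k))) (ρ : X ⊗ U ⟶ Q) (hρ : GIT.IsInvariant (a.prod b) ρ),
      Flat ρ.left ∧ Surjective ρ.left ∧ IsIso (GIT.PsiY (a.prod b) ρ hρ) := by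
  have hπqc : QuasiCompact π.left := K957.Bundle.quasiCompact_left π
  have Hπ := K957.Pts.isPullback_of_isIso b hinv hcart
  obtain ⟨Q, ρ, hρ, -, h1, h2, h3⟩ := K957.Glue.HasBundle.glue (a.prod b) (by
    intro z
    obtain ⟨W, s, hzW, hs⟩ := hzar ((snd X U ≫ π).left z)
    have hi : GIT.IsInvariant (a.prod b) (snd X U ≫ π) := by
      apply K957.Pts.isInvariant_of_dot
      intro T g x
      rw [← Category.assoc, K957.Pts.dot_prod_snd, K957.Pts.dot_inv b hinv, Category.assoc]
    let s' : K957.Restr.XU W ⟶ U := Over.homMk s (by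
      change s ≫ U.hom = W.ι ≫ B.hom
      rw [← hs, Category.assoc, Over.w])
    have hs' : s' ≫ π = K957.Restr.iU W := Over.OverMorphism.ext hs
    refine ⟨(snd X U ≫ π).left ⁻¹ᵁ W, K957.Invt.preimage_inv (a.prod b) hi W, hzW, ?_⟩
    obtain ⟨ρ, h1, h2, h3⟩ := K957.Triv.exists_bundle a b Hπ hs'
      (K957.Invt.isPullback_resOver (snd X U ≫ π) W)
      (K957.Restr.restrict_isEquivariant (a.prod b) _ (K957.Invt.preimage_inv (a.prod b) hi W))
    obtain ⟨k1, k2, k3⟩ := K957.Invt.bundle_props h3
    exact ⟨_, ρ, h1, k1, k2, k3, K957.Pts.isIso_of_isPullback _ h1 h2⟩)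
  exact ⟨Q, ρ, hρ, h1, h2, h3⟩

end Groth.Agent.S18506
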