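import Groth.Statements.S18508
import Groth.Agent.EqInt.K957.TrivStab
import Groth.Agent.S3042
-- import your own Groth.Agent.* helpers here

set_option autoImplicit false
universe u
open CategoryTheory MonoidalCategory CartesianMonoidalCategory MonObj GrpObj AlgebraicGeometry Topology
open EqInt

namespace Groth.Agent.S18508

/-- Over a field k, let an affine group scheme G of finite type act on a separated scheme X of finite
type over k, with stabilizer group scheme S = (G × X) ×_{X × X} X → X (the pullback of (σ, p₂) along
the diagonal). Assume that k has characteristic zero or that G is finite étale over k. Then the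
action is set-theoretically free (S → X is universally injective: the stabilizer of every geometric
point inside the group of geometric points is trivial) if and only if it is geometrically free (for
every point x of X the fibre of S over x is Spec κ(x) through its structure map). (The source takes
X integral and tests geometric points with values in an algebraic closure of k; the statement here
is over all points, which is what the argument gives pointwise.) -/
theorem result (k : Type u) [Field k]
    (G X : Over (Spec (CommRingCat.of k))) [GrpObj G] [IsAffine G.left] [LocallyOfFiniteType G.hom]
    [LocallyOfFiniteType X.hom] [QuasiCompact X.hom] [IsSeparated X.hom]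
    (hG : CharZero k ∨ (IsFinite G.hom ∧ Etale G.hom)) (a : AlgGrp.Action G X) :
    UniversallyInjective (Limits.pullback.snd (GIT.psi a (𝟙 X)).left (CartesianMonoidalCategory.lift (𝟙 X) (𝟙 X)).left) ↔
      ∀ x : ↥X.left, IsIso ((Limits.pullback.snd (GIT.psi a (𝟙 X)).left (CartesianMonoidalCategory.lift (𝟙 X) (𝟙 X)).left).fiberToSpecResidueField x) := by
  have h0 : LocallyOfFiniteType (G ⊗ X).hom :=
    inferInstanceAs (LocallyOfFiniteType (Limits.pullback.fst G.hom X.hom ≫ G.hom))
  have h1 : LocallyOfFiniteType (GIT.psi a (𝟙 X)).left := K957.Bundle.locallyOfFiniteType_left _
  have h2 : LocallyOfFiniteType (K957.Free.stabSnd a) := inferInstance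
  constructor
  · intro hinj
    change UniversallyInjective (K957.Free.stabSnd a) at hinj
    intro x
    rcases hG with hG | ⟨_, hG⟩
    · have hK : CharZero (X.left.residueField x) := by
        let f : Spec (X.left.residueField x) ⟶ Spec (CommRingCat.of k) :=
          X.left.fromSpecResidueField x ≫ X.hom
        exact charZero_of_injective_ringHom (f := (Spec.preimage f).hom) (RingHom.injective _)
      exact K957.TrivStab.isIso_fib_of_charZero a (K := X.left.residueField x)
        (X.left.fromSpecResidueField x)
    · have hm := K957.TrivStab.mono_stabSnd_of_unramified a
      obtain ⟨s, hs⟩ := K957.TrivStab.exists_section a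
      have := K957.TrivStab.isIso_of_mono_of_section (K957.Free.stabSnd a) s hs
      exact inferInstanceAs (IsIso (Limits.pullback.snd (K957.Free.stabSnd a) (X.left.fromSpecResidueField x)))
  · intro htriv
    have hm : Mono (K957.Free.stabSnd a) := by
      rw [Groth.Agent.S3042.result]
      intro x
      have := htriv x
      infer_instance
    change UniversallyInjective (K957.Free.stabSnd a)
    infer_instance

end Groth.Agent.S18508
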