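import Groth.Statements.S18512
import Groth.Agent.EqInt.K957.Bal
import Groth.Agent.S0114
-- import your own Groth.Agent.* helpers here

set_option autoImplicit false
universe u
open CategoryTheory MonoidalCategory CartesianMonoidalCategory MonObj GrpObj AlgebraicGeometry Topology
open EqInt

namespace Groth.Agent.S18512

/-- Over a field k, let G be an affine group scheme of finite type, i : H → G a closed subgroup scheme
with homogeneous space G/H (a G-scheme with base point q₀ whose orbit map G → G/H is an fppf
H-torsor with stabilizer H), and π : E → B a principal G-bundle (π is G-invariant, flat and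
surjective and (σ, p₂) : G × E → E ×_B E is an isomorphism), E and B separated of finite type over
k. Then the restricted action of H on E has a principal H-bundle quotient ρ : E → Q in schemes, with
Q separated of finite type over k, and the induced morphism φ : Q → B with ρ followed by φ equal to
π is flat and surjective; if G/H is proper over k then φ is proper. (The source takes E and B
integral and also identifies Q with the balanced product E ×^G (G/H) and gives the relative
dimension of φ; these clauses are not stated.) -/
theorem result (k : Type u) [Field k]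
    (G H GH E B : Over (Spec (CommRingCat.of k))) [GrpObj G] [GrpObj H] [IsAffine G.left] [LocallyOfFiniteType G.hom]
    (i : H ⟶ G) [IsMonHom i] [IsClosedImmersion i.left]
    (aQ : AlgGrp.Action G GH) (q₀ : 𝟙_ (Over (Spec (CommRingCat.of k))) ⟶ GH)
    (hGH : ChGrp.IsHomog Scheme.fppfPrecoverage i aQ q₀) [LocallyOfFiniteType GH.hom] [QuasiCompact GH.hom]
    [LocallyOfFiniteType E.hom] [QuasiCompact E.hom] [IsSeparated E.hom]
    [LocallyOfFiniteType B.hom] [QuasiCompact B.hom] [IsSeparated B.hom]
    (a : AlgGrp.Action G E) (π : E ⟶ B) (hinv : GIT.IsInvariant a π) [Flat π.left] [Surjective π.left]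
    (hcart : IsIso (GIT.PsiY a π hinv)) :
    ∃ (Q : Over (Spec (CommRingCat.of k))) (ρ : E ⟶ Q) (hρ : GIT.IsInvariant (a.restrict i) ρ) (φ : Q ⟶ B),
      LocallyOfFiniteType Q.hom ∧ QuasiCompact Q.hom ∧ IsSeparated Q.hom ∧
      Flat ρ.left ∧ Surjective ρ.left ∧ IsIso (GIT.PsiY (a.restrict i) ρ hρ) ∧ ρ ≫ φ = π ∧
      Flat φ.left ∧ Surjective φ.left ∧ (IsProper GH.hom → IsProper φ.left) := by
  have := K957.Bundle.quasiCompact_left π
  have Hc := K957.Pts.isPullback_of_isIso a hinv hcart
  obtain ⟨Q, ρ, hρ, h1, h2, h3, h4⟩ := K957.SubBundle.hasBundle_restrict i a Hc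
  have Hρ := K957.Pts.isPullback_of_isIso _ hρ h4
  obtain ⟨φ, hφ⟩ := K957.DescOver.exists_desc (a.restrict i) Hρ π
    (K957.SubBundle.isInvariant_restrict i a hinv)
  have : IsNoetherianRing (CommRingCat.of k) := inferInstanceAs (IsNoetherianRing k)
  have hH : LocallyOfFiniteType H.hom := by rw [← Over.w i]; infer_instance
  have hρp : LocallyOfFinitePresentation ρ.left :=
    K957.SubBundle.prop_of_bundle @LocallyOfFinitePresentation (a.restrict i) Hρ inferInstance
  have hEp : LocallyOfFinitePresentation (ρ.left ≫ Q.hom) := by rw [Over.w]; infer_instance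
  have hQp : LocallyOfFinitePresentation Q.hom := Groth.Agent.S0114.result ρ.left Q.hom
  have hEc : CompactSpace E.left :=
    (AlgebraicGeometry.quasiCompact_iff_compactSpace (f := E.hom)).mp inferInstance
  have hQc : CompactSpace Q.left :=
    ⟨by rw [← ρ.left.surjective.range_eq]; exact isCompact_range ρ.left.continuous⟩
  have hφs := K957.SubBundle.isSeparated_desc i a Hc Hρ hφ
  have hφl : ρ.left ≫ φ.left = π.left := congrArg CommaMorphism.left hφ
  have hHf := K957.Emb.flat_hom H
  have horb : QuasiCompact (aQ.orbitMap q₀).left := by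
    have : IsNoetherian G.left := by
      have := LocallyOfFiniteType.isLocallyNoetherian G.hom
      exact { }
    infer_instance
  refine ⟨Q, ρ, hρ, φ, inferInstance, (AlgebraicGeometry.quasiCompact_iff_compactSpace (f := Q.hom)).mpr hQc,
    ?_, h2, h3, h4, hφ, ?_, ?_, ?_⟩
  · rw [← Over.w φ]; infer_instance
  · have : Flat (ρ.left ≫ φ.left) := by rw [hφl]; infer_instance
    exact Groth.Agent.Sga3C.FlatOfComp.flat_of_comp ρ.left φ.left
  · have : Surjective (ρ.left ≫ φ.left) := by rw [hφl]; infer_instance
    exact Surjective.of_comp ρ.left φ.left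
  · intro hGH'
    exact K957.Bal.prop_desc i a @IsProper hGH' hGH Hc Hρ hφ

end Groth.Agent.S18512
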