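import Groth.Statements.S18513
import Groth.Agent.EqInt.K957.BlockHt
-- import your own Groth.Agent.* helpers here

set_option autoImplicit false
universe u
open CategoryTheory MonoidalCategory CartesianMonoidalCategory MonObj GrpObj AlgebraicGeometry Topology
open EqInt

namespace Groth.Agent.S18513

/-- Over a field k, let G = Spec A be an affine group scheme of finite type given with a closed
embedding of group schemes into some GL_m (a surjective bialgebra map from the coordinate ring of
GL_m onto A), and let r be a natural number. Then for some n there are a linear action of G on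
affine n-space over k (a comodule-algebra structure on the polynomial ring in n variables under
which every coordinate function is sent to an A-linear combination of coordinate functions) and a
G-invariant open subscheme U of affine n-space, every point of whose complement has codimension at
least r, such that G acts freely on U and U admits a principal G-bundle quotient U → Q in schemes, Q
separated and of finite type over k. -/
theorem result (k : Type u) [Field k]
    (A : Type u) [CommRing A] [HopfAlgebra k A] [Algebra.FiniteType k A]
    (m : ℕ) (e : CoordGrp.GLn m k →ₐc[k] A) (he : Function.Surjective e) (r : ℕ) :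
    ∃ (n : ℕ) (c : HopfRep.Comod k A (MvPolynomial (Fin n) k)) (hc : @GLin.IsCoactAlg k _ A _ _ (MvPolynomial (Fin n) k) _ _ c),
      @GLin.IsLinear k _ A _ _ (Fin n) _ c ∧
      ∃ (U : (Spec (CommRingCat.of (MvPolynomial (Fin n) k))).Opens)
        (aU : AlgGrp.Action (CoactBr.sp k A) (Over.mk (U.ι ≫ (CoactBr.sp k (MvPolynomial (Fin n) k)).hom))),
        AlgGrp.Action.IsEquivariant aU (@CoactBr.action k A (MvPolynomial (Fin n) k) _ _ _ _ _ c hc) (Over.homMk U.ι rfl) ∧
        (∀ x : ↥(Spec (CommRingCat.of (MvPolynomial (Fin n) k))), x ∉ U → (r : ℕ∞) ≤ Ideal.height x.asIdeal) ∧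
        IsClosedImmersion (GIT.psi aU (𝟙 _)).left ∧
        ∃ (Q : Over (Spec (CommRingCat.of k))) (ρ : Over.mk (U.ι ≫ (CoactBr.sp k (MvPolynomial (Fin n) k)).hom) ⟶ Q)
          (hρ : GIT.IsInvariant aU ρ),
          LocallyOfFiniteType Q.hom ∧ QuasiCompact Q.hom ∧ IsSeparated Q.hom ∧
          Flat ρ.left ∧ Surjective ρ.left ∧ IsIso (GIT.PsiY aU ρ hρ) := by
  classical
  let E : (Fin r × Fin m) × Fin m ≃ Fin (Fintype.card ((Fin r × Fin m) × Fin m)) := Fintype.equivFin _
  have hg := K957.Block.isGL_gG (k := k) (m := m)
  obtain ⟨Q, ρ, hρ, h1, h2, h3, h4, h5, h6, h7⟩ := K957.Block.exists_quotient E hg e he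
  refine ⟨_, K957.Block.comod E _ (K957.Block.comul_map hg e) (K957.Block.counit_map hg e),
    K957.Block.comod_isCoactAlg E _ (K957.Block.comul_map hg e) (K957.Block.counit_map hg e),
    K957.Block.comod_isLinear E _ (K957.Block.comul_map hg e) (K957.Block.counit_map hg e),
    K957.Block.UU k E, K957.Block.aU E _ (K957.Block.comul_map hg e) (K957.Block.counit_map hg e),
    K957.Restr.restrict_isEquivariant _ _ _, fun x hx => K957.Block.le_height E x hx,
    K957.Bundle.isClosedImmersion_psi _ ρ hρ h7, Q, ρ, hρ, h1, h2, h3, h4, h5, h7⟩

end Groth.Agent.S18513
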