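import Groth.Statements.S18514
import Groth.Agent.EqInt.K590.Envel
import Groth.Agent.S18510

set_option autoImplicit false
universe u
open CategoryTheory MonoidalCategory CartesianMonoidalCategory MonObj GrpObj AlgebraicGeometry Topology
open EqInt

namespace Groth.Agent.S18514

/-- Over a field k, let a smooth connected affine group scheme G of finite type act on X, on X̃ and on U
(quasi-separated schemes of finite type over k), and let π : X̃ → X be G-equivariant and proper and
an equivariant envelope: for every point x of X there is a point y of X̃ over x with trivial residue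
field extension (the closure of y maps birationally onto the closure of x), and when the closure of
x is G-invariant such a y exists with G-invariant closure. Let q_X : X × U → X_G and q_X̃ : X̃ × U →
X̃_G be principal bundle quotients for the diagonal actions (invariant, flat, surjective, (σ, p₂)
into the fibre square an isomorphism), X_G and X̃_G quasi-separated of finite type over k, and let p
: X̃_G → X_G satisfy p ∘ q_X̃ = q_X ∘ (π × id_U) as maps X̃ × U → X_G. Then p is proper and an
envelope, and if π restricts to an isomorphism over an open X⁰ of X then p restricts to an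
isomorphism over any open V of X_G whose inverse image under q_X is X⁰ × U. (G is taken smooth and
connected here. Smoothness cannot be dropped: in characteristic p, let the connected non-smooth
group μ_p act trivially on a point X, by translation on X̃ = μ_p and by multiplication on U = 𝔾_m;
both mixed spaces are 𝔾_m, the induced map X̃_G → X_G is the p-th power map, and the generic point
of X_G has no preimage with trivial residue field extension. The argument uses that a torsor under a
smooth connected group over a field K is geometrically integral, so that K is algebraically closed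
in its function field, and that inverse images in X × U of subvarieties of X_G are irreducible; the
published statement carries no explicit connectedness hypothesis. Stated for schemes; the source
allows algebraic spaces and a fixed representation containing U.) -/
theorem result (k : Type u) [Field k]
    (G X Xt U XG XtG : Over (Spec (CommRingCat.of k))) [GrpObj G] [IsAffine G.left] [LocallyOfFiniteType G.hom]
    [ConnectedSpace G.left] [Smooth G.hom]
    [LocallyOfFiniteType X.hom] [QuasiCompact X.hom] [QuasiSeparated X.hom]
    [LocallyOfFiniteType Xt.hom] [QuasiCompact Xt.hom] [QuasiSeparated Xt.hom]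
    [LocallyOfFiniteType U.hom] [QuasiCompact U.hom] [QuasiSeparated U.hom]
    [LocallyOfFiniteType XG.hom] [QuasiCompact XG.hom] [QuasiSeparated XG.hom]
    [LocallyOfFiniteType XtG.hom] [QuasiCompact XtG.hom] [QuasiSeparated XtG.hom]
    (a : AlgGrp.Action G X) (aXt : AlgGrp.Action G Xt) (b : AlgGrp.Action G U)
    (π : Xt ⟶ X) (hπ : AlgGrp.Action.IsEquivariant aXt a π) [IsProper π.left]
    (henv : ∀ x : ↥X.left, ∃ y : ↥Xt.left, π.left.base y = x ∧ IsIso (π.left.residueFieldMap y))
    (henvG : ∀ x : ↥X.left, ⇑a.act.left.base ⁻¹' closure {x} = ⇑(snd G X).left.base ⁻¹' closure {x} →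
      ∃ y : ↥Xt.left, π.left.base y = x ∧ IsIso (π.left.residueFieldMap y) ∧
        ⇑aXt.act.left.base ⁻¹' closure {y} = ⇑(snd G Xt).left.base ⁻¹' closure {y})
    (qX : X ⊗ U ⟶ XG) (hqX : GIT.IsInvariant (a.prod b) qX) [Flat qX.left] [Surjective qX.left]
    (hcX : IsIso (GIT.PsiY (a.prod b) qX hqX))
    (qXt : Xt ⊗ U ⟶ XtG) (hqXt : GIT.IsInvariant (aXt.prod b) qXt) [Flat qXt.left] [Surjective qXt.left]
    (hcXt : IsIso (GIT.PsiY (aXt.prod b) qXt hqXt))
    (p : XtG ⟶ XG) (hp : qXt ≫ p = (π ▷ U) ≫ qX) :
    IsProper p.left ∧
      (∀ w : ↥XG.left, ∃ v : ↥XtG.left, p.left.base v = w ∧ IsIso (p.left.residueFieldMap v)) ∧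
      ∀ (X0 : X.left.Opens) (V : XG.left.Opens), IsIso (π.left ∣_ X0) →
        qX.left ⁻¹ᵁ V = (fst X U).left ⁻¹ᵁ X0 → IsIso (p.left ∣_ V) := by
  have hqc : QuasiCompact qX.left := by
    have := K957.CartDesc.quasiCompact_tensor X U
    exact K957.Bundle.quasiCompact_left qX
  have hqct : QuasiCompact qXt.left := by
    have := K957.CartDesc.quasiCompact_tensor Xt U
    exact K957.Bundle.quasiCompact_left qXt
  have hG := K404.GeoInt.geometricallyIntegral G
  have hlft : LocallyOfFiniteType π.left := inferInstance
  refine ⟨(Groth.Agent.S18510.result k G Xt X U XtG XG aXt a b π hπ qXt hqXt hcXt qX hqX hcX p hp).1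
    inferInstance, ?_, ?_⟩
  · intro w
    exact K590.Envel.exists_point a aXt b π hπ henvG qX hqX hcX qXt hqXt hcXt p hp w
  · intro X0 V hX0 hV
    have HA : IsPullback (π ▷ U).left qXt.left qX.left p.left :=
      K957.Cart.isPullback_of_equivariant (aXt.prod b) (a.prod b) (π ▷ U)
        (K957.CartDesc.isEquivariant_whiskerRight b hπ) qXt hqXt hcXt qX hqX hcX p hp.symm
    exact K590.Envel.isIso_restrict HA (K957.CartDesc.isPullback_whiskerRight_left π U) X0 V hX0 hV

end Groth.Agent.S18514
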