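import Groth.Statements.S18515
import Groth.Agent.NonAbH1.K553.Bc
import Groth.Agent.Pi1.H396.ExtDedekind

set_option autoImplicit false
open CategoryTheory CategoryTheory.Limits MonoidalCategory CartesianMonoidalCategory MonObj GrpObj AlgebraicGeometry
universe u
open NonAbH1

namespace Groth.Agent.S18515

/-- A class represented by a torsor over a complete variety is unramified at every discrete valuation
ring of the function field. The published lemma assumes G finite, k algebraically closed of
characteristic zero and K finitely generated over k; this row allows any field k, any field K and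
any affine k-group scheme of finite type: let k be a field, X a proper k-scheme, G an affine k-group
scheme of finite type and P a torsor over X, locally trivial for the etale topology, under the base
change of G. For every field K with a k-morphism e : Spec K ⟶ X (for instance the generic point of
an integral X) and every discrete valuation ring R with fraction field K containing k compatibly,
there is a torsor Q over Spec R under the base change of G whose restriction to Spec K is
equivariantly isomorphic to the pullback of P along e, both regarded as actions of the base change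
of G to Spec K through the canonical identifications of iterated base changes. -/
theorem result
    (k K R : Type u) [Field k] [Field K] [Algebra k K]
    [CommRing R] [IsDomain R] [IsDiscreteValuationRing R] [Algebra k R] [Algebra R K] [IsFractionRing R K]
    (hc : Spec.map (CommRingCat.ofHom (algebraMap R K)) ≫ Spec.map (CommRingCat.ofHom (algebraMap k R)) =
      Spec.map (CommRingCat.ofHom (algebraMap k K)))
    (X : Scheme.{u}) (x : X ⟶ Spec (CommRingCat.of k)) [IsProper x]
    (G : Over (Spec (CommRingCat.of k))) [GrpObj G] [IsAffine G.left] [LocallyOfFiniteType G.hom]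
    (P : NonAbH1.TorsorSch (Red.bc x G) Scheme.etalePrecoverage)
    (e : Spec (CommRingCat.of K) ⟶ X) (he : e ≫ x = Spec.map (CommRingCat.ofHom (algebraMap k K))) :
    ∃ Q : NonAbH1.TorsorSch (Red.bc (Spec.map (CommRingCat.ofHom (algebraMap k R))) G) Scheme.etalePrecoverage,
      Nonempty (NonAbH1.EquivIso
        ((Q.act.bc (Spec.map (CommRingCat.ofHom (algebraMap R K)))).restrict
          (ActBC.bcCompIso (Spec.map (CommRingCat.ofHom (algebraMap R K)))
            (Spec.map (CommRingCat.ofHom (algebraMap k R))) G hc).inv)
        ((P.act.bc e).restrict (ActBC.bcCompIso e x G he).inv)) := by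
  obtain ⟨e', he1, he2⟩ := Groth.Agent.Pi1.H396.ExtDedekind.exists_extension x R K
    (Spec.map (CommRingCat.ofHom (algebraMap k R))) e (by rw [he, hc])
  have hA : IsTorsorFor Scheme.etalePrecoverage ((P.act.bc e').restrict (ActBC.bcCompIso e' x G he2).inv) :=
    K553.Bc.isTorsorFor_restrict (isTorsorFor_bc e' _ P.isTorsor) _
  refine ⟨⟨_, _, hA⟩, ⟨?_⟩⟩
  have h1 := K553.Bc.equivIsoRestrict (ActBC.equivIsoBcComp (Spec.map (CommRingCat.ofHom (algebraMap R K))) e' he1 P.act)
    ((ActBC.bcCompIso (Spec.map (CommRingCat.ofHom (algebraMap R K)))
            (Spec.map (CommRingCat.ofHom (algebraMap k R))) G hc).inv ≫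
      (Over.pullback (Spec.map (CommRingCat.ofHom (algebraMap R K)))).map (ActBC.bcCompIso e' x G he2).inv)
  rw [K553.Bc.restrict_restrict] at h1
  have h2 : (((ActBC.bcCompIso (Spec.map (CommRingCat.ofHom (algebraMap R K)))
            (Spec.map (CommRingCat.ofHom (algebraMap k R))) G hc).inv ≫
      (Over.pullback (Spec.map (CommRingCat.ofHom (algebraMap R K)))).map (ActBC.bcCompIso e' x G he2).inv) ≫
      (ActBC.bcCompIso (Spec.map (CommRingCat.ofHom (algebraMap R K))) e' (Red.bc x G) he1).hom) =
      (ActBC.bcCompIso e x G he).inv := by
    rw [← cancel_mono (ActBC.bcCompIso e x G he).hom, Iso.inv_hom_id, Category.assoc, Category.assoc,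
      Iso.inv_comp_eq, Category.comp_id, ← Functor.mapIso_inv, Iso.inv_comp_eq, Functor.mapIso_hom]
    exact K553.Bc.bcCompIso_assoc _ _ _ _ _ _ _ _
  have h3 : (P.act.bc e).restrict (((ActBC.bcCompIso (Spec.map (CommRingCat.ofHom (algebraMap R K)))
            (Spec.map (CommRingCat.ofHom (algebraMap k R))) G hc).inv ≫
      (Over.pullback (Spec.map (CommRingCat.ofHom (algebraMap R K)))).map (ActBC.bcCompIso e' x G he2).inv) ≫
      (ActBC.bcCompIso (Spec.map (CommRingCat.ofHom (algebraMap R K))) e' (Red.bc x G) he1).hom) =
      (P.act.bc e).restrict (ActBC.bcCompIso e x G he).inv := K553.Bc.restrict_congr _ h2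
  rw [h3] at h1
  rw [AlgGrp.Action.bc_restrict, K553.Bc.restrict_restrict]
  exact h1

end Groth.Agent.S18515
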