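import Groth.Statements.S18516
import Groth.Agent.NonAbH1.K191.FinRow

set_option autoImplicit false
open CategoryTheory CategoryTheory.Limits MonoidalCategory CartesianMonoidalCategory MonObj GrpObj AlgebraicGeometry
universe u
open NonAbH1

namespace Groth.Agent.S18516

/-- Suppose k is an algebraically closed field whose characteristic is zero, and take G to be a linear
algebraic group over k (an affine k-group scheme of finite type). Then there is a finite k-subgroup
S of G (a closed subgroup scheme, finite over k) such that for every field extension K of k the map
H¹(K, S) ⟶ H¹(K, G) induced by the inclusion is surjective. Here H¹(K, ·) is rendered by torsor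
schemes over Spec K locally trivial for the etale topology (for smooth affine groups over a field
these are the classes of the Galois cohomology set), and surjectivity says: every such torsor P
under the base change of G receives an equivariant morphism, along the base change of S ⟶ G, from
some such torsor under the base change of S. -/
theorem result
    (k : Type u) [Field k] [IsAlgClosed k] [CharZero k]
    (G : Over (Spec (CommRingCat.of k))) [GrpObj G] [IsAffine G.left] [LocallyOfFiniteType G.hom] :
    ∃ (S : Over (Spec (CommRingCat.of k))) (_ : GrpObj S) (i : S ⟶ G),
      IsMonHom i ∧ IsClosedImmersion i.left ∧ IsFinite S.hom ∧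
      ∀ (K : Type u) [Field K] [Algebra k K]
        (P : NonAbH1.TorsorSch (Red.bc (Spec.map (CommRingCat.ofHom (algebraMap k K))) G) Scheme.etalePrecoverage),
        ∃ Q : NonAbH1.TorsorSch (Red.bc (Spec.map (CommRingCat.ofHom (algebraMap k K))) S) Scheme.etalePrecoverage,
          NonAbH1.IsPushforwardAlongSch ((Over.pullback (Spec.map (CommRingCat.ofHom (algebraMap k K)))).map i) Q.act P.act := by
  exact K191.FinAsm.main k (K191.FinRow.redTor k) G
end Groth.Agent.S18516
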