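import Groth.Statements.S18517
import Groth.Agent.NonAbH1.K191.LeviMain

set_option autoImplicit false
open CategoryTheory CategoryTheory.Limits MonoidalCategory CartesianMonoidalCategory MonObj GrpObj AlgebraicGeometry
universe u
open NonAbH1

namespace Groth.Agent.S18517

/-- Over a field k of characteristic zero let G be a linear algebraic group (affine k-group scheme of
finite type), U ⟶ G its unipotent radical and L ⟶ G a Levi subgroup, that is a closed subgroup such
that multiplication L ×_k U ⟶ G is an isomorphism of schemes. Then for every field extension K of k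
the map H¹(K, L) ⟶ H¹(K, G) induced by the inclusion is bijective. With H¹(K, ·) rendered by torsor
schemes over Spec K locally trivial for the etale topology: every torsor under the base change of G
receives an equivariant morphism (along the base change of L ⟶ G) from some torsor under the base
change of L, and two torsors under the base change of L admitting equivariant morphisms to the same
torsor under the base change of G are equivariantly isomorphic. -/
theorem result
    (k : Type u) [Field k] [CharZero k]
    {G U L : Over (Spec (CommRingCat.of k))} [GrpObj G] [GrpObj U] [GrpObj L]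
    [IsAffine G.left] [LocallyOfFiniteType G.hom]
    (u : U ⟶ G) (hu : Par.IsUnipotentRadical u)
    (l : L ⟶ G) [IsMonHom l] [Mono l] (hl : IsClosedImmersion l.left) (hLU : IsIso ((l ⊗ₘ u) ≫ μ[G]))
    (K : Type u) [Field K] [Algebra k K] :
    (∀ P : NonAbH1.TorsorSch (Red.bc (Spec.map (CommRingCat.ofHom (algebraMap k K))) G) Scheme.etalePrecoverage,
      ∃ Q : NonAbH1.TorsorSch (Red.bc (Spec.map (CommRingCat.ofHom (algebraMap k K))) L) Scheme.etalePrecoverage,
        NonAbH1.IsPushforwardAlongSch ((Over.pullback (Spec.map (CommRingCat.ofHom (algebraMap k K)))).map l) Q.act P.act) ∧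
    (∀ (Q₁ Q₂ : NonAbH1.TorsorSch (Red.bc (Spec.map (CommRingCat.ofHom (algebraMap k K))) L) Scheme.etalePrecoverage)
      (P : NonAbH1.TorsorSch (Red.bc (Spec.map (CommRingCat.ofHom (algebraMap k K))) G) Scheme.etalePrecoverage),
      NonAbH1.IsPushforwardAlongSch ((Over.pullback (Spec.map (CommRingCat.ofHom (algebraMap k K)))).map l) Q₁.act P.act →
      NonAbH1.IsPushforwardAlongSch ((Over.pullback (Spec.map (CommRingCat.ofHom (algebraMap k K)))).map l) Q₂.act P.act →
      Nonempty (NonAbH1.EquivIso Q₁.act Q₂.act)) := by
  obtain ⟨hu1, hu2, hu3, hu4, hu5, hu6, -⟩ := hu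
  let f := Spec.map (CommRingCat.ofHom (algebraMap k K))
  have : CharZero K := charZero_of_injective_algebraMap (algebraMap k K).injective
  have hUaff : IsAffine U.left := isAffine_of_isAffineHom u.left
  have hUcon : ConnectedSpace U.left := K500.Ru.connectedSpace_of_geomFibre fun s => (hu6 s).1
  have hdec := K191.LeviMain.dec_bc f (K191.LeviMain.dec_of_isIso (l := l) (u := u) hLU)
  have hnorm : AlgGrp.IsNormalHom ((Over.pullback f).map u) := Groth.Agent.Sga3B.NormBc.isNormalHom_bc f u hu3
  have hlcl : IsClosedImmersion ((Over.pullback f).map l).left :=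
    MorphismProperty.overPullbackMap (P := @IsClosedImmersion) f l hl
  have hum : Mono ((Over.pullback f).map u) := by
    have : Mono u := by
      have : Mono ((Over.forget _).map u) := inferInstanceAs (Mono u.left)
      exact (Over.forget _).mono_of_mono_map this
    infer_instance
  have hGaff : IsAffine (Red.bc f G).left := inferInstanceAs (IsAffine (pullback G.hom f))
  have hGft : LocallyOfFiniteType (Red.bc f G).hom := inferInstanceAs (LocallyOfFiniteType (pullback.snd G.hom f))
  let L' := AlgebraicClosure K
  -- points of `U`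
  let eT : Groth.Agent.Books.AffBridge.SpecOver k L' ≅ (Over.map f).obj (K191.GalPt.Om K L') := Over.isoMk (Iso.refl _) (by
    change 𝟙 _ ≫ Spec.map _ ≫ Spec.map _ = Spec.map _
    rw [Category.id_comp, ← Spec.map_comp]
    congr 1)
  let e1 : (Groth.Agent.Books.AffBridge.SpecOver k L' ⟶ U) ≃* ((Over.map f).obj (K191.GalPt.Om K L') ⟶ U) :=
    { toFun := fun x => eT.inv ≫ x
      invFun := fun x => eT.hom ≫ x
      left_inv := fun x => eT.hom_inv_id_assoc x
      right_inv := fun x => eT.inv_hom_id_assoc x
      map_mul' := fun x y => MonObj.comp_mul _ _ _ }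
  let e2 := e1.trans (Groth.Agent.Sga3B.BcPts.bcMulEquiv f (K191.GalPt.Om K L') U)
  have hr := K191.LeviEx.URoots.congr e2 (K191.LeviEx.uroots_pts U (fun s => (hu6 s).2) L')
  have hnil : Group.IsNilpotent (K191.GalPt.Om K L' ⟶ Red.bc f U) := by
    obtain ⟨n, hn⟩ := K543.UnipPts.lowerCentralSeries_eq_bot U (fun s => (hu6 s).2)
    have h1 : Group.IsNilpotent (Groth.Agent.Books.AffBridge.SpecOver k L' ⟶ U) := by
      rw [Subgroup.nilpotent_iff_lowerCentralSeries]
      exact ⟨n, hn _⟩
    exact (Group.isNilpotent_congr e2).1 h1
  exact ⟨fun P => K191.LeviMain.exists_red ((Over.pullback f).map l) ((Over.pullback f).map u) hdec hnorm hr hnil P,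
    fun Q₁ Q₂ P h₁ h₂ => K191.LeviMain.iso_of_push ((Over.pullback f).map l) ((Over.pullback f).map u) hdec hnorm
      Q₁ Q₂ P h₁ h₂⟩
end Groth.Agent.S18517
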