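import Groth.Statements.S18518
import Groth.Agent.NonAbH1.K299.CoverZ
import Groth.Agent.NonAbH1.K299.FinEt
import Groth.Agent.NonAbH1.K494.FEtExt

set_option autoImplicit false
open CategoryTheory CategoryTheory.Limits MonoidalCategory CartesianMonoidalCategory MonObj GrpObj AlgebraicGeometry
universe u
open NonAbH1

namespace Groth.Agent.S18518

/-- Let k be an algebraically closed field of characteristic zero, G a linear algebraic group over k
(affine k-group scheme of finite type), K a finitely generated field extension of k and α ∈ H¹(K,
G). Then there is a finite abelian extension L of K such that α_L is strongly unramified: it is the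
restriction to the generic point of a torsor under G over a complete (proper, integral) k-variety Z
with function field L. H¹ is rendered by torsor schemes locally trivial for the etale topology, and
completeness of Z is rendered as Z ⟶ Spec k proper together with H-projective (a closed immersion
into a projective space over k), which is what the published construction of Z as a normalisation of
a projective variety in L yields. The published statement has no hypothesis on G; this row assumes a
finite closed k-subgroup S ⟶ G such that H¹(K′, S) ⟶ H¹(K′, G) is surjective for every field K′ over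
k (every such G has one; for G finite take S = G). The generic point is pinned by an isomorphism
Spec L ≅ Spec k(Z) composed with the canonical morphism from the spectrum of the stalk at the
generic point, compatible with k ⟶ K ⟶ L, and the two torsors over Spec L are compared as actions of
the base change of G along Spec L ⟶ Spec k through the canonical identifications of iterated base
changes. -/
theorem result
    (k : Type u) [Field k] [IsAlgClosed k] [CharZero k]
    (G : Over (Spec (CommRingCat.of k))) [GrpObj G] [IsAffine G.left] [LocallyOfFiniteType G.hom]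
    (S : Over (Spec (CommRingCat.of k))) [GrpObj S] [IsFinite S.hom] (i : S ⟶ G) [IsMonHom i]
    (hi : IsClosedImmersion i.left)
    (hS : ∀ (K' : Type u) [Field K'] [Algebra k K']
      (P : NonAbH1.TorsorSch (Red.bc (Spec.map (CommRingCat.ofHom (algebraMap k K'))) G) Scheme.etalePrecoverage),
      ∃ Q : NonAbH1.TorsorSch (Red.bc (Spec.map (CommRingCat.ofHom (algebraMap k K'))) S) Scheme.etalePrecoverage,
        NonAbH1.IsPushforwardAlongSch ((Over.pullback (Spec.map (CommRingCat.ofHom (algebraMap k K')))).map i) Q.act P.act)
    (K : Type u) [Field K] [Algebra k K] (hK : (⊤ : IntermediateField k K).FG)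
    (α : NonAbH1.TorsorSch (Red.bc (Spec.map (CommRingCat.ofHom (algebraMap k K))) G) Scheme.etalePrecoverage) :
    ∃ (L : Type u) (_ : Field L) (_ : Algebra K L) (_ : FiniteDimensional K L) (_ : IsGalois K L),
      (∀ σ τ : L ≃ₐ[K] L, σ * τ = τ * σ) ∧
      ∃ (Z : Scheme.{u}) (_ : IsIntegral Z) (z : Z ⟶ Spec (CommRingCat.of k)) (_ : IsProper z) (_ : RelProj.IsHProjective z)
        (e : Spec (CommRingCat.of L) ≅ Spec Z.functionField)
        (hz : (e.hom ≫ Z.fromSpecStalk (genericPoint Z)) ≫ z = Spec.map (CommRingCat.ofHom (algebraMap K L)) ≫ Spec.map (CommRingCat.ofHom (algebraMap k K)))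
        (P : NonAbH1.TorsorSch (Red.bc z G) Scheme.etalePrecoverage),
        Nonempty (NonAbH1.EquivIso
          ((P.act.bc (e.hom ≫ Z.fromSpecStalk (genericPoint Z))).restrict
            (ActBC.bcCompIso (e.hom ≫ Z.fromSpecStalk (genericPoint Z)) z G hz).inv)
          ((α.act.bc (Spec.map (CommRingCat.ofHom (algebraMap K L)))).restrict
            (ActBC.bcCompIso (Spec.map (CommRingCat.ofHom (algebraMap K L))) (Spec.map (CommRingCat.ofHom (algebraMap k K))) G rfl).inv)) := by
  obtain ⟨Q, hQ⟩ := hS K α
  have hQf : IsFinite Q.X.hom := K299.FinEt.torsor_isFinite _ S Q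
  have hQe : Etale Q.X.hom := K299.FinEt.torsor_etale _ S Q
  have hSe : Etale S.hom := K299.FinEt.etale_hom S
  let V : FEt.Cat (Spec (CommRingCat.of K)) := MorphismProperty.Over.mk ⊤ Q.X.hom ⟨hQf, hQe⟩
  obtain ⟨L, _, _, _, _, _, _, hab, 𝓕, h1, h2⟩ := K299.FEtVal.exists_main k K V
  have hL : (⊤ : IntermediateField k L).FG := by
    have e1 : Algebra.EssFiniteType k K := IntermediateField.fg_top_iff.1 hK
    have e2 : Algebra.EssFiniteType k L := Algebra.EssFiniteType.comp k K L
    exact IntermediateField.fg_top_iff.2 e2
  obtain ⟨Z, hZ, hn, z, hz, hproj, e, hez, Y, ⟨θ⟩⟩ := K299.CoverZ.exists_cover hL _ 𝓕 h1 h2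
  have hz' : (e.hom ≫ Z.fromSpecStalk (genericPoint Z)) ≫ z =
      Spec.map (CommRingCat.ofHom (algebraMap K L)) ≫ Spec.map (CommRingCat.ofHom (algebraMap k K)) := by
    rw [hez, ← Spec.map_comp, ← CommRingCat.ofHom_comp, ← IsScalarTower.algebraMap_eq]
  refine ⟨L, inferInstance, inferInstance, inferInstance, inferInstance, hab, Z, hZ, z, hz, hproj, e, hz', ?_⟩
  let T : Over Z := Over.mk Y.hom
  have hTf : IsFinite T.hom := Y.prop.1
  have hTe : Etale T.hom := Y.prop.2
  let θ' : Red.bc (e.hom ≫ Z.fromSpecStalk (genericPoint Z)) T ≅
      Red.bc (Spec.map (CommRingCat.ofHom (algebraMap K L))) Q.X :=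
    (MorphismProperty.Over.forget _ _ _).mapIso θ
  exact K494.Ext.row G S i α Q hQ hn z e hz' T θ'

end Groth.Agent.S18518
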