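import Groth.Statements.S18519
import Groth.Agent.Brauer.K447.FinDesc
import Groth.Agent.Brauer.K438.Index
import Groth.Agent.CurvesA.SepSplit2
import Mathlib.FieldTheory.PrimitiveElement
import Mathlib.FieldTheory.SeparableDegree

set_option autoImplicit false
universe u
open scoped TensorProduct
open Brauer

namespace Groth.Agent.S18519

/-- For a field K with maximal abelian extension K_ab, cd(K_ab) ≤ 1 if and only if for every etale
K-algebra E the restriction map Br(E) ⟶ Br(E ⊗_K K_ab) is trivial; the same holds with the maximal
solvable extension. Stated here for an arbitrary separable algebraic extension F of K in place of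
K_ab (the published lemma takes for F the maximal abelian or the maximal solvable extension of K;
this row allows any separable algebraic extension), with cd(F) ≤ 1 unfolded by the Brauer-group
criterion (every finite separable extension of F has trivial Brauer group) and with etale algebras
replaced by their field factors: (a) every finite-dimensional central division algebra over a finite
separable extension F′ of F is F′ itself; if and only if (b) for every finite separable extension E
of K, every finite-dimensional central division algebra D over E and every field M containing E and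
F compatibly over K, the base change M ⊗_E D is isomorphic over M to a matrix algebra over M. -/
theorem result
    (K F : Type u) [Field K] [Field F] [Algebra K F] [Algebra.IsSeparable K F] :
    (∀ (F' : Type u) [Field F'] [Algebra F F'] [FiniteDimensional F F'] [Algebra.IsSeparable F F']
        (D : Type u) [DivisionRing D] [Algebra F' D] [Algebra.IsCentral F' D] [FiniteDimensional F' D],
        Module.finrank F' D = 1) ↔
    (∀ (E : Type u) [Field E] [Algebra K E] [FiniteDimensional K E] [Algebra.IsSeparable K E]
        (D : Type u) [DivisionRing D] [Algebra E D] [Algebra.IsCentral E D] [FiniteDimensional E D]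
        (M : Type u) [Field M] [Algebra K M] [Algebra E M] [Algebra F M] [IsScalarTower K E M]
        [IsScalarTower K F M],
        ∃ n : ℕ, Nonempty ((M ⊗[E] D) ≃ₐ[M] Matrix (Fin n) (Fin n) M)) := by
  constructor
  · intro ha E _ _ _ _ D _ _ _ _ M _ _ _ _ _ _
    -- the compositum
    obtain ⟨x, hx⟩ := Field.exists_primitive_element K E
    let i : E →ₐ[K] M := IsScalarTower.toAlgHom K E M
    let F' : IntermediateField F M := IntermediateField.adjoin F {i x}
    have hxint : IsIntegral F (i x) := by
      have h1 : IsIntegral K (i x) := (Algebra.IsIntegral.isIntegral (R := K) x).map i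
      exact h1.tower_top
    have hsep : IsSeparable F (i x) := by
      have h2 : IsSeparable K (i x) := (Algebra.IsSeparable.isSeparable K x).map i i.injective
      exact h2.tower_top F
    have hfin : FiniteDimensional F F' := IntermediateField.adjoin.finiteDimensional hxint
    have hsepF : Algebra.IsSeparable F F' := by
      have := (IntermediateField.isSeparable_adjoin_simple_iff_isSeparable F M).mpr hsep
      exact this
    have hiF : ∀ y : E, i y ∈ F' := by
      intro y
      have h3 : (⊤ : IntermediateField K E) ≤ (F'.restrictScalars K).comap i := by
        rw [← hx, IntermediateField.adjoin_le_iff, Set.singleton_subset_iff]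
        exact IntermediateField.mem_adjoin_simple_self F (i x)
      exact h3 (show y ∈ (⊤ : IntermediateField K E) from trivial)
    let _ : Algebra E F' := ((i : E →+* M).codRestrict F'.toSubfield hiF).toAlgebra
    have : IsScalarTower E F' M := IsScalarTower.of_algebraMap_eq fun y => rfl
    have := Groth.Agent.CurvesA.SepSplit.isCentral_baseChange E F' D
    have := Groth.Agent.CurvesA.SepSplit.isSimpleRing_baseChange E F' D
    obtain ⟨n, D₁, _, _, hn, _, _, ⟨e⟩⟩ := K438.Index.exists_divisionRing F' (F' ⊗[E] D)
    have h4 := ha F' D₁
    have h5 : Curves.Splits F' (F' ⊗[E] D) M :=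
      (K438.Index.splits_divisionRing_iff F' M D₁ (F' ⊗[E] D) n hn e).mpr
        (K438.Index.splits_of_finrank_one F' M D₁ h4)
    obtain ⟨m, _, hm⟩ := K438.Basic.splits_of_splits_baseChange (k := E) (K := F') (A := D) M h5
    exact ⟨m, hm⟩
  · intro hb F' _ _ _ _ D _ _ _ _
    let _ : Algebra K F' := ((algebraMap F F').comp (algebraMap K F)).toAlgebra
    have : IsScalarTower K F F' := IsScalarTower.of_algebraMap_eq fun y => rfl
    have : Algebra.IsSeparable K F' := Algebra.IsSeparable.trans K F F'
    obtain ⟨E, hE, D', _, hD', hbij⟩ := K447.FinDesc.exists_subalgebra K (L := F') (D := D) ∅ Set.finite_empty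
    let _ : DivisionRing D' := divisionRingOfFiniteDimensional E D'
    let e : F' ⊗[E] D' ≃ₐ[F'] D := AlgEquiv.ofBijective _ hbij
    have hc : Algebra.IsCentral E D' := by
      obtain ⟨K', _, _, _, _, hs⟩ := Groth.Agent.CurvesA.SepSplit.exists_galois_splitting F' D
      have h6 : Curves.Splits F' (F' ⊗[E] D') K' := K438.Basic.splits_congr e.symm hs
      exact (Groth.Agent.CurvesA.SepSplit.csa_of_splits E K' D'
        (K438.Basic.splits_of_splits_baseChange (k := E) (K := F') (A := D') K' h6)).1
    have hsE : Algebra.IsSeparable K E := Algebra.isSeparable_tower_bot_of_isSeparable K E F'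
    obtain ⟨n, ⟨f⟩⟩ := hb E D' F'
    have hn : n ≠ 0 := K438.Index.ne_zero_of_algEquiv F' F' D n (e.symm.trans f)
    exact K438.Index.finrank_eq_one_of_splits_self F' D
      ⟨n, hn, ⟨(Algebra.TensorProduct.lid F' D).trans (e.symm.trans f)⟩⟩

end Groth.Agent.S18519
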