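import Groth.Statements.S18520
import Groth.Agent.Resolve.K84.Final
import Groth.Agent.Resolve.K284.NodeB
import Groth.Agent.Resolve.K616.E4
-- import your own Groth.Agent.* helpers here

set_option autoImplicit false
open CategoryTheory CategoryTheory.Limits MonoidalCategory CartesianMonoidalCategory MonObj GrpObj AlgebraicGeometry
universe u
open NonAbH1

namespace Groth.Agent.S18520

/-- Let k be an algebraically closed field of characteristic zero, K a finitely generated field
extension of k, G a finite group and α ∈ H¹(K, G). Then α is represented by a G-cover π : X′ ⟶ X
with X′ normal and projective, X smooth and projective, and a normal crossing divisor D on X such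
that π is unramified (a G-torsor) over X − D. Rendered with G a finite k-group scheme S (constant, k
being algebraically closed), H¹ by torsor schemes locally trivial for the etale topology,
projectivity as a closed immersion into a projective space over k, D as a finite family of ideal
sheaves forming a strict normal crossing divisor relative to X ⟶ Spec k with open complement U, and
"represents α" as: X integral with an isomorphism Spec K ≅ Spec k(X) making Spec K ⟶ X the generic
point compatibly with k ⟶ K, the base change of S acting on X′ over X, U containing the generic
point, the restriction of X′ to U a torsor, and the fibre of X′ at the generic point equivariantly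
isomorphic to α (as actions of the base change of S to Spec K through the canonical identification
of iterated base changes). X′ is not asserted irreducible (it may be a disjoint union of copies of
an integral cover). -/
theorem result
    (k K : Type u) [Field k] [IsAlgClosed k] [CharZero k] [Field K] [Algebra k K]
    (hK : (⊤ : IntermediateField k K).FG)
    (S : Over (Spec (CommRingCat.of k))) [GrpObj S] [IsFinite S.hom]
    (α : NonAbH1.TorsorSch (Red.bc (Spec.map (CommRingCat.ofHom (algebraMap k K))) S) Scheme.etalePrecoverage) :
    ∃ (X : Scheme.{u}) (_ : IsIntegral X) (x : X ⟶ Spec (CommRingCat.of k)) (_ : Smooth x)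
      (e : Spec (CommRingCat.of K) ≅ Spec X.functionField)
      (he : (e.hom ≫ X.fromSpecStalk (genericPoint X)) ≫ x = Spec.map (CommRingCat.ofHom (algebraMap k K)))
      (X' : Over X) (a : AlgGrp.Action (Red.bc x S) X')
      (r : ℕ) (D : Fin r → X.IdealSheafData) (U : X.Opens),
      RelProj.IsHProjective x ∧ IsFinite X'.hom ∧ Pi1.IsNormalScheme X'.left ∧
      RelProj.IsHProjective (X'.hom ≫ x) ∧ LogNCD.IsNCD D x ∧
      (U : Set X) = (⋃ i, ((D i).support : Set X))ᶜ ∧ genericPoint X ∈ U ∧
      NonAbH1.IsTorsorFor Scheme.etalePrecoverage (a.bc U.ι) ∧
      Nonempty (NonAbH1.EquivIso
        ((a.bc (e.hom ≫ X.fromSpecStalk (genericPoint X))).restrict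
          (ActBC.bcCompIso (e.hom ≫ X.fromSpecStalk (genericPoint X)) x S he).inv)
        α.act) :=
  K616.ResE4.main k K hK (K84.Final.W k (K284.NodeB.nodeB k)) S α

end Groth.Agent.S18520
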