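import Groth.Statements.S18526
-- import your own Groth.Agent.* helpers here
import Groth.Agent.ParSh.K958.Ctx

set_option autoImplicit false
universe u
open CategoryTheory CategoryTheory.Limits AlgebraicGeometry Polynomial
open ParSh

namespace Groth.Agent.S18526

/-- Let X be a scheme proper over a field k with an ample invertible sheaf L, and E a coherent
O_X-module with a finite weighted filtration 𝓔 by coherent sub-modules E = E₀ ⊇ E₁ ⊇ ⋯ ⊇ E_l ⊇
E_{l+1} = B, B coherent, with weights 0 ≤ w₀ < ⋯ < w_l < 1 and w_{l+1} := 1. Let P be the Hilbert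
polynomial of E with respect to L and, for 1 ≤ j ≤ l+1, H_j the Hilbert polynomial of the quotient
E/E_j. Then for every natural number m the parabolic Hilbert function χ(B(m)) + Σ_{j ≤ l} w_j
(χ(E_j(m)) − χ(E_{j+1}(m))) equals P(m) − Σ_{j=1}^{l+1} (w_j − w_{j−1}) H_j(m). The published
statement is for a parabolic sheaf along effective Cartier divisors on a projective scheme over an
algebraically closed field (B = E(−D)), averaged over several divisors; the identity holds for each
weighted filtration separately. -/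
theorem result (k : Type u) [Field k] (X : Scheme.{u})
    [X.Over (Spec (CommRingCat.of k))] [IsProper (X ↘ Spec (CommRingCat.of k))]
    (L : X.Modules) (hL : CohB1.IsAmple L) (E : X.Modules) (hE : Coh.IsCoh E) (𝓔 : ParSh.Str E)
    (hcoh : ∀ j, Coh.IsCoh ((𝓔.pieceX j : Subobject E) : X.Modules))
    (P : ℚ[X]) (hP : ShStab.IsHilbPoly k X L E P) (H : Fin (𝓔.l + 2) → ℚ[X])
    (hH : ∀ j, ShStab.IsHilbPoly k X L (cokernel (𝓔.pieceX j).arrow) (H j)) (m : ℕ) :
    𝓔.parHilb k X L m =
      ((P.eval (m : ℚ) : ℚ) : ℝ) -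
        ∑ j : Fin (𝓔.l + 1), (𝓔.wtX j.succ - 𝓔.wtX j.castSucc) * (((H j.succ).eval (m : ℚ) : ℚ) : ℝ) := by
  have hN := K958.HilbX.isNoetherian k X
  have key : ∀ j : Fin (𝓔.l + 2), (Curv2.euler k X (ShStab.twist X L ((𝓔.pieceX j : Subobject E) : X.Modules) m) : ℝ) =
      ((P.eval (m : ℚ) : ℚ) : ℝ) - (((H j).eval (m : ℚ) : ℚ) : ℝ) := by
    intro j
    have h := K958.HilbX.isAdd_twist k hL.1 m _ (K958.StrX.shortExact_sub (𝓔.pieceX j)) (hcoh j) hE
      (K958.StrCoh.isCoh_cokernel_sub hE _ (hcoh j))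
    simp only at h
    rw [← hP m, ← hH j m, h]
    push_cast
    ring
  have key0 : (H 0).eval (m : ℚ) = 0 := by
    have hz : IsZero (cokernel (𝓔.pieceX 0).arrow) := by
      rw [K958.Abel.pieceX_zero_eq_top]
      exact isZero_cokernel_of_epi _
    rw [K958.HilbX.unique (hH 0) (K958.HilbX.of_isZero hL.1 hz)]
    simp
  unfold ParSh.Str.parHilb
  rw [K958.Abel.parSum_eq, key 0, key0]
  have h2 : ∑ j : Fin (𝓔.l + 1), K958.Abel.dw 𝓔 j *
      (Curv2.euler k X (ShStab.twist X L ((𝓔.pieceX j.succ : Subobject E) : X.Modules) m) : ℝ) =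
      (∑ j : Fin (𝓔.l + 1), K958.Abel.dw 𝓔 j) * ((P.eval (m : ℚ) : ℚ) : ℝ) -
        ∑ j : Fin (𝓔.l + 1), (𝓔.wtX j.succ - 𝓔.wtX j.castSucc) * (((H j.succ).eval (m : ℚ) : ℚ) : ℝ) := by
    rw [Finset.sum_mul, ← Finset.sum_sub_distrib]
    refine Finset.sum_congr rfl fun j _ => ?_
    rw [key j.succ]
    unfold K958.Abel.dw
    ring
  rw [h2, K958.Abel.sum_dw]
  push_cast
  ring

end Groth.Agent.S18526
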