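import Groth.Statements.S18527
-- import your own Groth.Agent.* helpers here
import Groth.Agent.ParSh.K958.Ctx

set_option autoImplicit false
universe u
open CategoryTheory CategoryTheory.Limits AlgebraicGeometry Polynomial
open ParSh

namespace Groth.Agent.S18527

/-- An upper and a lower bound for the second coefficient of the parabolic Hilbert polynomial. Let X be
a scheme proper over a field k with an ample invertible sheaf L, I the ideal of an effective Cartier
divisor D on X, and E a coherent O_X-module with a finite weighted filtration 𝓔 along I by coherent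
pieces E = E₀ ⊇ ⋯ ⊇ E_l ⊇ E_{l+1} = I·E, weights 0 ≤ w₀ < ⋯ < w_l < 1. Let d ≥ 1 be a natural number
with Supp E ∩ Supp D of topological Krull dimension less than d, P the Hilbert polynomial of E with
respect to L and P_j that of E_j (0 ≤ j ≤ l+1). Then the coefficient of degree d − 1 of the
parabolic Hilbert polynomial P_{l+1} + Σ_{j ≤ l} w_j (P_j − P_{j+1}) is at least the coefficient of
degree d − 1 of P_{l+1} and at most that of P. For E pure of dimension d this says that the
parabolic slope lies between the slope of E(−D) and the slope of E; the published statement also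
gives a lower bound μ(E) − b with b depending only on a bound for the multiplicity of E, on d, D and
L, which is not part of this row. -/
theorem result (k : Type u) [Field k] (X : Scheme.{u})
    [X.Over (Spec (CommRingCat.of k))] [IsProper (X ↘ Spec (CommRingCat.of k))]
    (L : X.Modules) (hL : CohB1.IsAmple L) (I : X.IdealSheafData) (hD : FGA.IsEffCartier I)
    (E : X.Modules) (hE : Coh.IsCoh E) (𝓔 : ParSh.Str E) (h𝓔 : 𝓔.Along I)
    (hcoh : ∀ j, Coh.IsCoh ((𝓔.pieceX j : Subobject E) : X.Modules)) (d : ℕ) (hd : 1 ≤ d)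
    (hsupp : topologicalKrullDim ↥(CohB1.support E ∩ (I.support : Set X)) < (d : WithBot ℕ∞))
    (P : ℚ[X]) (hP : ShStab.IsHilbPoly k X L E P) (PX : Fin (𝓔.l + 2) → ℚ[X])
    (hPX : ∀ j, ShStab.IsHilbPoly k X L ((𝓔.pieceX j : Subobject E) : X.Modules) (PX j)) :
    (W4swparbununimod.rpoly (PX (Fin.last (𝓔.l + 1)))).coeff (d - 1) ≤ (W4swparbununimod.parPoly 𝓔 PX).coeff (d - 1) ∧
      (W4swparbununimod.parPoly 𝓔 PX).coeff (d - 1) ≤ (W4swparbununimod.rpoly P).coeff (d - 1) := by
  have hN := K958.HilbX.isNoetherian k X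
  have hdim := K958.Ctx.dim_piece h𝓔 hsupp
  -- comparison of the coefficients for two nested subobjects containing the bottom
  have key : ∀ (j : Fin (𝓔.l + 2)), (PX (Fin.last (𝓔.l + 1))).coeff (d - 1) ≤ (PX j).coeff (d - 1) := by
    intro j
    have hle : 𝓔.pieceX (Fin.last (𝓔.l + 1)) ≤ 𝓔.pieceX j := K958.Abel.pieceX_anti 𝓔 (Fin.le_last j)
    have h1 := K958.StrCoh.hilb_ofLE hL.1 hle (hcoh _) (hcoh j) (hPX _) (hPX j)
    have h2 := K958.HilbPos.coeff_pred_nonneg hL (K958.StrCoh.isCoh_ofLE_cokernel hle (hcoh _) (hcoh j)) hd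
      (lt_of_le_of_lt (K958.Satur.dim_mono (K958.StrCoh.support_ofLE hle)) (hdim _)) h1
    rw [Polynomial.coeff_sub] at h2
    linarith
  have key' : ∀ (j : Fin (𝓔.l + 2)), (PX j).coeff (d - 1) ≤ P.coeff (d - 1) := by
    intro j
    have h1 := K958.StrCoh.hilb_cokernel hL.1 hE hP _ (hcoh j) (hPX j)
    have h2 := K958.HilbPos.coeff_pred_nonneg hL (K958.StrCoh.isCoh_cokernel_sub hE _ (hcoh j)) hd (hdim j) h1
    rw [Polynomial.coeff_sub] at h2
    linarith
  have hsum := K958.Abel.sum_dw' 𝓔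
  have hw := K958.Abel.wt_nonneg 𝓔 0
  rw [K958.Abel.parPoly_coeff, Polynomial.coeff_map, Polynomial.coeff_map]
  simp only [eq_ratCast]
  have e1 : ∀ j, (((PX (Fin.last (𝓔.l + 1))).coeff (d - 1) : ℚ) : ℝ) ≤ ((PX j).coeff (d - 1) : ℝ) := fun j => by
    exact_mod_cast key j
  have e2 : ∀ j, ((PX j).coeff (d - 1) : ℝ) ≤ ((P.coeff (d - 1) : ℚ) : ℝ) := fun j => by
    exact_mod_cast key' j
  constructor
  · calc (((PX (Fin.last (𝓔.l + 1))).coeff (d - 1) : ℚ) : ℝ)
        = 𝓔.wt 0 * (((PX (Fin.last (𝓔.l + 1))).coeff (d - 1) : ℚ) : ℝ) +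
          ∑ j : Fin (𝓔.l + 1), K958.Abel.dw 𝓔 j * (((PX (Fin.last (𝓔.l + 1))).coeff (d - 1) : ℚ) : ℝ) := by
          rw [← Finset.sum_mul, ← add_mul, hsum, one_mul]
      _ ≤ _ := add_le_add (mul_le_mul_of_nonneg_left (e1 _) hw)
          (Finset.sum_le_sum fun j _ => mul_le_mul_of_nonneg_left (e1 _) (K958.Abel.dw_pos 𝓔 j).le)
  · calc _ ≤ 𝓔.wt 0 * ((P.coeff (d - 1) : ℚ) : ℝ) +
          ∑ j : Fin (𝓔.l + 1), K958.Abel.dw 𝓔 j * ((P.coeff (d - 1) : ℚ) : ℝ) :=
          add_le_add (mul_le_mul_of_nonneg_left (e2 _) hw)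
            (Finset.sum_le_sum fun j _ => mul_le_mul_of_nonneg_left (e2 _) (K958.Abel.dw_pos 𝓔 j).le)
      _ = _ := by rw [← Finset.sum_mul, ← add_mul, hsum, one_mul]

end Groth.Agent.S18527
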