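import Groth.Statements.S18528
-- import your own Groth.Agent.* helpers here
import Groth.Agent.ParSh.K958.Ctx

set_option autoImplicit false
universe u
open CategoryTheory CategoryTheory.Limits AlgebraicGeometry Polynomial
open ParSh

namespace Groth.Agent.S18528

/-- Reduced parabolic Hilbert polynomials versus parabolic slopes, for one test subsheaf. Let X be a
scheme proper over a field k with an ample invertible sheaf L, I the ideal of an effective Cartier
divisor D on X, and E a nonzero coherent O_X-module, pure of dimension d ≥ 1, with Supp E ∩ Supp D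
of topological Krull dimension less than d, carrying a finite weighted filtration 𝓔 along I by
coherent pieces E = E₀ ⊇ ⋯ ⊇ E_{l+1} = I·E with weights 0 ≤ w₀ < ⋯ < w_l < 1. Let P be the Hilbert
polynomial of E and P_j that of E_j. Let ι : W → E be a monomorphism from a coherent module W, give
W the induced filtration (pieces the preimages of the E_j, same weights) with Hilbert polynomials Q
of W and Q_j of its pieces, and write Par_E = P_{l+1} + Σ_j w_j (P_j − P_{j+1}), Par_W = Q_{l+1} +
Σ_j w_j (Q_j − Q_{j+1}), α_d for d! times the coefficient of degree d. Then: (i) if Par_W(m)·α_d(P)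
≤ Par_E(m)·α_d(Q) for all large natural numbers m, the coefficients of degree d − 1 satisfy
coeff(Par_W)·α_d(P) ≤ coeff(Par_E)·α_d(Q); (ii) if this coefficient inequality is strict, then
Par_W(m)·α_d(P) < Par_E(m)·α_d(Q) for all large m. With W running over the saturated nonzero proper
subsheaves this is the published implication: parabolic semistability for the reduced parabolic
Hilbert polynomial implies parabolic slope-semistability, and parabolic slope-stability implies
stability for the reduced parabolic Hilbert polynomial. -/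
theorem result (k : Type u) [Field k] (X : Scheme.{u})
    [X.Over (Spec (CommRingCat.of k))] [IsProper (X ↘ Spec (CommRingCat.of k))]
    (L : X.Modules) (hL : CohB1.IsAmple L) (I : X.IdealSheafData) (hD : FGA.IsEffCartier I)
    (E : X.Modules) (hE : Coh.IsCoh E) (h0 : ¬ IsZero E) (d : ℕ) (hd : 1 ≤ d)
    (hpure : ShStab.IsPure X E d) (𝓔 : ParSh.Str E) (h𝓔 : 𝓔.Along I)
    (hcoh : ∀ j, Coh.IsCoh ((𝓔.pieceX j : Subobject E) : X.Modules))
    (hsupp : topologicalKrullDim ↥(CohB1.support E ∩ (I.support : Set X)) < (d : WithBot ℕ∞))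
    (P : ℚ[X]) (hP : ShStab.IsHilbPoly k X L E P) (PX : Fin (𝓔.l + 2) → ℚ[X])
    (hPX : ∀ j, ShStab.IsHilbPoly k X L ((𝓔.pieceX j : Subobject E) : X.Modules) (PX j))
    {W : X.Modules} (ι : W ⟶ E) [Mono ι] (hW : Coh.IsCoh W)
    (Q : ℚ[X]) (hQ : ShStab.IsHilbPoly k X L W Q) (QX : Fin (𝓔.l + 2) → ℚ[X])
    (hQX : ∀ j, ShStab.IsHilbPoly k X L (((𝓔.induced ι).pieceX j : Subobject W) : X.Modules) (QX j)) :
    ((∃ M : ℕ, ∀ m : ℕ, M ≤ m →
        (W4swparbununimod.parPoly (𝓔.induced ι) QX).eval (m : ℝ) * (StabCat.alpha d P : ℝ) ≤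
          (W4swparbununimod.parPoly 𝓔 PX).eval (m : ℝ) * (StabCat.alpha d Q : ℝ)) →
      (W4swparbununimod.parPoly (𝓔.induced ι) QX).coeff (d - 1) * (StabCat.alpha d P : ℝ) ≤
        (W4swparbununimod.parPoly 𝓔 PX).coeff (d - 1) * (StabCat.alpha d Q : ℝ)) ∧
    ((W4swparbununimod.parPoly (𝓔.induced ι) QX).coeff (d - 1) * (StabCat.alpha d P : ℝ) <
        (W4swparbununimod.parPoly 𝓔 PX).coeff (d - 1) * (StabCat.alpha d Q : ℝ) →
      ∃ M : ℕ, ∀ m : ℕ, M ≤ m →
        (W4swparbununimod.parPoly (𝓔.induced ι) QX).eval (m : ℝ) * (StabCat.alpha d P : ℝ) <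
          (W4swparbununimod.parPoly 𝓔 PX).eval (m : ℝ) * (StabCat.alpha d Q : ℝ)) := by
  have hN := K958.HilbX.isNoetherian k X
  have hcohW : ∀ j, Coh.IsCoh (((𝓔.induced ι).pieceX j : Subobject W) : X.Modules) := fun j =>
    K958.Ctx.isCoh_induced hE hcoh ι hW j
  have hEdim := K958.Satur.dim_support_le_of_isPure hE hpure
  have hWdim := K958.Satur.dim_support_le_of_isPure hW (K958.Satur.isPure_of_mono ι hpure)
  have hP1 : ∀ n, d < n → P.coeff n = 0 := fun n hn =>
    Polynomial.coeff_eq_zero_of_natDegree_lt (lt_of_le_of_lt (K958.HilbX.natDegree_le hL.1 hE hEdim hP) hn)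
  have hQ1 : ∀ n, d < n → Q.coeff n = 0 := fun n hn =>
    Polynomial.coeff_eq_zero_of_natDegree_lt (lt_of_le_of_lt (K958.HilbX.natDegree_le hL.1 hW hWdim hQ) hn)
  have hcE := fun n (hn : d ≤ n) =>
    K958.Ctx.parPoly_coeff_top hL.1 hE 𝓔 hcoh (K958.Ctx.dim_piece h𝓔 hsupp) hP hPX hn
  have hcW := fun n (hn : d ≤ n) =>
    K958.Ctx.parPoly_coeff_top hL.1 hW (𝓔.induced ι) hcohW (K958.Ctx.dim_induced h𝓔 hsupp ι) hQ hQX hn
  -- the difference has degree at most `d - 1`
  set D : ℝ[X] := W4swparbununimod.parPoly 𝓔 PX * Polynomial.C (StabCat.alpha d Q : ℝ) -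
    W4swparbununimod.parPoly (𝓔.induced ι) QX * Polynomial.C (StabCat.alpha d P : ℝ) with hD'
  have hDdeg : D.natDegree ≤ d - 1 := by
    refine K958.RealPoly.natDegree_le_pred hd fun n hn => ?_
    rw [hD', Polynomial.coeff_sub, Polynomial.coeff_mul_C, Polynomial.coeff_mul_C, hcE n hn, hcW n hn]
    rcases eq_or_lt_of_le hn with rfl | hlt
    · unfold StabCat.alpha
      push_cast
      ring
    · rw [hP1 n hlt, hQ1 n hlt]; simp
  have hDeval : ∀ m : ℕ, D.eval (m : ℝ) =
      (W4swparbununimod.parPoly 𝓔 PX).eval (m : ℝ) * (StabCat.alpha d Q : ℝ) -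
        (W4swparbununimod.parPoly (𝓔.induced ι) QX).eval (m : ℝ) * (StabCat.alpha d P : ℝ) := fun m => by
    rw [hD', Polynomial.eval_sub, Polynomial.eval_mul, Polynomial.eval_mul, Polynomial.eval_C, Polynomial.eval_C]
  have hDcoeff : D.coeff (d - 1) =
      (W4swparbununimod.parPoly 𝓔 PX).coeff (d - 1) * (StabCat.alpha d Q : ℝ) -
        (W4swparbununimod.parPoly (𝓔.induced ι) QX).coeff (d - 1) * (StabCat.alpha d P : ℝ) := by
    rw [hD', Polynomial.coeff_sub, Polynomial.coeff_mul_C, Polynomial.coeff_mul_C]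
  constructor
  · rintro ⟨M, hM⟩
    have h := K958.RealPoly.coeff_nonneg hDdeg (M := M) fun m hm => by
      rw [hDeval]; exact sub_nonneg.2 (hM m hm)
    rw [hDcoeff] at h
    exact sub_nonneg.1 h
  · intro h
    obtain ⟨M, hM⟩ := K958.RealPoly.eventually_pos hDdeg (by rw [hDcoeff]; exact sub_pos.2 h)
    refine ⟨M, fun m hm => ?_⟩
    have h1 := hM m hm
    rw [hDeval] at h1
    exact sub_pos.1 h1

end Groth.Agent.S18528
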