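import Groth.Statements.S18529
-- import your own Groth.Agent.* helpers here
import Groth.Agent.ParSh.K958.HomB
import Groth.Agent.ParSh.K958.HomC

set_option autoImplicit false
universe u
open CategoryTheory CategoryTheory.Limits AlgebraicGeometry Polynomial
open ParSh

namespace Groth.Agent.S18529

/-- Kernel and image of a parabolic homomorphism between semistable parabolic sheaves with the same
reduced parabolic Hilbert polynomial, for one divisor. Let X be a scheme proper over a field k with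
an ample invertible sheaf L, I the ideal of an effective Cartier divisor D on X, and d ≥ 1. Let E
and F be nonzero coherent O_X-modules, pure of dimension d, with Supp E ∩ Supp D and Supp F ∩ Supp D
of topological Krull dimension less than d, carrying finite weighted filtrations 𝓔 and 𝓕 along I by
coherent pieces, with the same set of weights and with smallest weight positive. Let P and R be the
Hilbert polynomials of E and F, P_j and R_j those of the pieces, and Par_E = P_{l+1} + Σ_j w_j (P_j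
− P_{j+1}), Par_F likewise; α_d denotes d! times the coefficient of degree d. Assume both filtered
sheaves are semistable for the reduced parabolic Hilbert polynomial: for every nonzero coherent
sub-module W → E whose cokernel is pure of dimension d or zero, with its induced filtration and any
Hilbert polynomials Q of W and Q_j of its pieces, Par_W(m)·α_d(P) ≤ Par_E(m)·α_d(Q) for all large
natural m (and the same for F); and assume Par_E·α_d(R) = Par_F·α_d(P). Let f : E → F be a parabolic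
homomorphism, j : K → E a monomorphism with 0 → K → E → F exact at E, and f = q ≫ u with q : E → V
an epimorphism and u : V → F a monomorphism. Then: (1) for all Hilbert polynomials Q_K of K and
Q_{K,j} of the pieces of the filtration induced on K, Par_K·α_d(P) = Par_E·α_d(Q_K) (the kernel has
the same reduced parabolic Hilbert polynomial); (2) the cokernel of u is pure of dimension d or zero
(the image of f is saturated in F); (3) for every real a with 0 ≤ a ≤ 1, the a-th piece of the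
filtration induced on V as a quotient of E equals the a-th piece of the filtration induced on V as a
sub-module of F. The published statement is phrased for parabolic sheaves along several divisors on
the fibres of a projective X → S over an algebraically closed field and concludes that such sheaves
form an abelian category; this row is the absolute one-divisor case of the kernel and image steps of
its proof, with semistability tested on saturated sub-modules carrying the induced filtration. -/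
theorem result (k : Type u) [Field k] (X : Scheme.{u})
    [X.Over (Spec (CommRingCat.of k))] [IsProper (X ↘ Spec (CommRingCat.of k))]
    (L : X.Modules) (hL : CohB1.IsAmple L) (I : X.IdealSheafData) (hD : FGA.IsEffCartier I) (d : ℕ) (hd : 1 ≤ d)
    {E F : X.Modules} (hE : Coh.IsCoh E) (hF : Coh.IsCoh F) (hE0 : ¬ IsZero E) (hF0 : ¬ IsZero F)
    (hEp : ShStab.IsPure X E d) (hFp : ShStab.IsPure X F d)
    (hEs : topologicalKrullDim ↥(CohB1.support E ∩ (I.support : Set X)) < (d : WithBot ℕ∞))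
    (hFs : topologicalKrullDim ↥(CohB1.support F ∩ (I.support : Set X)) < (d : WithBot ℕ∞))
    (𝓔 : ParSh.Str E) (h𝓔 : 𝓔.Along I) (𝓕 : ParSh.Str F) (h𝓕 : 𝓕.Along I)
    (hcE : ∀ j, Coh.IsCoh ((𝓔.pieceX j : Subobject E) : X.Modules))
    (hcF : ∀ j, Coh.IsCoh ((𝓕.pieceX j : Subobject F) : X.Modules))
    (hw : Set.range 𝓕.wt = Set.range 𝓔.wt) (hw0 : 0 < 𝓔.wt 0)
    (P R : ℚ[X]) (hP : ShStab.IsHilbPoly k X L E P) (hR : ShStab.IsHilbPoly k X L F R)
    (PX : Fin (𝓔.l + 2) → ℚ[X]) (hPX : ∀ j, ShStab.IsHilbPoly k X L ((𝓔.pieceX j : Subobject E) : X.Modules) (PX j))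
    (RX : Fin (𝓕.l + 2) → ℚ[X]) (hRX : ∀ j, ShStab.IsHilbPoly k X L ((𝓕.pieceX j : Subobject F) : X.Modules) (RX j))
    (hssE : (∀ (W : X.Modules) (ι : W ⟶ E), Mono ι → Coh.IsCoh W → ¬ IsZero W → ShStab.IsPure X (cokernel ι) d →
        ∀ (Q : ℚ[X]) (QX : Fin (𝓔.l + 2) → ℚ[X]), ShStab.IsHilbPoly k X L W Q →
          (∀ j, ShStab.IsHilbPoly k X L (((𝓔.induced ι).pieceX j : Subobject W) : X.Modules) (QX j)) →
          ∃ M : ℕ, ∀ m : ℕ, M ≤ m →
            (W4swparbununimod.parPoly (𝓔.induced ι) QX).eval (m : ℝ) * (StabCat.alpha d P : ℝ) ≤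
              (W4swparbununimod.parPoly 𝓔 PX).eval (m : ℝ) * (StabCat.alpha d Q : ℝ)))
    (hssF : (∀ (W : X.Modules) (ι : W ⟶ F), Mono ι → Coh.IsCoh W → ¬ IsZero W → ShStab.IsPure X (cokernel ι) d →
        ∀ (Q : ℚ[X]) (QX : Fin (𝓕.l + 2) → ℚ[X]), ShStab.IsHilbPoly k X L W Q →
          (∀ j, ShStab.IsHilbPoly k X L (((𝓕.induced ι).pieceX j : Subobject W) : X.Modules) (QX j)) →
          ∃ M : ℕ, ∀ m : ℕ, M ≤ m →
            (W4swparbununimod.parPoly (𝓕.induced ι) QX).eval (m : ℝ) * (StabCat.alpha d R : ℝ) ≤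
              (W4swparbununimod.parPoly 𝓕 RX).eval (m : ℝ) * (StabCat.alpha d Q : ℝ)))
    (hred : W4swparbununimod.parPoly 𝓔 PX * Polynomial.C (StabCat.alpha d R : ℝ) =
      W4swparbununimod.parPoly 𝓕 RX * Polynomial.C (StabCat.alpha d P : ℝ))
    (f : E ⟶ F) (hf : ParSh.IsParHom 𝓔 𝓕 f)
    {K V : X.Modules} (j : K ⟶ E) [Mono j] (w : j ≫ f = 0) (hex : (ShortComplex.mk j f w).Exact)
    (q : E ⟶ V) [Epi q] (u : V ⟶ F) [Mono u] (hqu : q ≫ u = f) :
    (∀ (QK : ℚ[X]) (QKX : Fin (𝓔.l + 2) → ℚ[X]), ShStab.IsHilbPoly k X L K QK →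
        (∀ j', ShStab.IsHilbPoly k X L (((𝓔.induced j).pieceX j' : Subobject K) : X.Modules) (QKX j')) →
        W4swparbununimod.parPoly (𝓔.induced j) QKX * Polynomial.C (StabCat.alpha d P : ℝ) =
          W4swparbununimod.parPoly 𝓔 PX * Polynomial.C (StabCat.alpha d QK : ℝ)) ∧
    ShStab.IsPure X (cokernel u) d ∧
    (∀ a : ℝ, 0 ≤ a → a ≤ 1 → (𝓔.coinduced q).at a = (𝓕.induced u).at a) := by
  have hN := K958.HilbX.isNoetherian k X
  subst hqu
  -- `0 → K → E → V → 0` is exact
  have w' : j ≫ q = 0 := by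
    rw [← cancel_mono u, Category.assoc, w, Limits.zero_comp]
  have hker : IsLimit (KernelFork.ofι j w') := by
    refine KernelFork.IsLimit.ofι' _ _ fun {A} a ha => ?_
    have ha' : a ≫ q ≫ u = 0 := by rw [← Category.assoc, ha, Limits.zero_comp]
    have hl := KernelFork.IsLimit.lift' hex.fIsKernel a ha'
    exact ⟨hl.1, hl.2⟩
  have hS : (ShortComplex.mk j q w').ShortExact :=
    { exact := ShortComplex.exact_of_f_is_kernel _ hker }
  -- coherence
  have hK : Coh.IsCoh K := Groth.Agent.Sga67.CohBasic.isCoh_of_iso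
    (IsLimit.conePointUniqueUpToIso (kernelIsKernel _) hex.fIsKernel)
    (Groth.Agent.Sga67.CohBasic.isCoh_kernel (q ≫ u) hE hF.1)
  have hV : Coh.IsCoh V := Groth.Agent.Sga67.CohBasic.isCoh_of_iso
    (IsColimit.coconePointUniqueUpToIso (cokernelIsCokernel _) hS.gIsCokernel)
    (Groth.Agent.Sga67.CohBasic.isCoh_cokernel j hK.1 hE)
  have hVp : ShStab.IsPure X V d := K958.Satur.isPure_of_mono u hFp
  have hcK : ∀ i : Fin (𝓔.l + 2), Coh.IsCoh (((𝓔.induced j).pieceX i : Subobject K) : X.Modules) := fun i =>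
    K958.Ctx.isCoh_induced hE hcE j hK i
  have hcV : ∀ i : Fin (𝓔.l + 2), Coh.IsCoh (((𝓔.coinduced q).pieceX i : Subobject V) : X.Modules) := fun i => by
    have h := K958.StrX.coinduced_pieceX 𝓔 q i
    rw [h]
    exact K958.StrCoh.isCoh_imageSub _ (hcE i) hV
  have hcV' : ∀ i : Fin (𝓕.l + 2), Coh.IsCoh (((𝓕.induced u).pieceX i : Subobject V) : X.Modules) := fun i =>
    K958.Ctx.isCoh_induced hF hcF u hV i
  obtain ⟨T, κ, τ, hκ, hτ, hcomp, hT, hTp, -, hco⟩ := K958.SatCmp.exists_sat (k := k) hL hF hFp u hV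
  subst hcomp
  have hcT : ∀ i : Fin (𝓕.l + 2), Coh.IsCoh (((𝓕.induced τ).pieceX i : Subobject T) : X.Modules) := fun i =>
    K958.Ctx.isCoh_induced hF hcF τ hT i
  -- Hilbert polynomials
  obtain ⟨QV, hQV⟩ := K847.HilbBasic.exists_hilbPoly k hL.1 hV
  obtain ⟨QT, hQT⟩ := K847.HilbBasic.exists_hilbPoly k hL.1 hT
  choose VX hVX using fun i => K847.HilbBasic.exists_hilbPoly k hL.1 (hcV i)
  choose VX' hVX' using fun i => K847.HilbBasic.exists_hilbPoly k hL.1 (hcV' i)
  choose TX hTX using fun i => K847.HilbBasic.exists_hilbPoly k hL.1 (hcT i)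
  have hαT : StabCat.alpha d QT = StabCat.alpha d QV := by
    unfold StabCat.alpha
    rw [hco QV QT hQV hQT d le_rfl]
  -- positivity
  have hαP : (0 : ℝ) < (StabCat.alpha d P : ℝ) := by
    exact_mod_cast K847.HilbBasic.alpha_pos k hL hE (K847.StabBasic.dim_support_eq_of_isPure hE hE0 hEp) hP
  have hαR : (0 : ℝ) < (StabCat.alpha d R : ℝ) := by
    exact_mod_cast K847.HilbBasic.alpha_pos k hL hF (K847.StabBasic.dim_support_eq_of_isPure hF hF0 hFp) hR
  -- Step B: comparison of the two structures on `V`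
  have hwV : Set.range (𝓕.induced (κ ≫ τ)).wt = Set.range (𝓔.coinduced q).wt := hw
  have hle : ∀ a : ℝ, 0 ≤ a → a ≤ 1 → (𝓔.coinduced q).at a ≤ (𝓕.induced (κ ≫ τ)).at a := fun a h1 h2 =>
    K958.HomC.coinduced_le_induced 𝓔 𝓕 q (κ ≫ τ) (hf a h1 h2)
  obtain ⟨hB1, hB2⟩ := K958.HomB.cmp (k := k) hL (𝓔.coinduced q) (𝓕.induced (κ ≫ τ)) hwV hle hcV hcV' hVX hVX'
  obtain ⟨MB, hMB⟩ := hB1
  -- Step C: comparison with the saturation
  choose g hg using fun i => K958.SatCmp.exists_mono_pull 𝓕 κ τ i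
  obtain ⟨MC, hMC⟩ := K958.HomA.core_le (k := k) hL 𝓕 _ _ g hg hcV' hcT hVX' hTX
  -- Step D: semistability of `F`
  have hD : ∃ M : ℕ, ∀ m : ℕ, M ≤ m →
      (W4swparbununimod.parPoly (𝓕.induced τ) TX).eval (m : ℝ) * (StabCat.alpha d R : ℝ) ≤
        (W4swparbununimod.parPoly 𝓕 RX).eval (m : ℝ) * (StabCat.alpha d QT : ℝ) := by
    by_cases hT0 : IsZero T
    · have h1 : QT = 0 := K847.HilbBasic.hilbPoly_eq_zero k hT0 hQT
      have h2 : ∀ i, TX i = 0 := fun i => K847.HilbBasic.hilbPoly_eq_zero k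
        (IsZero.of_mono ((𝓕.induced τ).pieceX i).arrow hT0) (hTX i)
      refine ⟨0, fun m _ => ?_⟩
      have h3 : W4swparbununimod.parPoly (𝓕.induced τ) TX = 0 := K958.HomB.parPoly_zero (𝓕.induced τ) TX h2
      rw [h3, h1]
      simp [StabCat.alpha]
    · exact hssF T τ hτ hT hT0 hTp QT TX hQT hTX
  obtain ⟨MD, hMD⟩ := hD
  -- Step A
  have hA : ∀ (QK : ℚ[X]) (QKX : Fin (𝓔.l + 2) → ℚ[X]), ShStab.IsHilbPoly k X L K QK →
        (∀ j', ShStab.IsHilbPoly k X L (((𝓔.induced j).pieceX j' : Subobject K) : X.Modules) (QKX j')) →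
        (W4swparbununimod.parPoly 𝓔 PX = W4swparbununimod.parPoly 𝓔 QKX + W4swparbununimod.parPoly 𝓔 VX ∧
          StabCat.alpha d P = StabCat.alpha d QK + StabCat.alpha d QV ∧
          ∃ M : ℕ, ∀ m : ℕ, M ≤ m →
            (W4swparbununimod.parPoly 𝓔 QKX).eval (m : ℝ) * (StabCat.alpha d P : ℝ) ≤
              (W4swparbununimod.parPoly 𝓔 PX).eval (m : ℝ) * (StabCat.alpha d QK : ℝ)) := by
    intro QK QKX hQK hQKX
    refine ⟨?_, ?_, ?_⟩
    · refine K958.HomB.parPoly_add 𝓔 _ _ _ fun i => ?_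
      obtain ⟨w'', hw''⟩ := K958.StrX.shortExact_induced_coinduced j q w' hS (𝓔.pieceX i)
      have h1 := hQKX i
      have h2 := hVX i
      have h3 := hcK i
      have h4 := hcV i
      have e1 := K958.StrX.induced_pieceX 𝓔 j i
      have e2 := K958.StrX.coinduced_pieceX 𝓔 q i
      rw [e1] at h1 h3
      rw [e2] at h2 h4
      exact K958.HilbX.add_eq hL.1 _ hw'' h3 (hcE i) h4 h1 (hPX i) h2
    · have h := K958.HilbX.add_eq hL.1 _ hS hK hE hV hQK hP hQV
      rw [h]
      unfold StabCat.alpha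
      rw [Polynomial.coeff_add]
      ring
    · by_cases hK0 : IsZero K
      · have h1 : QK = 0 := K847.HilbBasic.hilbPoly_eq_zero k hK0 hQK
        have h2 : ∀ i, QKX i = 0 := fun i => K847.HilbBasic.hilbPoly_eq_zero k
          (IsZero.of_mono ((𝓔.induced j).pieceX i).arrow hK0) (hQKX i)
        refine ⟨0, fun m _ => ?_⟩
        have h3 : W4swparbununimod.parPoly 𝓔 QKX = 0 := K958.HomB.parPoly_zero 𝓔 QKX h2
        rw [h3, h1]
        simp [StabCat.alpha]
      · have hcok : ShStab.IsPure X (cokernel j) d := K958.Satur.isPure_of_iso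
          (IsColimit.coconePointUniqueUpToIso (cokernelIsCokernel _) hS.gIsCokernel).symm hVp
        exact hssE K j inferInstance hK hK0 hcok QK QKX hQK hQKX
  -- the chain of inequalities at every large `m`
  have hred' : ∀ m : ℕ, (W4swparbununimod.parPoly 𝓔 PX).eval (m : ℝ) * (StabCat.alpha d R : ℝ) =
      (W4swparbununimod.parPoly 𝓕 RX).eval (m : ℝ) * (StabCat.alpha d P : ℝ) := fun m => by
    have h := congrArg (fun p => Polynomial.eval (m : ℝ) p) hred
    simpa only [Polynomial.eval_mul, Polynomial.eval_C] using h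
  obtain ⟨QK, hQK⟩ := K847.HilbBasic.exists_hilbPoly k hL.1 hK
  choose QKX hQKX using fun i => K847.HilbBasic.exists_hilbPoly k hL.1 (hcK i)
  obtain ⟨hA1, hA2, MA, hMA⟩ := hA QK QKX hQK hQKX
  have chain : ∀ m : ℕ, max (max MA MB) (max MC MD) ≤ m →
      (W4swparbununimod.parPoly 𝓔 PX).eval (m : ℝ) * (StabCat.alpha d QV : ℝ) =
        (W4swparbununimod.parPoly 𝓔 VX).eval (m : ℝ) * (StabCat.alpha d P : ℝ) ∧
      (W4swparbununimod.parPoly (𝓕.induced (κ ≫ τ)) VX').eval (m : ℝ) ≤
        (W4swparbununimod.parPoly (𝓔.coinduced q) VX).eval (m : ℝ) ∧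
      (W4swparbununimod.parPoly 𝓕 TX).eval (m : ℝ) ≤
        (W4swparbununimod.parPoly 𝓕 VX').eval (m : ℝ) := by
    intro m hm
    have hm1 := hMA m ((le_max_left _ _).trans ((le_max_left _ _).trans hm))
    have hm2 : (W4swparbununimod.parPoly 𝓔 VX).eval (m : ℝ) ≤ (W4swparbununimod.parPoly 𝓕 VX').eval (m : ℝ) :=
      hMB m ((le_max_right _ _).trans ((le_max_left _ _).trans hm))
    have hm3 := hMC m ((le_max_left _ _).trans ((le_max_right _ _).trans hm))
    have hm4 : (W4swparbununimod.parPoly 𝓕 TX).eval (m : ℝ) * (StabCat.alpha d R : ℝ) ≤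
        (W4swparbununimod.parPoly 𝓕 RX).eval (m : ℝ) * (StabCat.alpha d QT : ℝ) :=
      hMD m ((le_max_right _ _).trans ((le_max_right _ _).trans hm))
    have hA1' : (W4swparbununimod.parPoly 𝓔 PX).eval (m : ℝ) =
        (W4swparbununimod.parPoly 𝓔 QKX).eval (m : ℝ) + (W4swparbununimod.parPoly 𝓔 VX).eval (m : ℝ) := by
      rw [hA1, Polynomial.eval_add]
    have hA2' : (StabCat.alpha d P : ℝ) = (StabCat.alpha d QK : ℝ) + (StabCat.alpha d QV : ℝ) := by
      exact_mod_cast hA2
    have hαT' : (StabCat.alpha d QT : ℝ) = (StabCat.alpha d QV : ℝ) := by exact_mod_cast hαT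
    have hr := hred' m
    rw [hαT'] at hm4
    generalize (W4swparbununimod.parPoly 𝓔 PX).eval (m : ℝ) = e at *
    generalize (W4swparbununimod.parPoly 𝓕 RX).eval (m : ℝ) = r at *
    generalize (W4swparbununimod.parPoly 𝓔 QKX).eval (m : ℝ) = x at *
    change _ = _ ∧ (W4swparbununimod.parPoly 𝓕 VX').eval (m : ℝ) ≤ (W4swparbununimod.parPoly 𝓔 VX).eval (m : ℝ) ∧ _
    generalize (W4swparbununimod.parPoly 𝓔 VX).eval (m : ℝ) = v at *
    generalize (W4swparbununimod.parPoly 𝓕 VX').eval (m : ℝ) = v' at *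
    generalize (W4swparbununimod.parPoly 𝓕 TX).eval (m : ℝ) = t at *
    generalize (StabCat.alpha d P : ℝ) = p at *
    generalize (StabCat.alpha d R : ℝ) = ρ at *
    generalize (StabCat.alpha d QK : ℝ) = κ' at *
    generalize (StabCat.alpha d QV : ℝ) = ν at *
    -- `e ν ≤ v p`, `v ≤ v' ≤ t`, `t ρ ≤ r ν`, `e ρ = r p`
    have i1 : e * ν ≤ v * p := by
      have : e * ν = e * p - e * κ' := by rw [hA2']; ring
      have h5 : v * p = e * p - x * p := by rw [hA1']; ring
      linarith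
    have i2 : t * ρ * p ≤ e * ν * ρ := by
      have h6 := mul_le_mul_of_nonneg_right hm4 hαP.le
      have h7 : r * ν * p = e * ν * ρ := by
        have : r * ν * p = (r * p) * ν := by ring
        rw [this, ← hr]; ring
      linarith
    have hpρ : 0 < p * ρ := mul_pos hαP hαR
    have i3 : t * (p * ρ) ≤ v * (p * ρ) := by
      have h8 := mul_le_mul_of_nonneg_right i1 hαR.le
      nlinarith
    have i4 : t ≤ v := le_of_mul_le_mul_right i3 hpρ
    have i5 : v = v' := le_antisymm hm2 (hm3.trans i4)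
    have i6 : t = v := le_antisymm i4 (hm2.trans hm3)
    refine ⟨?_, i5.ge, ?_⟩
    · refine le_antisymm i1 ?_
      rw [i6] at i2
      have : v * p * ρ ≤ e * ν * ρ := by linarith [mul_right_comm v ρ p]
      exact le_of_mul_le_mul_right this hαR
    · rw [i6, i5]
  refine ⟨?_, ?_, ?_⟩
  · -- (1)
    intro QK' QKX' hQK' hQKX'
    obtain ⟨hA1', hA2', -⟩ := hA QK' QKX' hQK' hQKX'
    refine K958.HomB.eq_of_eval_large (max (max MA MB) (max MC MD)) fun m hm => ?_
    have h1 := (chain m hm).1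
    have h2 : (W4swparbununimod.parPoly 𝓔 PX).eval (m : ℝ) =
        (W4swparbununimod.parPoly 𝓔 QKX').eval (m : ℝ) + (W4swparbununimod.parPoly 𝓔 VX).eval (m : ℝ) := by
      rw [hA1', Polynomial.eval_add]
    have h3 : (StabCat.alpha d P : ℝ) = (StabCat.alpha d QK' : ℝ) + (StabCat.alpha d QV : ℝ) := by
      exact_mod_cast hA2'
    rw [Polynomial.eval_mul, Polynomial.eval_mul, Polynomial.eval_C, Polynomial.eval_C]
    change (W4swparbununimod.parPoly 𝓔 QKX').eval (m : ℝ) * _ = _
    have h4 : (W4swparbununimod.parPoly 𝓔 QKX').eval (m : ℝ) =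
        (W4swparbununimod.parPoly 𝓔 PX).eval (m : ℝ) - (W4swparbununimod.parPoly 𝓔 VX).eval (m : ℝ) := by
      rw [h2]; ring
    have h5 : (StabCat.alpha d QK' : ℝ) = (StabCat.alpha d P : ℝ) - (StabCat.alpha d QV : ℝ) := by
      rw [h3]; ring
    rw [h4, h5, sub_mul, mul_sub, h1]
  · -- (2)
    have hw1 : 0 < 𝓕.wt 0 := by
      obtain ⟨i, hi⟩ : 𝓕.wt 0 ∈ Set.range 𝓔.wt := hw ▸ Set.mem_range_self 0
      rw [← hi]
      exact hw0.trans_le (𝓔.wt_strictMono.monotone (Fin.zero_le i))
    have hg0 : IsIso (g 0) := (K958.HomA.core_eq (k := k) hL 𝓕 _ _ g hg hcV' hcT hVX' hTX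
      ⟨_, fun m hm => (chain m hm).2.2⟩).2 hw1
    have e1 : VX' 0 = QV := K958.StrCoh.hilb_top hL.1 hV hQV (K958.Abel.pieceX_zero_eq_top (𝓕.induced (κ ≫ τ))) (hVX' 0)
    have e2 : TX 0 = QT := K958.StrCoh.hilb_top hL.1 hT hQT (K958.Abel.pieceX_zero_eq_top (𝓕.induced τ)) (hTX 0)
    have e3 : TX 0 = VX' 0 := K847.HilbBasic.hilbPoly_unique k (hTX 0)
      (K847.HilbBasic.isHilbPoly_iso k (asIso (g 0)) (hVX' 0))
    have e4 : QT = QV := by rw [← e2, e3, e1]
    have hκiso : IsIso κ := K847.StabBasic.isIso_of_hilbPoly_eq k hL κ hV hT hQV (e4 ▸ hQT)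
    exact K958.Satur.isPure_of_iso (cokernelEpiComp κ τ).symm hTp
  · -- (3)
    intro a _ _
    rw [hB2 ⟨_, fun m hm => (chain m hm).2.1⟩]

end Groth.Agent.S18529
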