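import Groth.Statements.S18530
-- import your own Groth.Agent.* helpers here
import Groth.Agent.ParSh.K958.Ctx2

set_option autoImplicit false
universe u
open CategoryTheory CategoryTheory.Limits AlgebraicGeometry Polynomial
open ParSh

namespace Groth.Agent.S18530

/-- The two leading coefficients of the first modified parabolic Hilbert polynomial. Let X be a scheme
proper over a field k with an ample invertible sheaf L, I the ideal of an effective Cartier divisor
D on X, and E a coherent O_X-module with a finite weighted filtration 𝓔 along I by coherent pieces E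
= E₀ ⊇ ⋯ ⊇ E_{l+1} = I·E, weights 0 ≤ w₀ < ⋯ < w_l < 1 and w_{l+1} := 1. Let d ≥ 1 with Supp E ∩
Supp D of topological Krull dimension less than d, and let H_j be the Hilbert polynomial of E/E_j,
with α_{d−1}(H_j) ≠ 0 for 1 ≤ j ≤ l+1 (α_i(H) = i!·coefficient of degree i), the numerical type of
𝓔. Let ι : W → E be a monomorphism from a coherent module W, with induced filtration W_j = W ∩ E_j,
Q the Hilbert polynomial of W, Q_j that of W_j and K_j that of W/W_j. Then the first modified
parabolic polynomial par-P₁(W ⊂ E) := Q − Σ_{j=1}^{l+1} (w_j −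
w_{j−1})·(α_{d−1}(K_j)/α_{d−1}(H_j))·H_j and the parabolic polynomial par-P₀(W) := Q_{l+1} + Σ_{j ≤
l} w_j (Q_j − Q_{j+1}) have the same coefficient in degree d and the same coefficient in degree d −
1. The published statement adds the consequences that p₁-semistability implies parabolic
slope-semistability and parabolic slope-stability implies p₁-stability, which are not part of this
row. -/
theorem result (k : Type u) [Field k] (X : Scheme.{u})
    [X.Over (Spec (CommRingCat.of k))] [IsProper (X ↘ Spec (CommRingCat.of k))]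
    (L : X.Modules) (hL : CohB1.IsAmple L) (I : X.IdealSheafData) (hD : FGA.IsEffCartier I)
    (E : X.Modules) (hE : Coh.IsCoh E) (𝓔 : ParSh.Str E) (h𝓔 : 𝓔.Along I)
    (hcoh : ∀ j, Coh.IsCoh ((𝓔.pieceX j : Subobject E) : X.Modules)) (d : ℕ) (hd : 1 ≤ d)
    (hsupp : topologicalKrullDim ↥(CohB1.support E ∩ (I.support : Set X)) < (d : WithBot ℕ∞))
    (H : Fin (𝓔.l + 2) → ℚ[X]) (hH : ∀ j, ShStab.IsHilbPoly k X L (cokernel (𝓔.pieceX j).arrow) (H j))
    (hHa : ∀ j : Fin (𝓔.l + 1), StabCat.alpha (d - 1) (H j.succ) ≠ 0)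
    {W : X.Modules} (ι : W ⟶ E) [Mono ι] (hW : Coh.IsCoh W)
    (Q : ℚ[X]) (hQ : ShStab.IsHilbPoly k X L W Q) (QX : Fin (𝓔.l + 2) → ℚ[X])
    (hQX : ∀ j, ShStab.IsHilbPoly k X L (((𝓔.induced ι).pieceX j : Subobject W) : X.Modules) (QX j))
    (QH : Fin (𝓔.l + 2) → ℚ[X])
    (hQH : ∀ j, ShStab.IsHilbPoly k X L (cokernel ((𝓔.induced ι).pieceX j).arrow) (QH j)) :
    (W4swparbununimod.parPolyOne 𝓔 d Q QH H).coeff d = (W4swparbununimod.parPoly (𝓔.induced ι) QX).coeff d ∧
      (W4swparbununimod.parPolyOne 𝓔 d Q QH H).coeff (d - 1) =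
        (W4swparbununimod.parPoly (𝓔.induced ι) QX).coeff (d - 1) := by
  have hN := K958.HilbX.isNoetherian k X
  have hcohW : ∀ j : Fin (𝓔.l + 2), Coh.IsCoh (((𝓔.induced ι).pieceX j : Subobject W) : X.Modules) := fun j =>
    K958.Ctx.isCoh_induced hE hcoh ι hW j
  have hI := fun n => K958.Ctx2.parPoly_quot_coeff hL.1 hW (𝓔.induced ι) hcohW hQ hQX hQH n
  have hI' : ∀ n, (W4swparbununimod.parPoly (𝓔.induced ι) QX).coeff n = (Q.coeff n : ℝ) -
      ∑ j : Fin (𝓔.l + 1), K958.Abel.dw 𝓔 j * ((QH j.succ).coeff n : ℝ) := hI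
  have hHd : ∀ j, (H j).coeff d = 0 := fun j =>
    K958.HilbX.coeff_eq_zero hL.1 (K958.StrCoh.isCoh_cokernel_sub hE _ (hcoh j))
      (K958.Ctx.dim_piece h𝓔 hsupp j) (hH j) le_rfl
  have hKd : ∀ j : Fin (𝓔.l + 2), (QH j).coeff d = 0 := fun j =>
    K958.HilbX.coeff_eq_zero hL.1 (K958.StrCoh.isCoh_cokernel_sub hW _ (hcohW j))
      (K958.Ctx.dim_induced h𝓔 hsupp ι j) (hQH j) le_rfl
  constructor
  · rw [K958.Ctx2.parPolyOne_coeff, hI']
    simp only [hHd, hKd]
    simp
  · rw [K958.Ctx2.parPolyOne_coeff, hI']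
    congr 1
    refine Finset.sum_congr rfl fun j _ => ?_
    congr 1
    have h := hHa j
    unfold StabCat.alpha at h ⊢
    have h' : (H j.succ).coeff (d - 1) ≠ 0 := right_ne_zero_of_mul h
    rw [← Rat.cast_mul]
    congr 1
    field_simp

end Groth.Agent.S18530
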