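import Groth.Statements.S18534
import Groth.Agent.EtAlg.K364.CplGalois

set_option autoImplicit false
universe u
open scoped Pointwise
open EtAlg

namespace Groth.Agent.S18534

/-- Let R be a normal domain which is excellent and S a normal domain containing R on which a finite
group G acts by R-algebra automorphisms, faithfully and with ring of invariants exactly R (so S is
the integral closure of R in a finite Galois extension of Frac R with group G), Q a prime of S lying
over the prime P of R, and D the decomposition group of Q (the stabilizer of Q in G). Equip the
completion of the local ring S_Q with an action of D by ring automorphisms extending the action of D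
on S, and with an algebra structure over the completion of R_P compatible with R → S (both exist and
are unique, by density and continuity). Then D is a Galois group for the completed extension: it
acts faithfully, linearly over the completion of R_P, and its ring of invariants is exactly the
image of the completion of R_P; equivalently the extension of fraction fields of the completed local
rings is Galois with group D. (Only the completions of the local rings R_P and S_Q are treated. For
the P-adic completion of R itself and the Q-adic completion of S the analogous finiteness fails:
with R = k[x,y], S = k[y,t], t² = x + y², char k ≠ 2 and Q = (t − y) over P = (x), the Q-adic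
completion k[y][[t − y]] is not finite over the (x)-adic completion k[y][[x]] and their fraction
fields form an extension of infinite degree.) -/
theorem result
    (R S G : Type u) [CommRing R] [CommRing S] [IsDomain R] [IsDomain S]
    [IsIntegrallyClosed R] [IsIntegrallyClosed S] (hR : EGA4.IsExcellent R)
    [Algebra R S] [FaithfulSMul R S]
    [Group G] [Finite G] [MulSemiringAction G S] [SMulCommClass G R S] [IsGaloisGroup G R S]
    (P : Ideal R) [P.IsPrime] (Q : Ideal S) [Q.IsPrime] [Q.LiesOver P]
    [MulSemiringAction (MulAction.stabilizer G Q) (EGA4.Cpl (Localization.AtPrime Q))]
    (hact : ∀ (g : MulAction.stabilizer G Q) (s : S),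
      g • algebraMap (Localization.AtPrime Q) (EGA4.Cpl (Localization.AtPrime Q)) (algebraMap S (Localization.AtPrime Q) s) =
        algebraMap (Localization.AtPrime Q) (EGA4.Cpl (Localization.AtPrime Q)) (algebraMap S (Localization.AtPrime Q) (g • s)))
    [Algebra (EGA4.Cpl (Localization.AtPrime P)) (EGA4.Cpl (Localization.AtPrime Q))]
    (halg : ∀ r : R,
      algebraMap (EGA4.Cpl (Localization.AtPrime P)) (EGA4.Cpl (Localization.AtPrime Q)) (algebraMap (Localization.AtPrime P) (EGA4.Cpl (Localization.AtPrime P)) (algebraMap R (Localization.AtPrime P) r)) =
        algebraMap (Localization.AtPrime Q) (EGA4.Cpl (Localization.AtPrime Q)) (algebraMap S (Localization.AtPrime Q) (algebraMap R S r))) :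
    IsGaloisGroup (MulAction.stabilizer G Q) (EGA4.Cpl (Localization.AtPrime P)) (EGA4.Cpl (Localization.AtPrime Q)) := by
  have hN : IsNoetherianRing R := hR.1
  let A := Localization.AtPrime P
  let B := Localization (Algebra.algebraMapSubmonoid S P.primeCompl)
  let L := Localization.AtPrime Q
  have hM : Algebra.algebraMapSubmonoid S P.primeCompl ≤ Q.primeCompl := by
    rintro _ ⟨r, hr, rfl⟩ h1
    apply hr
    rw [SetLike.mem_coe, Ideal.LiesOver.over (p := P) (P := Q)]
    exact h1
  let iBL : Algebra B L := IsLocalization.localizationAlgebraOfSubmonoidLe B L
    (Algebra.algebraMapSubmonoid S P.primeCompl) Q.primeCompl hM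
  have t1 : IsScalarTower S B L := IsLocalization.localization_isScalarTower_of_submonoid_le B L
    (Algebra.algebraMapSubmonoid S P.primeCompl) Q.primeCompl hM
  let iAL : Algebra A L := ((algebraMap B L).comp (algebraMap A B)).toAlgebra
  have t2 : IsScalarTower A B L := IsScalarTower.of_algebraMap_eq' rfl
  have t3 : IsScalarTower R A B := inferInstance
  have t4 : IsScalarTower R S B := inferInstance
  have t5 : IsScalarTower R S L := inferInstance
  have t6 : IsScalarTower R A L := by
    apply IsScalarTower.of_algebraMap_eq'
    rw [IsScalarTower.algebraMap_eq A B L, RingHom.comp_assoc, ← IsScalarTower.algebraMap_eq R A B,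
      IsScalarTower.algebraMap_eq R S B, ← RingHom.comp_assoc, ← IsScalarTower.algebraMap_eq S B L,
      ← IsScalarTower.algebraMap_eq R S L]
  exact K364.CplCore.isGaloisGroup_cpl R S G P Q A B L hact halg

end Groth.Agent.S18534
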