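import Groth.Statements.S18535
import Groth.Agent.EtAlg.K364.GaloisFinite
import Groth.Agent.EtAlg.K364.InertiaEtale
import Groth.Agent.S0427
import Mathlib.RingTheory.Henselian

set_option autoImplicit false
universe u
open EtAlg

namespace Groth.Agent.S18535

/-- Let R be a complete Noetherian local normal domain with maximal ideal m, let S be a normal domain
containing R on which a finite group G acts by R-algebra automorphisms, faithfully and with ring of
invariants exactly R (so that S is the integral closure of R in some finite Galois extension, with
group G, of Frac R), and let n be a maximal ideal of S over m. Then the inertia subgroup of n in G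
(the elements g with g s - s ∈ n for all s ∈ S) is trivial if and only if mS = n and the residue
field S/n is finite and separable over R/m. -/
theorem result
    (R S G : Type u) [CommRing R] [CommRing S] [IsDomain R] [IsDomain S]
    [IsNoetherianRing R] [IsLocalRing R] [IsIntegrallyClosed R]
    [IsAdicComplete (IsLocalRing.maximalIdeal R) R]
    [Algebra R S] [FaithfulSMul R S] [IsIntegrallyClosed S]
    [Group G] [Finite G] [MulSemiringAction G S] [SMulCommClass G R S] [IsGaloisGroup G R S]
    (n : Ideal S) [n.IsMaximal] [n.LiesOver (IsLocalRing.maximalIdeal R)] :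
    n.toAddSubgroup.inertia G = ⊥ ↔
      ((IsLocalRing.maximalIdeal R).map (algebraMap R S) = n ∧
        Module.Finite (R ⧸ IsLocalRing.maximalIdeal R) (S ⧸ n) ∧
        Algebra.IsSeparable (R ⧸ IsLocalRing.maximalIdeal R) (S ⧸ n)) := by
  have hens : HenselianLocalRing R :=
    { is_henselian := fun f hf a₀ h₁ h₂ =>
        HenselianRing.is_henselian (I := IsLocalRing.maximalIdeal R) f hf a₀ h₁ (h₂.map _) }
  have hinv : Algebra.IsInvariant R S G := IsGaloisGroup.isInvariant
  have hfaith : FaithfulSMul G S := IsGaloisGroup.faithful R
  have hint : Algebra.IsIntegral R S := hinv.isIntegral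
  have hloc : IsLocalRing S := Groth.Agent.S0427.isLocalRing_of_isIntegral R S
  have hfin : Module.Finite R S := K364.GaloisFinite.finite_of_isGaloisGroup R S G
  have hnoeth : IsNoetherianRing S := IsNoetherianRing.of_finite R S
  obtain rfl : n = IsLocalRing.maximalIdeal S := IsLocalRing.eq_maximalIdeal inferInstance
  have hlh : IsLocalHom (algebraMap R S) := by
    have h1 := ((IsLocalRing.local_hom_TFAE (algebraMap R S)).out 0 4).mpr
    exact h1 (Ideal.LiesOver.over (P := IsLocalRing.maximalIdeal S)
      (p := IsLocalRing.maximalIdeal R)).symm
  constructor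
  · intro h
    have het : Algebra.Etale R S := K364.InertiaEtale.etale_of_inertia_eq_bot R S G _ h
    refine ⟨Algebra.FormallyUnramified.map_maximalIdeal, ?_, ?_⟩
    · exact (inferInstance : Module.Finite (IsLocalRing.ResidueField R) (IsLocalRing.ResidueField S))
    · exact (inferInstance :
        Algebra.IsSeparable (IsLocalRing.ResidueField R) (IsLocalRing.ResidueField S))
  · rintro ⟨h1, h2, h3⟩
    have h3' : Algebra.IsSeparable (IsLocalRing.ResidueField R) (IsLocalRing.ResidueField S) := h3
    have hunr : Algebra.FormallyUnramified R S := Algebra.FormallyUnramified.of_map_maximalIdeal h1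
    rw [Subgroup.eq_bot_iff_forall]
    intro g hg
    have h4 := K364.GaloisFinite.eq_id_of_unramified R S (MulSemiringAction.toAlgHom R S g)
      (fun s => hg s)
    have h5 : ∀ s : S, g • s = (1 : G) • s := fun s => by
      rw [one_smul]
      exact DFunLike.congr_fun h4 s
    exact hfaith.eq_of_smul_eq_smul h5

end Groth.Agent.S18535
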