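import Groth.Statements.S18537
import Groth.Agent.EtAlg.K364.Ctx
import Groth.Agent.EtAlg.K364.GalQuot

set_option autoImplicit false
universe u
open EtAlg
set_option synthInstance.maxHeartbeats 400000

namespace Groth.Agent.S18537

/-- Let R be an excellent normal local domain with fraction field K, let L, M ⊇ K be two finite
separable field extensions, both contained in a field Ω that they generate, let A ⊆ Ω be the
localization of the integral closure of R in Ω at one of its maximal ideals, and put S = A ∩ L, T =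
A ∩ M; these are local rings, T ⊆ A, and the completions at the maximal ideals give maps Ŝ → Â ← T̂
(the algebra structures below are these inclusions and completed inclusions, pinned by the stated
compatibilities). If, inside the fraction field of Â, the ring Ŝ lies in the fraction field of T̂
(every element of Ŝ becomes a quotient of two elements of T̂), then A is unramified over T: m_T A =
m_A and A/m_A is a finite separable extension of T/m_T. -/
theorem result
    (R K L M Ω : Type u) [CommRing R] [IsDomain R] [IsLocalRing R] [IsIntegrallyClosed R]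
    (hR : EGA4.IsExcellent R)
    [Field K] [Field L] [Field M] [Field Ω]
    [Algebra R K] [IsFractionRing R K]
    [Algebra K L] [Algebra K M] [Algebra K Ω] [Algebra L Ω] [Algebra M Ω]
    [IsScalarTower K L Ω] [IsScalarTower K M Ω]
    [FiniteDimensional K L] [FiniteDimensional K M] [Algebra.IsSeparable K L] [Algebra.IsSeparable K M]
    (hΩ : IntermediateField.adjoin K (Set.range (algebraMap L Ω) ∪ Set.range (algebraMap M Ω)) = ⊤)
    [Algebra R L] [Algebra R M] [Algebra R Ω] [IsScalarTower R K L] [IsScalarTower R K M] [IsScalarTower R K Ω]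
    [IsScalarTower R L Ω] [IsScalarTower R M Ω]
    (𝔪 : Ideal ↥(integralClosure R Ω)) [𝔪.IsMaximal]
    (A : Subalgebra R Ω)
    (hA : ∀ z : Ω, z ∈ A ↔ ∃ a b : ↥(integralClosure R Ω), b ∉ 𝔪 ∧ z * (b : Ω) = (a : Ω))
    [IsLocalRing ↥A] [IsLocalRing ↥(Subalgebra.comap (IsScalarTower.toAlgHom R L Ω) A)] [IsLocalRing ↥(Subalgebra.comap (IsScalarTower.toAlgHom R M Ω) A)]
    [Algebra ↥(Subalgebra.comap (IsScalarTower.toAlgHom R L Ω) A) ↥A]
    (hSA : ∀ s : ↥(Subalgebra.comap (IsScalarTower.toAlgHom R L Ω) A), ((algebraMap ↥(Subalgebra.comap (IsScalarTower.toAlgHom R L Ω) A) ↥A s : ↥A) : Ω) = algebraMap L Ω (s : L))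
    [Algebra ↥(Subalgebra.comap (IsScalarTower.toAlgHom R M Ω) A) ↥A]
    (hTA : ∀ t : ↥(Subalgebra.comap (IsScalarTower.toAlgHom R M Ω) A), ((algebraMap ↥(Subalgebra.comap (IsScalarTower.toAlgHom R M Ω) A) ↥A t : ↥A) : Ω) = algebraMap M Ω (t : M))
    [Algebra (EGA4.Cpl ↥(Subalgebra.comap (IsScalarTower.toAlgHom R L Ω) A)) (EGA4.Cpl ↥A)]
    (hcS : ∀ s : ↥(Subalgebra.comap (IsScalarTower.toAlgHom R L Ω) A), algebraMap (EGA4.Cpl ↥(Subalgebra.comap (IsScalarTower.toAlgHom R L Ω) A)) (EGA4.Cpl ↥A) (algebraMap ↥(Subalgebra.comap (IsScalarTower.toAlgHom R L Ω) A) (EGA4.Cpl ↥(Subalgebra.comap (IsScalarTower.toAlgHom R L Ω) A)) s) =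
      algebraMap ↥A (EGA4.Cpl ↥A) (algebraMap ↥(Subalgebra.comap (IsScalarTower.toAlgHom R L Ω) A) ↥A s))
    [Algebra (EGA4.Cpl ↥(Subalgebra.comap (IsScalarTower.toAlgHom R M Ω) A)) (EGA4.Cpl ↥A)]
    (hcT : ∀ t : ↥(Subalgebra.comap (IsScalarTower.toAlgHom R M Ω) A), algebraMap (EGA4.Cpl ↥(Subalgebra.comap (IsScalarTower.toAlgHom R M Ω) A)) (EGA4.Cpl ↥A) (algebraMap ↥(Subalgebra.comap (IsScalarTower.toAlgHom R M Ω) A) (EGA4.Cpl ↥(Subalgebra.comap (IsScalarTower.toAlgHom R M Ω) A)) t) =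
      algebraMap ↥A (EGA4.Cpl ↥A) (algebraMap ↥(Subalgebra.comap (IsScalarTower.toAlgHom R M Ω) A) ↥A t))
    [(IsLocalRing.maximalIdeal ↥A).LiesOver (IsLocalRing.maximalIdeal ↥(Subalgebra.comap (IsScalarTower.toAlgHom R M Ω) A))]
    (hLM : ∀ x : (EGA4.Cpl ↥(Subalgebra.comap (IsScalarTower.toAlgHom R L Ω) A)), ∃ a b : (EGA4.Cpl ↥(Subalgebra.comap (IsScalarTower.toAlgHom R M Ω) A)), algebraMap (EGA4.Cpl ↥(Subalgebra.comap (IsScalarTower.toAlgHom R M Ω) A)) (EGA4.Cpl ↥A) b ≠ 0 ∧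
      algebraMap (EGA4.Cpl ↥(Subalgebra.comap (IsScalarTower.toAlgHom R L Ω) A)) (EGA4.Cpl ↥A) x * algebraMap (EGA4.Cpl ↥(Subalgebra.comap (IsScalarTower.toAlgHom R M Ω) A)) (EGA4.Cpl ↥A) b = algebraMap (EGA4.Cpl ↥(Subalgebra.comap (IsScalarTower.toAlgHom R M Ω) A)) (EGA4.Cpl ↥A) a) :
    (IsLocalRing.maximalIdeal ↥(Subalgebra.comap (IsScalarTower.toAlgHom R M Ω) A)).map (algebraMap ↥(Subalgebra.comap (IsScalarTower.toAlgHom R M Ω) A) ↥A) = IsLocalRing.maximalIdeal ↥A ∧
      Module.Finite (↥(Subalgebra.comap (IsScalarTower.toAlgHom R M Ω) A) ⧸ IsLocalRing.maximalIdeal ↥(Subalgebra.comap (IsScalarTower.toAlgHom R M Ω) A)) (↥A ⧸ IsLocalRing.maximalIdeal ↥A) ∧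
      Algebra.IsSeparable (↥(Subalgebra.comap (IsScalarTower.toAlgHom R M Ω) A) ⧸ IsLocalRing.maximalIdeal ↥(Subalgebra.comap (IsScalarTower.toAlgHom R M Ω) A)) (↥A ⧸ IsLocalRing.maximalIdeal ↥A) := by
  obtain ⟨E, _, hEd, D, _, _, _, _, fA, fixL, fixM, hinj, hfix, hL, hM⟩ :=
    K364.FieldSetup.exists_ctx R K L M Ω hR hΩ 𝔪 A hA
  obtain ⟨-, -, -, hL4⟩ := hL inferInstance (algebraMap _ _) (by
    intro s
    rw [hcS]
    congr 1
    exact Subtype.ext (hSA s))
  obtain ⟨hMinj, hM2, hM3, -⟩ := hM inferInstance (algebraMap _ _) (by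
    intro s
    rw [hcT]
    congr 1
    exact Subtype.ext (hTA s))
  have hML : ∀ g, fixM g → fixL g := by
    intro g hg
    apply hL4 g
    intro s
    obtain ⟨a, b, hb, hab⟩ := hLM (algebraMap _ _ s)
    have h1 := congrArg fA hab
    rw [map_mul] at h1
    have h2 := congrArg (MulSemiringAction.toRingHom D E g) h1
    rw [map_mul, hM2 g hg b, hM2 g hg a, ← h1] at h2
    refine mul_right_cancel₀ ?_ h2
    intro h3
    apply hb
    apply hinj
    rw [h3, map_zero]
  have hsurj : Function.Surjective (algebraMap (EGA4.Cpl ↥(Subalgebra.comap (IsScalarTower.toAlgHom R M Ω) A)) (EGA4.Cpl ↥A)) := by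
    intro x
    obtain ⟨t, ht⟩ := hM3 (fA x) (fun g hg => hfix g (hML g hg) hg x)
    exact ⟨t, hinj ht⟩
  have hTinj : Function.Injective (algebraMap (EGA4.Cpl ↥(Subalgebra.comap (IsScalarTower.toAlgHom R M Ω) A)) (EGA4.Cpl ↥A)) :=
    Function.Injective.of_comp hMinj
  have hN : IsNoetherianRing R := hR.1
  obtain ⟨hfin, hsep⟩ := K364.FieldGen.finite_sep K L M Ω hΩ
  have hAN : IsNoetherianRing A := by
    let _ := K364.FieldSetup.algOf hA
    have hloc : IsLocalization.AtPrime A 𝔪 := K364.FieldSetup.isLocalization_of hA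
    have := IsIntegralClosure.isNoetherianRing R K Ω (integralClosure R Ω)
    exact IsLocalization.isNoetherianRing 𝔪.primeCompl _ inferInstance
  have hTN : IsNoetherianRing ↥(Subalgebra.comap (IsScalarTower.toAlgHom R M Ω) A) := by
    have hS := K364.FieldSetup.mem_comap_iff (X := M) K hA
    let _ := K364.FieldSetup.algOf hS
    have hloc : IsLocalization.AtPrime ↥(Subalgebra.comap (IsScalarTower.toAlgHom R M Ω) A)
      (𝔪.comap (K364.FieldSetup.toB R M Ω)) := K364.FieldSetup.isLocalization_of hS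
    have := IsIntegralClosure.isNoetherianRing R K M (integralClosure R M)
    exact IsLocalization.isNoetherianRing (𝔪.comap (K364.FieldSetup.toB R M Ω)).primeCompl _
      inferInstance
  exact K364.GalQuot.unram_of_bijective _ _ hcT ⟨hTinj, hsurj⟩

end Groth.Agent.S18537
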