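import Groth.Statements.S18538
import Mathlib.RingTheory.TensorProduct.IncludeLeftSubRight
import Mathlib.RingTheory.IntegralClosure.IntegrallyClosed
import Mathlib.RingTheory.Flat.FaithfullyFlat.Basic

set_option autoImplicit false
universe u
open EtAlg

namespace Groth.Agent.S18538

/-- Let A ⊆ B be an injective finite extension of integrally closed domains, with fraction fields K ⊆ L
and L separable over K. Then A → B → B ⊗_A B is exact, the second map being b ↦ b ⊗ 1 - 1 ⊗ b: every
element of B whose two images in B ⊗_A B agree comes from A. -/
theorem result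
    (A B K L : Type u) [CommRing A] [CommRing B] [IsDomain A] [IsDomain B]
    [IsIntegrallyClosed A] [IsIntegrallyClosed B] [Algebra A B] [FaithfulSMul A B] [Module.Finite A B]
    [Field K] [Field L] [Algebra A K] [IsFractionRing A K] [Algebra B L] [IsFractionRing B L]
    [Algebra K L] [Algebra A L] [IsScalarTower A K L] [IsScalarTower A B L]
    [Algebra.IsSeparable K L] :
    Algebra.IsEffective A B := by
  open scoped TensorProduct in
  intro b
  refine ⟨fun hb => ?_, fun h => ?_⟩
  · -- transport to the fraction fields
    let f : TensorProduct A B B →ₐ[A] TensorProduct K L L :=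
      Algebra.TensorProduct.lift
        ((Algebra.TensorProduct.includeLeft (R := K) (S := A) (A := L) (B := L)).comp
          (IsScalarTower.toAlgHom A B L))
        (((Algebra.TensorProduct.includeRight (R := K) (A := L) (B := L)).restrictScalars A).comp
          (IsScalarTower.toAlgHom A B L))
        (fun x y => mul_comm _ _)
    have h1 : Algebra.TensorProduct.includeLeftSubRight K L (algebraMap B L b) = 0 := by
      have h2 := congrArg f hb
      rw [map_zero, Algebra.TensorProduct.includeLeftSubRight_apply, map_sub] at h2
      have e1 : f (b ⊗ₜ[A] 1) = algebraMap B L b ⊗ₜ[K] 1 := by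
        refine (Algebra.TensorProduct.lift_tmul _ _ _ _ _).trans ?_
        simp
      have e2 : f (1 ⊗ₜ[A] b) = 1 ⊗ₜ[K] algebraMap B L b := by
        refine (Algebra.TensorProduct.lift_tmul _ _ _ _ _).trans ?_
        simp
      rw [Algebra.TensorProduct.includeLeftSubRight_apply, ← h2, e1, e2]
    obtain ⟨k, hk⟩ := (Algebra.IsEffective.of_faithfullyFlat K L _).mp h1
    have hk' : algebraMap K L k = algebraMap B L b := hk
    have hint : IsIntegral A k := by
      have h3 : IsIntegral A (algebraMap B L b) :=
        (Algebra.IsIntegral.isIntegral (R := A) b).map (IsScalarTower.toAlgHom A B L)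
      rw [← hk'] at h3
      exact (isIntegral_algebraMap_iff (algebraMap K L).injective).mp h3
    obtain ⟨a, rfl⟩ := (IsIntegrallyClosed.isIntegral_iff (R := A) (K := K)).mp hint
    refine ⟨a, ?_⟩
    apply IsFractionRing.injective B L
    rw [Algebra.linearMap_apply, ← IsScalarTower.algebraMap_apply, ← hk',
      ← IsScalarTower.algebraMap_apply]
  · exact Algebra.TensorProduct.includeLeftSubRight_zero_of_mem_range h

end Groth.Agent.S18538
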