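import Groth.Statements.S18539
-- import your own Groth.Agent.* helpers here

set_option autoImplicit false
universe u v w
open CAlg

namespace Groth.Agent.S18539

/-- For a commutative ring R, R-modules M and N and elements r₁, r₂ of R such that r₁ is a
non-zero-divisor on N and r₂ is a non-zero-divisor on N/r₁N, the element r₁ is a non-zero-divisor on
the module Hom_R(M, N) and r₂ is a non-zero-divisor on Hom_R(M, N)/r₁Hom_R(M, N). (Weak regularity
on both sides: no condition that the quotient by (r₁, r₂) is nonzero, which would fail for M = 0.) -/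
theorem result
    (R : Type u) [CommRing R] (M : Type v) (N : Type w)
    [AddCommGroup M] [Module R M] [AddCommGroup N] [Module R N]
    (r₁ r₂ : R) (h : RingTheory.Sequence.IsWeaklyRegular N [r₁, r₂]) :
    RingTheory.Sequence.IsWeaklyRegular (M →ₗ[R] N) [r₁, r₂] := by
  rw [RingTheory.Sequence.isWeaklyRegular_cons_iff, RingTheory.Sequence.isWeaklyRegular_cons_iff] at h ⊢
  obtain ⟨h1, h2, -⟩ := h
  have h1' : ∀ x y : N, r₁ • x = r₁ • y → x = y := fun x y hxy => h1 hxy
  refine ⟨?_, ?_, RingTheory.Sequence.IsWeaklyRegular.nil _ _⟩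
  · intro f g hfg
    ext m
    exact h1' _ _ (LinearMap.congr_fun hfg m)
  · rw [isSMulRegular_quotient_iff_mem_of_smul_mem] at h2 ⊢
    intro f hf
    rw [Submodule.mem_smul_pointwise_iff_exists] at hf
    obtain ⟨g, -, hg⟩ := hf
    have key : ∀ m : M, ∃ n : N, r₁ • n = f m := by
      intro m
      have hm : r₂ • f m ∈ (open scoped Pointwise in r₁ • (⊤ : Submodule R N)) := by
        rw [Submodule.mem_smul_pointwise_iff_exists]
        exact ⟨g m, trivial, LinearMap.congr_fun hg m⟩
      have := h2 (f m) hm
      rw [Submodule.mem_smul_pointwise_iff_exists] at this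
      obtain ⟨n, -, hn⟩ := this
      exact ⟨n, hn⟩
    choose k hk using key
    rw [Submodule.mem_smul_pointwise_iff_exists]
    refine ⟨{ toFun := k, map_add' := ?_, map_smul' := ?_ }, trivial, ?_⟩
    · intro a b
      apply h1'
      rw [smul_add, hk, hk, hk, map_add]
    · intro c a
      apply h1'
      rw [RingHom.id_apply, hk, smul_comm, hk, map_smul]
    · ext m
      exact hk m

end Groth.Agent.S18539
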