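import Groth.Statements.S18541
import Groth.Agent.AbVar.K528.MumZero
import Groth.Agent.AbVar.K528.FrobPull

set_option autoImplicit false
universe u
open CategoryTheory MonoidalCategory CartesianMonoidalCategory MonObj GrpObj AlgebraicGeometry
open AbVar

namespace Groth.Agent.S18541

open Groth.Agent.Fdesc.LocGen Groth.Agent.Grpsch.PicGrp Groth.Agent.Fga.RigGrp K530.PicZero K528.MumZero

section

variable {S : Scheme.{u}} {A At : Over S} [GrpObj At] {φ : AgPol.DualMap A At}

theorem phi_mul (hdual : AbDual.IsDualAV Scheme.fppfPrecoverage A At φ) {T : Over S} {a b : Pic (PicF.XT A.hom T)}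
    (ha : FibZero (PicF.XTproj A.hom T) a) (hb : FibZero (PicF.XTproj A.hom T) b) :
    φ T (toCl (a * b)) = φ T (toCl a) * φ T (toCl b) := by
  rw [← isPicZeroCl_toCl_iff] at ha hb
  obtain ⟨L, hL, rfl⟩ := exists_mk a
  obtain ⟨M, hM, rfl⟩ := exists_mk b
  rw [mk_mul_mk]
  exact hdual.mul T L M ha hb

theorem phi_one (hdual : AbDual.IsDualAV Scheme.fppfPrecoverage A At φ) {T : Over S} :
    φ T (toCl (1 : Pic (PicF.XT A.hom T))) = 1 := by
  have h := phi_mul hdual (T := T) (FibZero.one _) (FibZero.one _)
  rw [_root_.mul_one] at h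
  exact (left_eq_mul.mp h)

theorem fibZero_pow {Y T : Scheme.{u}} {g : Y ⟶ T} {a : Pic Y} (ha : FibZero g a) (n : ℕ) : FibZero g (a ^ n) := by
  induction n with
  | zero => rw [pow_zero]; exact FibZero.one _
  | succ n ih => rw [pow_succ]; exact ih.mul ha

theorem phi_pow (hdual : AbDual.IsDualAV Scheme.fppfPrecoverage A At φ) {T : Over S} {a : Pic (PicF.XT A.hom T)}
    (ha : FibZero (PicF.XTproj A.hom T) a) (n : ℕ) :
    φ T (toCl (a ^ n)) = φ T (toCl a) ^ n := by
  induction n with
  | zero => rw [pow_zero, pow_zero, phi_one hdual]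
  | succ n ih => rw [pow_succ, pow_succ, phi_mul hdual (fibZero_pow ha n) ha, ih]

end

/-- Let k be a finite field with q elements and A an abelian variety over k (a commutative group scheme
over k which is smooth and proper with geometrically connected fibres), given with a dual (A^t, φ)
for the fppf topology. Let π : A → A be the q-power Frobenius endomorphism of A (the identity on the
underlying space and the q-th power map on sections; a homomorphism) and π^t : A^t → A^t a transpose
of π. Let L be an invertible module on A and λ_L : A → A^t the homomorphism Λ(L) attached to L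
through φ. Then π followed by λ_L followed by π^t is q·λ_L, the q-th power of λ_L in the group of
morphisms A → A^t. (The published statement fixes L ample and reads π^‡ ∘ π = [q] for the Rosati
involution ‡ of L; its proof rewrites this as the displayed identity, which uses only that L is
invertible.) -/
theorem result (k : Type u) [Field k] [Finite k]
    (A At : Over (Spec (CommRingCat.of k)))
    [GrpObj A] [IsCommMonObj A] [Smooth A.hom] [IsProper A.hom] [GeometricallyConnected A.hom]
    [GrpObj At] [IsCommMonObj At]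
    (φ : AgPol.DualMap A At) (hdual : AbDual.IsDualAV Scheme.fppfPrecoverage A At φ)
    (π : A ⟶ A) [IsMonHom π] (hπb : π.left.base = 𝟙 _) (hπle : ∀ U : A.left.Opens, U ≤ π.left ⁻¹ᵁ U)
    (hπapp : ∀ (U : A.left.Opens) (s : Γ(A.left, U)), (π.left.appLE U U (hπle U)).hom s = s ^ Nat.card k)
    (πt : At ⟶ At) [IsMonHom πt] (hπt : AbDual.IsTranspose π φ φ πt)
    (L : A.left.Modules) (hL : PicF.IsInvertible L) (lam : A ⟶ At) (hlam : AgPol.IsLambda A At φ L lam) :
    π ≫ lam ≫ πt = lam ^ Nat.card k := by
  obtain ⟨N, hN, hNL, rfl⟩ := hlam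
  have hF : K520.Frob.IsFrob (Nat.card k) π.left := ⟨hπb, hπle, hπapp⟩
  have h0 : FibZero (PicF.XTproj A.hom A) (mk N hN) := by
    rw [mk_eq_mumCl A hL hN hNL]
    exact fibZero_mumCl A _
  have hc : PicF.cl N = toCl (mk N hN) := rfl
  have h1 : AbDual.IsPicZeroCl A.hom A (PicF.cl N) := (isPicZeroCl_toCl_iff _ _ _).mpr h0
  have hw : AbDual.bcMap π A ≫ PicF.XTproj A.hom A = PicF.XTproj A.hom A := by
    refine (Limits.pullback.lift_snd _ _ _).trans (Category.comp_id _)
  have h2 : FibZero (PicF.XTproj A.hom A) (pull (AbDual.bcMap π A) (mk N hN)) :=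
    h0.pull (AbDual.bcMap π A) (𝟙 _) (by rw [hw]; exact (Category.comp_id _).symm)
  have e : PicF.XTmap A.hom π ≫ AbDual.bcMap π A = (π ⊗ₘ π).left := by
    apply Limits.pullback.hom_ext
    · have e1 : (π ⊗ₘ π).left ≫ Limits.pullback.fst A.hom A.hom = (fst A A ≫ π).left := by
        change (π ⊗ₘ π).left ≫ (fst A A).left = _
        rw [← Over.comp_left, tensorHom_fst]
      have e2 : AbDual.bcMap π A ≫ Limits.pullback.fst A.hom A.hom = Limits.pullback.fst A.hom A.hom ≫ π.left :=
        Limits.pullback.lift_fst _ _ _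
      have e3 : PicF.XTmap A.hom π ≫ Limits.pullback.fst A.hom A.hom = Limits.pullback.fst A.hom A.hom :=
        (Limits.pullback.lift_fst _ _ _).trans (Category.comp_id _)
      rw [e1, Category.assoc, e2, ← Category.assoc, e3]
      rfl
    · have e1 : (π ⊗ₘ π).left ≫ Limits.pullback.snd A.hom A.hom = (snd A A ≫ π).left := by
        change (π ⊗ₘ π).left ≫ (snd A A).left = _
        rw [← Over.comp_left, tensorHom_snd]
      have e3 : PicF.XTmap A.hom π ≫ Limits.pullback.snd A.hom A.hom = Limits.pullback.snd A.hom A.hom ≫ π.left :=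
        Limits.pullback.lift_snd _ _ _
      rw [e1, Category.assoc]
      exact (congrArg (PicF.XTmap A.hom π ≫ ·) hw).trans e3
  have hFF : K520.Frob.IsFrob (Nat.card k) (show PicF.XT A.hom A ⟶ PicF.XT A.hom A from (π ⊗ₘ π).left) := by
    have := K520.Frob.isFrob_fr k (A ⊗ A)
    rw [K520.Frob.fr_tensor, ← K520.Frob.eq_fr k A π hF] at this
    exact this
  have h3 : pull (PicF.XTmap A.hom π) (pull (AbDual.bcMap π A) (mk N hN)) = mk N hN ^ Nat.card k := by
    rw [← pull_comp, pull_eq e, pull_mk, ← mk_tensorPow hN]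
    obtain ⟨i⟩ := K528.FrobPull.nonempty_pullback_iso_pow hFF N hN
    exact mk_congr i
  rw [← hπt A (PicF.cl N) h1, hc, ← toCl_pull, ← hdual.relPic.natural A A π _ ((isPicZeroCl_toCl_iff _ _ _).mpr h2),
    ← toCl_pull, h3, phi_pow hdual h0]

end Groth.Agent.S18541
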