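import Groth.Statements.S18544
import Mathlib.LinearAlgebra.Matrix.Transvection
import Mathlib.LinearAlgebra.Matrix.Permutation
import Mathlib.Algebra.Polynomial.Roots
import Mathlib.Algebra.MvPolynomial.Funext

set_option autoImplicit false
universe u
open CAlg

namespace Groth.Agent.S18544

open Polynomial in
lemma mult_poly {F : Type u} [Field F] [Infinite F] (G : F[X]) (h1 : G.eval 1 = 1)
    (hG : ∀ s t, G.eval (s * t) = G.eval s * G.eval t) : ∃ m : ℕ, ∀ s, G.eval s = s ^ m := by
  have hG0 : G ≠ 0 := by
    rintro rfl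
    simp at h1
  refine ⟨G.natDegree, fun s => ?_⟩
  have h2 : G.comp (C s * X) = C (G.eval s) * G := by
    apply Polynomial.funext
    intro t
    rw [eval_comp, eval_mul, eval_mul, eval_C, eval_X, eval_C, hG]
  have h3 := congrArg (fun f => Polynomial.coeff f G.natDegree) h2
  simp only [comp_C_mul_X_coeff, coeff_C_mul] at h3
  have h4 : G.coeff G.natDegree ≠ 0 := by
    rw [coeff_natDegree]
    exact leadingCoeff_ne_zero.2 hG0
  rw [mul_comm] at h3
  exact (mul_right_cancel₀ h4 h3).symm

open Polynomial in
lemma unit_poly {F : Type u} [Field F] [Infinite F] (G : F[X]) (h0 : G.eval 0 = 1)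
    (hG : ∀ t, G.eval t * G.eval (-t) = 1) (s : F) : G.eval s = 1 := by
  have h1 : G * G.comp (-X) = 1 := by
    apply Polynomial.funext
    intro t
    rw [eval_mul, eval_comp, eval_neg, eval_X, eval_one, hG]
  have h2 : IsUnit G := IsUnit.of_mul_eq_one _ h1
  obtain ⟨r, -, hr⟩ := Polynomial.isUnit_iff.1 h2
  rw [← hr, eval_C] at h0 ⊢
  exact h0

/-- Evaluation of `N` at a matrix of polynomials. -/
lemma exists_poly {F : Type u} [Field F] {n : ℕ} (N : MvPolynomial (Fin n × Fin n) F)
    (Mat : Matrix (Fin n) (Fin n) (Polynomial F)) : ∃ G : Polynomial F, ∀ t, G.eval t =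
      MvPolynomial.eval (fun ij : Fin n × Fin n => (Mat ij.1 ij.2).eval t) N := by
  refine ⟨MvPolynomial.aeval (fun ij : Fin n × Fin n => Mat ij.1 ij.2) N, fun t => ?_⟩
  have h := MvPolynomial.map_aeval (fun ij : Fin n × Fin n => Mat ij.1 ij.2)
    (Polynomial.evalRingHom t) N
  rw [Polynomial.coe_evalRingHom] at h
  rw [h, MvPolynomial.eval, MvPolynomial.coe_eval₂Hom, MvPolynomial.coe_eval₂Hom]
  congr 1
  ext x
  simp

/-- Let F be an algebraically closed field of characteristic zero, n a natural number, and N a nonzero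
polynomial over F in the n² matrix entries whose evaluation on n × n matrices is multiplicative,
N(xy) = N(x)·N(y) for all x, y (a norm form on the matrix algebra M_n(F) over F). Then N is a
natural power of the determinant: for some m, N(x) = det(x)^m for every matrix x. The published
statement concerns norm forms of any central simple algebra over a subfield; this row is the case of
the full matrix algebra over an algebraically closed field, which is the case its proof treats. -/
theorem result (F : Type u) [Field F] [IsAlgClosed F]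
    [CharZero F] (n : ℕ) (N : MvPolynomial (Fin n × Fin n) F) (hN : N ≠ 0)
    (hmul : ∀ x y : Matrix (Fin n) (Fin n) F,
      MvPolynomial.eval (fun ij : Fin n × Fin n => (x * y) ij.1 ij.2) N =
        MvPolynomial.eval (fun ij : Fin n × Fin n => x ij.1 ij.2) N * MvPolynomial.eval (fun ij : Fin n × Fin n => y ij.1 ij.2) N) :
    ∃ m : ℕ, ∀ x : Matrix (Fin n) (Fin n) F,
      MvPolynomial.eval (fun ij : Fin n × Fin n => x ij.1 ij.2) N = x.det ^ m := by
  classical
  set E : Matrix (Fin n) (Fin n) F → F :=
    fun x => MvPolynomial.eval (fun ij : Fin n × Fin n => x ij.1 ij.2) N with hE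
  have hmulE : ∀ x y, E (x * y) = E x * E y := hmul
  have hne : ∃ x, E x ≠ 0 := by
    by_contra hcon
    push Not at hcon
    apply hN
    apply MvPolynomial.funext
    intro v
    have := hcon (Matrix.of fun i j => v (i, j))
    rw [map_zero, ← this, hE]
    simp
  have hE1 : E 1 = 1 := by
    obtain ⟨x, hx⟩ := hne
    have h := hmulE x 1
    rw [mul_one] at h
    exact (mul_right_eq_self₀.1 h.symm).resolve_right hx
  -- transvections
  have htrans : ∀ (i j : Fin n) (hij : i ≠ j) (c : F), E (Matrix.transvection i j c) = 1 := by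
    intro i j hij c
    obtain ⟨G, hG⟩ := exists_poly N (Matrix.transvection i j Polynomial.X)
    have hG' : ∀ t, G.eval t = E (Matrix.transvection i j t) := by
      intro t
      rw [hG, hE]
      congr 2
      ext ij
      rw [Matrix.transvection, Matrix.transvection, Matrix.add_apply, Matrix.add_apply,
        Polynomial.eval_add, Matrix.one_apply, Matrix.one_apply, Matrix.single_apply,
        Matrix.single_apply]
      split_ifs <;> simp
    rw [← hG']
    apply unit_poly
    · rw [hG', Matrix.transvection_zero, hE1]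
    · intro t
      rw [hG', hG', ← hmulE, Matrix.transvection_mul_transvection_same _ _ hij, add_neg_cancel,
        Matrix.transvection_zero, hE1]
  -- diagonal matrices
  have hdiag1 : ∀ i : Fin n, ∃ m : ℕ, ∀ t, E (Matrix.diagonal (Pi.mulSingle i t)) = t ^ m := by
    intro i
    obtain ⟨G, hG⟩ := exists_poly N (Matrix.diagonal (Pi.mulSingle i Polynomial.X))
    have hG' : ∀ t, G.eval t = E (Matrix.diagonal (Pi.mulSingle i t)) := by
      intro t
      rw [hG, hE]
      congr 2
      ext ij
      rw [Matrix.diagonal_apply, Matrix.diagonal_apply, Pi.mulSingle_apply, Pi.mulSingle_apply]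
      split_ifs <;> simp
    obtain ⟨m, hm⟩ := mult_poly G (by rw [hG', Pi.mulSingle_one, Matrix.diagonal_one', hE1]) (by
      intro s t
      rw [hG', hG', hG', ← hmulE, Matrix.diagonal_mul_diagonal]
      congr 2
      rw [Pi.mulSingle_mul]
      rfl)
    exact ⟨m, fun t => by rw [← hG', hm]⟩
  have hswap : ∀ (i j : Fin n) (t : F), E (Matrix.diagonal (Pi.mulSingle i t)) =
      E (Matrix.diagonal (Pi.mulSingle j t)) := by
    intro i j t
    set P : Matrix (Fin n) (Fin n) F := (Equiv.swap i j).toPEquiv.toMatrix with hP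
    have hPP : P * P = 1 := by
      rw [hP, PEquiv.toMatrix_toPEquiv_mul]
      ext a b
      simp [PEquiv.toMatrix_apply, Matrix.one_apply, Equiv.toPEquiv_apply]
    have h2 : P * Matrix.diagonal (Pi.mulSingle i t) * P = Matrix.diagonal (Pi.mulSingle j t) := by
      rw [hP, PEquiv.toMatrix_toPEquiv_mul, PEquiv.mul_toMatrix_toPEquiv]
      ext a b
      rw [Matrix.submatrix_apply, Matrix.submatrix_apply, Matrix.diagonal_apply,
        Matrix.diagonal_apply, Equiv.symm_swap, id, id, Pi.mulSingle_apply, Pi.mulSingle_apply]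
      simp only [(Equiv.swap i j).injective.eq_iff, Equiv.swap_apply_eq_iff,
        Equiv.swap_apply_left]
    rw [← h2, hmulE, hmulE, mul_comm, ← mul_assoc, ← hmulE, hPP, hE1, one_mul]
  obtain ⟨m, hm⟩ : ∃ m : ℕ, ∀ i t, E (Matrix.diagonal (Pi.mulSingle i t)) = t ^ m := by
    rcases isEmpty_or_nonempty (Fin n) with h | ⟨⟨i⟩⟩
    · exact ⟨0, fun i => (h.false i).elim⟩
    · obtain ⟨m, hm⟩ := hdiag1 i
      exact ⟨m, fun j t => by rw [← hswap i j, hm]⟩
  have hdiag : ∀ D : Fin n → F, E (Matrix.diagonal D) = (Matrix.diagonal D).det ^ m := by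
    intro D
    let φ : (Fin n → F) →* F :=
      { toFun := fun D => E (Matrix.diagonal D)
        map_one' := by rw [Matrix.diagonal_one', hE1]
        map_mul' := fun a b => by rw [← hmulE, Matrix.diagonal_mul_diagonal]; rfl }
    change φ D = _
    conv_lhs => rw [← Finset.univ_prod_mulSingle D]
    rw [map_prod, Matrix.det_diagonal, ← Finset.prod_pow]
    exact Finset.prod_congr rfl fun i _ => hm i (D i)
  refine ⟨m, fun x => ?_⟩
  change E x = x.det ^ m
  refine Matrix.diagonal_transvection_induction (fun M => E M = M.det ^ m) x (fun D _ => hdiag D)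
    ?_ ?_
  · rintro ⟨i, j, hij, c⟩
    rw [Matrix.TransvectionStruct.toMatrix_mk, htrans i j hij, Matrix.det_transvection_of_ne _ _ hij,
      one_pow]
  · intro A B hA hB
    rw [hmulE, hA, hB, Matrix.det_mul, mul_pow]

end Groth.Agent.S18544
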