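import Groth.Statements.S18545
import Mathlib.LinearAlgebra.BilinearForm.Orthogonal
import Mathlib.Algebra.Algebra.Pi
import Mathlib.Tactic

set_option autoImplicit false
universe u
open AbVar

namespace Groth.Agent.S18545

section aux

variable {K : Type u} [Field K] {V : Type u} [AddCommGroup V] [Module K V]

/-- A stable subspace not contained in a stable `W'` contains an `F`-eigenvector outside `W'`. -/
lemma exists_eigvec (F : Subalgebra K (Module.End K V)) (r : ℕ) (φ : F ≃ₐ[K] (Fin r → K))
    (U W' : Submodule K V) (hU : ∀ f ∈ F, ∀ w ∈ U, f w ∈ U) (hlt : ¬ U ≤ W') :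
    ∃ v ∈ U, v ∉ W' ∧ ∀ f ∈ F, ∃ c : K, f v = c • v := by
  classical
  obtain ⟨u, huU, huW⟩ := Set.not_subset.1 hlt
  let ε : Fin r → F := fun i => φ.symm (Pi.single i 1)
  have hsum : ∑ i, ((ε i : Module.End K V) u) = u := by
    have h1 : ∑ i, ε i = 1 := by
      apply φ.injective
      rw [map_sum, map_one]
      simp only [ε, AlgEquiv.apply_symm_apply]
      ext j
      simp [Finset.sum_apply, Pi.single_apply]
    have h2 := congrArg (fun f : F => (f : Module.End K V) u) h1
    simpa [LinearMap.sum_apply] using h2
  have hex : ∃ i, ((ε i : Module.End K V) u) ∉ W' := by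
    by_contra hcon
    push_neg at hcon
    apply huW
    rw [← hsum]
    exact Submodule.sum_mem _ fun i _ => hcon i
  obtain ⟨i, hi⟩ := hex
  refine ⟨_, hU _ (ε i).2 u huU, hi, fun f hf => ⟨φ ⟨f, hf⟩ i, ?_⟩⟩
  have h3 : (⟨f, hf⟩ : F) * ε i = φ ⟨f, hf⟩ i • ε i := by
    apply φ.injective
    rw [map_mul, map_smul]
    simp only [ε, AlgEquiv.apply_symm_apply]
    ext j
    by_cases hj : j = i
    · subst hj; simp
    · simp [Pi.single_apply, hj]
  have h4 := congrArg (fun f : F => (f : Module.End K V) u) h3
  simpa using h4

end aux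

theorem result (K : Type u) [Field K]
    (V : Type u) [AddCommGroup V] [Module K V] [FiniteDimensional K V] (g : ℕ) (hV : Module.finrank K V = 2 * g)
    (e : LinearMap.BilinForm K V) (he : e.IsAlt) (hnd : e.Nondegenerate)
    (F : Subalgebra K (Module.End K V)) (r : ℕ) (hF : Nonempty (F ≃ₐ[K] (Fin r → K)))
    (S : Set (Module.End K V)) (hS : Submodule.span K S = Subalgebra.toSubmodule F)
    (hsim : ∀ s ∈ S, ∃ c : K, c ≠ 0 ∧ ∀ x y : V, e (s x) (s y) = c * e x y)
    (D : Set (Module.End K V))
    (hmax : ∀ W : Submodule K V, (∀ f ∈ F, ∀ w ∈ W, f w ∈ W) → (∀ x ∈ W, ∀ y ∈ W, e x y = 0) →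
      Module.finrank K W = g → ∀ d ∈ D, ∀ w ∈ W, d w ∈ W)
    (W : Submodule K V) (hWF : ∀ f ∈ F, ∀ w ∈ W, f w ∈ W) (hWiso : ∀ x ∈ W, ∀ y ∈ W, e x y = 0) :
    ∀ d ∈ D, ∀ w ∈ W, d w ∈ W := by
  classical
  obtain ⟨φ⟩ := hF
  -- stability of the orthogonal
  have horth : ∀ W : Submodule K V, (∀ f ∈ F, ∀ w ∈ W, f w ∈ W) →
      ∀ f ∈ F, ∀ w ∈ e.orthogonal W, f w ∈ e.orthogonal W := by
    intro W hW f hf w hw
    have hfS : f ∈ Submodule.span K S := by rw [hS]; exact hf
    clear hf
    induction hfS using Submodule.span_induction with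
    | mem s hs =>
      obtain ⟨c, hc, hsc⟩ := hsim s hs
      have hinj : Function.Injective s := by
        rw [injective_iff_map_eq_zero]
        intro x hx
        refine hnd.1 x fun y => ?_
        have := hsc x y
        rw [hx, map_zero, LinearMap.zero_apply] at this
        exact (mul_eq_zero.1 this.symm).resolve_left hc
      have hsF : s ∈ F := by
        have : s ∈ Submodule.span K S := Submodule.subset_span hs
        rw [hS] at this; exact this
      let sW : W →ₗ[K] W := s.restrict (fun w hw => hW s hsF w hw)
      have hsWinj : Function.Injective sW := by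
        intro a b hab
        apply Subtype.ext
        apply hinj
        exact congrArg Subtype.val hab
      have hsWsurj : Function.Surjective sW := LinearMap.surjective_of_injective hsWinj
      rw [LinearMap.BilinForm.mem_orthogonal_iff]
      intro n hn
      obtain ⟨m, hm⟩ := hsWsurj ⟨n, hn⟩
      have hm' : s m = n := congrArg Subtype.val hm
      have := LinearMap.BilinForm.mem_orthogonal_iff.1 hw m m.2
      change e n (s w) = 0
      rw [← hm', hsc]
      change e m w = 0 at this
      rw [this, mul_zero]
    | zero => rw [LinearMap.zero_apply]; exact Submodule.zero_mem _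
    | add a b ha hb iha ihb =>
      rw [LinearMap.add_apply]; exact Submodule.add_mem _ iha ihb
    | smul c a ha iha =>
      rw [LinearMap.smul_apply]; exact Submodule.smul_mem _ _ iha
  -- induction
  have key : ∀ (n : ℕ) (W : Submodule K V), Module.finrank K W + n = g →
      (∀ f ∈ F, ∀ w ∈ W, f w ∈ W) → (∀ x ∈ W, ∀ y ∈ W, e x y = 0) → ∀ d ∈ D, ∀ w ∈ W, d w ∈ W := by
    intro n
    induction n with
    | zero => intro W hn hWF hWiso; exact hmax W hWF hWiso (by simpa using hn)
    | succ n ih =>
      intro W hn hWF hWiso d hd w hw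
      have hle : W ≤ e.orthogonal W := fun x hx =>
        LinearMap.BilinForm.mem_orthogonal_iff.2 fun y hy => hWiso y hy x hx
      have hdim : Module.finrank K (e.orthogonal W) = 2 * g - Module.finrank K W := by
        rw [LinearMap.BilinForm.finrank_orthogonal hnd, hV]
      -- enlarging by an eigenvector
      have hext : ∀ v ∈ e.orthogonal W, v ∉ W → (∀ f ∈ F, ∃ c : K, f v = c • v) →
          Module.finrank K (W ⊔ Submodule.span K {v} : Submodule K V) = Module.finrank K W + 1 ∧
          ∀ d ∈ D, ∀ w ∈ W ⊔ Submodule.span K {v}, d w ∈ W ⊔ Submodule.span K {v} := by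
        intro v hv hvW hev
        have hv0 : v ≠ 0 := fun h => hvW (h ▸ W.zero_mem)
        have hfr : Module.finrank K (W ⊔ Submodule.span K {v} : Submodule K V) =
            Module.finrank K W + 1 := by
          have h1 := Submodule.finrank_sup_add_finrank_inf_eq W (Submodule.span K {v})
          have h2 : W ⊓ (Submodule.span K {v}) = ⊥ := by
            rw [eq_bot_iff]
            rintro x ⟨hx1, hx2⟩
            obtain ⟨c, rfl⟩ := Submodule.mem_span_singleton.1 hx2
            by_cases hc : c = 0
            · simp [hc]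
            · exact absurd ((W.smul_mem_iff hc).1 hx1) hvW
          rw [h2, finrank_bot, finrank_span_singleton hv0] at h1
          omega
        refine ⟨hfr, ih (W ⊔ Submodule.span K {v}) (by omega) ?_ ?_⟩
        · intro f hf x hx
          obtain ⟨a, ha, b, hb, rfl⟩ := Submodule.mem_sup.1 hx
          obtain ⟨c, rfl⟩ := Submodule.mem_span_singleton.1 hb
          obtain ⟨c', hc'⟩ := hev f hf
          rw [map_add, map_smul, hc']
          exact Submodule.add_mem_sup (hWF f hf a ha)
            (Submodule.smul_mem _ _ (Submodule.smul_mem _ _ (Submodule.mem_span_singleton_self v)))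
        · intro x hx y hy
          obtain ⟨a, ha, b, hb, rfl⟩ := Submodule.mem_sup.1 hx
          obtain ⟨c, rfl⟩ := Submodule.mem_span_singleton.1 hb
          obtain ⟨a', ha', b', hb', rfl⟩ := Submodule.mem_sup.1 hy
          obtain ⟨c', rfl⟩ := Submodule.mem_span_singleton.1 hb'
          have e1 : e a v = 0 := LinearMap.BilinForm.mem_orthogonal_iff.1 hv a ha
          have e2 : e v a' = 0 := by
            have : e a' v = 0 := LinearMap.BilinForm.mem_orthogonal_iff.1 hv a' ha'
            exact he.isRefl _ _ this
          have e3 : e v v = 0 := he v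
          simp [e1, e2, e3, hWiso a ha a' ha']
      have hnle1 : ¬ e.orthogonal W ≤ W := by
        intro h
        have := Submodule.finrank_mono h
        omega
      obtain ⟨v1, hv1, hv1W, hev1⟩ := exists_eigvec F r φ (e.orthogonal W) W (horth W hWF) hnle1
      obtain ⟨hf1, hD1⟩ := hext v1 hv1 hv1W hev1
      have hnle2 : ¬ e.orthogonal W ≤ W ⊔ Submodule.span K {v1} := by
        intro h
        have := Submodule.finrank_mono h
        omega
      obtain ⟨v2, hv2, hv2W, hev2⟩ := exists_eigvec F r φ (e.orthogonal W)
        (W ⊔ Submodule.span K {v1}) (horth W hWF) hnle2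
      obtain ⟨hf2, hD2⟩ := hext v2 hv2 (fun h => hv2W (le_sup_left (a := W) h)) hev2
      have m1 := hD1 d hd w (le_sup_left (a := W) hw)
      have m2 := hD2 d hd w (le_sup_left (a := W) hw)
      obtain ⟨a, ha, b, hb, hab⟩ := Submodule.mem_sup.1 m1
      obtain ⟨c, rfl⟩ := Submodule.mem_span_singleton.1 hb
      obtain ⟨a', ha', b', hb', hab'⟩ := Submodule.mem_sup.1 m2
      obtain ⟨c', rfl⟩ := Submodule.mem_span_singleton.1 hb'
      by_cases hc' : c' = 0
      · rw [← hab', hc', zero_smul, add_zero]; exact ha'
      · exfalso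
        apply hv2W
        have : c' • v2 = (a - a') + c • v1 := by
          have h := hab.trans hab'.symm
          have h2 : c' • v2 = (a' + c' • v2) - a' := by abel
          rw [h2, ← h]; abel
        rw [← Submodule.smul_mem_iff _ hc', this]
        exact Submodule.add_mem_sup (W.sub_mem ha ha')
          (Submodule.smul_mem _ _ (Submodule.mem_span_singleton_self v1))
  have hleg : Module.finrank K W ≤ g := by
    have hle : W ≤ e.orthogonal W := fun x hx =>
      LinearMap.BilinForm.mem_orthogonal_iff.2 fun y hy => hWiso y hy x hx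
    have hdim : Module.finrank K (e.orthogonal W) = 2 * g - Module.finrank K W := by
      rw [LinearMap.BilinForm.finrank_orthogonal hnd, hV]
    have h1 := Submodule.finrank_mono hle
    have h2 := Submodule.finrank_le W
    omega
  exact key (g - Module.finrank K W) W (by omega) hWF hWiso

end Groth.Agent.S18545
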