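import Groth.Statements.S18550
import Groth.Agent.Cohder.TruncFactor
import Mathlib.CategoryTheory.Triangulated.TStructure.TruncLTGE
import Mathlib.Tactic.Ring

set_option autoImplicit false
open CategoryTheory Limits
universe w v u
open CohDer

namespace Groth.Agent.S18550

/-- Let A be an abelian category, X an object of its derived category whose cohomology objects H^i(X)
are zero for all integers i outside the interval [a, a + n], and f : X → X an endomorphism in the
derived category such that H^i(f) = 0 for every i. Then f^(n+1) = 0. (The source works in the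
bounded derived category; the statement in D(A) for an object with cohomology bounded in this way is
the same assertion, the bounded derived category being a full subcategory.) -/
theorem result (A : Type u) [Category.{v} A] [Abelian A]
    [HasDerivedCategory.{w} A] (X : DerivedCategory A) (a : ℤ) (n : ℕ)
    (hX : ∀ i : ℤ, i < a ∨ a + n < i → IsZero ((DerivedCategory.homologyFunctor A i).obj X))
    (f : CategoryTheory.End X) (hf : ∀ i : ℤ, (DerivedCategory.homologyFunctor A i).map f = 0) :
    f ^ (n + 1) = 0 := by
  let t := DerivedCategory.TStructure.t (C := A)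
  have hLE : X.IsLE (a + n) := by
    rw [DerivedCategory.isLE_iff]
    intro i hi
    exact hX i (Or.inr hi)
  have hGE : X.IsGE a := by
    rw [DerivedCategory.isGE_iff]
    intro i hi
    exact hX i (Or.inl hi)
  -- `f ^ k` factors through the truncation `τ_{< a + n + 1 - k} X`
  have key : ∀ k : ℕ, ∃ φ : X ⟶ (t.truncLT (a + n + 1 - k)).obj X,
      f ^ k = φ ≫ (t.truncLTι (a + n + 1 - k)).app X := by
    intro k
    induction k with
    | zero =>
      refine ⟨t.liftTruncLT (𝟙 X) (a + n) _ (by simp), ?_⟩
      rw [t.liftTruncLT_ι]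
      rfl
    | succ k ih =>
      obtain ⟨φ, hφ⟩ := ih
      have h1 : (t.truncLTι (a + n + 1 - k)).app X ≫ f ≫ (t.truncGEπ (a + n - k)).app X = 0 := by
        have : ((t.truncLT (a + n + 1 - k)).obj X).IsLE (a + n - k) :=
          t.isLE_truncLT_obj _ _ _ (by lia)
        apply Groth.Agent.Cohder.TruncFactor.hom_eq_zero (a + n - k)
        simp only [Functor.map_comp, hf]
        simp
      have h2 : ((t.truncLTι (a + n + 1 - k)).app X ≫ f) ≫ (t.truncGEπ (a + n - k)).app X = 0 := by
        rw [Category.assoc, h1]
      obtain ⟨ψ, hψ⟩ : ∃ ψ : (t.truncLT (a + n + 1 - k)).obj X ⟶ (t.truncLT (a + n - k)).obj X,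
          (t.truncLTι (a + n + 1 - k)).app X ≫ f = ψ ≫ (t.truncLTι (a + n - k)).app X :=
        Pretriangulated.Triangle.coyoneda_exact₂ _
          (t.triangleLTGE_distinguished (a + n - k) X) _ h2
      have e : a + (n : ℤ) + 1 - ((k + 1 : ℕ) : ℤ) = a + n - k := by push_cast; ring
      rw [e]
      refine ⟨φ ≫ ψ, ?_⟩
      have h3 : f ^ (k + 1) = (f ^ k : X ⟶ X) ≫ f := pow_succ' f k
      rw [h3, Category.assoc, ← hψ, hφ, Category.assoc]
  obtain ⟨φ, hφ⟩ := key (n + 1)
  have h0 : IsZero ((t.truncLT (a + n + 1 - ((n + 1 : ℕ) : ℤ))).obj X) := by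
    have e : a + (n : ℤ) + 1 - ((n + 1 : ℕ) : ℤ) = a := by push_cast; ring
    rw [e]
    exact t.isZero_truncLT_obj_of_isGE a X
  rw [hφ, h0.eq_of_tgt φ 0, zero_comp]

end Groth.Agent.S18550
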