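import Groth.Statements.S18551
import Groth.Agent.Dix.K109.NfMain
-- import your own Groth.Agent.* helpers here

set_option autoImplicit false
open CategoryTheory CategoryTheory.Limits AlgebraicGeometry
universe u
open Dix

namespace Groth.Agent.S18551

/-- Let k be a number field, let Ω be a separable closure of k with Galois group Γ, and let T = Spec A
be a torus over k, given by a commutative Hopf algebra A over k which, Zariski-locally on Spec k and
after a faithfully flat base change, is the group algebra of some ℤ^n. Then the natural map Br(T) →
Br(T_Ω)^Γ is surjective, where Br(Y) = H²(Y_ét, G_m) is the cohomological Brauer group, T_Ω = T ×_k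
Spec Ω, the map is pullback along the projection T_Ω → T, and a class is Γ-invariant when it is
fixed by (1 × Spec σ)^* for every k-automorphism σ of Ω. (Exactness of pullback of abelian étale
sheaves along every morphism of schemes, which always holds, is carried as one blanket instance
hypothesis.) -/
theorem result (k : Type u) [Field k] [NumberField k]
    (Ω : Type u) [Field Ω] [Algebra k Ω] [IsSepClosure k Ω]
    (A : Type u) [CommRing A] [HopfAlgebra k A] (hT : SGA3b.IsTorus k A)
    [∀ ⦃Y Z : Scheme.{u}⦄ (g : Y ⟶ Z), PreservesFiniteLimits (EtCoh.pull g)] :
    Dix.brInv Ω (Spec.map (CommRingCat.ofHom (algebraMap k A))) ≤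
      (EtLim.HGmPull (pullback.fst (Spec.map (CommRingCat.ofHom (algebraMap k A)))
        (Spec.map (CommRingCat.ofHom (algebraMap k Ω)))) 2).range := by
  exact Groth.Agent.Dix.K109.NfMain.main k Ω A hT

end Groth.Agent.S18551
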