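import Groth.Statements.S18552
import Groth.Agent.Dix.K109.TorusH3
import Groth.Agent.Dix.K109.PadicLF
-- import your own Groth.Agent.* helpers here

set_option autoImplicit false
open CategoryTheory CategoryTheory.Limits AlgebraicGeometry
universe u
open Dix

namespace Groth.Agent.S18552

/-- Let p be a prime and k a finite extension of the field ℚ_p of p-adic numbers, let Ω be a separable
closure of k with Galois group Γ, and let T = Spec A be a torus over k, given by a commutative Hopf
algebra A over k which, Zariski-locally on Spec k and after a faithfully flat base change, is the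
group algebra of some ℤ^n. Then the natural map Br(T) → Br(T_Ω)^Γ is surjective, where Br(Y) =
H²(Y_ét, G_m) is the cohomological Brauer group, T_Ω = T ×_k Spec Ω, the map is pullback along the
projection T_Ω → T, and a class is Γ-invariant when it is fixed by (1 × Spec σ)^* for every
k-automorphism σ of Ω. (Exactness of pullback of abelian étale sheaves along every morphism of
schemes, which always holds, is carried as one blanket instance hypothesis.) -/
theorem result (p : ℕ) [Fact p.Prime] (k : Type u) [Field k]
    [Algebra ℚ_[p] k] [FiniteDimensional ℚ_[p] k]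
    (Ω : Type u) [Field Ω] [Algebra k Ω] [IsSepClosure k Ω]
    (A : Type u) [CommRing A] [HopfAlgebra k A] (hT : SGA3b.IsTorus k A)
    [∀ ⦃Y Z : Scheme.{u}⦄ (g : Y ⟶ Z), PreservesFiniteLimits (EtCoh.pull g)] :
    Dix.brInv Ω (Spec.map (CommRingCat.ofHom (algebraMap k A))) ≤
      (EtLim.HGmPull (pullback.fst (Spec.map (CommRingCat.ofHom (algebraMap k A)))
        (Spec.map (CommRingCat.ofHom (algebraMap k Ω)))) 2).range := by
  exact Groth.Agent.Dix.K109.TorusH3.main k Ω (fun F hF htf =>
    Groth.Agent.Dix.K109.LocCd.subsingleton_H3 k (Groth.Agent.Dix.K109.PadicLF.isLF_of_finite_padic p k) hF htf) A hT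

end Groth.Agent.S18552
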