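import Groth.Statements.S18553
import Groth.Agent.Dix.K282.RealEnd

set_option autoImplicit false
open CategoryTheory CategoryTheory.Limits AlgebraicGeometry
universe u
open Dix

namespace Groth.Agent.S18553

/-- Let k be a field of characteristic 0 whose separable closure Ω has degree 2 over k (the source
states the case of the real numbers; its argument uses only that the absolute Galois group has order
2, which is the hypothesis taken here, so k is any real closed field), let Γ = Gal(Ω/k), and let T =
Spec A be a torus over k, given by a commutative Hopf algebra A over k which, Zariski-locally on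
Spec k and after a faithfully flat base change, is the group algebra of some ℤ^n. Then the natural
map Br(T) → Br(T_Ω)^Γ is surjective, where Br(Y) = H²(Y_ét, G_m) is the cohomological Brauer group,
T_Ω = T ×_k Spec Ω, the map is pullback along the projection T_Ω → T, and a class is Γ-invariant
when it is fixed by (1 × Spec σ)^* for every k-automorphism σ of Ω. (Exactness of pullback of
abelian étale sheaves along every morphism of schemes, which always holds, is carried as one blanket
instance hypothesis.) -/
theorem result (k : Type u) [Field k] [CharZero k]
    (Ω : Type u) [Field Ω] [Algebra k Ω] [IsSepClosure k Ω] (hk : Module.finrank k Ω = 2)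
    (A : Type u) [CommRing A] [HopfAlgebra k A] (hT : SGA3b.IsTorus k A)
    [∀ ⦃Y Z : Scheme.{u}⦄ (g : Y ⟶ Z), PreservesFiniteLimits (EtCoh.pull g)] :
    Dix.brInv Ω (Spec.map (CommRingCat.ofHom (algebraMap k A))) ≤
      (EtLim.HGmPull (pullback.fst (Spec.map (CommRingCat.ofHom (algebraMap k A)))
        (Spec.map (CommRingCat.ofHom (algebraMap k Ω)))) 2).range :=
  Groth.Agent.Dix.K282.RealEnd.main k Ω hk A hT

end Groth.Agent.S18553
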