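import Groth.Statements.S18554
import Groth.Agent.Dix.K282.QEnd

set_option autoImplicit false
open CategoryTheory CategoryTheory.Limits AlgebraicGeometry
universe u
open Dix

namespace Groth.Agent.S18554

/-- Let k be a field of characteristic 0 with separable closure Ω and Galois group Γ, let L be a finite
étale k-algebra, and let T be the quasi-trivial torus R_{L/k}(G_m): a k-scheme T together with a
morphism q : T ×_k Spec L → G_{m,L} over Spec L such that g ↦ (g ×_k Spec L) ≫ q is a bijection
Hom_k(Y, T) → Hom_L(Y ×_k Spec L, G_{m,L}) for every k-scheme Y (the source calls a torus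
quasi-trivial when its character lattice is a permutation Galois module; these are exactly the Weil
restrictions R_{L/k}(G_m) of finite étale algebras, the form taken here). Then the natural map Br(T)
→ Br(T_Ω)^Γ is surjective, where Br(Y) = H²(Y_ét, G_m) is the cohomological Brauer group, T_Ω = T
×_k Spec Ω, the map is pullback along the projection T_Ω → T, and a class is Γ-invariant when it is
fixed by (1 × Spec σ)^* for every k-automorphism σ of Ω. (Exactness of pullback of abelian étale
sheaves along every morphism of schemes, which always holds, is carried as one blanket instance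
hypothesis.) -/
theorem result (k : Type u) [Field k] [CharZero k]
    (Ω : Type u) [Field Ω] [Algebra k Ω] [IsSepClosure k Ω]
    (L : Type u) [CommRing L] [Algebra k L] [Algebra.Etale k L] [Module.Finite k L]
    (T : Over (Spec (CommRingCat.of k)))
    (q : Red.bc (Spec.map (CommRingCat.ofHom (algebraMap k L))) T ⟶ Red.Gm (Spec (CommRingCat.of L)))
    (hT : WeilRes.IsWeilRes (Spec.map (CommRingCat.ofHom (algebraMap k L))) (Red.Gm (Spec (CommRingCat.of L))) T q)
    [∀ ⦃Y Z : Scheme.{u}⦄ (g : Y ⟶ Z), PreservesFiniteLimits (EtCoh.pull g)] :
    Dix.brInv Ω T.hom ≤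
      (EtLim.HGmPull (pullback.fst T.hom (Spec.map (CommRingCat.ofHom (algebraMap k Ω)))) 2).range :=
  Groth.Agent.Dix.K282.QEnd.main k Ω L T q hT

end Groth.Agent.S18554
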