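import Groth.Statements.S18558
import Groth.Agent.ShStab.K752.Strong
import Groth.Agent.Variety.K658.RelDimComp

set_option autoImplicit false
universe u
open ShStab

namespace Groth.Agent.S18558

open AlgebraicGeometry CategoryTheory Polynomial in
/-- Suppose k is an algebraically closed field whose characteristic is p > 0, and consider a smooth
projective integral k-scheme X of dimension d ≥ 1 equipped with an ample invertible module L (the
polarisation; all Hilbert polynomials, multiplicities α_d and slopes are computed relative to L,
where a sheaf with Hilbert polynomial P has slope α_d(P_O)·(μ̂(P) − μ̂(P_O)), with P_O the Hilbert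
polynomial of O_X and μ̂ = α_{d-1}/α_d). Assume each nonzero coherent subsheaf of the differentials
sheaf Ω_{X/k} has slope strictly below 1. Given a coherent sheaf H of dimension d on X that is
Gieseker-semistable, of rank 3 (α_d(P_H) = 3·α_d(P_O)) and of slope 0 (μ̂(P_H) = μ̂(P_O)), the
conclusion is that pulling H back n times along the absolute Frobenius of X, for any n ≥ 1, yields a
slope-semistable sheaf of dimension d; that is, H is strongly slope-semistable. (In the published
claim H is merely assumed torsion free and slope-semistable, and the polarisation is a hyperplane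
section; here H is taken Gieseker-semistable, which implies that, and the polarisation may be any
ample one.) -/
theorem result
    (p : ℕ) [Fact p.Prime] (k : Type u) [Field k] [IsAlgClosed k] [CharP k p]
    (X : Scheme.{u}) [X.Over (Spec (CommRingCat.of k))] [IsProper (X ↘ Spec (CommRingCat.of k))]
    [IsIntegral X] [FrobSch.IsCharP X p] (d : ℕ) (hd : 1 ≤ d)
    [SmoothOfRelativeDimension d (X ↘ Spec (CommRingCat.of k))]
    (L : X.Modules) (hL : CohB1.IsAmple L)
    (P0 : ℚ[X]) (hP0 : ShStab.IsHilbPoly k X L (Coh.structureModule X) P0)
    (hΩ : ∀ (F : X.Modules) (ι : F ⟶ Omega.sheaf (X ↘ Spec (CommRingCat.of k))) (PF : ℚ[X]),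
      Mono ι → Coh.IsCoh F → ShStab.IsHilbPoly k X L F PF → 0 < StabCat.alpha d PF →
        StabCat.alpha d P0 * (StabCat.hatSlope d PF - StabCat.hatSlope d P0) < 1)
    (H : X.Modules) (PH : ℚ[X]) (hPH : ShStab.IsHilbPoly k X L H PH)
    (hH : ShStab.IsSemistable k X L H d) (hrk : StabCat.alpha d PH = 3 * StabCat.alpha d P0)
    (hμ : StabCat.hatSlope d PH = StabCat.hatSlope d P0) (n : ℕ) (hn : 1 ≤ n) :
    ShStab.IsMuSemistable k X L (((Scheme.Modules.pullback (FrobSch.frob X p)).obj)^[n] H) d := by
  have hsm : Smooth (X ↘ Spec (CommRingCat.of k)) := SmoothOfRelativeDimension.smooth d _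
  have hn : topologicalKrullDim X = d := K658.RelDimComp.topologicalKrullDim_eq d (X ↘ Spec (CommRingCat.of k))
  have hN := Groth.Agent.Fga.SnapperTwist.isNoetherian_of_proper k X
  have hreg := K849.FrobPull.regOne_of_smooth (X ↘ Spec (CommRingCat.of k))
  have h0 := K752.Glue.SS_of_isSemistable k hL hn hd (r := 3) (by norm_num) hP0 hPH hH (by exact_mod_cast hrk) hμ
  refine K752.Glue.isMuSemistable_of_SS k hL hn hd (r := 3) (by norm_num)
    (K752.Strong.strong_three k p hL hn (fun U hU => ?_) h0 n)
  have h1 := K752.Glue.bound_Om k hL hn 1 hP0 hΩ U hU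
  rwa [one_mul] at h1

end Groth.Agent.S18558
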