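import Groth.Statements.S18559
import Groth.Agent.ShStab.K752.StrongT
import Groth.Agent.ShStab.K752.N5c
import Groth.Agent.ShStab.K831.N4b
import Groth.Agent.ShStab.K831.Kempf
import Groth.Agent.ShStab.K865.M1
import Groth.Agent.ShStab.K991.MTForm2
-- import your own Groth.Agent.* helpers here

set_option autoImplicit false
attribute [-instance] CategoryTheory.catToReflQuiver
universe u
open ShStab

namespace Groth.Agent.S18559

open AlgebraicGeometry CategoryTheory Polynomial in
/-- Fix an algebraically closed field k whose characteristic is p > 0, an integer r ≥ 2, and a smooth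
projective integral k-scheme X of dimension d ≥ 1 carrying an ample invertible module L (the
polarisation; Hilbert polynomials, multiplicities α_d and slopes are all computed relative to L,
where a sheaf with Hilbert polynomial P has slope α_d(P_O)·(μ̂(P) − μ̂(P_O)), with P_O the Hilbert
polynomial of O_X and μ̂ = α_{d-1}/α_d). Suppose that, whenever a, b ≥ 1 satisfy a + b ≤ r, each
nonzero coherent subsheaf of the differential sheaf Ω_{X/k} has slope strictly below 1/lcm(a, b)
(equivalently, Ω_{X/k} has maximal slope < 1/N(r), where N(r) denotes the biggest such lcm).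
Consider a coherent sheaf H on X of dimension d and rank r (α_d(P_H) = r·α_d(P_O)) that is
Gieseker-semistable. Then for each n ≥ 1, pulling H back n times along the absolute Frobenius of X
yields a slope-semistable sheaf of dimension d; in other words H is strongly slope-semistable. (In
the published claim H is merely assumed torsion free and slope-semistable and the polarisation is a
hyperplane section; here H is taken Gieseker-semistable, a stronger condition, and L may be any
ample polarisation.) -/
theorem result
    (p : ℕ) [Fact p.Prime] (k : Type u) [Field k] [IsAlgClosed k] [CharP k p]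
    (X : Scheme.{u}) [X.Over (Spec (CommRingCat.of k))] [IsProper (X ↘ Spec (CommRingCat.of k))]
    [IsIntegral X] [FrobSch.IsCharP X p] (d : ℕ) (hd : 1 ≤ d)
    [SmoothOfRelativeDimension d (X ↘ Spec (CommRingCat.of k))]
    (L : X.Modules) (hL : CohB1.IsAmple L)
    (P0 : ℚ[X]) (hP0 : ShStab.IsHilbPoly k X L (Coh.structureModule X) P0)
    (r : ℕ) (hr : 2 ≤ r)
    (hΩ : ∀ (F : X.Modules) (ι : F ⟶ Omega.sheaf (X ↘ Spec (CommRingCat.of k))) (PF : ℚ[X]) (a b : ℕ),
      Mono ι → Coh.IsCoh F → ShStab.IsHilbPoly k X L F PF → 0 < StabCat.alpha d PF →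
        1 ≤ a → 1 ≤ b → a + b ≤ r →
          (Nat.lcm a b : ℚ) * (StabCat.alpha d P0 * (StabCat.hatSlope d PF - StabCat.hatSlope d P0)) < 1)
    (H : X.Modules) (PH : ℚ[X]) (hPH : ShStab.IsHilbPoly k X L H PH)
    (hH : ShStab.IsSemistable k X L H d) (hrk : StabCat.alpha d PH = (r : ℚ) * StabCat.alpha d P0)
    (n : ℕ) (hn : 1 ≤ n) :
    ShStab.IsMuSemistable k X L (((Scheme.Modules.pullback (FrobSch.frob X p)).obj)^[n] H) d := by
  exact K752.StrongT.main p k X (fun {_} {_} {_} => K752.N5.stmtF p
    (Groth.Agent.ShStab.K831.N4b.stmtMT X p (K991.MTForm.stmtForm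
      (K672.LA.stmtLA Groth.Agent.ShStab.K831.Kempf.stmtOpt (K865.M1.stmtM1 p)))))
    d hd L hL P0 hP0 r hr hΩ H PH hPH hH hrk n hn

end Groth.Agent.S18559
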