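import Groth.Statements.S18560
import Groth.Agent.PtQuiv.K959.Basic

set_option autoImplicit false
universe u v
open PtQuiv

namespace Groth.Agent.S18560

open K959.QuivBasic in
/-- Let K be a field and s i ∈ K² (i in a finite index type) nonzero vectors, regarded as a
representation of the quiver with a central vertex carrying the plane and one vertex per i carrying
a line that maps to the plane by 1 ↦ s i. For a weight θ in the hypersimplex (0 ≤ θ i ≤ 1, Σ θ i =
2, central weight -1) the representation is θ-semistable if and only if, for every vector v, the
indices i with s i on the line K ∙ v have total weight at most 1. (The published statement is over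
an algebraically closed field, assumes semistability for some interior weight instead of s i ≠ 0,
and phrases the bound through the classes of pairwise proportional s i; any field is allowed here.
Its further assertion that the bounding walls, where the total weight of one proportionality class
equals 1, do not meet in the interior of the hypersimplex is not part of this row.) -/
theorem result (K : Type u) [Field K] (ι : Type v) [Fintype ι]
    (s : ι → (Fin 2 → K)) (hs : ∀ i, s i ≠ 0) (θ : ι → ℚ) (h0 : ∀ i, 0 ≤ θ i)
    (h1 : ∀ i, θ i ≤ 1) (h2 : ∑ i, θ i = 2) :
    PtQuiv.QSemistable (-1) θ s ↔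
      ∀ (J : Finset ι) (v : Fin 2 → K), (∀ i ∈ J, s i ∈ K ∙ v) → ∑ i ∈ J, θ i ≤ 1 := by
  constructor
  · rintro ⟨-, h⟩ J v hJ
    by_cases hv : v = 0
    · have : J = ∅ := by
        refine Finset.eq_empty_of_forall_notMem fun i hi => hs i ?_
        simpa [hv] using hJ i hi
      simp [this]
    · have := h (K ∙ v) J hJ
      rw [wt_span _ _ _ hv] at this
      linarith
  · intro h
    refine ⟨by rw [h2]; norm_num, fun L I hL => ?_⟩
    rcases trichotomy L with ⟨rfl, -⟩ | ⟨v, hv, rfl, -⟩ | ⟨rfl, -⟩
    · have : I = ∅ := by
        refine Finset.eq_empty_of_forall_notMem fun i hi => hs i ?_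
        simpa using hL i hi
      simp [this, wt_bot]
    · rw [wt_span _ _ _ hv]
      linarith [h I v hL]
    · rw [wt_top]
      have : ∑ i ∈ I, θ i ≤ ∑ i, θ i :=
        Finset.sum_le_sum_of_subset_of_nonneg (Finset.subset_univ I) fun i _ _ => h0 i
      linarith

end Groth.Agent.S18560
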