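import Groth.Statements.S18561
import Groth.Agent.PtQuiv.K959.Basic

set_option autoImplicit false
universe u v
open PtQuiv

namespace Groth.Agent.S18561

open K959.QuivBasic in
/-- Let K be a field and s i ∈ K² (i in a finite index type) nonzero vectors, regarded as a
representation of the quiver with a central vertex carrying the plane and one vertex per i carrying
a line mapping to the plane by 1 ↦ s i. Then the representation is stable for some weight of the
hypersimplex (0 ≤ θ i ≤ 1, Σ θ i = 2, central weight -1) if and only if the s i fall into at least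
three proportionality classes, i.e. three of them are pairwise non-proportional. (The published
statement is over an algebraically closed field and assumes semistability for some interior weight
instead of s i ≠ 0; any field is allowed here. Its further assertions, that the set of semistability
weights is full-dimensional exactly in this case and is a wall otherwise, are not part of this row.) -/
theorem result (K : Type u) [Field K] (ι : Type v)
    [Fintype ι] (s : ι → (Fin 2 → K)) (hs : ∀ i, s i ≠ 0) :
    (∃ θ : ι → ℚ, (∀ i, 0 ≤ θ i) ∧ (∀ i, θ i ≤ 1) ∧ ∑ i, θ i = 2 ∧ PtQuiv.QStable (-1) θ s) ↔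
      ∃ i j k : ι, s i ∉ K ∙ s j ∧ s j ∉ K ∙ s k ∧ s i ∉ K ∙ s k := by
  classical
  constructor
  · rintro ⟨θ, h0, h1, h2, hss, hst⟩
    -- every proportionality class has weight `< 1`
    have hlt : ∀ v : Fin 2 → K, v ≠ 0 →
        ∑ i ∈ Finset.univ.filter (fun i => s i ∈ K ∙ v), θ i < 1 := by
      intro v hv
      have hsub : PtQuiv.QSubrep s (K ∙ v) (Finset.univ.filter (fun i => s i ∈ K ∙ v)) :=
        fun i hi => (Finset.mem_filter.mp hi).2
      have hle := hss.2 _ _ hsub
      rw [wt_span _ _ _ hv] at hle
      rcases hle.lt_or_eq with h | h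
      · linarith
      · exfalso
        rcases hst _ _ hsub (by rw [wt_span _ _ _ hv]; exact h) with ⟨h', -⟩ | ⟨h', -⟩
        · exact hv (by simpa using h')
        · have h3 := congrArg (fun L : Submodule K (Fin 2 → K) => Module.finrank K L) h'
          simp [finrank_span hv] at h3
    have hne : Nonempty ι := by
      by_contra h
      rw [not_nonempty_iff] at h
      simp at h2
    obtain ⟨k⟩ := hne
    have hk := hlt (s k) (hs k)
    obtain ⟨j, hj⟩ : ∃ j, s j ∉ K ∙ s k := by
      by_contra h
      push Not at h
      rw [Finset.filter_true_of_mem (fun i _ => h i)] at hk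
      linarith
    have hj' := hlt (s j) (hs j)
    obtain ⟨i, hi⟩ : ∃ i, s i ∉ K ∙ s j ∧ s i ∉ K ∙ s k := by
      by_contra h
      push Not at h
      have : ∑ i, θ i ≤ ∑ i ∈ Finset.univ.filter (fun i => s i ∈ K ∙ s j), θ i +
          ∑ i ∈ Finset.univ.filter (fun i => s i ∈ K ∙ s k), θ i := by
        rw [Finset.sum_filter, Finset.sum_filter, ← Finset.sum_add_distrib]
        refine Finset.sum_le_sum fun i _ => ?_
        have := h0 i
        by_cases h1 : s i ∈ K ∙ s j
        · simp only [h1, if_true]
          split_ifs <;> linarith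
        · simp only [h1, h i h1, if_true, if_false]
          linarith
      linarith
    exact ⟨i, j, k, hi.1, hj, hi.2⟩
  · rintro ⟨i, j, k, hij, hjk, hik⟩
    have hij' : i ≠ j := by
      rintro rfl; exact hij (Submodule.mem_span_singleton_self _)
    have hjk' : j ≠ k := by
      rintro rfl; exact hjk (Submodule.mem_span_singleton_self _)
    have hik' : i ≠ k := by
      rintro rfl; exact hik (Submodule.mem_span_singleton_self _)
    have hcard : 0 < (Fintype.card ι : ℚ) := by
      have : 0 < Fintype.card ι := Fintype.card_pos_iff.mpr ⟨i⟩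
      exact_mod_cast this
    obtain ⟨n, hn⟩ : ∃ n : ℚ, n = (Fintype.card ι : ℚ) := ⟨_, rfl⟩
    rw [← hn] at hcard
    let θ : ι → ℚ := fun x => 1 / (2 * n) + ((if x = i then 1 / 2 else 0) +
      (if x = j then 1 / 2 else 0) + (if x = k then 1 / 2 else 0))
    have hpos : ∀ x, 0 < θ x := by
      intro x
      have : 0 < 1 / (2 * n) := one_div_pos.mpr (by linarith)
      simp only [θ]
      split_ifs <;> linarith
    have hsum : ∑ x, θ x = 2 := by
      simp only [θ, Finset.sum_add_distrib, Finset.sum_ite_eq', Finset.mem_univ, if_true,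
        Finset.sum_const, Finset.card_univ, nsmul_eq_mul, ← hn]
      field_simp
      norm_num
    have hprop : ∀ {v : Fin 2 → K} {x y : ι}, s x ∈ K ∙ v → s y ∈ K ∙ v → s x ∈ K ∙ s y := by
      intro v x y hx hy
      obtain ⟨a, ha⟩ := Submodule.mem_span_singleton.mp hx
      obtain ⟨b, hb⟩ := Submodule.mem_span_singleton.mp hy
      have hb0 : b ≠ 0 := by
        rintro rfl; exact hs y (by rw [← hb, zero_smul])
      refine Submodule.mem_span_singleton.mpr ⟨a * b⁻¹, ?_⟩
      rw [← hb, ← ha, smul_smul, mul_assoc, inv_mul_cancel₀ hb0, mul_one]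
    -- a proportionality class is not everything
    have hclass : ∀ (v : Fin 2 → K) (J : Finset ι), (∀ x ∈ J, s x ∈ K ∙ v) →
        ∑ x ∈ J, θ x < 1 := by
      intro v J hJ
      have hJne : J ≠ Finset.univ := by
        rintro rfl
        exact hij (hprop (hJ i (Finset.mem_univ _)) (hJ j (Finset.mem_univ _)))
      have hcardlt : (J.card : ℚ) < n := by
        have := Finset.card_lt_card (Finset.ssubset_univ_iff.mpr hJne)
        rw [Finset.card_univ] at this
        rw [hn]
        exact_mod_cast this
      have e : ∑ x ∈ J, θ x = J.card * (1 / (2 * n)) + ((if i ∈ J then 1 / 2 else 0) +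
          (if j ∈ J then 1 / 2 else 0) + (if k ∈ J then 1 / 2 else 0)) := by
        simp only [θ, Finset.sum_add_distrib, Finset.sum_ite_eq', Finset.sum_const, nsmul_eq_mul]
      have e1 : J.card * (1 / (2 * n)) < 1 / 2 := by
        rw [mul_one_div, div_lt_iff₀ (by positivity)]
        linarith
      have e2 : ((if i ∈ J then 1 / 2 else 0) +
          (if j ∈ J then 1 / 2 else 0) + (if k ∈ J then 1 / 2 else 0) : ℚ) ≤ 1 / 2 := by
        by_cases hi : i ∈ J
        · have hj : j ∉ J := fun hj => hij (hprop (hJ i hi) (hJ j hj))
          have hk : k ∉ J := fun hk => hik (hprop (hJ i hi) (hJ k hk))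
          simp [hi, hj, hk]
        · by_cases hj : j ∈ J
          · have hk : k ∉ J := fun hk => hjk (hprop (hJ j hj) (hJ k hk))
            simp [hi, hj, hk]
          · by_cases hk : k ∈ J <;> simp [hi, hj, hk]
      linarith
    have hle : ∀ J : Finset ι, ∑ x ∈ J, θ x ≤ 2 := fun J => by
      rw [← hsum]
      exact Finset.sum_le_sum_of_subset_of_nonneg (Finset.subset_univ J)
        fun x _ _ => (hpos x).le
    have hbot : ∀ I : Finset ι, PtQuiv.QSubrep s ⊥ I → I = ∅ := fun I hI =>
      Finset.eq_empty_of_forall_notMem fun x hx => hs x (by simpa using hI x hx)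
    refine ⟨θ, fun x => (hpos x).le, fun x => ?_, hsum, ⟨by rw [hsum]; norm_num, ?_⟩, ?_⟩
    · have := hclass (s x) {x} (fun y hy => by
        rw [Finset.mem_singleton.mp hy]; exact Submodule.mem_span_singleton_self _)
      simp only [Finset.sum_singleton] at this
      exact this.le
    · intro L I hL
      rcases trichotomy L with ⟨rfl, -⟩ | ⟨v, hv, rfl, -⟩ | ⟨rfl, -⟩
      · simp [hbot I hL, wt_bot]
      · rw [wt_span _ _ _ hv]
        linarith [hclass v I hL]
      · rw [wt_top]
        linarith [hle I]
    · intro L I hL h
      rcases trichotomy L with ⟨rfl, -⟩ | ⟨v, hv, rfl, -⟩ | ⟨rfl, -⟩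
      · exact Or.inl ⟨rfl, hbot I hL⟩
      · rw [wt_span _ _ _ hv] at h
        linarith [hclass v I hL]
      · rw [wt_top] at h
        refine Or.inr ⟨rfl, ?_⟩
        by_contra hI
        obtain ⟨x, hx⟩ : ∃ x, x ∉ I := by
          by_contra hx
          push Not at hx
          exact hI (Finset.eq_univ_iff_forall.mpr hx)
        have h1 := hle (insert x I)
        rw [Finset.sum_insert hx] at h1
        linarith [hpos x]

end Groth.Agent.S18561
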