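import Groth.Statements.S18563
import Groth.Agent.PtQuiv.K959.Transfer

set_option autoImplicit false
universe u v
open PtQuiv

namespace Groth.Agent.S18563

open K959.QuivTransfer in
/-- Let K be a field, κ a finite index type with a ≠ b, and s i ∈ K² a representation of the quiver with
a central vertex carrying the plane and one vertex per i : κ carrying a line mapping to the plane by
1 ↦ s i. Let θ be a weight of the hypersimplex (0 ≤ θ i ≤ 1, Σ θ i = 2, central weight -1) with 1 <
θ a + θ b < 2, and put c = 1 / (2 - θ a - θ b). Then s is θ-stable if and only if s a, s b are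
linearly independent and, writing every other s i = t i 0 • s a + t i 1 • s b, the representation t
of the quiver with two one-dimensional sinks p₀, p₁ and one one-dimensional source per i ≠ a, b
(arrow to p_j given by t i j) is stable for the weight c (θ a - 1) at p₀, c (θ b - 1) at p₁ and c θ
i at the sources. (The published statement is about representations over a base scheme, with
(semi)stability tested on geometric fibres, that is over algebraically closed fields; this row
states the fibrewise content over an arbitrary field.) -/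
theorem result (K : Type u) [Field K]
    (κ : Type v) [Fintype κ] [DecidableEq κ] (a b : κ) (hab : a ≠ b) (s : κ → (Fin 2 → K))
    (θ : κ → ℚ) (h0 : ∀ i, 0 ≤ θ i) (h1 : ∀ i, θ i ≤ 1) (h2 : ∑ i, θ i = 2)
    (hθ : 1 < θ a + θ b) (hθ' : θ a + θ b < 2) :
    PtQuiv.QStable (-1) θ s ↔
      (LinearIndependent K ![s a, s b] ∧
        ∀ t : {i : κ // i ≠ a ∧ i ≠ b} → (Fin 2 → K),
          (∀ i, s i.1 = t i 0 • s a + t i 1 • s b) →
            PtQuiv.PStable ![(2 - θ a - θ b)⁻¹ * (θ a - 1), (2 - θ a - θ b)⁻¹ * (θ b - 1)]
              (fun i : {i : κ // i ≠ a ∧ i ≠ b} => (2 - θ a - θ b)⁻¹ * θ i.1) t) := by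
  constructor
  · intro h
    have hli := linearIndependent a b hab s θ hθ h.1
    refine ⟨hli, fun t ht => ⟨⟨pwt_sum θ a b hab h2 hθ', fun U I hU => ?_⟩, fun U I hU h0' => ?_⟩⟩
    · obtain ⟨L, J, hL, e, -, -⟩ := exists_q a b hab s θ hθ' hli t ht U I hU
      have hle := h.1.2 L J hL
      rw [e] at hle
      exact nonpos_of_mul_nonpos_right hle (by linarith)
    · obtain ⟨L, J, hL, e, hbot, htop⟩ := exists_q a b hab s θ hθ' hli t ht U I hU
      rw [h0', mul_zero] at e
      exact (h.2 L J hL e).imp hbot htop
  · rintro ⟨hli, h⟩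
    obtain ⟨t, ht⟩ := exists_coords a b s hli
    have hp := h t ht
    refine ⟨⟨by rw [h2]; norm_num, fun L J hL => ?_⟩, fun L J hL h0' => ?_⟩
    · rcases exists_p a b hab s θ h0 h1 h2 hθ hθ' hli t ht L J hL with h' | ⟨U, I, hU, e, -, -⟩
      · exact h'.le
      · rw [e]
        exact mul_nonpos_of_nonneg_of_nonpos (by linarith) (hp.1.2 U I hU)
    · rcases exists_p a b hab s θ h0 h1 h2 hθ hθ' hli t ht L J hL with h' | ⟨U, I, hU, e, hbot, htop⟩
      · exact absurd h0' h'.ne
      · rw [h0'] at e
        have e' := (mul_eq_zero.mp e.symm).resolve_left (by intro h; linarith)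
        exact (hp.2 U I hU e').imp hbot htop

end Groth.Agent.S18563
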