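import Groth.Statements.S18572
import Groth.Agent.REq.K959.RatPt

set_option autoImplicit false
universe u
open CategoryTheory AlgebraicGeometry
open REq

namespace Groth.Agent.S18572

/-- Let k be an infinite field and X an integral separated scheme of finite type over k which is retract
rational over k. Then X is almost R-trivial over k: there is a dense open subscheme U of X such
that, for every field K containing k (in the universe of k), U has a K-point and any two K-points of
X lying in U are R-equivalent on X. -/
theorem result (k : Type u) [Field k] [Infinite k] (X : Scheme.{u})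
    (f : X ⟶ Spec (CommRingCat.of k)) [IsIntegral X] [LocallyOfFiniteType f] [QuasiCompact f]
    [IsSeparated f] (hX : REq.IsRetractRational f) :
    REq.IsAlmostRTrivial f := by
  obtain ⟨U, n, V, a, b, hne, hab, ha, hb⟩ := hX
  refine ⟨U, U.isOpen.dense hne, fun K _ _ => ⟨?_, fun A B hA hB => ?_⟩⟩
  · obtain ⟨x, hx⟩ := hne
    obtain ⟨c, hc⟩ := K959.RatPt.exists_pt n V ⟨V.ι (a ⟨x, hx⟩), (a ⟨x, hx⟩).2⟩
    refine ⟨⟨REq.specMap k K ≫ c ≫ b ≫ U.ι, ?_⟩, ?_⟩
    · simp only [Category.assoc]
      rw [hb, hc, Category.comp_id]
    · rintro _ ⟨y, rfl⟩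
      exact (b (c (REq.specMap k K y))).2
  · exact Relation.EqvGen.rel _ _ (K959.RatPt.elemLink_of_lift f U A B hA hB
      (K959.Aff.elemLink_retract n (U.ι ≫ f) V a b hab ha hb _ _))

end Groth.Agent.S18572
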