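import Groth.Statements.S18573
import Groth.Agent.Sga4B.P1Curve441

set_option autoImplicit false
universe u
open CategoryTheory AlgebraicGeometry
open REq

namespace Groth.Agent.S18573

/-- Let Y be a scheme over a field k and K a field containing k. Let V and W be closed subsets of Y with
V ∪ W = Y such that no K-point of Y has its image in V ∩ W. If p is a K-point of Y lying in V and q
a K-point of Y lying in W, then p and q are not R-equivalent on Y. (The published step concerns
k-points of the special fibre of a proper flat scheme over a discrete valuation ring, that is K = k;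
this row is stated for any scheme Y over k and K-points for any field K containing k.) -/
theorem result (k : Type u) [Field k] (Y : Scheme.{u})
    (g : Y ⟶ Spec (CommRingCat.of k)) (K : Type u) [Field K] [Algebra k K]
    (V W : Set Y) (hV : IsClosed V) (hW : IsClosed W) (hVW : V ∪ W = Set.univ)
    (hT : ∀ z : REq.Pts g K, ¬ (Set.range z.1.base ⊆ V ∩ W))
    (p q : REq.Pts g K) (hp : Set.range p.1.base ⊆ V) (hq : Set.range q.1.base ⊆ W) :
    ¬ REq.REquiv g K p q := by
  have hP : IrreducibleSpace (REq.P1K K) := by
    have := Groth.Agent.Sga4B.P1Curve.isIntegral_projLine K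
    infer_instance
  -- a direct link preserves membership in `V`
  have key : ∀ A B : REq.Pts g K, REq.ElemLink g K A B →
      (Set.range A.1.base ⊆ V ↔ Set.range B.1.base ⊆ V) := by
    rintro A B ⟨U, h, a, b, -, -, -, ha, hb⟩
    have hne : Nonempty (U : Scheme.{u}) := ⟨a (IsLocalRing.closedPoint K)⟩
    have hirr : IrreducibleSpace (U : Scheme.{u}) := by
      have : IsIntegral (REq.P1K K) := Groth.Agent.Sga4B.P1Curve.isIntegral_projLine K
      have : IsIntegral (U : Scheme.{u}) := inferInstance
      infer_instance
    have hrange : IsPreirreducible (Set.range h.base) := by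
      rw [← Set.image_univ]
      exact (PreirreducibleSpace.isPreirreducible_univ).image _ h.continuous.continuousOn
    have hA : Set.range A.1.base ⊆ Set.range h.base := by
      rw [← ha]
      rintro _ ⟨x, rfl⟩
      exact ⟨a x, rfl⟩
    have hB : Set.range B.1.base ⊆ Set.range h.base := by
      rw [← hb]
      rintro _ ⟨x, rfl⟩
      exact ⟨b x, rfl⟩
    rcases (isPreirreducible_iff_isClosed_union_isClosed.mp hrange) V W hV hW
      (by rw [hVW]; exact Set.subset_univ _) with hU | hU
    · exact ⟨fun _ => hB.trans hU, fun _ => hA.trans hU⟩
    · refine ⟨fun h' => ?_, fun h' => ?_⟩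
      · exact absurd (Set.subset_inter h' (hA.trans hU)) (hT A)
      · exact absurd (Set.subset_inter h' (hB.trans hU)) (hT B)
  intro hpq
  have : Set.range p.1.base ⊆ V ↔ Set.range q.1.base ⊆ V := by
    clear hp hq
    induction hpq with
    | rel _ _ h => exact key _ _ h
    | refl _ => exact Iff.rfl
    | symm _ _ _ ih => exact ih.symm
    | trans _ _ _ _ _ ih1 ih2 => exact ih1.trans ih2
  exact hT q (Set.subset_inter (this.mp hp) hq)

end Groth.Agent.S18573
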