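import Groth.Statements.S18574
import Groth.Agent.REq.K959.FunRel

set_option autoImplicit false
universe u v
open CategoryTheory AlgebraicGeometry
open REq

namespace Groth.Agent.S18574

open K959.FunRel Groth.Agent.Sga7.H301.PGrp

/-- Let k be a field and Φ a contravariant functor from the category of schemes over Spec k to sets.
Assume that for every integral scheme Y smooth, separated and quasi-compact over k, the map Φ(Y) →
Φ(P^1_Y) induced by the projection P^1_Y → Y is bijective. Let X be a proper integral scheme over k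
having a non-empty open subscheme smooth over k, and assume X is almost R-trivial over k. Then there
is a non-empty open subscheme U of X, smooth over k, such that the image of Φ(X) → Φ(U) (restriction
along the inclusion) equals the image of Φ(Spec k) → Φ(U) (along the structure morphism of U). The
functor takes values in an arbitrary universe. -/
theorem result (k : Type u) [Field k]
    (Φ : (Over (Spec (CommRingCat.of k)))ᵒᵖ ⥤ Type v)
    (hΦ : ∀ (Y : Scheme.{u}) (g : Y ⟶ Spec (CommRingCat.of k)) [IsIntegral Y] [Smooth g]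
      [IsSeparated g] [QuasiCompact g],
      Function.Bijective (Φ.map (Over.homMk (CohB1.ProjSpaceOver.toBase 1 Y) rfl :
        Over.mk (CohB1.ProjSpaceOver.toBase 1 Y ≫ g) ⟶ Over.mk g).op))
    (X : Scheme.{u}) (f : X ⟶ Spec (CommRingCat.of k)) [IsIntegral X] [IsProper f]
    (hsm : ∃ V : X.Opens, (V : Set X).Nonempty ∧ Smooth (V.ι ≫ f))
    (hR : REq.IsAlmostRTrivial f) :
    ∃ U : X.Opens, (U : Set X).Nonempty ∧ Smooth (U.ι ≫ f) ∧
      Set.range (Φ.map (Over.homMk U.ι rfl : Over.mk (U.ι ≫ f) ⟶ Over.mk f).op) =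
        Set.range (Φ.map (Over.homMk (U.ι ≫ f) (Category.comp_id _) :
          Over.mk (U.ι ≫ f) ⟶ Over.mk (𝟙 (Spec (CommRingCat.of k)))).op) := by
  obtain ⟨V, ⟨v, hv⟩, hsmV⟩ := hsm
  obtain ⟨U₀, hU₀, hR⟩ := hR
  obtain ⟨V₀, hV₀, hvV₀, hV₀V⟩ := exists_isAffineOpen_mem_and_subset (X := X) (x := v) (U := V) hv
  have hne : Nonempty V₀ := ⟨⟨v, hvV₀⟩⟩
  let R : Type u := Γ(X, V₀)
  let K : Type u := X.functionField
  have hdom : IsDomain R := inferInstanceAs (IsDomain Γ(X, V₀))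
  let : Algebra R K := inferInstanceAs (Algebra Γ(X, V₀) X.functionField)
  have hfrac : IsFractionRing R K := functionField_isFractionRing_of_isAffineOpen X V₀ hV₀
  let ρ : Spec (CommRingCat.of R) ⟶ X := hV₀.fromSpec
  have hρ : IsOpenImmersion ρ := inferInstanceAs (IsOpenImmersion hV₀.fromSpec)
  let η : Spec (CommRingCat.of K) ⟶ X := loc R K ≫ ρ
  let ψ : CommRingCat.of k ⟶ CommRingCat.of K := Spec.preimage (η ≫ f)
  let : Algebra k K := ψ.hom.toAlgebra
  have hψ : specMap k K = η ≫ f := Spec.map_preimage (η ≫ f)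
  let g : Spec (CommRingCat.of R) ⟶ Spec (CommRingCat.of k) := ρ ≫ f
  have hg : loc R K ≫ g = specMap k K := by
    rw [hψ]
    exact (Category.assoc _ _ _).symm
  have hsmg : Smooth g := by
    let ρ' := IsOpenImmersion.lift V.ι ρ (by
      rw [Scheme.Opens.range_ι]
      rintro _ ⟨x, rfl⟩
      have : ρ x ∈ Set.range hV₀.fromSpec := ⟨x, rfl⟩
      rw [hV₀.range_fromSpec] at this
      exact hV₀V this)
    have h1 : ρ' ≫ V.ι = ρ := IsOpenImmersion.lift_fac _ _ _
    have h2 : IsOpenImmersion (ρ' ≫ V.ι) := by rw [h1]; exact hρ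
    have h3 : IsOpenImmersion ρ' := IsOpenImmersion.of_comp ρ' V.ι
    have h4 : g = ρ' ≫ V.ι ≫ f := by
      change ρ ≫ f = _
      rw [← h1, Category.assoc]
    rw [h4]
    infer_instance
  -- the generic point and a rational point of the open
  obtain ⟨⟨x₀, hx₀⟩, -⟩ := hR k
  have hx₀f : x₀.1 ≫ f = 𝟙 _ := by
    rw [x₀.2]
    exact Spec.map_id _
  let P : Pts f K := ⟨η, hψ.symm⟩
  let Q : Pts f K := ⟨specMap k K ≫ x₀.1, by rw [Category.assoc, hx₀f, Category.comp_id]⟩
  have hP : InOpen f U₀ P := by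
    have hdρ : IsDominant ρ := ⟨ρ.isOpenEmbedding.isOpen_range.dense
      ⟨_, ⟨loc R K (IsLocalRing.closedPoint K), rfl⟩⟩⟩
    have hdom : IsDominant η := inferInstance
    obtain ⟨_, hy, ⟨z, rfl⟩⟩ := hdom.1.inter_open_nonempty (U₀ : Set X) U₀.2 hU₀.nonempty
    rintro _ ⟨z', rfl⟩
    have : Subsingleton (Spec (CommRingCat.of K)) := inferInstanceAs (Subsingleton (PrimeSpectrum K))
    rw [Subsingleton.elim z' z]
    exact hy
  have hQ : InOpen f U₀ Q := by
    rintro _ ⟨z, rfl⟩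
    exact hx₀ ⟨specMap k K z, rfl⟩
  obtain ⟨T, i, hi, e, he, A', B', wA, wB, hA, hB, hAB⟩ :=
    rel_of_rEquiv Φ f g hΦ hg ((hR K).2 P Q hP hQ)
  have hA' : A' = i ≫ ρ := by
    refine ext_of_generic (K := K) f i e he _ _ ?_ ?_
    · rw [wA, Category.assoc]
    · rw [hA, ← Category.assoc, he]
  have hB' : B' = (i ≫ g) ≫ x₀.1 := by
    refine ext_of_generic (K := K) f i e he _ _ ?_ ?_
    · rw [wB, Category.assoc, hx₀f, Category.comp_id]
    · rw [hB, Category.assoc, reassoc_of% he, reassoc_of% hg]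
  subst hA' hB'
  have hne' : Nonempty T := ⟨e (IsLocalRing.closedPoint K)⟩
  let σ := (i ≫ ρ).isoOpensRange
  let U := (i ≫ ρ).opensRange
  have hσ : σ.inv ≫ i ≫ ρ = U.ι := (i ≫ ρ).isoOpensRange_inv_comp
  have hσ' : σ.inv ≫ i ≫ g = U.ι ≫ f := by rw [← hσ, Category.assoc, Category.assoc]
  have hU : (U : Set X).Nonempty := ⟨(i ≫ ρ) (Classical.arbitrary T), ⟨_, rfl⟩⟩
  have key : Φ.map (Over.homMk U.ι rfl : Over.mk (U.ι ≫ f) ⟶ Over.mk f).op =
      Φ.map (Over.homMk x₀.1 hx₀f : Over.mk (𝟙 _) ⟶ Over.mk f).op ≫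
      Φ.map (Over.homMk (U.ι ≫ f) (Category.comp_id _) :
          Over.mk (U.ι ≫ f) ⟶ Over.mk (𝟙 (Spec (CommRingCat.of k)))).op := by
    have h1 := ph_comp Φ f (i ≫ g) (i ≫ ρ) wA (U.ι ≫ f) σ.inv hσ'
    have h2 := ph_comp Φ f (i ≫ g) ((i ≫ g) ≫ x₀.1) wB (U.ι ≫ f) σ.inv hσ'
    rw [hAB, ← h2] at h1
    unfold ph at h1
    rw [← Φ.map_comp, ← op_comp]
    refine Eq.trans ?_ (h1.trans ?_)
    · congr 2
      ext1
      exact hσ.symm
    · congr 2
      ext1
      change σ.inv ≫ (i ≫ g) ≫ x₀.1 = (U.ι ≫ f) ≫ x₀.1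
      rw [← hσ']
      simp only [Category.assoc]
  refine ⟨U, hU, ?_, ?_⟩
  · rw [← hσ']
    infer_instance
  · apply Set.Subset.antisymm
    · rw [key]
      rintro _ ⟨c, rfl⟩
      exact ⟨Φ.map (Over.homMk x₀.1 hx₀f : Over.mk (𝟙 _) ⟶ Over.mk f).op c, rfl⟩
    · rintro _ ⟨c, rfl⟩
      refine ⟨Φ.map (Over.homMk f (Category.comp_id _) : Over.mk f ⟶
        Over.mk (𝟙 (Spec (CommRingCat.of k)))).op c, ?_⟩
      have h3 : (Φ.map (Over.homMk f (Category.comp_id _) : Over.mk f ⟶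
          Over.mk (𝟙 (Spec (CommRingCat.of k)))).op) ≫
          Φ.map (Over.homMk U.ι rfl : Over.mk (U.ι ≫ f) ⟶ Over.mk f).op =
          Φ.map (Over.homMk (U.ι ≫ f) (Category.comp_id _) :
            Over.mk (U.ι ≫ f) ⟶ Over.mk (𝟙 (Spec (CommRingCat.of k)))).op := by
        rw [← Φ.map_comp, ← op_comp]
        congr 2
      rw [← h3]
      rfl

end Groth.Agent.S18574
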