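import Groth.Statements.S18575
import Groth.Agent.REq.K959.OmFinal

set_option autoImplicit false
universe u
open CategoryTheory AlgebraicGeometry Opposite
open REq

namespace Groth.Agent.S18575

open K959.OmVal

/-- Let k be an infinite field and X an integral scheme, proper and smooth over k, which is almost
R-trivial over k. Then for all integers i > 0 and m > 0 the space of global sections of
(Ω^i_{X/k})^{⊗m} is zero. Here Ω^i is expressed through an O_X-module L that is an i-th exterior
power of the sheaf of differentials Ω_{X/k}, and the conclusion is that Γ(X, L^{⊗m}) has at most one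
element. (The source assumes X geometrically connected rather than integral; for X smooth over k
with a k-rational point, which almost R-triviality provides, the two agree.) -/
theorem result (k : Type u) [Field k]
    [Infinite k] (X : Scheme.{u}) (f : X ⟶ Spec (CommRingCat.of k)) [IsIntegral X] [IsProper f]
    [Smooth f] (hR : REq.IsAlmostRTrivial f) (i m : ℕ) (hi : 0 < i) (hm : 0 < m)
    (L : X.Modules) (hL : ExtPow.IsExtPow i (Omega.sheaf f) L) :
    Subsingleton ((CohB1.tensorPow L m).val.obj (op ⊤)) := by
  obtain ⟨U₀, hU₀, hR⟩ := hR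
  have hqc : QuasiCompact (Limits.pullback.diagonal f) := inferInstance
  obtain ⟨e, he⟩ := Groth.Agent.Lefpen.H721.OmegaSec.exists_equiv_family f hL
  have hfree := Groth.Agent.Lefpen.H721.OmegaSec.isFinLocFree_of_isExtPow_omega f hL
  have hqL : Coh.IsQCoh L := Groth.Agent.PerfA.QCohEpi.isQCoh_of_isFinLocFree hfree
  have hgood := fun W : X.affineOpens => good_of_isQCoh hqL W
  have key : ∀ α : Groth.Agent.Sga67.Sec.Sec (CohB1.tensorPow L m) (⊤ : X.Opens), α = 0 := by
    intro α
    let K : Type u := X.functionField
    let η : Spec (CommRingCat.of K) ⟶ X := X.fromSpecStalk (genericPoint X)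
    let ψ : CommRingCat.of k ⟶ CommRingCat.of K := Spec.preimage (η ≫ f)
    let : Algebra k K := ψ.hom.toAlgebra
    have hψ : specMap k K = η ≫ f := Spec.map_preimage (η ≫ f)
    obtain ⟨⟨x₀, hx₀⟩, -⟩ := hR k
    have hx₀f : x₀.1 ≫ f = 𝟙 _ := by
      rw [x₀.2]
      exact Spec.map_id _
    let P : Pts f K := ⟨η, hψ.symm⟩
    let Q : Pts f K := ⟨specMap k K ≫ x₀.1, by rw [Category.assoc, hx₀f, Category.comp_id]⟩
    have hP : InOpen f U₀ P := by
      rintro _ ⟨z, rfl⟩
      have hs : Subsingleton (Spec (CommRingCat.of K)) := inferInstanceAs (Subsingleton (PrimeSpectrum K))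
      have h1 : genericPoint X ∈ U₀ :=
        ((genericPoint_spec X).mem_open_set_iff U₀.2).mpr (by simpa using hU₀.nonempty)
      rw [Subsingleton.elim z (IsLocalRing.closedPoint K)]
      have h2 : η (IsLocalRing.closedPoint K) = genericPoint X :=
        Scheme.fromSpecStalk_closedPoint (X := X) (x := genericPoint X)
      change η (IsLocalRing.closedPoint K) ∈ U₀
      rw [h2]
      exact h1
    have hQ : InOpen f U₀ Q := by
      rintro _ ⟨z, rfl⟩
      exact hx₀ ⟨specMap k K z, rfl⟩
    have hPQ : REquiv f K P Q := (hR K).2 P Q hP hQ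
    refine eq_zero_of_generic f e he hgood α η hψ.symm isGen_functionField (fun d => ?_)
    exact (isVal_of_rEquiv f e he hgood α hPQ d 0).mpr
      (isVal_zero_of_base f e hgood α hi hm x₀.1 hx₀f d)
  exact ⟨fun α β => (key α).trans (key β).symm⟩

end Groth.Agent.S18575
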