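import Groth.Statements.S18576
import Groth.Agent.REq.K959.SmoothPt
import Mathlib.Algebra.CharZero.Infinite

set_option autoImplicit false
universe u
open CategoryTheory AlgebraicGeometry
open REq

namespace Groth.Agent.S18576

/-- Let k be a field of characteristic zero and X a scheme that is smooth, projective and geometrically
integral over k. If X is retract rational over k, in particular if X is stably rational over k, then
X is R-trivial over k: for every field K containing k (in the universe of k), X(K) is non-empty and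
any two K-points are R-equivalent. -/
theorem result (k : Type u) [Field k] [CharZero k]
    (X : Scheme.{u}) (f : X ⟶ Spec (CommRingCat.of k)) [GeometricallyIntegral f] [Smooth f]
    (hproj : Neron.IsProjectiveOver k (Over.mk f)) (hX : REq.IsRetractRational f) :
    REq.IsRTrivial f := by
  have hft : LocallyOfFiniteType f := inferInstance
  obtain ⟨U, n, V, a, b, hne, hab, ha, hb⟩ := hX
  intro K _ _
  have hchar : CharZero K := charZero_of_injective_algebraMap (algebraMap k K).injective
  have hinf : Infinite K := CharZero.infinite K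
  have hinfk : Infinite k := CharZero.infinite k
  have hlink : ∀ A B : REq.Pts f K, REq.InOpen f U A → REq.InOpen f U B → REq.REquiv f K A B :=
    fun A B hA hB => Relation.EqvGen.rel _ _ (K959.RatPt.elemLink_of_lift f U A B hA hB
      (K959.Aff.elemLink_retract n (U.ι ≫ f) V a b hab ha hb _ _))
  have hmove : ∀ A : REq.Pts f K, ∃ B : REq.Pts f K, REq.InOpen f U B ∧ REq.REquiv f K A B := by
    intro A
    by_cases hA : REq.InOpen f U A
    · exact ⟨A, hA, Relation.EqvGen.refl _⟩
    · obtain ⟨B, hB, hAB⟩ := K959.SmoothPt.main f U hne n V a b hab ha hb A hA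
      exact ⟨B, hB, Relation.EqvGen.rel _ _ hAB⟩
  refine ⟨?_, fun A B => ?_⟩
  · obtain ⟨x, hx⟩ := hne
    obtain ⟨c, hc⟩ := K959.RatPt.exists_pt n V ⟨V.ι (a ⟨x, hx⟩), (a ⟨x, hx⟩).2⟩
    refine ⟨⟨REq.specMap k K ≫ c ≫ b ≫ U.ι, ?_⟩⟩
    simp only [Category.assoc]
    rw [hb, hc, Category.comp_id]
  · obtain ⟨A', hA', hAA'⟩ := hmove A
    obtain ⟨B', hB', hBB'⟩ := hmove B
    exact (hAA'.trans _ _ _ (hlink A' B' hA' hB')).trans _ _ _ (hBB'.symm _ _)

end Groth.Agent.S18576
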