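import Groth.Statements.S18580
import Mathlib.AlgebraicGeometry.Morphisms.FormallyUnramified
import Mathlib.AlgebraicGeometry.Morphisms.Separated

set_option autoImplicit false
universe u
open EtBase

namespace Groth.Agent.S18580

open AlgebraicGeometry CategoryTheory in
/-- Let Y be a connected scheme and f : X ⟶ Y a separated morphism that is unramified (locally of finite
type and formally unramified). Then the sections of f correspond bijectively to the connected
components of X mapping isomorphically onto Y: there is a bijection from the set of sections s of f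
to the set of open subschemes U of X whose underlying set is a connected component of X and for
which U ⟶ X ⟶ Y is an isomorphism, sending s to its image. In particular every section is an
isomorphism onto a connected component of X and is determined by its image. (A connected component
mapping isomorphically onto Y is the image of a section, hence open, so restricting to open
components loses nothing. The published statement also assumes Y Noetherian; that hypothesis plays
no role and is omitted.) -/
theorem result {X Y : Scheme.{u}} (f : X ⟶ Y)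
    [FormallyUnramified f] [LocallyOfFiniteType f] [IsSeparated f] [ConnectedSpace Y] :
    ∃ e : {s : Y ⟶ X // s ≫ f = 𝟙 Y} ≃
        {U : X.Opens // (∃ x : X, (U : Set X) = connectedComponent x) ∧ IsIso (U.ι ≫ f)},
      ∀ s : {s : Y ⟶ X // s ≫ f = 𝟙 Y}, ((e s).1 : Set X) = Set.range s.1 := by
  have hop : MorphismProperty.HasOfPostcompProperty
      @IsOpenImmersion (@LocallyOfFiniteType ⊓ @FormallyUnramified) := by
    rw [MorphismProperty.hasOfPostcompProperty_iff_le_diagonal]
    intro X Y f ⟨hft, hfu⟩
    exact inferInstanceAs <| IsOpenImmersion (Limits.pullback.diagonal f)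
  have h1 : ∀ s : Y ⟶ X, s ≫ f = 𝟙 Y → IsOpenImmersion s := fun s hs =>
    MorphismProperty.of_postcomp _ (W' := @LocallyOfFiniteType ⊓ @FormallyUnramified) s f
      ⟨‹_›, ‹_›⟩ (by rw [hs]; infer_instance)
  have h2 : ∀ s : Y ⟶ X, s ≫ f = 𝟙 Y → IsClosedImmersion s := fun s hs => by
    have : IsClosedImmersion (s ≫ f) := by rw [hs]; infer_instance
    exact IsClosedImmersion.of_comp _ f
  have hfwd : ∀ s : {s : Y ⟶ X // s ≫ f = 𝟙 Y},
      ∃ U : {U : X.Opens // (∃ x : X, (U : Set X) = connectedComponent x) ∧ IsIso (U.ι ≫ f)},
        (U.1 : Set X) = Set.range s.1 := by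
    rintro ⟨s, hs⟩
    have := h1 s hs
    have := h2 s hs
    have hiso : IsIso (s.opensRange.ι ≫ f) := by
      have h3 : s.isoOpensRange.hom ≫ (s.opensRange.ι ≫ f) = 𝟙 Y := by
        rw [← Category.assoc, Scheme.Hom.isoOpensRange_hom_ι, hs]
      have : IsIso (s.isoOpensRange.hom ≫ (s.opensRange.ι ≫ f)) := by rw [h3]; infer_instance
      exact IsIso.of_isIso_comp_left s.isoOpensRange.hom _
    refine ⟨⟨s.opensRange, ⟨s (Classical.arbitrary Y), ?_⟩, hiso⟩, rfl⟩
    have hcl : IsClopen (Set.range s) := ⟨s.isClosedEmbedding.isClosed_range, s.isOpenEmbedding.isOpen_range⟩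
    change Set.range s = _
    apply Set.Subset.antisymm
    · exact (isPreconnected_range s.continuous).subset_connectedComponent (Set.mem_range_self _)
    · exact hcl.connectedComponent_subset (Set.mem_range_self _)
  choose e he using hfwd
  have hbij : Function.Bijective e := by
    constructor
    · rintro ⟨s, hs⟩ ⟨t, ht⟩ hst
      have hU := (e ⟨s, hs⟩).2.2
      have hs' : Set.range s ⊆ Set.range (e ⟨s, hs⟩).1.ι := by
        rw [Scheme.Opens.range_ι, he]
      have ht' : Set.range t ⊆ Set.range (e ⟨s, hs⟩).1.ι := by
        rw [Scheme.Opens.range_ι, hst, he]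
      have key : IsOpenImmersion.lift (e ⟨s, hs⟩).1.ι s hs' = IsOpenImmersion.lift (e ⟨s, hs⟩).1.ι t ht' := by
        rw [← cancel_mono ((e ⟨s, hs⟩).1.ι ≫ f), IsOpenImmersion.lift_fac_assoc,
          IsOpenImmersion.lift_fac_assoc, hs, ht]
      apply Subtype.ext
      have h5 := IsOpenImmersion.lift_fac (e ⟨s, hs⟩).1.ι s hs'
      rw [key, IsOpenImmersion.lift_fac] at h5
      exact h5.symm
    · rintro ⟨U, hU1, hU2⟩
      refine ⟨⟨inv (U.ι ≫ f) ≫ U.ι, by simp⟩, ?_⟩
      apply Subtype.ext
      apply TopologicalSpace.Opens.ext
      rw [he]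
      simp only [Scheme.Hom.comp_base, TopCat.coe_comp]
      rw [Set.range_comp, Set.range_eq_univ.mpr (Scheme.Hom.surjective _), Set.image_univ, Scheme.Opens.range_ι]
  exact ⟨Equiv.ofBijective e hbij, fun s => he s⟩

end Groth.Agent.S18580
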