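import Groth.Statements.S18581
import Groth.Agent.Ega4C.FlatLocal
import Groth.Agent.UnramA.FieldFibre
import Mathlib.RingTheory.Smooth.Flat
import Mathlib.RingTheory.Etale.Basic
-- import your own Groth.Agent.* helpers here

set_option autoImplicit false
universe u
open Desc

namespace Groth.Agent.S18581

open IsLocalRing

/-- A field is a Cohen-Macaulay local ring. -/
theorem isCM_of_isField {K : Type u} [CommRing K] (hK : IsField K) :
    LocCoh.IsCohenMacaulayLocalRing K := by
  have hloc : IsLocalRing K := by
    let := hK.toField
    infer_instance
  have hN : IsNoetherianRing K := by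
    let := hK.toField
    infer_instance
  rw [Groth.Agent.Ega4C.FlatLocal.isCM_iff_depth]
  have h1 := Groth.Agent.Ega4C.FlatLocal.depth_le_ringKrullDim K
  have h2 : ringKrullDim K = 0 := by
    let := hK.toField
    exact ringKrullDim_eq_zero_of_field K
  rw [h2] at h1 ⊢
  refine le_antisymm ?_ h1
  norm_cast
  exact zero_le

/-- Let A → B be a local homomorphism of Noetherian local rings which is étale, in the sense that B is
(compatibly with the map from A) the localization of an étale A-algebra E at a prime ideal. Then A
is a Cohen–Macaulay ring exactly when B is one. -/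
theorem result (A B : Type u) [CommRing A] [CommRing B]
    [IsLocalRing A] [IsLocalRing B] [IsNoetherianRing A] [IsNoetherianRing B]
    [Algebra A B] [IsLocalHom (algebraMap A B)]
    (E : Type u) [CommRing E] [Algebra A E] [Algebra.Etale A E] (P : Ideal E) [P.IsPrime]
    [Algebra E B] [IsScalarTower A E B] [IsLocalization.AtPrime B P] :
    LocCoh.IsCohenMacaulayLocalRing A ↔ LocCoh.IsCohenMacaulayLocalRing B := by
  have hflat : Module.Flat A B := by
    have : Module.Flat A E := inferInstance
    have : Module.Flat E B := IsLocalization.flat B P.primeCompl
    exact Module.Flat.trans A E B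
  have hft : Algebra.EssFiniteType A B := by
    have : Algebra.EssFiniteType E B := Algebra.EssFiniteType.of_isLocalization B P.primeCompl
    exact Algebra.EssFiniteType.comp A E B
  have hfu : Algebra.FormallyUnramified A B := by
    have : Algebra.FormallyUnramified E B := Algebra.FormallyUnramified.of_isLocalization P.primeCompl
    exact Algebra.FormallyUnramified.comp A E B
  have hm : (maximalIdeal A).map (algebraMap A B) = maximalIdeal B :=
    Algebra.FormallyUnramified.map_maximalIdeal (R := A) (S := B)
  have hfib : LocCoh.IsCohenMacaulayLocalRing (EGA4.FibRing A B) := by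
    apply isCM_of_isField
    have : EGA4.mB A B = maximalIdeal B := hm
    change IsField (B ⧸ EGA4.mB A B)
    rw [this]
    exact (Ideal.Quotient.maximal_ideal_iff_isField_quotient _).mp (maximalIdeal.isMaximal B)
  rw [Groth.Agent.Ega4C.FlatLocal.isCM_iff A B]
  exact ⟨fun h => ⟨h, hfib⟩, fun h => h.1⟩

end Groth.Agent.S18581
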