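import Groth.Statements.S18582
import Groth.Agent.BranchVar.K960.BrPoint

set_option autoImplicit false
universe u
open BranchVar

namespace Groth.Agent.S18582

open CategoryTheory CategoryTheory.Limits AlgebraicGeometry in
/-- Let k be an algebraically closed field of characteristic zero, C a smooth proper integral curve over
k, N a natural number, and f : X ⟶ P^N_k ×_k C a finite morphism such that the composite X ⟶ C is
flat and every fibre of X ⟶ C (over every point of C) is a reduced scheme all of whose irreducible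
components have dimension N. Then there is a k-rational point p of P^N_k such that, writing s : C ⟶
P^N_k ×_k C for the section c ↦ (p, c), the preimage Y = X ×_{P^N_k ×_k C} C of the constant section
is finite and flat over C and Y is a reduced scheme (in particular the generic fibre of Y ⟶ C is
reduced, which is the printed conclusion; the argument proves that Y itself is reduced). Here P^N_k
×_k C is the fibre product of the structure morphisms P^N_k ⟶ Spec k and C ⟶ Spec k, and Y ⟶ C is
the second projection of the fibre product of f and s. -/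
theorem result (k : Type u) [Field k] [IsAlgClosed k] [CharZero k]
    (N : ℕ) (C : Scheme.{u}) (g : C ⟶ Spec (CommRingCat.of k)) (hC : Curve.IsSmoothProperCurve k C g)
    (X : Scheme.{u}) (f : X ⟶ pullback (CohB1.ProjSpace.toSpec N k) g) [IsFinite f]
    [Flat (f ≫ pullback.snd (CohB1.ProjSpace.toSpec N k) g)]
    (hred : ∀ c : C, AlgebraicGeometry.IsReduced ((f ≫ pullback.snd (CohB1.ProjSpace.toSpec N k) g).fiber c))
    (hdim : ∀ c : C, ∀ Z ∈ irreducibleComponents (↥((f ≫ pullback.snd (CohB1.ProjSpace.toSpec N k) g).fiber c) : Type u),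
      topologicalKrullDim (↥Z : Type u) = N) :
    ∃ p : Spec (CommRingCat.of k) ⟶ CohB1.ProjSpace N k,
      p ≫ CohB1.ProjSpace.toSpec N k = 𝟙 (Spec (CommRingCat.of k)) ∧
      ∀ s : C ⟶ pullback (CohB1.ProjSpace.toSpec N k) g,
        s ≫ pullback.fst (CohB1.ProjSpace.toSpec N k) g = g ≫ p →
        s ≫ pullback.snd (CohB1.ProjSpace.toSpec N k) g = 𝟙 C →
        IsFinite (pullback.snd f s) ∧ Flat (pullback.snd f s) ∧
          AlgebraicGeometry.IsReduced (pullback f s) := by
  have hP : Smooth (CohB1.ProjSpace.toSpec N k) := SmoothOfRelativeDimension.smooth N _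
  have hCi : IsIntegral C := hC.2.2.1
  have hCs : Smooth g := hC.2.1
  have hCp : IsProper g := hC.1
  have hCN : IsLocallyNoetherian C := LocallyOfFiniteType.isLocallyNoetherian g
  have hZi := K960.BrSlice.isIntegral_prod (CohB1.ProjSpace.toSpec N k) g hC
  let _ : C.Over (Spec (CommRingCat.of k)) := ⟨g⟩
  let _ : (pullback (CohB1.ProjSpace.toSpec N k) g).Over (Spec (CommRingCat.of k)) := ⟨pullback.snd _ _ ≫ g⟩
  let _ : X.Over (Spec (CommRingCat.of k)) := ⟨(f ≫ pullback.snd _ _) ≫ g⟩
  have i1 : LocallyOfFiniteType (C ↘ Spec (CommRingCat.of k)) := inferInstanceAs (LocallyOfFiniteType g)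
  have i2 : LocallyOfFiniteType ((pullback (CohB1.ProjSpace.toSpec N k) g) ↘ Spec (CommRingCat.of k)) :=
    inferInstanceAs (LocallyOfFiniteType (pullback.snd (CohB1.ProjSpace.toSpec N k) g ≫ g))
  have i3 : LocallyOfFiniteType (X ↘ Spec (CommRingCat.of k)) :=
    inferInstanceAs (LocallyOfFiniteType ((f ≫ pullback.snd (CohB1.ProjSpace.toSpec N k) g) ≫ g))
  have hXN : IsLocallyNoetherian X :=
    LocallyOfFiniteType.isLocallyNoetherian ((f ≫ pullback.snd (CohB1.ProjSpace.toSpec N k) g) ≫ g)
  have hXred : AlgebraicGeometry.IsReduced X :=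
    Groth.Agent.S2511.result (f ≫ pullback.snd (CohB1.ProjSpace.toSpec N k) g) (fun _ => inferInstance) hred
  have hdC : topologicalKrullDim C = 1 := hC.2.2.2
  obtain ⟨V, hV, hV'⟩ := K960.BrSlice.exists_open_slice (CohB1.ProjSpace.toSpec N k) g hC f (fun ξ hξ _ => by
    have h1 := K960.BrDim.trd_eq_add_of_isMax k (f ≫ pullback.snd _ _) rfl N hdim ξ hξ
    have h2 := K960.BrDim.trd_eq_of_isIntegralHom k f ξ
    apply K960.BrDim.eq_genericPoint_of_trd_le k
    rw [← h2, h1]
    have h3 := Groth.Agent.VarietyB.DimSch.topologicalKrullDim_eq_trd k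
      (X := (pullback (CohB1.ProjSpace.toSpec N k) g : Scheme.{u}))
    have h4 := Groth.Agent.VarietyB.DimSch.topologicalKrullDim_eq_trd k (X := C)
    have h5 : topologicalKrullDim (pullback (CohB1.ProjSpace.toSpec N k) g : Scheme.{u}) ≤
        (N : WithBot ℕ∞) + topologicalKrullDim C := by
      rw [K106.Dim.topologicalKrullDim_pullback_eq_add (CohB1.ProjSpace.toSpec N k) g]
      gcongr
      exact Groth.Agent.CohqA.ProjDim.topologicalKrullDim_le k N
    rw [h3, h4] at h5
    rw [add_comm]
    exact_mod_cast h5)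
  obtain ⟨p, hp, hpV⟩ := K960.BrPoint.exists_point (CohB1.ProjSpace.toSpec N k) V ⟨_, hV⟩
  refine ⟨p, hp, fun s hs1 hs2 => ?_⟩
  obtain ⟨h1, h2⟩ := hV' p hp hpV s hs1 hs2
  exact ⟨inferInstance, h1, h2⟩

end Groth.Agent.S18582
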