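import Groth.Statements.S18584
import Groth.Agent.BranchVar.K960.BrIter

set_option autoImplicit false
universe u
open BranchVar

namespace Groth.Agent.S18584

open CategoryTheory CategoryTheory.Limits AlgebraicGeometry in
/-- Let k be an algebraically closed field of characteristic zero, C a smooth proper integral curve over
k, n < N natural numbers, and f : X ⟶ P^N_k ×_k C a finite morphism such that X ⟶ C is flat and
every fibre of X ⟶ C (over every point of C) is a reduced scheme all of whose irreducible components
have dimension n. Then there are n sections s_1, …, s_n of O(1) on P^N_k, cutting out a linear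
subspace L (the closed subscheme defined by the sum of their zero ideal sheaves), such that the
preimage Y = X ×_{P^N_k} L of L ×_k C under f is finite and flat over C and Y is reduced (so the
generic fibre of Y ⟶ C is reduced, which is the printed conclusion together with finiteness and
flatness; the printed statement takes L to be a linear subspace of codimension exactly n, and the
argument proves Y reduced). Here P^N_k ×_k C is the fibre product of the structure morphisms to Spec
k, and Y ⟶ C is the composite of the first projection Y ⟶ X with X ⟶ C. -/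
theorem result (k : Type u) [Field k] [IsAlgClosed k] [CharZero k]
    (n N : ℕ) (hnN : n < N) (C : Scheme.{u}) (g : C ⟶ Spec (CommRingCat.of k)) (hC : Curve.IsSmoothProperCurve k C g)
    (X : Scheme.{u}) (f : X ⟶ pullback (CohB1.ProjSpace.toSpec N k) g) [IsFinite f]
    [Flat (f ≫ pullback.snd (CohB1.ProjSpace.toSpec N k) g)]
    (hred : ∀ c : C, AlgebraicGeometry.IsReduced ((f ≫ pullback.snd (CohB1.ProjSpace.toSpec N k) g).fiber c))
    (hdim : ∀ c : C, ∀ Z ∈ irreducibleComponents (↥((f ≫ pullback.snd (CohB1.ProjSpace.toSpec N k) g).fiber c) : Type u),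
      topologicalKrullDim (↥Z : Type u) = (n : WithBot ℕ∞)) :
    ∃ s : Fin n → (Coh.structureModule (CohB1.ProjSpace N k) ⟶ Twist.twistProjSpace N k 1),
      IsFinite (pullback.fst (f ≫ pullback.fst (CohB1.ProjSpace.toSpec N k) g)
          (⨆ i : Fin n, PicF2.zeroScheme (Twist.twistProjSpace N k 1) (s i)).subschemeι ≫ f ≫ pullback.snd (CohB1.ProjSpace.toSpec N k) g) ∧
      Flat (pullback.fst (f ≫ pullback.fst (CohB1.ProjSpace.toSpec N k) g)
          (⨆ i : Fin n, PicF2.zeroScheme (Twist.twistProjSpace N k 1) (s i)).subschemeι ≫ f ≫ pullback.snd (CohB1.ProjSpace.toSpec N k) g) ∧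
      AlgebraicGeometry.IsReduced
        (pullback (f ≫ pullback.fst (CohB1.ProjSpace.toSpec N k) g) (⨆ i : Fin n, PicF2.zeroScheme (Twist.twistProjSpace N k 1) (s i)).subschemeι) := by
  have hgood := K960.BrIter.good_of_fibres hC f n hred hdim
  obtain ⟨s, hs⟩ := K960.BrIter.iterate hC n f hgood
  have h1 := K960.BrIter.isFinite_of_good hC _ hs
  have h2 := hs.flat
  rw [Category.assoc] at h1 h2
  exact ⟨s, h1, h2, hs.isReduced⟩

end Groth.Agent.S18584
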