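import Groth.Statements.S18585
import Groth.Agent.BranchVar.K960.TrPair
import Groth.Agent.BranchVar.K960.TrRed
import Groth.Agent.VBCurve.K708.DualDeg

set_option autoImplicit false
universe u
open BranchVar

namespace Groth.Agent.S18585

open CategoryTheory CategoryTheory.Limits AlgebraicGeometry in
/-- Let k be a characteristic-zero algebraically closed field, C a smooth proper integral curve over k,
and g : Y ⟶ C a finite flat morphism with g_*O_Y locally free of rank d whose generic fibre (the
fibre over the generic point of C) is reduced. Then the degree of the rank-d locally free module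
g_*O_Y on C, computed as χ(C, g_*O_Y) − d·χ(C, O_C), is at most 0. (The published inequality is
stated for the degree of the determinant line bundle, deg det(g_*O_Y)^{-1} ≥ 0; the degree of a
locally free module on such a curve equals the degree of its determinant.) -/
theorem result (k : Type u) [Field k] [IsAlgClosed k] [CharZero k]
    (C : Scheme.{u}) [C.Over (Spec (CommRingCat.of k))] [IsIntegral C]
    (hC : Curve.IsSmoothProperCurve k C (C ↘ Spec (CommRingCat.of k)))
    (Y : Scheme.{u}) (g : Y ⟶ C) [IsFinite g] [Flat g] (d : ℕ)
    (hd : FlatMod.IsFinLocFreeOfRank d ((Coh.push g).obj (Coh.structureModule Y)))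
    (hred : AlgebraicGeometry.IsReduced (g.fiber (genericPoint C))) :
    Curv2.deg k C ((Coh.push g).obj (Coh.structureModule Y)) d ≤ 0 := by
  obtain ⟨hp, hsm, -, hdim⟩ := hC
  let A := RelSpec.QCAlg.directImage g
  have hd' : FlatMod.IsFinLocFreeOfRank d A.toModule := hd
  have hA : FlatMod.IsFinLocFree A.toModule := K707.Base.isFinLocFree_of_rank hd'
  have hchar : ∀ V : C.Opens, (V : Set C).Nonempty → CharZero Γ(C, V) := by
    intro V hV
    have : Nonempty V := hV.to_subtype
    have : Nontrivial Γ(C, V) := inferInstance
    exact charZero_of_injective_ringHom (RingHom.injective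
      ((Scheme.ΓSpecIso (CommRingCat.of k)).inv ≫
        (C ↘ Spec (CommRingCat.of k)).appLE ⊤ V (by simp)).hom)
  have hmono : Mono (K960.TrPair.phi hA) := K960.TrPair.mono_phi hA hchar
    (fun V hV => K960.TrRed.isReduced_sections g hred hV)
  have Cr : K707.Base.Crv k C := K707.Base.Crv.of_smooth hdim
  have h1 := K707.Semi.dg_le_of_mono Cr (K960.TrPair.phi hA) (K707.Slope.coh_of_vb hA)
    (K707.Slope.coh_of_vb (Groth.Agent.Krr.H492.DualK.isFinLocFree_dl hA)) (K708.DualDeg.rk_dl Cr hA).le
  have h2 : K707.Deg.dg k (Groth.Agent.CohqB.HomSheaf.homSheaf A.toModule (Coh.structureModule C)) =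
    - K707.Deg.dg k A.toModule := K708.DualDeg.dg_dl Cr hA
  have h3 := K707.Deg.dg_of_rank k hd'
  rw [h2, h3] at h1
  have h4 : Curv2.deg k C A.toModule d ≤ 0 := by linarith
  exact h4

end Groth.Agent.S18585
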