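import Groth.Statements.S18586
import Groth.Agent.BranchVar.K105.ConstNorm
import Groth.Agent.Sga5.ProjSmooth
import Groth.Agent.AbSch.K451.ProjFib

set_option autoImplicit false
universe u
open BranchVar

namespace Groth.Agent.S18586

open CategoryTheory CategoryTheory.Limits AlgebraicGeometry in
/-- Let k be an algebraically closed field of characteristic zero, B a smooth proper connected k-scheme,
n a natural number and f : X ⟶ P^n_k ×_k B a finite morphism with X ⟶ B flat and every fibre of X ⟶
B reduced with all irreducible components of dimension n (a B-family of n-dimensional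
branchvarieties of P^n). Suppose there are a closed subset H ≠ P^n_k of P^n_k and an open U of P^n_k
×_k B over which f is étale, such that every point of P^n_k ×_k B lying neither in U nor over H has
local ring of Krull dimension at least 2. Then there are a finite étale surjective β : B' ⟶ B, a
normal scheme Y with a finite morphism q : Y ⟶ P^n_k, and a finite morphism ν : Y ×_k B' ⟶ X ×_B B',
compatible with the projections to P^n_k and to B', which restricts to an isomorphism over a dense
open subscheme of X ×_B B' with dense preimage; that is, Y ×_k B' with ν is the normalization of the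
base-changed family and this normalization is constant. (The published hypothesis is instead that
the pullback to B of twice the line bundle b_n is trivial, from which the proof derives that f is
étale off (H ×_k B) ∪ Z for a divisor H and a closed Z of codimension at least 2, the only
consequence it uses; the published statement also omits the connectedness of B, to which its proof
reduces at once and without which two non-isomorphic families over the two points of Spec k ⊔ Spec k
give a counterexample.) -/
theorem result (k : Type u) [Field k]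
    [IsAlgClosed k] [CharZero k] (n : ℕ)
    (B : Scheme.{u}) (b : B ⟶ Spec (CommRingCat.of k)) [IsProper b] [Smooth b] [ConnectedSpace ↥B]
    (X : Scheme.{u}) (f : X ⟶ pullback (CohB1.ProjSpace.toSpec n k) b) [IsFinite f] [Flat (f ≫ pullback.snd (CohB1.ProjSpace.toSpec n k) b)]
    (hred : ∀ c : B, AlgebraicGeometry.IsReduced ((f ≫ pullback.snd (CohB1.ProjSpace.toSpec n k) b).fiber c))
    (hdim : ∀ c : B, ∀ Z ∈ irreducibleComponents (↥((f ≫ pullback.snd (CohB1.ProjSpace.toSpec n k) b).fiber c) : Type u),
      topologicalKrullDim (↥Z : Type u) = (n : WithBot ℕ∞))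
    (H : Set ↥(CohB1.ProjSpace n k)) (hH : IsClosed H) (hHne : H ≠ Set.univ)
    (U : (pullback (CohB1.ProjSpace.toSpec n k) b).Opens) [Etale (f ∣_ U)]
    (hU : ∀ z : ↥(pullback (CohB1.ProjSpace.toSpec n k) b), z ∉ U → (pullback.fst (CohB1.ProjSpace.toSpec n k) b).base z ∉ H →
      (2 : WithBot ℕ∞) ≤ ringKrullDim ((pullback (CohB1.ProjSpace.toSpec n k) b).presheaf.stalk z)) :
    ∃ (B' : Scheme.{u}) (β : B' ⟶ B) (_ : IsFinite β) (_ : Etale β) (_ : Surjective β)
      (Y : Scheme.{u}) (q : Y ⟶ CohB1.ProjSpace n k) (_ : IsFinite q) (_ : Pi1.IsNormalScheme Y)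
      (ν : pullback (q ≫ CohB1.ProjSpace.toSpec n k) (β ≫ b) ⟶ pullback (f ≫ pullback.snd (CohB1.ProjSpace.toSpec n k) b) β),
      IsFinite ν ∧
      ν ≫ pullback.fst (f ≫ pullback.snd (CohB1.ProjSpace.toSpec n k) b) β ≫ f ≫ pullback.fst (CohB1.ProjSpace.toSpec n k) b =
        pullback.fst (q ≫ CohB1.ProjSpace.toSpec n k) (β ≫ b) ≫ q ∧
      ν ≫ pullback.snd (f ≫ pullback.snd (CohB1.ProjSpace.toSpec n k) b) β = pullback.snd (q ≫ CohB1.ProjSpace.toSpec n k) (β ≫ b) ∧
      ∃ V : (pullback (f ≫ pullback.snd (CohB1.ProjSpace.toSpec n k) b) β).Opens,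
        Dense (V : Set ↥(pullback (f ≫ pullback.snd (CohB1.ProjSpace.toSpec n k) b) β)) ∧
        Dense ((ν ⁻¹ᵁ V : (pullback (q ≫ CohB1.ProjSpace.toSpec n k) (β ≫ b)).Opens) :
          Set ↥(pullback (q ≫ CohB1.ProjSpace.toSpec n k) (β ≫ b))) ∧
        IsIso (ν ∣_ V) := by
  have h1 : SmoothOfRelativeDimension n (CohB1.ProjSpace.toSpec n k) :=
    Groth.Agent.Sga5.ProjSmooth.smooth_toSpec n k
  have h2 : GeometricallyIntegral (CohB1.ProjSpace.toSpec n k) := inferInstance
  have h3 : QuasiCompact (CohB1.ProjSpace.toSpec n k) := inferInstance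
  refine K105.ConstNorm.main n (CohB1.ProjSpace.toSpec n k) b f hdim ⟨Hᶜ, hH.isOpen_compl⟩
    (Set.nonempty_compl.2 hHne) U fun z hz hz' => hU z hz hz'

end Groth.Agent.S18586
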