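import Groth.Statements.S18590
import Groth.Agent.CAlg.K93.WittHom

set_option autoImplicit false
universe u
open CAlg

namespace Groth.Agent.S18590

/-- The family `M` with its degree zero part replaced by the image of `A`. -/
def fam {A K : Type u} [CommRing A] [CommRing K] [Algebra A K]
    (M : ℕ → Submodule A K) (k : ℕ) : Submodule A K :=
  if k = 0 then LinearMap.range (Algebra.linearMap A K) else M k

lemma fam_mul {A K : Type u} [CommRing A] [CommRing K] [Algebra A K]
    (M : ℕ → Submodule A K)
    (hmul : ∀ (i j : ℕ) (a b : K), a ∈ M i → b ∈ M j → a * b ∈ M (i + j)) 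
    (i j : ℕ) (a b : K) (ha : a ∈ fam M i) (hb : b ∈ fam M j) : a * b ∈ fam M (i + j) := by
  unfold fam at *
  by_cases hi : i = 0
  · subst hi
    rw [if_pos rfl] at ha
    obtain ⟨r, rfl⟩ := ha
    rw [Algebra.linearMap_apply, ← Algebra.smul_def, zero_add]
    exact Submodule.smul_mem _ _ hb
  · by_cases hj : j = 0
    · subst hj
      rw [if_pos rfl] at hb
      obtain ⟨r, rfl⟩ := hb
      rw [mul_comm, Algebra.linearMap_apply, ← Algebra.smul_def, add_zero]
      exact Submodule.smul_mem _ _ ha
    · rw [if_neg hi] at ha
      rw [if_neg hj] at hb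
      rw [if_neg (by omega)]
      exact hmul _ _ _ _ ha hb

lemma fam_one {A K : Type u} [CommRing A] [CommRing K] [Algebra A K]
    (M : ℕ → Submodule A K) : (1 : K) ∈ fam M 0 := by
  unfold fam
  rw [if_pos rfl]
  exact ⟨1, by simp⟩

lemma fam_pow {A K : Type u} [CommRing A] [CommRing K] [Algebra A K]
    (M : ℕ → Submodule A K) (p : ℕ) [hp : Fact p.Prime] (n : ℕ) : fam M (p ^ n) = M (p ^ n) := by
  unfold fam
  rw [if_neg (pow_ne_zero _ hp.1.ne_zero)]

/-- Let p be a prime, A a commutative ring, K a commutative A-algebra of characteristic p and M_0, M_1,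
M_2, … A-submodules of K with M_i · M_j ⊆ M_(i+j) for all i, j. Then the subset of the ring W(K) of
p-typical Witt vectors consisting of the vectors whose n-th coordinate lies in M_(p^n) for every n
is closed under addition and under multiplication by the image of W(A) under W of the structure map;
in other words it is a W(A)-submodule of W(K). (The published statement is the case of an integral
normal noetherian scheme X of characteristic p with function field K, an affine open subset U with
coordinate ring A, and M_k the module of sections over U of the divisorial sheaf of k·D for a real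
Weil divisor D on X; these form such a multiplicative family, and the subset is then the module of
sections over U of the Witt divisorial sheaf of D inside W(K). Only the two stated properties of
that family enter.) -/
theorem result
    (p : ℕ) [Fact p.Prime] (A K : Type u) [CommRing A] [CommRing K] [Algebra A K] [CharP K p]
    (M : ℕ → Submodule A K)
    (hmul : ∀ (i j : ℕ) (a b : K), a ∈ M i → b ∈ M j → a * b ∈ M (i + j)) :
    (∀ φ ψ : WittVector p K, (∀ n : ℕ, φ.coeff n ∈ M (p ^ n)) → (∀ n : ℕ, ψ.coeff n ∈ M (p ^ n)) →
        ∀ n : ℕ, (φ + ψ).coeff n ∈ M (p ^ n)) ∧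
      (∀ (x : WittVector p A) (φ : WittVector p K), (∀ n : ℕ, φ.coeff n ∈ M (p ^ n)) →
        ∀ n : ℕ, (WittVector.map (algebraMap A K) x * φ).coeff n ∈ M (p ^ n)) := by
  constructor
  · intro φ ψ hφ hψ n
    rw [WittVector.add_coeff, ← fam_pow M p n]
    refine K93.WittHom.aeval_mem_of_hom (fam M) (fam_one M) (fam_mul M hmul)
      (fun i : Fin 2 × ℕ => p ^ i.2) _ ?_ _ _ (K93.WittHom.wittAdd_hom p n)
    rintro ⟨i, j⟩
    rw [fam_pow]
    fin_cases i
    · exact hφ j
    · exact hψ j
  · intro x φ hφ n
    rw [WittVector.mul_coeff, ← fam_pow M p n]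
    refine K93.WittHom.aeval_mem_of_hom (fam M) (fam_one M) (fam_mul M hmul)
      (fun i : Fin 2 × ℕ => if i.1 = 0 then 0 else p ^ i.2) _ ?_ _ _ (K93.WittHom.wittMul_hom p n)
    rintro ⟨i, j⟩
    fin_cases i
    · change _ ∈ fam M 0
      unfold fam
      rw [if_pos rfl]
      exact ⟨x.coeff j, rfl⟩
    · change _ ∈ fam M (p ^ j)
      rw [fam_pow]
      exact hφ j

end Groth.Agent.S18590
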