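import Groth.Statements.S18597
import Groth.Agent.EtRam.K585.GalCover

set_option autoImplicit false
universe u
open EtRam

namespace Groth.Agent.S18597

open AlgebraicGeometry CategoryTheory in
/-- Let k be a perfect field and X a k-scheme. A finite étale cover of X by a torsor under a finite
group of order prime to the characteristic of k is curve-tame, i.e. tamely ramified at every place
at infinity of every regular k-curve mapping to X. Stated here unfolded at a single place and for a
connected Galois cover Z ⟶ X (the X-automorphisms of Z act transitively on geometric fibres) whose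
automorphism group has order invertible in k: for every point z of Z with image x and every discrete
valuation ring A of the residue field κ(x) through which Spec κ(x) ⟶ Spec k factors (so A contains k
and has the residue characteristic of k), the finite separable extension κ(z) of κ(x) is tamely
ramified with respect to A. Without the factorisation through Spec A the claim fails already for X =
Spec ℚ, Z = Spec ℚ(√2) and A = ℤ localised at 2. (The published statement is for torsors under a
finite abelian group of order prime to the characteristic; a connected component of such a torsor is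
a Galois cover of this kind.) -/
theorem result
    (k : Type u) [Field k] [PerfectField k] {X : Scheme.{u}} (s : X ⟶ Spec (CommRingCat.of k))
    (Z : FEt.Cat X) (hZ : PiSp.IsGaloisCover Z) (hn : (Nat.card (Aut Z) : k) ≠ 0) (z : Z.left)
    (A : ValuationSubring (X.residueField (Z.hom.base z))) [IsDiscreteValuationRing A]
    (a : Spec (CommRingCat.of A) ⟶ Spec (CommRingCat.of k))
    (ha : Spec.map (CommRingCat.ofHom A.subtype) ≫ a = X.fromSpecResidueField (Z.hom.base z) ≫ s) :
    EtRam.IsTamelyRamified A ((Z.hom.residueFieldMap z).hom.comp A.subtype) := by
  have h1 : IsFinite Z.hom := Z.prop.1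
  have h2 : Etale Z.hom := Z.prop.2
  refine K585.RamGalCover.isTamelyRamified_of_trans (X := X) (Z := Z.left) (G := Aut Z) Z.hom z (fun σ => σ.hom.left) rfl
    (fun σ τ => rfl) (fun σ => MorphismProperty.Over.w σ.hom) ?_ A ?_
  · intro Ω _ _ s' t hst
    obtain ⟨σ, hσ⟩ := hZ.2 Ω (s' ≫ Z.hom) ⟨s', rfl⟩ ⟨t, hst.symm⟩
    exact ⟨σ, congrArg Subtype.val hσ⟩
  · intro p hp hc
    refine ((Nat.Prime.coprime_iff_not_dvd hp).mpr fun hdvd => hn ?_).symm
    let φ : k →+* A := (Spec.preimage a).hom
    let ψ : k →+* IsLocalRing.ResidueField A := (IsLocalRing.residue A).comp φ
    apply ψ.injective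
    rw [map_natCast, map_zero]
    exact (CharP.cast_eq_zero_iff (IsLocalRing.ResidueField A) p _).mpr hdvd

end Groth.Agent.S18597
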