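import Groth.Statements.S18598
import Groth.Agent.SSRed.K928.RootSq
-- import your own Groth.Agent.* helpers here

set_option autoImplicit false
universe u
open SSRed

namespace Groth.Agent.S18598

/-- Let O be a commutative integral domain of characteristic zero, n a positive integer such that no
prime number dividing n is a unit in O, and α an element of O of finite multiplicative order such
that (α − 1)² is divisible by n in O. Then α = 1 if n ≥ 5, α² = 1 if n = 4, α³ = 1 if n = 3, and α⁴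
= 1 if n = 2. -/
theorem result (O : Type u) [CommRing O] [IsDomain O] [CharZero O]
    (n : ℕ) (hn : 0 < n) (hO : ∀ p : ℕ, p.Prime → p ∣ n → ¬ IsUnit (p : O))
    (α : O) (hα : IsOfFinOrder α) (h : (n : O) ∣ (α - 1) ^ 2) :
    (5 ≤ n → α = 1) ∧ (n = 4 → α ^ 2 = 1) ∧ (n = 3 → α ^ 3 = 1) ∧ (n = 2 → α ^ 4 = 1) := by
  refine ⟨fun h5 => ?_, fun h4 => ?_, fun h3 => ?_, fun h2 => ?_⟩
  · rcases K928.RootSq.main n (by omega) hO α hα h with h1 | ⟨h1, -⟩ | ⟨h1, -⟩ | ⟨h1, -⟩
    · exact h1
    all_goals omega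
  · rcases K928.RootSq.main n (by omega) hO α hα h with h1 | ⟨h1, h'⟩ | ⟨h1, -⟩ | ⟨h1, -⟩
    · rw [h1, one_pow]
    · exact h'
    all_goals omega
  · rcases K928.RootSq.main n (by omega) hO α hα h with h1 | ⟨h1, h'⟩ | ⟨h1, h'⟩ | ⟨h1, -⟩
    · rw [h1, one_pow]
    · omega
    · exact h'
    · omega
  · rcases K928.RootSq.main n (by omega) hO α hα h with h1 | ⟨h1, h'⟩ | ⟨h1, h'⟩ | ⟨h1, h'⟩
    · rw [h1, one_pow]
    · omega
    · omega
    · exact h'

end Groth.Agent.S18598
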