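import Groth.Statements.S18601
import Groth.Agent.SGA7.K566.InertiaFive
import Groth.Agent.S4049
import Groth.Agent.S4050
import Groth.Agent.S4073

set_option autoImplicit false
universe u
open CategoryTheory CategoryTheory.Limits AlgebraicGeometry MonObj
open SGA7

namespace Groth.Agent.S18601

/-- Let R be a discrete valuation ring with fraction field K and residue field k, Ω a separable closure
of K, W a valuation subring of Ω lying over R, and A an abelian variety over K (a proper,
geometrically integral K-group scheme). Let n ≥ 5 be an integer invertible in k such that for every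
σ in the inertia group at W the operator (σ − 1)² kills every n-torsion Ω-point of A. Then A has
semistable reduction over R. (The published statement assumes instead a polarization of A and a
maximal isotropic subgroup of the n-torsion for the induced pairing, both defined over an extension
of K unramified at W; its proof first derives the displayed condition on inertia from these data and
then uses only that condition.) -/
theorem result (R K Ω : Type u) [CommRing R] [IsDomain R]
    [IsDiscreteValuationRing R] [Field K] [Algebra R K] [IsFractionRing R K] [Field Ω] [Algebra K Ω] [IsSepClosure K Ω]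
    (W : ValuationSubring Ω) (hW : SGA7.LiesOver K R W)
    (n : ℕ) (hn : 5 ≤ n) (hnp : (n : IsLocalRing.ResidueField R) ≠ 0)
    (A : Over (Spec (CommRingCat.of K))) [GrpObj A] [IsProper A.hom] [GeometricallyIntegral A.hom]
    (h : ∀ σ : Ω ≃ₐ[K] Ω, SGA7.IsInertia W σ → ∀ x : SGA7.Pts Ω A, x ^ n = 1 → SGA7.dev σ (SGA7.dev σ x) = 1) :
    SGA7.HasSemistableReduction R K A := by
  obtain ⟨l, hl, hlp, hu⟩ := K566.InertiaFive.exists_unip R (IsFractionRing.injective R K) W A hn hnp h
    (fun ℓ hℓ hℓp => Groth.Agent.S4050.result R K Ω W hW ℓ hℓ hℓp A)
    (fun ℓ ℓ' hℓ hℓ' hℓp hℓ'p σ hσ =>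
      (Groth.Agent.S4073.result R K Ω W hW ℓ ℓ' hℓ hℓ' hℓp hℓ'p A σ hσ).1)
  exact (Groth.Agent.S4049.result R K Ω W hW l hl hlp A).2 hu

end Groth.Agent.S18601
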