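import Groth.Statements.S18602
import Groth.Agent.SGA7.K566.PtsUnip
import Groth.Agent.SGA7.K566.PrimeAux
import Groth.Agent.S4050

set_option autoImplicit false
universe u
open CategoryTheory CategoryTheory.Limits AlgebraicGeometry MonObj
open SGA7

namespace Groth.Agent.S18602

/-- Let R be a discrete valuation ring with fraction field K and residue field k, Ω a separable closure
of K, W a valuation subring of Ω lying over R, and A an abelian variety over K (a proper,
geometrically integral K-group scheme). Let n be 2, 3 or 4, invertible in k, such that for every σ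
in the inertia group at W the operator (σ − 1)² kills every n-torsion Ω-point of A, and let ℓ be a
prime dividing n. Then for every σ in the inertia group at W every eigenvalue α of σ on the ℓ-adic
Tate module satisfies α² = 1 if n = 4, α³ = 1 if n = 3 and α⁴ = 1 if n = 2; that is, σ², σ³, resp.
σ⁴ acts unipotently: some power of (σ^j − 1), independent of the level, kills every ℓ-power torsion
Ω-point of A. (The published statement assumes a polarization and a maximal isotropic subgroup of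
the n-torsion defined over an unramified extension, from which its proof first derives the displayed
condition on inertia; the auxiliary finite extension over which A acquires semistable reduction,
assumed there, always exists.) -/
theorem result (R K Ω : Type u) [CommRing R] [IsDomain R]
    [IsDiscreteValuationRing R] [Field K] [Algebra R K] [IsFractionRing R K] [Field Ω] [Algebra K Ω] [IsSepClosure K Ω]
    (W : ValuationSubring Ω) (hW : SGA7.LiesOver K R W)
    (n : ℕ) (hnp : (n : IsLocalRing.ResidueField R) ≠ 0)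
    (A : Over (Spec (CommRingCat.of K))) [GrpObj A] [IsProper A.hom] [GeometricallyIntegral A.hom]
    (h : ∀ σ : Ω ≃ₐ[K] Ω, SGA7.IsInertia W σ → ∀ x : SGA7.Pts Ω A, x ^ n = 1 → SGA7.dev σ (SGA7.dev σ x) = 1)
    (ℓ : ℕ) (hℓ : ℓ.Prime) (hℓn : ℓ ∣ n) (σ : Ω ≃ₐ[K] Ω) (hσ : SGA7.IsInertia W σ) :
    (n = 4 → ∃ m : ℕ, ∀ (ν : ℕ) (x : SGA7.Pts Ω A), x ^ (ℓ ^ ν) = 1 → (SGA7.dev (σ ^ 2))^[m] x = 1) ∧
    (n = 3 → ∃ m : ℕ, ∀ (ν : ℕ) (x : SGA7.Pts Ω A), x ^ (ℓ ^ ν) = 1 → (SGA7.dev (σ ^ 3))^[m] x = 1) ∧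
    (n = 2 → ∃ m : ℕ, ∀ (ν : ℕ) (x : SGA7.Pts Ω A), x ^ (ℓ ^ ν) = 1 → (SGA7.dev (σ ^ 4))^[m] x = 1) := by
  have hℓp := K566.PrimeAux.ne_zero_of_dvd hℓn hnp
  have hℓK : (ℓ : K) ≠ 0 :=
    K566.PrimeAux.ne_zero_of_residue R K (IsFractionRing.injective R K) hℓp
  obtain ⟨π', hπ⟩ := Groth.Agent.S4050.result R K Ω W hW ℓ hℓ hℓp A
  have hq := K566.PtsUnip.quipAt_of_open A W ℓ π' hπ σ hσ
  refine ⟨?_, ?_, ?_⟩
  · rintro rfl
    obtain rfl : ℓ = 2 := by
      have h1 : ℓ ∣ 2 ^ 2 := by simpa using hℓn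
      exact (Nat.prime_dvd_prime_iff_eq hℓ Nat.prime_two).1 (hℓ.dvd_of_dvd_pow h1)
    exact K566.PtsUnip.unipAt_four A hℓK σ hq (h σ hσ)
  · rintro rfl
    obtain rfl : ℓ = 3 := (Nat.prime_dvd_prime_iff_eq hℓ Nat.prime_three).1 hℓn
    exact K566.PtsUnip.unipAt_three A hℓK σ hq (h σ hσ)
  · rintro rfl
    obtain rfl : ℓ = 2 := (Nat.prime_dvd_prime_iff_eq hℓ Nat.prime_two).1 hℓn
    exact K566.PtsUnip.unipAt_two A hℓK σ hq (h σ hσ)

end Groth.Agent.S18602
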