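import Groth.Statements.S18603
import Groth.Agent.SGA7.K566.EllFive
import Groth.Agent.Sga7.H274.ValExt
import Groth.Agent.S4049

set_option autoImplicit false
universe u
open CategoryTheory CategoryTheory.Limits AlgebraicGeometry MonObj
open SGA7

namespace Groth.Agent.S18603

/-- Let R be a discrete valuation ring with fraction field K and residue field k, Ω a separable closure
of K, and E an elliptic curve over K (a proper, geometrically integral K-group scheme of dimension
1) having a K-rational point of exact order n, given as an Ω-point fixed by every K-automorphism of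
Ω. If n ≥ 5 and n is invertible in k, then E has semistable reduction over R; equivalently, an
elliptic curve with a rational point of order n and additive reduction at a place whose residue
characteristic does not divide n has n ≤ 4. -/
theorem result (R K Ω : Type u) [CommRing R] [IsDomain R]
    [IsDiscreteValuationRing R] [Field K] [Algebra R K] [IsFractionRing R K] [Field Ω] [Algebra K Ω] [IsSepClosure K Ω]
    (E : Over (Spec (CommRingCat.of K))) [GrpObj E] [IsProper E.hom] [GeometricallyIntegral E.hom]
    (hdim : topologicalKrullDim ↥E.left = 1)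
    (x : SGA7.Pts Ω E) (hx : ∀ σ : Ω ≃ₐ[K] Ω, SGA7.galAct σ x = x)
    (n : ℕ) (hxn : orderOf x = n) (hn : 5 ≤ n) (hnp : (n : IsLocalRing.ResidueField R) ≠ 0) :
    SGA7.HasSemistableReduction R K E := by
  obtain ⟨W, hW⟩ := Groth.Agent.Sga7.H274.ValExt.exists_liesOver K R Ω
  obtain ⟨ℓ, hℓ, hℓn⟩ := Nat.exists_prime_and_dvd (show n ≠ 1 by omega)
  have hm : ℓ ∈ n.primeFactors := Nat.mem_primeFactors.2 ⟨hℓ, hℓn, by omega⟩
  have hℓp : (ℓ : IsLocalRing.ResidueField R) ≠ 0 := fun h => hnp (by
    obtain ⟨c, rfl⟩ := hℓn
    rw [Nat.cast_mul, h, zero_mul])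
  exact (Groth.Agent.S4049.result R K Ω W hW ℓ hℓ hℓp E).2
    (Groth.Agent.SGA7.K566.EllFive.unipotent_of_point R K Ω W hW E hdim x (fun σ _ => hx σ) n hxn hn hnp ℓ hm)

end Groth.Agent.S18603
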