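import Groth.Statements.S18604
import Groth.Agent.SGA7.K566.InertiaFive
import Groth.Agent.S4050
import Groth.Agent.S4073
import Groth.Agent.S4054
import Groth.Agent.S4055

set_option autoImplicit false
universe u
open CategoryTheory CategoryTheory.Limits AlgebraicGeometry MonObj
open SGA7

namespace Groth.Agent.S18604

/-- Case n ≥ 5: let R be a discrete valuation ring with fraction field K and residue field k, Ω a
separable closure of K, W a valuation subring of Ω lying over R, and A an abelian variety over K (a
proper, geometrically integral K-group scheme). Assume that A has potential good reduction: it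
acquires good reduction over the integral closure of R in some finite separable extension of K. Let
n ≥ 5 be an integer invertible in k such that for every σ in the inertia group at W the operator (σ
− 1)² kills every n-torsion Ω-point of A. Then A has good reduction over R. (The published statement
assumes instead a polarization and a maximal isotropic subgroup of the n-torsion defined over an
unramified extension, from which its proof first derives the displayed condition on inertia; it also
treats n = 4 under an extra hypothesis, not restated here.) -/
theorem result (R K Ω : Type u) [CommRing R] [IsDomain R]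
    [IsDiscreteValuationRing R] [Field K] [Algebra R K] [IsFractionRing R K] [Field Ω] [Algebra K Ω] [IsSepClosure K Ω]
    (W : ValuationSubring Ω) (hW : SGA7.LiesOver K R W)
    (A : Over (Spec (CommRingCat.of K))) [GrpObj A] [IsProper A.hom] [GeometricallyIntegral A.hom]
    (hpot : ∃ (K' : Type u) (_ : Field K') (_ : Algebra K K') (_ : Algebra R K')
      (_ : IsScalarTower R K K') (_ : FiniteDimensional K K') (_ : Algebra.IsSeparable K K'),
      SGA7.HasGoodReduction (integralClosure R K') K'
        (Red.bc (Spec.map (CommRingCat.ofHom (algebraMap K K'))) A))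
    (n : ℕ) (hn : 5 ≤ n) (hnp : (n : IsLocalRing.ResidueField R) ≠ 0)
    (h : ∀ σ : Ω ≃ₐ[K] Ω, SGA7.IsInertia W σ → ∀ x : SGA7.Pts Ω A, x ^ n = 1 → SGA7.dev σ (SGA7.dev σ x) = 1) :
    SGA7.HasGoodReduction R K A := by
  obtain ⟨l, hl, hlp, hu⟩ := K566.InertiaFive.exists_unip R (IsFractionRing.injective R K) W A hn hnp h
    (fun ℓ hℓ hℓp => Groth.Agent.S4050.result R K Ω W hW ℓ hℓ hℓp A)
    (fun ℓ ℓ' hℓ hℓ' hℓp hℓ'p σ hσ =>
      (Groth.Agent.S4073.result R K Ω W hW ℓ ℓ' hℓ hℓ' hℓp hℓ'p A σ hσ).1)
  obtain ⟨π', hπ⟩ := (Groth.Agent.S4055.result R K Ω W hW l hl hlp A).1 hpot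
  refine Groth.Agent.S4054.result R K Ω W hW l hl hlp A fun ν => ?_
  exact K566.InertiaFive.trivial_of_unip W A hl
    (K566.PrimeAux.ne_zero_of_residue R K (IsFractionRing.injective R K) hlp) hu π' hπ ν

end Groth.Agent.S18604
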