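import Groth.Statements.S18605
import Groth.Agent.S4049
import Groth.Agent.S4050
import Groth.Agent.SGA7.K567.TotalRed

set_option autoImplicit false
universe u
open CategoryTheory CategoryTheory.Limits AlgebraicGeometry MonObj
open SGA7

namespace Groth.Agent.S18605

/-- Let R be a discrete valuation ring with fraction field K and residue field k, Ω a separable closure
of K, W a valuation subring of Ω lying over R, and A an abelian variety over K (a proper,
geometrically integral K-group scheme). Let m ≥ 1 be an integer and ℓ a prime with mℓ invertible in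
k, and assume that for every σ in the inertia group at W all eigenvalues of σ on the ℓ-adic Tate
module of A are m-th roots of unity, i.e. σ^m acts unipotently: some power of (σ^m − 1), independent
of the level, kills every ℓ-power torsion Ω-point. Let K' be a Galois extension of K of degree m
which is totally ramified over R: some maximal ideal of the integral closure R' of R in K' has
ramification index m over the maximal ideal of R. Then A ×_K K' has semistable reduction over R'. -/
theorem result (R K Ω : Type u) [CommRing R] [IsDomain R]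
    [IsDiscreteValuationRing R] [Field K] [Algebra R K] [IsFractionRing R K] [Field Ω] [Algebra K Ω] [IsSepClosure K Ω]
    (W : ValuationSubring Ω) (hW : SGA7.LiesOver K R W)
    (A : Over (Spec (CommRingCat.of K))) [GrpObj A] [IsProper A.hom] [GeometricallyIntegral A.hom]
    (m ℓ : ℕ) (hm : 0 < m) (hℓ : ℓ.Prime) (hmℓ : ((m * ℓ : ℕ) : IsLocalRing.ResidueField R) ≠ 0)
    (h : ∀ σ : Ω ≃ₐ[K] Ω, SGA7.IsInertia W σ →
      ∃ N : ℕ, ∀ (ν : ℕ) (x : SGA7.Pts Ω A), x ^ (ℓ ^ ν) = 1 → (SGA7.dev (σ ^ m))^[N] x = 1)
    (K' : Type u) [Field K'] [Algebra K K'] [Algebra R K'] [IsScalarTower R K K'] [FiniteDimensional K K']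
    [IsGalois K K'] (hdeg : Module.finrank K K' = m)
    (P : Ideal ↥(integralClosure R K')) [P.IsMaximal]
    (hP : P.ramificationIdx R = m) :
    SGA7.HasSemistableReduction ↥(integralClosure R K') K'
      (Red.bc (Spec.map (CommRingCat.ofHom (algebraMap K K'))) A) :=
  K567.TotalRed.semistable_of_pow.{u}
    (fun R K Ω _ _ _ _ _ _ _ _ _ W hW ℓ hℓ hℓp A _ _ _ h => (Groth.Agent.S4049.result R K Ω W hW ℓ hℓ hℓp A).2 h)
    (fun R K Ω _ _ _ _ _ _ _ _ _ W hW ℓ hℓ hℓp A _ _ _ => Groth.Agent.S4050.result R K Ω W hW ℓ hℓ hℓp A)
    R K Ω W hW A m ℓ hℓ hmℓ h K' hdeg P hP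

end Groth.Agent.S18605
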