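import Groth.Statements.S18606
import Groth.Agent.S4049
import Groth.Agent.S4050
import Groth.Agent.SGA7.K567.TotalRed
import Groth.Agent.SGA7.K566.PtsUnip

set_option autoImplicit false
universe u
open CategoryTheory CategoryTheory.Limits AlgebraicGeometry MonObj
open SGA7

namespace Groth.Agent.S18606

/-- Let R be a discrete valuation ring with fraction field K and residue field k, Ω a separable closure
of K, W a valuation subring of Ω lying over R, and A an abelian variety over K (a proper,
geometrically integral K-group scheme). Let n be 2, 3 or 4, invertible in k, such that for every σ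
in the inertia group at W the operator (σ − 1)² kills every n-torsion Ω-point of A, and let K' be a
Galois (necessarily cyclic) extension of K of degree r = 4, 3, resp. 2 which is totally ramified
over R: some maximal ideal of the integral closure R' of R in K' has ramification index r over the
maximal ideal of R. Then A ×_K K' has semistable reduction over R'. (The published statement assumes
a polarization and a maximal isotropic subgroup of the n-torsion defined over an unramified
extension, from which its proof first derives the displayed condition on inertia.) -/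
theorem result (R K Ω : Type u) [CommRing R]
    [IsDomain R] [IsDiscreteValuationRing R] [Field K] [Algebra R K] [IsFractionRing R K] [Field Ω] [Algebra K Ω]
    [IsSepClosure K Ω] (W : ValuationSubring Ω) (hW : SGA7.LiesOver K R W)
    (A : Over (Spec (CommRingCat.of K))) [GrpObj A] [IsProper A.hom] [GeometricallyIntegral A.hom]
    (n r : ℕ) (hnr : (n = 2 ∧ r = 4) ∨ (n = 3 ∧ r = 3) ∨ (n = 4 ∧ r = 2)) (hnp : (n : IsLocalRing.ResidueField R) ≠ 0)
    (h : ∀ σ : Ω ≃ₐ[K] Ω, SGA7.IsInertia W σ → ∀ x : SGA7.Pts Ω A, x ^ n = 1 → SGA7.dev σ (SGA7.dev σ x) = 1)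
    (K' : Type u) [Field K'] [Algebra K K'] [Algebra R K'] [IsScalarTower R K K'] [FiniteDimensional K K']
    [IsGalois K K'] (hdeg : Module.finrank K K' = r)
    (P : Ideal ↥(integralClosure R K')) [P.IsMaximal]
    (hP : P.ramificationIdx R = r) :
    SGA7.HasSemistableReduction ↥(integralClosure R K') K'
      (Red.bc (Spec.map (CommRingCat.ofHom (algebraMap K K'))) A) := by
  have hcast : ∀ (a b : ℕ), (n : IsLocalRing.ResidueField R) ≠ 0 → n ∣ a → a ∣ n ^ b →
      (a : IsLocalRing.ResidueField R) ≠ 0 := by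
    intro a b h0 _ hab ha
    obtain ⟨c, hc⟩ := hab
    apply pow_ne_zero b h0
    rw [← Nat.cast_pow, hc, Nat.cast_mul, ha, MulZeroClass.zero_mul]
  have hK : ∀ l : ℕ, (l : IsLocalRing.ResidueField R) ≠ 0 → (l : K) ≠ 0 := by
    intro l hl h0
    apply hl
    have h1 : (l : R) = 0 := by
      apply IsFractionRing.injective R K
      rw [map_natCast, h0, map_zero]
    rw [← map_natCast (IsLocalRing.residue R), h1, map_zero]
  have h49 : K567.TotalRed.SSOfUnip.{u} :=
    fun R K Ω _ _ _ _ _ _ _ _ _ W hW ℓ hℓ hℓp A _ _ _ h => (Groth.Agent.S4049.result R K Ω W hW ℓ hℓ hℓp A).2 h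
  have h50 : K567.TotalRed.OpenLevelTwo.{u} :=
    fun R K Ω _ _ _ _ _ _ _ _ _ W hW ℓ hℓ hℓp A _ _ _ => Groth.Agent.S4050.result R K Ω W hW ℓ hℓ hℓp A
  rcases hnr with ⟨rfl, rfl⟩ | ⟨rfl, rfl⟩ | ⟨rfl, rfl⟩
  · obtain ⟨U, hU⟩ := Groth.Agent.S4050.result R K Ω W hW 2 Nat.prime_two hnp A
    exact K567.TotalRed.semistable_of_pow h49 h50 R K Ω W hW A 4 2 Nat.prime_two
      (hcast _ 3 hnp (by decide) (by decide))
      (fun σ hσ => K566.PtsUnip.unipAt_two A (hK 2 hnp) σ (K566.PtsUnip.quipAt_of_open A W 2 U hU σ hσ) (h σ hσ))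
      K' hdeg P hP
  · obtain ⟨U, hU⟩ := Groth.Agent.S4050.result R K Ω W hW 3 Nat.prime_three hnp A
    exact K567.TotalRed.semistable_of_pow h49 h50 R K Ω W hW A 3 3 Nat.prime_three
      (hcast _ 2 hnp (by decide) (by decide))
      (fun σ hσ => K566.PtsUnip.unipAt_three A (hK 3 hnp) σ (K566.PtsUnip.quipAt_of_open A W 3 U hU σ hσ) (h σ hσ))
      K' hdeg P hP
  · have h2 : ((2 : ℕ) : IsLocalRing.ResidueField R) ≠ 0 := by
      intro h0
      apply hnp
      rw [show (4 : ℕ) = 2 * 2 from rfl, Nat.cast_mul, h0, MulZeroClass.zero_mul]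
    obtain ⟨U, hU⟩ := Groth.Agent.S4050.result R K Ω W hW 2 Nat.prime_two h2 A
    exact K567.TotalRed.semistable_of_pow h49 h50 R K Ω W hW A 2 2 Nat.prime_two hnp
      (fun σ hσ => K566.PtsUnip.unipAt_four A (hK 2 h2) σ (K566.PtsUnip.quipAt_of_open A W 2 U hU σ hσ) (h σ hσ))
      K' hdeg P hP

end Groth.Agent.S18606
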