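import Groth.Statements.S18607
import Groth.Agent.S4049
import Groth.Agent.S4050
import Groth.Agent.SGA7.K567.Quad

set_option autoImplicit false
universe u
open CategoryTheory CategoryTheory.Limits AlgebraicGeometry MonObj
open SGA7

namespace Groth.Agent.S18607

/-- Let R be a discrete valuation ring with fraction field K and residue field k, Ω a separable closure
of K, W a valuation subring of Ω lying over R, and A an abelian variety over K (a proper,
geometrically integral K-group scheme). Assume that 2 is invertible in k and that the inertia group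
at W fixes every 2-torsion Ω-point of A (the 2-torsion is defined over an unramified extension). Let
K' be a quadratic Galois extension of K ramified over R: some maximal ideal of the integral closure
R' of R in K' has ramification index 2 over the maximal ideal of R. Then A ×_K K' has semistable
reduction over R'. -/
theorem result (R K Ω : Type u) [CommRing R]
    [IsDomain R] [IsDiscreteValuationRing R] [Field K] [Algebra R K] [IsFractionRing R K] [Field Ω] [Algebra K Ω]
    [IsSepClosure K Ω] (W : ValuationSubring Ω) (hW : SGA7.LiesOver K R W)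
    (A : Over (Spec (CommRingCat.of K))) [GrpObj A] [IsProper A.hom] [GeometricallyIntegral A.hom]
    (h2 : (2 : IsLocalRing.ResidueField R) ≠ 0) (h : SGA7.InertiaTrivialOn W A 2)
    (K' : Type u) [Field K'] [Algebra K K'] [Algebra R K'] [IsScalarTower R K K'] [FiniteDimensional K K']
    [IsGalois K K'] (hdeg : Module.finrank K K' = 2)
    (P : Ideal ↥(integralClosure R K')) [P.IsMaximal]
    (hP : P.ramificationIdx R = 2) :
    SGA7.HasSemistableReduction ↥(integralClosure R K') K'
      (Red.bc (Spec.map (CommRingCat.ofHom (algebraMap K K'))) A) := by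
  have h2' : ((2 : ℕ) : IsLocalRing.ResidueField R) ≠ 0 := by exact_mod_cast h2
  have h2K : (2 : K) ≠ 0 := by
    intro h0
    apply h2
    have h1 : (2 : R) = 0 := by
      apply IsFractionRing.injective R K
      rw [map_ofNat, h0, map_zero]
    rw [← map_ofNat (IsLocalRing.residue R) 2, h1, map_zero]
  obtain ⟨U, hU⟩ := Groth.Agent.S4050.result R K Ω W hW 2 Nat.prime_two h2' A
  exact K567.TotalRed.semistable_of_pow.{u}
    (fun R K Ω _ _ _ _ _ _ _ _ _ W hW ℓ hℓ hℓp A _ _ _ h => (Groth.Agent.S4049.result R K Ω W hW ℓ hℓ hℓp A).2 h)
    (fun R K Ω _ _ _ _ _ _ _ _ _ W hW ℓ hℓ hℓp A _ _ _ => Groth.Agent.S4050.result R K Ω W hW ℓ hℓ hℓp A)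
    R K Ω W hW A 2 2 Nat.prime_two
    (by rw [Nat.cast_mul]; exact mul_ne_zero h2' h2')
    (fun σ hσ => ⟨2, K567.Quad.sq_unip W A h2K U hU h σ hσ⟩) K' hdeg P hP

end Groth.Agent.S18607
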