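import Groth.Statements.S18609
import Groth.Agent.SGA7.K567.SemiAb

set_option autoImplicit false
universe u
open CategoryTheory CategoryTheory.Limits MonoidalCategory CartesianMonoidalCategory AlgebraicGeometry MonObj
open SGA7

namespace Groth.Agent.S18609

/-- Let k be a field, G a smooth connected commutative k-group scheme whose geometric fibre contains no
copy of the additive group (an extension of an abelian variety by a torus), and α an automorphism of
the group scheme G. For a point x of G with values in a k-scheme write (α − 1)x = α(x)·x⁻¹. Assume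
(a) α² = 1 and (α − 1)x = 1 whenever x² = 1, or (b) α² = 1 and (α − 1)((α − 1)x) = 1 whenever x⁴ =
1, or (c) α³ = 1 and (α − 1)((α − 1)x) = 1 whenever x³ = 1. Then there is an idempotent endomorphism
p of G with p + p = 1 + α in cases (a) and (b) and p + p + p = 1 + α + α² in case (c) (sums taken
pointwise), the kernels G₁ of 1 − p and G₂ of p are closed connected subgroup schemes, and
multiplication G₁ × G₂ → G is an isomorphism. (The published statement further identifies G₁ with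
the identity component of ker(1 − α) and G₂ with that of ker(1 + α), resp. ker(1 + α + α²); over a
field of characteristic 2, resp. 3, this fails scheme-theoretically — for α = −1 on an ordinary
elliptic curve in characteristic 2 one gets G₁ trivial while ker(1 − α) = ker 2 has a non-trivial
connected part — so it is not restated.) -/
theorem result (k : Type u) [Field k]
    (G : Over (Spec (CommRingCat.of k))) [GrpObj G] [IsCommMonObj G] [Smooth G.hom] [ConnectedSpace ↥G.left]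
    (hG : SGA7.FibresUnipotentRankZero G) (u : Aut G) [IsMonHom u.hom]
    (h : (u * u = 1 ∧ ∀ (T : Over (Spec (CommRingCat.of k))) (x : T ⟶ G), x ^ 2 = 1 → x ≫ u.hom = x) ∨
      (u * u = 1 ∧ ∀ (T : Over (Spec (CommRingCat.of k))) (x : T ⟶ G), x ^ 4 = 1 →
        (((x ≫ u.hom) * x⁻¹) ≫ u.hom) * ((x ≫ u.hom) * x⁻¹)⁻¹ = 1) ∨
      (u * u * u = 1 ∧ ∀ (T : Over (Spec (CommRingCat.of k))) (x : T ⟶ G), x ^ 3 = 1 →
        (((x ≫ u.hom) * x⁻¹) ≫ u.hom) * ((x ≫ u.hom) * x⁻¹)⁻¹ = 1)) :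
    ∃ (p : G ⟶ G) (G₁ G₂ : Over (Spec (CommRingCat.of k))) (_ : GrpObj G₁) (_ : GrpObj G₂)
      (i₁ : G₁ ⟶ G) (i₂ : G₂ ⟶ G),
      IsMonHom p ∧ p ≫ p = p ∧
      (u * u = 1 → p * p = 𝟙 G * u.hom) ∧ (u * u * u = 1 → p * p * p = 𝟙 G * u.hom * (u * u).hom) ∧
      IsMonHom i₁ ∧ IsMonHom i₂ ∧ IsClosedImmersion i₁.left ∧ IsClosedImmersion i₂.left ∧
      AlgGrp.IsKernel i₁ (𝟙 G * p⁻¹) ∧ AlgGrp.IsKernel i₂ p ∧
      ConnectedSpace ↥G₁.left ∧ ConnectedSpace ↥G₂.left ∧
      IsIso ((i₁ ⊗ₘ i₂) ≫ μ[G]) := by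
  have hqc : QuasiCompact G.hom := K567.SemiAb.quasiCompact_hom G
  let a : Groth.Agent.Sga7.H758.EndRing.EndHom G := Groth.Agent.Sga7.H758.SerreOver.ofAut u
  have ha : a.hom = u.hom := rfl
  have hd : ∀ (T : Over (Spec (CommRingCat.of k))) (y : T ⟶ G), y ≫ (a - 1).hom = (y ≫ u.hom) * y⁻¹ := by
    intro T y
    rw [Groth.Agent.Sga7.H758.EndRing.EndHom.sub_hom, comp_mul, GrpObj.comp_inv,
      Groth.Agent.Sga7.H758.EndRing.EndHom.one_hom, Category.comp_id, ha]
  have hdd : ∀ (T : Over (Spec (CommRingCat.of k))) (y : T ⟶ G), y ≫ ((a - 1) * (a - 1)).hom =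
      (((y ≫ u.hom) * y⁻¹) ≫ u.hom) * ((y ≫ u.hom) * y⁻¹)⁻¹ := by
    intro T y
    rw [Groth.Agent.Sga7.H758.EndRing.EndHom.mul_hom, ← Category.assoc, hd, hd]
  have h2 : u * u = 1 ↔ a * a = 1 := by
    constructor
    · intro h
      ext1
      exact congrArg Iso.hom h
    · intro h
      apply Iso.ext
      exact congrArg Groth.Agent.Sga7.H758.EndRing.EndHom.hom h
  have h3 : u * u * u = 1 ↔ a * a * a = 1 := by
    constructor
    · intro h
      ext1
      exact congrArg Iso.hom h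
    · intro h
      apply Iso.ext
      exact congrArg Groth.Agent.Sga7.H758.EndRing.EndHom.hom h
  obtain ⟨p, hpp, hp2, hp3⟩ := K567.Idem.exists_idem (K567.SemiAb.tf G hG) (a := a) (by
    rcases h with ⟨h, h'⟩ | ⟨h, h'⟩ | ⟨h, h'⟩
    · refine Or.inl ⟨h2.1 h, K567.SemiAb.exists_div G hG (by norm_num) _ fun T x hx => ?_⟩
      rw [hd, h' T x hx, mul_inv_cancel]
    · refine Or.inr (Or.inl ⟨h2.1 h, K567.SemiAb.exists_div G hG (by norm_num) _ fun T x hx => ?_⟩)
      rw [hdd, h' T x hx]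
    · refine Or.inr (Or.inr ⟨h3.1 h, K567.SemiAb.exists_div G hG (by norm_num) _ fun T x hx => ?_⟩)
      rw [hdd, h' T x hx])
  obtain ⟨G₁, _, i₁, hi₁, hcl₁, hpb₁, -, -, -, -⟩ := Groth.Agent.Sga7.H758.AlgClosed.exists_ker (1 - p).hom
  obtain ⟨G₂, _, i₂, hi₂, hcl₂, hpb₂, -, -, -, -⟩ := Groth.Agent.Sga7.H758.AlgClosed.exists_ker p.hom
  have hm₁ : Mono i₁ := by
    have : Mono i₁.left := inferInstance
    exact Functor.mono_of_mono_map (Over.forget _) this
  have hm₂ : Mono i₂ := by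
    have : Mono i₂.left := inferInstance
    exact Functor.mono_of_mono_map (Over.forget _) this
  obtain ⟨⟨π₁, hπ₁⟩, ⟨π₂, hπ₂⟩, hiso⟩ := K567.Idem.decomp p hpp i₁ i₂ hpb₁ hpb₂
  have hconn : ∀ (F : Over (Spec (CommRingCat.of k))) (i : F ⟶ G) (π : G ⟶ F), i ≫ π = 𝟙 _ →
      ConnectedSpace ↥F.left := by
    intro F i π h
    have hs : Function.Surjective π.left := by
      intro y
      refine ⟨i.left y, ?_⟩
      have h4 : i.left ≫ π.left = 𝟙 _ := by
        rw [← Over.comp_left, h, Over.id_left]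
      rw [← Scheme.Hom.comp_apply, h4]
      rfl
    exact hs.connectedSpace π.left.continuous
  refine ⟨p.hom, G₁, G₂, inferInstance, inferInstance, i₁, i₂, inferInstance, ?_, ?_, ?_, hi₁, hi₂, hcl₁, hcl₂,
    hpb₁, hpb₂, hconn _ _ _ hπ₁, hconn _ _ _ hπ₂, hiso⟩
  · exact congrArg Groth.Agent.Sga7.H758.EndRing.EndHom.hom hpp
  · intro h
    exact congrArg Groth.Agent.Sga7.H758.EndRing.EndHom.hom (hp2 (h2.1 h))
  · intro h
    exact congrArg Groth.Agent.Sga7.H758.EndRing.EndHom.hom (hp3 (h3.1 h))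

end Groth.Agent.S18609
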