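import Groth.Statements.S18610
import Groth.Agent.Models.K382.AdmExt

set_option autoImplicit false
universe u
open CategoryTheory CategoryTheory.Limits AlgebraicGeometry Opposite
open Models

namespace Groth.Agent.S18610

/-- Let R → R′ be an injective local homomorphism of discrete valuation rings with R′ a finite R-module
and fraction field extension K → K′ (finite), K of characteristic zero, and C a proper K-scheme,
smooth of relative dimension 1 (a smooth proper curve over K, not assumed connected), with base
change C′ to K′. Call an admissible model of C over R a proper flat R-scheme with generic fibre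
identified with C which is normal, cohomologically flat in dimension 0 (global functions surject
onto those of the closed fibre) and whose local rings at closed points have rational singularities
(every normal modification has vanishing H¹ of the structure sheaf); likewise for C′ over R′.
Suppose X is an admissible model of C over R and C′ admits an admissible model over R′. Then there
are a regular admissible model Y of C over R with a proper R-morphism Y → X compatible with the
generic fibres, an admissible model Y′ of C′ over R′, and a finite R′-morphism from Y′ to the base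
change Y ×_R R′ compatible with the generic fibres; thus the normalization of Y ×_R R′ is an
admissible model of C′. (The published statement has no assumption on the characteristic of K and
asks only that K′ be finite over K. Its proof regards an admissible model of C′ over R′ as a
relative curve over R, which requires that model to be of finite type over R, that is R′ finite over
R (automatic when R is complete), and requires its generic fibre C′ to be smooth over K, that is K′
separable over K; characteristic zero gives the separability and makes R and R′ excellent.) -/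
theorem result (R : Type u) [CommRing R]
    [IsDomain R] [IsDiscreteValuationRing R] (K : Type u) [Field K] [Algebra R K] [IsFractionRing R K] [CharZero K]
    (R' : Type u) [CommRing R'] [IsDomain R'] [IsDiscreteValuationRing R'] [Algebra R R']
    (hRR' : Models.IsDVRExtension R (algebraMap R R')) [Module.Finite R R']
    (K' : Type u) [Field K'] [Algebra R' K'] [IsFractionRing R' K'] [Algebra K K'] [Algebra R K']
    [IsScalarTower R R' K'] [IsScalarTower R K K'] [FiniteDimensional K K']
    (C : Scheme.{u}) (f : C ⟶ Spec (CommRingCat.of K))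
    [SmoothOfRelativeDimension 1 f] [IsProper f]
    (C' : Scheme.{u}) (f' : C' ⟶ Spec (CommRingCat.of K')) (b : C' ⟶ C)
    (hC' : IsPullback b f' f (Spec.map (CommRingCat.ofHom (algebraMap K K'))))
    (X : Scheme.{u}) (p : X ⟶ Spec (CommRingCat.of R)) (g : C ⟶ X)
    (hX : IsProper p ∧ Flat p ∧
        IsPullback g f p (Spec.map (CommRingCat.ofHom (algebraMap R K))) ∧
        Pi1.IsNormalScheme X ∧
        Function.Surjective (Sheaf.H.map ((SheafOfModules.toSheaf X.ringCatSheaf).map
          (ClSub.toSubscheme (Models.specialFibreIdeal R (Over.mk p)))) 0) ∧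
        (∀ x : ↥X, IsClosed ({x} : Set ↥X) → Curv2.IsRationalSing (X.presheaf.stalk x)))
    (hX' : ∃ (X' : Scheme.{u}) (p' : X' ⟶ Spec (CommRingCat.of R')) (g' : C' ⟶ X'),
      IsProper p' ∧ Flat p' ∧
        IsPullback g' f' p' (Spec.map (CommRingCat.ofHom (algebraMap R' K'))) ∧
        Pi1.IsNormalScheme X' ∧
        Function.Surjective (Sheaf.H.map ((SheafOfModules.toSheaf X'.ringCatSheaf).map
          (ClSub.toSubscheme (Models.specialFibreIdeal R' (Over.mk p')))) 0) ∧
        (∀ x : ↥X', IsClosed ({x} : Set ↥X') → Curv2.IsRationalSing (X'.presheaf.stalk x))) :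
    ∃ (Y : Scheme.{u}) (q : Y ⟶ Spec (CommRingCat.of R)) (gY : C ⟶ Y) (ρ : Y ⟶ X)
      (Y' : Scheme.{u}) (q' : Y' ⟶ Spec (CommRingCat.of R')) (gY' : C' ⟶ Y')
      (ν : Y' ⟶ pullback q (Spec.map (CommRingCat.ofHom (algebraMap R R')))),
      (IsProper q ∧ Flat q ∧
        IsPullback gY f q (Spec.map (CommRingCat.ofHom (algebraMap R K))) ∧
        Pi1.IsNormalScheme Y ∧
        Function.Surjective (Sheaf.H.map ((SheafOfModules.toSheaf Y.ringCatSheaf).map
          (ClSub.toSubscheme (Models.specialFibreIdeal R (Over.mk q)))) 0) ∧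
        (∀ x : ↥Y, IsClosed ({x} : Set ↥Y) → Curv2.IsRationalSing (Y.presheaf.stalk x))) ∧
      Models.IsRegularScheme Y ∧ IsProper ρ ∧ ρ ≫ p = q ∧ gY ≫ ρ = g ∧
      (IsProper q' ∧ Flat q' ∧
        IsPullback gY' f' q' (Spec.map (CommRingCat.ofHom (algebraMap R' K'))) ∧
        Pi1.IsNormalScheme Y' ∧
        Function.Surjective (Sheaf.H.map ((SheafOfModules.toSheaf Y'.ringCatSheaf).map
          (ClSub.toSubscheme (Models.specialFibreIdeal R' (Over.mk q')))) 0) ∧
        (∀ x : ↥Y', IsClosed ({x} : Set ↥Y') → Curv2.IsRationalSing (Y'.presheaf.stalk x))) ∧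
      IsFinite ν ∧ ν ≫ pullback.snd q (Spec.map (CommRingCat.ofHom (algebraMap R R'))) = q' ∧
      gY' ≫ ν ≫ pullback.fst q (Spec.map (CommRingCat.ofHom (algebraMap R R'))) = b ≫ gY := by
  obtain ⟨X₀, p₀, g₀, hX₀⟩ := hX'
  have hA : Groth.Agent.K382.AdmRat.IsAdm R K f p g := hX
  have hA' : Groth.Agent.K382.AdmRat.IsAdm R' K' f' p₀ g₀ := hX₀
  obtain ⟨hXp, hXf, hXg, -⟩ := hX
  obtain ⟨hX₀p, hX₀f, hX₀g, -⟩ := hX₀
  have hst : MorphismProperty.IsStableUnderBaseChange (@SmoothOfRelativeDimension 1) :=
    smoothOfRelativeDimension_isStableUnderBaseChange 1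
  have hs' : SmoothOfRelativeDimension 1 f' :=
    MorphismProperty.of_isPullback (P := @SmoothOfRelativeDimension 1) hC' inferInstance
  have hchar : CharZero K' := charZero_of_injective_algebraMap (algebraMap K K').injective
  have hC'n : Pi1.IsNormalScheme C' := Groth.Agent.K382.AdmResol.isNormalScheme_of_regular
    (Groth.Agent.K382.AdmDom.regular_of_smooth f')
  have ho : IsOpenImmersion g₀ := Groth.Agent.K382.AdmBase.isOpenImmersion hX₀g
  have hfinR : IsFinite (Spec.map (CommRingCat.ofHom (algebraMap R R'))) := by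
    rw [IsFinite.SpecMap_iff]
    exact RingHom.finite_algebraMap.2 inferInstance
  have hfinK : IsFinite (Spec.map (CommRingCat.ofHom (algebraMap K K'))) := by
    rw [IsFinite.SpecMap_iff]
    exact RingHom.finite_algebraMap.2 inferInstance
  have hflK : Flat (Spec.map (CommRingCat.ofHom (algebraMap K K'))) := by
    rw [Flat.SpecMap_iff]
    exact RingHom.flat_algebraMap_iff.2 inferInstance
  have hb1 : IsFinite b := MorphismProperty.of_isPullback (P := @IsFinite) hC'.flip hfinK
  have hb2 : Flat b := MorphismProperty.of_isPullback (P := @Flat) hC'.flip hflK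
  have hCN : IsLocallyNoetherian C := LocallyOfFiniteType.isLocallyNoetherian f
  have e1 : Spec.map (CommRingCat.ofHom (algebraMap R' K')) ≫ Spec.map (CommRingCat.ofHom (algebraMap R R')) =
      Spec.map (CommRingCat.ofHom (algebraMap K K')) ≫ Spec.map (CommRingCat.ofHom (algebraMap R K)) := by
    rw [← Spec.map_comp, ← Spec.map_comp, ← CommRingCat.ofHom_comp, ← CommRingCat.ofHom_comp,
      ← IsScalarTower.algebraMap_eq, ← IsScalarTower.algebraMap_eq]
  obtain ⟨Y, σ, h', X', ν, g', ρ, hσ, hreg, hYn, hh', hp', hflY, hν, hX'n, hpX, hfl, hρ, hg', hρw, hred, hqc, hdom⟩ :=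
    Groth.Agent.K382.AdmDom.exists_dom hXg b ⟨hb1, hb2, inferInstance⟩ hC'n g₀
      (p₀ ≫ Spec.map (CommRingCat.ofHom (algebraMap R R')))
      (by rw [reassoc_of% hX₀g.w, e1, Category.assoc, hXg.w, reassoc_of% hC'.w])
  have hph : IsPullback h' f (σ ≫ p) (Spec.map (CommRingCat.ofHom (algebraMap R K))) := by
    have h3 := hp'.paste_vert hXg
    simpa using h3
  have hpg : IsPullback g' (b ≫ f) (ν ≫ σ ≫ p) (Spec.map (CommRingCat.ofHom (algebraMap R K))) := hpX.paste_vert hph
  have e2 : g' ≫ ρ ≫ p₀ = f' ≫ Spec.map (CommRingCat.ofHom (algebraMap R' K')) := by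
    rw [reassoc_of% hg', hX₀g.w]
  have hw : (ρ ≫ p₀) ≫ Spec.map (CommRingCat.ofHom (algebraMap R R')) = ν ≫ σ ≫ p := by
    rw [Category.assoc, hρw]
  have hpg' : IsPullback g' f' (ρ ≫ p₀) (Spec.map (CommRingCat.ofHom (algebraMap R' K'))) :=
    Groth.Agent.K382.AdmExt.isPullback_ext (algebraMap R R') hRR' hw hpg e2
  have hfl' : Flat (ρ ≫ p₀) := Groth.Agent.K382.AdmNorm.flat_of_isDominant e2
  have hB : Groth.Agent.K382.AdmRat.IsAdm R K f (σ ≫ p) h' := hA.of_modification σ rfl hh' hph hYn
  have hB' : Groth.Agent.K382.AdmRat.IsAdm R' K' f' (ρ ≫ p₀) g' := hA'.of_modification ρ rfl hg' hpg' hX'n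
  let μ : X' ⟶ pullback (σ ≫ p) (Spec.map (CommRingCat.ofHom (algebraMap R R'))) := pullback.lift ν (ρ ≫ p₀) hw.symm
  have hμ1 : μ ≫ pullback.fst _ _ = ν := pullback.lift_fst _ _ _
  have hμ2 : μ ≫ pullback.snd _ _ = ρ ≫ p₀ := pullback.lift_snd _ _ _
  have hμ : IsFinite μ := by
    have h3 : IsFinite (μ ≫ pullback.fst (σ ≫ p) (Spec.map (CommRingCat.ofHom (algebraMap R R')))) := by
      rw [hμ1]; exact hν
    exact IsFinite.of_comp μ (pullback.fst (σ ≫ p) (Spec.map (CommRingCat.ofHom (algebraMap R R'))))
  refine ⟨Y, σ ≫ p, h', σ, X', ρ ≫ p₀, g', μ, hB, hreg, hσ, rfl, hh', hB', hμ, hμ2, ?_⟩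
  rw [hμ1]
  exact hpX.w

end Groth.Agent.S18610
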