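import Groth.Statements.S18611
import Groth.Agent.S4050
import Groth.Agent.S4054
import Groth.Agent.SGA7.K567.CMMain

set_option autoImplicit false
universe u
open CategoryTheory CategoryTheory.Limits AlgebraicGeometry MonObj
open SGA7

namespace Groth.Agent.S18611

/-- Let R be a discrete valuation ring with fraction field K and residue field k of prime characteristic
p ≠ 3, Ω a separable closure of K, W a valuation subring of Ω lying over R, and A an abelian variety
over K of dimension g (a proper, geometrically integral commutative K-group scheme) with complex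
multiplication defined over K: the ℚ-algebra End⁰_K(A) = ℚ ⊗ End_K(A) contains a ℚ-subalgebra E
which is a field of ℚ-dimension 2g. Let O be the ring of K-endomorphisms of A whose image in
End⁰_K(A) lies in E, and assume that O[1/p] contains no primitive cube root of unity: no y ∈ E with
p^k·y in the image of O for some k satisfies y² + y + 1 = 0 (equivalently, the number of roots of
unity in O[1/p] is prime to 3). If for every σ in the inertia group at W the operator (σ − 1)² kills
every 3-torsion Ω-point of A, then A has good reduction over R. (The published statement lets O be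
any order by which A has complex multiplication with K a field of definition for its action, and
assumes instead of the displayed condition on inertia a polarization and a maximal isotropic
subgroup of the 3-torsion defined over an unramified extension, from which its proof first derives
that condition; here O is the largest such order, for which the hypothesis on roots of unity is
strongest.) -/
theorem result (R K Ω : Type u) [CommRing R]
    [IsDomain R] [IsDiscreteValuationRing R] [Field K] [Algebra R K] [IsFractionRing R K] [Field Ω] [Algebra K Ω]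
    [IsSepClosure K Ω] (W : ValuationSubring Ω) (hW : SGA7.LiesOver K R W)
    (p : ℕ) (hp : p.Prime) (hp3 : p ≠ 3) [CharP (IsLocalRing.ResidueField R) p]
    (A : Over (Spec (CommRingCat.of K))) [GrpObj A] [IsCommMonObj A] [IsProper A.hom] [GeometricallyIntegral A.hom]
    (g : ℕ) (hg : topologicalKrullDim ↥A.left = g)
    (E : Subalgebra ℚ (EndAV.End0 A)) (hE : IsField ↥E) (hEfin : Module.Finite ℚ ↥E)
    (hdeg : Module.finrank ℚ ↥E = 2 * g)
    (hμ : ∀ y : EndAV.End0 A, y ∈ E →
      (∃ (j : ℕ) (φ : EndAV.End A), EndAV.toEnd0 φ ∈ E ∧ ((p : ℚ) ^ j) • y = EndAV.toEnd0 φ) → y ^ 2 + y + 1 ≠ 0)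
    (h : ∀ σ : Ω ≃ₐ[K] Ω, SGA7.IsInertia W σ → ∀ x : SGA7.Pts Ω A, x ^ 3 = 1 → SGA7.dev σ (SGA7.dev σ x) = 1) :
    SGA7.HasGoodReduction R K A := by
  have hsc : IsSepClosed Ω := IsSepClosure.sep_closed K
  -- primes different from `p`
  have hres : ∀ l : ℕ, l.Prime → l ≠ p → (l : IsLocalRing.ResidueField R) ≠ 0 := by
    intro l hl hlp h0
    have h1 := (CharP.cast_eq_zero_iff (IsLocalRing.ResidueField R) p l).1 h0
    exact hlp ((Nat.prime_dvd_prime_iff_eq hp hl).1 h1).symm
  have hresW : ∀ l : ℕ, l.Prime → l ≠ p → (l : IsLocalRing.ResidueField W) ≠ 0 := by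
    intro l hl hlp h0
    have h1 := Groth.Agent.Sga7.H753.Core.val_natCast W hW (hres l hl hlp)
    rw [← map_natCast (IsLocalRing.residue W), IsLocalRing.residue_eq_zero_iff] at h0
    have h2 : W.valuation ((l : W) : Ω) < 1 := (ValuationSubring.valuation_lt_one_iff _ _).1 h0
    have h3 : ((l : W) : Ω) = (l : Ω) := map_natCast W.subtype l
    rw [h3, h1] at h2
    exact lt_irrefl _ h2
  have h3R := hres 3 Nat.prime_three hp3.symm
  have h3W := hresW 3 Nat.prime_three hp3.symm
  have h3K : ((3 : ℕ) : K) ≠ 0 := K567.CMMain.ne_zero_of_residue h3W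
  have : Fact (Nat.Prime 3) := ⟨Nat.prime_three⟩
  obtain ⟨U, hU⟩ := Groth.Agent.S4050.result R K Ω W hW 3 Nat.prime_three h3R A
  -- cubes of inertia elements act trivially
  have hcube : ∀ σ : Ω ≃ₐ[K] Ω, SGA7.IsInertia W σ → ∀ (ν : ℕ) (x : SGA7.Pts Ω A), x ^ (3 ^ ν) = 1 →
      SGA7.galAct (σ ^ 3) x = x := by
    intro σ hσ
    obtain ⟨m, hm⟩ := K566.PtsUnip.unipAt_three A h3K σ
      (K566.PtsUnip.quipAt_of_open A W 3 U hU σ hσ) (h σ hσ)
    exact K567.CMUnip.galAct_eq A 3 h3K hg E hE hEfin hdeg (σ ^ 3) m hm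
  have hopen : ∀ σ ∈ U, SGA7.IsInertia W σ → ∀ (ν : ℕ) (x : SGA7.Pts Ω A), x ^ (3 ^ ν) = 1 →
      SGA7.galAct σ x = x := by
    intro σ hσU hσ
    exact K567.CMUnip.galAct_eq A 3 h3K hg E hE hEfin hdeg σ 2
      (fun ν x hx => hU ν σ σ hσU hσU hσ hσ x hx)
  obtain ⟨hκ, B, _, _, _, _, ⟨S⟩⟩ := K567.PotGood.exists_special R K Ω W hW 3 Nat.prime_three h3R A U hopen
  refine Groth.Agent.S4054.result R K Ω W hW 3 Nat.prime_three h3R A (fun ν σ hσ x hx => ?_)
  obtain ⟨u, hu⟩ := S.sp_gal σ hσ
  have hu3 : u ^ 3 = 1 := K567.CMMain.u_pow_eq_one S h3W hu 3 (hcube σ hσ)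
  have hu1 : u = 1 := K567.CMMain.u_eq_one S hg E hE hEfin hdeg hp.ne_zero hresW hμ h3W hu hu3
  have h1 : S.sp (SGA7.galAct σ x) = S.sp x := by
    rw [hu, hu1]
    exact Category.comp_id _
  have h2 : SGA7.galAct σ x * x⁻¹ = 1 := by
    apply S.inj (3 ^ ν) _ (by rw [Nat.cast_pow]; exact pow_ne_zero _ h3W)
    · rw [mul_pow, ← K566.UnipDef.galAct_pow, hx, K566.UnipDef.galAct_one, inv_pow, hx, inv_one,
        _root_.mul_one]
    · rw [map_mul, map_inv, h1, mul_inv_cancel]
  exact mul_inv_eq_one.1 h2

end Groth.Agent.S18611
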