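import Groth.Statements.S18612
import Groth.Agent.S18601
import Groth.Agent.SGA7.K567.TwoPlaces

set_option autoImplicit false
universe u
open CategoryTheory CategoryTheory.Limits AlgebraicGeometry MonObj
open SGA7

namespace Groth.Agent.S18612

/-- Let K be a field which is the fraction field of two discrete valuation rings R₁ and R₂ whose residue
fields have different characteristics p and q, Ω a separable closure of K, W₁ and W₂ valuation
subrings of Ω lying over R₁ and R₂, and A an abelian variety over K (a proper, geometrically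
integral K-group scheme) which has semistable reduction over neither R₁ nor R₂. Let n ≥ 1 be an
integer such that for every σ in the inertia group at W₁, and for every σ in the inertia group at
W₂, the operator (σ − 1)² kills every n-torsion Ω-point of A. Then n divides 12; and if p > 3 or q >
3 then n ≤ 4. (The published statement assumes instead a polarization and a maximal isotropic
subgroup of the n-torsion, both defined over an extension unramified at the two places, from which
the proof of the one-place result first derives the displayed condition on inertia.) -/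
theorem result
    (R₁ R₂ K Ω : Type u) [CommRing R₁] [IsDomain R₁] [IsDiscreteValuationRing R₁]
    [CommRing R₂] [IsDomain R₂] [IsDiscreteValuationRing R₂] [Field K] [Algebra R₁ K] [IsFractionRing R₁ K]
    [Algebra R₂ K] [IsFractionRing R₂ K] [Field Ω] [Algebra K Ω] [IsSepClosure K Ω]
    (W₁ W₂ : ValuationSubring Ω) (hW₁ : SGA7.LiesOver K R₁ W₁) (hW₂ : SGA7.LiesOver K R₂ W₂)
    (p q : ℕ) [CharP (IsLocalRing.ResidueField R₁) p] [CharP (IsLocalRing.ResidueField R₂) q] (hpq : p ≠ q)
    (A : Over (Spec (CommRingCat.of K))) [GrpObj A] [IsProper A.hom] [GeometricallyIntegral A.hom]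
    (h₁ : ¬ SGA7.HasSemistableReduction R₁ K A) (h₂ : ¬ SGA7.HasSemistableReduction R₂ K A)
    (n : ℕ) (hn : 0 < n)
    (hI₁ : ∀ σ : Ω ≃ₐ[K] Ω, SGA7.IsInertia W₁ σ → ∀ x : SGA7.Pts Ω A, x ^ n = 1 → SGA7.dev σ (SGA7.dev σ x) = 1)
    (hI₂ : ∀ σ : Ω ≃ₐ[K] Ω, SGA7.IsInertia W₂ σ → ∀ x : SGA7.Pts Ω A, x ^ n = 1 → SGA7.dev σ (SGA7.dev σ x) = 1) :
    n ∣ 12 ∧ ((3 < p ∨ 3 < q) → n ≤ 4) := by
  have h5 : K567.TwoPlaces.FiveSS.{u} :=
    fun R K Ω _ _ _ _ _ _ _ _ _ W hW n hn hnp A _ _ _ h => Groth.Agent.S18601.result R K Ω W hW n hn hnp A h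
  exact K567.TwoPlaces.arith hn ((CharP.char_is_prime_or_zero (IsLocalRing.ResidueField R₁) p).symm)
    ((CharP.char_is_prime_or_zero (IsLocalRing.ResidueField R₂) q).symm) hpq
    (K567.TwoPlaces.le_four_of_torsion h5 W₁ hW₁ p A h₁ n hn hI₁)
    (K567.TwoPlaces.le_four_of_torsion h5 W₂ hW₂ q A h₂ n hn hI₂)

end Groth.Agent.S18612
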