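import Groth.Statements.S18613
import Groth.Agent.S18603
import Groth.Agent.SGA7.K567.TwoPlaces
import Groth.Agent.SGA7.K566.UnipDef

set_option autoImplicit false
universe u
open CategoryTheory CategoryTheory.Limits AlgebraicGeometry MonObj
open SGA7

namespace Groth.Agent.S18613

/-- Let K be a field which is the fraction field of two discrete valuation rings R₁ and R₂ whose residue
fields have different characteristics p and q, Ω a separable closure of K, and E an elliptic curve
over K (a proper, geometrically integral K-group scheme of dimension 1) with additive reduction at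
both places, i.e. having semistable reduction over neither R₁ nor R₂. If E has a K-rational point of
exact order n ≥ 1, given as an Ω-point fixed by every K-automorphism of Ω, then n divides 12; and if
p > 3 or q > 3 then n ≤ 4. -/
theorem result
    (R₁ R₂ K Ω : Type u) [CommRing R₁] [IsDomain R₁] [IsDiscreteValuationRing R₁]
    [CommRing R₂] [IsDomain R₂] [IsDiscreteValuationRing R₂] [Field K] [Algebra R₁ K] [IsFractionRing R₁ K]
    [Algebra R₂ K] [IsFractionRing R₂ K] [Field Ω] [Algebra K Ω] [IsSepClosure K Ω]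
    (p q : ℕ) [CharP (IsLocalRing.ResidueField R₁) p] [CharP (IsLocalRing.ResidueField R₂) q] (hpq : p ≠ q)
    (E : Over (Spec (CommRingCat.of K))) [GrpObj E] [IsProper E.hom] [GeometricallyIntegral E.hom]
    (hdim : topologicalKrullDim ↥E.left = 1)
    (h₁ : ¬ SGA7.HasSemistableReduction R₁ K E) (h₂ : ¬ SGA7.HasSemistableReduction R₂ K E)
    (x : SGA7.Pts Ω E) (hx : ∀ σ : Ω ≃ₐ[K] Ω, SGA7.galAct σ x = x) (n : ℕ) (hxn : orderOf x = n) (hn : 0 < n) :
    n ∣ 12 ∧ ((3 < p ∨ 3 < q) → n ≤ 4) := by
  have h5 : K567.TwoPlaces.EllSS.{u} :=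
    fun R K Ω _ _ _ _ _ _ _ _ _ E _ _ _ hdim x hx n hxn hn hnp =>
      Groth.Agent.S18603.result R K Ω E hdim x hx n hxn hn hnp
  have hact : ∀ (σ : Ω ≃ₐ[K] Ω) (y : SGA7.Pts Ω E) (j : ℕ), SGA7.galAct σ (y ^ j) = SGA7.galAct σ y ^ j :=
    fun σ y j => K566.UnipDef.galAct_pow σ y j
  exact K567.TwoPlaces.arith hn ((CharP.char_is_prime_or_zero (IsLocalRing.ResidueField R₁) p).symm)
    ((CharP.char_is_prime_or_zero (IsLocalRing.ResidueField R₂) q).symm) hpq
    (K567.TwoPlaces.le_four_of_point h5 p E hdim h₁ hact x hx n hxn hn)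
    (K567.TwoPlaces.le_four_of_point h5 q E hdim h₂ hact x hx n hxn hn)

end Groth.Agent.S18613
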