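import Groth.Statements.S18614
import Mathlib.LinearAlgebra.Dual.Lemmas

set_option autoImplicit false
universe u v
open LinTop

namespace Groth.Agent.S18614

open Filter Topology

theorem continuous_of_le_ker {k : Type u} {M : Type v} [Field k]
    [TopologicalSpace k] [DiscreteTopology k] [AddCommGroup M] [Module k M] [TopologicalSpace M]
    [IsTopologicalAddGroup M] (f : M →ₗ[k] k) (U : Submodule k M) (hU : IsOpen (U : Set M))
    (h : U ≤ LinearMap.ker f) : Continuous f := by
  refine continuous_of_continuousAt_zero f.toAddMonoidHom ?_
  change Tendsto f (𝓝 0) (𝓝 (f 0))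
  have h0 : 𝓝 (0 : k) = pure 0 := by rw [nhds_discrete]
  rw [map_zero, h0]
  refine tendsto_pure.2 ?_
  filter_upwards [hU.mem_nhds U.zero_mem] with x hx
  exact h hx

/-- Let k be a field carrying the discrete topology and M a separated topological k-module with a
k-linear topology (the open k-submodules form a basis of neighbourhoods of zero and M is a
topological additive group). For a closed submodule M₁, the perpendicular of the perpendicular of
M₁, both taken with respect to the pairing of M with its continuous dual (the continuous k-linear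
maps M → k), is M₁ itself: an element killed by every continuous functional vanishing on M₁ belongs
to M₁. -/
theorem result (k : Type u) (M : Type v) [Field k]
    [TopologicalSpace k] [DiscreteTopology k] [AddCommGroup M] [Module k M] [TopologicalSpace M]
    [IsTopologicalAddGroup M] [IsLinearTopology k M] [T2Space M]
    (M₁ : Submodule k M) (hM₁ : IsClosed (M₁ : Set M)) (x : M)
    (hx : ∀ φ : M →L[k] k, (∀ m ∈ M₁, φ m = 0) → φ x = 0) : x ∈ M₁ := by
  by_contra hxM
  have h1 : (fun y => x + y) ⁻¹' (M₁ : Set M)ᶜ ∈ 𝓝 (0 : M) := by
    apply (continuous_const.add continuous_id).continuousAt.preimage_mem_nhds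
    exact hM₁.isOpen_compl.mem_nhds (by simpa using hxM)
  obtain ⟨U, hU, hU'⟩ := (IsLinearTopology.hasBasis_open_submodule k (M := M)).mem_iff.1 h1
  have hxU : x ∉ M₁ ⊔ U := by
    intro hx'
    obtain ⟨y, hy, z, hz, hyz⟩ := Submodule.mem_sup.1 hx'
    have h2 := hU' (U.neg_mem hz)
    apply h2
    have h3 : x + -z = y := by rw [← hyz]; abel
    change x + -z ∈ M₁
    rw [h3]; exact hy
  obtain ⟨f, hf, hf'⟩ := Submodule.exists_le_ker_of_notMem hxU
  have hc := continuous_of_le_ker f U hU (le_sup_right.trans hf')
  exact hf (hx ⟨f, hc⟩ fun m hm => hf' (Submodule.mem_sup_left hm))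

end Groth.Agent.S18614
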