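import Groth.Statements.S18615
import Groth.Agent.S18614

set_option autoImplicit false
universe u v
open LinTop

namespace Groth.Agent.S18615

open Filter Topology

/-- Let k be a field carrying the discrete topology and M a separated topological k-module with a
k-linear topology (open k-submodules form a basis of neighbourhoods of zero, M a topological
additive group). For closed submodules M₁ ⊆ M₂ there is a short exact sequence 0 → M₂^⊥ → M₁^⊥ →
(M₂/M₁)^* → 0 of plain k-modules, where ⊥ denotes the annihilator in the continuous dual of M and *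
the continuous dual. Stated here as its one non-formal part, surjectivity on the right: every
continuous functional on M₂ (subspace topology) that vanishes on M₁ is the restriction of a
continuous functional on M vanishing on M₁ (continuous functionals on M₂/M₁ being the continuous
functionals on M₂ that kill M₁). -/
theorem result (k : Type u) (M : Type v) [Field k]
    [TopologicalSpace k] [DiscreteTopology k] [AddCommGroup M] [Module k M] [TopologicalSpace M]
    [IsTopologicalAddGroup M] [IsLinearTopology k M] [T2Space M]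
    (M₁ M₂ : Submodule k M) (h₁₂ : M₁ ≤ M₂) (hM₁ : IsClosed (M₁ : Set M))
    (hM₂ : IsClosed (M₂ : Set M)) (ψ : M₂ →L[k] k)
    (hψ : ∀ m : M₂, (m : M) ∈ M₁ → ψ m = 0) :
    ∃ φ : M →L[k] k, (∀ m ∈ M₁, φ m = 0) ∧ ∀ m : M₂, φ (m : M) = ψ m := by
  have h1 : IsOpen (ψ ⁻¹' {0}) := (isOpen_discrete _).preimage ψ.continuous
  obtain ⟨V, hV, hV'⟩ := isOpen_induced_iff.1 h1
  have hV0 : V ∈ 𝓝 (0 : M) := by
    refine hV.mem_nhds ?_
    have h2 : (0 : M₂) ∈ ((↑) : M₂ → M) ⁻¹' V := by rw [hV']; simp
    simpa using h2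
  obtain ⟨U, hU, hU'⟩ := (IsLinearTopology.hasBasis_open_submodule k (M := M)).mem_iff.1 hV0
  let g : M₂ →ₗ[k] (M ⧸ U) := U.mkQ.comp M₂.subtype
  have hg : (ψ : M₂ →ₗ[k] k) ∈ (LinearMap.ker g).dualAnnihilator := by
    rw [Submodule.mem_dualAnnihilator]
    intro m hm
    have hm' : (m : M) ∈ U := by
      rw [LinearMap.mem_ker] at hm
      exact (Submodule.Quotient.mk_eq_zero U).1 hm
    have h3 : m ∈ ((↑) : M₂ → M) ⁻¹' V := hU' hm'
    rw [hV'] at h3
    exact h3
  rw [← LinearMap.range_dualMap_eq_dualAnnihilator_ker] at hg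
  obtain ⟨φ', hφ'⟩ := hg
  have hker : U ≤ LinearMap.ker (φ'.comp U.mkQ) := by
    intro u hu
    rw [LinearMap.mem_ker, LinearMap.comp_apply]
    have : U.mkQ u = 0 := (Submodule.Quotient.mk_eq_zero U).2 hu
    rw [this, map_zero]
  have hc := Groth.Agent.S18614.continuous_of_le_ker (φ'.comp U.mkQ) U hU hker
  have hfin : ∀ m : M₂, (φ'.comp U.mkQ) (m : M) = ψ m := fun m => by
    have := LinearMap.congr_fun hφ' m
    exact this
  exact ⟨⟨φ'.comp U.mkQ, hc⟩, fun m hm => by
    have := hfin ⟨m, h₁₂ hm⟩
    rw [hψ _ hm] at this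
    exact this, hfin⟩

end Groth.Agent.S18615
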