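import Groth.Statements.S18618
import Groth.Agent.VBPn.K700.BlSetup
import Groth.Agent.VBPn.K700.HomVan
import Groth.Agent.Flat2C.BlowProper
import Groth.Agent.S0002
import Groth.Agent.Omega.K935.CoprodRank
import Groth.Agent.Ribbon.K932.P1Deg
import Mathlib.LinearAlgebra.Eigenspace.Minpoly

set_option autoImplicit false
universe u
open VBPn

namespace Groth.Agent.S18618

/-- In a finite-dimensional algebra all but finitely many translates of an element are units. -/
theorem finite_not_isUnit {k A : Type*} [Field k] [Ring A] [Algebra k A] [Module.Finite k A] (a : A) :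
    {c : k | ¬ IsUnit (a + algebraMap k A c)}.Finite := by
  have h1 : (spectrum k (Algebra.lmul k A a)).Finite := Module.End.finite_spectrum _
  refine (h1.preimage (neg_injective.injOn)).subset fun c hc => ?_
  rw [Set.mem_preimage, spectrum.mem_iff]
  intro h
  apply hc
  have h2 : algebraMap k (Module.End k A) (-c) - Algebra.lmul k A a =
      Algebra.lmul k A (-(a + algebraMap k A c)) := by
    rw [← (Algebra.lmul k A).commutes, ← map_sub]
    congr 1
    rw [map_neg]
    abel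
  rw [h2, Algebra.lmul_isUnit_iff, IsUnit.neg_iff] at h
  exact h

open CategoryTheory CategoryTheory.Limits AlgebraicGeometry TopologicalSpace in
/-- Let k be an algebraically closed field of characteristic zero, n ≥ 2, Z = {p_1, …, p_s} a finite set
of distinct closed points of P^n_k, and π : X → P^n_k a blow-up of P^n_k in the ideal of the reduced
set Z (universal property); write O_X(−e₀) = π^*O(−1) and O_X(−2e₀) = π^*O(−2). Let f : P → Q be a
monomorphism of O_X-modules with P ≅ O_X(−2e₀)^a and Q ≅ O_X(−e₀)^b, whose cokernel E is finite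
locally free of rank b − a. Assume the stabiliser of f under Aut(Q) × Aut(P) is the scalars:
whenever automorphisms β of Q and γ of P satisfy γ ≫ f = f ≫ β, there is one scalar c ∈ k with β and
γ both equal to multiplication by c. Then E is simple: every endomorphism of E is multiplication by
a scalar of k. (The published statement fixes a and b in terms of n and the rank and takes f
general, a general matrix of linear forms of that size having scalar stabiliser by a result it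
quotes; here that property of f is the hypothesis and a, b are arbitrary.) -/
theorem result (k : Type u) [Field k] [IsAlgClosed k] [CharZero k]
    (n : ℕ) (hn : 2 ≤ n) (s : ℕ) (P : Fin s → ↥(CohB1.ProjSpace n k)) (hP : Function.Injective P)
    (hPc : ∀ i, IsClosed ({P i} : Set ↥(CohB1.ProjSpace n k))) (hZ : IsClosed (Set.range P))
    (X : Scheme.{u}) (π : X ⟶ CohB1.ProjSpace n k)
    (hπ : BlowUp.IsBlowUp π (Scheme.IdealSheafData.vanishingIdeal ⟨Set.range P, hZ⟩))
    (a b : ℕ) (P₁ Q₁ : X.Modules)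
    (hP₁ : Nonempty (P₁ ≅ ∐ fun _ : Fin a => (Scheme.Modules.pullback π).obj (Twist.twistProjSpace n k (-2))))
    (hQ₁ : Nonempty (Q₁ ≅ ∐ fun _ : Fin b => (Scheme.Modules.pullback π).obj (Twist.twistProjSpace n k (-1))))
    (f : P₁ ⟶ Q₁) [Mono f] (hE : FlatMod.IsFinLocFreeOfRank (b - a) (cokernel f))
    (hstab : ∀ (β : Q₁ ≅ Q₁) (γ : P₁ ≅ P₁), γ.hom ≫ f = f ≫ β.hom →
      ∃ c : k, (SheafOfModules.toSheaf X.ringCatSheaf).map β.hom =
          Coh.smulAb Q₁ (Coh.toGlobal (π ≫ CohB1.ProjSpace.toSpec n k) c) ∧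
        (SheafOfModules.toSheaf X.ringCatSheaf).map γ.hom =
          Coh.smulAb P₁ (Coh.toGlobal (π ≫ CohB1.ProjSpace.toSpec n k) c)) :
    ∀ φ : cokernel f ⟶ cokernel f, ∃ c : k, (SheafOfModules.toSheaf X.ringCatSheaf).map φ =
      Coh.smulAb (cokernel f) (Coh.toGlobal (π ≫ CohB1.ProjSpace.toSpec n k) c) := by
  obtain ⟨r, rfl⟩ : ∃ r, n = r + 1 := ⟨n - 1, by omega⟩
  obtain ⟨B, rfl, hI, -⟩ := K700.BlSetup.exists_setup hP hPc hZ π hπ
  obtain ⟨eP⟩ := hP₁
  obtain ⟨eQ⟩ := hQ₁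
  let _ : X.Over (Spec (CommRingCat.of k)) := ⟨B.π ≫ CohB1.ProjSpace.toSpec (r + 1) k⟩
  have hpr : IsProper B.π := Groth.Agent.Flat2C.BlowProper.isProper_of_isBlowUp hπ fun U => by
    have := IsLocallyNoetherian.component_noetherian U
    exact IsNoetherian.noetherian _
  have hpr' : IsProper (X ↘ Spec (CommRingCat.of k)) :=
    inferInstanceAs (IsProper (B.π ≫ CohB1.ProjSpace.toSpec (r + 1) k))
  have hi := fun e => Groth.Agent.Lefpen.H21.PicTwist.isInvertible_pullback_twist B.π e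
  have hm := fun e => Groth.Agent.Lefpen.H21.PicTwist.mk_pullback_twist B.π e
  have hv : ∀ q, K700.PicVan.Van P₁ (Groth.Agent.Grpsch.PicGrp.mk _ (hi (-1)))⁻¹ q := by
    intro q
    refine K700.PicVan.van_sigma_const eP ((K700.PicVan.van_inv_iff (hi (-2))).2 ?_)
    rw [hm, hm, ← zpow_neg, ← zpow_add]
    have h := B.van_base (-1) q (by omega) (by omega)
    have h2 : B.cls (-1) 0 = Groth.Agent.Lefpen.H21.PicTwist.hyp B.π ^ (-2 + -(-1) : ℤ) := by
      simp [K700.BlVan.Setup.cls, K700.BlVan.Setup.h]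
    rwa [h2] at h
  -- finiteness of the endomorphism algebras
  have hfin : ∀ {L M : X.Modules}, PicF.IsInvertible L → Groth.Agent.VarietyB.TensCoh.HasBases M →
      Module.Finite k (L ⟶ M) := by
    intro L M hL hM
    refine K700.HomVan.finite_hom k hL fun A hA _ => ?_
    exact Groth.Agent.S0002.result k X _ (Groth.Agent.VarietyB.TensCoh.isCoh_tensorMod hM
      (K932.P1Deg.isCoh_of_isInvertible hA)) 0
  have hcoh : ∀ (m : ℤ) (c : ℕ) (M : X.Modules), (M ≅ ∐ fun _ : Fin c =>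
      (Scheme.Modules.pullback B.π).obj (Twist.twistProjSpace (r + 1) k m)) →
      Groth.Agent.VarietyB.TensCoh.HasBases M := fun m c M e =>
    Groth.Agent.VarietyB.TensCoh.HasBases.of_isFinLocFreeOfRank
      (K935.CoprodRank.isFinLocFreeOfRank_of_iso e.symm
        (K935.CoprodRank.isFinLocFreeOfRank_sigma _ (fun _ => 1) fun _ =>
          Groth.Agent.VarietyB.DegCartier.isFinLocFreeOfRank_one (hi m)))
  have hfQ : Module.Finite k (Q₁ ⟶ Q₁) :=
    K700.HomVan.finite_sigma_hom k eQ (hfin (hi (-1)) (hcoh _ _ _ eQ))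
  have hfP : Module.Finite k (P₁ ⟶ P₁) :=
    K700.HomVan.finite_sigma_hom k eP (hfin (hi (-2)) (hcoh _ _ _ eP))
  have hfQ' : Module.Finite k (End Q₁) := hfQ
  have hfP' : Module.Finite k (End P₁) := hfP
  intro φ
  obtain ⟨β, hβ⟩ := K700.HomVan.sigma_lift eQ (hi (-1))
    (S := ShortComplex.mk f (cokernel.π f) (cokernel.condition f))
    { exact := ShortComplex.exact_cokernel f } (hv 1) (cokernel.π f ≫ φ)
  change β ≫ cokernel.π f = cokernel.π f ≫ φ at hβ
  have w : (f ≫ β) ≫ cokernel.π f = 0 := by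
    rw [Category.assoc, hβ, cokernel.condition_assoc, zero_comp]
  obtain ⟨γ, hγ⟩ : ∃ γ : P₁ ⟶ P₁, γ ≫ f = f ≫ β := ⟨Abelian.monoLift f (f ≫ β) w, Abelian.monoLift_comp _ _ _⟩
  obtain ⟨βE, hβE⟩ : ∃ x : End Q₁, x = (show Q₁ ⟶ Q₁ from β) := ⟨_, rfl⟩
  obtain ⟨γE, hγE⟩ : ∃ x : End P₁, x = (show P₁ ⟶ P₁ from γ) := ⟨_, rfl⟩
  obtain ⟨c, hc⟩ := ((finite_not_isUnit (k := k) βE).union (finite_not_isUnit (k := k) γE)).exists_notMem
  simp only [Set.mem_union, Set.mem_ofPred_eq, not_or, not_not] at hc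
  obtain ⟨⟨uQ, hQ⟩, ⟨uP, hP'⟩⟩ := hc
  have hQ' : (show Q₁ ⟶ Q₁ from (uQ : End Q₁)) = (show Q₁ ⟶ Q₁ from β) + c • 𝟙 Q₁ := by
    rw [hQ, hβE, Algebra.algebraMap_eq_smul_one]
    rfl
  have hP'' : (show P₁ ⟶ P₁ from (uP : End P₁)) = (show P₁ ⟶ P₁ from γ) + c • 𝟙 P₁ := by
    rw [hP', hγE, Algebra.algebraMap_eq_smul_one]
    rfl
  let iQ : Q₁ ≅ Q₁ := ⟨(show Q₁ ⟶ Q₁ from β) + c • 𝟙 Q₁, ((uQ⁻¹ : (End Q₁)ˣ) : End Q₁),
    by rw [← hQ']; exact uQ.inv_mul, by rw [← hQ']; exact uQ.mul_inv⟩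
  let iP : P₁ ≅ P₁ := ⟨(show P₁ ⟶ P₁ from γ) + c • 𝟙 P₁, ((uP⁻¹ : (End P₁)ˣ) : End P₁),
    by rw [← hP'']; exact uP.inv_mul, by rw [← hP'']; exact uP.mul_inv⟩
  obtain ⟨c', h1, -⟩ := hstab iQ iP (by
    change (γ + c • 𝟙 P₁) ≫ f = f ≫ (β + c • 𝟙 Q₁)
    rw [Preadditive.add_comp, Preadditive.comp_add, hγ, Linear.smul_comp, Linear.comp_smul,
      Category.id_comp, Category.comp_id])
  refine ⟨c' - c, ?_⟩
  have h2 : β + c • 𝟙 Q₁ = c' • 𝟙 Q₁ := by
    rw [KLin.smul_id]
    exact (SheafOfModules.toSheaf X.ringCatSheaf).map_injective h1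
  have h3 : β = (c' - c) • 𝟙 Q₁ := by
    rw [sub_smul, ← h2, add_sub_cancel_right]
  have h4 : φ = (c' - c) • 𝟙 (cokernel f) := by
    rw [← cancel_epi (cokernel.π f), ← hβ, h3, Linear.smul_comp, Linear.comp_smul,
      Category.id_comp, Category.comp_id]
  rw [h4, KLin.smul_id]
  rfl

end Groth.Agent.S18618
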