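import Groth.Statements.S18619
import Groth.Agent.VBPn.K700.BlSetup
import Groth.Agent.VBPn.K700.HomVan

set_option autoImplicit false
universe u
open VBPn

namespace Groth.Agent.S18619

open CategoryTheory CategoryTheory.Limits AlgebraicGeometry TopologicalSpace in
/-- Let k be an algebraically closed field of characteristic zero, n ≥ 2, Z = {p_1, …, p_s} distinct
closed points of P^n_k and π : X → P^n_k a blow-up of P^n_k in the ideal of the reduced set Z
(universal property); write O_X(−e₀) = π^*O(−1), O_X(−2e₀) = π^*O(−2). Let f, f′ : P → Q be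
monomorphisms of O_X-modules with P ≅ O_X(−2e₀)^a and Q ≅ O_X(−e₀)^b whose cokernels E and E′ are
finite locally free of rank b − a. Then E ≅ E′ (existence of an isomorphism) if and only if f and f′
lie in one orbit of Aut(Q) × Aut(P), that is f ≫ β = γ ≫ f′ for some automorphisms β of Q and γ of
P. (The published statement takes f and f′ in the open set of matrices of linear forms that are
surjective on global sections after dualising; the argument does not use that condition and it is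
not assumed here.) -/
theorem result (k : Type u) [Field k] [IsAlgClosed k] [CharZero k]
    (n : ℕ) (hn : 2 ≤ n) (s : ℕ) (P : Fin s → ↥(CohB1.ProjSpace n k)) (hP : Function.Injective P)
    (hPc : ∀ i, IsClosed ({P i} : Set ↥(CohB1.ProjSpace n k))) (hZ : IsClosed (Set.range P))
    (X : Scheme.{u}) (π : X ⟶ CohB1.ProjSpace n k)
    (hπ : BlowUp.IsBlowUp π (Scheme.IdealSheafData.vanishingIdeal ⟨Set.range P, hZ⟩))
    (a b : ℕ) (P₁ Q₁ : X.Modules)
    (hP₁ : Nonempty (P₁ ≅ ∐ fun _ : Fin a => (Scheme.Modules.pullback π).obj (Twist.twistProjSpace n k (-2))))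
    (hQ₁ : Nonempty (Q₁ ≅ ∐ fun _ : Fin b => (Scheme.Modules.pullback π).obj (Twist.twistProjSpace n k (-1))))
    (f f' : P₁ ⟶ Q₁) [Mono f] [Mono f'] (hE : FlatMod.IsFinLocFreeOfRank (b - a) (cokernel f))
    (hE' : FlatMod.IsFinLocFreeOfRank (b - a) (cokernel f')) :
    Nonempty (cokernel f ≅ cokernel f') ↔
      ∃ (β : Q₁ ≅ Q₁) (γ : P₁ ≅ P₁), f ≫ β.hom = γ.hom ≫ f' := by
  have key : ∀ {F F' : P₁ ⟶ Q₁} (_ : Mono F) (_ : Mono F') (φ : cokernel F ≅ cokernel F'),
      (∀ G : Q₁ ⟶ P₁, G = 0) → (∀ {F : P₁ ⟶ Q₁} (_ : Mono F) (y : Q₁ ⟶ cokernel F),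
        ∃ ψ : Q₁ ⟶ Q₁, ψ ≫ cokernel.π F = y) → ∃ (β : Q₁ ≅ Q₁) (γ : P₁ ≅ P₁), F ≫ β.hom = γ.hom ≫ F' := by
    intro F F' hF hF' φ h0 h1
    obtain ⟨β, hβ⟩ := h1 hF' (cokernel.π F ≫ φ.hom)
    obtain ⟨β', hβ'⟩ := h1 hF (cokernel.π F' ≫ φ.inv)
    have uniq : ∀ {F : P₁ ⟶ Q₁} (_ : Mono F) (ψ : Q₁ ⟶ Q₁), ψ ≫ cokernel.π F = cokernel.π F → ψ = 𝟙 _ := by
      intro F hF ψ h
      have h2 : (ψ - 𝟙 _) ≫ cokernel.π F = 0 := by rw [Preadditive.sub_comp, h, Category.id_comp, sub_self]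
      have h3 := Abelian.monoLift_comp F (ψ - 𝟙 _) h2
      rw [h0 (Abelian.monoLift F (ψ - 𝟙 _) h2), zero_comp] at h3
      exact (sub_eq_zero.1 h3.symm)
    have e1 : β ≫ β' = 𝟙 _ := uniq hF _ (by rw [Category.assoc, hβ', reassoc_of% hβ, Iso.hom_inv_id, Category.comp_id])
    have e2 : β' ≫ β = 𝟙 _ := uniq hF' _ (by rw [Category.assoc, hβ, reassoc_of% hβ', Iso.inv_hom_id, Category.comp_id])
    have w1 : (F ≫ β) ≫ cokernel.π F' = 0 := by
      rw [Category.assoc, hβ, cokernel.condition_assoc, zero_comp]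
    have w2 : (F' ≫ β') ≫ cokernel.π F = 0 := by
      rw [Category.assoc, hβ', cokernel.condition_assoc, zero_comp]
    refine ⟨⟨β, β', e1, e2⟩, ⟨Abelian.monoLift F' (F ≫ β) w1, Abelian.monoLift F (F' ≫ β') w2, ?_, ?_⟩, ?_⟩
    · rw [← cancel_mono F, Category.assoc, Abelian.monoLift_comp, Abelian.monoLift_comp_assoc, Category.assoc, e1,
        Category.comp_id, Category.id_comp]
    · rw [← cancel_mono F', Category.assoc, Abelian.monoLift_comp, Abelian.monoLift_comp_assoc, Category.assoc, e2,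
        Category.comp_id, Category.id_comp]
    · exact (Abelian.monoLift_comp _ _ _).symm
  constructor
  · rintro ⟨φ⟩
    obtain ⟨r, rfl⟩ : ∃ r, n = r + 1 := ⟨n - 1, by omega⟩
    obtain ⟨B, rfl, hI, -⟩ := K700.BlSetup.exists_setup hP hPc hZ π hπ
    obtain ⟨eP⟩ := hP₁
    obtain ⟨eQ⟩ := hQ₁
    have hi := fun e => Groth.Agent.Lefpen.H21.PicTwist.isInvertible_pullback_twist B.π e
    have hm := fun e => Groth.Agent.Lefpen.H21.PicTwist.mk_pullback_twist B.π e
    have hv : ∀ q, K700.PicVan.Van P₁ (Groth.Agent.Grpsch.PicGrp.mk _ (hi (-1)))⁻¹ q := by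
      intro q
      refine K700.PicVan.van_sigma_const eP ((K700.PicVan.van_inv_iff (hi (-2))).2 ?_)
      rw [hm, hm, ← zpow_neg, ← zpow_add]
      have h := B.van_base (-1) q (by omega) (by omega)
      have h2 : B.cls (-1) 0 = Groth.Agent.Lefpen.H21.PicTwist.hyp B.π ^ (-2 + -(-1) : ℤ) := by
        simp [K700.BlVan.Setup.cls, K700.BlVan.Setup.h]
      rwa [h2] at h
    refine key inferInstance inferInstance φ (fun G => K700.HomVan.sigma_eq_zero eQ (hi (-1)) (hv 0) G) ?_
    intro F hF y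
    exact K700.HomVan.sigma_lift eQ (hi (-1)) (S := ShortComplex.mk F (cokernel.π F) (cokernel.condition F))
      { exact := ShortComplex.exact_cokernel F } (hv 1) y
  · rintro ⟨β, γ, h⟩
    exact ⟨cokernel.mapIso f f' γ β h⟩

end Groth.Agent.S18619
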