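import Groth.Statements.S18623
import Groth.Agent.VBPn.K700.BlOne

set_option autoImplicit false
universe u
open VBPn

namespace Groth.Agent.S18623

open CategoryTheory CategoryTheory.Limits AlgebraicGeometry TopologicalSpace in
/-- For one blown-up point; let k be an algebraically closed field of characteristic zero, n ≥ 3, p a
closed point of P^n_k and π : X → P^n_k a blow-up of P^n_k in the ideal of p (universal property),
with exceptional divisor e₁ whose ideal sheaf is the inverse image ideal, and O_X(e₀) = π^*O(1); put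
O_X(c e₀ − d e₁) = π^*O(c) ⊗ (ideal of e₁)^{⊗ d} for c ∈ ℤ, d ≥ 0. If d = 0, or if 0 < d ≤ c, then
H^1(X, O_X(c e₀ − d e₁)) = 0. (The published statement also covers no point blown up, where it is
the vanishing of H^1(P^n, O(c)).) -/
theorem result (k : Type u) [Field k] [IsAlgClosed k] [CharZero k]
    (n : ℕ) (hn : 3 ≤ n) (p : ↥(CohB1.ProjSpace n k)) (hp : IsClosed ({p} : Set ↥(CohB1.ProjSpace n k)))
    (X : Scheme.{u}) (π : X ⟶ CohB1.ProjSpace n k)
    (hπ : BlowUp.IsBlowUp π (Scheme.IdealSheafData.vanishingIdeal ⟨{p}, hp⟩))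
    (c : ℤ) (d : ℕ) (hcd : d = 0 ∨ (0 < d ∧ (d : ℤ) ≤ c)) :
    Subsingleton (Coh.HH X (CohB1.tensorMod ((Scheme.Modules.pullback π).obj (Twist.twistProjSpace n k c))
      (CohB1.tensorPow (ClSub.idealMod (BlowUp.exceptional π (Scheme.IdealSheafData.vanishingIdeal ⟨{p}, hp⟩))) d)) 1) := by
  obtain ⟨r, rfl⟩ : ∃ r, n = r + 1 := ⟨n - 1, by omega⟩
  have hr : Set.range (fun _ : Fin 1 => p) = {p} := Set.range_const
  have hZ : IsClosed (Set.range (fun _ : Fin 1 => p)) := by rw [hr]; exact hp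
  have e : (⟨{p}, hp⟩ : Closeds ↥(CohB1.ProjSpace (r + 1) k)) = ⟨Set.range (fun _ : Fin 1 => p), hZ⟩ := by
    ext1; exact hr.symm
  rw [e] at hπ ⊢
  obtain ⟨B, rfl, -, -, hq, hI, hm⟩ := K700.BlOne.exists_setup_exc (P := fun _ : Fin 1 => p)
    (fun a b _ => Subsingleton.elim a b) (fun _ => hp) hZ π hπ
  have h1 := Groth.Agent.Lefpen.H21.PicTwist.isInvertible_pullback_twist B.π c
  have h2 := Groth.Agent.Fdesc.LocGen.isInvertible_tensorPow hI d
  rw [← K700.PicVan.van_unit_mk_iff (Groth.Agent.Fdesc.LocGen.isInvertible_tensorMod h1 h2),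
    ← Groth.Agent.Grpsch.PicGrp.mk_mul_mk h1 h2, Groth.Agent.Lefpen.H21.PicTwist.mk_pullback_twist,
    Groth.Agent.Grpsch.PicGrp.mk_tensorPow hI, hm]
  have h6 : Groth.Agent.Lefpen.H21.PicTwist.hyp B.π = K700.BlOne.cc B 1 0 := B.h_eq
  rw [h6, ← zpow_natCast (K700.BlOne.cc B 0 1), K700.BlOne.cc_zpow, K700.BlOne.cc_zpow, K700.BlOne.cc_mul]
  simp only [mul_one, mul_zero, add_zero, zero_add]
  rcases hcd with rfl | ⟨h3, h4⟩
  · exact K700.BlOne.base B c 1 (by omega) (by omega)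
  · exact K700.BlOne.van_pos B hq le_rfl c d (by omega) (by omega) (by omega) 1 le_rfl

end Groth.Agent.S18623
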