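import Groth.Statements.S18626
-- import your own Groth.Agent.* helpers here
import Groth.Agent.HilbD.K221.FatEx
import Groth.Agent.HilbD.K221.ConeChart
import Groth.Agent.HilbD.K221.ConeEuler

set_option autoImplicit false
universe u
open HilbD

namespace Groth.Agent.S18626

open CategoryTheory CategoryTheory.Limits AlgebraicGeometry TopologicalSpace in
/-- Let k be an algebraically closed field of characteristic zero and X ⊆ P^N_k an n-dimensional cone
with vertex p = [0 : … : 0 : 1] over a projective variety Y ⊆ P^{N−1} = {x_N = 0}: X is an integral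
closed subscheme, ι : X → P^N_k a closed immersion over k whose ideal sheaf is generated by finitely
many homogeneous forms G_j in which the last variable x_N does not occur, of dimension n, and of
degree deg X = ∫ c_1(O_X(1))^n (the intersection number of n copies of O_X(1) = ι^*O(1), computed
with the tensor inverse ι^*O(−1)). For s ≥ 0 let Hilb^s(X) be a scheme H over k with a universal
family of closed subschemes of X ×_k T finite locally free of degree s over T (a representing pair;
representability is assumed through this datum, not asserted). If n > 2 and deg X > 1, or n = 2 and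
deg X > 4, then there is an s₀ such that Hilb^s(X) is reducible for every s ≥ s₀. -/
theorem result (k : Type u) [Field k] [IsAlgClosed k] [CharZero k]
    (N n : ℕ) {m : ℕ} {a : Fin m → ℕ} (G : ∀ j, LefPen.Form N k (a j))
    (hG : ∀ j, ∀ mono ∈ (G j).1.support, mono (Fin.last N) = 0)
    (X : Scheme.{u}) [X.Over (Spec (CommRingCat.of k))] [AlgebraicGeometry.IsIntegral X]
    (ι : X ⟶ CohB1.ProjSpace N k) [IsClosedImmersion ι]
    (hιk : ι ≫ CohB1.ProjSpace.toSpec N k = X ↘ (Spec (CommRingCat.of k)))
    (hker : ι.ker = LefPen.ciIdeal G) (hdim : topologicalKrullDim X = n) (deg : ℤ)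
    (hdeg : FGA.intNum k X n (fun _ : Fin n => (Scheme.Modules.pullback ι).obj (Twist.twistProjSpace N k (-1)))
      (Coh.structureModule X) = deg)
    (h : (2 < n ∧ 1 < deg) ∨ (n = 2 ∧ 4 < deg)) :
    ∃ s₀ : ℕ, ∀ s : ℕ, s₀ ≤ s → ∀ (H : Over (Spec (CommRingCat.of k))) (Z : HilbD.Obj (X ↘ (Spec (CommRingCat.of k))) s H),
      HilbD.IsUniversal (X ↘ (Spec (CommRingCat.of k))) s H Z → ¬ IrreducibleSpace ↥H.left := by
  have hprop : IsProper (X ↘ (Spec (CommRingCat.of k))) := K243.Base.isProper_of ι hιk
  have hn : 1 ≤ n := by omega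
  have hV : IsAffineOpen (K221.ConeSec.U ι (Fin.last N)) :=
    (Groth.Agent.Lefpen.H705.HypIdeal.isAffineOpen_chart _).preimage ι
  have hφ := K221.ConeChart.homKer_toX ι G hG hker
  have hne := K221.ConeChart.nonempty_vertex ι G hG hker
  have hneV : Nonempty (K221.ConeSec.U ι (Fin.last N)) := hne.to_subtype
  letI alg : Algebra k Γ(X, K221.ConeSec.U ι (Fin.last N)) :=
    (Groth.Agent.Picfga.ChiCech.str k (K221.ConeSec.U ι (Fin.last N))).toAlgebra
  have htr : Algebra.trdeg k Γ(X, K221.ConeSec.U ι (Fin.last N)) = n :=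
    K221.ConeChart.trdeg_eq hdim hV hne rfl
  let φ := K221.ConeSec.toX ι (Fin.last N)
  let ψ : MvPolynomial (Fin N) k →ₐ[k] Γ(X, K221.ConeSec.U ι (Fin.last N)) :=
    { φ with commutes' := fun c => K221.ConeSec.toX_C ι hιk (Fin.last N) c }
  have hψ : (ψ : MvPolynomial (Fin N) k →+* Γ(X, K221.ConeSec.U ι (Fin.last N))) = φ := rfl
  have hsurj : Function.Surjective φ := K221.ConeSec.toX_surjective ι _
  have fin : ∀ t, Module.Finite k (Γ(X, K221.ConeSec.U ι (Fin.last N)) ⧸ K221.Cone.vert φ ^ (t + 1)) :=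
    fun t => K221.Cone.finite_quotient (ψ := ψ) hsurj t
  obtain ⟨i, hi⟩ := K221.ConeChart.exists_chart ι hn hdim hne
  obtain ⟨m₀, hm₀⟩ := K221.ConeEuler.exists_hf_eq ι hιk n
  have hcoh : Coh.IsCoh (Coh.structureModule X) :=
    K243.Hilb.isCoh_invertible Groth.Agent.Fdesc.LocGen.isInvertible_structureModule
  have h0 := K243.Hilb.intNum_const_zero k ι n n (Coh.structureModule X)
  have h1 := K243.Hilb.nab_hf k ι n hdim.le (r := n + 1) (Coh.structureModule X) hcoh (by
    rw [K243.Hilb.dim_support_invertible Groth.Agent.Fdesc.LocGen.isInvertible_structureModule, hdim]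
    exact_mod_cast Nat.lt_succ_self n)
  let F : ℕ → ℕ := fun t => Module.finrank k (Γ(X, K221.ConeSec.U ι (Fin.last N)) ⧸ K221.Cone.vert φ ^ t)
  have hF0 : F 0 = 0 := by
    have : Subsingleton (Γ(X, K221.ConeSec.U ι (Fin.last N)) ⧸ K221.Cone.vert φ ^ 0) := by
      rw [pow_zero, Ideal.one_eq_top]
      infer_instance
    exact Module.finrank_zero_of_subsingleton
  obtain ⟨t, c, q, h2, h3⟩ := K221.ConeNum.exists_step h (h0.symm.trans hdeg) h1 hF0 (M := m₀) (fun m hm => by
    rw [hm₀ m hm]
    exact_mod_cast K221.ConeEuler.finrank_H0_le ι rfl hφ i hi m (fin m))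
  refine ⟨F t + c, fun s hs H Z hZ => ?_⟩
  have hlfp : LocallyOfFinitePresentation (X ↘ (Spec (CommRingCat.of k))) :=
    LocallyOfFinitePresentation.iff_locallyOfFiniteType.2 inferInstance
  exact K221.FldPt.not_irreducibleSpace hV.fromSpec (Groth.Agent.LoccohA.OmClosed.fromSpec_comp _ hV) hZ
    (K221.Cone.vert φ) (fun a => by
      obtain ⟨c, hc⟩ := K221.Cone.exists_const hsurj a
      refine ⟨c, ?_⟩
      have h4 : algebraMap k Γ(X, K221.ConeSec.U ι (Fin.last N)) c = φ (MvPolynomial.C c) :=
        (K221.ConeSec.toX_C ι hιk (Fin.last N) c).symm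
      rw [h4]
      exact hc) t (fin t) c q h2.symm.symm n hn htr h3 hs

end Groth.Agent.S18626
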