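import Groth.Statements.S18628
import Groth.Agent.VBPn.K700.BlOne

set_option autoImplicit false
universe u
open VBPn

namespace Groth.Agent.S18628

open CategoryTheory CategoryTheory.Limits AlgebraicGeometry TopologicalSpace in
/-- Let k be an algebraically closed field of characteristic zero, n ≥ 3, Z a set of s ≤ 1 closed points
of P^n_k and π : X → P^n_k a blow-up of P^n_k in the ideal of the reduced set Z (universal
property), with O_X(e₀) = π^*O(1), exceptional ideal I_E (inverse image ideal of Z) and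
anticanonical module H ≅ π^*O(n+1) ⊗ I_E^{⊗(n−1)}. Let f : P → Q be a monomorphism of O_X-modules
with P ≅ O_X(−2e₀)^a and Q ≅ O_X(−e₀)^b, and E = coker f. Then H^i(X, E ⊗ H^{⊗t}) = 0 for every 1 ≤
i ≤ n − 1 and every t ≥ 0. (This is the part of the published statement 'E is arithmetically
Cohen–Macaulay' that concerns non-negative twists; it needs no genericity of f.) -/
theorem result (k : Type u) [Field k] [IsAlgClosed k] [CharZero k]
    (n : ℕ) (hn : 3 ≤ n) (s : ℕ) (P : Fin s → ↥(CohB1.ProjSpace n k)) (hP : Function.Injective P)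
    (hPc : ∀ i, IsClosed ({P i} : Set ↥(CohB1.ProjSpace n k))) (hZ : IsClosed (Set.range P))
    (X : Scheme.{u}) (π : X ⟶ CohB1.ProjSpace n k)
    (hπ : BlowUp.IsBlowUp π (Scheme.IdealSheafData.vanishingIdeal ⟨Set.range P, hZ⟩)) (hs : s ≤ 1)
    (a b : ℕ) (P₁ Q₁ : X.Modules)
    (hP₁ : Nonempty (P₁ ≅ ∐ fun _ : Fin a => (Scheme.Modules.pullback π).obj (Twist.twistProjSpace n k (-2))))
    (hQ₁ : Nonempty (Q₁ ≅ ∐ fun _ : Fin b => (Scheme.Modules.pullback π).obj (Twist.twistProjSpace n k (-1))))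
    (f : P₁ ⟶ Q₁) [Mono f] (Hm : X.Modules)
    (hHm : Nonempty (Hm ≅ CohB1.tensorMod ((Scheme.Modules.pullback π).obj (Twist.twistProjSpace n k ((n : ℤ) + 1)))
      (CohB1.tensorPow (ClSub.idealMod (BlowUp.exceptional π (Scheme.IdealSheafData.vanishingIdeal ⟨Set.range P, hZ⟩))) (n - 1))))
    (i t : ℕ) (hi : 1 ≤ i) (hin : i + 1 ≤ n) :
    Subsingleton (Coh.HH X (CohB1.tensorMod (cokernel f) (CohB1.tensorPow Hm t)) i) := by
  obtain ⟨r, rfl⟩ : ∃ r, n = r + 1 := ⟨n - 1, by omega⟩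
  obtain ⟨B, rfl, hq, hH, hm⟩ := K700.BlOne.exists_setup_H hP hPc hZ π hπ _ _ Hm hHm
  rw [← K700.BlOne.van_pow_iff hH, hm, ← zpow_natCast, K700.BlOne.cc_zpow]
  have e1 : ((r + 1 - 1 : ℕ) : ℤ) = r := by simp
  rw [e1]
  push_cast
  obtain ⟨eP⟩ := hP₁
  obtain ⟨eQ⟩ := hQ₁
  have hi' := fun e => Groth.Agent.Lefpen.H21.PicTwist.isInvertible_pullback_twist B.π e
  have hm' : ∀ e, Groth.Agent.Grpsch.PicGrp.mk _ (hi' e) = K700.BlOne.cc B e 0 := by
    intro e
    rw [Groth.Agent.Lefpen.H21.PicTwist.mk_pullback_twist]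
    have h6 : Groth.Agent.Lefpen.H21.PicTwist.hyp B.π = K700.BlOne.cc B 1 0 := B.h_eq
    rw [h6, K700.BlOne.cc_zpow, mul_one, mul_zero]
  have hS : (ShortComplex.mk f (cokernel.π f) (cokernel.condition f)).ShortExact :=
    { exact := ShortComplex.exact_cokernel f }
  refine K700.PicVan.van₃ hS i ?_ ?_
  · refine K700.PicVan.van_sigma_const eQ ((K700.PicVan.van_inv_iff (hi' (-1))).2 ?_)
    rw [hm', K700.BlOne.cc_mul]
    refine K700.BlOne.van_pos B hq hs _ _ ?_ ?_ ?_ i hi
    · nlinarith [Int.natCast_nonneg t, Int.natCast_nonneg r, mul_nonneg (Int.natCast_nonneg t) (Int.natCast_nonneg r)]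
    · nlinarith [Int.natCast_nonneg t, Int.natCast_nonneg r, mul_nonneg (Int.natCast_nonneg t) (Int.natCast_nonneg r)]
    · nlinarith [Int.natCast_nonneg t, Int.natCast_nonneg r, mul_nonneg (Int.natCast_nonneg t) (Int.natCast_nonneg r)]
  · refine K700.PicVan.van_sigma_const eP ((K700.PicVan.van_inv_iff (hi' (-2))).2 ?_)
    rw [hm', K700.BlOne.cc_mul]
    rcases Nat.eq_zero_or_pos t with rfl | ht
    · simp only [Nat.cast_zero, zero_mul, add_zero]
      exact K700.BlOne.base B (-2) (i + 1) (by omega) (by omega)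
    · have ht' : (1 : ℤ) ≤ t := by exact_mod_cast ht
      refine K700.BlOne.van_pos B hq hs _ _ ?_ ?_ ?_ (i + 1) (by omega)
      · nlinarith [Int.natCast_nonneg t, Int.natCast_nonneg r, mul_nonneg (Int.natCast_nonneg t) (Int.natCast_nonneg r)]
      · nlinarith [Int.natCast_nonneg t, Int.natCast_nonneg r, mul_nonneg (Int.natCast_nonneg t) (Int.natCast_nonneg r)]
      · nlinarith [Int.natCast_nonneg t, Int.natCast_nonneg r, mul_nonneg (Int.natCast_nonneg t) (Int.natCast_nonneg r)]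

end Groth.Agent.S18628
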