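import Groth.Statements.S18630
import Groth.Agent.VBPn.K700.DPUlr
import Groth.Agent.VBPn.K230.DPAmple

set_option autoImplicit false
universe u
open VBPn

namespace Groth.Agent.S18630

open CategoryTheory CategoryTheory.Limits AlgebraicGeometry TopologicalSpace in
/-- For at most seven blown-up points; let k be an algebraically closed field of characteristic zero, s
≤ 7, and p_1, …, p_s distinct closed points of P²_k in general position: no three on a line and no
six on a conic (a point lies on the curve of a nonzero form when it is in the support of its ideal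
sheaf). Let π : X → P²_k be a blow-up of P²_k in the ideal of the reduced set {p_i} (universal
property), X regarded over k through π, with exceptional ideal I_E, O_X(e₀) = π^*O(1), and let H ≅
π^*O(3) ⊗ I_E be the anticanonical module of the del Pezzo surface X, with a tensor inverse H′. Let
r ≥ 2 and let E be the cokernel of a monomorphism f : P → Q of O_X-modules with P ≅ O_X(−2e₀)^r and
Q ≅ O_X(−e₀)^{2r}, E finite locally free of rank r, such that H²(X, E ⊗ H′) = 0. Then: H⁰(X, E) = 0;
H¹(X, E ⊗ H^{⊗t}) = 0 and H¹(X, E ⊗ H′^{⊗t}) = 0 for every t ≥ 0; dim_k H⁰(X, E ⊗ H) = (9 − s)·r =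
(H·H)·rk E; and E ⊗ H is a quotient of a finite free O_X-module. Thus E ⊗ H is an initialized Ulrich
bundle. (The published statement concerns the bundles E pulled back from rank-r bundles on P² with
such a presentation that are μ-stable, and its Ulrich conclusions use stability only through the
vanishing H⁰(E^∨) = H²(E ⊗ H′)^∨ = 0, which is the hypothesis here, while its further conclusion
that E ⊗ H is simple, drawn from that stability, is not restated; it also treats eight points, with
a different argument, not restated.) -/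
theorem result (k : Type u) [Field k] [IsAlgClosed k] [CharZero k]
    (s : ℕ) (hs : s ≤ 7) (P : Fin s → ↥(CohB1.ProjSpace 2 k)) (hP : Function.Injective P)
    (hPc : ∀ i, IsClosed ({P i} : Set ↥(CohB1.ProjSpace 2 k))) (hZ : IsClosed (Set.range P))
    (h3 : ∀ G : LefPen.Form 2 k 1, G ≠ 0 →
      {i : Fin s | P i ∈ ((LefPen.hypIdeal G).support : Set ↥(CohB1.ProjSpace 2 k))}.ncard ≤ 2)
    (h6 : ∀ G : LefPen.Form 2 k 2, G ≠ 0 →
      {i : Fin s | P i ∈ ((LefPen.hypIdeal G).support : Set ↥(CohB1.ProjSpace 2 k))}.ncard ≤ 5)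
    (X : Scheme.{u}) [X.Over (Spec (CommRingCat.of k))] (π : X ⟶ CohB1.ProjSpace 2 k)
    (hπk : π ≫ CohB1.ProjSpace.toSpec 2 k = X ↘ (Spec (CommRingCat.of k)))
    (hπ : BlowUp.IsBlowUp π (Scheme.IdealSheafData.vanishingIdeal ⟨Set.range P, hZ⟩))
    (Hm Hi : X.Modules)
    (hHm : Nonempty (Hm ≅ CohB1.tensorMod ((Scheme.Modules.pullback π).obj (Twist.twistProjSpace 2 k 3))
      (ClSub.idealMod (BlowUp.exceptional π (Scheme.IdealSheafData.vanishingIdeal ⟨Set.range P, hZ⟩)))))
    (hHi : ClSub.IsInverseOf Hi Hm)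
    (r : ℕ) (hr : 2 ≤ r) (P₁ Q₁ : X.Modules)
    (hP₁ : Nonempty (P₁ ≅ ∐ fun _ : Fin r => (Scheme.Modules.pullback π).obj (Twist.twistProjSpace 2 k (-2))))
    (hQ₁ : Nonempty (Q₁ ≅ ∐ fun _ : Fin (2 * r) => (Scheme.Modules.pullback π).obj (Twist.twistProjSpace 2 k (-1))))
    (f : P₁ ⟶ Q₁) [Mono f] (hE : FlatMod.IsFinLocFreeOfRank r (cokernel f))
    (hE2 : Subsingleton (Coh.HH X (CohB1.tensorMod (cokernel f) Hi) 2)) :
    Subsingleton (Coh.HH X (cokernel f) 0) ∧
    (∀ t : ℕ, Subsingleton (Coh.HH X (CohB1.tensorMod (cokernel f) (CohB1.tensorPow Hm t)) 1) ∧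
      Subsingleton (Coh.HH X (CohB1.tensorMod (cokernel f) (CohB1.tensorPow Hi t)) 1)) ∧
    Module.finrank k (Coh.HH X (CohB1.tensorMod (cokernel f) Hm) 0) = (9 - s) * r ∧
    (∃ (N : ℕ) (ψ : FlatMod.freeMod X N ⟶ CohB1.tensorMod (cokernel f) Hm), Epi ψ) := by
  obtain ⟨hgg, hamp⟩ := K230.DPAmple.gg_and_ample (k := k) (s := s) (P := P) hZ π hπk hs hP hPc h3 h6 hπ Hm hHm
  exact K700.DPUlr.main k s (by omega) P hP hPc hZ X π hπk hπ Hm Hi hHm hHi hgg hamp r P₁ Q₁ hP₁ hQ₁ f hE2

end Groth.Agent.S18630
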