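import Groth.Statements.S18631
import Groth.Agent.ShStab.K114.IdealTw
import Groth.Agent.S1535

set_option autoImplicit false
universe u
open VBPn

namespace Groth.Agent.S18631

open CategoryTheory CategoryTheory.Limits AlgebraicGeometry TopologicalSpace in
/-- Let k be an algebraically closed field of characteristic zero and X ⊆ P³_k a smooth integral surface
of degree d ≥ 4: ι : X → P³_k a closed immersion over k whose ideal is that of one form F of degree
d, X proper and smooth over k of dimension 2, polarised by the ample L = ι^*O(1); assume Pic X is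
generated by O_X(1), i.e. every invertible O_X-module is isomorphic to ι^*O(n) for some integer n.
Let Z ⊆ X be a closed subscheme with finite support such that H⁰(X, I_Z ⊗ ι^*O(d−2)) = 0, and let 0
→ O_X → E → I_Z ⊗ ι^*O(d−1) → 0 be a short exact sequence of O_X-modules with E finite locally free
of rank 2. Then E is slope-stable (of dimension 2, with respect to L). (The published statement is
for the rank-2 Ulrich bundles on a general degree-d surface, 4 ≤ d ≤ 15, which come with such a
presentation and vanishing; its argument uses about generality only that Pic X is generated by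
O_X(1), and about E only the displayed data; it concludes through the quoted criterion that a rank-2
bundle on such an X is slope-stable once its normalised twist has no sections.) -/
theorem result (k : Type u) [Field k] [IsAlgClosed k] [CharZero k]
    (X : Scheme.{u}) [X.Over (Spec (CommRingCat.of k))] [AlgebraicGeometry.IsIntegral X]
    [IsProper (X ↘ (Spec (CommRingCat.of k)))] [Smooth (X ↘ (Spec (CommRingCat.of k)))]
    (hdim : topologicalKrullDim X = 2)
    (ι : X ⟶ CohB1.ProjSpace 3 k) [IsClosedImmersion ι] (hιk : ι ≫ CohB1.ProjSpace.toSpec 3 k = X ↘ (Spec (CommRingCat.of k)))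
    (hL : CohB1.IsAmple ((Scheme.Modules.pullback ι).obj (Twist.twistProjSpace 3 k (1))))
    (d : ℕ) (hd : 4 ≤ d) (F : LefPen.Form 3 k d) (hF : ι.ker = LefPen.hypIdeal F)
    (hPic : ∀ M : X.Modules, PicF.IsInvertible M → ∃ n : ℤ, Nonempty (M ≅ ((Scheme.Modules.pullback ι).obj (Twist.twistProjSpace 3 k (n)))))
    (Z : X.IdealSheafData) (hZfin : (Z.support : Set X).Finite)
    (hZ : Subsingleton (Coh.HH X (CohB1.tensorMod (ClSub.idealMod Z) ((Scheme.Modules.pullback ι).obj (Twist.twistProjSpace 3 k ((d : ℤ) - 2)))) 0))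
    (S : ShortComplex X.Modules) (hS : S.ShortExact)
    (h₁ : Nonempty (S.X₁ ≅ Coh.structureModule X))
    (h₃ : Nonempty (S.X₃ ≅ CohB1.tensorMod (ClSub.idealMod Z) ((Scheme.Modules.pullback ι).obj (Twist.twistProjSpace 3 k ((d : ℤ) - 1)))))
    (hE : FlatMod.IsFinLocFreeOfRank 2 S.X₂) :
    ShStab.IsMuStable k X ((Scheme.Modules.pullback ι).obj (Twist.twistProjSpace 3 k (1))) S.X₂ 2 := by
  have hreg : ∀ x : X, IsRegularLocalRing (X.presheaf.stalk x) := Groth.Agent.S1535.result k X
  have := Groth.Agent.Fga.SnapperTwist.isNoetherian_of_proper k X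
  let T : ℤ → X.Modules := fun a => (Scheme.Modules.pullback ι).obj (Twist.twistProjSpace 3 k a)
  have hT : ∀ a, PicF.IsInvertible (T a) := fun a =>
    Groth.Agent.Fdesc.LocGen.isInvertible_pullback ι (Groth.Agent.Ega3B.ProjFrame.isInvertible_twistProjSpace 3 k a)
  have hmul : ∀ a b, Groth.Agent.Fga.PicMon.mc (T a) * Groth.Agent.Fga.PicMon.mc (T b) =
      Groth.Agent.Fga.PicMon.mc (T (a + b)) := by
    intro a b
    rw [← Groth.Agent.Fga.PicMon.mc_tensor]
    obtain ⟨e⟩ := Groth.Agent.Sga67.TwistProj.nonempty_mul 3 k a b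
    exact (Groth.Agent.Fga.PicMon.mc_eq_iff _ _).2 ⟨(Groth.Agent.Ega3B.PullTensor.pullTensorIso ι
      (Groth.Agent.Ega3B.ProjFrame.isInvertible_twistProjSpace 3 k a)
      (Groth.Agent.Ega3B.ProjFrame.isInvertible_twistProjSpace 3 k b)).symm ≪≫
        (Scheme.Modules.pullback ι).mapIso e⟩
  have h0 : Groth.Agent.Fga.PicMon.mc (T 0) = 1 := by
    rw [← Groth.Agent.Fga.PicMon.mc_one]
    obtain ⟨e⟩ := Groth.Agent.Ega2.TwistInv.nonempty_unit_iso (CohB1.polyGrading 3 k)
    obtain ⟨e'⟩ := Groth.Agent.Ega3B.PullTensor.nonempty_pullUnitIso ι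
    exact (Groth.Agent.Fga.PicMon.mc_eq_iff _ _).2 ⟨(Scheme.Modules.pullback ι).mapIso e.symm ≪≫ e'⟩
  obtain ⟨s, hs⟩ := K114.IdealTw.exists_section ι
  obtain ⟨e₁⟩ := h₁
  obtain ⟨e₃⟩ := h₃
  have hn : topologicalKrullDim X = ((2 : ℕ) : WithBot ℕ∞) := hdim
  have hEf : FlatMod.IsFinLocFree S.X₂ := fun x => by
    obtain ⟨U, hx, e⟩ := hE x
    exact ⟨U, 2, hx, e⟩
  have hEc : Coh.IsCoh S.X₂ := Groth.Agent.PerfA.CohSerre.isCoh_of_isFinLocFree hEf
  obtain ⟨hNc, hNt, hNr, hNα⟩ := K114.IdealTw.facts_ideal k hL hn le_rfl Z hZfin (hT ((d : ℤ) - 1))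
  have h3t : TorSh.IsTorsionFree S.X₃ := K848.TF.isTorsionFree_iso e₃.symm hNt
  have h3r : K848.Hull.rk S.X₃ = 1 := by rw [K848.Rank.rk_iso e₃]; exact hNr
  refine K114.Twists.isMuStable_of_twists k hT hmul h0 hL hn one_le_two hreg hPic hs S hS e₁ hEc hEf h3t h3r
    ((d : ℤ) - 1) (by omega) ?_ ?_
  · rw [← hNα]
    congr 1
    exact K848.HB.hp_iso k hL.1 hNc e₃.symm
  · intro t
    by_contra ht
    have h3c : Coh.IsCoh S.X₃ := Groth.Agent.PerfA.CohSerre.isCoh_of_iso e₃.symm hNc
    have htm : Mono t := (K848.Extn.eq_zero_or_mono (K848.Rank.isCoh_of_isInvertible (hT 1))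
      (K848.Hull2.isTorsionFree_of_isInvertible (hT 1)) (K848.Hull.rk_structureModule_of_isInvertible (hT 1))
      h3c h3t t).resolve_left ht
    obtain ⟨g, hg⟩ := K114.Twists.exists_mono_tensor (M' := Coh.structureModule X)
      (N' := CohB1.tensorMod (ClSub.idealMod Z) (T ((d : ℤ) - 2))) (hT (-1)) t
      (by rw [hmul, Groth.Agent.Fga.PicMon.mc_one]; exact h0.symm) (by
        rw [(Groth.Agent.Fga.PicMon.mc_eq_iff _ _).2 ⟨e₃⟩, Groth.Agent.Fga.PicMon.mc_tensor,
          Groth.Agent.Fga.PicMon.mc_tensor, mul_assoc]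
        congr 1
        refine (hmul _ _).trans ?_
        congr 2
        ring)
    have hg0 := K114.Twists.hom_eq_zero hZ g
    have h4 : IsZero (Coh.structureModule X) := by
      rw [IsZero.iff_id_eq_zero, ← cancel_mono g, hg0]
      simp
    exact K114.Twists.not_isZero_of_isInvertible Groth.Agent.Fdesc.LocGen.isInvertible_structureModule h4

end Groth.Agent.S18631
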