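import Groth.Statements.S18632
import Groth.Agent.VBPn.K700.BlOne

set_option autoImplicit false
universe u
open VBPn

namespace Groth.Agent.S18632

open CategoryTheory CategoryTheory.Limits AlgebraicGeometry TopologicalSpace in
/-- Let k be an algebraically closed field of characteristic zero, n ≥ 3, Z a set of s ≤ 1 closed points
of P^n_k and π : X → P^n_k a blow-up of P^n_k in the ideal of the reduced set Z (universal
property), with exceptional ideal I_E (inverse image ideal of Z) and anticanonical module H ≅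
π^*O(n+1) ⊗ I_E^{⊗(n−1)}, with a tensor inverse H′. Then H^i(X, H^{⊗t}) = 0 and H^i(X, H′^{⊗t}) = 0
for every 1 ≤ i ≤ n − 1 and every t ≥ 0: O_X has no intermediate cohomology in any anticanonical
twist. (The published statement is that X, embedded by the very ample H, is arithmetically
Cohen–Macaulay; the part asserting that the ideal of the embedded X has no H¹ in any twist is not
restated.) -/
theorem result (k : Type u) [Field k] [IsAlgClosed k] [CharZero k]
    (n : ℕ) (hn : 3 ≤ n) (s : ℕ) (P : Fin s → ↥(CohB1.ProjSpace n k)) (hP : Function.Injective P)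
    (hPc : ∀ i, IsClosed ({P i} : Set ↥(CohB1.ProjSpace n k))) (hZ : IsClosed (Set.range P))
    (X : Scheme.{u}) (π : X ⟶ CohB1.ProjSpace n k)
    (hπ : BlowUp.IsBlowUp π (Scheme.IdealSheafData.vanishingIdeal ⟨Set.range P, hZ⟩)) (hs : s ≤ 1)
    (Hm Hi : X.Modules)
    (hHm : Nonempty (Hm ≅ CohB1.tensorMod ((Scheme.Modules.pullback π).obj (Twist.twistProjSpace n k ((n : ℤ) + 1)))
      (CohB1.tensorPow (ClSub.idealMod (BlowUp.exceptional π (Scheme.IdealSheafData.vanishingIdeal ⟨Set.range P, hZ⟩))) (n - 1))))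
    (hHi : ClSub.IsInverseOf Hi Hm) (i t : ℕ) (hi : 1 ≤ i) (hin : i + 1 ≤ n) :
    Subsingleton (Coh.HH X (CohB1.tensorPow Hm t) i) ∧ Subsingleton (Coh.HH X (CohB1.tensorPow Hi t) i) := by
  obtain ⟨r, rfl⟩ : ∃ r, n = r + 1 := ⟨n - 1, by omega⟩
  obtain ⟨B, -, hq, hH, hm⟩ := K700.BlOne.exists_setup_H hP hPc hZ π hπ _ _ Hm hHm
  obtain ⟨hI, hm'⟩ := K700.BlOne.exists_mk_inverse hH hHi
  rw [← K700.BlOne.van_unit_pow_iff hH, ← K700.BlOne.van_unit_pow_iff hI, hm', hm, K700.BlOne.cc_inv,
    ← zpow_natCast, ← zpow_natCast, K700.BlOne.cc_zpow, K700.BlOne.cc_zpow]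
  have e1 : ((r + 1 - 1 : ℕ) : ℤ) = r := by simp
  rw [e1]
  push_cast
  constructor
  · refine K700.BlOne.van_pos B hq hs _ _ ?_ ?_ ?_ i hi
    · nlinarith [Int.natCast_nonneg t, Int.natCast_nonneg r, mul_nonneg (Int.natCast_nonneg t) (Int.natCast_nonneg r)]
    · nlinarith [Int.natCast_nonneg t, Int.natCast_nonneg r, mul_nonneg (Int.natCast_nonneg t) (Int.natCast_nonneg r)]
    · nlinarith [Int.natCast_nonneg t, Int.natCast_nonneg r, mul_nonneg (Int.natCast_nonneg t) (Int.natCast_nonneg r)]
  · rcases Nat.lt_or_ge i r with h1 | h1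
    · refine K700.BlOne.van_midneg B hs _ _ ?_ i hi h1
      nlinarith [mul_nonneg (Int.natCast_nonneg t) (Int.natCast_nonneg r)]
    · obtain rfl : i = r := by omega
      rcases Nat.eq_zero_or_pos t with rfl | ht
      · simp only [Nat.cast_zero, zero_mul]
        exact K700.BlOne.base B 0 i (by omega) (by omega)
      · have h2 := K700.BlOne.van_lastneg B hq hs hi ((t : ℤ) * -((i : ℤ) + 1 + 1)) (t * i) (by
          push_cast
          nlinarith [mul_nonneg (Int.natCast_nonneg t) (Int.natCast_nonneg i)])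
        have e2 : (-((t * i : ℕ) : ℤ)) = (t : ℤ) * -(i : ℤ) := by push_cast; ring
        rwa [e2] at h2

end Groth.Agent.S18632
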