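import Groth.Statements.S18637
import Groth.Agent.GrLC.K761.InjCrit
import Groth.Agent.GrLC.K759.Ess
import Groth.Agent.GrLC.K759.Prime

set_option autoImplicit false
universe u
open GrLC

namespace Groth.Agent.S18637

/-- Let R be a commutative Noetherian ℤ-graded ring and m a maximal ideal of R which is graded. If e :
R/m → E is a *injective envelope of R/m in the category of graded R-modules (E graded and
*injective, e degree-preserving and injective, every nonzero graded submodule of E meeting the
image), then e is an injective hull of R/m as an ordinary R-module: E is an injective R-module and e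
is an essential injection. -/
theorem result (R : Type u) [CommRing R] [IsNoetherianRing R] (𝒜 : ℤ → AddSubgroup R) [GradedRing 𝒜] (m : HomogeneousIdeal 𝒜) [m.toIdeal.IsMaximal] (E' : Type u) [AddCommGroup E'] [Module R E'] (𝓔 : ℤ → AddSubgroup E') [DirectSum.Decomposition 𝓔] [SetLike.GradedSMul 𝒜 𝓔] (e : (R ⧸ m.toIdeal) →ₗ[R] E') (he : GrLC.IsStarInjHull 𝒜 (GrLC.quotGr 𝒜 m) 𝓔 e) : InjHull.IsInjectiveHull e := by
  letI := K759.Prime.quotDec m
  have hess : InjHull.IsEssentialInj e := K759.Ess.isEssentialInj (𝒜 := 𝒜) he.toIsStarEss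
  refine ⟨hess, ?_⟩
  refine K761.Baer.injective_of_core_notMem_ass 𝒜 𝓔 he.starInj fun p hp hph hass => ?_
  set q := (Ideal.homogeneousCore 𝒜 p).toIdeal with hq
  have hqle : q ≤ p := Ideal.toIdeal_homogeneousCore_le 𝒜 p
  obtain ⟨hqp, x, hx⟩ := (Submodule.isAssociatedPrime_iff).1 (AssociatedPrimes.mem_iff.1 hass)
  have hxq : ∀ r : R, r ∈ q ↔ r • x = 0 := by
    intro r
    rw [hx, Submodule.mem_colon_singleton, Submodule.mem_bot]
  have hx0 : x ≠ 0 := by
    intro h0
    apply hqp.ne_top
    rw [Ideal.eq_top_iff_one, hxq, h0, smul_zero]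
  have hspan : Submodule.span R {x} ≠ ⊥ := by
    rwa [Ne, Submodule.span_singleton_eq_bot]
  obtain ⟨z, hz, hz0⟩ := (Submodule.ne_bot_iff _).1 (hess.essential _ hspan)
  obtain ⟨hz1, y, hy⟩ := hz
  obtain ⟨r, rfl⟩ := Submodule.mem_span_singleton.1 hz1
  have hrq : r ∉ q := fun h => hz0 ((hxq r).1 h)
  have hmq : m.toIdeal ≤ q := by
    intro s hs
    have h1 : s • (r • x) = 0 := by
      rw [← hy, ← map_smul]
      have : s • y = 0 := by
        obtain ⟨t, rfl⟩ := Ideal.Quotient.mk_surjective y
        rw [← Ideal.Quotient.mk_eq_mk, ← Submodule.Quotient.mk_smul, Submodule.Quotient.mk_eq_zero]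
        exact m.toIdeal.mul_mem_right _ hs
      rw [this, map_zero]
    rw [smul_smul, ← hxq] at h1
    exact (hqp.mem_or_mem h1).resolve_right hrq
  have hmp : m.toIdeal = p := Ideal.IsMaximal.eq_of_le inferInstance hp.ne_top (hmq.trans hqle)
  exact hph (hmp ▸ m.isHomogeneous)

end Groth.Agent.S18637
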