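import Groth.Statements.S18638
import Groth.Agent.GrLC.K759.CanShift
import Groth.Agent.S13244
import Groth.Agent.GrLC.K759.AcycInj

set_option autoImplicit false
universe u
open GrLC

namespace Groth.Agent.S18638

/-- Let R be a graded ring defined over a field which is Cohen–Macaulay, and K_R its canonical module.
Then R is Gorenstein exactly when K_R is isomorphic to a degree shift R(a) of R for some integer a,
that is, there is a bijective R-linear map R → K_R homogeneous of some fixed degree. Here 'graded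
ring defined over a field' means R = ⊕_{n ≥ 0} R_n is Noetherian with R_0 a field (so R is finitely
generated over R_0), m = R_+ is its unique graded maximal ideal and n = dim R; the canonical module
K_R (the graded dual of H^n_m(R)) is represented by a finitely generated graded module C together
with a homogeneous isomorphism from Hom_R(C, E) onto H^n_m(R), where E is a *injective envelope of
R/m and H^n_m(R) is computed from a *injective resolution of R in the graded category; by graded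
Matlis duality this says exactly that C ≅ K_R as graded modules. -/
theorem result (R : Type u) [CommRing R] [LocCoh.IsCohenMacaulayRing R] (𝒜 : ℤ → AddSubgroup R) [GradedRing 𝒜] (hpos : ∀ n : ℤ, n < 0 → 𝒜 n = ⊥) (h0 : IsField (GrLC.deg0 𝒜)) (m : HomogeneousIdeal 𝒜) (hm : GrLC.IsStarLocal 𝒜 m) (hmsp : m.toIdeal = Ideal.span (⋃ n ∈ Set.Ioi (0 : ℤ), (𝒜 n : Set R))) (n : ℕ) (hn : ringKrullDim R = n) (I : GrLC.StarInjRes 𝒜 𝒜) (E' : Type u) [AddCommGroup E'] [Module R E'] (𝓔 : ℤ → AddSubgroup E') [DirectSum.Decomposition 𝓔] [SetLike.GradedSMul 𝒜 𝓔] (e : (R ⧸ m.toIdeal) →ₗ[R] E') (he : GrLC.IsStarInjHull 𝒜 (GrLC.quotGr 𝒜 m) 𝓔 e) (C : Type u) [AddCommGroup C] [Module R C] (𝒞 : ℤ → AddSubgroup C) [DirectSum.Decomposition 𝒞] [SetLike.GradedSMul 𝒜 𝒞] (hC : GrLC.IsStarCanonical 𝒜 𝒞 𝓔 m n I) : LocCoh.IsGorensteinRing R ↔ ∃ (a : ℤ) (f : R →ₗ[R] C), Function.Bijective f ∧ GrLC.IsGrHomDeg 𝒜 𝒞 f a := by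
  have hpos' : ∀ n : ℤ, n < 0 → ∀ x ∈ 𝒜 n, x = 0 := fun n hn x hx => by
    rw [hpos n hn] at hx
    exact hx
  have hmax : m.toIdeal.IsMaximal := K763.GrField.isMaximal 𝒜 hpos h0 hmsp
  have hmp : m.toIdeal.IsPrime := hmax.isPrime
  have hht : m.toIdeal.height = n := by
    have := K763.GrField.height_eq_ringKrullDim 𝒜 hpos h0 hmsp
    rw [hn] at this
    exact WithBot.coe_injective this
  obtain ⟨hfin, φ, -⟩ := hC
  constructor
  · intro hG
    obtain ⟨g, φ₁, -⟩ := Groth.Agent.S13244.result R 𝒜 m hm n hht I E' 𝓔 e he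
    exact K759.CanShift.exists_shift hpos' hm h0 hmsp he (φ ≪≫ₗ φ₁)
  · rintro ⟨a, f, hf, -⟩
    have hCM : LocCoh.IsCohenMacaulayLocalRing (Localization.AtPrime m.toIdeal) :=
      LocCoh.IsCohenMacaulayRing.isCohenMacaulayLocalRing_localization m.toIdeal
    obtain ⟨e1⟩ := K759.AcycInj.nonempty_equiv I m n
    have e2 : (C →ₗ[R] E') ≃ₗ[R] (R →ₗ[R] E') :=
      LinearEquiv.congrLeft E' R (LinearEquiv.ofBijective f hf).symm
    exact K759.GorLoc.isGorensteinRing hm
      (K759.GorInj.isGorensteinLocalRing n hht he.starInj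
        (e1.symm ≪≫ₗ φ.symm ≪≫ₗ e2 ≪≫ₗ LinearMap.ringLmapEquivSelf R R E'))

end Groth.Agent.S18638
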