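import Groth.Statements.S18639
import Groth.Agent.GrLC.K762.CMod

set_option autoImplicit false
universe u
open GrLC

namespace Groth.Agent.S18639

open K762.Base K762.Nak K762.Reg K762.Param K762.Soc K762.Ht K762.Ext K762.Fld K762.AInv K762.Can K762.Pair
  RingTheory.Sequence

/-- Let R be a graded ring defined over a field which is Cohen–Macaulay, with graded maximal ideal m and
canonical module K_R. Then (i) K_R is a Cohen–Macaulay R-module — stated here at m: the localisation
of K_R at m is a Cohen–Macaulay module over R_m, which is what the published proof computes (the Ext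
groups of the residue field into K_R vanish outside degree n = dim R) — and (ii) K_R has finite
injective dimension as an R-module. Here 'graded ring defined over a field' means R = ⊕_{n ≥ 0} R_n
is Noetherian with R_0 a field (so R is finitely generated over R_0), m = R_+ is its unique graded
maximal ideal and n = dim R; the canonical module K_R (the graded dual of H^n_m(R)) is represented
by a finitely generated graded module C together with a homogeneous isomorphism from Hom_R(C, E)
onto H^n_m(R), where E is a *injective envelope of R/m and H^n_m(R) is computed from a *injective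
resolution of R in the graded category; by graded Matlis duality this says exactly that C ≅ K_R as
graded modules. -/
theorem result (R : Type u) [CommRing R] [LocCoh.IsCohenMacaulayRing R] (𝒜 : ℤ → AddSubgroup R) [GradedRing 𝒜] (hpos : ∀ n : ℤ, n < 0 → 𝒜 n = ⊥) (h0 : IsField (GrLC.deg0 𝒜)) (m : HomogeneousIdeal 𝒜) (hm : GrLC.IsStarLocal 𝒜 m) (hmsp : m.toIdeal = Ideal.span (⋃ n ∈ Set.Ioi (0 : ℤ), (𝒜 n : Set R))) [m.toIdeal.IsMaximal] (n : ℕ) (hn : ringKrullDim R = n) (I : GrLC.StarInjRes 𝒜 𝒜) (E' : Type u) [AddCommGroup E'] [Module R E'] (𝓔 : ℤ → AddSubgroup E') [DirectSum.Decomposition 𝓔] [SetLike.GradedSMul 𝒜 𝓔] (e : (R ⧸ m.toIdeal) →ₗ[R] E') (he : GrLC.IsStarInjHull 𝒜 (GrLC.quotGr 𝒜 m) 𝓔 e) (C : Type u) [AddCommGroup C] [Module R C] (𝒞 : ℤ → AddSubgroup C) [DirectSum.Decomposition 𝒞] [SetLike.GradedSMul 𝒜 𝒞] (hC : GrLC.IsStarCanonical 𝒜 𝒞 𝓔 m n I) : LocCoh.IsCohenMacaulayModule (Localization.AtPrime m.toIdeal) (LocalizedModule m.toIdeal.primeCompl C) ∧ ∃ N : ℕ, CategoryTheory.HasInjectiveDimensionLT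 (ModuleCat.of R C) N := by
  let _ : Field (deg0 𝒜) := h0.toField
  have h : PosField (deg0 𝒜) 𝒜 m.toIdeal := posField hpos h0 hmsp
  have hnt := nontrivial_of_dim hn
  obtain ⟨D, hD, -, -, θ, hθ, ⟨N, hN⟩, hreg⟩ := exists_parameters h hn one_pos 0
  obtain ⟨hCp, lam, hp⟩ := exists_canPair h hθ (fun _ => hD) hreg hN I he hC
  have hRp : IsParam (deg0 𝒜) 𝒜 θ := ⟨⟨0, fun i hi x hx => h.pos i hi x hx⟩, hreg,
    finite_quotient (M := R) h.exists_sub_mem N _ (by
      rw [smul_eq_mul, smul_eq_mul, Ideal.mul_top, Ideal.mul_top]; exact hN)⟩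
  have hJ1 : (1 : R) ∉ Ideal.span (Set.range θ) := by
    intro h1
    exact h.ne_top ((Ideal.eq_top_iff_one _).mpr (span_range_le h hθ (fun _ => hD) h1))
  have hCn : Nontrivial C := by
    obtain ⟨c, -, hc⟩ := hp.left 0 1 (SetLike.one_mem_graded 𝒜) hJ1
    refine ⟨c, 0, fun h0 => hc ?_⟩
    rw [h0, smul_zero, map_zero]
  have := hC.1
  exact ⟨K762.CMod.isCohenMacaulayModule 𝒞 h hn (fun i => h.mem_of_pos hD (hθ i)) hCp.reg,
    K762.Gor.exists_hasInjectiveDimensionLT h hθ (fun _ => hD) hRp hCp hp⟩

end Groth.Agent.S18639
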