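import Groth.Statements.S18640
import Groth.Agent.GrLC.K762.Bass

set_option autoImplicit false
universe u
open scoped TensorProduct
open GrLC

namespace Groth.Agent.S18640

open K762.Base K762.Nak K762.Reg K762.Param K762.Soc K762.Ht K762.Ext K762.Fld K762.AInv K762.Can K762.Pair
  K762.Bass K963.Iface RingTheory.Sequence

/-- Let R be a graded ring defined over a field which is Cohen–Macaulay, with graded maximal ideal m, n
= dim R, residue field k = R/m and canonical module K_R. Then (iii) the type of K_R is 1: the Bass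
number μ_n(m, K_R), the k-dimension of Ext^n over R_m of k into (K_R)_m, equals 1; and (iv) the type
of R, namely μ_n(m, R), equals ν(K_R) = dim_k (K_R / m K_R), the minimal number of generators of K_R
(written as the k-dimension of k ⊗_R K_R). Here 'graded ring defined over a field' means R = ⊕_{n ≥
0} R_n is Noetherian with R_0 a field (so R is finitely generated over R_0), m = R_+ is its unique
graded maximal ideal and n = dim R; the canonical module K_R (the graded dual of H^n_m(R)) is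
represented by a finitely generated graded module C together with a homogeneous isomorphism from
Hom_R(C, E) onto H^n_m(R), where E is a *injective envelope of R/m and H^n_m(R) is computed from a
*injective resolution of R in the graded category; by graded Matlis duality this says exactly that C
≅ K_R as graded modules. -/
theorem result (R : Type u) [CommRing R] [LocCoh.IsCohenMacaulayRing R] (𝒜 : ℤ → AddSubgroup R) [GradedRing 𝒜] (hpos : ∀ n : ℤ, n < 0 → 𝒜 n = ⊥) (h0 : IsField (GrLC.deg0 𝒜)) (m : HomogeneousIdeal 𝒜) (hm : GrLC.IsStarLocal 𝒜 m) (hmsp : m.toIdeal = Ideal.span (⋃ n ∈ Set.Ioi (0 : ℤ), (𝒜 n : Set R))) [m.toIdeal.IsMaximal] (n : ℕ) (hn : ringKrullDim R = n) (I : GrLC.StarInjRes 𝒜 𝒜) (E' : Type u) [AddCommGroup E'] [Module R E'] (𝓔 : ℤ → AddSubgroup E') [DirectSum.Decomposition 𝓔] [SetLike.GradedSMul 𝒜 𝓔] (e : (R ⧸ m.toIdeal) →ₗ[R] E') (he : GrLC.IsStarInjHull 𝒜 (GrLC.quotGr 𝒜 m) 𝓔 e) (C : Type u) [AddCommGroup C] [Module R C] (𝒞 : ℤ → AddSubgroup C) [DirectSum.Decomposition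 𝒞] [SetLike.GradedSMul 𝒜 𝒞] (hC : GrLC.IsStarCanonical 𝒜 𝒞 𝓔 m n I) : GrLC.bassNum m.toIdeal C n = 1 ∧ GrLC.bassNum m.toIdeal R n = (Module.finrank (R ⧸ m.toIdeal) ((R ⧸ m.toIdeal) ⊗[R] C) : ℕ∞) := by
  let _ : Field (deg0 𝒜) := h0.toField
  have h : PosField (deg0 𝒜) 𝒜 m.toIdeal := posField hpos h0 hmsp
  have hnt := nontrivial_of_dim hn
  obtain ⟨D, hD, -, -, θ, hθ, ⟨N, hN⟩, hreg⟩ := exists_parameters h hn one_pos 0
  obtain ⟨hCp, lam, hp⟩ := exists_canPair h hθ (fun _ => hD) hreg hN I he hC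
  have hθm : ∀ i, θ i ∈ m.toIdeal := fun i => h.mem_of_pos hD (hθ i)
  have hJm : Ideal.span (Set.range θ) ≤ m.toIdeal := span_range_le h hθ fun _ => hD
  have hJ1 : (1 : R) ∉ Ideal.span (Set.range θ) := by
    intro h1
    exact h.ne_top ((Ideal.eq_top_iff_one _).mpr (hJm h1))
  have hfR : Module.Finite (deg0 𝒜) (R ⧸ (Ideal.span (Set.range θ) • ⊤ : Submodule R R)) :=
    finite_quotient (M := R) h.exists_sub_mem N _ (by
      rw [smul_eq_mul, smul_eq_mul, Ideal.mul_top, Ideal.mul_top]; exact hN)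
  have hfC : Module.Finite (deg0 𝒜) (C ⧸ (Ideal.span (Set.range θ) • ⊤ : Submodule R C)) := hCp.fin
  obtain ⟨F⟩ := nonempty_res 𝒜 𝒞
  constructor
  · rw [bassNum_eq h hθ hθm hCp.reg hN F, finrank_soc_eq_one h hp hJ1, Nat.cast_one]
  · rw [bassNum_eq h hθ hθm hreg hN I, finrank_soc_eq hp hJm, finrank_tensor h]

end Groth.Agent.S18640
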