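import Groth.Statements.S18641
import Groth.Agent.GrLC.K762.VerP

set_option autoImplicit false
universe u
open GrLC

namespace Groth.Agent.S18641

open K762.Base K762.Nak K762.Reg K762.Param K762.Soc K762.Ht K762.Ext K762.Fld K762.AInv K762.Pair
  K762.VerP K763.Ver RingTheory.Sequence

/-- Let R be a graded ring defined over a field which is Gorenstein, and let q ≥ 1 be an integer
dividing the a-invariant a(R). Then the Veronese subring R^(q) is a Gorenstein ring. Here 'graded
ring defined over a field' means R = ⊕_{n ≥ 0} R_n is Noetherian with R_0 a field, and m = R_+ is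
its unique graded maximal ideal. The a-invariant a(R) is the largest degree in which the graded
local cohomology H^n_m(R) (n = dim R, m = R_+), computed from a *injective resolution of R in the
graded category, is nonzero. The Veronese subring R^(q) = ⊕_j R_{jq}, regraded by (R^(q))_j =
R_{jq}, is presented abstractly as a ℤ-graded ring R' with an injective ring homomorphism φ : R' → R
carrying R'_j onto R_{jq} for every j. -/
theorem result (R : Type u) [CommRing R] [LocCoh.IsGorensteinRing R] (𝒜 : ℤ → AddSubgroup R) [GradedRing 𝒜] (hpos : ∀ n : ℤ, n < 0 → 𝒜 n = ⊥) (h0 : IsField (GrLC.deg0 𝒜)) (m : HomogeneousIdeal 𝒜) (hm : GrLC.IsStarLocal 𝒜 m) (hmsp : m.toIdeal = Ideal.span (⋃ n ∈ Set.Ioi (0 : ℤ), (𝒜 n : Set R))) (n : ℕ) (hn : ringKrullDim R = n) (I : GrLC.StarInjRes 𝒜 𝒜) (a : ℤ) (ha : GrLC.endDeg (I.Hgr m n) = ((a : WithTop ℤ) : WithBot (WithTop ℤ))) (q : ℕ) (hq : 0 < q) (R' : Type u) [CommRing R'] (𝒜' : ℤ → AddSubgroup R') [GradedRing 𝒜'] (φ : R' →+* R)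 (hφ : Function.Injective φ) (hdeg : ∀ j : ℤ, (𝒜' j).map (φ : R' →+ R) = 𝒜 (j * q)) (hdvd : (q : ℤ) ∣ a) : LocCoh.IsGorensteinRing R' := by
  have D : Data 𝒜 𝒜' φ q := ⟨hq, hφ, hdeg⟩
  have hCM : LocCoh.IsCohenMacaulayRing R := cm_of_gorenstein inferInstance
  have h0' := isField_deg0 D h0
  let _ : Field (deg0 𝒜') := h0'.toField
  let _ : Algebra (deg0 𝒜') R := algV φ 𝒜'
  have h : PosField (deg0 𝒜') 𝒜 m.toIdeal := posField_base D hpos h0' hmsp
  have h' : PosField (deg0 𝒜') 𝒜' (mV 𝒜') := posField_ver D hpos h0'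
  have hnt := nontrivial_of_dim hn
  have hnoe' : IsNoetherianRing R' := D.isNoetherianRing
  obtain ⟨d, hd, -, ⟨d', rfl⟩, θ, hθ, ⟨N, hN⟩, hreg⟩ := exists_parameters h hn hq 0
  rw [mul_comm] at hd
  simp only [mul_comm (q : ℤ) d'] at hθ
  have hd' : 0 < d' := pos_of_mul_pos_left hd (by positivity)
  choose θ' hθ' hφθ using fun i => D.exists_eq (hθ i)
  obtain rfl : (fun i => φ (θ' i)) = θ := funext hφθ
  obtain ⟨s, t, hs⟩ := exists_of_gorenstein (by rw [hn]; exact WithBot.coe_lt_coe.mpr (WithTop.coe_lt_top _))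
    h hθ (fun _ => hd) hreg hN
  have hsa := (socP_degree h hθ (fun _ => hd) hreg hN hs I).mp ha
  obtain ⟨b, rfl⟩ := hdvd
  obtain ⟨t', ht'⟩ := socP_ver D (d := d') hθ' hs (t := b + n * d') (by
    rw [hsa]
    simp
    ring)
  obtain ⟨lam, hp, -⟩ := ht'.exists_canPair h'
  have hN' := pow_le_ver D hmsp hN
  refine K762.Gor.isGorensteinRing h' hθ' (fun _ => hd') ⟨⟨0, fun i hi x hx => h'.pos i hi x hx⟩,
    isWeaklyRegular_ver D hreg, finite_quotient (M := R') h'.exists_sub_mem N _ (by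
      rw [smul_eq_mul, smul_eq_mul, Ideal.mul_top, Ideal.mul_top]; exact hN')⟩ hp

end Groth.Agent.S18641
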