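import Groth.Statements.S18642
import Groth.Agent.GrLC.K762.VerGor

set_option autoImplicit false
universe u
open GrLC

namespace Groth.Agent.S18642

open K762.Base K762.Nak K762.Reg K762.Param K762.Soc K762.Ht K762.Ext K762.Fld K762.AInv K762.Pair
  K762.VerP K762.Std K762.VerGor K763.Ver RingTheory.Sequence

/-- Let R be a graded ring defined over a field which is Cohen–Macaulay and generated over R_0 by R_1,
with dim R ≥ 2, and let q ≥ 1. If the Veronese subring R^(q) is a Gorenstein ring, then R is a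
Gorenstein ring and q divides the a-invariant a(R). Here 'graded ring defined over a field' means R
= ⊕_{n ≥ 0} R_n is Noetherian with R_0 a field, and m = R_+ is its unique graded maximal ideal. The
a-invariant a(R) is the largest degree in which the graded local cohomology H^n_m(R) (n = dim R, m =
R_+), computed from a *injective resolution of R in the graded category, is nonzero. The Veronese
subring R^(q) = ⊕_j R_{jq}, regraded by (R^(q))_j = R_{jq}, is presented abstractly as a ℤ-graded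
ring R' with an injective ring homomorphism φ : R' → R carrying R'_j onto R_{jq} for every j. -/
theorem result (R : Type u) [CommRing R] [LocCoh.IsCohenMacaulayRing R] (𝒜 : ℤ → AddSubgroup R) [GradedRing 𝒜] (hpos : ∀ n : ℤ, n < 0 → 𝒜 n = ⊥) (h0 : IsField (GrLC.deg0 𝒜)) (m : HomogeneousIdeal 𝒜) (hm : GrLC.IsStarLocal 𝒜 m) (hmsp : m.toIdeal = Ideal.span (⋃ n ∈ Set.Ioi (0 : ℤ), (𝒜 n : Set R))) (hstd : Ideal.span (⋃ n ∈ Set.Ioi (0 : ℤ), (𝒜 n : Set R)) = Ideal.span ((𝒜 1 : AddSubgroup R) : Set R)) (n : ℕ) (hn : ringKrullDim R = n) (h2 : 2 ≤ n) (I : GrLC.StarInjRes 𝒜 𝒜) (q : ℕ) (hq : 0 < q) (R' : Type u) [CommRing R'] (𝒜' : ℤ → AddSubgroup R') [GradedRing 𝒜'] (φ : R' →+* R) (hφ : Function.Injective φ) (hdeg : ∀ j : ℤ, (𝒜' j).map (φ : R' →+ R) = 𝒜 (j * q)) [LocCoh.IsGorensteinRing R'] : LocCoh.IsGorensteinRing R ∧ ∃ a : ℤ, GrLC.endDeg (I.Hgr m n) = ((a : WithTop ℤ) : WithBot (WithTop ℤ)) ∧ (q : ℤ) ∣ a := by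
  have D : Data 𝒜 𝒜' φ q := ⟨hq, hφ, hdeg⟩
  have h0' := isField_deg0 D h0
  let _ : Field (deg0 𝒜') := h0'.toField
  let _ : Algebra (deg0 𝒜') R := algV φ 𝒜'
  have h : PosField (deg0 𝒜') 𝒜 m.toIdeal := posField_base D hpos h0' hmsp
  have h' : PosField (deg0 𝒜') 𝒜' (mV 𝒜') := posField_ver D hpos h0'
  have hnt := nontrivial_of_dim hn
  have hnt' : Nontrivial R' := φ.domain_nontrivial
  obtain ⟨d, hd, -, ⟨d', rfl⟩, θ, hθ, ⟨N, hN⟩, hreg⟩ := exists_parameters h hn hq 0
  rw [mul_comm] at hd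
  simp only [mul_comm (q : ℤ) d'] at hθ
  have hq' : (0 : ℤ) < q := by exact_mod_cast hq
  have hd' : 0 < d' := pos_of_mul_pos_left hd (by positivity)
  choose θ' hθ' hφθ using fun i => D.exists_eq (hθ i)
  obtain rfl : (fun i => φ (θ' i)) = θ := funext hφθ
  have hJ : (Ideal.span (Set.range fun i => φ (θ' i))).IsHomogeneous 𝒜 := isHomogeneous_span_range hθ
  have hJ1 : (Ideal.span (Set.range fun i => φ (θ' i))) ≠ ⊤ := by
    intro htop
    have h1 := span_range_le h hθ (fun _ => hd)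
    rw [htop, top_le_iff] at h1
    exact h.ne_top h1
  have hN' := pow_le_ver D hmsp hN
  have hR : IsParam (deg0 𝒜') 𝒜 (fun i => φ (θ' i)) := ⟨⟨0, fun i hi x hx => h.pos i hi x hx⟩, hreg,
    finite_quotient (M := R) h.exists_sub_mem N _ (by
      rw [smul_eq_mul, smul_eq_mul, Ideal.mul_top, Ideal.mul_top]; exact hN)⟩
  have hR' : IsParam (deg0 𝒜') 𝒜' θ' := ⟨⟨0, fun i hi x hx => h'.pos i hi x hx⟩,
    isWeaklyRegular_ver D hreg, finite_quotient (M := R') h'.exists_sub_mem N _ (by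
      rw [smul_eq_mul, smul_eq_mul, Ideal.mul_top, Ideal.mul_top]; exact hN')⟩
  obtain ⟨s', t', hs'⟩ := exists_of_gorenstein (dim_lt_top h' hθ' (fun _ => hd') hN') h' hθ' (fun _ => hd')
    (isWeaklyRegular_ver D hreg) hN'
  obtain ⟨lam', hp', -⟩ := hs'.exists_canPair h'
  obtain ⟨lam, hp⟩ := canPair_of_ver D (fun _ => rfl) h h' hstd h2 hd' hθ' hR hR' hp'
  obtain ⟨t, hs⟩ := exists_of_canPair h hJ hJ1 hp
  refine ⟨K762.Gor.isGorensteinRing h hθ (fun _ => hd) hR hp, s' * q - n * (d' * q), ?_, ?_⟩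
  · rw [socP_degree h hθ (fun _ => hd) hreg hN hs I]
    simp
  · exact dvd_sub (Dvd.intro_left _ rfl) (by rw [← mul_assoc]; exact Dvd.intro_left _ rfl)

end Groth.Agent.S18642
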