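import Groth.Statements.S18643
import Groth.Agent.S18641
import Groth.Agent.GrLC.K762.Std

set_option autoImplicit false
universe u
open GrLC

namespace Groth.Agent.S18643

open K762.Base K762.Nak K762.Reg K762.Param K762.Soc K762.Ht K762.Ext K762.Fld K762.AInv K762.Pair
  K762.VerP K762.Std K763.Ver RingTheory.Sequence

/-- Let R be a graded ring defined over a field k = R_0 which is Gorenstein and generated over k by R_1,
with dim R ≥ 1 and dim_k R_1 ≥ 2, and let q ≥ 1. Then the Veronese subring R^(q) is a Gorenstein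
ring if and only if q divides the a-invariant a(R). Here 'graded ring defined over a field' means R
= ⊕_{n ≥ 0} R_n is Noetherian with R_0 a field, and m = R_+ is its unique graded maximal ideal. The
a-invariant a(R) is the largest degree in which the graded local cohomology H^n_m(R) (n = dim R, m =
R_+), computed from a *injective resolution of R in the graded category, is nonzero. The Veronese
subring R^(q) = ⊕_j R_{jq}, regraded by (R^(q))_j = R_{jq}, is presented abstractly as a ℤ-graded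
ring R' with an injective ring homomorphism φ : R' → R carrying R'_j onto R_{jq} for every j. -/
theorem result (R : Type u) [CommRing R] [LocCoh.IsGorensteinRing R] (𝒜 : ℤ → AddSubgroup R) [GradedRing 𝒜] (hpos : ∀ n : ℤ, n < 0 → 𝒜 n = ⊥) (h0 : IsField (GrLC.deg0 𝒜)) (m : HomogeneousIdeal 𝒜) (hm : GrLC.IsStarLocal 𝒜 m) (hmsp : m.toIdeal = Ideal.span (⋃ n ∈ Set.Ioi (0 : ℤ), (𝒜 n : Set R))) (hstd : Ideal.span (⋃ n ∈ Set.Ioi (0 : ℤ), (𝒜 n : Set R)) = Ideal.span ((𝒜 1 : AddSubgroup R) : Set R)) (hR1 : 2 ≤ Module.finrank (GrLC.deg0 𝒜) (GrLC.comp 𝒜 𝒜 1)) (n : ℕ) (hn : ringKrullDim R = n) (h1 : 1 ≤ n) (I : GrLC.StarInjRes 𝒜 𝒜) (a : ℤ) (ha : GrLC.endDeg (I.Hgr m n) = ((a : WithTop ℤ) : WithBot (WithTop ℤ))) (q : ℕ) (hq : 0 < q) (R' : Type u) [CommRing R'] (𝒜' : ℤ → AddSubgroup R') [GradedRing 𝒜'] (φ : R' →+* R) (hφ : Function.Injective φ) (hdeg : ∀ j : ℤ, (𝒜' j).map (φ : R' →+ R) = 𝒜 (j * q)) : LocCoh.IsGorensteinRing R' ↔ (q : ℤ) ∣ a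 := by
  refine ⟨fun hG' => ?_, fun hdvd => Groth.Agent.S18641.result R 𝒜 hpos h0 m hm hmsp n hn I a ha q hq R' 𝒜' φ
    hφ hdeg hdvd⟩
  have D : Data 𝒜 𝒜' φ q := ⟨hq, hφ, hdeg⟩
  have hCM : LocCoh.IsCohenMacaulayRing R := cm_of_gorenstein inferInstance
  have h0' := isField_deg0 D h0
  let _ : Field (deg0 𝒜') := h0'.toField
  let _ : Algebra (deg0 𝒜') R := algV φ 𝒜'
  have h : PosField (deg0 𝒜') 𝒜 m.toIdeal := posField_base D hpos h0' hmsp
  have h' : PosField (deg0 𝒜') 𝒜' (mV 𝒜') := posField_ver D hpos h0'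
  have hnt := nontrivial_of_dim hn
  have hnt' : Nontrivial R' := φ.domain_nontrivial
  obtain ⟨d, hd, -, ⟨d', rfl⟩, θ, hθ, ⟨N, hN⟩, hreg⟩ := exists_parameters h hn hq 0
  rw [mul_comm] at hd
  simp only [mul_comm (q : ℤ) d'] at hθ
  have hq' : (0 : ℤ) < q := by exact_mod_cast hq
  have hd' : 0 < d' := pos_of_mul_pos_left hd (by positivity)
  choose θ' hθ' hφθ using fun i => D.exists_eq (hθ i)
  obtain rfl : (fun i => φ (θ' i)) = θ := funext hφθ
  have hJ : (Ideal.span (Set.range fun i => φ (θ' i))).IsHomogeneous 𝒜 := isHomogeneous_span_range hθ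
  obtain ⟨s, t, hs⟩ := exists_of_gorenstein (by rw [hn]; exact WithBot.coe_lt_coe.mpr (WithTop.coe_lt_top _))
    h hθ (fun _ => hd) hreg hN
  have hsa := (socP_degree h hθ (fun _ => hd) hreg hN hs I).mp ha
  have hN' := pow_le_ver D hmsp hN
  obtain ⟨s', t', hs'⟩ := exists_of_gorenstein (dim_lt_top h' hθ' (fun _ => hd') hN') h' hθ' (fun _ => hd')
    (isWeaklyRegular_ver D hreg) hN'
  -- it suffices that `q ∣ s`
  suffices H : (q : ℤ) ∣ s by
    have h1 : a = s - n * (d' * q) := by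
      rw [hsa]
      simp
    rw [h1]
    exact dvd_sub H (by rw [← mul_assoc]; exact Dvd.intro_left _ rfl)
  by_contra hndvd
  have hs0 := hs.nonneg h
  obtain ⟨s₀, ρ, hρ0, hρq, hs₀, rfl⟩ : ∃ s₀ ρ : ℤ, 0 < ρ ∧ ρ < q ∧ 0 ≤ s₀ ∧ s = ρ + s₀ * q := by
    refine ⟨s / q, s % q, ?_, Int.emod_lt_of_pos _ hq', Int.ediv_nonneg hs0 hq'.le, ?_⟩
    · have h1 := Int.emod_nonneg s hq'.ne'
      have h2 : s % q ≠ 0 := fun h3 => hndvd (Int.dvd_of_emod_eq_zero h3)
      omega
    · rw [mul_comm]; exact (Int.emod_add_mul_ediv s q).symm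
  -- a nonzero class of degree `s₀ q`
  have hex : ∃ b ∈ 𝒜 (s₀ * q), b ∉ Ideal.span (Set.range fun i => φ (θ' i)) := by
    by_contra hcon
    push Not at hcon
    have h1 := K763.Std.mem_pr 𝒜 hstd (m := ρ) (n := s₀ * q) (by omega) (by positivity) hs.mem
    exact hs.nmem (pr_induction (Ideal.span (Set.range fun i => φ (θ' i))).toAddSubgroup
      (fun a _ b hb => Ideal.mul_mem_left _ _ (hcon b hb)) h1)
  have hs's₀ : s' = s₀ := by
    apply le_antisymm
    · by_contra hlt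
      apply hs'.nmem
      apply mem_of_map_mem D
      refine hs.top h (i := s' * q) ?_ (D.map_mem hs'.mem)
      nlinarith
    · by_contra hlt
      obtain ⟨b, hb, hbJ⟩ := hex
      obtain ⟨b', hb', rfl⟩ := D.exists_eq hb
      exact hbJ (map_mem_of_mem (hs'.top h' (i := s₀) (by omega) hb'))
  subst hs's₀
  obtain ⟨lam, hp, -⟩ := hs.exists_canPair h
  -- the functional on `R_ρ`
  have hinj : ∀ x ∈ 𝒜 ρ, lam (x * φ t') = 0 → x = 0 := by
    intro x hx hx0
    refine eq_zero_of_mem h hθ (ρ := ρ) (by nlinarith) hx ?_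
    by_contra hxJ
    -- `x φ t' ∈ J`
    have h1 : x * φ t' ∈ Ideal.span (Set.range fun i => φ (θ' i)) := by
      by_contra h2
      obtain ⟨z, hz, hz0⟩ := hp.left _ _ (SetLike.mul_mem_graded hx (D.map_mem hs'.mem)) h2
      rw [sub_self] at hz
      obtain ⟨c, rfl⟩ := h.surj z hz
      apply hz0
      rw [smul_eq_mul, mul_comm, ← Algebra.smul_def, map_smul, hx0, smul_zero]
    obtain ⟨y, hy, hxy⟩ := hs.dual ρ x hx hxJ
    rw [add_sub_cancel_left] at hy
    obtain ⟨y', hy', rfl⟩ := D.exists_eq hy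
    obtain ⟨c, hc⟩ := hs'.piece h' hy'
    have h2 : φ (y' - c • t') ∈ Ideal.span (Set.range fun i => φ (θ' i)) := map_mem_of_mem hc
    have h3 : x * φ y' ∈ Ideal.span (Set.range fun i => φ (θ' i)) := by
      have h4 := Ideal.mul_mem_left _ x h2
      have h5 : x * φ (y' - c • t') = x * φ y' - φ (algebraMap (deg0 𝒜') R' c) * (x * φ t') := by
        rw [Algebra.smul_def, map_sub, map_mul]
        ring
      rw [h5] at h4
      have h6 := Ideal.add_mem _ h4 (Ideal.mul_mem_left _ (φ (algebraMap (deg0 𝒜') R' c)) h1)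
      rwa [sub_add_cancel] at h6
    have h4 := Ideal.sub_mem _ h3 hxy
    rw [sub_sub_cancel] at h4
    exact hs.nmem h4
  obtain ⟨u, hum, hu⟩ : ∃ u ∈ 𝒜 ρ, ∀ x ∈ 𝒜 ρ, ∃ c : deg0 𝒜', x = c • u := by
    by_cases hall : ∀ x ∈ 𝒜 ρ, x = 0
    · exact ⟨0, AddSubgroup.zero_mem _, fun x hx => ⟨0, by rw [hall x hx, smul_zero]⟩⟩
    · push Not at hall
      obtain ⟨u, hu, hu0⟩ := hall
      refine ⟨u, hu, fun x hx => ?_⟩
      have h1 : lam (u * φ t') ≠ 0 := fun h2 => hu0 (hinj u hu h2)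
      refine ⟨lam (x * φ t') / lam (u * φ t'), ?_⟩
      rw [← sub_eq_zero]
      apply hinj
      · refine AddSubgroup.sub_mem _ hx ?_
        rw [Algebra.smul_def]
        have := SetLike.mul_mem_graded (h.alg (lam (x * φ t') / lam (u * φ t'))) hu
        rwa [zero_add] at this
      · rw [sub_mul, map_sub, smul_mul_assoc, map_smul, smul_eq_mul, div_mul_cancel₀ _ h1, sub_self]
  obtain ⟨b, hb, hb1⟩ := piece_one h hstd hn h1 hρ0 hum hu
  have hle : Module.finrank (deg0 𝒜) (comp 𝒜 𝒜 1) ≤ 1 := by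
    refine finrank_le_one (⟨b, hb⟩ : comp 𝒜 𝒜 1) fun x => ?_
    obtain ⟨c, hc⟩ := hb1 x x.2
    refine ⟨D.deg0Equiv c, Subtype.ext ?_⟩
    change φ c * b = x
    rw [hc, Algebra.smul_def]
    rfl
  omega

end Groth.Agent.S18643
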