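import Groth.Statements.S18645
import Groth.Agent.GrLC.K762.Fld

set_option autoImplicit false
universe u
open GrLC

namespace Groth.Agent.S18645

open K762.Base K762.Nak K762.Reg K762.Param K762.Soc K762.Ht K762.Ext K762.Fld K762.AInv
  RingTheory.Sequence

/-- Let R be a graded ring defined over a field which is Cohen–Macaulay, of dimension n, and let f_1, …,
f_t be an R-regular sequence of homogeneous elements of positive degrees d_1, …, d_t, with S =
R/(f_1, …, f_t). The canonical module of S is (K_R/(f_1, …, f_t)K_R)(d_1 + ⋯ + d_t); consequently —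
this is the form stated here — the a-invariants satisfy a(S) = a(R) + d_1 + ⋯ + d_t, where a(S) is
the largest nonzero degree of H^{n−t}_m(S) and a(R) that of H^n_m(R), both graded local cohomologies
over R with support in m = R_+ computed from *injective resolutions in the graded category, and S is
presented as a graded R-module N with a degree-preserving surjection π : R → N whose kernel is (f_1,
…, f_t). Here 'graded ring defined over a field' means R = ⊕_{n ≥ 0} R_n is Noetherian with R_0 a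
field, and m = R_+ is its unique graded maximal ideal. -/
theorem result (R : Type u) [CommRing R] [LocCoh.IsCohenMacaulayRing R] (𝒜 : ℤ → AddSubgroup R) [GradedRing 𝒜] (hpos : ∀ n : ℤ, n < 0 → 𝒜 n = ⊥) (h0 : IsField (GrLC.deg0 𝒜)) (m : HomogeneousIdeal 𝒜) (hm : GrLC.IsStarLocal 𝒜 m) (hmsp : m.toIdeal = Ideal.span (⋃ n ∈ Set.Ioi (0 : ℤ), (𝒜 n : Set R))) (n : ℕ) (hn : ringKrullDim R = n) (I : GrLC.StarInjRes 𝒜 𝒜) (t : ℕ) (htn : t ≤ n) (f : Fin t → R) (deg : Fin t → ℤ) (hfdeg : ∀ i, f i ∈ 𝒜 (deg i)) (hfm : ∀ i, f i ∈ m.toIdeal) (hreg : RingTheory.Sequence.IsRegular R (List.ofFn f)) (N : Type u) [AddCommGroup N] [Module R N] (𝒩 : ℤ → AddSubgroup N) [DirectSum.Decomposition 𝒩] [SetLike.GradedSMul 𝒜 𝒩] (π : R →ₗ[R] N) (hπ : GrLC.IsGrHom 𝒜 𝒩 π) (hπs : Function.Surjective π) (hπk : LinearMap.ker π = Ideal.span (Set.range f)) (F : GrLC.StarInjRes 𝒜 𝒩) : GrLC.endDeg (F.Hgr m (n - t)) = GrLC.endDeg (I.Hgr m n) + ((((Finset.univ : Finset (Fin t)).sum deg : ℤ) : WithTop ℤ) : WithBot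 (WithTop ℤ)) := by
  let _ : Field (deg0 𝒜) := h0.toField
  have h : PosField (deg0 𝒜) 𝒜 m.toIdeal := posField hpos h0 hmsp
  have hnt := nontrivial_of_dim hn
  have hnoe : IsNoetherianRing R := inferInstance
  obtain ⟨l, rfl⟩ : ∃ l, n = t + l := ⟨n - t, by omega⟩
  rw [Nat.add_sub_cancel_left] 
  have hwr := hreg.toIsWeaklyRegular
  have hfne : Ideal.span (Set.range f) ≠ ⊤ := by
    have h1 := hreg.top_ne_smul
    rw [smul_eq_mul, Ideal.mul_top, ofList_ofFn] at h1
    exact h1.symm
  have hf0 : ∀ i, f i ≠ 0 := by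
    intro i hi
    have h1 := isWeaklyRegular_ofFn_iff.mp hwr i 1 (by rw [hi, zero_smul]; exact Submodule.zero_mem _)
    rw [smul_eq_mul, Ideal.mul_top, ← Ideal.eq_top_iff_one] at h1
    apply hfne
    rw [eq_top_iff, ← h1, ← pre_top]
    exact pre_mono i.2.le
  have hdegpos : ∀ i, 0 < deg i := by
    intro i
    rcases lt_trichotomy (deg i) 0 with hlt | heq | hgt
    · exact absurd (h.pos _ hlt _ (hfdeg i)) (hf0 i)
    · have h1 := h.pr_zero_eq_zero (hfm i)
      rw [← heq, pr_of_mem (hfdeg i)] at h1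
      exact absurd h1 (hf0 i)
    · exact hgt
  obtain ⟨D, hD, -, -, g, hg, ⟨N', hN'⟩, hregθ⟩ := exists_extend h hn hfdeg hdegpos hwr one_pos 0
  have hPh : (Ideal.span (Set.range (Fin.append f g)) • ⊤ : Submodule R R).IsHomogeneous 𝒜 := by
    rw [smul_eq_mul, Ideal.mul_top]
    exact isHomogeneous_span_range (append_mem hfdeg hg)
  have hP1 : (Ideal.span (Set.range (Fin.append f g)) • ⊤ : Submodule R R) ≠ ⊤ := by
    rw [smul_eq_mul, Ideal.mul_top]
    intro htop
    have h1 := span_range_le h (append_mem hfdeg hg) (append_pos hdegpos hD)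
    rw [htop, top_le_iff] at h1
    exact h.ne_top h1
  have hfin : Module.Finite (deg0 𝒜) (R ⧸ (Ideal.span (Set.range (Fin.append f g)) • ⊤ : Submodule R R)) :=
    finite_quotient (M := R) h.exists_sub_mem N' _ (by
      rw [smul_eq_mul, smul_eq_mul, Ideal.mul_top, Ideal.mul_top]; exact hN')
  obtain ⟨s, ⟨x, hx, hxs⟩, htop⟩ := exists_top h hPh hP1
  have hI : endDeg (I.Hgr m (t + l)) =
      (((s - (∑ i, deg i + l * D) : ℤ) : WithTop ℤ) : WithBot (WithTop ℤ)) := by
    rw [endDeg_eq_iff h (append_mem hfdeg hg) (append_pos hdegpos hD) hregθ ?_ I, sum_append,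
      sub_add_cancel]
    · exact ⟨⟨x, hx, hxs⟩, htop⟩
    · intro x
      refine ⟨N', fun r hr => ?_⟩
      rw [smul_eq_mul, smul_eq_mul, Ideal.mul_top]
      exact Ideal.mul_mem_right _ _ (hN' hr)
  have hF : endDeg (F.Hgr m l) = (((s - l * D : ℤ) : WithTop ℤ) : WithBot (WithTop ℤ)) := by
    rw [endDeg_eq_iff h hg (fun _ => hD) (isWeaklyRegular_quot hπs hπk hregθ) ?_ F]
    · have hsum : ∑ _i : Fin l, D = l * D := by simp
      rw [hsum, sub_add_cancel]
      constructor
      · refine ⟨π x, hπ s x hx, fun hmem => hxs ?_⟩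
        rw [smul_eq_mul, Ideal.mul_top]
        exact (quot_mem_iff hπs hπk x).mp hmem
      · intro i hi y hy
        obtain ⟨r, rfl⟩ := hπs y
        have hπ' : IsGrHomDeg 𝒜 𝒩 π 0 := fun g x hx => by rw [add_zero]; exact hπ g x hx
        have h1 : π (pr 𝒜 i r) = π r := by
          rw [map_pr hπ', add_zero, pr_of_mem hy]
        rw [← h1, quot_mem_iff hπs hπk]
        have h2 := htop i hi _ (pr_mem i r)
        rwa [smul_eq_mul, Ideal.mul_top] at h2
    · intro y
      refine ⟨N', fun r hr => ?_⟩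
      obtain ⟨x, rfl⟩ := hπs y
      rw [← map_smul, quot_mem_iff hπs hπk]
      exact Ideal.mul_mem_right _ _ (hN' hr)
  rw [hI, hF, ← WithBot.coe_add, ← WithTop.coe_add]
  congr 2
  ring

end Groth.Agent.S18645
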