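import Groth.Statements.S18647
import Groth.Agent.GrSegre.K961.SegDim2

set_option autoImplicit false
universe u
open scoped TensorProduct
open GrSegre

namespace Groth.Agent.S18647

/-- Let R and S be graded rings defined over a field k with dim R = r ≥ 1 and dim S = s ≥ 1. Then the
Segre product T = R # S has Krull dimension r + s − 1. Here a graded ring defined over k is a
commutative k-algebra of finite type, graded in nonnegative degrees by k-subspaces with degree-zero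
part k·1; the Segre product T = R # S = ⊕_n R_n ⊗_k S_n (graded by T_n = R_n ⊗_k S_n) is presented
abstractly as a graded k-algebra T with an injective k-algebra homomorphism ψ : T → R ⊗_k S carrying
T_n onto the k-span of the elementary tensors a ⊗ b with a ∈ R_n, b ∈ S_n, for every n. -/
theorem result (k : Type u) [Field k] (R : Type u) [CommRing R] [Algebra k R] (𝒜 : ℤ → Submodule k R) [GradedAlgebra 𝒜] (hposR : ∀ n : ℤ, n < 0 → 𝒜 n = ⊥) (h0R : 𝒜 0 = Submodule.span k {(1 : R)}) [Algebra.FiniteType k R] (S : Type u) [CommRing S] [Algebra k S] (ℬ : ℤ → Submodule k S) [GradedAlgebra ℬ] (hposS : ∀ n : ℤ, n < 0 → ℬ n = ⊥) (h0S : ℬ 0 = Submodule.span k {(1 : S)}) [Algebra.FiniteType k S] (T : Type u) [CommRing T] [Algebra k T] (𝒯 : ℤ → Submodule k T) [GradedAlgebra 𝒯] (ψ : T →ₐ[k] TensorProduct k R S) (hψ : Function.Injective ψ) (hdegT : ∀ n : ℤ, (𝒯 n).map ψ.toLinearMap = Submodule.span k {x : TensorProduct k R S | ∃ a ∈ 𝒜 n, ∃ b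 ∈ ℬ n, x = a ⊗ₜ[k] b}) (r s : ℕ) (hr : ringKrullDim R = r) (hs : ringKrullDim S = s) (h1r : 1 ≤ r) (h1s : 1 ≤ s) : ringKrullDim T = ((r + s - 1 : ℕ) : WithBot ℕ∞) := by
  have hT : GrSeg.IsSegreRing 𝒜 ℬ 𝒯 ψ := ⟨hψ, hdegT⟩
  have : IsNoetherianRing R := Algebra.FiniteType.isNoetherianRing k R
  have : IsNoetherianRing S := Algebra.FiniteType.isNoetherianRing k S
  obtain ⟨r, rfl⟩ : ∃ r', r = r' + 1 := ⟨r - 1, by omega⟩
  obtain ⟨s, rfl⟩ : ∃ s', s = s' + 1 := ⟨s - 1, by omega⟩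
  rw [← Module.supportDim_self_eq_ringKrullDim] at hr hs ⊢
  obtain ⟨D₁, hD₁, hx⟩ := K961.SegDim2.exists_params 𝒜 𝒜 hposR h0R (r + 1) hr.le
  obtain ⟨D₂, hD₂, hy⟩ := K961.SegDim2.exists_params ℬ ℬ hposS h0S (s + 1) hs.le
  obtain ⟨x, hx, hxr⟩ := hx D₂ hD₂
  obtain ⟨y, hy, hyr⟩ := hy D₁ hD₁
  rw [mul_comm] at hy
  have hD : (0 : ℤ) < ((D₂ * D₁ : ℕ) : ℤ) := by exact_mod_cast Nat.mul_pos hD₂ hD₁
  have := K961.FinDim.finite_adjoin 𝒜 𝒜 hposR h0R hD x hx hxr
  have := K961.FinDim.finite_adjoin ℬ ℬ hposS h0S hD y hy hyr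
  have h := K961.SegDim2.supportDim_eq (M := R) (N := S) (P := T) hT
    (K962.Pieces.isSegreMod_ring hT) hposR h0R hposS h0S hD x hx hxr y hy hyr
    (d := 0) (m := 1) (SetLike.one_mem_graded 𝒜) (fun F hF =>
      K961.Dim.eq_zero_of_smul_eq_zero (M := R) x (by simpa using hr.ge) F fun m => by
        rw [smul_eq_mul, mul_one] at hF; rw [hF, zero_smul])
    (n := 1) (SetLike.one_mem_graded ℬ) (fun F hF =>
      K961.Dim.eq_zero_of_smul_eq_zero (M := S) y (by simpa using hs.ge) F fun m => by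
        rw [smul_eq_mul, mul_one] at hF; rw [hF, zero_smul])
  rw [h, show r + 1 + (s + 1) - 1 = r + s + 1 by omega]

end Groth.Agent.S18647
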