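import Groth.Statements.S18652
import Groth.Agent.GrSegre.K963.Crit
import Groth.Agent.S18647

set_option autoImplicit false
universe u
open scoped TensorProduct
open GrSegre

namespace Groth.Agent.S18652

/-- Let R and S be graded rings defined over a field k which are Cohen–Macaulay, of dimensions r ≥ 2 and
s ≥ 2. Then the Segre product T = R # S is a Cohen–Macaulay ring if and only if R # H^s_{S_+}(S) = 0
and H^r_{R_+}(R) # S = 0, that is, for every degree n, R_n = 0 or H^s_{S_+}(S)_n = 0, and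
H^r_{R_+}(R)_n = 0 or S_n = 0. Here a graded ring defined over k is a commutative k-algebra of
finite type, graded in nonnegative degrees by k-subspaces with degree-zero part k·1; the graded
local cohomology pieces are computed from *injective resolutions of R and S in the graded category;
the Segre product T = ⊕_n R_n ⊗_k S_n is presented abstractly as a graded k-algebra T with an
injective k-algebra homomorphism ψ : T → R ⊗_k S carrying T_n onto the k-span of the elementary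
tensors a ⊗ b with a ∈ R_n, b ∈ S_n. -/
theorem result (k : Type u) [Field k] (R : Type u) [CommRing R] [Algebra k R] (𝒜 : ℤ → Submodule k R) [GradedAlgebra 𝒜] (hposR : ∀ n : ℤ, n < 0 → 𝒜 n = ⊥) (h0R : 𝒜 0 = Submodule.span k {(1 : R)}) [Algebra.FiniteType k R] (S : Type u) [CommRing S] [Algebra k S] (ℬ : ℤ → Submodule k S) [GradedAlgebra ℬ] (hposS : ∀ n : ℤ, n < 0 → ℬ n = ⊥) (h0S : ℬ 0 = Submodule.span k {(1 : S)}) [Algebra.FiniteType k S] (T : Type u) [CommRing T] [Algebra k T] (𝒯 : ℤ → Submodule k T) [GradedAlgebra 𝒯] (ψ : T →ₐ[k] TensorProduct k R S) (hψ : Function.Injective ψ) (hdegT : ∀ n : ℤ, (𝒯 n).map ψ.toLinearMap = Submodule.span k {x : TensorProduct k R S | ∃ a ∈ 𝒜 n, ∃ b ∈ ℬ n, x = a ⊗ₜ[k] b}) [LocCoh.IsCohenMacaulayRing R] [LocCoh.IsCohenMacaulayRing S] (mR : HomogeneousIdeal 𝒜) (hmR : mR.toIdeal = Ideal.span (⋃ n ∈ Set.Ioi (0 : ℤ), (𝒜 n : Set R))) (I : GrLC.StarInjRes 𝒜 𝒜) (mS : HomogeneousIdeal ℬ) (hmS : mS.toIdeal = Ideal.span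 (⋃ n ∈ Set.Ioi (0 : ℤ), (ℬ n : Set S))) (J : GrLC.StarInjRes ℬ ℬ) (r s : ℕ) (hr : ringKrullDim R = r) (hs : ringKrullDim S = s) (h2r : 2 ≤ r) (h2s : 2 ≤ s) : LocCoh.IsCohenMacaulayRing T ↔ (∀ n : ℤ, 𝒜 n = ⊥ ∨ J.Hcomp mS s n = ⊥) ∧ (∀ n : ℤ, I.Hcomp mR r n = ⊥ ∨ ℬ n = ⊥) := by
  have hNR : IsNoetherianRing R := Algebra.FiniteType.isNoetherianRing k R
  have hNS : IsNoetherianRing S := Algebra.FiniteType.isNoetherianRing k S
  have hT : GrSeg.IsSegreRing 𝒜 ℬ 𝒯 ψ := ⟨hψ, hdegT⟩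
  have hP := K962.Pieces.isSegreMod_ring hT
  have : IsNoetherianRing T := K962.Pieces.isNoetherianRing_segreRing hT
  have : Algebra.FiniteType k T := K961.SegDim2.finiteType_segreRing hT hposR h0R hposS h0S
  obtain ⟨EP⟩ := K963.Iface.nonempty_res 𝒯 𝒯
  let mT : HomogeneousIdeal 𝒯 := ⟨K961.Irr.irr 𝒯, K961.Irr.isHomogeneous_irr 𝒯⟩
  have hmT : mT.toIdeal = Ideal.span (⋃ n ∈ Set.Ioi (0 : ℤ), (𝒯 n : Set T)) := rfl
  have hdP := Groth.Agent.S18647.result k R 𝒜 hposR h0R S ℬ hposS h0S T 𝒯 ψ hψ hdegT r s hr hs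
    (by omega) (by omega)
  obtain ⟨A, B, ε, η, hA, hB, z0, z1, zk⟩ := K963.Low.kunneth0 hT hmR hmS hmT hP I J EP
  -- vanishing on the sides
  have hr' : Module.supportDim R R = (r : WithBot ℕ∞) := by rw [Module.supportDim_self_eq_ringKrullDim, hr]
  have hs' : Module.supportDim S S = (s : WithBot ℕ∞) := by rw [Module.supportDim_self_eq_ringKrullDim, hs]
  have hMl : ∀ i < r, Subsingleton (I.H mR i) := fun i hi =>
    K963.Iface.subsingleton_of_Hcomp_eq_bot I mR i
      ((K961.CMH.isCohenMacaulayRing_iff_Hcomp hposR h0R hr mR hmR I).1 inferInstance i hi)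
  have hNl : ∀ i < s, Subsingleton (J.H mS i) := fun i hi =>
    K963.Iface.subsingleton_of_Hcomp_eq_bot J mS i
      ((K961.CMH.isCohenMacaulayRing_iff_Hcomp hposS h0S hs mS hmS J).1 inferInstance i hi)
  have hM : ∀ i, i ≠ r → Subsingleton (I.H mR i) := fun i hi => by
    rcases Nat.lt_or_ge i r with h | h
    · exact hMl i h
    · exact K963.Crit.subsingleton_of_supportDim_lt hposR h0R hr'.le mR hmR I (lt_of_le_of_ne h (Ne.symm hi))
  have hN : ∀ i, i ≠ s → Subsingleton (J.H mS i) := fun i hi => by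
    rcases Nat.lt_or_ge i s with h | h
    · exact hNl i h
    · exact K963.Crit.subsingleton_of_supportDim_lt hposS h0S hs'.le mS hmS J (lt_of_le_of_ne h (Ne.symm hi))
  have hA0 := K963.Crit.kg_zero_eq_bot_iff hA (hM 0 (by omega)) (hM 1 (by omega))
  have hB0 := K963.Crit.kg_zero_eq_bot_iff hB (hN 0 (by omega)) (hN 1 (by omega))
  have hbM : ∀ d, 𝒜 d = ⊥ ↔ ∀ m ∈ 𝒜 d, m = 0 := fun d => Submodule.eq_bot_iff _
  have hbN : ∀ d, ℬ d = ⊥ ↔ ∀ m ∈ ℬ d, m = 0 := fun d => Submodule.eq_bot_iff _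
  rw [K961.CMH.isCohenMacaulayRing_iff_Hcomp (K961.SegDim.hposT hT hposR) (K961.SegDim.h0T hT h0R h0S) hdP mT hmT EP]
  have hkey := fun n g => K963.Crit.Hcomp_eq_bot_iff (g := g) (zk n)
  constructor
  · intro h
    constructor
    · intro d
      obtain ⟨s', rfl⟩ : ∃ s', s = s' + 2 := ⟨s - 2, by omega⟩
      have h1 := (hkey s' d).1 (h (s' + 2) (by omega) d) 0 (s' + 1) (by omega)
      rw [hA0, ← hbM, K963.Crit.kg_succ_eq_bot_iff hB] at h1
      exact h1
    · intro d
      obtain ⟨r', rfl⟩ : ∃ r', r = r' + 2 := ⟨r - 2, by omega⟩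
      have h1 := (hkey r' d).1 (h (r' + 2) (by omega) d) (r' + 1) 0 (by omega)
      rw [hB0, ← hbN, K963.Crit.kg_succ_eq_bot_iff hA] at h1
      exact h1
  · rintro ⟨h1, h2⟩ i hi d
    match i, hi with
    | 0, _ =>
      exact K963.Iface.Hcomp_eq_bot_of_subsingleton EP mT 0
        (K963.Crit.subsingleton_zero hP.injective z0 (K963.Crit.ε_injective hA (hM 0 (by omega)))
          (K963.Crit.ε_injective hB (hN 0 (by omega)))) d
    | 1, _ =>
      refine K963.Crit.Hcomp_one_of hP z1 fun x hx y hy _ _ => ?_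
      obtain ⟨m, hm, hmx⟩ := (K963.Crit.Hcomp_one_eq_bot_iff hA d).1
        (K963.Iface.Hcomp_eq_bot_of_subsingleton I mR 1 (hM 1 (by omega)) d) x hx
      obtain ⟨n, hn, hny⟩ := (K963.Crit.Hcomp_one_eq_bot_iff hB d).1
        (K963.Iface.Hcomp_eq_bot_of_subsingleton J mS 1 (hN 1 (by omega)) d) y hy
      exact ⟨m, hm, n, hn, hmx, hny⟩
    | n + 2, hi =>
      rw [hkey]
      intro p q hpq
      match p, q, hpq with
      | 0, 0, hpq => omega
      | 0, q + 1, hpq =>
        by_cases hq : q + 2 = s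
        · subst hq
          rw [hA0, ← hbM, K963.Crit.kg_succ_eq_bot_iff hB]
          exact h1 d
        · exact Or.inr (K963.Crit.kg_succ_eq_bot hB q d (hN _ hq))
      | p + 1, 0, hpq =>
        by_cases hp : p + 2 = r
        · subst hp
          rw [hB0, ← hbN, K963.Crit.kg_succ_eq_bot_iff hA]
          exact h2 d
        · exact Or.inl (K963.Crit.kg_succ_eq_bot hA p d (hM _ hp))
      | p + 1, q + 1, hpq =>
        by_cases hq : q + 2 = s
        · exact Or.inl (K963.Crit.kg_succ_eq_bot hA p d (hM _ (by omega)))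
        · exact Or.inr (K963.Crit.kg_succ_eq_bot hB q d (hN _ hq))

end Groth.Agent.S18652
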