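import Groth.Statements.S18651
import Groth.Agent.GrLC.K762.Can
import Mathlib.RingTheory.MvPolynomial.Ideal

set_option autoImplicit false
universe u
attribute [local instance] MvPolynomial.weightedGradedAlgebra
open GrLC

namespace Groth.Agent.S18651

open K762.Base K762.Nak K762.Reg K762.Param K762.Soc K762.Ht K762.Ext K762.Fld K762.AInv K762.Can K762.Pair
  RingTheory.Sequence MvPolynomial

section Poly

variable {k : Type u} [Field k] {N : ℕ} {w : Fin N → ℤ}

theorem weight_eq (d : Fin N →₀ ℕ) : Finsupp.weight w d = ∑ i, (d i : ℤ) * w i := by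
  rw [Finsupp.weight_apply, Finsupp.sum_fintype _ _ (by simp)]
  simp

theorem mem_pre_iff (i : ℕ) (x : MvPolynomial (Fin N) k) :
    x ∈ pre (fun j : Fin N => (X j : MvPolynomial (Fin N) k)) i ↔
      ∀ d ∈ x.support, ∃ j : Fin N, (j : ℕ) < i ∧ d j ≠ 0 := by
  have h1 : pre (fun j : Fin N => (X j : MvPolynomial (Fin N) k)) i =
      Ideal.span (X '' {j : Fin N | (j : ℕ) < i}) := by
    rw [pre]
    congr 1
    ext y
    constructor
    · rintro ⟨j, rfl⟩
      exact ⟨j.1, j.2, rfl⟩
    · rintro ⟨j, hj, rfl⟩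
      exact ⟨⟨j, hj⟩, rfl⟩
  rw [h1, mem_ideal_span_X_image]
  rfl

theorem mem_span_iff (x : MvPolynomial (Fin N) k) :
    x ∈ Ideal.span (Set.range (fun j : Fin N => (X j : MvPolynomial (Fin N) k))) ↔ constantCoeff x = 0 := by
  rw [← pre_top, mem_pre_iff]
  constructor
  · intro h
    by_contra hne
    obtain ⟨j, -, hj⟩ := h 0 (by rw [mem_support_iff]; exact hne)
    exact hj rfl
  · intro h d hd
    have hd0 : d ≠ 0 := by
      rintro rfl
      rw [mem_support_iff] at hd
      exact hd h
    obtain ⟨j, hj⟩ := Finsupp.ne_iff.mp hd0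
    exact ⟨j, j.2, hj⟩

theorem isWeaklyRegular_X :
    IsWeaklyRegular (MvPolynomial (Fin N) k) (List.ofFn (fun j : Fin N => (X j : MvPolynomial (Fin N) k))) := by
  rw [isWeaklyRegular_ofFn_iff]
  intro i x hx
  simp only [smul_eq_mul, Ideal.mul_top] at hx ⊢
  rw [mem_pre_iff] at hx ⊢
  intro d hd
  obtain ⟨j, hj, hne⟩ := hx (d + Finsupp.single i 1) (by
    rw [mem_support_iff, mul_comm, coeff_mul_X]
    rwa [mem_support_iff] at hd)
  refine ⟨j, hj, ?_⟩
  have hij : i ≠ j := by
    rintro rfl
    exact lt_irrefl _ hj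
  rwa [Finsupp.add_apply, Finsupp.single_eq_of_ne hij.symm, add_zero] at hne

theorem posField (hw : ∀ i, 0 < w i) {m : Ideal (MvPolynomial (Fin N) k)}
    (hmsp : m = Ideal.span (⋃ n ∈ Set.Ioi (0 : ℤ),
      (weightedHomogeneousSubmodule k w n : Set (MvPolynomial (Fin N) k)))) :
    PosField k (weightedHomogeneousSubmodule k w) m where
  pos n hn x hx := by
    rw [mem_weightedHomogeneousSubmodule] at hx
    ext d
    rw [coeff_zero]
    by_contra hne
    have h1 := hx hne
    rw [weight_eq] at h1
    have h2 : 0 ≤ ∑ i, (d i : ℤ) * w i := Finset.sum_nonneg fun i _ => by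
      have := hw i
      positivity
    omega
  alg c := by
    rw [mem_weightedHomogeneousSubmodule, algebraMap_eq]
    exact isWeightedHomogeneous_C w c
  surj x hx := by
    rw [mem_weightedHomogeneousSubmodule] at hx
    refine ⟨constantCoeff x, ?_⟩
    ext d
    rw [algebraMap_eq, coeff_C]
    split_ifs with hd
    · rw [← hd]; rfl
    · by_contra hne
      have h1 := hx (Ne.symm hne)
      rw [weight_eq] at h1
      apply hd
      symm
      ext i
      have h2 : ∀ j ∈ Finset.univ, 0 ≤ (d j : ℤ) * w j := fun j _ => by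
        have := hw j
        positivity
      have h3 := (Finset.sum_eq_zero_iff_of_nonneg h2).mp h1 i (Finset.mem_univ i)
      rcases mul_eq_zero.mp h3 with h4 | h4
      · exact_mod_cast h4
      · exact absurd h4 (hw i).ne'
  span := hmsp

end Poly

/-- Let k be a field and R = k[X_1, …, X_N] the polynomial ring with deg X_i = w_i > 0. Then the
canonical module of R is K_R = X_1 X_2 ⋯ X_N · R ≅ R(−d) with d = w_1 + ⋯ + w_N; stated here as:
there is a bijective R-linear map R → K_R homogeneous of degree d. The canonical module is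
represented by a finitely generated graded module C together with a homogeneous isomorphism from
Hom_R(C, E) onto H^N_m(R), where m = R_+, E is a *injective envelope of R/m and H^N_m(R) is computed
from a *injective resolution of R in the graded category; by graded Matlis duality this says exactly
that C ≅ K_R as graded modules. -/
theorem result (k : Type u) [Field k] (N : ℕ) (w : Fin N → ℤ) (hw : ∀ i, 0 < w i) (m : HomogeneousIdeal (MvPolynomial.weightedHomogeneousSubmodule k w)) (hm : GrLC.IsStarLocal (MvPolynomial.weightedHomogeneousSubmodule k w) m) (hmsp : m.toIdeal = Ideal.span (⋃ n ∈ Set.Ioi (0 : ℤ), (MvPolynomial.weightedHomogeneousSubmodule k w n : Set (MvPolynomial (Fin N) k)))) (I : GrLC.StarInjRes (MvPolynomial.weightedHomogeneousSubmodule k w) (MvPolynomial.weightedHomogeneousSubmodule k w)) (E' : Type u) [AddCommGroup E'] [Module (MvPolynomial (Fin N) k) E'] (𝓔 : ℤ → AddSubgroup E') [DirectSum.Decomposition 𝓔] [SetLike.GradedSMul (MvPolynomial.weightedHomogeneousSubmodule k w) 𝓔] (e : (MvPolynomial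 (Fin N) k ⧸ m.toIdeal) →ₗ[MvPolynomial (Fin N) k] E') (he : GrLC.IsStarInjHull (MvPolynomial.weightedHomogeneousSubmodule k w) (GrLC.quotGr (MvPolynomial.weightedHomogeneousSubmodule k w) m) 𝓔 e) (C : Type u) [AddCommGroup C] [Module (MvPolynomial (Fin N) k) C] (𝒞 : ℤ → AddSubgroup C) [DirectSum.Decomposition 𝒞] [SetLike.GradedSMul (MvPolynomial.weightedHomogeneousSubmodule k w) 𝒞] (hC : GrLC.IsStarCanonical (MvPolynomial.weightedHomogeneousSubmodule k w) 𝒞 𝓔 m N I) : ∃ f : MvPolynomial (Fin N) k →ₗ[MvPolynomial (Fin N) k] C, Function.Bijective f ∧ GrLC.IsGrHomDeg (MvPolynomial.weightedHomogeneousSubmodule k w) 𝒞 f ((Finset.univ : Finset (Fin N)).sum w) := by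
  have h : PosField k (weightedHomogeneousSubmodule k w) m.toIdeal := posField hw hmsp
  have hX : ∀ i, (fun j : Fin N => (X j : MvPolynomial (Fin N) k)) i ∈ weightedHomogeneousSubmodule k w (w i) :=
    fun i => by
      rw [mem_weightedHomogeneousSubmodule]
      exact isWeightedHomogeneous_X k w i
  let _ : Module k C := Module.compHom C (algebraMap k (MvPolynomial (Fin N) k))
  have _ : IsScalarTower k (MvPolynomial (Fin N) k) C := ⟨fun a r x => by
    change (a • r) • x = (algebraMap k (MvPolynomial (Fin N) k) a) • (r • x)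
    rw [Algebra.smul_def, mul_smul]⟩
  have hm1 : m.toIdeal ^ 1 ≤ Ideal.span (Set.range (fun j : Fin N => (X j : MvPolynomial (Fin N) k))) := by
    rw [pow_one, hmsp, Ideal.span_le]
    intro x hx
    simp only [Set.mem_iUnion] at hx
    obtain ⟨n, hn, hx⟩ := hx
    rw [SetLike.mem_coe, mem_span_iff]
    by_contra hne
    have h1 := (mem_weightedHomogeneousSubmodule k w n x).mp hx (d := 0) hne
    rw [map_zero] at h1
    exact (ne_of_gt hn) h1.symm
  obtain ⟨hCp, lam, hp⟩ := exists_canPair h hX hw isWeaklyRegular_X hm1 I he hC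
  have hRp : IsParam k (weightedHomogeneousSubmodule k w)
      (fun j : Fin N => (X j : MvPolynomial (Fin N) k)) :=
    ⟨⟨0, fun i hi x hx => h.pos i hi x hx⟩, isWeaklyRegular_X,
    finite_quotient (M := MvPolynomial (Fin N) k) h.exists_sub_mem 1 _ (by
      rw [smul_eq_mul, smul_eq_mul, Ideal.mul_top, Ideal.mul_top]; exact hm1)⟩
  let lam0 : MvPolynomial (Fin N) k →ₗ[k] k := 
    { toFun := fun x => constantCoeff x
      map_add' := fun x y => map_add _ _ _
      map_smul' := fun a x => by simp }
  have hlr : ∀ i, ∀ x ∈ weightedHomogeneousSubmodule k w i,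
      x ∉ Ideal.span (Set.range (fun j : Fin N => (X j : MvPolynomial (Fin N) k))) →
      ∃ c ∈ weightedHomogeneousSubmodule k w (0 - i), constantCoeff (x * c) ≠ 0 := by
    intro i x hx hxJ
    rw [mem_span_iff] at hxJ
    have h1 := (mem_weightedHomogeneousSubmodule k w i x).mp hx (d := 0) hxJ
    rw [map_zero] at h1
    refine ⟨1, ?_, ?_⟩
    · rw [← h1, sub_zero]
      exact SetLike.one_mem_graded (weightedHomogeneousSubmodule k w)
    · rwa [mul_one]
  have hp0 : CanPair k (weightedHomogeneousSubmodule k w) (weightedHomogeneousSubmodule k w)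
      (Ideal.span (Set.range (fun j : Fin N => (X j : MvPolynomial (Fin N) k)))) 0 lam0 := by
    refine ⟨?_, ?_, ?_, ?_⟩
    · intro i hi c hc
      by_contra hne
      have h1 := (mem_weightedHomogeneousSubmodule k w i c).mp hc (d := 0) hne
      rw [map_zero] at h1
      exact hi h1.symm
    · intro x hx c
      change constantCoeff (x • c) = 0
      rw [smul_eq_mul, map_mul, (mem_span_iff x).mp hx, zero_mul]
    · exact hlr
    · intro i c hc hcJ
      rw [smul_eq_mul, Ideal.mul_top] at hcJ
      obtain ⟨x, hx, hne⟩ := hlr i c hc hcJ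
      refine ⟨x, hx, ?_⟩
      change constantCoeff (x • c) ≠ 0
      rwa [smul_eq_mul, mul_comm]
  obtain ⟨f, hf⟩ := exists_equiv h hX hw hRp hRp hp0 hCp hp
  refine ⟨f.toLinearMap, f.bijective, ?_⟩
  rw [sub_zero] at hf
  exact hf

end Groth.Agent.S18651
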