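import Groth.Statements.S18653
import Groth.Agent.GrLC.K762.DimOne
import Groth.Agent.Ega4B.DimFT
import Mathlib.RingTheory.AlgebraicIndependent.Transcendental

set_option autoImplicit false
universe u
open GrLC

namespace Groth.Agent.S18653

/-- Let R be a graded ring defined over an algebraically closed field k which is an integral domain of
dimension one. Then R is isomorphic to a semigroup ring (the subring of k[T] spanned by the
monomials T^h, h in an additive submonoid H of ℕ); moreover, if R is generated over k by R_1, then R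
is a polynomial ring k[T]. Here a graded ring defined over k is a commutative k-algebra of finite
type graded in nonnegative degrees by k-subspaces with degree-zero part k·1; the isomorphisms
asserted are ring isomorphisms. -/
theorem result (k : Type u) [Field k] [IsAlgClosed k] (R : Type u) [CommRing R] [IsDomain R] [Algebra k R] (𝒜 : ℤ → Submodule k R) [GradedAlgebra 𝒜] (hpos : ∀ n : ℤ, n < 0 → 𝒜 n = ⊥) (h0 : 𝒜 0 = Submodule.span k {(1 : R)}) [Algebra.FiniteType k R] (h1 : ringKrullDim R = 1) : (∃ H : AddSubmonoid ℕ, Nonempty (R ≃+* AddMonoidAlgebra k H)) ∧ (Ideal.span (⋃ n ∈ Set.Ioi (0 : ℤ), (𝒜 n : Set R)) = Ideal.span ((𝒜 1 : Submodule k R) : Set R) → Nonempty (R ≃+* Polynomial k)) := by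
  classical
  have htr : Algebra.trdeg k R = 1 := by
    obtain ⟨n, h1', h2'⟩ := Groth.Agent.Ega4B.DimFT.exists_dim k R
    have : n = 1 := by
      rw [h1] at h2'
      exact_mod_cast h2'.symm
    rw [h1', this]
    simp
  have hpr : ∀ (n : ℤ), n ≠ 0 → ∀ x y : R, x ∈ 𝒜 n → y ∈ 𝒜 n → y ≠ 0 → ∃ c : k, x = c • y :=
    fun n hn x y hx hy hy0 => K762.DimOne.exists_smul_eq 𝒜 htr.le n hn x y hx hy hy0
  have hnz : ∃ n : ℕ, 0 < n ∧ 𝒜 (n : ℤ) ≠ ⊥ := by
    by_contra h
    push Not at h
    have hA : ∀ n : ℤ, n ≠ 0 → 𝒜 n = ⊥ := by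
      intro n hn
      rcases lt_or_gt_of_ne hn with h' | h'
      · exact hpos n h'
      · lift n to ℕ using h'.le
        exact h n (by exact_mod_cast h')
    have hs : ∀ r : R, ∃ c : k, algebraMap k R c = r := by
      intro r
      have h2 : r ∈ 𝒜 0 := by
        rw [← DirectSum.sum_support_decompose 𝒜 r]
        refine Submodule.sum_mem _ fun n _ => ?_
        by_cases hn : n = 0
        · subst hn
          exact SetLike.coe_mem _
        · have h3 : (DirectSum.decompose 𝒜 r n : R) = 0 := by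
            have h4 : ∀ z : R, z ∈ 𝒜 n → z = 0 := fun z hz => by
              rw [hA n hn] at hz
              exact (Submodule.mem_bot k).mp hz
            exact h4 _ (SetLike.coe_mem _)
          rw [h3]
          exact Submodule.zero_mem _
      rw [h0, Submodule.mem_span_singleton] at h2
      obtain ⟨c, hc⟩ := h2
      exact ⟨c, by rw [Algebra.algebraMap_eq_smul_one]; exact hc⟩
    have : Algebra.IsAlgebraic k R := ⟨fun r => by
      obtain ⟨c, rfl⟩ := hs r
      exact isAlgebraic_algebraMap c⟩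
    have h5 : Algebra.trdeg k R = 0 := by
      exact trdeg_eq_zero
    rw [h5] at htr
    exact zero_ne_one htr
  let M : AddSubmonoid ℕ :=
    { carrier := {n | 𝒜 (n : ℤ) ≠ ⊥}
      add_mem' := by
        intro a b ha hb
        obtain ⟨x, hx, hx0⟩ := Submodule.exists_mem_ne_zero_of_ne_bot ha
        obtain ⟨y, hy, hy0⟩ := Submodule.exists_mem_ne_zero_of_ne_bot hb
        refine (Submodule.ne_bot_iff _).mpr ⟨x * y, ?_, mul_ne_zero hx0 hy0⟩
        have := SetLike.mul_mem_graded hx hy
        push_cast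
        exact this
      zero_mem' := (Submodule.ne_bot_iff _).mpr ⟨1, by
        simpa using SetLike.one_mem_graded 𝒜, one_ne_zero⟩ }
  have hM : ∀ n : ℕ, n ∈ M ↔ 𝒜 (n : ℤ) ≠ ⊥ := fun n => Iff.rfl
  constructor
  · -- the semigroup ring
    have hex : ∃ d : ℕ, 0 < d ∧ ∃ b : ℕ, b ∈ M ∧ b + d ∈ M := by
      obtain ⟨n, hn, hn'⟩ := hnz
      exact ⟨n, hn, 0, M.zero_mem, by rw [zero_add]; exact hn'⟩
    obtain ⟨hd, b, hb, hbd⟩ := Nat.find_spec hex
    set d := Nat.find hex with hddef
    have hmin : ∀ r : ℕ, r < d → (∃ b : ℕ, b ∈ M ∧ b + r ∈ M) → r = 0 := by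
      intro r hr h
      by_contra hr0
      exact Nat.find_min hex hr ⟨Nat.pos_of_ne_zero hr0, h⟩
    have hdvd : ∀ n ∈ M, d ∣ n := by
      intro n hn
      refine Nat.dvd_of_mod_eq_zero (hmin (n % d) (Nat.mod_lt n hd) ⟨(n / d) * (b + d), ?_, ?_⟩)
      · have := AddSubmonoid.nsmul_mem M hbd (n / d)
        rwa [smul_eq_mul] at this
      · have h2 := M.add_mem (AddSubmonoid.nsmul_mem M hb (n / d)) hn
        have h3 : n / d * (b + d) + n % d = (n / d) • b + n := by
          rw [smul_eq_mul, mul_add, add_assoc, mul_comm (n / d) d, Nat.div_add_mod]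
        rw [h3]
        exact h2
    obtain ⟨xb, hxb, hxb0⟩ := Submodule.exists_mem_ne_zero_of_ne_bot ((hM b).mp hb)
    obtain ⟨xa, hxa, hxa0⟩ := Submodule.exists_mem_ne_zero_of_ne_bot ((hM (b + d)).mp hbd)
    have hY : ∀ n : M, ∃ y : R, y ∈ 𝒜 ((n : ℕ) : ℤ) ∧ y ≠ 0 ∧ xb ^ ((n : ℕ) / d) * y = xa ^ ((n : ℕ) / d) := by
      rintro ⟨n, hn⟩
      simp only
      obtain ⟨q, rfl⟩ := hdvd n hn
      rw [Nat.mul_div_cancel_left q hd]
      rcases Nat.eq_zero_or_pos q with rfl | hq
      · refine ⟨1, ?_, one_ne_zero, by simp⟩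
        simpa using SetLike.one_mem_graded 𝒜
      · obtain ⟨z, hz, hz0⟩ := Submodule.exists_mem_ne_zero_of_ne_bot ((hM _).mp hn)
        have h2 : xb ^ q * z ∈ 𝒜 ((q * (b + d) : ℕ) : ℤ) := by
          have := SetLike.mul_mem_graded (SetLike.pow_mem_graded q hxb) hz
          have h3 : (q • (b : ℤ) + ((d * q : ℕ) : ℤ)) = ((q * (b + d) : ℕ) : ℤ) := by
            push_cast
            rw [nsmul_eq_mul]
            ring
          rwa [h3] at this
        have h4 : xa ^ q ∈ 𝒜 ((q * (b + d) : ℕ) : ℤ) := by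
          have := SetLike.pow_mem_graded q hxa
          have h3 : (q • ((b + d : ℕ) : ℤ)) = ((q * (b + d) : ℕ) : ℤ) := by
            push_cast
            rw [nsmul_eq_mul]
          rwa [h3] at this
        have h5 : ((q * (b + d) : ℕ) : ℤ) ≠ 0 := by
          have : 0 < q * (b + d) := Nat.mul_pos hq (by omega)
          exact_mod_cast this.ne'
        obtain ⟨c, hc⟩ := hpr _ h5 _ _ h4 h2 (mul_ne_zero (pow_ne_zero _ hxb0) hz0)
        have hc0 : c ≠ 0 := by
          rintro rfl
          rw [zero_smul] at hc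
          exact pow_ne_zero _ hxa0 hc
        refine ⟨c • z, Submodule.smul_mem _ _ hz, smul_ne_zero hc0 hz0, ?_⟩
        rw [hc, mul_smul_comm]
    choose Y hYm hY0 hYe using hY
    have hcancel : ∀ (q : ℕ) (y z : R), xb ^ q * y = xa ^ q → xb ^ q * z = xa ^ q → y = z := by
      intro q y z h h'
      exact mul_left_cancel₀ (pow_ne_zero q hxb0) (h.trans h'.symm)
    let y : Multiplicative M →* R :=
      { toFun := fun n => Y n.toAdd
        map_one' := by
          refine hcancel 0 _ _ ?_ (by simp)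
          have := hYe (0 : M)
          simpa using this
        map_mul' := by
          intro m n
          refine hcancel (((m.toAdd + n.toAdd : M) : ℕ) / d) _ _ (hYe (m.toAdd + n.toAdd)) ?_
          have h6 : ((m.toAdd + n.toAdd : M) : ℕ) / d = (m.toAdd : ℕ) / d + (n.toAdd : ℕ) / d := by
            rw [AddSubmonoid.coe_add, Nat.add_div_of_dvd_right (hdvd _ m.toAdd.2)]
          rw [h6, pow_add, pow_add, ← hYe m.toAdd, ← hYe n.toAdd]
          ring }
    refine ⟨M, ?_⟩
    suffices h : Nonempty (R ≃ₐ[k] AddMonoidAlgebra k M) from h.elim fun e => ⟨e.toRingEquiv⟩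
    refine K762.DimOne.nonempty_algEquiv 𝒜 M (fun n => ((n : ℕ) : ℤ))
      (fun m n h => Subtype.ext (Int.ofNat_inj.mp h)) ?_ y (fun a => hYm a) (fun a => hY0 a) ?_
    · intro n hn
      by_contra h
      rcases lt_or_ge n 0 with h' | h'
      · exact h (hpos n h')
      · obtain ⟨n', rfl⟩ := Int.eq_ofNat_of_zero_le h'
        exact hn ⟨⟨n', h⟩, rfl⟩
    · intro a z hz
      by_cases ha : ((a : ℕ) : ℤ) = 0
      · have hz' : z ∈ 𝒜 0 := by rw [ha] at hz; exact hz
        have hy' : y (Multiplicative.ofAdd a) = 1 := by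
          have : a = 0 := Subtype.ext (by exact_mod_cast ha)
          rw [this]
          exact map_one y
        rw [h0, Submodule.mem_span_singleton] at hz'
        obtain ⟨c, hc⟩ := hz'
        exact ⟨c, by rw [hy']; exact hc.symm⟩
      · exact hpr _ ha z _ hz (hYm a) (hY0 a)
  · -- the polynomial ring
    intro hspan
    have h1' : 𝒜 1 ≠ ⊥ := by
      intro h
      obtain ⟨n, hn, hn'⟩ := hnz
      apply hn'
      rw [eq_bot_iff]
      intro z hz
      have h2 : z ∈ Ideal.span (⋃ n ∈ Set.Ioi (0 : ℤ), (𝒜 n : Set R)) := by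
        refine Ideal.subset_span ?_
        simp only [Set.mem_iUnion]
        exact ⟨n, Set.mem_Ioi.mpr (by exact_mod_cast hn), hz⟩
      rw [hspan, h] at h2
      simpa using h2
    obtain ⟨x, hx, hx0⟩ := Submodule.exists_mem_ne_zero_of_ne_bot h1'
    let y : Multiplicative ℕ →* R :=
      { toFun := fun n => x ^ n.toAdd
        map_one' := by simp
        map_mul' := by
          intro m n
          simp [pow_add] }
    have hYm : ∀ a : ℕ, x ^ a ∈ 𝒜 (a : ℤ) := by
      intro a
      have := SetLike.pow_mem_graded a hx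
      simpa using this
    suffices h : Nonempty (R ≃ₐ[k] AddMonoidAlgebra k ℕ) from
      h.elim fun e => ⟨e.toRingEquiv.trans (Polynomial.toFinsuppIso k).symm⟩
    refine K762.DimOne.nonempty_algEquiv 𝒜 ℕ (fun n => (n : ℤ))
      (fun m n h => Int.ofNat_inj.mp h) ?_ y (fun a => hYm a) (fun a => pow_ne_zero a hx0) ?_
    · intro n hn
      rcases lt_or_ge n 0 with h' | h'
      · exact hpos n h'
      · obtain ⟨n', rfl⟩ := Int.eq_ofNat_of_zero_le h'
        exact absurd ⟨n', rfl⟩ hn
    · intro a z hz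
      by_cases ha : (a : ℤ) = 0
      · have ha' : a = 0 := by exact_mod_cast ha
        subst ha'
        have hz' : z ∈ 𝒜 0 := by simpa using hz
        rw [h0, Submodule.mem_span_singleton] at hz'
        obtain ⟨c, hc⟩ := hz'
        refine ⟨c, ?_⟩
        have hy' : y (Multiplicative.ofAdd 0) = 1 := map_one y
        rw [hy']
        exact hc.symm
      · exact hpr _ ha z _ hz (hYm a) (pow_ne_zero a hx0)

end Groth.Agent.S18653
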