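import Groth.Statements.S18654
import Groth.Agent.GrLC.K763.CMvan
import Groth.Agent.GrLC.K763.FinComp
import Groth.Agent.GrLC.K763.Std
import Groth.Agent.GrLC.K763.McCoy

set_option autoImplicit false
universe u
open GrLC

namespace Groth.Agent.S18654

open K763 Groth.Agent.Localalg

/-- in a Cohen-Macaulay ring of positive dimension nothing is killed by `R_1` -/
theorem eq_zero_of_mul (R : Type u) [CommRing R] [LocCoh.IsCohenMacaulayRing R] (𝒜 : ℤ → AddSubgroup R) [GradedRing 𝒜] (hpos : ∀ n : ℤ, n < 0 → 𝒜 n = ⊥) (h0 : IsField (GrLC.deg0 𝒜)) (hstd : Ideal.span (⋃ n ∈ Set.Ioi (0 : ℤ), (𝒜 n : Set R)) = Ideal.span ((𝒜 1 : AddSubgroup R) : Set R)) (h1 : 1 ≤ ringKrullDim R)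
    (x : R) (hx : ∀ y ∈ 𝒜 1, x * y = 0) : x = 0 := by
  obtain ⟨m, hm⟩ : ∃ m : Ideal R, m = Ideal.span (⋃ n ∈ Set.Ioi (0 : ℤ), (𝒜 n : Set R)) := ⟨_, rfl⟩
  have hmax : m.IsMaximal := GrField.isMaximal 𝒜 hpos h0 hm
  have hh := GrField.height_eq_ringKrullDim 𝒜 hpos h0 hm
  have hfin : m.height ≠ ⊤ := Ideal.height_ne_top hmax.ne_top
  obtain ⟨d, hd⟩ := ENat.ne_top_iff_exists.1 hfin
  have hd' : ringKrullDim R = (d : ℕ) := by rw [← hh, ← hd]; rfl
  have hd1 : 1 ≤ d := by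
    rw [hd'] at h1
    exact_mod_cast h1
  have hs : Subsingleton (LocCoh.H m 0 R) := CMvan.subsingleton_H 𝒜 hpos h0 hm hd' hd1
  have hs' : Subsingleton (LCBasic.powTors m R) := (LCBasic.H0equiv m R).toEquiv.symm.subsingleton
  have hmem : x ∈ LCBasic.powTors m R := by
    refine ⟨1, fun a ha => ?_⟩
    rw [pow_one, hm, hstd] at ha
    induction ha using Submodule.span_induction with
    | mem y hy => rw [smul_eq_mul, mul_comm]; exact hx y hy
    | zero => exact zero_smul _ _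
    | add y z _ _ hy hz => rw [add_smul, hy, hz, add_zero]
    | smul r y _ hy => rw [smul_assoc, hy, smul_zero]
  exact congrArg Subtype.val (Subsingleton.elim (⟨x, hmem⟩ : LCBasic.powTors m R) 0)

/-- Let R be a graded ring defined over a field k = R_0 which is Cohen–Macaulay and generated over k by
R_1, with dim R ≥ 1, and write H(n, R) = dim_k R_n. Then H(n + 1, R) ≥ H(n, R) for every integer n.
Here 'graded ring defined over a field' means R = ⊕_{n ≥ 0} R_n is Noetherian with R_0 a field, and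
m = R_+ is its unique graded maximal ideal. -/
theorem result (R : Type u) [CommRing R] [LocCoh.IsCohenMacaulayRing R] (𝒜 : ℤ → AddSubgroup R) [GradedRing 𝒜] (hpos : ∀ n : ℤ, n < 0 → 𝒜 n = ⊥) (h0 : IsField (GrLC.deg0 𝒜)) (hstd : Ideal.span (⋃ n ∈ Set.Ioi (0 : ℤ), (𝒜 n : Set R)) = Ideal.span ((𝒜 1 : AddSubgroup R) : Set R)) (h1 : 1 ≤ ringKrullDim R) (n : ℤ) : Module.finrank (GrLC.deg0 𝒜) (GrLC.comp 𝒜 𝒜 n) ≤ Module.finrank (GrLC.deg0 𝒜) (GrLC.comp 𝒜 𝒜 (n + 1)) := by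
  have hker := eq_zero_of_mul R 𝒜 hpos h0 hstd h1
  letI : Field (deg0 𝒜) := h0.toField
  have hfin : ∀ n, Module.Finite (deg0 𝒜) (comp 𝒜 𝒜 n) := FinComp.finite_comp_ring 𝒜 hpos
  have := hfin n
  have := hfin (n + 1)
  have := hfin 1
  let b := Module.finBasis (deg0 𝒜) (comp 𝒜 𝒜 n)
  let c := Module.finBasis (deg0 𝒜) (comp 𝒜 𝒜 (n + 1))
  let x := Module.finBasis (deg0 𝒜) (comp 𝒜 𝒜 1)
  refine McCoy.le (k := deg0 𝒜) (R := R) (fun i => (x i : R)) ?_ (fun j => (b j : R)) ?_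
    (fun l => (c l : R)) ?_
  · intro a ha
    refine hker a fun y hy => ?_
    have h2 : (⟨y, hy⟩ : comp 𝒜 𝒜 1) ∈ Submodule.span (deg0 𝒜) (Set.range x) := by
      rw [x.span_eq]; trivial
    obtain ⟨t, ht⟩ := (Submodule.mem_span_range_iff_exists_fun _).1 h2
    have h3 : y = ∑ i, t i • (x i : R) := by
      have := congrArg Subtype.val ht
      simpa using this.symm
    rw [h3, Finset.mul_sum]
    refine Finset.sum_eq_zero fun i _ => ?_
    rw [mul_smul_comm, ha i, smul_zero]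
  · exact b.linearIndependent.map' (comp 𝒜 𝒜 n).subtype (Submodule.ker_subtype _)
  · intro i j
    have h2 : (x i : R) * (b j : R) ∈ comp 𝒜 𝒜 (n + 1) := by
      have := SetLike.GradedMul.mul_mem (A := 𝒜) (x i).2 (b j).2
      rw [add_comm] at this
      exact this
    have h3 : (⟨_, h2⟩ : comp 𝒜 𝒜 (n + 1)) ∈ Submodule.span (deg0 𝒜) (Set.range c) := by
      rw [c.span_eq]; trivial
    have h4 := Submodule.mem_map_of_mem (f := (comp 𝒜 𝒜 (n + 1)).subtype) h3
    rw [Submodule.map_span, ← Set.range_comp] at h4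
    exact h4

end Groth.Agent.S18654
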