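import Groth.Statements.S18655
import Groth.Agent.GrLC.K763.GorPair
import Groth.Agent.GrLC.K763.SocLC
import Groth.Agent.GrLC.K763.VerMain
import Groth.Agent.GrLC.K763.VerFin
import Groth.Agent.GrLC.K763.Cmp
import Groth.Agent.GrLC.K763.Std
import Groth.Agent.GrLC.K762.VerP

set_option autoImplicit false
universe u
open GrLC

namespace Groth.Agent.S18655

open K763 K763.Ver

/-- Let R be a graded ring defined over a field k = R_0 which is Gorenstein and generated over k by R_1,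
of dimension n, and let q ≥ 1. Then the type r(R^(q)) of the Veronese subring equals H(j + a(R), R)
= dim_k R_{j + a(R)}, where j is the smallest multiple of q with j + a(R) ≥ 0 (so j + a(R) is the
remainder ρ of a(R) modulo q, 0 ≤ ρ < q; the statement is written in terms of ρ). Here the type of
R^(q) is the Bass number μ_n(m', R^(q)), the dimension over the residue field of Ext^n over the
local ring of R^(q) at its graded maximal ideal m' = (R^(q))_+ (R^(q) has dimension n). Here 'graded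
ring defined over a field' means R = ⊕_{n ≥ 0} R_n is Noetherian with R_0 a field, and m = R_+ is
its unique graded maximal ideal. The a-invariant a(R) is the largest degree in which the graded
local cohomology H^n_m(R) (n = dim R, m = R_+), computed from a *injective resolution of R in the
graded category, is nonzero. The Veronese subring R^(q) = ⊕_j R_{jq}, regraded by (R^(q))_j =
R_{jq}, is presented abstractly as a ℤ-graded ring R' with an injective ring homomorphism φ : R' → R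
carrying R'_j onto R_{jq} for every j. -/
theorem result (R : Type u) [CommRing R] [LocCoh.IsGorensteinRing R] (𝒜 : ℤ → AddSubgroup R) [GradedRing 𝒜] (hpos : ∀ n : ℤ, n < 0 → 𝒜 n = ⊥) (h0 : IsField (GrLC.deg0 𝒜)) (m : HomogeneousIdeal 𝒜) (hm : GrLC.IsStarLocal 𝒜 m) (hmsp : m.toIdeal = Ideal.span (⋃ n ∈ Set.Ioi (0 : ℤ), (𝒜 n : Set R))) (hstd : Ideal.span (⋃ n ∈ Set.Ioi (0 : ℤ), (𝒜 n : Set R)) = Ideal.span ((𝒜 1 : AddSubgroup R) : Set R)) (n : ℕ) (hn : ringKrullDim R = n) (I : GrLC.StarInjRes 𝒜 𝒜) (a : ℤ) (ha : GrLC.endDeg (I.Hgr m n) = ((a : WithTop ℤ) : WithBot (WithTop ℤ))) (q : ℕ) (hq : 0 < q) (R' : Type u) [CommRing R'] (𝒜' : ℤ → AddSubgroup R') [GradedRing 𝒜'] (φ : R' →+* R) (hφ : Function.Injective φ) (hdeg : ∀ j : ℤ, (𝒜' j).map (φ : R' →+ R) = 𝒜 (j * q)) (m' : HomogeneousIdeal 𝒜') [m'.toIdeal.IsMaximal] (hm'sp : m'.toIdeal = Ideal.span (⋃ j ∈ Set.Ioi (0 : ℤ), (𝒜' j : Set R'))) (ρ : ℤ) (hρ0 : 0 ≤ ρ) (hρq : ρ < q) (hρa : (q : ℤ) ∣ a - ρ) : GrLC.bassNum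 m'.toIdeal R' n = (Module.finrank (GrLC.deg0 𝒜) (GrLC.comp 𝒜 𝒜 ρ) : ℕ∞) := by
  have hCM : LocCoh.IsCohenMacaulayRing R := K762.VerP.cm_of_gorenstein inferInstance
  have D : Data 𝒜 𝒜' φ q := ⟨hq, hφ, hdeg⟩
  have hN' : IsNoetherianRing R' := D.isNoetherianRing
  have h0' : IsField (deg0 𝒜') := MulEquiv.isField h0 D.deg0Equiv.toMulEquiv
  have hq' : (0 : ℤ) < q := by positivity
  have hpos' : ∀ n : ℤ, n < 0 → 𝒜' n = ⊥ := by
    intro j hj
    rw [eq_bot_iff]
    intro x hx
    have h1 := D.map_mem hx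
    rw [hpos _ (mul_neg_of_neg_of_pos hj hq'), AddSubgroup.mem_bot] at h1
    exact (map_eq_zero_iff φ hφ).1 h1
  obtain ⟨hG1, hG2⟩ := GorPair.gor hpos h0 hm hmsp n hn I a ha
  obtain ⟨-, habove⟩ := (HGr.endDeg_eq_iff _).1 ha
  obtain ⟨I'⟩ := K759.Exist.nonempty_res 𝒜' 𝒜'
  have hrad := D.radical_eq hmsp hm'sp
  obtain ⟨Ψ, hΨ, hΨd⟩ := exists_semilinear D (M := R) (ℳ := 𝒜) (M' := R') (ℳ' := 𝒜')
    (g := φ.toSemilinearMap) ⟨hφ, hdeg⟩ m m' I hrad I' n
  obtain ⟨ec⟩ := Cmp.compare R' 𝒜' m' R' 𝒜' I' n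
  letI := K759.Hgr.Hdec I' m' n
  letI := K759.Hgr.Hdec I m n
  -- the socle
  let W : Submodule R' (I'.H m' n) :=
    { carrier := {x | ∀ b ∈ m'.toIdeal, b • x = 0}
      zero_mem' := fun b _ => smul_zero b
      add_mem' := fun {x y} hx hy b hb => by rw [smul_add, hx b hb, hy b hb, add_zero]
      smul_mem' := fun r x hx b hb => by rw [smul_comm, hx b hb, smul_zero] }
  have hWmem : ∀ x, x ∈ W ↔ ∀ b ∈ m'.toIdeal, b • x = 0 := fun x => Iff.rfl
  have hmpos : ∀ (i : ℤ), 0 < i → ∀ b ∈ 𝒜' i, b ∈ m'.toIdeal := fun i hi b hb =>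
    GrField.mem_of_pos 𝒜' hm'sp hi hb
  -- `h ∈ H_{jq}` killed by `R_q` lies in degree `a - ρ`
  have key : ∀ (j : ℤ), ∀ x ∈ I'.Hgr m' n j, x ∈ W → x ≠ 0 → j * q = a - ρ := by
    intro j x hx hxW hx0
    have hΨx : Ψ x ∈ I.Hgr m n (j * q) := by rw [← hΨd]; exact ⟨x, hx, rfl⟩
    have hΨx0 : Ψ x ≠ 0 := (map_ne_zero_iff Ψ hΨ).2 hx0
    obtain ⟨r, hr, hrx⟩ := hG1 _ _ hΨx hΨx0
    have hle : 0 ≤ a - j * q := by
      by_contra hlt
      rw [hpos _ (by omega), AddSubgroup.mem_bot] at hr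
      exact hrx (by rw [hr, zero_smul])
    have hkill : ∀ s ∈ 𝒜 q, s • Ψ x = 0 := by
      intro s hs
      obtain ⟨s', hs', rfl⟩ := D.exists_eq (j := 1) (y := s) (by rw [one_mul]; exact hs)
      rw [← map_smulₛₗ, hxW s' (hmpos 1 one_pos s' hs'), map_zero]
    have hlt : a - j * q < q := by
      by_contra hge
      have hr' : r ∈ 𝒜 ((a - j * q - q) + q) := by
        rw [sub_add_cancel]; exact hr
      have h1 := Std.mem_pr 𝒜 hstd (m := a - j * q - q) (n := q) (by omega) hq'.le hr'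
      apply hrx
      rw [Std.pr] at h1
      clear hr hr' hrx
      induction h1 using AddSubgroup.closure_induction with
      | mem x hx =>
        obtain ⟨s, hs, t, ht, rfl⟩ := hx
        simp only
        rw [mul_smul, hkill t ht, smul_zero]
      | zero => rw [zero_smul]
      | add x y _ _ hx hy => rw [add_smul, hx, hy, add_zero]
      | neg x _ hx => rw [neg_smul, hx, neg_zero]
    obtain ⟨t, ht⟩ := hρa
    have h3 : (a - j * q) - ρ = q * (t - j) := by rw [mul_sub]; linarith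
    have h4 : t - j = 0 := by
      by_contra hne
      rcases lt_or_gt_of_ne hne with h | h
      · have : q * (t - j) ≤ q * (-1) := mul_le_mul_of_nonneg_left (by omega) hq'.le
        omega
      · have : q * 1 ≤ q * (t - j) := mul_le_mul_of_nonneg_left (by omega) hq'.le
        omega
    rw [h4, mul_zero] at h3
    omega
  have hP : ∀ y, y ∈ I.Hcomp m n (a - ρ) ↔ ∃ x ∈ W.restrictScalars (deg0 𝒜'), Ψ x = y := by
    intro y
    constructor
    · intro hy
      obtain ⟨t, ht⟩ := hρa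
      rw [mul_comm] at ht
      have hy' : y ∈ (I'.Hgr m' n t).map (Ψ : I'.H m' n →+ I.H m n) := by
        rw [hΨd, ← ht]; exact hy
      obtain ⟨x, hx, rfl⟩ := hy'
      refine ⟨x, ?_, rfl⟩
      change x ∈ W
      rw [hWmem]
      -- `x` is killed by `m'`
      have h1 : m'.toIdeal ≤ LinearMap.ker (LinearMap.toSpanSingleton R' _ x) := by
        rw [hm'sp, Ideal.span_le]
        intro b hb
        simp only [Set.mem_iUnion] at hb
        obtain ⟨i, hi, hb⟩ := hb
        have hi' : (0 : ℤ) < i := hi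
        change b • x = 0
        apply hΨ
        rw [map_smulₛₗ, map_zero]
        have h2 : φ b • Ψ x ∈ I.Hgr m n (i * q + (a - ρ)) := HGr.smul_mem I m n (D.map_mem hb) hy
        have h3 : 0 < i * q := mul_pos hi' hq'
        have h5 : a < i * q + (a - ρ) := by
          have : q * 1 ≤ q * i := mul_le_mul_of_nonneg_left (by omega) hq'.le
          rw [mul_comm i]
          omega
        rw [habove _ h5, AddSubgroup.mem_bot] at h2
        exact h2
      exact fun b hb => h1 hb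
    · rintro ⟨x, hx, rfl⟩
      change x ∈ W at hx
      -- components
      have hxc : ∀ j, K761.Gr.pr (I'.Hgr m' n) j x ∈ W := by
        intro j b hb
        have hle : m'.toIdeal ≤ LinearMap.ker (LinearMap.toSpanSingleton R' _
            (K761.Gr.pr (I'.Hgr m' n) j x)) := by
          rw [hm'sp, Ideal.span_le]
          intro b hb
          simp only [Set.mem_iUnion] at hb
          obtain ⟨i, hi, hb⟩ := hb
          change b • K761.Gr.pr (I'.Hgr m' n) j x = 0
          rw [← K761.Gr.pr_smul (I'.Hgr m' n) hb, hx b (hmpos i hi b hb), map_zero]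
        exact hle hb
      rw [← K761.Gr.sum_pr (I'.Hgr m' n) x, map_sum]
      refine sum_mem fun j _ => ?_
      by_cases hj0 : K761.Gr.pr (I'.Hgr m' n) j x = 0
      · rw [hj0, map_zero]; exact zero_mem _
      · have hj := K761.Gr.pr_mem (I'.Hgr m' n) j x
        have := key j _ hj (hxc j) hj0
        rw [← this]
        have h6 : Ψ (K761.Gr.pr (I'.Hgr m' n) j x) ∈ I.Hgr m n (j * q) := by
          rw [← hΨd]; exact ⟨_, hj, rfl⟩
        exact h6
  obtain ⟨hfinP, hrankP⟩ := hG2 ρ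
  have hrank := D.finrank_eq Ψ hΨ (I.Hcomp m n (a - ρ)) (W.restrictScalars (deg0 𝒜')) hP
  letI : Field (deg0 𝒜') := h0'.toField
  have hfin : Module.Finite (deg0 𝒜') W :=
    D.finite Ψ hΨ (I.Hcomp m n (a - ρ)) (W.restrictScalars (deg0 𝒜')) hP
  rw [SocLC.bassNum_eq (k := deg0 𝒜') m'.toIdeal ?_ R' n ?_ (I'.H m' n) ec.symm W hWmem]
  · rw [← hrankP, ← hrank]
    rfl
  · intro r
    refine ⟨⟨(DirectSum.decompose 𝒜' r 0 : R'), (DirectSum.decompose 𝒜' r 0).2⟩, ?_⟩
    exact GrField.sub_zero_mem 𝒜' hpos' hm'sp r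
  · intro i hi
    exact D.subsingleton_H (M := R) (ℳ := 𝒜) (M' := R') (ℳ' := 𝒜') (g := φ.toSemilinearMap) hrad
      ⟨hφ, hdeg⟩ i (CMvan.subsingleton_H 𝒜 hpos h0 hmsp hn hi)


end Groth.Agent.S18655
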