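import Groth.Statements.S18656
import Groth.Agent.GrLC.K763.Cmp
import Groth.Agent.GrLC.K763.TopH
import Groth.Agent.GrLC.K763.HGr
import Groth.Agent.GrLC.K763.Basic

set_option autoImplicit false
universe u
open GrLC

namespace Groth.Agent.S18656

open K763.HGr K763.TopH K763.Basic

/-- Let R be a graded ring defined over a field k = R_0, generated over k by R_1, of dimension r ≥ 1,
and let a(R) be its a-invariant. Then the homogeneous piece H^r_m(R)_n is nonzero for every n ≤
a(R). Here 'graded ring defined over a field' means R = ⊕_{n ≥ 0} R_n is Noetherian with R_0 a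
field, and m = R_+ is its unique graded maximal ideal. The a-invariant a(R) is the largest degree in
which the graded local cohomology H^n_m(R) (n = dim R, m = R_+), computed from a *injective
resolution of R in the graded category, is nonzero. -/
theorem result (R : Type u) [CommRing R] [IsNoetherianRing R] (𝒜 : ℤ → AddSubgroup R) [GradedRing 𝒜] (hpos : ∀ n : ℤ, n < 0 → 𝒜 n = ⊥) (h0 : IsField (GrLC.deg0 𝒜)) (m : HomogeneousIdeal 𝒜) (hm : GrLC.IsStarLocal 𝒜 m) (hmsp : m.toIdeal = Ideal.span (⋃ n ∈ Set.Ioi (0 : ℤ), (𝒜 n : Set R))) (hstd : Ideal.span (⋃ n ∈ Set.Ioi (0 : ℤ), (𝒜 n : Set R)) = Ideal.span ((𝒜 1 : AddSubgroup R) : Set R)) (r : ℕ) (hr : ringKrullDim R = r) (h1 : 1 ≤ r) (I : GrLC.StarInjRes 𝒜 𝒜) (a : ℤ) (ha : GrLC.endDeg (I.Hgr m r) = ((a : WithTop ℤ) : WithBot (WithTop ℤ))) (n : ℤ) (hn : n ≤ a) : I.Hcomp m r n ≠ ⊥ := by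
  obtain ⟨e⟩ := K763.Cmp.compare R 𝒜 m R 𝒜 I r
  have htop : m.toIdeal • (⊤ : Submodule R (I.H m r)) = ⊤ := by
    have h := smul_top_eq_top_of_dim (M := R) m.toIdeal r h1 hr.le
    rw [eq_top_iff]
    intro x _
    have h3 : e x ∈ m.toIdeal • (⊤ : Submodule R (LocCoh.H m.toIdeal r R)) := by
      rw [h]; trivial
    have h4 : e.symm (e x) ∈ (m.toIdeal • (⊤ : Submodule R (LocCoh.H m.toIdeal r R))).map
        (e.symm : LocCoh.H m.toIdeal r R →ₗ[R] I.H m r) := Submodule.mem_map_of_mem h3
    rw [Submodule.map_smul''] at h4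
    rw [LinearEquiv.symm_apply_apply] at h4
    exact Submodule.smul_mono le_rfl le_top h4
  -- vanishing propagates upwards
  have hint := K763.Cmp.internal R 𝒜 m R 𝒜 I r
  let _ : DirectSum.Decomposition (I.Hgr m r) := hint.chooseDecomposition
  have step : ∀ j : ℤ, I.Hgr m r j = ⊥ → I.Hgr m r (1 + j) = ⊥ := by
    intro j hj
    rw [eq_bot_iff]
    intro x hx
    have h2 : x ∈ m.toIdeal • (⊤ : Submodule R (I.H m r)) := by rw [htop]; trivial
    rw [hmsp, hstd] at h2
    have h3 : ∀ y ∈ Ideal.span ((𝒜 1 : AddSubgroup R) : Set R) • (⊤ : Submodule R (I.H m r)),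
        (DirectSum.decompose (I.Hgr m r) y (1 + j) : I.H m r) = 0 := by
      intro y hy
      have hcomp : ∀ (s : R) (hs : s ∈ 𝒜 1) (z : I.H m r),
          (DirectSum.decompose (I.Hgr m r) (s • z) (1 + j) : I.H m r) = 0 := by
        intro s hs z
        rw [decompose_smul_left 𝒜 (I.Hgr m r) hs, add_sub_cancel_left]
        have h5 : (DirectSum.decompose (I.Hgr m r) z j : I.H m r) = 0 :=
          (AddSubgroup.eq_bot_iff_forall _).1 hj _ (DirectSum.decompose (I.Hgr m r) z j).2
        rw [h5, smul_zero]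
      refine Submodule.smul_induction_on hy (fun s hs z _ => ?_) (fun y z hy hz => ?_)
      · clear hy
        induction hs using Submodule.span_induction generalizing z with
        | mem s hs => exact hcomp s hs z
        | zero => rw [zero_smul, DirectSum.decompose_zero]; rfl
        | add s t _ _ hs ht =>
          rw [add_smul, DirectSum.decompose_add, DirectSum.add_apply, AddMemClass.coe_add,
            hs z trivial, ht z trivial, add_zero]
        | smul c s _ hs => rw [smul_eq_mul, mul_comm, mul_smul]; exact hs _ trivial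
      · rw [DirectSum.decompose_add, DirectSum.add_apply, AddMemClass.coe_add, hy, hz, add_zero]
    have h4 := h3 x h2
    rw [DirectSum.decompose_of_mem_same _ hx] at h4
    exact h4
  intro hbot
  rw [← Hgr_eq_bot_iff] at hbot
  have key : ∀ k : ℕ, I.Hgr m r (n + k) = ⊥ := by
    intro k
    induction k with
    | zero => simpa using hbot
    | succ k ih =>
      have := step _ ih
      rwa [show (1 : ℤ) + (n + k) = n + ((k + 1 : ℕ) : ℤ) by push_cast; ring] at this
  obtain ⟨k, hk⟩ := Int.eq_ofNat_of_zero_le (sub_nonneg.2 hn)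
  refine ne_bot_of_endDeg_eq _ ha ?_
  have := key k
  rwa [← hk, add_sub_cancel] at this

end Groth.Agent.S18656
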