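import Groth.Statements.S18657
import Groth.Agent.GrLC.K763.PairC
import Groth.Agent.GrLC.K763.VerDual
import Groth.Agent.GrLC.K763.SurjTop
import Groth.Agent.GrLC.K763.Cmp
import Groth.Agent.GrLC.K763.Std

set_option autoImplicit false
universe u
open GrLC

namespace Groth.Agent.S18657

open K763 K763.PairC K762.Base

/-- if everything of degree `D` acts on `c` through one element, so it does in degree `e D`. -/
theorem pow_line {R : Type u} [CommRing R] {𝒜 : ℤ → AddSubgroup R} [GradedRing 𝒜]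
    (hstd : Ideal.span (⋃ n ∈ Set.Ioi (0 : ℤ), (𝒜 n : Set R)) = Ideal.span ((𝒜 1 : AddSubgroup R) : Set R))
    {C : Type u} [AddCommGroup C] [Module R C] {D : ℤ} (hD : 0 < D) (c : C) (y : R)
    (hy : ∀ r ∈ 𝒜 D, ∃ α : deg0 𝒜, r • c = α • y • c) (e : ℕ) :
    ∀ r ∈ 𝒜 ((e + 1 : ℕ) * D), ∃ α : deg0 𝒜, r • c = α • y ^ (e + 1) • c := by
  induction e with
  | zero => simpa using hy
  | succ e ih =>
    intro r hr
    have hr' : r ∈ 𝒜 (D + (e + 1 : ℕ) * D) := by
      convert hr using 2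
      push_cast; ring
    have h1 := Std.mem_pr 𝒜 hstd hD.le (by positivity) hr'
    rw [Std.pr] at h1
    clear hr hr'
    induction h1 using AddSubgroup.closure_induction with
    | mem x hx =>
      obtain ⟨s, hs, t, ht, rfl⟩ := hx
      obtain ⟨α, hα⟩ := ih t ht
      obtain ⟨β, hβ⟩ := hy s hs
      refine ⟨α * β, ?_⟩
      simp only
      rw [mul_smul, hα]
      change s • ((α : R) • y ^ (e + 1) • c) = ((α : R) * (β : R)) • y ^ (e + 1 + 1) • c
      have hβ' : s • c = (β : R) • y • c := hβ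
      rw [smul_comm s, smul_comm s, hβ', pow_succ (n := e + 1)]
      simp only [smul_smul]
      congr 1
      ring
    | zero => exact ⟨0, by rw [zero_smul, zero_smul]⟩
    | add x z _ _ hx hz =>
      obtain ⟨α, hα⟩ := hx
      obtain ⟨β, hβ⟩ := hz
      exact ⟨α + β, by rw [add_smul, add_smul, hα, hβ]⟩
    | neg x _ hx =>
      obtain ⟨α, hα⟩ := hx
      exact ⟨-α, by rw [neg_smul, neg_smul, hα]⟩

/-- Let R be a graded ring defined over a field k = R_0 which is Cohen–Macaulay and generated over k by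
R_1, of dimension r ≥ 2, with canonical module K_R and a-invariant a(R). Then dim_k (K_R)_n ≥ 2 for
every n > −a(R). Here 'graded ring defined over a field' means R = ⊕_{n ≥ 0} R_n is Noetherian with
R_0 a field (so R is finitely generated over R_0), m = R_+ is its unique graded maximal ideal and n
= dim R; the canonical module K_R (the graded dual of H^n_m(R)) is represented by a finitely
generated graded module C together with a homogeneous isomorphism from Hom_R(C, E) onto H^n_m(R),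
where E is a *injective envelope of R/m and H^n_m(R) is computed from a *injective resolution of R
in the graded category; by graded Matlis duality this says exactly that C ≅ K_R as graded modules.
The a-invariant a(R) is the largest degree in which the graded local cohomology H^n_m(R) (n = dim R,
m = R_+), computed from a *injective resolution of R in the graded category, is nonzero. -/
theorem result (R : Type u) [CommRing R] [LocCoh.IsCohenMacaulayRing R] (𝒜 : ℤ → AddSubgroup R) [GradedRing 𝒜] (hpos : ∀ n : ℤ, n < 0 → 𝒜 n = ⊥) (h0 : IsField (GrLC.deg0 𝒜)) (m : HomogeneousIdeal 𝒜) (hm : GrLC.IsStarLocal 𝒜 m) (hmsp : m.toIdeal = Ideal.span (⋃ n ∈ Set.Ioi (0 : ℤ), (𝒜 n : Set R))) (hstd : Ideal.span (⋃ n ∈ Set.Ioi (0 : ℤ), (𝒜 n : Set R)) = Ideal.span ((𝒜 1 : AddSubgroup R) : Set R)) (n : ℕ) (hn : ringKrullDim R = n) (h2 : 2 ≤ n) (I : GrLC.StarInjRes 𝒜 𝒜) (a : ℤ) (ha : GrLC.endDeg (I.Hgr m n) = ((a : WithTop ℤ) : WithBot (WithTop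 ℤ))) (E' : Type u) [AddCommGroup E'] [Module R E'] (𝓔 : ℤ → AddSubgroup E') [DirectSum.Decomposition 𝓔] [SetLike.GradedSMul 𝒜 𝓔] (e : (R ⧸ m.toIdeal) →ₗ[R] E') (he : GrLC.IsStarInjHull 𝒜 (GrLC.quotGr 𝒜 m) 𝓔 e) (C : Type u) [AddCommGroup C] [Module R C] (𝒞 : ℤ → AddSubgroup C) [DirectSum.Decomposition 𝒞] [SetLike.GradedSMul 𝒜 𝒞] (hC : GrLC.IsStarCanonical 𝒜 𝒞 𝓔 m n I) (j : ℤ) (hj : -a < j) : 2 ≤ Module.finrank (GrLC.deg0 𝒜) (GrLC.comp 𝒜 𝒞 j) := by
  letI : Field (deg0 𝒜) := h0.toField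
  have hP : PosField (deg0 𝒜) 𝒜 m.toIdeal := K762.Fld.posField hpos h0 hmsp
  obtain ⟨hCfin, Φ, hΦ⟩ := hC
  letI := K759.Hgr.Hdec I m n
  have hB := isPP (ℋ := I.Hgr m n) (𝒞 := 𝒞) hpos h0 hmsp he Φ hΦ
  -- nonzerodivisors of `R` are injective on `C`
  obtain ⟨ec⟩ := Cmp.compare R 𝒜 m R 𝒜 I n
  have hnzd : ∀ g ∈ nonZeroDivisors R, ∀ c : C, g • c = 0 → c = 0 := by
    intro g hg c hc
    refine VerDual.IsPP.eq_zero hB fun i h _ => ?_
    obtain ⟨x, hx⟩ := SurjTop.exists_smul_eq m.toIdeal n hn g hg (ec h)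
    have h1 : h = g • ec.symm x := by
      rw [← map_smul, hx, LinearEquiv.symm_apply_apply]
    rw [h1, hB.adj, hc, map_zero]
  -- a nonzero element of `C` of degree `-a`
  obtain ⟨c, hc, hc0⟩ : ∃ c ∈ 𝒞 (-a), c ≠ 0 := by
    have h1 := ((HGr.endDeg_eq_iff _).1 ha).1
    rw [Ne, AddSubgroup.eq_bot_iff_forall] at h1
    push Not at h1
    obtain ⟨h, hh, hh0⟩ := h1
    by_contra hcon
    push Not at hcon
    refine hh0 (hB.ndl a (-a) (by omega) h hh fun c hc => ?_)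
    rw [hcon c hc, map_zero]
  -- suppose `dim C_j ≤ 1`
  by_contra hlt
  have hle : Module.finrank (deg0 𝒜) (comp 𝒜 𝒞 j) ≤ 1 := by omega
  have hfin : Module.Finite (deg0 𝒜) (comp 𝒜 𝒞 j) := FinComp.finite_comp 𝒜 𝒞 hpos j
  obtain ⟨v, hv⟩ := finrank_le_one_iff.1 hle
  obtain ⟨D, hD⟩ : ∃ D : ℤ, D = j + a := ⟨_, rfl⟩
  have hDpos : 0 < D := by omega
  have hmem : ∀ r ∈ 𝒜 D, r • c ∈ 𝒞 j := by
    intro r hr
    have := SetLike.GradedSMul.smul_mem (A := 𝒜) (B := 𝒞) hr hc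
    rwa [vadd_eq_add, show D + -a = j by omega] at this
  obtain ⟨y, hy⟩ : ∃ y : R, ∀ r ∈ 𝒜 D, ∃ α : deg0 𝒜, r • c = α • y • c := by
    by_cases hall : ∀ r ∈ 𝒜 D, r • c = 0
    · exact ⟨0, fun r hr => ⟨0, by rw [hall r hr, zero_smul]⟩⟩
    push Not at hall
    obtain ⟨y, hyD, hy0⟩ := hall
    refine ⟨y, fun r hr => ?_⟩
    obtain ⟨β, hβ⟩ := hv ⟨y • c, hmem y hyD⟩
    obtain ⟨γ, hγ⟩ := hv ⟨r • c, hmem r hr⟩
    have hβ' : β • (v : C) = y • c := congrArg Subtype.val hβ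
    have hγ' : γ • (v : C) = r • c := congrArg Subtype.val hγ
    have hβ0 : β ≠ 0 := by
      rintro rfl
      rw [zero_smul] at hβ'
      exact hy0 hβ'.symm
    refine ⟨γ * β⁻¹, ?_⟩
    rw [← hβ', ← hγ', smul_smul, mul_assoc, inv_mul_cancel₀ hβ0, mul_one]
  -- the pencil
  obtain ⟨D', hD'pos, hdvd, s, t, hs, ht, hst⟩ := SurjTop.exists_pencil hP hn h2
    (q := D.toNat) (by omega)
  obtain ⟨e', he'⟩ := hdvd
  have hDn : ((D.toNat : ℕ) : ℤ) = D := Int.toNat_of_nonneg hDpos.le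
  rw [hDn] at he'
  have he'pos : 0 < e' := by
    by_contra hneg
    have : D * e' ≤ 0 := mul_nonpos_of_nonneg_of_nonpos hDpos.le (by omega)
    omega
  obtain ⟨e'', rfl⟩ : ∃ e'' : ℕ, e' = ((e'' + 1 : ℕ) : ℤ) := ⟨(e' - 1).toNat, by push_cast; omega⟩
  have hl := pow_line (𝒜 := 𝒜) hstd hDpos c y hy e''
  rw [he', mul_comm] at hs ht
  obtain ⟨α, hα⟩ := hl s hs
  obtain ⟨β, hβ⟩ := hl t ht
  have hsne : s • c ≠ 0 := fun h => by
    refine hc0 (hnzd s ?_ c h)
    have := hst 1 0 (Or.inl one_ne_zero)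
    rwa [one_smul, zero_smul, add_zero] at this
  have hα0 : α ≠ 0 := by
    rintro rfl
    rw [zero_smul] at hα
    exact hsne hα
  refine hc0 (hnzd _ (hst β (-α) (Or.inr (neg_ne_zero.2 hα0))) c ?_)
  rw [add_smul, smul_assoc, smul_assoc, hα, hβ, neg_smul, smul_smul, smul_smul, mul_comm, add_neg_cancel]


end Groth.Agent.S18657
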