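import Groth.Statements.S18659
import Groth.Agent.GrSegre.K961.PerfSeg
import Groth.Agent.GrSegre.K962.CanSeg
import Groth.Agent.S18647

set_option autoImplicit false
universe u
open scoped TensorProduct
open GrSegre

namespace Groth.Agent.S18659

/-- Let R and S be graded rings defined over a field k which are Gorenstein, of dimensions r ≥ 2 and s ≥
2, with a(R) = a(S). If the Segre product T = R # S is a Cohen–Macaulay ring, then T is a Gorenstein
ring. (No generation in degree one is assumed here.) Here a graded ring defined over k is a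
commutative k-algebra of finite type, graded in nonnegative degrees by k-subspaces with degree-zero
part k·1; the a-invariant a(R) is the largest degree in which the graded local cohomology H^{dim
R}_{R_+}(R), computed from a *injective resolution of R in the graded category, is nonzero; the
Segre product T = ⊕_n R_n ⊗_k S_n is presented abstractly as a graded k-algebra T with an injective
k-algebra homomorphism ψ : T → R ⊗_k S carrying T_n onto the k-span of the elementary tensors a ⊗ b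
with a ∈ R_n, b ∈ S_n. -/
theorem result (k : Type u) [Field k] (R : Type u) [CommRing R] [Algebra k R] (𝒜 : ℤ → Submodule k R) [GradedAlgebra 𝒜] (hposR : ∀ n : ℤ, n < 0 → 𝒜 n = ⊥) (h0R : 𝒜 0 = Submodule.span k {(1 : R)}) [Algebra.FiniteType k R] (S : Type u) [CommRing S] [Algebra k S] (ℬ : ℤ → Submodule k S) [GradedAlgebra ℬ] (hposS : ∀ n : ℤ, n < 0 → ℬ n = ⊥) (h0S : ℬ 0 = Submodule.span k {(1 : S)}) [Algebra.FiniteType k S] (T : Type u) [CommRing T] [Algebra k T] (𝒯 : ℤ → Submodule k T) [GradedAlgebra 𝒯] (ψ : T →ₐ[k] TensorProduct k R S) (hψ : Function.Injective ψ) (hdegT : ∀ n : ℤ, (𝒯 n).map ψ.toLinearMap = Submodule.span k {x : TensorProduct k R S | ∃ a ∈ 𝒜 n, ∃ b ∈ ℬ n, x = a ⊗ₜ[k] b}) [LocCoh.IsGorensteinRing R] [LocCoh.IsGorensteinRing S] (mR : HomogeneousIdeal 𝒜) (hmR : mR.toIdeal = Ideal.span (⋃ n ∈ Set.Ioi (0 : ℤ), (𝒜 n : Set R))) (I : GrLC.StarInjRes 𝒜 𝒜) (mS : HomogeneousIdeal ℬ) (hmS : mS.toIdeal = Ideal.span (⋃ n ∈ Set.Ioi (0 : ℤ),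 (ℬ n : Set S))) (J : GrLC.StarInjRes ℬ ℬ) (r s : ℕ) (hr : ringKrullDim R = r) (hs : ringKrullDim S = s) (h2r : 2 ≤ r) (h2s : 2 ≤ s) (haeq : GrLC.endDeg (I.Hgr mR r) = GrLC.endDeg (J.Hgr mS s)) [LocCoh.IsCohenMacaulayRing T] : LocCoh.IsGorensteinRing T := by
  have hT : GrSeg.IsSegreRing 𝒜 ℬ 𝒯 ψ := ⟨hψ, hdegT⟩
  haveI : LocCoh.IsCohenMacaulayRing R := K762.VerP.cm_of_gorenstein inferInstance
  haveI : LocCoh.IsCohenMacaulayRing S := K762.VerP.cm_of_gorenstein inferInstance
  have hPR := K961.PerfSeg.posField' hposR h0R hmR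
  have hPS := K961.PerfSeg.posField' hposS h0S hmS
  obtain ⟨a, u₀, hu⟩ := K961.PerfP.exists_of_gorenstein hPR hr I
  obtain ⟨b, v₀, hv⟩ := K961.PerfP.exists_of_gorenstein hPS hs J
  obtain rfl : a = b := by
    rw [hu.endDeg_eq hPR, hv.endDeg_eq hPS] at haeq
    exact WithTop.coe_injective (WithBot.coe_injective haeq)
  let mT : HomogeneousIdeal 𝒯 := ⟨K961.Irr.irr 𝒯, K961.Irr.isHomogeneous_irr 𝒯⟩
  obtain ⟨IT⟩ := K963.Iface.nonempty_res 𝒯 𝒯
  have hd : r + s - 1 + 1 = r + s := by omega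
  have hmT : mT.toIdeal = Ideal.span (⋃ n ∈ Set.Ioi (0 : ℤ), (𝒯 n : Set T)) := rfl
  obtain ⟨w₀, hw⟩ := K961.PerfSeg.perf_segre hT hposR h0R hposS h0S hmR hmS hmT I J IT hr hs h2r h2s hd hu hv
  have hdim := Groth.Agent.S18647.result k R 𝒜 hposR h0R S ℬ hposS h0S T 𝒯 ψ hψ hdegT r s hr hs
    (by omega) (by omega)
  have hPT := K961.PerfSeg.posField' (K962.CanSeg.hposT hT hposR) (K962.CanSeg.h0T hT h0R h0S) hmT
  exact K961.PerfP.isGorensteinRing hPT hdim IT hw

end Groth.Agent.S18659
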