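import Groth.Statements.S18662
import Groth.Agent.GrLC.K763.Cmp
import Groth.Agent.Localalg.LCBasic

set_option autoImplicit false
universe u
open GrLC

namespace Groth.Agent.S18662

/-- Let R be a graded ring defined over a field, m = R_+, and M a graded R-module satisfying condition
(**): there is a homogeneous f ∈ R_d with d > 0 such that multiplication by f on M is bijective.
Then H^q_m(M) = 0 for every integer q (graded local cohomology, computed from any *injective
resolution of M in the graded category). Here 'graded ring defined over a field' means R = ⊕_{n ≥ 0}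
R_n is Noetherian with R_0 a field, and m = R_+ is its unique graded maximal ideal. -/
theorem result (R : Type u) [CommRing R] [IsNoetherianRing R] (𝒜 : ℤ → AddSubgroup R) [GradedRing 𝒜] (hpos : ∀ n : ℤ, n < 0 → 𝒜 n = ⊥) (h0 : IsField (GrLC.deg0 𝒜)) (m : HomogeneousIdeal 𝒜) (hm : GrLC.IsStarLocal 𝒜 m) (hmsp : m.toIdeal = Ideal.span (⋃ n ∈ Set.Ioi (0 : ℤ), (𝒜 n : Set R))) (M : Type u) [AddCommGroup M] [Module R M] (ℳ : ℤ → AddSubgroup M) [DirectSum.Decomposition ℳ] [SetLike.GradedSMul 𝒜 ℳ] (d : ℤ) (hd : 0 < d) (f : R) (hf : f ∈ 𝒜 d) (hbij : Function.Bijective (fun x : M => f • x)) (E : GrLC.StarInjRes 𝒜 ℳ) (q : ℕ) : Subsingleton (E.H m q) := by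
  obtain ⟨e⟩ := K763.Cmp.compare R 𝒜 m M ℳ E q
  have hfm : f ∈ m.toIdeal := by
    rw [hmsp]
    refine Ideal.subset_span ?_
    simp only [Set.mem_iUnion]
    exact ⟨d, hd, hf⟩
  let f' : M ≃ₗ[R] M := LinearEquiv.ofBijective (LinearMap.lsmul R M f) hbij
  have hinj : ∀ x : LocCoh.H m.toIdeal q M, f • x = 0 → x = 0 := by
    intro x hx
    rw [← Groth.Agent.Localalg.LCBasic.Hmap_lsmul] at hx
    have h2 : (Groth.Agent.Localalg.LCBasic.Hequiv m.toIdeal q f') x = 0 := by
      rw [Groth.Agent.Localalg.LCBasic.Hequiv_apply]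
      exact hx
    exact (LinearEquiv.map_eq_zero_iff _).1 h2
  have hsub : Subsingleton (LocCoh.H m.toIdeal q M) := by
    refine subsingleton_of_forall_eq 0 fun x => ?_
    obtain ⟨n, hn⟩ := Groth.Agent.Localalg.LCBasic.isPowerTorsion_H m.toIdeal (M := M) q x
    have h1 : f ^ n • x = 0 := hn _ (Ideal.pow_mem_pow hfm n)
    clear hn
    induction n with
    | zero => simpa using h1
    | succ n ih =>
      apply ih
      apply hinj
      rw [smul_smul, ← pow_succ']
      exact h1
  exact e.toEquiv.subsingleton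

end Groth.Agent.S18662
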