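import Groth.Statements.S18663
import Groth.Agent.GrSegre.K963.Crit
import Groth.Agent.S18647

set_option autoImplicit false
universe u
open scoped TensorProduct
open GrSegre

namespace Groth.Agent.S18663

/-- Let R and S be graded rings defined over a field k which are Cohen–Macaulay, with dim R = 1 and dim
S = s ≥ 1, and let T = R # S be their Segre product. (iii) If s ≥ 2, then T is a Cohen–Macaulay ring
if and only if H^1_{R_+}(R) # S = 0, that is, for every degree n, H^1_{R_+}(R)_n = 0 or S_n = 0.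
(iv) If s = 1, then T is a Cohen–Macaulay ring. Here a graded ring defined over k is a commutative
k-algebra of finite type, graded in nonnegative degrees by k-subspaces with degree-zero part k·1;
the graded local cohomology pieces are computed from a *injective resolution of R in the graded
category; the Segre product T = ⊕_n R_n ⊗_k S_n is presented abstractly as a graded k-algebra T with
an injective k-algebra homomorphism ψ : T → R ⊗_k S carrying T_n onto the k-span of the elementary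
tensors a ⊗ b with a ∈ R_n, b ∈ S_n. -/
theorem result (k : Type u) [Field k] (R : Type u) [CommRing R] [Algebra k R] (𝒜 : ℤ → Submodule k R) [GradedAlgebra 𝒜] (hposR : ∀ n : ℤ, n < 0 → 𝒜 n = ⊥) (h0R : 𝒜 0 = Submodule.span k {(1 : R)}) [Algebra.FiniteType k R] (S : Type u) [CommRing S] [Algebra k S] (ℬ : ℤ → Submodule k S) [GradedAlgebra ℬ] (hposS : ∀ n : ℤ, n < 0 → ℬ n = ⊥) (h0S : ℬ 0 = Submodule.span k {(1 : S)}) [Algebra.FiniteType k S] (T : Type u) [CommRing T] [Algebra k T] (𝒯 : ℤ → Submodule k T) [GradedAlgebra 𝒯] (ψ : T →ₐ[k] TensorProduct k R S) (hψ : Function.Injective ψ) (hdegT : ∀ n : ℤ, (𝒯 n).map ψ.toLinearMap = Submodule.span k {x : TensorProduct k R S | ∃ a ∈ 𝒜 n, ∃ b ∈ ℬ n, x = a ⊗ₜ[k] b}) [LocCoh.IsCohenMacaulayRing R] [LocCoh.IsCohenMacaulayRing S] (mR : HomogeneousIdeal 𝒜) (hmR : mR.toIdeal = Ideal.span (⋃ n ∈ Set.Ioi (0 : ℤ), (𝒜 n : Set R))) (I : GrLC.StarInjRes 𝒜 𝒜) (hr : ringKrullDim R = 1) (s : ℕ) (hs : ringKrullDim S = s) (h1s : 1 ≤ s) : (2 ≤ s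 → (LocCoh.IsCohenMacaulayRing T ↔ ∀ n : ℤ, I.Hcomp mR 1 n = ⊥ ∨ ℬ n = ⊥)) ∧ (s = 1 → LocCoh.IsCohenMacaulayRing T) := by
  have hNR : IsNoetherianRing R := Algebra.FiniteType.isNoetherianRing k R
  have hNS : IsNoetherianRing S := Algebra.FiniteType.isNoetherianRing k S
  have hT : GrSeg.IsSegreRing 𝒜 ℬ 𝒯 ψ := ⟨hψ, hdegT⟩
  have hP := K962.Pieces.isSegreMod_ring hT
  have : IsNoetherianRing T := K962.Pieces.isNoetherianRing_segreRing hT
  have : Algebra.FiniteType k T := K961.SegDim2.finiteType_segreRing hT hposR h0R hposS h0S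
  obtain ⟨EP⟩ := K963.Iface.nonempty_res 𝒯 𝒯
  obtain ⟨J⟩ := K963.Iface.nonempty_res ℬ ℬ
  let mS : HomogeneousIdeal ℬ := ⟨K961.Irr.irr ℬ, K961.Irr.isHomogeneous_irr ℬ⟩
  have hmS : mS.toIdeal = Ideal.span (⋃ n ∈ Set.Ioi (0 : ℤ), (ℬ n : Set S)) := rfl
  let mT : HomogeneousIdeal 𝒯 := ⟨K961.Irr.irr 𝒯, K961.Irr.isHomogeneous_irr 𝒯⟩
  have hmT : mT.toIdeal = Ideal.span (⋃ n ∈ Set.Ioi (0 : ℤ), (𝒯 n : Set T)) := rfl
  have hr1 : ringKrullDim R = ((1 : ℕ) : WithBot ℕ∞) := by rw [hr]; rfl
  have hdP := Groth.Agent.S18647.result k R 𝒜 hposR h0R S ℬ hposS h0S T 𝒯 ψ hψ hdegT 1 s hr1 hs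
    le_rfl h1s
  rw [Nat.add_sub_cancel_left] at hdP
  obtain ⟨A, B, ε, η, hA, hB, z0, z1, zk⟩ := K963.Low.kunneth0 hT hmR hmS hmT hP I J EP
  -- vanishing on the sides
  have hr' : Module.supportDim R R = ((1 : ℕ) : WithBot ℕ∞) := by
    rw [Module.supportDim_self_eq_ringKrullDim, hr1]
  have hs' : Module.supportDim S S = (s : WithBot ℕ∞) := by rw [Module.supportDim_self_eq_ringKrullDim, hs]
  have hMl : ∀ i < 1, Subsingleton (I.H mR i) := fun i hi =>
    K963.Iface.subsingleton_of_Hcomp_eq_bot I mR i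
      ((K961.CMH.isCohenMacaulayRing_iff_Hcomp hposR h0R hr1 mR hmR I).1 inferInstance i hi)
  have hNl : ∀ i < s, Subsingleton (J.H mS i) := fun i hi =>
    K963.Iface.subsingleton_of_Hcomp_eq_bot J mS i
      ((K961.CMH.isCohenMacaulayRing_iff_Hcomp hposS h0S hs mS hmS J).1 inferInstance i hi)
  have hM : ∀ i, i ≠ 1 → Subsingleton (I.H mR i) := fun i hi => by
    rcases Nat.lt_or_ge i 1 with h | h
    · exact hMl i h
    · exact K963.Crit.subsingleton_of_supportDim_lt hposR h0R hr'.le mR hmR I (lt_of_le_of_ne h (Ne.symm hi))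
  have hN : ∀ i, i ≠ s → Subsingleton (J.H mS i) := fun i hi => by
    rcases Nat.lt_or_ge i s with h | h
    · exact hNl i h
    · exact K963.Crit.subsingleton_of_supportDim_lt hposS h0S hs'.le mS hmS J (lt_of_le_of_ne h (Ne.symm hi))
  have hbN : ∀ d, ℬ d = ⊥ ↔ ∀ m ∈ ℬ d, m = 0 := fun d => Submodule.eq_bot_iff _
  rw [K961.CMH.isCohenMacaulayRing_iff_Hcomp (K961.SegDim.hposT hT hposR) (K961.SegDim.h0T hT h0R h0S) hdP mT hmT EP]
  have hkey := fun n g => K963.Crit.Hcomp_eq_bot_iff (g := g) (zk n)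
  have hH0 : Subsingleton (EP.H mT 0) := K963.Crit.subsingleton_zero hP.injective z0
    (K963.Crit.ε_injective hA (hM 0 (by omega))) (K963.Crit.ε_injective hB (hN 0 (by omega)))
  constructor
  · intro h2s
    have hB0 := K963.Crit.kg_zero_eq_bot_iff hB (hN 0 (by omega)) (hN 1 (by omega))
    have hηi := K963.Crit.ε_injective hB (hN 0 (by omega))
    constructor
    · intro h d
      have h1 := (z1 d).1 (h 1 (by omega) d)
      by_contra hcon
      push Not at hcon
      obtain ⟨hc1, hc2⟩ := hcon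
      rw [Ne, hbN] at hc2
      push Not at hc2
      obtain ⟨n, hn, hn0⟩ := hc2
      refine hc1 ((K963.Crit.Hcomp_one_eq_bot_iff hA d).2 fun x hx => ?_)
      obtain ⟨w, hw⟩ := h1 (x ⊗ₜ η n) (Submodule.subset_span ⟨x, hx, η n, hB.gr d n hn, rfl⟩)
      have h3 : (LinearMap.range (ε.restrictScalars k)).mkQ x ⊗ₜ[k] η n = 0 := by
        have h4 : ∀ u : R ⊗[k] S, TensorProduct.map (LinearMap.range (ε.restrictScalars k)).mkQ LinearMap.id
            (TensorProduct.map (ε.restrictScalars k) (η.restrictScalars k) u) = 0 := by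
          intro u
          induction u using TensorProduct.induction_on with
          | zero => simp
          | add x y hx hy => rw [map_add, map_add, hx, hy, add_zero]
          | tmul x y =>
            rw [TensorProduct.map_tmul, TensorProduct.map_tmul, Submodule.mkQ_apply,
              (Submodule.Quotient.mk_eq_zero (LinearMap.range (ε.restrictScalars k))).2 ⟨x, rfl⟩,
              TensorProduct.zero_tmul]
        have h5 := h4 (ψ.toLinearMap w)
        rw [hw] at h5
        exact h5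
      have h6 : (LinearMap.range (ε.restrictScalars k)).mkQ x = 0 := by
        by_contra hx0
        exact K962.Dims.tmul_ne_zero hx0 (fun h0 => hn0 (hηi (h0.trans (map_zero η).symm))) h3
      obtain ⟨m, hm⟩ := (Submodule.Quotient.mk_eq_zero (LinearMap.range (ε.restrictScalars k))).1 h6
      refine ⟨K963.Dec.proj 𝒜 d m, K963.Dec.proj_mem 𝒜 d m, ?_⟩
      rw [K963.Dec.map_proj 𝒜 (A 0).gr ε hA.gr d m]
      have h7 : ε m = x := hm
      rw [h7]
      exact K963.Dec.proj_of_mem (A 0).gr hx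
    · intro h i hi d
      match i, hi with
      | 0, _ => exact K963.Iface.Hcomp_eq_bot_of_subsingleton EP mT 0 hH0 d
      | 1, _ =>
        refine K963.Crit.Hcomp_one_of hP z1 fun x hx y hy _ hy0 => ?_
        obtain ⟨n, hn, hny⟩ := (K963.Crit.Hcomp_one_eq_bot_iff hB d).1
          (K963.Iface.Hcomp_eq_bot_of_subsingleton J mS 1 (hN 1 (by omega)) d) y hy
        rcases h d with h | h
        · obtain ⟨m, hm, hmx⟩ := (K963.Crit.Hcomp_one_eq_bot_iff hA d).1 h x hx
          exact ⟨m, hm, n, hn, hmx, hny⟩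
        · exfalso
          rw [hbN] at h
          rw [h n hn, map_zero] at hny
          exact hy0 hny.symm
      | n + 2, hi =>
        rw [hkey]
        intro p q hpq
        match p, q, hpq with
        | 0, 0, hpq => omega
        | 0, q + 1, hpq => exact Or.inr (K963.Crit.kg_succ_eq_bot hB q d (hN _ (by omega)))
        | p + 1, q, hpq => exact Or.inl (K963.Crit.kg_succ_eq_bot hA p d (hM _ (by omega)))
  · rintro rfl i hi d
    obtain rfl : i = 0 := by omega
    exact K963.Iface.Hcomp_eq_bot_of_subsingleton EP mT 0 hH0 d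

end Groth.Agent.S18663
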