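import Groth.Statements.S18664
import Groth.Agent.GrSegre.K961.PolyTwo
import Groth.Agent.S18663

set_option autoImplicit false
universe u
open scoped TensorProduct
open GrSegre

namespace Groth.Agent.S18664

/-- Let R and S be standard graded rings defined over a field k which are Cohen–Macaulay, with dim R = 1
and dim S ≥ 2. Then the Segre product T = R # S is a Cohen–Macaulay ring if and only if R is a
polynomial ring over k (in one variable). Here a graded ring defined over k is a commutative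
k-algebra of finite type, graded in nonnegative degrees by k-subspaces with degree-zero part k·1,
standard graded when its irrelevant ideal is generated by the degree-one piece; the Segre product T
= ⊕_n R_n ⊗_k S_n is presented abstractly as a graded k-algebra T with an injective k-algebra
homomorphism ψ : T → R ⊗_k S carrying T_n onto the k-span of the elementary tensors a ⊗ b with a ∈
R_n, b ∈ S_n. -/
theorem result (k : Type u) [Field k] (R : Type u) [CommRing R] [Algebra k R] (𝒜 : ℤ → Submodule k R) [GradedAlgebra 𝒜] (hposR : ∀ n : ℤ, n < 0 → 𝒜 n = ⊥) (h0R : 𝒜 0 = Submodule.span k {(1 : R)}) [Algebra.FiniteType k R] (S : Type u) [CommRing S] [Algebra k S] (ℬ : ℤ → Submodule k S) [GradedAlgebra ℬ] (hposS : ∀ n : ℤ, n < 0 → ℬ n = ⊥) (h0S : ℬ 0 = Submodule.span k {(1 : S)}) [Algebra.FiniteType k S] (T : Type u) [CommRing T] [Algebra k T] (𝒯 : ℤ → Submodule k T) [GradedAlgebra 𝒯] (ψ : T →ₐ[k] TensorProduct k R S) (hψ : Function.Injective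 ψ) (hdegT : ∀ n : ℤ, (𝒯 n).map ψ.toLinearMap = Submodule.span k {x : TensorProduct k R S | ∃ a ∈ 𝒜 n, ∃ b ∈ ℬ n, x = a ⊗ₜ[k] b}) [LocCoh.IsCohenMacaulayRing R] [LocCoh.IsCohenMacaulayRing S] (hstdR : Ideal.span (⋃ n ∈ Set.Ioi (0 : ℤ), (𝒜 n : Set R)) = Ideal.span ((𝒜 1 : Submodule k R) : Set R)) (hstdS : Ideal.span (⋃ n ∈ Set.Ioi (0 : ℤ), (ℬ n : Set S)) = Ideal.span ((ℬ 1 : Submodule k S) : Set S)) (hr : ringKrullDim R = 1) (hs : 2 ≤ ringKrullDim S) : LocCoh.IsCohenMacaulayRing T ↔ Nonempty (R ≃ₐ[k] Polynomial k) := by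
  have hr1 : ringKrullDim R = (1 : ℕ) := by rw [hr]; rfl
  obtain ⟨s, hs'⟩ := K961.PolyTwo.exists_dim (k := k) S (le_trans (by norm_num) hs)
  have h2s : 2 ≤ s := by
    rw [hs'] at hs
    exact_mod_cast hs
  let mR : HomogeneousIdeal 𝒜 := ⟨K961.Irr.irr 𝒜, K961.Irr.isHomogeneous_irr 𝒜⟩
  have hmR : mR.toIdeal = Ideal.span (⋃ n ∈ Set.Ioi (0 : ℤ), (𝒜 n : Set R)) := rfl
  obtain ⟨I⟩ := K963.Iface.nonempty_res 𝒜 𝒜
  rw [(Groth.Agent.S18663.result k R 𝒜 hposR h0R S ℬ hposS h0S T 𝒯 ψ hψ hdegT mR hmR I hr s hs'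
    (by omega)).1 h2s]
  have h1 : (∀ n : ℤ, I.Hcomp mR 1 n = ⊥ ∨ ℬ n = ⊥) ↔ ∀ n : ℤ, 0 ≤ n → I.Hcomp mR 1 n = ⊥ := by
    rw [← K961.EndNeg.forall_or_iff hposS h0S hstdS hs' (by omega)]
    exact forall_congr' fun n => or_comm
  rw [h1]
  constructor
  · exact K961.PolyTwo.nonempty_of_vanishing hposR h0R hstdR hmR hr1 I
  · rintro ⟨e⟩
    exact K961.PolyTwo.vanishing_of_nonempty hposR h0R hstdR hmR hr1 I e

end Groth.Agent.S18664
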