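import Groth.Statements.S18672
import Groth.Agent.GrLC.K763.Std

set_option autoImplicit false
universe u
open GrLC

namespace Groth.Agent.S18672

open DirectSum K763.Basic K763.Std

/-- Let R be a graded ring defined over a field k = R_0 which is Cohen–Macaulay and generated over k by
R_1 (the standing hypotheses of this section; only generation in degree one is used), q ≥ 1, R' =
R^(q), and a an integer. Then the Veronese submodule [R(a)]^(q) = ⊕_j R_{a+jq} is generated over R'
by its piece R(a)_n = R_{a+n}, where n is the smallest multiple of q with n + a ≥ 0. Here 'graded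
ring defined over a field' means R = ⊕_{n ≥ 0} R_n is Noetherian with R_0 a field, and m = R_+ is
its unique graded maximal ideal. The Veronese subring R^(q) = ⊕_j R_{jq}, regraded by (R^(q))_j =
R_{jq}, is presented abstractly as a ℤ-graded ring R' with an injective ring homomorphism φ : R' → R
carrying R'_j onto R_{jq} for every j. The module [R(a)]^(q) is presented as a graded R'-module M'
with an injective additive map g : M' → R, semilinear over φ, carrying M'_j onto R_{a+jq} for every
j; with n = j₀q, the conclusion is that the R'-span of M'_{j₀} is all of M'. -/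
theorem result (R : Type u) [CommRing R] [LocCoh.IsCohenMacaulayRing R] (𝒜 : ℤ → AddSubgroup R) [GradedRing 𝒜] (hpos : ∀ n : ℤ, n < 0 → 𝒜 n = ⊥) (h0 : IsField (GrLC.deg0 𝒜)) (hstd : Ideal.span (⋃ n ∈ Set.Ioi (0 : ℤ), (𝒜 n : Set R)) = Ideal.span ((𝒜 1 : AddSubgroup R) : Set R)) (q : ℕ) (hq : 0 < q) (R' : Type u) [CommRing R'] (𝒜' : ℤ → AddSubgroup R') [GradedRing 𝒜'] (φ : R' →+* R) (hφ : Function.Injective φ) (hdeg : ∀ j : ℤ, (𝒜' j).map (φ : R' →+ R) = 𝒜 (j * q)) (a : ℤ) (M' : Type u) [AddCommGroup M'] [Module R' M'] (ℳ' : ℤ → AddSubgroup M') [DirectSum.Decomposition ℳ'] [SetLike.GradedSMul 𝒜' ℳ'] (g : M' →ₛₗ[φ] R) (hg : Function.Injective g) (hgdeg : ∀ j : ℤ, (ℳ' j).map (g : M' →+ R) = 𝒜 (a + j * q)) (j₀ : ℤ) (hj₀ : 0 ≤ a + j₀ * q) (hj₀' : a + (j₀ - 1) * q < 0) : Submodule.span R' ((ℳ' j₀ : AddSubgroup M') : Set M') = ⊤ := by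
  have hgm : ∀ (j : ℤ) (x : M'), x ∈ ℳ' j → g x ∈ 𝒜 (a + j * q) := fun j x hx => by
    rw [← hgdeg j]; exact AddSubgroup.mem_map_of_mem _ hx
  have hex : ∀ (j : ℤ) (y : R), y ∈ 𝒜 (a + j * q) → ∃ x ∈ ℳ' j, g x = y := fun j y hy => by
    rw [← hgdeg j] at hy; exact hy
  have hexR : ∀ (j : ℤ) (y : R), y ∈ 𝒜 (j * q) → ∃ x ∈ 𝒜' j, φ x = y := fun j y hy => by
    rw [← hdeg j] at hy; exact hy
  have key : ∀ (j : ℤ) (x : M'), x ∈ ℳ' j →
      x ∈ Submodule.span R' ((ℳ' j₀ : AddSubgroup M') : Set M') := by
    intro j x hx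
    by_cases hj : j < j₀
    · -- the piece vanishes
      have h1 : a + j * q < 0 := by
        have : j * q ≤ (j₀ - 1) * q := by
          apply mul_le_mul_of_nonneg_right (by omega) (by positivity)
        omega
      have h2 : g x = 0 := by
        have := hgm j x hx
        rw [hpos _ h1] at this
        exact this
      have h3 : x = 0 := hg (by rw [h2, map_zero])
      rw [h3]; exact zero_mem _
    · push Not at hj
      have h1 : g x ∈ pr 𝒜 ((j - j₀) * q) (a + j₀ * q) := by
        refine mem_pr 𝒜 hstd (mul_nonneg (by omega) (by positivity)) hj₀ ?_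
        have := hgm j x hx
        convert this using 2
        ring
      have h2 : ∀ y ∈ pr 𝒜 ((j - j₀) * q) (a + j₀ * q),
          ∃ z ∈ Submodule.span R' ((ℳ' j₀ : AddSubgroup M') : Set M'), g z = y := by
        intro y hy
        rw [pr] at hy
        induction hy using AddSubgroup.closure_induction with
        | mem y hy =>
          obtain ⟨b, hb, c, hc, rfl⟩ := hy
          obtain ⟨b', hb', rfl⟩ := hexR _ b hb
          obtain ⟨c', hc', rfl⟩ := hex _ c hc
          exact ⟨b' • c', Submodule.smul_mem _ _ (Submodule.subset_span hc'), by simp⟩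
        | zero => exact ⟨0, zero_mem _, map_zero _⟩
        | add y z _ _ hy hz =>
          obtain ⟨y', hy', rfl⟩ := hy
          obtain ⟨z', hz', rfl⟩ := hz
          exact ⟨y' + z', add_mem hy' hz', map_add _ _ _⟩
        | neg y _ hy =>
          obtain ⟨y', hy', rfl⟩ := hy
          exact ⟨-y', neg_mem hy', map_neg _ _⟩
      obtain ⟨z, hz, hzx⟩ := h2 _ h1
      rw [← hg hzx]
      exact hz
  rw [eq_top_iff]
  intro x _
  classical
  rw [← DirectSum.sum_support_decompose ℳ' x]
  exact Submodule.sum_mem _ fun n _ => key n _ (DirectSum.decompose ℳ' x n).2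

end Groth.Agent.S18672
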