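import Groth.Statements.S18676
import Groth.Agent.MultTori.K964.MDict
import Groth.Agent.MultTori.K964.BcCl
import Groth.Agent.MultTori.K964.FracB
import Groth.Agent.MultTori.K964.SemiGal

set_option autoImplicit false
open CategoryTheory MonoidalCategory CartesianMonoidalCategory MonObj GrpObj AlgebraicGeometry
universe u
open MultTori TensorProduct

namespace Groth.Agent.S18676

/-- Let A be a regular Noetherian integral domain with finitely many maximal ideals (a regular semilocal
domain), K its field of fractions, and M an isotrivial group of multiplicative type of finite type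
over it (a group scheme M which, after one finite étale surjective base change, becomes isomorphic
as a group scheme to the diagonalizable group of a finitely generated commutative group). Then the
restriction map H¹_fppf(A, M) → H¹_fppf(K, M_K) on classes of torsors is injective. (The source
assumes, more generally, A semilocal Noetherian integral with factorial strict henselisations;
regularity is its named sufficient condition and is what is assumed here.) -/
theorem result
    (A : Type u) [CommRing A] [IsDomain A] [IsRegularRing A] [Finite (MaximalSpectrum A)]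
    (M : Over (Spec (CommRingCat.of A))) [GrpObj M]
    (hM : ∃ (Λ : Type) (_ : AddCommGroup Λ), AddGroup.FG Λ ∧
      TwC.Locally (Spec (CommRingCat.of A)) .finiteEtale
        (fun S' g => Nonempty (Grp.mk (Red.bc g M) ≅ Grp.mk (Red.DS S' Λ)))) :
    Function.Injective
      (NonAbH1.H1Sch.bcMap (Spec.map (CommRingCat.ofHom (algebraMap A (FractionRing A)))) M
        Scheme.fppfPrecoverage) := by
  obtain ⟨Λ, _, -, hΛ⟩ := hM
  have : ConnectedSpace (Spec (CommRingCat.of A)) := inferInstanceAs (ConnectedSpace (PrimeSpectrum A))
  obtain ⟨B, _, _, G, _, _, _, _, _, hG, hconn, ⟨D⟩, haff⟩ := K964.MDict.exists_dict M hΛ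
  have := hG.ff
  have := hG.fin
  have := hG.et
  have : UniqueFactorizationMonoid A := K964.SemiUFD.ufd_of_regular A
  have hnt : Nontrivial B := by
    obtain ⟨x₀⟩ := (inferInstance : Nonempty (Spec (CommRingCat.of B)))
    exact PrimeSpectrum.nontrivial (show PrimeSpectrum B from x₀)
  obtain ⟨hdom, -⟩ := K964.SemiGal.isDomain_of_etale (A := A) (B := B) K965.Gal.idem_trivial
  have hreg : IsRegularRing B := Groth.Agent.Sga4h.DivEq.isRegularRing_of_etale A B
  have hfm : Finite (MaximalSpectrum B) := K964.SemiGal.finite_max (A := A)
  have hufd : UniqueFactorizationMonoid B := K964.SemiUFD.ufd_of_regular B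
  have h90 := K964.SemiGal.h90P hG
  obtain ⟨r, hr, hr'⟩ := K964.FracB.exists_retr (A := A) (B := B) (FractionRing A) h90
  have hcomm : IsCommMonObj M := K964.ExtE.isCommMonObj_of_dict D
  intro c c' h
  obtain ⟨P, rfl⟩ := K964.Cocyc.exists_cl c
  obtain ⟨Q, rfl⟩ := K964.Cocyc.exists_cl c'
  obtain ⟨A', _, _, hff, hfp, ⟨x⟩, ⟨y⟩⟩ := K964.Cocyc.exists_common_point P Q
  obtain ⟨n, hn⟩ := K964.BcCl.exists_of_bc x y (FractionRing A) h
  obtain ⟨m, hm⟩ := K964.Desc.exists_point_of_retr D
    (K964.ExtE.Fam.div D (K964.ExtE.famOf P.isTorsor.1 x) (K964.ExtE.famOf Q.isTorsor.1 y)) inferInstance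
    (FractionRing A) (FractionRing A ⊗[A] A') Algebra.TensorProduct.includeRight n hn r hr hr'
  rw [K964.Cocyc.cl_eq_iff_ring x y]
  exact ⟨m, hm _ _ _⟩

end Groth.Agent.S18676
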