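import Groth.Statements.S18677
import Groth.Agent.MultTori.K832.PolyH1
import Groth.Agent.MultTori.K964.MDict
import Groth.Agent.MultTori.K964.SemiGal

set_option autoImplicit false
open CategoryTheory MonoidalCategory CartesianMonoidalCategory MonObj GrpObj AlgebraicGeometry
universe u
open MultTori

namespace Groth.Agent.S18677

/-- Let A be a normal (integrally closed) Noetherian integral domain and S an isotrivial group of
multiplicative type of finite type over it (a group scheme M which, after one finite étale
surjective base change, becomes isomorphic as a group scheme to the diagonalizable group of a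
finitely generated commutative group). Then the restriction map H¹_fppf(A, S) → H¹_fppf(A[t],
S_{A[t]}) along the inclusion of A into the polynomial ring in one variable is bijective on classes
of torsors. -/
theorem result
    (A : Type u) [CommRing A] [IsDomain A] [IsNoetherianRing A] [IsIntegrallyClosed A]
    (M : Over (Spec (CommRingCat.of A))) [GrpObj M]
    (hM : ∃ (Λ : Type) (_ : AddCommGroup Λ), AddGroup.FG Λ ∧
      TwC.Locally (Spec (CommRingCat.of A)) .finiteEtale
        (fun S' g => Nonempty (Grp.mk (Red.bc g M) ≅ Grp.mk (Red.DS S' Λ)))) :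
    Function.Bijective
      (NonAbH1.H1Sch.bcMap (Spec.map (CommRingCat.ofHom (Polynomial.C : A →+* Polynomial A))) M
        Scheme.fppfPrecoverage) := by
  obtain ⟨Λ, _, -, hΛ⟩ := hM
  have : ConnectedSpace (Spec (CommRingCat.of A)) := inferInstanceAs (ConnectedSpace (PrimeSpectrum A))
  obtain ⟨B, _, _, G, _, _, _, _, _, hG, hconn, ⟨D⟩, haff⟩ := K964.MDict.exists_dict M hΛ
  have := hG.ff
  have := hG.fin
  have := hG.et
  have hnt : Nontrivial B := by
    obtain ⟨x₀⟩ := (inferInstance : Nonempty (Spec (CommRingCat.of B)))
    exact PrimeSpectrum.nontrivial (show PrimeSpectrum B from x₀)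
  obtain ⟨hdom, hic⟩ := K964.SemiGal.isDomain_of_etale (A := A) (B := B) K965.Gal.idem_trivial
  have : IsNoetherianRing B := IsNoetherianRing.of_finite A B
  have hcomm : IsCommMonObj M := K964.ExtE.isCommMonObj_of_dict D
  exact K832.PolyH1.bcMap_bijective D (Groth.Agent.Sga7.H598.SNDef.SN.of_isIntegrallyClosed B)

end Groth.Agent.S18677
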