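import Groth.Statements.S18678
import Groth.Agent.MultTori.K964.SecLift

set_option autoImplicit false
open CategoryTheory MonoidalCategory CartesianMonoidalCategory MonObj GrpObj AlgebraicGeometry
universe u
attribute [local instance] Ideal.Quotient.field
open MultTori

namespace Groth.Agent.S18678

/-- Let A be a semilocal ring (a commutative ring with finitely many maximal ideals; no Noetherian
hypothesis), with residue fields κ_m = A/m at its maximal ideals m, and let T be an isotrivial
A-torus (isomorphic, after one finite étale surjective base change, to a split torus of some rank)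
such that for every maximal ideal m the κ_m-torus T_{κ_m} is split by a finite Galois extension L of
κ_m whose Galois group has all its Sylow subgroups cyclic. Then the reduction map T(A) → ∏_m T(κ_m)
is surjective: every family (u_m) of κ_m-points of T over the closed points of Spec A is the family
of restrictions of one section of T over A. (The source allows two further alternatives at each
maximal ideal, cohomological dimension of κ_m at most one or T_{κ_m} birationally a direct factor of
a rational variety; only the splitting alternative is stated here.) -/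
theorem result
    (A : Type u) [CommRing A] [Finite (MaximalSpectrum A)]
    (T : Over (Spec (CommRingCat.of A))) [GrpObj T]
    (hT : ∃ r : ℕ, TwC.Locally (Spec (CommRingCat.of A)) .finiteEtale
        (fun S' g => Red.IsSplitTorusWith (Fin r → ℤ) (Red.bc g T)))
    (hsplit : ∀ m : MaximalSpectrum A, (∃ (L : Type u) (_ : Field L) (_ : Algebra (A ⧸ m.asIdeal) L),
      FiniteDimensional (A ⧸ m.asIdeal) L ∧ IsGalois (A ⧸ m.asIdeal) L ∧
      (∀ (p : ℕ) [Fact p.Prime] (P : Sylow p (L ≃ₐ[(A ⧸ m.asIdeal)] L)), IsCyclic P) ∧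
      ∃ r : ℕ, Red.IsSplitTorusWith (Fin r → ℤ)
        (Red.bc (Spec.map (CommRingCat.ofHom (algebraMap (A ⧸ m.asIdeal) L)) ≫ (Spec.map (CommRingCat.ofHom (Ideal.Quotient.mk m.asIdeal)))) T)))
    (u : ∀ m : MaximalSpectrum A, Spec (CommRingCat.of (A ⧸ m.asIdeal)) ⟶ T.left)
    (hu : ∀ m : MaximalSpectrum A, u m ≫ T.hom = (Spec.map (CommRingCat.ofHom (Ideal.Quotient.mk m.asIdeal)))) :
    ∃ s : Spec (CommRingCat.of A) ⟶ T.left, s ≫ T.hom = 𝟙 (Spec (CommRingCat.of A)) ∧
      ∀ m : MaximalSpectrum A, (Spec.map (CommRingCat.ofHom (Ideal.Quotient.mk m.asIdeal))) ≫ s = u m := by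
  have hSL : K964.PermLift.SL A (fun m : MaximalSpectrum A => A ⧸ m.asIdeal) := by
    refine ⟨fun m => Ideal.Quotient.mk_surjective, fun m m' h => ?_, fun m hm => ⟨⟨m, hm⟩, ?_⟩⟩
    · apply MaximalSpectrum.ext
      have h1 : ∀ m : MaximalSpectrum A, RingHom.ker (algebraMap A (A ⧸ m.asIdeal)) = m.asIdeal :=
        fun m => Ideal.mk_ker
      rw [← h1 m, ← h1 m']
      exact h
    · exact Ideal.mk_ker
  obtain ⟨r, hr⟩ := hT
  have hsp : ∀ m : MaximalSpectrum A, K964.Van.CycSplit (Red.bc (K964.BcPt.tb A (A ⧸ m.asIdeal)) T) := by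
    intro m
    obtain ⟨L, _, _, _, _, hcyc, r', ⟨e⟩⟩ := hsplit m
    exact K964.LocBc.cycSplit_of L hcyc e
  obtain ⟨s, hs⟩ := K964.SecLift.main A (MaximalSpectrum A) (fun m => A ⧸ m.asIdeal) hSL T (Fin r → ℤ) hr hsp
    (fun m => Over.homMk (u m) (hu m))
  refine ⟨s.left, ?_, fun m => ?_⟩
  · refine (Over.w s).trans ?_
    exact Spec.map_id _
  · exact congrArg CommaMorphism.left (hs m)

end Groth.Agent.S18678
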