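import Groth.Statements.S18679
import Groth.Agent.MultTori.K964.TorLift

set_option autoImplicit false
open CategoryTheory MonoidalCategory CartesianMonoidalCategory MonObj GrpObj AlgebraicGeometry
universe u
attribute [local instance] Ideal.Quotient.field
open MultTori

namespace Groth.Agent.S18679

/-- Let A be a semilocal ring (a commutative ring with finitely many maximal ideals; no Noetherian
hypothesis), with residue fields κ_m = A/m at its maximal ideals m, and let M be an isotrivial group
of multiplicative type of finite type over A (a group scheme M which, after one finite étale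
surjective base change, becomes isomorphic as a group scheme to the diagonalizable group of a
finitely generated commutative group), such that for every maximal ideal m the κ_m-group M_{κ_m}
becomes diagonalizable over a finite Galois extension L of κ_m whose Galois group has all its Sylow
subgroups cyclic. Then the reduction map H¹_fppf(A, M) → ∏_m H¹_fppf(κ_m, M_{κ_m}) on classes of
torsors is surjective: every family of torsor classes over the residue fields is the family of
restrictions of one class over A. (The source also allows at each maximal ideal the alternative that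
κ_m has cohomological dimension at most one; only the splitting alternative is stated here.) -/
theorem result
    (A : Type u) [CommRing A] [Finite (MaximalSpectrum A)]
    (M : Over (Spec (CommRingCat.of A))) [GrpObj M]
    (hM : ∃ (Λ : Type) (_ : AddCommGroup Λ), AddGroup.FG Λ ∧
      TwC.Locally (Spec (CommRingCat.of A)) .finiteEtale
        (fun S' g => Nonempty (Grp.mk (Red.bc g M) ≅ Grp.mk (Red.DS S' Λ))))
    (hsplit : ∀ m : MaximalSpectrum A, (∃ (L : Type u) (_ : Field L) (_ : Algebra (A ⧸ m.asIdeal) L),
      FiniteDimensional (A ⧸ m.asIdeal) L ∧ IsGalois (A ⧸ m.asIdeal) L ∧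
      (∀ (p : ℕ) [Fact p.Prime] (P : Sylow p (L ≃ₐ[(A ⧸ m.asIdeal)] L)), IsCyclic P) ∧
      ∃ (Λ : Type) (_ : AddCommGroup Λ), AddGroup.FG Λ ∧
        Nonempty (Grp.mk (Red.bc (Spec.map (CommRingCat.ofHom (algebraMap (A ⧸ m.asIdeal) L)) ≫ (Spec.map (CommRingCat.ofHom (Ideal.Quotient.mk m.asIdeal)))) M) ≅
          Grp.mk (Red.DS (Spec (CommRingCat.of L)) Λ))))
    (c : ∀ m : MaximalSpectrum A, NonAbH1.H1Sch (Red.bc (Spec.map (CommRingCat.ofHom (Ideal.Quotient.mk m.asIdeal))) M) Scheme.fppfPrecoverage) :
    ∃ x : NonAbH1.H1Sch M Scheme.fppfPrecoverage,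
      ∀ m : MaximalSpectrum A, NonAbH1.H1Sch.bcMap (Spec.map (CommRingCat.ofHom (Ideal.Quotient.mk m.asIdeal))) M Scheme.fppfPrecoverage x = c m := by
  have hSL : K964.PermLift.SL A (fun m : MaximalSpectrum A => A ⧸ m.asIdeal) := by
    refine ⟨fun m => Ideal.Quotient.mk_surjective, fun m m' h => ?_, fun m hm => ⟨⟨m, hm⟩, ?_⟩⟩
    · apply MaximalSpectrum.ext
      have h1 : ∀ m : MaximalSpectrum A, RingHom.ker (algebraMap A (A ⧸ m.asIdeal)) = m.asIdeal :=
        fun m => Ideal.mk_ker
      rw [← h1 m, ← h1 m']
      exact h
    · exact Ideal.mk_ker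
  obtain ⟨Λ, _, hfg, hM⟩ := hM
  have hfin : Module.Finite ℤ Λ := Module.Finite.iff_addGroup_fg.2 hfg
  have hsp : ∀ m : MaximalSpectrum A, K964.Van.CycSplit (Red.bc (K964.BcPt.tb A (A ⧸ m.asIdeal)) M) := by
    intro m
    obtain ⟨L, _, _, _, _, hcyc, Λ', _, -, ⟨e⟩⟩ := hsplit m
    exact K964.LocBc.cycSplit_of L hcyc e
  exact K964.TorLift.exists_class (κ := fun m : MaximalSpectrum A => A ⧸ m.asIdeal) hSL M Λ hM hsp c

end Groth.Agent.S18679
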