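import Groth.Statements.S18680
import Groth.Agent.S18679
import Groth.Agent.MultTori.K85.Core

set_option autoImplicit false
open CategoryTheory MonoidalCategory CartesianMonoidalCategory MonObj GrpObj AlgebraicGeometry
universe u
attribute [local instance] Ideal.Quotient.field
open MultTori

namespace Groth.Agent.S18680

/-- Let A be a semilocal ring (a commutative ring with finitely many maximal ideals; no Noetherian
hypothesis), with residue fields κ_m = A/m at its maximal ideals m; let C be a finite commutative
group whose exponent e is invertible in every κ_m, let 2^r be the exact power of 2 dividing e, and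
assume for every m that the field obtained from κ_m by adjoining the 2^r-th roots of unity is a
cyclic Galois extension of κ_m. Then for the constant A-group scheme C_A (given as an A-group scheme
with an isomorphism to the constant scheme compatible with the group laws) the reduction map
H¹_ét(A, C_A) → ∏_m H¹_ét(κ_m, C_{κ_m}) on classes of torsors (principal Galois covers with group C)
is surjective: every family of classes over the residue fields comes from one class over A. (The
source also allows at each maximal ideal the alternative that κ_m has cohomological dimension at
most one; only the cyclotomic alternative is stated here.) -/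
theorem result
    (A : Type u) [CommRing A] [Finite (MaximalSpectrum A)] (C : Type u) [CommGroup C] [Finite C]
    (C_ : Over (Spec (CommRingCat.of A))) [GrpObj C_] (e : C_ ≅ TwC.const (Spec (CommRingCat.of A)) C) (he : TwC.IsConstGrp C C_ e)
    (hexp : ∀ m : MaximalSpectrum A, IsUnit ((Monoid.exponent C : ℕ) : (A ⧸ m.asIdeal)))
    (hcyc : ∀ m : MaximalSpectrum A, IsCyclic (CyclotomicField (2 ^ (Monoid.exponent C).factorization 2) (A ⧸ m.asIdeal) ≃ₐ[(A ⧸ m.asIdeal)] CyclotomicField (2 ^ (Monoid.exponent C).factorization 2) (A ⧸ m.asIdeal)))
    (c : ∀ m : MaximalSpectrum A, NonAbH1.H1Sch (Red.bc (Spec.map (CommRingCat.ofHom (Ideal.Quotient.mk m.asIdeal))) C_) Scheme.etalePrecoverage) :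
    ∃ x : NonAbH1.H1Sch C_ Scheme.etalePrecoverage,
      ∀ m : MaximalSpectrum A, NonAbH1.H1Sch.bcMap (Spec.map (CommRingCat.ofHom (Ideal.Quotient.mk m.asIdeal))) C_ Scheme.etalePrecoverage x = c m := by
  exact K85.Core.core_residue A (fun M _ hM hs c => Groth.Agent.S18679.result A M hM hs c) C C_ e he hexp hcyc c

end Groth.Agent.S18680
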