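import Groth.Statements.S18681
import Groth.Agent.MultTori.K85.MainRes
import Groth.Agent.MultTori.K964.LocBc
-- import your own Groth.Agent.* helpers here

set_option autoImplicit false
open CategoryTheory MonoidalCategory CartesianMonoidalCategory MonObj GrpObj AlgebraicGeometry
universe u
open MultTori

namespace Groth.Agent.S18681

/-- Let A be a discrete valuation ring with residue field κ and field of fractions K, let K̂ be the
completion of K at the valuation of A (the adic completion at the height-one prime v of A; there is
only one), and let M an isotrivial group of multiplicative type of finite type over A (a group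
scheme M which, after one finite étale surjective base change, becomes isomorphic as a group scheme
to the diagonalizable group of a finitely generated commutative group), such that the κ-group M_κ
becomes diagonalizable over a finite Galois extension L of κ whose Galois group has all its Sylow
subgroups cyclic. Assume moreover that M_K is smooth over K. Then the map H¹_fppf(K, M_K) →
H¹_fppf(K̂, M_K̂) on classes of torsors is surjective. (The group M_K is assumed smooth over K, that
is, the torsion of its character group has order prime to the characteristic of K; this is automatic
in characteristic zero. The published statement has no such condition, but its proof uses the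
openness of the image of F(K̂) in P(K̂) for an isogeny F → P with kernel M (an implicit-function
argument over K̂), which requires it, and without it the statement fails: for K the rational
function field in one variable t over the field with p elements, completed t-adically, and M the
group of p-th roots of unity, the map K*/K*ᵖ → K̂*/K̂*ᵖ is not surjective, the target being
uncountable.) (The source also allows the alternative that κ has cohomological dimension at most
one; only the splitting alternative is stated here.) -/
theorem result
    (A : Type u) [CommRing A] [IsDomain A] [IsDiscreteValuationRing A]
    (v : IsDedekindDomain.HeightOneSpectrum A)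
    (M : Over (Spec (CommRingCat.of A))) [GrpObj M]
    (hM : ∃ (Λ : Type) (_ : AddCommGroup Λ), AddGroup.FG Λ ∧
      TwC.Locally (Spec (CommRingCat.of A)) .finiteEtale
        (fun S' g => Nonempty (Grp.mk (Red.bc g M) ≅ Grp.mk (Red.DS S' Λ))))
    (hsplit : (∃ (L : Type u) (_ : Field L) (_ : Algebra (IsLocalRing.ResidueField A) L),
      FiniteDimensional (IsLocalRing.ResidueField A) L ∧ IsGalois (IsLocalRing.ResidueField A) L ∧
      (∀ (p : ℕ) [Fact p.Prime] (P : Sylow p (L ≃ₐ[(IsLocalRing.ResidueField A)] L)), IsCyclic P) ∧
      ∃ (Λ : Type) (_ : AddCommGroup Λ), AddGroup.FG Λ ∧
        Nonempty (Grp.mk (Red.bc (Spec.map (CommRingCat.ofHom (algebraMap (IsLocalRing.ResidueField A) L)) ≫ (Spec.map (CommRingCat.ofHom (IsLocalRing.residue A)))) M) ≅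
          Grp.mk (Red.DS (Spec (CommRingCat.of L)) Λ))))
    [Smooth (Red.bc (Spec.map (CommRingCat.ofHom (algebraMap A (FractionRing A)))) M).hom] :
    Function.Surjective
      (NonAbH1.H1Sch.bcMap (Spec.map (CommRingCat.ofHom (algebraMap (FractionRing A) (v.adicCompletion (FractionRing A))))) (Red.bc (Spec.map (CommRingCat.ofHom (algebraMap A (FractionRing A)))) M) Scheme.fppfPrecoverage) := by
  obtain ⟨L, _, _, _, _, hcyc, Λ, _, _, ⟨e⟩⟩ := hsplit
  exact K85.MainRes.main_residue v (FractionRing A) M hM (K964.LocBc.cycSplit_of L hcyc e)

end Groth.Agent.S18681
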