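import Groth.Statements.S18682
import Groth.Agent.MultTori.K965.H1Compl
import Groth.Agent.MultTori.K964.LocBc

set_option autoImplicit false
open CategoryTheory MonoidalCategory CartesianMonoidalCategory MonObj GrpObj AlgebraicGeometry
universe u
open MultTori

namespace Groth.Agent.S18682

/-- Let K be a discretely valued field, presented as the field of fractions of a discrete valuation ring
A, let K̂ be its completion (the adic completion at the height-one prime v of A), and let M an
isotrivial group of multiplicative type of finite type over K (a group scheme M which, after one
finite étale surjective base change, becomes isomorphic as a group scheme to the diagonalizable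
group of a finitely generated commutative group) which is smooth over K and such that the K̂-group
M_K̂ becomes diagonalizable over a finite Galois extension L of K̂ whose Galois group has all its
Sylow subgroups cyclic. Then the map H¹_fppf(K, M) → H¹_fppf(K̂, M_K̂) on classes of torsors is
surjective. (The splitting hypothesis is placed on M_K̂ over the completion K̂, which is all the
proof uses: it gives the vanishing of H¹(K̂, F) for a flasque resolution of M; the same hypothesis
on M over K is a special case, since a decomposition group of a group with cyclic Sylow subgroups
has cyclic Sylow subgroups.) (M is assumed smooth over K, that is, the torsion of its character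
group has order prime to the characteristic of K; this is automatic in characteristic zero. The
published statement has no such condition, but its proof uses the openness of the image of F(K̂) in
P(K̂) for an isogeny F → P with kernel M (an implicit-function argument over K̂), which requires it,
and without it the statement fails: for K the rational function field in one variable t over the
field with p elements, completed t-adically, and M the group of p-th roots of unity, the map K*/K*ᵖ
→ K̂*/K̂*ᵖ is not surjective, the target being uncountable.) -/
theorem result
    (A : Type u) [CommRing A] [IsDomain A] [IsDiscreteValuationRing A]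
    (v : IsDedekindDomain.HeightOneSpectrum A)
    (M : Over (Spec (CommRingCat.of (FractionRing A)))) [GrpObj M] [Smooth M.hom]
    (hM : ∃ (Λ : Type) (_ : AddCommGroup Λ), AddGroup.FG Λ ∧
      TwC.Locally (Spec (CommRingCat.of (FractionRing A))) .finiteEtale
        (fun S' g => Nonempty (Grp.mk (Red.bc g M) ≅ Grp.mk (Red.DS S' Λ))))
    (hsplit : (∃ (L : Type u) (_ : Field L) (_ : Algebra (v.adicCompletion (FractionRing A)) L),
      FiniteDimensional (v.adicCompletion (FractionRing A)) L ∧ IsGalois (v.adicCompletion (FractionRing A)) L ∧
      (∀ (p : ℕ) [Fact p.Prime] (P : Sylow p (L ≃ₐ[(v.adicCompletion (FractionRing A))] L)), IsCyclic P) ∧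
      ∃ (Λ : Type) (_ : AddCommGroup Λ), AddGroup.FG Λ ∧
        Nonempty (Grp.mk (Red.bc (Spec.map (CommRingCat.ofHom (algebraMap (v.adicCompletion (FractionRing A)) L)) ≫ Spec.map (CommRingCat.ofHom (algebraMap (FractionRing A) (v.adicCompletion (FractionRing A))))) M) ≅
          Grp.mk (Red.DS (Spec (CommRingCat.of L)) Λ)))) :
    Function.Surjective (NonAbH1.H1Sch.bcMap (Spec.map (CommRingCat.ofHom (algebraMap (FractionRing A) (v.adicCompletion (FractionRing A))))) M Scheme.fppfPrecoverage) := by
  obtain ⟨L, _, _, _, _, hcyc, Λ, _, _, ⟨e⟩⟩ := hsplit
  exact K965.H1Compl.main v M hM (K964.LocBc.cycSplit_of L hcyc e)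

end Groth.Agent.S18682
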