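import Groth.Statements.S18683
import Groth.Agent.S18682
import Groth.Agent.MultTori.K85.Core

set_option autoImplicit false
open CategoryTheory MonoidalCategory CartesianMonoidalCategory MonObj GrpObj AlgebraicGeometry
universe u
open MultTori

namespace Groth.Agent.S18683

/-- Let K be a discretely valued field, presented as the field of fractions of a discrete valuation ring
A, with completion K̂ (the adic completion at the height-one prime v of A); let C be a finite
commutative group whose exponent e is invertible in K, let 2^r be the exact power of 2 dividing e,
and assume that the field obtained from K̂ by adjoining the 2^r-th roots of unity is a cyclic Galois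
extension of K̂. Then for the constant K-group scheme C_K the map H¹_ét(K, C_K) → H¹_ét(K̂, C_K̂) on
classes of torsors (Galois C-covers) is surjective: every abelian extension of K̂ with group C comes
from one of K. (The cyclicity hypothesis is placed over the completion K̂, which is all the proof
uses: it splits C into its primary parts and treats each as a group of multiplicative type split by
a cyclotomic extension of K̂, cyclic over K̂ for odd primes and by hypothesis at 2; the same
hypothesis over K is a special case, a decomposition group of a cyclic group being cyclic.) -/
theorem result
    (A : Type u) [CommRing A] [IsDomain A] [IsDiscreteValuationRing A]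
    (v : IsDedekindDomain.HeightOneSpectrum A) (C : Type u) [CommGroup C] [Finite C]
    (C_ : Over (Spec (CommRingCat.of (FractionRing A)))) [GrpObj C_] (e : C_ ≅ TwC.const (Spec (CommRingCat.of (FractionRing A))) C) (he : TwC.IsConstGrp C C_ e)
    (hexp : IsUnit ((Monoid.exponent C : ℕ) : (FractionRing A)))
    (hcyc : IsCyclic (CyclotomicField (2 ^ (Monoid.exponent C).factorization 2) (v.adicCompletion (FractionRing A)) ≃ₐ[(v.adicCompletion (FractionRing A))] CyclotomicField (2 ^ (Monoid.exponent C).factorization 2) (v.adicCompletion (FractionRing A)))) :
    Function.Surjective (NonAbH1.H1Sch.bcMap (Spec.map (CommRingCat.ofHom (algebraMap (FractionRing A) (v.adicCompletion (FractionRing A))))) C_ Scheme.etalePrecoverage) := by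
  exact K85.Core.core_single (FractionRing A) (v.adicCompletion (FractionRing A))
    (fun M _ _ hM hs => Groth.Agent.S18682.result A v M hM hs) C C_ e he hexp hcyc

end Groth.Agent.S18683
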