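import Groth.Statements.S18688
import Groth.Agent.MultTori.K441.Claim
import Groth.Agent.MultTori.K964.FgH1

set_option autoImplicit false
open CategoryTheory MonoidalCategory CartesianMonoidalCategory MonObj GrpObj AlgebraicGeometry
universe u
open MultTori

namespace Groth.Agent.S18688

/-- Suppose A is a regular ring that is finitely generated as a ℤ-algebra, and S is an isotrivial group
of multiplicative type of finite type over A (a group scheme M which, after one finite étale
surjective base change, becomes isomorphic as a group scheme to the diagonalizable group of a
finitely generated commutative group), equipped with its commutative group structure. Then the fppf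
cohomology group H¹(A_fppf, S) (first cohomology of the abelian sheaf of points of S on the big fppf
site of Spec A) is a finitely generated abelian group. -/
theorem result
    (A : Type u) [CommRing A] [IsRegularRing A] [Algebra.FiniteType ℤ A]
    (S : Over (Spec (CommRingCat.of A))) [GrpObj S] [IsCommMonObj S]
    (hS : ∃ (Λ : Type) (_ : AddCommGroup Λ), AddGroup.FG Λ ∧
      TwC.Locally (Spec (CommRingCat.of A)) .finiteEtale
        (fun S' g => Nonempty (Grp.mk (Red.bc g S) ≅ Grp.mk (Red.DS S' Λ)))) :
    AddGroup.FG (BigSite.H Scheme.fppfPrecoverage (Spec (CommRingCat.of A))
      (CGrpSh.pts Scheme.fppfPrecoverage S) 1) := by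
  exact K964.FgH1.fg_H1 (fun B _ _ _ _ => MultTori.K441.roquette B) A S hS

end Groth.Agent.S18688
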