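import Groth.Statements.S18689
import Groth.Agent.MultTori.K832.GenPt
import Groth.Agent.MultTori.K964.MDict
import Groth.Agent.MultTori.K964.SemiGal

set_option autoImplicit false
open CategoryTheory MonoidalCategory CartesianMonoidalCategory MonObj GrpObj AlgebraicGeometry
universe u
open MultTori

namespace Groth.Agent.S18689

open TensorProduct
attribute [local instance] K964.DictBc.actBc K964.DictBc.commBc

/-- Let A be a regular Noetherian integral domain with finitely many maximal ideals, N an isotrivial
group of multiplicative type of finite type over A (a group scheme M which, after one finite étale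
surjective base change, becomes isomorphic as a group scheme to the diagonalizable group of a
finitely generated commutative group), X an integral open subscheme of affine n-space over A with
function field K, and M = N ×_A X. Then the restriction map H¹_fppf(X, M) → H¹_fppf(K, M_K) to the
generic point is injective on classes of torsors. (The source assumes A integral Noetherian
semilocal with factorial strict henselisations; regularity is its named sufficient condition and is
what is assumed here.) -/
theorem result
    (A : Type u) [CommRing A] [IsDomain A] [IsRegularRing A] [Finite (MaximalSpectrum A)]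
    (N : Over (Spec (CommRingCat.of A))) [GrpObj N]
    (hN : ∃ (Λ : Type) (_ : AddCommGroup Λ), AddGroup.FG Λ ∧
      TwC.Locally (Spec (CommRingCat.of A)) .finiteEtale
        (fun S' g => Nonempty (Grp.mk (Red.bc g N) ≅ Grp.mk (Red.DS S' Λ))))
    (n : ℕ) (U : (𝔸(ULift.{u} (Fin n); Spec (CommRingCat.of A))).Opens) [IsIntegral (U : Scheme.{u})] :
    Function.Injective
      (NonAbH1.H1Sch.bcMap ((U : Scheme.{u}).fromSpecStalk (genericPoint (U : Scheme.{u})))
        (Red.bc (U.ι ≫ (𝔸(ULift.{u} (Fin n); Spec (CommRingCat.of A)) ↘ Spec (CommRingCat.of A))) N) Scheme.fppfPrecoverage) := by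
  obtain ⟨Λ, _, -, hΛ⟩ := hN
  have : ConnectedSpace (Spec (CommRingCat.of A)) := inferInstanceAs (ConnectedSpace (PrimeSpectrum A))
  obtain ⟨B, _, _, G, _, _, _, _, _, hG, hconn, ⟨D⟩, haff⟩ := K964.MDict.exists_dict N hΛ
  have := hG.ff
  have := hG.fin
  have := hG.et
  have : UniqueFactorizationMonoid A := K964.SemiUFD.ufd_of_regular A
  have hnt : Nontrivial B := by
    obtain ⟨x₀⟩ := (inferInstance : Nonempty (Spec (CommRingCat.of B)))
    exact PrimeSpectrum.nontrivial (show PrimeSpectrum B from x₀)
  obtain ⟨hdom, -⟩ := K964.SemiGal.isDomain_of_etale (A := A) (B := B) K965.Gal.idem_trivial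
  have hreg : IsRegularRing B := Groth.Agent.Sga4h.DivEq.isRegularRing_of_etale A B
  have hfm : Finite (MaximalSpectrum B) := K964.SemiGal.finite_max (A := A)
  have hufd : UniqueFactorizationMonoid B := K964.SemiUFD.ufd_of_regular B
  have h90 := K964.SemiGal.h90P hG
  have hcomm : IsCommMonObj N := K964.ExtE.isCommMonObj_of_dict D
  have hcpt : CompactSpace (U : Scheme.{u}) := K832.PolyH90.compact_U U
  obtain ⟨g, hg, hg'⟩ := K832.GenPt.exists_g U
  have hdomR : IsDomain (MvPolynomial (ULift.{u} (Fin n)) A ⊗[A] B) := K832.PolyH90.isDomain_poly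
  have hufdR : UniqueFactorizationMonoid (MvPolynomial (ULift.{u} (Fin n)) A ⊗[A] B) := K832.PolyH90.ufd_poly
  intro c c' h
  obtain ⟨P, rfl⟩ := K964.Cocyc.exists_cl c
  obtain ⟨Q, rfl⟩ := K964.Cocyc.exists_cl c'
  have h' : ∀ x : (U : Scheme.{u}), x = genericPoint (U : Scheme.{u}) →
      (P.bc ((U : Scheme.{u}).fromSpecStalk x)).cl = (Q.bc ((U : Scheme.{u}).fromSpecStalk x)).cl := by
    rintro _ rfl
    exact h
  have h2 := K832.OpenGen.cl_bc_comp ((U : Scheme.{u}).fromSpecStalk _) (Spec.map (Scheme.stalkClosedPointTo g))
    (h' _ hg') (Scheme.Spec_stalkClosedPointTo_fromSpecStalk g)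
  exact K832.OpenGen.cl_eq_of_generic D (K832.PolyH90.h90_poly h90) (K832.PolyH90.jU U) _
    (K832.PolyH90.jU_tb U) (FractionRing (MvPolynomial (ULift.{u} (Fin n)) A)) g hg P Q h2

end Groth.Agent.S18689
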