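import Groth.Statements.S18696
import Groth.Agent.MultTori.K965.SplitGal
import Groth.Agent.MultTori.K965.RingRet
import Groth.Agent.MultTori.K965.GeoRet
import Groth.Agent.MultTori.K965.TorDom

set_option autoImplicit false
open CategoryTheory MonoidalCategory CartesianMonoidalCategory MonObj GrpObj AlgebraicGeometry
universe u
open MultTori

namespace Groth.Agent.S18696

/-- (v) ⇒ (viii): let k be a field and T an isotrivial k-torus (isomorphic to a split torus of some rank
after one finite étale surjective base change). If for every discrete valuation ring A containing k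
(a k-algebra), with residue field κ, the reduction map T(A) → T(κ) is surjective, then T is retract
rational over k: there are a nonempty open subscheme U of T, an open subscheme Y of an affine space
over k and k-morphisms U → Y → U whose composite is the identity of U. -/
theorem result
    (k : Type u) [Field k] (T : Over (Spec (CommRingCat.of k))) [GrpObj T]
    (hT : ∃ r : ℕ, TwC.Locally (Spec (CommRingCat.of k)) .finiteEtale
        (fun S' g => Red.IsSplitTorusWith (Fin r → ℤ) (Red.bc g T)))
    (h : ∀ (A : Type u) [CommRing A] [IsDomain A] [IsDiscreteValuationRing A] [Algebra k A]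
        (u : Spec (CommRingCat.of (IsLocalRing.ResidueField A)) ⟶ T.left),
        u ≫ T.hom = Spec.map (CommRingCat.ofHom ((IsLocalRing.residue A).comp (algebraMap k A))) →
        ∃ s : Spec (CommRingCat.of A) ⟶ T.left, s ≫ T.hom = Spec.map (CommRingCat.ofHom (algebraMap k A)) ∧
          Spec.map (CommRingCat.ofHom (IsLocalRing.residue A)) ≫ s = u) :
    ∃ (U : T.left.Opens) (n : ℕ) (Y : (Spec (CommRingCat.of (MvPolynomial (Fin n) k))).Opens)
        (a : (U : Scheme.{u}) ⟶ (Y : Scheme.{u})) (b : (Y : Scheme.{u}) ⟶ (U : Scheme.{u})),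
        (U : Set T.left).Nonempty ∧ a ≫ b = 𝟙 (U : Scheme.{u}) ∧
        a ≫ Y.ι ≫ Spec.map (CommRingCat.ofHom (algebraMap k (MvPolynomial (Fin n) k))) = U.ι ≫ T.hom ∧
        b ≫ U.ι ≫ T.hom = Y.ι ≫ Spec.map (CommRingCat.ofHom (algebraMap k (MvPolynomial (Fin n) k))) := by
  obtain ⟨r, hT⟩ := hT
  have htor := K965.Dic.isTorus_of_isotrivial hT
  have haff : IsAffineHom T.hom := Groth.Agent.Sga3B.TorusAlgClosed.isAffineHom_of_isTorus htor
  have haff' : IsAffine T.left := isAffine_of_isAffineHom T.hom
  have hsm : Smooth T.hom := Groth.Agent.Sga3B.TorusAlgClosed.smooth_of_isTorus htor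
  let H : Type u := Γ(T.left, ⊤)
  let φ : k →+* H := K965.TorDom.strMap T
  let _ : Algebra k H := φ.toAlgebra
  have hφ : Spec.map (CommRingCat.ofHom (algebraMap k H)) = T.left.isoSpec.inv ≫ T.hom := K965.TorDom.spec_strMap T
  have hsm' : Algebra.Smooth k H := by
    have h1 : Smooth (Spec.map (CommRingCat.ofHom (algebraMap k H))) := by
      rw [hφ]; infer_instance
    have h2 := (HasRingHomProperty.Spec_iff (P := @Smooth)).1 h1
    exact RingHom.smooth_algebraMap.1 h2
  have hdom : IsDomain H := by
    obtain ⟨B, _, _, G, _, _, _, _, hG, hconn, ⟨e⟩⟩ := K965.Dic.exists_split T hT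
    have := hG.fin
    have := hG.et
    have := hG.ff
    let _ : Field B := (K965.Dic.isField_of_connected (k := k) (B := B)).toField
    obtain ⟨θ, hθ⟩ := K965.TorDom.exists_injective e
    exact hθ.isDomain θ
  obtain ⟨N, p, t, s, σ, hp, ht, hst⟩ := K965.Ret.exists_ring_retract k H (by
    intro A _ _ _ _ u
    obtain ⟨s, hs1, hs2⟩ := h A (Spec.map (CommRingCat.ofHom (u : H →+* IsLocalRing.ResidueField A)) ≫ T.left.isoSpec.inv)
      (by
        rw [Category.assoc, ← hφ, ← Spec.map_comp]
        congr 1
        ext a
        exact u.commutes a)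
    obtain ⟨ψ, hψ⟩ : ∃ ψ, Spec.map ψ = s ≫ T.left.isoSpec.hom := ⟨_, Spec.map_preimage _⟩
    refine ⟨{ (ψ.hom : H →+* A) with commutes' := fun a => ?_ }, fun x => ?_⟩
    · have h3 : CommRingCat.ofHom (algebraMap k H) ≫ ψ = CommRingCat.ofHom (algebraMap k A) := by
        apply Spec.map_injective
        rw [Spec.map_comp, hψ, hφ, Category.assoc, Iso.hom_inv_id_assoc, hs1]
      exact congr($(h3).hom a)
    · have h3 : ψ ≫ CommRingCat.ofHom (IsLocalRing.residue A) = CommRingCat.ofHom (u : H →+* IsLocalRing.ResidueField A) := by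
        apply Spec.map_injective
        rw [Spec.map_comp, hψ, ← Category.assoc, hs2, Category.assoc, Iso.inv_hom_id, Category.comp_id]
      exact congr($(h3).hom x))
  have ht' : Nontrivial (Localization.Away t) :=
    (IsLocalization.isDomain_localization (powers_le_nonZeroDivisors_of_noZeroDivisors ht)).toNontrivial
  have hne : Nonempty (Spec (CommRingCat.of (Localization.Away t))) :=
    inferInstanceAs (Nonempty (PrimeSpectrum (Localization.Away t)))
  obtain ⟨U, Y, a, b, h1, h2, h3, h4⟩ := K965.GeoRet.exists_opens T.hom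
    (Spec.map (CommRingCat.ofHom (algebraMap k (MvPolynomial (Fin N) k))))
    (Spec.map (CommRingCat.ofHom (algebraMap (MvPolynomial (Fin N) k) (Localization.Away p))))
    (Spec.map (CommRingCat.ofHom (algebraMap H (Localization.Away t))) ≫ T.left.isoSpec.inv)
    (Spec.map (CommRingCat.ofHom (s : H →+* Localization.Away p)) ≫ T.left.isoSpec.inv)
    (Spec.map (CommRingCat.ofHom (σ : Localization.Away p →+* Localization.Away t)))
    (by
      rw [← Category.assoc, ← Spec.map_comp]
      congr 2
      ext x
      exact hst x)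
    (by
      rw [Category.assoc, ← hφ, ← Spec.map_comp, ← Spec.map_comp]
      congr 1
      ext x
      change s (algebraMap k H x) = algebraMap _ _ (algebraMap _ _ x)
      rw [s.commutes, ← IsScalarTower.algebraMap_apply])
  exact ⟨U, N, Y, a, b, h1, h2, h3, h4⟩

end Groth.Agent.S18696
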