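import Groth.Statements.S18697
import Groth.Agent.MultTori.K965.Translate

set_option autoImplicit false
open CategoryTheory MonoidalCategory CartesianMonoidalCategory MonObj GrpObj AlgebraicGeometry
universe u
open MultTori

namespace Groth.Agent.S18697

/-- Lifting points of a retract of an open subset of an affine space. -/
lemma lift_retract {k : Type u} [Field k] (T : Over (Spec (CommRingCat.of k))) (U : T.left.Opens) (n : ℕ)
    (Y : (Spec (CommRingCat.of (MvPolynomial (Fin n) k))).Opens)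
    (a : (U : Scheme.{u}) ⟶ (Y : Scheme.{u})) (b : (Y : Scheme.{u}) ⟶ (U : Scheme.{u}))
    (hab : a ≫ b = 𝟙 (U : Scheme.{u}))
    (ha : a ≫ Y.ι ≫ Spec.map (CommRingCat.ofHom (algebraMap k (MvPolynomial (Fin n) k))) = U.ι ≫ T.hom)
    (hb : b ≫ U.ι ≫ T.hom = Y.ι ≫ Spec.map (CommRingCat.ofHom (algebraMap k (MvPolynomial (Fin n) k))))
    {A κ : Type u} [CommRing A] [IsLocalRing A] [Algebra k A] [Field κ] [Algebra k κ] (q : A →ₐ[k] κ)
    (hq : Function.Surjective q) (x : Spec (CommRingCat.of κ) ⟶ T.left)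
    (hx : x ≫ T.hom = Spec.map (CommRingCat.ofHom (algebraMap k κ))) (hxU : ∀ y, x.base y ∈ U) :
    ∃ s : Spec (CommRingCat.of A) ⟶ T.left, s ≫ T.hom = Spec.map (CommRingCat.ofHom (algebraMap k A)) ∧
      Spec.map (CommRingCat.ofHom (q : A →+* κ)) ≫ s = x := by
  have hr : Set.range x.base ⊆ Set.range U.ι.base := by
    rintro _ ⟨y, rfl⟩
    rw [Scheme.Opens.range_ι]
    exact hxU y
  let x' : Spec (CommRingCat.of κ) ⟶ (U : Scheme.{u}) := IsOpenImmersion.lift U.ι x hr
  have hx' : x' ≫ U.ι = x := IsOpenImmersion.lift_fac _ _ _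
  obtain ⟨φ, hφ⟩ : ∃ φ : CommRingCat.of (MvPolynomial (Fin n) k) ⟶ CommRingCat.of κ, Spec.map φ = x' ≫ a ≫ Y.ι :=
    ⟨Spec.preimage _, Spec.map_preimage _⟩
  have hφk : φ.hom.comp (algebraMap k (MvPolynomial (Fin n) k)) = algebraMap k κ := by
    have h1 : CommRingCat.ofHom (algebraMap k (MvPolynomial (Fin n) k)) ≫ φ = CommRingCat.ofHom (algebraMap k κ) := by
      apply Spec.map_injective
      rw [Spec.map_comp, hφ, Category.assoc, Category.assoc, ha, ← Category.assoc, hx', hx]
    exact congrArg CommRingCat.Hom.hom h1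
  choose c hc using fun i : Fin n => hq (φ.hom (MvPolynomial.X i))
  let ψ : MvPolynomial (Fin n) k →ₐ[k] A := MvPolynomial.aeval c
  have hψ : (q : A →+* κ).comp (ψ : MvPolynomial (Fin n) k →+* A) = φ.hom := by
    apply MvPolynomial.ringHom_ext
    · intro r
      have h1 : ψ (MvPolynomial.C r) = algebraMap k A r := ψ.commutes r
      change q (ψ (MvPolynomial.C r)) = φ.hom (MvPolynomial.C r)
      rw [h1, q.commutes]
      exact (congrArg (fun z : k →+* κ => z r) hφk).symm
    · intro i
      change q (ψ (MvPolynomial.X i)) = φ.hom (MvPolynomial.X i)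
      rw [MvPolynomial.aeval_X, hc]
  let z : Spec (CommRingCat.of A) ⟶ Spec (CommRingCat.of (MvPolynomial (Fin n) k)) :=
    Spec.map (CommRingCat.ofHom (ψ : MvPolynomial (Fin n) k →+* A))
  have hz : Spec.map (CommRingCat.ofHom (q : A →+* κ)) ≫ z = x' ≫ a ≫ Y.ι := by
    rw [← hφ, ← Spec.map_comp, ← CommRingCat.ofHom_comp, hψ]
    rfl
  obtain ⟨y₀⟩ : Nonempty (Spec (CommRingCat.of κ)) := inferInstanceAs (Nonempty (PrimeSpectrum κ))
  have hloc : (Spec.map (CommRingCat.ofHom (q : A →+* κ))).base y₀ = IsLocalRing.closedPoint A := by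
    apply PrimeSpectrum.ext
    have h1 : (PrimeSpectrum.comap (q : A →+* κ) y₀).asIdeal.IsMaximal := by
      have h2 : y₀.asIdeal = ⊥ := by
        have h3 : (y₀.asIdeal).IsPrime := y₀.isPrime
        rcases Ideal.eq_bot_or_top y₀.asIdeal with h4 | h4
        · exact h4
        · exact absurd h4 h3.ne_top
      change (y₀.asIdeal.comap (q : A →+* κ)).IsMaximal
      rw [h2]
      exact RingHom.ker_isMaximal_of_surjective (q : A →+* κ) hq
    exact IsLocalRing.eq_maximalIdeal h1
  have hzY : Set.range z.base ⊆ Set.range Y.ι.base := by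
    rw [Scheme.Opens.range_ι]
    have h1 : IsLocalRing.closedPoint A ∈ z ⁻¹ᵁ Y := by
      rw [← hloc]
      change ((Spec.map (CommRingCat.ofHom (q : A →+* κ)) ≫ z).base y₀) ∈ Y
      rw [hz]
      exact (a.base (x'.base y₀)).2
    rintro _ ⟨p, rfl⟩
    have h2 : p ⤳ IsLocalRing.closedPoint A := IsLocalRing.specializes_closedPoint p
    exact h2.mem_open (z ⁻¹ᵁ Y).2 h1
  let w : Spec (CommRingCat.of A) ⟶ (Y : Scheme.{u}) := IsOpenImmersion.lift Y.ι z hzY
  have hw : w ≫ Y.ι = z := IsOpenImmersion.lift_fac _ _ _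
  have hw' : Spec.map (CommRingCat.ofHom (q : A →+* κ)) ≫ w = x' ≫ a := by
    rw [← cancel_mono Y.ι, Category.assoc, hw, hz, Category.assoc]
  refine ⟨w ≫ b ≫ U.ι, ?_, ?_⟩
  · rw [Category.assoc, Category.assoc, hb, ← Category.assoc, hw, ← Spec.map_comp, ← CommRingCat.ofHom_comp]
    congr 2
    exact ψ.comp_algebraMap
  · rw [← Category.assoc, hw', Category.assoc, reassoc_of% hab, hx']

/-- (viii) ⇒ (iii): let k be a field and T an isotrivial k-torus (isomorphic to a split torus of some
rank after one finite étale surjective base change) which is retract rational over k: there are a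
nonempty open subscheme U of T, an open subscheme Y of an affine space over k and k-morphisms U → Y
→ U whose composite is the identity of U. Then for every local k-algebra A with residue field κ the
reduction map T(A) → T(κ) is surjective: every k-morphism Spec κ → T factors through an A-point of
T. -/
theorem result
    (k : Type u) [Field k] (T : Over (Spec (CommRingCat.of k))) [GrpObj T]
    (hT : ∃ r : ℕ, TwC.Locally (Spec (CommRingCat.of k)) .finiteEtale
        (fun S' g => Red.IsSplitTorusWith (Fin r → ℤ) (Red.bc g T)))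
    (hret : ∃ (U : T.left.Opens) (n : ℕ) (Y : (Spec (CommRingCat.of (MvPolynomial (Fin n) k))).Opens)
        (a : (U : Scheme.{u}) ⟶ (Y : Scheme.{u})) (b : (Y : Scheme.{u}) ⟶ (U : Scheme.{u})),
        (U : Set T.left).Nonempty ∧ a ≫ b = 𝟙 (U : Scheme.{u}) ∧
        a ≫ Y.ι ≫ Spec.map (CommRingCat.ofHom (algebraMap k (MvPolynomial (Fin n) k))) = U.ι ≫ T.hom ∧
        b ≫ U.ι ≫ T.hom = Y.ι ≫ Spec.map (CommRingCat.ofHom (algebraMap k (MvPolynomial (Fin n) k)))) :
    ∀ (A : Type u) [CommRing A] [IsLocalRing A] [Algebra k A]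
        (u : Spec (CommRingCat.of (IsLocalRing.ResidueField A)) ⟶ T.left),
        u ≫ T.hom = Spec.map (CommRingCat.ofHom ((IsLocalRing.residue A).comp (algebraMap k A))) →
        ∃ s : Spec (CommRingCat.of A) ⟶ T.left, s ≫ T.hom = Spec.map (CommRingCat.ofHom (algebraMap k A)) ∧
          Spec.map (CommRingCat.ofHom (IsLocalRing.residue A)) ≫ s = u := by
  obtain ⟨r, hT⟩ := hT
  obtain ⟨U, n, Y, a, b, ⟨t₀, ht₀⟩, hab, ha, hb⟩ := hret
  intro A _ _ _ u hu
  have hconn : ConnectedSpace (Spec (CommRingCat.of k)) := inferInstanceAs (ConnectedSpace (PrimeSpectrum k))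
  let κ := IsLocalRing.ResidueField A
  let _ : Algebra k κ := ((IsLocalRing.residue A).comp (algebraMap k A)).toAlgebra
  let q : A →ₐ[k] κ := { IsLocalRing.residue A with commutes' := fun _ => rfl }
  have hq : Function.Surjective q := IsLocalRing.residue_surjective
  let W : Set (K965.Pts.sp (algebraMap k κ) ⟶ T) := {x | ∃ s : K965.Pts.sp (algebraMap k A) ⟶ T, K964.AffPt.ap q ≫ s = x}
  have hW : K965.Thick.Thick T W := by
    rcases finite_or_infinite κ with hfin | hinf
    · exact Or.inl ⟨hfin, 1, 1, MonObj.comp_one _⟩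
    · refine Or.inr ⟨hinf, U, ⟨t₀, ht₀, ?_⟩, ?_⟩
      · obtain ⟨y⟩ : Nonempty (Spec (CommRingCat.of κ)) := inferInstanceAs (Nonempty (PrimeSpectrum κ))
        have : Subsingleton (Spec (CommRingCat.of k)) := inferInstanceAs (Subsingleton (PrimeSpectrum k))
        exact ⟨y, Subsingleton.elim _ _⟩
      · intro x hx
        obtain ⟨s, hs, hs'⟩ := lift_retract T U n Y a b hab ha hb q hq x.left (Over.w x) hx
        exact ⟨Over.homMk s hs, by ext1; exact hs'⟩
  obtain ⟨t, ht⟩ := K965.Translate.exists_conn (I := Unit) T hT (fun _ => q) (fun _ => hq) (fun _ _ _ => rfl)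
    (fun m hm => ⟨(), (IsLocalRing.ker_residue).trans (IsLocalRing.eq_maximalIdeal hm).symm⟩) (fun _ => W) (fun _ => hW)
    (fun _ => Over.homMk u hu)
  obtain ⟨_, ⟨s, rfl⟩, hst⟩ := ht ()
  refine ⟨(s * t).left, Over.w (s * t), ?_⟩
  have h1 : K964.AffPt.ap q ≫ (s * t) = Over.homMk u hu := by
    rw [MonObj.comp_mul]
    exact hst
  exact congrArg (fun z => z.left) h1

end Groth.Agent.S18697
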