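import Groth.Statements.S18691
import Groth.Agent.MultTori.K574.Situ

set_option autoImplicit false
open CategoryTheory MonoidalCategory CartesianMonoidalCategory MonObj GrpObj AlgebraicGeometry
universe u
open MultTori

namespace Groth.Agent.S18691

/-- Let A be a regular Noetherian integral domain with finitely many maximal ideals, K its field of
fractions, and M an isotrivial group of multiplicative type of finite type over it (a group scheme M
which, after one finite étale surjective base change, becomes isomorphic as a group scheme to the
diagonalizable group of a finitely generated commutative group), with its commutative group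
structure. Then the restriction map H²_fppf(A, M) → H²_fppf(K, M|_K) (second cohomology of the
abelian sheaf of points of M on the big fppf site of Spec A, and of its restriction to the big fppf
site of Spec K) is injective. (The source assumes A semilocal Noetherian integral with factorial
strict henselisations; regularity is its named sufficient condition and is what is assumed here.) -/
theorem result
    (A : Type u) [CommRing A] [IsDomain A] [IsRegularRing A] [Finite (MaximalSpectrum A)]
    (M : Over (Spec (CommRingCat.of A))) [GrpObj M] [IsCommMonObj M]
    (hM : ∃ (Λ : Type) (_ : AddCommGroup Λ), AddGroup.FG Λ ∧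
      TwC.Locally (Spec (CommRingCat.of A)) .finiteEtale
        (fun S' g => Nonempty (Grp.mk (Red.bc g M) ≅ Grp.mk (Red.DS S' Λ)))) :
    Function.Injective
      (HRes.pull Scheme.fppfPrecoverage (Spec.map (CommRingCat.ofHom (algebraMap A (FractionRing A))))
        (CGrpSh.pts Scheme.fppfPrecoverage M) 2) := by
  obtain ⟨Λ, _, hΛ, hM⟩ := hM
  obtain ⟨B, _, _, G, _, _, _, _, _, hG, hB1, hB2, hB3, h90, ⟨D⟩, haff⟩ := K574.Situ.exists_situ A M hM
  have hfin : Module.Finite ℤ Λ := Module.Finite.iff_addGroup_fg.2 hΛ
  rw [injective_iff_map_eq_zero]
  intro y hy
  let j : K574.Geo.Yb A ⟶ Over.mk (𝟙 (Spec (CommRingCat.of A))) := Over.homMk (K574.Geo.Yb A).hom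
  have hX : IsOpenImmersion (Over.mk (𝟙 (Spec (CommRingCat.of A)))).hom :=
    inferInstanceAs (IsOpenImmersion (𝟙 (Spec (CommRingCat.of A))))
  apply (K827.Abs.absE (CGrpSh.pts Scheme.fppfPrecoverage M) 2).injective
  rw [map_zero]
  apply K574.MultH2.mult_H2 j h90 hG M Λ D
  exact (K827.Abs.res_absE' (CGrpSh.pts Scheme.fppfPrecoverage M) 2 j y).trans hy

end Groth.Agent.S18691
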