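import Groth.Statements.S18692
import Groth.Agent.MultTori.K574.OpenH2

set_option autoImplicit false
open CategoryTheory MonoidalCategory CartesianMonoidalCategory MonObj GrpObj AlgebraicGeometry
universe u
open MultTori

namespace Groth.Agent.S18692

/-- Let A be a regular Noetherian integral domain with finitely many maximal ideals, N an isotrivial
group of multiplicative type of finite type over A (a group scheme M which, after one finite étale
surjective base change, becomes isomorphic as a group scheme to the diagonalizable group of a
finitely generated commutative group) with its commutative group structure, X an integral open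
subscheme of affine n-space over A with function field K, and M = N ×_A X. Then the restriction map
H²_fppf(X, M) → H²_fppf(K, M|_K) to the generic point (second cohomology of the abelian sheaf of
points of M on the big fppf site of X and of its restriction to Spec K) is injective. (The source
assumes A semilocal Noetherian integral with factorial strict henselisations; regularity is its
named sufficient condition and is what is assumed here.) -/
theorem result
    (A : Type u) [CommRing A] [IsDomain A] [IsRegularRing A] [Finite (MaximalSpectrum A)]
    (N : Over (Spec (CommRingCat.of A))) [GrpObj N] [IsCommMonObj N]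
    (hN : ∃ (Λ : Type) (_ : AddCommGroup Λ), AddGroup.FG Λ ∧
      TwC.Locally (Spec (CommRingCat.of A)) .finiteEtale
        (fun S' g => Nonempty (Grp.mk (Red.bc g N) ≅ Grp.mk (Red.DS S' Λ))))
    (n : ℕ) (U : (𝔸(ULift.{u} (Fin n); Spec (CommRingCat.of A))).Opens) [IsIntegral (U : Scheme.{u})] :
    Function.Injective
      (HRes.pull Scheme.fppfPrecoverage ((U : Scheme.{u}).fromSpecStalk (genericPoint (U : Scheme.{u})))
        (CGrpSh.pts Scheme.fppfPrecoverage (Red.bc (U.ι ≫ (𝔸(ULift.{u} (Fin n); Spec (CommRingCat.of A)) ↘ Spec (CommRingCat.of A))) N)) 2) := by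
  rw [injective_iff_map_eq_zero]
  intro y hy
  have h1 : IsOpenImmersion (U.ι ≫ (AffineSpace.SpecIso (ULift.{u} (Fin n)) (CommRingCat.of A)).hom) := inferInstance
  refine K574.OpenH2.open_H2 A N hN (ULift.{u} (Fin n)) (U : Scheme.{u})
    (U.ι ≫ (AffineSpace.SpecIso (ULift.{u} (Fin n)) (CommRingCat.of A)).hom) _ ?_ y hy
  have h2 : (AffineSpace.SpecIso (ULift.{u} (Fin n)) (CommRingCat.of A)).hom ≫
      Spec.map (CommRingCat.ofHom (algebraMap A (MvPolynomial (ULift.{u} (Fin n)) A))) =
      𝔸(ULift.{u} (Fin n); Spec (CommRingCat.of A)) ↘ Spec (CommRingCat.of A) := by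
    rw [← Iso.eq_inv_comp, AffineSpace.SpecIso_inv_over]
    rfl
  rw [Category.assoc, h2]

end Groth.Agent.S18692
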