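import Groth.Statements.S18693
import Groth.Agent.MultTori.K965.DictUm
import Groth.Agent.MultTori.K965.DvrChar
import Groth.Agent.MultTori.K965.Adic

set_option autoImplicit false
open CategoryTheory MonoidalCategory CartesianMonoidalCategory MonObj GrpObj AlgebraicGeometry
universe u
open MultTori

namespace Groth.Agent.S18693

/-- Let A be a discrete valuation ring whose fraction field is K, let K̂ be the completion of K at the
valuation of A (the adic completion at the height-one prime v of A) and Â ⊂ K̂ its ring of integers,
and let T be an isotrivial A-torus (isomorphic, after one finite étale surjective base change, to a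
split torus of some rank). Then T(K̂) = T(Â)·T(K): every point of T over Spec K̂ (as an A-scheme) is
the product, for the group law on points, of the restriction of a point over Spec Â and the
restriction of a point over Spec K. The restrictions are taken along given A-morphisms Spec K̂ →
Spec Â and Spec K̂ → Spec K whose underlying maps are the canonical ones. (In the printed copy the
completion signs of this formula are lost; the reading T(Â)·T(K) = T(K̂) is the one its proof
establishes.) -/
theorem result
    (A : Type u) [CommRing A] [IsDomain A] [IsDiscreteValuationRing A]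
    (v : IsDedekindDomain.HeightOneSpectrum A)
    (T : Over (Spec (CommRingCat.of A))) [GrpObj T]
    (hT : ∃ r : ℕ, TwC.Locally (Spec (CommRingCat.of A)) .finiteEtale
        (fun S' g => Red.IsSplitTorusWith (Fin r → ℤ) (Red.bc g T)))
    (ιA : Over.mk (Spec.map (CommRingCat.ofHom (algebraMap A (v.adicCompletion (FractionRing A))))) ⟶
      Over.mk (Spec.map (CommRingCat.ofHom (algebraMap A (v.adicCompletionIntegers (FractionRing A))))))
    (hιA : ιA.left = Spec.map (CommRingCat.ofHom (algebraMap (v.adicCompletionIntegers (FractionRing A)) (v.adicCompletion (FractionRing A)))))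
    (ιK : Over.mk (Spec.map (CommRingCat.ofHom (algebraMap A (v.adicCompletion (FractionRing A))))) ⟶
      Over.mk (Spec.map (CommRingCat.ofHom (algebraMap A (FractionRing A)))))
    (hιK : ιK.left = Spec.map (CommRingCat.ofHom (algebraMap (FractionRing A) (v.adicCompletion (FractionRing A)))))
    (x : Over.mk (Spec.map (CommRingCat.ofHom (algebraMap A (v.adicCompletion (FractionRing A))))) ⟶ T) :
    ∃ (a : Over.mk (Spec.map (CommRingCat.ofHom (algebraMap A (v.adicCompletionIntegers (FractionRing A))))) ⟶ T)
      (b : Over.mk (Spec.map (CommRingCat.ofHom (algebraMap A (FractionRing A)))) ⟶ T),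
      x = (ιA ≫ a) * (ιK ≫ b) := by
  obtain ⟨r, hT⟩ := hT
  obtain ⟨B, _, _, G, _, _, _, _, _, hG, -, ⟨D⟩⟩ := K965.Dic.exists_dict T hT
  have hfin := hG.fin
  have het := hG.et
  obtain ⟨π, hπ⟩ : ∃ π : A, IsLocalRing.maximalIdeal A = Ideal.span {π} := by
    obtain ⟨π, hπ⟩ := IsDiscreteValuationRing.exists_irreducible A
    exact ⟨π, (IsDiscreteValuationRing.irreducible_iff_uniformizer π).1 hπ⟩
  have hπ0 : π ≠ 0 := K965.Decomp.ne_zero_of_span hπ
  have hff : Module.FaithfullyFlat A (v.adicCompletionIntegers (FractionRing A)) :=
    K965.Adic.faithfullyFlat v (FractionRing A)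
  let i : v.adicCompletionIntegers (FractionRing A) →ₐ[A] v.adicCompletion (FractionRing A) :=
    IsScalarTower.toAlgHom A (v.adicCompletionIntegers (FractionRing A)) (v.adicCompletion (FractionRing A))
  let j : FractionRing A →ₐ[A] v.adicCompletion (FractionRing A) :=
    IsScalarTower.toAlgHom A (FractionRing A) (v.adicCompletion (FractionRing A))
  obtain ⟨χa, χb, ha, hb, hab⟩ := K965.DvrChar.exists_char_decomp (B := B) (G := G) hπ i j
    (FaithfulSMul.algebraMap_injective (v.adicCompletionIntegers (FractionRing A)) (v.adicCompletion (FractionRing A)))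
    (by
      rw [IsLocalRing.mem_maximalIdeal, mem_nonunits_iff]
      intro h
      have := K965.Adic.isLocalHom v (FractionRing A)
      have h1 := isUnit_of_map_unit (algebraMap A (v.adicCompletionIntegers (FractionRing A))) π h
      have h2 : π ∈ IsLocalRing.maximalIdeal A := hπ ▸ Ideal.mem_span_singleton_self π
      exact h2 h1)
    (K965.Adic.exists_approx v (FractionRing A) hπ0)
    (K965.Adic.exists_denom v (FractionRing A) hπ)
    (by
      rw [isUnit_iff_ne_zero, Ne, IsFractionRing.to_map_eq_zero_iff]
      exact hπ0)
    (D.ch _ x) (D.eqv _ x)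
  obtain ⟨a, hpa⟩ := D.exists_pt χa ha
  obtain ⟨b, hpb⟩ := D.exists_pt χb hb
  refine ⟨a, b, ?_⟩
  have eA : ιA = K965.Pts.mp (i : v.adicCompletionIntegers (FractionRing A) →+* _) i.comp_algebraMap := by
    ext1
    exact hιA
  have eK : ιK = K965.Pts.mp (j : FractionRing A →+* _) j.comp_algebraMap := by
    ext1
    exact hιK
  apply D.ch_inj
  rw [D.ch_mul, eA, eK]
  rw [D.nat i a, D.nat j b, hpa, hpb]
  exact DFunLike.ext _ _ hab

end Groth.Agent.S18693
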