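import Groth.Statements.S18694
import Groth.Agent.MultTori.K965.WeilGm
import Groth.Agent.MultTori.K965.SemiLift

set_option autoImplicit false
open CategoryTheory MonoidalCategory CartesianMonoidalCategory MonObj GrpObj AlgebraicGeometry
universe u
open MultTori

namespace Groth.Agent.S18694

/-- In the case of the quasitrivial torus R_{B/A}(G_m), let A be a semilocal ring (finitely many maximal
ideals m, residue fields κ_m = A/m), B a finite étale A-algebra, and (P, q) a Weil restriction along
Spec B → Spec A of the multiplicative group over B (P an A-scheme with q : P ×_A B → G_{m,B}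
universal). Then the reduction map P(A) → ∏_m P(κ_m) is surjective: every family (u_m) of κ_m-points
of P over the closed points of Spec A is the family of restrictions of one section of P over A. (The
source states this for every invertible A-torus and reduces it to this case; the
invertible/quasitrivial notions are not available here, so only this case is stated.) -/
theorem result
    (A : Type u) [CommRing A] [Finite (MaximalSpectrum A)]
    (B : Type u) [CommRing B] [Algebra A B] [Module.Finite A B] [Algebra.Etale A B]
    (P : Over (Spec (CommRingCat.of A))) (q : Red.bc (Spec.map (CommRingCat.ofHom (algebraMap A B))) P ⟶ Red.Gm (Spec (CommRingCat.of B)))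
    (hP : WeilRes.IsWeilRes (Spec.map (CommRingCat.ofHom (algebraMap A B))) (Red.Gm (Spec (CommRingCat.of B))) P q)
    (u : ∀ m : MaximalSpectrum A, Spec (CommRingCat.of (A ⧸ m.asIdeal)) ⟶ P.left)
    (hu : ∀ m : MaximalSpectrum A, u m ≫ P.hom = (Spec.map (CommRingCat.ofHom (Ideal.Quotient.mk m.asIdeal)))) :
    ∃ s : Spec (CommRingCat.of A) ⟶ P.left, s ≫ P.hom = 𝟙 (Spec (CommRingCat.of A)) ∧
      ∀ m : MaximalSpectrum A, (Spec.map (CommRingCat.ofHom (Ideal.Quotient.mk m.asIdeal))) ≫ s = u m := by
  let ut (m : MaximalSpectrum A) : K965.WeilGm.so A (A ⧸ m.asIdeal) ⟶ P := Over.homMk (u m) (hu m)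
  obtain ⟨b, hb⟩ := K965.SemiLift.exists_unit B (fun m => K965.WeilGm.wrU q (ut m))
  obtain ⟨g, hg⟩ := (K965.WeilGm.wrU_bijective hP A).2 b
  have hid : Spec.map (CommRingCat.ofHom (algebraMap A A)) = 𝟙 _ := Spec.map_id _
  refine ⟨g.left, ?_, fun m => ?_⟩
  · exact (Over.w g).trans hid
  · have h1 : K965.WeilGm.som (Ideal.Quotient.mkₐ A m.asIdeal) ≫ g = ut m := by
      apply (K965.WeilGm.wrU_bijective hP (A ⧸ m.asIdeal)).1
      rw [K965.WeilGm.wrU_som, hg]
      exact hb m
    exact congrArg (fun z => z.left) h1

end Groth.Agent.S18694
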