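import Groth.Statements.S18695
import Groth.Agent.S18690
import Groth.Agent.SGA3x.K6.Const
import Groth.Agent.MultTori.K85.EtFppf
import Groth.Agent.MultTori.K85.ConstMT
import Groth.Agent.MultTori.K85.ConstLift

set_option autoImplicit false
open CategoryTheory MonoidalCategory CartesianMonoidalCategory MonObj GrpObj AlgebraicGeometry
universe u
open MultTori

namespace Groth.Agent.S18695

/-- (ii) ⇒ (i): let k be a field, C a finite commutative group whose order is invertible in k, and C_k
the constant k-group scheme (given with an isomorphism to the constant scheme compatible with the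
group laws). If for every discrete valuation ring A containing k (a k-algebra), with residue field
κ, the reduction map H¹_ét(A, C_A) → H¹_ét(κ, C_κ) on classes of torsors (abelian étale covers with
group C) is surjective, then it is surjective for every local k-algebra A with residue field κ (the
universal lifting property for abelian C-covers). -/
theorem result
    (k : Type u) [Field k] (C : Type u) [CommGroup C] [Finite C]
    (C_ : Over (Spec (CommRingCat.of k))) [GrpObj C_] (e : C_ ≅ TwC.const (Spec (CommRingCat.of k)) C) (he : TwC.IsConstGrp C C_ e)
    (hC : IsUnit ((Nat.card C : ℕ) : k))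
    (h : ∀ (A : Type u) [CommRing A] [IsDomain A] [IsDiscreteValuationRing A] [Algebra k A],
        Function.Surjective
          (NonAbH1.H1Sch.bcMap (Spec.map (CommRingCat.ofHom (IsLocalRing.residue A)))
            (Red.bc (Spec.map (CommRingCat.ofHom (algebraMap k A))) C_) Scheme.etalePrecoverage)) :
    ∀ (A : Type u) [CommRing A] [IsLocalRing A] [Algebra k A],
        Function.Surjective
          (NonAbH1.H1Sch.bcMap (Spec.map (CommRingCat.ofHom (IsLocalRing.residue A)))
            (Red.bc (Spec.map (CommRingCat.ofHom (algebraMap k A))) C_) Scheme.etalePrecoverage) := by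
  have hsm : Smooth C_.hom := by
    have h1 : Etale (TwC.const (Spec (CommRingCat.of k)) C).hom := inferInstance
    have h2 : C_.hom = e.hom.left ≫ (TwC.const (Spec (CommRingCat.of k)) C).hom := (Over.w e.hom).symm
    rw [h2]
    infer_instance
  have hNZ : NeZero (Nat.card C) := ⟨Nat.card_pos.ne'⟩
  have hM := K85.ConstMT.isotrivial e he (Nat.card C) (fun x => pow_card_eq_one') hC
  intro A _ _ _
  have hsA : ∀ (A : Type u) [CommRing A] [Algebra k A],
      Smooth (Red.bc (Spec.map (CommRingCat.ofHom (algebraMap k A))) C_).hom := fun A _ _ => K85.EtFppf.smooth_bc _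
  have := hsA A
  rw [K85.EtFppf.surjective_bcMap_iff]
  exact Groth.Agent.S18690.result k C_ hM (fun A _ _ _ _ => by
    have := hsA A
    rw [← K85.EtFppf.surjective_bcMap_iff]
    exact h A) A

end Groth.Agent.S18695
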