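import Groth.Statements.S18698
import Groth.Agent.MultTori.K965.DictRep
import Groth.Agent.MultTori.K965.RatGeo
import Groth.Agent.MultTori.K965.RatRing
import Groth.Agent.MultTori.K965.PermRep
import Groth.Agent.MultTori.K965.PolyChar
import Groth.Agent.MultTori.K965.RingRet

set_option autoImplicit false
open CategoryTheory MonoidalCategory CartesianMonoidalCategory MonObj GrpObj AlgebraicGeometry
universe u
open MultTori
open scoped TensorProduct

namespace Groth.Agent.S18698

open K965.Pts K965.Gal K965.Dict K965.EqRep K965.LatX K965.RatRing K965.RatGeo K965.TorDom in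
/-- The ring-theoretic core: the product of `T` with a torus is rational. -/
theorem core (k : Type u) [Field k] (T : Over (Spec (CommRingCat.of k))) [GrpObj T] {r : ℕ}
    (hT : TwC.Locally (Spec (CommRingCat.of k)) .finiteEtale
        (fun _ g => Red.IsSplitTorusWith (Fin r → ℤ) (Red.bc g T))) [IsAffine T.left]
    (hlift : letI : Algebra k Γ(T.left, ⊤) := (strMap T).toAlgebra
      ∀ (A : Type u) [CommRing A] [IsDomain A] [IsDiscreteValuationRing A] [Algebra k A]
        (u : Γ(T.left, ⊤) →ₐ[k] IsLocalRing.ResidueField A), ∃ s : Γ(T.left, ⊤) →ₐ[k] A,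
          ∀ x, IsLocalRing.residue A (s x) = u x)
    (hsm : letI : Algebra k Γ(T.left, ⊤) := (strMap T).toAlgebra
      Algebra.Smooth k Γ(T.left, ⊤)) :
    ∃ (T₁ : Over (Spec (CommRingCat.of k))) (_ : GrpObj T₁),
      (∃ r : ℕ, TwC.Locally (Spec (CommRingCat.of k)) .finiteEtale (fun S' g => Red.IsSplitTorusWith (Fin r → ℤ) (Red.bc g T₁))) ∧
      Scheme.IsRationalOver (T ⊗ T₁).hom := by
  let _ : Algebra k Γ(T.left, ⊤) := (strMap T).toAlgebra
  obtain ⟨B, _, _, G, _, _, _, _, hG, ⟨e⟩⟩ := K965.DictRep.exists_split_field T hT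
  have := hG.ff
  have := hG.fin
  have hdom : IsDomain Γ(T.left, ⊤) := by
    obtain ⟨θ, hθ⟩ := K965.TorDom.exists_injective e
    exact hθ.isDomain θ
  obtain ⟨_, ⟨D⟩⟩ := K965.Dic.exists_dict_of_split (G := G) e hG (fun x hx => by
    have h1 : x * (x - 1) = 0 := by rw [mul_sub, hx, _root_.mul_one, sub_self]
    rcases mul_eq_zero.1 h1 with h | h
    · exact Or.inl h
    · exact Or.inr (sub_eq_zero.1 h))
  have rT := K965.DictRep.rep_of_dict D
  obtain ⟨N, h, t, s, σ, hh, ht, hst⟩ := K965.Ret.exists_ring_retract k Γ(T.left, ⊤) hlift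
  -- lattices
  obtain ⟨X, _, _, φ, hφ⟩ := K965.LatX.exists_X (G := G) (M := Fin r → ℤ)
  obtain ⟨q, _, π, hπs, hπj, hπg⟩ := K965.LatX.exists_quot hφ
  -- the character over affine space
  obtain ⟨c, p, hc, hp, hcp⟩ := K965.PolyChar.exists_char_split hφ hh (push s (D.ch _ (upt T))) (eqv_push s rT.eqv)
  -- the torus
  obtain ⟨T₁, _, haff₁, ⟨D₁⟩, he₁⟩ := K965.LatTor.exists_group hG (Fin q → ℤ)
  let _ : Algebra k Γ(T₁.left, ⊤) := (strMap T₁).toAlgebra
  have rN := K965.DictRep.rep_of_dict D₁
  obtain ⟨n, d, uL, hd, rL⟩ := K965.PermRep.exists_perm_rep hG X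
  refine ⟨T₁, inferInstance, ⟨q, K965.DictRep.locally_of_split hG T₁ he₁⟩, ?_⟩
  have hsc : push (IsScalarTower.toAlgHom k Γ(T.left, ⊤) (Localization.Away t)) (D.ch _ (upt T)) =
      cR c (Localization.Away t) + (push σ p).comp (jX φ) := by
    have h1 : IsScalarTower.toAlgHom k Γ(T.left, ⊤) (Localization.Away t) = σ.comp s :=
      AlgHom.ext fun x => (hst x).symm
    rw [h1, ← push_push, ← push_comp]
    have h2 : push s (D.ch _ (upt T)) = cR c (Localization.Away h) + p.comp (jX φ) := by
      exact DFunLike.ext _ _ hcp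
    rw [h2, push_add, push_cR]
  obtain ⟨t', ⟨ε⟩⟩ := exists_equiv (jX φ) (jX_smul hφ) π hπs hπj hπg rT rL rN (push σ p) (eqv_push σ hp) c hc hsc t
  -- non-vanishing
  have htd : Nontrivial (Localization.Away t) :=
    (IsLocalization.isDomain_localization (powers_le_nonZeroDivisors_of_noZeroDivisors ht)).toNontrivial
  have htinj : Function.Injective (algebraMap Γ(T.left, ⊤) (Localization.Away t)) :=
    IsLocalization.injective _ (powers_le_nonZeroDivisors_of_noZeroDivisors ht)
  obtain ⟨f₀, -⟩ := rN.surj (R := k) 0 (cs k B G (Fin q → ℤ) k).zero_mem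
  let ψ : Localization.Away t ⊗[k] Γ(T₁.left, ⊤) →ₐ[k] Localization.Away t :=
    Algebra.TensorProduct.lift (AlgHom.id k _) ((Algebra.ofId k (Localization.Away t)).comp f₀) (fun _ _ => Commute.all _ _)
  have ht' : t' ≠ 0 := by
    rintro rfl
    have h1 : (1 : Localization.Away (0 : Localization.Away d)) = 0 := by
      have h2 : IsUnit (algebraMap (Localization.Away d) (Localization.Away (0 : Localization.Away d)) 0) :=
        IsLocalization.Away.algebraMap_isUnit _
      rw [map_zero, isUnit_zero_iff] at h2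
      exact h2.symm
    have h2 := congrArg (fun z => ψ (ε.symm z)) h1
    simp only [map_one, map_zero] at h2
    exact one_ne_zero h2
  have hLd : IsDomain (Localization.Away d) :=
    IsLocalization.isDomain_localization (powers_le_nonZeroDivisors_of_noZeroDivisors hd)
  -- geometry
  let eT : ∀ (Z : Over (Spec (CommRingCat.of k))) [IsAffine Z.left], sp (strMap Z) ≅ Z := fun Z _ =>
    Over.isoMk Z.left.isoSpec.symm (by exact (spec_strMap Z).symm)
  have b1 : Scheme.BirationalOver (T ⊗ T₁).hom (st k (Γ(T.left, ⊤) ⊗[k] Γ(T₁.left, ⊤))) :=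
    birat_prod T T₁ Γ(T.left, ⊤) Γ(T₁.left, ⊤) (eT T) (eT T₁)
  have b2 : Scheme.BirationalOver (st k (Localization.Away t ⊗[k] Γ(T₁.left, ⊤)))
      (st k (Γ(T.left, ⊤) ⊗[k] Γ(T₁.left, ⊤))) := birat_tensor t htinj
  have b3 : Scheme.BirationalOver (st k (Localization.Away t'))
      (st k (Localization.Away t ⊗[k] Γ(T₁.left, ⊤))) := birat_of_equiv ε
  have b4 : Scheme.BirationalOver (st k (Localization.Away t')) (st k (Localization.Away d)) := birat_away t' ht' _
  have b5 : Scheme.BirationalOver (st k (Localization.Away d)) (st k (MvPolynomial (Fin n) k)) := birat_away d hd _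
  have := isRationalOver_mvPolynomial k n
  exact Scheme.BirationalOver.isRationalOver _ (st k (MvPolynomial (Fin n) k))
    (b1.trans (b2.symm.trans (b3.symm.trans (b4.trans b5))))

/-- (v) ⇒ (vi): let k be a field and T an isotrivial k-torus (isomorphic to a split torus of some rank
after one finite étale surjective base change). If for every discrete valuation ring A containing k
(a k-algebra), with residue field κ, the reduction map T(A) → T(κ) is surjective, then there is an
isotrivial k-torus T₁ such that the k-scheme T ×_k T₁ is k-rational, i.e. birational over k to an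
affine space over k. -/
theorem result
    (k : Type u) [Field k] (T : Over (Spec (CommRingCat.of k))) [GrpObj T]
    (hT : ∃ r : ℕ, TwC.Locally (Spec (CommRingCat.of k)) .finiteEtale
        (fun S' g => Red.IsSplitTorusWith (Fin r → ℤ) (Red.bc g T)))
    (h : ∀ (A : Type u) [CommRing A] [IsDomain A] [IsDiscreteValuationRing A] [Algebra k A]
        (u : Spec (CommRingCat.of (IsLocalRing.ResidueField A)) ⟶ T.left),
        u ≫ T.hom = Spec.map (CommRingCat.ofHom ((IsLocalRing.residue A).comp (algebraMap k A))) →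
        ∃ s : Spec (CommRingCat.of A) ⟶ T.left, s ≫ T.hom = Spec.map (CommRingCat.ofHom (algebraMap k A)) ∧
          Spec.map (CommRingCat.ofHom (IsLocalRing.residue A)) ≫ s = u) :
    ∃ (T₁ : Over (Spec (CommRingCat.of k))) (_ : GrpObj T₁),
      (∃ r : ℕ, TwC.Locally (Spec (CommRingCat.of k)) .finiteEtale (fun S' g => Red.IsSplitTorusWith (Fin r → ℤ) (Red.bc g T₁))) ∧
      Scheme.IsRationalOver (T ⊗ T₁).hom := by
  obtain ⟨r, hT⟩ := hT
  have htor := K965.Dic.isTorus_of_isotrivial hT
  have haff : IsAffineHom T.hom := Groth.Agent.Sga3B.TorusAlgClosed.isAffineHom_of_isTorus htor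
  have haff' : IsAffine T.left := isAffine_of_isAffineHom T.hom
  have hsm : Smooth T.hom := Groth.Agent.Sga3B.TorusAlgClosed.smooth_of_isTorus htor
  let H : Type u := Γ(T.left, ⊤)
  let φ : k →+* H := K965.TorDom.strMap T
  let _ : Algebra k H := φ.toAlgebra
  have hφ : Spec.map (CommRingCat.ofHom (algebraMap k H)) = T.left.isoSpec.inv ≫ T.hom := K965.TorDom.spec_strMap T
  have hsm' : Algebra.Smooth k H := by
    have h1 : Smooth (Spec.map (CommRingCat.ofHom (algebraMap k H))) := by
      rw [hφ]; infer_instance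
    have h2 := (HasRingHomProperty.Spec_iff (P := @Smooth)).1 h1
    exact RingHom.smooth_algebraMap.1 h2
  refine core k T hT ?_ hsm'
  intro A _ _ _ _ u
  obtain ⟨s, hs1, hs2⟩ := h A (Spec.map (CommRingCat.ofHom (u : H →+* IsLocalRing.ResidueField A)) ≫ T.left.isoSpec.inv)
    (by
      rw [Category.assoc, ← hφ, ← Spec.map_comp]
      congr 1
      ext a
      exact u.commutes a)
  obtain ⟨ψ, hψ⟩ : ∃ ψ, Spec.map ψ = s ≫ T.left.isoSpec.hom := ⟨_, Spec.map_preimage _⟩
  refine ⟨{ (ψ.hom : H →+* A) with commutes' := fun a => ?_ }, fun x => ?_⟩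
  · have h3 : CommRingCat.ofHom (algebraMap k H) ≫ ψ = CommRingCat.ofHom (algebraMap k A) := by
      apply Spec.map_injective
      rw [Spec.map_comp, hψ, hφ, Category.assoc, Iso.hom_inv_id_assoc, hs1]
    exact congr($(h3).hom a)
  · have h3 : ψ ≫ CommRingCat.ofHom (IsLocalRing.residue A) = CommRingCat.ofHom (u : H →+* IsLocalRing.ResidueField A) := by
      apply Spec.map_injective
      rw [Spec.map_comp, hψ, ← Category.assoc, hs2, Category.assoc, Iso.inv_hom_id, Category.comp_id]
    exact congr($(h3).hom x)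

end Groth.Agent.S18698
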