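import Groth.Statements.S18704
import Groth.Agent.QGor.K966.BijOff

set_option autoImplicit false
universe u
open QGor

namespace Groth.Agent.S18704

/-- Affine form. Let A be a Noetherian ring with Serre's condition (S_2), I an ideal with ht I ≥ 2
(every prime containing I has height ≥ 2), and G a finite A-module with G_p reflexive for every
prime p not containing I. Then the following are equivalent: (i) G has (S_2) and dim Supp(G_p) ≥ 2
for every prime p ⊇ I in Supp G; (ii) depth_I G ≥ 2; (iii) G is reflexive. -/
theorem result (A : Type u) [CommRing A] [IsNoetherianRing A]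
    (hA : LocCoh.HasSk 2 A A) (I : Ideal A) (hI : 2 ≤ I.height)
    (G : Type u) [AddCommGroup G] [Module A G] [Module.Finite A G]
    (hU : ∀ p : PrimeSpectrum A, ¬ I ≤ p.asIdeal →
      Module.IsReflexive (Localization.AtPrime p.asIdeal) (LocalizedModule p.asIdeal.primeCompl G)) :
    ((LocCoh.HasSk 2 A G ∧ ∀ p : PrimeSpectrum A, I ≤ p.asIdeal → p ∈ Module.support A G →
        (2 : WithBot ℕ∞) ≤ Module.supportDim (Localization.AtPrime p.asIdeal) (LocalizedModule p.asIdeal.primeCompl G)) ↔
      2 ≤ LocCoh.idealDepth I G) ∧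
    (2 ≤ LocCoh.idealDepth I G ↔ Module.IsReflexive A G) := by
  have hAI : 2 ≤ LocCoh.idealDepth I A := by
    refine K966.SerreBasic.le_idealDepth_of_hasSk 2 A I hA fun p hp _ => ?_
    rw [Groth.Agent.Ega4C.SupportLoc.supportDim_localizedModule_eq_height (by
      ext q
      simp only [Set.mem_univ, iff_true]
      rw [Module.mem_support_iff']
      exact ⟨1, fun r hr h => hr (by
        simp only [smul_eq_mul, mul_one] at h; rw [h]; exact q.asIdeal.zero_mem)⟩) p.asIdeal]
    exact WithBot.coe_le_coe.mpr (hI.trans (Ideal.height_mono hp))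
  have h1 : (LocCoh.HasSk 2 A G ∧ ∀ p : PrimeSpectrum A, I ≤ p.asIdeal → p ∈ Module.support A G →
      (2 : WithBot ℕ∞) ≤ Module.supportDim (Localization.AtPrime p.asIdeal)
        (LocalizedModule p.asIdeal.primeCompl G)) → 2 ≤ LocCoh.idealDepth I G := fun h =>
    K966.SerreBasic.le_idealDepth_of_hasSk 2 G I h.1 h.2
  have h2 : 2 ≤ LocCoh.idealDepth I G → Module.IsReflexive A G :=
    K966.BijOff.isReflexive_of_idealDepth_two I (le_trans (by norm_num) hAI) G hU
  have h3 : Module.IsReflexive A G → 2 ≤ LocCoh.idealDepth I G := fun h =>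
    K966.DualPres.two_le_idealDepth_of_isReflexive I hAI
  refine ⟨⟨h1, fun h => ⟨?_, fun p hIp hp => ?_⟩⟩, ⟨h2, h3⟩⟩
  · have := h2 h
    exact K966.DualPres.hasSk_two_of_isReflexive hA
  · have : IsNoetherianRing (Localization.AtPrime p.asIdeal) :=
      IsLocalization.isNoetherianRing p.asIdeal.primeCompl _ inferInstance
    have : Nontrivial (LocalizedModule p.asIdeal.primeCompl G) := Module.mem_support_iff.mp hp
    have h4 := h.trans (Groth.Agent.Localalg.Depth3.idealDepth_le_depth_localization I G p.asIdeal hIp)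
    refine le_trans (WithBot.coe_le_coe.mpr h4) ?_
    exact Groth.Agent.Localalg.Depth2.depth_le_supportDim _

end Groth.Agent.S18704
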