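import Groth.Statements.S18711
import Groth.Agent.QGor.K966.BaseChange

set_option autoImplicit false
universe u
open QGor

namespace Groth.Agent.S18711

open TensorProduct in
/-- Affine form. Let A → B be a flat homomorphism of Noetherian rings, J an ideal of B such that for
every prime q ⊇ J with contraction p the fibre local ring B_q/pB_q has depth ≥ 2, A → A′ a
homomorphism of Noetherian rings and B′ = A′ ⊗_A B the (Noetherian) pushout. Let 0 → F → E⁰ → E¹ → G
→ 0 be an exact sequence of finite B-modules with E⁰, E¹ projective and F_q, G_q free for every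
prime q not containing J. Then F is reflexive; the kernel K′ of B′ ⊗_B E⁰ → B′ ⊗_B E¹ is a reflexive
B′-module with depth_{JB′} K′ ≥ 2 (so it is the module of sections of the pull-back of F off
V(JB′)); and K′ is flat over A′ with depth ≥ 2 along JB′ on every fibre stalk K′_{q′}/p′K′_{q′} if
and only if B′ ⊗_B G is flat over A′. (The published statement phrases the last left-hand condition
as the relative S₂ condition of K′ over A′; the two agree when the fibres of Spec B′ → Spec A′
satisfy S₂ off V(JB′), and without that the relative S₂ form fails already for A = A′ a field, J =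
B, F = E⁰ = B not S₂ and E¹ = G = 0, so the fibrewise-depth form, which is what the proof
establishes, is stated.) -/
theorem result (A B : Type u) [CommRing A] [CommRing B] [IsNoetherianRing A] [IsNoetherianRing B] [Algebra A B]
    (A' B' : Type u) [CommRing A'] [CommRing B'] [IsNoetherianRing A'] [IsNoetherianRing B']
    [Algebra A A'] [Algebra B B'] [Algebra A' B'] [Algebra A B'] [IsScalarTower A B B'] [IsScalarTower A A' B']
    [Algebra.IsPushout A B A' B'] [Module.Flat A B] (J : Ideal B)
    (hZ : ∀ q : PrimeSpectrum B, J ≤ q.asIdeal →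
      2 ≤ LocCoh.idealDepth (q.asIdeal.map (algebraMap B (EGA4.FibLocRing A B q.asIdeal))) (EGA4.FibLocRing A B q.asIdeal))
    (F E0 E1 G : Type u) [AddCommGroup F] [Module B F] [Module.Finite B F]
    [AddCommGroup E0] [Module B E0] [Module.Finite B E0] [Module.Projective B E0]
    [AddCommGroup E1] [Module B E1] [Module.Finite B E1] [Module.Projective B E1]
    [AddCommGroup G] [Module B G] [Module.Finite B G]
    (f : F →ₗ[B] E0) (u : E0 →ₗ[B] E1) (v : E1 →ₗ[B] G)
    (hf : Function.Injective f) (hfu : Function.Exact f u) (huv : Function.Exact u v) (hv : Function.Surjective v)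
    (hFU : ∀ q : PrimeSpectrum B, ¬ J ≤ q.asIdeal → Module.Free (Localization.AtPrime q.asIdeal) (LocalizedModule q.asIdeal.primeCompl F))
    (hGU : ∀ q : PrimeSpectrum B, ¬ J ≤ q.asIdeal → Module.Free (Localization.AtPrime q.asIdeal) (LocalizedModule q.asIdeal.primeCompl G)) :
    Module.IsReflexive B F ∧
    Module.IsReflexive B' (LinearMap.ker (u.baseChange B')) ∧
    2 ≤ LocCoh.idealDepth (J.map (algebraMap B B')) (LinearMap.ker (u.baseChange B')) ∧
    ((∀ q' : PrimeSpectrum B', FlatCA.FlatAt A' q'.asIdeal (LinearMap.ker (u.baseChange B')) ∧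
        2 ≤ LocCoh.idealDepth ((J.map (algebraMap B B')).map (algebraMap B' (EGA4.FibLocRing A' B' q'.asIdeal)))
          (EGA4.FibLocMod A' B' q'.asIdeal (LinearMap.ker (u.baseChange B')))) ↔
      Module.Flat A' (B' ⊗[B] G)) := by
  have : Module.Flat A' B' :=
    Module.Flat.isBaseChange A A' B B' (Algebra.IsPushout.symm (inferInstance : Algebra.IsPushout A B A' B')).out
  set J' := J.map (algebraMap B B') with hJ'
  have hcomap : ∀ q' : Ideal B', J' ≤ q' ↔ J ≤ q'.comap (algebraMap B B') := fun q' => Ideal.map_le_iff_le_comap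
  have hZ' : ∀ q' : PrimeSpectrum B', J' ≤ q'.asIdeal →
      2 ≤ LocCoh.idealDepth (q'.asIdeal.map (algebraMap B' (EGA4.FibLocRing A' B' q'.asIdeal)))
        (EGA4.FibLocRing A' B' q'.asIdeal) := by
    intro q' hq'
    have h := hZ ⟨q'.asIdeal.comap (algebraMap B B'), inferInstance⟩ ((hcomap _).mp hq')
    exact h.trans (K966.FibBC.le_depth_baseChange A B A' B' q'.asIdeal _ rfl)
  have hbc : ∀ q' : PrimeSpectrum B', ¬ J' ≤ q'.asIdeal →
      Module.Free (Localization.AtPrime q'.asIdeal)
        (LocalizedModule q'.asIdeal.primeCompl (LinearMap.ker (u.baseChange B'))) ∧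
      Module.Free (Localization.AtPrime q'.asIdeal) (LocalizedModule q'.asIdeal.primeCompl (B' ⊗[B] G)) := by
    intro q' hq'
    have h := hGU ⟨q'.asIdeal.comap (algebraMap B B'), inferInstance⟩ (fun h => hq' ((hcomap _).mpr h))
    exact K966.RegBC.free_ker_baseChange u v hv huv q'.asIdeal _ rfl inferInstance
  have e1 : Function.Exact (LinearMap.ker (u.baseChange B')).subtype (u.baseChange B') :=
    LinearMap.exact_subtype_ker_map _
  have e2 : Function.Exact (u.baseChange B') (v.baseChange B') := lTensor_exact B' huv hv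
  have e3 : Function.Surjective (v.baseChange B') := LinearMap.lTensor_surjective B' hv
  refine ⟨K966.BaseChange.isReflexive A B J hZ F E0 E1 f u hf hfu hFU,
    K966.BaseChange.isReflexive A' B' J' hZ' _ _ _ _ (u.baseChange B') (Submodule.subtype_injective _) e1
      (fun q hq => (hbc q hq).1),
    K966.BaseChange.two_le_idealDepth A' B' J' hZ' _ _ _ _ (u.baseChange B') (Submodule.subtype_injective _) e1, ?_⟩
  have key : ∀ q' : PrimeSpectrum B', (FlatCA.FlatAt A' q'.asIdeal (LinearMap.ker (u.baseChange B')) ∧
        2 ≤ LocCoh.idealDepth (J'.map (algebraMap B' (EGA4.FibLocRing A' B' q'.asIdeal)))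
          (EGA4.FibLocMod A' B' q'.asIdeal (LinearMap.ker (u.baseChange B')))) ↔
        FlatCA.FlatAt A' q'.asIdeal (B' ⊗[B] G) := fun q' =>
    K966.BaseChange.iff_at A' B' J' hZ' _ _ _ _ _ (u.baseChange B') (v.baseChange B')
      (Submodule.subtype_injective _) e1 e2 e3 (fun q hq => (hbc q hq).2) q'.asIdeal
  simp only [key]
  constructor
  · intro h
    exact Groth.Agent.Flat2B.FlatCrit.flat_of_forall_flatAt (R := A') (S := B') (N := B' ⊗[B] G)
      (fun Q _ => h ⟨Q, inferInstance⟩)
  · intro h q'
    exact Groth.Agent.Flat2B.FlatCrit.flatAt_of_flat q'.asIdeal _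

end Groth.Agent.S18711
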