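import Groth.Statements.S18712
import Groth.Agent.QGor.K966.SurjTest

set_option autoImplicit false
universe u
open QGor

namespace Groth.Agent.S18712

open TensorProduct in
/-- Infinitesimal criterion, affine-local form. Let R be a Noetherian local ring with maximal ideal m, C
a finitely generated flat R-algebra, y = n a prime of C over m at which the fibre C_n/mC_n satisfies
S₂ (the structure morphism satisfies relative S₂ at y), and F a finite reflexive C-module which is
free at every prime not containing an ideal J such that every fibre local ring C_q/pC_q at primes q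
⊇ J has dimension ≥ 2 (F is locally free in codimension one on each fibre). Suppose that for every
surjective homomorphism R → A′ onto an Artinian local ring and the Noetherian pushout C′ = A′ ⊗_R C,
at every prime q′ of C′ lying over n the double dual (C′ ⊗_C F)^∨∨ is flat over A′ at q′ and its
fibre stalk satisfies S₂. Then F is flat over R at n and the fibre stalk F_n/mF_n satisfies S₂ (F
satisfies relative S₂ at y). Test rings A′ range over the universe of R. -/
theorem result (R C : Type u) [CommRing R] [CommRing C] [IsNoetherianRing R] [IsLocalRing R] [IsNoetherianRing C]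
    [Algebra R C] [Module.Flat R C] (hft : Algebra.FiniteType R C)
    (n : PrimeSpectrum C) (hn : (IsLocalRing.maximalIdeal R).map (algebraMap R C) ≤ n.asIdeal)
    (hS2 : LocCoh.HasSk 2 (EGA4.FibLocRing R C n.asIdeal) (EGA4.FibLocRing R C n.asIdeal))
    (F : Type u) [AddCommGroup F] [Module C F] [Module R F] [IsScalarTower R C F] [Module.Finite C F]
    [Module.IsReflexive C F] (J : Ideal C)
    (hFU : ∀ q : PrimeSpectrum C, ¬ J ≤ q.asIdeal → Module.Free (Localization.AtPrime q.asIdeal) (LocalizedModule q.asIdeal.primeCompl F))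
    (hcodim : ∀ q : PrimeSpectrum C, J ≤ q.asIdeal → (2 : WithBot ℕ∞) ≤ ringKrullDim (EGA4.FibLocRing R C q.asIdeal))
    (hI : ∀ (A' : Type u) [CommRing A'] [IsArtinianRing A'] [IsLocalRing A'] [Algebra R A'],
      Function.Surjective (algebraMap R A') →
      ∀ (C' : Type u) [CommRing C'] [IsNoetherianRing C'] [Algebra C C'] [Algebra A' C'] [Algebra R C']
        [IsScalarTower R C C'] [IsScalarTower R A' C'], Algebra.IsPushout R C A' C' →
        ∀ q' : PrimeSpectrum C', q'.asIdeal.comap (algebraMap C C') = n.asIdeal →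
          FlatCA.FlatAt A' q'.asIdeal (Module.Dual C' (Module.Dual C' (C' ⊗[C] F))) ∧
          LocCoh.HasSk 2 (EGA4.FibLocRing A' C' q'.asIdeal)
            (EGA4.FibLocMod A' C' q'.asIdeal (Module.Dual C' (Module.Dual C' (C' ⊗[C] F))))) :
    FlatCA.FlatAt R n.asIdeal F ∧ LocCoh.HasSk 2 (EGA4.FibLocRing R C n.asIdeal) (EGA4.FibLocMod R C n.asIdeal F) := by
  classical
  -- the local rings of the fibres near `n`
  have hS2' : ∀ Q : PrimeSpectrum C, Q ≤ n →
      LocCoh.HasSk 2 (EGA4.FibLocRing R C Q.asIdeal) (EGA4.FibLocRing R C Q.asIdeal) :=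
    fun Q hQ => K966.OpenS2.hasSk_of_le R C 2 n Q hQ hS2
  have hZ : ∀ Q : PrimeSpectrum C, J ≤ Q.asIdeal → Q.asIdeal ≤ n.asIdeal →
      2 ≤ LocCoh.idealDepth (Q.asIdeal.map (algebraMap C (EGA4.FibLocRing R C Q.asIdeal)))
        (EGA4.FibLocRing R C Q.asIdeal) :=
    fun Q hJQ hQ => K966.OpenS2.two_le_of_hasSk_of_dim R C Q.asIdeal (hS2' Q hQ) (hcodim Q hJQ)
  -- the presentation
  obtain ⟨a, b, f, g, hf, hfg, hfree⟩ := K966.ReflFree.exists_presentation_free (B := C) F
  have hgv : Function.Exact g (LinearMap.range g).mkQ := LinearMap.exact_map_mkQ_range g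
  have hv : Function.Surjective (LinearMap.range g).mkQ := Submodule.mkQ_surjective _
  have hg : K966.OffMap.RegOff J g := K966.OffMap.regOff_of_free g (LinearMap.range g).mkQ hv hgv
    (fun q hq => hfree q.asIdeal (hFU q hq))
  -- flatness of the cokernel at `n`
  have hG : FlatCA.FlatAt R n.asIdeal ((Fin (b + 1) → C) ⧸ LinearMap.range g) := by
    refine K966.SurjTest.flatAt_of_forall_quot_pow n.asIdeal hn _ (fun k hk => ?_)
    have h1 := K966.SurjTest.isArtinianRing_quot_pow (R := R) k hk
    have h2 := K966.SurjTest.isLocalRing_quot_pow (R := R) k hk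
    have hs : Function.Surjective (algebraMap R (R ⧸ IsLocalRing.maximalIdeal R ^ k)) := Ideal.Quotient.mk_surjective
    let : Algebra (R ⧸ IsLocalRing.maximalIdeal R ^ k) (C ⊗[R] (R ⧸ IsLocalRing.maximalIdeal R ^ k)) :=
      Algebra.TensorProduct.rightAlgebra
    have hsurj := K966.SurjTest.surj_includeLeft (C := C) hs
    have hN : IsNoetherianRing (C ⊗[R] (R ⧸ IsLocalRing.maximalIdeal R ^ k)) :=
      isNoetherianRing_of_surjective _ _ _ hsurj
    obtain ⟨q', hq', hq'n⟩ : ∃ q' : Ideal (C ⊗[R] (R ⧸ IsLocalRing.maximalIdeal R ^ k)), q'.IsPrime ∧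
        q'.comap (algebraMap C (C ⊗[R] (R ⧸ IsLocalRing.maximalIdeal R ^ k))) = n.asIdeal :=
      K966.SurjTest.exists_prime_quot (IsLocalRing.maximalIdeal R ^ k) n.asIdeal
        ((Ideal.map_mono (Ideal.pow_le_self hk.ne')).trans hn)
    have h3 := hI (R ⧸ IsLocalRing.maximalIdeal R ^ k) hs (C ⊗[R] (R ⧸ IsLocalRing.maximalIdeal R ^ k))
      inferInstance ⟨q', hq'⟩ hq'n
    have h4 := K966.RelS2.flatAt_of_relS2 R C J n.asIdeal hZ F (Fin a → C) (Fin (b + 1) → C) _ f g
      (LinearMap.range g).mkQ hf hfg hgv hv hg (R ⧸ IsLocalRing.maximalIdeal R ^ k)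
      (C ⊗[R] (R ⧸ IsLocalRing.maximalIdeal R ^ k)) q' hq'n.le (fun Q hJQ _ => hcodim Q hJQ) h3
    exact K966.SurjTest.flat_tensor_localized hs n.asIdeal _ q' hq'n h4
  -- conclusion
  have h5 := (K966.RelS2.iff_flatAt R C J n.asIdeal hZ F (Fin a → C) (Fin (b + 1) → C) _ f g
    (LinearMap.range g).mkQ hf hfg hgv hv hg).mpr hG
  exact ⟨h5.1, K966.RelS2.hasSk_of_two_le R C J n.asIdeal F (Fin a → C) (Fin (b + 1) → C) f g hf hfg hg hS2 h5.2⟩

end Groth.Agent.S18712
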