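import Groth.Statements.S18713
import Groth.Agent.QGor.K966.DvrTest

set_option autoImplicit false
universe u
open QGor

namespace Groth.Agent.S18713

open TensorProduct in
/-- Valuative criterion, affine-local form. Let R be a Noetherian local ring with maximal ideal m, C a
finitely generated flat R-algebra, y = n a prime of C over m at which the fibre C_n/mC_n satisfies
S₂ (the structure morphism satisfies relative S₂ at y), and F a finite reflexive C-module which is
free at every prime not containing an ideal J such that every fibre local ring C_q/pC_q at primes q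
⊇ J has dimension ≥ 2 (F is locally free in codimension one on each fibre). Assume R is reduced, and
that for every local homomorphism R → D to a discrete valuation ring and the Noetherian pushout C′ =
D ⊗_R C, at every prime q′ of C′ lying over n and over the closed point of D the double dual (C′ ⊗_C
F)^∨∨ is flat over D at q′ and its fibre stalk satisfies S₂. Then F is flat over R at n and F_n/mF_n
satisfies S₂ (F satisfies relative S₂ at y). Test rings D range over the universe of R. -/
theorem result (R C : Type u) [CommRing R] [CommRing C] [IsNoetherianRing R] [IsLocalRing R] [IsNoetherianRing C]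
    [Algebra R C] [Module.Flat R C] (hft : Algebra.FiniteType R C)
    (n : PrimeSpectrum C) (hn : (IsLocalRing.maximalIdeal R).map (algebraMap R C) ≤ n.asIdeal)
    (hS2 : LocCoh.HasSk 2 (EGA4.FibLocRing R C n.asIdeal) (EGA4.FibLocRing R C n.asIdeal))
    (F : Type u) [AddCommGroup F] [Module C F] [Module R F] [IsScalarTower R C F] [Module.Finite C F]
    [Module.IsReflexive C F] (J : Ideal C)
    (hFU : ∀ q : PrimeSpectrum C, ¬ J ≤ q.asIdeal → Module.Free (Localization.AtPrime q.asIdeal) (LocalizedModule q.asIdeal.primeCompl F))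
    (hcodim : ∀ q : PrimeSpectrum C, J ≤ q.asIdeal → (2 : WithBot ℕ∞) ≤ ringKrullDim (EGA4.FibLocRing R C q.asIdeal)) [IsReduced R]
    (hII : ∀ (D : Type u) [CommRing D] [IsDomain D] [IsDiscreteValuationRing D] [Algebra R D],
      IsLocalHom (algebraMap R D) →
      ∀ (C' : Type u) [CommRing C'] [IsNoetherianRing C'] [Algebra C C'] [Algebra D C'] [Algebra R C']
        [IsScalarTower R C C'] [IsScalarTower R D C'], Algebra.IsPushout R C D C' →
        ∀ q' : PrimeSpectrum C', q'.asIdeal.comap (algebraMap C C') = n.asIdeal →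
          (IsLocalRing.maximalIdeal D).map (algebraMap D C') ≤ q'.asIdeal →
          FlatCA.FlatAt D q'.asIdeal (Module.Dual C' (Module.Dual C' (C' ⊗[C] F))) ∧
          LocCoh.HasSk 2 (EGA4.FibLocRing D C' q'.asIdeal)
            (EGA4.FibLocMod D C' q'.asIdeal (Module.Dual C' (Module.Dual C' (C' ⊗[C] F))))) :
    FlatCA.FlatAt R n.asIdeal F ∧ LocCoh.HasSk 2 (EGA4.FibLocRing R C n.asIdeal) (EGA4.FibLocMod R C n.asIdeal F) := by
  classical
  -- the local rings of the fibres near `n`
  have hS2' : ∀ Q : PrimeSpectrum C, Q ≤ n →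
      LocCoh.HasSk 2 (EGA4.FibLocRing R C Q.asIdeal) (EGA4.FibLocRing R C Q.asIdeal) :=
    fun Q hQ => K966.OpenS2.hasSk_of_le R C 2 n Q hQ hS2
  have hZ : ∀ Q : PrimeSpectrum C, J ≤ Q.asIdeal → Q.asIdeal ≤ n.asIdeal →
      2 ≤ LocCoh.idealDepth (Q.asIdeal.map (algebraMap C (EGA4.FibLocRing R C Q.asIdeal)))
        (EGA4.FibLocRing R C Q.asIdeal) :=
    fun Q hJQ hQ => K966.OpenS2.two_le_of_hasSk_of_dim R C Q.asIdeal (hS2' Q hQ) (hcodim Q hJQ)
  -- the presentation
  obtain ⟨a, b, f, g, hf, hfg, hfree⟩ := K966.ReflFree.exists_presentation_free (B := C) F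
  have hgv : Function.Exact g (LinearMap.range g).mkQ := LinearMap.exact_map_mkQ_range g
  have hv : Function.Surjective (LinearMap.range g).mkQ := Submodule.mkQ_surjective _
  have hg : K966.OffMap.RegOff J g := K966.OffMap.regOff_of_free g (LinearMap.range g).mkQ hv hgv
    (fun q hq => hfree q.asIdeal (hFU q hq))
  -- flatness of the cokernel at `n`
  have hG : FlatCA.FlatAt R n.asIdeal ((Fin (b + 1) → C) ⧸ LinearMap.range g) := by
    refine K966.DvrTest.flatAt_of_forall_dvr n.asIdeal hn _ ?_
    intro V _ _ _ _ hloc q' _ hq'n hq'V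
    have hN0 : IsNoetherianRing (V ⊗[R] C) := Algebra.FiniteType.isNoetherianRing V _
    have hN : IsNoetherianRing (C ⊗[R] V) :=
      isNoetherianRing_of_ringEquiv _ (Algebra.TensorProduct.comm R V C).toRingEquiv
    let : Algebra V (C ⊗[R] V) := Algebra.TensorProduct.rightAlgebra
    have h3 := hII V hloc (C ⊗[R] V) inferInstance ⟨q', inferInstance⟩ hq'n
      (Ideal.map_le_iff_le_comap.mpr hq'V.ge)
    exact K966.RelS2.flatAt_of_relS2 R C J n.asIdeal hZ F (Fin a → C) (Fin (b + 1) → C) _ f g
      (LinearMap.range g).mkQ hf hfg hgv hv hg V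
      (C ⊗[R] V) q' hq'n.le (fun Q hJQ _ => hcodim Q hJQ) h3
  -- conclusion
  have h5 := (K966.RelS2.iff_flatAt R C J n.asIdeal hZ F (Fin a → C) (Fin (b + 1) → C) _ f g
    (LinearMap.range g).mkQ hf hfg hgv hv hg).mpr hG
  exact ⟨h5.1, K966.RelS2.hasSk_of_two_le R C J n.asIdeal F (Fin a → C) (Fin (b + 1) → C) f g hf hfg hg hS2 h5.2⟩

end Groth.Agent.S18713
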