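import Groth.Statements.S18714
import Groth.Agent.QGor.K966.HensTest

set_option autoImplicit false
universe u
open QGor

namespace Groth.Agent.S18714

open TensorProduct in
/-- Affine form. Let R be a Henselian Noetherian local ring with maximal ideal m, C a finitely generated
flat R-algebra all of whose fibre local rings C_q/pC_q satisfy S₂ (an S₂-morphism), F a finite
reflexive C-module free at every prime not containing an ideal J such that every fibre local ring at
primes q ⊇ J has dimension ≥ 2 (locally free in codimension one on each fibre), and y = n a prime of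
C over m. Then there is an ideal 𝔞 of R (a closed subscheme S of Spec R) with the universal
property: for every local homomorphism R → R′ to a Noetherian local ring and the Noetherian pushout
C′ = R′ ⊗_R C, the double dual (C′ ⊗_C F)^∨∨ is flat over R′ with S₂ fibre stalk at every prime q′
of C′ lying over n and over the closed point of R′ (it satisfies relative S₂ there) if and only if
𝔞R′ = 0 (Spec R′ → Spec R factors through S). Test rings R′ range over the universe of R. -/
theorem result (R C : Type u) [CommRing R] [CommRing C]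
    [IsNoetherianRing R] [HenselianLocalRing R] [IsNoetherianRing C] [Algebra R C] [Module.Flat R C]
    (hft : Algebra.FiniteType R C)
    (hS2 : ∀ q : PrimeSpectrum C, LocCoh.HasSk 2 (EGA4.FibLocRing R C q.asIdeal) (EGA4.FibLocRing R C q.asIdeal))
    (F : Type u) [AddCommGroup F] [Module C F] [Module.Finite C F] [Module.IsReflexive C F] (J : Ideal C)
    (hFU : ∀ q : PrimeSpectrum C, ¬ J ≤ q.asIdeal → Module.Free (Localization.AtPrime q.asIdeal) (LocalizedModule q.asIdeal.primeCompl F))
    (hcodim : ∀ q : PrimeSpectrum C, J ≤ q.asIdeal → (2 : WithBot ℕ∞) ≤ ringKrullDim (EGA4.FibLocRing R C q.asIdeal))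
    (n : PrimeSpectrum C) (hn : (IsLocalRing.maximalIdeal R).map (algebraMap R C) ≤ n.asIdeal) :
    ∃ 𝔞 : Ideal R, ∀ (R' : Type u) [CommRing R'] [IsNoetherianRing R'] [IsLocalRing R'] [Algebra R R'],
      IsLocalHom (algebraMap R R') →
      ∀ (C' : Type u) [CommRing C'] [IsNoetherianRing C'] [Algebra C C'] [Algebra R' C'] [Algebra R C']
        [IsScalarTower R C C'] [IsScalarTower R R' C'], Algebra.IsPushout R C R' C' →
        ((∀ q' : PrimeSpectrum C', q'.asIdeal.comap (algebraMap C C') = n.asIdeal →
            (IsLocalRing.maximalIdeal R').map (algebraMap R' C') ≤ q'.asIdeal →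
            FlatCA.FlatAt R' q'.asIdeal (Module.Dual C' (Module.Dual C' (C' ⊗[C] F))) ∧
            LocCoh.HasSk 2 (EGA4.FibLocRing R' C' q'.asIdeal)
              (EGA4.FibLocMod R' C' q'.asIdeal (Module.Dual C' (Module.Dual C' (C' ⊗[C] F))))) ↔
          𝔞.map (algebraMap R R') = ⊥) := by
  classical
  have hZ : ∀ Q : PrimeSpectrum C, J ≤ Q.asIdeal → Q.asIdeal ≤ n.asIdeal →
      2 ≤ LocCoh.idealDepth (Q.asIdeal.map (algebraMap C (EGA4.FibLocRing R C Q.asIdeal)))
        (EGA4.FibLocRing R C Q.asIdeal) :=
    fun Q hJQ hQ => K966.OpenS2.two_le_of_hasSk_of_dim R C Q.asIdeal (hS2 Q) (hcodim Q hJQ)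
  -- the presentation
  obtain ⟨a, b, f, g, hf, hfg, hfree⟩ := K966.ReflFree.exists_presentation_free (B := C) F
  have hgv : Function.Exact g (LinearMap.range g).mkQ := LinearMap.exact_map_mkQ_range g
  have hv : Function.Surjective (LinearMap.range g).mkQ := Submodule.mkQ_surjective _
  have hg : K966.OffMap.RegOff J g := K966.OffMap.regOff_of_free g (LinearMap.range g).mkQ hv hgv
    (fun q hq => hfree q.asIdeal (hFU q hq))
  obtain ⟨𝔞, h𝔞⟩ := K966.HensTest.exists_ideal n.asIdeal hn ((Fin (b + 1) → C) ⧸ LinearMap.range g)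
  refine ⟨𝔞, ?_⟩
  intro R' _ _ _ _ hloc C' _ _ _ _ _ _ _ hpo
  rw [← h𝔞 R' C']
  refine forall_congr' fun q' => forall_congr' fun hq'n => forall_congr' fun hq'm => ?_
  constructor
  · intro h
    exact K966.RelS2.flatAt_of_relS2 R C J n.asIdeal hZ F (Fin a → C) (Fin (b + 1) → C) _ f g
      (LinearMap.range g).mkQ hf hfg hgv hv hg R' C' q'.asIdeal hq'n.le (fun Q hJQ _ => hcodim Q hJQ) h
  · intro h
    exact K966.RelS2.relS2_of_flatAt R C J n.asIdeal hZ F (Fin a → C) (Fin (b + 1) → C) _ f g
      (LinearMap.range g).mkQ hf hfg hgv hv hg R' C' q'.asIdeal hq'n.le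
      (K966.SkBC.hasSk_fibLocRing_baseChange R C R' C' 2 q' (fun q _ => hS2 q)) h

end Groth.Agent.S18714
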