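import Groth.Statements.S18716
import Groth.Agent.CalgB.DzData
import Groth.Agent.LoccohA.DExtCM

set_option autoImplicit false
universe u
open CategoryTheory
attribute [local instance] HasDerivedCategory.standard
open QGor

namespace Groth.Agent.S18716

/-- Affine form. Let A be a Noetherian ring with a dualizing complex ω, M a finite A-module and, for j ∈
ℤ, E^j = Ext^j(M, ω) the A-module of morphisms M → ω[j] in D(A). For k ≥ 1, M satisfies (S_k) if and
only if for all integers i > j the closed set Supp E^i ∩ Supp E^j has codimension ≥ k + i − j in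
Supp M, i.e. dim Supp(M_p) ≥ k + i − j for every prime p in Supp E^i ∩ Supp E^j. -/
theorem result (A : Type u) [CommRing A] [IsNoetherianRing A]
    (ω : Dual.D A) (hω : Dual.IsDualizing A ω) (M : Type u) [AddCommGroup M] [Module A M] [Module.Finite A M]
    (k : ℕ) (hk : 1 ≤ k) :
    LocCoh.HasSk k A M ↔
      ∀ (i j : ℤ), j < i → ∀ p : PrimeSpectrum A,
        p ∈ Module.support A (Dual.inD A M ⟶ ω⟦i⟧) → p ∈ Module.support A (Dual.inD A M ⟶ ω⟦j⟧) →
          (((k : ℤ) + i - j).toNat : WithBot ℕ∞) ≤
            Module.supportDim (Localization.AtPrime p.asIdeal) (LocalizedModule p.asIdeal.primeCompl M) := by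
  obtain ⟨δ, hδ⟩ := Groth.Agent.CalgB.DzData.exists_isDelta hω
  have hsd : ∀ (p : PrimeSpectrum A) (n : ℕ), (n : WithBot ℕ∞) ≤
      Module.supportDim (Localization.AtPrime p.asIdeal) (LocalizedModule p.asIdeal.primeCompl M) ↔
      ∃ q ∈ Module.support A M, q ≤ p ∧ (n : ℤ) ≤ δ q - δ p := fun p n =>
    Groth.Agent.LoccohA.DExtCM.natCast_le_supportDim_iff hδ.cov p M n
  constructor
  · intro hSk i j hji p hpi hpj
    have hi : i ≤ -δ p := by
      by_contra h
      exact hδ.notMem_of_gt p M i (not_le.mp h) hpi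
    obtain ⟨a, ha⟩ : ∃ a : ℕ, i = -δ p - a := ⟨(-δ p - i).toNat, by omega⟩
    obtain ⟨b, hb⟩ : ∃ b : ℕ, j = -δ p - b := ⟨(-δ p - j).toNat, by omega⟩
    have hab : a < b := by omega
    -- the depth is at most `a`
    have h1 : ¬ ((a + 1 : ℕ) : ℕ∞) ≤ LocCoh.depth (Localization.AtPrime p.asIdeal)
        (LocalizedModule p.asIdeal.primeCompl M) := by
      rw [hδ.natCast_le_depth_iff]
      intro h
      exact h a (Nat.lt_succ_self a) (ha ▸ hpi)
    -- the dimension is at least `b`
    have h2 : (b : WithBot ℕ∞) ≤ Module.supportDim (Localization.AtPrime p.asIdeal)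
        (LocalizedModule p.asIdeal.primeCompl M) := by
      obtain ⟨q, hq, hqp, hqj⟩ := hδ.exists_le_of_mem p M j hpj
      rw [hsd]
      exact ⟨q, hq, hqp, by omega⟩
    have h3 : k ≤ a := by
      by_contra hka
      have hk' : ((a + 1 : ℕ) : WithBot ℕ∞) ≤ (k : WithBot ℕ∞) := by exact_mod_cast not_le.mp hka
      have hb' : ((a + 1 : ℕ) : WithBot ℕ∞) ≤ (b : WithBot ℕ∞) := by exact_mod_cast hab
      have h4 := (le_min hk' (hb'.trans h2)).trans (hSk p.asIdeal)
      exact h1 (WithBot.coe_le_coe.mp h4)
    refine le_trans ?_ h2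
    have : ((k : ℤ) + i - j).toNat ≤ b := by omega
    exact_mod_cast this
  · intro h p hp
    by_cases hps : (⟨p, hp⟩ : PrimeSpectrum A) ∈ Module.support A M
    swap
    · have : Subsingleton (LocalizedModule p.primeCompl M) := Module.notMem_support_iff.mp hps
      rw [Module.supportDim_eq_bot_of_subsingleton]
      simp
    let P : PrimeSpectrum A := ⟨p, hp⟩
    obtain ⟨n, hn⟩ := Groth.Agent.LoccohA.DExtCM.exists_supportDim_eq P M hps
    have hn' : Module.supportDim (Localization.AtPrime p) (LocalizedModule p.primeCompl M) = n := hn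
    rw [hn']
    by_contra hcon
    rw [not_le] at hcon
    -- the depth is finite
    obtain ⟨e, he⟩ : ∃ e : ℕ, LocCoh.depth (Localization.AtPrime p) (LocalizedModule p.primeCompl M) = e := by
      have : LocCoh.depth (Localization.AtPrime p) (LocalizedModule p.primeCompl M) ≠ ⊤ := by
        intro htop
        rw [htop] at hcon
        exact not_top_lt hcon
      exact ⟨_, (ENat.natCast_toNat this).symm⟩
    rw [he] at hcon
    have hek : e < k := by
      have := lt_of_lt_of_le hcon (min_le_left _ _)
      exact_mod_cast this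
    have hen : e < n := by
      have := lt_of_lt_of_le hcon (min_le_right _ _)
      exact_mod_cast this
    -- `E^{-δ(p)-e}` does not vanish
    have h1 : P ∈ Module.support A (Dual.inD A M ⟶ ω⟦-δ P - (e : ℤ)⟧) := by
      have h2 : ((e : ℕ) : ℕ∞) ≤ LocCoh.depth (Localization.AtPrime P.asIdeal)
        (LocalizedModule P.asIdeal.primeCompl M) := he.ge
      have h3 : ¬ ((e + 1 : ℕ) : ℕ∞) ≤ LocCoh.depth (Localization.AtPrime P.asIdeal)
        (LocalizedModule P.asIdeal.primeCompl M) := by
        intro h'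
        have h4 := h'.trans he.le
        have : e + 1 ≤ e := by exact_mod_cast h4
        omega
      rw [hδ.natCast_le_depth_iff] at h2 h3
      push Not at h3
      obtain ⟨d, hd, hdm⟩ := h3
      have : d = e := by
        by_contra hne
        exact h2 d (by omega) hdm
      subst this
      exact hdm
    -- `E^{-δ(p)-n}` does not vanish
    obtain ⟨q, hq, hqp, hqn⟩ := (hsd P n).mp hn'.ge
    have hnot : ¬ ((n + 1 : ℕ) : WithBot ℕ∞) ≤
        Module.supportDim (Localization.AtPrime P.asIdeal) (LocalizedModule P.asIdeal.primeCompl M) := by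
      intro h'
      have h4 : ((n + 1 : ℕ) : WithBot ℕ∞) ≤ (n : WithBot ℕ∞) := h'.trans hn'.le
      have : n + 1 ≤ n := by exact_mod_cast h4
      omega
    have hδq : δ q - δ P = n := by
      by_contra hne
      exact hnot ((hsd P (n + 1)).mpr ⟨q, hq, hqp, by push_cast; omega⟩)
    have hmin : q.asIdeal ∈ (Module.annihilator A M).minimalPrimes := by
      have hle : Module.annihilator A M ≤ q.asIdeal := by
        rw [Module.support_eq_zeroLocus] at hq
        exact hq
      obtain ⟨q₀, hq₀, hq₀q⟩ := Ideal.exists_minimalPrimes_le hle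
      have hq₀p : q₀.IsPrime := hq₀.1.1
      rcases eq_or_lt_of_le hq₀q with h' | h'
      · rw [← h']
        exact hq₀
      · exfalso
        have h3 : (⟨q₀, hq₀p⟩ : PrimeSpectrum A) < q := h'
        have h4 := Groth.Agent.LoccohA.DimFun.lt_of_lt hδ.cov h3
        have h5 : (⟨q₀, hq₀p⟩ : PrimeSpectrum A) ∈ Module.support A M := by
          rw [Module.support_eq_zeroLocus]
          exact hq₀.1.2
        exact hnot ((hsd P (n + 1)).mpr ⟨⟨q₀, hq₀p⟩, h5, h3.le.trans hqp, by push_cast; omega⟩)
    have h2 : P ∈ Module.support A (Dual.inD A M ⟶ ω⟦-δ P - (n : ℤ)⟧) := by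
      have h3 := hδ.mem_of_mem_associatedPrimes q M
        (Module.associatedPrimes.minimalPrimes_annihilator_subset_associatedPrimes A M hmin)
      have h4 : P ∈ Module.support A (Dual.inD A M ⟶ ω⟦-δ q⟧) := Module.mem_support_mono hqp h3
      have h5 : -δ q = -δ P - (n : ℤ) := by omega
      rwa [h5] at h4
    have h5 := h _ _ (by omega) P h1 h2
    have h6 : (((k : ℤ) + (-δ P - (e : ℤ)) - (-δ P - (n : ℤ))).toNat : WithBot ℕ∞) ≤ (n : WithBot ℕ∞) := h5.trans hn'.le
    have h7 : ((k : ℤ) + (-δ P - (e : ℤ)) - (-δ P - (n : ℤ))).toNat ≤ n := by exact_mod_cast h6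
    omega

end Groth.Agent.S18716
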