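import Groth.Statements.S18717
import Groth.Agent.QGor.K967.DeltaSk

set_option autoImplicit false
universe u
open CategoryTheory
attribute [local instance] HasDerivedCategory.standard
open QGor

namespace Groth.Agent.S18717

/-- Affine-local form with a normalized dualizing complex (so the codimension function vanishes at the
closed point). Let A be a Noetherian local ring with normalized dualizing complex ω, M a nonzero
finite A-module which is equidimensional of dimension δ, E^j = Ext^j(M, ω) the A-module of morphisms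
M → ω[j] in D(A), and k ≥ 1. Then M satisfies (S_k) if and only if dim Supp E^j ≤ −j − k for every
integer j ≠ −δ, where for −j − k < 0 this means E^j = 0. -/
theorem result (A : Type u) [CommRing A] [IsNoetherianRing A]
    [IsLocalRing A] (ω : Dual.D A) (hω : Dual.IsDualizing A ω) (hn : Dual.IsNormalized A ω)
    (M : Type u) [AddCommGroup M] [Module A M] [Module.Finite A M] [Nontrivial M]
    (hM : EGA4.IsEquidimModule A M) (δ : ℕ) (hδ : Module.supportDim A M = δ) (k : ℕ) (hk : 1 ≤ k) :
    LocCoh.HasSk k A M ↔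
      ∀ j : ℤ, j ≠ -(δ : ℤ) →
        (-j - (k : ℤ) < 0 → Subsingleton (Dual.inD A M ⟶ ω⟦j⟧)) ∧
        (0 ≤ -j - (k : ℤ) → Module.supportDim A (Dual.inD A M ⟶ ω⟦j⟧) ≤ ((-j - (k : ℤ)).toNat : WithBot ℕ∞)) := by
  obtain ⟨Δ, hΔ⟩ := Groth.Agent.CalgB.DzData.exists_isDelta hω
  have hdim := fun (p : PrimeSpectrum A) (n : ℕ) => hΔ.dim_quotient hn p n
  have hpos : ∀ p : PrimeSpectrum A, 0 ≤ Δ p := fun p => by
    have h1 := hΔ.closedPoint_eq_zero hn
    have h2 := K967.DeltaSk.delta_anti hΔ (show p ≤ IsLocalRing.closedPoint A from IsLocalRing.le_maximalIdeal p.isPrime.ne_top)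
    omega
  have hdim' : ∀ p : PrimeSpectrum A, ringKrullDim (A ⧸ p.asIdeal) = ((Δ p).toNat : WithBot ℕ∞) :=
    fun p => (hdim p _).mpr (by have := hpos p; omega)
  have hc : ∀ q : PrimeSpectrum A, q.asIdeal ∈ (Module.annihilator A M).minimalPrimes →
      Δ q = (δ : ℤ) := fun q hq => by
    rw [← hdim, hM q.asIdeal hq, hδ]
  rw [K967.DeltaSk.hasSk_iff hΔ hc k]
  refine forall₂_congr fun j hj => ?_
  constructor
  · intro h
    refine ⟨fun hneg => ?_, fun hnn => ?_⟩
    · rw [← Module.support_eq_empty_iff (R := A), Set.eq_empty_iff_forall_notMem]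
      intro p hp
      have h1 := h p hp
      have h2 := hpos p
      omega
    · rw [K967.DeltaSk.supportDim_le_iff]
      intro p hp
      rw [hdim']
      have h1 := h p hp
      exact_mod_cast Int.toNat_le_toNat h1
  · rintro ⟨h1, h2⟩ p hp
    by_cases hneg : -j - (k : ℤ) < 0
    · have h3 := h1 hneg
      rw [← Module.support_eq_empty_iff (R := A)] at h3
      have hp' : p ∈ Module.support A (Dual.inD A M ⟶ ω⟦j⟧) := hp
      rw [h3] at hp'
      exact hp'.elim
    · have h3 := h2 (by omega)
      rw [K967.DeltaSk.supportDim_le_iff] at h3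
      have h4 := h3 p hp
      rw [hdim'] at h4
      have h5 : (Δ p).toNat ≤ (-j - (k : ℤ)).toNat := by exact_mod_cast h4
      have h6 := hpos p
      omega

end Groth.Agent.S18717
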