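import Groth.Statements.S18718
import Groth.Agent.QGor.K967.BCFree

set_option autoImplicit false
universe u
open QGor

namespace Groth.Agent.S18718

open K967 K967.BCOff K967.FibKit K967.DepthKit


open TensorProduct in
/-- Affine form. Let A → B be a flat homomorphism of Noetherian rings, J an ideal of B such that the
fibre local ring B_q/pB_q has depth ≥ 2 at every prime q ⊇ J (p its contraction), A → A′ a
homomorphism of Noetherian rings with Noetherian pushout B′ = A′ ⊗_A B, and F a finite B-module with
F_q free for every prime q not containing J. Then depth_J (F^∨∨) ≥ 2 (the double dual is the module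
of sections of F off V(J)); the natural map (B′ ⊗_B F)^∨∨ → (B′ ⊗_B F^∨∨)^∨∨ obtained by dualising
twice the base change of F → F^∨∨ is bijective; and if moreover F is flat over A and the fibre
stalks F_q/pF_q have depth ≥ 2 at all primes q ⊇ J, then F and B′ ⊗_B F are reflexive. -/
theorem result (A B : Type u) [CommRing A] [CommRing B] [IsNoetherianRing A] [IsNoetherianRing B] [Algebra A B]
    (A' B' : Type u) [CommRing A'] [CommRing B'] [IsNoetherianRing A'] [IsNoetherianRing B']
    [Algebra A A'] [Algebra B B'] [Algebra A' B'] [Algebra A B'] [IsScalarTower A B B'] [IsScalarTower A A' B']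
    [Algebra.IsPushout A B A' B'] [Module.Flat A B] (J : Ideal B)
    (hZ : ∀ q : PrimeSpectrum B, J ≤ q.asIdeal →
      2 ≤ LocCoh.idealDepth (q.asIdeal.map (algebraMap B (EGA4.FibLocRing A B q.asIdeal))) (EGA4.FibLocRing A B q.asIdeal))
    (F : Type u) [AddCommGroup F] [Module B F] [Module A F] [IsScalarTower A B F] [Module.Finite B F]
    (hFU : ∀ q : PrimeSpectrum B, ¬ J ≤ q.asIdeal → Module.Free (Localization.AtPrime q.asIdeal) (LocalizedModule q.asIdeal.primeCompl F)) :
    2 ≤ LocCoh.idealDepth J (Module.Dual B (Module.Dual B F)) ∧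
    Function.Bijective (((Module.Dual.eval B F).baseChange B').dualMap.dualMap) ∧
    (Module.Flat A F →
      (∀ q : PrimeSpectrum B, J ≤ q.asIdeal →
        2 ≤ LocCoh.idealDepth (q.asIdeal.map (algebraMap B (EGA4.FibLocRing A B q.asIdeal))) (EGA4.FibLocMod A B q.asIdeal F)) →
      Module.IsReflexive B F ∧ Module.IsReflexive B' (B' ⊗[B] F)) := by
  have hflat : Module.Flat A' B' := flat_pushout A B A' B'
  have hB : 2 ≤ LocCoh.idealDepth J B := by
    have := le_idealDepth_ring A B J 2 (by exact_mod_cast hZ)
    exact_mod_cast this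
  have hZ' : ∀ q' : PrimeSpectrum B', J.map (algebraMap B B') ≤ q'.asIdeal →
      2 ≤ LocCoh.idealDepth (q'.asIdeal.map (algebraMap B' (EGA4.FibLocRing A' B' q'.asIdeal)))
        (EGA4.FibLocRing A' B' q'.asIdeal) := by
    intro q' hq'
    exact (hZ (PrimeSpectrum.comap (algebraMap B B') q')
      (Ideal.map_le_iff_le_comap.mp hq')).trans (BCOff.fib_depth_le_ring A B A' B' q'.asIdeal)
  have hB' : 2 ≤ LocCoh.idealDepth (J.map (algebraMap B B')) B' := by
    have := le_idealDepth_ring A' B' (J.map (algebraMap B B')) 2 (by exact_mod_cast hZ')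
    exact_mod_cast this
  have hfree : ∀ q : PrimeSpectrum B, ¬ J ≤ q.asIdeal →
      Module.IsReflexive (Localization.AtPrime q.asIdeal)
        (LocalizedModule q.asIdeal.primeCompl F) := by
    intro q hq
    have := hFU q hq
    infer_instance
  have hk := support_ker_eval hfree
  have hc := support_coker_eval hfree
  refine ⟨two_le_idealDepth_hom hB, ?_, ?_⟩
  · have h1 := precomp_bijective ((Module.Dual.eval B F).baseChange B') hB'
      (support_ker_baseChange (Module.Dual.eval B F) hk hc B')
      (support_coker_baseChange (Module.Dual.eval B F) hk hc B')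
    exact (LinearEquiv.ofBijective ((Module.Dual.eval B F).baseChange B').dualMap
      h1).dualMap.bijective
  · intro hF hFib
    have hFd : 2 ≤ LocCoh.idealDepth J F := by
      have := le_idealDepth_module A B F J 2 (by exact_mod_cast hFib)
      exact_mod_cast this
    refine ⟨isReflexive_of_two_le hfree (le_trans (by norm_num) hB) hFd, ?_⟩
    have hF' : Module.Flat A' (B' ⊗[B] F) := flat_baseChange A B A' B' F
    have hFib' : ∀ q' : PrimeSpectrum B', J.map (algebraMap B B') ≤ q'.asIdeal →
        2 ≤ LocCoh.idealDepth (q'.asIdeal.map (algebraMap B' (EGA4.FibLocRing A' B' q'.asIdeal)))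
          (EGA4.FibLocMod A' B' q'.asIdeal (B' ⊗[B] F)) := by
      intro q' hq'
      exact (hFib (PrimeSpectrum.comap (algebraMap B B') q')
        (Ideal.map_le_iff_le_comap.mp hq')).trans (FibBC.fib_depth_le A B A' B' F q'.asIdeal)
    have hFd' : 2 ≤ LocCoh.idealDepth (J.map (algebraMap B B')) (B' ⊗[B] F) := by
      have := le_idealDepth_module A' B' (B' ⊗[B] F) (J.map (algebraMap B B')) 2
        (by exact_mod_cast hFib')
      exact_mod_cast this
    refine isReflexive_of_two_le (fun q' hq' => ?_) (le_trans (by norm_num) hB') hFd'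
    have h1 := hFU (PrimeSpectrum.comap (algebraMap B B') q')
      (fun h => hq' (Ideal.map_le_iff_le_comap.mpr h))
    have h2 := BCFree.free_localized B B' F q'.asIdeal h1
    infer_instance


end Groth.Agent.S18718
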