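import Groth.Statements.S18721
import Groth.Agent.QGor.K967.DeltaDim

set_option autoImplicit false
universe u
open CategoryTheory
attribute [local instance] HasDerivedCategory.standard
open QGor

namespace Groth.Agent.S18721

/-- Affine form. Let k be a field and A a finitely generated k-algebra, equidimensional of Krull
dimension n, and let ω be a dualizing complex of A normalized at every maximal ideal m (no nonzero
morphisms A/m → ω[i] in D(A) for i ≠ 0 — the canonical dualizing complex of Spec A over k). Put Z_i
= Supp H^{-i}(ω). Then H^{-i}(ω) = 0 for every i > n, and for every k′ ≥ 1: A satisfies (S_{k′}) if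
and only if dim Z_i ≤ i − k′ for all i ≠ n, where for i < k′ this means H^{-i}(ω) = 0. -/
theorem result (k A : Type u) [Field k] [CommRing A]
    [Algebra k A] (hft : Algebra.FiniteType k A) [IsNoetherianRing A]
    (hEq : EGA4.IsEquidim A) (n : ℕ) (hd : ringKrullDim A = n)
    (ω : Dual.D A) (hω : Dual.IsDualizing A ω)
    (hnorm : ∀ (m : Ideal A) (_ : m.IsMaximal) (i : ℤ), i ≠ 0 → Subsingleton (Dual.inD A (A ⧸ m) ⟶ ω⟦i⟧)) :
    (∀ i : ℕ, n < i → Subsingleton (Dual.HD A ω (-(i : ℤ)))) ∧
    ∀ k' : ℕ, 1 ≤ k' →
      (LocCoh.HasSk k' A A ↔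
        ∀ i : ℕ, i ≠ n →
          (i < k' → Subsingleton (Dual.HD A ω (-(i : ℤ)))) ∧
          (k' ≤ i → Module.supportDim A (Dual.HD A ω (-(i : ℤ))) ≤ ((i - k' : ℕ) : WithBot ℕ∞))) := by
  obtain ⟨Δ, hΔ⟩ := Groth.Agent.CalgB.DzData.exists_isDelta hω
  have h0 := fun m hm => K967.DeltaDim.delta_maximal hΔ hnorm m hm
  have hpos := fun p => (K967.DeltaDim.dim_quotient hΔ h0 p).1
  have hdim := fun p => (K967.DeltaDim.dim_quotient hΔ h0 p).2
  have hle : ∀ p : PrimeSpectrum A, Δ p ≤ n := fun p => by
    have h1 : ringKrullDim (A ⧸ p.asIdeal) ≤ ringKrullDim A := ringKrullDim_quotient_le _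
    rw [hdim p, hd] at h1
    have h2 : (Δ p).toNat ≤ n := by exact_mod_cast h1
    omega
  have hc : ∀ q : PrimeSpectrum A, q.asIdeal ∈ (Module.annihilator A A).minimalPrimes →
      Δ q = (n : ℤ) := fun q hq => by
    have h1 : Module.annihilator A A = ⊥ := Module.annihilator_eq_bot.mpr inferInstance
    rw [h1] at hq
    have h2 := hEq q.asIdeal hq
    rw [hdim q, hd] at h2
    have h3 : (Δ q).toNat = n := by exact_mod_cast h2
    have := hpos q
    omega
  have hsupp : ∀ i : ℤ, Module.support A (Dual.HD A ω i) =
      Module.support A (Groth.Agent.LoccohA.DExt.E ω i A) :=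
    fun i => Groth.Agent.CalgB.DzData.support_HD ω i
  refine ⟨fun i hi => ?_, fun k' hk' => ?_⟩
  · rw [← Module.support_eq_empty_iff (R := A), Set.eq_empty_iff_forall_notMem]
    intro p hp
    rw [hsupp] at hp
    obtain ⟨q, hq, hqp, hqi⟩ := hΔ.exists_le_of_mem p A _ hp
    have := hle q
    omega
  · rw [K967.DeltaSk.hasSk_iff hΔ hc k']
    constructor
    · intro h i hi
      refine ⟨fun hneg => ?_, fun hnn => ?_⟩
      · rw [← Module.support_eq_empty_iff (R := A), Set.eq_empty_iff_forall_notMem]
        intro p hp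
        rw [hsupp] at hp
        have h1 := h (-(i : ℤ)) (by omega) p hp
        have h2 := hpos p
        omega
      · rw [K967.DeltaSk.supportDim_le_iff]
        intro p hp
        rw [hsupp] at hp
        rw [hdim]
        have h1 := h (-(i : ℤ)) (by omega) p hp
        have h2 : (Δ p).toNat ≤ i - k' := by omega
        exact_mod_cast h2
    · intro h j hj p hp
      by_cases hj0 : 0 < j
      · have h1 := hpos p
        exact absurd hp (hΔ.notMem_of_gt p A j (by omega))
      · obtain ⟨i, rfl⟩ : ∃ i : ℕ, j = -(i : ℤ) := ⟨(-j).toNat, by omega⟩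
        obtain ⟨h1, h2⟩ := h i (by omega)
        by_cases hneg : i < k'
        · have h3 := h1 hneg
          rw [← Module.support_eq_empty_iff (R := A), hsupp] at h3
          rw [h3] at hp
          exact hp.elim
        · have h3 := h2 (by omega)
          rw [K967.DeltaSk.supportDim_le_iff] at h3
          have h4 := h3 p (by rw [hsupp]; exact hp)
          rw [hdim] at h4
          have h5 : (Δ p).toNat ≤ i - k' := by exact_mod_cast h4
          have h6 := hpos p
          omega

end Groth.Agent.S18721
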