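import Groth.Statements.S18727
import Groth.Agent.CurvSt.K738.ULoc
import Groth.Agent.CurvSt.K740.CurvAlgFin
import Groth.Agent.CurvSt.K902.EtSchFin
import Groth.Agent.AlgSt.K738.Aut3

set_option autoImplicit false
universe u
open CurvSt

namespace Groth.Agent.S18727

open CategoryTheory AlgebraicGeometry in
/-- Let k be an algebraically closed field of characteristic zero and g, n natural numbers with 2g − 2 +
n > 0. Let U be the stack over (Sch/k) of all n-pointed curves of genus g: objects over a k-scheme T
are the flat, proper, finitely presented morphisms X → T of relative dimension at most one from an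
algebraic space X, together with n sections, all of whose geometric fibres (realised as schemes) are
reduced, connected, of Krull dimension one and of genus g (the dimension of H¹ of the structure
sheaf); morphisms are cartesian squares compatible with the sections. Let P be a class of n-pointed
curves: a property of a scheme X′ over an algebraically closed field Ω together with n points of X′,
such that the n points of any member lie in the smooth locus of X′ over Ω, and which is invariant
under isomorphism and base extension — for every morphism Spec Ω′ → Spec Ω between spectra of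
algebraically closed fields, every X over Ω with n sections and every cartesian square X′ → X over
it with the induced sections, P holds for X with the points of its sections if and only if P holds
for X′ with the points of the induced sections. Let M be the full subcategory of U of families all
of whose geometric fibres, with their marked points, satisfy P. Assume that P is deformation open —
for every object of U over a scheme T, the set of points t of T such that every geometric fibre over
t with its marked points satisfies P is open in T. Then M is an open substack of U for the etale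
topology: the defining property is closed under isomorphisms, M is an algebraic stack, and the
inclusion of M in U is representable by algebraic spaces and an open immersion. (This is the first
step of the published proof, which uses only deformation openness; the published statement assumes
in addition existence and uniqueness of limits and concludes that M is a proper Deligne–Mumford
stack with a coarse moduli space, stated separately. Classes are taken as properties of pointed
curves over algebraically closed fields invariant under every extension of algebraically closed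
fields.) -/
theorem result
    (k : Type u) [Field k] [IsAlgClosed k] [CharZero k] (g n : ℕ) (hgn : 3 ≤ 2 * g + n)
    (P : ∀ (Ω : Type u) [Field Ω] [IsAlgClosed Ω] (X' : Scheme.{u}),
      (X' ⟶ Spec (CommRingCat.of Ω)) → (Fin n → ↥X') → Prop)
    (hPsm : ∀ (Ω : Type u) [Field Ω] [IsAlgClosed Ω] (X' : Scheme.{u}) (q : X' ⟶ Spec (CommRingCat.of Ω))
      (x : Fin n → ↥X'), P Ω X' q x → ∀ i, ∃ V : X'.Opens, x i ∈ V ∧ Smooth (V.ι ≫ q))
    (hPext : ∀ (Ω Ω' : Type u) [Field Ω] [IsAlgClosed Ω] [Field Ω'] [IsAlgClosed Ω']
      (ι : Spec (CommRingCat.of Ω') ⟶ Spec (CommRingCat.of Ω))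
      (X : Scheme.{u}) (q : X ⟶ Spec (CommRingCat.of Ω)) (σ : Fin n → (Spec (CommRingCat.of Ω) ⟶ X))
      (X' : Scheme.{u}) (q' : X' ⟶ Spec (CommRingCat.of Ω')) (j : X' ⟶ X)
      (σ' : Fin n → (Spec (CommRingCat.of Ω') ⟶ X')),
      (∀ i, σ i ≫ q = 𝟙 _) → IsPullback j q' q ι → (∀ i, σ' i ≫ q' = 𝟙 _) → (∀ i, σ' i ≫ j = ι ≫ σ i) →
      (P Ω X q (fun i => (σ i).base (IsLocalRing.closedPoint Ω)) ↔
        P Ω' X' q' (fun i => (σ' i).base (IsLocalRing.closedPoint Ω')))) :
    let S : Scheme.{u} := Spec (CommRingCat.of k)
    let U := AlgSt.fullSub (CurvSt.Curves S n) (fun A => CurvSt.GeomFib (fun _ _ _ X' _ _ =>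
        AlgebraicGeometry.IsReduced X' ∧ ConnectedSpace ↥X' ∧ topologicalKrullDim ↥X' = 1) A.obj ∧
          CurvSt.SpHasGenus A.obj g)
    (∀ B : U.obj, IsOpen {t : ↥B.obj.obj.base.left | ∀ (Ω : Type u) [Field Ω] [IsAlgClosed Ω]
        (t' : Spec (CommRingCat.of Ω) ⟶ B.obj.obj.base.left), t'.base (IsLocalRing.closedPoint Ω) = t →
        ∀ (X' : Scheme.{u}) (q : X' ⟶ Spec (CommRingCat.of Ω))
          (i : (AlgSp.yon S).obj (B.obj.obj.ptOver (q ≫ t')) ⟶ B.obj.obj.X)
          (hP : IsPullback i ((AlgSp.yon S).map (B.obj.obj.fibHom t' q)) B.obj.obj.f
            ((AlgSp.yon S).map (B.obj.obj.ptHom t'))),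
          P Ω X' q (B.obj.obj.spMarkedPt hP)}) →
    AlgSt.IsOpenSubstack U (fun B => CurvSt.GeomFib P B.obj.obj) Scheme.etalePrecoverage := by
  intro S U hopen
  have hC : AlgSt.IsAlgStack Scheme.fppfPrecoverage (CurvSt.Curves S n) := K740.CurvAlg.isAlgStack_curves S n
  have hU := K738.ULoc.hasOpenLocus_U (S := S) (n := n) g (fun A => K902.EtSchFin.etLocSch A.property)
  have hUa : AlgSt.IsAlgStack Scheme.fppfPrecoverage U := (K899.OpenCrit.isOpenSubstack hC hU).2.1
  have hM : K899.OpenCrit.HasOpenLocus (𝒳 := U) (fun B => CurvSt.GeomFib P B.obj.obj) :=
    K738.ULoc.hasOpenLocus_M (K738.ULoc.extDesc_of_ext hPext) hopen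
  have h := K899.OpenCrit.isOpenSubstack hUa hM
  exact ⟨h.1, K738.AutDM.isAlgStack_etale h.2.1, h.2.2⟩

end Groth.Agent.S18727
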