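import Groth.Statements.S18728
import Groth.Agent.CurvSt.K738.ULoc
import Groth.Agent.CurvSt.K738.AutTr
import Groth.Agent.CurvSt.K903.AutMain
import Groth.Agent.CurvSt.K903.StdCurves
import Groth.Agent.CurvSt.K902.EtSchFin
import Groth.Agent.AlgSt.K738.Open1
import Groth.Agent.S16692
import Groth.Agent.S16706

set_option autoImplicit false
universe u
open CurvSt

namespace Groth.Agent.S18728

open CategoryTheory AlgebraicGeometry in
/-- Let k be an algebraically closed field of characteristic zero and g, n natural numbers with 2g − 2 +
n > 0. Let U be the stack over (Sch/k) of all n-pointed curves of genus g: objects over a k-scheme T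
are the flat, proper, finitely presented morphisms X → T of relative dimension at most one from an
algebraic space X, together with n sections, all of whose geometric fibres (realised as schemes) are
reduced, connected, of Krull dimension one and of genus g (the dimension of H¹ of the structure
sheaf); morphisms are cartesian squares compatible with the sections. Let P be a class of n-pointed
curves: a property of a scheme X′ over an algebraically closed field Ω together with n points of X′,
such that the n points of any member lie in the smooth locus of X′ over Ω, and which is invariant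
under isomorphism and base extension — for every morphism Spec Ω′ → Spec Ω between spectra of
algebraically closed fields, every X over Ω with n sections and every cartesian square X′ → X over
it with the induced sections, P holds for X with the points of its sections if and only if P holds
for X′ with the points of the induced sections. Let M be the full subcategory of U of families all
of whose geometric fibres, with their marked points, satisfy P. Assume: (i) P is deformation open —
for every object of U over a scheme T, the set of points t of T such that every geometric fibre over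
t with its marked points satisfies P is open in T; (ii) limits are unique — for every discrete
valuation ring R over k with algebraically closed residue field and fraction field L and any two
objects A₁, A₂ of M over Spec R with restrictions B₁ → A₁, B₂ → A₂ over Spec L → Spec R, every
isomorphism B₁ ≅ B₂ over Spec L extends compatibly to an isomorphism A₁ ≅ A₂ over Spec R. Then M is
a Deligne–Mumford algebraic stack for the etale topology, M is separated over k (its diagonal over k
is representable by algebraic spaces and proper), and M has a coarse moduli space: an algebraic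
space over k with a morphism from M which is categorical among morphisms to algebraic spaces and
bijective on isomorphism classes of objects over every algebraically closed field. (The published
statement also assumes existence of limits after finite base change, which its proof uses only for
properness, and also asserts that M is proper over k and that the coarse space is a modular
birational model of the moduli space of smooth n-pointed curves; properness is stated separately
under a quasi-compactness hypothesis, and the birational-model clause, which needs the class to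
contain smooth curves, is not stated. Bijectivity of the coarse space on points is stated over all
algebraically closed fields. Classes are taken as properties of pointed curves over algebraically
closed fields invariant under every extension of algebraically closed fields.) -/
theorem result
    (k : Type u) [Field k] [IsAlgClosed k] [CharZero k] (g n : ℕ) (hgn : 3 ≤ 2 * g + n)
    (P : ∀ (Ω : Type u) [Field Ω] [IsAlgClosed Ω] (X' : Scheme.{u}),
      (X' ⟶ Spec (CommRingCat.of Ω)) → (Fin n → ↥X') → Prop)
    (hPsm : ∀ (Ω : Type u) [Field Ω] [IsAlgClosed Ω] (X' : Scheme.{u}) (q : X' ⟶ Spec (CommRingCat.of Ω))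
      (x : Fin n → ↥X'), P Ω X' q x → ∀ i, ∃ V : X'.Opens, x i ∈ V ∧ Smooth (V.ι ≫ q))
    (hPext : ∀ (Ω Ω' : Type u) [Field Ω] [IsAlgClosed Ω] [Field Ω'] [IsAlgClosed Ω']
      (ι : Spec (CommRingCat.of Ω') ⟶ Spec (CommRingCat.of Ω))
      (X : Scheme.{u}) (q : X ⟶ Spec (CommRingCat.of Ω)) (σ : Fin n → (Spec (CommRingCat.of Ω) ⟶ X))
      (X' : Scheme.{u}) (q' : X' ⟶ Spec (CommRingCat.of Ω')) (j : X' ⟶ X)
      (σ' : Fin n → (Spec (CommRingCat.of Ω') ⟶ X')),
      (∀ i, σ i ≫ q = 𝟙 _) → IsPullback j q' q ι → (∀ i, σ' i ≫ q' = 𝟙 _) → (∀ i, σ' i ≫ j = ι ≫ σ i) →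
      (P Ω X q (fun i => (σ i).base (IsLocalRing.closedPoint Ω)) ↔
        P Ω' X' q' (fun i => (σ' i).base (IsLocalRing.closedPoint Ω')))) :
    let S : Scheme.{u} := Spec (CommRingCat.of k)
    let U := AlgSt.fullSub (CurvSt.Curves S n) (fun A => CurvSt.GeomFib (fun _ _ _ X' _ _ =>
        AlgebraicGeometry.IsReduced X' ∧ ConnectedSpace ↥X' ∧ topologicalKrullDim ↥X' = 1) A.obj ∧
          CurvSt.SpHasGenus A.obj g)
    let M := AlgSt.fullSub U (fun B => CurvSt.GeomFib P B.obj.obj)
    (∀ B : U.obj, IsOpen {t : ↥B.obj.obj.base.left | ∀ (Ω : Type u) [Field Ω] [IsAlgClosed Ω]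
        (t' : Spec (CommRingCat.of Ω) ⟶ B.obj.obj.base.left), t'.base (IsLocalRing.closedPoint Ω) = t →
        ∀ (X' : Scheme.{u}) (q : X' ⟶ Spec (CommRingCat.of Ω))
          (i : (AlgSp.yon S).obj (B.obj.obj.ptOver (q ≫ t')) ⟶ B.obj.obj.X)
          (hP : IsPullback i ((AlgSp.yon S).map (B.obj.obj.fibHom t' q)) B.obj.obj.f
            ((AlgSp.yon S).map (B.obj.obj.ptHom t'))),
          P Ω X' q (B.obj.obj.spMarkedPt hP)}) →
    (∀ (R : Type u) [CommRing R] [IsDomain R] [IsDiscreteValuationRing R],
      IsAlgClosed (IsLocalRing.ResidueField R) →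
      ∀ (L : Type u) [Field L] [Algebra R L] [IsFractionRing R L]
        (a : Spec (CommRingCat.of R) ⟶ S) (A₁ A₂ : M.p.Fiber (Over.mk a))
        (B₁ B₂ : M.p.Fiber (Over.mk (Spec.map (CommRingCat.ofHom (algebraMap R L)) ≫ a)))
        (ψ₁ : B₁.1 ⟶ A₁.1) (ψ₂ : B₂.1 ⟶ A₂.1),
        M.p.IsHomLift (Over.homMk (Spec.map (CommRingCat.ofHom (algebraMap R L))) rfl :
            Over.mk (Spec.map (CommRingCat.ofHom (algebraMap R L)) ≫ a) ⟶ Over.mk a) ψ₁ →
        M.p.IsHomLift (Over.homMk (Spec.map (CommRingCat.ofHom (algebraMap R L))) rfl :
            Over.mk (Spec.map (CommRingCat.ofHom (algebraMap R L)) ≫ a) ⟶ Over.mk a) ψ₂ →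
        ∀ e : B₁ ≅ B₂, ∃ E : A₁ ≅ A₂, ψ₁ ≫ E.hom.1 = e.hom.1 ≫ ψ₂) →
    AlgSt.IsDM Scheme.etalePrecoverage M ∧ AlgSt.IsSeparatedOver M ∧
      ∃ (Mc : AlgSp.Sp S) (π : M ⥤ᵇ AlgSt.ofSp Mc), AlgSt.IsCoarseModuli π := by
  intro S U M hopen hlim
  have hU : K899.OpenCrit.HasOpenLocus (𝒳 := CurvSt.Curves S n) (K738.ULoc.QU S n g) :=
    K738.ULoc.hasOpenLocus_U g (fun A => K902.EtSchFin.etLocSch A.property)
  have hM : K899.OpenCrit.HasOpenLocus (𝒳 := U) (fun B => CurvSt.GeomFib P B.obj.obj) :=
    K738.ULoc.hasOpenLocus_M (K738.ULoc.extDesc_of_ext hPext) hopen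
  have hStd : K738.OSub.Std M := ((K903.StdCurves.std_curves S n).sub hU).sub hM
  have hKM : K738.Coarse.KM S := fun 𝒳 h1 h2 => by
    obtain ⟨Mc, π, hπ, -⟩ := Groth.Agent.S16692.result S 𝒳 h1 h2
    exact ⟨Mc, π, hπ.1, Groth.Agent.S16706.result S 𝒳 h1 h2 Mc π hπ.1⟩
  have hchar : ∀ (Ω : Type u) [Field Ω] [IsAlgClosed Ω] (_ : Spec (CommRingCat.of Ω) ⟶ S), CharZero Ω :=
    fun Ω _ _ t => charZero_of_injective_ringHom (Spec.preimage t).hom.injective
  have hu : K738.Sep.UniqLim M := K738.Sep.uniqLim_of_fiber hlim
  refine hStd.main hKM hchar (fun Ω _ _ t z => ?_) hu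
  exact K738.AutTr.main (fun X q _ _ _ hd σ hσ hg hl => K903.AutMain.stmt Ω X q hd n σ hσ hg hl)
    ⟨fun φ h => ⟨K898.MbarEq.geomFib_of_hom φ.hom h.1, K898.MbarEq.geomFib_of_hom φ.hom h.2⟩,
      fun φ h => K898.MbarEq.geomFib_of_hom φ.hom.hom h⟩ hu hgn (fun A h => h) t z

end Groth.Agent.S18728
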