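import Groth.Agent.CurvSt.K738.ULoc
import Groth.Agent.CurvSt.K903.StdCurves
import Groth.Agent.CurvSt.K902.EtSchFin
import Groth.Agent.AlgSt.K738.Open1
import Groth.Agent.CurvSt.K877.UCGen

set_option autoImplicit false
attribute [-instance] CategoryTheory.catToReflQuiver
universe u
open CurvSt

namespace Groth.Agent.S18729

open CategoryTheory AlgebraicGeometry in
/-- Let k be an algebraically closed field of characteristic zero and g, n natural numbers with 2g − 2 +
n > 0. Let U be the stack over (Sch/k) of all n-pointed curves of genus g: objects over a k-scheme T
are the flat, proper, finitely presented morphisms X → T of relative dimension at most one from an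
algebraic space X, together with n sections, all of whose geometric fibres (realised as schemes) are
reduced, connected, of Krull dimension one and of genus g (the dimension of H¹ of the structure
sheaf); morphisms are cartesian squares compatible with the sections. Let P be a class of n-pointed
curves: a property of a scheme X′ over an algebraically closed field Ω together with n points of X′,
such that the n points of any member lie in the smooth locus of X′ over Ω, and which is invariant
under isomorphism and base extension — for every morphism Spec Ω′ → Spec Ω between spectra of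
algebraically closed fields, every X over Ω with n sections and every cartesian square X′ → X over
it with the induced sections, P holds for X with the points of its sections if and only if P holds
for X′ with the points of the induced sections. Let M be the full subcategory of U of families all
of whose geometric fibres, with their marked points, satisfy P. Assume: (i) P is deformation open —
for every object of U over a scheme T, the set of points t of T such that every geometric fibre over
t with its marked points satisfies P is open in T; (ii) limits exist after finite base change — for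
every discrete valuation ring R over k with algebraically closed residue field and fraction field L
and every object A of M over Spec L there are an injective map R → R′ of discrete valuation rings
inducing a finite extension L ⊂ L′ of fraction fields, an object A′ of M over Spec R′, an object B
of M over Spec L′ and morphisms B → A over Spec L′ → Spec L and B → A′ over Spec L′ → Spec R′ (so
that A′ restricts over Spec L′ to the base change of A); (iii) M is quasi-compact — some affine
scheme maps to M by a functor that is representable by algebraic spaces, smooth and surjective (the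
members of P form a bounded family). Then the structure functor of M to (Sch/k) is locally of finite
type (read on one smooth chart square with surjective source chart) and universally closed (every
base change of it to an algebraic stack is a closed map on spaces of points); together with (iii)
and separatedness this says that M is proper over k. (The published statement assumes deformation
openness together with existence and uniqueness of limits and asserts properness outright; its proof
applies the valuative criterion, which presupposes that M is of finite type, and does not address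
the quasi-compactness of M, so quasi-compactness is carried as hypothesis (iii) here; uniqueness of
limits is not needed for universal closedness and is not assumed. Separability of L′ over L is
automatic in characteristic zero. Classes are taken as properties of pointed curves over
algebraically closed fields invariant under every extension of algebraically closed fields.) -/
theorem result
    (k : Type u) [Field k] [IsAlgClosed k] [CharZero k] (g n : ℕ) (hgn : 3 ≤ 2 * g + n)
    (P : ∀ (Ω : Type u) [Field Ω] [IsAlgClosed Ω] (X' : Scheme.{u}),
      (X' ⟶ Spec (CommRingCat.of Ω)) → (Fin n → ↥X') → Prop)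
    (hPsm : ∀ (Ω : Type u) [Field Ω] [IsAlgClosed Ω] (X' : Scheme.{u}) (q : X' ⟶ Spec (CommRingCat.of Ω))
      (x : Fin n → ↥X'), P Ω X' q x → ∀ i, ∃ V : X'.Opens, x i ∈ V ∧ Smooth (V.ι ≫ q))
    (hPext : ∀ (Ω Ω' : Type u) [Field Ω] [IsAlgClosed Ω] [Field Ω'] [IsAlgClosed Ω']
      (ι : Spec (CommRingCat.of Ω') ⟶ Spec (CommRingCat.of Ω))
      (X : Scheme.{u}) (q : X ⟶ Spec (CommRingCat.of Ω)) (σ : Fin n → (Spec (CommRingCat.of Ω) ⟶ X))
      (X' : Scheme.{u}) (q' : X' ⟶ Spec (CommRingCat.of Ω')) (j : X' ⟶ X)
      (σ' : Fin n → (Spec (CommRingCat.of Ω') ⟶ X')),
      (∀ i, σ i ≫ q = 𝟙 _) → IsPullback j q' q ι → (∀ i, σ' i ≫ q' = 𝟙 _) → (∀ i, σ' i ≫ j = ι ≫ σ i) →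
      (P Ω X q (fun i => (σ i).base (IsLocalRing.closedPoint Ω)) ↔
        P Ω' X' q' (fun i => (σ' i).base (IsLocalRing.closedPoint Ω')))) :
    let S : Scheme.{u} := Spec (CommRingCat.of k)
    let U := AlgSt.fullSub (CurvSt.Curves S n) (fun A => CurvSt.GeomFib (fun _ _ _ X' _ _ =>
        AlgebraicGeometry.IsReduced X' ∧ ConnectedSpace ↥X' ∧ topologicalKrullDim ↥X' = 1) A.obj ∧
          CurvSt.SpHasGenus A.obj g)
    let M := AlgSt.fullSub U (fun B => CurvSt.GeomFib P B.obj.obj)
    (∀ B : U.obj, IsOpen {t : ↥B.obj.obj.base.left | ∀ (Ω : Type u) [Field Ω] [IsAlgClosed Ω]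
        (t' : Spec (CommRingCat.of Ω) ⟶ B.obj.obj.base.left), t'.base (IsLocalRing.closedPoint Ω) = t →
        ∀ (X' : Scheme.{u}) (q : X' ⟶ Spec (CommRingCat.of Ω))
          (i : (AlgSp.yon S).obj (B.obj.obj.ptOver (q ≫ t')) ⟶ B.obj.obj.X)
          (hP : IsPullback i ((AlgSp.yon S).map (B.obj.obj.fibHom t' q)) B.obj.obj.f
            ((AlgSp.yon S).map (B.obj.obj.ptHom t'))),
          P Ω X' q (B.obj.obj.spMarkedPt hP)}) →
    (∀ (R : Type u) [CommRing R] [IsDomain R] [IsDiscreteValuationRing R],
      IsAlgClosed (IsLocalRing.ResidueField R) →
      ∀ (L : Type u) [Field L] [Algebra R L] [IsFractionRing R L]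
        (a : Spec (CommRingCat.of R) ⟶ S)
        (A : M.p.Fiber (Over.mk (Spec.map (CommRingCat.ofHom (algebraMap R L)) ≫ a))),
      ∃ (R' : Type u) (_ : CommRing R') (_ : IsDomain R') (_ : IsDiscreteValuationRing R')
        (L' : Type u) (_ : Field L') (_ : Algebra R' L') (_ : IsFractionRing R' L')
        (_ : Algebra R R') (_ : Algebra L L') (_ : FiniteDimensional L L') (_ : Algebra R L')
        (_ : IsScalarTower R R' L') (_ : IsScalarTower R L L'),
        Function.Injective (algebraMap R R') ∧
        ∃ (A' : M.p.Fiber (Over.mk (Spec.map (CommRingCat.ofHom (algebraMap R R')) ≫ a)))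
          (B : M.p.Fiber (Over.mk (Spec.map (CommRingCat.ofHom (algebraMap L L')) ≫
              Spec.map (CommRingCat.ofHom (algebraMap R L)) ≫ a)))
          (ψ : B.1 ⟶ A.1) (φ : B.1 ⟶ A'.1)
          (jφ : Over.mk (Spec.map (CommRingCat.ofHom (algebraMap L L')) ≫
              Spec.map (CommRingCat.ofHom (algebraMap R L)) ≫ a) ⟶
            Over.mk (Spec.map (CommRingCat.ofHom (algebraMap R R')) ≫ a)),
          M.p.IsHomLift (Over.homMk (Spec.map (CommRingCat.ofHom (algebraMap L L'))) rfl :
              Over.mk (Spec.map (CommRingCat.ofHom (algebraMap L L')) ≫
                  Spec.map (CommRingCat.ofHom (algebraMap R L)) ≫ a) ⟶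
                Over.mk (Spec.map (CommRingCat.ofHom (algebraMap R L)) ≫ a)) ψ ∧
            jφ.left = Spec.map (CommRingCat.ofHom (algebraMap R' L')) ∧ M.p.IsHomLift jφ φ) →
    AlgSt.IsQuasiCompact M →
    AlgSt.LocQ (AlgSp.LocP @LocallyOfFiniteType) (FibCat.toSelf M) ∧
      AlgSt.IsUnivClosed Scheme.etalePrecoverage (FibCat.toSelf M) := by
  intro S U M hopen hlim hqc
  have hU : K899.OpenCrit.HasOpenLocus (𝒳 := CurvSt.Curves S n) (K738.ULoc.QU S n g) :=
    K738.ULoc.hasOpenLocus_U g (fun A => K902.EtSchFin.etLocSch A.property)
  have hM : K899.OpenCrit.HasOpenLocus (𝒳 := U) (fun B => CurvSt.GeomFib P B.obj.obj) :=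
    K738.ULoc.hasOpenLocus_M (K738.ULoc.extDesc_of_ext hPext) hopen
  have hStd : K738.OSub.Std M := ((K903.StdCurves.std_curves S n).sub hU).sub hM
  exact ⟨hStd.lft, Groth.Agent.CurvSt.K877.UCGen.isUnivClosed_any hStd.alg hStd.lft hqc
    (Groth.Agent.CurvSt.K877.UCLift.objLift_of_fiber hlim)⟩

end Groth.Agent.S18729
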