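import Groth.Statements.S18730
import Groth.Agent.CurvSt.K903.AutTr

set_option autoImplicit false
universe u
open CurvSt

namespace Groth.Agent.S18730

open CategoryTheory AlgebraicGeometry in
/-- Let k be an algebraically closed field of characteristic zero and g, n natural numbers with 2g − 2 +
n > 0. Let U be the stack over (Sch/k) of all n-pointed curves of genus g: objects over a k-scheme T
are the flat, proper, finitely presented morphisms X → T of relative dimension at most one from an
algebraic space X, together with n sections, all of whose geometric fibres (realised as schemes) are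
reduced, connected, of Krull dimension one and of genus g (the dimension of H¹ of the structure
sheaf); morphisms are cartesian squares compatible with the sections. Let P be a class of n-pointed
curves: a property of a scheme X′ over an algebraically closed field Ω together with n points of X′,
such that the n points of any member lie in the smooth locus of X′ over Ω, and which is invariant
under isomorphism and base extension — for every morphism Spec Ω′ → Spec Ω between spectra of
algebraically closed fields, every X over Ω with n sections and every cartesian square X′ → X over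
it with the induced sections, P holds for X with the points of its sections if and only if P holds
for X′ with the points of the induced sections. Let M be the full subcategory of U of families all
of whose geometric fibres, with their marked points, satisfy P. Assume that limits in M are unique:
for every discrete valuation ring R over k with algebraically closed residue field and fraction
field L, any two objects A₁, A₂ of M over Spec R with restrictions B₁ → A₁, B₂ → A₂ over Spec L →
Spec R, every isomorphism B₁ ≅ B₂ over Spec L extends compatibly to an isomorphism A₁ ≅ A₂ over Spec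
R. Then for every algebraically closed field Ω, every Spec Ω → Spec k and every object A of M over
Spec Ω, the automorphism group of A in the fibre category over Spec Ω (automorphisms of the family
over the identity of the base, i.e. automorphisms of the total space over Ω preserving the marked
sections) is finite. (This is the step of the published proof that precedes its Deligne–Mumford
conclusion; it uses only the uniqueness of limits and 2g − 2 + n > 0, and neither deformation
openness nor existence of limits. Classes are taken as properties of pointed curves over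
algebraically closed fields invariant under every extension of algebraically closed fields.) -/
theorem result
    (k : Type u) [Field k] [IsAlgClosed k] [CharZero k] (g n : ℕ) (hgn : 3 ≤ 2 * g + n)
    (P : ∀ (Ω : Type u) [Field Ω] [IsAlgClosed Ω] (X' : Scheme.{u}),
      (X' ⟶ Spec (CommRingCat.of Ω)) → (Fin n → ↥X') → Prop)
    (hPsm : ∀ (Ω : Type u) [Field Ω] [IsAlgClosed Ω] (X' : Scheme.{u}) (q : X' ⟶ Spec (CommRingCat.of Ω))
      (x : Fin n → ↥X'), P Ω X' q x → ∀ i, ∃ V : X'.Opens, x i ∈ V ∧ Smooth (V.ι ≫ q))
    (hPext : ∀ (Ω Ω' : Type u) [Field Ω] [IsAlgClosed Ω] [Field Ω'] [IsAlgClosed Ω']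
      (ι : Spec (CommRingCat.of Ω') ⟶ Spec (CommRingCat.of Ω))
      (X : Scheme.{u}) (q : X ⟶ Spec (CommRingCat.of Ω)) (σ : Fin n → (Spec (CommRingCat.of Ω) ⟶ X))
      (X' : Scheme.{u}) (q' : X' ⟶ Spec (CommRingCat.of Ω')) (j : X' ⟶ X)
      (σ' : Fin n → (Spec (CommRingCat.of Ω') ⟶ X')),
      (∀ i, σ i ≫ q = 𝟙 _) → IsPullback j q' q ι → (∀ i, σ' i ≫ q' = 𝟙 _) → (∀ i, σ' i ≫ j = ι ≫ σ i) →
      (P Ω X q (fun i => (σ i).base (IsLocalRing.closedPoint Ω)) ↔
        P Ω' X' q' (fun i => (σ' i).base (IsLocalRing.closedPoint Ω')))) :
    let S : Scheme.{u} := Spec (CommRingCat.of k)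
    let U := AlgSt.fullSub (CurvSt.Curves S n) (fun A => CurvSt.GeomFib (fun _ _ _ X' _ _ =>
        AlgebraicGeometry.IsReduced X' ∧ ConnectedSpace ↥X' ∧ topologicalKrullDim ↥X' = 1) A.obj ∧
          CurvSt.SpHasGenus A.obj g)
    let M := AlgSt.fullSub U (fun B => CurvSt.GeomFib P B.obj.obj)
    (∀ (R : Type u) [CommRing R] [IsDomain R] [IsDiscreteValuationRing R],
      IsAlgClosed (IsLocalRing.ResidueField R) →
      ∀ (L : Type u) [Field L] [Algebra R L] [IsFractionRing R L]
        (a : Spec (CommRingCat.of R) ⟶ S) (A₁ A₂ : M.p.Fiber (Over.mk a))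
        (B₁ B₂ : M.p.Fiber (Over.mk (Spec.map (CommRingCat.ofHom (algebraMap R L)) ≫ a)))
        (ψ₁ : B₁.1 ⟶ A₁.1) (ψ₂ : B₂.1 ⟶ A₂.1),
        M.p.IsHomLift (Over.homMk (Spec.map (CommRingCat.ofHom (algebraMap R L))) rfl :
            Over.mk (Spec.map (CommRingCat.ofHom (algebraMap R L)) ≫ a) ⟶ Over.mk a) ψ₁ →
        M.p.IsHomLift (Over.homMk (Spec.map (CommRingCat.ofHom (algebraMap R L))) rfl :
            Over.mk (Spec.map (CommRingCat.ofHom (algebraMap R L)) ≫ a) ⟶ Over.mk a) ψ₂ →
        ∀ e : B₁ ≅ B₂, ∃ E : A₁ ≅ A₂, ψ₁ ≫ E.hom.1 = e.hom.1 ≫ ψ₂) →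
    ∀ (Ω : Type u) [Field Ω] [IsAlgClosed Ω] (t : Spec (CommRingCat.of Ω) ⟶ S) (A : M.p.Fiber (Over.mk t)),
      Finite (Aut A) := by
  intro S U M hu Ω _ _ t A
  exact K903.AutTr.finite_aut
    (fun φ h => ⟨K898.MbarEq.geomFib_of_hom φ.hom h.1, K898.MbarEq.geomFib_of_hom φ.hom h.2⟩)
    (fun φ h => K898.MbarEq.geomFib_of_hom φ.hom.hom h) hu g hgn (fun D h => h) Ω t A

end Groth.Agent.S18730
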