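import Groth.Statements.S18753
import Groth.Agent.ModPair.K972.SemiVal
import Groth.Agent.S18734

set_option autoImplicit false
universe u
open CategoryTheory CategoryTheory.Limits AlgebraicGeometry TopologicalSpace
open ModPair

namespace Groth.Agent.S18753


open K972.SemiVal K971.Basic

section

variable {O : Type u} [CommRing O] [IsLocalRing O] (R : ValuationSubring (IsLocalRing.ResidueField O))

/-- The reduction map from the semi-valuation ring to the valuation ring. -/
noncomputable def red : ↥((R.toSubring).comap (IsLocalRing.residue O)) →+* ↥R :=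
  ((IsLocalRing.residue O).comp (((R.toSubring).comap (IsLocalRing.residue O)).subtype)).codRestrict R
    fun a ↦ a.2

lemma coe_red (a : ↥((R.toSubring).comap (IsLocalRing.residue O))) :
    (red R a : IsLocalRing.ResidueField O) = IsLocalRing.residue O a := rfl

lemma red_surjective : Function.Surjective (red R) := by
  intro r
  obtain ⟨o, ho⟩ := IsLocalRing.residue_surjective (r : IsLocalRing.ResidueField O)
  refine ⟨⟨o, ?_⟩, ?_⟩
  · change IsLocalRing.residue O o ∈ R.toSubring
    rw [ho]; exact r.2
  · apply Subtype.ext
    exact ho

variable (f : ↥((R.toSubring).comap (IsLocalRing.residue O))) [IsLocalization.Away f O]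

include f

lemma exists_ker (m : ↥((R.toSubring).comap (IsLocalRing.residue O))) (hm : red R m = 0) :
    ∃ m', red R m' = 0 ∧ m = f * m' := by
  obtain ⟨v, hv⟩ := (IsLocalization.Away.algebraMap_isUnit (S := O) f).exists_right_inv
  have hm0 : IsLocalRing.residue O (m : O) = 0 := by
    have := congrArg (fun r : R ↦ (r : IsLocalRing.ResidueField O)) hm
    exact this
  have hvm : IsLocalRing.residue O (v * m) = 0 := by rw [map_mul, hm0, mul_zero]
  refine ⟨⟨v * m, ?_⟩, ?_, ?_⟩
  · change IsLocalRing.residue O (v * m) ∈ R.toSubring
    rw [hvm]; exact R.toSubring.zero_mem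
  · apply Subtype.ext
    exact hvm
  · apply Subtype.ext
    change (m : O) = (f : O) * (v * m)
    rw [← mul_assoc]
    have : (f : O) * v = 1 := hv
    rw [this, one_mul]

lemma red_ne_zero : red R f ≠ 0 := by
  intro h
  have h1 : IsUnit (IsLocalRing.residue O (f : O)) :=
    (IsLocalization.Away.algebraMap_isUnit (S := O) f).map (IsLocalRing.residue O)
  have h2 : IsLocalRing.residue O (f : O) = 0 := by
    have := congrArg (fun r : R ↦ (r : IsLocalRing.ResidueField O)) h
    exact this
  rw [h2] at h1
  exact not_isUnit_zero h1

lemma exists_pow (r : R) (hr : r ≠ 0) : ∃ (n : ℕ) (a : R), (red R f) ^ n = a * r := by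
  obtain ⟨o, ho⟩ := IsLocalRing.residue_surjective ((r : IsLocalRing.ResidueField O)⁻¹)
  obtain ⟨n, a, hna⟩ := IsLocalization.Away.surj f o
  have hr0 : (r : IsLocalRing.ResidueField O) ≠ 0 := fun h ↦ hr (Subtype.ext h)
  refine ⟨n, red R a, ?_⟩
  apply Subtype.ext
  have h1 := congrArg (IsLocalRing.residue O) hna
  rw [map_mul, map_pow, ho] at h1
  change ((red R f : IsLocalRing.ResidueField O)) ^ n = (red R a : IsLocalRing.ResidueField O) * r
  rw [coe_red, coe_red]
  change (r : IsLocalRing.ResidueField O)⁻¹ * (IsLocalRing.residue O (f : O)) ^ n =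
    IsLocalRing.residue O (a : O) at h1
  rw [← h1]
  field_simp

end

/-- Let O be a local ring with residue field κ, R a valuation ring of κ, A ⊆ O the subring of elements
whose residue class lies in R (the fibre product ring R ×_κ O, a semi-valuation ring), and f an
element of A such that O is the localization of A obtained by inverting f. Equip P = Spec A with the
modulus V(f), the closed subscheme cut out by f (an effective Cartier divisor: f is a unit of O, so
a nonzerodivisor of A), whose interior is Spec O. Let q : Q ⟶ P be a proper, minimal morphism of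
modulus pairs (the modulus of Q is the pull-back of V(f) and is an effective Cartier divisor) whose
restriction over the interior of P is a finite morphism. Then q is finite. -/
theorem result {O : Type u} [CommRing O]
    [IsLocalRing O] (R : ValuationSubring (IsLocalRing.ResidueField O))
    (f : ↥((R.toSubring).comap (IsLocalRing.residue O)))
    [IsLocalization.Away f O] {Q : Scheme.{u}} (IQ : Q.IdealSheafData)
    (hQ : BlowUp.IsEffCartierIdeal IQ)
    (q : Q ⟶ Spec (CommRingCat.of ↥((R.toSubring).comap (IsLocalRing.residue O))))
    (hq : ModPair.IsMinimal IQ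
      (Spec.map (CommRingCat.ofHom (Ideal.Quotient.mk (Ideal.span {f})))).ker q)
    [IsProper q]
    (hfin : IsFinite (q ∣_ ModPair.interior
      (Spec.map (CommRingCat.ofHom (Ideal.Quotient.mk (Ideal.span {f})))).ker)) :
    IsFinite q := by
  let := (red R).toAlgebra
  have hsurj : Function.Surjective (algebraMap ↥((R.toSubring).comap (IsLocalRing.residue O)) ↥R) :=
    red_surjective R
  have hqE : BlowUp.IsEffCartierIdeal
      ((Spec.map (CommRingCat.ofHom (Ideal.Quotient.mk (Ideal.span {f})))).ker.comap q) := by
    rw [← show IQ = _ from hq]; exact hQ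
  have hfl : Flat (pullback.snd q (Spec.map (CommRingCat.ofHom
      (algebraMap ↥((R.toSubring).comap (IsLocalRing.residue O)) ↥R)))) :=
    flat_pullback_snd hsurj f (exists_ker R f) (exists_pow R f) q hqE
  set i := Spec.map (CommRingCat.ofHom
      (algebraMap ↥((R.toSubring).comap (IsLocalRing.residue O)) ↥R)) with hi
  set U := ModPair.interior
      (Spec.map (CommRingCat.ofHom (Ideal.Quotient.mk (Ideal.span {f})))).ker with hU
  have hprop : IsProper (pullback.snd q i) := inferInstance
  let j := Spec.map (CommRingCat.ofHom (algebraMap ↥R (FractionRing ↥R)))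
  have hgen : IsFinite (pullback.snd (pullback.snd q i) j) := by
    have h1 : IsFinite (pullback.snd q (j ≫ i)) := by
      refine of_restrict @IsFinite q U hfin (j ≫ i) ?_
      rintro _ ⟨x, rfl⟩
      change (j ≫ i) x ∈ U
      rw [hU, mem_interior_iff (A := CommRingCat.of ↥((R.toSubring).comap (IsLocalRing.residue O))) f]
      intro h
      have h2 : algebraMap ↥R (FractionRing ↥R) (red R f) ∈ x.asIdeal := h
      have h3 : x.asIdeal = ⊥ := Ideal.eq_bot_of_prime x.asIdeal
      rw [h3, Ideal.mem_bot] at h2
      exact red_ne_zero R f ((FaithfulSMul.algebraMap_injective ↥R (FractionRing ↥R)) (by rw [h2, map_zero]))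
    have h2 : pullback.snd (pullback.snd q i) j = (pullbackLeftPullbackSndIso q i j).hom ≫
        pullback.snd q (j ≫ i) := by
      rw [pullbackLeftPullbackSndIso_hom_snd]
    rw [h2]
    infer_instance
  have hfin2 : IsFinite (pullback.snd q i) :=
    Groth.Agent.S18734.result (pullback.snd q i) hgen
  refine isFinite_of_restrict q U i ?_
  intro x hx
  rw [hU, mem_interior_iff (A := CommRingCat.of ↥((R.toSubring).comap (IsLocalRing.residue O))) f,
    not_not] at hx
  have h1 : x ∈ Set.range (PrimeSpectrum.comap
      (algebraMap ↥((R.toSubring).comap (IsLocalRing.residue O)) ↥R)) := by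
    rw [range_comap_of_surjective _ _ hsurj]
    refine (PrimeSpectrum.mem_zeroLocus _ _).2 ?_
    intro m hm
    obtain ⟨m', -, rfl⟩ := exists_ker R f m hm
    exact Ideal.mul_mem_right _ _ hx
  exact h1

end Groth.Agent.S18753
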