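import Groth.Statements.S18754
import Groth.Agent.ModPair.K972.FPApprox
import Groth.Agent.S2076

set_option autoImplicit false
universe u
open CategoryTheory CategoryTheory.Limits AlgebraicGeometry TopologicalSpace
open ModPair K972.FPApprox K971.Basic

namespace Groth.Agent.S18754

/-- Let (Y, I_Y) be a modulus pair with Y quasi-compact and quasi-separated, and let (X_i ⟶ Y) be a
cofiltered system of Y-schemes with affine transition morphisms such that every X_i is quasi-compact
and quasi-separated, the pulled-back ideal I_Y.comap (X_i ⟶ Y) is the ideal of an effective Cartier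
divisor, and X_i ⟶ Y is an abstract admissible blow-up of modulus pairs which is locally of finite
presentation. Let X be the limit of the system over Y and suppose that X ⟶ Y, with the pulled-back
modulus (assumed effective Cartier), is also an abstract admissible blow-up. Then X ⟶ Y is locally
of finite presentation: an abstract admissible blow-up of quasi-compact quasi-separated modulus
pairs which is not of finite presentation is never a limit of finitely presented ones. -/
theorem result {Y : Scheme.{u}}
    [CompactSpace Y] [QuasiSeparatedSpace Y] (IY : Y.IdealSheafData) (hY : BlowUp.IsEffCartierIdeal IY)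
    {I : Type u} [SmallCategory I] [IsCofiltered I] (D : I ⥤ Over Y) (c : Cone D) (hc : IsLimit c)
    [∀ (i j : I) (t : i ⟶ j), IsAffineHom (D.map t).left]
    [∀ i, CompactSpace (D.obj i).left] [∀ i, QuasiSeparatedSpace (D.obj i).left]
    (hI : ∀ i, BlowUp.IsEffCartierIdeal (IY.comap (D.obj i).hom))
    (hadm : ∀ i, ModPair.IsAdmBlowup (IY.comap (D.obj i).hom) IY (D.obj i).hom)
    [∀ i, LocallyOfFinitePresentation (D.obj i).hom]
    (hX : BlowUp.IsEffCartierIdeal (IY.comap c.pt.hom))
    (hXadm : ModPair.IsAdmBlowup (IY.comap c.pt.hom) IY c.pt.hom) :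
    LocallyOfFinitePresentation c.pt.hom := by
  have : LocallyOfFiniteType (𝟙 c.pt.left ≫ c.pt.hom) := by
    rw [Category.id_comp]
    have := hXadm.2.1
    infer_instance
  obtain ⟨i, hi⟩ := Groth.Agent.S2076.result Y D c hc (𝟙 c.pt.left)
  rw [Category.id_comp] at hi
  have w : (c.π.app i).left ≫ (D.obj i).hom = c.pt.hom := Over.w (c.π.app i)
  have h1 : IsIso (((c.π.app i).left ≫ (D.obj i).hom) ∣_ ModPair.interior IY) := by
    rw [w]; exact hXadm.2.2
  rw [morphismRestrict_comp] at h1
  have h2 : IsIso ((c.π.app i).left ∣_ ((D.obj i).hom ⁻¹ᵁ ModPair.interior IY)) :=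
    @IsIso.of_isIso_comp_right _ _ _ _ _ _ _ (hadm i).2.2 h1
  have h3 := dominant_interior (hI i)
  have h4 : ModPair.interior (IY.comap (D.obj i).hom) = (D.obj i).hom ⁻¹ᵁ ModPair.interior IY := interior_comap _ _
  have h5 : IsSchemeTheoreticallyDominant ((D.obj i).hom ⁻¹ᵁ ModPair.interior IY).ι := dominant_congr h4
  have h6 : IsSchemeTheoreticallyDominant (((c.π.app i).left ⁻¹ᵁ ((D.obj i).hom ⁻¹ᵁ ModPair.interior IY)).ι ≫
      (c.π.app i).left) := by
    rw [← morphismRestrict_ι]
    infer_instance
  have h7 := dominant_of_comp ((c.π.app i).left ⁻¹ᵁ ((D.obj i).hom ⁻¹ᵁ ModPair.interior IY)).ι (c.π.app i).left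
  have h8 : IsIso (c.π.app i).left := by
    refine isIso_of_ker_le (c.π.app i).left (𝟙 _) _ (Category.comp_id _) ?_
    rw [Scheme.Hom.ker_eq_bot]
    exact bot_le
  rw [← w]
  infer_instance

end Groth.Agent.S18754
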