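import Groth.Statements.S18759
import Groth.Agent.ModPair.K972.FPApprox

set_option autoImplicit false
universe u
open CategoryTheory CategoryTheory.Limits AlgebraicGeometry TopologicalSpace
open ModPair K972.FPApprox K971.Basic Groth.Agent.Smoothlim.ClosedFP

namespace Groth.Agent.S18759

/-- Let (X, I_X) and (Y, I_Y) be modulus pairs with X, Y quasi-compact and quasi-separated, and f : X ⟶
Y an ambient morphism (modulus condition I_X ≤ I_Y.comap f) which is locally of finite type. Then X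
⟶ Y is a cofiltered limit of Y-schemes X_i such that: (1) every X_i ⟶ Y is of finite presentation
and all transition maps X_i ⟶ X_j and projections X ⟶ X_i are closed immersions; (2) every X_i
carries a locally principal quasi-coherent ideal sheaf J_i whose pull-back to X is I_X and whose
pull-back along each transition map X_i ⟶ X_j of J_j is J_i; (3) every X_i ⟶ Y satisfies the modulus
condition for J_i, and if f is minimal all X_i ⟶ Y are minimal; (4) if f is proper all X_i ⟶ Y are
proper; (5) if f is minimal and an isomorphism over the interior of Y, every X_i ⟶ Y is an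
isomorphism over the interior of Y. (Part (5) is given here in the minimal case, where the interior
of (X_i, J_i) is the preimage of the interior of Y.) -/
theorem result {X Y : Scheme.{u}}
    [CompactSpace X] [QuasiSeparatedSpace X] [CompactSpace Y] [QuasiSeparatedSpace Y]
    (IX : X.IdealSheafData) (IY : Y.IdealSheafData) (hX : BlowUp.IsEffCartierIdeal IX)
    (hY : BlowUp.IsEffCartierIdeal IY) (f : X ⟶ Y) (hf : ModPair.IsAmbient IX IY f)
    [LocallyOfFiniteType f] :
    ∃ (I : Type u) (_ : SmallCategory I) (_ : IsCofiltered I) (D : I ⥤ Over Y) (c : Cone D)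
      (_ : IsLimit c) (e : c.pt ≅ Over.mk f) (J : ∀ i, (D.obj i).left.IdealSheafData),
      (∀ i, LocallyOfFinitePresentation (D.obj i).hom ∧ QuasiCompact (D.obj i).hom ∧
          QuasiSeparated (D.obj i).hom) ∧
        (∀ (i j : I) (t : i ⟶ j), IsClosedImmersion (D.map t).left) ∧
        (∀ i, IsClosedImmersion (c.π.app i).left) ∧
        (∀ i, Curv2.IsLocPrincipal (J i)) ∧
        (∀ i, IX = (J i).comap (e.inv.left ≫ (c.π.app i).left)) ∧
        (∀ (i j : I) (t : i ⟶ j), J i = (J j).comap (D.map t).left) ∧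
        (∀ i, ModPair.IsAmbient (J i) IY (D.obj i).hom) ∧
        (ModPair.IsMinimal IX IY f → ∀ i, ModPair.IsMinimal (J i) IY (D.obj i).hom) ∧
        (IsProper f → ∀ i, IsProper (D.obj i).hom) ∧
        (ModPair.IsMinimal IX IY f → IsIso (f ∣_ ModPair.interior IY) →
          ∀ i, IsIso ((D.obj i).hom ∣_ ModPair.interior IY)) := by
  obtain ⟨Z, f', j, h1, h2, h3, h4, h5⟩ := Groth.Agent.S2078.result f
  have : CompactSpace Z := QuasiCompact.compactSpace_of_compactSpace f'
  have : QuasiSeparatedSpace Z := quasiSeparatedSpace_of_quasiSeparated f'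
  obtain ⟨M, hM, hMX⟩ := exists_ft_comap_eq j (locPrin_of_isEff hX).isFT
  obtain ⟨I₁, hI₁, hI₁', hI₁''⟩ := exists_locPrin_stage j hM (by rw [hMX]; exact locPrin_of_isEff hX)
  obtain ⟨I₂, hI₂, hI₂', hI₂''⟩ : ∃ I ≤ j.ker, BlowUp.IsFiniteTypeIdeal I ∧ M ≤ IY.comap f' ⊔ I := by
    refine exists_ft_le hM (le_sup_ker_of_comap_le j ?_)
    rw [hMX, ← Scheme.IdealSheafData.comap_comp, h5]
    exact hf
  obtain ⟨I₃, hI₃, hI₃', hI₃''⟩ : ∃ I ≤ j.ker, BlowUp.IsFiniteTypeIdeal I ∧
      (ModPair.IsMinimal IX IY f → IY.comap f' ≤ M ⊔ I) := by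
    by_cases hmin : ModPair.IsMinimal IX IY f
    · obtain ⟨I, h6, h7, h8⟩ : ∃ I ≤ j.ker, BlowUp.IsFiniteTypeIdeal I ∧ IY.comap f' ≤ M ⊔ I := by
        refine exists_ft_le ((locPrin_of_isEff hY).comap f').isFT (le_sup_ker_of_comap_le j ?_)
        rw [hMX, ← Scheme.IdealSheafData.comap_comp, h5]
        exact hmin.ge
      exact ⟨I, h6, h7, fun _ => h8⟩
    · exact ⟨⊥, bot_le, isFiniteTypeIdeal_bot, fun h => absurd h hmin⟩
  have hι : j.toImage ≫ j.ker.subschemeι = j := Scheme.Hom.toImage_imageι j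
  have hiso : IsIso j.toImage := inferInstance
  obtain ⟨I₄, hI₄, hI₄', hI₄''⟩ : ∃ I ≤ j.ker, BlowUp.IsFiniteTypeIdeal I ∧
      (IsProper f → IsProper (I.subschemeι ≫ f')) := by
    by_cases hp : IsProper f
    · obtain ⟨I, h6, h7, h8⟩ := exists_isProper_subscheme f' j.ker (by
        have : j.ker.subschemeι ≫ f' = inv j.toImage ≫ f := by
          rw [IsIso.eq_inv_comp, ← Category.assoc, hι, h5]
        rw [this]
        infer_instance)
      exact ⟨I, h6, h7, fun _ => h8⟩
    · exact ⟨⊥, bot_le, isFiniteTypeIdeal_bot, fun h => absurd h hp⟩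
  obtain ⟨I₅, hI₅, hI₅', hI₅''⟩ : ∃ I ≤ j.ker, BlowUp.IsFiniteTypeIdeal I ∧
      (IsIso (f ∣_ ModPair.interior IY) →
        ∀ V : Z.affineOpens, V.1 ≤ f' ⁻¹ᵁ ModPair.interior IY → I.ideal V = j.ker.ideal V) := by
    by_cases hp : IsIso (f ∣_ ModPair.interior IY)
    · have : IsAffineHom (ModPair.interior IY).ι := (locPrin_of_isEff hY).isAffineHom
      obtain ⟨I, h6, h7, h8⟩ := exists_iso_stage j f' (ModPair.interior IY) (by rw [h5]; exact hp)
      exact ⟨I, h6, h7, fun _ => h8⟩
    · exact ⟨⊥, bot_le, isFiniteTypeIdeal_bot, fun h => absurd h hp⟩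
  let K₀ : Z.IdealSheafData := I₁ ⊔ I₂ ⊔ I₃ ⊔ I₄ ⊔ I₅
  have hK₀ : BlowUp.IsFiniteTypeIdeal K₀ := isFiniteTypeIdeal_sup (isFiniteTypeIdeal_sup
    (isFiniteTypeIdeal_sup (isFiniteTypeIdeal_sup hI₁' hI₂') hI₃') hI₄') hI₅'
  have hK₀' : K₀ ≤ j.ker := sup_le (sup_le (sup_le (sup_le hI₁ hI₂) hI₃) hI₄) hI₅
  have hne : Nonempty (Idx j.ker K₀) := ⟨⟨K₀, le_rfl, hK₀', hK₀⟩⟩
  have l1 : I₁ ≤ K₀ := le_sup_left.trans (le_sup_left.trans (le_sup_left.trans le_sup_left))
  have l2 : I₂ ≤ K₀ := le_sup_right.trans (le_sup_left.trans (le_sup_left.trans le_sup_left))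
  have l3 : I₃ ≤ K₀ := le_sup_right.trans (le_sup_left.trans le_sup_left)
  have l4 : I₄ ≤ K₀ := le_sup_right.trans le_sup_left
  have l5 : I₅ ≤ K₀ := le_sup_right
  refine ⟨(Idx j.ker K₀)ᵒᵖ, inferInstance, inferInstance, subD f' j.ker K₀, subC f' j.ker K₀,
    isLimitSubC f' j.ker K₀ hK₀ hK₀', K339.ClosedLim.closedIso f' j f h5 K₀,
    fun i => M.comap i.unop.1.subschemeι, fun i => ?_, fun i k t => inferInstance, fun i => inferInstance,
    fun i x _ => ?_, fun i => ?_, fun i k t => ?_, fun i => ?_, fun hmin i => ?_, fun hp i => ?_, fun hmin hp i => ?_⟩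
  · have : LocallyOfFinitePresentation ((subD f' j.ker K₀).obj i).hom := inferInstance
    refine ⟨this, ?_, ?_⟩
    · change QuasiCompact (i.unop.1.subschemeι ≫ f')
      infer_instance
    · change QuasiSeparated (i.unop.1.subschemeι ≫ f')
      infer_instance
  · exact locPrin_subscheme_of_le (l1.trans i.unop.2.1) hI₁'' x
  · rw [← hMX]
    change M.comap j = (M.comap i.unop.1.subschemeι).comap
      (j.toImage ≫ Scheme.IdealSheafData.inclusion i.unop.2.2.1)
    rw [← Scheme.IdealSheafData.comap_comp, Category.assoc, Scheme.IdealSheafData.inclusion_subschemeι, hι]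
  · change M.comap i.unop.1.subschemeι = (M.comap k.unop.1.subschemeι).comap
      (Scheme.IdealSheafData.inclusion (leOfHom t.unop : k.unop.1 ≤ i.unop.1))
    rw [← Scheme.IdealSheafData.comap_comp, Scheme.IdealSheafData.inclusion_subschemeι]
  · change M.comap i.unop.1.subschemeι ≤ IY.comap (i.unop.1.subschemeι ≫ f')
    rw [Scheme.IdealSheafData.comap_comp]
    exact comap_le_of_le_sup hI₂'' (l2.trans i.unop.2.1)
  · change M.comap i.unop.1.subschemeι = IY.comap (i.unop.1.subschemeι ≫ f')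
    rw [Scheme.IdealSheafData.comap_comp]
    exact le_antisymm (comap_le_of_le_sup hI₂'' (l2.trans i.unop.2.1))
      (comap_le_of_le_sup (hI₃'' hmin) (l3.trans i.unop.2.1))
  · have h6 := hI₄'' hp
    change IsProper (i.unop.1.subschemeι ≫ f')
    rw [← Scheme.IdealSheafData.inclusion_subschemeι (l4.trans i.unop.2.1), Category.assoc]
    infer_instance
  · change IsIso ((i.unop.1.subschemeι ≫ f') ∣_ ModPair.interior IY)
    exact isIso_restrict_of_stage (by rw [h5]; exact hp) (hI₅'' hp) (l5.trans i.unop.2.1) i.unop.2.2.1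

end Groth.Agent.S18759
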