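import Groth.Statements.S18761
import Groth.Agent.AlgGrp.K413.ConstSub

set_option autoImplicit false
universe u
open CategoryTheory MonoidalCategory CartesianMonoidalCategory MonObj GrpObj AlgebraicGeometry
open AlgGrp

namespace Groth.Agent.S18761

/-- Let k be an algebraically closed field, S a smooth, proper and integral curve over k (integral,
smooth and proper over k of dimension one), G a finite group scheme over k, and H a closed subgroup
scheme of the base change G_S = G ×_k S whose structure morphism H → S is faithfully flat, such that
the direct image of O_H on S is locally free of rank m and its space of global sections, that is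
Γ(H, O_H), has dimension exactly m over k. Then H descends to k: there are a group scheme H' over k,
a homomorphism H' → G which is a closed immersion, and an isomorphism of S-group schemes H ≅ H' ×_k
S carrying the inclusion of H into G_S to the base change of H' → G; moreover the induced ring map
Γ(H', O) → Γ(H, O_H) is bijective, so that H' is the spectrum of Γ(H, O_H). -/
theorem result
    (k : Type u) [Field k] [IsAlgClosed k] (S : Scheme.{u}) [S.Over (Spec (CommRingCat.of k))]
    [IsIntegral S] [IsProper (S ↘ Spec (CommRingCat.of k))] [Smooth (S ↘ Spec (CommRingCat.of k))]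
    (hdim : topologicalKrullDim S = 1)
    (G : Over (Spec (CommRingCat.of k))) [GrpObj G] [IsFinite G.hom]
    (H : Over S) [GrpObj H] (i : H ⟶ Red.bc (S ↘ Spec (CommRingCat.of k)) G) [IsMonHom i]
    [IsClosedImmersion i.left] [Flat H.hom] [Surjective H.hom] (m : ℕ)
    (hE : FlatMod.IsFinLocFreeOfRank m ((Coh.push H.hom).obj (Coh.structureModule H.left)))
    (hh0 : Module.finrank k (Coh.HH S ((Coh.push H.hom).obj (Coh.structureModule H.left)) 0) = m) :
    ∃ (H' : Grp (Over (Spec (CommRingCat.of k)))) (j : H'.X ⟶ G), IsMonHom j ∧ IsClosedImmersion j.left ∧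
      ∃ e : H ≅ Red.bc (S ↘ Spec (CommRingCat.of k)) H'.X, IsMonHom e.hom ∧
        e.hom ≫ (Over.pullback (S ↘ Spec (CommRingCat.of k))).map j = i ∧
        Function.Bijective (e.hom.left ≫ Limits.pullback.fst H'.X.hom (S ↘ Spec (CommRingCat.of k))).appTop.hom := by
  let p := S ↘ Spec (CommRingCat.of k)
  have hGf : IsFinite (Red.bc p G).hom := MorphismProperty.pullback_snd _ _ ‹IsFinite G.hom›
  have hHf : IsFinite H.hom := by
    rw [← Over.w i]; infer_instance
  have hrk := K872.Deg.finrank_eq H.hom m hE
  let Hk : Over (Spec (CommRingCat.of k)) := (Over.map p).obj H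
  let M := (Coh.push H.hom).obj (Coh.structureModule H.left)
  let e : Coh.HH S M 0 ≃ₗ[k] Groth.Agent.Sga3B.AffPts.Fn Hk :=
    { Groth.Agent.CurvesB.HZero.equivAdd M with
      map_smul' := fun t x => by
        change Groth.Agent.CurvesB.HZero.equivAdd M (t • x) = _
        rw [Groth.Agent.CurvesB.HZero.equivAdd_smul_over, Algebra.smul_def]
        rfl }
  have h1 : Module.finrank k (Groth.Agent.Sga3B.AffPts.Fn Hk) = m := by
    rw [← hh0]
    exact e.finrank_eq.symm
  have hm : 1 ≤ m := by
    obtain ⟨y⟩ : Nonempty S := inferInstance
    have h2 := (Scheme.Hom.one_le_finrank_iff_surjective H.hom).2 inferInstance y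
    rw [hrk] at h2
    exact h2
  have h3 : Module.Finite k (Groth.Agent.Sga3B.AffPts.Fn Hk) :=
    Module.finite_of_finrank_pos (by rw [h1]; exact hm)
  exact K413.ConstSub.main p G H i m hrk h3 h1

end Groth.Agent.S18761
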