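import Groth.Statements.S18763
import Groth.Agent.AlgGrp.K413.Homog

set_option autoImplicit false
universe u
open CategoryTheory CategoryTheory.Limits MonoidalCategory CartesianMonoidalCategory MonObj GrpObj AlgebraicGeometry
open AlgGrp

namespace Groth.Agent.S18763

open Groth.Agent.Sga3C.Transl K413.Homog in
/-- Let G be a finite group scheme over a field k and H a closed subgroup scheme of G, and let (Q, q₀)
with its G-action be the homogeneous space G/H for the fppf topology (the orbit map of q₀ is an fppf
H-torsor onto Q). Let N be a closed subgroup scheme of G which is the kernel of the action of G on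
Q: a point g of G with values in a k-scheme T factors through N exactly when g acts as the identity
on all points of Q with values in T-schemes. Then N (the core of H in G) is normal in G, is
contained in H, and contains every closed normal subgroup scheme of G which is contained in H. (The
published definition takes the core to be the kernel of the linear representation of G on the
coordinate ring of G/H; this is the same subgroup as the kernel of the action on G/H used here.) -/
theorem result
    (k : Type u) [Field k]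
    (G : Over (Spec (CommRingCat.of k))) [GrpObj G] [IsFinite G.hom]
    (H : Over (Spec (CommRingCat.of k))) [GrpObj H] (i : H ⟶ G) [IsMonHom i] [IsClosedImmersion i.left]
    (Q : Over (Spec (CommRingCat.of k))) (aQ : AlgGrp.Action G Q) (q₀ : 𝟙_ (Over (Spec (CommRingCat.of k))) ⟶ Q)
    (hQ : ChGrp.IsHomog Scheme.fppfPrecoverage i aQ q₀)
    (N : Over (Spec (CommRingCat.of k))) [GrpObj N] (n : N ⟶ G) [IsMonHom n] [IsClosedImmersion n.left]
    (hN : ∀ (T : Over (Spec (CommRingCat.of k))) (g : T ⟶ G),
      (∃ g' : T ⟶ N, g' ≫ n = g) ↔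
        ∀ (T' : Over (Spec (CommRingCat.of k))) (v : T' ⟶ T) (q : T' ⟶ Q), lift (v ≫ g) q ≫ aQ.act = q) :
    AlgGrp.IsNormalHom n ∧ (∃ m : N ⟶ H, m ≫ i = n) ∧
      ∀ (N' : Over (Spec (CommRingCat.of k))) [GrpObj N'] (n' : N' ⟶ G) [IsMonHom n'] [IsClosedImmersion n'.left],
        AlgGrp.IsNormalHom n' → (∃ m' : N' ⟶ H, m' ≫ i = n') → ∃ r : N' ⟶ N, r ≫ n = n' := by
  obtain ⟨-, hsq, hloc⟩ := hQ
  have htriv : ∀ (T : Over (Spec (CommRingCat.of k))) (v : T ⟶ N) (q : T ⟶ Q),
      lift (v ≫ n) q ≫ aQ.act = q := (hN N n).mp ⟨𝟙 N, Category.id_comp _⟩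
  refine ⟨fun T g m => ?_, ?_, fun N' _ n' _ _ hn' hm' => ?_⟩
  · obtain ⟨n', hn'⟩ := (hN T (g * (m ≫ n) * g⁻¹)).mpr (fun T' v q => by
      rw [comp_mul, comp_mul, comp_inv, lift_mul_act, lift_mul_act, ← Category.assoc v m n, htriv,
        ← lift_mul_act, mul_inv_cancel, lift_one_act])
    exact ⟨n', hn'.symm⟩
  · exact exists_of_fix hsq n (by simpa using htriv N (𝟙 N) (toUnit N ≫ q₀))
  · obtain ⟨m', hm'⟩ := hm'
    refine (hN N' n').mpr fun T' v q => ?_
    refine hom_ext_of_locTriv Scheme.fppfPrecoverage_le_fpqcPrecoverage hloc q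
      fun T'' t x hx => ?_
    rw [comp_lift_act, ← hx, ← mul_comp_orbitMap]
    obtain ⟨w, hw⟩ := hn' T'' x⁻¹ (t ≫ v)
    have h1 : (t ≫ v ≫ n') * x = x * ((w ≫ m') ≫ i) := by
      rw [Category.assoc, hm', ← hw, _root_.inv_inv]
      simp only [Category.assoc, ← _root_.mul_assoc]
      rw [mul_inv_cancel, _root_.one_mul]
    rw [h1, mul_comp_orbitMap_of_sub hsq]

end Groth.Agent.S18763
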