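import Groth.Statements.S18764
import Groth.Agent.NonAbH1.K554.FibProd
import Groth.Agent.NonAbH1.K554.FibAct
import Groth.Agent.NonAbH1.K554.RankFlat
import Groth.Agent.Flat2D.LfpComp

set_option autoImplicit false
universe u
open CategoryTheory CategoryTheory.Limits MonoidalCategory CartesianMonoidalCategory MonObj GrpObj AlgebraicGeometry
open NonAbH1

namespace Groth.Agent.S18764

/-- Let k be a field and X a quasi-compact k-scheme, connected and reduced, having a k-point x; let G,
G₁, G₂ be finite group schemes over k with homomorphisms φ₁ : G₁ → G and φ₂ : G₂ → G, and let T, T₁,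
T₂ be torsors over X (fppf-locally trivial) under the base changes to X of G, G₁, G₂ respectively,
each pointed by a k-point lying over x. Let f₁ : T₁ → T and f₂ : T₂ → T be morphisms of pointed
torsors: X-morphisms which intertwine the actions along φ₁, φ₂ and send the marked points of T₁, T₂
to that of T. Let P be the fibre product group scheme G₁ ×_G G₂ with its projections π₁, π₂. Then
the fibre product T₁ ×_T T₂ carries an action of the base change of P for which both projections to
T₁ and T₂ are equivariant (along π₁, π₂) and which makes it a torsor over X (fppf-locally trivial).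
(The published statement says that such an X has a fundamental group scheme; this row states the
closure of finite pointed torsors under fibre products to which it is reduced.) -/
theorem result
    (k : Type u) [Field k] (X : Scheme.{u}) [X.Over (Spec (CommRingCat.of k))] [ConnectedSpace X]
    [CompactSpace X] [AlgebraicGeometry.IsReduced X]
    (x : Spec (CommRingCat.of k) ⟶ X) (hx : x ≫ (X ↘ Spec (CommRingCat.of k)) = 𝟙 _)
    (G G₁ G₂ : Over (Spec (CommRingCat.of k))) [GrpObj G] [GrpObj G₁] [GrpObj G₂]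
    [IsFinite G.hom] [IsFinite G₁.hom] [IsFinite G₂.hom]
    (φ₁ : G₁ ⟶ G) (φ₂ : G₂ ⟶ G) [IsMonHom φ₁] [IsMonHom φ₂]
    (T T₁ T₂ : Over X)
    (a : AlgGrp.Action (Red.bc (X ↘ Spec (CommRingCat.of k)) G) T)
    (a₁ : AlgGrp.Action (Red.bc (X ↘ Spec (CommRingCat.of k)) G₁) T₁)
    (a₂ : AlgGrp.Action (Red.bc (X ↘ Spec (CommRingCat.of k)) G₂) T₂)
    (hT : NonAbH1.IsTorsorFor Scheme.fppfPrecoverage a)
    (hT₁ : NonAbH1.IsTorsorFor Scheme.fppfPrecoverage a₁)
    (hT₂ : NonAbH1.IsTorsorFor Scheme.fppfPrecoverage a₂)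
    (t : Spec (CommRingCat.of k) ⟶ T.left) (t₁ : Spec (CommRingCat.of k) ⟶ T₁.left)
    (t₂ : Spec (CommRingCat.of k) ⟶ T₂.left)
    (ht : t ≫ T.hom = x) (ht₁ : t₁ ≫ T₁.hom = x) (ht₂ : t₂ ≫ T₂.hom = x)
    (f₁ : T₁ ⟶ T) (f₂ : T₂ ⟶ T)
    (hf₁ : AlgGrp.Action.IsEquivariant a₁ (a.restrict ((Over.pullback (X ↘ Spec (CommRingCat.of k))).map φ₁)) f₁)
    (hf₂ : AlgGrp.Action.IsEquivariant a₂ (a.restrict ((Over.pullback (X ↘ Spec (CommRingCat.of k))).map φ₂)) f₂)
    (hft₁ : t₁ ≫ f₁.left = t) (hft₂ : t₂ ≫ f₂.left = t)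
    (P : Over (Spec (CommRingCat.of k))) [GrpObj P] (π₁ : P ⟶ G₁) (π₂ : P ⟶ G₂) [IsMonHom π₁] [IsMonHom π₂]
    (hP : IsPullback π₁ π₂ φ₁ φ₂) :
    ∃ c : AlgGrp.Action (Red.bc (X ↘ Spec (CommRingCat.of k)) P) (pullback f₁ f₂),
      AlgGrp.Action.IsEquivariant c (a₁.restrict ((Over.pullback (X ↘ Spec (CommRingCat.of k))).map π₁)) (pullback.fst f₁ f₂) ∧
      AlgGrp.Action.IsEquivariant c (a₂.restrict ((Over.pullback (X ↘ Spec (CommRingCat.of k))).map π₂)) (pullback.snd f₁ f₂) ∧
      NonAbH1.IsTorsorFor Scheme.fppfPrecoverage c := by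
  have hT' := K554.FibProd.fpqc_of_fppf hT
  have hT₁' := K554.FibProd.fpqc_of_fppf hT₁
  have hT₂' := K554.FibProd.fpqc_of_fppf hT₂
  have i1 := K554.FibProd.isFinite_hom _ hT₁'
  have i2 := K554.FibProd.isFinite_hom _ hT₂'
  have l1 := K554.FibProd.lfp_hom _ hT₁'
  have l2 := K554.FibProd.lfp_hom _ hT₂'
  have l0 := K554.FibProd.lfp_hom _ hT'
  have i0 := K554.FibProd.isFinite_hom _ hT'
  have := K554.FibProd.tensor_hom T₁ T₂ @IsFinite i1 i2
  have := K554.FibProd.tensor_hom T₁ T₂ @Flat (K554.FibProd.flat_hom _ hT₁') (K554.FibProd.flat_hom _ hT₂')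
  have := K554.FibProd.tensor_hom T₁ T₂ @LocallyOfFinitePresentation l1 l2
  have hsurj : Surjective (pullback f₁ f₂).hom :=
    K554.FibProd.surjective_fibProd _ φ₁ φ₂ hT.1 hf₁ hf₂ x t t₁ t₂ ht ht₁ ht₂ hft₁ hft₂
  -- the base-changed fibre square of groups
  have hPX : IsPullback ((Over.pullback (X ↘ Spec (CommRingCat.of k))).map π₁)
      ((Over.pullback (X ↘ Spec (CommRingCat.of k))).map π₂)
      ((Over.pullback (X ↘ Spec (CommRingCat.of k))).map φ₁)
      ((Over.pullback (X ↘ Spec (CommRingCat.of k))).map φ₂) := hP.map _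
  let c := K554.FibAct.fibAct (P := Red.bc (X ↘ Spec (CommRingCat.of k)) P) hPX.w hf₁ hf₂
  have hc : NonAbH1.IsPseudoTorsorSch c :=
    K554.FibAct.isPseudoTorsorSch_fibAct hPX hf₁ hf₂ hT.1 hT₁.1 hT₂.1
  -- `T₁ ×_T T₂` is finite and locally of finite presentation over `X`
  have w1 : f₁.left ≫ T.hom = T₁.hom := Over.w f₁
  have w2 : f₂.left ≫ T.hom = T₂.hom := Over.w f₂
  have sep : IsSeparated T.hom := inferInstance
  have q1 : IsFinite f₁.left := by
    have : IsFinite (f₁.left ≫ T.hom) := by rw [w1]; exact i1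
    exact IsFinite.of_comp f₁.left T.hom
  have q2 : LocallyOfFinitePresentation f₁.left := by
    have : LocallyOfFinitePresentation (f₁.left ≫ T.hom) := by rw [w1]; exact l1
    exact Groth.Agent.Flat2D.LfpComp.lfp_of_comp f₁.left T.hom
  have hpb : IsPullback (pullback.fst f₁ f₂).left (pullback.snd f₁ f₂).left f₁.left f₂.left :=
    (IsPullback.of_hasPullback f₁ f₂).map (Over.forget X)
  have e1 : (pullback f₁ f₂).hom = (pullback.snd f₁ f₂).left ≫ T₂.hom := (Over.w _).symm
  have r1 : IsFinite (pullback.snd f₁ f₂).left := MorphismProperty.of_isPullback hpb q1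
  have r2 : LocallyOfFinitePresentation (pullback.snd f₁ f₂).left := MorphismProperty.of_isPullback hpb q2
  have s1 : IsFinite (pullback f₁ f₂).hom := by rw [e1]; infer_instance
  have s2 : LocallyOfFinitePresentation (pullback f₁ f₂).hom := by rw [e1]; infer_instance
  -- `P` is finite over `k`
  have hsepG : IsSeparated G.hom := inferInstance
  have hφ₁ : IsFinite φ₁.left := by
    have : IsFinite (φ₁.left ≫ G.hom) := by rw [Over.w φ₁]; infer_instance
    exact IsFinite.of_comp φ₁.left G.hom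
  have hpbP : IsPullback π₁.left π₂.left φ₁.left φ₂.left := hP.map (Over.forget _)
  have hπ₂ : IsFinite π₂.left := MorphismProperty.of_isPullback hpbP hφ₁
  have hPfin : IsFinite P.hom := by
    rw [← Over.w π₂]; infer_instance
  have hPX1 : IsFinite (Red.bc (X ↘ Spec (CommRingCat.of k)) P).hom :=
    inferInstanceAs (IsFinite (pullback.snd P.hom (X ↘ Spec (CommRingCat.of k))))
  have hPX2 : Flat (Red.bc (X ↘ Spec (CommRingCat.of k)) P).hom :=
    inferInstanceAs (Flat (pullback.snd P.hom (X ↘ Spec (CommRingCat.of k))))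
  have hPlfp : LocallyOfFinitePresentation P.hom :=
    LocallyOfFinitePresentation.iff_locallyOfFiniteType.2 inferInstance
  have hPX3 : LocallyOfFinitePresentation (Red.bc (X ↘ Spec (CommRingCat.of k)) P).hom :=
    inferInstanceAs (LocallyOfFinitePresentation (pullback.snd P.hom (X ↘ Spec (CommRingCat.of k))))
  have hiso : IsIso (lift c.act (CartesianMonoidalCategory.snd _ _)) := hc
  have hflat : Flat (pullback f₁ f₂).hom :=
    K554.RankFlat.flat_of_shear (Red.bc (X ↘ Spec (CommRingCat.of k)) P) (pullback f₁ f₂)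
      (asIso (lift c.act (CartesianMonoidalCategory.snd _ _)))
  refine ⟨c, ?_, ?_, hc, Presieve.singleton (pullback f₁ f₂).hom, ?_, ?_⟩
  · rw [K554.Fpqc.isEquivariant_iff]
    intro Y p y
    rw [K554.FibAct.sm_fibAct_fst, K554.Fpqc.sm_restrict]
  · rw [K554.Fpqc.isEquivariant_iff]
    intro Y p y
    rw [K554.FibAct.sm_fibAct_snd, K554.Fpqc.sm_restrict]
  · exact Scheme.Hom.singleton_mem_fppfPrecoverage _
  · rintro S' g ⟨⟩
    exact ⟨𝟙 _, Category.id_comp _⟩

end Groth.Agent.S18764
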