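import Groth.Statements.S18766
import Groth.Agent.NonAbH1.K554.StTriv

set_option autoImplicit false
universe u
open CategoryTheory CategoryTheory.Limits MonoidalCategory CartesianMonoidalCategory MonObj GrpObj AlgebraicGeometry
open NonAbH1

namespace Groth.Agent.S18766

/-- Let k be a field, X and Y connected and reduced schemes of finite type over k with rational points x
and y, and f : X → Y a proper flat k-morphism with f(x) = y such that every fibre X_{y'} = X ×_Y
Spec κ(y') has only constant global functions: κ(y') → Γ(X_{y'}, O) is bijective. Let G be a finite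
group scheme over k and T → X a torsor (fppf-locally trivial) under the base change of G to X,
pointed by a k-point over x, such that for every closed point y' of Y the restriction of T to the
fibre X_{y'} has a section (is a trivial torsor). Then T descends to Y: there are a torsor T' → Y
under the base change of G to Y and a G-equivariant isomorphism over X between T' ×_Y X, with the
base-changed action, and T; T' is then pointed over y by the image of the marked point of T. (The
published statement asks T to be trivial on the fibre over every point of Y and puts no condition on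
the fibres; this row asks triviality over closed points of Y only and assumes that every fibre has
only constant global functions, without which the statement fails in either reading.) -/
theorem result
    (k : Type u) [Field k] (X Y : Scheme.{u}) [X.Over (Spec (CommRingCat.of k))] [Y.Over (Spec (CommRingCat.of k))]
    [LocallyOfFiniteType (X ↘ Spec (CommRingCat.of k))] [CompactSpace X]
    [LocallyOfFiniteType (Y ↘ Spec (CommRingCat.of k))] [CompactSpace Y]
    [AlgebraicGeometry.IsReduced X] [ConnectedSpace X] [AlgebraicGeometry.IsReduced Y] [ConnectedSpace Y]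
    (x : Spec (CommRingCat.of k) ⟶ X) (hx : x ≫ (X ↘ Spec (CommRingCat.of k)) = 𝟙 _)
    (y : Spec (CommRingCat.of k) ⟶ Y) (hy : y ≫ (Y ↘ Spec (CommRingCat.of k)) = 𝟙 _)
    (f : X ⟶ Y) (hf : f ≫ (Y ↘ Spec (CommRingCat.of k)) = X ↘ Spec (CommRingCat.of k)) (hfx : x ≫ f = y)
    [IsProper f] [Flat f]
    (hfib : ∀ y' : Y, Function.Bijective (pullback.snd f (Y.fromSpecResidueField y')).appTop.hom)
    (G : Over (Spec (CommRingCat.of k))) [GrpObj G] [IsFinite G.hom]
    (T : Over X) (a : AlgGrp.Action (Red.bc (X ↘ Spec (CommRingCat.of k)) G) T)
    (hT : NonAbH1.IsTorsorFor Scheme.fppfPrecoverage a)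
    (t : Spec (CommRingCat.of k) ⟶ T.left) (ht : t ≫ T.hom = x)
    (htriv : ∀ y' : Y, IsClosed ({y'} : Set Y) →
      NonAbH1.HasSectionOver T (pullback.fst f (Y.fromSpecResidueField y'))) :
    ∃ (T' : Over Y) (a' : AlgGrp.Action (Red.bc (Y ↘ Spec (CommRingCat.of k)) G) T'),
      NonAbH1.IsTorsorFor Scheme.fppfPrecoverage a' ∧
      Nonempty (NonAbH1.EquivIso (a'.bc f)
        (a.restrict (ActBC.bcCompIso f (Y ↘ Spec (CommRingCat.of k)) G hf).hom)) := K554.StTriv.main k X Y f hf hfib G T a hT htriv

end Groth.Agent.S18766
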