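import Groth.Statements.S18767
import Groth.Agent.VBCurve.K708.Strong
import Groth.Agent.VBCurve.K708.FrobPull

set_option autoImplicit false
universe u
open CategoryTheory CategoryTheory.Limits AlgebraicGeometry
open VBCurve

namespace Groth.Agent.S18767

/-- Let k be a perfect field of characteristic p > 0, C a smooth, proper and integral curve over k (of
dimension one), and E a finite locally free O_C-module of rank r ≥ 1. Then E is Nori-semistable —
its pull-back along every non-constant k-morphism D → C from a smooth proper integral curve over k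
is slope-semistable of degree 0 (degree = χ − rank·χ(O)) — if and only if E is strongly semistable
of degree 0: deg E = 0 and for every n ≥ 0 the n-fold iterated pull-back of E by the absolute
Frobenius endomorphism of C is slope-semistable as an O_C-module of rank r. (The published statement
is over any field of characteristic p and uses the relative Frobenius; this row assumes k perfect
and uses the absolute Frobenius, whose iterated pull-backs are the same O_C-modules.) -/
theorem result
    (p : ℕ) [Fact p.Prime] (k : Type u) [Field k] [CharP k p] [PerfectField k]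
    (C : Scheme.{u}) [C.Over (Spec (CommRingCat.of k))] [AlgebraicGeometry.IsIntegral C]
    [IsProper (C ↘ Spec (CommRingCat.of k))] [Smooth (C ↘ Spec (CommRingCat.of k))]
    (hdim : topologicalKrullDim C = 1) [FrobSch.IsCharP C p]
    (r : ℕ) (hr : 0 < r) (E : C.Modules) (hE : FlatMod.IsFinLocFreeOfRank r E) :
    (∀ (D : Scheme.{u}) [D.Over (Spec (CommRingCat.of k))], AlgebraicGeometry.IsIntegral D →
      IsProper (D ↘ Spec (CommRingCat.of k)) → Smooth (D ↘ Spec (CommRingCat.of k)) → topologicalKrullDim D = 1 →
      ∀ (γ : D ⟶ C), γ ≫ (C ↘ Spec (CommRingCat.of k)) = D ↘ Spec (CommRingCat.of k) →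
      (Set.range γ.base).Nontrivial →
      ModFun.IsSlopeSemistable k D ((Scheme.Modules.pullback γ).obj E) r ∧
        Curv2.deg k D ((Scheme.Modules.pullback γ).obj E) r = 0) ↔
    (Curv2.deg k C E r = 0 ∧
      ∀ n : ℕ, ModFun.IsSlopeSemistable k C (((Scheme.Modules.pullback (FrobSch.frob C p)).obj)^[n] E) r) := by
  have cC : K707.Base.Crv k C := K707.Base.Crv.of_smooth hdim
  have hvb := K707.Base.isFinLocFree_of_rank hE
  constructor
  · intro H
    obtain ⟨y, hy⟩ := CurvesA.CurveDvr.exists_ne_genericPoint hdim
    have key : ∀ n : ℕ, ModFun.IsSlopeSemistable k C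
        ((Scheme.Modules.pullback (FrobSch.frobIter C p n)).obj E) r ∧
        Curv2.deg k C ((Scheme.Modules.pullback (FrobSch.frobIter C p n)).obj E) r = 0 := by
      intro n
      have hiso := K708.Strong.isIso_frobIter_spec (k := k) p n
      have hpr : IsProper ((C ↘ Spec (CommRingCat.of k)) ≫ FrobSch.frobIter (Spec (CommRingCat.of k)) p n) :=
        inferInstance
      have hsm : Smooth ((C ↘ Spec (CommRingCat.of k)) ≫ FrobSch.frobIter (Spec (CommRingCat.of k)) p n) :=
        inferInstance
      have h1 := @H C ⟨(C ↘ Spec (CommRingCat.of k)) ≫ FrobSch.frobIter (Spec (CommRingCat.of k)) p n⟩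
        inferInstance hpr hsm hdim (FrobSch.frobIter C p n)
        (K818.Tower.frobIter_naturality (C ↘ Spec (CommRingCat.of k)) n)
        ⟨genericPoint C, ⟨genericPoint C, K708.Strong.frobIter_apply p n _⟩, y,
          ⟨y, K708.Strong.frobIter_apply p n _⟩, hy.symm⟩
      exact ⟨(K708.TwistK.iss_twist (C ↘ Spec (CommRingCat.of k)) _ _ r).mp h1.1,
        (K708.TwistK.deg_twist (C ↘ Spec (CommRingCat.of k)) _ _ r).symm.trans h1.2⟩
    have hr : ∀ n : ℕ, FlatMod.IsFinLocFreeOfRank r
        ((Scheme.Modules.pullback (FrobSch.frobIter C p n)).obj E) :=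
      fun n => K708.FrobPull.rank_pull _ hE
    refine ⟨?_, fun n => ?_⟩
    · have h1 := (key 0).2
      have e : (Scheme.Modules.pullback (FrobSch.frobIter C p 0)).obj E ≅ E := (Scheme.Modules.pullbackId C).app E
      rw [← K707.Deg.dg_of_rank k (hr 0), K707.Deg.dg_iso k e, K707.Deg.dg_of_rank k hE] at h1
      exact h1
    · obtain ⟨e⟩ := K708.Strong.nonempty_iter_iso p n E
      have h1 := (K707.Semi.ss_iff cC (hr n)).mpr (key n).1
      have h2 := K708.PullGal.ss_iso e.symm h1
      have h3 : FlatMod.IsFinLocFreeOfRank r (((Scheme.Modules.pullback (FrobSch.frob C p)).obj)^[n] E) := by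
        have h4 := K707.Base.isFinLocFreeOfRank_rk (K708.FrobPull.iter_vb p n hvb)
        rwa [K708.FrobPull.iter_rk p n hvb, K707.Base.rk_of_rank hE] at h4
      exact (K707.Semi.ss_iff cC h3).mp h2
  · rintro ⟨hdeg, hss⟩ D _ _ _ _ hdimD γ hγ hnt
    have cD : K707.Base.Crv k D := K707.Base.Crv.of_smooth hdimD
    have hdom := K456.FlatCurve.isDominant_of_nontrivial γ hdim.le hnt
    have hγη := K705.GenGal.map_genericPoint γ
    have hfin := S7640.isFinite_of_nonconstant k D C hdimD hdim γ hγ hγη
    obtain ⟨n, h⟩ := K708.PullGal.exists_isCov γ hγ cD cC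
    have h1 := K708.Strong.ss_pull_of_strong p h hγη hvb (fun m => by
      obtain ⟨e⟩ := K708.Strong.nonempty_iter_iso p m E
      refine K708.PullGal.ss_iso e ?_
      have h3 : FlatMod.IsFinLocFreeOfRank r (((Scheme.Modules.pullback (FrobSch.frob C p)).obj)^[m] E) := by
        have h4 := K707.Base.isFinLocFreeOfRank_rk (K708.FrobPull.iter_vb p m hvb)
        rwa [K708.FrobPull.iter_rk p m hvb, K707.Base.rk_of_rank hE] at h4
      exact (K707.Semi.ss_iff cC h3).mpr (hss m))
    have hr : FlatMod.IsFinLocFreeOfRank r ((Scheme.Modules.pullback γ).obj E) := K708.FrobPull.rank_pull _ hE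
    refine ⟨(K707.Semi.ss_iff cD hr).mp h1, ?_⟩
    rw [← K707.Deg.dg_of_rank k hr, h.dg_pull hvb, K707.Deg.dg_of_rank k hE, hdeg, mul_zero]

end Groth.Agent.S18767
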