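import Groth.Statements.S18768
import Groth.Agent.TFNodal.K977.UnitOn
import Groth.Agent.TFNodal.K977.NodeNorm

set_option autoImplicit false
universe u
open CategoryTheory CategoryTheory.Limits AlgebraicGeometry
open TFNodal

namespace Groth.Agent.S18768

/-- Let k be algebraically closed of characteristic zero, X a connected proper curve over k (dimension
one) whose closed points are smooth points or nodes, and π : Y → X its normalization, given here as
a finite morphism from a smooth k-scheme that is an isomorphism over the complement U of the nodes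
with dense preimage of U. Let F be a coherent O_X-module that is torsion free of rank r with type
a(x) at each node x: its stalk is free of rank r at every point that is not a node and isomorphic to
O_x^{a(x)} ⊕ m_x^{r − a(x)} at each node x. Then the unit F → π_*π^*F is a monomorphism, its
cokernel has stalk of length 2r − a(x) at every node x, and zero stalk at every other point (so the
cokernel is a torsion module of total length Σ (2r − a(x)) over the nodes). The published statement
gives only the total length Σ (2r − a(x)) over the nodes; the statement here gives the length at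
each node, which is what the published proof computes. -/
theorem result (k : Type u) [Field k] [IsAlgClosed k] [CharZero k]
    (X : Scheme.{u}) [X.Over (Spec (CommRingCat.of k))] [IsProper (X ↘ Spec (CommRingCat.of k))]
    [ConnectedSpace X] (hdim : topologicalKrullDim X = 1) (hnod : Curv2.AtWorstNodal k X)
    (Y : Scheme.{u}) (π : Y ⟶ X) [IsFinite π] [Smooth (π ≫ (X ↘ Spec (CommRingCat.of k)))]
    (U : X.Opens) (hU : ∀ x : X, x ∈ U ↔ ¬ Curv2.IsNode k X x) (hUiso : IsIso (π ∣_ U))
    (hUd : Dense ((π ⁻¹ᵁ U : Y.Opens) : Set Y))
    (r : ℕ) (F : X.Modules) (hF : Coh.IsCoh F) (a : X → ℕ)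
    (hfree : ∀ x : X, ¬ Curv2.IsNode k X x →
      Nonempty (F.presheaf.stalk x ≃ₗ[X.presheaf.stalk x] (Fin r → X.presheaf.stalk x)))
    (htype : ∀ x : X, Curv2.IsNode k X x → a x ≤ r ∧
      Nonempty (F.presheaf.stalk x ≃ₗ[X.presheaf.stalk x]
        ((Fin (a x) → X.presheaf.stalk x) × (Fin (r - a x) → IsLocalRing.maximalIdeal (X.presheaf.stalk x))))) :
    Mono ((Scheme.Modules.pullbackPushforwardAdjunction π).unit.app F) ∧
    (∀ x : X, Curv2.IsNode k X x →
      Module.length (X.presheaf.stalk x)
        ((cokernel ((Scheme.Modules.pullbackPushforwardAdjunction π).unit.app F)).presheaf.stalk x) = ((2 * r - a x : ℕ) : ℕ∞)) ∧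
    (∀ x : X, ¬ Curv2.IsNode k X x →
      Subsingleton ((cokernel ((Scheme.Modules.pullbackPushforwardAdjunction π).unit.app F)).presheaf.stalk x)) := by
  have hb : ∀ x : X, ¬ Curv2.IsNode k X x → Function.Bijective
      (Groth.Agent.CycB.StalkExact.stalkLin ((Scheme.Modules.pullbackPushforwardAdjunction π).unit.app F) x) := fun x hx =>
    K977.UnitOn.unit_bijective π F hF.1 U hUiso x ((hU x).2 hx)
  have hn : ∀ x : X, Curv2.IsNode k X x → Function.Injective
      (Groth.Agent.CycB.StalkExact.stalkLin ((Scheme.Modules.pullbackPushforwardAdjunction π).unit.app F) x) ∧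
      Module.length (X.presheaf.stalk x)
        ((cokernel ((Scheme.Modules.pullbackPushforwardAdjunction π).unit.app F)).presheaf.stalk x)
          = ((2 * r - a x : ℕ) : ℕ∞) := by
    intro x hx
    obtain ⟨B, i1, i2, i3, i4, hH, hlen, hE⟩ :=
      K977.NodeNorm.exists_node_block k X hdim.le hnod Y π U hU hUiso hUd x hx
    obtain ⟨e, he⟩ := hE F hF.1
    obtain ⟨har, ⟨φ⟩⟩ := htype x hx
    have hNX : IsLocallyNoetherian X :=
      LocallyOfFiniteType.isLocallyNoetherian (X ↘ Spec (CommRingCat.of k))
    have hlm := K977.NodeLen.length_eq_two (K977.NodeNorm.nodeLike k X hx)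
    have key : (Groth.Agent.CycB.StalkExact.stalkLin ((Scheme.Modules.pullbackPushforwardAdjunction π).unit.app F) x) =
        e.toLinearMap ∘ₗ K977.TypeAlg.inc (X.presheaf.stalk x) B (F.presheaf.stalk x) := by
      ext n
      exact (he n).symm
    refine ⟨?_, ?_⟩
    · rw [key]
      exact e.injective.comp (K977.TypeAlg.inc_injective hH φ)
    · rw [K977.UnitOn.length_coker]
      have h1 := K977.TypeAlg.length_coker_inc hH φ hlen hlm
      have e1 := Submodule.Quotient.equiv
        (LinearMap.range (K977.TypeAlg.inc (X.presheaf.stalk x) B (F.presheaf.stalk x)))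
        (LinearMap.range
          (Groth.Agent.CycB.StalkExact.stalkLin ((Scheme.Modules.pullbackPushforwardAdjunction π).unit.app F) x)) e (by
            rw [key, LinearMap.range_comp])
      rw [← e1.length_eq, h1]
      have h2 : 2 * r - a x = a x + 2 * (r - a x) := by omega
      rw [h2]
      push_cast
      rfl
  refine ⟨?_, fun x hx => (hn x hx).2, fun x hx => ?_⟩
  · apply Groth.Agent.Dcoh.StalkMod.mono_of_injective
    intro x
    by_cases hx : Curv2.IsNode k X x
    · exact (hn x hx).1
    · exact (hb x hx).1
  · exact K977.UnitOn.subsingleton_coker _ x (hb x hx).2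

end Groth.Agent.S18768
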