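import Groth.Statements.S18769
import Groth.Agent.S18768
import Groth.Agent.TFNodal.K977.SubE
import Groth.Agent.TFNodal.K774.Main

set_option autoImplicit false
universe u
open CategoryTheory CategoryTheory.Limits AlgebraicGeometry
open TFNodal

namespace Groth.Agent.S18769

/-- Let k be algebraically closed of characteristic zero, X a connected proper curve over k (dimension
one) whose closed points are smooth points or nodes, and π : Y → X its normalization, given as a
finite morphism from a smooth k-scheme that is an isomorphism over the complement U of the nodes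
with dense preimage of U; let F be a coherent O_X-module, torsion free of rank r with type a(x) at
each node x (stalk free of rank r off the nodes, isomorphic to O_x^{a(x)} ⊕ m_x^{r − a(x)} at a node
x). Write D ⊂ Y for the reduced closed subscheme on the preimage of the nodes. Then there are a
locally free O_Y-module E of rank r and a quotient q : π_*(E ⊗ O_D) → Q, with Q having zero stalks
off the nodes and total length r · (number of nodes) over the nodes, such that F is isomorphic to
the kernel of the composite π_*E → π_*(E ⊗ O_D) → Q (existence of such an isomorphism). -/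
theorem result (k : Type u) [Field k] [IsAlgClosed k] [CharZero k]
    (X : Scheme.{u}) [X.Over (Spec (CommRingCat.of k))] [IsProper (X ↘ Spec (CommRingCat.of k))]
    [ConnectedSpace X] (hdim : topologicalKrullDim X = 1) (hnod : Curv2.AtWorstNodal k X)
    (Y : Scheme.{u}) (π : Y ⟶ X) [IsFinite π] [Smooth (π ≫ (X ↘ Spec (CommRingCat.of k)))]
    (U : X.Opens) (hU : ∀ x : X, x ∈ U ↔ ¬ Curv2.IsNode k X x) (hUiso : IsIso (π ∣_ U))
    (hUd : Dense ((π ⁻¹ᵁ U : Y.Opens) : Set Y))
    (r : ℕ) (F : X.Modules) (hF : Coh.IsCoh F) (a : X → ℕ)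
    (hfree : ∀ x : X, ¬ Curv2.IsNode k X x →
      Nonempty (F.presheaf.stalk x ≃ₗ[X.presheaf.stalk x] (Fin r → X.presheaf.stalk x)))
    (htype : ∀ x : X, Curv2.IsNode k X x → a x ≤ r ∧
      Nonempty (F.presheaf.stalk x ≃ₗ[X.presheaf.stalk x]
        ((Fin (a x) → X.presheaf.stalk x) × (Fin (r - a x) → IsLocalRing.maximalIdeal (X.presheaf.stalk x))))) :
    ∃ (E : Y.Modules), FlatMod.IsFinLocFreeOfRank r E ∧
      ∃ (Q : X.Modules) (q : (Scheme.Modules.pushforward π).obj
          (ParSh.resD (Scheme.IdealSheafData.vanishingIdeal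
            ⟨closure (π.base ⁻¹' {x : X | Curv2.IsNode k X x}), isClosed_closure⟩) E) ⟶ Q),
        Epi q ∧
        (∀ x : X, ¬ Curv2.IsNode k X x → Subsingleton (Q.presheaf.stalk x)) ∧
        (∑ᶠ x ∈ {x : X | Curv2.IsNode k X x},
            (Module.length (X.presheaf.stalk x) (Q.presheaf.stalk x)).toNat) = r * Nat.card {x : X // Curv2.IsNode k X x} ∧
        Nonempty (F ≅ kernel ((Scheme.Modules.pushforward π).map
            ((SecTwist.unitorR E).inv ≫ KoszTw.tensorMap (𝟙 E) (ClSub.toSubscheme
              (Scheme.IdealSheafData.vanishingIdeal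
                ⟨closure (π.base ⁻¹' {x : X | Curv2.IsNode k X x}), isClosed_closure⟩))) ≫ q)) := by
  classical
  have hNX : IsLocallyNoetherian X :=
    LocallyOfFiniteType.isLocallyNoetherian (X ↘ Spec (CommRingCat.of k))
  have hN : IsNoetherian X :=
    Groth.Agent.Models.H58.NodalGlueGeo.isNoetherian (X ↘ Spec (CommRingCat.of k))
  have hR := K977.NodeNorm.isReduced k X hnod
  let S : Set X := {x | Curv2.IsNode k X x}
  have hScl : IsClosed S := by
    have : S = (U : Set X)ᶜ := by
      ext x
      exact ⟨fun h h' => (hU x).1 h' h, fun h => not_not.1 fun h' => h ((hU x).2 h')⟩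
    rw [this]
    exact U.2.isClosed_compl
  have hSf : S.Finite := Groth.Agent.Models.H58.NodalGlueGeo.finite_of_isClosed_singleton hScl
    fun x hx => hx.1
  obtain ⟨G, j, hG, hj, hjb, hjE⟩ := K977.HomLat.exists_hull S hSf (fun x hx => hx.1) F hF r a
    (fun x hx b hb => K977.TFGeneric.eq_zero_of_smul_maximalIdeal
      (K977.NodeNorm.not_isField k X hx) b hb) hfree htype
  obtain ⟨E, ι, η, hE, hι, hcomm, hbij, hlen⟩ := K977.SubE.exists_sub k X hdim.le hnod Y π U hU hUiso hUd
    r F a G j hG hj hjb hjE
  have hGu := Groth.Agent.S18768.result k X hdim hnod Y π U hU hUiso hUd r G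
    (Groth.Agent.PerfA.CohSerre.isCoh_of_isFinLocFree fun x => by
      obtain ⟨W, hW, e⟩ := hG x
      exact ⟨W, r, hW, e⟩) (fun _ => r) (fun x _ => K977.TFNorm.exists_equiv_of_rank hG x) (fun x _ => by
        refine ⟨le_rfl, ?_⟩
        obtain ⟨e⟩ := K977.TFNorm.exists_equiv_of_rank hG x
        haveI : IsEmpty (Fin (r - r)) := by rw [Nat.sub_self]; infer_instance
        exact ⟨e.trans LinearEquiv.prodUnique.symm⟩)
  have hunit : ∀ x, Function.Injective (Groth.Agent.CycB.StalkExact.stalkLin
      ((Scheme.Modules.pullbackPushforwardAdjunction π).unit.app G) x) := fun x =>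
    haveI := hGu.1
    Groth.Agent.CycB.StalkExact.stalkLin_injective _ x
  refine ⟨E, hE, K774.Main.presentation k X hdim.le hnod Y π U hU hUiso hUd r F G hG j ?_ E ι η hE hι hcomm
    hunit hbij hlen⟩
  intro x hx g hg
  obtain ⟨φ, Eq, hφ⟩ := hjE x hx
  refine Submodule.smul_induction_on hg ?_ (fun _ _ => Submodule.add_mem _)
  intro s hs w _
  obtain ⟨n, hn⟩ := K977.LatAlg.exists_emb φ s hs (Eq w)
  refine ⟨n, Eq.injective ?_⟩
  rw [hφ, hn, map_smul]


end Groth.Agent.S18769
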