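import Groth.Statements.S18771
import Groth.Agent.TFNodal.K977.HomLat
import Groth.Agent.TFNodal.K977.NodeNorm

set_option autoImplicit false
universe u
open CategoryTheory CategoryTheory.Limits AlgebraicGeometry
open TFNodal

namespace Groth.Agent.S18771

/-- Let k be algebraically closed of characteristic zero, X a connected proper curve over k (dimension
one) whose closed points are smooth points or nodes, and π : Y → X its normalization, given as a
finite morphism from a smooth k-scheme that is an isomorphism over the complement U of the nodes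
with dense preimage of U; let F be a coherent O_X-module, torsion free of rank r with type a(x) at
each node x (stalk free of rank r off the nodes, isomorphic to O_x^{a(x)} ⊕ m_x^{r − a(x)} at a node
x). Then there are a locally free O_X-module G of rank r and a monomorphism j : F → G whose cokernel
has zero stalk off the nodes and, at each node x, stalk annihilated by the maximal ideal m_x and of
length r − a(x) (so G/F is the direct sum over the nodes of k(x)^{r − a(x)}). -/
theorem result (k : Type u) [Field k] [IsAlgClosed k] [CharZero k]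
    (X : Scheme.{u}) [X.Over (Spec (CommRingCat.of k))] [IsProper (X ↘ Spec (CommRingCat.of k))]
    [ConnectedSpace X] (hdim : topologicalKrullDim X = 1) (hnod : Curv2.AtWorstNodal k X)
    (Y : Scheme.{u}) (π : Y ⟶ X) [IsFinite π] [Smooth (π ≫ (X ↘ Spec (CommRingCat.of k)))]
    (U : X.Opens) (hU : ∀ x : X, x ∈ U ↔ ¬ Curv2.IsNode k X x) (hUiso : IsIso (π ∣_ U))
    (hUd : Dense ((π ⁻¹ᵁ U : Y.Opens) : Set Y))
    (r : ℕ) (F : X.Modules) (hF : Coh.IsCoh F) (a : X → ℕ)
    (hfree : ∀ x : X, ¬ Curv2.IsNode k X x →
      Nonempty (F.presheaf.stalk x ≃ₗ[X.presheaf.stalk x] (Fin r → X.presheaf.stalk x)))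
    (htype : ∀ x : X, Curv2.IsNode k X x → a x ≤ r ∧
      Nonempty (F.presheaf.stalk x ≃ₗ[X.presheaf.stalk x]
        ((Fin (a x) → X.presheaf.stalk x) × (Fin (r - a x) → IsLocalRing.maximalIdeal (X.presheaf.stalk x))))) :
    ∃ (G : X.Modules) (j : F ⟶ G), FlatMod.IsFinLocFreeOfRank r G ∧ Mono j ∧
      (∀ x : X, ¬ Curv2.IsNode k X x → Subsingleton ((cokernel j).presheaf.stalk x)) ∧
      (∀ x : X, Curv2.IsNode k X x →
        IsLocalRing.maximalIdeal (X.presheaf.stalk x) • (⊤ : Submodule (X.presheaf.stalk x) ((cokernel j).presheaf.stalk x)) = ⊥ ∧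
        Module.length (X.presheaf.stalk x) ((cokernel j).presheaf.stalk x) = ((r - a x : ℕ) : ℕ∞)) := by
  have hNX : IsLocallyNoetherian X :=
    LocallyOfFiniteType.isLocallyNoetherian (X ↘ Spec (CommRingCat.of k))
  have hN : IsNoetherian X :=
    Groth.Agent.Models.H58.NodalGlueGeo.isNoetherian (X ↘ Spec (CommRingCat.of k))
  have hR := K977.NodeNorm.isReduced k X hnod
  let S : Set X := {x | Curv2.IsNode k X x}
  have hScl : IsClosed S := by
    have : S = (U : Set X)ᶜ := by
      ext x
      exact ⟨fun h h' => (hU x).1 h' h, fun h => not_not.1 fun h' => h ((hU x).2 h')⟩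
    rw [this]
    exact U.2.isClosed_compl
  have hSf : S.Finite := Groth.Agent.Models.H58.NodalGlueGeo.finite_of_isClosed_singleton hScl
    fun x hx => hx.1
  obtain ⟨G, j, hG, hj, hjb, hE⟩ := K977.HomLat.exists_hull S hSf (fun x hx => hx.1) F hF r a
    (fun x hx b hb => K977.TFGeneric.eq_zero_of_smul_maximalIdeal
      (K977.NodeNorm.not_isField k X hx) b hb) hfree htype
  refine ⟨G, j, hG, hj, fun x hx => K977.UnitOn.subsingleton_coker j x (hjb x hx).2,
    fun x hx => ?_⟩
  obtain ⟨φ, E, hφ⟩ := hE x hx
  obtain ⟨e⟩ := K977.UnitOn.nonempty_coker_equiv j x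
  have hmap : (LinearMap.range (Groth.Agent.CycB.StalkExact.stalkLin j x)).map
      E.toLinearMap = LinearMap.range (K977.LatAlg.emb φ) := by
    rw [← LinearMap.range_comp]
    congr 1
    ext n
    · exact congrFun (congrArg Prod.fst (hφ n)) _
    · exact congrFun (congrArg Prod.snd (hφ n)) _
  have e' := Submodule.Quotient.equiv _ _ E hmap
  refine ⟨?_, ?_⟩
  · rw [eq_bot_iff, Submodule.smul_le]
    intro s hs q _
    obtain ⟨q, rfl⟩ := e.surjective q
    obtain ⟨g, rfl⟩ := Submodule.Quotient.mk_surjective _ q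
    obtain ⟨n, hn⟩ := K977.LatAlg.exists_emb φ s hs (E g)
    rw [Submodule.mem_bot, ← map_smul, ← Submodule.Quotient.mk_smul]
    have h1 : s • g = Groth.Agent.CycB.StalkExact.stalkLin j x n := by
      apply E.injective
      rw [map_smul, hφ, hn]
    have h2 : (Submodule.Quotient.mk (Groth.Agent.CycB.StalkExact.stalkLin j x n) :
        G.presheaf.stalk x ⧸ LinearMap.range (Groth.Agent.CycB.StalkExact.stalkLin j x)) = 0 :=
      (Submodule.Quotient.mk_eq_zero _).2 ⟨n, rfl⟩
    rw [h1, h2, map_zero]
  · rw [← e.length_eq, e'.length_eq, K977.LatAlg.length_quot_emb]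

end Groth.Agent.S18771
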