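import Groth.Statements.S18777
import Groth.Agent.VBCurve.K708.FrobTens

set_option autoImplicit false
universe u
open CategoryTheory CategoryTheory.Limits AlgebraicGeometry
open VBCurve

namespace Groth.Agent.S18777

/-- Let k be a finite field and C a smooth proper geometrically integral curve over k (proper, smooth
and geometrically integral over k, of dimension one) of genus one, i.e. dim_k H^1(C, O_C) = 1, with
a k-rational point O (an elliptic curve over k). Let F and F' be finite locally free O_C-modules of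
ranks r ≥ 1 and s ≥ 1 such that F is semistable in the sense that deg G · rk F ≤ deg F · rk G for
every finite locally free submodule G of F of positive rank (the degree of a rank-n locally free
module being χ − n·χ(O_C)), and likewise for F'. Then the tensor product F ⊗ F' (finite locally free
of rank r·s) is semistable in the same sense: deg G · r s ≤ deg (F ⊗ F') · t for every finite
locally free submodule G of F ⊗ F' of rank t ≥ 1. -/
theorem result (k : Type u) [Field k] [Finite k] (X : Scheme.{u}) [X.Over (Spec (CommRingCat.of k))]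
    [IsProper (X ↘ Spec (CommRingCat.of k))] [Smooth (X ↘ Spec (CommRingCat.of k))]
    [GeometricallyIntegral (X ↘ Spec (CommRingCat.of k))] (hdim : topologicalKrullDim ↥X = 1)
    (hg : Curv2.genus k X = 1) (O : Spec (CommRingCat.of k) ⟶ X) (hO : O ≫ (X ↘ Spec (CommRingCat.of k)) = 𝟙 _)
    (F F' : X.Modules) (r s : ℕ) (hr : 0 < r) (hs : 0 < s)
    (hF : FlatMod.IsFinLocFreeOfRank r F) (hF' : FlatMod.IsFinLocFreeOfRank s F')
    (hFss : (∀ (G : X.Modules) (r' : ℕ) (i : G ⟶ F), Mono i → 0 < r' → FlatMod.IsFinLocFreeOfRank r' G →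
      Curv2.deg k X G r' * (r : ℤ) ≤ Curv2.deg k X F r * (r' : ℤ)))
    (hF'ss : (∀ (G : X.Modules) (r' : ℕ) (i : G ⟶ F'), Mono i → 0 < r' → FlatMod.IsFinLocFreeOfRank r' G →
      Curv2.deg k X G r' * (s : ℤ) ≤ Curv2.deg k X F' s * (r' : ℤ)))
    (hT : FlatMod.IsFinLocFreeOfRank (r * s) (CohB1.tensorMod F F')) :
    (∀ (G : X.Modules) (r' : ℕ) (i : G ⟶ (CohB1.tensorMod F F')), Mono i → 0 < r' → FlatMod.IsFinLocFreeOfRank r' G →
      Curv2.deg k X G r' * ((r * s) : ℤ) ≤ Curv2.deg k X (CohB1.tensorMod F F') (r * s) * (r' : ℤ)) := by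
  have hint : IsIntegral X := K708.Coho.isIntegral_of_geomInt k
  have C : K707.Base.Crv k X := K707.Base.Crv.of_smooth hdim
  obtain ⟨D⟩ := K703.Duality.nonempty_dualizing k X hdim
  have h0 := K708.Coho.finrank_h0_structure k (X := X)
  obtain ⟨p, hp⟩ := CharP.exists k
  have hprime : Fact p.Prime := ⟨(CharP.char_is_prime_or_zero k p).resolve_right (CharP.char_ne_zero_of_finite k p)⟩
  have hX : FrobSch.IsCharP X p := FrobSch.IsCharP.of_hom (X ↘ Spec (CommRingCat.of k)) p
  obtain ⟨d, hd, hdx, hker⟩ := K708.Deriv.exists_deriv (k := k) (X := X) p hdim h0 hg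
  have h := K708.FrobTens.ss_tensor p C D h0 hg O hO
    (fun E hE hss => K708.FrobSS.ss_frob p C d hd hdx hker hE hss)
    (K707.Base.isFinLocFree_of_rank hF) (K707.Base.isFinLocFree_of_rank hF')
    (by rwa [K707.Base.rk_of_rank hF]) (by rwa [K707.Base.rk_of_rank hF'])
    ((K707.Semi.ss_iff C hF).mpr hFss) ((K707.Semi.ss_iff C hF').mpr hF'ss)
  have h2 := (K707.Semi.ss_iff C hT).mp h
  intro G r' i hi hr' hG
  have h3 := h2 G r' i hi hr' hG
  exact_mod_cast h3

end Groth.Agent.S18777
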