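import Groth.Statements.S18784
import Groth.Agent.Curves.K314.DualGG
import Groth.Agent.AbVar.K817.VeryAmple
import Groth.Agent.S3637
import Groth.Agent.S1534
import Groth.Agent.S1536
import Groth.Agent.CurvesC.DualRep
import Groth.Agent.CurvesC.DualEuler
import Groth.Agent.Fga.SnapperTwist
import Groth.Agent.Fga.HShift
import Groth.Agent.CurvesC.DegIso

set_option autoImplicit false
universe u
open CategoryTheory CategoryTheory.Limits AlgebraicGeometry
attribute [local instance] HasDerivedCategory.standard
open Curves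

namespace Groth.Agent.S18784

/-- Let k be a perfect field and X a proper scheme over k of dimension one which is geometrically
connected and geometrically reduced over k, Gorenstein with trivial dualizing sheaf: its dualizing
module ω_X (the degree −1 cohomology sheaf of f^! O for the structure morphism f, assuming Rf_* on
D_QCoh and its right adjoint exist) is isomorphic to O_X. Let D be an effective Cartier divisor on X
of positive degree, given here as an invertible module L = O_X(D) with a monomorphism s : O_X → L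
and deg L = χ(L) − χ(O_X) > 0. Then H^1(X, O_X(D)) = 0. (The first assertion of the lemma, H^0(X,
O_X) = k, is not restated.) -/
theorem result (k : Type u) [Field k] [PerfectField k]
    (X : Scheme.{u}) [X.Over (Spec (CommRingCat.of k))] [IsProper (X ↘ Spec (CommRingCat.of k))]
    [GeometricallyConnected (X ↘ Spec (CommRingCat.of k))] [GeometricallyReduced (X ↘ Spec (CommRingCat.of k))]
    (hdim : topologicalKrullDim ↥X = 1)
    [DCoh.HasRpush (X ↘ Spec (CommRingCat.of k))] (h : DCoh.RpushPreservesQCoh (X ↘ Spec (CommRingCat.of k))) [DCoh.HasShriek (X ↘ Spec (CommRingCat.of k)) h]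
    (OY : DCoh.DQCoh (Spec (CommRingCat.of k))) (hOY : Nonempty (OY.obj ≅ DCoh.inD (Spec (CommRingCat.of k)) (Coh.structureModule (Spec (CommRingCat.of k)))))
    (hω : Nonempty (DCoh.dualizingMod (X ↘ Spec (CommRingCat.of k)) h OY 1 ≅ Coh.structureModule X))
    (L : X.Modules) (hL : PicF.IsInvertible L) (s : Coh.structureModule X ⟶ L) [Mono s]
    (hdeg : 0 < Curv2.deg k X L 1) :
    Subsingleton (Coh.HH X L 1) := by
  have hN := K817.VeryAmple.isNoetherian k X
  have h0 := Groth.Agent.S1536.result k X
  obtain ⟨-, hCM, hequi⟩ := Groth.Agent.S1534.result k X hdim h0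
  obtain ⟨t, ht⟩ := Groth.Agent.CurvesC.DualRep.exists_isDual k X h OY hdim.le hOY
  obtain ⟨-, hc, hst⟩ := Groth.Agent.S3637.result k X (X ↘ (Spec (CommRingCat.of k))) hCM 1
    (fun Z hZ => hequi Z hZ) h _ (DCoh.shriekAdj (X ↘ (Spec (CommRingCat.of k))) h) OY hOY
  have h1w := Groth.Agent.CurvesC.DualEuler.finrank_one k X h OY hOY hdim.le hCM hequi
  rw [(Groth.Agent.CurvesC.HV.equiv k (Coh.structureModule X) 0).finrank_eq, h0] at h1w
  have hgen : ∀ ξ : X, Groth.Agent.CurvesB.SubH1.IsGen ξ → ξ ∈ CohB1.genLocus L s :=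
    fun ξ hξ => K314.RegPow.mem_genLocus_of_mono hL s hξ
  have hne : CohB1.genLocus L s ≠ ⊤ := by
    intro htop
    have := Groth.Agent.CurvesC.DegZeroSec512.isIso_of_genLocus_eq_top s htop
    have h1 : Curv2.euler k X L = Curv2.euler k X (Coh.structureModule X) :=
      Groth.Agent.CurvesC.DegIso.euler_congr k (asIso s).symm
    unfold Curv2.deg at hdeg
    rw [h1] at hdeg
    simp at hdeg
  have h2 := K314.DualGG.subsingleton_H1_of_section hdim.le ht hc h1w
    (fun x hx => not_subsingleton_iff_nontrivial.mpr (hst x).1 hx) hL s hgen hne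
    (Groth.Agent.Fga.SnapperTwist.isCoh_tensor' hL hc)
  obtain ⟨e⟩ := hω
  exact Groth.Agent.Fga.HShift.subsingleton_of_iso
    (Groth.Agent.Ega2.Tens.mapTIso (Iso.refl L) e ≪≫ Groth.Agent.Ega2.Tens.runit L) 1 h2

end Groth.Agent.S18784
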