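import Groth.Statements.S18785
import Groth.Agent.VBCurve.K709.G1

set_option autoImplicit false
universe u
open CategoryTheory CategoryTheory.Limits AlgebraicGeometry
open VBCurve

namespace Groth.Agent.S18785

/-- Let k be a finite field and C a smooth proper geometrically integral curve over k (proper, smooth
and geometrically integral over k, of dimension one) of genus one, i.e. dim_k H^1(C, O_C) = 1, with
a k-rational point O (an elliptic curve over k); finiteness of k matters. Let E be a finite locally
free O_C-module of rank 3 which is indecomposable (nonzero, no isomorphism with a direct sum of two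
nonzero modules) but not geometrically indecomposable (its pull-back to C_K splits into two nonzero
summands for some field extension K of k, taken in the universe of k), and let k₃ be a degree-3
field extension of k. Then the group of O_C-linear automorphisms of E is isomorphic to the unit
group k₃ˣ, the k-points of the Weil restriction of the multiplicative group from k₃ to k. (The
source states this for E semistable of slope 1; that restriction plays no role in the assertion or
its argument and is dropped here. The accompanying count of isomorphism classes is not restated.)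
(The published setting takes k of characteristic at least 5; the argument does not use this and the
row allows every finite field.) -/
theorem result (k : Type u) [Field k] [Finite k] (X : Scheme.{u}) [X.Over (Spec (CommRingCat.of k))]
    [IsProper (X ↘ Spec (CommRingCat.of k))] [Smooth (X ↘ Spec (CommRingCat.of k))]
    [GeometricallyIntegral (X ↘ Spec (CommRingCat.of k))] (hdim : topologicalKrullDim ↥X = 1)
    (hg : Curv2.genus k X = 1) (O : Spec (CommRingCat.of k) ⟶ X) (hO : O ≫ (X ↘ Spec (CommRingCat.of k)) = 𝟙 _)
    (E : X.Modules) (hE : FlatMod.IsFinLocFreeOfRank 3 E)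
    (hEi : (¬ IsZero E ∧ ∀ (E₁ E₂ : X.Modules), Nonempty (E ≅ E₁ ⊞ E₂) → IsZero E₁ ∨ IsZero E₂)) (hEng : (∃ (K : Type u) (_ : Field K) (_ : Algebra k K) (E₁ E₂ : (Curv2.bc k X K).Modules),
      ¬ IsZero E₁ ∧ ¬ IsZero E₂ ∧ Nonempty ((Scheme.Modules.pullback (Curv2.bcFst k X K)).obj E ≅ E₁ ⊞ E₂)))
    (k₃ : Type u) [Field k₃] [Algebra k k₃] (hk₃ : Module.finrank k k₃ = 3) :
    Nonempty (Aut E ≃* k₃ˣ) := by
  obtain ⟨d, s, hd, hds, H⟩ := K709.FDRank.exists_decomp k X E hE hEi hEng
  obtain rfl : d = 3 := by
    rcases Nat.Prime.eq_one_or_self_of_dvd Nat.prime_three d ⟨s, hds.symm⟩ with h | h <;> omega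
  obtain rfl : s = 1 := by omega
  obtain ⟨M, D, hM, hne, hpush, -, ρ, hρ⟩ := H k₃ hk₃
  have hfin : Module.Finite k k₃ := Module.finite_of_finrank_pos (by omega)
  have hfin3 : Finite k₃ := Module.finite_of_finite k
  let i1 := K709.G1.overBc k X k₃
  obtain ⟨c1, c2, c3, c4⟩ := K709.G1.bc_finite k X hdim k₃
  have hMi : ∀ i, PicF.IsInvertible (M i) := fun i => Groth.Agent.Ega2.QCohLocal.isFinLocFreeOfRank_one_iff.mp (hM i)
  obtain ⟨j, hj⟩ := Finite.exists_min (fun i => Curv2.deg k₃ (Curv2.bc k X k₃) (M i) 1)
  have h0 : ∀ a, a ≠ j → ∀ φ : M a ⟶ M j, φ = 0 := fun a ha φ =>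
    K709.G1.hom_eq_zero k₃ c4 (hMi a) (hMi j) (hj a) (hne a j ha) φ
  obtain ⟨a⟩ := hpush j
  have e1 : (E ⟶ E) ≃ (M j ⟶ M j) :=
    (a.homToEquiv).trans (((Scheme.Modules.pullbackPushforwardAdjunction (Curv2.bcFst k X k₃)).homEquiv E (M j)).symm.trans
      (K709.G1.homEquivOfDec D j h0))
  have e2 : Nat.card (End E) = Nat.card k₃ := by
    have h1 := Nat.card_congr e1
    rw [K709.G1.card_end k₃ (hMi j)] at h1
    exact h1
  have hfE : Finite (End E) := by
    apply Nat.finite_of_card_ne_zero
    rw [e2]
    exact Nat.card_pos.ne'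
  have hbij : Function.Bijective ρ := (Nat.bijective_iff_surjective_and_card ρ).mpr ⟨hρ, e2⟩
  let e3 : End E ≃+* k₃ := RingEquiv.ofBijective ρ hbij
  exact ⟨(Aut.unitsEndEquivAut E).symm.trans (Units.mapEquiv e3.toMulEquiv)⟩

end Groth.Agent.S18785
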