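import Groth.Statements.S18786
import Groth.Agent.VBCurve.K709.G1Deg
import Groth.Agent.VBCurve.K709.AutCount

set_option autoImplicit false
universe u
open CategoryTheory CategoryTheory.Limits AlgebraicGeometry
open VBCurve

namespace Groth.Agent.S18786

/-- Let k be a finite field and C a smooth proper geometrically integral curve over k (proper, smooth
and geometrically integral over k, of dimension one) of genus one, i.e. dim_k H^1(C, O_C) = 1, with
a k-rational point O (an elliptic curve over k); k is finite with q elements. Let G be a finite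
locally free O_C-module of rank 2 and degree 0 (the degree of a rank-n locally free module being χ −
n·χ(O_C)) which is indecomposable (nonzero, no isomorphism with a direct sum of two nonzero modules)
but not geometrically indecomposable (its pull-back to C_K splits into two nonzero summands for some
field extension K of k, taken in the universe of k), and put E = O_C ⊕ G. Then Aut(E) has exactly (q
− 1)(q² − 1) elements. (The accompanying bound on the number of isomorphism classes of such E is not
restated.) (The published setting takes k of characteristic at least 5; the argument does not use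
this and the row allows every finite field.) -/
theorem result (k : Type u) [Field k] [Finite k] (X : Scheme.{u}) [X.Over (Spec (CommRingCat.of k))]
    [IsProper (X ↘ Spec (CommRingCat.of k))] [Smooth (X ↘ Spec (CommRingCat.of k))]
    [GeometricallyIntegral (X ↘ Spec (CommRingCat.of k))] (hdim : topologicalKrullDim ↥X = 1)
    (hg : Curv2.genus k X = 1) (O : Spec (CommRingCat.of k) ⟶ X) (hO : O ≫ (X ↘ Spec (CommRingCat.of k)) = 𝟙 _)
    (G : X.Modules) (hG : FlatMod.IsFinLocFreeOfRank 2 G) (hdeg : Curv2.deg k X G 2 = 0)
    (hGi : (¬ IsZero G ∧ ∀ (E₁ E₂ : X.Modules), Nonempty (G ≅ E₁ ⊞ E₂) → IsZero E₁ ∨ IsZero E₂)) (hGng : (∃ (K : Type u) (_ : Field K) (_ : Algebra k K) (E₁ E₂ : (Curv2.bc k X K).Modules),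
      ¬ IsZero E₁ ∧ ¬ IsZero E₂ ∧ Nonempty ((Scheme.Modules.pullback (Curv2.bcFst k X K)).obj G ≅ E₁ ⊞ E₂))) :
    Nat.card (Aut (Coh.structureModule X ⊞ G)) = (Nat.card k - 1) * (Nat.card k ^ 2 - 1) := by
  have hint : IsIntegral X := GeometricallyIntegral.isIntegral_of_subsingleton (X ↘ Spec (CommRingCat.of k))
  obtain ⟨d, s, hd, hds, H⟩ := K709.FDRank.exists_decomp k X G hG hGi hGng
  obtain rfl : d = 2 := by
    rcases Nat.Prime.eq_one_or_self_of_dvd Nat.prime_two d ⟨s, hds.symm⟩ with h | h <;> omega
  obtain rfl : s = 1 := by omega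
  obtain ⟨l, _, _, hl⟩ := K709.FDRank.exists_field_of_degree k 2 (by norm_num)
  obtain ⟨M, D, hM, hne, hpush, -, ρ, hρ⟩ := H l hl
  have hfin : Module.Finite k l := Module.finite_of_finrank_pos (by omega)
  have hst : K707.Semi.St k G := K709.G1Deg.stable hdim hG hdeg l M D hM (hne 0 1 (by decide)) hpush
  obtain ⟨eG⟩ := K709.G1.nonempty_ringEquiv_of_decomp k X hdim (by norm_num) l hl M D hM hne hpush ρ hρ
  obtain ⟨eO⟩ := K709.G1.nonempty_ringEquiv_end k (X := X) Groth.Agent.Fdesc.LocGen.isInvertible_structureModule
  have C : K707.Base.Crv k X := K707.Base.Crv.of_smooth hdim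
  have hOr : FlatMod.IsFinLocFreeOfRank 1 (Coh.structureModule X) :=
    Groth.Agent.Ega2.QCohLocal.isFinLocFreeOfRank_one_iff.mpr Groth.Agent.Fdesc.LocGen.isInvertible_structureModule
  have hdO : K707.Deg.dg k (Coh.structureModule X) = 0 := by
    rw [K707.Deg.dg_of_rank k hOr]
    unfold Curv2.deg
    push_cast
    ring
  have hrO := K707.Base.rk_of_rank hOr
  have hrG := K707.Base.rk_of_rank hG
  have hdG : K707.Deg.dg k G = 0 := by rw [K707.Deg.dg_of_rank k hG, hdeg]
  have hOv := K707.Base.isFinLocFree_of_rank hOr
  have hGv := K707.Base.isFinLocFree_of_rank hG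
  have hOst : K707.Semi.St k (Coh.structureModule X) := fun F i hi hF h0 h1 => by
    rw [hrO] at h1
    omega
  have hne' : ¬ Nonempty (Coh.structureModule X ≅ G) := fun ⟨a⟩ => by
    have := Groth.Agent.VarietyA.DegRank.rk_iso a
    omega
  have h1 : ∀ f : Coh.structureModule X ⟶ G, f = 0 := fun f => by
    by_contra hf
    have := hOst.isIso_of_ne_zero C hOv hst hGv (by rw [hdG, hdO]; simp) f hf
    exact hne' ⟨asIso f⟩
  have h2 : ∀ f : G ⟶ Coh.structureModule X, f = 0 := fun f => by
    by_contra hf
    have := hst.isIso_of_ne_zero C hGv hOst hOv (by rw [hdG, hdO]; simp) f hf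
    exact hne' ⟨(asIso f).symm⟩
  rw [K709.AutCount.card_aut_biprod h1 h2, K709.AutCount.card_aut_one k eO, K709.AutCount.card_aut_of_ringEquiv eG,
    Nat.card_units, Module.natCard_eq_pow_finrank (K := k) (V := l), hl]

end Groth.Agent.S18786
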