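import Groth.Statements.S18787
import Groth.Agent.VBCurve.K709.G1
import Groth.Agent.VBCurve.K709.AutCount

set_option autoImplicit false
universe u
open CategoryTheory CategoryTheory.Limits AlgebraicGeometry
open VBCurve

namespace Groth.Agent.S18787

/-- Let k be a finite field and C a smooth proper geometrically integral curve over k (proper, smooth
and geometrically integral over k, of dimension one) of genus one, i.e. dim_k H^1(C, O_C) = 1, with
a k-rational point O (an elliptic curve over k); k is finite with q elements. Let L₁ and L₂ be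
invertible O_C-modules of degree 0 (χ(L) − χ(O_C) = 0) and E = O_C ⊕ L₁ ⊕ L₂. Then the number of
automorphisms of E is: (q³ − 1)(q³ − q)(q³ − q²) if L₁ ≅ L₂ ≅ O_C; (q − 1)³ (q + 1) q if L₁ ≅ L₂ and
L₁ ≇ O_C; (q − 1)³ (q + 1) q if L₁ ≇ L₂ and L₂ ≅ O_C; and (q − 1)³ if O_C, L₁, L₂ are pairwise
non-isomorphic. (In the third case the published value is (q − 1)² q³, and the published computation
gives (q − 1)³ q²; but there E ≅ O_C ⊕ O_C ⊕ L₁ with L₁ of degree 0 and non-trivial, whose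
endomorphism ring is M₂(k) × k, so Aut(E) ≅ GL₂(k) × kˣ has (q − 1)³ (q + 1) q elements, the same
count as in the second case; the row states this corrected value.) (The published setting takes k of
characteristic at least 5; the argument does not use this and the row allows every finite field.) -/
theorem result (k : Type u) [Field k] [Finite k] (X : Scheme.{u}) [X.Over (Spec (CommRingCat.of k))]
    [IsProper (X ↘ Spec (CommRingCat.of k))] [Smooth (X ↘ Spec (CommRingCat.of k))]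
    [GeometricallyIntegral (X ↘ Spec (CommRingCat.of k))] (hdim : topologicalKrullDim ↥X = 1)
    (hg : Curv2.genus k X = 1) (O : Spec (CommRingCat.of k) ⟶ X) (hO : O ≫ (X ↘ Spec (CommRingCat.of k)) = 𝟙 _)
    (L₁ L₂ : X.Modules) (hL₁ : PicF.IsInvertible L₁) (hL₂ : PicF.IsInvertible L₂)
    (hd₁ : Curv2.deg k X L₁ 1 = 0) (hd₂ : Curv2.deg k X L₂ 1 = 0) :
    (Nonempty (L₁ ≅ Coh.structureModule X) → Nonempty (L₂ ≅ Coh.structureModule X) →
      Nat.card (Aut (Coh.structureModule X ⊞ L₁ ⊞ L₂)) =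
        (Nat.card k ^ 3 - 1) * (Nat.card k ^ 3 - Nat.card k) * (Nat.card k ^ 3 - Nat.card k ^ 2)) ∧
    (Nonempty (L₁ ≅ L₂) → ¬ Nonempty (L₁ ≅ Coh.structureModule X) →
      Nat.card (Aut (Coh.structureModule X ⊞ L₁ ⊞ L₂)) = (Nat.card k - 1) ^ 3 * (Nat.card k + 1) * Nat.card k) ∧
    (¬ Nonempty (L₁ ≅ L₂) → Nonempty (L₂ ≅ Coh.structureModule X) →
      Nat.card (Aut (Coh.structureModule X ⊞ L₁ ⊞ L₂)) = (Nat.card k - 1) ^ 3 * (Nat.card k + 1) * Nat.card k) ∧
    (¬ Nonempty (L₁ ≅ Coh.structureModule X) → ¬ Nonempty (L₂ ≅ Coh.structureModule X) → ¬ Nonempty (L₁ ≅ L₂) →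
      Nat.card (Aut (Coh.structureModule X ⊞ L₁ ⊞ L₂)) = (Nat.card k - 1) ^ 3) := by
  have hint : IsIntegral X := GeometricallyIntegral.isIntegral_of_subsingleton (X ↘ Spec (CommRingCat.of k))
  have hO1 : PicF.IsInvertible (Coh.structureModule X) := Groth.Agent.Fdesc.LocGen.isInvertible_structureModule
  have hdO : Curv2.deg k X (Coh.structureModule X) 1 = 0 := by
    unfold Curv2.deg
    push_cast
    ring
  -- endomorphism rings
  have he : ∀ {L : X.Modules}, PicF.IsInvertible L → Nonempty (k ≃+* End L) := fun hL =>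
    K709.G1.nonempty_ringEquiv_end k hL
  -- homs
  have h0 : ∀ {L L' : X.Modules}, PicF.IsInvertible L → PicF.IsInvertible L' → Curv2.deg k X L 1 = 0 →
      Curv2.deg k X L' 1 = 0 → ¬ Nonempty (L ≅ L') → ∀ φ : L ⟶ L', φ = 0 := fun hL hL' hd hd' hne φ =>
    K709.G1.hom_eq_zero k hdim hL hL' (by rw [hd, hd']) hne φ
  have hq : 1 ≤ Nat.card k := Nat.card_pos
  have hq2 : (Nat.card k ^ 2 - 1) * (Nat.card k ^ 2 - Nat.card k) * (Nat.card k - 1) =
      (Nat.card k - 1) ^ 3 * (Nat.card k + 1) * Nat.card k := by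
    obtain ⟨t, ht⟩ : ∃ t, Nat.card k = t + 1 := ⟨Nat.card k - 1, by omega⟩
    rw [ht]
    have e1 : (t + 1) ^ 2 - 1 = t * (t + 2) := by
      rw [Nat.sub_eq_iff_eq_add (Nat.one_le_pow _ _ (by omega))]; ring
    have e2 : (t + 1) ^ 2 - (t + 1) = t * (t + 1) := by
      rw [Nat.sub_eq_iff_eq_add (by nlinarith)]; ring
    rw [e1, e2, Nat.add_sub_cancel]
    ring
  obtain ⟨eO⟩ := he hO1
  obtain ⟨eL⟩ := he hL₁
  refine ⟨?_, ?_, ?_, ?_⟩
  · rintro ⟨a⟩ ⟨b⟩
    rw [K709.AutCount.card_aut_iso (biprod.mapIso (Iso.refl _) (biprod.mapIso a b)),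
      K709.AutCount.card_aut_three k eO]
  · rintro ⟨a⟩ hne
    have hne' : ¬ Nonempty (Coh.structureModule X ≅ L₁) := fun ⟨x⟩ => hne ⟨x.symm⟩
    rw [K709.AutCount.card_aut_iso (biprod.mapIso (Iso.refl (Coh.structureModule X)) (biprod.mapIso (Iso.refl L₁) a.symm)),
      K709.AutCount.card_aut_biprod, K709.AutCount.card_aut_one k eO, K709.AutCount.card_aut_two k eL, mul_comm, hq2]
    · intro f
      apply biprod.hom_ext
      · rw [zero_comp]; exact h0 hO1 hL₁ hdO hd₁ hne' _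
      · rw [zero_comp]; exact h0 hO1 hL₁ hdO hd₁ hne' _
    · intro f
      apply biprod.hom_ext'
      · rw [comp_zero]; exact h0 hL₁ hO1 hd₁ hdO hne _
      · rw [comp_zero]; exact h0 hL₁ hO1 hd₁ hdO hne _
  · rintro hne ⟨b⟩
    have hne1 : ¬ Nonempty (L₁ ≅ Coh.structureModule X) := fun ⟨x⟩ => hne ⟨x ≪≫ b.symm⟩
    have hne' : ¬ Nonempty (Coh.structureModule X ≅ L₁) := fun ⟨x⟩ => hne1 ⟨x.symm⟩
    let e1 : (Coh.structureModule X ⊞ L₁ ⊞ L₂) ≅ ((Coh.structureModule X ⊞ Coh.structureModule X) ⊞ L₁) :=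
      biprod.mapIso (Iso.refl _) (biprod.braiding _ _ ≪≫ biprod.mapIso b (Iso.refl _)) ≪≫ (biprod.associator _ _ _).symm
    rw [K709.AutCount.card_aut_iso e1,
      K709.AutCount.card_aut_biprod, K709.AutCount.card_aut_two k eO, K709.AutCount.card_aut_one k eL, hq2]
    · intro f
      apply biprod.hom_ext'
      · rw [comp_zero]; exact h0 hO1 hL₁ hdO hd₁ hne' _
      · rw [comp_zero]; exact h0 hO1 hL₁ hdO hd₁ hne' _
    · intro f
      apply biprod.hom_ext
      · rw [zero_comp]; exact h0 hL₁ hO1 hd₁ hdO hne1 _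
      · rw [zero_comp]; exact h0 hL₁ hO1 hd₁ hdO hne1 _
  · intro hne1 hne2 hne
    obtain ⟨eL2⟩ := he hL₂
    rw [K709.AutCount.card_aut_biprod, K709.AutCount.card_aut_biprod, K709.AutCount.card_aut_one k eO,
      K709.AutCount.card_aut_one k eL, K709.AutCount.card_aut_one k eL2]
    · ring
    · exact h0 hL₁ hL₂ hd₁ hd₂ hne
    · exact h0 hL₂ hL₁ hd₂ hd₁ fun ⟨x⟩ => hne ⟨x.symm⟩
    · intro f
      apply biprod.hom_ext
      · rw [zero_comp]; exact h0 hO1 hL₁ hdO hd₁ (fun ⟨x⟩ => hne1 ⟨x.symm⟩) _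
      · rw [zero_comp]; exact h0 hO1 hL₂ hdO hd₂ (fun ⟨x⟩ => hne2 ⟨x.symm⟩) _
    · intro f
      apply biprod.hom_ext'
      · rw [comp_zero]; exact h0 hL₁ hO1 hd₁ hdO hne1 _
      · rw [comp_zero]; exact h0 hL₂ hO1 hd₂ hdO hne2 _

end Groth.Agent.S18787
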