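import Groth.Statements.S18789
import Mathlib.RingTheory.Nakayama
import Mathlib.LinearAlgebra.Matrix.Adjugate
import Mathlib.RingTheory.GradedAlgebra.Basic

set_option autoImplicit false
universe u v w x
open TorusGr

namespace Groth.Agent.S18789

open DirectSum in
/-- Let `A` be a commutative algebra over a field `k`, graded by an additive commutative group `M` (for
`M` the character group of a split torus `T` this is a `T`-action on `Spec A`, and an `M`-graded
`A`-module is a `T`-equivariant quasi-coherent sheaf), let `P` be a finitely generated projective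
`A`-module with a compatible `M`-grading (a locally free `T`-sheaf of finite rank), and let `m` be a
homogeneous maximal ideal with residue field `k` (a `T`-fixed rational point). If homogeneous
elements `f i` of `P` reduce to a basis of `P/mP`, then there is a homogeneous `s ∉ m` such that
after inverting `s` the `f i` generate `P` and every relation among them is killed by a power of
`s`: on the invariant open `D(s)` the module is free on the homogeneous sections `f i`, with the
weights of the fibre `P/mP`. (The published statement has `M ≅ ℤ^r`, a split torus; here `M` is any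
additive commutative group, i.e. any diagonalizable group.) -/
theorem result
    {k : Type u} [Field k] {M : Type v} [AddCommGroup M] [DecidableEq M]
    {A : Type w} [CommRing A] [Algebra k A] (𝒜 : M → Submodule k A) [GradedAlgebra 𝒜]
    {P : Type x} [AddCommGroup P] [Module A P] [Module k P] [IsScalarTower k A P]
    (ℳ : M → Submodule k P) [Decomposition ℳ] [SetLike.GradedSMul 𝒜 ℳ]
    [Module.Finite A P] [Module.Projective A P]
    (m : Ideal A) [m.IsMaximal] (hm : m.IsHomogeneous 𝒜)
    (hrat : Function.Surjective (algebraMap k (A ⧸ m)))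
    {n : ℕ} (wt : Fin n → M) (f : Fin n → P) (hf : ∀ i, f i ∈ ℳ (wt i))
    (hli : LinearIndependent (A ⧸ m)
      (fun i => (Submodule.Quotient.mk (f i) : P ⧸ (m • (⊤ : Submodule A P)))))
    (hsp : Submodule.span A (Set.range f) ⊔ m • (⊤ : Submodule A P) = ⊤) :
    ∃ s : A, SetLike.IsHomogeneousElem 𝒜 s ∧ s ∉ m ∧
      (∀ p : P, ∃ (N : ℕ) (c : Fin n → A), s ^ N • p = ∑ i, c i • f i) ∧
      (∀ c : Fin n → A, ∑ i, c i • f i = 0 → ∃ N : ℕ, ∀ i, s ^ N * c i = 0) := by
  classical
  -- the component formula for `a • p` with `p` homogeneous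
  have hdec : ∀ (a : A) (j : M) (p : P), p ∈ ℳ j → ∀ i : M,
      (decompose ℳ (a • p) (i + j) : P) = (decompose 𝒜 a i : A) • p := by
    intro a j p hp i
    induction a using DirectSum.Decomposition.inductionOn 𝒜 with
    | zero => simp
    | @homogeneous l x =>
      have hx : (x : A) • p ∈ ℳ (l + j) := SetLike.GradedSMul.smul_mem x.2 hp
      by_cases hl : l = i
      · subst hl
        rw [decompose_of_mem_same ℳ hx, decompose_of_mem_same 𝒜 x.2]
      · rw [decompose_of_mem_ne ℳ hx (fun h => hl (add_right_cancel h)),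
          decompose_of_mem_ne 𝒜 x.2 hl, zero_smul]
    | add x y hx hy =>
      rw [add_smul, decompose_add, decompose_add, DirectSum.add_apply, DirectSum.add_apply,
        Submodule.coe_add, Submodule.coe_add, add_smul, hx, hy]
  have hdec' : ∀ (a : A) (j : M) (p : P), p ∈ ℳ j → ∀ i : M,
      (decompose ℳ (a • p) i : P) = (decompose 𝒜 a (i - j) : A) • p := by
    intro a j p hp i
    rw [← hdec a j p hp (i - j), sub_add_cancel]
  -- homogeneous elements of non-zero degree lie in `m`
  have hfix : ∀ i : M, i ≠ 0 → ∀ a ∈ 𝒜 i, a ∈ m := by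
    intro i hi a ha
    obtain ⟨c, hc⟩ := hrat (Ideal.Quotient.mk m a)
    have h1 : algebraMap k A c - a ∈ m := by
      rw [← Ideal.Quotient.eq]
      exact hc
    have h2 := hm i h1
    have h3 : (decompose 𝒜 (algebraMap k A c - a) i : A) = -a := by
      have h4 : (decompose 𝒜 (algebraMap k A c - a) i : A) =
          (decompose 𝒜 (algebraMap k A c) i : A) - (decompose 𝒜 a i : A) := by
        rw [decompose_sub]; rfl
      rw [h4, decompose_of_mem_ne 𝒜 (SetLike.algebraMap_mem_graded 𝒜 c) hi.symm,
        decompose_of_mem_same 𝒜 ha, zero_sub]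
    rw [h3] at h2
    exact neg_mem_iff.1 h2
  have hzero : ∀ s : A, s ∉ m → (decompose 𝒜 s 0 : A) ∉ m := by
    intro s hs h
    apply hs
    rw [← sum_support_decompose 𝒜 s]
    refine Submodule.sum_mem _ fun i _ => ?_
    by_cases hi : i = 0
    · rw [hi]; exact h
    · exact hfix i hi _ (SetLike.coe_mem _)
  -- Step 1: an element `t` outside `m` with `t • P ≤ span f`
  set N : Submodule A P := Submodule.span A (Set.range f) with hN
  obtain ⟨t, ht1, htN⟩ := Submodule.exists_sub_one_mem_and_smul_le_of_fg_of_le_sup
    (I := m) (N := N) (N' := ⊤) (P := ⊤) Module.Finite.fg_top le_rfl hsp.ge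
  have htm : t ∉ m := fun h => by
    apply (inferInstance : m.IsMaximal).ne_top
    rw [Ideal.eq_top_iff_one]
    have := m.sub_mem h ht1
    rwa [sub_sub_cancel] at this
  have htN' : ∀ p : P, t • p ∈ N := fun p => htN ⟨p, trivial, rfl⟩
  have hNhom : ∀ x ∈ N, ∀ i : M, (decompose ℳ x i : P) ∈ N := by
    intro x hx i
    have hx' : ∀ a : A, (decompose ℳ (a • x) i : P) ∈ N := by
      refine Submodule.span_induction (p := fun x _ => ∀ a : A, (decompose ℳ (a • x) i : P) ∈ N)
        ?_ ?_ ?_ ?_ hx
      · rintro _ ⟨l, rfl⟩ a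
        rw [hdec' a (wt l) (f l) (hf l) i]
        exact N.smul_mem _ (Submodule.subset_span ⟨l, rfl⟩)
      · intro a
        rw [smul_zero, decompose_zero]
        exact N.zero_mem
      · intro x y _ _ hx hy a
        rw [smul_add, decompose_add, DirectSum.add_apply, Submodule.coe_add]
        exact N.add_mem (hx a) (hy a)
      · intro r x _ hx a
        rw [smul_smul]
        exact hx _
    have := hx' 1
    rwa [one_smul] at this
  set t0 : A := (decompose 𝒜 t 0 : A) with ht0
  have ht0N : ∀ p : P, t0 • p ∈ N := by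
    intro p
    rw [← sum_support_decompose ℳ p, Finset.smul_sum]
    refine Submodule.sum_mem _ fun j _ => ?_
    have h := hNhom _ (htN' (decompose ℳ p j : P)) (0 + j)
    rwa [hdec t j _ (SetLike.coe_mem _) 0] at h
  -- Step 2: the lift
  let Fm : (Fin n → A) →ₗ[A] P := Fintype.linearCombination A f
  have hFm : ∀ c : Fin n → A, Fm c = ∑ i, c i • f i := fun c => rfl
  have hrange : LinearMap.range Fm = N := by
    rw [hN, ← Fintype.range_linearCombination]
  let tl : P →ₗ[A] LinearMap.range Fm :=
    LinearMap.codRestrict _ (t0 • LinearMap.id) (fun p => by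
      rw [hrange]; exact ht0N p)
  obtain ⟨G, hG⟩ := Module.projective_lifting_property Fm.rangeRestrict tl
    Fm.surjective_rangeRestrict
  have hG' : ∀ p : P, ∑ i, (G p) i • f i = t0 • p := by
    intro p
    have := congrArg Subtype.val (LinearMap.congr_fun hG p)
    exact this
  -- Step 3: the determinant
  let Γ : Matrix (Fin n) (Fin n) A := fun l i => G (f l) i
  have hΓ : ∀ l i, Γ l i - (if l = i then t0 else 0) ∈ m := by
    intro l i
    have h1 : ∑ i, (Γ l i - (if l = i then t0 else 0)) • f i = 0 := by
      simp only [sub_smul, Finset.sum_sub_distrib]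
      rw [sub_eq_zero]
      change ∑ i, (G (f l)) i • f i = _
      rw [hG']
      simp
    have h2 : ∑ i, Ideal.Quotient.mk m (Γ l i - (if l = i then t0 else 0)) •
        (Submodule.Quotient.mk (f i) : P ⧸ (m • (⊤ : Submodule A P))) = 0 := by
      have h3 := congrArg (Submodule.mkQ (m • (⊤ : Submodule A P))) h1
      rw [map_sum, map_zero] at h3
      exact h3
    have h4 := Fintype.linearIndependent_iff.1 hli _ h2 i
    exact Ideal.Quotient.eq_zero_iff_mem.1 h4
  set u : A := Γ.det with hu
  have hum : u ∉ m := by
    intro h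
    have h1 : Ideal.Quotient.mk m u = (Ideal.Quotient.mk m t0) ^ n := by
      rw [hu, RingHom.map_det]
      have h2 : (Ideal.Quotient.mk m).mapMatrix Γ =
          Matrix.diagonal (fun _ : Fin n => Ideal.Quotient.mk m t0) := by
        ext l i
        rw [RingHom.mapMatrix_apply, Matrix.map_apply, Matrix.diagonal_apply]
        have h3 := Ideal.Quotient.eq.2 (hΓ l i)
        rw [h3]
        split_ifs
        · rfl
        · exact map_zero _
      rw [h2, Matrix.det_diagonal, Finset.prod_const, Finset.card_univ, Fintype.card_fin]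
    rw [Ideal.Quotient.eq_zero_iff_mem.2 h] at h1
    have h2 : Ideal.Quotient.mk m t0 = 0 := eq_zero_of_pow_eq_zero h1.symm
    exact hzero t htm (Ideal.Quotient.eq_zero_iff_mem.1 h2)
  have hrel : ∀ c : Fin n → A, ∑ i, c i • f i = 0 → ∀ i, u * c i = 0 := by
    intro c hc
    have h1 : Matrix.vecMul c Γ = 0 := by
      ext i
      have h2 : G (∑ l, c l • f l) i = 0 := by rw [hc, map_zero]; rfl
      rw [map_sum, Finset.sum_apply] at h2
      simp only [map_smul, Pi.smul_apply, smul_eq_mul] at h2
      exact h2
    have h2 : Matrix.vecMul c (Γ * Γ.adjugate) = 0 := by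
      rw [← Matrix.vecMul_vecMul, h1, Matrix.zero_vecMul]
    rw [Matrix.mul_adjugate, Matrix.vecMul_smul, Matrix.vecMul_one] at h2
    intro i
    exact congrFun h2 i
  -- Step 4: homogeneous relations
  set u0 : A := (decompose 𝒜 u 0 : A) with hu0
  have hrel0 : ∀ c : Fin n → A, ∑ i, c i • f i = 0 → ∀ i, u0 * c i = 0 := by
    intro c hc l
    have h1 : ∀ d : M, ∑ i, (decompose 𝒜 (c i) (d - wt i) : A) • f i = 0 := by
      intro d
      have h2 : (decompose ℳ (∑ i, c i • f i) d : P) = 0 := by
        rw [hc, decompose_zero]; rfl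
      rw [decompose_sum, DirectSum.sum_apply, AddSubmonoidClass.coe_finsetSum] at h2
      rw [← h2]
      refine Finset.sum_congr rfl fun i _ => ?_
      rw [hdec' (c i) (wt i) (f i) (hf i) d]
    have h2 : ∀ e : M, u0 * (decompose 𝒜 (c l) e : A) = 0 := by
      intro e
      obtain ⟨d, rfl⟩ : ∃ d, e = d - wt l := ⟨e + wt l, (add_sub_cancel_right e (wt l)).symm⟩
      have h3 := hrel _ (h1 d) l
      have h4 : (decompose 𝒜 (u * (decompose 𝒜 (c l) (d - wt l) : A)) (0 + (d - wt l)) : A) = 0 := by
        rw [h3, decompose_zero]; rfl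
      rwa [coe_decompose_mul_add_of_right_mem 𝒜 (SetLike.coe_mem _)] at h4
    rw [← sum_support_decompose 𝒜 (c l), Finset.mul_sum]
    exact Finset.sum_eq_zero fun e _ => h2 e
  refine ⟨u0 * t0, ⟨0 + 0, SetLike.mul_mem_graded (SetLike.coe_mem _) (SetLike.coe_mem _)⟩, ?_, ?_,
    ?_⟩
  · intro h
    rcases (inferInstance : m.IsMaximal).isPrime.mem_or_mem h with h | h
    · exact hzero u hum h
    · exact hzero t htm h
  · intro p
    refine ⟨1, fun i => u0 * G p i, ?_⟩
    rw [pow_one, mul_smul, ← hG' p, Finset.smul_sum]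
    exact Finset.sum_congr rfl fun i _ => smul_smul _ _ _
  · intro c hc
    refine ⟨1, fun i => ?_⟩
    rw [pow_one, mul_comm u0 t0, mul_assoc, hrel0 c hc i, mul_zero]

end Groth.Agent.S18789
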