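import Groth.Statements.S18790

set_option autoImplicit false
universe u v w
open TorusGr

namespace Groth.Agent.S18790

/-- Let `A` be a commutative algebra over a field `k`, graded by an additive commutative group `M` (for
`M` the character group of a split torus `T`, a `T`-action on `Spec A`), let `J` be the ideal
generated by the homogeneous elements of non-zero degree (its zero locus is the fixed-point
subscheme) and let `m ⊇ J` be a maximal ideal with residue field `k` (a fixed rational point) at
which the fixed-point subscheme is the reduced point: `J` and `m` agree after localizing at `m`.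
Then the cotangent space `m/m²` has no part of weight zero: every degree-zero element of `m` lies in
`m²`. (The published statement has `M ≅ ℤ^r`, a split torus, and phrases the conclusion as the
non-vanishing of the weights of a semi-invariant basis of `m/m²`; here `M` is any additive
commutative group, i.e. any diagonalizable group.) -/
theorem result
    {k : Type u} [Field k] {M : Type v} [AddCommGroup M] [DecidableEq M]
    {A : Type w} [CommRing A] [Algebra k A] (𝒜 : M → Submodule k A) [GradedAlgebra 𝒜]
    (m : Ideal A) [m.IsMaximal] (hrat : Function.Surjective (algebraMap k (A ⧸ m)))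
    (hfix : ∀ i : M, i ≠ 0 → ∀ a ∈ 𝒜 i, a ∈ m)
    (hred : ∀ a ∈ m, ∃ s ∉ m, s * a ∈ Ideal.span {b : A | ∃ i : M, i ≠ 0 ∧ b ∈ 𝒜 i})
    {f : A} (hf0 : f ∈ 𝒜 0) (hfm : f ∈ m) : f ∈ m ^ 2 := by
  classical
  set J : Ideal A := Ideal.span {b : A | ∃ i : M, i ≠ 0 ∧ b ∈ 𝒜 i} with hJ
  -- degree-zero parts of elements of `J` lie in `m ^ 2`
  have hJ2 : ∀ x ∈ J, ∀ a : A, (DirectSum.decompose 𝒜 (a * x) 0 : A) ∈ m ^ 2 := by
    intro x hx
    refine Submodule.span_induction (p := fun x _ =>
      ∀ a : A, (DirectSum.decompose 𝒜 (a * x) 0 : A) ∈ m ^ 2) ?_ ?_ ?_ ?_ hx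
    · rintro b ⟨i, hi, hb⟩ a
      have h := DirectSum.coe_decompose_mul_add_of_right_mem 𝒜 (i := -i) (a := a) hb
      rw [neg_add_cancel] at h
      rw [h, pow_two]
      exact Ideal.mul_mem_mul (hfix (-i) (neg_ne_zero.2 hi) _ (SetLike.coe_mem _)) (hfix i hi b hb)
    · intro a
      rw [mul_zero, DirectSum.decompose_zero, DirectSum.zero_apply, ZeroMemClass.coe_zero]
      exact zero_mem _
    · intro x y _ _ hx hy a
      rw [mul_add, DirectSum.decompose_add, DirectSum.add_apply, Submodule.coe_add]
      exact add_mem (hx a) (hy a)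
    · intro r x _ hx a
      rw [smul_eq_mul, ← mul_assoc]
      exact hx _
  obtain ⟨s, hs, hsf⟩ := hred f hfm
  have h0 : (DirectSum.decompose 𝒜 s 0 : A) * f ∈ m ^ 2 := by
    have h := hJ2 _ hsf 1
    rwa [one_mul, DirectSum.coe_decompose_mul_of_right_mem_zero 𝒜 hf0] at h
  have hs0 : (DirectSum.decompose 𝒜 s 0 : A) ∉ m := by
    intro h
    apply hs
    rw [← DirectSum.sum_support_decompose 𝒜 s]
    refine Submodule.sum_mem _ fun i _ => ?_
    by_cases hi : i = 0
    · rw [hi]; exact h
    · exact hfix i hi _ (SetLike.coe_mem _)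
  obtain ⟨t, u, hu, htu⟩ := (inferInstance : m.IsMaximal).exists_inv hs0
  have hf : f = t * ((DirectSum.decompose 𝒜 s 0 : A) * f) + u * f := by
    rw [← mul_assoc, ← add_mul, htu, one_mul]
  rw [hf]
  refine add_mem (Ideal.mul_mem_left _ _ h0) ?_
  rw [pow_two]
  exact Ideal.mul_mem_mul hu hfm

end Groth.Agent.S18790
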