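import Groth.Statements.S18791
import Mathlib.RingTheory.Nakayama

set_option autoImplicit false
universe u v w x
open TorusGr

namespace Groth.Agent.S18791

/-- Let `φ : B → A` be a degree-preserving homomorphism of commutative algebras over a field `k` graded
by an additive commutative group `M` (for `M` the character group of a split torus, an equivariant
morphism `Spec A → Spec B`), and let `m` be a maximal ideal of `A` containing all homogeneous
elements of non-zero degree (a fixed point). Then the ideal of those `b` whose image is zero in the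
local ring `A_m` is homogeneous: the homogeneous (weight) components of such a `b` again die in
`A_m`. Since `A_m` embeds in its completion when `A` is Noetherian, these are the elements of `B`
that die in the completed local ring. (The published lemma asserts moreover that, for `B = k[Y_1, …,
Y_d]` mapping the `Y_i` to semi-invariant lifts of a basis of `m/m²`, the kernel of the induced
surjection of completions `k[[Y]] → Â_m` is generated by semi-invariant polynomials; generation of
that kernel by polynomials can fail, so only the statement about polynomial elements of the kernel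
is recorded here. The published statement has `M ≅ ℤ^r` (a split torus) and `B` the polynomial ring
on the lifts; here `M` is any additive commutative group and `B` any `M`-graded `k`-algebra.) -/
theorem result
    {k : Type u} [Field k] {M : Type v} [AddCommGroup M] [DecidableEq M]
    {A : Type w} [CommRing A] [Algebra k A] (𝒜 : M → Submodule k A) [GradedAlgebra 𝒜]
    {B : Type x} [CommRing B] [Algebra k B] (ℬ : M → Submodule k B) [GradedAlgebra ℬ]
    (φ : B →ₐ[k] A) (hφ : ∀ i : M, ∀ b ∈ ℬ i, φ b ∈ 𝒜 i)
    (m : Ideal A) [m.IsMaximal] (hfix : ∀ i : M, i ≠ 0 → ∀ a ∈ 𝒜 i, a ∈ m) :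
    (RingHom.ker ((algebraMap A (Localization.AtPrime m)).comp (φ : B →+* A))).IsHomogeneous ℬ := by
  classical
  set J : Ideal A := Ideal.span {b : A | ∃ i : M, i ≠ 0 ∧ b ∈ 𝒜 i} with hJ
  have hJm : J ≤ m := Ideal.span_le.2 (by rintro b ⟨i, hi, hb⟩; exact hfix i hi b hb)
  have hJh : J.IsHomogeneous 𝒜 := Ideal.homogeneous_span 𝒜 _ (by
    rintro b ⟨i, _, hb⟩; exact ⟨i, hb⟩)
  -- the main point: annihilation by an element outside `m` is inherited by the components
  have key : ∀ a s : A, s ∉ m → s * a = 0 → ∀ i : M,
      ∃ r : A, r ∉ m ∧ r * (DirectSum.decompose 𝒜 a i : A) = 0 := by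
    intro a s hs hsa
    set s0 : A := (DirectSum.decompose 𝒜 s 0 : A) with hs0def
    have hsub : s - s0 ∈ J := by
      rw [← DirectSum.sum_support_decompose 𝒜 (s - s0)]
      refine Submodule.sum_mem _ fun i _ => ?_
      by_cases hi : i = 0
      · have h0 : (DirectSum.decompose 𝒜 (s - s0) i : A) = 0 := by
          have h1 : (DirectSum.decompose 𝒜 (s - s0) 0 : A) =
              (DirectSum.decompose 𝒜 s 0 : A) - (DirectSum.decompose 𝒜 s0 0 : A) := by
            rw [DirectSum.decompose_sub]
            rfl
          rw [hi, h1, DirectSum.decompose_of_mem_same 𝒜 (SetLike.coe_mem _), sub_self]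
        rw [h0]
        exact zero_mem _
      · exact Ideal.subset_span ⟨i, hi, SetLike.coe_mem _⟩
    have hs0 : s0 ∉ m := fun h => hs (by
      have := m.add_mem (hJm hsub) h
      rwa [sub_add_cancel] at this)
    set T : Set A := (fun i => (DirectSum.decompose 𝒜 a i : A)) ''
      ((DirectSum.decompose 𝒜 a).support : Set M) with hT
    set I : Ideal A := Ideal.span T with hI
    have hTfin : T.Finite := Set.Finite.image _ (Finset.finite_toSet _)
    have hIfg : I.FG := ⟨hTfin.toFinset, by rw [Set.Finite.coe_toFinset]⟩
    have hIh : I.IsHomogeneous 𝒜 := Ideal.homogeneous_span 𝒜 _ (by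
      rintro b ⟨i, _, rfl⟩; exact ⟨i, SetLike.coe_mem _⟩)
    have hmemI : ∀ i : M, (DirectSum.decompose 𝒜 a i : A) ∈ I := by
      intro i
      by_cases hi : i ∈ (DirectSum.decompose 𝒜 a).support
      · exact Ideal.subset_span ⟨i, hi, rfl⟩
      · rw [DFinsupp.notMem_support_iff.1 hi]
        exact zero_mem _
    have haI : a ∈ I := by
      rw [← DirectSum.sum_support_decompose 𝒜 a]
      exact Ideal.sum_mem _ fun i _ => hmemI i
    have hprod : (s - s0) * a ∈ J * I := Ideal.mul_mem_mul hsub haI
    have hs0a : ∀ i : M, s0 * (DirectSum.decompose 𝒜 a i : A) ∈ m * I := by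
      intro i
      have h1 := (hJh.mul hIh) i hprod
      rw [sub_mul, hsa, zero_sub, DirectSum.decompose_neg] at h1
      have h2 : (DirectSum.decompose 𝒜 (s0 * a) i : A) ∈ J * I := by
        have h3 : ((-(DirectSum.decompose 𝒜 (s0 * a))) i : A) =
          -(DirectSum.decompose 𝒜 (s0 * a) i : A) := rfl
        rw [h3] at h1
        exact (neg_mem_iff.1 h1)
      rw [DirectSum.coe_decompose_mul_of_left_mem_zero 𝒜 (SetLike.coe_mem _)] at h2
      exact Ideal.mul_mono_left hJm h2
    obtain ⟨t, u, hu, htu⟩ := (inferInstance : m.IsMaximal).exists_inv hs0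
    have hle : I ≤ m • I := by
      rw [smul_eq_mul]
      conv_lhs => rw [hI]
      refine Ideal.span_le.2 ?_
      rintro b ⟨i, _, rfl⟩
      have hb : (DirectSum.decompose 𝒜 a i : A) = t * (s0 * (DirectSum.decompose 𝒜 a i : A)) +
          u * (DirectSum.decompose 𝒜 a i : A) := by
        rw [← mul_assoc, ← add_mul, htu, one_mul]
      change (DirectSum.decompose 𝒜 a i : A) ∈ m * I
      rw [hb]
      exact add_mem (Ideal.mul_mem_left _ _ (hs0a i)) (Ideal.mul_mem_mul hu (hmemI i))
    obtain ⟨r, hr1, hr2⟩ :=
      Submodule.exists_sub_one_mem_and_smul_eq_zero_of_fg_of_le_smul m I hIfg hle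
    intro i
    refine ⟨r, fun hr => ?_, hr2 _ (hmemI i)⟩
    apply (inferInstance : m.IsMaximal).ne_top
    rw [Ideal.eq_top_iff_one]
    have := m.sub_mem hr hr1
    rwa [sub_sub_cancel] at this
  -- compatibility of `φ` with the decompositions
  have hdec : ∀ (b : B) (i : M), (DirectSum.decompose 𝒜 (φ b) i : A) =
      φ (DirectSum.decompose ℬ b i : B) := by
    intro b i
    induction b using DirectSum.Decomposition.inductionOn ℬ with
    | zero => simp
    | @homogeneous j x =>
      by_cases hij : j = i
      · subst hij
        rw [DirectSum.decompose_of_mem_same 𝒜 (hφ j _ x.2), DirectSum.decompose_of_mem_same ℬ x.2]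
      · rw [DirectSum.decompose_of_mem_ne 𝒜 (hφ j _ x.2) hij,
          DirectSum.decompose_of_mem_ne ℬ x.2 hij, map_zero]
    | add x y hx hy =>
      rw [map_add, DirectSum.decompose_add, DirectSum.decompose_add, DirectSum.add_apply,
        DirectSum.add_apply, Submodule.coe_add, Submodule.coe_add, map_add, hx, hy]
  intro i b hb
  rw [RingHom.mem_ker, RingHom.comp_apply, IsLocalization.map_eq_zero_iff m.primeCompl] at hb
  obtain ⟨⟨s, hs⟩, hsa⟩ := hb
  obtain ⟨r, hr, hra⟩ := key (φ b) s hs hsa i
  rw [RingHom.mem_ker, RingHom.comp_apply, IsLocalization.map_eq_zero_iff m.primeCompl]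
  refine ⟨⟨r, hr⟩, ?_⟩
  rw [hdec] at hra
  exact hra

end Groth.Agent.S18791
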