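import Groth.Statements.S18795
import Mathlib.LinearAlgebra.Dual.Lemmas
import Mathlib.FieldTheory.IsAlgClosed.Spectrum
import Mathlib.RingTheory.IntegralClosure.IsIntegral.Basic

set_option autoImplicit false
universe u v w
open scoped TensorProduct
open DefMod

namespace Groth.Agent.S18795


theorem hdual {K : Type*} [Field K] (L : Type*) [Field L] [Algebra K L] {E : Type*}
    [AddCommGroup E] [Module K E] (l : Module.Dual K E) :
    ∃ r : L ⊗[K] E →ₗ[K] L, ∀ (a : L) (y : E), r (a ⊗ₜ[K] y) = l y • a :=
  ⟨(TensorProduct.rid K L).toLinearMap ∘ₗ LinearMap.lTensor L l, fun a y => by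
    rw [LinearMap.comp_apply, LinearMap.lTensor_tmul, LinearEquiv.coe_coe,
      TensorProduct.rid_tmul]⟩

theorem one_tmul_eq_zero {K : Type*} [Field K] {L : Type*} [Field L] [Algebra K L] {E : Type*}
    [AddCommGroup E] [Module K E] {y : E} (hy : (1 : L) ⊗ₜ[K] y = 0) : y = 0 := by
  rw [← Module.forall_dual_apply_eq_zero_iff K y]
  intro l
  obtain ⟨r, hr⟩ := hdual L l
  have h := hr 1 y
  rw [hy, map_zero, Algebra.smul_def, mul_one] at h
  exact (map_eq_zero _).1 h.symm

theorem exists_aeval {K : Type*} [Field K] {D : Type*} [Ring D] [Algebra K D]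
    {E : Type*} [AddCommGroup E] [Module K E] [Module D E] [IsScalarTower K D E]
    [Module.Finite K (E →ₗ[D] E)] (φ : E →ₗ[D] E) (φK : Module.End K E)
    (hφK : ∀ x, φK x = φ x) :
    ∃ p : Polynomial K, p ≠ 0 ∧ Polynomial.aeval φK p = 0 := by
  have hi : IsIntegral K (φ : Module.End D E) := IsIntegral.of_finite K _
  obtain ⟨p, hp, hp0⟩ := hi
  refine ⟨p, hp.ne_zero, ?_⟩
  let res : Module.End D E →ₐ[K] Module.End K E :=
    { toFun := fun f => f.restrictScalars K
      map_one' := rfl
      map_mul' := fun _ _ => rfl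
      map_zero' := rfl
      map_add' := fun _ _ => rfl
      commutes' := fun c => rfl }
  have h := Polynomial.aeval_algHom_apply res φ p
  have h3 : Polynomial.aeval (R := K) (φ : Module.End D E) p = 0 := hp0
  rw [h3, map_zero] at h
  have h4 : res φ = φK := LinearMap.ext fun x => (hφK x).symm
  rw [h4] at h
  exact h

theorem step1 {K : Type*} [Field K] {L : Type*} [Field L] [Algebra K L]
    {E : Type*} [AddCommGroup E] [Module K E]
    (φK : Module.End K E) {p : Polynomial K}
    (hpφ : Polynomial.aeval φK p = 0) (φb : Module.End L (L ⊗[K] E))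
    (hφb : φb = φK.baseChange L) : Polynomial.aeval φb (p.map (algebraMap K L)) = 0 := by
  rw [Polynomial.aeval_map_algebraMap]
  have h := Polynomial.aeval_algHom_apply (Module.End.baseChangeHom K L E) φK p
  rw [hpφ, map_zero] at h
  rw [hφb]
  exact h

theorem step2 {L : Type*} [Field L] [IsAlgClosed L] {A : Type*} [Ring A] [Algebra L A]
    [Nontrivial A] (q : Polynomial L) (hq0 : q ≠ 0) (a : A) (hpb : Polynomial.aeval a q = 0) :
    ∃ k : L, k ∈ spectrum L a := by
  have hsp : q.Splits := IsAlgClosed.splits q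
  have hprod := hsp.eq_prod_roots
  have h1 : ¬ IsUnit (Polynomial.aeval a
      (Multiset.map (fun x => Polynomial.X - Polynomial.C x) q.roots).prod) := by
    intro hu
    rw [hprod, map_mul, Polynomial.aeval_C, ← Algebra.smul_def] at hpb
    have h2 := (smul_eq_zero_iff_right (Polynomial.leadingCoeff_ne_zero.2 hq0)).1 hpb
    rw [h2] at hu
    exact not_isUnit_zero hu
  obtain ⟨k, hk, -⟩ := spectrum.exists_mem_of_not_isUnit_aeval_prod h1
  exact ⟨k, hk⟩

theorem exists_spec {K : Type*} [Field K] {L : Type*} [Field L] [Algebra K L] [IsAlgClosed L]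
    {E : Type*} [AddCommGroup E] [Module K E] [Nontrivial (L ⊗[K] E)]
    (φK : Module.End K E) {p : Polynomial K} (hp : p ≠ 0)
    (hpφ : Polynomial.aeval φK p = 0) (φb : Module.End L (L ⊗[K] E))
    (hφb : φb = φK.baseChange L) : ∃ k : L, k ∈ spectrum L φb :=
  step2 (p.map (algebraMap K L)) ((Polynomial.map_ne_zero_iff (algebraMap K _).injective).2 hp) φb
    (step1 φK hpφ φb hφb)

theorem aux {K : Type*} [Field K] {L : Type*} [Field L] [Algebra K L] [IsAlgClosed L]
    {D : Type*} [Ring D] [Algebra K D]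
    {E : Type*} [AddCommGroup E] [Module K E] [Module D E] [IsScalarTower K D E]
    [Module.Finite K (E →ₗ[D] E)] (hnt : Nontrivial (L ⊗[K] E))
    (hirr : ∀ N : Submodule L (L ⊗[K] E), (∀ (d : D) (x : L ⊗[K] E), x ∈ N →
      (DistribSMul.toLinearMap K E d).baseChange L x ∈ N) → N = ⊥ ∨ N = ⊤)
    (φ : E →ₗ[D] E) : ∃ c : K, ∀ x : E, φ x = c • x := by
  classical
  -- the action of `D` and of `φ` on the base change
  let act : D → Module.End L (L ⊗[K] E) := fun d =>
    (DistribSMul.toLinearMap K E d).baseChange L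
  let φK : Module.End K E := φ.restrictScalars K
  obtain ⟨φb, hφb⟩ : ∃ φb : Module.End L (L ⊗[K] E), φb = φK.baseChange L := ⟨_, rfl⟩
  have hcomm : ∀ (d : D) x, φb (act d x) = act d (φb x) := by
    intro d x
    have h : φK ∘ₗ DistribSMul.toLinearMap K E d = DistribSMul.toLinearMap K E d ∘ₗ φK :=
      LinearMap.ext fun e => φ.map_smul d e
    have h2 := congrArg (LinearMap.baseChange L) h
    rw [LinearMap.baseChange_comp, LinearMap.baseChange_comp] at h2
    rw [hφb]
    exact LinearMap.congr_fun h2 x
  obtain ⟨p, hp, hpφ⟩ := exists_aeval φ φK (fun _ => rfl)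
  obtain ⟨k, hk⟩ := exists_spec φK hp hpφ φb hφb
  obtain ⟨ψ, hψ⟩ : ∃ ψ : Module.End L (L ⊗[K] E), ψ = algebraMap L _ k - φb := ⟨_, rfl⟩
  have hψapp : ∀ x, ψ x = k • x - φb x := fun x => by rw [hψ]; rfl
  have hψc : ∀ (d : D) x, ψ (act d x) = act d (ψ x) := by
    intro d x
    rw [hψapp, hψapp, map_sub, map_smul, hcomm]
  have hψ0 : ψ = 0 := by
    rcases hirr (LinearMap.ker ψ) (fun d x hx => by
      rw [LinearMap.mem_ker] at hx ⊢
      exact (hψc d x).trans (by rw [hx, map_zero])) with h | h
    · rcases hirr (LinearMap.range ψ) (fun d x hx => by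
        obtain ⟨y, rfl⟩ := hx
        exact ⟨act d y, hψc d y⟩) with h' | h'
      · exact LinearMap.range_eq_bot.1 h'
      · exfalso
        rw [spectrum.mem_iff, ← hψ] at hk
        apply hk
        rw [Module.End.isUnit_iff]
        exact ⟨LinearMap.ker_eq_bot.1 h, LinearMap.range_eq_top.1 h'⟩
    · exact LinearMap.ker_eq_top.1 h
  have hφk : ∀ x : E, (1 : L) ⊗ₜ[K] φ x = k ⊗ₜ[K] x := by
    intro x
    have h := hψapp (1 ⊗ₜ[K] x)
    rw [hψ0, LinearMap.zero_apply, eq_comm, sub_eq_zero, TensorProduct.smul_tmul', smul_eq_mul,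
      mul_one, hφb] at h
    exact h.symm
  -- `k` comes from `K`
  obtain ⟨e, he⟩ : ∃ e : E, e ≠ 0 := by
    by_contra hcon
    push Not at hcon
    have : Subsingleton (L ⊗[K] E) := by
      have hz : ∀ z : L ⊗[K] E, z = 0 := by
        intro z
        induction z using TensorProduct.induction_on with
        | zero => rfl
        | tmul a b => rw [hcon b, TensorProduct.tmul_zero]
        | add x y hx hy => rw [hx, hy, add_zero]
      exact ⟨fun x y => by rw [hz x, hz y]⟩
    exact not_subsingleton _ this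
  obtain ⟨l, hl⟩ : ∃ l : Module.Dual K E, l e = 1 := by
    have h : ¬ ∀ l : Module.Dual K E, l e = 0 := by
      rw [Module.forall_dual_apply_eq_zero_iff K e]
      exact he
    push Not at h
    obtain ⟨l, hl⟩ := h
    exact ⟨(l e)⁻¹ • l, by rw [LinearMap.smul_apply, smul_eq_mul, inv_mul_cancel₀ hl]⟩
  have hkc : algebraMap K L (l (φ e)) = k := by
    obtain ⟨r, hr⟩ := hdual L l
    have h := congrArg r (hφk e)
    rw [hr, hr, hl, one_smul, Algebra.smul_def, mul_one] at h
    exact h
  refine ⟨l (φ e), fun x => ?_⟩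
  rw [← sub_eq_zero]
  apply one_tmul_eq_zero (K := K) (L := L)
  rw [TensorProduct.tmul_sub, hφk, ← hkc, sub_eq_zero, TensorProduct.tmul_smul,
    TensorProduct.smul_tmul', Algebra.smul_def, mul_one]

/-- Let E be a left module over an associative algebra D over a field K of characteristic zero. Assume
that the D-linear endomorphisms of E form a finite-dimensional K-vector space, that E has a finite
presentation over D, and that E is absolutely irreducible: its base change K̄ ⊗_K E to an algebraic
closure K̄ of K is nonzero and its only K̄-subspaces stable under every element of D are 0 and the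
whole space. Then End_D(E) = K: every D-linear endomorphism of E is multiplication by a scalar from
K. -/
theorem result
    {K : Type u} [Field K] [CharZero K]
    {D : Type v} [Ring D] [Algebra K D]
    {E : Type w} [AddCommGroup E] [Module K E] [Module D E] [IsScalarTower K D E]
    [Module.Finite K (E →ₗ[D] E)] [Module.FinitePresentation D E]
    (habs : (Nontrivial (AlgebraicClosure K ⊗[K] E) ∧ ∀ N : Submodule (AlgebraicClosure K) (AlgebraicClosure K ⊗[K] E), (∀ (d : D) (x : AlgebraicClosure K ⊗[K] E), x ∈ N → (DistribSMul.toLinearMap K E d).baseChange (AlgebraicClosure K) x ∈ N) → N = ⊥ ∨ N = ⊤))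
    (φ : E →ₗ[D] E) : ∃ c : K, ∀ x : E, φ x = c • x := by
  exact aux habs.1 habs.2 φ

end Groth.Agent.S18795
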