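import Groth.Statements.S18796
import Mathlib.LinearAlgebra.TensorProduct.Basis
import Mathlib.LinearAlgebra.Basis.VectorSpace

set_option autoImplicit false
universe u v w w' u'
open scoped TensorProduct
open DefMod

namespace Groth.Agent.S18796

/-- Let K be a field of characteristic zero, D an associative K-algebra, E a left D-module that is
finitely presented over D, F a left D-module and P a commutative K-algebra. The canonical P-linear
map Φ : P ⊗_K Hom_D(E, F) → Hom_P(P ⊗_K E, P ⊗_K F), determined by p ⊗ f ↦ p · (1_P ⊗ f), is
injective, and its image consists exactly of the P-linear maps that commute with the action of every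
element of D; in other words Φ identifies P ⊗_K Hom_D(E, F) with the module of homomorphisms P ⊗_K E
→ P ⊗_K F over P ⊗_K D. The map Φ is pinned here by its values on pure tensors. -/
theorem result
    {K : Type u} [Field K] [CharZero K]
    {D : Type v} [Ring D] [Algebra K D]
    {E : Type w} [AddCommGroup E] [Module K E] [Module D E] [IsScalarTower K D E]
    [Module.FinitePresentation D E]
    {F : Type w'} [AddCommGroup F] [Module K F] [Module D F] [IsScalarTower K D F]
    (P : Type u') [CommRing P] [Algebra K P]
    (Φ : P ⊗[K] (E →ₗ[D] F) →ₗ[P] (P ⊗[K] E →ₗ[P] P ⊗[K] F))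
    (hΦ : ∀ (p : P) (f : E →ₗ[D] F), Φ (p ⊗ₜ[K] f) = p • (f.restrictScalars K).baseChange P) :
    Function.Injective Φ ∧
      ∀ g : P ⊗[K] E →ₗ[P] P ⊗[K] F,
        g ∈ LinearMap.range Φ ↔
          ∀ d : D, g ∘ₗ (DistribSMul.toLinearMap K E d).baseChange P =
            (DistribSMul.toLinearMap K F d).baseChange P ∘ₗ g := by
  classical
  let b := Module.Free.chooseBasis K P
  let eF := TensorProduct.equivFinsuppOfBasisLeft (N := F) b
  have heF : ∀ (p : P) (y : F) (j), eF (p ⊗ₜ[K] y) j = b.repr p j • y := fun p y j =>
    TensorProduct.equivFinsuppOfBasisLeft_apply_tmul_apply b p y j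
  -- values of `Φ` on `1 ⊗ e`
  have hΦ' : ∀ (p : P) (f : E →ₗ[D] F) (e : E), Φ (p ⊗ₜ[K] f) (1 ⊗ₜ[K] e) = p ⊗ₜ[K] f e := by
    intro p f e
    rw [hΦ, LinearMap.smul_apply, LinearMap.baseChange_tmul, TensorProduct.smul_tmul', smul_eq_mul,
      mul_one]
    rfl
  -- the action of `D` on coordinates
  have hD : ∀ (d : D) (y : P ⊗[K] F) (j),
      eF ((DistribSMul.toLinearMap K F d).baseChange P y) j = d • eF y j := by
    intro d y j
    induction y using TensorProduct.induction_on with
    | zero => rw [map_zero, map_zero, Finsupp.zero_apply, smul_zero]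
    | tmul p f =>
      rw [LinearMap.baseChange_tmul, heF, heF]
      change _ • d • f = d • _ • f
      rw [smul_comm]
    | add x y hx hy =>
      rw [map_add, map_add, Finsupp.add_apply, hx, hy, map_add, Finsupp.add_apply, smul_add]
  constructor
  · rw [injective_iff_map_eq_zero]
    intro t ht
    obtain ⟨c, rfl⟩ := (TensorProduct.equivFinsuppOfBasisLeft (N := E →ₗ[D] F) b).symm.surjective t
    rw [TensorProduct.equivFinsuppOfBasisLeft_symm_apply] at ht ⊢
    have hc : c = 0 := by
      ext j e
      have h1 : Φ (c.sum fun i n => b i ⊗ₜ[K] n) (1 ⊗ₜ[K] e) = 0 := by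
        rw [ht, LinearMap.zero_apply]
      rw [Finsupp.sum, map_sum, LinearMap.sum_apply] at h1
      simp only [hΦ'] at h1
      have h2 := congrArg (fun z => eF z j) h1
      simp only [map_sum, map_zero, Finsupp.finsetSum_apply, heF, Module.Basis.repr_self,
        Finsupp.zero_apply] at h2
      rw [Finset.sum_eq_single j] at h2
      · rw [Finsupp.single_eq_same, one_smul] at h2
        rw [h2]
        rfl
      · intro i _ hij
        rw [Finsupp.single_eq_of_ne hij.symm, zero_smul]
      · intro hj
        rw [Finsupp.notMem_support_iff.1 hj, LinearMap.zero_apply, smul_zero]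
    rw [hc, Finsupp.sum_zero_index]
  · intro g
    constructor
    · rintro ⟨t, rfl⟩ d
      induction t using TensorProduct.induction_on with
      | zero => rw [map_zero, LinearMap.zero_comp, LinearMap.comp_zero]
      | tmul p f =>
        refine LinearMap.ext fun z => ?_
        induction z using TensorProduct.induction_on with
        | zero => rw [map_zero, map_zero]
        | tmul q e =>
          rw [hΦ, LinearMap.comp_apply, LinearMap.comp_apply, LinearMap.baseChange_tmul,
            LinearMap.smul_apply, LinearMap.smul_apply, LinearMap.baseChange_tmul,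
            LinearMap.baseChange_tmul, map_smul, LinearMap.baseChange_tmul]
          congr 2
          exact f.map_smul d e
        | add x y hx hy => rw [map_add, map_add, hx, hy]
      | add x y hx hy => rw [map_add, LinearMap.add_comp, LinearMap.comp_add, hx, hy]
    · intro hg
      -- the coordinates of `g`
      have hg1 : ∀ (d : D) (e : E), g (1 ⊗ₜ[K] (d • e)) =
          (DistribSMul.toLinearMap K F d).baseChange P (g (1 ⊗ₜ[K] e)) := by
        intro d e
        have h := LinearMap.congr_fun (hg d) (1 ⊗ₜ[K] e)
        rw [LinearMap.comp_apply, LinearMap.comp_apply, LinearMap.baseChange_tmul] at h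
        exact h
      let gi : (Module.Free.ChooseBasisIndex K P) → (E →ₗ[D] F) := fun j =>
        { toFun := fun e => eF (g (1 ⊗ₜ[K] e)) j
          map_add' := fun x y => by
            rw [TensorProduct.tmul_add, map_add, map_add, Finsupp.add_apply]
          map_smul' := fun d e => by
            rw [hg1, hD]
            rfl }
      have hgi : ∀ j e, gi j e = eF (g (1 ⊗ₜ[K] e)) j := fun _ _ => rfl
      obtain ⟨T, hT⟩ := Module.Finite.fg_top (R := D) (M := E)
      let S : Finset (Module.Free.ChooseBasisIndex K P) :=
        T.biUnion fun e => (eF (g (1 ⊗ₜ[K] e))).support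
      have hS : ∀ j, j ∉ S → gi j = 0 := by
        intro j hj
        refine LinearMap.ext_on hT ?_
        intro e he
        rw [LinearMap.zero_apply, hgi]
        by_contra hne
        exact hj (Finset.mem_biUnion.2 ⟨e, he, Finsupp.mem_support_iff.2 hne⟩)
      refine ⟨∑ j ∈ S, b j ⊗ₜ[K] gi j, ?_⟩
      refine LinearMap.ext fun z => ?_
      have h1 : ∀ e : E, Φ (∑ j ∈ S, b j ⊗ₜ[K] gi j) (1 ⊗ₜ[K] e) = g (1 ⊗ₜ[K] e) := by
        intro e
        apply eF.injective
        ext j
        rw [map_sum, LinearMap.sum_apply, map_sum, Finsupp.finsetSum_apply]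
        simp only [hΦ', heF, Module.Basis.repr_self]
        by_cases hj : j ∈ S
        · rw [Finset.sum_eq_single j]
          · rw [Finsupp.single_eq_same, one_smul, hgi]
          · intro i _ hij
            rw [Finsupp.single_eq_of_ne hij.symm, zero_smul]
          · intro h
            exact absurd hj h
        · rw [Finset.sum_eq_zero]
          · rw [← hgi, hS j hj, LinearMap.zero_apply]
          · intro i hi
            have hij : j ≠ i := by
              rintro rfl
              exact hj hi
            rw [Finsupp.single_eq_of_ne hij, zero_smul]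
      induction z using TensorProduct.induction_on with
      | zero => rw [map_zero, map_zero]
      | tmul p e =>
        have h2 : p ⊗ₜ[K] e = p • ((1 : P) ⊗ₜ[K] e) := by
          rw [TensorProduct.smul_tmul', smul_eq_mul, mul_one]
        rw [h2, map_smul, map_smul, h1]
      | add x y hx hy => rw [map_add, map_add, hx, hy]

end Groth.Agent.S18796
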