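import Groth.Statements.S18797

set_option autoImplicit false
universe u v w
open DefMod

namespace Groth.Agent.S18797

/-- Let K be a field of characteristic zero, O a commutative K-algebra with a K-linear derivation ∂, and
E a finite free O-module equipped with a K-linear map ∂_E satisfying the Leibniz rule ∂_E(a e) =
∂(a) e + a ∂_E(e) (a differential module). The induced derivation on End_O(E) sends φ to ∂_E ∘ φ − φ
∘ ∂_E, which is again O-linear; the trace End_O(E) → O is compatible with the two derivations:
tr(∂_E ∘ φ − φ ∘ ∂_E) = ∂(tr φ). Here the O-linear map ψ = ∂_E ∘ φ − φ ∘ ∂_E is given by its values.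
(The published lemma also asserts that the trace is split surjective and that it respects commutator
brackets; the split surjectivity fails for E = 0 over a nonzero ring and holds only in positive
rank, and neither clause is restated.) -/
theorem result
    {K : Type u} [Field K] [CharZero K]
    {O : Type v} [CommRing O] [Algebra K O] (δ : Derivation K O O)
    {E : Type w} [AddCommGroup E] [Module O E] [Module K E] [IsScalarTower K O E]
    [Module.Free O E] [Module.Finite O E]
    (δE : E →ₗ[K] E) (hδE : ∀ (a : O) (e : E), δE (a • e) = δ a • e + a • δE e)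
    (φ ψ : E →ₗ[O] E) (hψ : ∀ e : E, ψ e = δE (φ e) - φ (δE e)) :
    LinearMap.trace O E ψ = δ (LinearMap.trace O E φ) := by
  classical
  set b := Module.Free.chooseBasis O E
  have hδ : ∀ (e : E) (i), b.repr (δE e) i = δ (b.repr e i) + ∑ j, b.repr e j * b.repr (δE (b j)) i := by
    intro e i
    conv_lhs => rw [← b.sum_repr e]
    rw [map_sum, map_sum, Finsupp.finset_sum_apply]
    simp_rw [hδE]
    simp only [map_add, map_smul, Finsupp.add_apply, Finsupp.smul_apply, smul_eq_mul,
      Finset.sum_add_distrib]
    congr 1
    rw [Finset.sum_eq_single i]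
    · simp
    · intro j _ hj
      simp [Finsupp.single_apply, hj]
    · intro h
      exact absurd (Finset.mem_univ i) h
  have hφ : ∀ (e : E) (i), b.repr (φ e) i = ∑ j, b.repr e j * b.repr (φ (b j)) i := by
    intro e i
    conv_lhs => rw [← b.sum_repr e]
    rw [map_sum, map_sum, Finsupp.finset_sum_apply]
    simp
  rw [LinearMap.trace_eq_matrix_trace O b, LinearMap.trace_eq_matrix_trace O b, Matrix.trace,
    Matrix.trace, map_sum]
  simp only [Matrix.diag_apply, LinearMap.toMatrix_apply, hψ, map_sub, Finsupp.sub_apply,
    hδ (φ _), hφ (δE _)]
  rw [Finset.sum_sub_distrib, Finset.sum_add_distrib, add_sub_assoc, add_eq_left, sub_eq_zero,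
    Finset.sum_comm]
  refine Finset.sum_congr rfl fun i _ => Finset.sum_congr rfl fun j _ => mul_comm _ _

end Groth.Agent.S18797
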