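import Groth.Statements.S18802
import Mathlib.LinearAlgebra.Basis.VectorSpace
import Mathlib.Algebra.Module.Projective

set_option autoImplicit false
universe u v w w' w''
open DefMod

namespace Groth.Agent.S18802

/-- Let K be a field of characteristic zero, D an associative K-algebra and E, F left D-modules. A
K-linear map s : D → Hom_K(E, F) with s(ab)(e) = a s(b)(e) + s(a)(b e) (a derivation into the
bimodule Hom_K(E, F), i.e. a Hochschild 1-cocycle) defines the twisted sum F ⊕_s E = F × E with a ·
(f, e) = (a f + s(a) e, a e), an extension of E by F. Every extension of left D-modules 0 → F → Q →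
E → 0 arises this way: there are such an s and a D-linear isomorphism Q ≅ F ⊕_s E carrying the given
map F → Q to the inclusion f ↦ (f, 0) and compatible with the two projections onto E. (Together with
the splitting criterion this identifies derivations modulo principal derivations with Ext¹_D(E, F);
the compatibility of that identification with addition and scalars is not restated.) -/
theorem result
    {K : Type u} [Field K] [CharZero K]
    {D : Type v} [Ring D] [Algebra K D]
    {E : Type w} [AddCommGroup E] [Module K E] [Module D E] [IsScalarTower K D E]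
    {F : Type w'} [AddCommGroup F] [Module K F] [Module D F] [IsScalarTower K D F]
    {Q : Type w''} [AddCommGroup Q] [Module D Q]
    (i : F →ₗ[D] Q) (p : Q →ₗ[D] E) (hi : Function.Injective i) (hp : Function.Surjective p)
    (hex : Function.Exact i p) :
    ∃ (s : D →ₗ[K] E →ₗ[K] F) (hs : W4c6defoisocp1.IsHomDerivation s) (Φ : Q ≃ₗ[D] W4c6defoisocp1.TwistExt s hs),
      (∀ f : F, Φ (i f) = W4c6defoisocp1.TwistExt.inl f) ∧ ∀ q : Q, W4c6defoisocp1.TwistExt.snd (Φ q) = p q := by
  classical
  -- the `K`-structure on `Q` induced from `K → D`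
  let _ : Module K Q := Module.compHom Q (algebraMap K D)
  have hK : ∀ (c : K) (q : Q), c • q = algebraMap K D c • q := fun _ _ => rfl
  have hKE : ∀ (c : K) (e : E), algebraMap K D c • e = c • e := fun c e => by
    rw [algebraMap_smul]
  have hKF : ∀ (c : K) (f : F), algebraMap K D c • f = c • f := fun c f => by
    rw [algebraMap_smul]
  have _ : IsScalarTower K D Q := ⟨fun c a q => by
    rw [hK, smul_smul, Algebra.smul_def]⟩
  -- a `K`-linear section of `p`
  let pK : Q →ₗ[K] E :=
    { toFun := p
      map_add' := p.map_add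
      map_smul' := fun c q => by
        simp only [RingHom.id_apply]
        rw [hK, p.map_smul, hKE] }
  have hpK : LinearMap.range pK = ⊤ := LinearMap.range_eq_top.2 hp
  obtain ⟨t, ht⟩ := pK.exists_rightInverse_of_surjective hpK
  have ht' : ∀ e : E, p (t e) = e := fun e => LinearMap.congr_fun ht e
  -- a `K`-linear retraction of `i` on the kernel of `p`
  have hmem : ∀ q : Q, p q = 0 → ∃ f : F, i f = q := fun q hq => (hex q).1 hq
  choose g hg using hmem
  have hgi : ∀ (q : Q) (hq : p q = 0) (f : F), i f = q → g q hq = f := fun q hq f hf =>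
    hi ((hg q hq).trans hf.symm)
  -- the derivation
  have hker : ∀ (a : D) (e : E), p (a • t e - t (a • e)) = 0 := fun a e => by
    rw [map_sub, p.map_smul, ht', ht', sub_self]
  let s0 : D → E → F := fun a e => g _ (hker a e)
  have hs0 : ∀ a e, i (s0 a e) = a • t e - t (a • e) := fun a e => hg _ _
  have hiK : ∀ (c : K) (f : F), i (c • f) = c • i f := fun c f => by
    rw [← hKF, i.map_smul, hK]
  let s : D →ₗ[K] E →ₗ[K] F := LinearMap.mk₂ K s0
    (fun a a' e => hi (by
      rw [map_add, hs0, hs0, hs0, add_smul, add_smul, map_add]; abel))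
    (fun c a e => hi (by
      rw [hiK, hs0, hs0, smul_assoc, smul_assoc, map_smul, smul_sub]))
    (fun a e e' => hi (by
      rw [map_add, hs0, hs0, hs0, smul_add, map_add, map_add, smul_add]; abel))
    (fun c a e => hi (by
      have h1 : a • (c • e) = c • (a • e) := by
        rw [← hKE c e, ← hKE c (a • e), smul_smul, smul_smul, Algebra.commutes]
      have h2 : a • (c • t e) = c • (a • t e) := by
        rw [hK c (t e), hK c (a • t e), smul_smul, smul_smul, Algebra.commutes]
      rw [hiK, hs0, hs0, map_smul, smul_sub, h1, h2, map_smul]))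
  have hsi : ∀ a e, i (s a e) = a • t e - t (a • e) := hs0
  have hs : W4c6defoisocp1.IsHomDerivation s := by
    intro a b e
    apply hi
    rw [map_add, i.map_smul, hsi, hsi, hsi, smul_sub, mul_smul, mul_smul]
    abel
  -- the isomorphism
  have hkerq : ∀ q : Q, p (q - t (p q)) = 0 := fun q => by rw [map_sub, ht', sub_self]
  let Φ0 : Q → W4c6defoisocp1.TwistExt s hs := fun q =>
    W4c6defoisocp1.TwistExt.mk (g _ (hkerq q), p q)
  have hΦ1 : ∀ q, i (W4c6defoisocp1.TwistExt.val (Φ0 q)).1 = q - t (p q) := fun q => hg _ _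
  have hΦ2 : ∀ q, (W4c6defoisocp1.TwistExt.val (Φ0 q)).2 = p q := fun q => rfl
  let Φl : Q →ₗ[D] W4c6defoisocp1.TwistExt s hs :=
    { toFun := Φ0
      map_add' := fun q q' => W4c6defoisocp1.TwistExt.ext
        (hi (by
          rw [W4c6defoisocp1.TwistExt.val_add, Prod.fst_add, map_add, hΦ1, hΦ1, hΦ1, map_add,
            map_add]
          abel))
        (by
          rw [W4c6defoisocp1.TwistExt.val_add, Prod.snd_add, hΦ2, hΦ2, hΦ2, map_add])
      map_smul' := fun a q => W4c6defoisocp1.TwistExt.ext
        (hi (by
          simp only [RingHom.id_apply]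
          rw [W4c6defoisocp1.TwistExt.val_smul, map_add, i.map_smul, hΦ1, hΦ1, hΦ2, hsi,
            p.map_smul, smul_sub]
          abel))
        (by
          simp only [RingHom.id_apply]
          rw [W4c6defoisocp1.TwistExt.val_smul, hΦ2, hΦ2, p.map_smul]) }
  have hinj : Function.Injective Φl := by
    rw [injective_iff_map_eq_zero]
    intro q hq
    have h1 : p q = 0 := by
      rw [← hΦ2 q]
      change (W4c6defoisocp1.TwistExt.val (Φl q)).2 = 0
      rw [hq]; rfl
    have h2 : q - t (p q) = 0 := by
      rw [← hΦ1 q]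
      change i (W4c6defoisocp1.TwistExt.val (Φl q)).1 = 0
      rw [hq]
      exact i.map_zero
    rw [h1, map_zero, sub_zero] at h2
    exact h2
  have hsurj : Function.Surjective Φl := by
    intro x
    refine ⟨i (W4c6defoisocp1.TwistExt.val x).1 + t (W4c6defoisocp1.TwistExt.val x).2, ?_⟩
    have hpi : ∀ f : F, p (i f) = 0 := fun f => (hex (i f)).2 ⟨f, rfl⟩
    have hpq : p (i (W4c6defoisocp1.TwistExt.val x).1 + t (W4c6defoisocp1.TwistExt.val x).2) =
        (W4c6defoisocp1.TwistExt.val x).2 := by
      rw [map_add, hpi, ht', zero_add]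
    refine W4c6defoisocp1.TwistExt.ext (hi ?_) ?_
    · change i (W4c6defoisocp1.TwistExt.val (Φ0 _)).1 = _
      rw [hΦ1, hpq]
      abel
    · exact hpq
  refine ⟨s, hs, LinearEquiv.ofBijective Φl ⟨hinj, hsurj⟩, ?_, ?_⟩
  · intro f
    have hpi : p (i f) = 0 := (hex (i f)).2 ⟨f, rfl⟩
    refine W4c6defoisocp1.TwistExt.ext (hi ?_) ?_
    · change i (W4c6defoisocp1.TwistExt.val (Φ0 _)).1 = _
      rw [hΦ1, hpi, map_zero, sub_zero]
      rfl
    · exact hpi
  · intro q
    rfl

end Groth.Agent.S18802
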