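import Groth.Statements.S18803
import Mathlib.LinearAlgebra.Basis.VectorSpace

set_option autoImplicit false
universe u v w w'
open DefMod

namespace Groth.Agent.S18803

/-- Let K be a field of characteristic zero, D an associative K-algebra, E and F left D-modules, and s :
D → Hom_K(E, F) a K-linear map with s(ab)(e) = a s(b)(e) + s(a)(b e). The twisted sum F ⊕_s E (that
is F × E with a · (f, e) = (a f + s(a) e, a e)) is a trivial extension of E by F — there is a
D-linear isomorphism F ⊕_s E ≅ F × E with the direct-sum module structure, carrying the inclusion f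
↦ (f, 0) to itself and compatible with the second projections — if and only if s is principal:
s(a)(e) = a σ(e) − σ(a e) for some K-linear σ : E → F (a Hochschild 1-coboundary). -/
theorem result
    {K : Type u} [Field K] [CharZero K]
    {D : Type v} [Ring D] [Algebra K D]
    {E : Type w} [AddCommGroup E] [Module K E] [Module D E] [IsScalarTower K D E]
    {F : Type w'} [AddCommGroup F] [Module K F] [Module D F] [IsScalarTower K D F]
    (s : D →ₗ[K] E →ₗ[K] F) (hs : W4c6defoisocp1.IsHomDerivation s) :
    (∃ Ψ : W4c6defoisocp1.TwistExt s hs ≃ₗ[D] F × E,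
        (∀ f : F, Ψ (W4c6defoisocp1.TwistExt.inl f) = (f, 0)) ∧ ∀ x : W4c6defoisocp1.TwistExt s hs, (Ψ x).2 = W4c6defoisocp1.TwistExt.snd x) ↔
      W4c6defoisocp1.IsPrincipal s := by
  have hKE : ∀ (c : K) (e : E), algebraMap K D c • e = c • e := fun c e => by
    rw [algebraMap_smul]
  have hKF : ∀ (c : K) (f : F), algebraMap K D c • f = c • f := fun c f => by
    rw [algebraMap_smul]
  have hsK : ∀ c : K, s (algebraMap K D c) = 0 := fun c => by
    rw [Algebra.algebraMap_eq_smul_one, map_smul, W4c6defoisocp1.TwistExt.map_one_eq_zero hs,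
      smul_zero]
  constructor
  · rintro ⟨Ψ, h1, h2⟩
    -- the element `(0, e)`
    let j : E → W4c6defoisocp1.TwistExt s hs := fun e => W4c6defoisocp1.TwistExt.mk (0, e)
    have hjadd : ∀ e e', j (e + e') = j e + j e' := fun e e' =>
      W4c6defoisocp1.TwistExt.ext (by simp [j]) (by simp [j])
    have hjsmul : ∀ (a : D) (e : E),
        a • j e = W4c6defoisocp1.TwistExt.inl (s a e) + j (a • e) := fun a e =>
      W4c6defoisocp1.TwistExt.ext (by simp [j]) (by simp [j])
    let σ : E →ₗ[K] F :=
      { toFun := fun e => (Ψ (j e)).1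
        map_add' := fun e e' => by rw [hjadd, map_add, Prod.fst_add]
        map_smul' := fun c e => by
          simp only [RingHom.id_apply]
          have h := hjsmul (algebraMap K D c) e
          rw [hsK, LinearMap.zero_apply, map_zero, zero_add, hKE] at h
          rw [← h, map_smul, Prod.smul_fst, hKF] }
    have hσ : ∀ e, σ e = (Ψ (j e)).1 := fun _ => rfl
    refine ⟨σ, fun a e => ?_⟩
    have h := congrArg Prod.fst (congrArg Ψ (hjsmul a e))
    rw [map_smul, Prod.smul_fst, map_add, Prod.fst_add, h1] at h
    rw [hσ, hσ, h]
    simp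
  · rintro ⟨σ, hσ⟩
    let Ψl : W4c6defoisocp1.TwistExt s hs →ₗ[D] F × E :=
      { toFun := fun x => ((W4c6defoisocp1.TwistExt.val x).1 + σ (W4c6defoisocp1.TwistExt.val x).2,
          (W4c6defoisocp1.TwistExt.val x).2)
        map_add' := fun x y => by
          refine Prod.ext ?_ ?_
          · simp only [W4c6defoisocp1.TwistExt.val_add, Prod.fst_add, Prod.snd_add, map_add]
            abel
          · simp
        map_smul' := fun a x => by
          refine Prod.ext ?_ ?_
          · simp only [W4c6defoisocp1.TwistExt.val_smul, RingHom.id_apply, Prod.smul_fst, smul_add,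
              hσ]
            abel
          · simp }
    have hinj : Function.Injective Ψl := by
      rw [injective_iff_map_eq_zero]
      intro x hx
      have h2 : (W4c6defoisocp1.TwistExt.val x).2 = 0 := congrArg Prod.snd hx
      have h1 : (W4c6defoisocp1.TwistExt.val x).1 + σ (W4c6defoisocp1.TwistExt.val x).2 = 0 :=
        congrArg Prod.fst hx
      rw [h2, map_zero, add_zero] at h1
      exact W4c6defoisocp1.TwistExt.ext h1 h2
    have hsurj : Function.Surjective Ψl := by
      rintro ⟨f, e⟩
      refine ⟨W4c6defoisocp1.TwistExt.mk (f - σ e, e), ?_⟩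
      refine Prod.ext ?_ ?_
      · change (f - σ e) + σ e = f
        abel
      · rfl
    refine ⟨LinearEquiv.ofBijective Ψl ⟨hinj, hsurj⟩, fun f => ?_, fun x => rfl⟩
    refine Prod.ext ?_ rfl
    change f + σ 0 = f
    rw [map_zero, add_zero]

end Groth.Agent.S18803
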