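import Groth.Statements.S18804
import Groth.Agent.Curves.K420.Base

set_option autoImplicit false
universe u
open CategoryTheory CategoryTheory.Limits AlgebraicGeometry
open Curves

namespace Groth.Agent.S18804

/-- Let k be an algebraically closed field of characteristic zero, X a smooth proper integral curve over
k (integral, proper and smooth over k, of dimension one) of genus g, and L an invertible O_X-module
of degree deg L = χ(L) − χ(O_X) at least 2g + 3. Then L is 3-very ample: every closed subscheme Z of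
X of length 4 imposes independent conditions on H^0(X, L), stated as dim_k H^0(X, L ⊗ I) + 4 = dim_k
H^0(X, L) for every quasi-coherent ideal I of O_X with dim_k H^0(X, O_X/I) = 4. -/
theorem result
    (k : Type u) [Field k] [IsAlgClosed k] [CharZero k]
    (X : Scheme.{u}) [X.Over (Spec (CommRingCat.of k))] [IsIntegral X]
    [IsProper (X ↘ Spec (CommRingCat.of k))] [Smooth (X ↘ Spec (CommRingCat.of k))]
    (hdim : topologicalKrullDim X = 1)
    (L : X.Modules) (hL : PicF.IsInvertible L)
    (hdeg : 2 * (Curv2.genus k X : ℤ) + 3 ≤ Curv2.deg k X L 1)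
    (I : X.IdealSheafData) (hI : Module.finrank k (Coh.HH X (ClSub.quotMod I) 0) = 4) :
    Module.finrank k (Coh.HH X (CohB1.tensorMod L (ClSub.idealMod I)) 0) + 4 =
      Module.finrank k (Coh.HH X L 0) := by
  have hX : K532.CurvePic.IsCurve k X := K532.CurvePic.isCurve_of_isAlgClosed k X ⟨inferInstance, inferInstance, inferInstance, hdim⟩
  have hI0 : I ≠ ⊥ := K420.CurveBase.ne_bot_of_finrank hX I (by rw [hI]; norm_num)
  have hE : BlowUp.IsEffCartierIdeal I := Groth.Agent.Sga5.H844.CurveDiv.isEff_of_ne_bot hX.curve I hI0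
  have hdc := K420.CurveBase.deg_ic hX hE
  rw [hI] at hdc
  have hdL : K532.CurvePic.deg k X (Groth.Agent.Grpsch.PicGrp.mk L hL) = Curv2.deg k X L 1 :=
    K532.CurvePic.deg_mk k X hdim hL
  have hg : (K532.CurvePic.gen k X : ℤ) = Curv2.genus k X := rfl
  have h1 := K420.CurveBase.h0_eq hX (Groth.Agent.Grpsch.PicGrp.mk L hL) (by rw [hdL, hg]; omega)
  have h2 := K420.CurveBase.h0_eq hX (Groth.Agent.Grpsch.PicGrp.mk L hL * K464.Base.ic I hE)
    (by rw [K532.CurvePic.deg_mul hX, hdc, hdL, hg]; push_cast; omega)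
  rw [K532.CurvePic.deg_mul hX, hdc, hdL] at h2
  rw [hdL] at h1
  have h3 : Module.finrank k (Coh.HH X (CohB1.tensorMod L (ClSub.idealMod I)) 0) =
      K532.CurvePic.h k X 0 (Groth.Agent.Grpsch.PicGrp.mk L hL * K464.Base.ic I hE) := by
    rw [K464.Base.ic, Groth.Agent.Grpsch.PicGrp.mk_mul_mk, K532.CurvePic.h_mk]
  have h4 : Module.finrank k (Coh.HH X L 0) = K532.CurvePic.h k X 0 (Groth.Agent.Grpsch.PicGrp.mk L hL) := rfl
  rw [h3, h4]
  push_cast at h2
  omega

end Groth.Agent.S18804
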