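import Groth.Statements.S18805
import Groth.Agent.Curves.K420.Base

set_option autoImplicit false
universe u
open CategoryTheory CategoryTheory.Limits AlgebraicGeometry
open Curves

namespace Groth.Agent.S18805

/-- Let k be an algebraically closed field of characteristic zero and X a smooth proper integral curve
over k (integral, proper and smooth over k, of dimension one), with sheaf of differentials ω =
Ω_(X/k). Then ω is 3-very ample, meaning dim_k H^0(X, ω ⊗ I) + 4 = dim_k H^0(X, ω) for every
quasi-coherent ideal I of O_X with dim_k H^0(X, O_X/I) = 4, if and only if X carries no g^1_4,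
meaning that for every such I (the ideal of an effective divisor D of degree 4) every module M with
I ⊗ M ≅ O_X (so M plays the role of O_X(D)) has dim_k H^0(X, M) = 1. -/
theorem result
    (k : Type u) [Field k] [IsAlgClosed k] [CharZero k]
    (X : Scheme.{u}) [X.Over (Spec (CommRingCat.of k))] [IsIntegral X]
    [IsProper (X ↘ Spec (CommRingCat.of k))] [Smooth (X ↘ Spec (CommRingCat.of k))]
    (hdim : topologicalKrullDim X = 1) :
    (∀ (I : X.IdealSheafData), Module.finrank k (Coh.HH X (ClSub.quotMod I) 0) = 4 →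
      Module.finrank k (Coh.HH X (CohB1.tensorMod (Omega.sheaf (X ↘ Spec (CommRingCat.of k))) (ClSub.idealMod I)) 0) + 4 =
        Module.finrank k (Coh.HH X (Omega.sheaf (X ↘ Spec (CommRingCat.of k))) 0)) ↔
    (∀ (I : X.IdealSheafData), Module.finrank k (Coh.HH X (ClSub.quotMod I) 0) = 4 →
      ∀ (M : X.Modules), ClSub.IsInverseOf (ClSub.idealMod I) M →
        Module.finrank k (Coh.HH X M 0) = 1) := by
  have hX : K532.CurvePic.IsCurve k X := K532.CurvePic.isCurve_of_isAlgClosed k X ⟨inferInstance, inferInstance, inferInstance, hdim⟩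
  refine forall_congr' fun I => forall_congr' fun hI => ?_
  have hI0 : I ≠ ⊥ := K420.CurveBase.ne_bot_of_finrank hX I (by rw [hI]; norm_num)
  have hE : BlowUp.IsEffCartierIdeal I := Groth.Agent.Sga5.H844.CurveDiv.isEff_of_ne_bot hX.curve I hI0
  have hdc := K420.CurveBase.deg_ic hX hE
  rw [hI] at hdc
  have h3 : Module.finrank k (Coh.HH X (CohB1.tensorMod (Omega.sheaf (X ↘ Spec (CommRingCat.of k))) (ClSub.idealMod I)) 0) =
      K532.CurvePic.h k X 0 (K532.CurvePic.om hX * K464.Base.ic I hE) := by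
    rw [K464.Base.ic, K532.CurvePic.om, Groth.Agent.Grpsch.PicGrp.mk_mul_mk, K532.CurvePic.h_mk]
  have h4 : Module.finrank k (Coh.HH X (Omega.sheaf (X ↘ Spec (CommRingCat.of k))) 0) = K532.CurvePic.gen k X :=
    K532.CurvePic.h0_om hX
  have h5 := K532.CurvePic.rr' hX (K464.Base.ic I hE)⁻¹
  rw [inv_inv, K532.CurvePic.deg_inv hX, hdc] at h5
  rw [h3, h4]
  push_cast at h5
  constructor
  · intro h6 M hM
    obtain ⟨e⟩ := hM
    have hM' : ClSub.IsInverseOf M (ClSub.idealMod I) := ⟨Groth.Agent.Ega2.Tens.swap _ _ ≪≫ e⟩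
    have hMi : PicF.IsInvertible M := (Groth.Agent.Dix.IdealModCartier.isInvertible_of_isInverseOf hM').1
    have : K532.CurvePic.h k X 0 (Groth.Agent.Grpsch.PicGrp.mk M hMi) = 1 := by
      rw [K464.Base.mk_eq_ic_inv hM' hMi hE]
      omega
    exact this
  · intro h6
    obtain ⟨M, hM, ⟨f⟩⟩ := Groth.Agent.Grpsch.PicGrp.exists_inverse (Groth.Agent.Dix.IdealModCartier.isInvertible_idealMod hE)
    have h7 := h6 M ⟨f⟩
    have h8 : K532.CurvePic.h k X 0 (Groth.Agent.Grpsch.PicGrp.mk M hM) = 1 := h7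
    rw [K464.Base.mk_eq_ic_inv ⟨Groth.Agent.Ega2.Tens.swap _ _ ≪≫ f⟩ hM hE] at h8
    omega

end Groth.Agent.S18805
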