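import Groth.Statements.S18811
import Groth.Agent.Sga3C.Affinization

set_option autoImplicit false
universe u
open CategoryTheory CategoryTheory.Limits AlgebraicGeometry
open Variety

namespace Groth.Agent.S18811

/-- Let k be a field and X, Y quasi-compact k-schemes whose diagonal morphisms over k are affine
(semi-separated; for instance X and Y separated over k). Then the canonical map Γ(X, O_X) ⊗_k Γ(Y,
O_Y) → Γ(X ×_k Y, O) is an isomorphism: the commutative square of rings of global sections formed by
Spec k, X, Y and X ×_k Y with the pullback maps along the structure morphisms and the two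
projections is a pushout square of commutative rings. -/
theorem result (k : Type u) [Field k]
    (X : Scheme.{u}) [X.Over (Spec (CommRingCat.of k))] [CompactSpace ↥X]
    [IsAffineHom (pullback.diagonal (X ↘ (Spec (CommRingCat.of k))))]
    (Y : Scheme.{u}) [Y.Over (Spec (CommRingCat.of k))] [CompactSpace ↥Y]
    [IsAffineHom (pullback.diagonal (Y ↘ (Spec (CommRingCat.of k))))] :
    IsPushout (X ↘ (Spec (CommRingCat.of k))).appTop (Y ↘ (Spec (CommRingCat.of k))).appTop
      (pullback.fst (X ↘ (Spec (CommRingCat.of k))) (Y ↘ (Spec (CommRingCat.of k)))).appTop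
      (pullback.snd (X ↘ (Spec (CommRingCat.of k))) (Y ↘ (Spec (CommRingCat.of k)))).appTop := by
  have h1 : QuasiSeparated (X ↘ (Spec (CommRingCat.of k))) := ⟨inferInstance⟩
  have h2 : QuasiSeparated (Y ↘ (Spec (CommRingCat.of k))) := ⟨inferInstance⟩
  have h3 : QuasiSeparatedSpace X :=
    quasiSeparatedSpace_of_quasiSeparated (X ↘ (Spec (CommRingCat.of k)))
  have h4 : QuasiSeparatedSpace Y :=
    quasiSeparatedSpace_of_quasiSeparated (Y ↘ (Spec (CommRingCat.of k)))
  have : CompactSpace (Over.mk (X ↘ (Spec (CommRingCat.of k)))).left := ‹CompactSpace ↥X›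
  have : CompactSpace (Over.mk (Y ↘ (Spec (CommRingCat.of k)))).left := ‹CompactSpace ↥Y›
  have : QuasiSeparatedSpace (Over.mk (X ↘ (Spec (CommRingCat.of k)))).left := h3
  have : QuasiSeparatedSpace (Over.mk (Y ↘ (Spec (CommRingCat.of k)))).left := h4
  exact Groth.Agent.Sga3C.Affinization.isPushout_appTop k (Over.mk (X ↘ (Spec (CommRingCat.of k))))
    (Over.mk (Y ↘ (Spec (CommRingCat.of k))))

end Groth.Agent.S18811
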