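import Groth.Statements.S18821
import Groth.Agent.AlgGrp.K413.Units

set_option autoImplicit false
universe u
open CategoryTheory MonoidalCategory CartesianMonoidalCategory MonObj AlgebraicGeometry
open AlgGrp

namespace Groth.Agent.S18821

/-- Let k be a commutative ring and M a monoid k-scheme (a monoid object in k-schemes). Then the group
k-functor of units T ↦ M(T)^× is representable by a k-scheme: there are a k-scheme G and a
monomorphism i : G → M such that, for every k-scheme T, a T-valued point of M factors through i if
and only if it is invertible in the monoid M(T). If moreover M is affine then G is affine. -/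
theorem result (k : Type u) [CommRing k]
    (M : Over (Spec (CommRingCat.of k))) [MonObj M] :
    ∃ (G : Over (Spec (CommRingCat.of k))) (i : G ⟶ M), Mono i ∧
      (∀ (T : Over (Spec (CommRingCat.of k))) (m : T ⟶ M), (∃ g : T ⟶ G, g ≫ i = m) ↔ IsUnit m) ∧
      (IsAffine M.left → IsAffine G.left) := by
  let G := Limits.pullback (K413.Units.prods M) (lift η[M] η[M])
  let j : G ⟶ M ⊗ M := Limits.pullback.fst _ _
  have hp : IsPullback j (toUnit G) (K413.Units.prods M) (lift η[M] η[M]) := by
    have := IsPullback.of_hasPullback (K413.Units.prods M) (lift η[M] η[M])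
    have e : toUnit G = Limits.pullback.snd _ _ := toUnit_unique _ _
    rw [e]
    exact this
  have hj : K413.Units.IsUnits M j := ⟨hp⟩
  refine ⟨G, j ≫ fst M M, hj.mono_fst, fun T m => hj.fac_iff m, fun hM => ?_⟩
  have hp' := hp.map (Over.forget _)
  have h1 : IsAffine (M ⊗ M).left := inferInstanceAs (IsAffine (Limits.pullback M.hom M.hom))
  have h2 : IsAffineHom (lift η[M] η[M]).left := by
    have : IsAffine (𝟙_ (Over (Spec (CommRingCat.of k)))).left :=
      inferInstanceAs (IsAffine (Spec (CommRingCat.of k)))
    infer_instance
  have h3 : IsAffineHom j.left := MorphismProperty.of_isPullback (P := @IsAffineHom) hp'.flip h2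
  exact isAffine_of_isAffineHom j.left

end Groth.Agent.S18821
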