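import Groth.Statements.S18823
import Groth.Agent.AlgGrp.K413.EqLocus

set_option autoImplicit false
universe u
open CategoryTheory MonoidalCategory CartesianMonoidalCategory AlgebraicGeometry
open AlgGrp

namespace Groth.Agent.S18823

/-- Let k be a field, X a separated k-scheme, M a k-scheme (in the source a monoid k-scheme) acting on X
through a : M ×_k X → X, and i : G → M a morphism of k-schemes which is a scheme-theoretically
dominant open immersion: no nonzero quasi-coherent ideal of O_M restricts to zero on G (for
quasi-compact i this is the usual schematic density, O_M → i_*O_G injective; in the source G is the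
group of units of M, open and schematically dense). For a k-scheme T and a T-valued point x of X, x
is fixed under M, i.e. a ∘ (id_M × x) = x ∘ pr_T on M ×_k T, if and only if x is fixed under G, i.e.
a ∘ (i × x) = x ∘ pr_T on G ×_k T. Thus the fixed-point subpresheaves X^M and X^G of X are equal.
(The published statement has no separatedness assumption on X and reduces to points landing in an
affine open; the step asserting that the equalizer of the two maps M ×_k T → X is closed uses that
the target is separated, so X is taken separated here, the case the printed argument establishes.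
The monoid structure and the action axioms play no role in that argument and are not assumed.) -/
theorem result (k : Type u) [Field k]
    (M G X : Over (Spec (CommRingCat.of k))) [IsSeparated X.hom] (a : M ⊗ X ⟶ X) (i : G ⟶ M)
    [IsOpenImmersion i.left] [IsSchemeTheoreticallyDominant i.left]
    (T : Over (Spec (CommRingCat.of k))) (x : T ⟶ X) :
    (M ◁ x) ≫ a = CartesianMonoidalCategory.snd M T ≫ x ↔
      (G ◁ x) ≫ (i ▷ X) ≫ a = CartesianMonoidalCategory.snd G T ≫ x := by
  have e1 : (G ◁ x) ≫ (i ▷ X) = (i ▷ T) ≫ (M ◁ x) := by ext1 <;> simp
  constructor
  · intro h
    rw [← Category.assoc, e1, Category.assoc, h]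
    simp
  · intro h
    have key := K413.EqLocus.eq_of_dominant (Y := T) (X := M)
      ((lift (snd T M) (fst T M)) ≫ (M ◁ x) ≫ a) (fst T M ≫ x) i ?_
    · have h2 := congr(lift (snd M T) (fst M T) ≫ $key)
      have h3 : lift (snd M T) (fst M T) ≫ lift (snd T M) (fst T M) = 𝟙 _ := by ext1 <;> simp
      rw [reassoc_of% h3] at h2
      rw [h2]
      simp
    · have e2 : (T ◁ i) ≫ lift (snd T M) (fst T M) = lift (snd T G) (fst T G) ≫ (i ▷ T) := by
        ext1 <;> simp
      rw [reassoc_of% e2, ← reassoc_of% e1, h]
      simp

end Groth.Agent.S18823
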