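import Groth.Statements.S18825
import Groth.Agent.S3024

set_option autoImplicit false
universe u
open CategoryTheory MonoidalCategory CartesianMonoidalCategory MonObj AlgebraicGeometry
open AlgGrp

namespace Groth.Agent.S18825

/-- Let k be a field and f : H → G a homomorphism of locally algebraic groups over k (group k-schemes
locally of finite type) which is of finite type (equivalently quasi-compact). Let H → K → G be the
factorization of f through its scheme-theoretic image: i : K → G a closed immersion and g : H → K
with g followed by i equal to f and O_K → g_*O_H injective. Then (1) K is a closed subgroup scheme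
of G: the unit section of G factors through i and, for every k-scheme T and T-valued points k₁, k₂
of K, the T-valued point (i k₁)⁻¹ · (i k₂) of G factors through i; and (2) g : H → K is surjective.
(The source also records that g is a homomorphism for the group structure induced on K; this row
does not state it.) -/
theorem result (k : Type u) [Field k]
    (H G K : Over (Spec (CommRingCat.of k))) [GrpObj H] [GrpObj G]
    [LocallyOfFiniteType H.hom] [LocallyOfFiniteType G.hom]
    (f : H ⟶ G) [IsMonHom f] [QuasiCompact f.left]
    (i : K ⟶ G) [IsClosedImmersion i.left] (g : H ⟶ K) (hgi : g ≫ i = f)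
    [IsSchemeTheoreticallyDominant g.left] :
    ((∃ e : 𝟙_ (Over (Spec (CommRingCat.of k))) ⟶ K, e ≫ i = η[G]) ∧
      ∀ (T : Over (Spec (CommRingCat.of k))) (k₁ k₂ : T ⟶ K),
        ∃ k₃ : T ⟶ K, k₃ ≫ i = (k₁ ≫ i)⁻¹ * (k₂ ≫ i)) ∧
    Surjective g.left := by
  obtain ⟨H', hH', j, f', hf', hj, hfj, hcl, hdom, hqc, hsurj⟩ :=
    Groth.Agent.S3024.result k H G f
  -- `K` and `H'` are the same closed subscheme
  have hdom' : IsSchemeTheoreticallyDominant f'.left := ⟨hdom⟩
  obtain ⟨a, ha⟩ := Groth.Agent.Sga3C.SchemImage.exists_lift_over g i j f' (by rw [hfj, hgi])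
  obtain ⟨b, hb⟩ := Groth.Agent.Sga3C.SchemImage.exists_lift_over f' j i g (by rw [hfj, hgi])
  have hmono : Mono i := by
    have : Mono ((Over.forget _).map i) := inferInstanceAs (Mono i.left)
    exact (Over.forget _).mono_of_mono_map this
  have hfb : f' ≫ b = g := by
    rw [← cancel_mono i, Category.assoc, hb, hfj, hgi]
  have hab : a ≫ b = 𝟙 K := by
    rw [← cancel_mono i, Category.assoc, hb, ha, Category.id_comp]
  refine ⟨⟨⟨η[H'] ≫ b, ?_⟩, fun T k₁ k₂ => ⟨((k₁ ≫ a)⁻¹ * (k₂ ≫ a)) ≫ b, ?_⟩⟩, ?_⟩
  · rw [Category.assoc, hb, IsMonHom.one_hom]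
  · rw [Category.assoc, hb, MonObj.mul_comp, GrpObj.inv_comp, Category.assoc, Category.assoc, ha]
  · have hbs : Surjective b.left := by
      constructor
      intro x
      refine ⟨a.left x, ?_⟩
      rw [← Scheme.Hom.comp_apply, ← Over.comp_left, hab]
      rfl
    rw [← hfb, Over.comp_left]
    infer_instance

end Groth.Agent.S18825
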