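import Groth.Statements.S18829
import Groth.Agent.HopfRep.K192.BaseCh2
import Groth.Agent.S3274
import Mathlib.RingTheory.Bialgebra.MonoidAlgebra

set_option autoImplicit false
universe u
open scoped TensorProduct
open HopfRep

namespace Groth.Agent.S18829

/-- Let k be a field and A a finitely generated commutative Hopf algebra over k, the coordinate ring of
an affine algebraic group T. Suppose T is a torus: for some algebraically closed field extension K
of k the base change K ⊗_k A is isomorphic as a K-bialgebra to the group algebra over K of a free
abelian group ℤ^n (T_K is a split torus of rank n). Then T is linearly reductive in the sense that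
every finite-dimensional A-comodule is semisimple. (The source's definition of a torus asks for such
an isomorphism over every algebraically closed extension; one suffices for the printed argument. The
source's notion of a linearly reductive algebraic group also includes smoothness of T over k, which
this row does not assert.) -/
theorem result (k K A : Type u) [Field k] [Field K]
    [Algebra k K] [IsAlgClosed K] [CommRing A] [HopfAlgebra k A] [Algebra.FiniteType k A] (n : ℕ)
    (e : (K ⊗[k] A) ≃ₐc[K] MonoidAlgebra K (Multiplicative (Fin n → ℤ))) :
    HopfRep.IsLinearlyReductive k A := by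
  apply K192.BaseCh.isLinearlyReductive_of_baseChange k K A
  have hD : HopfRep.IsDiagonalizable K (K ⊗[k] A) := by
    rw [HopfRep.IsDiagonalizable, eq_top_iff]
    have hM : Submodule.span K {a : MonoidAlgebra K (Multiplicative (Fin n → ℤ)) |
        IsGroupLikeElem K a} = ⊤ := MonoidAlgebra.span_isGroupLikeElem
    rintro x -
    have hx : e x ∈ Submodule.span K {a : MonoidAlgebra K (Multiplicative (Fin n → ℤ)) |
        IsGroupLikeElem K a} := by rw [hM]; trivial
    have h2 : e.symm (e x) ∈ (Submodule.span K {a : MonoidAlgebra K (Multiplicative (Fin n → ℤ)) |
        IsGroupLikeElem K a}).map (e.symm : _ →ₗ[K] (K ⊗[k] A)) :=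
      ⟨e x, hx, rfl⟩
    rw [Submodule.map_span] at h2
    have h3 : e.symm (e x) = x := e.symm_apply_apply x
    rw [h3] at h2
    refine (Submodule.span_mono ?_) h2
    rintro _ ⟨a, ha, rfl⟩
    exact IsGroupLikeElem.map e.symm ha
  intro V _ _ _ _
  exact Groth.Agent.S3274.semisimple_of_span
    (Groth.Agent.S3272.span_eigen_of_diag K (K ⊗[k] A) hD V)

end Groth.Agent.S18829
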