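import Groth.Statements.S18830
import Groth.Agent.AlgGrp.K413.Units
import Mathlib.AlgebraicGeometry.Noetherian
import Mathlib.AlgebraicGeometry.Morphisms.Immersion

set_option autoImplicit false
universe u
open CategoryTheory MonoidalCategory CartesianMonoidalCategory MonObj AlgebraicGeometry
open AlgGrp

namespace Groth.Agent.S18830

/-- Let k be a field and M an algebraic monoid over k (a monoid k-scheme of finite type). Let i : G → M
be its group of units: a monomorphism of k-schemes through which a T-valued point of M factors if
and only if it is invertible in the monoid M(T). Then G is of finite type over k, i.e. the unit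
group is an algebraic group. -/
theorem result (k : Type u) [Field k]
    (M G : Over (Spec (CommRingCat.of k))) [MonObj M] [LocallyOfFiniteType M.hom] [QuasiCompact M.hom]
    (i : G ⟶ M) [Mono i]
    (hi : ∀ (T : Over (Spec (CommRingCat.of k))) (m : T ⟶ M), (∃ g : T ⟶ G, g ≫ i = m) ↔ IsUnit m) :
    LocallyOfFiniteType G.hom ∧ QuasiCompact G.hom := by
  obtain ⟨j, hj, -⟩ := K413.Units.exists_isUnits i hi
  have hp := hj.isPullback.map (Over.forget _)
  let s : Spec (CommRingCat.of k) ⟶ (M ⊗ M).left := (lift η[M] η[M]).left
  have hs : s ≫ (M ⊗ M).hom = 𝟙 _ := Over.w (lift η[M] η[M])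
  have h1 : LocallyOfFiniteType (M ⊗ M).hom :=
    inferInstanceAs (LocallyOfFiniteType (Limits.pullback.fst M.hom M.hom ≫ M.hom))
  have h2 : QuasiCompact (M ⊗ M).hom :=
    inferInstanceAs (QuasiCompact (Limits.pullback.fst M.hom M.hom ≫ M.hom))
  have h3 : LocallyOfFiniteType s := by
    have : LocallyOfFiniteType (s ≫ (M ⊗ M).hom) := by rw [hs]; infer_instance
    exact locallyOfFiniteType_of_comp s (M ⊗ M).hom
  have h4 : QuasiCompact s := by
    have : TopologicalSpace.NoetherianSpace (Spec (CommRingCat.of k)) := inferInstance
    infer_instance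
  have h5 : LocallyOfFiniteType j.left := MorphismProperty.of_isPullback (P := @LocallyOfFiniteType) hp.flip h3
  have h6 : QuasiCompact j.left := MorphismProperty.of_isPullback (P := @QuasiCompact) hp.flip h4
  have h7 : j.left ≫ (M ⊗ M).hom = G.hom := Over.w j
  rw [← h7]
  exact ⟨inferInstance, inferInstance⟩

end Groth.Agent.S18830
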