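import Groth.Statements.S18831
import Groth.Agent.VBCurve.K706.Twist

set_option autoImplicit false
universe u
open CategoryTheory CategoryTheory.Limits AlgebraicGeometry
open VBCurve

namespace Groth.Agent.S18831

/-- Let X be a smooth projective integral curve over an algebraically closed field k of characteristic
zero, and G a finite locally free O_X-module of rank r ≥ 1 which is slope-semistable, of slope μ =
deg G / r (deg G = χ(G) − r χ(O_X)). Then dim_k H^0(X, G) ≤ r · max(⌊μ⌋ + 1, 0); in particular a
slope-semistable bundle of negative slope has no nonzero global section. -/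
theorem result (k : Type u) [Field k] [IsAlgClosed k] [CharZero k]
    (X : Scheme.{u}) [X.Over (Spec (CommRingCat.of k))]
    [IsIntegral X] [IsProper (X ↘ Spec (CommRingCat.of k))] [Smooth (X ↘ Spec (CommRingCat.of k))]
    (hdim : topologicalKrullDim X = 1)
    (r : ℕ) (hr : 0 < r) (G : X.Modules) (hG : FlatMod.IsFinLocFreeOfRank r G)
    (hss : ModFun.IsSlopeSemistable k X G r) :
    (Module.finrank k (Coh.HH X G 0) : ℤ) ≤
      (r : ℤ) * max (⌊(Curv2.deg k X G r : ℚ) / (r : ℚ)⌋ + 1) 0 := by
  have C : K707.Base.Crv k X := K707.Base.Crv.of_smooth hdim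
  have hs := (K707.Semi.ss_iff C hG).2 hss
  set n : ℤ := ⌊(Curv2.deg k X G r : ℚ) / (r : ℚ)⌋ + 1 with hn
  have hr' : (0 : ℚ) < r := by exact_mod_cast hr
  have h1 : (Curv2.deg k X G r : ℚ) < (n : ℚ) * r := by
    have := Int.lt_floor_add_one ((Curv2.deg k X G r : ℚ) / (r : ℚ))
    rw [div_lt_iff₀ hr'] at this
    rw [hn]
    push_cast
    exact this
  have h2 : Curv2.deg k X G r < n * r := by exact_mod_cast h1
  have h3 : K707.Deg.dg k G < (n.toNat : ℤ) * (r : ℤ) := by
    rw [K707.Deg.dg_of_rank k hG]
    refine h2.trans_le (mul_le_mul_of_nonneg_right (Int.self_le_toNat n) (by positivity))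
  have h4 := K706.Twist.h0_le C r n.toNat G hG hs h3
  have h5 : (n.toNat : ℤ) = max n 0 := Int.toNat_eq_max n
  rw [← h5, mul_comm]
  exact_mod_cast h4


end Groth.Agent.S18831
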