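import Groth.Statements.S18834
import Groth.Agent.Books.ComodInv

set_option autoImplicit false
universe u
open TensorProduct
open GIT

namespace Groth.Agent.S18834

open Groth.Agent.Books.ComodBasic Groth.Agent.Books.ComodHom Groth.Agent.Books.ComodInv in
/-- For linearly reductive coactions, every relation `f = ∑ fᵢ rᵢ` among invariants `f, fᵢ` can be
rewritten with invariant coefficients. -/
theorem exists_invariant_coeff (k : Type u) [Field k]
    (A : Type u) [CommRing A] [HopfAlgebra k A] (hG : HopfRep.IsLinearlyReductive k A)
    (R : Type u) [CommRing R] [Algebra k R]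
    [HopfRep.Comod k A R] [GLin.IsCoactAlg k A R] {n : ℕ} (f : Fin n → R)
    (hf : ∀ i, f i ∈ GLin.invariants k A R) (r : Fin n → R)
    (h : ∑ i, f i * r i ∈ GLin.invariants k A R) :
    ∃ s : Fin n → R, (∀ i, s i ∈ GLin.invariants k A R) ∧ ∑ i, f i * s i = ∑ i, f i * r i := by
  let _ := piComod (k := k) (A := A) (Fin n) R
  let F : (Fin n → R) →ₗ[k] R := ∑ i, LinearMap.mulLeft k (f i) ∘ₗ LinearMap.proj i
  have hmul : ∀ i, IsComodHom k A (LinearMap.mulLeft k (f i)) := by
    intro i x
    rw [LinearMap.mulLeft_apply, GLin.IsCoactAlg.coact_mul, (hf i : _ = _)]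
    generalize HopfRep.Comod.coact (k := k) (A := A) x = z
    induction z with
    | zero => simp
    | tmul x' a' => simp
    | add z z' hz hz' => simp only [map_add, mul_add, hz, hz']
  have hF : IsComodHom k A F := by
    have : ∀ (s : Finset (Fin n)), IsComodHom k A
        (∑ i ∈ s, LinearMap.mulLeft k (f i) ∘ₗ LinearMap.proj i : (Fin n → R) →ₗ[k] R) := by
      intro s
      induction s using Finset.induction_on with
      | empty => simpa using isComodHom_zero
      | insert a s ha ih =>
        rw [Finset.sum_insert ha]
        exact ((hmul a).comp (isComodHom_proj a)).add ih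
    exact this Finset.univ
  have hFr : ∀ r, F r = ∑ i, f i * r i := by
    intro r
    simp [F]
  obtain ⟨s, hs, hs'⟩ := exists_fixed_lift hG hF (w := ∑ i, f i * r i) h (hFr r)
  refine ⟨s, fun i => ?_, by rw [← hFr, hs']⟩
  exact IsComodHom.map_mem_fixedPts (isComodHom_proj i) hs

/-- Let k be an algebraically closed field of characteristic zero, G = Spec A a linearly reductive
affine group over k (A a commutative Hopf algebra whose finite-dimensional comodules are semisimple)
acting on an affine k-scheme Spec R of finite type (a multiplicative coaction of A on R), and R^G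
the ring of invariants. Then for every ideal I of R^G the ideal I·R of R generated by I satisfies
(I·R) ∩ R^G = I. (The section also assumes Spec R irreducible; that hypothesis plays no role here
and is not carried.) -/
theorem result (k : Type u) [Field k] [IsAlgClosed k] [CharZero k]
    (A : Type u) [CommRing A] [HopfAlgebra k A] (hG : HopfRep.IsLinearlyReductive k A)
    (R : Type u) [CommRing R] [Algebra k R] [Algebra.FiniteType k R]
    [HopfRep.Comod k A R] [GLin.IsCoactAlg k A R]
    (I : Ideal (GLin.invariants k A R)) :
    Ideal.comap (GLin.invariants k A R).val.toRingHom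
        (Ideal.map (GLin.invariants k A R).val.toRingHom I) = I := by
  apply le_antisymm _ Ideal.le_comap_map
  intro x hx
  rw [Ideal.mem_comap, Ideal.map, Ideal.span, Submodule.mem_span_set'] at hx
  obtain ⟨n, r, g, hg⟩ := hx
  have hg' : ∀ i, ∃ y ∈ I, (y : R) = g i := fun i => (g i).2
  choose y hyI hy using hg'
  have hx' : ∑ i, (y i : R) * r i = (x : R) := by
    refine Eq.trans (Finset.sum_congr rfl fun i _ => ?_) hg
    rw [hy, smul_eq_mul, mul_comm]
  obtain ⟨s, hs, hs'⟩ := exists_invariant_coeff k A hG R (fun i => (y i : R)) (fun i => (y i).2) r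
    (by rw [hx']; exact x.2)
  have : x = ∑ i, y i * (⟨s i, hs i⟩ : GLin.invariants k A R) := by
    apply Subtype.ext
    rw [AddSubmonoidClass.coe_finsetSum, ← hx', ← hs']
    rfl
  rw [this]
  exact I.sum_mem fun i _ => I.mul_mem_right _ (hyI i)

end Groth.Agent.S18834
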