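import Groth.Statements.S18835
import Groth.Agent.VBCurve.K709.P1Fam

set_option autoImplicit false
universe u
open CategoryTheory CategoryTheory.Limits AlgebraicGeometry Polynomial
open VBCurve

namespace Groth.Agent.S18835

/-- Let k be an algebraically closed field of characteristic zero and i ≥ 0. On the projective line P
over the affine line Spec k[t] (that is A^1 × P^1 over k) there is a finite locally free module F of
rank 2 whose restriction to the fibre over t = 0 is isomorphic to O(i+1) ⊕ O(−i−1) and whose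
restriction to the fibre over every k-point t = a with a ≠ 0 is isomorphic to O(i) ⊕ O(−i). Fibres
are the copies of P^1_k mapped into P by the k-algebra maps k[t] → k, t ↦ a; in particular the
isomorphism type of the fibres of a vector bundle in a family can jump at a special point. -/
theorem result (k : Type u) [Field k] [IsAlgClosed k] [CharZero k]
    (i : ℕ) :
    ∃ F : (CohB1.ProjSpaceOver 1 (Spec (CommRingCat.of k[X]))).Modules,
      FlatMod.IsFinLocFreeOfRank 2 F ∧
      (∀ a : k,
        letI ι : CohB1.ProjSpaceOver 1 (Spec (CommRingCat.of k)) ⟶ CohB1.ProjSpaceOver 1 (Spec (CommRingCat.of k[X])) :=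
          pullback.lift (pullback.fst _ _)
            (pullback.snd _ _ ≫ Spec.map (CommRingCat.ofHom (Polynomial.evalRingHom a)))
            (specULiftZIsTerminal.hom_ext _ _)
        (a = 0 → Nonempty ((Scheme.Modules.pullback ι).obj F ≅
            Twist.twistOver 1 (Spec (CommRingCat.of k)) ((i : ℤ) + 1) ⊞
              Twist.twistOver 1 (Spec (CommRingCat.of k)) (-((i : ℤ) + 1)))) ∧
        (a ≠ 0 → Nonempty ((Scheme.Modules.pullback ι).obj F ≅
            Twist.twistOver 1 (Spec (CommRingCat.of k)) (i : ℤ) ⊞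
              Twist.twistOver 1 (Spec (CommRingCat.of k)) (-(i : ℤ))))) := by
  let S := Spec (CommRingCat.of k[X])
  let t : Γ(CohB1.ProjSpaceOver 1 S, ⊤) :=
    (CohB1.ProjSpaceOver.toBase 1 S).appTop ((Scheme.ΓSpecIso (CommRingCat.of k[X])).inv (Polynomial.X : k[X]))
  have hab : (i : ℤ) = -((i : ℤ) + 1) + (2 * i + 1 : ℕ) := by push_cast; ring
  refine ⟨K709.P1Fam.fam t (2 * i + 1) (-((i : ℤ) + 1)) (i : ℤ) hab, K709.P1Fam.rank_fam _ _ _ _ _, ?_⟩
  intro a
  let ι : CohB1.ProjSpaceOver 1 (Spec (CommRingCat.of k)) ⟶ CohB1.ProjSpaceOver 1 (Spec (CommRingCat.of k[X])) :=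
    pullback.lift (pullback.fst _ _)
      (pullback.snd _ _ ≫ Spec.map (CommRingCat.ofHom (Polynomial.evalRingHom a)))
      (specULiftZIsTerminal.hom_ext _ _)
  have hι : ι ≫ pullback.fst (CohB1.ProjSpace.toSpec 1 (ULift.{u} ℤ)) (specULiftZIsTerminal.from S) =
      pullback.fst (CohB1.ProjSpace.toSpec 1 (ULift.{u} ℤ)) (specULiftZIsTerminal.from (Spec (CommRingCat.of k))) :=
    pullback.lift_fst _ _ _
  have hι2 : ι ≫ CohB1.ProjSpaceOver.toBase 1 S = CohB1.ProjSpaceOver.toBase 1 (Spec (CommRingCat.of k)) ≫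
      Spec.map (CommRingCat.ofHom (Polynomial.evalRingHom a)) :=
    pullback.lift_snd _ _ _
  have ht : ι.appTop t = (CohB1.ProjSpaceOver.toBase 1 (Spec (CommRingCat.of k))).appTop
      ((Scheme.ΓSpecIso (CommRingCat.of k)).inv a) := by
    have h1 : ι.appTop t = (ι ≫ CohB1.ProjSpaceOver.toBase 1 S).appTop
      ((Scheme.ΓSpecIso (CommRingCat.of k[X])).inv (Polynomial.X : k[X])) := by
      rw [Scheme.Hom.comp_appTop]
      rfl
    rw [h1, hι2, Scheme.Hom.comp_appTop]
    have h2 := ConcreteCategory.congr_hom (Scheme.ΓSpecIso_inv_naturality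
      (CommRingCat.ofHom (Polynomial.evalRingHom a))) (Polynomial.X : k[X])
    have h3 : (Spec.map (CommRingCat.ofHom (Polynomial.evalRingHom a))).appTop
        ((Scheme.ΓSpecIso (CommRingCat.of k[X])).inv (Polynomial.X : k[X])) =
        (Scheme.ΓSpecIso (CommRingCat.of k)).inv a := by
      refine Eq.trans h2.symm ?_
      change (Scheme.ΓSpecIso (CommRingCat.of k)).inv (Polynomial.eval a (Polynomial.X : k[X])) = _
      rw [Polynomial.eval_X]
    rw [← h3]
    rfl
  constructor
  · intro ha
    refine K709.P1Fam.nonempty_of_eq_zero t (2 * i + 1) (-((i : ℤ) + 1)) (i : ℤ) hab ι hι ?_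
    rw [ht, ha, map_zero, map_zero]
  · intro ha
    obtain ⟨e⟩ := K709.P1Fam.nonempty_of_isUnit t (2 * i + 1) (-((i : ℤ) + 1)) (i : ℤ) hab ι hι (by
      rw [ht]
      exact ((isUnit_iff_ne_zero.mpr ha).map _).map _)
    have e2 : Twist.twistOver 1 (Spec (CommRingCat.of k)) (-((i : ℤ) + 1) + 1) =
        Twist.twistOver 1 (Spec (CommRingCat.of k)) (-(i : ℤ)) := by
      congr 1
      ring
    exact ⟨e ≪≫ biprod.mapIso (eqToIso e2) (Iso.refl _) ≪≫ biprod.braiding _ _⟩

end Groth.Agent.S18835
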