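import Groth.Statements.S18836
import Groth.Agent.FDesc.K108.GenQuotOf
import Groth.Agent.PerfC.PullRestrict
import Groth.Agent.Models.DVRGeneric
import Groth.Agent.PerfA.CohSerre

set_option autoImplicit false
universe u
open CategoryTheory CategoryTheory.Limits AlgebraicGeometry
open FGA

namespace Groth.Agent.S18836

/-- Let k be an algebraically closed field of characteristic zero, X a projective k-scheme (proper over
k, carrying an ample invertible sheaf), R a discrete valuation ring containing k with fraction field
K, X_R = X ×_k Spec R and X_K = X_R ×_(Spec R) Spec K with j : X_K → X_R the canonical open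
immersion. If F is a coherent module on X_K which is a quotient of O^N, then there is a coherent
module F' on X_R, flat over Spec R and again a quotient of O^N, whose restriction j^*F' to X_K is
isomorphic to F. (The Hilbert polynomial of the closed fibre of F' then equals that of F by
flatness; that clause is not restated.) The published statement is for a valuation ring R containing
k; its argument uses a uniformiser, and this row takes R a discrete valuation ring. The row asserts
only the existence of an isomorphism j^*F' ≅ F, not its compatibility with the two quotient maps. -/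
theorem result (k : Type u) [Field k] [IsAlgClosed k] [CharZero k]
    (X : Scheme.{u}) [X.Over (Spec (CommRingCat.of k))] [IsProper (X ↘ Spec (CommRingCat.of k))]
    (L : X.Modules) (hLi : PicF.IsInvertible L) (hL : CohB1.IsAmple L)
    (R : Type u) [CommRing R] [IsDomain R] [IsDiscreteValuationRing R] [Algebra k R]
    (N : ℕ)
    (F : (pullback (pullback.snd (X ↘ Spec (CommRingCat.of k))
              (Spec.map (CommRingCat.ofHom (algebraMap k R))))
            (Spec.map (CommRingCat.ofHom (algebraMap R (FractionRing R))))).Modules)
    (hF : Coh.IsCoh F)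
    (q : FlatMod.freeMod _ N ⟶ F) (hq : Epi q) :
    ∃ (F' : (pullback (X ↘ Spec (CommRingCat.of k)) (Spec.map (CommRingCat.ofHom (algebraMap k R)))).Modules)
      (q' : FlatMod.freeMod _ N ⟶ F'),
      Coh.IsCoh F' ∧ Epi q' ∧
      FlatMod.IsFlatOver (pullback.snd (X ↘ Spec (CommRingCat.of k))
          (Spec.map (CommRingCat.ofHom (algebraMap k R)))) F' ∧
      Nonempty ((Scheme.Modules.pullback
          (pullback.fst (pullback.snd (X ↘ Spec (CommRingCat.of k))
              (Spec.map (CommRingCat.ofHom (algebraMap k R))))
            (Spec.map (CommRingCat.ofHom (algebraMap R (FractionRing R)))))).obj F' ≅ F) := by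
  have ho : IsOpenImmersion (Spec.map (CommRingCat.ofHom (algebraMap R (FractionRing R)))) :=
    Groth.Agent.Models.DVRGeneric.isOpenImmersion_generic R (FractionRing R)
  have hqcK : QuasiCompact (Spec.map (CommRingCat.ofHom (algebraMap R (FractionRing R)))) :=
    inferInstance
  generalize pullback.snd (X ↘ Spec (CommRingCat.of k))
    (Spec.map (CommRingCat.ofHom (algebraMap k R))) = f at F hF q hq ⊢
  let j := Spec.map (CommRingCat.ofHom (algebraMap R (FractionRing R)))
  let i := pullback.fst f j
  have hio : IsOpenImmersion i := inferInstance
  have hiqc : QuasiCompact i := inferInstance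
  have hi : ∀ z, f (i z) = genericPoint (Spec (CommRingCat.of R)) := by
    intro z
    rw [← Scheme.Hom.comp_apply, pullback.condition, Scheme.Hom.comp_apply,
      genericPoint_eq_bot_of_affine]
    apply PrimeSpectrum.ext
    change Ideal.comap (algebraMap R (FractionRing R)) (pullback.snd f j z).asIdeal = ⊥
    rw [(Ideal.eq_bot_of_prime (pullback.snd f j z).asIdeal)]
    exact (RingHom.injective_iff_ker_eq_bot _).mp (IsFractionRing.injective R (FractionRing R))
  have hfree : Coh.IsQCoh (FlatMod.freeMod (pullback (X ↘ Spec (CommRingCat.of k)) (Spec.map (CommRingCat.ofHom (algebraMap k R)))) N) :=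
    (Groth.Agent.PerfA.CohSerre.isCoh_freeMod N).1
  obtain ⟨G, ρ, e, hρ, hG, hfl, -⟩ := K108.GenQuotOf.exists_quotient_of
    (K108.GenQuotOf.stalk_dedekind R) f i
    i.isOpenEmbedding.isInducing
    (fun z => ((ConcreteCategory.isIso_iff_bijective (i.stalkMap z)).mp inferInstance).2) hi
    (FlatMod.freeMod _ N) hfree F hF.1
    ((Groth.Agent.PerfC.PullRestrict.pullbackFreeMod i N).hom ≫ q)
  exact ⟨G, ρ, ⟨hG, Groth.Agent.CohqB.FiniteType.IsFT.of_epi
    (Groth.Agent.PerfA.CohSerre.isCoh_freeMod N).2 ρ⟩, hρ, hfl, ⟨e⟩⟩

end Groth.Agent.S18836
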