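import Groth.Statements.S18838
import Groth.Agent.Deform.K683.TruncPoly2

set_option autoImplicit false
universe u
open Polynomial TensorProduct
open Deform

namespace Groth.Agent.S18838

/-- Let k be an algebraically closed field of characteristic zero, n ≥ 1, D = k[X]/(X^(n+1)) (given with
a k-algebra isomorphism e identifying the class of X with τ ∈ D), and B a finitely generated
k-algebra which is a flat D-algebra such that B/tB is smooth over k, where t is the image of τ in B
(an affine open of a flat deformation of a smooth k-scheme over Spec D); put B' = B/t^nB. The map μ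
: B → B' × (B' ⊗_B Ω_(B/k)) sending f to (f mod t^n, 1 ⊗ df) is injective, and its image consists
exactly of the pairs (g, α) with dg = r(α) in Ω_(B'/k), r being the canonical map B' ⊗_B Ω_(B/k) →
Ω_(B'/k). Injectivity uses that n is invertible in k. The source works with a flat proper family
over Spec D with smooth central fibre; the statement is local and is given here on an affine open. -/
theorem result (k : Type u) [Field k] [IsAlgClosed k] [CharZero k] (n : ℕ) (hn : 1 ≤ n)
    (D : Type u) [CommRing D] [Algebra k D] (τ : D)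
    (e : (k[X] ⧸ Ideal.span {(X : k[X]) ^ (n + 1)}) ≃ₐ[k] D)
    (he : e (Ideal.Quotient.mk (Ideal.span {(X : k[X]) ^ (n + 1)}) X) = τ)
    (B : Type u) [CommRing B] [Algebra k B] [Algebra D B] [IsScalarTower k D B]
    [Algebra.FiniteType k B] [Module.Flat D B]
    (t : B) (ht : t = algebraMap D B τ) (hsm : Algebra.Smooth k (B ⧸ Ideal.span {t})) :
    Function.Injective (fun f : B =>
      ((Ideal.Quotient.mk (Ideal.span {t ^ n}) f,
        (1 : (B ⧸ Ideal.span {t ^ n})) ⊗ₜ[B] KaehlerDifferential.D k B f) : (B ⧸ Ideal.span {t ^ n}) × ((B ⧸ Ideal.span {t ^ n}) ⊗[B] Ω[B⁄k]))) ∧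
    Set.range (fun f : B =>
      ((Ideal.Quotient.mk (Ideal.span {t ^ n}) f,
        (1 : (B ⧸ Ideal.span {t ^ n})) ⊗ₜ[B] KaehlerDifferential.D k B f) : (B ⧸ Ideal.span {t ^ n}) × ((B ⧸ Ideal.span {t ^ n}) ⊗[B] Ω[B⁄k]))) =
      {p | KaehlerDifferential.D k (B ⧸ Ideal.span {t ^ n}) p.1 = KaehlerDifferential.mapBaseChange k B (B ⧸ Ideal.span {t ^ n}) p.2} := by
  have hfs : Algebra.FormallySmooth D B :=
    K683.TruncPoly.formallySmooth e he ht inferInstance
  have hder := K683.TruncPoly.exists_derivation (B := B) e he ht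
  have htn : t ^ (n + 1) = 0 := by
    rw [ht, ← map_pow, K683.TruncPoly.tau_pow e he, map_zero]
  have hsurj : Function.Surjective (algebraMap B (B ⧸ Ideal.span {t ^ n})) :=
    Ideal.Quotient.mk_surjective
  refine ⟨?_, ?_⟩
  · obtain ⟨δ, hδ⟩ := hder
    -- the map is additive
    let r : (B ⧸ Ideal.span {t ^ n}) ⊗[B] Ω[B⁄k] →ₗ[B ⧸ Ideal.span {t ^ n}] (B ⧸ Ideal.span {t ^ n}) :=
      (TensorProduct.isBaseChange B Ω[B⁄k] (B ⧸ Ideal.span {t ^ n})).lift δ.liftKaehlerDifferential
    have hr : ∀ f : B, r ((1 : (B ⧸ Ideal.span {t ^ n})) ⊗ₜ[B] KaehlerDifferential.D k B f) = δ f := by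
      intro f
      have := IsBaseChange.lift_eq (TensorProduct.isBaseChange B Ω[B⁄k] (B ⧸ Ideal.span {t ^ n}))
        δ.liftKaehlerDifferential (KaehlerDifferential.D k B f)
      rw [Derivation.liftKaehlerDifferential_comp_D] at this
      exact this
    have key : ∀ f : B, Ideal.Quotient.mk (Ideal.span {t ^ n}) f = 0 → δ f = 0 → f = 0 := by
      intro f hf hf'
      obtain ⟨g, rfl⟩ := Ideal.mem_span_singleton.1 (Ideal.Quotient.eq_zero_iff_mem.1 hf)
      rw [Derivation.leibniz, Derivation.leibniz_pow, hδ] at hf'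
      have h0 : t ^ n • δ g = 0 := by
        rw [Algebra.smul_def]
        have : algebraMap B (B ⧸ Ideal.span {t ^ n}) (t ^ n) = 0 :=
          Ideal.Quotient.eq_zero_iff_mem.2 (Ideal.mem_span_singleton_self _)
        rw [this, zero_mul]
      rw [h0, zero_add] at hf'
      have h1 : Ideal.Quotient.mk (Ideal.span {t ^ n}) (g * ((n : B) * t ^ (n - 1))) = 0 := by
        rw [← hf']
        simp only [map_mul, map_natCast, map_pow, Algebra.smul_def, mul_one]
        rfl
      obtain ⟨c, hc⟩ := Ideal.mem_span_singleton.1 (Ideal.Quotient.eq_zero_iff_mem.1 h1)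
      have h2 : (n : B) * (t ^ n * g) = 0 := by
        have h3 : t ^ n = t * t ^ (n - 1) := by
          rw [← pow_succ']; congr 1; omega
        calc (n : B) * (t ^ n * g) = t * (g * ((n : B) * t ^ (n - 1))) := by rw [h3]; ring
          _ = t ^ (n + 1) * c := by rw [hc]; ring
          _ = 0 := by rw [htn, zero_mul]
      have h4 : IsUnit (n : B) := by
        have : IsUnit ((n : k)) := (Nat.cast_ne_zero.2 (by omega : n ≠ 0)).isUnit
        have := this.map (algebraMap k B)
        rwa [map_natCast] at this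
      exact h4.mul_right_eq_zero.1 h2
    intro f g hfg
    simp only [Prod.mk.injEq] at hfg
    rw [← sub_eq_zero]
    refine key _ ?_ ?_
    · rw [map_sub, hfg.1, sub_self]
    · rw [← hr, map_sub, TensorProduct.tmul_sub, hfg.2, sub_self, map_zero]
  · ext ⟨g, α⟩
    simp only [Set.mem_range, Prod.mk.injEq, Set.mem_ofPred_eq]
    constructor
    · rintro ⟨f, rfl, rfl⟩
      rw [KaehlerDifferential.mapBaseChange_tmul, one_smul, KaehlerDifferential.map_D]
      rfl
    · intro h
      obtain ⟨f, rfl⟩ := Ideal.Quotient.mk_surjective g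
      have h1 : KaehlerDifferential.mapBaseChange k B (B ⧸ Ideal.span {t ^ n})
          (α - (1 : (B ⧸ Ideal.span {t ^ n})) ⊗ₜ[B] KaehlerDifferential.D k B f) = 0 := by
        rw [map_sub, ← h, KaehlerDifferential.mapBaseChange_tmul, one_smul, KaehlerDifferential.map_D]
        exact sub_self _
      obtain ⟨z, hz⟩ := (KaehlerDifferential.exact_kerCotangentToTensor_mapBaseChange k B
        (B ⧸ Ideal.span {t ^ n}) hsurj _).1 h1
      obtain ⟨y, rfl⟩ := Ideal.toCotangent_surjective _ z
      rw [KaehlerDifferential.kerCotangentToTensor_toCotangent] at hz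
      refine ⟨f + y.1, ?_, ?_⟩
      · rw [map_add]
        have : Ideal.Quotient.mk (Ideal.span {t ^ n}) y.1 = 0 := y.2
        rw [this, add_zero]
      · rw [map_add, TensorProduct.tmul_add, hz]
        abel

end Groth.Agent.S18838
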