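import Groth.Statements.S18839
import Groth.Agent.Deform.K683.TruncPoly2

set_option autoImplicit false
universe u
open Polynomial TensorProduct
open Deform

namespace Groth.Agent.S18839

/-- Let k be an algebraically closed field of characteristic zero, n ≥ 1, D = k[X]/(X^(n+1)) (given with
a k-algebra isomorphism e identifying the class of X with τ ∈ D), and B a finitely generated
k-algebra which is a flat D-algebra such that B/tB is smooth over k, where t is the image of τ in B
(an affine open of a flat deformation of a smooth k-scheme over Spec D); put B' = B/t^nB. The map ν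
: Ω_(B/k) → Ω_(B/D) × (B' ⊗_B Ω_(B/k)), η ↦ (η relative to D, 1 ⊗ η), is injective, and its image
consists exactly of the pairs (α, β) with the same image in Ω_(B'/D) under the canonical maps
Ω_(B/D) → Ω_(B'/D) and B' ⊗_B Ω_(B/k) → Ω_(B'/k) → Ω_(B'/D). Injectivity uses that n + 1 is
invertible in k (so that t^n dt = 0 in Ω_(B/k)). The source works with a flat proper family over
Spec D with smooth central fibre; the statement is local and is given here on an affine open. -/
theorem result (k : Type u) [Field k] [IsAlgClosed k] [CharZero k] (n : ℕ) (hn : 1 ≤ n)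
    (D : Type u) [CommRing D] [Algebra k D] (τ : D)
    (e : (k[X] ⧸ Ideal.span {(X : k[X]) ^ (n + 1)}) ≃ₐ[k] D)
    (he : e (Ideal.Quotient.mk (Ideal.span {(X : k[X]) ^ (n + 1)}) X) = τ)
    (B : Type u) [CommRing B] [Algebra k B] [Algebra D B] [IsScalarTower k D B]
    [Algebra.FiniteType k B] [Module.Flat D B]
    (t : B) (ht : t = algebraMap D B τ) (hsm : Algebra.Smooth k (B ⧸ Ideal.span {t})) :
    Function.Injective (fun η : Ω[B⁄k] =>
      ((KaehlerDifferential.map k D B B η, (1 : (B ⧸ Ideal.span {t ^ n})) ⊗ₜ[B] η) : Ω[B⁄D] × ((B ⧸ Ideal.span {t ^ n}) ⊗[B] Ω[B⁄k]))) ∧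
    Set.range (fun η : Ω[B⁄k] =>
      ((KaehlerDifferential.map k D B B η, (1 : (B ⧸ Ideal.span {t ^ n})) ⊗ₜ[B] η) : Ω[B⁄D] × ((B ⧸ Ideal.span {t ^ n}) ⊗[B] Ω[B⁄k]))) =
      {p | KaehlerDifferential.map D D B (B ⧸ Ideal.span {t ^ n}) p.1 =
        KaehlerDifferential.map k D (B ⧸ Ideal.span {t ^ n}) (B ⧸ Ideal.span {t ^ n}) (KaehlerDifferential.mapBaseChange k B (B ⧸ Ideal.span {t ^ n}) p.2)} := by
  have hfs : Algebra.FormallySmooth D B :=
    K683.TruncPoly.formallySmooth e he ht inferInstance
  have hder := K683.TruncPoly.exists_derivation (B := B) e he ht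
  have htn : t ^ (n + 1) = 0 := by
    rw [ht, ← map_pow, K683.TruncPoly.tau_pow e he, map_zero]
  have hsurj : Function.Surjective (algebraMap B (B ⧸ Ideal.span {t ^ n})) :=
    Ideal.Quotient.mk_surjective
  obtain ⟨r, hr⟩ := K683.TruncPoly.exists_retraction (k := k) (B ⧸ Ideal.span {t ^ n}) t hder
  have hex := K683.TruncPoly.exact_baseChange_dt (B := B) (B ⧸ Ideal.span {t ^ n}) e he ht
  have htdt : t ^ n • KaehlerDifferential.D k B t = 0 := by
    have h1 : KaehlerDifferential.D k B (t ^ (n + 1)) = 0 := by rw [htn, map_zero]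
    rw [Derivation.leibniz_pow] at h1
    have h4 : IsUnit ((n + 1 : ℕ) : B) := by
      have : IsUnit (((n + 1 : ℕ) : k)) := (Nat.cast_ne_zero.2 (by omega : n + 1 ≠ 0)).isUnit
      have := this.map (algebraMap k B)
      rwa [map_natCast] at this
    rw [← Nat.cast_smul_eq_nsmul B, Nat.add_sub_cancel] at h1
    exact h4.smul_eq_zero.1 h1
  refine ⟨?_, ?_⟩
  · have key : ∀ η : Ω[B⁄k], KaehlerDifferential.map k D B B η = 0 →
        (1 : (B ⧸ Ideal.span {t ^ n})) ⊗ₜ[B] η = 0 → η = 0 := by
      intro η h1 h2
      obtain ⟨b, rfl⟩ := K683.TruncPoly.exists_smul_of_map_eq_zero e he ht η h1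
      rw [TensorProduct.tmul_smul, TensorProduct.smul_tmul', Algebra.smul_def, mul_one] at h2
      have h3 := congrArg r h2
      have h4 : (algebraMap B (B ⧸ Ideal.span {t ^ n}) b) ⊗ₜ[B] KaehlerDifferential.D k B t =
        (algebraMap B (B ⧸ Ideal.span {t ^ n}) b) • ((1 : (B ⧸ Ideal.span {t ^ n})) ⊗ₜ[B] KaehlerDifferential.D k B t) := by
        rw [TensorProduct.smul_tmul', smul_eq_mul, mul_one]
      rw [h4, map_smul, hr, smul_eq_mul, mul_one, map_zero] at h3
      obtain ⟨c, rfl⟩ := Ideal.mem_span_singleton.1 (Ideal.Quotient.eq_zero_iff_mem.1 h3)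
      rw [mul_comm, mul_smul, htdt, smul_zero]
    intro x y hxy
    simp only [Prod.mk.injEq] at hxy
    rw [← sub_eq_zero]
    refine key _ ?_ ?_
    · rw [map_sub, hxy.1, sub_self]
    · rw [TensorProduct.tmul_sub, hxy.2, sub_self]
  · ext ⟨α, β⟩
    simp only [Set.mem_range, Prod.mk.injEq, Set.mem_ofPred_eq]
    -- comparison of the two maps
    have hcomp : ∀ z : (B ⧸ Ideal.span {t ^ n}) ⊗[B] Ω[B⁄k],
        KaehlerDifferential.map k D (B ⧸ Ideal.span {t ^ n}) (B ⧸ Ideal.span {t ^ n})
          (KaehlerDifferential.mapBaseChange k B (B ⧸ Ideal.span {t ^ n}) z) =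
        KaehlerDifferential.mapBaseChange D B (B ⧸ Ideal.span {t ^ n})
          (LinearMap.baseChange (B ⧸ Ideal.span {t ^ n}) (KaehlerDifferential.map k D B B) z) := by
      intro z
      induction z with
      | zero => simp
      | add x y hx hy => simp only [map_add, hx, hy]
      | tmul b ω =>
        rw [LinearMap.baseChange_tmul, KaehlerDifferential.mapBaseChange_tmul,
          KaehlerDifferential.mapBaseChange_tmul, map_smul]
        congr 1
        have hω : ω ∈ Submodule.span B (Set.range (KaehlerDifferential.D k B)) := by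
          rw [KaehlerDifferential.span_range_derivation]; trivial
        induction hω using Submodule.span_induction with
        | mem x hx =>
          obtain ⟨a, rfl⟩ := hx
          simp only [KaehlerDifferential.map_D]
          rfl
        | zero => simp
        | add x y _ _ hx hy => simp only [map_add, hx, hy]
        | smul c x _ hx =>
          rw [LinearMap.map_smul, LinearMap.map_smul, LinearMap.map_smul, ← hx,
            ← algebraMap_smul (B ⧸ Ideal.span {t ^ n}) c, map_smul, algebraMap_smul]
    have hmap : ∀ η : Ω[B⁄D], KaehlerDifferential.map D D B (B ⧸ Ideal.span {t ^ n}) η =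
        KaehlerDifferential.mapBaseChange D B (B ⧸ Ideal.span {t ^ n}) (1 ⊗ₜ η) := by
      intro η
      rw [KaehlerDifferential.mapBaseChange_tmul, one_smul]
    have hinj : Function.Injective (KaehlerDifferential.mapBaseChange D B (B ⧸ Ideal.span {t ^ n})) := by
      rw [injective_iff_map_eq_zero]
      intro z hz
      obtain ⟨w, rfl⟩ := (KaehlerDifferential.exact_kerCotangentToTensor_mapBaseChange D B
        (B ⧸ Ideal.span {t ^ n}) hsurj _).1 hz
      obtain ⟨y, rfl⟩ := Ideal.toCotangent_surjective _ w
      rw [KaehlerDifferential.kerCotangentToTensor_toCotangent]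
      obtain ⟨c, hc⟩ := Ideal.mem_span_singleton.1 (Ideal.Quotient.eq_zero_iff_mem.1 y.2)
      have h1 : KaehlerDifferential.D D B y.1 = t ^ n • KaehlerDifferential.D D B c := by
        rw [hc, Derivation.leibniz, ht, ← map_pow, Derivation.map_algebraMap, smul_zero, add_zero]
      rw [h1, TensorProduct.tmul_smul, TensorProduct.smul_tmul', Algebra.smul_def]
      have : algebraMap B (B ⧸ Ideal.span {t ^ n}) (t ^ n) = 0 :=
          Ideal.Quotient.eq_zero_iff_mem.2 (Ideal.mem_span_singleton_self _)
      rw [this, zero_mul, TensorProduct.zero_tmul]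
    constructor
    · rintro ⟨η, rfl, rfl⟩
      rw [hcomp, hmap, LinearMap.baseChange_tmul]
    · intro h
      rw [hcomp, hmap] at h
      have h2 := hinj h
      obtain ⟨η, rfl⟩ := KaehlerDifferential.map_surjective k D B α
      have h3 : LinearMap.baseChange (B ⧸ Ideal.span {t ^ n}) (KaehlerDifferential.map k D B B)
          (β - (1 : (B ⧸ Ideal.span {t ^ n})) ⊗ₜ[B] η) = 0 := by
        rw [map_sub, ← h2, LinearMap.baseChange_tmul, sub_self]
      obtain ⟨c, hc⟩ := (hex _).1 h3
      obtain ⟨b, rfl⟩ := Ideal.Quotient.mk_surjective c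
      refine ⟨η + b • KaehlerDifferential.D k B t, ?_, ?_⟩
      · rw [map_add, map_smul, K683.TruncPoly.map_D_eq_zero ht, smul_zero, add_zero]
      · rw [TensorProduct.tmul_add, TensorProduct.tmul_smul, TensorProduct.smul_tmul', Algebra.smul_def,
          mul_one]
        rw [LinearMap.toSpanSingleton_apply, TensorProduct.smul_tmul', smul_eq_mul, mul_one] at hc
        have h5 : algebraMap B (B ⧸ Ideal.span {t ^ n}) b = Ideal.Quotient.mk (Ideal.span {t ^ n}) b := rfl
        rw [h5, hc]
        abel

end Groth.Agent.S18839
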