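import Groth.Statements.S18845
import Groth.Agent.TFOne.K975.Sub

set_option autoImplicit false
universe u
open CategoryTheory CategoryTheory.Limits AlgebraicGeometry
open TFOne

namespace Groth.Agent.S18845

/-- Let X be a proper, geometrically reduced scheme of pure dimension one over a field k whose
irreducible components (with their reduced structure) are geometrically integral over k, let Y and Z
be closed subcurves (non-empty unions of irreducible components) with Y ∪ Z = X, and let M be a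
torsion-free sheaf of rank one on X. Suppose M sits in a short exact sequence 0 ⟶ i_{Y*} I ⟶ M ⟶
i_{Z*} J ⟶ 0 of modules on X, where I is a simple torsion-free sheaf of rank one on the reduced
closed subscheme Y, J is a simple torsion-free sheaf of rank one on the reduced closed subscheme Z,
and i_{Y*}, i_{Z*} are the direct images. Then M is simple over k exactly when the sequence does not
split (the epimorphism M ⟶ i_{Z*} J has no section). -/
theorem result (k : Type u) [Field k] (X : Scheme.{u}) [X.Over (Spec (CommRingCat.of k))] [IsProper (X ↘ Spec (CommRingCat.of k))] [IsReduced X] [GeometricallyReduced (X ↘ Spec (CommRingCat.of k))] (hpure : ∀ C ∈ irreducibleComponents (X : Type u), topologicalKrullDim C = 1) (hgi : ∀ (C : Set X) (hC : C ∈ irreducibleComponents (X : Type u)), GeometricallyIntegral (VecSt.subschι X C (isClosed_of_mem_irreducibleComponents C hC) ≫ (X ↘ Spec (CommRingCat.of k)))) (Y Z : Set X) (hY : IsClosed Y) (hZ : IsClosed Z) (hYs : VecSt.IsSubcurve X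 Y) (hZs : VecSt.IsSubcurve X Z) (hcov : Y ∪ Z = Set.univ) (M : X.Modules) (hM : TFOne.IsTF1 X M) (I : (VecSt.subsch X Y hY).Modules) (hI : TFOne.IsTF1 (VecSt.subsch X Y hY) I) (hIs : TFOne.IsSimple (VecSt.subsch X Y hY) k (VecSt.subschι X Y hY ≫ (X ↘ Spec (CommRingCat.of k))) I) (J : (VecSt.subsch X Z hZ).Modules) (hJ : TFOne.IsTF1 (VecSt.subsch X Z hZ) J) (hJs : TFOne.IsSimple (VecSt.subsch X Z hZ) k (VecSt.subschι X Z hZ ≫ (X ↘ Spec (CommRingCat.of k))) J) (a : (Coh.push (VecSt.subschι X Y hY)).obj I ⟶ M) (b : M ⟶ (Coh.push (VecSt.subschι X Z hZ)).obj J) (w : a ≫ b = 0) (hex : (ShortComplex.mk a b w).ShortExact) : TFOne.IsSimple X k (X ↘ Spec (CommRingCat.of k)) M ↔ ¬ IsSplitEpi b := by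
  have hN : IsNoetherian X :=
    Groth.Agent.VarietyA.GlobGen.isNoetherian_of_finiteType (X ↘ (Spec (CommRingCat.of k)))
  have hNZ : IsLocallyNoetherian (VecSt.subsch X Z hZ) :=
    LocallyOfFiniteType.isLocallyNoetherian (VecSt.subschι X Z hZ)
  have hYU := K975.Gen.isUC_of_isSubcurve hYs
  have hZU := K975.Gen.isUC_of_isSubcurve hZs
  letI : (VecSt.subsch X Y hY).Over (Spec (CommRingCat.of k)) :=
    ⟨VecSt.subschι X Y hY ≫ (X ↘ Spec (CommRingCat.of k))⟩
  letI : (VecSt.subsch X Z hZ).Over (Spec (CommRingCat.of k)) :=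
    ⟨VecSt.subschι X Z hZ ≫ (X ↘ Spec (CommRingCat.of k))⟩
  have hMT := K975.Gen.tf_of_isTorsionFree hM.1.1 hM.2.1
  have hJT := K975.Sub.tf_push hZ hZU (K975.Gen.tf_of_isTorsionFree hJ.1.1 hJ.2.1)
  have hma : Mono a := hex.mono_f
  have heb : Epi b := hex.epi_g
  obtain ⟨ξ, hξ, hξY⟩ := K975.Gen.exists_gen_of_isSubcurve hYs
  obtain ⟨η, hη, hηZ⟩ := K975.Gen.exists_gen_of_isSubcurve hZs
  have hA0 := (K975.Sub.push_gs hY hYU hI.2.2 hξ).mpr hξY
  have hB0 := (K975.Sub.push_gs hZ hZU hJ.2.2 hη).mpr hηZ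
  have key := K975.Simple.onlyScalars_iff_of_exact k hex hMT hJT
    (K975.Simple.onlyScalars_push k (VecSt.subschι X Y hY) rfl hIs.2)
    (K975.Simple.onlyScalars_push k (VecSt.subschι X Z hZ) rfl hJs.2)
    (K975.Sub.disjoint_of_exact a b w (K975.Gen.genSimple_of_isRkOne hM.2.2))
    ⟨ξ, hξ, hA0⟩ ⟨η, hη, hB0⟩
  rw [← key, K975.Simple.isSimple_iff]
  refine and_iff_right fun h0 => K975.Gen.nontrivial_of_isRkOne hM.2.2 hξ ?_
  exact (Groth.Agent.VarietyA.StalkCrit.isZero_iff_stalks M).mp h0 ξ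

end Groth.Agent.S18845
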