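import Groth.Statements.S18847
import Groth.Agent.TFOne.K975.BetaFn
import Groth.Agent.TFOne.K975.DVR

set_option autoImplicit false
universe u
open CategoryTheory CategoryTheory.Limits AlgebraicGeometry
open TFOne

namespace Groth.Agent.S18847

/-- Let R be a discrete valuation ring with residue field κ, f : X ⟶ Spec R flat and proper, and X_s its
special fibre, assumed reduced of pure dimension one with geometrically integral irreducible
components over κ. Let I be a coherent R-flat module on X whose restriction I(s) to X_s is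
torsion-free rank-1, E a locally free module of rank r > 0 on X with restriction E(s), and d an
integer with χ(I(s)) = d and deg E(s) = -r·d. For a closed subset T of X_s write I(s)_T for the
torsion-free quotient of I(s) on T (pinned by its defining property) and β(T) := r·χ(I(s)_T) +
deg(E(s)|_T) (the source's β cleared of the denominator r). Let Y be a closed subcurve of X_s (a
non-empty union of irreducible components), and let I^Y be the kernel of the composite I ⟶ i_* I(s)
⟶ i_* I(s)_Y, with restriction I^Y(s) to X_s and quotients I^Y(s)_T and numbers β^Y(T) :=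
r·χ(I^Y(s)_T) + deg(E(s)|_T) defined likewise. Assume that Y is the largest closed subcurve of X_s
on which β is minimal: β(Y) ≤ β(T) for every closed subcurve T of X_s, and every closed subcurve T
with β(T) = β(Y) is contained in Y. Then for every closed subcurve Z of X_s one has β(Y) ≤ β^Y(Z),
and β^Y(Z) = β(Y) only if Z ⊆ Y. (The source takes f projective.) -/
theorem result (R : Type u) [CommRing R] [IsDomain R] [IsDiscreteValuationRing R] (X : Scheme.{u}) (f : X ⟶ Spec (CommRingCat.of R)) [Flat f] [IsProper f] (Xs : Scheme.{u}) [Xs.Over (Spec (CommRingCat.of (IsLocalRing.ResidueField R)))] (i : Xs ⟶ X) (hsq : IsPullback i (Xs ↘ Spec (CommRingCat.of (IsLocalRing.ResidueField R))) f (Spec.map (CommRingCat.ofHom (IsLocalRing.residue R)))) [IsReduced Xs] (hpure : ∀ C ∈ irreducibleComponents (Xs : Type u), topologicalKrullDim C = 1) (hgi : ∀ (C : Set Xs) (hC : C ∈ irreducibleComponents (Xs : Type u)), GeometricallyIntegral (VecSt.subschι Xs C (isClosed_of_mem_irreducibleComponents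 C hC) ≫ (Xs ↘ Spec (CommRingCat.of (IsLocalRing.ResidueField R))))) (I : X.Modules) (hIc : Coh.IsCoh I) (hIf : FlatMod.IsFlatOver f I) (hIs : TFOne.IsTF1 Xs ((Scheme.Modules.pullback i).obj I)) (E : X.Modules) (r : ℕ) (hr : 0 < r) (hE : FlatMod.IsFinLocFreeOfRank r E) (d : ℤ) (hχ : Curv2.euler (IsLocalRing.ResidueField R) Xs ((Scheme.Modules.pullback i).obj I) = d) (hEd : Curv2.deg (IsLocalRing.ResidueField R) Xs ((Scheme.Modules.pullback i).obj E) r = -(r : ℤ) * d) (Y : Set Xs) (hY : IsClosed Y) (hYs : VecSt.IsSubcurve Xs Y) (GY : Xs.Modules) (πY : ((Scheme.Modules.pullback i).obj I) ⟶ GY) (hGY : TFOne.IsQuotOn Xs ((Scheme.Modules.pullback i).obj I) Y GY πY) (IY : X.Modules) (hIY : IY = kernel ((Scheme.Modules.pullbackPushforwardAdjunction i).unit.app I ≫ (Scheme.Modules.pushforward i).map πY)) (hmin : ∀ (T : Set Xs) (hT : IsClosed T), VecSt.IsSubcurve Xs T → ∀ (G : Xs.Modules) (π : ((Scheme.Modules.pullback i).obj I) ⟶ G), TFOne.IsQuotOn Xs ((Scheme.Modules.pullback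 i).obj I) T G π → TFOne.rBeta Xs (IsLocalRing.ResidueField R) (Xs ↘ Spec (CommRingCat.of (IsLocalRing.ResidueField R))) Y hY ((Scheme.Modules.pullback i).obj E) r GY ≤ TFOne.rBeta Xs (IsLocalRing.ResidueField R) (Xs ↘ Spec (CommRingCat.of (IsLocalRing.ResidueField R))) T hT ((Scheme.Modules.pullback i).obj E) r G) (hmax : ∀ (T : Set Xs) (hT : IsClosed T), VecSt.IsSubcurve Xs T → ∀ (G : Xs.Modules) (π : ((Scheme.Modules.pullback i).obj I) ⟶ G), TFOne.IsQuotOn Xs ((Scheme.Modules.pullback i).obj I) T G π → TFOne.rBeta Xs (IsLocalRing.ResidueField R) (Xs ↘ Spec (CommRingCat.of (IsLocalRing.ResidueField R))) T hT ((Scheme.Modules.pullback i).obj E) r G = TFOne.rBeta Xs (IsLocalRing.ResidueField R) (Xs ↘ Spec (CommRingCat.of (IsLocalRing.ResidueField R))) Y hY ((Scheme.Modules.pullback i).obj E) r GY → T ⊆ Y) (Z : Set Xs) (hZ : IsClosed Z) (hZs : VecSt.IsSubcurve Xs Z) (GZ1 : Xs.Modules) (πZ1 : ((Scheme.Modules.pullback i).obj IY) ⟶ GZ1) (hGZ1 : TFOne.IsQuotOn Xs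 ((Scheme.Modules.pullback i).obj IY) Z GZ1 πZ1) : TFOne.rBeta Xs (IsLocalRing.ResidueField R) (Xs ↘ Spec (CommRingCat.of (IsLocalRing.ResidueField R))) Y hY ((Scheme.Modules.pullback i).obj E) r GY ≤ TFOne.rBeta Xs (IsLocalRing.ResidueField R) (Xs ↘ Spec (CommRingCat.of (IsLocalRing.ResidueField R))) Z hZ ((Scheme.Modules.pullback i).obj E) r GZ1 ∧ (TFOne.rBeta Xs (IsLocalRing.ResidueField R) (Xs ↘ Spec (CommRingCat.of (IsLocalRing.ResidueField R))) Z hZ ((Scheme.Modules.pullback i).obj E) r GZ1 = TFOne.rBeta Xs (IsLocalRing.ResidueField R) (Xs ↘ Spec (CommRingCat.of (IsLocalRing.ResidueField R))) Y hY ((Scheme.Modules.pullback i).obj E) r GY → Z ⊆ Y) := by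
  subst hIY
  have hPr := K975.DVR.isProper_s hsq
  have hNs : IsNoetherian Xs := K975.Euler.isNoetherian (IsLocalRing.ResidueField R) Xs
  have hF := K975.BetaFn.nice_of_isTF1 hIs
  have hG := K975.Quot.isQ_of_isQuotOn hGY
  have hπ := hGY.1
  obtain ⟨α, β, w, hex⟩ := K975.DVR.exists_seq hsq hIf πY
  have hNc := K975.DVR.isCoh_pull i (K975.DVR.isCoh_mod hsq hIc hGY.2.1 πY)
  have hN := K975.BetaFn.nice_N hG hF hNc hex
  have hE' := K975.DVR.rank_pull i hE
  have hdim := K975.Euler.dim_le_one hpure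
  have h0 := K975.BetaFn.b_univ_eq_zero (IsLocalRing.ResidueField R) hpure hE' hF hχ hEd
  rw [K975.BetaFn.rBeta_eq_b _ hpure hE' hN hZ hGZ1, K975.BetaFn.rBeta_eq_b _ hpure hE' hF hY hGY]
  have hb : ∀ T : Set Xs, (∃ ξ, Groth.Agent.CurvesB.SubH1.IsGen ξ ∧ ξ ∈ T) →
      K975.BetaFn.b (IsLocalRing.ResidueField R) r (Groth.Agent.S1641.degC (IsLocalRing.ResidueField R) Xs r
        ((Scheme.Modules.pullback i).obj E)) ((Scheme.Modules.pullback i).obj I) Y ≤
        K975.BetaFn.b (IsLocalRing.ResidueField R) r (Groth.Agent.S1641.degC (IsLocalRing.ResidueField R) Xs r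
        ((Scheme.Modules.pullback i).obj E)) ((Scheme.Modules.pullback i).obj I) T ∧
      (K975.BetaFn.b (IsLocalRing.ResidueField R) r (Groth.Agent.S1641.degC (IsLocalRing.ResidueField R) Xs r
        ((Scheme.Modules.pullback i).obj E)) ((Scheme.Modules.pullback i).obj I) T =
        K975.BetaFn.b (IsLocalRing.ResidueField R) r (Groth.Agent.S1641.degC (IsLocalRing.ResidueField R) Xs r
        ((Scheme.Modules.pullback i).obj E)) ((Scheme.Modules.pullback i).obj I) Y →
          ∀ ξ, Groth.Agent.CurvesB.SubH1.IsGen ξ → ξ ∈ T → ξ ∈ Y) := by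
    intro T hT
    have hgs : ∀ ξ, Groth.Agent.CurvesB.SubH1.IsGen ξ → (ξ ∈ K975.BetaFn.cl T ↔ ξ ∈ T) :=
      fun ξ hξ => K975.BetaFn.mem_cl_iff hξ
    have hq := K975.BetaFn.isQuotOn_cl hF T
    have h1 := hmin _ (K975.BetaFn.isClosed_cl T) (K975.BetaFn.isSubcurve_cl hT) _ _ hq
    have h2 := hmax _ (K975.BetaFn.isClosed_cl T) (K975.BetaFn.isSubcurve_cl hT) _ _ hq
    rw [K975.BetaFn.rBeta_eq_b _ hpure hE' hF (K975.BetaFn.isClosed_cl T) hq,
      K975.BetaFn.rBeta_eq_b _ hpure hE' hF hY hGY, K975.BetaFn.b_congr (IsLocalRing.ResidueField R) hF hgs] at h1 h2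
    exact ⟨h1, fun h ξ hξ hξT => h2 h ((hgs ξ hξ).mpr hξT)⟩
  have key := K975.BetaFn.b_mod_le (IsLocalRing.ResidueField R) (r := r)
    (d := Groth.Agent.S1641.degC (IsLocalRing.ResidueField R) Xs r ((Scheme.Modules.pullback i).obj E))
    hG hF hNc hex hdim (Z := Z) (U := Y ∪ Z) (W := Y ∩ Z) (fun ξ _ => Iff.rfl) (fun ξ _ => Iff.rfl)
  obtain ⟨ξ0, hξ0, hξ0Y⟩ := K975.Gen.exists_gen_of_isSubcurve hYs
  have hU := hb (Y ∪ Z) ⟨ξ0, hξ0, Or.inl hξ0Y⟩
  have hX := (hb Set.univ ⟨ξ0, hξ0, trivial⟩).1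
  rw [h0] at hX
  have hWle : K975.BetaFn.b (IsLocalRing.ResidueField R) r (Groth.Agent.S1641.degC (IsLocalRing.ResidueField R) Xs r
        ((Scheme.Modules.pullback i).obj E)) ((Scheme.Modules.pullback i).obj I) Y ≤
      K975.BetaFn.b (IsLocalRing.ResidueField R) r (Groth.Agent.S1641.degC (IsLocalRing.ResidueField R) Xs r
        ((Scheme.Modules.pullback i).obj E)) ((Scheme.Modules.pullback i).obj I) (Y ∩ Z) := by
    by_cases h : ∃ ξ, Groth.Agent.CurvesB.SubH1.IsGen ξ ∧ ξ ∈ Y ∩ Z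
    · exact (hb (Y ∩ Z) h).1
    · push Not at h
      rw [K975.BetaFn.b_of_empty _ hF h]
      exact hX
  constructor
  · linarith [hU.1]
  · intro h
    have h3 := hU.2 (le_antisymm (by linarith) hU.1)
    exact ((K975.Gen.isUC_of_isSubcurve hZs).subset_iff (K975.Gen.isUC_of_isSubcurve hYs)).mpr
      fun ξ hξ hξZ => h3 ξ hξ (Or.inr hξZ)

end Groth.Agent.S18847
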