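import Groth.Statements.S18848
import Groth.Agent.TFOne.K975.BetaFn
import Groth.Agent.TFOne.K975.DVR
import Groth.Agent.TFOne.K975.SubSemi

set_option autoImplicit false
universe u
open CategoryTheory CategoryTheory.Limits AlgebraicGeometry
open TFOne

namespace Groth.Agent.S18848

/-- Let R be a discrete valuation ring with residue field κ, f : X ⟶ Spec R flat and proper, and X_s its
special fibre, assumed reduced of pure dimension one with geometrically integral irreducible
components over κ. Let I be a coherent R-flat module on X whose restriction I(s) to X_s is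
torsion-free rank-1, E a locally free module of rank r > 0 on X with restriction E(s), and d an
integer with χ(I(s)) = d and deg E(s) = -r·d. For a closed subset T of X_s write I(s)_T for the
torsion-free quotient of I(s) on T (pinned by its defining property) and β(T) := r·χ(I(s)_T) +
deg(E(s)|_T) (the source's β cleared of the denominator r). Let Y be a closed subcurve of X_s (a
non-empty union of irreducible components), and let I^Y be the kernel of the composite I ⟶ i_* I(s)
⟶ i_* I(s)_Y, with restriction I^Y(s) to X_s and quotients I^Y(s)_T and numbers β^Y(T) :=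
r·χ(I^Y(s)_T) + deg(E(s)|_T) defined likewise. Assume I(s) is semistable with respect to E(s). Then
I^Y(s) is semistable with respect to E(s) if and only if β(Y) = 0 and I(s)_Y, viewed on the reduced
closed subscheme Y, is semistable with respect to E(s)|_Y. (Here β(Y) = 0 says that E(s)|_Y is a
polarisation for I(s)_Y, the source's implicit requirement for semistability with respect to
E(s)|_Y. The source states the conclusion for semistability of I^Y over Spec R, which it reduces at
once to the special fibre since I^Y and I agree off Y; it also asserts that I^Y(s) and I(s) are then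
Jordan–Hölder equivalent, which is not stated here; it takes f projective.) -/
theorem result (R : Type u) [CommRing R] [IsDomain R] [IsDiscreteValuationRing R] (X : Scheme.{u}) (f : X ⟶ Spec (CommRingCat.of R)) [Flat f] [IsProper f] (Xs : Scheme.{u}) [Xs.Over (Spec (CommRingCat.of (IsLocalRing.ResidueField R)))] (i : Xs ⟶ X) (hsq : IsPullback i (Xs ↘ Spec (CommRingCat.of (IsLocalRing.ResidueField R))) f (Spec.map (CommRingCat.ofHom (IsLocalRing.residue R)))) [IsReduced Xs] (hpure : ∀ C ∈ irreducibleComponents (Xs : Type u), topologicalKrullDim C = 1) (hgi : ∀ (C : Set Xs) (hC : C ∈ irreducibleComponents (Xs : Type u)), GeometricallyIntegral (VecSt.subschι Xs C (isClosed_of_mem_irreducibleComponents C hC) ≫ (Xs ↘ Spec (CommRingCat.of (IsLocalRing.ResidueField R))))) (I : X.Modules) (hIc : Coh.IsCoh I) (hIf : FlatMod.IsFlatOver f I) (hIs : TFOne.IsTF1 Xs ((Scheme.Modules.pullback i).obj I)) (E : X.Modules) (r : ℕ) (hr : 0 < r) (hE : FlatMod.IsFinLocFreeOfRank r E) (d : ℤ) (hχ : Curv2.euler (IsLocalRing.ResidueField R)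 Xs ((Scheme.Modules.pullback i).obj I) = d) (hEd : Curv2.deg (IsLocalRing.ResidueField R) Xs ((Scheme.Modules.pullback i).obj E) r = -(r : ℤ) * d) (hss : TFOne.IsSemistable Xs (IsLocalRing.ResidueField R) (Xs ↘ Spec (CommRingCat.of (IsLocalRing.ResidueField R))) ((Scheme.Modules.pullback i).obj I) ((Scheme.Modules.pullback i).obj E) r) (Y : Set Xs) (hY : IsClosed Y) (hYs : VecSt.IsSubcurve Xs Y) (GY : Xs.Modules) (πY : ((Scheme.Modules.pullback i).obj I) ⟶ GY) (hGY : TFOne.IsQuotOn Xs ((Scheme.Modules.pullback i).obj I) Y GY πY) (IY : X.Modules) (hIY : IY = kernel ((Scheme.Modules.pullbackPushforwardAdjunction i).unit.app I ≫ (Scheme.Modules.pushforward i).map πY)) : TFOne.IsSemistable Xs (IsLocalRing.ResidueField R) (Xs ↘ Spec (CommRingCat.of (IsLocalRing.ResidueField R))) ((Scheme.Modules.pullback i).obj IY) ((Scheme.Modules.pullback i).obj E) r ↔ (TFOne.rBeta Xs (IsLocalRing.ResidueField R) (Xs ↘ Spec (CommRingCat.of (IsLocalRing.ResidueField R))) Y hY ((Scheme.Modules.pullback i).obj E) r GY = 0 ∧ TFOne.IsSemistable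 (VecSt.subsch Xs Y hY) (IsLocalRing.ResidueField R) (VecSt.subschι Xs Y hY ≫ (Xs ↘ Spec (CommRingCat.of (IsLocalRing.ResidueField R)))) ((Scheme.Modules.pullback (VecSt.subschι Xs Y hY)).obj GY) ((Scheme.Modules.pullback (VecSt.subschι Xs Y hY)).obj ((Scheme.Modules.pullback i).obj E)) r) := by
  subst hIY
  have hPr := K975.DVR.isProper_s hsq
  have hNs : IsNoetherian Xs := K975.Euler.isNoetherian (IsLocalRing.ResidueField R) Xs
  have hF := K975.BetaFn.nice_of_isTF1 hIs
  have hG := K975.Quot.isQ_of_isQuotOn hGY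
  have hπ := hGY.1
  obtain ⟨α, β, w, hex⟩ := K975.DVR.exists_seq hsq hIf πY
  have hNc := K975.DVR.isCoh_pull i (K975.DVR.isCoh_mod hsq hIc hGY.2.1 πY)
  have hN := K975.BetaFn.nice_N hG hF hNc hex
  have hE' := K975.DVR.rank_pull i hE
  have hdim := K975.Euler.dim_le_one hpure
  have h0 := K975.BetaFn.b_univ_eq_zero (IsLocalRing.ResidueField R) hpure hE' hF hχ hEd
  have hnn := K975.BetaFn.b_nonneg _ hF h0 ((K975.BetaFn.isSemistable_iff _ hpure hE').mp hss).2
  rw [K975.BetaFn.rBeta_eq_b _ hpure hE' hF hY hGY]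
  constructor
  · intro hs
    have hs' := ((K975.BetaFn.isSemistable_iff _ hpure hE').mp hs).2
    have hNnn := K975.BetaFn.b_nonneg _ hN
      ((K975.BetaFn.b_mod_univ _ hG hF hNc hex).trans h0) hs'
    refine ⟨?_, K975.SubSemi.isSemistable_pull hY (K975.Gen.isUC_of_isSubcurve hYs) hG _ hpure hE' hIs hnn⟩
    have h1 := K975.BetaFn.b_mod_compl (IsLocalRing.ResidueField R) (r := r)
      (d := Groth.Agent.S1641.degC (IsLocalRing.ResidueField R) Xs r ((Scheme.Modules.pullback i).obj E))
      hG hF hNc hex (V := {ξ | ξ ∉ Y}) (fun _ _ => Iff.rfl)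
    have h2 := hNnn {ξ | ξ ∉ Y}
    change 0 ≤ K975.BetaFn.b (IsLocalRing.ResidueField R) r _ _ {ξ | ξ ∉ Y} at h2
    have h3 := h2.trans_eq h1
    rw [h0] at h3
    exact le_antisymm (by linarith) (hnn Y)
  · rintro ⟨h1, -⟩
    refine (K975.BetaFn.isSemistable_iff _ hpure hE').mpr ⟨⟨hNc, K975.Gen.isTorsionFree_of_tf hN.tf,
      K975.ModQ.isRkOne_N hG hF.gs hex hIs.2.2⟩, fun Z _ _ => ?_⟩
    have key := K975.BetaFn.b_mod_le (IsLocalRing.ResidueField R) (r := r)
      (d := Groth.Agent.S1641.degC (IsLocalRing.ResidueField R) Xs r ((Scheme.Modules.pullback i).obj E))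
      hG hF hNc hex hdim (Z := Z) (U := Y ∪ Z) (W := Y ∩ Z) (fun ξ _ => Iff.rfl) (fun ξ _ => Iff.rfl)
    rw [h1] at key
    linarith [hnn (Y ∩ Z), hnn (Y ∪ Z)]

end Groth.Agent.S18848
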