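import Groth.Statements.S18849
import Groth.Agent.TFOne.K22.SimpleFib

set_option autoImplicit false
universe u
open CategoryTheory CategoryTheory.Limits AlgebraicGeometry
open TFOne

namespace Groth.Agent.S18849

open K77.TF K77.Tower IsLocalRing

/-- Let R be a discrete valuation ring with fraction field K and residue field κ, f : X ⟶ Spec R flat
and proper with generic fibre X_K (a cartesian square over Spec K ⟶ Spec R with top arrow j) and
special fibre X_s (a cartesian square over Spec κ ⟶ Spec R), the latter reduced of pure dimension
one with geometrically integral irreducible components over κ. Let I be a relatively torsion-free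
rank-1 module on X over Spec R (R-flat, finitely presented, torsion-free rank-1 on every geometric
fibre). If the restriction j^* I is simple on every geometric fibre of X_K over Spec K, then there
is a relatively torsion-free rank-1 module I' on X over Spec R with j^* I' ≅ j^* I which is simple
on every geometric fibre of f. (The source states: a simple torsion-free rank-1 sheaf on the generic
fibre has an extension that is simple over Spec R; its proof, as the remark printed after it points
out, starts from an arbitrary extension, whose existence it quotes, and modifies it — the form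
stated here. The source takes f projective.) -/
theorem result (R : Type u) [CommRing R] [IsDomain R] [IsDiscreteValuationRing R] (X : Scheme.{u}) (f : X ⟶ Spec (CommRingCat.of R)) [Flat f] [IsProper f] (Xs : Scheme.{u}) [Xs.Over (Spec (CommRingCat.of (IsLocalRing.ResidueField R)))] (i : Xs ⟶ X) (hsq : IsPullback i (Xs ↘ Spec (CommRingCat.of (IsLocalRing.ResidueField R))) f (Spec.map (CommRingCat.ofHom (IsLocalRing.residue R)))) [IsReduced Xs] (hpure : ∀ C ∈ irreducibleComponents (Xs : Type u), topologicalKrullDim C = 1) (hgi : ∀ (C : Set Xs) (hC : C ∈ irreducibleComponents (Xs : Type u)), GeometricallyIntegral (VecSt.subschι Xs C (isClosed_of_mem_irreducibleComponents C hC) ≫ (Xs ↘ Spec (CommRingCat.of (IsLocalRing.ResidueField R))))) (Xg : Scheme.{u}) [Xg.Over (Spec (CommRingCat.of (FractionRing R)))] (j : Xg ⟶ X) (hgen : IsPullback j (Xg ↘ Spec (CommRingCat.of (FractionRing R))) f (Spec.map (CommRingCat.ofHom (algebraMap R (FractionRing R))))) (I : X.Modules) (hI : TFOne.IsRelTF1 f I) (hIg : TFOne.FibSimple (Xg ↘ Spec (CommRingCat.of (FractionRing R))) ((Scheme.Modules.pullback j).obj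 I)) : ∃ I' : X.Modules, TFOne.IsRelTF1 f I' ∧ Nonempty ((Scheme.Modules.pullback j).obj I' ≅ ((Scheme.Modules.pullback j).obj I)) ∧ TFOne.FibSimple f I' := by
  have hdim : topologicalKrullDim Xs ≤ 1 := K77.Row.dim_le_one hpure
  have hp := K77.Dvr.isProper_Xs R f i hsq
  have hn := Groth.Agent.Fga.SnapperTwist.isNoetherian_of_proper (ResidueField R) Xs
  have hA := K77.Transfer.adm_of_isRelTF1 f i hsq hgi hI
  obtain ⟨I', hR, -, h⟩ := exists_indec_or_tower f i hsq (E := Coh.structureModule X) (r := 1)
    (Groth.Agent.Ega2.QCohLocal.isFinLocFreeOfRank_one_iff.mpr Groth.Agent.Fdesc.LocGen.isInvertible_structureModule) hdim (fun _ => True) hA trivial (fun _ _ _ _ _ _ _ _ _ => trivial)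
  have hA' := hR.adm f i hsq hA
  have hrel := K77.Transfer.isRelTF1_of_reach f i hsq hI hA hR
  have hK : Function.Injective (algebraMap R (FractionRing R)) := IsFractionRing.injective _ _
  have hne := K22.SimpleFib.nonempty_special f i hsq j hIg
  rcases h with h | ⟨T, hT, hTne, hTne', h1, h2⟩
  · exact ⟨I', hrel, K77.Transfer.nonempty_iso_generic f i hsq hA hR hK j _ hgen,
      K22.SimpleFib.fibSimple_of_reach f i hsq hpure hgi j hgen hA hR
        (K22.SimpleFib.onlyScalars_of_indec (ResidueField R) hpure hgi hA'.tf1 h) hIg⟩
  · exfalso
    obtain ⟨Ω, _, _, ψ, hψ, hno⟩ := K22.TwoTowers.exists_not_simple hsq hdim hA' hTne hTne' h1 h2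
    have hY := IsPullback.of_hasPullback f (Spec.map (CommRingCat.ofHom ψ))
    obtain ⟨e⟩ := K77.Transfer.nonempty_iso_generic f i hsq hA hR hψ _ _ hY
    exact hno _ _ _ hY (K77.Iso.isSimple Ω _ e.symm (K77.Transfer.isSimple_generic f j hgen hIg hψ _ _ hY))

end Groth.Agent.S18849
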