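import Groth.Statements.S18850
import Groth.Agent.TFOne.K22.GenericBt

set_option autoImplicit false
universe u
open CategoryTheory CategoryTheory.Limits AlgebraicGeometry
open TFOne

namespace Groth.Agent.S18850

open K77.TF K77.Tower IsLocalRing

/-- Let R be a discrete valuation ring with fraction field K and residue field κ, f : X ⟶ Spec R flat
and proper with generic fibre X_K (a cartesian square over Spec K ⟶ Spec R with top arrow j) and
special fibre X_s (a cartesian square over Spec κ ⟶ Spec R), the latter reduced of pure dimension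
one with geometrically integral irreducible components over κ. Let I be a relatively torsion-free
rank-1 module on X over Spec R (R-flat, finitely presented, torsion-free rank-1 on every geometric
fibre), E a locally free module of rank r > 0 on X, and d an integer with χ(I(s)) = d and deg E(s) =
-r·d for the restrictions I(s), E(s) to X_s (so that E is a polarisation for I). If j^* I is
semistable with respect to j^* E on every geometric fibre of X_K over Spec K, then there is a
relatively torsion-free rank-1 module I' on X over Spec R with j^* I' ≅ j^* I which is semistable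
with respect to E on every geometric fibre of f. (As in the simple case, the source's proof starts
from an arbitrary extension, the form stated here; the source takes f projective.) -/
theorem result (R : Type u) [CommRing R] [IsDomain R] [IsDiscreteValuationRing R] (X : Scheme.{u}) (f : X ⟶ Spec (CommRingCat.of R)) [Flat f] [IsProper f] (Xs : Scheme.{u}) [Xs.Over (Spec (CommRingCat.of (IsLocalRing.ResidueField R)))] (i : Xs ⟶ X) (hsq : IsPullback i (Xs ↘ Spec (CommRingCat.of (IsLocalRing.ResidueField R))) f (Spec.map (CommRingCat.ofHom (IsLocalRing.residue R)))) [IsReduced Xs] (hpure : ∀ C ∈ irreducibleComponents (Xs : Type u), topologicalKrullDim C = 1) (hgi : ∀ (C : Set Xs) (hC : C ∈ irreducibleComponents (Xs : Type u)), GeometricallyIntegral (VecSt.subschι Xs C (isClosed_of_mem_irreducibleComponents C hC) ≫ (Xs ↘ Spec (CommRingCat.of (IsLocalRing.ResidueField R))))) (Xg : Scheme.{u}) [Xg.Over (Spec (CommRingCat.of (FractionRing R)))] (j : Xg ⟶ X) (hgen : IsPullback j (Xg ↘ Spec (CommRingCat.of (FractionRing R))) f (Spec.map (CommRingCat.ofHom (algebraMap R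 (FractionRing R))))) (I : X.Modules) (hI : TFOne.IsRelTF1 f I) (E : X.Modules) (r : ℕ) (hr : 0 < r) (hE : FlatMod.IsFinLocFreeOfRank r E) (d : ℤ) (hχ : Curv2.euler (IsLocalRing.ResidueField R) Xs ((Scheme.Modules.pullback i).obj I) = d) (hEd : Curv2.deg (IsLocalRing.ResidueField R) Xs ((Scheme.Modules.pullback i).obj E) r = -(r : ℤ) * d) (hIg : TFOne.FibSemistable (Xg ↘ Spec (CommRingCat.of (FractionRing R))) ((Scheme.Modules.pullback j).obj I) ((Scheme.Modules.pullback j).obj E) r) : ∃ I' : X.Modules, TFOne.IsRelTF1 f I' ∧ Nonempty ((Scheme.Modules.pullback j).obj I' ≅ ((Scheme.Modules.pullback j).obj I)) ∧ TFOne.FibSemistable f I' E r := by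
  have hdim : topologicalKrullDim Xs ≤ 1 := K77.Row.dim_le_one hpure
  have hp := K77.Dvr.isProper_Xs R f i hsq
  have hn := Groth.Agent.Fga.SnapperTwist.isNoetherian_of_proper (ResidueField R) Xs
  have hA := K77.Transfer.adm_of_isRelTF1 f i hsq hgi hI
  have hEs := K652.LfRank.pullback i hE
  have h0 : tot R i E I = 0 := K77.Row.total hdim hA.tf1 hEs hχ hEd
  obtain ⟨I', hR, h⟩ := exists_semi_or_tower f i hsq hr hE hdim hA h0
  have hA' := hR.adm f i hsq hA
  have hrel := K77.Transfer.isRelTF1_of_reach f i hsq hI hA hR
  have hK : Function.Injective (algebraMap R (FractionRing R)) := IsFractionRing.injective _ _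
  rcases h with h | ⟨T, hT, hneg, htow⟩
  · exact ⟨I', hrel, K77.Transfer.nonempty_iso_generic f i hsq hA hR hK j _ hgen,
      K77.Transfer.fibSemistable_of_reach f i hsq hgi j hgen hdim hE hA hR h
        (fun Ω _ φ Y _ g' hpb G hG => K975.Fam.Psi_eq_of_field hEs hG hpb) hIg⟩
  · exfalso
    obtain ⟨Ω, _, _, φ, Y, _, g, T', hφ, hY, hred, hdimY, hT', hPsi, hbt, -, -⟩ :=
      K22.GenericBt.exists_generic_bt hsq hgi hdim hE hA' hrel hT htow
    have hpY : IsProper (Y ↘ Spec (CommRingCat.of Ω)) :=
      MorphismProperty.of_isPullback (P := @IsProper) hY ‹IsProper f›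
    have hs : TFOne.IsSemistable Y Ω (Y ↘ Spec (CommRingCat.of Ω)) ((Scheme.Modules.pullback g).obj I)
        ((Scheme.Modules.pullback g).obj E) r :=
      K77.Transfer.isSemistable_generic f j hgen hIg hφ g _ hY
    obtain ⟨e⟩ := K77.Transfer.nonempty_iso_generic f i hsq hA hR hφ g _ hY
    have hs' := K77.Iso.isSemistable Ω _ e.symm (Iso.refl _) r hs
    have h0' : tot R i E I' = 0 := (tot_reach f i hsq hE hdim hA hR).trans h0
    have hsemi := (isSemistable_iff_semi Ω (K652.LfRank.pullback g hE) hdimY hs'.1 (hPsi.trans h0')).1 hs' T' hT'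
    rw [hbt] at hsemi
    exact absurd hsemi (not_le.mpr hneg)

end Groth.Agent.S18850
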