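import Groth.Statements.S18857
import Groth.Agent.TFOne.K22.Limit

set_option autoImplicit false
universe u
open CategoryTheory CategoryTheory.Limits AlgebraicGeometry
open TFOne

namespace Groth.Agent.S18857

open K22.TowerLim K22.Decomp K22.Unit K22.LimitThm K975.Gen K975.Quot Groth.Agent.CurvesB.SubH1

theorem exists_kernel_of_eq {C : Type*} [Category C] [Abelian C] {A B K : C} (f : A ⟶ B)
    (h : K = kernel f) :
    ∃ (κ : K ⟶ A) (w : κ ≫ f = 0), Mono κ ∧ (ShortComplex.mk κ f w).Exact := by
  subst h
  exact ⟨kernel.ι f, kernel.condition f, inferInstance, ShortComplex.exact_kernel f⟩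

/-- Let R be a complete discrete valuation ring with residue field κ, f : X ⟶ Spec R flat and proper,
and X_s its special fibre (a cartesian square over Spec κ ⟶ Spec R with top arrow i), assumed
reduced of pure dimension one with geometrically integral irreducible components over κ. Let Y ≠ X_s
be a closed subcurve of X_s (a non-empty union of irreducible components) and Y' the union of the
components not contained in Y. Let I^0 ⊇ I^1 ⊇ I^2 ⊇ ⋯ be modules on X, I^0 coherent and R-flat with
torsion-free rank-1 restriction to X_s, such that for every n the module I^{n+1} is the kernel of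
the composite I^n ⟶ i_* I^n(s) ⟶ i_* I^n(s)_Y, where I^n(s) is the restriction of I^n to X_s and
I^n(s)_Y its torsion-free quotient on Y (pinned by its defining property). Suppose that every I^n(s)
decomposes at Y: the canonical map I^n(s) ⟶ I^n(s)_Y ⊞ I^n(s)_{Y'} is an isomorphism. Then there are
a module F on X, flat over Spec R, and an epimorphism p : I^0 ⟶ F whose restriction to X_s
identifies F(s), as a quotient of I^0(s), with I^0(s)_Y. (The source takes f projective and allows Y
= X_s, a case excluded here; it is trivial with F = I^0.) -/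
theorem result (R : Type u) [CommRing R] [IsDomain R] [IsDiscreteValuationRing R] (X : Scheme.{u}) (f : X ⟶ Spec (CommRingCat.of R)) [Flat f] [IsProper f] (Xs : Scheme.{u}) [Xs.Over (Spec (CommRingCat.of (IsLocalRing.ResidueField R)))] (i : Xs ⟶ X) (hsq : IsPullback i (Xs ↘ Spec (CommRingCat.of (IsLocalRing.ResidueField R))) f (Spec.map (CommRingCat.ofHom (IsLocalRing.residue R)))) [IsReduced Xs] (hpure : ∀ C ∈ irreducibleComponents (Xs : Type u), topologicalKrullDim C = 1) (hgi : ∀ (C : Set Xs) (hC : C ∈ irreducibleComponents (Xs : Type u)), GeometricallyIntegral (VecSt.subschι Xs C (isClosed_of_mem_irreducibleComponents C hC) ≫ (Xs ↘ Spec (CommRingCat.of (IsLocalRing.ResidueField R))))) [IsAdicComplete (IsLocalRing.maximalIdeal R) R] (In : ℕ → X.Modules) (hIc : Coh.IsCoh (In 0)) (hIf : FlatMod.IsFlatOver f (In 0)) (hIs : TFOne.IsTF1 Xs ((Scheme.Modules.pullback i).obj (In 0))) (Y : Set Xs) (hY : IsClosed Y) (hYs : VecSt.IsSubcurve Xs Y) (hYne : Y ≠ Set.univ) (Y' : Set Xs) (hY' : Y' = ⋃₀ {C | C ∈ irreducibleComponents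 (Xs : Type u) ∧ ¬ C ⊆ Y}) (hY'c : IsClosed Y') (G G' : ℕ → Xs.Modules) (π : ∀ n : ℕ, ((Scheme.Modules.pullback i).obj (In n)) ⟶ G n) (π' : ∀ n : ℕ, ((Scheme.Modules.pullback i).obj (In n)) ⟶ G' n) (hG : ∀ n : ℕ, TFOne.IsQuotOn Xs ((Scheme.Modules.pullback i).obj (In n)) Y (G n) (π n)) (hG' : ∀ n : ℕ, TFOne.IsQuotOn Xs ((Scheme.Modules.pullback i).obj (In n)) Y' (G' n) (π' n)) (hstep : ∀ n : ℕ, In (n + 1) = kernel ((Scheme.Modules.pullbackPushforwardAdjunction i).unit.app (In n) ≫ (Scheme.Modules.pushforward i).map (π n))) (hdec : ∀ n : ℕ, IsIso (biprod.lift (π n) (π' n))) : ∃ (F : X.Modules) (p : In 0 ⟶ F), Epi p ∧ FlatMod.IsFlatOver f F ∧ ∃ e : (Scheme.Modules.pullback i).obj F ≅ G 0, (Scheme.Modules.pullback i).map p ≫ e.hom = π 0 := by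
  letI : X.Over (Spec (CommRingCat.of R)) := ⟨f⟩
  haveI hpr : IsProper (X ↘ Spec (CommRingCat.of R)) := ‹IsProper f›
  have hcl : IsClosedImmersion i := isClosedImmersion_special hsq
  have hlN : IsLocallyNoetherian X := K22.TowerLim.isLocallyNoetherian R X
  have hlNs : IsLocallyNoetherian Xs := LocallyOfFiniteType.isLocallyNoetherian i
  obtain ⟨t, ht⟩ := IsDiscreteValuationRing.exists_irreducible R
  have hQ : ∀ n, IsQ _ Y (G n) (π n) := fun n => isQ_of_isQuotOn (hG n)
  have hQ' : ∀ n, IsQ _ Y' (G' n) (π' n) := fun n => isQ_of_isQuotOn (hG' n)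
  choose κ w hmono hex using fun n => exists_kernel_of_eq _ (hstep n)
  have hI : ∀ n, Coh.IsCoh (In n) := by
    intro n
    induction n with
    | zero => exact hIc
    | succ n ih =>
      rw [hstep n]
      exact Sga67.CohBasic.isCoh_kernel _ ih (Sga67.CohBasic.isQCoh_push i (hQ n).coh.1)
  have hfl : ∀ n, FlatMod.IsFlatOver (X ↘ Spec (CommRingCat.of R)) (In n) := by
    intro n
    induction n with
    | zero => exact hIf
    | succ n ih =>
      rw [isFlatOver_iff_mono ht (hI _).1] at ih ⊢
      have := hmono n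
      have h1 : Mono (Formal.smulMod R (In (n + 1)) t ≫ κ n) := by
        rw [FormalB.ModPow.smulMod_naturality]
        exact @mono_comp _ _ _ _ _ (κ n) (hmono n) (Formal.smulMod R (In n) t) ih
      exact mono_of_mono _ (κ n)
  obtain ⟨F, p, -, hp, hF, e, he⟩ := exists_limit_of_decomposing (qs := Xs ↘ Spec (CommRingCat.of
    (IsLocalRing.ResidueField R))) hsq In κ hI hfl hmono G G' π π' w hex hdec (fun n => (hQ' n).tf)
    (fun n m ξ hξ => by
      by_cases h : ξ ∈ Y
      · exact Or.inr ((hQ' m).subsingleton hξ (by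
          rw [hY', mem_compl_iff hY hξ]; exact not_not.mpr h))
      · exact Or.inl ((hQ n).subsingleton hξ h))
  exact ⟨F, p, hp, hF, e, he⟩

end Groth.Agent.S18857
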