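import Groth.Statements.S18874
import Groth.Agent.Lim.K342.StalkNhd
import Groth.Agent.Smoothlim.ProperDescend
import Groth.Agent.Etbase.FpqcDescent
import Mathlib.RingTheory.AdicCompletion.LocalRing
import Mathlib.RingTheory.AdicCompletion.AsTensorProduct
import Mathlib.RingTheory.Flat.FaithfullyFlat.Algebra

set_option autoImplicit false
universe u
open Lim

namespace Groth.Agent.S18874

open CategoryTheory AlgebraicGeometry in
/-- Let S be a quasi-compact scheme whose affine opens have excellent coordinate rings, let X → S and Y
→ S be quasi-compact, quasi-separated and locally of finite presentation, let f : X → Y be a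
morphism over S, let s be a closed point of S and R the completion of the local ring of S at s. If
the base change X ×_S Spec R → Y ×_S Spec R of f is proper, then s has an open neighbourhood W in S
such that X ×_S W → Y ×_S W is proper. (The published statement assumes X and Y only locally of
finite presentation over S; for S the affine line over a field, s the origin, Y = S and X the
disjoint union of S with one reduced point over each closed point other than s, the base change to
Spec R is an isomorphism while X ×_S W → W is not quasi-compact for any open W ∋ s, so X and Y are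
taken of finite presentation over S here, which is what the limit argument of the published proof
uses.) -/
theorem result
    (S : Scheme.{u}) [CompactSpace S] (hS : ∀ U : S.affineOpens, EGA4.IsExcellent Γ(S, U.1))
    {X Y : Scheme.{u}} (f : X ⟶ Y) (g : Y ⟶ S)
    [QuasiCompact g] [QuasiSeparated g] [LocallyOfFinitePresentation g]
    [QuasiCompact (f ≫ g)] [QuasiSeparated (f ≫ g)] [LocallyOfFinitePresentation (f ≫ g)]
    (s : S) (hs : IsClosed ({s} : Set S))
    (hR : IsProper (Limits.pullback.snd f (Limits.pullback.fst g
      (Spec.map (CommRingCat.ofHom (algebraMap (S.presheaf.stalk s) (EGA4.Cpl (S.presheaf.stalk s)))) ≫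
        S.fromSpecStalk s)))) :
    ∃ W : S.Opens, s ∈ W ∧ IsProper (f ∣_ (g ⁻¹ᵁ W)) := by
  have hN : IsLocallyNoetherian S := ⟨fun U => (hS U).1⟩
  have hNs : IsNoetherianRing (S.presheaf.stalk s) := inferInstance
  let a : Spec (CommRingCat.of (EGA4.Cpl (S.presheaf.stalk s))) ⟶ Spec (S.presheaf.stalk s) :=
    Spec.map (CommRingCat.ofHom (algebraMap (S.presheaf.stalk s) (EGA4.Cpl (S.presheaf.stalk s))))
  have hff : (algebraMap (S.presheaf.stalk s) (EGA4.Cpl (S.presheaf.stalk s))).FaithfullyFlat := by
    rw [RingHom.faithfullyFlat_algebraMap_iff]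
    exact Module.FaithfullyFlat.of_flat_of_isLocalHom
  have ha : (@Surjective ⊓ @Flat ⊓ @QuasiCompact : MorphismProperty Scheme.{u}) a := by
    have h := (flat_and_surjective_SpecMap_iff
      (CommRingCat.ofHom (algebraMap (S.presheaf.stalk s) (EGA4.Cpl (S.presheaf.stalk s))))).2 hff
    exact ⟨⟨h.2, h.1⟩, inferInstance⟩
  let b := S.fromSpecStalk s
  have w : Limits.pullback.fst g (a ≫ b) ≫ g = (Limits.pullback.snd g (a ≫ b) ≫ a) ≫ b := by
    rw [Limits.pullback.condition, Category.assoc]
  let q : Limits.pullback g (a ≫ b) ⟶ Limits.pullback g b := Limits.pullback.lift _ _ w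
  have hq0 : IsPullback q (Limits.pullback.snd g (a ≫ b)) (Limits.pullback.snd g b) a := by
    refine IsPullback.of_right (h₁₂ := Limits.pullback.fst g b) (v₁₃ := g) (h₂₂ := b) ?_
      (Limits.pullback.lift_snd _ _ _) (IsPullback.of_hasPullback g b)
    rw [Limits.pullback.lift_fst]
    exact IsPullback.of_hasPullback g (a ≫ b)
  have hq : (@Surjective ⊓ @Flat ⊓ @QuasiCompact : MorphismProperty Scheme.{u}) q :=
    MorphismProperty.of_isPullback hq0.flip ha
  have hR' : IsProper (Limits.pullback.snd f (q ≫ Limits.pullback.fst g b)) := by
    have : q ≫ Limits.pullback.fst g b = Limits.pullback.fst g (a ≫ b) := Limits.pullback.lift_fst _ _ _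
    rw [this]
    exact hR
  have hP : IsProper (Limits.pullback.snd f (Limits.pullback.fst g b)) := by
    have h1 := IsPullback.of_right' (IsPullback.of_hasPullback f (q ≫ Limits.pullback.fst g b))
      (IsPullback.of_hasPullback f (Limits.pullback.fst g b))
    exact MorphismProperty.of_isPullback_of_descendsAlong (P := @IsProper)
      (Q := (@Surjective ⊓ @Flat ⊓ @QuasiCompact : MorphismProperty Scheme.{u})) h1.flip hq hR'
  have : QuasiCompact f := QuasiCompact.of_comp f g
  have : QuasiSeparated f := QuasiSeparated.of_comp f g
  have : LocallyOfFiniteType f := locallyOfFiniteType_of_comp f g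
  obtain ⟨W, hsW, -, hW⟩ := K342.StalkNhd.exists_nhd s
    Groth.Agent.Smoothlim.LimBase.descendsAffine_isProper f g ⟨⟨inferInstance, inferInstance⟩, inferInstance⟩ hP
  exact ⟨W, hsW, hW⟩

end Groth.Agent.S18874
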