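import Groth.Statements.S18875
import Groth.Agent.HopfRep.K148.ConstFib

set_option autoImplicit false
universe u
open HopfRep

namespace Groth.Agent.S18875

open TensorProduct in


/-- Let L be a field and A a complete Noetherian local L-algebra with residue field L (there is a ring
map A → L whose composite with the structure map L → A is the identity of L; it is then surjective
with kernel the maximal ideal). Let B be a commutative Hopf algebra over A, smooth as an A-algebra
(an affine smooth group scheme over Spec A), such that every geometric fibre Ω ⊗_A B has connected
spectrum and the closed fibre L ⊗_A B is linearly reductive (all of its finite-dimensional comodules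
are semisimple). Then the group scheme is isomorphic over A to the constant one on its closed fibre
H: there is an isomorphism of A-bialgebras B ≅ A ⊗_L (L ⊗_A B). (Only the existence of such an
isomorphism is asserted.) -/
theorem result
    (L : Type u) [Field L] (A : Type u) [CommRing A] [IsNoetherianRing A] [IsLocalRing A]
    [IsAdicComplete (IsLocalRing.maximalIdeal A) A] [Algebra L A] [Algebra A L]
    (hsec : (algebraMap A L).comp (algebraMap L A) = RingHom.id L)
    (B : Type u) [CommRing B] [HopfAlgebra A B] [Algebra.Smooth A B]
    (hconn : ∀ (Ω : Type u) [Field Ω] [IsAlgClosed Ω] [Algebra A Ω],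
      ConnectedSpace (PrimeSpectrum (Ω ⊗[A] B)))
    (hlr : HopfRep.IsLinearlyReductive L (L ⊗[A] B)) :
    Nonempty (B ≃ₐc[A] (A ⊗[L] (L ⊗[A] B))) := by
  have h : HenselianLocalRing A :=
    Groth.Agent.Fga.HenselDVR.henselianLocalRing_of_henselianRing A
  exact K148.ConstFib.main L A hsec B hconn hlr

end Groth.Agent.S18875
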