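import Groth.Statements.S18876
import Groth.Agent.Gerb.K895.Coarse
import Groth.Agent.Gerb.K895.Equiv

set_option autoImplicit false
universe u
open Gerb

namespace Groth.Agent.S18876

open CategoryTheory AlgebraicGeometry in
/-- Let S be a scheme and F : 𝒳 → 𝒴 a morphism of algebraic stacks over S which makes 𝒳 an fppf gerbe
over 𝒴 and through which every morphism from 𝒳 to an algebraic space factors, uniquely up to
2-isomorphism. Then 𝒴 admits a coarse moduli space exactly when 𝒳 does, and the two coarse moduli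
spaces coincide: for every coarse moduli map π : 𝒴 → M the composite 𝒳 → 𝒴 → M is a coarse moduli
map of 𝒳. (The published statement is about the rigidification F of 𝒳 along a flat finitely
presented subgroup stack of its inertia; only two of its properties are assumed here, that F is a
gerbe and that maps to algebraic spaces factor through F, which is what the published argument uses;
neither stack is assumed quasi-separated or locally of finite presentation over S, and their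
diagonals are not assumed quasi-compact or separated.) -/
theorem result (S : Scheme.{u}) (𝒳 𝒴 : AlgSt.Cat S)
    (h𝒳 : AlgSt.IsAlgStack Scheme.fppfPrecoverage 𝒳) (h𝒴 : AlgSt.IsAlgStack Scheme.fppfPrecoverage 𝒴)
    (F : 𝒳 ⥤ᵇ 𝒴) (hF : Gerb.IsGerbeOver (QuotSh.J Scheme.fppfPrecoverage S) F)
    (huniv : ∀ (N : AlgSp.Sp S), AlgSp.IsAlgSpace N → ∀ φ : 𝒳 ⥤ᵇ AlgSt.ofSp N,
      ∃ ψ : 𝒴 ⥤ᵇ AlgSt.ofSp N, Nonempty (BasedFunctor.comp F ψ ≅ φ) ∧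
        ∀ ψ' : 𝒴 ⥤ᵇ AlgSt.ofSp N, Nonempty (BasedFunctor.comp F ψ' ≅ φ) → Nonempty (ψ' ≅ ψ)) :
    ((∃ (M : AlgSp.Sp S) (π : 𝒴 ⥤ᵇ AlgSt.ofSp M), AlgSt.IsCoarseModuli π) ↔
        ∃ (M : AlgSp.Sp S) (π : 𝒳 ⥤ᵇ AlgSt.ofSp M), AlgSt.IsCoarseModuli π) ∧
      ∀ (M : AlgSp.Sp S) (π : 𝒴 ⥤ᵇ AlgSt.ofSp M), AlgSt.IsCoarseModuli π →
        AlgSt.IsCoarseModuli (BasedFunctor.comp F π) := by
  have h𝒳f := h𝒳.isStack.1
  have h𝒴f := h𝒴.isStack.1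
  -- whiskering of 2-isomorphisms
  have wl : ∀ {N : AlgSp.Sp S} {φ ψ : 𝒴 ⥤ᵇ AlgSt.ofSp N}, (φ ≅ ψ) →
      Nonempty (BasedFunctor.comp F φ ≅ BasedFunctor.comp F ψ) := fun e =>
    ⟨(Stk.restr F _).mapIso e⟩
  have wr : ∀ {M N : AlgSp.Sp S} (g : M ⟶ N) {φ ψ : 𝒳 ⥤ᵇ AlgSt.ofSp M}, (φ ≅ ψ) →
      Nonempty (BasedFunctor.comp φ (AlgSt.ofSpMap g) ≅ BasedFunctor.comp ψ (AlgSt.ofSpMap g)) :=
    fun g _ _ e => ⟨(K895.Equiv.post 𝒳 (AlgSt.ofSpMap g)).mapIso e⟩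
  have key : ∀ (M : AlgSp.Sp S) (π : 𝒴 ⥤ᵇ AlgSt.ofSp M) (π' : 𝒳 ⥤ᵇ AlgSt.ofSp M),
      (BasedFunctor.comp F π ≅ π') → (AlgSt.IsCatModuli π ↔ AlgSt.IsCatModuli π') := by
    intro M π π' e
    constructor
    · rintro ⟨hM, h⟩
      refine ⟨hM, fun N hN φ => ?_⟩
      obtain ⟨ψ, ⟨eψ⟩, huψ⟩ := huniv N hN φ
      obtain ⟨g, ⟨eg⟩, hg⟩ := h N hN ψ
      obtain ⟨w1⟩ := wl eg
      obtain ⟨w2⟩ := wr g e
      refine ⟨g, ⟨w2.symm ≪≫ (show BasedFunctor.comp (BasedFunctor.comp F π) (AlgSt.ofSpMap g) ≅ φ from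
        w1 ≪≫ eψ)⟩, ?_⟩
      rintro g' ⟨eg'⟩
      apply hg
      obtain ⟨w2'⟩ := wr g' e
      exact huψ (BasedFunctor.comp π (AlgSt.ofSpMap g')) ⟨show BasedFunctor.comp (BasedFunctor.comp F π)
        (AlgSt.ofSpMap g') ≅ φ from w2' ≪≫ eg'⟩
    · rintro ⟨hM, h⟩
      refine ⟨hM, fun N hN ψ => ?_⟩
      obtain ⟨g, ⟨eg⟩, hg⟩ := h N hN (BasedFunctor.comp F ψ)
      obtain ⟨ψ₀, -, huψ⟩ := huniv N hN (BasedFunctor.comp F ψ)
      obtain ⟨i1⟩ := huψ ψ ⟨Iso.refl _⟩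
      obtain ⟨w2⟩ := wr g e
      obtain ⟨i2⟩ := huψ (BasedFunctor.comp π (AlgSt.ofSpMap g)) ⟨show BasedFunctor.comp
        (BasedFunctor.comp F π) (AlgSt.ofSpMap g) ≅ BasedFunctor.comp F ψ from w2 ≪≫ eg⟩
      refine ⟨g, ⟨i2 ≪≫ i1.symm⟩, ?_⟩
      rintro g' ⟨eg'⟩
      apply hg
      obtain ⟨w1⟩ := wl eg'
      obtain ⟨w2'⟩ := wr g' e
      exact ⟨w2'.symm ≪≫ (show BasedFunctor.comp (BasedFunctor.comp F π) (AlgSt.ofSpMap g') ≅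
        BasedFunctor.comp F ψ from w1)⟩
  have key2 : ∀ (M : AlgSp.Sp S) (π : 𝒴 ⥤ᵇ AlgSt.ofSp M) (π' : 𝒳 ⥤ᵇ AlgSt.ofSp M),
      (BasedFunctor.comp F π ≅ π') → (AlgSt.IsCoarseModuli π ↔ AlgSt.IsCoarseModuli π') := by
    intro M π π' e
    refine and_congr (key M π π' e) ?_
    rw [← K895.Coarse.geomPtBij_comp_iff h𝒳f h𝒴f F hF π]
    exact ⟨K895.Coarse.geomPtBij_iso e, K895.Coarse.geomPtBij_iso e.symm⟩
  refine ⟨⟨?_, ?_⟩, ?_⟩
  · rintro ⟨M, π, h⟩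
    exact ⟨M, BasedFunctor.comp F π, (key2 M π _ (Iso.refl _)).1 h⟩
  · rintro ⟨M, π', h⟩
    obtain ⟨π, ⟨e⟩, -⟩ := huniv M h.1.1 π'
    exact ⟨M, π, (key2 M π π' e).2 h⟩
  · intro M π h
    exact (key2 M π _ (Iso.refl _)).1 h

end Groth.Agent.S18876
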