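import Groth.Statements.S18878
import Groth.Agent.Lim.K342.SubGrpLim

set_option autoImplicit false
universe u
open Lim

namespace Groth.Agent.S18878

open CategoryTheory MonoidalCategory K342.SubGrpLim Limits in
open CategoryTheory AlgebraicGeometry in
/-- Let S = lim S_i be a cofiltered limit of schemes with affine transition morphisms over a
quasi-compact quasi-separated stage S_{i₀}, let G₀ be a group scheme separated and of finite
presentation over S_{i₀} and H₀ ⊆ G₀ a closed subscheme whose immersion is of finite presentation,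
and write G, H (resp. G_i, H_i) for the base changes to S (resp. to a stage S_i). If H is a closed
subgroup scheme of G, that is H carries a group structure over S for which H → G is a homomorphism,
then H_i is a closed subgroup scheme of G_i for some stage i → i₀; if moreover H is normal in G, the
stage can be chosen so that H_i is normal in G_i. (The published statement is for separated finitely
presented group algebraic spaces and an arbitrary closed subspace H₀; this row is the case of
schemes and assumes H₀ → G₀ of finite presentation: over the limit Spec k of the spectra of k[x_1,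
x_2, …]/(x_1, …, x_n), k of characteristic zero, the closed subscheme of the additive group cut out
by all x_m t^m becomes the whole additive group over Spec k but is a subgroup over no stage, so a
finiteness condition on H₀ is needed, and finite presentation is what the published limit argument
uses.) -/
theorem result
    {I : Type u} [SmallCategory I] [IsCofiltered I]
    (D : I ⥤ Scheme.{u}) (c : Limits.Cone D) (hc : Limits.IsLimit c)
    [∀ (i j : I) (a : i ⟶ j), IsAffineHom (D.map a)] (i₀ : I)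
    [CompactSpace (D.obj i₀)] [QuasiSeparatedSpace (D.obj i₀)]
    (G₀ : Over (D.obj i₀)) [GrpObj G₀] [IsSeparated G₀.hom] [QuasiCompact G₀.hom]
    [LocallyOfFinitePresentation G₀.hom]
    (H₀ : Over (D.obj i₀)) (ι₀ : H₀ ⟶ G₀) [IsClosedImmersion ι₀.left]
    [LocallyOfFinitePresentation ι₀.left]
    (hH : ∃ _ : GrpObj (Red.bc (c.π.app i₀) H₀), IsMonHom ((Over.pullback (c.π.app i₀)).map ι₀)) :
    (∃ (i : I) (a : i ⟶ i₀) (_ : GrpObj (Red.bc (D.map a) H₀)),
        IsMonHom ((Over.pullback (D.map a)).map ι₀)) ∧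
    ((∃ (_ : GrpObj (Red.bc (c.π.app i₀) H₀)) (_ : IsMonHom ((Over.pullback (c.π.app i₀)).map ι₀)),
        AlgGrp.IsNormalHom ((Over.pullback (c.π.app i₀)).map ι₀)) →
      ∃ (i : I) (a : i ⟶ i₀) (_ : GrpObj (Red.bc (D.map a) H₀))
        (_ : IsMonHom ((Over.pullback (D.map a)).map ι₀)),
        AlgGrp.IsNormalHom ((Over.pullback (D.map a)).map ι₀)) := by
  have hmono : Mono ι₀.left := inferInstance
  have : Mono ι₀ := Over.mono_of_mono_left ι₀
  have hH₁ : QuasiCompact H₀.hom := by rw [← Over.w ι₀]; infer_instance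
  have hH₂ : QuasiSeparated H₀.hom := by rw [← Over.w ι₀]; infer_instance
  have hHc : CompactSpace H₀.left := QuasiCompact.compactSpace_of_compactSpace H₀.hom
  have hHq : QuasiSeparatedSpace H₀.left := quasiSeparatedSpace_of_quasiSeparated H₀.hom
  have hGc : CompactSpace G₀.left := QuasiCompact.compactSpace_of_compactSpace G₀.hom
  have hGq : QuasiSeparatedSpace G₀.left := quasiSeparatedSpace_of_quasiSeparated G₀.hom
  have hHHc : CompactSpace (H₀ ⊗ H₀).left :=
    QuasiCompact.compactSpace_of_compactSpace (pullback.fst H₀.hom H₀.hom)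
  have hHHq : QuasiSeparatedSpace (H₀ ⊗ H₀).left :=
    quasiSeparatedSpace_of_quasiSeparated (pullback.fst H₀.hom H₀.hom)
  have hGHc : CompactSpace (G₀ ⊗ H₀).left :=
    QuasiCompact.compactSpace_of_compactSpace (pullback.fst G₀.hom H₀.hom)
  have hGHq : QuasiSeparatedSpace (G₀ ⊗ H₀).left :=
    quasiSeparatedSpace_of_quasiSeparated (pullback.fst G₀.hom H₀.hom)
  have h1c : CompactSpace (𝟙_ (Over (D.obj i₀))).left := inferInstanceAs (CompactSpace (D.obj i₀))
  have h1q : QuasiSeparatedSpace (𝟙_ (Over (D.obj i₀))).left :=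
    inferInstanceAs (QuasiSeparatedSpace (D.obj i₀))
  have main : ∃ φ : Over i₀, Fac (D.map φ.hom) ι₀ (uMul ι₀) ∧ Fac (D.map φ.hom) ι₀ (uOne G₀) ∧
      Fac (D.map φ.hom) ι₀ (uInv ι₀) := by
    obtain ⟨_, _⟩ := hH
    obtain ⟨h1, h2, h3⟩ := fac_of_isMonHom (f := c.π.app i₀) ι₀
    obtain ⟨φ₁, h1⟩ := exists_fac D c hc i₀ ι₀ _ h1
    obtain ⟨φ₂, h2⟩ := exists_fac D c hc i₀ ι₀ _ h2
    obtain ⟨φ₃, h3⟩ := exists_fac D c hc i₀ ι₀ _ h3
    obtain ⟨k, hk⟩ := exists_over i₀ ![φ₁, φ₂, φ₃]
    exact ⟨k, fac_of_hom (hk 0).some h1, fac_of_hom (hk 1).some h2, fac_of_hom (hk 2).some h3⟩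
  obtain ⟨φ, h1, h2, h3⟩ := main
  refine ⟨?_, ?_⟩
  · obtain ⟨h4, h5⟩ := exists_grpObj ι₀ h1 h2 h3
    exact ⟨φ.left, φ.hom, h4, h5⟩
  · rintro ⟨_, _, hn⟩
    obtain ⟨ψ, h4⟩ := exists_fac D c hc i₀ ι₀ _ (fac_of_isNormalHom ι₀ hn)
    obtain ⟨k, hk⟩ := exists_over i₀ ![φ, ψ]
    obtain ⟨h5, h6⟩ := exists_grpObj ι₀ (fac_of_hom (hk 0).some h1) (fac_of_hom (hk 0).some h2)
      (fac_of_hom (hk 0).some h3)
    exact ⟨k.left, k.hom, h5, h6, isNormalHom_of_fac ι₀ (fac_of_hom (hk 1).some h4)⟩

end Groth.Agent.S18878
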