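import Groth.Statements.S18881
import Groth.Agent.Resolve.K377.ResScheme
import Groth.Agent.S12416
import Groth.Agent.S4415
import Groth.Agent.S4418
import Groth.Agent.S9706
import Groth.Agent.S2331
import Groth.Agent.Surf.K457.Dom

set_option autoImplicit false
universe u
open CategoryTheory AlgebraicGeometry
open Resolve

namespace Groth.Agent.S18881

open K377.QESch TopologicalSpace

/-- Compositions of quasi-projective morphisms. -/
theorem qproj_comp {X Y Z : Scheme.{u}} [CompactSpace Z] (f : X ⟶ Y) (g : Y ⟶ Z)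
    (hf : RelProj.IsQuasiProjective f) (hg : RelProj.IsQuasiProjective g) : RelProj.IsQuasiProjective (f ≫ g) := by
  obtain ⟨h1, h2, L, hL⟩ := hf
  obtain ⟨h3, h4, K, hK⟩ := hg
  obtain ⟨n₀, -, h⟩ := Groth.Agent.S2331.result f g L K hL hK
  exact ⟨inferInstance, inferInstance, _, h n₀ le_rfl⟩

/-- Let S be a Noetherian separated scheme and g : X ⟶ S a morphism of finite type, with X reduced,
separated and quasi-excellent (every affine open of X has a quasi-excellent coordinate ring: a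
Noetherian G-ring with the J-2 property). Then there are a reduced scheme X' and a projective
birational morphism f : X' ⟶ X (X' is isomorphic over X to the relative Proj of a quasi-coherent
graded algebra generated by its degree-one part, of finite type; f is bijective on maximal points
with one-point fibres and equal residue fields over them) such that X' is quasi-projective over S,
meaning that f ≫ g is an open immersion followed by a projective morphism, and the local ring of X'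
at x is regular whenever the local ring of X at f x has Krull dimension at most 2. -/
theorem result {X S : Scheme.{u}}
    (g : X ⟶ S) [IsNoetherian S] [S.IsSeparated] [IsNoetherian X] [X.IsSeparated] [AlgebraicGeometry.IsReduced X]
    [LocallyOfFiniteType g]
    (hqe : ∀ U : X.affineOpens, EGA4.IsQuasiExcellent Γ(X, U)) :
    ∃ (X' : Scheme.{u}) (f : X' ⟶ X), AlgebraicGeometry.IsReduced X' ∧ RelProj.IsProjective f ∧
      RadPt.IsBirational f ∧
      (∃ (P : Scheme.{u}) (j : X' ⟶ P) (q : P ⟶ S), IsOpenImmersion j ∧ RelProj.IsProjective q ∧ j ≫ q = f ≫ g) ∧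
      ∀ x : X', ringKrullDim (X.presheaf.stalk (f.base x)) ≤ 2 →
        IsRegularLocalRing (X'.presheaf.stalk x) := by
  have hgs : IsSeparated g := by
    have h1 : IsSeparated (g ≫ Limits.terminal.from S) := by
      have : g ≫ Limits.terminal.from S = Limits.terminal.from X := Limits.terminal.hom_ext _ _
      rw [this]; infer_instance
    exact IsSeparated.of_comp g (Limits.terminal.from S)
  have hgq : QuasiCompact g := inferInstance
  have hQ : QE X := K377.QESch.of_affineOpens hqe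
  obtain ⟨X₁, f₁, hqp, hp₁, hs₁, ⟨U₁, hU₁, hU₁i⟩, hred, -, -⟩ := Groth.Agent.S4415.result g (Or.inl inferInstance)
  have hX₁r : AlgebraicGeometry.IsReduced X₁ := hred inferInstance
  obtain ⟨hq₁, hpr₁⟩ := Groth.Agent.S4418.result f₁ hp₁
  have hX₁n : IsNoetherian X₁ := by
    have : IsLocallyNoetherian X₁ := LocallyOfFiniteType.isLocallyNoetherian f₁
    have : CompactSpace X₁ := QuasiCompact.compactSpace_of_compactSpace f₁
    exact {}
  have hX₁s : X₁.IsSeparated := by
    rw [Scheme.isSeparated_iff]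
    have : f₁ ≫ Limits.terminal.from X = Limits.terminal.from X₁ := Limits.terminal.hom_ext _ _
    rw [← this]; infer_instance
  have hQ₁ : QE X₁ := of_locallyOfFiniteType f₁ hQ
  obtain ⟨X₂, f₂, hX₂r, hpr₂, hq₂, hiso₂, ⟨U₂, hU₂r, hU₂, hU₂'⟩, hreg⟩ := K377.ResScheme.main hQ₁
  have hX₂n : IsNoetherian X₂ := by
    have : IsLocallyNoetherian X₂ := LocallyOfFiniteType.isLocallyNoetherian f₂
    have : CompactSpace X₂ := QuasiCompact.compactSpace_of_compactSpace f₂
    exact {}
  obtain ⟨-, -, -, -, -, -, ⟨U₀, hU₀r, hU₀, -⟩, -⟩ := K377.ResScheme.main hQ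
  have hU₁d : Dense (U₁ : Set X) := by
    have h1 : Dense (f₁ '' ((f₁ ⁻¹ᵁ U₁ : X₁.Opens) : Set X₁)) :=
      f₁.surjective.denseRange.dense_image f₁.continuous hU₁
    refine h1.mono ?_
    rintro _ ⟨x, hx, rfl⟩
    exact hx
  let U : X.Opens := U₁ ⊓ U₀
  have hUd : Dense (U : Set X) := hU₁d.inter_of_isOpen_left hU₀ U₁.2
  have hiU : IsIso (f₁ ∣_ U) := K457.Dom.isIso_restrict_of_le f₁ (U := U₁) inf_le_left
  have hV : Dense ((f₁ ⁻¹ᵁ U : X₁.Opens) : Set X₁) := K377.ResScheme.dense_preimage f₁ U₁ U hU₁ hUd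
  have hVr : ∀ z : X₁, z ∈ f₁ ⁻¹ᵁ U → IsRegularLocalRing (X₁.presheaf.stalk z) := fun z hz =>
    K377.BlowCodim2.isRegularLocalRing_of_isIso_restrict f₁ U z hz (hU₀r _ hz.2)
  have hiV : IsIso (f₂ ∣_ (f₁ ⁻¹ᵁ U)) := hiso₂ _ hVr
  have hi₂ : IsIso (f₂ ∣_ U₂) := hiso₂ _ hU₂r
  have hW : Dense ((f₂ ⁻¹ᵁ (f₁ ⁻¹ᵁ U) : X₂.Opens) : Set X₂) :=
    K377.ResScheme.dense_preimage f₂ U₂ (f₁ ⁻¹ᵁ U) hU₂' hV
  have hiU₁ : IsIso (f₁ ∣_ U₁) := hU₁i
  have hb₁ : RadPt.IsBirational f₁ := K377.NormSch.isBirational f₁ U₁ hU₁d hU₁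
  have hiW : IsIso ((f₂ ≫ f₁) ∣_ U) := by
    rw [morphismRestrict_comp]
    exact @IsIso.comp_isIso _ _ _ _ _ (f₂ ∣_ (f₁ ⁻¹ᵁ U)) (f₁ ∣_ U) hiV hiU
  have hqc : RelProj.IsQuasiProjective (f₂ ≫ f₁) := qproj_comp f₂ f₁ hq₂ hq₁
  have hqS : RelProj.IsQuasiProjective ((f₂ ≫ f₁) ≫ g) := by
    rw [Category.assoc]
    exact qproj_comp f₂ (f₁ ≫ g) hq₂ hqp
  refine ⟨X₂, f₂ ≫ f₁, hX₂r, Groth.Agent.S12416.result _ hqc,
    K377.NormSch.isBirational (f₂ ≫ f₁) U hUd hW, ?_, fun x hx => ?_⟩
  · exact Groth.Agent.S9706.result _ hqS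
  · refine hreg x ((K377.DimIneq.of_isBirational f₁ hb₁ (f₂ x)).trans ?_)
    exact hx

end Groth.Agent.S18881
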