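import Groth.Statements.S18884
import Mathlib.Algebra.Group.Subgroup.Basic
-- import your own Groth.Agent.* helpers here

set_option autoImplicit false
universe v u w
open CategoryTheory CategoryTheory.Limits
open Desc

namespace Groth.Agent.S18884

section aux

variable {C : Type u} [Category.{v} C] [HasPullbacks C] (W : MorphismProperty C)

/-- The cosheaf condition. -/
def Cond (F : C ⥤ AddCommGrpCat.{w}) : Prop :=
  ∀ ⦃Y X : C⦄ (π : Y ⟶ X), W π → Function.Surjective (F.map π).hom ∧
    (F.map π).hom.ker = ((F.map (pullback.fst π π)).hom - (F.map (pullback.snd π π)).hom).range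

theorem ext_aux {W : MorphismProperty C} {D : ObjectProperty C} (hD : ∀ X : C, ∃ (Y : C) (π : Y ⟶ X), W π ∧ D Y) {F G : C ⥤ AddCommGrpCat.{w}}
    (hF : Cond W F) (α β : F ⟶ G)
    (h : ∀ X : C, D X → α.app X = β.app X) : α = β := by
  ext X x
  obtain ⟨Y, π, hπ, hY⟩ := hD X
  obtain ⟨y, rfl⟩ := (hF π hπ).1 x
  have e1 := ConcreteCategory.congr_hom (α.naturality π) y
  have e2 := ConcreteCategory.congr_hom (β.naturality π) y
  simp only [ConcreteCategory.comp_apply] at e1 e2
  change (α.app X) ((F.map π) y) = (β.app X) ((F.map π) y)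
  rw [e1, e2, h Y hY]

end aux

/-- Let C be a category with pullbacks equipped with a class W of morphisms, the covers, stable under
base change and under composition. An abelian cosheaf is a functor F : C ⥤ Ab such that for every
cover π : Y ⟶ X the map F(π) is surjective and its kernel is the image of F(p₁) − F(p₂), where p₁,
p₂ : Y ×_X Y ⟶ Y are the two projections. If D is a full subcategory of C such that every object of
C is the target of a cover whose source lies in D, then the restriction functor from the full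
subcategory of abelian cosheaves in C ⥤ Ab to D ⥤ Ab is full and faithful. -/
theorem result {C : Type u} [Category.{v} C]
    [HasPullbacks C] (W : MorphismProperty C) [W.IsStableUnderBaseChange] [W.IsStableUnderComposition]
    (D : ObjectProperty C) (hD : ∀ X : C, ∃ (Y : C) (π : Y ⟶ X), W π ∧ D Y) :
    (ObjectProperty.ι (fun F : C ⥤ AddCommGrpCat.{w} =>
        ∀ ⦃Y X : C⦄ (π : Y ⟶ X), W π → Function.Surjective (F.map π).hom ∧
          (F.map π).hom.ker = ((F.map (pullback.fst π π)).hom - (F.map (pullback.snd π π)).hom).range) ⋙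
      (Functor.whiskeringLeft D.FullSubcategory C AddCommGrpCat.{w}).obj D.ι).Full ∧
    (ObjectProperty.ι (fun F : C ⥤ AddCommGrpCat.{w} =>
        ∀ ⦃Y X : C⦄ (π : Y ⟶ X), W π → Function.Surjective (F.map π).hom ∧
          (F.map π).hom.ker = ((F.map (pullback.fst π π)).hom - (F.map (pullback.snd π π)).hom).range) ⋙
      (Functor.whiskeringLeft D.FullSubcategory C AddCommGrpCat.{w}).obj D.ι).Faithful := by
  refine ⟨⟨fun {F G} α => ?_⟩, ⟨fun {F G} α β h => ?_⟩⟩
  · -- full
    have hF : Cond W F.obj := F.property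
    have hG : Cond W G.obj := G.property
    change D.ι ⋙ F.obj ⟶ D.ι ⋙ G.obj at α
    have nat : ∀ {Y Y' : D.FullSubcategory} (f : Y.obj ⟶ Y'.obj) (t : F.obj.obj Y.obj),
        α.app Y' ((F.obj.map f) t) = (G.obj.map f) (α.app Y t) := by
      intro Y Y' f t
      exact ConcreteCategory.congr_hom (α.naturality (ObjectProperty.homMk f)) t
    have mapc : ∀ (H : C ⥤ AddCommGrpCat.{w}) {A B E : C} (f : A ⟶ B) (g : B ⟶ E) (t : H.obj A),
        (H.map g) ((H.map f) t) = (H.map (f ≫ g)) t := by
      intro H A B E f g t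
      rw [H.map_comp, ConcreteCategory.comp_apply]
    -- covers by objects of `D`
    choose Y π hπ hY using hD
    let Yd : C → D.FullSubcategory := fun X => ⟨Y X, hY X⟩
    -- the vanishing
    have hvan : ∀ (X : C) (t : F.obj.obj (Y X)), (F.obj.map (π X)) t = 0 →
        (G.obj.map (π X)) (α.app (Yd X) t) = 0 := by
      intro X t ht
      have hk : t ∈ (F.obj.map (π X)).hom.ker := ht
      rw [(hF (π X) (hπ X)).2] at hk
      obtain ⟨z, hz⟩ := hk
      obtain ⟨w, rfl⟩ := (hF (π (pullback (π X) (π X))) (hπ _)).1 z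
      have hz' : t = (F.obj.map (π (pullback (π X) (π X)) ≫ pullback.fst (π X) (π X))) w -
          (F.obj.map (π (pullback (π X) (π X)) ≫ pullback.snd (π X) (π X))) w := by
        rw [← hz, ← mapc, ← mapc]
        rfl
      rw [hz', map_sub, map_sub, nat (Y := Yd (pullback (π X) (π X))) (Y' := Yd X),
        nat (Y := Yd (pullback (π X) (π X))) (Y' := Yd X), mapc, mapc,
        Category.assoc, Category.assoc, pullback.condition, sub_self]
    have hex : ∀ (X : C), ∃ g : F.obj.obj X →+ G.obj.obj X, ∀ t : F.obj.obj (Y X),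
        g ((F.obj.map (π X)) t) = (G.obj.map (π X)) (α.app (Yd X) t) := by
      intro X
      have hs := (hF (π X) (hπ X)).1
      let k : F.obj.obj (Y X) →+ G.obj.obj X := (G.obj.map (π X)).hom.comp (α.app (Yd X)).hom
      have hk : (F.obj.map (π X)).hom.ker ≤ k.ker := fun t ht => hvan X t ht
      refine ⟨AddMonoidHom.liftOfRightInverse (F.obj.map (π X)).hom _
        (Function.rightInverse_surjInv hs) ⟨k, hk⟩, fun t => ?_⟩
      exact AddMonoidHom.liftOfRightInverse_comp_apply _ _ _ _ _
    choose g hg using hex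
    -- the key formula for any morphism from an object of `D`
    have key : ∀ (X : C) (Z : D.FullSubcategory) (f : Z.obj ⟶ X) (t : F.obj.obj Z.obj),
        g X ((F.obj.map f) t) = (G.obj.map f) (α.app Z t) := by
      intro X Z f t
      -- refine by the pullback
      let P := pullback f (π X)
      have hPW : W (pullback.fst f (π X)) := W.pullback_fst _ _ (hπ X)
      have hcov : W (π P ≫ pullback.fst f (π X)) := W.comp_mem _ _ (hπ P) hPW
      obtain ⟨w, rfl⟩ := (hF _ hcov).1 t
      change g X ((F.obj.map f) ((F.obj.map (π P ≫ pullback.fst f (π X))) w)) =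
        (G.obj.map f) (α.app Z ((F.obj.map (π P ≫ pullback.fst f (π X))) w))
      have e1 : g X ((F.obj.map f) ((F.obj.map (π P ≫ pullback.fst f (π X))) w)) =
          (G.obj.map (π X)) (α.app (Yd X) ((F.obj.map (π P ≫ pullback.snd f (π X))) w)) := by
        rw [mapc, Category.assoc, pullback.condition, ← Category.assoc, ← mapc, hg]
      have e2 : (G.obj.map (π X)) (α.app (Yd X) ((F.obj.map (π P ≫ pullback.snd f (π X))) w)) =
          (G.obj.map (π X)) ((G.obj.map (π P ≫ pullback.snd f (π X))) (α.app (Yd P) w)) :=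
        congrArg (G.obj.map (π X)) (nat (Y := Yd P) (Y' := Yd X) (π P ≫ pullback.snd f (π X)) w)
      have e3 : (G.obj.map f) (α.app Z ((F.obj.map (π P ≫ pullback.fst f (π X))) w)) =
          (G.obj.map f) ((G.obj.map (π P ≫ pullback.fst f (π X))) (α.app (Yd P) w)) :=
        congrArg (G.obj.map f) (nat (Y := Yd P) (Y' := Z) (π P ≫ pullback.fst f (π X)) w)
      rw [e1, e2, e3, mapc, mapc, Category.assoc, Category.assoc, pullback.condition]
    refine ⟨ObjectProperty.homMk
      { app := fun X => AddCommGrpCat.ofHom (g X), naturality := fun X X' f => ?_ }, ?_⟩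
    · ext x
      obtain ⟨t, rfl⟩ := (hF (π X) (hπ X)).1 x
      change g X' ((F.obj.map f) ((F.obj.map (π X)) t)) = (G.obj.map f) (g X ((F.obj.map (π X)) t))
      rw [hg, mapc, mapc]
      exact key X' (Yd X) (π X ≫ f) t
    · ext Z x
      change g Z.obj x = α.app Z x
      have := key Z.obj Z (𝟙 _) x
      simpa using this
  · -- faithful
    apply ObjectProperty.hom_ext
    refine ext_aux hD F.property _ _ fun X hX => ?_
    exact congrArg (fun (e : D.ι ⋙ F.obj ⟶ D.ι ⋙ G.obj) => e.app ⟨X, hX⟩) h

end Groth.Agent.S18884
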