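import Groth.Statements.S18887
import Mathlib.RingTheory.Trace.Basic
import Mathlib.LinearAlgebra.Matrix.Charpoly.Coeff
import Mathlib.LinearAlgebra.Dimension.FreeAndStrongRankCondition

set_option autoImplicit false
universe u v
open DblCov

namespace Groth.Agent.S18887

/-- Cayley-Hamilton in rank two -/
theorem quad {A : Type u} {B : Type v} [CommRing A] [CommRing B]
    [Algebra A B] [Module.Free A B] [Module.Finite A B] [Nontrivial A]
    (hrk : Module.finrank A B = 2) (x : B) :
    ∃ d : A, x * x = Algebra.trace A B x • x - algebraMap A B d := by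
  classical
  let b : Module.Basis (Fin 2) A B := Module.finBasisOfFinrankEq A B hrk
  let M := Algebra.leftMulMatrix b x
  have h1 : Polynomial.aeval M M.charpoly = 0 := Matrix.aeval_self_charpoly M
  rw [Matrix.charpoly_fin_two] at h1
  refine ⟨M.det, ?_⟩
  apply Algebra.leftMulMatrix_injective b
  have h2 : M * M - M.trace • M + algebraMap A _ M.det = 0 := by
    simpa [pow_two, Algebra.smul_def] using h1
  have h3 : M.trace = Algebra.trace A B x := (Algebra.trace_eq_matrix_trace b x).symm
  rw [map_mul, map_sub, map_smul, AlgHom.commutes, ← h3]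
  have : M * M = M.trace • M - algebraMap A _ M.det := by
    rw [← sub_eq_zero, ← h2]; abel
  exact this

/-- Let A be a commutative ring in which 2 is invertible and B a commutative A-algebra which is free of
rank 2 as an A-module and whose trace form tr : B → A has kernel free of rank 1 over A. Then σ(b) =
tr(b) − b defines an A-algebra endomorphism σ of B with σ ≠ id and σ ∘ σ = id, and the elements
fixed by σ are exactly the image of A in B. -/
theorem result {A : Type u} {B : Type v} [CommRing A] [CommRing B]
    [Algebra A B] (h2 : IsUnit (2 : A)) [Module.Free A B] [Module.Finite A B]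
    (hrk : Module.finrank A B = 2)
    [Module.Free A (LinearMap.ker (Algebra.trace A B))]
    (hker : Module.finrank A (LinearMap.ker (Algebra.trace A B)) = 1) :
    ∃ σ : B →ₐ[A] B, (∀ b : B, σ b = algebraMap A B (Algebra.trace A B b) - b) ∧
      σ ≠ AlgHom.id A B ∧ σ.comp σ = AlgHom.id A B ∧
      ∀ b : B, σ b = b ↔ b ∈ Set.range (algebraMap A B) := by
  have hnt : Nontrivial A := by
    by_contra h
    rw [not_nontrivial_iff_subsingleton] at h
    have : Module.finrank A B = 1 := by simp
    omega
  have h2B : IsUnit (2 : B) := by
    have := h2.map (algebraMap A B)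
    rwa [map_ofNat] at this
  have htr1 : ∀ a : A, Algebra.trace A B (algebraMap A B a) = 2 * a := by
    intro a
    rw [Algebra.trace_algebraMap, hrk, nsmul_eq_mul]; norm_num
  -- the polarized Cayley-Hamilton identity
  have key : ∀ x y : B, 2 * (x * y) = Algebra.trace A B x • y + Algebra.trace A B y • x -
      algebraMap A B (Algebra.trace A B x * Algebra.trace A B y - Algebra.trace A B (x * y)) := by
    intro x y
    obtain ⟨d1, h1⟩ := quad hrk x
    obtain ⟨d2, h2'⟩ := quad hrk y
    obtain ⟨d3, h3⟩ := quad hrk (x + y)
    have h4 : 2 * (x * y) = Algebra.trace A B x • y + Algebra.trace A B y • x -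
        algebraMap A B (d3 - d1 - d2) := by
      have : 2 * (x * y) = (x + y) * (x + y) - x * x - y * y := by ring
      rw [this, h3, h1, h2', map_add, map_sub, map_sub]
      simp only [Algebra.smul_def, map_add]
      ring
    have h5 : 2 * (Algebra.trace A B x * Algebra.trace A B y - Algebra.trace A B (x * y)) =
        2 * (d3 - d1 - d2) := by
      have := congrArg (Algebra.trace A B) h4
      rw [map_sub, map_add, map_smul, map_smul, htr1] at this
      have h6 : (2 : B) * (x * y) = (2 : A) • (x * y) := by
        rw [Algebra.smul_def, map_ofNat]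
      rw [h6, map_smul, smul_eq_mul, smul_eq_mul, smul_eq_mul] at this
      linear_combination (-1 : A) * this
    rw [h2.mul_left_cancel h5]
    exact h4
  let σ : B →ₐ[A] B := AlgHom.ofLinearMap
    (((Algebra.linearMap A B).comp (Algebra.trace A B)) - LinearMap.id)
    (by
      simp only [LinearMap.sub_apply, LinearMap.comp_apply, LinearMap.id_apply,
        Algebra.linearMap_apply]
      have := htr1 1
      rw [map_one, mul_one] at this
      rw [this, map_ofNat]; norm_num)
    (by
      intro x y
      simp only [LinearMap.sub_apply, LinearMap.comp_apply, LinearMap.id_apply,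
        Algebra.linearMap_apply]
      have := key x y
      simp only [Algebra.smul_def, map_sub, map_mul] at this
      linear_combination (-1 : B) * this)
  have hσ : ∀ b : B, σ b = algebraMap A B (Algebra.trace A B b) - b := fun b => rfl
  have hfix : ∀ b : B, σ b = b ↔ b ∈ Set.range (algebraMap A B) := by
    intro b
    rw [hσ]
    constructor
    · intro h
      obtain ⟨u, hu⟩ := h2
      refine ⟨(↑u⁻¹ : A) * Algebra.trace A B b, ?_⟩
      have h3 : algebraMap A B (Algebra.trace A B b) = algebraMap A B u * b := by
        rw [hu, map_ofNat]; linear_combination h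
      rw [map_mul, h3, ← mul_assoc, ← map_mul]
      simp
    · rintro ⟨a, rfl⟩
      rw [htr1, map_mul, map_ofNat]; ring
  refine ⟨σ, hσ, ?_, ?_, hfix⟩
  · intro h
    have hnt2 : Nontrivial (LinearMap.ker (Algebra.trace A B)) :=
      Module.nontrivial_of_finrank_pos (R := A) (by omega)
    obtain ⟨⟨b, hb⟩, hb0⟩ := exists_ne (0 : LinearMap.ker (Algebra.trace A B))
    apply hb0
    have h3 := hσ b
    rw [h, LinearMap.mem_ker.1 hb, map_zero] at h3
    have h4 : 2 * b = 0 := by
      have : b = 0 - b := h3
      linear_combination this
    exact Subtype.ext (by simpa using h2B.mul_left_cancel (h4.trans (mul_zero _).symm))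
  · ext b
    rw [AlgHom.comp_apply, AlgHom.id_apply, hσ, hσ, map_sub, htr1, map_sub, map_mul, map_ofNat]
    ring

end Groth.Agent.S18887
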