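import Groth.Statements.S18888
import Mathlib.RingTheory.Polynomial.RationalRoot
import Mathlib.FieldTheory.Minpoly.IsIntegrallyClosed
import Mathlib.RingTheory.Localization.NumDen
import Mathlib.LinearAlgebra.FiniteDimensional.Lemmas
import Mathlib.Tactic.ComputeDegree

set_option autoImplicit false
universe u v w
open CAlg

namespace Groth.Agent.S18888

open Polynomial in
lemma minpoly_quad {K : Type v} {L : Type w} [Field K] [Field L] [Algebra K L]
    (a b c : K) (y : L) (hy : y * y = algebraMap K L c)
    (hyK : y ∉ Set.range (algebraMap K L)) (hb : b ≠ 0) :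
    minpoly K (algebraMap K L a + algebraMap K L b * y) =
      X ^ 2 - C (2 * a) * X + C (a ^ 2 - b ^ 2 * c) := by
  set z := algebraMap K L a + algebraMap K L b * y with hz
  set q : K[X] := X ^ 2 - C (2 * a) * X + C (a ^ 2 - b ^ 2 * c) with hq
  have hqdeg : q.natDegree = 2 := by rw [hq]; compute_degree!
  have hqm : q.Monic := by rw [hq]; monicity!
  have hq0 : aeval z q = 0 := by
    rw [hq]
    simp only [map_add, map_sub, map_mul, map_pow, aeval_X, aeval_C]
    rw [← hy, hz]
    simp only [map_ofNat]
    ring
  have hzint : IsIntegral K z := ⟨q, hqm, hq0⟩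
  have hdvd : minpoly K z ∣ q := minpoly.dvd K z hq0
  have hdeg : 2 ≤ (minpoly K z).natDegree := by
    rw [minpoly.two_le_natDegree_iff hzint]
    rintro ⟨e, he⟩
    apply hyK
    refine ⟨(e - a) / b, ?_⟩
    rw [map_div₀, map_sub, he, hz]
    have : algebraMap K L b ≠ 0 := by simpa using hb
    field_simp
    ring
  exact (Polynomial.eq_of_monic_of_dvd_of_natDegree_le (minpoly.monic hzint) hqm hdvd
    (by rw [hqdeg]; exact hdeg)).symm

/-- Let A be a unique factorisation domain in which 2 is invertible, with fraction field K, and let L ⊇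
K be a quadratic extension field (of degree 2 over K) containing an element y ∉ K whose square is a
squarefree element d of A. Then the integral closure of A in L equals the A-subalgebra A[y]
generated by y. -/
theorem result {A : Type u} {K : Type v} {L : Type w}
    [CommRing A] [IsDomain A] [UniqueFactorizationMonoid A] [Field K] [Algebra A K] [IsFractionRing A K]
    [Field L] [Algebra K L] [Algebra A L] [IsScalarTower A K L]
    (h2 : IsUnit (2 : A)) (hL : Module.finrank K L = 2)
    (d : A) (hd : Squarefree d) (y : L) (hy : y * y = algebraMap A L d)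
    (hyK : y ∉ Set.range (algebraMap K L)) :
    integralClosure A L = Algebra.adjoin A {y} := by
  classical
  have hint_y : IsIntegral A y := by
    refine ⟨Polynomial.X ^ 2 - Polynomial.C d, Polynomial.monic_X_pow_sub_C d two_ne_zero, ?_⟩
    rw [Polynomial.eval₂_sub, Polynomial.eval₂_pow, Polynomial.eval₂_X, Polynomial.eval₂_C, ← hy]
    ring
  apply le_antisymm
  swap
  · rw [Algebra.adjoin_le_iff, Set.singleton_subset_iff]
    exact hint_y
  intro z hz
  have hzi : IsIntegral A z := hz
  have hyK' : y * y = algebraMap K L (algebraMap A K d) := by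
    rw [hy, ← IsScalarTower.algebraMap_apply]
  have hy0 : (1 : L) ≠ 0 := one_ne_zero
  have hlin : LinearIndependent K ![(1 : L), y] := by
    rw [LinearIndependent.pair_iff' hy0]
    intro e he
    apply hyK
    exact ⟨e, by rw [← he, Algebra.smul_def, mul_one]⟩
  have hspan : z ∈ Submodule.span K (Set.range ![(1 : L), y]) := by
    rw [hlin.span_eq_top_of_card_eq_finrank (by simp [hL])]
    trivial
  rw [Matrix.range_cons, Matrix.range_cons, Matrix.range_empty, Set.union_empty] at hspan
  obtain ⟨a, b, hab⟩ := Submodule.mem_span_pair.1 hspan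
  have hzab : z = algebraMap K L a + algebraMap K L b * y := by
    rw [← hab, Algebra.smul_def, Algebra.smul_def, mul_one]
  obtain ⟨i2, hi2⟩ := h2
  have key : ∃ a' b' : A, algebraMap A K a' = a ∧ algebraMap A K b' = b := by
    by_cases hb : b = 0
    · subst hb
      rw [map_zero, zero_mul, add_zero] at hzab
      rw [hzab] at hzi
      have : IsIntegral A a := (isIntegral_algebraMap_iff (algebraMap K L).injective).1 hzi
      obtain ⟨a', ha'⟩ := IsIntegrallyClosed.isIntegral_iff.1 this
      exact ⟨a', 0, ha', map_zero _⟩
    · have hmin := minpoly_quad a b (algebraMap A K d) y hyK' hyK hb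
      rw [← hzab, minpoly.isIntegrallyClosed_eq_field_fractions' K hzi] at hmin
      have hc1 := congrArg (fun f => Polynomial.coeff f 1) hmin
      have hc0 := congrArg (fun f => Polynomial.coeff f 0) hmin
      simp only [Polynomial.coeff_map, Polynomial.coeff_add, Polynomial.coeff_sub,
        Polynomial.coeff_C_mul, Polynomial.coeff_X_pow, Polynomial.coeff_X_one,
        Polynomial.coeff_C_succ, Polynomial.coeff_C_zero, Polynomial.coeff_X_zero] at hc1 hc0
      set c1 := (minpoly A z).coeff 1
      set c0 := (minpoly A z).coeff 0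
      have h2K : (algebraMap A K (2 : A)) * algebraMap A K (↑(i2⁻¹) : A) = 1 := by
        rw [← map_mul, ← hi2, Units.mul_inv, map_one]
      rw [map_ofNat] at h2K
      have ha : algebraMap A K (-(↑(i2⁻¹) : A) * c1) = a := by
        rw [map_mul, map_neg, hc1, if_neg (by decide)]
        generalize (algebraMap A K) (↑i2⁻¹ : A) = u at h2K ⊢
        linear_combination a * h2K
      have hbd : algebraMap A K ((-(↑(i2⁻¹) : A) * c1) ^ 2 - c0) = b ^ 2 * algebraMap A K d := by
        rw [map_sub, map_pow, ha, hc0]
        norm_num
      set e := (-(↑(i2⁻¹) : A) * c1) ^ 2 - c0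
      -- now b is integral
      have hnd := IsFractionRing.num_den_reduced A b
      have hmk := IsFractionRing.mk'_num_den' A b
      rw [div_eq_iff (by simp)] at hmk
      have hdenK : algebraMap A K (IsFractionRing.den A b : A) ≠ 0 := by
        simp
      have heq : e * (IsFractionRing.den A b : A) ^ 2 = (IsFractionRing.num A b) ^ 2 * d := by
        apply IsFractionRing.injective A K
        rw [map_mul, map_mul, map_pow, map_pow, hbd, hmk]
        ring
      have hdvd : (IsFractionRing.den A b : A) ^ 2 ∣ d := by
        have h1 : (IsFractionRing.den A b : A) ^ 2 ∣ (IsFractionRing.num A b) ^ 2 * d :=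
          ⟨e, by rw [← heq, mul_comm]⟩
        have h2 : IsRelPrime ((IsFractionRing.den A b : A) ^ 2) ((IsFractionRing.num A b) ^ 2) :=
          (hnd.symm.pow_left).pow_right
        exact h2.dvd_of_dvd_mul_left h1
      have hunit : IsUnit (IsFractionRing.den A b : A) := hd _ (by rwa [← pow_two])
      obtain ⟨b', hb'⟩ := IsFractionRing.isInteger_of_isUnit_den hunit
      exact ⟨_, b', ha, hb'⟩
  obtain ⟨a', b', ha', hb'⟩ := key
  rw [hzab, ← ha', ← hb', ← IsScalarTower.algebraMap_apply, ← IsScalarTower.algebraMap_apply]
  exact Subalgebra.add_mem _ (Subalgebra.algebraMap_mem _ _)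
    (Subalgebra.mul_mem _ (Subalgebra.algebraMap_mem _ _) (Algebra.subset_adjoin rfl))

end Groth.Agent.S18888
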