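import Groth.Statements.S18889
import Groth.Agent.CAlg.K93.RetractFP
import Mathlib.RingTheory.Invariant.Basic

set_option autoImplicit false
universe u v w
open CAlg

namespace Groth.Agent.S18889

/-- Let R be a commutative ring, A a commutative R-algebra of finite presentation, and G a finite group
acting on A by R-algebra automorphisms such that the order of G is invertible in R. Then the ring of
invariants A^G is an R-algebra of finite presentation. (The source takes G to be a group of
automorphisms of A; here G acts through a possibly non-faithful action, which changes nothing since
the invariants and the invertibility of the order only depend on the image of G.) -/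
theorem result {R : Type u} {A : Type v} [CommRing R] [CommRing A]
    [Algebra R A] [Algebra.FinitePresentation R A]
    {G : Type w} [Group G] [Finite G] [MulSemiringAction G A] [SMulCommClass G R A]
    (hG : IsUnit ((Nat.card G : ℕ) : R)) :
    Algebra.FinitePresentation R (FixedPoints.subalgebra R A G) := by
  classical
  have := Fintype.ofFinite G
  let B := FixedPoints.subalgebra R A G
  have hinv : Algebra.IsInvariant B A G := by
    refine ⟨fun b hb => ⟨⟨b, hb⟩, rfl⟩⟩
  have hint : Algebra.IsIntegral B A := Algebra.IsInvariant.isIntegral B A G
  have hft : Algebra.FiniteType B A := Algebra.FiniteType.of_restrictScalars_finiteType R B A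
  have hfin : Module.Finite B A := Algebra.IsIntegral.finite
  obtain ⟨u, hu⟩ := hG.exists_right_inv
  let ρ : A →ₗ[B] B :=
    { toFun := fun a => ⟨algebraMap R A u * ∑ g : G, g • a, by
        intro h
        have h1 : h • (algebraMap R A u) = algebraMap R A u := by
          rw [Algebra.algebraMap_eq_smul_one, smul_comm, smul_one]
        rw [smul_mul', h1, Finset.smul_sum]
        congr 1
        simp_rw [← mul_smul]
        exact Fintype.sum_equiv (Equiv.mulLeft h) _ _ (fun g => rfl)⟩
      map_add' := by
        intro a b
        apply Subtype.ext
        change algebraMap R A u * ∑ g : G, g • (a + b) =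
          algebraMap R A u * ∑ g : G, g • a + algebraMap R A u * ∑ g : G, g • b
        rw [← mul_add, ← Finset.sum_add_distrib]
        simp_rw [smul_add]
      map_smul' := by
        intro b a
        apply Subtype.ext
        change algebraMap R A u * ∑ g : G, g • ((b : A) * a) =
          (b : A) * (algebraMap R A u * ∑ g : G, g • a)
        have hb : ∀ g : G, g • (b : A) = b := fun g => b.2 g
        simp_rw [smul_mul', hb, ← Finset.mul_sum]
        ring }
  refine K93.RetractFP.finitePresentation_of_retract ρ ?_
  intro b
  apply Subtype.ext
  change algebraMap R A u * ∑ g : G, g • (b : A) = b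
  have hb : ∀ g : G, g • (b : A) = b := fun g => b.2 g
  simp_rw [hb]
  rw [Finset.sum_const, Finset.card_univ, ← Nat.card_eq_fintype_card, nsmul_eq_mul, ← mul_assoc,
    ← map_natCast (algebraMap R A), ← map_mul, mul_comm u, hu, map_one, one_mul]

end Groth.Agent.S18889
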