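import Groth.Statements.S18890
import Mathlib.Tactic

set_option autoImplicit false
universe u v w w'
open CAlg

namespace Groth.Agent.S18890

/-- Let R be a commutative ring, G a finite group whose order is invertible in R, M an R-module with an
R-linear action ρ of G and N an arbitrary R-module. Then the natural map M^G ⊗_R N → M ⊗_R N induced
by the inclusion of the invariants is injective, and its image is the submodule of invariants of M
⊗_R N under the action ρ ⊗ 1 (G acting on the first factor). (The source lets G be a group of
R-automorphisms of M; a possibly non-faithful linear action changes nothing.) -/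
theorem result {R : Type u} [CommRing R]
    {G : Type v} [Group G] [Finite G] (hG : IsUnit ((Nat.card G : ℕ) : R))
    {M : Type w} {N : Type w'} [AddCommGroup M] [Module R M] [AddCommGroup N] [Module R N]
    (ρ : Representation R G M) :
    Function.Injective (LinearMap.rTensor N ρ.invariants.subtype) ∧
      LinearMap.range (LinearMap.rTensor N ρ.invariants.subtype) =
        (ρ.tprod (Representation.trivial R G N)).invariants := by
  classical
  have _ : Nonempty (Fintype G) := ⟨Fintype.ofFinite G⟩
  letI := Fintype.ofFinite G
  obtain ⟨c, hc⟩ := hG
  -- the averaging projection onto the invariants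
  let e₀ : M →ₗ[R] M := (↑c⁻¹ : R) • ∑ g : G, ρ g
  have he₀ : ∀ m, e₀ m ∈ ρ.invariants := by
    intro m
    rw [Representation.mem_invariants]
    intro g
    simp only [e₀, LinearMap.smul_apply, LinearMap.sum_apply, map_smul, map_sum]
    congr 1
    exact Fintype.sum_equiv (Equiv.mulLeft g) _ _ (fun x => by simp [map_mul])
  let e : M →ₗ[R] ρ.invariants := LinearMap.codRestrict _ e₀ he₀
  have hcard : ∀ (m : M), (↑c⁻¹ : R) • ((Nat.card G : ℕ) • m) = m := by
    intro m
    rw [← Nat.cast_smul_eq_nsmul R, ← hc, smul_smul, Units.inv_mul, one_smul]
  have hee : e ∘ₗ ρ.invariants.subtype = LinearMap.id := by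
    ext m
    simp only [e, e₀, LinearMap.comp_apply, LinearMap.codRestrict_apply, Submodule.subtype_apply,
      LinearMap.smul_apply, LinearMap.sum_apply, LinearMap.id_apply]
    have : ∀ g : G, ρ g (m : M) = m := (Representation.mem_invariants ρ _).1 m.2
    simp only [this, Finset.sum_const, Finset.card_univ, ← Nat.card_eq_fintype_card]
    exact hcard m
  refine ⟨?_, ?_⟩
  · apply Function.LeftInverse.injective (g := LinearMap.rTensor N e)
    intro x
    rw [← LinearMap.comp_apply, ← LinearMap.rTensor_comp, hee, LinearMap.rTensor_id,
      LinearMap.id_apply]
  · apply le_antisymm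
    · rintro _ ⟨x, rfl⟩
      rw [Representation.mem_invariants]
      intro g
      induction x using TensorProduct.induction_on with
      | zero => simp
      | tmul m n =>
        have : ρ g (m : M) = m := (Representation.mem_invariants ρ _).1 m.2 g
        simp [Representation.tprod, this]
      | add x y hx hy => rw [map_add, map_add, hx, hy]
    · intro t ht
      rw [Representation.mem_invariants] at ht
      refine ⟨LinearMap.rTensor N e t, ?_⟩
      rw [← LinearMap.comp_apply, ← LinearMap.rTensor_comp]
      have h1 : ρ.invariants.subtype ∘ₗ e = e₀ := by ext; simp [e]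
      have h2 : ∀ g : G, LinearMap.rTensor N (ρ g) t = t := by
        intro g
        have h3 := ht g
        rw [Representation.tprod_apply] at h3
        have h4 : Representation.trivial R G N g = LinearMap.id := by ext; simp
        rw [h4] at h3
        exact h3
      rw [h1]
      have h5 : LinearMap.rTensor N e₀ = (↑c⁻¹ : R) • ∑ g : G, LinearMap.rTensor N (ρ g) := by
        simp only [e₀, LinearMap.rTensor_smul]
        congr 1
        exact map_sum (LinearMap.rTensorHom N) _ _
      rw [h5]
      simp only [LinearMap.smul_apply, LinearMap.sum_apply, h2, Finset.sum_const,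
        Finset.card_univ, ← Nat.card_eq_fintype_card]
      rw [← Nat.cast_smul_eq_nsmul R, ← hc, smul_smul, Units.inv_mul, one_smul]

end Groth.Agent.S18890
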