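import Groth.Statements.S18891
import Mathlib.AlgebraicGeometry.ZariskisMainTheorem
import Mathlib.AlgebraicGeometry.Morphisms.UniversallyInjective
import Mathlib.AlgebraicGeometry.Morphisms.IsIso
import Mathlib.AlgebraicGeometry.Morphisms.Flat
import Mathlib.AlgebraicGeometry.Morphisms.FormallyUnramified
import Mathlib.FieldTheory.IsAlgClosed.AlgebraicClosure

set_option autoImplicit false
universe u
open CategoryTheory CategoryTheory.Limits AlgebraicGeometry
open Mor

namespace Groth.Agent.S18891

/-- Let f : X → Y be a morphism of schemes which is proper and formally unramified, and such that for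
every algebraically closed field Ω the map X(Ω) → Y(Ω), g ↦ g ≫ f, is injective. Then f is a closed
immersion. -/
theorem result {X Y : Scheme.{u}} (f : X ⟶ Y)
    [IsProper f] [FormallyUnramified f]
    (hinj : ∀ (Ω : Type u) [Field Ω] [IsAlgClosed Ω],
      Function.Injective (fun g : Spec (CommRingCat.of Ω) ⟶ X => g ≫ f)) :
    IsClosedImmersion f := by
  have h1 : UniversallyInjective f := by
    refine ((tfae_universallyInjective f).out 0 1).2 ?_
    intro K _ g₁ g₂ hg
    let L := AlgebraicClosure K
    let q : Spec (CommRingCat.of L) ⟶ Spec (CommRingCat.of K) :=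
      Spec.map (CommRingCat.ofHom (algebraMap K L))
    have hqf : Flat q := by
      rw [Flat.SpecMap_iff]
      exact (RingHom.flat_algebraMap_iff).2 inferInstance
    have hqs : Surjective q := ⟨fun x ↦
      ⟨IsLocalRing.closedPoint L, Subsingleton.elim (α := PrimeSpectrum K) _ _⟩⟩
    have hqe : Epi q := Flat.epi_of_flat_of_surjective q
    rw [← cancel_epi q]
    apply hinj L
    change (q ≫ g₁) ≫ f = (q ≫ g₂) ≫ f
    rw [Category.assoc, Category.assoc]
    exact congrArg (q ≫ ·) hg
  have h2 : Surjective (pullback.diagonal f) := (UniversallyInjective.iff_diagonal f).1 h1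
  have h3 : IsOpenImmersion (pullback.diagonal f) := inferInstance
  have h4 : IsIso (pullback.diagonal f) :=
    (isIso_iff_isOpenImmersion_and_surjective _).2 ⟨h3, h2⟩
  have h5 : Mono f := pullback.isIso_diagonal_iff f |>.1 h4
  rw [IsClosedImmersion.iff_isProper_and_mono]
  exact ⟨inferInstance, h5⟩

end Groth.Agent.S18891
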