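import Groth.Statements.S18894
import Groth.Agent.Curves.K423.GenFib
import Groth.Agent.S0558

set_option autoImplicit false
universe u
open CategoryTheory CategoryTheory.Limits AlgebraicGeometry
open Curves

namespace Groth.Agent.S18894

/-- Together with the accompanying claim: let R be a discrete valuation ring with fraction field K, η :
Spec K → Spec R the generic point, and f : X → Spec R, g : Y → Spec R two smooth curves of genus n ≥
1 (proper and smooth, with geometrically connected fibres of dimension one and genus n). Then
restriction to the generic fibre is a bijection from R-isomorphisms X ≅ Y onto K-isomorphisms X_η ≅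
Y_η: every isomorphism φ of the generic fibres over Spec K is induced by a unique morphism e : X → Y
compatible with the first projections, and this e is an isomorphism over Spec R. -/
theorem result {R : Type u} [CommRing R] [IsDomain R]
    [IsDiscreteValuationRing R] {X Y : Scheme.{u}}
    (f : X ⟶ Spec (CommRingCat.of R)) (g : Y ⟶ Spec (CommRingCat.of R))
    [IsProper f] [Smooth f] [GeometricallyConnected f] [IsProper g] [Smooth g] [GeometricallyConnected g]
    (hXdim : ∀ s : ↥(Spec (CommRingCat.of R)), topologicalKrullDim ↥(f.fiber s) = 1)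
    (hYdim : ∀ s : ↥(Spec (CommRingCat.of R)), topologicalKrullDim ↥(g.fiber s) = 1)
    (n : ℕ) (hn : 1 ≤ n)
    (hXgen : ∀ s : ↥(Spec (CommRingCat.of R)),
      letI : (f.fiber s).Over (Spec ((Spec (CommRingCat.of R)).residueField s)) := ⟨f.fiberToSpecResidueField s⟩
      Curv2.genus ((Spec (CommRingCat.of R)).residueField s) (f.fiber s) = n)
    (hYgen : ∀ s : ↥(Spec (CommRingCat.of R)),
      letI : (g.fiber s).Over (Spec ((Spec (CommRingCat.of R)).residueField s)) := ⟨g.fiberToSpecResidueField s⟩
      Curv2.genus ((Spec (CommRingCat.of R)).residueField s) (g.fiber s) = n)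
    (η : Spec (CommRingCat.of (FractionRing R)) ⟶ Spec (CommRingCat.of R))
    (hη : η = Spec.map (CommRingCat.ofHom (algebraMap R (FractionRing R))))
    (φ : pullback f η ≅ pullback g η) (hφ : φ.hom ≫ pullback.snd g η = pullback.snd f η) :
    ∃ e : X ≅ Y, e.hom ≫ g = f ∧ pullback.fst f η ≫ e.hom = φ.hom ≫ pullback.fst g η ∧
      ∀ e' : X ⟶ Y, pullback.fst f η ≫ e' = φ.hom ≫ pullback.fst g η → e' = e.hom := by
  subst hη
  let η := Spec.map (CommRingCat.ofHom (algebraMap R (FractionRing R)))
  have key : ∀ {Z : Scheme.{u}} (z : Z ⟶ Spec (CommRingCat.of R)),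
      (∀ s : ↥(Spec (CommRingCat.of R)),
        letI : (z.fiber s).Over (Spec ((Spec (CommRingCat.of R)).residueField s)) := ⟨z.fiberToSpecResidueField s⟩
        Curv2.genus ((Spec (CommRingCat.of R)).residueField s) (z.fiber s) = n) →
      ∀ s : Spec (CommRingCat.of R), Nontrivial (Coh.HH (z.fiber s) (Coh.structureModule (z.fiber s)) 1) := by
    intro Z z h s
    refine K423.GenFib.nontrivial_of_genus (z.fiberToSpecResidueField s) ?_
    exact (Nat.lt_of_lt_of_le Nat.zero_lt_one hn).trans_eq (h s).symm
  have hX := key f hXgen
  have hY := key g hYgen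
  have hC := K423.GenFib.isSmoothProperCurve f hXdim (algebraMap R (FractionRing R))
    (K423.GenFib.frac_fractionRing R)
  have hGI : GeometricallyIntegral (pullback.snd f η) := K532.Base.geometricallyIntegral _
  have hH0 : IsIso (pullback.snd f η).appTop :=
    (ConcreteCategory.isIso_iff_bijective _).mpr (Sga67.DVRConn.appTop_bijective_of_field _ _ _)
  have hg : 0 < Models.curveGenus (FractionRing R) (pullback f η) (pullback.snd f η) := by
    let _ : (pullback f η).Over (Spec (CommRingCat.of (FractionRing R))) := ⟨pullback.snd f η⟩
    have hp : IsProper (pullback f η ↘ Spec (CommRingCat.of (FractionRing R))) :=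
      inferInstanceAs (IsProper (pullback.snd f η))
    have hfin := Groth.Agent.VarietyA.CurveFin.finite_HH_structure (FractionRing R) (pullback f η) 1
    have hnt := K423.GenFib.nontrivial_pullback f hX (algebraMap R (FractionRing R))
      (K423.GenFib.frac_fractionRing R)
    exact Module.finrank_pos (R := FractionRing R) (M := Coh.HH (pullback f η) (Coh.structureModule (pullback f η)) 1)
  have h₁ : IsPullback (pullback.fst f η) (pullback.snd f η) f η := IsPullback.of_hasPullback _ _
  have h₂ : IsPullback (φ.hom ≫ pullback.fst g η) (pullback.snd f η) g η :=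
    IsPullback.of_iso (IsPullback.of_hasPullback g η) φ.symm (Iso.refl _) (Iso.refl _) (Iso.refl _)
      (by simp) (by rw [Iso.refl_hom, Category.comp_id, Iso.symm_hom, Iso.eq_inv_comp]; exact hφ) (by simp) (by simp)
  obtain ⟨e, ⟨he, he'⟩, -⟩ := Groth.Agent.S3330.result R (pullback f η) X Y (pullback.snd f η) f g hC hH0 hg
    (K423.GenFib.isMinimalModel f hXdim hX _ _ _ h₁) (K423.GenFib.isMinimalModel g hYdim hY _ _ _ h₂) _ h₁ _ h₂
  refine ⟨e, he, he', fun e' h => ?_⟩
  have hred : ∀ x : X, _root_.IsReduced (X.presheaf.stalk x) := fun x => by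
    have h1 := Groth.Agent.Fga.DVRGeom.isRegularLocalRing_stalk f x
    have h2 := Groth.Agent.S0558.result (X.presheaf.stalk x)
    infer_instance
  have hred' : IsReduced X := isReduced_of_isReduced_stalk X
  have hsd : IsSchemeTheoreticallyDominant η := inferInstance
  have hdom : IsDominant (pullback.fst f η) := inferInstance
  have hsep : Y.IsSeparated := by
    rw [Scheme.isSeparated_iff, ← terminal.comp_from g]
    infer_instance
  exact ext_of_isDominant (pullback.fst f η) (h.trans he'.symm)

end Groth.Agent.S18894
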