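import Groth.Statements.S18895
import Groth.Agent.Curves.K317.SmoothCurve
import Groth.Agent.VarietyA.CurveFin
import Groth.Agent.Old.H24.LinearSeries

set_option autoImplicit false
universe u
open CategoryTheory CategoryTheory.Limits AlgebraicGeometry
open Curves

namespace Groth.Agent.S18895

/-- Let k be an algebraically closed field of characteristic different from 2 (the standing convention
of the section; it plays no role here) and X a connected smooth proper curve over k of genus dim_k
H¹(X, O_X) ≥ 1. For every invertible O_X-module L of positive degree one has dim_k H⁰(X, L) ≤ deg L. -/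
theorem result (k : Type u) [Field k] [IsAlgClosed k] (h2 : (2 : k) ≠ 0)
    (X : Scheme.{u}) [X.Over (Spec (CommRingCat.of k))]
    [IsProper (X ↘ Spec (CommRingCat.of k))] [Smooth (X ↘ Spec (CommRingCat.of k))] [ConnectedSpace ↥X]
    (hX : topologicalKrullDim ↥X = 1) (hg : 1 ≤ Curv2.genus k X)
    (L : X.Modules) (hL : PicF.IsInvertible L) (hdeg : 0 < Curv2.deg k X L 1) :
    (Module.finrank k (Coh.HH X L 0) : ℤ) ≤ Curv2.deg k X L 1 := by
  have hint : IsIntegral X := K317.SmoothCurve.isIntegral_of_smooth k (X ↘ Spec (CommRingCat.of k))
  by_cases hs : Nontrivial (Coh.HH X L 0)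
  · have h0 : Module.finrank k (Coh.HH X (Coh.structureModule X) 0) = 1 :=
      Groth.Agent.VarietyA.CurveFin.finrank_h0_structure k X
    obtain ⟨h3, h4⟩ := Groth.Agent.Old.H24.LinearSeries.main k hX.le h0 L hL hs
    by_contra hcon
    have h5 := h4 (by omega) hdeg
    omega
  · rw [not_nontrivial_iff_subsingleton] at hs
    rw [Module.finrank_zero_of_subsingleton]
    exact_mod_cast hdeg.le

end Groth.Agent.S18895
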