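import Groth.Statements.S18899
import Mathlib.Algebra.MvPolynomial.Basic
import Mathlib.Algebra.MvPolynomial.Eval
import Mathlib.RingTheory.MvPolynomial.Basic
import Mathlib.Tactic

set_option autoImplicit false
universe u v w
open CAlg

namespace Groth.Agent.S18899

/-- Let A be a commutative ring on which a finite group G acts by ring automorphisms, with ring of
invariants A^G, and let K be a field. If two ring homomorphisms f₁, f₂ : A → K have the same
restriction to A^G, then f₂ = f₁ ∘ γ for some γ ∈ G. -/
theorem result {A : Type u} [CommRing A] {G : Type v} [Group G] [Finite G]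
    [MulSemiringAction G A] {K : Type w} [Field K] (f₁ f₂ : A →+* K)
    (h : ∀ a : A, (∀ g : G, g • a = a) → f₁ a = f₂ a) :
    ∃ γ : G, ∀ a : A, f₂ a = f₁ (γ • a) := by
  classical
  haveI := Fintype.ofFinite G
  by_contra hcon
  push Not at hcon
  choose a ha using hcon
  let P : MvPolynomial (Option G) A :=
    ∏ g : G, (MvPolynomial.X none - ∑ h, MvPolynomial.C (g • a h) * MvPolynomial.X (some h))
  have hinv : ∀ γ : G, MvPolynomial.map (MulSemiringAction.toRingHom G A γ) P = P := by
    intro γ
    simp only [P, map_prod, map_sub, map_sum, map_mul, MvPolynomial.map_X, MvPolynomial.map_C]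
    exact Fintype.prod_equiv (Equiv.mulLeft γ) _ _ (fun g => by simp [mul_smul])
  have hmap : MvPolynomial.map f₁ P = MvPolynomial.map f₂ P := by
    ext m
    rw [MvPolynomial.coeff_map, MvPolynomial.coeff_map]
    apply h
    intro g
    have := congrArg (MvPolynomial.coeff m) (hinv g)
    rw [MvPolynomial.coeff_map] at this
    simpa using this
  let E : MvPolynomial (Option G) K →+* MvPolynomial G K :=
    MvPolynomial.eval₂Hom MvPolynomial.C
      (fun o => o.elim (∑ h, MvPolynomial.C (f₂ (a h)) * MvPolynomial.X h) MvPolynomial.X)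
  have hEC : ∀ x, E (MvPolynomial.C x) = MvPolynomial.C x := fun x => by simp [E]
  have hEX : ∀ h, E (MvPolynomial.X (some h)) = MvPolynomial.X h := fun x => by simp [E]
  have hEN : E (MvPolynomial.X none) = ∑ h, MvPolynomial.C (f₂ (a h)) * MvPolynomial.X h := by
    simp [E]
  have h2 : E (MvPolynomial.map f₂ P) = 0 := by
    simp only [P, map_prod, map_sub, map_sum, map_mul, MvPolynomial.map_X, MvPolynomial.map_C,
      hEC, hEX, hEN]
    apply Finset.prod_eq_zero (Finset.mem_univ (1 : G))
    simp
  have h1 : E (MvPolynomial.map f₁ P) = 0 := by rw [hmap, h2]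
  simp only [P, map_prod, map_sub, map_sum, map_mul, MvPolynomial.map_X, MvPolynomial.map_C,
      hEC, hEX, hEN] at h1
  rw [Finset.prod_eq_zero_iff] at h1
  obtain ⟨g, -, hg⟩ := h1
  apply ha g
  rw [sub_eq_zero] at hg
  have := congrArg (MvPolynomial.coeff (Finsupp.single g 1)) hg
  simpa [MvPolynomial.coeff_sum, MvPolynomial.coeff_C_mul, MvPolynomial.coeff_X',
    Finsupp.single_left_inj] using this

end Groth.Agent.S18899
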