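import Groth.Statements.S18901
import Groth.Agent.Curves.K333.OmegaMain

set_option autoImplicit false
universe u
open CategoryTheory CategoryTheory.Limits AlgebraicGeometry
open Curves

namespace Groth.Agent.S18901

/-- Let f : X → S be a smooth curve of genus g (proper and smooth, with geometrically connected fibres
of dimension one and genus g) and L an invertible O_X-module. Then L is isomorphic to ω_f = Ω_{X/S}
if and only if (i) R¹f_*L is isomorphic to O_S and (ii) for every point s of S the restriction of L
to the fibre X_s has degree 2g − 2. (Existence of isomorphisms only, on both sides, as in the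
source.) -/
theorem result {X S : Scheme.{u}} (f : X ⟶ S)
    [IsProper f] [Smooth f] [GeometricallyConnected f]
    (hdim : ∀ s : S, topologicalKrullDim ↥(f.fiber s) = 1) (g : ℕ)
    (hgen : ∀ s : S, letI : (f.fiber s).Over (Spec (S.residueField s)) := ⟨f.fiberToSpecResidueField s⟩
      Curv2.genus (S.residueField s) (f.fiber s) = g)
    [HasInjectiveResolutions X.Modules] (L : X.Modules) (hL : PicF.IsInvertible L) :
    Nonempty (L ≅ Omega.sheaf f) ↔
      (Nonempty ((Coh.Rpush f 1).obj L ≅ Coh.structureModule S) ∧
        ∀ s : S, letI : (f.fiber s).Over (Spec (S.residueField s)) := ⟨f.fiberToSpecResidueField s⟩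
          Curv2.deg (S.residueField s) (f.fiber s) ((Scheme.Modules.pullback (f.fiberι s)).obj L) 1 =
            2 * (g : ℤ) - 2) := by
  exact K333.OmegaMain.main (K333.Fam.isCurve_of_fibres f hdim g hgen) L hL

end Groth.Agent.S18901
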