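import Groth.Statements.S18905
import Groth.Agent.Mor.K387.DualNumSch

set_option autoImplicit false
universe u
open CategoryTheory CategoryTheory.Limits AlgebraicGeometry
open Mor

namespace Groth.Agent.S18905

/-- Let k be an algebraically closed field and X a scheme locally of finite type over k. Then X → Spec k
is formally unramified if and only if the map Hom_k(Spec k[ε], X) → Hom_k(Spec k, X) given by
restricting along the closed immersion of Spec k into Spec k[ε] (k[ε] the ring of dual numbers, ε ↦
0), is bijective; since that map is always surjective, the condition is stated as injectivity: two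
k-morphisms from Spec k[ε] to X which agree on Spec k are equal. -/
theorem result (k : Type u) [Field k] [IsAlgClosed k]
    {X : Scheme.{u}} (p : X ⟶ Spec (CommRingCat.of k)) [LocallyOfFiniteType p] :
    FormallyUnramified p ↔
      ∀ v₁ v₂ : Spec (CommRingCat.of (DualNumber k)) ⟶ X,
        v₁ ≫ p = Spec.map (CommRingCat.ofHom (algebraMap k (DualNumber k))) →
        v₂ ≫ p = Spec.map (CommRingCat.ofHom (algebraMap k (DualNumber k))) →
        Spec.map (CommRingCat.ofHom (TrivSqZeroExt.fstHom k k k).toRingHom) ≫ v₁ =
          Spec.map (CommRingCat.ofHom (TrivSqZeroExt.fstHom k k k).toRingHom) ≫ v₂ →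
        v₁ = v₂ := by
  constructor
  · intro hp v₁ v₂ h₁ h₂ h₁₂
    obtain ⟨U, hU, hx, -⟩ := exists_isAffineOpen_mem_and_subset
      (x := v₁ (IsLocalRing.closedPoint (DualNumber k))) (U := ⊤) trivial
    exact K387.DualNumSch.eq_of_chart hU.fromSpec p v₁ v₂ h₁ h₂ h₁₂
      (by rw [hU.opensRange_fromSpec]; exact hx)
  · intro H
    rw [IsZariskiLocalAtSource.iff_of_iSup_eq_top (P := @FormallyUnramified) _
      (iSup_affineOpens_eq_top X)]
    intro U
    have h1 := K387.DualNumSch.formallyUnramified_chart U.2.fromSpec p H
    have h2 : U.1.ι ≫ p = U.2.isoSpec.hom ≫ U.2.fromSpec ≫ p := by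
      rw [← Category.assoc, IsAffineOpen.isoSpec_hom_fromSpec]
    rw [h2]
    exact MorphismProperty.comp_mem _ _ _ inferInstance h1

end Groth.Agent.S18905
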