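import Groth.Statements.S18907
import Groth.Agent.Curves.K754.TameQuot
import Groth.Agent.IntSh.K877.ProjEmb
import Groth.Agent.Flat2D.LfpComp

set_option autoImplicit false
universe u
open CategoryTheory CategoryTheory.Limits AlgebraicGeometry
open Curves

namespace Groth.Agent.S18907

/-- Let f : X → S be a projective morphism of schemes (X ≅ Proj of a quasi-coherent graded O_S-algebra
generated in degree one with degree-one part of finite type), G a finite group acting on X by
S-automorphisms, and π : X → Y, with q : Y → S and π ≫ q = f, a quotient of X by G: π is affine and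
G-invariant and over every open of Y the sections of O_Y are exactly the G-invariant sections of
O_X. Then π is surjective, finite, open and closed. If moreover the order of G is invertible in
O_S(S), then: Y is flat over S whenever X is; q is separated; and if f is locally of finite
presentation then q is proper and locally of finite presentation and π is locally of finite
presentation. (The existence of the quotient, parts (1), (2), and the base-change statement (5) of
the source are not stated.) -/
theorem result {X Y S : Scheme.{u}} (f : X ⟶ S)
    (hf : RelProj.IsProjective f)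
    {G : Type u} [Group G] [Finite G] (ρ : G →* Aut X) (hρ : ∀ g : G, (ρ g).hom ≫ f = f)
    (π : X ⟶ Y) (q : Y ⟶ S) (hπ : π ≫ q = f) (hquot : SGA1.IsQuot ρ π) :
    (Surjective π ∧ IsFinite π ∧ IsOpenMap π ∧ IsClosedMap π) ∧
      (IsUnit ((Nat.card G : ℕ) : Γ(S, ⊤)) →
        (Flat f → Flat q) ∧ IsSeparated q ∧
        (LocallyOfFinitePresentation f →
          IsProper q ∧ LocallyOfFinitePresentation q ∧ LocallyOfFinitePresentation π)) := by
  have hfp : IsProper f := Groth.Agent.IntSh.K877.ProjEmb.isProper_of_isProjective f hf
  have hsurj : Surjective π := ⟨(Groth.Agent.S2908.result ρ π hquot).1⟩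
  obtain ⟨-, hsep, hfin, -⟩ := Groth.Agent.S2909.result ρ π hquot f q hπ hρ
  have hfin' : IsFinite π := hfin inferInstance
  refine ⟨⟨hsurj, hfin', K754.TameQuot.isOpenMap hquot, π.isClosedMap⟩, fun hN => ⟨fun h => ?_, ?_, fun h => ?_⟩⟩
  · exact K754.TameQuot.flat hquot hπ hN
  · exact hsep.mp inferInstance
  · have hq : LocallyOfFinitePresentation q := K754.TameQuot.locallyOfFinitePresentation hquot hπ hρ hN
    have hq' : LocallyOfFinitePresentation (π ≫ q) := hπ ▸ h
    exact ⟨K754.TameQuot.isProper hquot hπ hρ, hq, Groth.Agent.Flat2D.LfpComp.lfp_of_comp π q⟩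

end Groth.Agent.S18907
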