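import Groth.Statements.S18908
import Mathlib.Tactic
import Mathlib.FieldTheory.SeparableDegree

set_option autoImplicit false
universe u v w
open scoped TensorProduct
open CAlg

namespace Groth.Agent.S18908

/-- Let K ⊇ k be a finite field extension of degree n and Ω ⊇ k an algebraically closed extension. Then
K is separable over k if and only if Ω ⊗_k K is isomorphic, as an Ω-algebra, to the product of n
copies of Ω. (The source says 'for every (some) algebraically closed extension Ω'; the equivalence
is stated for each fixed Ω, which gives both readings.) -/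
theorem result (k : Type u) (K : Type v) (Ω : Type w)
    [Field k] [Field K] [Algebra k K] [FiniteDimensional k K]
    [Field Ω] [Algebra k Ω] [IsAlgClosed Ω] :
    Algebra.IsSeparable k K ↔ Nonempty ((Ω ⊗[k] K) ≃ₐ[Ω] (Fin (Module.finrank k K) → Ω)) := by
  classical
  have hcard : Nat.card (K →ₐ[k] Ω) = Field.finSepDegree k K :=
    (Field.finSepDegree_eq_of_isAlgClosed k K Ω).symm
  haveI : Fintype (K →ₐ[k] Ω) := Fintype.ofFinite _
  constructor
  · intro hsep
    have hn : Fintype.card (K →ₐ[k] Ω) = Module.finrank k K := by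
      rw [← Nat.card_eq_fintype_card, hcard]
      exact (Field.finSepDegree_eq_finrank_iff k K).2 hsep
    let Φ : (Ω ⊗[k] K) →ₐ[Ω] ((K →ₐ[k] Ω) → Ω) :=
      Pi.algHom Ω _ (fun σ => Algebra.TensorProduct.lift (AlgHom.id Ω Ω) σ
        (fun _ _ => Commute.all _ _))
    have hfin : Module.finrank Ω (Ω ⊗[k] K) = Module.finrank Ω ((K →ₐ[k] Ω) → Ω) := by
      rw [Module.finrank_baseChange, Module.finrank_fintype_fun_eq_card, hn]
    have hsurj : Function.Surjective Φ.toLinearMap := by
      rw [← LinearMap.range_eq_top]
      by_contra hne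
      obtain ⟨f, hf, hf'⟩ := Submodule.exists_le_ker_of_lt_top _ (lt_top_iff_ne_top.2 hne)
      apply hf
      have hfx : ∀ v : (K →ₐ[k] Ω) → Ω, f v = ∑ σ, v σ * f (Pi.single σ 1) := by
        intro v
        conv_lhs => rw [pi_eq_sum_univ' v]
        simp [map_sum]
      have h0 : ∑ σ : K →ₐ[k] Ω, f (Pi.single σ 1) • (AlgHom.toLinearMap σ) = 0 := by
        ext y
        have : f (Φ (1 ⊗ₜ y)) = 0 := hf' ⟨(1 : Ω) ⊗ₜ[k] y, rfl⟩
        rw [hfx] at this
        simpa [Φ, mul_comm] using this
      have h1 := Fintype.linearIndependent_iff.1 (linearIndependent_toLinearMap k K Ω) _ h0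
      ext σ
      simp [h1 σ]
    have hinj := (LinearMap.injective_iff_surjective_of_finrank_eq_finrank hfin).2 hsurj
    let e := AlgEquiv.ofBijective Φ ⟨hinj, hsurj⟩
    have e2 : (K →ₐ[k] Ω) ≃ Fin (Module.finrank k K) := Fintype.equivFinOfCardEq hn
    exact ⟨e.trans (AlgEquiv.piCongrLeft' Ω (fun _ => Ω) e2)⟩
  · rintro ⟨e⟩
    rw [← Field.finSepDegree_eq_finrank_iff]
    apply le_antisymm (Field.finSepDegree_le_finrank k K)
    rw [← hcard]
    let τ : Fin (Module.finrank k K) → (K →ₐ[k] Ω) := fun i =>
      ((Pi.evalAlgHom k (fun _ : Fin (Module.finrank k K) => Ω) i).comp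
        (e.toAlgHom.restrictScalars k)).comp Algebra.TensorProduct.includeRight
    have hτ : Function.Injective τ := by
      intro i j hij
      have key : ∀ t : Ω ⊗[k] K, e t i = e t j := by
        intro t
        induction t using TensorProduct.induction_on with
        | zero => simp
        | tmul a x =>
          have h1 : a ⊗ₜ[k] x = a • ((1 : Ω) ⊗ₜ[k] x) := by
            rw [TensorProduct.smul_tmul', smul_eq_mul, mul_one]
          rw [h1, map_smul, Pi.smul_apply, Pi.smul_apply]
          congr 1
          exact congrArg (fun σ : K →ₐ[k] Ω => σ x) hij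
        | add x y hx hy => rw [map_add, Pi.add_apply, Pi.add_apply, hx, hy]
      by_contra hne
      have := key (e.symm (Pi.single i 1))
      rw [e.apply_symm_apply, Pi.single_eq_same, Pi.single_eq_of_ne (Ne.symm hne)] at this
      exact one_ne_zero this
    have := Nat.card_le_card_of_injective τ hτ
    simpa using this

end Groth.Agent.S18908
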