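import Groth.Statements.S18912
import Mathlib.FieldTheory.IsAlgClosed.Basic

set_option autoImplicit false
universe u
open CategoryTheory CategoryTheory.Limits AlgebraicGeometry
open TFNodal

namespace Groth.Agent.S18912

theorem exists_root {k : Type*} [Field k] [IsAlgClosed k] {K : Type*} [Field K] (f : k →+* K)
    (d : ℕ) (hd : 1 ≤ d) (z : K) (hz : z ^ d = 1) : ∃ ξ : k, ξ ^ d = 1 ∧ f ξ = z := by
  have hs : (Polynomial.X ^ d - 1 : Polynomial k).Splits := IsAlgClosed.splits _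
  have hne : (Polynomial.X ^ d - 1 : Polynomial k) ≠ 0 := by
    have := Polynomial.monic_X_pow_sub_C (1 : k) (by omega : d ≠ 0)
    rw [Polynomial.C_1] at this
    exact this.ne_zero
  obtain ⟨ξ, hξ⟩ := hs.mem_range_of_isRoot hne (i := f) (x := z) (by
    rw [Polynomial.IsRoot.def]
    simp [hz])
  refine ⟨ξ, f.injective ?_, hξ⟩
  rw [map_pow, hξ, hz, map_one]

theorem algebra_core {k : Type*} [Field k] [IsAlgClosed k] {K : Type*} [CommRing K]
    (hK : IsField K) (f : k →+* K)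
    (d : ℕ) (hd : 1 ≤ d) (t t' : K) (ht : t ≠ 0) (h : t ^ d = t' ^ d) :
    ∃ ξ : k, ξ ^ d = 1 ∧ t' = f ξ * t ∧ ∀ s s' : K, s * t ^ (d - 1) = s' * t' ^ (d - 1) →
      s' = f ξ * s := by
  letI : Field K := hK.toField
  obtain ⟨ξ, h1, h2⟩ := exists_root f d hd (t' / t) (by
    rw [div_pow, ← h, div_self (pow_ne_zero _ ht)])
  have h3 : f ξ * t = t' := by rw [h2, div_mul_cancel₀ _ ht]
  refine ⟨ξ, h1, h3.symm, fun s s' h4 => ?_⟩
  obtain ⟨e, rfl⟩ : ∃ e, d = e + 1 := ⟨d - 1, by omega⟩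
  simp only [Nat.add_sub_cancel] at h4
  rw [← h3, mul_pow] at h4
  have h5 : s = s' * f ξ ^ e := by
    have := pow_ne_zero e ht
    apply mul_right_cancel₀ this
    rw [h4]; ring
  rw [h5, show f ξ * (s' * f ξ ^ e) = s' * f ξ ^ (e + 1) by ring, ← map_pow, h1, map_one, mul_one]

theorem germ_prod {X : Scheme.{u}} {U : X.Opens} {η : X} (hU : η ∈ U) {d : ℕ}
    (f : Fin d → Γ(X, U)) :
    X.presheaf.germ U η hU (∏ i, f i) = ∏ i, X.presheaf.germ U η hU (f i) :=
  map_prod (X.presheaf.germ U η hU).hom f Finset.univ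

theorem result
    (k : Type u) [Field k] [IsAlgClosed k] [CharZero k]
    (X : Scheme.{u}) [X.Over (Spec (CommRingCat.of k))]
    [LocallyOfFiniteType (X ↘ Spec (CommRingCat.of k))] [AlgebraicGeometry.IsReduced X]
    (F : X.Modules) (τ τ' : F ⟶ Coh.structureModule X) (d : ℕ) (hd : 1 ≤ d)
    (hS : ∀ (U : X.Opens) (a : Fin d → Γ(F, U)),
      (∏ i, (τ.app U (a i) : Γ(X, U)) : Γ(X, U)) = (∏ i, (τ'.app U (a i) : Γ(X, U)) : Γ(X, U)))
    (η : X) (hη : IsField (X.presheaf.stalk η)) :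
    ∃ ξ : k, ξ ^ d = 1 ∧ ∀ (U : X.Opens) (hU : η ∈ U) (a : Γ(F, U)),
      (X.presheaf.germ U η hU (τ'.app U a : Γ(X, U)) : X.presheaf.stalk η) =
        Curv2.stalkMap k X η ξ * X.presheaf.germ U η hU (τ.app U a : Γ(X, U)) := by
  have key : ∀ (U : X.Opens) (hU : η ∈ U) (a : Fin d → Γ(F, U)),
      ∏ i, (X.presheaf.germ U η hU (τ.app U (a i) : Γ(X, U)) : X.presheaf.stalk η) =
        ∏ i, (X.presheaf.germ U η hU (τ'.app U (a i) : Γ(X, U)) : X.presheaf.stalk η) := by
    intro U hU a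
    have := congrArg (X.presheaf.germ U η hU) (hS U a)
    exact (germ_prod hU _).symm.trans (this.trans (germ_prod hU _))
  have hdom : IsDomain (X.presheaf.stalk η) := hη.isDomain
  by_cases hz : ∀ (U : X.Opens) (hU : η ∈ U) (a : Γ(F, U)),
      (X.presheaf.germ U η hU (τ.app U a : Γ(X, U)) : X.presheaf.stalk η) = 0
  · refine ⟨1, one_pow _, fun U hU a => ?_⟩
    rw [hz, mul_zero]
    have := key U hU (fun _ => a)
    simp only [Finset.prod_const, Finset.card_univ, Fintype.card_fin, hz] at this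
    rw [zero_pow (by omega)] at this
    exact (pow_eq_zero_iff (by omega)).1 this.symm
  · push Not at hz
    obtain ⟨U₀, hU₀, a₀, ha₀⟩ := hz
    have h1 := key U₀ hU₀ (fun _ => a₀)
    simp only [Finset.prod_const, Finset.card_univ, Fintype.card_fin] at h1
    obtain ⟨ξ, hξ, hξ', hall⟩ := algebra_core hη (Curv2.stalkMap k X η) d hd _ _ ha₀ h1
    refine ⟨ξ, hξ, fun U hU a => hall _ _ ?_⟩
    have hres : ∀ (σ : F ⟶ Coh.structureModule X) {V W : X.Opens} (i : W ≤ V) (hW : η ∈ W)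
        (b : Γ(F, V)),
        (X.presheaf.germ W η hW (σ.app W (F.presheaf.map (homOfLE i).op b) : Γ(X, W)) :
          X.presheaf.stalk η) = X.presheaf.germ V η (i hW) (σ.app V b : Γ(X, V)) := by
      intro σ V W i hW b
      have h2 : σ.app W (F.presheaf.map (homOfLE i).op b) =
          X.presheaf.map (homOfLE i).op (σ.app V b : Γ(X, V)) :=
        congr($(σ.mapPresheaf.naturality (homOfLE i).op) b)
      rw [h2]
      exact X.presheaf.germ_res_apply (homOfLE i) η hW _
    have h3 := key (U ⊓ U₀) ⟨hU, hU₀⟩ (fun i => if i = ⟨0, by omega⟩ then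
      F.presheaf.map (homOfLE inf_le_left).op a else F.presheaf.map (homOfLE inf_le_right).op a₀)
    have hprod : ∀ (σ : F ⟶ Coh.structureModule X),
        ∏ i : Fin d, (X.presheaf.germ (U ⊓ U₀) η ⟨hU, hU₀⟩ (σ.app (U ⊓ U₀)
          ((fun i => if i = ⟨0, by omega⟩ then
            F.presheaf.map (homOfLE (inf_le_left : U ⊓ U₀ ≤ U)).op a else
            F.presheaf.map (homOfLE (inf_le_right : U ⊓ U₀ ≤ U₀)).op a₀) i) : Γ(X, U ⊓ U₀)) :
            X.presheaf.stalk η) =
        X.presheaf.germ U η hU (σ.app U a : Γ(X, U)) *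
          X.presheaf.germ U₀ η hU₀ (σ.app U₀ a₀ : Γ(X, U₀)) ^ (d - 1) := by
      intro σ
      rw [← Finset.mul_prod_erase Finset.univ _ (Finset.mem_univ (⟨0, by omega⟩ : Fin d))]
      congr 1
      · simp only [if_true]
        exact hres σ inf_le_left ⟨hU, hU₀⟩ a
      · rw [Finset.prod_congr rfl (g := fun _ =>
          (X.presheaf.germ U₀ η hU₀ (σ.app U₀ a₀ : Γ(X, U₀)) : X.presheaf.stalk η))]
        · rw [Finset.prod_const, Finset.card_erase_of_mem (Finset.mem_univ _), Finset.card_univ,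
            Fintype.card_fin]
        · intro i hi
          rw [Finset.mem_erase] at hi
          simp only [if_neg hi.1]
          exact hres σ inf_le_right ⟨hU, hU₀⟩ a₀
    rw [hprod τ, hprod τ'] at h3
    exact h3

end Groth.Agent.S18912
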