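import Groth.Statements.S18914
import Groth.Agent.TFNodal.K977.Generic

set_option autoImplicit false
universe u
open CategoryTheory CategoryTheory.Limits AlgebraicGeometry
open TFNodal
open Groth.Agent.CycB.StalkExact

namespace Groth.Agent.S18914


theorem stalkLin_eq_zero_of_restrict {X : Scheme.{u}} {M N : X.Modules} (f : M ⟶ N) (U : X.Opens)
    (hf : (Scheme.Modules.restrictFunctor U.ι).map f = 0) (ξ : X) (hξ : ξ ∈ U)
    (m : M.presheaf.stalk ξ) : stalkLin f ξ m = 0 := by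
  obtain ⟨W, hW, m, rfl⟩ := M.presheaf.exists_germ_eq m
  have hmem : ξ ∈ U.ι ''ᵁ (U.ι ⁻¹ᵁ W) := by
    rw [Scheme.Hom.image_preimage_eq_opensRange_inf, Scheme.Opens.opensRange_ι]
    exact ⟨hξ, hW⟩
  have h1 : M.presheaf.germ W ξ hW m = M.presheaf.germ (U.ι ''ᵁ (U.ι ⁻¹ᵁ W)) ξ hmem
      (M.presheaf.map (homOfLE (U.ι.image_preimage_le W)).op m) :=
    (M.presheaf.germ_res_apply _ ξ hmem m).symm
  rw [h1, stalkLin_germ]
  have h2 : f.app (U.ι ''ᵁ (U.ι ⁻¹ᵁ W)) = 0 :=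
    congr(($hf : M.restrict U.ι ⟶ N.restrict U.ι).app (U.ι ⁻¹ᵁ W))
  rw [h2]
  exact map_zero _

theorem eq_zero_of_restrict {X : Scheme.{u}} [IsLocallyNoetherian X] [AlgebraicGeometry.IsReduced X]
    {M N : X.Modules} (hN : Coh.IsQCoh N) (htN : TorSh.IsTorsionFree N) (f : M ⟶ N)
    (U : X.Opens) (hU : Dense (U : Set X))
    (hf : (Scheme.Modules.restrictFunctor U.ι).map f = 0) : f = 0 := by
  apply Scheme.Modules.hom_ext
  intro W
  ext s
  apply K977.TFGeneric.eq_zero_section_of_generic N hN htN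
  intro ξ hξ hfield
  rw [← stalkLin_germ]
  exact stalkLin_eq_zero_of_restrict f U hf ξ (K977.TFGeneric.mem_of_dense U hU ξ hfield) _

theorem exists_factor {X : Scheme.{u}} [IsLocallyNoetherian X] [AlgebraicGeometry.IsReduced X]
    {E F₁ F₂ : X.Modules} (hF₂ : Coh.IsQCoh F₂) (ht₂ : TorSh.IsTorsionFree F₂)
    (q₁ : E ⟶ F₁) (q₂ : E ⟶ F₂) [Epi q₁]
    (U : X.Opens) (hU : Dense (U : Set X))
    (φ : F₁.restrict U.ι ⟶ F₂.restrict U.ι)
    (hφ : (Scheme.Modules.restrictFunctor U.ι).map q₁ ≫ φ =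
      (Scheme.Modules.restrictFunctor U.ι).map q₂) : ∃ ψ : F₁ ⟶ F₂, q₁ ≫ ψ = q₂ := by
  have h0 : kernel.ι q₁ ≫ q₂ = 0 := by
    apply eq_zero_of_restrict hF₂ ht₂ _ U hU
    rw [Functor.map_comp, ← hφ, ← Category.assoc, ← Functor.map_comp, kernel.condition,
      Functor.map_zero, zero_comp]
  exact ⟨Abelian.epiDesc q₁ q₂ h0, Abelian.comp_epiDesc q₁ q₂ h0⟩

/-- Let k be an algebraically closed field of characteristic zero, X a reduced proper curve over k (a
proper k-scheme of dimension one), and E, F₁, F₂ coherent O_X-modules that are torsion free (every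
stalk is a torsion free module over the local ring: no nonzero element is killed by a
non-zero-divisor). Let q₁ : E → F₁ and q₂ : E → F₂ be epimorphisms, U a dense open subset of X and φ
: F₁|_U ≅ F₂|_U an isomorphism of the restricted quotients, q₁|_U ≫ φ = q₂|_U. Then there is an
isomorphism of quotients ψ : F₁ ≅ F₂, q₁ ≫ ψ = q₂, whose restriction to U is φ. -/
theorem result
    (k : Type u) [Field k] [IsAlgClosed k] [CharZero k]
    (X : Scheme.{u}) [X.Over (Spec (CommRingCat.of k))] [IsProper (X ↘ Spec (CommRingCat.of k))]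
    [AlgebraicGeometry.IsReduced X] (hdim : topologicalKrullDim X = 1)
    (E F₁ F₂ : X.Modules) (hE : Coh.IsCoh E) (hF₁ : Coh.IsCoh F₁) (hF₂ : Coh.IsCoh F₂)
    (htE : TorSh.IsTorsionFree E) (ht₁ : TorSh.IsTorsionFree F₁) (ht₂ : TorSh.IsTorsionFree F₂)
    (q₁ : E ⟶ F₁) (q₂ : E ⟶ F₂) [Epi q₁] [Epi q₂]
    (U : X.Opens) (hU : Dense (U : Set X))
    (φ : F₁.restrict U.ι ≅ F₂.restrict U.ι)
    (hφ : (Scheme.Modules.restrictFunctor U.ι).map q₁ ≫ φ.hom = (Scheme.Modules.restrictFunctor U.ι).map q₂) :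
    ∃ ψ : F₁ ≅ F₂, q₁ ≫ ψ.hom = q₂ ∧ (Scheme.Modules.restrictFunctor U.ι).map ψ.hom = φ.hom := by
  have : IsLocallyNoetherian X :=
    LocallyOfFiniteType.isLocallyNoetherian (X ↘ Spec (CommRingCat.of k))
  obtain ⟨ψ, hψ⟩ := exists_factor hF₂.1 ht₂ q₁ q₂ U hU φ.hom hφ
  obtain ⟨χ, hχ⟩ := exists_factor hF₁.1 ht₁ q₂ q₁ U hU φ.inv (by
    rw [← hφ, Category.assoc, φ.hom_inv_id, Category.comp_id])
  refine ⟨⟨ψ, χ, ?_, ?_⟩, hψ, ?_⟩
  · rw [← cancel_epi q₁, ← Category.assoc, hψ, hχ, Category.comp_id]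
  · rw [← cancel_epi q₂, ← Category.assoc, hχ, hψ, Category.comp_id]
  · have : Epi ((Scheme.Modules.restrictFunctor U.ι).map q₁) := inferInstance
    rw [← cancel_epi ((Scheme.Modules.restrictFunctor U.ι).map q₁), hφ, ← Functor.map_comp]
    exact congrArg _ hψ

end Groth.Agent.S18914
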