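import Groth.Statements.S18915
import Groth.Agent.TFNodal.K977.Generic
import Groth.Agent.CInt.K139.FibDimBC
import Groth.Agent.S2871
import Groth.Agent.Ega4dA.FibPair1
import Groth.Agent.Sga2lef.H82.FibDepth
import Groth.Agent.Dual.H375.Hartogs
import Groth.Agent.FormalB.PullCoh
import Groth.Agent.Fga.DimCut
import Groth.Agent.Ega4dB.DepthReg

set_option autoImplicit false
set_option linter.style.haveILetI false
universe u
open CategoryTheory CategoryTheory.Limits AlgebraicGeometry
open TFNodal

namespace Groth.Agent.S18915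

open Groth.Agent.Ega4dB.FiberStalk

theorem one_le_depth_stalk {X : Scheme.{u}} [IsLocallyNoetherian X] [AlgebraicGeometry.IsReduced X]
    (F : X.Modules) (hF : Coh.IsCoh F) (htF : TorSh.IsTorsionFree F) (x : X)
    (hx : ¬ IsField (X.presheaf.stalk x)) :
    (1 : ℕ∞) ≤ LocCoh.depth (X.presheaf.stalk x) (F.presheaf.stalk x) := by
  haveI := htF x
  haveI := Groth.Agent.CycB.CohStalk.finite_stalk F hF x
  rw [Groth.Agent.Ega4dB.DepthReg.one_le_depth_iff]
  exact K977.TFGeneric.not_isAssociatedPrime_of_isTorsionFree hx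

theorem two_le_depth {X Z : Scheme.{u}} [IsLocallyNoetherian X] [AlgebraicGeometry.IsReduced X]
    [IsLocallyNoetherian Z] (p : Z ⟶ X) [Smooth p]
    (F : X.Modules) (hF : Coh.IsCoh F) (htF : TorSh.IsTorsionFree F) (z : Z)
    (hx : ¬ IsField (X.presheaf.stalk (p z)))
    (hz : (1 : WithBot ℕ∞) ≤ ringKrullDim (CInt.fiberStalk p z)) :
    (2 : ℕ∞) ≤ LocCoh.depth (Z.presheaf.stalk z)
      (((Scheme.Modules.pullback p).obj F).presheaf.stalk z) := by
  rw [Groth.Agent.S2871.depth_stalk_pullback p F hF z]
  have h1 := one_le_depth_stalk F hF htF (p z) hx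
  have h2 : (1 : ℕ∞) ≤ LocCoh.depth (Z.presheaf.stalk z)
        (Z.presheaf.stalk z ⧸ (IsLocalRing.maximalIdeal (X.presheaf.stalk (p z))).map
        (p.stalkMap z).hom • (⊤ : Submodule (Z.presheaf.stalk z) (Z.presheaf.stalk z))) := by
    have h3 := Groth.Agent.Ega4dA.FibPair1.depth_fiberStalk p z
    rw [← h3] at hz
    have h4 : (1 : ℕ∞) ≤ LocCoh.depth (CInt.fiberStalk p z) (CInt.fiberStalk p z) :=
      WithBot.coe_le_coe.mp hz
    rw [Groth.Agent.Sga2lef.H82.FibDepth.depth_fiberStalk_eq] at h4
    refine h4.trans (le_of_eq ?_)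
    exact Groth.Agent.CalgB.Depth1.depth_congr (Submodule.quotEquivOfEq _ _ (by
      rw [smul_eq_mul, Ideal.mul_top]))
  calc (2 : ℕ∞) = 1 + 1 := by norm_num
    _ ≤ _ := add_le_add h1 h2

/-- Let k be an algebraically closed field of characteristic zero, X a reduced proper curve over k (a
proper k-scheme of dimension one) without isolated points (no closed point is open, i.e. X is
one-dimensional at every point), C a smooth irreducible k-scheme of dimension one and c a closed
point of C. Put Z = X ×_k C with projections p_X and p_C, let Y be a nonempty finite set of closed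
points of Z lying over c, and let j : U → Z be the inclusion of the open complement of Y. Then for
every coherent torsion free O_X-module F (every stalk a torsion free module over the local ring),
the unit map p_X^* F → j_* j^* (p_X^* F) is an isomorphism. -/
theorem result
    (k : Type u) [Field k] [IsAlgClosed k] [CharZero k]
    (X : Scheme.{u}) [X.Over (Spec (CommRingCat.of k))] [IsProper (X ↘ Spec (CommRingCat.of k))]
    [AlgebraicGeometry.IsReduced X] (hdim : topologicalKrullDim X = 1)
    (hpure : ∀ x : X, IsClosed ({x} : Set X) → ¬ IsOpen ({x} : Set X))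
    (C : Scheme.{u}) [C.Over (Spec (CommRingCat.of k))] [Smooth (C ↘ Spec (CommRingCat.of k))]
    [IrreducibleSpace C] (hdimC : topologicalKrullDim C = 1)
    (c : C) (hc : IsClosed ({c} : Set C))
    (Y : Set ↑(pullback (X ↘ Spec (CommRingCat.of k)) (C ↘ Spec (CommRingCat.of k))))
    (hYfin : Y.Finite) (hYne : Y.Nonempty) (hYcl : ∀ z ∈ Y, IsClosed ({z} : Set _))
    (hYc : ∀ z ∈ Y, (pullback.snd (X ↘ Spec (CommRingCat.of k)) (C ↘ Spec (CommRingCat.of k))).base z = c)
    (U : (pullback (X ↘ Spec (CommRingCat.of k)) (C ↘ Spec (CommRingCat.of k))).Opens)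
    (hU : (U : Set _) = Yᶜ)
    (F : X.Modules) (hF : Coh.IsCoh F) (htF : TorSh.IsTorsionFree F) :
    IsIso ((Scheme.Modules.restrictAdjunction U.ι).unit.app
      ((Scheme.Modules.pullback (pullback.fst (X ↘ Spec (CommRingCat.of k)) (C ↘ Spec (CommRingCat.of k)))).obj F)) := by
  have hNX : IsLocallyNoetherian X :=
    LocallyOfFiniteType.isLocallyNoetherian (X ↘ Spec (CommRingCat.of k))
  have hNC : IsLocallyNoetherian C :=
    LocallyOfFiniteType.isLocallyNoetherian (C ↘ Spec (CommRingCat.of k))
  have hsm : Smooth (pullback.fst (X ↘ Spec (CommRingCat.of k)) (C ↘ Spec (CommRingCat.of k))) :=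
    inferInstance
  have hNZ : IsLocallyNoetherian
      (pullback (X ↘ Spec (CommRingCat.of k)) (C ↘ Spec (CommRingCat.of k))) :=
    LocallyOfFiniteType.isLocallyNoetherian
      (pullback.fst (X ↘ Spec (CommRingCat.of k)) (C ↘ Spec (CommRingCat.of k)))
  have hJ : JacobsonSpace X := LocallyOfFiniteType.jacobsonSpace (X ↘ Spec (CommRingCat.of k))
  refine Groth.Agent.Dual.H375.Hartogs.isIso_unit
    (Groth.Agent.FormalB.PullCoh.isCoh_pullback _ hF) U ?_
  intro z hz
  have hzY : z ∈ Y := by
    by_contra h
    apply hz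
    have : z ∈ (U : Set _) := by rw [hU]; exact h
    exact this
  have hzc := hYcl z hzY
  apply two_le_depth _ F hF htF z
  · intro hfield
    have hcl : IsClosed ({(pullback.fst (X ↘ Spec (CommRingCat.of k))
        (C ↘ Spec (CommRingCat.of k))) z} : Set X) :=
      Scheme.Hom.closePoints_subset_preimage_closedPoints
        (pullback.fst (X ↘ Spec (CommRingCat.of k)) (C ↘ Spec (CommRingCat.of k))) hzc
    exact hpure _ hcl (K977.TFGeneric.isOpen_of_isField _ hcl hfield)
  · have hpb : IsPullback
        (pullback.snd (X ↘ Spec (CommRingCat.of k)) (C ↘ Spec (CommRingCat.of k)))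
        (pullback.fst (X ↘ Spec (CommRingCat.of k)) (C ↘ Spec (CommRingCat.of k)))
        (C ↘ Spec (CommRingCat.of k)) (X ↘ Spec (CommRingCat.of k)) :=
      (IsPullback.of_hasPullback _ _).flip
    refine le_trans ?_ (K139.FibDim.dim_fiberStalk_le_baseChange hpb z)
    have hc' : (pullback.snd (X ↘ Spec (CommRingCat.of k)) (C ↘ Spec (CommRingCat.of k))) z = c :=
      hYc z hzY
    rw [hc']
    have h1 := Groth.Agent.Fga.DimCut.ringKrullDim_stalk_eq k C c hc
    have h2 := K139.FibDim.dim_stalk_eq_add_of_noeth (C ↘ Spec (CommRingCat.of k)) c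
      inferInstance inferInstance
    rw [h1, hdimC] at h2
    have h3 : ringKrullDim ((Spec (CommRingCat.of k)).presheaf.stalk
      ((C ↘ Spec (CommRingCat.of k)) c)) = 0 :=
      ringKrullDim_eq_zero_of_isField
        (Groth.Agent.CycB.FiberKer.isField_stalk_Spec_of_isField (CommRingCat.of k)
          (Field.toIsField k) _)
    rw [h3, zero_add] at h2
    exact h2.le

end Groth.Agent.S18915
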