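import Groth.Statements.S18916
import Groth.Agent.TFNodal.K977.Generic
import Groth.Agent.SDiv.K476.HomSh4

set_option autoImplicit false
universe u
open CategoryTheory CategoryTheory.Limits AlgebraicGeometry
open TFNodal

namespace Groth.Agent.S18916

/-- Let k be an algebraically closed field of characteristic zero, X a reduced proper curve over k (a
proper k-scheme of dimension one) without isolated points (no closed point is open, i.e. X is
one-dimensional at every point) and F a coherent O_X-module. Then the dual 𝓗om(F, O_X) is torsion
free: no closed point of X is an associated point of it. -/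
theorem result
    (k : Type u) [Field k] [IsAlgClosed k] [CharZero k]
    (X : Scheme.{u}) [X.Over (Spec (CommRingCat.of k))] [IsProper (X ↘ Spec (CommRingCat.of k))]
    [AlgebraicGeometry.IsReduced X] (hdim : topologicalKrullDim X = 1)
    (hpure : ∀ x : X, IsClosed ({x} : Set X) → ¬ IsOpen ({x} : Set X))
    (F : X.Modules) (hF : Coh.IsCoh F) (x : X) (hx : IsClosed ({x} : Set X)) :
    ¬ Curv2.IsAssPoint (RefHull.dual F) x := by
  have : IsLocallyNoetherian X :=
    LocallyOfFiniteType.isLocallyNoetherian (X ↘ Spec (CommRingCat.of k))
  rw [K977.TFGeneric.isAssPoint_iff]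
  rintro ⟨θ, hne, hann⟩
  have hFP := K476.HomSh3.isFP_of_isCoh hF
  have hne' : K476.HomSh4.dualStalkEquiv F hFP x θ ≠ 0 := by
    intro h
    exact hne ((LinearEquiv.map_eq_zero_iff _).1 h)
  apply hne'
  ext m
  apply K977.TFGeneric.eq_zero_of_smul_maximalIdeal
  · intro hfield
    exact hpure x hx (K977.TFGeneric.isOpen_of_isField x hx hfield)
  · intro r hr
    rw [← smul_eq_mul, ← LinearMap.smul_apply, ← map_smul, hann r hr, map_zero,
      LinearMap.zero_apply]

end Groth.Agent.S18916
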