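import Groth.Statements.S18919
import Groth.Agent.TFNodal.K236.NodeNear
import Groth.Agent.TFNodal.K236.NodeIso
import Groth.Agent.Fdesc.StructMod
import Groth.Agent.Sga67.CohBasic

set_option autoImplicit false
universe u
open CategoryTheory CategoryTheory.Limits AlgebraicGeometry
open TFNodal

namespace Groth.Agent.S18919

open Groth.Agent

theorem isCoh_coprod {X : Scheme.{u}} [IsLocallyNoetherian X] {A B : X.Modules}
    (hA : Coh.IsCoh A) (hB : Coh.IsCoh B) : Coh.IsCoh (A ⨿ B) :=
  CohqB.LocalQC.isCoh_of_iso (biprod.isoCoprod A B) (Sga67.CohBasic.isCoh_biprod hA hB)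

/-- Restriction commutes with the finite sums. -/
noncomputable def restrictSum {X Y : Scheme.{u}} (j : Y ⟶ X) [IsOpenImmersion j] (I O : X.Modules)
    (a b : ℕ) : ((∐ fun _ : Fin a => I) ⨿ (∐ fun _ : Fin b => O)).restrict j ≅
      (∐ fun _ : Fin a => I.restrict j) ⨿ (∐ fun _ : Fin b => O.restrict j) :=
  (PreservesColimitPair.iso (Scheme.Modules.restrictFunctor j) _ _).symm ≪≫
    coprod.mapIso (PreservesCoproduct.iso (Scheme.Modules.restrictFunctor j) fun _ : Fin a => I)
      (PreservesCoproduct.iso (Scheme.Modules.restrictFunctor j) fun _ : Fin b => O)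


/-- Let k be an algebraically closed field of characteristic zero, X a connected proper curve over k (a
proper k-scheme of dimension one) whose closed points are smooth points or nodes, and F a coherent
torsion free O_X-module (every stalk a torsion free module over the local ring). Let x be a node at
which the stalk F_x is isomorphic, as an O_{X,x}-module, to m_x^{⊕a} ⊕ O_{X,x}^{⊕b} (F of type given
by a and b at x). Then there is an open neighbourhood U of x containing no other node such that F|_U
is isomorphic to I|_U^{⊕a} ⊕ O_U^{⊕b}, where I ⊆ O_X is the ideal sheaf of the reduced closed point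
x (existence of an isomorphism; the source produces one whose stalk at x is the given one). The
published statement assumes F of uniform multirank r with b = r − a; this row allows any a and b,
the argument being local at x. -/
theorem result
    (k : Type u) [Field k] [IsAlgClosed k] [CharZero k]
    (X : Scheme.{u}) [X.Over (Spec (CommRingCat.of k))] [IsProper (X ↘ Spec (CommRingCat.of k))]
    [ConnectedSpace X] (hdim : topologicalKrullDim X = 1) (hnod : Curv2.AtWorstNodal k X)
    (F : X.Modules) (hF : Coh.IsCoh F) (htF : TorSh.IsTorsionFree F)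
    (x : X) (hx : Curv2.IsNode k X x) (a b : ℕ)
    (hΦ : Nonempty (F.presheaf.stalk x ≃ₗ[X.presheaf.stalk x]
      ((Fin a → IsLocalRing.maximalIdeal (X.presheaf.stalk x)) × (Fin b → X.presheaf.stalk x)))) :
    ∃ U : X.Opens, x ∈ U ∧ (∀ y ∈ U, Curv2.IsNode k X y → y = x) ∧
      Nonempty (F.restrict U.ι ≅
        (∐ fun _ : Fin a =>
            (ClSub.idealMod (Scheme.IdealSheafData.vanishingIdeal (⟨{x}, hx.1⟩ : TopologicalSpace.Closeds X))).restrict U.ι) ⨿
          (∐ fun _ : Fin b => Coh.structureModule (↑U : Scheme.{u}))) := by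
  classical
  have hred : AlgebraicGeometry.IsReduced X := K236.NodeIso.isReduced_of_atWorstNodal k X hnod
  have hNX : IsNoetherian X := K236.NodeIso.isNoetherian k X
  obtain ⟨V, hxV, hV⟩ := K236.NodeIso.exists_nhd_no_node k X hdim.le x
  let I : X.Modules := ClSub.idealMod
    (Scheme.IdealSheafData.vanishingIdeal (⟨{x}, hx.1⟩ : TopologicalSpace.Closeds X))
  let G : X.Modules := (∐ fun _ : Fin a => I) ⨿ (∐ fun _ : Fin b => Coh.structureModule X)
  have hI : Coh.IsCoh I := K476.DivSec.isCoh_idealMod _
  have hO : Coh.IsCoh (Coh.structureModule X) := Fdesc.StructMod.isCoh_structureModule X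
  have hG : Coh.IsCoh G :=
    isCoh_coprod (CycB.CohProp.isCoh_finite_coproduct _ fun _ => hI)
      (CycB.CohProp.isCoh_finite_coproduct _ fun _ => hO)
  obtain ⟨Φ⟩ := hΦ
  have hst : IntMult.stalkIdeal
      (Scheme.IdealSheafData.vanishingIdeal (⟨{x}, hx.1⟩ : TopologicalSpace.Closeds X)) x =
      IsLocalRing.maximalIdeal (X.presheaf.stalk x) := K319.Setup.stalkIdeal_I x hx.1
  let eI : I.presheaf.stalk x ≃ₗ[X.presheaf.stalk x] IsLocalRing.maximalIdeal (X.presheaf.stalk x) :=
    (K236.NodeNear.stalkIdealModEquiv _ x).trans (LinearEquiv.ofEq _ _ hst)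
  let eG : G.presheaf.stalk x ≃ₗ[X.presheaf.stalk x]
      ((Fin a → IsLocalRing.maximalIdeal (X.presheaf.stalk x)) × (Fin b → X.presheaf.stalk x)) :=
    (K236.NodeNear.stalkCoprodEquiv _ _ x).trans
      (LinearEquiv.prodCongr
        ((Coherent.K47.GenIso.stalkSigmaEquiv I a x).trans (LinearEquiv.piCongrRight fun _ => eI))
        ((Coherent.K47.GenIso.stalkSigmaEquiv (Coh.structureModule X) b x).trans
          (LinearEquiv.piCongrRight fun _ => (Fdesc.StructMod.stalkEquiv x).symm)))
  obtain ⟨U, hxU, hUV, ⟨e⟩⟩ := K236.NodeNear.exists_restrict_iso hF hG x (Φ.trans eG.symm) V hxV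
  refine ⟨U, hxU, fun y hy hn => hV y (hUV hy) hn, ⟨e ≪≫ ?_⟩⟩
  exact restrictSum U.ι I (Coh.structureModule X) a b ≪≫
    coprod.mapIso (Iso.refl _) (Limits.Sigma.mapIso fun _ => Scheme.Modules.restrictUnitIso U.ι)


end Groth.Agent.S18919
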