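import Groth.Statements.S18920
import Mathlib.Tactic

set_option autoImplicit false
universe u
open CAlg

namespace Groth.Agent.S18920

/-- Let M be a commutative monoid, s ≥ 1, and ξ_1, …, ξ_s elements of M with ξ_i ^ (s!/i) = 1 for 1 ≤ i
≤ s (an (s!/i)-th root of unity for each i). Suppose that for every finitely supported function d on
{1, …, s} with Σ_i i · d_i = s! the product ∏_i ξ_i ^ d_i equals 1. Then ξ_1 ^ j = ξ_j for every 1 ≤
j ≤ s. (The source works with roots of unity in the complex numbers.) -/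
theorem result
    {M : Type u} [CommMonoid M] (s : ℕ) (hs : 1 ≤ s) (ξ : ℕ → M)
    (hξ : ∀ i : ℕ, 1 ≤ i → i ≤ s → ξ i ^ (s.factorial / i) = 1)
    (hprod : ∀ d : ℕ →₀ ℕ, (∀ i ∈ d.support, 1 ≤ i ∧ i ≤ s) →
      (d.sum fun i n => i * n) = s.factorial → (d.prod fun i n => ξ i ^ n) = 1)
    (j : ℕ) (hj : 1 ≤ j) (hjs : j ≤ s) :
    ξ 1 ^ j = ξ j := by
  rcases Nat.eq_or_lt_of_le hj with h1 | h1
  · subst h1; simp
  have hdvd : j ∣ s.factorial := Nat.dvd_factorial (by omega) hjs
  have hpos : 0 < s.factorial / j := Nat.div_pos (Nat.le_of_dvd (Nat.factorial_pos s) hdvd) (by omega)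
  have hmul : j * (s.factorial / j) = s.factorial := Nat.mul_div_cancel' hdvd
  obtain ⟨m, hm⟩ : ∃ m, s.factorial / j = m + 1 := ⟨s.factorial / j - 1, by omega⟩
  have hne : (1 : ℕ) ≠ j := by omega
  have key := hprod (Finsupp.single 1 j + Finsupp.single j m) ?_ ?_
  · rw [Finsupp.prod_add_index' (by simp) (by intro a b c; exact pow_add _ _ _),
      Finsupp.prod_single_index (by simp), Finsupp.prod_single_index (by simp)] at key
    have h2 := hξ j hj hjs
    rw [hm, pow_succ] at h2
    calc ξ 1 ^ j = ξ 1 ^ j * (ξ j ^ m * ξ j) := by rw [h2, mul_one]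
      _ = (ξ 1 ^ j * ξ j ^ m) * ξ j := by rw [mul_assoc]
      _ = ξ j := by rw [key, one_mul]
  · intro i hi
    have := Finsupp.support_add hi
    rw [Finset.mem_union] at this
    rcases this with h | h
    · have := Finsupp.support_single_subset h
      simp at this; subst this; exact ⟨le_refl _, hs⟩
    · have := Finsupp.support_single_subset h
      simp at this; subst this; exact ⟨hj, hjs⟩
  · rw [Finsupp.sum_add_index' (by simp) (by intro a b c; exact mul_add _ _ _),
      Finsupp.sum_single_index (by simp), Finsupp.sum_single_index (by simp)]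
    rw [hm] at hmul
    rw [← hmul]; ring

end Groth.Agent.S18920
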