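import Groth.Statements.S18921
import Groth.Agent.VBCurve.K417.GlueComp

set_option autoImplicit false
universe u
open CategoryTheory CategoryTheory.Limits AlgebraicGeometry
open VBCurve

namespace Groth.Agent.S18921

/-- Let k be an algebraically closed field of characteristic zero, Y a smooth proper k-scheme of
dimension one, possibly disconnected but with no isolated points (every connected component is a
curve), and L an ample invertible O_Y-module. Say (Y, L) has property P when for any two finite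
locally free O_Y-modules E, F with nowhere-zero stalks (support equal to Y) that are semistable of
dimension one with respect to L, the tensor product E ⊗ F is again semistable. If (Y, L) has
property P then for every connected component U of Y, with j : U → Y the inclusion, O_U =
j_*(O_Y|_U) and L_U = j_*(L|_U), the Euler characteristics over k satisfy χ(O_U) · (χ(L) − χ(O_Y)) =
χ(O_Y) · (χ(L_U) − χ(O_U)); in words, χ(O_U)/deg(L|_U) is the same for all components and equals
χ(O_Y)/deg L. -/
theorem result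
    (k : Type u) [Field k] [IsAlgClosed k] [CharZero k]
    (Y : Scheme.{u}) [Y.Over (Spec (CommRingCat.of k))] [IsProper (Y ↘ Spec (CommRingCat.of k))]
    [Smooth (Y ↘ Spec (CommRingCat.of k))] (hdim : topologicalKrullDim Y = 1)
    (hpure : ∀ y : Y, ¬ IsOpen ({y} : Set Y))
    (L : Y.Modules) (hL : CohB1.IsAmple L)
    (hP : ∀ E F : Y.Modules, FlatMod.IsFinLocFree E → FlatMod.IsFinLocFree F →
      (∀ y : Y, ¬ Subsingleton (E.presheaf.stalk y)) → (∀ y : Y, ¬ Subsingleton (F.presheaf.stalk y)) →
      ShStab.IsSemistable k Y L E 1 → ShStab.IsSemistable k Y L F 1 →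
      ShStab.IsSemistable k Y L (CohB1.tensorMod E F) 1)
    (U : Y.Opens) (hUc : IsClopen (U : Set Y)) (hUconn : _root_.IsConnected (U : Set Y)) :
    Curv2.euler k Y ((Scheme.Modules.pushforward U.ι).obj ((Coh.structureModule Y).restrict U.ι)) *
        (Curv2.euler k Y L - Curv2.euler k Y (Coh.structureModule Y)) =
      Curv2.euler k Y (Coh.structureModule Y) *
        (Curv2.euler k Y ((Scheme.Modules.pushforward U.ι).obj (L.restrict U.ι)) -
          Curv2.euler k Y ((Scheme.Modules.pushforward U.ι).obj ((Coh.structureModule Y).restrict U.ι))) := by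
  have H : K706.DimOne.Pol Y L := ⟨hdim, hL⟩
  have hnoeth := K707.Deg.isNoetherian k (X := Y)
  have hfin := Groth.Agent.Models.H73.SmoothCount.finite_components Y
  have hft := Fintype.ofFinite (ConnectedComponents Y)
  let ov : ∀ U : Y.Opens, (U : Scheme.{u}).Over (Spec (CommRingCat.of k)) :=
    fun U => ⟨U.ι ≫ (Y ↘ Spec (CommRingCat.of k))⟩
  let W := K706.CompSS.W Y
  have disj := K706.CompSS.W_disj Y
  have cov := K706.CompSS.W_cov Y
  have hWc : ∀ c, IsClopen (W c : Set Y) := K706.CompSS.W_clopen Y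
  have hint : ∀ c, IsIntegral (W c : Scheme.{u}) := fun c =>
    K417.CompEul.isIntegral_U k (U := W c) rfl (K706.CompSS.W_conn Y c)
  have hprop : ∀ c, IsProper ((W c : Scheme.{u}) ↘ Spec (CommRingCat.of k)) := fun c =>
    K417.CompEul.isProper_U k (U := W c) rfl (hWc c)
  have hsm : ∀ c, Smooth ((W c : Scheme.{u}) ↘ Spec (CommRingCat.of k)) := fun c =>
    K417.CompEul.smooth_U k (U := W c) rfl
  have hd1 : ∀ c, topologicalKrullDim (W c : Scheme.{u}) = 1 := fun c =>
    K417.CompEul.dim_U (U := W c) hdim hpure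
  have hC : ∀ c, K707.Base.Crv k (W c : Scheme.{u}) := fun c => K707.Base.Crv.of_smooth (hd1 c)
  -- the invertible modules with zero Euler characteristic
  have hNc : ∀ c, ∃ Nc : (W c : Scheme.{u}).Modules, PicF.IsInvertible Nc ∧
      K707.Deg.dg k Nc = -Curv2.euler k (W c) (Coh.structureModule (W c : Scheme.{u})) := fun c =>
    K417.GlueComp.exists_dg k (W c : Scheme.{u}) (hd1 c) _
  choose Nc hNcI hNcd using hNc
  obtain ⟨N, hN⟩ := K417.GlueComp.exists_glue disj Nc
  have hNr : ∀ c, PicF.IsInvertible (N.restrict (W c).ι) := fun c =>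
    K417.GlueComp.isInvertible_iso (hN c).some.symm (hNcI c)
  have hNI : PicF.IsInvertible N := K417.GlueComp.isInvertible_of_parts cov hNr
  have hNd : ∀ c, K707.Deg.dg k (N.restrict (W c).ι) =
      -Curv2.euler k (W c) (Coh.structureModule (W c : Scheme.{u})) := fun c => by
    rw [K707.Deg.dg_iso k (hN c).some, hNcd c]
  have hNv : FlatMod.IsFinLocFree N := K707.TensL.vb_of_inv hNI
  have hNcoh : Coh.IsCoh N := K706.CompSS.coh_of_vb hNv
  have hst := K417.GlueComp.not_subsingleton_stalk hNI
  -- ranks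
  have hrk : ∀ c {M : Y.Modules}, PicF.IsInvertible M → Groth.Agent.VarietyA.DegRank.rk (M.restrict (W c).ι) = 1 := fun c M hM =>
    K707.Base.rk_of_rank (K707.TensL.rank_one_iff.2 (Groth.Agent.Flat2H.RelAmpleBasic.isInvertible_restrict hM (W c).ι))
  have hcpart : ∀ c {M : Y.Modules}, PicF.IsInvertible M → K706.DimOne.c k (K706.Clopen.part (W c) M) =
      K707.Deg.dg k (M.restrict (W c).ι) + Curv2.euler k (W c) (Coh.structureModule (W c : Scheme.{u})) := by
    intro c M hM
    rw [K417.CompEul.c_part_eq k (U := W c) rfl (hWc c), hrk c hM]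
    simp
  have hapart : ∀ c {M : Y.Modules}, PicF.IsInvertible M → K706.DimOne.a k L (K706.Clopen.part (W c) M) =
      K707.Deg.dg k (L.restrict (W c).ι) := by
    intro c M hM
    rw [K417.CompEul.a_part_eq k (U := W c) rfl (hWc c) (hd1 c) hL.1
      (K706.CompSS.coh_of_vb (K707.TensL.vb_of_inv hM)), hrk c hM]
    simp
  have sc : ∀ M : Y.Modules, Coh.IsCoh M →
      K706.DimOne.c k M = ∑ i, K706.DimOne.c k (K706.Clopen.part (W i) M) := fun M hM =>
    K706.DimOne.sum_parts disj cov (K706.DimOne.c k) (fun S hS h₁ h₂ h₃ => K706.DimOne.c_add k hS h₁ h₂ h₃)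
      (fun M N e => K706.DimOne.c_iso k e) hM
  have sa : ∀ M : Y.Modules, Coh.IsCoh M →
      K706.DimOne.a k L M = ∑ i, K706.DimOne.a k L (K706.Clopen.part (W i) M) := fun M hM =>
    K706.DimOne.sum_parts disj cov (K706.DimOne.a k L) (fun S hS h₁ h₂ h₃ => K706.DimOne.a_add k hL.1 hS h₁ h₂ h₃)
      (fun M N e => K706.DimOne.a_iso k e) hM
  -- N is semistable
  have hcN : ∀ c, K706.DimOne.c k (K706.Clopen.part (W c) N) = 0 := fun c => by
    rw [hcpart c hNI, hNd c]
    ring
  have hcN0 : K706.DimOne.c k N = 0 := by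
    rw [sc N hNcoh]
    exact Finset.sum_eq_zero fun c _ => hcN c
  have hY : Nonempty Y := by
    obtain ⟨x, -⟩ := hUconn.nonempty
    exact ⟨x⟩
  have hne : ∀ {M : Y.Modules}, PicF.IsInvertible M → ¬ IsZero M := by
    intro M hM hz
    obtain ⟨y⟩ := hY
    exact K417.GlueComp.not_subsingleton_stalk hM y
      (((Groth.Agent.VarietyB.ExactLoc.isZero_iff_stalk M).1 hz) y)
  have hNss : ShStab.IsSemistable k Y L N 1 := by
    refine K706.CompSS.ss_of_parts H disj cov hNcoh (hne hNI) fun c hc => ⟨?_, ?_⟩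
    · refine K417.CompEul.ss_part H (U := W c) rfl (hWc c) (hC c) (K707.TensL.vb_of_inv (hNr c)) hNcoh ?_
        (K417.GlueComp.ss_of_inv (hC c) (hNr c))
      rw [hrk c hNI]
      exact Nat.one_pos
    · rw [hcN c, hcN0]
      simp
  have hNN := hP N N hNv hNv hst hst hNss hNss
  have hNNI : PicF.IsInvertible (CohB1.tensorMod N N) := Groth.Agent.Fdesc.LocGen.isInvertible_tensorMod hNI hNI
  have hNNcoh : Coh.IsCoh (CohB1.tensorMod N N) := K706.CompSS.coh_of_vb (K707.TensL.vb_of_inv hNNI)
  have hOI : PicF.IsInvertible (Coh.structureModule Y) := Groth.Agent.Fdesc.LocGen.isInvertible_structureModule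
  have hOcoh : Coh.IsCoh (Coh.structureModule Y) := K706.CompSS.coh_of_vb (K707.TensL.vb_of_inv hOI)
  -- numbers
  have hdNN : ∀ c, K707.Deg.dg k ((CohB1.tensorMod N N).restrict (W c).ι) =
      -2 * Curv2.euler k (W c) (Coh.structureModule (W c : Scheme.{u})) := by
    intro c
    rw [K707.Deg.dg_iso k (Groth.Agent.Ega3B.TensRestrict.restrictIso (W c).ι N N),
      K707.TensL.dg_tensor k (hd1 c) (K707.TensL.rank_one_iff.2 (hNr c))
        (K706.CompSS.coh_of_vb (K707.TensL.vb_of_inv (hNr c))), hrk c hNI, hNd c]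
    push_cast
    ring
  have hdO : ∀ c, K707.Deg.dg k ((Coh.structureModule Y).restrict (W c).ι) = 0 := by
    intro c
    rw [K707.Deg.dg_iso k (Scheme.Modules.restrictUnitIso (W c).ι)]
    exact K709.H0Bound.dg_O k
  have hcNN : ∀ c, K706.DimOne.c k (K706.Clopen.part (W c) (CohB1.tensorMod N N)) =
      -Curv2.euler k (W c) (Coh.structureModule (W c : Scheme.{u})) := fun c => by
    rw [hcpart c hNNI, hdNN c]
    ring
  have hcO : ∀ c, K706.DimOne.c k (K706.Clopen.part (W c) (Coh.structureModule Y)) =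
      Curv2.euler k (W c) (Coh.structureModule (W c : Scheme.{u})) := fun c => by
    rw [hcpart c hOI, hdO c]
    ring
  have hcL : ∀ c, K706.DimOne.c k (K706.Clopen.part (W c) L) = K707.Deg.dg k (L.restrict (W c).ι) +
      Curv2.euler k (W c) (Coh.structureModule (W c : Scheme.{u})) := fun c => hcpart c hL.1
  have hLcoh : Coh.IsCoh L := K706.CompSS.coh_of_vb (K707.TensL.vb_of_inv hL.1)
  -- the totals
  have tNN : K706.DimOne.c k (CohB1.tensorMod N N) = -K706.DimOne.c k (Coh.structureModule Y) := by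
    rw [sc _ hNNcoh, sc _ hOcoh, ← Finset.sum_neg_distrib]
    exact Finset.sum_congr rfl fun c _ => by rw [hcNN c, hcO c]
  have tL : K706.DimOne.a k L (CohB1.tensorMod N N) =
      K706.DimOne.c k L - K706.DimOne.c k (Coh.structureModule Y) := by
    rw [sa _ hNNcoh, sc _ hLcoh, sc _ hOcoh, ← Finset.sum_sub_distrib]
    exact Finset.sum_congr rfl fun c _ => by rw [hapart c hNNI, hcL c, hcO c]; ring
  -- the component
  obtain ⟨c, rfl⟩ : ∃ c, U = W c := by
    obtain ⟨x, hx⟩ := hUconn.nonempty
    refine ⟨ConnectedComponents.mk x, ?_⟩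
    apply TopologicalSpace.Opens.ext
    change (U : Set Y) = (K706.CompSS.W Y (ConnectedComponents.mk x) : Set Y)
    rw [K706.CompSS.W_coe Y _ x rfl]
    exact le_antisymm (hUconn.isPreconnected.subset_connectedComponent hx)
      (hUc.connectedComponent_subset hx)
  have hz : ¬ IsZero (K706.Clopen.part (W c) (CohB1.tensorMod N N)) := by
    intro hz
    have h1 := K706.CompSS.a_zero (k := k) hL.1
      (K706.Clopen.isCoh_part (K706.CompSS.inf_cpl (W c) (hWc c)) (K706.CompSS.sup_cpl (W c) (hWc c)) hNNcoh) hz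
    rw [hapart c hNNI] at h1
    exact (K417.CompEul.dgL_pos (k := k) H (U := W c) (hWc c) (hd1 c)).ne' h1
  have key := (K706.CompSS.part_of_ss H (K706.CompSS.inf_cpl (W c) (hWc c)) (K706.CompSS.sup_cpl (W c) (hWc c))
    hNN hz).2
  rw [hcNN c, hapart c hNNI, tNN, tL] at key
  change K706.DimOne.c k (K706.Clopen.part (W c) (Coh.structureModule Y)) *
      (K706.DimOne.c k L - K706.DimOne.c k (Coh.structureModule Y)) =
    K706.DimOne.c k (Coh.structureModule Y) *
      (K706.DimOne.c k (K706.Clopen.part (W c) L) - K706.DimOne.c k (K706.Clopen.part (W c) (Coh.structureModule Y)))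
  rw [hcL c, hcO c]
  linarith

end Groth.Agent.S18921
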