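import Groth.Statements.S18925
import Groth.Agent.ResHyp.K977.Count

set_option autoImplicit false
universe u
open ResHyp

namespace Groth.Agent.S18925

open K977.ResCount in
theorem card_eq (F : Type u) [Field F] [Fintype F] (k : ℕ) :
    Nat.card {p : (Fin 3 → F) × (Fin (k + 2) → F) //
      Polynomial.resultant (∑ i : Fin 3, Polynomial.C (p.1 i) * Polynomial.X ^ (i : ℕ))
        (∑ j : Fin (k + 2), Polynomial.C (p.2 j) * Polynomial.X ^ (j : ℕ)) 2 (k + 1) ≠ 0} =
      Fintype.card F ^ (k + 2) * (Fintype.card F - 1) ^ 2 * (Fintype.card F + 1) := by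
  rw [← sum_N k]
  unfold N
  rw [← Nat.card_sigma]
  refine Nat.card_congr ⟨fun x => ⟨x.1.1, x.1.2, x.2⟩, fun x => ⟨(x.1, x.2.1), x.2.2⟩, ?_, ?_⟩
  · intro x; rfl
  · intro x; rfl

/-- Let F be a finite field with q elements and let n ≥ 2. Count the pairs (f, g) where f is a binary
quadratic form and g a binary form of degree n over F, recorded by their coefficient vectors of
lengths 3 and n + 1 (leading coefficients may vanish), whose resultant — the Sylvester determinant
of the two coefficient vectors with size parameters 2 and n — is nonzero, i.e. f and g have no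
common zero on the projective line. The number of such pairs is q ^ (n + 4) - q ^ (n + 3) - q ^ (n +
2) + q ^ (n + 1). (The source's result is the compactly supported ℓ-adic cohomology of this locus:
one-dimensional of Tate weights n + 4, n + 3, n + 2, n + 1 in degrees 2n + 8, 2n + 7, 2n + 5, 2n + 4
and zero elsewhere; this row keeps only the resulting point count.) -/
theorem result (F : Type u) [Field F] [Fintype F] (n : ℕ) (h2 : 2 ≤ n) :
    Nat.card {p : (Fin 3 → F) × (Fin (n + 1) → F) //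
      Polynomial.resultant (∑ i : Fin 3, Polynomial.C (p.1 i) * Polynomial.X ^ (i : ℕ))
        (∑ j : Fin (n + 1), Polynomial.C (p.2 j) * Polynomial.X ^ (j : ℕ)) 2 n ≠ 0} =
      Fintype.card F ^ (n + 4) - Fintype.card F ^ (n + 3) - Fintype.card F ^ (n + 2) + Fintype.card F ^ (n + 1) := by
  obtain ⟨k, rfl⟩ : ∃ k, n = k + 1 := ⟨n - 1, by omega⟩
  rw [card_eq]
  obtain ⟨s, hs⟩ : ∃ s, Fintype.card F = s + 1 := ⟨Fintype.card F - 1, by
    have := Fintype.card_pos (α := F); omega⟩
  have hs1 : 1 ≤ s := by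
    have := Fintype.one_lt_card (α := F); omega
  obtain ⟨r, rfl⟩ : ∃ r, s = r + 1 := ⟨s - 1, by omega⟩
  rw [hs, Nat.add_sub_cancel]
  have e1 : (r + 1 + 1) ^ (k + 1 + 4) = (r + 1 + 1) ^ (k + 2) * (r + 1) ^ 2 * (r + 1 + 1 + 1) +
      (r + 1 + 1) ^ (k + 1 + 3) + (r + 1 + 1) ^ (k + 1 + 2) - (r + 1 + 1) ^ (k + 1 + 1) := by
    have : (r + 1 + 1) ^ (k + 1 + 4) + (r + 1 + 1) ^ (k + 1 + 1) =
      (r + 1 + 1) ^ (k + 2) * (r + 1) ^ 2 * (r + 1 + 1 + 1) +
      (r + 1 + 1) ^ (k + 1 + 3) + (r + 1 + 1) ^ (k + 1 + 2) := by ring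
    omega
  have e2 : (r + 1 + 1) ^ (k + 1 + 1) ≤ (r + 1 + 1) ^ (k + 2) * (r + 1) ^ 2 * (r + 1 + 1 + 1) := by
    rw [mul_assoc]
    exact Nat.le_mul_of_pos_right _ (by positivity)
  omega

end Groth.Agent.S18925
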