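import Groth.Statements.S18924
import Groth.Agent.S18925

set_option autoImplicit false
universe u
open ResHyp

namespace Groth.Agent.S18924

open K977.ResCount Polynomial

variable {F : Type u} [Field F]

theorem quad_smul (r : F) (a : Fin 3 → F) : quad (r • a) = C r * quad a := by
  unfold quad
  rw [Finset.mul_sum]
  refine Finset.sum_congr rfl fun i _ => ?_
  simp [mul_assoc]

theorem pol_smul {n : ℕ} (r : F) (b : Fin n → F) : pol (r • b) = C r * pol b := by
  unfold pol
  rw [Finset.mul_sum]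
  refine Finset.sum_congr rfl fun i _ => ?_
  simp [mul_assoc]

theorem scale (k : ℕ) (u : F) (hu : u ≠ 0) (a : Fin 3 → F) (b : Fin (2 * k + 1 + 1) → F) :
    resultant (quad (u • a)) (pol ((u ^ k)⁻¹ • b)) 2 (2 * k + 1) =
      u * resultant (quad a) (pol b) 2 (2 * k + 1) := by
  rw [quad_smul, pol_smul, resultant_C_mul_left, resultant_C_mul_right]
  have : (u ^ k) ≠ 0 := pow_ne_zero _ hu
  field_simp
  ring

/-- Let F be a finite field with q elements and let n ≥ 3 be odd. Count the pairs (f, g) where f is a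
binary quadratic form and g a binary form of degree n over F, recorded by their coefficient vectors
of lengths 3 and n + 1 (leading coefficients may vanish), whose resultant — the Sylvester
determinant of the two coefficient vectors with size parameters 2 and n — equals 1. The number of
such pairs is q ^ (n + 3) - q ^ (n + 1). (The published statement gives q ^ (n + 3) + q ^ (n + 1);
for q = 3 and n = 3 the count is 648, not 810.) -/
theorem result (F : Type u) [Field F] [Fintype F] (n : ℕ)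
    (hn : Odd n) (h3 : 3 ≤ n) :
    Nat.card {p : (Fin 3 → F) × (Fin (n + 1) → F) //
      Polynomial.resultant (∑ i : Fin 3, Polynomial.C (p.1 i) * Polynomial.X ^ (i : ℕ))
        (∑ j : Fin (n + 1), Polynomial.C (p.2 j) * Polynomial.X ^ (j : ℕ)) 2 n = 1} =
      Fintype.card F ^ (n + 3) - Fintype.card F ^ (n + 1) := by
  obtain ⟨k, rfl⟩ := hn
  change Nat.card {p : (Fin 3 → F) × (Fin (2 * k + 1 + 1) → F) //
      resultant (quad p.1) (pol p.2) 2 (2 * k + 1) = 1} = _
  have h1 : Nat.card {p : (Fin 3 → F) × (Fin (2 * k + 1 + 1) → F) //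
      resultant (quad p.1) (pol p.2) 2 (2 * k + 1) ≠ 0} =
      Fintype.card F ^ (2 * k + 2) * (Fintype.card F - 1) ^ 2 * (Fintype.card F + 1) :=
    Groth.Agent.S18925.card_eq F (2 * k)
  have h2 : Nat.card {p : (Fin 3 → F) × (Fin (2 * k + 1 + 1) → F) //
      resultant (quad p.1) (pol p.2) 2 (2 * k + 1) ≠ 0} =
      Nat.card {p : (Fin 3 → F) × (Fin (2 * k + 1 + 1) → F) //
      resultant (quad p.1) (pol p.2) 2 (2 * k + 1) = 1} * (Fintype.card F - 1) := by
    rw [← card_ne_zero' (F := F), ← Nat.card_prod]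
    let R : (Fin 3 → F) × (Fin (2 * k + 1 + 1) → F) → F := fun p =>
      resultant (quad p.1) (pol p.2) 2 (2 * k + 1)
    have hsc : ∀ (u : F) (_ : u ≠ 0) (p : (Fin 3 → F) × (Fin (2 * k + 1 + 1) → F)),
        R (u • p.1, (u ^ k)⁻¹ • p.2) = u * R p := fun u hu p => scale k u hu p.1 p.2
    refine Nat.card_congr ⟨fun p => (⟨((R p.1)⁻¹ • p.1.1, (((R p.1)⁻¹) ^ k)⁻¹ • p.1.2), ?_⟩,
      ⟨R p.1, p.2⟩), fun x => ⟨(x.2.1 • x.1.1.1, (x.2.1 ^ k)⁻¹ • x.1.1.2), ?_⟩, ?_, ?_⟩
    · have := hsc (R p.1)⁻¹ (inv_ne_zero p.2) p.1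
      exact this.trans (inv_mul_cancel₀ p.2)
    · have := hsc x.2.1 x.2.2 x.1.1
      have h4 : R x.1.1 = 1 := x.1.2
      rw [h4, mul_one] at this
      change R _ ≠ 0
      rw [this]
      exact x.2.2
    · intro p
      have hp : R p.1 ≠ 0 := p.2
      have hpk : (R p.1) ^ k ≠ 0 := pow_ne_zero _ hp
      apply Subtype.ext
      refine Prod.ext ?_ ?_
      · change R p.1 • (R p.1)⁻¹ • p.1.1 = p.1.1
        rw [smul_smul, mul_inv_cancel₀ hp, one_smul]
      · change ((R p.1) ^ k)⁻¹ • (((R p.1)⁻¹) ^ k)⁻¹ • p.1.2 = p.1.2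
        rw [smul_smul, inv_pow, inv_inv, inv_mul_cancel₀ hpk, one_smul]
    · intro x
      have hx : x.2.1 ≠ 0 := x.2.2
      have hxk : x.2.1 ^ k ≠ 0 := pow_ne_zero _ hx
      have h5 : R (x.2.1 • x.1.1.1, (x.2.1 ^ k)⁻¹ • x.1.1.2) = x.2.1 := by
        have := hsc x.2.1 x.2.2 x.1.1
        have h4 : R x.1.1 = 1 := x.1.2
        rw [h4, mul_one] at this
        exact this
      refine Prod.ext ?_ ?_
      · apply Subtype.ext
        refine Prod.ext ?_ ?_
        · simp only
          rw [h5, smul_smul, inv_mul_cancel₀ hx, one_smul]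
        · simp only
          rw [h5, smul_smul, inv_pow, inv_inv, mul_inv_cancel₀ hxk, one_smul]
      · apply Subtype.ext
        exact h5
  rw [h1] at h2
  obtain ⟨s, hs⟩ : ∃ s, Fintype.card F = s + 1 := ⟨Fintype.card F - 1, by
    have := Fintype.card_pos (α := F); omega⟩
  have hs1 : 1 ≤ s := by
    have := Fintype.one_lt_card (α := F); omega
  rw [hs, Nat.add_sub_cancel] at h2
  have h4 : (s + 1) ^ (2 * k + 2) * s ^ 2 * (s + 1 + 1) =
      ((s + 1) ^ (2 * k + 2) * s * (s + 1 + 1)) * s := by ring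
  rw [h4] at h2
  have h5 := Nat.eq_of_mul_eq_mul_right (by omega) h2
  rw [← h5, hs]
  have h6 : (s + 1) ^ (2 * k + 1 + 3) = (s + 1) ^ (2 * k + 2) * s * (s + 1 + 1) +
      (s + 1) ^ (2 * k + 1 + 1) := by ring
  omega

end Groth.Agent.S18924
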