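import Groth.Statements.S18927
import Mathlib.LinearAlgebra.StdBasis
import Mathlib.Tactic.Ring

set_option autoImplicit false
universe u v
open W4c6secantcecovers

namespace Groth.Agent.S18927

open TensorProduct

section

variable (R : Type u) [CommRing R] (r : ℕ)

/-- Leibniz rule for the contraction against a decomposable element. -/
theorem contr_mul (j : Fin r) (n : ℕ) (v : Fin n → (Fin r → R)) (η : SSLam R r) :
    ssContr R r j (ExteriorAlgebra.ιMulti R n v * η) =
      ssContr R r j (ExteriorAlgebra.ιMulti R n v) * η +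
        (-1 : R) ^ n • (ExteriorAlgebra.ιMulti R n v * ssContr R r j η) := by
  induction n with
  | zero =>
    rw [ExteriorAlgebra.ιMulti_zero_apply]
    have : ssContr R r j 1 = 0 := CliffordAlgebra.contractLeft_one _ _
    rw [this]
    simp
  | succ n ih =>
    rw [ExteriorAlgebra.ιMulti_succ_apply, mul_assoc]
    have h1 : ∀ (a : Fin r → R) (b : SSLam R r),
        ssContr R r j (ExteriorAlgebra.ι R a * b) =
          a j • b - ExteriorAlgebra.ι R a * ssContr R r j b := fun a b =>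
      CliffordAlgebra.contractLeft_ι_mul _ a b
    rw [h1, h1, ih]
    rw [pow_succ, mul_neg_one, sub_mul, smul_mul_assoc, mul_add, mul_smul_comm, mul_assoc, mul_assoc,
      neg_smul]
    abel

/-- Forms of degree `r + 1` vanish. -/
theorem mul_eq_zero_of_deg (k : ℕ) (hk : k < r) (e : Fin (k + 1) → (Fin r → R))
    (f : Fin (r - k) → (Fin r → R)) :
    ExteriorAlgebra.ιMulti R (k + 1) e * ExteriorAlgebra.ιMulti R (r - k) f = 0 := by
  rw [ExteriorAlgebra.ιMulti_mul_ιMulti]
  have h2 : ExteriorAlgebra.ιMulti R (M := Fin r → R) (k + 1 + (r - k)) = 0 := by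
    refine Module.Basis.ext_alternating (Pi.basisFun R (Fin r)) fun v hv => ?_
    have := Fintype.card_le_of_injective v hv
    rw [Fintype.card_fin, Fintype.card_fin] at this
    omega
  rw [h2]
  rfl

theorem contr_adj (j : Fin r) (k : ℕ) (hk : k < r) (e : Fin (k + 1) → (Fin r → R))
    (f : Fin (r - k) → (Fin r → R)) :
    (-1 : R) ^ (k.choose 2) • (ssContr R r j (ExteriorAlgebra.ιMulti R (k + 1) e) *
      ExteriorAlgebra.ιMulti R (r - k) f) =
    (-1 : R) ^ ((k + 1).choose 2) • (ExteriorAlgebra.ιMulti R (k + 1) e *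
      ssContr R r j (ExteriorAlgebra.ιMulti R (r - k) f)) := by
  have h := contr_mul R r j (k + 1) e (ExteriorAlgebra.ιMulti R (r - k) f)
  rw [mul_eq_zero_of_deg R r k hk, map_zero] at h
  have h2 : ssContr R r j (ExteriorAlgebra.ιMulti R (k + 1) e) * ExteriorAlgebra.ιMulti R (r - k) f =
      (-1 : R) ^ k • (ExteriorAlgebra.ιMulti R (k + 1) e *
        ssContr R r j (ExteriorAlgebra.ιMulti R (r - k) f)) := by
    rw [pow_succ, mul_neg_one, neg_smul] at h
    exact eq_of_sub_eq_zero (by rw [sub_eq_add_neg]; exact h.symm)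
  rw [h2, smul_smul, ← pow_add]
  congr 2
  rw [Nat.choose_succ_succ' k 1, Nat.choose_one_right, add_comm]

end

/-- Let R be a commutative ring, E = R^r the free module with its coordinate basis, S = R[X_1, …, X_r]
(the symmetric algebra of E), and N an R-module carrying R-linear operators φ_j (the action of the
j-th basis vector of E) and an R-bilinear form β with β(φ_j n, m) = β(n, φ_j m) for every j. On (ΛE
⊗ S) ⊗ N — all terms Λ^k(S ⊗ E) ⊗ N of the Scheja–Storch complex at once — let δ be the differential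
sending (e_1 ∧ ⋯ ∧ e_k) ⊗ s ⊗ n to Σ_i (-1)^(i-1) (e_1 ∧ ⋯ ê_i ⋯ ∧ e_k) ⊗ x(e_i) s ⊗ n + Σ_i (-1)^i
(e_1 ∧ ⋯ ê_i ⋯ ∧ e_k) ⊗ s ⊗ e_i · n, and pair a term u = ω ⊗ s ⊗ n of degree k with v = η ⊗ t ⊗ m by
⟨u, v⟩_k = (-1)^(k choose 2) β(n, m) · (ω ∧ η) ⊗ s t. Then the differential is adjoint to itself for
this pairing in complementary degrees: for u = (e_0 ∧ ⋯ ∧ e_k) ⊗ s ⊗ n of degree k + 1 ≤ r and v =
(f_1 ∧ ⋯ ∧ f_(r-k)) ⊗ t ⊗ m of degree r - k, ⟨δ u, v⟩_k = ⟨u, δ v⟩_(k+1). (The source takes E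
finitely generated projective and N a module over the ambient algebra with a pairing satisfying ⟨f,
g h⟩ = ⟨g f, h⟩; the proof runs on a basis, which is the form stated here, with the action of E
recorded by the operators φ_j.) -/
theorem result
    (R : Type u) [CommRing R] (r : ℕ) (N : Type v) [AddCommGroup N] [Module R N]
    (φ : Fin r → (N →ₗ[R] N)) (β : N →ₗ[R] N →ₗ[R] R)
    (hβ : ∀ (j : Fin r) (n m : N), β (φ j n) m = β n (φ j m))
    (k : ℕ) (hk : k < r)
    (e : Fin (k + 1) → (Fin r → R)) (f : Fin (r - k) → (Fin r → R))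
    (s t : MvPolynomial (Fin r) R) (n m : N) :
    W4c6secantcecovers.ssPair R r N β k
        (W4c6secantcecovers.ssDelta R r N φ ((ExteriorAlgebra.ιMulti R (k + 1) e ⊗ₜ[R] s) ⊗ₜ[R] n))
        ((ExteriorAlgebra.ιMulti R (r - k) f ⊗ₜ[R] t) ⊗ₜ[R] m) =
      W4c6secantcecovers.ssPair R r N β (k + 1)
        ((ExteriorAlgebra.ιMulti R (k + 1) e ⊗ₜ[R] s) ⊗ₜ[R] n)
        (W4c6secantcecovers.ssDelta R r N φ ((ExteriorAlgebra.ιMulti R (r - k) f ⊗ₜ[R] t) ⊗ₜ[R] m)) := by
  have hpair : ∀ (l : ℕ) (ω η : SSLam R r) (s t : MvPolynomial (Fin r) R) (n m : N),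
      ssPair R r N β l ((ω ⊗ₜ[R] s) ⊗ₜ[R] n) ((η ⊗ₜ[R] t) ⊗ₜ[R] m) =
        (-1 : R) ^ (l.choose 2) • (β n m • ((ω * η) ⊗ₜ[R] (s * t))) := by
    intro l ω η s t n m
    simp only [ssPair, ssPairAux, LinearMap.smul_apply, TensorProduct.curry_apply,
      LinearMap.comp_apply, LinearEquiv.coe_coe, TensorProduct.tensorTensorTensorComm_tmul,
      TensorProduct.map_tmul, LinearMap.mul'_apply, Algebra.TensorProduct.tmul_mul_tmul,
      TensorProduct.lift.tmul, TensorProduct.rid_tmul]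
  simp only [ssDelta, ssDKoszul, ssDAct, LinearMap.sum_apply, LinearMap.add_apply,
    LinearMap.smul_apply, TensorProduct.map_tmul, LinearMap.mulLeft_apply, LinearMap.id_apply,
    map_sum, map_add, map_smul, hpair]
  refine Finset.sum_congr rfl fun j _ => ?_
  have h := contr_adj R r j k hk e f
  have key : ∀ (c : R) (a : MvPolynomial (Fin r) R),
      (-1 : R) ^ (k.choose 2) • (c • ((ssContr R r j (ExteriorAlgebra.ιMulti R (k + 1) e) *
        ExteriorAlgebra.ιMulti R (r - k) f) ⊗ₜ[R] a)) =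
      (-1 : R) ^ ((k + 1).choose 2) • (c • ((ExteriorAlgebra.ιMulti R (k + 1) e *
        ssContr R r j (ExteriorAlgebra.ιMulti R (r - k) f)) ⊗ₜ[R] a)) := by
    intro c a
    rw [smul_comm, smul_comm ((-1 : R) ^ ((k + 1).choose 2)), TensorProduct.smul_tmul',
      TensorProduct.smul_tmul' ((-1 : R) ^ ((k + 1).choose 2)), h]
  rw [key, key, hβ]
  congr 3
  ring_nf

end Groth.Agent.S18927
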