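import Groth.Statements.S18928
import Mathlib.Data.Nat.Choose.Sum
import Mathlib.Data.Nat.Factorial.BigOperators

set_option autoImplicit false
universe u
open DPow

namespace Groth.Agent.S18928

/-- Let B be a commutative ring, I an ideal of B with a divided power structure, p a prime, r a natural
number, b an element of B and δ an element of I. Then (b + δ)^(p^r) − b^(p^r) lies in the ideal p^r
I. (The source states this for a divided power thickening over the Witt vectors of length n and 0 ≤
r ≤ n; neither restriction is used.) -/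
theorem result {B : Type u} [CommRing B] {I : Ideal B}
    (hI : DividedPowers I) (p : ℕ) [Fact p.Prime] (r : ℕ) (b δ : B) (hδ : δ ∈ I) :
    (b + δ) ^ (p ^ r) - b ^ (p ^ r) ∈ Ideal.span {((p : B) ^ r)} * I := by
  rw [Ideal.mem_span_singleton_mul]
  rw [add_comm b δ, add_pow, Finset.sum_range_succ']
  simp only [pow_zero, one_mul, Nat.sub_zero, Nat.choose_zero_right, Nat.cast_one, mul_one,
    add_sub_cancel_right]
  refine ⟨∑ k ∈ Finset.range (p ^ r), ((p ^ r - 1).descFactorial k : B) * b ^ (p ^ r - (k + 1)) *
    hI.dpow (k + 1) δ, ?_, ?_⟩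
  · exact I.sum_mem fun k _ => I.mul_mem_left _ (hI.dpow_mem (by omega) hδ)
  · rw [Finset.mul_sum]
    refine Finset.sum_congr rfl fun k hk => ?_
    rw [← hI.factorial_mul_dpow_eq_pow hδ (n := k + 1)]
    have h1 : (p ^ r).descFactorial (k + 1) = p ^ r * (p ^ r - 1).descFactorial k := by
      have hpos : 0 < p ^ r := pow_pos (Fact.out : p.Prime).pos r
      obtain ⟨m, hm⟩ := Nat.exists_eq_succ_of_ne_zero hpos.ne'
      rw [hm, Nat.succ_descFactorial_succ]
      simp
    have h2 : (p ^ r).descFactorial (k + 1) = (k + 1).factorial * (p ^ r).choose (k + 1) :=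
      Nat.descFactorial_eq_factorial_mul_choose _ _
    have h3 : (p : B) ^ r * ((p ^ r - 1).descFactorial k : B) =
        ((k + 1).factorial : B) * ((p ^ r).choose (k + 1) : B) := by
      rw [← Nat.cast_pow, ← Nat.cast_mul, ← Nat.cast_mul, ← h1, h2]
    calc (p : B) ^ r * (((p ^ r - 1).descFactorial k : B) * b ^ (p ^ r - (k + 1)) *
          hI.dpow (k + 1) δ) =
        ((p : B) ^ r * ((p ^ r - 1).descFactorial k : B)) * (b ^ (p ^ r - (k + 1)) *
          hI.dpow (k + 1) δ) := by ring
      _ = _ := by rw [h3]; ring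

end Groth.Agent.S18928
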