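import Groth.Statements.S18929
import Mathlib.Data.Nat.Multiplicity

set_option autoImplicit false
universe u
open DPow

namespace Groth.Agent.S18929

theorem ghost_eq (p : ℕ) [Fact p.Prime] (n : ℕ)
    {B : Type u} [CommRing B] (hp : (p : B) ^ n = 0) (x : WittVector p B) :
    WittVector.ghostComponent n x =
      ∑ i : Fin n, (p : B) ^ (i : ℕ) * (x.coeff i) ^ (p ^ (n - i)) := by
  rw [WittVector.ghostComponent_apply, aeval_wittPolynomial, Finset.sum_range_succ, hp, zero_mul,
    add_zero, Finset.sum_range]

/-- Let p be a prime, n a natural number, B a commutative ring in which p^n = 0, and I an ideal of B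
equipped with divided powers. There is a ring homomorphism θ from the truncated Witt vectors
W_n(B/I) to B such that, for every Witt vector x over B, θ applied to the truncation of the image of
x in W_n(B/I) equals Σ_{i<n} p^i x_i^(p^(n−i)); in particular this sum depends only on the residues
of x_0, …, x_{n−1} modulo I. (The source works with a divided power thickening of an algebra over a
perfect field and also checks linearity over the Witt vectors of that field; only the ring
homomorphism is asserted here. θ is unique, the truncation-of-reduction map being surjective.) -/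
theorem result (p : ℕ) [Fact p.Prime] (n : ℕ)
    {B : Type u} [CommRing B] (hp : (p : B) ^ n = 0) {I : Ideal B} (hI : DividedPowers I) :
    ∃ θ : TruncatedWittVector p n (B ⧸ I) →+* B, ∀ x : WittVector p B, θ (WittVector.truncate n (WittVector.map (Ideal.Quotient.mk I) x)) =
        ∑ i : Fin n, (p : B) ^ (i : ℕ) * (x.coeff i) ^ (p ^ (n - i)) := by
  let π : WittVector p B →+* TruncatedWittVector p n (B ⧸ I) :=
    (WittVector.truncate n).comp (WittVector.map (Ideal.Quotient.mk I))
  have hπ : Function.Surjective π :=
    (WittVector.truncate_surjective p n (B ⧸ I)).comp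
      (WittVector.map_surjective _ Ideal.Quotient.mk_surjective)
  have hker : ∀ x ∈ RingHom.ker π, WittVector.ghostComponent n x = 0 := by
    intro x hx
    rw [ghost_eq p n hp]
    refine Finset.sum_eq_zero fun i _ => ?_
    have hi : x.coeff i ∈ I := by
      have h0 : WittVector.map (Ideal.Quotient.mk I) x ∈
          RingHom.ker (WittVector.truncate (p := p) n) := hx
      rw [WittVector.mem_ker_truncate] at h0
      have h1 := h0 i i.2
      rw [WittVector.map_coeff] at h1
      exact Ideal.Quotient.eq_zero_iff_mem.mp h1
    rw [← hI.factorial_mul_dpow_eq_pow hi]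
    have hdvd : p ^ (n - i) ∣ (p ^ (n - (i : ℕ))).factorial :=
      Nat.dvd_factorial (pow_pos (Fact.out : p.Prime).pos _) le_rfl
    obtain ⟨c, hc⟩ := hdvd
    rw [hc]
    have : (p : B) ^ (i : ℕ) * (p : B) ^ (n - (i : ℕ)) = 0 := by
      rw [← pow_add, Nat.add_sub_cancel' i.2.le, hp]
    calc (p : B) ^ (i : ℕ) * (((p ^ (n - (i : ℕ)) * c : ℕ) : B) *
          hI.dpow (p ^ (n - (i : ℕ))) (x.coeff i)) =
        ((p : B) ^ (i : ℕ) * (p : B) ^ (n - (i : ℕ))) * ((c : B) *
          hI.dpow (p ^ (n - (i : ℕ))) (x.coeff i)) := by push_cast; ring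
      _ = 0 := by rw [this, zero_mul]
  have hker' : RingHom.ker π ≤ RingHom.ker (WittVector.ghostComponent (p := p) (R := B) n) :=
    fun x hx => hker x hx
  refine ⟨RingHom.liftOfSurjective π hπ ⟨WittVector.ghostComponent n, hker'⟩, fun x => ?_⟩
  have := RingHom.liftOfSurjective_comp_apply (f := π) (hf := hπ)
    (g := ⟨WittVector.ghostComponent (p := p) (R := B) n, hker'⟩) x
  rw [← ghost_eq p n hp]
  exact this

end Groth.Agent.S18929
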