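import Groth.Statements.S18931
import Groth.Agent.S18930

set_option autoImplicit false
universe u
open DPow

namespace Groth.Agent.S18931

variable (p : ℕ) [Fact p.Prime] (n : ℕ)
    {B : Type u} [CommRing B]

/-- `θ` is surjective when the Frobenius of `B / p` is. -/
theorem theta_surjective (hp : (p : B) ^ n = 0)
    (hF : Function.Surjective (fun y : B ⧸ (Ideal.span {(p : B)}) => y ^ p))
    (θ : TruncatedWittVector p n (B ⧸ (Ideal.span {(p : B)})) →+* B)
    (hθ : ∀ x : WittVector p B, θ (WittVector.truncate n (WittVector.map (Ideal.Quotient.mk (Ideal.span {(p : B)})) x)) =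
        ∑ i : Fin n, (p : B) ^ (i : ℕ) * (x.coeff i) ^ (p ^ (n - i))) :
    Function.Surjective θ := by
  intro b
  rcases Nat.eq_zero_or_pos n with hn | hn
  · subst hn
    rw [pow_zero] at hp
    exact ⟨0, by rw [← mul_one b, hp, mul_zero, map_zero]⟩
  have hF' : ∀ m : ℕ, Function.Surjective (fun y : B ⧸ (Ideal.span {(p : B)}) => y ^ (p ^ m)) := by
    intro m
    induction m with
    | zero => intro y; exact ⟨y, by simp⟩
    | succ m ih =>
      intro y
      obtain ⟨z, hz⟩ := hF y
      obtain ⟨w, hw⟩ := ih z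
      refine ⟨w, ?_⟩
      change w ^ (p ^ (m + 1)) = y
      rw [pow_succ, pow_mul]
      change w ^ (p ^ m) = z at hw
      rw [hw]; exact hz
  have step : ∀ c : B, ∃ a : TruncatedWittVector p n (B ⧸ (Ideal.span {(p : B)})), ∃ c' : B,
      c = θ a + p * c' := by
    intro c
    obtain ⟨z, hz⟩ := hF' n (Ideal.Quotient.mk _ c)
    change z ^ (p ^ n) = _ at hz
    let a : TruncatedWittVector p n (B ⧸ (Ideal.span {(p : B)})) :=
      TruncatedWittVector.mk p (fun _ => z)
    have h1 := S18930.mk_theta p n hn θ hθ a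
    have h2 : TruncatedWittVector.coeff ⟨0, hn⟩ a = z := TruncatedWittVector.coeff_mk _ _
    rw [h2, hz, Ideal.Quotient.eq] at h1
    obtain ⟨c', hc'⟩ := Ideal.mem_span_singleton'.mp h1
    exact ⟨a, -c', by linear_combination hc'⟩
  have step' : ∀ m : ℕ, ∀ c : B, ∃ a : TruncatedWittVector p n (B ⧸ (Ideal.span {(p : B)})),
      ∃ c' : B, c = θ a + (p : B) ^ m * c' := by
    intro m
    induction m with
    | zero => intro c; exact ⟨0, c, by simp⟩
    | succ m ih =>
      intro c
      obtain ⟨a, c', h⟩ := ih c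
      obtain ⟨a', c'', h'⟩ := step c'
      refine ⟨a + p ^ m * a', c'', ?_⟩
      rw [h, h', map_add, map_mul, map_pow, map_natCast]
      ring
  obtain ⟨a, c', h⟩ := step' n b
  exact ⟨a, by rw [h, hp]; ring⟩

/-- Let p be a prime, n ≥ 1, B a commutative ring with p^n = 0 and A = B/pB, and assume that the p-th
power map of A is surjective. Let θ : W_n(A) → B be the ring homomorphism which sends the reduction
of a Witt vector (x_0, …, x_{n−1}) over B to Σ_{i<n} p^i x_i^(p^(n−i)). Then every a in W_n(A) with
a_0^(p^n) = 0 lies in ker θ + (p); together with the reverse inclusion, ker θ + (p) is exactly the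
set of such a. (In the source B is the ring of global sections of a scheme over the Witt vectors of
length n of a perfect field. The printed argument subtracts a single correction term, which suffices
for n ≤ 2; in general one corrects the components one at a time.) -/
theorem result (p : ℕ) [Fact p.Prime]
    (n : ℕ) (hn : 0 < n) {B : Type u} [CommRing B] (hp : (p : B) ^ n = 0)
    (hF : Function.Surjective (fun y : B ⧸ (Ideal.span {(p : B)}) => y ^ p))
    (θ : TruncatedWittVector p n (B ⧸ (Ideal.span {(p : B)})) →+* B)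
    (hθ : ∀ x : WittVector p B, θ (WittVector.truncate n (WittVector.map (Ideal.Quotient.mk (Ideal.span {(p : B)})) x)) =
        ∑ i : Fin n, (p : B) ^ (i : ℕ) * (x.coeff i) ^ (p ^ (n - i)))
    (a : TruncatedWittVector p n (B ⧸ (Ideal.span {(p : B)}))) (ha : (TruncatedWittVector.coeff ⟨0, hn⟩ a) ^ (p ^ n) = 0) :
    a ∈ RingHom.ker θ ⊔ Ideal.span {(p : TruncatedWittVector p n (B ⧸ (Ideal.span {(p : B)})))} := by
  rw [← S18930.mk_theta p n hn θ hθ, Ideal.Quotient.eq_zero_iff_mem] at ha
  obtain ⟨b, hb⟩ := Ideal.mem_span_singleton'.mp ha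
  obtain ⟨c, rfl⟩ := theta_surjective p n hp hF θ hθ b
  have h1 : a = (a - c * p) + c * p := by ring
  rw [h1]
  refine Submodule.add_mem_sup ?_ (Ideal.mul_mem_left _ _ (Ideal.mem_span_singleton_self _))
  rw [RingHom.mem_ker, map_sub, map_mul, map_natCast, hb, sub_self]

end Groth.Agent.S18931
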