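import Groth.Statements.S18933
import Groth.Agent.Synt.K563.Frob

set_option autoImplicit false
universe u
open Synt

namespace Groth.Agent.S18933

/-- Let p be a prime, A a Noetherian commutative ring and m a natural number, and let φ be the A-algebra
endomorphism of the polynomial ring A[T_1, …, T_m] with φ(T_i) = T_i^p. Then φ is syntomic and
faithfully flat (so Spec φ is a covering for the syntomic topology). -/
theorem result (p : ℕ) [Fact p.Prime]
    (A : Type u) [CommRing A] [IsNoetherianRing A] (m : ℕ)
    (φ : MvPolynomial (Fin m) A →ₐ[A] MvPolynomial (Fin m) A)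
    (hφ : ∀ i : Fin m, φ (MvPolynomial.X i) = MvPolynomial.X i ^ p) :
    @Synt.IsSyntomic (MvPolynomial (Fin m) A) _ (MvPolynomial (Fin m) A) _ φ.toRingHom.toAlgebra ∧
      φ.toRingHom.FaithfullyFlat := by
  have hp : p ≠ 0 := (Fact.out : p.Prime).ne_zero
  have hφ' : φ = MvPolynomial.expand p := by
    ext i
    rw [hφ, MvPolynomial.expand_X]
  exact @K563.Frob.main' p A _ m hp (MvPolynomial (Fin m) A) _ φ.toRingHom.toAlgebra
    (RingEquiv.refl _) (fun r => by
      change φ r = _
      rw [hφ']
      rfl)

end Groth.Agent.S18933
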