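import Groth.Statements.S18934
import Groth.Agent.Synt.K563.Syn

set_option autoImplicit false
universe u
open Synt

namespace Groth.Agent.S18934

open Polynomial in
/-- Let p be a prime, A a commutative ring and a an element of A. Then the A-algebra A[T]/(T^p − a) is
syntomic and faithfully flat over A. This is the step of the source's proof showing that adjoining a
p-th root of any element is a covering for the syntomic topology. -/
theorem result (p : ℕ) [Fact p.Prime]
    (A : Type u) [CommRing A] (a : A) :
    Synt.IsSyntomic A (AdjoinRoot (X ^ p - C a)) ∧ Module.FaithfullyFlat A (AdjoinRoot (X ^ p - C a)) := by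
  have hp : p ≠ 0 := (Fact.out : p.Prime).ne_zero
  have hm : (X ^ p - C a).Monic := monic_X_pow_sub_C a hp
  refine ⟨K563.Syn.adjoinRoot _ hm, ?_⟩
  have h1 : Module.Free A (AdjoinRoot (X ^ p - C a)) := hm.free_adjoinRoot
  rcases subsingleton_or_nontrivial A with hA | hA
  · have : Subsingleton (AdjoinRoot (X ^ p - C a)) := Module.subsingleton A _
    exact ⟨fun {m} hm => absurd (Subsingleton.elim m ⊤) hm.ne_top⟩
  · have h2 : Nontrivial (AdjoinRoot (X ^ p - C a)) := by
      refine Ideal.Quotient.nontrivial_iff.mpr fun h => ?_
      have h3 := hm.eq_one_of_isUnit (Ideal.span_singleton_eq_top.mp h)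
      have h4 := degree_X_pow_sub_C (Nat.pos_of_ne_zero hp) a
      rw [h3, degree_one] at h4
      exact hp (by exact_mod_cast h4.symm)
    infer_instance

end Groth.Agent.S18934
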