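import Groth.Statements.S18936
import Mathlib.Tactic

set_option autoImplicit false
universe u
open CAlg

namespace Groth.Agent.S18936

/-- Let A be a Noetherian commutative ring, q a prime ideal of A and f an element of A whose image in
the localization A_q is a non-zero-divisor. Then there is an element b of A not in q such that the
image of f in A[1/b] is a non-zero-divisor. -/
theorem result {A : Type u} [CommRing A] [IsNoetherianRing A]
    (q : Ideal A) [q.IsPrime] (f : A)
    (hf : algebraMap A (Localization.AtPrime q) f ∈ nonZeroDivisors (Localization.AtPrime q)) :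
    ∃ b : A, b ∉ q ∧ algebraMap A (Localization.Away b) f ∈ nonZeroDivisors (Localization.Away b) := by
  classical
  -- the annihilator of `f`
  let J : Ideal A := LinearMap.ker (LinearMap.mulLeft A f)
  have hJ : ∀ x : A, x ∈ J ↔ f * x = 0 := fun x => by simp [J]
  obtain ⟨S, hS⟩ : ∃ S : Finset A, Ideal.span (S : Set A) = J := IsNoetherian.noetherian J
  have hS0 : ∀ x ∈ J, ∃ s : A, s ∉ q ∧ s * x = 0 := by
    intro x hx
    have h1 : algebraMap A (Localization.AtPrime q) x = 0 := by
      have h2 : algebraMap A (Localization.AtPrime q) f * algebraMap A (Localization.AtPrime q) x = 0 := by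
        rw [← map_mul, (hJ x).1 hx, map_zero]
      exact (mul_left_mem_nonZeroDivisors_eq_zero_iff hf).1 h2
    rw [IsLocalization.map_eq_zero_iff q.primeCompl] at h1
    obtain ⟨m, hm⟩ := h1
    exact ⟨m, m.2, hm⟩
  have hS1 : ∀ x ∈ S, ∃ s : A, s ∉ q ∧ s * x = 0 := fun x hx =>
    hS0 x (hS ▸ Ideal.subset_span hx)
  choose! s hs hsx using hS1
  let b : A := ∏ x ∈ S, s x
  have hbq : b ∉ q := by
    intro hb
    obtain ⟨x, hx, hx'⟩ := (Ideal.IsPrime.prod_mem_iff).1 hb
    exact hs x hx hx'
  have hbJ : ∀ x ∈ J, b * x = 0 := by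
    intro x hx
    rw [← hS] at hx
    refine Submodule.span_induction (p := fun x _ => b * x = 0) ?_ ?_ ?_ ?_ hx
    · intro y hy
      obtain ⟨c, hc⟩ : s y ∣ b := Finset.dvd_prod_of_mem s hy
      rw [hc, mul_right_comm, hsx y hy, zero_mul]
    · simp
    · intro y z _ _ hy hz
      rw [mul_add, hy, hz, add_zero]
    · intro a y _ hy
      rw [smul_eq_mul, mul_left_comm, hy, mul_zero]
  refine ⟨b, hbq, ?_⟩
  rw [mem_nonZeroDivisors_iff_right]
  intro z hz
  obtain ⟨⟨y, ⟨_, n, rfl⟩⟩, hy⟩ := IsLocalization.surj (Submonoid.powers b) z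
  have hu : IsUnit (algebraMap A (Localization.Away b) (b ^ n)) := by
    rw [map_pow]
    exact (IsLocalization.Away.algebraMap_isUnit b).pow n
  have h3 : algebraMap A (Localization.Away b) (y * f) = 0 := by
    rw [map_mul, ← hy, mul_right_comm, hz, zero_mul]
  rw [IsLocalization.map_eq_zero_iff (Submonoid.powers b)] at h3
  obtain ⟨⟨_, m, rfl⟩, hm⟩ := h3
  have h4 : b * (b ^ m * y) = 0 := by
    apply hbJ
    rw [hJ]
    simp only at hm
    linear_combination hm
  have h5 : algebraMap A (Localization.Away b) y = 0 := by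
    rw [IsLocalization.map_eq_zero_iff (Submonoid.powers b)]
    exact ⟨⟨b ^ (m + 1), m + 1, rfl⟩, by simp only; linear_combination h4⟩
  simp only at hy
  rw [h5] at hy
  exact (hu.mul_left_eq_zero).1 hy

end Groth.Agent.S18936
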