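import Groth.Statements.S18942
import Mathlib.RingTheory.WittVector.TeichmullerSeries
import Mathlib.NumberTheory.Basic

set_option autoImplicit false
universe u
open DPow

namespace Groth.Agent.S18942

/-- Let p be a prime, k a perfect field of characteristic p, n a natural number and x an element of
W_n(k), written here as the truncation of a Witt vector x over k. For any Witt vectors y_0, …,
y_{n−1} over k lifting the components of x under the map y ↦ (y_0)^(p^n) (that is, (y_i)_0^(p^n) =
x_i), one has x = Σ_{i<n} p^i y_i^(p^(n−i)) in W_n(k). -/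
theorem result (p : ℕ) [Fact p.Prime]
    (k : Type u) [Field k] [CharP k p] [PerfectRing k p] (n : ℕ) (x : WittVector p k)
    (y : Fin n → WittVector p k) (hy : ∀ i : Fin n, ((y i).coeff 0) ^ (p ^ n) = x.coeff i) :
    WittVector.truncate n x =
      WittVector.truncate n (∑ i : Fin n, (p : WittVector p k) ^ (i : ℕ) * (y i) ^ (p ^ (n - i))) := by
  rw [← sub_eq_zero, ← map_sub]
  change _ ∈ RingHom.ker (WittVector.truncate (p := p) n)
  rw [WittVector.mem_ker_truncate]
  suffices h : (p : WittVector p k) ^ n ∣
      x - ∑ i : Fin n, (p : WittVector p k) ^ (i : ℕ) * (y i) ^ (p ^ (n - (i : ℕ))) by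
    obtain ⟨z, hz⟩ := h
    rw [hz]
    intro i hi
    rw [mul_comm]
    exact WittVector.mul_pow_charP_coeff_zero _ hi
  rcases Nat.eq_zero_or_pos n with hn | hn
  · subst hn; simp
  obtain ⟨m, rfl⟩ := Nat.exists_eq_succ_of_ne_zero hn.ne'
  have h1 := WittVector.dvd_sub_sum_teichmuller_iterateFrobeniusEquiv_coeff x m
  have h2 : ∀ i : Fin (m + 1), (p : WittVector p k) ^ (m + 1) ∣
      (WittVector.teichmuller p (((_root_.frobeniusEquiv k p).symm ^ (i : ℕ)) (x.coeff i)) *
        (p : WittVector p k) ^ (i : ℕ)) -
      (p : WittVector p k) ^ (i : ℕ) * (y i) ^ (p ^ (m + 1 - (i : ℕ))) := by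
    intro i
    have h3 : (p : WittVector p k) ∣ y i - WittVector.teichmuller p ((y i).coeff 0) := by
      have : y i - WittVector.teichmuller p ((y i).coeff 0) ∈
          RingHom.ker (WittVector.constantCoeff (p := p) (R := k)) := by
        rw [RingHom.mem_ker, map_sub, WittVector.constantCoeff_apply, WittVector.constantCoeff_apply,
          WittVector.teichmuller_coeff_zero, sub_self]
      rw [WittVector.ker_constantCoeff, Ideal.mem_span_singleton] at this
      exact this
    have h4 : (p : WittVector p k) ^ (m + 1 - (i : ℕ) + 1) ∣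
        (y i) ^ (p ^ (m + 1 - (i : ℕ))) -
          (WittVector.teichmuller p ((y i).coeff 0)) ^ (p ^ (m + 1 - (i : ℕ))) :=
      dvd_sub_pow_of_dvd_sub h3 _
    have h5 : (WittVector.teichmuller p ((y i).coeff 0)) ^ (p ^ (m + 1 - (i : ℕ))) =
        WittVector.teichmuller p (((_root_.frobeniusEquiv k p).symm ^ (i : ℕ)) (x.coeff i)) := by
      rw [← map_pow]
      congr 1
      rw [← hy i]
      have h6 : ((y i).coeff 0) ^ p ^ (m + 1) = (((_root_.frobeniusEquiv k p) ^ (i : ℕ))
          (((y i).coeff 0) ^ (p ^ (m + 1 - (i : ℕ))))) := by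
        have h7 : ∀ (j : ℕ) (z : k), ((_root_.frobeniusEquiv k p) ^ j) z = z ^ (p ^ j) := by
          intro j z
          induction j with
          | zero => simp
          | succ j ih =>
            rw [pow_succ', RingAut.mul_apply, ih, frobeniusEquiv_apply, frobenius_def, ← pow_mul,
              ← pow_succ]
        rw [h7, ← pow_mul, ← pow_add]
        congr 2
        omega
      rw [h6]
      have h8 : ∀ (j : ℕ) (z : k), ((_root_.frobeniusEquiv k p).symm ^ j)
          (((_root_.frobeniusEquiv k p) ^ j) z) = z := by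
        intro j z
        induction j with
        | zero => simp
        | succ j ih =>
          rw [pow_succ, RingAut.mul_apply, pow_succ', RingAut.mul_apply,
            RingEquiv.symm_apply_apply, ih]
      rw [h8]
    rw [← h5]
    have h9 : (p : WittVector p k) ^ (m + 1) ∣ (p : WittVector p k) ^ (i : ℕ) *
        (p : WittVector p k) ^ (m + 1 - (i : ℕ) + 1) := by
      rw [← pow_add]
      exact pow_dvd_pow _ (by omega)
    have h10 := h9.trans (mul_dvd_mul_left ((p : WittVector p k) ^ (i : ℕ)) h4)
    have h11 : (WittVector.teichmuller p ((y i).coeff 0)) ^ (p ^ (m + 1 - (i : ℕ))) *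
        (p : WittVector p k) ^ (i : ℕ) -
      (p : WittVector p k) ^ (i : ℕ) * (y i) ^ (p ^ (m + 1 - (i : ℕ))) =
      -((p : WittVector p k) ^ (i : ℕ) * ((y i) ^ (p ^ (m + 1 - (i : ℕ))) -
          (WittVector.teichmuller p ((y i).coeff 0)) ^ (p ^ (m + 1 - (i : ℕ))))) := by ring
    rw [h11]
    exact h10.neg_right
  have h12 : (∑ i ∈ Finset.Iic m, (WittVector.teichmuller p
      (((_root_.frobeniusEquiv k p).symm ^ i) (x.coeff i)) * (p : WittVector p k) ^ i)) =
      ∑ i : Fin (m + 1), (WittVector.teichmuller p
        (((_root_.frobeniusEquiv k p).symm ^ (i : ℕ)) (x.coeff i)) * (p : WittVector p k) ^ (i : ℕ)) := by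
    rw [← Finset.sum_range (fun i => WittVector.teichmuller p
      (((_root_.frobeniusEquiv k p).symm ^ i) (x.coeff i)) * (p : WittVector p k) ^ i)]
    congr 1
    ext i; simp
  rw [h12] at h1
  have h13 := dvd_add h1 (Finset.dvd_sum fun i (_ : i ∈ Finset.univ) => h2 i)
  rw [Finset.sum_sub_distrib] at h13
  convert h13 using 1
  ring

end Groth.Agent.S18942
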