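import Groth.Statements.S18943
import Mathlib.Analysis.Calculus.ParametricIntervalIntegral
import Mathlib.Analysis.Calculus.ContDiff.Basic
import Mathlib.Analysis.Calculus.ContDiff.Deriv
import Mathlib.MeasureTheory.Integral.IntervalIntegral.FundThmCalculus
import Mathlib.MeasureTheory.Integral.DominatedConvergence

set_option autoImplicit false
open scoped ContDiff
open CInfGerm

namespace Groth.Agent.S18943


open MeasureTheory intervalIntegral Topology in
theorem hasDerivAt_aux (k : ℕ) (h : ℝ → ℝ) (hh : ContDiff ℝ 1 h) (x : ℝ) :
    HasDerivAt (fun x => ∫ t in (0:ℝ)..1, t ^ k * h (t * x))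
      (∫ t in (0:ℝ)..1, t ^ (k + 1) * deriv h (t * x)) x := by
  have hc : Continuous h := hh.continuous
  have hd : Continuous (deriv h) := hh.continuous_deriv le_rfl
  have hdiff : Differentiable ℝ h := hh.differentiable (by norm_num)
  have hF'c : Continuous (fun p : ℝ × ℝ => p.2 ^ (k + 1) * deriv h (p.2 * p.1)) := by fun_prop
  obtain ⟨C, hC⟩ := ((isCompact_closedBall x 1).prod (isCompact_Icc (a := (0:ℝ)) (b := 1))).exists_bound_of_continuousOn
    hF'c.continuousOn
  refine (intervalIntegral.hasDerivAt_integral_of_dominated_loc_of_deriv_le (s := Metric.closedBall x 1)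
    (F := fun x t => t ^ k * h (t * x)) (F' := fun x t => t ^ (k+1) * deriv h (t * x)) (bound := fun _ => C)
    (Metric.closedBall_mem_nhds x one_pos) ?_ ?_ ?_ ?_ ?_ ?_).2
  · refine Filter.Eventually.of_forall fun y => ?_
    have : Continuous (fun t : ℝ => t ^ k * h (t * y)) := by fun_prop
    exact this.aestronglyMeasurable
  · have : Continuous (fun t : ℝ => t ^ k * h (t * x)) := by fun_prop
    exact this.intervalIntegrable _ _
  · have : Continuous (fun t : ℝ => t ^ (k+1) * deriv h (t * x)) := by fun_prop
    exact this.aestronglyMeasurable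
  · refine Filter.Eventually.of_forall fun t ht y hy => ?_
    rw [Set.uIoc_of_le zero_le_one] at ht
    exact hC (y, t) ⟨hy, ⟨ht.1.le, ht.2⟩⟩
  · exact intervalIntegrable_const
  · refine Filter.Eventually.of_forall fun t ht y hy => ?_
    have h1 : HasDerivAt (fun y => t * y) t y := by simpa using (hasDerivAt_id y).const_mul t
    have h2 : HasDerivAt (fun y => h (t * y)) (deriv h (t * y) * t) y :=
      (hdiff (t * y)).hasDerivAt.comp y h1
    have h3 := h2.const_mul (t ^ k)
    have e : t ^ (k + 1) * deriv h (t * y) = t ^ k * (deriv h (t * y) * t) := by ring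
    show HasDerivAt (fun y => t ^ k * h (t * y)) (t ^ (k + 1) * deriv h (t * y)) y
    rw [e]
    exact h3

theorem contDiff_aux (n : ℕ) : ∀ (k : ℕ) (h : ℝ → ℝ), ContDiff ℝ n h →
    ContDiff ℝ n (fun x => ∫ t in (0:ℝ)..1, t ^ k * h (t * x)) := by
  induction n with
  | zero =>
    intro k h hh
    have hc : Continuous h := hh.continuous
    rw [Nat.cast_zero, contDiff_zero]
    refine intervalIntegral.continuous_parametric_intervalIntegral_of_continuous' ?_ 0 1
    have : Continuous (fun p : ℝ × ℝ => p.2 ^ k * h (p.2 * p.1)) := by fun_prop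
    exact this
  | succ n ih =>
    intro k h hh
    have h1 : ContDiff ℝ 1 h := hh.of_le (by exact_mod_cast Nat.succ_le_succ (Nat.zero_le n))
    have hder := fun x => hasDerivAt_aux k h h1 x
    rw [Nat.cast_succ, contDiff_succ_iff_deriv]
    refine ⟨fun x => (hder x).differentiableAt, by simp, ?_⟩
    have : deriv (fun x => ∫ t in (0:ℝ)..1, t ^ k * h (t * x)) =
        fun x => ∫ t in (0:ℝ)..1, t ^ (k + 1) * deriv h (t * x) := funext fun x => (hder x).deriv
    rw [this]
    apply ih
    rw [Nat.cast_succ, contDiff_succ_iff_deriv] at hh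
    exact hh.2.2


/-- Let f be an infinitely differentiable real-valued function on the real line with f(0) = 0. Then f(x)
= x·g(x) for an infinitely differentiable function g. (The source phrases this for germs at 0: the
maximal ideal of the local ring of germs of smooth functions at the origin is generated by the
coordinate t; the global form stated here is what its argument, smooth extension of f(x)/x across 0,
gives.) -/
theorem result (f : ℝ → ℝ) (hf : ContDiff ℝ ∞ f) (h0 : f 0 = 0) :
    ∃ g : ℝ → ℝ, ContDiff ℝ ∞ g ∧ ∀ x : ℝ, f x = x * g x := by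
  have h1 : ContDiff ℝ 1 f := hf.of_le (by exact_mod_cast le_top)
  have hdiff : Differentiable ℝ f := hf.differentiable (by simp)
  have hdc : Continuous (deriv f) := h1.continuous_deriv le_rfl
  refine ⟨fun x => ∫ t in (0:ℝ)..1, t ^ 0 * deriv f (t * x), ?_, fun x => ?_⟩
  · rw [contDiff_infty]
    intro n
    apply contDiff_aux
    have : ContDiff ℝ ((n : ℕ∞) + 1 : ℕ∞) f := hf.of_le (by exact_mod_cast le_top)
    have h2 : ContDiff ℝ ((n : WithTop ℕ∞) + 1) f := by exact_mod_cast this
    rw [contDiff_succ_iff_deriv] at h2
    exact h2.2.2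
  · have h3 : ∫ t in (0:ℝ)..1, x * deriv f (t * x) = f (1 * x) - f (0 * x) := by
      apply intervalIntegral.integral_eq_sub_of_hasDerivAt (f := fun t => f (t * x))
      · intro t _
        have h1 : HasDerivAt (fun t => t * x) x t := by simpa using (hasDerivAt_id t).mul_const x
        have h2 : HasDerivAt (fun t => f (t * x)) (deriv f (t * x) * x) t :=
          (hdiff (t * x)).hasDerivAt.comp t h1
        rw [mul_comm] 
        exact h2
      · have : Continuous (fun t : ℝ => x * deriv f (t * x)) := by fun_prop
        exact this.intervalIntegrable _ _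
    simp only [pow_zero, one_mul]
    rw [← intervalIntegral.integral_const_mul, h3]
    simp [h0]

end Groth.Agent.S18943
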