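import Groth.Statements.S18945
import Groth.Agent.Synt.K563.SchDict2
import Groth.Agent.S18934

set_option autoImplicit false
universe u
open CategoryTheory AlgebraicGeometry
open Synt

namespace Groth.Agent.S18945

open Polynomial in
/-- The affine step: `Spec A[T]/(T^p - a) → Spec A → X`. -/
theorem step (p : ℕ) [Fact p.Prime] {W : Scheme.{u}} (A : CommRingCat.{u}) (j : Spec A ⟶ W)
    [IsOpenImmersion j] (a : Γ(W, ⊤)) :
    ∃ (Y : Scheme.{u}) (f : Y ⟶ W), Synt.IsSyntomicMor f ∧ Set.range j ⊆ Set.range f ∧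
      ∃ b : Γ(Y, ⊤), b ^ p = f.appTop a := by
  let a' : A := (Scheme.ΓSpecIso A).hom (j.appTop a)
  let B : Type u := AdjoinRoot (X ^ p - C a' : Polynomial A)
  obtain ⟨h1, h2⟩ := Groth.Agent.S18934.result p A a'
  let φ : A ⟶ CommRingCat.of B := CommRingCat.ofHom (algebraMap A B)
  refine ⟨Spec (CommRingCat.of B), Spec.map φ ≫ j, ?_, ?_, ?_⟩
  · apply K563.SchDict2.isSyntomicMor_comp_openImmersion
    rw [K563.SchDict.isSyntomicMor_iff]
    exact (K563.SchDict.isSyntomic_iff_isCIMorphism A B).mp h1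
  · rintro _ ⟨y, rfl⟩
    obtain ⟨z, hz⟩ := PrimeSpectrum.comap_surjective_of_faithfullyFlat (A := A) (B := B) y
    exact ⟨z, by rw [Scheme.Hom.comp_apply]; exact congrArg j hz⟩
  · refine ⟨(Scheme.ΓSpecIso (CommRingCat.of B)).inv (AdjoinRoot.root _), ?_⟩
    have h3 : (AdjoinRoot.root (X ^ p - C a' : Polynomial A) : B) ^ p = φ a' := by
      have h4 : AdjoinRoot.mk (X ^ p - C a' : Polynomial A) (X ^ p - C a') = 0 := AdjoinRoot.mk_self
      rw [map_sub, map_pow, AdjoinRoot.mk_X, sub_eq_zero] at h4
      exact h4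
    rw [← map_pow]
    have h5 : (Scheme.ΓSpecIso (CommRingCat.of B)).inv (φ a') =
        (Spec.map φ).appTop ((Scheme.ΓSpecIso A).inv a') := by
      have := Scheme.ΓSpecIso_inv_naturality φ
      exact congrArg (fun g => g.hom a') this
    have h6 : (Scheme.ΓSpecIso A).inv a' = j.appTop a := by
      change ((Scheme.ΓSpecIso A).hom ≫ (Scheme.ΓSpecIso A).inv).hom (j.appTop a) = _
      rw [Iso.hom_inv_id]
      rfl
    rw [Scheme.Hom.comp_appTop, CommRingCat.comp_apply, ← h6, ← h5]
    exact congrArg _ h3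

/-- Let p be a prime, X a scheme and a a global section of the structure sheaf of X. There is a covering
of X for the syntomic topology, that is a jointly surjective family of syntomic morphisms X_i → X,
such that the restriction of a to each X_i is a p-th power. (The source states the surjectivity of
the p-th power map of the structure sheaf on the small syntomic site of a syntomic scheme over a
perfect field of characteristic p; the covering it uses elsewhere, adjoining a p-th root T^p = a
over affine pieces, gives the statement for every scheme, which is the form given here.) -/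
theorem result (p : ℕ) [Fact p.Prime] (X : Scheme.{u}) (a : Γ(X, ⊤)) :
    ∃ 𝒰 : Scheme.Cover.{u} (Scheme.precoverage @Synt.IsSyntomicMor) X,
      ∀ i : 𝒰.I₀, ∃ b : Γ(𝒰.X i, ⊤), b ^ p = (𝒰.f i).appTop a := by
  have key : ∀ x : X, ∃ (Y : Scheme.{u}) (f : Y ⟶ X), Synt.IsSyntomicMor f ∧
      x ∈ Set.range f ∧ ∃ b : Γ(Y, ⊤), b ^ p = f.appTop a := by
    intro x
    obtain ⟨U, hU, hx, -⟩ := exists_isAffineOpen_mem_and_subset (X := X) (x := x) (U := ⊤) trivial
    obtain ⟨Y, f, h1, h2, h3⟩ := step p _ hU.fromSpec a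
    refine ⟨Y, f, h1, h2 ?_, h3⟩
    rw [hU.range_fromSpec]
    exact hx
  choose Y f h1 h2 h3 using key
  exact ⟨Scheme.Cover.mkOfCovers X Y f (fun x => ⟨x, h2 x⟩) h1, h3⟩

end Groth.Agent.S18945
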