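import Groth.Statements.S18946


set_option autoImplicit false
universe u
open scoped BigOperators
open InvQ

namespace Groth.Agent.S18946

/-- Let k be an algebraically closed field of characteristic zero and n a natural number, and let the
torus of (n+1)-tuples of units of k with product 1 act on the polynomial ring k[t_0, ..., t_n] by
rescaling each variable t_i by the i-th unit. A polynomial is fixed by every such rescaling if and
only if it lies in the k-subalgebra generated by the product t_0 t_1 ... t_n. (This is the
computation of the ring of functions on affine (n+1)-space invariant under the maximal diagonal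
torus of the special linear group, identified with the polynomial ring in the single coordinate t =
t_0 ... t_n of the line it maps to by the product map; invariance is tested on k-valued points of
the torus, which over an infinite field is the same as invariance under the group scheme.) -/
theorem result
    (k : Type u) [Field k] [IsAlgClosed k] [CharZero k] (n : ℕ)
    (f : MvPolynomial (Fin (n + 1)) k) :
    (∀ σ : Fin (n + 1) → kˣ, ∏ i, (σ i : k) = 1 →
        MvPolynomial.aeval (fun i => MvPolynomial.C (σ i : k) * MvPolynomial.X i) f = f) ↔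
      f ∈ Algebra.adjoin k ({∏ i : Fin (n + 1), MvPolynomial.X i} : Set (MvPolynomial (Fin (n + 1)) k)) := by
  classical
  have haev : ∀ (σ : Fin (n + 1) → kˣ) (m : Fin (n + 1) →₀ ℕ) (c : k),
      MvPolynomial.aeval (fun i => MvPolynomial.C (σ i : k) * MvPolynomial.X i)
        (MvPolynomial.monomial m c) =
      MvPolynomial.monomial m (c * ∏ i, (σ i : k) ^ m i) := by
    intro σ m c
    rw [MvPolynomial.aeval_monomial, Finsupp.prod_fintype _ _ (fun i => by simp)]
    simp only [mul_pow, Finset.prod_mul_distrib, ← map_pow, ← map_prod]
    rw [MvPolynomial.monomial_eq (s := m) (a := c * _), Finsupp.prod_fintype _ _ (fun i => by simp),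
      map_mul, mul_assoc]
    rfl
  have hcoeff : ∀ (σ : Fin (n + 1) → kˣ) (f : MvPolynomial (Fin (n + 1)) k) (m : Fin (n + 1) →₀ ℕ),
      MvPolynomial.coeff m (MvPolynomial.aeval
        (fun i => MvPolynomial.C (σ i : k) * MvPolynomial.X i) f) =
      MvPolynomial.coeff m f * ∏ i, (σ i : k) ^ m i := by
    intro σ f m
    induction f using MvPolynomial.induction_on' with
    | monomial u a =>
      rw [haev, MvPolynomial.coeff_monomial, MvPolynomial.coeff_monomial]
      split_ifs with h
      · rw [h]
      · simp
    | add p q hp hq =>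
      rw [map_add, MvPolynomial.coeff_add, hp, hq, MvPolynomial.coeff_add, add_mul]
  constructor
  · intro hf
    rw [f.as_sum]
    refine Subalgebra.sum_mem _ fun m hm => ?_
    have hm0 : MvPolynomial.coeff m f ≠ 0 := MvPolynomial.mem_support_iff.mp hm
    have hall : ∀ j : Fin (n + 1), m j = m 0 := by
      intro j
      by_cases hj : j = 0
      · rw [hj]
      let t : kˣ := Units.mk0 (2 : k) two_ne_zero
      let σ : Fin (n + 1) → kˣ := fun i => if i = j then t else if i = 0 then t⁻¹ else 1
      have hσ : ∀ e : Fin (n + 1) → ℕ, ∏ i, (σ i : k) ^ e i = (t : k) ^ e j * ((t⁻¹ : kˣ) : k) ^ e 0 := by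
        intro e
        rw [← Finset.mul_prod_erase Finset.univ _ (Finset.mem_univ j),
          ← Finset.mul_prod_erase (Finset.univ.erase j) _
            (Finset.mem_erase.mpr ⟨fun h => hj h.symm, Finset.mem_univ (0 : Fin (n + 1))⟩),
          Finset.prod_eq_one, mul_one]
        · congr 1
          · simp [σ]
          · simp [σ, Ne.symm hj]
        · intro i hi
          simp only [Finset.mem_erase] at hi
          simp [σ, hi.1, hi.2.1]
      have h1 : ∏ i, (σ i : k) = 1 := by
        have := hσ (fun _ => 1)
        simpa using this
      have h2 := congrArg (MvPolynomial.coeff m) (hf σ h1)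
      rw [hcoeff] at h2
      have h3 : ∏ i, (σ i : k) ^ m i = 1 := by
        have : MvPolynomial.coeff m f * ∏ i, (σ i : k) ^ m i = MvPolynomial.coeff m f * 1 := by
          rw [h2, mul_one]
        exact mul_left_cancel₀ hm0 this
      rw [hσ (fun i => m i)] at h3
      have h4 : (t : k) ^ m j = (t : k) ^ m 0 := by
        have ht : ((t⁻¹ : kˣ) : k) ^ m 0 * (t : k) ^ m 0 = 1 := by
          rw [← mul_pow, Units.inv_mul, one_pow]
        calc (t : k) ^ m j = (t : k) ^ m j * (((t⁻¹ : kˣ) : k) ^ m 0 * (t : k) ^ m 0) := by
              rw [ht, mul_one]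
          _ = ((t : k) ^ m j * ((t⁻¹ : kˣ) : k) ^ m 0) * (t : k) ^ m 0 := by ring
          _ = (t : k) ^ m 0 := by rw [h3, one_mul]
      have h5 : ((2 ^ m j : ℕ) : k) = ((2 ^ m 0 : ℕ) : k) := by
        push_cast
        exact h4
      have h6 : 2 ^ m j = 2 ^ m 0 := Nat.cast_injective (R := k) h5
      exact (Nat.pow_right_injective (le_refl 2)) h6
    have e : MvPolynomial.monomial m (MvPolynomial.coeff m f) =
        MvPolynomial.coeff m f • (∏ i : Fin (n + 1), (MvPolynomial.X i : MvPolynomial (Fin (n + 1)) k)) ^ m 0 := by
      rw [MvPolynomial.monomial_eq, Finsupp.prod_fintype _ _ (fun i => by simp), ← Finset.prod_pow,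
        MvPolynomial.smul_eq_C_mul]
      congr 1
      exact Finset.prod_congr rfl fun i _ => by rw [hall i]
    rw [e]
    have hmem : (∏ i : Fin (n + 1), (MvPolynomial.X i : MvPolynomial (Fin (n + 1)) k)) ∈
        Algebra.adjoin k ({∏ i : Fin (n + 1), MvPolynomial.X i} : Set (MvPolynomial (Fin (n + 1)) k)) :=
      Algebra.subset_adjoin (Set.mem_singleton _)
    exact Subalgebra.smul_mem _ (Subalgebra.pow_mem _ hmem (m 0)) (MvPolynomial.coeff m f)
  · intro hf σ hσ
    refine Algebra.adjoin_induction (p := fun f _ =>
      MvPolynomial.aeval (fun i => MvPolynomial.C (σ i : k) * MvPolynomial.X i) f = f) ?_ ?_ ?_ ?_ hf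
    · rintro x rfl
      rw [map_prod]
      simp only [MvPolynomial.aeval_X, Finset.prod_mul_distrib, ← map_prod, hσ, map_one, one_mul]
    · intro r
      simp
    · intro x y _ _ hx hy
      rw [map_add, hx, hy]
    · intro x y _ _ hx hy
      rw [map_mul, hx, hy]

end Groth.Agent.S18946
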