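import Groth.Statements.S18948
import Mathlib.GroupTheory.GroupAction.ConjAct
import Mathlib.Tactic

set_option autoImplicit false
universe u v
open CExt

namespace Groth.Agent.S18948



/-- Let f : E → G be a surjective homomorphism of groups whose kernel is central in E, and let x ∈ E.
Then f maps the conjugacy class of x bijectively onto the conjugacy class of f(x) if and only if
every element of G commuting with f(x) is the image of some element of E commuting with x. (In the
source E → G is the central extension, with kernel the roots of unity, attached to a Brauer class of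
the classifying stack of a finite tame étale group scheme, and a conjugacy class of E mapping
bijectively onto a given class of G is a marking; the equivalence is stated here for an arbitrary
central extension of abstract groups.) -/
theorem result {E : Type u} {G : Type v} [Group E] [Group G]
    (f : E →* G) (hf : Function.Surjective f) (hker : f.ker ≤ Subgroup.center E) (x : E) :
    Set.BijOn f (MulAction.orbit (ConjAct E) x) (MulAction.orbit (ConjAct G) (f x)) ↔
      ∀ g : G, g * f x = f x * g → ∃ e : E, f e = g ∧ e * x = x * e := by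
  have hmem : ∀ (z y : E), z ∈ MulAction.orbit (ConjAct E) y ↔ ∃ c : E, c * y * c⁻¹ = z := by
    intro z y
    rw [ConjAct.mem_orbit_conjAct, isConj_comm, isConj_iff]
  have hmem' : ∀ (z y : G), z ∈ MulAction.orbit (ConjAct G) y ↔ ∃ c : G, c * y * c⁻¹ = z := by
    intro z y
    rw [ConjAct.mem_orbit_conjAct, isConj_comm, isConj_iff]
  constructor
  · rintro ⟨-, hinj, -⟩ g hg
    obtain ⟨e, rfl⟩ := hf g
    refine ⟨e, rfl, ?_⟩
    have h1 : e * x * e⁻¹ = x := by
      apply hinj
      · rw [hmem]; exact ⟨e, rfl⟩
      · rw [hmem]; exact ⟨1, by simp⟩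
      · rw [map_mul, map_mul, map_inv, hg, mul_inv_cancel_right]
    rw [mul_inv_eq_iff_eq_mul] at h1
    exact h1
  · intro h
    refine ⟨?_, ?_, ?_⟩
    · intro z hz
      rw [hmem] at hz
      rw [hmem']
      obtain ⟨c, rfl⟩ := hz
      exact ⟨f c, by simp⟩
    · intro a ha b hb hab
      rw [hmem] at ha hb
      obtain ⟨e1, rfl⟩ := ha
      obtain ⟨e2, rfl⟩ := hb
      simp only [map_mul, map_inv] at hab
      have hg : f (e2⁻¹ * e1) * f x = f x * f (e2⁻¹ * e1) := by
        have h2 := congrArg (fun t => (f e2)⁻¹ * t * f e1) hab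
        simp only [mul_assoc, inv_mul_cancel, mul_one, inv_mul_cancel_left] at h2
        simpa [mul_assoc] using h2
      obtain ⟨e, he, hex⟩ := h _ hg
      have hz : e⁻¹ * (e2⁻¹ * e1) ∈ f.ker := by
        rw [MonoidHom.mem_ker, map_mul, map_inv, he, inv_mul_cancel]
      have hzc := Subgroup.mem_center_iff.mp (hker hz) x
      -- x * z = z * x
      have h3 : (e2⁻¹ * e1) * x = x * (e2⁻¹ * e1) := by
        have h4 : e2⁻¹ * e1 = e * (e⁻¹ * (e2⁻¹ * e1)) := by group
        rw [h4, mul_assoc, ← hzc, ← mul_assoc, hex, mul_assoc]
      have h5 : e1 * x * e1⁻¹ = e2 * ((e2⁻¹ * e1) * x) * e1⁻¹ := by group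
      rw [h5, h3]
      group
    · intro z hz
      rw [hmem'] at hz
      obtain ⟨c, rfl⟩ := hz
      obtain ⟨d, rfl⟩ := hf c
      refine ⟨d * x * d⁻¹, ?_, by simp⟩
      rw [hmem]
      exact ⟨d, rfl⟩

end Groth.Agent.S18948
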