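import Groth.Statements.S18949
import Mathlib.Tactic
import Mathlib.GroupTheory.QuotientGroup.Basic

set_option autoImplicit false
universe u v
open CExt

namespace Groth.Agent.S18949



/-- Automorphisms over the base: let f : E → G be a surjective homomorphism of groups with central
kernel A. For every homomorphism χ : G → A the map e ↦ χ(f(e)) · e is an endomorphism of E over G
which is the identity on A; and every endomorphism α of E with f ∘ α = f and α equal to the identity
on A is of this form for exactly one χ. (In the source this identifies the automorphisms of a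
central extension fixing its kernel with Hom(G, A), for extensions of profinite étale group schemes
over a field; stated here for abstract groups.) -/
theorem result {E : Type u} {G : Type v} [Group E] [Group G]
    (f : E →* G) (hf : Function.Surjective f) (hker : f.ker ≤ Subgroup.center E) :
    (∀ χ : G →* f.ker, ∃ α : E →* E, f.comp α = f ∧ (∀ a ∈ f.ker, α a = a) ∧
        ∀ e : E, α e = (χ (f e) : E) * e) ∧
      ∀ α : E →* E, f.comp α = f → (∀ a ∈ f.ker, α a = a) →
        ∃! χ : G →* f.ker, ∀ e : E, α e = (χ (f e) : E) * e := by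
  have hcent : ∀ a ∈ f.ker, ∀ e : E, e * a = a * e := fun a ha e => Subgroup.mem_center_iff.mp (hker ha) e
  refine ⟨fun χ => ?_, fun α hα hαA => ?_⟩
  · refine ⟨MonoidHom.mk' (fun e => (χ (f e) : E) * e) ?_, ?_, ?_, fun e => rfl⟩
    · intro a b
      simp only [map_mul, Subgroup.coe_mul]
      have h1 := hcent _ (χ (f b)).2 a
      calc ((χ (f a) : E) * (χ (f b) : E)) * (a * b) = (χ (f a) : E) * ((χ (f b) : E) * a) * b := by group
        _ = (χ (f a) : E) * (a * (χ (f b) : E)) * b := by rw [h1]
        _ = _ := by group
    · ext e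
      simp only [MonoidHom.comp_apply, MonoidHom.mk'_apply, map_mul]
      rw [MonoidHom.mem_ker.mp (χ (f e)).2, one_mul]
    · intro a ha
      simp only [MonoidHom.mk'_apply]
      rw [MonoidHom.mem_ker.mp ha, map_one, Subgroup.coe_one, one_mul]
  · have hfα : ∀ e, f (α e) = f e := fun e => DFunLike.congr_fun hα e
    let φ : E →* f.ker := MonoidHom.mk' (fun e => ⟨α e * e⁻¹, by
      rw [MonoidHom.mem_ker, map_mul, hfα, map_inv, mul_inv_cancel]⟩) (by
      intro a b
      apply Subtype.ext
      simp only [map_mul, mul_inv_rev, Subgroup.coe_mul]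
      have hb : α b * b⁻¹ ∈ f.ker := by
        rw [MonoidHom.mem_ker, map_mul, hfα, map_inv, mul_inv_cancel]
      have h1 := hcent _ hb a⁻¹
      calc α a * α b * (b⁻¹ * a⁻¹) = α a * ((α b * b⁻¹) * a⁻¹) := by group
        _ = α a * (a⁻¹ * (α b * b⁻¹)) := by rw [h1]
        _ = _ := by group)
    have hφ : f.ker ≤ φ.ker := by
      intro a ha
      rw [MonoidHom.mem_ker]
      apply Subtype.ext
      show α a * a⁻¹ = 1
      rw [hαA a ha, mul_inv_cancel]
    refine ⟨f.liftOfSurjective hf ⟨φ, hφ⟩, ?_, ?_⟩
    · intro e
      rw [MonoidHom.liftOfRightInverse_comp_apply]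
      show α e = α e * e⁻¹ * e
      group
    · intro χ hχ
      ext g
      obtain ⟨e, rfl⟩ := hf g
      rw [MonoidHom.liftOfRightInverse_comp_apply]
      show (χ (f e) : E) = α e * e⁻¹
      rw [hχ e, mul_inv_cancel_right]

end Groth.Agent.S18949
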