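import Groth.Statements.S18950
import Mathlib.Tactic
import Mathlib.GroupTheory.QuotientGroup.Basic

set_option autoImplicit false
universe u v
open CExt

namespace Groth.Agent.S18950



/-- Let f : E → G be a homomorphism of groups whose kernel is central in E, let α be an endomorphism of
E with f ∘ α = f which is the identity on the kernel, and let S ⊆ E be a subset fixed pointwise by α
such that f(S) generates G. Then α is the identity. (In the source S is the marking of a marked
central extension of finite tame étale group schemes and the hypothesis is that the marked conjugacy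
classes generate G; the conclusion there is that a morphism of marked extensions inducing the
identity on the kernel and on G is unique.) -/
theorem result {E : Type u} {G : Type v} [Group E] [Group G]
    (f : E →* G) (hker : f.ker ≤ Subgroup.center E) (α : E →* E) (hα : f.comp α = f)
    (hαA : ∀ a ∈ f.ker, α a = a) (S : Set E) (hS : Subgroup.closure (f '' S) = ⊤)
    (hαS : ∀ s ∈ S, α s = s) : α = MonoidHom.id E := by
  have hfα : ∀ e, f (α e) = f e := fun e => DFunLike.congr_fun hα e
  have hcent : ∀ a ∈ f.ker, ∀ e : E, e * a = a * e := fun a ha e => Subgroup.mem_center_iff.mp (hker ha) e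
  -- the subgroup of fixed points
  let H : Subgroup E := α.eqLocus (MonoidHom.id E)
  have hkH : f.ker ≤ H := fun a ha => hαA a ha
  have hSH : Subgroup.closure S ≤ H := by
    rw [Subgroup.closure_le]
    exact fun s hs => hαS s hs
  have hS' : (Subgroup.closure S).map f = ⊤ := by
    rw [MonoidHom.map_closure, hS]
  have hH : H = ⊤ := by
    rw [eq_top_iff]
    intro e _
    have h1 : f e ∈ (Subgroup.closure S).map f := by rw [hS']; trivial
    obtain ⟨s, hs, hse⟩ := h1
    have h2 : s⁻¹ * e ∈ f.ker := by
      rw [MonoidHom.mem_ker, map_mul, map_inv, hse, inv_mul_cancel]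
    have h3 : e = s * (s⁻¹ * e) := by group
    rw [h3]
    exact H.mul_mem (hSH hs) (hkH h2)
  ext e
  have : e ∈ H := by rw [hH]; trivial
  exact this

end Groth.Agent.S18950
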