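import Groth.Statements.S18952
import Mathlib.Tactic

set_option autoImplicit false
universe u
open OrbPic

namespace Groth.Agent.S18952



/-- Let G be a group and C ⊆ G a subset stable under conjugation. Then (χ, w) ↦ χ maps the group of
geometric partial orbifold line bundles with respect to C onto all characters G → ℚ/ℤ, and a pair in
its kernel (χ trivial) has w a conjugation-invariant integer-valued function vanishing at 1 and
outside C: with the inclusion of such functions this is the exact sequence 0 → Hom(C/conj, ℤ) → Pic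
→ Hom(G, ℚ/ℤ) → 0 over a separably closed field. (As in the source after a choice of roots of unity,
the group G stands for the geometric points of a tame finite étale group scheme, characters are
homomorphisms to ℚ/ℤ and weights are class functions on G.) -/
theorem result (G : Type u) [Group G] (C : Set G)
    (hC : ∀ g h : G, g ∈ C → h * g * h⁻¹ ∈ C) :
    (∀ χ : Additive G →+ W4c6brauerbgmalle.QmodZ, ∃ w : G → ℚ, (χ, w) ∈ W4c6brauerbgmalle.picOrb G C) ∧
      (∀ p : (Additive G →+ W4c6brauerbgmalle.QmodZ) × (G → ℚ), p ∈ W4c6brauerbgmalle.picOrb G C → p.1 = 0 →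
        p.2 ∈ W4c6brauerbgmalle.intWeights G C) := by
  classical
  refine ⟨fun χ => ?_, ?_⟩
  · have hs : Function.Surjective W4c6brauerbgmalle.toQmodZ := QuotientAddGroup.mk'_surjective _
    let r : W4c6brauerbgmalle.QmodZ → ℚ := fun a => if a = 0 then 0 else (hs a).choose
    have hr0 : r 0 = 0 := if_pos rfl
    have hr : ∀ a, W4c6brauerbgmalle.toQmodZ (r a) = a := by
      intro a
      by_cases ha : a = 0
      · subst ha; rw [hr0, map_zero]
      · simp only [r, if_neg ha]; exact (hs a).choose_spec
    have hconj : ∀ g h : G, χ (Additive.ofMul (h * g * h⁻¹)) = χ (Additive.ofMul g) := by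
      intro g h
      rw [ofMul_mul, ofMul_mul, map_add, map_add, ofMul_inv, map_neg]
      abel
    refine ⟨fun g => if g ∈ C then r (χ (Additive.ofMul g)) else 0, ?_, ?_, ?_, ?_⟩
    · show (if (1 : G) ∈ C then r (χ (Additive.ofMul 1)) else 0) = 0
      rw [ofMul_one, map_zero, hr0, ite_self]
    · intro g hg
      exact if_neg hg
    · intro g h
      show (if h * g * h⁻¹ ∈ C then r (χ (Additive.ofMul (h * g * h⁻¹))) else 0) =
        (if g ∈ C then r (χ (Additive.ofMul g)) else 0)
      rw [hconj]
      have hiff : h * g * h⁻¹ ∈ C ↔ g ∈ C := by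
        refine ⟨fun hh => ?_, fun hh => hC g h hh⟩
        have := hC _ h⁻¹ hh
        have e : h⁻¹ * (h * g * h⁻¹) * h⁻¹⁻¹ = g := by group
        rwa [e] at this
      simp only [hiff]
    · intro g hg
      show W4c6brauerbgmalle.toQmodZ (if g ∈ C then r (χ (Additive.ofMul g)) else 0) = _
      rw [if_pos hg, hr]
  · rintro ⟨χ, w⟩ ⟨h1, h2, h3, h4⟩ hχ
    refine ⟨h1, h2, h3, fun g => ?_⟩
    by_cases hg : g ∈ C
    · have h5 := h4 g hg
      simp only at hχ
      subst hχ
      have h6 : W4c6brauerbgmalle.toQmodZ (w g) = 0 := h5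
      have h7 := (QuotientAddGroup.eq_zero_iff (N := AddSubgroup.zmultiples (1 : ℚ)) (w g)).mp h6
      obtain ⟨n, hn⟩ := h7
      exact ⟨n, by simpa using hn.symm⟩
    · exact ⟨0, by simpa using h2 g hg⟩

end Groth.Agent.S18952
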