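import Groth.Statements.S18953
import Mathlib.Tactic

set_option autoImplicit false
universe u v
open OrbPic

namespace Groth.Agent.S18953



/-- Let G₁ and G₂ be groups with subsets C₁ ⊆ G₁ and C₂ ⊆ G₂, and let C ⊆ G₁ × G₂ be the union of C₁ ×
{1} and {1} × C₂. Restricting the character and the weight along the two inclusions G₁ → G₁ × G₂ and
G₂ → G₁ × G₂ is a bijection from the geometric partial orbifold line bundles of G₁ × G₂ with respect
to C onto pairs of geometric partial orbifold line bundles of G₁ with respect to C₁ and of G₂ with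
respect to C₂. (As in the source after a choice of roots of unity, each group stands for the
geometric points of a tame finite étale group scheme, characters are homomorphisms to ℚ/ℤ and
weights are class functions; the source states the Galois-equivariant version, which follows by
taking invariants.) -/
theorem result (G₁ : Type u) (G₂ : Type v) [Group G₁] [Group G₂] (C₁ : Set G₁) (C₂ : Set G₂) :
    Set.BijOn
      (fun p : (Additive (G₁ × G₂) →+ W4c6brauerbgmalle.QmodZ) × (G₁ × G₂ → ℚ) =>
        ((p.1.comp (MonoidHom.toAdditive (MonoidHom.inl G₁ G₂)), fun g => p.2 (g, 1)),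
          (p.1.comp (MonoidHom.toAdditive (MonoidHom.inr G₁ G₂)), fun g => p.2 (1, g))))
      (W4c6brauerbgmalle.picOrb (G₁ × G₂) ((fun g => (g, (1 : G₂))) '' C₁ ∪ (fun g => ((1 : G₁), g)) '' C₂))
      ((W4c6brauerbgmalle.picOrb G₁ C₁ : Set _) ×ˢ (W4c6brauerbgmalle.picOrb G₂ C₂ : Set _)) := by
  classical
  refine ⟨?_, ?_, ?_⟩
  · rintro ⟨χ, w⟩ ⟨h1, h2, h3, h4⟩
    simp only at h1 h2 h3 h4
    refine ⟨⟨h1, fun g hg => ?_, fun g h => ?_, fun g hg => ?_⟩, ⟨h1, fun g hg => ?_, fun g h => ?_, fun g hg => ?_⟩⟩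
    · show w (g, 1) = 0
      by_cases hg1 : g = 1
      · subst hg1; exact h1
      · apply h2
        rintro (⟨a, ha, hh⟩ | ⟨a, ha, hh⟩)
        · simp only [Prod.mk.injEq, and_true] at hh; subst hh; exact hg ha
        · simp only [Prod.mk.injEq] at hh; exact hg1 hh.1.symm
    · show w (h * g * h⁻¹, 1) = w (g, 1)
      have := h3 (g, 1) (h, 1)
      simpa using this
    · exact h4 (g, 1) (Or.inl ⟨g, hg, rfl⟩)
    · show w (1, g) = 0
      by_cases hg1 : g = 1
      · subst hg1; exact h1
      · apply h2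
        rintro (⟨a, ha, hh⟩ | ⟨a, ha, hh⟩)
        · simp only [Prod.mk.injEq] at hh; exact hg1 hh.2.symm
        · simp only [Prod.mk.injEq, true_and] at hh; subst hh; exact hg ha
    · show w (1, h * g * h⁻¹) = w (1, g)
      have := h3 (1, g) (1, h)
      simpa using this
    · exact h4 (1, g) (Or.inr ⟨g, hg, rfl⟩)
  · rintro ⟨χ, w⟩ ⟨h1, h2, h3, h4⟩ ⟨ψ, v⟩ ⟨k1, k2, k3, k4⟩ hh
    simp only [Prod.mk.injEq] at hh
    obtain ⟨⟨a1, a2⟩, a3, a4⟩ := hh
    simp only at h1 h2 h3 h4 k1 k2 k3 k4
    refine Prod.ext ?_ ?_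
    · ext ⟨a, b⟩
      have e : (Additive.ofMul (a, b) : Additive (G₁ × G₂)) =
        Additive.ofMul (a, 1) + Additive.ofMul (1, b) := by
        rw [← ofMul_mul]; simp
      have b1 : χ (Additive.ofMul (a, 1)) = ψ (Additive.ofMul (a, 1)) :=
        DFunLike.congr_fun a1 (Additive.ofMul a)
      have b2 : χ (Additive.ofMul (1, b)) = ψ (Additive.ofMul (1, b)) :=
        DFunLike.congr_fun a3 (Additive.ofMul b)
      show χ (Additive.ofMul (a, b)) = ψ (Additive.ofMul (a, b))
      rw [e, map_add, map_add, b1, b2]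
    · funext ⟨a, b⟩
      show w (a, b) = v (a, b)
      by_cases hab : (a, b) ∈ ((fun g => (g, (1 : G₂))) '' C₁ ∪ (fun g => ((1 : G₁), g)) '' C₂)
      · rcases hab with ⟨c, _, hc⟩ | ⟨c, _, hc⟩
        · simp only at hc
          rw [← hc]
          exact congrFun a2 c
        · simp only at hc
          rw [← hc]
          exact congrFun a4 c
      · rw [h2 _ hab, k2 _ hab]
  · rintro ⟨⟨χ, w⟩, ⟨ψ, v⟩⟩ ⟨⟨h1, h2, h3, h4⟩, ⟨k1, k2, k3, k4⟩⟩
    simp only at h1 h2 h3 h4 k1 k2 k3 k4
    let X : Additive (G₁ × G₂) →+ W4c6brauerbgmalle.QmodZ :=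
      χ.comp (MonoidHom.toAdditive (MonoidHom.fst G₁ G₂)) + ψ.comp (MonoidHom.toAdditive (MonoidHom.snd G₁ G₂))
    let W : G₁ × G₂ → ℚ := fun p => if p.2 = 1 then w p.1 else if p.1 = 1 then v p.2 else 0
    have hX : ∀ a b, X (Additive.ofMul (a, b)) = χ (Additive.ofMul a) + ψ (Additive.ofMul b) := fun a b => rfl
    refine ⟨(X, W), ⟨?_, ?_, ?_, ?_⟩, ?_⟩
    · show W (1, 1) = 0
      simp [W, h1]
    · rintro ⟨a, b⟩ hab
      show W (a, b) = 0
      simp only [W]
      split_ifs with c1 c2
      · subst c1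
        apply h2
        intro ha
        exact hab (Or.inl ⟨a, ha, rfl⟩)
      · subst c2
        apply k2
        intro hb
        exact hab (Or.inr ⟨b, hb, rfl⟩)
      · rfl
    · rintro ⟨a, b⟩ ⟨c, d⟩
      show W (c * a * c⁻¹, d * b * d⁻¹) = W (a, b)
      have e1 : d * b * d⁻¹ = 1 ↔ b = 1 := by
        constructor
        · intro h; rw [mul_inv_eq_one] at h; exact mul_eq_left.mp h
        · rintro rfl; simp
      have e2 : c * a * c⁻¹ = 1 ↔ a = 1 := by
        constructor
        · intro h; rw [mul_inv_eq_one] at h; exact mul_eq_left.mp h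
        · rintro rfl; simp
      simp only [W, e1, e2, h3, k3]
    · rintro ⟨a, b⟩ (⟨c, hc, hh⟩ | ⟨c, hc, hh⟩)
      · simp only [Prod.mk.injEq] at hh
        obtain ⟨rfl, rfl⟩ := hh
        show W4c6brauerbgmalle.toQmodZ (W (c, 1)) = X (Additive.ofMul (c, 1))
        rw [hX, ofMul_one, map_zero, add_zero]
        simp only [W, if_true]
        exact h4 c hc
      · simp only [Prod.mk.injEq] at hh
        obtain ⟨rfl, rfl⟩ := hh
        show W4c6brauerbgmalle.toQmodZ (W (1, c)) = X (Additive.ofMul (1, c))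
        rw [hX, ofMul_one, map_zero, zero_add]
        by_cases hc1 : c = 1
        · subst hc1
          simp [W, h1]
        · simp only [W, if_neg hc1, if_true]
          exact k4 c hc
    · refine Prod.ext (Prod.ext ?_ ?_) (Prod.ext ?_ ?_)
      · ext a
        show X (Additive.ofMul (a, 1)) = χ (Additive.ofMul a)
        rw [hX, ofMul_one, map_zero, add_zero]
      · funext a
        show W (a, 1) = w a
        simp [W]
      · ext a
        show X (Additive.ofMul (1, a)) = ψ (Additive.ofMul a)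
        rw [hX, ofMul_one, map_zero, zero_add]
      · funext a
        show W (1, a) = v a
        by_cases ha : a = 1
        · subst ha; simp [W, h1, k1]
        · simp [W, ha]

end Groth.Agent.S18953
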