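import Groth.Statements.S18954
import Mathlib.Tactic
import Mathlib.GroupTheory.GroupAction.Quotient
import Mathlib.Algebra.BigOperators.Group.Finset.Basic

set_option autoImplicit false
universe u v w
open Classical
open BGCount

namespace Groth.Agent.S18954



/-- Let a finite group G act on a finite set X, let W be a finite set of orbits and f a function on
orbits with values in a field of characteristic zero. Then Σ_{O ∈ W} f(O)/|Stab(x_O)|, with x_O any
point of O, equals |G|⁻¹ · Σ f(orbit(x)) over the points x of X whose orbit lies in W. (In the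
source X is the set of 1-cocycles of the absolute Galois group of a field in a finite étale group
scheme G, acted on by the geometric points of G, the orbits are the isomorphism classes of G-torsors
and the stabilisers their automorphism groups; stated here for an arbitrary action of a finite group
on a finite set, the representative x_O being chosen by Quotient.out.) -/
theorem result {G : Type u} {X : Type v} (𝕜 : Type w)
    [Group G] [Fintype G] [MulAction G X] [Fintype X] [Field 𝕜] [CharZero 𝕜]
    (W : Finset (MulAction.orbitRel.Quotient G X)) (f : MulAction.orbitRel.Quotient G X → 𝕜) :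
    (∑ O ∈ W, f O / (Nat.card (MulAction.stabilizer G O.out) : 𝕜)) =
      (Fintype.card G : 𝕜)⁻¹ *
        ∑ x ∈ Finset.univ.filter (fun x : X => (Quotient.mk (MulAction.orbitRel G X) x) ∈ W),
          f (Quotient.mk (MulAction.orbitRel G X) x) := by
  rw [Finset.mul_sum]
  rw [← Finset.sum_fiberwise_of_maps_to (s := Finset.univ.filter (fun x : X => (Quotient.mk (MulAction.orbitRel G X) x) ∈ W))
    (t := W) (g := fun x => Quotient.mk (MulAction.orbitRel G X) x) (fun x hx => (Finset.mem_filter.mp hx).2)]
  refine Finset.sum_congr rfl fun O hO => ?_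
  have hcard : Nat.card (MulAction.orbit G O.out) * Nat.card (MulAction.stabilizer G O.out) = Fintype.card G := by
    rw [← Nat.card_eq_fintype_card]
    exact Nat.card_congr (MulAction.orbitProdStabilizerEquivGroup G O.out) ▸ (Nat.card_prod _ _).symm
  have hsum : ∀ x ∈ (Finset.univ.filter (fun x : X => (Quotient.mk (MulAction.orbitRel G X) x) ∈ W)).filter
      (fun x => Quotient.mk (MulAction.orbitRel G X) x = O),
      (Fintype.card G : 𝕜)⁻¹ * f (Quotient.mk (MulAction.orbitRel G X) x) = (Fintype.card G : 𝕜)⁻¹ * f O := by
    intro x hx
    rw [(Finset.mem_filter.mp hx).2]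
  rw [Finset.sum_congr rfl hsum, Finset.sum_const]
  have hc2 : ((Finset.univ.filter (fun x : X => (Quotient.mk (MulAction.orbitRel G X) x) ∈ W)).filter
      (fun x => Quotient.mk (MulAction.orbitRel G X) x = O)).card = Nat.card (MulAction.orbit G O.out) := by
    rw [Nat.card_coe_set_eq, ← Set.ncard_coe_finset]
    congr 1
    ext x
    simp only [Finset.coe_filter, Finset.mem_filter, Finset.mem_univ, true_and, Set.mem_setOf_eq]
    have h1 : Quotient.mk (MulAction.orbitRel G X) x = O ↔ x ∈ MulAction.orbit G O.out := by
      conv_lhs => rw [← Quotient.out_eq O]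
      rw [Quotient.eq]
      exact MulAction.orbitRel_apply
    rw [← h1]
    constructor
    · exact fun h => h.2
    · intro h
      exact ⟨by rw [h]; exact hO, h⟩
  rw [hc2, nsmul_eq_mul]
  have hG : (Fintype.card G : 𝕜) ≠ 0 := Nat.cast_ne_zero.mpr Fintype.card_ne_zero
  have hS : (Nat.card (MulAction.stabilizer G O.out) : 𝕜) ≠ 0 := Nat.cast_ne_zero.mpr Nat.card_pos.ne'
  have hc3 : (Nat.card (MulAction.orbit G O.out) : 𝕜) * (Nat.card (MulAction.stabilizer G O.out) : 𝕜) = (Fintype.card G : 𝕜) := by
    exact_mod_cast hcard
  rw [← hc3] at hG ⊢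
  have hO' : (Nat.card (MulAction.orbit G O.out) : 𝕜) ≠ 0 := left_ne_zero_of_mul hG
  field_simp

end Groth.Agent.S18954
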