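import Groth.Statements.S18960
import Mathlib.CategoryTheory.Limits.Creates

set_option autoImplicit false
universe w' w v u
open CategoryTheory Limits
open CatLim

namespace Groth.Agent.S18960

section

variable {C : Type u} [Category.{v} C] (T : C ⥤ C) {J : Type w} [Category.{w'} J]

/-- objects with invertible structure map -/
abbrev P : ObjectProperty (Endofunctor.Algebra T) := fun A => IsIso A.str

/-- the forgetful functor -/
abbrev π : (P T).FullSubcategory ⥤ C := (P T).ι ⋙ Endofunctor.Algebra.forget T

variable {T}
variable (K : J ⥤ (P T).FullSubcategory)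

/-- the structure isomorphisms as a natural isomorphism -/
noncomputable def strIso : (K ⋙ π T) ⋙ T ≅ K ⋙ π T :=
  NatIso.ofComponents (fun j =>
    haveI : IsIso (K.obj j).obj.str := (K.obj j).property
    (asIso (K.obj j).obj.str : T.obj (K.obj j).obj.a ≅ (K.obj j).obj.a))
    (fun f => (K.map f).hom.h)

theorem strIso_hom_app (j : J) : (strIso K).hom.app j = (K.obj j).obj.str := rfl

variable [PreservesColimitsOfShape J T] {c : Cocone (K ⋙ π T)} (t : IsColimit c)

/-- the structure map on the colimit -/
noncomputable def str : T.obj c.pt ≅ c.pt :=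
  IsColimit.coconePointsIsoOfNatIso (isColimitOfPreserves T t) t (strIso K)

/-- the cocone maps, retyped -/
def inj (c : Cocone (K ⋙ π T)) (j : J) : (K.obj j).obj.a ⟶ c.pt := c.ι.app j

theorem map_str (j : J) : T.map (inj K c j) ≫ (str K t).hom = (K.obj j).obj.str ≫ inj K c j :=
  IsColimit.comp_coconePointsIsoOfNatIso_hom (isColimitOfPreserves T t) t (strIso K) j

/-- the lifted cocone -/
noncomputable def lifted : Cocone K where
  pt := ⟨⟨c.pt, (str K t).hom⟩, (inferInstance : IsIso (str K t).hom)⟩
  ι :=
    { app := fun j => ObjectProperty.homMk ⟨c.ι.app j, map_str K t j⟩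
      naturality := fun i j f => by
        apply ObjectProperty.hom_ext
        apply Endofunctor.Algebra.ext
        exact c.ι.naturality f }

/-- the underlying descent map -/
noncomputable def dsc (s : Cocone K) : c.pt ⟶ s.pt.obj.a := t.desc ((π T).mapCocone s)

omit [PreservesColimitsOfShape J T] in
theorem fac_dsc (s : Cocone K) (j : J) : inj K c j ≫ dsc K t s = (s.ι.app j).hom.f :=
  t.fac ((π T).mapCocone s) j

theorem dsc_comm (s : Cocone K) : T.map (dsc K t s) ≫ s.pt.obj.str = (str K t).hom ≫ dsc K t s := by
  apply (isColimitOfPreserves T t).hom_ext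
  intro j
  change T.map (inj K c j) ≫ T.map (dsc K t s) ≫ s.pt.obj.str =
    T.map (inj K c j) ≫ (str K t).hom ≫ dsc K t s
  have h1 : T.map (inj K c j) ≫ T.map (dsc K t s) = T.map ((s.ι.app j).hom.f) :=
    (T.map_comp _ _).symm.trans (congrArg T.map (fac_dsc K t s j))
  have h3 : T.map ((s.ι.app j).hom.f) ≫ s.pt.obj.str = (K.obj j).obj.str ≫ (s.ι.app j).hom.f := (s.ι.app j).hom.h
  have h4 : T.map (inj K c j) ≫ (str K t).hom ≫ dsc K t s = (K.obj j).obj.str ≫ inj K c j ≫ dsc K t s := by
    rw [← Category.assoc, map_str K t j, Category.assoc]
  rw [h4, ← Category.assoc, h1, h3]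
  exact congrArg (fun f => (K.obj j).obj.str ≫ f) (fac_dsc K t s j).symm

/-- the lifted cocone is a colimit -/
noncomputable def isColimitLifted : IsColimit (lifted K t) where
  desc s := ObjectProperty.homMk ⟨dsc K t s, dsc_comm K t s⟩
  fac s j := by
    apply ObjectProperty.hom_ext
    apply Endofunctor.Algebra.ext
    exact t.fac ((π T).mapCocone s) j
  uniq s m hm := by
    apply ObjectProperty.hom_ext
    apply Endofunctor.Algebra.ext
    exact t.uniq ((π T).mapCocone s) m.hom.f (fun j => congrArg (fun f => f.hom.f) (hm j))

end

/-- Let C be a category and T an endofunctor of C; let C(T) be the category whose objects are pairs (X,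
u) with u : T X → X an isomorphism and whose morphisms (X, u) → (Y, w) are the morphisms X → Y
compatible with u and w — the full subcategory of T-algebras with invertible structure map — and let
π : C(T) → C be the forgetful functor. If T preserves colimits of shape J then π creates colimits of
shape J. (The source assumes T preserves all small colimits and concludes for all small shapes; the
argument is shape by shape.) -/
theorem result {C : Type u} [Category.{v} C] (T : C ⥤ C)
    (J : Type w) [Category.{w'} J] [PreservesColimitsOfShape J T] :
    Nonempty (CreatesColimitsOfShape J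
      ((ObjectProperty.ι (fun A : Endofunctor.Algebra T => IsIso A.str)) ⋙ Endofunctor.Algebra.forget T)) := by
  exact ⟨⟨fun {K} => createsColimitOfReflectsIso fun c t =>
    { liftedCocone := lifted K t
      validLift := Cocone.ext (Iso.refl _) (fun j => Category.comp_id _)
      makesColimit := isColimitLifted K t }⟩⟩

end Groth.Agent.S18960
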