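import Groth.Statements.S18961
import Groth.Agent.BBDec.K978.Inj
import Groth.Agent.BBDec.K978.GradedRetract
import Groth.Agent.BBDec.K978.EtaleSection
import Mathlib.LinearAlgebra.Dimension.Free

set_option autoImplicit false
universe u
open BBDec

namespace Groth.Agent.S18961


section Aug

variable {A B : Type u} [CommRing A] [CommRing B] [Algebra A B] (𝒜 : ℕ → Submodule A B) [GradedAlgebra 𝒜]

/-- the retraction `B → A` of a graded algebra whose degree zero part is `A` -/
theorem exists_retraction (h0 : ∀ b : B, b ∈ 𝒜 0 ↔ b ∈ Set.range (algebraMap A B))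
    (hinj : Function.Injective (algebraMap A B)) :
    ∃ σ : B →ₐ[A] A, RingHom.ker σ = (HomogeneousIdeal.irrelevant 𝒜).toIdeal := by
  have hex : ∀ b : B, ∃ a : A, algebraMap A B a = GradedRing.projZeroRingHom 𝒜 b := fun b =>
    (h0 _).mp (Subtype.mem _)
  choose s hs using hex
  let σ : B →ₐ[A] A :=
    { toFun := s
      map_one' := hinj (by rw [hs, map_one, map_one])
      map_mul' := fun x y => hinj (by rw [map_mul, hs, hs, hs, map_mul])
      map_zero' := hinj (by rw [hs, map_zero, map_zero])
      map_add' := fun x y => hinj (by rw [map_add, hs, hs, hs, map_add])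
      commutes' := fun a => hinj (by
        rw [hs]
        have h1 : algebraMap A B a ∈ 𝒜 0 := (h0 _).mpr ⟨a, rfl⟩
        exact DirectSum.decompose_of_mem_same 𝒜 h1) }
  refine ⟨σ, ?_⟩
  ext b
  rw [HomogeneousIdeal.toIdeal_irrelevant, RingHom.mem_ker, RingHom.mem_ker, ← hs b]
  constructor
  · intro h
    have h' : s b = 0 := h
    rw [h', map_zero]
  · intro h
    exact hinj (by rw [map_zero]; exact h)

end Aug


/-- Let k be a field, A a finitely generated k-algebra and B a finitely generated A-algebra graded by
the natural numbers as an A-algebra, with degree-zero part equal to the image of A and A → B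
injective; let B₊ be the irrelevant ideal. So Spec B → Spec A is the retraction of an affine scheme
with an action of the multiplicative monoid of the affine line onto its fixed-point scheme, with
zero section cut out by B₊; this is the affine-local graded form, for that monoid, of the published
statement, which covers any Kempf monoid M with unit group G and a k-scheme X locally of finite
type, and concludes that the retraction X⁺ → X^G is an affine-space bundle near a fixed point at
whose section value it is smooth. Assume that A → B is smooth at every prime ideal containing B₊ and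
that B₊/B₊² is a free A-module of finite rank. Then B is isomorphic, as an A-algebra, to the
polynomial ring over A in (rank of B₊/B₊²) variables. (The published statement also makes the
isomorphism equivariant for a suitable linear action when G is linearly reductive; only the
existence of an A-algebra isomorphism is stated here. Freeness of the conormal module holds after
shrinking the base, which is how the published proof reaches this situation.) -/
theorem result (k : Type u) [Field k]
    (A B : Type u) [CommRing A] [CommRing B] [Algebra k A] [Algebra k B] [Algebra A B] [IsScalarTower k A B]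
    [Algebra.FiniteType k A] [Algebra.FiniteType A B] (𝒜 : ℕ → Submodule A B) [GradedAlgebra 𝒜]
    (h0 : ∀ b : B, b ∈ 𝒜 0 ↔ b ∈ Set.range (algebraMap A B)) (hinj : Function.Injective (algebraMap A B))
    (hsm : ∀ (P : Ideal B) [P.IsPrime], (HomogeneousIdeal.irrelevant 𝒜).toIdeal ≤ P → Algebra.IsSmoothAt A P)
    [Module.Free A (HomogeneousIdeal.irrelevant 𝒜).toIdeal.Cotangent]
    [Module.Finite A (HomogeneousIdeal.irrelevant 𝒜).toIdeal.Cotangent] :
    Nonempty (B ≃ₐ[A]
      MvPolynomial (Fin (Module.finrank A (HomogeneousIdeal.irrelevant 𝒜).toIdeal.Cotangent)) A) := by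
  have hnoeth : IsNoetherianRing A := Algebra.FiniteType.isNoetherianRing k A
  have hfp : Algebra.FinitePresentation A B := Algebra.FinitePresentation.of_finiteType.mp inferInstance
  rcases subsingleton_or_nontrivial A with hA | hA
  · have : Subsingleton B := Module.subsingleton A B
    have : Subsingleton (MvPolynomial (Fin (Module.finrank A (HomogeneousIdeal.irrelevant 𝒜).toIdeal.Cotangent)) A) :=
      Module.subsingleton A _
    exact ⟨{ toFun := fun _ => 0, invFun := fun _ => 0, left_inv := fun _ => Subsingleton.elim _ _,
             right_inv := fun _ => Subsingleton.elim _ _, map_mul' := fun _ _ => Subsingleton.elim _ _,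
             map_add' := fun _ _ => Subsingleton.elim _ _, commutes' := fun _ => Subsingleton.elim _ _ }⟩
  obtain ⟨σ, hσ⟩ := exists_retraction 𝒜 h0 hinj
  set I := (HomogeneousIdeal.irrelevant 𝒜).toIdeal with hI
  let bas := Module.finBasis A I.Cotangent
  have hmem : ∀ x, x ∈ I ↔ GradedAlgebra.proj 𝒜 0 x = 0 := fun x => HomogeneousIdeal.mem_irrelevant_iff 𝒜 x
  obtain ⟨e, he1, he2⟩ := K978.GradedRetract.exists_generators 𝒜 I (HomogeneousIdeal.irrelevant 𝒜).isHomogeneous
    (fun x hx => (hmem x).mp hx) (fun x hx => (hmem x).mpr hx) (fun x hx => (h0 x).mp hx) bas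
  let g : MvPolynomial (Fin (Module.finrank A I.Cotangent)) A →ₐ[A] B := MvPolynomial.aeval (fun i => (e i : B))
  have hgX : ∀ i, g (MvPolynomial.X i) = e i := fun i => MvPolynomial.aeval_X _ i
  have hgsurj : Function.Surjective g := by
    rw [← AlgHom.range_eq_top, ← he2, Algebra.adjoin_range_eq_range_aeval]
  have hσg : σ.comp g = K978.Inj.aug A _ := by
    apply MvPolynomial.algHom_ext
    intro i
    rw [AlgHom.comp_apply, hgX]
    have h1 : (e i : B) ∈ RingHom.ker σ := by rw [hσ]; exact (e i).2
    have h2 : σ (e i : B) = 0 := h1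
    rw [h2]
    simp [K978.Inj.aug]
  refine ⟨(AlgEquiv.ofBijective g ⟨K978.Inj.injective_of_etale g hgsurj σ hσg ?_, hgsurj⟩).symm⟩
  let := g.toRingHom.toAlgebra
  intro P hP hσP
  have : IsScalarTower A (MvPolynomial (Fin (Module.finrank A I.Cotangent)) A) B := by
    refine IsScalarTower.of_algebraMap_eq fun a => ?_
    exact (g.commutes a).symm
  have hle : RingHom.ker (K978.Inj.aug A (Fin (Module.finrank A I.Cotangent))) ≤ (RingHom.ker σ).comap
      (IsScalarTower.toAlgHom A (MvPolynomial (Fin (Module.finrank A I.Cotangent)) A) B) := by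
    intro c hc
    rw [Ideal.mem_comap, RingHom.mem_ker]
    show σ (g c) = 0
    have h1 : σ.comp g c = 0 := by rw [hσg]; exact hc
    exact h1
  have := hsm P (by rw [← hσ]; exact hσP)
  refine K978.EtaleSection.isEtaleAt A B (MvPolynomial (Fin (Module.finrank A I.Cotangent)) A) σ
    (K978.Inj.aug A _) hle ?_ P hσP
  -- the conormal map is bijective
  clear_value g
  revert hle
  rw [hσ]
  intro hle
  have hX : ∀ i, Ideal.mapCotangent (RingHom.ker (K978.Inj.aug A (Fin (Module.finrank A I.Cotangent)))) I
      (IsScalarTower.toAlgHom A (MvPolynomial (Fin (Module.finrank A I.Cotangent)) A) B) hle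
      (Ideal.toCotangent _ ⟨MvPolynomial.X i, K978.Inj.X_mem i⟩) = bas i := by
    intro i
    rw [Ideal.mapCotangent_toCotangent, ← he1]
    congr 1
    apply Subtype.ext
    exact hgX i
  have hlin : ∀ z, ∃ a : Fin (Module.finrank A I.Cotangent) → A,
      z = ∑ i, a i • (Ideal.toCotangent (RingHom.ker (K978.Inj.aug A (Fin (Module.finrank A I.Cotangent))))
        ⟨MvPolynomial.X i, K978.Inj.X_mem i⟩) := by
    intro z
    obtain ⟨⟨p, hp⟩, rfl⟩ := Ideal.toCotangent_surjective _ z
    obtain ⟨a, ha⟩ := K978.Inj.exists_lin p
    refine ⟨a, ?_⟩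
    have hp0 : K978.Inj.aug A (Fin (Module.finrank A I.Cotangent)) p = 0 := hp
    rw [hp0, map_zero, sub_zero] at ha
    have h1 : ∑ i, a i • (Ideal.toCotangent (RingHom.ker (K978.Inj.aug A (Fin (Module.finrank A I.Cotangent))))
        ⟨MvPolynomial.X i, K978.Inj.X_mem i⟩) = Ideal.toCotangent (RingHom.ker (K978.Inj.aug A (Fin (Module.finrank A I.Cotangent))))
        (∑ i, a i • ⟨MvPolynomial.X i, K978.Inj.X_mem i⟩) := by
      rw [map_sum]
      refine Finset.sum_congr rfl fun i _ => ?_
      exact (((Ideal.toCotangent (RingHom.ker (K978.Inj.aug A (Fin (Module.finrank A I.Cotangent))))).restrictScalars A).map_smul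
        (a i) ⟨MvPolynomial.X i, K978.Inj.X_mem i⟩).symm
    rw [h1, Ideal.toCotangent_eq, Submodule.coe_sum]
    exact ha
  constructor
  · rw [injective_iff_map_eq_zero]
    intro z hz
    obtain ⟨a, rfl⟩ := hlin z
    rw [map_sum] at hz
    simp only [map_smul, hX] at hz
    have h1 := Fintype.linearIndependent_iff.mp bas.linearIndependent a hz
    simp [h1]
  · intro y
    refine ⟨∑ i, bas.repr y i • (Ideal.toCotangent _ ⟨MvPolynomial.X i, K978.Inj.X_mem i⟩), ?_⟩
    rw [map_sum]
    simp only [map_smul, hX]
    exact bas.sum_repr y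

end Groth.Agent.S18961
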