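import Groth.Statements.S18971
import Groth.Agent.ShStab.K94.Main3

set_option autoImplicit false
open CategoryTheory CategoryTheory.Limits AlgebraicGeometry Polynomial
universe u
open ShStab

namespace Groth.Agent.S18971

/-- Let k be an algebraically closed field of characteristic zero and X a smooth projective surface over
k (an integral proper smooth k-scheme of dimension 2 with an ample invertible O_X-module); let L be
an invertible O_X-module with a tensor inverse L⁻¹ and self-intersection (L·L) ≥ 5, x a closed point
of X with ideal sheaf I_x, and E an O_X-module which is an extension of I_x ⊗ L by O_X, that is,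
sits in a short exact sequence 0 → O_X → E → I_x ⊗ L → 0 (so E is coherent and torsion-free of rank
2). Then E is not slope-semistable with respect to any ample invertible O_X-module H. Intersection
numbers are the alternating sums of Euler characteristics computed from L⁻¹; slope-semistability
with respect to H is tested through the quantity α_1/α_2 of Hilbert polynomials with respect to H.
(The published statement concerns the locally free such E, produced under its standing hypotheses
that L is numerically effective and x is a base point of the adjoint series of L; its argument gives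
the assertion for every extension E as above, locally free or not.) -/
theorem result (k : Type u) [Field k] [IsAlgClosed k] [CharZero k]
    (X : Scheme.{u}) [X.Over (Spec (CommRingCat.of k))] [IsIntegral X]
    [IsProper (X ↘ Spec (CommRingCat.of k))] [Smooth (X ↘ Spec (CommRingCat.of k))]
    (hdim : topologicalKrullDim X = 2) (A : X.Modules) (hA : CohB1.IsAmple A)
    (L Linv : X.Modules) (hLi : PicF.IsInvertible L) (hLinv : ClSub.IsInverseOf Linv L)
    (hself : 5 ≤ FGA.intNum k X 2 ![Linv, Linv] (Coh.structureModule X))
    (x : X) (hx : IsClosed ({x} : Set X))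
    (T : ShortComplex X.Modules) (hT : T.ShortExact)
    (e₁ : T.X₁ ≅ Coh.structureModule X)
    (e₃ : T.X₃ ≅ CohB1.tensorMod (ClSub.idealMod (Scheme.IdealSheafData.vanishingIdeal ⟨{x}, hx⟩)) L)
    (H : X.Modules) (hHi : PicF.IsInvertible H) (hH : CohB1.IsAmple H) :
    ¬ ShStab.IsMuSemistable k X H T.X₂ 2 := by
  intro hmu
  have hdim' : topologicalKrullDim X = ((2 : ℕ) : WithBot ℕ∞) := hdim
  have : IsNoetherian X := Groth.Agent.Fga.SnapperTwist.isNoetherian_of_proper k X
  have := K94.Geo.regOne k X
  have := K94.Geo.charZero k X
  obtain ⟨Λ, rfl⟩ := K94.Tw.exists_lt hLi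
  have hfm := K94.FromT.mono_f hT e₁
  have tE := K94.FromT.isTorsionFree_X₂ hx hLi hT e₁ e₃
  have hE : Coh.IsCoh T.X₂ := hmu.1
  have hss : StabCat.IsMuSS Coh.IsCoh (ShStab.IsHilbPoly k X H) 2 T.X₂ := hmu.2.2.2.2
  have hfx := fun y => (K94.FromT.ker_g hx hLi hT e₁ e₃ y)
  have hne : Groth.Agent.CycB.StalkExact.stalkLin (K94.FromT.f (T := T) e₁) (genericPoint X)
      (Groth.Agent.Dcoh.FreeSec.stalkOne (genericPoint X)) ≠ 0 := by
    intro h
    exact K94.Ext.stalkOne_ne_zero (genericPoint X)
      (Groth.Agent.CycB.StalkExact.stalkLin_injective (K94.FromT.f (T := T) e₁) (genericPoint X)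
        (h.trans (map_zero _).symm))
  obtain ⟨a, ha⟩ := K94.Ext.exists_functional _ hne
  have hph := K94.HE.ph_X₂ k hH hdim hx hLi hT hE e₁ e₃
  have hgen := K94.Geo.ne_generic k X hx hdim
  have D := K94.Ext.dat hE tE Λ hLi (K94.FromT.f (T := T) e₁) (K94.FromT.g hx e₃) hfx a ha
    (fun y hy => K94.FromT.surjective_g hx hT e₃ hy) (fun r hr l => K94.FromT.smul_mem_g hx hT e₃ r hr l)
  obtain ⟨W, hW, hdual⟩ := K94.Dual.exists_dual k X hdim'
  exact K94.Main3.main k hH hdim' hLi
    (A := K94.Ext.emA hE tE Λ (K94.FromT.f (T := T) e₁) (K94.FromT.g hx e₃) hfx a ha) hph D hgen hx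
    (K94.Geo.ne_C1 k X hx hdim) (K94.Geo.isRegular k X x) (K94.Geo.dim_point k X hx hdim) hss
    (K94.FromT.f (T := T) e₁) hfm hW hdual (K94.Low.five_le k hdim' hLi hLinv hself)

end Groth.Agent.S18971
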