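import Groth.Statements.S18974
import Mathlib.Tactic
import Groth.Agent.Ega41.NagIter

set_option autoImplicit false
universe u
open CAlg

namespace Groth.Agent.S18974

open Polynomial

variable {A : Type u} [CommRing A] [Algebra ℚ A] (D : Derivation ℚ A A)

theorem pow_vanish {x : A} {N : ℕ} (h : ((D : A →ₗ[ℚ] A) ^ N) x = 0) {n : ℕ} (hn : N ≤ n) :
    ((D : A →ₗ[ℚ] A) ^ n) x = 0 := by
  obtain ⟨k, rfl⟩ := Nat.exists_eq_add_of_le' hn
  rw [pow_add, Module.End.mul_apply, h, map_zero]

theorem leib (n : ℕ) (x y : A) : ((D : A →ₗ[ℚ] A) ^ n) (x * y) =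
    ∑ ij ∈ Finset.antidiagonal n,
      n.choose ij.1 • (((D : A →ₗ[ℚ] A) ^ ij.1) x * ((D : A →ₗ[ℚ] A) ^ ij.2) y) := by
  simp only [Module.End.pow_apply]
  exact Groth.Agent.Ega41.NagIter.iterate_mul D n x y

variable (hnil : ∀ x : A, ∃ n : ℕ, ((D : A →ₗ[ℚ] A) ^ n) x = 0)

open Classical in
/-- The exponential `x ↦ ∑ (1/n!) Dⁿ x Tⁿ`. -/
noncomputable def Efun (x : A) : A[X] :=
  ∑ n ∈ Finset.range (Nat.find (hnil x)), monomial n ((n.factorial : ℚ)⁻¹ • ((D : A →ₗ[ℚ] A) ^ n) x)

theorem Efun_coeff (x : A) (m : ℕ) :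
    (Efun D hnil x).coeff m = (m.factorial : ℚ)⁻¹ • ((D : A →ₗ[ℚ] A) ^ m) x := by
  classical
  rw [Efun, finsetSum_coeff]
  simp only [coeff_monomial]
  rw [Finset.sum_ite_eq']
  split_ifs with h
  · rfl
  · rw [Finset.mem_range, not_lt] at h
    rw [pow_vanish D (Nat.find_spec (hnil x)) h, smul_zero]

/-- The exponential as a ring homomorphism. -/
noncomputable def E : A →+* A[X] where
  toFun := Efun D hnil
  map_one' := by
    ext m
    rw [Efun_coeff]
    rcases Nat.eq_zero_or_pos m with rfl | hm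
    · simp
    · obtain ⟨k, rfl⟩ := Nat.exists_eq_succ_of_ne_zero hm.ne'
      rw [pow_succ, Module.End.mul_apply]
      simp [coeff_one]
  map_mul' x y := by
    ext m
    rw [Efun_coeff, coeff_mul, leib, Finset.smul_sum]
    apply Finset.sum_congr rfl
    rintro ⟨i, j⟩ hij
    rw [Finset.mem_antidiagonal] at hij
    simp only at hij ⊢
    rw [Efun_coeff, Efun_coeff, smul_mul_smul_comm, ← Nat.cast_smul_eq_nsmul ℚ, smul_smul]
    congr 1
    subst hij
    have h1 := Nat.add_choose_mul_factorial_mul_factorial i j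
    have h2 : ((i + j).choose i : ℚ) * i.factorial * j.factorial = (i + j).factorial := by
      rw [Nat.choose_symm_add]; exact_mod_cast h1
    have h3 : ((i + j).factorial : ℚ) ≠ 0 := Nat.cast_ne_zero.2 (Nat.factorial_ne_zero _)
    have h4 : (i.factorial : ℚ) ≠ 0 := Nat.cast_ne_zero.2 (Nat.factorial_ne_zero _)
    have h5 : (j.factorial : ℚ) ≠ 0 := Nat.cast_ne_zero.2 (Nat.factorial_ne_zero _)
    field_simp
    linarith
  map_zero' := by
    ext m
    rw [Efun_coeff]; simp
  map_add' x y := by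
    ext m
    rw [Efun_coeff, coeff_add, Efun_coeff, Efun_coeff, map_add, smul_add]

theorem E_coeff (x : A) (m : ℕ) :
    (E D hnil x).coeff m = (m.factorial : ℚ)⁻¹ • ((D : A →ₗ[ℚ] A) ^ m) x := Efun_coeff D hnil x m

theorem E_D (x : A) : E D hnil (D x) = derivative (E D hnil x) := by
  ext m
  rw [coeff_derivative, E_coeff, E_coeff, pow_succ (D : A →ₗ[ℚ] A) m, Module.End.mul_apply,
    Nat.factorial_succ]
  have h1 : (↑m + 1 : A) = algebraMap ℚ A (m + 1) := by simp
  rw [h1, smul_mul_assoc, mul_comm _ (algebraMap ℚ A _), ← Algebra.smul_def, smul_smul]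
  congr 1
  have h3 : (m.factorial : ℚ) ≠ 0 := Nat.cast_ne_zero.2 (Nat.factorial_ne_zero _)
  have h4 : (m + 1 : ℚ) ≠ 0 := by positivity
  push_cast
  field_simp

theorem E_of_D_eq_zero (x : A) (hx : D x = 0) : E D hnil x = C x := by
  ext m
  rw [E_coeff]
  rcases Nat.eq_zero_or_pos m with rfl | hm
  · simp
  · obtain ⟨k, rfl⟩ := Nat.exists_eq_succ_of_ne_zero hm.ne'
    rw [pow_succ, Module.End.mul_apply]
    simp [coeff_C, hx]

theorem E_a (a : A) (ha : D a = 1) : E D hnil a = C a + X := by
  ext m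
  rw [E_coeff]
  rcases m with _ | _ | m
  · simp
  · simp [ha]
  · rw [pow_succ, Module.End.mul_apply, pow_succ, Module.End.mul_apply]
    simp [coeff_C, coeff_X, ha]

theorem E_sum (x : A) (N : ℕ) (hN : ((D : A →ₗ[ℚ] A) ^ N) x = 0) :
    E D hnil x = ∑ n ∈ Finset.range N, monomial n ((n.factorial : ℚ)⁻¹ • ((D : A →ₗ[ℚ] A) ^ n) x) := by
  ext m
  rw [E_coeff, finsetSum_coeff]
  simp only [coeff_monomial]
  rw [Finset.sum_ite_eq']
  split_ifs with h
  · rfl
  · rw [Finset.mem_range, not_lt] at h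
    rw [pow_vanish D hN h, smul_zero]

/-- chain rule: `D` of the evaluation of a polynomial -/
theorem D_eval (P : A[X]) (b : A) :
    D (P.eval b) = (P.sum fun n c => D c * b ^ n) + P.derivative.eval b * D b := by
  induction P using Polynomial.induction_on' with
  | add p q hp hq =>
    rw [eval_add, map_add, hp, hq, Polynomial.sum_add_index p q _ (by simp) (by intros; simp [add_mul])]
    simp only [derivative_add, eval_add]
    ring
  | monomial n c =>
    rw [Polynomial.sum_monomial_index _ _ (by simp)]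
    rw [eval_monomial, Derivation.leibniz, Derivation.leibniz_pow, derivative_monomial,
      eval_monomial]
    simp only [smul_eq_mul, nsmul_eq_mul]
    ring

/-- Let A be a commutative algebra over the rationals, D a locally nilpotent derivation of A and a an
element with D a = 1; write A' for the quotient of A by the ideal generated by a. Then there is a
ring isomorphism from A onto the polynomial ring A'[Y] which sends every x to the (finite) sum over
n of (1/n!) (class of D^n x) Y^n; its inverse sends Y to a and the constant polynomial on the class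
of x to the sum over n of ((-1)^n/n!) (D^n x) a^n, and under it D corresponds to the derivative
d/dY. (The source says only that A is a ring, in a setting over a field of characteristic zero; the
rational coefficients 1/n! require an algebra over the rationals, which is the hypothesis taken
here. Both sums are written over any range beyond which the iterates of D vanish at x.) -/
theorem result
    (A : Type u) [CommRing A] [Algebra ℚ A] (D : Derivation ℚ A A)
    (hnil : ∀ x : A, ∃ n : ℕ, ((D : A →ₗ[ℚ] A) ^ n) x = 0) (a : A) (ha : D a = 1) :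
    ∃ χ : A ≃+* Polynomial (A ⧸ Ideal.span ({a} : Set A)),
      (∀ (x : A) (N : ℕ), ((D : A →ₗ[ℚ] A) ^ N) x = 0 →
        χ x = ∑ n ∈ Finset.range N,
          ((n.factorial : ℚ)⁻¹ • Polynomial.C (Ideal.Quotient.mk (Ideal.span ({a} : Set A)) (((D : A →ₗ[ℚ] A) ^ n) x))) *
            Polynomial.X ^ n) ∧
      χ.symm Polynomial.X = a ∧
      (∀ (x : A) (N : ℕ), ((D : A →ₗ[ℚ] A) ^ N) x = 0 →
        χ.symm (Polynomial.C (Ideal.Quotient.mk (Ideal.span ({a} : Set A)) x)) =
          ∑ n ∈ Finset.range N, (((-1 : ℚ) ^ n * (n.factorial : ℚ)⁻¹) • ((((D : A →ₗ[ℚ] A) ^ n) x) * a ^ n))) ∧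
      ∀ p : Polynomial (A ⧸ Ideal.span ({a} : Set A)), χ (D (χ.symm p)) = Polynomial.derivative p := by
  open Polynomial in
  classical
  let I := Ideal.span ({a} : Set A)
  let cl : A →+* A ⧸ I := Ideal.Quotient.mk I
  have hcla : cl a = 0 := Ideal.Quotient.eq_zero_iff_mem.2 (Ideal.mem_span_singleton_self a)
  let e := E D hnil
  let Φ : A →+* Polynomial (A ⧸ I) := (Polynomial.mapRingHom cl).comp e
  let s : A →+* A := (Polynomial.evalRingHom (-a)).comp e
  have hsa : s a = 0 := by
    change Polynomial.eval (-a) (E D hnil a) = 0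
    rw [E_a D hnil a ha]; simp
  have hΦcoeff : ∀ x m, (Φ x).coeff m = cl ((m.factorial : ℚ)⁻¹ • ((D : A →ₗ[ℚ] A) ^ m) x) := by
    intro x m
    change (Polynomial.map cl (E D hnil x)).coeff m = _
    rw [Polynomial.coeff_map, E_coeff]
  have hcls : ∀ x, cl (s x) = cl x := by
    intro x
    change cl (Polynomial.eval (-a) (E D hnil x)) = cl x
    rw [← Polynomial.eval₂_at_apply, map_neg, hcla, neg_zero, Polynomial.eval₂_at_zero, E_coeff]
    simp
  have hDs : ∀ x, D (s x) = 0 := by
    intro x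
    change D (Polynomial.eval (-a) (E D hnil x)) = 0
    rw [D_eval, map_neg, ha, ← E_D]
    have h1 : ((E D hnil x).sum fun n c => D c * (-a) ^ n) = Polynomial.eval (-a) (E D hnil (D x)) := by
      rw [Polynomial.eval_eq_sum]
      obtain ⟨N, hN⟩ := hnil x
      have hlt : ∀ y : A, ((D : A →ₗ[ℚ] A) ^ N) y = 0 → (E D hnil y).natDegree < N + 1 := by
        intro y hy
        rw [E_sum D hnil y N hy]
        refine Nat.lt_succ_of_le (Polynomial.natDegree_sum_le_of_forall_le _ _ ?_)
        intro i hi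
        exact (Polynomial.natDegree_monomial_le _).trans (Finset.mem_range.1 hi).le
      have hN' : ((D : A →ₗ[ℚ] A) ^ N) (D x) = 0 := by
        have : ((D : A →ₗ[ℚ] A) ^ N) (D x) = ((D : A →ₗ[ℚ] A) ^ (N + 1)) x := by
          rw [pow_succ, Module.End.mul_apply]; rfl
        rw [this]
        exact pow_vanish D hN (Nat.le_succ N)
      rw [Polynomial.sum_over_range' _ (by simp) (N + 1) (hlt x hN),
        Polynomial.sum_over_range' _ (by simp) (N + 1) (hlt _ hN')]
      apply Finset.sum_congr rfl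
      intro n _
      congr 1
      rw [E_coeff, E_coeff, D.map_smul]
      congr 1
      have : ((D : A →ₗ[ℚ] A) ^ n) (D x) = ((D : A →ₗ[ℚ] A) ^ (n + 1)) x := by
        rw [pow_succ, Module.End.mul_apply]; rfl
      rw [this, pow_succ', Module.End.mul_apply]; rfl
    rw [h1]; simp
  have hsD : ∀ x, D x = 0 → s x = x := by
    intro x hx
    change Polynomial.eval (-a) (E D hnil x) = x
    rw [E_of_D_eq_zero D hnil x hx, Polynomial.eval_C]
  have hsI : ∀ x ∈ I, s x = 0 := by
    intro x hx
    obtain ⟨c, rfl⟩ := Ideal.mem_span_singleton.1 hx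
    rw [map_mul, hsa, zero_mul]
  let sbar : A ⧸ I →+* A := Ideal.Quotient.lift I s hsI
  let Ψ : Polynomial (A ⧸ I) →+* A := Polynomial.eval₂RingHom sbar a
  have hΦa : Φ a = Polynomial.X := by
    change Polynomial.map cl (E D hnil a) = _
    rw [E_a D hnil a ha]; simp [hcla]
  have hΦs : ∀ x, Φ (s x) = Polynomial.C (cl x) := by
    intro x
    change Polynomial.map cl (E D hnil (s x)) = _
    rw [E_of_D_eq_zero D hnil _ (hDs x), Polynomial.map_C, hcls]
  have hΦΨ : Φ.comp Ψ = RingHom.id _ := by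
    apply Polynomial.ringHom_ext'
    · apply Ideal.Quotient.ringHom_ext
      ext1 x
      change Φ (Ψ (Polynomial.C (cl x))) = Polynomial.C (cl x)
      have : Ψ (Polynomial.C (cl x)) = s x := by simp [Ψ, sbar, cl]
      rw [this, hΦs]
    · change Φ (Ψ Polynomial.X) = Polynomial.X
      have : Ψ Polynomial.X = a := by simp [Ψ]
      rw [this, hΦa]
  have hΦinj : Function.Injective Φ := by
    rw [injective_iff_map_eq_zero]
    intro y hy
    by_contra hy0
    have hN := Nat.find_spec (hnil y)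
    set N := Nat.find (hnil y) with hNdef
    have hNpos : N ≠ 0 := by
      intro h0
      rw [h0] at hN
      exact hy0 (by simpa using hN)
    obtain ⟨M, hM⟩ := Nat.exists_eq_succ_of_ne_zero hNpos
    have hz : ((D : A →ₗ[ℚ] A) ^ M) y ≠ 0 := Nat.find_min (hnil y) (by omega)
    have hDz : D (((D : A →ₗ[ℚ] A) ^ M) y) = 0 := by
      rw [hM, pow_succ', Module.End.mul_apply] at hN
      exact hN
    apply hz
    have h1 := hΦcoeff y M
    rw [hy, Polynomial.coeff_zero] at h1
    have h2 : (M.factorial : ℚ)⁻¹ • ((D : A →ₗ[ℚ] A) ^ M) y ∈ I := Ideal.Quotient.eq_zero_iff_mem.1 h1.symm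
    have h3 := hsI _ h2
    have h4 : s ((M.factorial : ℚ)⁻¹ • ((D : A →ₗ[ℚ] A) ^ M) y) =
        (M.factorial : ℚ)⁻¹ • ((D : A →ₗ[ℚ] A) ^ M) y := by
      apply hsD
      rw [D.map_smul, hDz, smul_zero]
    rw [h4] at h3
    have h5 : (M.factorial : ℚ) ≠ 0 := Nat.cast_ne_zero.2 (Nat.factorial_ne_zero _)
    have h6 := congrArg (fun z => (M.factorial : ℚ) • z) h3
    simp only [smul_smul, mul_inv_cancel₀ h5, one_smul, smul_zero] at h6
    exact h6
  have hΨΦ : Ψ.comp Φ = RingHom.id _ := by
    ext x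
    apply hΦinj
    exact congrArg (fun F => F (Φ x)) (congrArg DFunLike.coe hΦΨ)
  let χ : A ≃+* Polynomial (A ⧸ I) := RingEquiv.ofRingHom Φ Ψ hΦΨ hΨΦ
  have hχ : ∀ x, χ x = Φ x := fun x => rfl
  have hχs : ∀ p, χ.symm p = Ψ p := fun x => rfl
  refine ⟨χ, ?_, ?_, ?_, ?_⟩
  · intro x N hN
    rw [hχ]
    ext m
    rw [hΦcoeff, Polynomial.finsetSum_coeff]
    simp only [smul_mul_assoc, Polynomial.coeff_smul, Polynomial.coeff_C_mul, Polynomial.coeff_X_pow,
      mul_ite, mul_one, mul_zero, smul_ite, smul_zero]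
    rw [Finset.sum_ite_eq]
    split_ifs with h
    · exact map_rat_smul cl _ _
    · rw [Finset.mem_range, not_lt] at h
      rw [pow_vanish D hN h, smul_zero, map_zero]
  · rw [hχs]; simp [Ψ]
  · intro x N hN
    rw [hχs]
    have : Ψ (Polynomial.C (cl x)) = s x := by simp [Ψ, sbar, cl]
    refine this.trans ?_
    change Polynomial.eval (-a) (E D hnil x) = _
    rw [E_sum D hnil x N hN, Polynomial.eval_finsetSum]
    apply Finset.sum_congr rfl
    intro n _
    rw [Polynomial.eval_monomial, neg_pow, smul_mul_assoc, mul_left_comm, mul_comm ((-1 : ℚ) ^ n),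
      mul_smul]
    congr 1
    rcases Nat.even_or_odd n with h | h
    · rw [h.neg_one_pow, h.neg_one_pow, one_mul, one_smul]
    · rw [h.neg_one_pow, h.neg_one_pow, neg_smul, one_smul, neg_one_mul]
  · intro p
    rw [hχ]
    change Polynomial.map cl (E D hnil (D (χ.symm p))) = _
    rw [E_D, ← Polynomial.derivative_map]
    change Polynomial.derivative (Φ (χ.symm p)) = _
    rw [← hχ, RingEquiv.apply_symm_apply]

end Groth.Agent.S18974
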