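import Groth.Statements.S18977
import Groth.Agent.GIT.K690.Torsor

set_option autoImplicit false
universe u
open CategoryTheory MonoidalCategory CartesianMonoidalCategory MonObj AlgebraicGeometry
open GIT

namespace Groth.Agent.S18977

open AlgGrp.Action K690.Torsor

/-- Composition of torsors. Over an algebraically closed field k of characteristic zero, let G be an
affine group scheme of finite type over k, N a closed normal subgroup scheme which is the kernel of
a homomorphism q : G → Q, and H a closed subgroup scheme of G which q maps isomorphically onto Q (so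
G is the inner semidirect product N H). Let G act on a k-scheme X and let φ₁ : X → Y be a torsor
over Y under the restricted action of N (the square formed by the N-action, the second projection
and φ₁ twice is cartesian, and φ₁ acquires sections on the members of some fpqc covering family of
Y); let Q act on Y so that φ₁ is equivariant along q, and let φ₂ : Y → Z be a Q-torsor over Z in the
same sense. Then φ₂ ∘ φ₁ is a G-torsor over Z: the square formed by the G-action, the second
projection and φ₂ ∘ φ₁ twice is cartesian, and φ₂ ∘ φ₁ acquires sections fpqc-locally on Z. (The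
induced action of the factor group on Y is taken as a datum together with the equivariance of φ₁;
the source's second assertion, that the composite of trivial torsors is trivial, amounts to
composing sections and is not restated.) -/
theorem result
    (k : Type u) [Field k] [IsAlgClosed k] [CharZero k]
    (G N Q H X Y Z : Over (Spec (CommRingCat.of k))) [GrpObj G] [GrpObj N] [GrpObj Q] [GrpObj H]
    [IsAffine G.left] [LocallyOfFiniteType G.hom]
    (iN : N ⟶ G) [IsMonHom iN] [IsClosedImmersion iN.left] (hnorm : AlgGrp.IsNormalHom iN)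
    (q : G ⟶ Q) [IsMonHom q] (hker : AlgGrp.IsKernel iN q)
    (iH : H ⟶ G) [IsMonHom iH] [IsClosedImmersion iH.left] [IsIso (iH ≫ q)]
    (a : AlgGrp.Action G X) (φ₁ : X ⟶ Y)
    (h₁ : IsPullback (a.restrict iN).act (snd N X) φ₁ φ₁)
    (h₁loc : NonAbH1.IsLocallyTrivialFor Scheme.fpqcPrecoverage (Over.mk φ₁.left : Over Y.left))
    (aY : AlgGrp.Action Q Y) (hequiv : (q ⊗ₘ φ₁) ≫ aY.act = a.act ≫ φ₁)
    (φ₂ : Y ⟶ Z) (h₂ : IsPullback aY.act (snd Q Y) φ₂ φ₂)
    (h₂loc : NonAbH1.IsLocallyTrivialFor Scheme.fpqcPrecoverage (Over.mk φ₂.left : Over Z.left)) :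
    IsPullback a.act (snd G X) (φ₁ ≫ φ₂) (φ₁ ≫ φ₂) ∧
      NonAbH1.IsLocallyTrivialFor Scheme.fpqcPrecoverage (Over.mk (φ₁ ≫ φ₂).left : Over Z.left) := by
  constructor
  · rw [isPullback_act_iff] at h₁ h₂ ⊢
    obtain ⟨hw₁, hp₁⟩ := h₁
    obtain ⟨hw₂, hp₂⟩ := h₂
    -- equivariance on points
    have heq : ∀ {T : Over (Spec (CommRingCat.of k))} (g : T ⟶ G) (x : T ⟶ X),
        (lift g x ≫ a.act) ≫ φ₁ = lift (g ≫ q) (x ≫ φ₁) ≫ aY.act := by
      intro T g x
      rw [Category.assoc, ← hequiv, lift_map_assoc]
    refine ⟨?_, ?_⟩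
    · rw [← Category.assoc, ← Category.assoc]
      apply hom_ext_lift₂
      intro T g x
      rw [← Category.assoc, ← Category.assoc, heq, Category.assoc, hw₂, lift_snd_assoc,
        Category.assoc (snd G X), lift_snd_assoc, Category.assoc]
    · intro T x x' hx
      rw [← Category.assoc, ← Category.assoc] at hx
      obtain ⟨h, hh, hh'⟩ := hp₂ T _ _ hx
      -- lift `h` to `G`
      let g₁ : T ⟶ G := h ≫ inv (iH ≫ q) ≫ iH
      have hg₁ : g₁ ≫ q = h := by
        simp only [g₁, Category.assoc, IsIso.inv_hom_id, Category.comp_id]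
      have h3 : x ≫ φ₁ = (lift g₁ x' ≫ a.act) ≫ φ₁ := by
        rw [heq, hg₁, hh]
      obtain ⟨n, hn, hn'⟩ := hp₁ T _ _ h3
      rw [lift_restrict_act, ← lift_mul_act] at hn
      refine ⟨(n ≫ iN) * g₁, hn, ?_⟩
      intro g hg
      -- `g g₁⁻¹` is in the kernel
      have hgq : g ≫ q = h := by
        apply hh'
        change lift (g ≫ q) (x' ≫ φ₁) ≫ aY.act = x ≫ φ₁
        rw [← heq, hg]
      have h4 : (g * g₁⁻¹) ≫ q = toUnit T ≫ η[Q] := by
        have h5 : (g * g₁⁻¹) ≫ q = (g ≫ q) * (g₁ ≫ q)⁻¹ := by
          rw [MonObj.mul_comp, GrpObj.inv_comp]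
        rw [h5, hgq, hg₁, mul_inv_cancel, Hom.one_def]
      have h6 : hker.lift (g * g₁⁻¹) (toUnit T) h4 ≫ iN = g * g₁⁻¹ := hker.lift_fst _ _ _
      have h7 := hn' (hker.lift (g * g₁⁻¹) (toUnit T) h4) (by
        change lift _ _ ≫ (a.restrict iN).act = x
        rw [lift_restrict_act, h6, ← lift_mul_act, inv_mul_cancel_right, hg])
      rw [← h7, h6, inv_mul_cancel_right]
  · exact isLocallyTrivialFor_comp h₁loc h₂loc

end Groth.Agent.S18977
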