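import Groth.Statements.S18978
import Groth.Agent.GIT.K690.NormalTors
import Groth.Agent.S5378
import Groth.Agent.S0353
import Groth.Agent.Etcore.SmoothRed

set_option autoImplicit false
universe u
open CategoryTheory MonoidalCategory CartesianMonoidalCategory MonObj AlgebraicGeometry
open GIT

namespace Groth.Agent.S18978

/-- A surjective homomorphism of affine algebraic groups in characteristic zero is flat. -/
lemma flat_of_surjective (k : Type u) [Field k] [CharZero k]
    (G H : Over (Spec (CommRingCat.of k))) [GrpObj G] [GrpObj H]
    [IsAffine G.left] [LocallyOfFiniteType G.hom]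
    (q : G ⟶ H) [IsMonHom q] [Surjective q.left] [IsAffine H.left] [LocallyOfFiniteType H.hom] :
    Flat q.left := by
  have : Smooth H.hom := Groth.Agent.S0353.result k H
  have : IsReduced H.left := Groth.Agent.Etcore.SmoothRed.isReduced_of_smooth H.hom
  obtain ⟨C, gC, p, i, hp, hi, hpi, hps, hfl, hic, hC, -⟩ := Groth.Agent.S5378.result k G H q
  have h1 : p.left ≫ i.left = q.left := by rw [← Over.comp_left, hpi]
  have h2 : Surjective (p.left ≫ i.left) := by rw [h1]; infer_instance
  have h3 : Surjective i.left := Surjective.of_comp p.left i.left
  have h4 : IsIso i.left := isIso_of_isClosedImmersion_of_surjective i.left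
  rw [← h1]
  infer_instance

/-- Over an algebraically closed field k of characteristic zero, let G be an affine group scheme of
finite type over k with a closed normal subgroup scheme N, the kernel of a surjective homomorphism q
: G → H onto an affine group scheme H of finite type over k (the factor group G/N). Let G act on a
separated k-scheme X of finite type, let φ : X → Y be a torsor over Y under the restricted action of
N (cartesian action square, sections on the members of some fpqc covering family of Y), and let H
act on Y so that φ is equivariant along q. Then for every geometric point x of X (a point with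
values in an algebraically closed field Ω) with image y in Y: the G-orbit of x is closed in X_Ω and
the stabiliser of x in G is finite if and only if the H-orbit of y is closed in Y_Ω and the
stabiliser of y in H is finite. (The induced action of the factor group on Y is taken as a datum
together with the equivariance of φ; the points of the published statement are rendered as geometric
points.) -/
theorem result
    (k : Type u) [Field k] [IsAlgClosed k] [CharZero k]
    (G N H X Y : Over (Spec (CommRingCat.of k))) [GrpObj G] [GrpObj N] [GrpObj H]
    [IsAffine G.left] [LocallyOfFiniteType G.hom]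
    (iN : N ⟶ G) [IsMonHom iN] [IsClosedImmersion iN.left] (hnorm : AlgGrp.IsNormalHom iN)
    (q : G ⟶ H) [IsMonHom q] [Surjective q.left] [IsAffine H.left] [LocallyOfFiniteType H.hom]
    (hker : AlgGrp.IsKernel iN q)
    [LocallyOfFiniteType X.hom] [QuasiCompact X.hom] [IsSeparated X.hom]
    (a : AlgGrp.Action G X) (φ : X ⟶ Y)
    (hcart : IsPullback (a.restrict iN).act (snd N X) φ φ)
    (hloc : NonAbH1.IsLocallyTrivialFor Scheme.fpqcPrecoverage (Over.mk φ.left : Over Y.left))
    (aY : AlgGrp.Action H Y) (hequiv : (q ⊗ₘ φ) ≫ aY.act = a.act ≫ φ)
    (Ω : Type u) [Field Ω] [IsAlgClosed Ω] (P : Over (Spec (CommRingCat.of k)))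
    (e : P.left ≅ Spec (CommRingCat.of Ω)) (x : P ⟶ X) :
    (IsClosed (Set.range (GIT.psi a x).left.base) ∧ IsFinite (GLinSh.stabTo a x)) ↔
      (IsClosed (Set.range (GIT.psi aY (x ≫ φ)).left.base) ∧ IsFinite (GLinSh.stabTo aY (x ≫ φ))) := by
  have h1 := flat_of_surjective k G H q
  have h2 : K690.LocSec.LS q.left := K690.NormalTors.ls_of_flat q.left
  rw [K690.NormalTors.isClosed_range_iff hker h2 hcart hequiv hloc x,
    K690.NormalTors.stab_prop_iff hker h2 hcart hequiv @IsFinite x]

end Groth.Agent.S18978
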