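import Groth.Statements.S18979
import Groth.Agent.GIT.K690.StabMain
import Groth.Agent.Sga3B.Parab.OppK172

set_option autoImplicit false
universe u
open CategoryTheory MonoidalCategory CartesianMonoidalCategory MonObj AlgebraicGeometry
open GIT

namespace Groth.Agent.S18979

/-- Over an algebraically closed field k of characteristic zero, let G be a smooth affine group scheme
of finite type over k which is a split extension of a torus T by a closed normal subgroup scheme U:
U is the kernel of a homomorphism p : G → T which has a homomorphic section T → G, and U is smooth,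
connected and contains no non-trivial subtorus (so U is unipotent and G = U ⋊ T). Let G act on a
separated k-scheme X of finite type and let x be a geometric point of X (with values in an
algebraically closed field Ω) whose stabiliser in U is trivial. Then the stabiliser of x in G is
finite if and only if, for every Ω-point u of U, the stabiliser in T of u · x is finite. (Points of
the source are rendered as geometric points; unipotence of U is expressed as having no non-trivial
subtorus, equivalent for smooth connected U.) -/
theorem result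
    (k : Type u) [Field k] [IsAlgClosed k] [CharZero k]
    (G U T X : Over (Spec (CommRingCat.of k))) [GrpObj G] [GrpObj U] [GrpObj T]
    [IsAffine G.left] [LocallyOfFiniteType G.hom] [Smooth G.hom]
    (iU : U ⟶ G) [IsMonHom iU] [IsClosedImmersion iU.left] (hnorm : AlgGrp.IsNormalHom iU)
    [Smooth U.hom] [ConnectedSpace U.left] (hU : Red.HasNoSubtorus k U)
    (hT : Red.IsTorus T) (p : G ⟶ T) [IsMonHom p] (hker : AlgGrp.IsKernel iU p)
    (iT : T ⟶ G) [IsMonHom iT] (hsplit : iT ≫ p = 𝟙 T)
    [LocallyOfFiniteType X.hom] [QuasiCompact X.hom] [IsSeparated X.hom]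
    (a : AlgGrp.Action G X)
    (Ω : Type u) [Field Ω] [IsAlgClosed Ω] (P : Over (Spec (CommRingCat.of k)))
    (e : P.left ≅ Spec (CommRingCat.of Ω)) (x : P ⟶ X)
    (hfree : IsIso (GLinSh.stabTo (a.restrict iU) x)) :
    IsFinite (GLinSh.stabTo a x) ↔
      ∀ u : P ⟶ U, IsFinite (GLinSh.stabTo (a.restrict iT) (lift (u ≫ iU) x ≫ a.act)) := by
  have hG1 : IsAffineHom G.hom := inferInstance
  obtain ⟨A, _, _, e', he', hft, hred, -⟩ := Groth.Agent.Sga3B.Parab.OppK172.exists_chartK G
  let f : Spec (CommRingCat.of Ω) ⟶ Spec (CommRingCat.of k) := e.inv ≫ P.hom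
  letI : Algebra k Ω := (Spec.preimage f).hom.toAlgebra
  have hsm : Groth.Agent.Sga3B.RootBridge989.sm k Ω = f := Spec.map_preimage f
  let j : P ≅ K690.StabPts.PK k Ω := Over.isoMk e (by
    change e.hom ≫ (𝟙 _ ≫ Groth.Agent.Sga3B.RootBridge989.sm k Ω) = P.hom
    rw [hsm, Category.id_comp, Iso.hom_inv_id_assoc])
  have hsplit' : IsSplitMono iT := ⟨⟨⟨p, hsplit⟩⟩⟩
  have hmT : Mono iT := inferInstance
  have hqG : QuasiCompact G.hom := inferInstance
  have hsplit2 : iT.left ≫ p.left = 𝟙 T.left := by
    rw [← Over.comp_left, hsplit, Over.id_left]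
  have hsepG : IsSeparated p.left := by
    have h1 : IsSeparated (p.left ≫ T.hom) := by
      rw [Over.w]
      infer_instance
    exact IsSeparated.of_comp p.left T.hom
  have hclT : IsClosedImmersion iT.left := by
    have h1 : IsClosedImmersion (iT.left ≫ p.left) := by
      rw [hsplit2]
      infer_instance
    exact IsClosedImmersion.of_comp iT.left p.left
  have hlftT : LocallyOfFiniteType T.hom := by
    rw [← Over.w iT]
    infer_instance
  have hqcT : QuasiCompact T.hom := by
    rw [← Over.w iT]
    infer_instance
  rw [K850.StabFin.isFinite_stabTo_iff a x e]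
  have h2 : ∀ u : P ⟶ U, IsFinite (GLinSh.stabTo (a.restrict iT) (lift (u ≫ iU) x ≫ a.act)) ↔
      Finite (K850.StabFin.Fix (a.restrict iT) (lift (u ≫ iU) x ≫ a.act)) := fun u =>
    K850.StabFin.isFinite_stabTo_iff (a.restrict iT) _ e
  refine ⟨fun h u => (h2 u).2 (K690.StabMain.finite_fix_torus a iT (u ≫ iU) x h), fun h => ?_⟩
  exact K690.StabMain.finite_fix e' j iU hnorm hU hT p hker iT hsplit a x hfree
    fun u => (h2 u).1 (h u)

end Groth.Agent.S18979
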