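import Groth.Statements.S18983
import Mathlib.Tactic
import Mathlib.LinearAlgebra.Matrix.Block
import Mathlib.LinearAlgebra.Matrix.NonsingularInverse
import Mathlib.LinearAlgebra.FiniteDimensional.Lemmas
import Mathlib.LinearAlgebra.Dimension.OrzechProperty
import Mathlib.LinearAlgebra.Dual.Lemmas
import Mathlib.Algebra.DirectSum.Decomposition

set_option autoImplicit false
universe u v w
open CAlg

namespace Groth.Agent.S18983

section
variable {k : Type u} [Field k] {Λ : Type v} [AddCommGroup Λ]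
  {V : Type w} [AddCommGroup V] [Module k V] [FiniteDimensional k V]
  (𝒱 : Λ → Submodule k V) (π : Λ → V →ₗ[k] V)
  (A : Module.End k V)

/-- The inductive statement: an `A`-stable graded subspace has a homogeneous Jordan family. -/
theorem main (χ : Λ) (hA : IsNilpotent A)
    (hπ1 : ∀ μ v, π μ v ∈ 𝒱 μ)
    (hπ2 : ∀ μ, ∀ v ∈ 𝒱 μ, π μ v = v)
    (hπ3 : ∀ μ μ', μ ≠ μ' → ∀ v, π μ' (π μ v) = 0)
    (hπ4 : ∀ v, ∃ s : Finset Λ, v = ∑ μ ∈ s, π μ v)
    (hπA : ∀ μ v, π (μ + χ) (A v) = A (π μ v)) :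
    ∀ (d : ℕ) (W : Submodule k V), Module.finrank k W = d → (∀ w ∈ W, A w ∈ W) →
      (∀ μ, ∀ w ∈ W, π μ w ∈ W) →
      ∃ (ι : Type w) (_ : Fintype ι) (n : ι → ℕ) (e : ∀ i, Fin (n i + 1) → V),
        (∑ i, (n i + 1) = Module.finrank k W) ∧
        (W ≤ Submodule.span k {x | ∃ i l, x = e i l}) ∧
        (∀ i l, ∃ μ, e i l ∈ 𝒱 μ) ∧
        (∀ i, A (e i 0) = 0) ∧
        ∀ i (l : Fin (n i)), A (e i l.succ) = e i l.castSucc := by
  classical
  intro d
  induction d using Nat.strong_induction_on with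
  | _ d ih =>
  intro W hd hWA hWπ
  by_cases hW : W = ⊥
  · subst hW
    refine ⟨PEmpty, inferInstance, fun _ => 0, fun i => i.elim, ?_, ?_, ?_, ?_, ?_⟩
    · simp
    · exact bot_le
    · intro i; exact i.elim
    · intro i; exact i.elim
    · intro i; exact i.elim
  · -- nilpotency index on `W`
    have hex : ∃ N : ℕ, ∀ w ∈ W, (A ^ N) w = 0 := by
      obtain ⟨N, hN⟩ := hA
      exact ⟨N, fun w _ => by rw [hN]; rfl⟩
    have hNspec := Nat.find_spec hex
    obtain ⟨m, hm⟩ : ∃ m, Nat.find hex = m + 1 := by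
      rcases h0 : Nat.find hex with _ | m
      · exfalso
        apply hW
        rw [h0] at hNspec
        rw [eq_bot_iff]
        intro w hw
        simpa using hNspec w hw
      · exact ⟨m, rfl⟩
    rw [hm] at hNspec
    have hmin : ¬ ∀ w ∈ W, (A ^ m) w = 0 := Nat.find_min hex (by omega)
    push Not at hmin
    obtain ⟨w₀, hw₀, hw₀'⟩ := hmin
    obtain ⟨μ₀, hμ₀⟩ : ∃ μ, (A ^ m) (π μ w₀) ≠ 0 := by
      by_contra hcon
      push Not at hcon
      apply hw₀'
      obtain ⟨s, hs⟩ := hπ4 w₀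
      rw [hs, map_sum]
      exact Finset.sum_eq_zero (fun μ _ => hcon μ)
    set v := π μ₀ w₀ with hv
    have hvW : v ∈ W := hWπ _ _ hw₀
    have hAW : ∀ i : ℕ, ∀ w ∈ W, (A ^ i) w ∈ W := by
      intro i
      induction i with
      | zero => intro w hw; simpa using hw
      | succ i ihi => intro w hw; rw [pow_succ', Module.End.mul_apply]; exact hWA _ (ihi w hw)
    have hzero : ∀ i : ℕ, m < i → ∀ w ∈ W, (A ^ i) w = 0 := by
      intro i hi w hw
      obtain ⟨j, rfl⟩ := Nat.exists_eq_add_of_le' (Nat.succ_le_of_lt hi)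
      rw [pow_add, Module.End.mul_apply, hNspec w hw, map_zero]
    have hπAi : ∀ (i : ℕ) μ x, π (μ + i • χ) ((A ^ i) x) = (A ^ i) (π μ x) := by
      intro i
      induction i with
      | zero => intro μ x; simp
      | succ i ihi =>
        intro μ x
        rw [pow_succ', Module.End.mul_apply, Module.End.mul_apply, succ_nsmul, ← add_assoc, hπA, ihi]
    have hhom : ∀ i : ℕ, (A ^ i) v ∈ 𝒱 (μ₀ + i • χ) := by
      intro i
      have : (A ^ i) v = π (μ₀ + i • χ) ((A ^ i) w₀) := by rw [hπAi]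
      rw [this]
      exact hπ1 _ _
    -- the functional
    set ν := μ₀ + m • χ with hν
    obtain ⟨g, hg⟩ : ∃ g : V →ₗ[k] k, g ((A ^ m) v) = 1 :=
      Module.Projective.exists_dual_eq_one k hμ₀
    let f : V →ₗ[k] k := g ∘ₗ π ν
    have hfu : f ((A ^ m) v) = 1 := by
      change g (π ν ((A ^ m) v)) = 1
      rw [hπ2 _ _ (hhom m), hg]
    have hfπ : ∀ μ x, f x = 0 → f (π μ x) = 0 := by
      intro μ x hx
      change g (π ν (π μ x)) = 0
      by_cases h : μ = ν
      · subst h
        rw [hπ2 _ _ (hπ1 _ _)]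
        exact hx
      · rw [hπ3 _ _ h, map_zero]
    let T : V →ₗ[k] (Fin (m + 1) → k) := LinearMap.pi (fun i => f ∘ₗ (A ^ (i : ℕ)))
    have hT : ∀ x i, T x i = f ((A ^ (i : ℕ)) x) := fun _ _ => rfl
    let e₁ : Fin (m + 1) → V := fun l => (A ^ (m - (l : ℕ))) v
    let M : Matrix (Fin (m + 1)) (Fin (m + 1)) k := fun i l => T (e₁ l) i
    have hM : M.BlockTriangular id := by
      intro i l hil
      change l < i at hil
      change f ((A ^ (i : ℕ)) ((A ^ (m - (l : ℕ))) v)) = 0
      rw [← Module.End.mul_apply, ← pow_add, hzero _ _ v hvW, map_zero]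
      have : (l : ℕ) < i := hil
      omega
    have hdiag : ∀ i, M i i = 1 := by
      intro i
      change f ((A ^ (i : ℕ)) ((A ^ (m - (i : ℕ))) v)) = 1
      rw [← Module.End.mul_apply, ← pow_add, Nat.add_sub_cancel' (by omega), hfu]
    have hdet : IsUnit M := by
      rw [Matrix.isUnit_iff_isUnit_det, Matrix.det_of_isUpperTriangular hM]
      simp [hdiag]
    have hTsurj : ∀ t, ∃ c : Fin (m + 1) → k, T (∑ l, c l • e₁ l) = t := by
      intro t
      obtain ⟨c, hc⟩ := Matrix.mulVec_surjective_iff_isUnit.2 hdet t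
      refine ⟨c, ?_⟩
      rw [← hc]
      ext i
      rw [map_sum, Finset.sum_apply, Matrix.mulVec, dotProduct]
      apply Finset.sum_congr rfl
      intro l _
      rw [map_smul, Pi.smul_apply, smul_eq_mul, mul_comm]
    have he₁W : ∀ l, e₁ l ∈ W := fun l => hAW _ _ hvW
    -- the complement
    let W' : Submodule k V := W ⊓ LinearMap.ker T
    have hW' : ∀ x, x ∈ W' ↔ x ∈ W ∧ ∀ i : ℕ, f ((A ^ i) x) = 0 := by
      intro x
      constructor
      · rintro ⟨hx, hx'⟩
        refine ⟨hx, fun i => ?_⟩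
        by_cases hi : i < m + 1
        · have := congrFun (LinearMap.mem_ker.1 hx') ⟨i, hi⟩
          exact this
        · rw [hzero i (by omega) x hx, map_zero]
      · rintro ⟨hx, hx'⟩
        refine ⟨hx, LinearMap.mem_ker.2 ?_⟩
        ext i
        exact hx' i
    have hW'A : ∀ w ∈ W', A w ∈ W' := by
      intro w hw
      rw [hW'] at hw ⊢
      refine ⟨hWA _ hw.1, fun i => ?_⟩
      rw [← Module.End.mul_apply, ← pow_succ]
      exact hw.2 _
    have hW'π : ∀ μ, ∀ w ∈ W', π μ w ∈ W' := by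
      intro μ w hw
      rw [hW'] at hw ⊢
      refine ⟨hWπ _ _ hw.1, fun i => ?_⟩
      rw [← hπAi]
      exact hfπ _ _ (hw.2 i)
    have hdim : Module.finrank k W = (m + 1) + Module.finrank k W' := by
      have h1 := LinearMap.finrank_range_add_finrank_ker (T.domRestrict W)
      have h2 : LinearMap.range (T.domRestrict W) = ⊤ := by
        rw [LinearMap.range_eq_top]
        intro t
        obtain ⟨c, hc⟩ := hTsurj t
        exact ⟨⟨∑ l, c l • e₁ l, W.sum_mem (fun l _ => W.smul_mem _ (he₁W l))⟩, hc⟩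
      have h3 : W' = (LinearMap.ker (T.domRestrict W)).map W.subtype := by
        ext x
        constructor
        · rintro ⟨hx, hx'⟩
          exact ⟨⟨x, hx⟩, hx', rfl⟩
        · rintro ⟨⟨y, hy⟩, hy', rfl⟩
          exact ⟨hy, hy'⟩
      rw [h2, finrank_top, Module.finrank_fintype_fun_eq_card, Fintype.card_fin] at h1
      rw [h3, Submodule.finrank_map_subtype_eq, h1]
    obtain ⟨ι, hι, n, e, he1, he2, he3, he4, he5⟩ := ih (Module.finrank k W') (by omega) W' rfl hW'A hW'π
    let n' : Option ι → ℕ := fun o => o.elim m n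
    let e' : ∀ o : Option ι, Fin (n' o + 1) → V := fun o =>
      match o with
      | none => e₁
      | some i => e i
    refine ⟨Option ι, inferInstance, n', e', ?_, ?_, ?_, ?_, ?_⟩
    · rw [Fintype.sum_option, hdim, ← he1]
      rfl
    · intro x hx
      obtain ⟨c, hc⟩ := hTsurj (T x)
      have h1 : x - ∑ l, c l • e₁ l ∈ W' := by
        refine ⟨W.sub_mem hx (W.sum_mem (fun l _ => W.smul_mem _ (he₁W l))), LinearMap.mem_ker.2 ?_⟩
        rw [map_sub, hc, sub_self]
      have h2 : x = (x - ∑ l, c l • e₁ l) + ∑ l, c l • e₁ l := by abel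
      rw [h2]
      apply Submodule.add_mem
      · have h3 : Submodule.span k {x | ∃ i l, x = e i l} ≤ Submodule.span k {x | ∃ i l, x = e' i l} := by
          apply Submodule.span_mono
          rintro x ⟨i, l, rfl⟩
          exact ⟨some i, l, rfl⟩
        exact h3 (he2 h1)
      · apply Submodule.sum_mem
        intro l _
        apply Submodule.smul_mem
        exact Submodule.subset_span ⟨none, l, rfl⟩
    · rintro (_ | i) l
      · exact ⟨_, hhom _⟩
      · exact he3 i l
    · rintro (_ | i)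
      · change A ((A ^ (m - 0)) v) = 0
        rw [← Module.End.mul_apply, ← pow_succ', hzero _ (by omega) v hvW]
      · exact he4 i
    · rintro (_ | i) l
      · change A ((A ^ (m - ((l : ℕ) + 1))) v) = (A ^ (m - (l : ℕ))) v
        rw [← Module.End.mul_apply, ← pow_succ']
        congr 2
        have : (l : ℕ) < m := l.2
        omega
      · exact he5 i l
end

/-- Let k be a field, Λ an additive commutative group, V a finite-dimensional k-vector space which is
the internal direct sum of subspaces V_μ indexed by Λ (a representation of a torus with character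
group Λ), and A a nilpotent endomorphism of V mapping each V_μ into V_{μ+χ} for a fixed χ (the
infinitesimal generator of an action of the additive group on which the torus acts through the
character χ). Then V has a basis consisting of homogeneous vectors e_{i,l}, 0 ≤ l ≤ n_i, with A
e_{i,0} = 0 and A e_{i,l+1} = e_{i,l}: a weight basis bringing A into Jordan normal form. (The
source states this, over an algebraically closed field of characteristic zero, as a decomposition of
every representation of the semidirect product of the additive group with a torus into twists of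
symmetric powers of the standard two-dimensional representation by characters; the first line of its
proof reduces that to the present statement, which is what is proved, and which holds over any
field.) -/
theorem result
    (k : Type u) [Field k] (Λ : Type v) [AddCommGroup Λ] [DecidableEq Λ]
    (V : Type w) [AddCommGroup V] [Module k V] [FiniteDimensional k V]
    (𝒱 : Λ → Submodule k V) (h𝒱 : DirectSum.IsInternal 𝒱)
    (A : Module.End k V) (hA : IsNilpotent A) (χ : Λ)
    (hhom : ∀ (μ : Λ) (v : V), v ∈ 𝒱 μ → A v ∈ 𝒱 (μ + χ)) :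
    ∃ (ι : Type w) (_ : Finite ι) (n : ι → ℕ) (b : Module.Basis (Σ i : ι, Fin (n i + 1)) k V),
      (∀ (i : ι) (l : Fin (n i + 1)), ∃ μ : Λ, b ⟨i, l⟩ ∈ 𝒱 μ) ∧
      (∀ i : ι, A (b ⟨i, 0⟩) = 0) ∧
      ∀ (i : ι) (l : Fin (n i)), A (b ⟨i, l.succ⟩) = b ⟨i, l.castSucc⟩ := by
  classical
  letI := h𝒱.chooseDecomposition
  let π : Λ → V →ₗ[k] V := fun μ =>
    (𝒱 μ).subtype ∘ₗ DirectSum.component k Λ (fun i => 𝒱 i) μ ∘ₗ
      (DirectSum.decomposeLinearEquiv 𝒱).toLinearMap
  have hπ : ∀ μ x, π μ x = (DirectSum.decompose 𝒱 x μ : V) := fun μ x => rfl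
  have hπ1 : ∀ μ v, π μ v ∈ 𝒱 μ := fun μ v => (DirectSum.decompose 𝒱 v μ).2
  have hπ2 : ∀ μ, ∀ v ∈ 𝒱 μ, π μ v = v := fun μ v hv => DirectSum.decompose_of_mem_same 𝒱 hv
  have hπ2' : ∀ μ μ', μ ≠ μ' → ∀ v ∈ 𝒱 μ, π μ' v = 0 := fun μ μ' h v hv =>
    DirectSum.decompose_of_mem_ne 𝒱 hv h
  have hπ3 : ∀ μ μ', μ ≠ μ' → ∀ v, π μ' (π μ v) = 0 := fun μ μ' h v => hπ2' μ μ' h _ (hπ1 _ _)
  have hπ4 : ∀ v, ∃ s : Finset Λ, v = ∑ μ ∈ s, π μ v := fun v =>
    ⟨_, (DirectSum.sum_support_decompose 𝒱 v).symm⟩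
  have hπA : ∀ μ v, π (μ + χ) (A v) = A (π μ v) := by
    intro μ v
    obtain ⟨s, hs⟩ := hπ4 v
    rw [hs]
    simp only [map_sum]
    apply Finset.sum_congr rfl
    intro μ' _
    by_cases h : μ' = μ
    · subst h
      rw [hπ2 _ _ (hhom _ _ (hπ1 _ _)), hπ2 _ _ (hπ1 _ _)]
    · rw [hπ3 _ _ h, map_zero, hπ2' (μ' + χ) (μ + χ) (by simpa using h) _ (hhom _ _ (hπ1 _ _))]
  obtain ⟨ι, hι, n, e, h1, h2, h3, h4, h5⟩ := main 𝒱 π A χ hA hπ1 hπ2 hπ3 hπ4 hπA _ ⊤ rfl
    (fun _ _ => trivial) (fun _ _ _ => trivial)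
  let e' : (Σ i : ι, Fin (n i + 1)) → V := fun x => e x.1 x.2
  have hspan : ⊤ ≤ Submodule.span k (Set.range e') := by
    refine h2.trans (Submodule.span_mono ?_)
    rintro x ⟨i, l, rfl⟩
    exact ⟨⟨i, l⟩, rfl⟩
  have hcard : Fintype.card (Σ i : ι, Fin (n i + 1)) = Module.finrank k V := by
    rw [Fintype.card_sigma]
    simp only [Fintype.card_fin]
    rw [h1, finrank_top]
  refine ⟨ι, inferInstance, n, basisOfTopLeSpanOfCardEqFinrank e' hspan hcard, ?_, ?_, ?_⟩
  · intro i l
    rw [coe_basisOfTopLeSpanOfCardEqFinrank]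
    exact h3 i l
  · intro i
    rw [coe_basisOfTopLeSpanOfCardEqFinrank]
    exact h4 i
  · intro i l
    rw [coe_basisOfTopLeSpanOfCardEqFinrank]
    exact h5 i l

end Groth.Agent.S18983
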