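import Groth.Statements.S18984
import Groth.Agent.GIT.K690.FreeMain
import Groth.Agent.GIT.K690.RedLin
import Groth.Agent.GIT.K690.NormalTors

set_option autoImplicit false
universe u
open CategoryTheory MonoidalCategory CartesianMonoidalCategory MonObj AlgebraicGeometry
open GIT

namespace Groth.Agent.S18984

/-- Over an algebraically closed field k of characteristic zero, let G be a connected reductive group
over k acting on a reduced separated k-scheme X of finite type, and let φ : X → Y be a geometric
quotient which is an affine morphism (invariant and surjective, G ×_k X → X ×_Y X surjective,
universally submersive, and the functions on every open of Y are exactly the invariant functions on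
its preimage). Then φ is a G-torsor over Y — the square formed by the action, the second projection
and φ twice is cartesian and φ acquires sections on the members of some fpqc covering family of Y —
if and only if the stabiliser of every geometric point of X is the trivial group scheme. (The source
allows any reductive G, not necessarily connected, and its geometric quotients are affine and
submersive rather than universally submersive; this row takes G connected reductive and a
universally submersive affine geometric quotient.) -/
theorem result
    (k : Type u) [Field k] [IsAlgClosed k] [CharZero k]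
    (G X Y : Over (Spec (CommRingCat.of k))) [GrpObj G] (hG : Red.IsReductiveOver k G)
    [LocallyOfFiniteType X.hom] [QuasiCompact X.hom] [IsSeparated X.hom] [AlgebraicGeometry.IsReduced X.left]
    (a : AlgGrp.Action G X) (φ : X ⟶ Y) (hq : GIT.IsGeomQuot a φ) [IsAffineHom φ.left] :
    (IsPullback a.act (snd G X) φ φ ∧
        NonAbH1.IsLocallyTrivialFor Scheme.fpqcPrecoverage (Over.mk φ.left : Over Y.left)) ↔
      ∀ (Ω : Type u) [Field Ω] [IsAlgClosed Ω] (P : Over (Spec (CommRingCat.of k)))
        (_ : P.left ≅ Spec (CommRingCat.of Ω)) (x : P ⟶ X), IsIso (GLinSh.stabTo a x) := by
  constructor
  · rintro ⟨h, -⟩ Ω _ _ P _ x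
    exact K690.FreeQuot.isIso_stabTo_of_isPullback h x
  · intro h
    obtain ⟨C, _, _, e, he, hft, -, hlin⟩ := K690.RedLin.exists_linRed hG
    obtain ⟨h1, h2⟩ := K690.FreeMain.torsor_of_free e hlin hq fun x => h k _ (Iso.refl _) x
    have h3 : Surjective φ.left := ⟨hq.surj⟩
    exact ⟨h1, K690.NormalTors.ls_of_flat φ.left⟩

end Groth.Agent.S18984
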