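import Groth.Statements.S18985
import Groth.Agent.GIT.K690.GLnEmb
import Groth.Agent.S0353
import Groth.Agent.S18976

set_option autoImplicit false
universe u
open CategoryTheory MonoidalCategory CartesianMonoidalCategory MonObj AlgebraicGeometry
open GIT

namespace Groth.Agent.S18985

open K690.LocSec K690.Torsor K690.TorsorTower K690.EqMat K690.GLnRep K690.Chart CoactBr
  AlgGrp.Action K690.GLnEmb K690.EqSec K690.Isotriv

/-- Finite étale sections over an open subset of the quotient give local sections of the torsor. -/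
lemma exists_local (k : Type u) [Field k] [IsAlgClosed k]
    (G X Y H Q : Over (Spec (CommRingCat.of k))) [GrpObj G] [GrpObj H] (i : G ⟶ H) [IsMonHom i]
    [LocallyOfFiniteType H.hom] [LocallyOfFiniteType Q.hom]
    (aQ : AlgGrp.Action H Q) (o : 𝟙_ (Over (Spec (CommRingCat.of k))) ⟶ Q)
    [hs : Surjective (aQ.orbitMap o).left]
    (hR : IsPullback (fst H G) ((H ◁ i) ≫ μ[H]) (aQ.orbitMap o) (aQ.orbitMap o))
    (a : AlgGrp.Action G X) (φ : X ⟶ Y) (hcart : IsPullback a.act (snd G X) φ φ)
    {R B : Over (Spec (CommRingCat.of k))} (jX : R ⟶ X) (β : R ⟶ B) (j : B ⟶ Y)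
    (hpb : IsPullback jX β φ j) (hβ : LS β.left) [IsOpenImmersion j.left] (N : R ⟶ H)
    (hN : ∀ (T : Over (Spec (CommRingCat.of k))) (x x' : T ⟶ R) (g : T ⟶ G),
      lift g (x' ≫ jX) ≫ a.act = x ≫ jX → (x ≫ N) * (g ≫ i) = x' ≫ N)
    (V : Q.left.Opens) (V' : Scheme.{u}) (f : V' ⟶ V) (s : V' ⟶ H.left)
    (hV : (V : Set Q.left).Nonempty) [IsFinite f] [Etale f] [Surjective f]
    (hsV : s ≫ (aQ.orbitMap o).left = f ≫ V.ι) (b₀ : B.left) :
    ∃ (U : Y.left.Opens) (_ : j.left b₀ ∈ U) (U' : Scheme.{u}) (f' : U' ⟶ ↑U)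
      (_ : IsFinite f') (_ : Etale f') (_ : Surjective f'),
      NonAbH1.HasSectionOver (Over.mk φ.left : Over Y.left) (f' ≫ U.ι) := by
  obtain ⟨q, hq⟩ := exists_q hcart hpb N hN hR.w hβ
  obtain ⟨g, hg⟩ := exists_translate H Q aQ o V hV (q.left b₀)
  let t : Q ⟶ Q := lift (toUnit Q ≫ g) (𝟙 Q) ≫ aQ.act
  change t.left (q.left b₀) ∈ V at hg
  let N' : R ⟶ H := (toUnit R ≫ g) * N
  have hN' : ∀ (T : Over (Spec (CommRingCat.of k))) (x x' : T ⟶ R) (g : T ⟶ G),
      lift g (x' ≫ jX) ≫ a.act = x ≫ jX → (x ≫ N') * (g ≫ i) = x' ≫ N' := by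
    intro T x x' g' h
    have h1 := hN T x x' g' h
    change (x ≫ ((toUnit R ≫ g) * N)) * (g' ≫ i) = x' ≫ ((toUnit R ≫ g) * N)
    rw [comp_mul, comp_mul, _root_.mul_assoc, h1, ← Category.assoc, ← Category.assoc,
      toUnit_unique (x ≫ toUnit R) (x' ≫ toUnit R)]
  have hq' : β ≫ (q ≫ t) = N' ≫ aQ.orbitMap o := by
    rw [← Category.assoc, hq]
    change (N ≫ aQ.orbitMap o) ≫ lift (toUnit Q ≫ g) (𝟙 Q) ≫ aQ.act =
      ((toUnit R ≫ g) * N) ≫ aQ.orbitMap o
    rw [comp_lift_assoc, Category.comp_id, ← Category.assoc,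
      toUnit_unique ((N ≫ aQ.orbitMap o) ≫ toUnit Q) (toUnit R), comp_orbitMap,
      ← lift_mul_act, comp_orbitMap]
  -- the covering
  let qt : B.left ⟶ Q.left := (q ≫ t).left
  let W : B.left.Opens := qt ⁻¹ᵁ V
  have hb₀ : b₀ ∈ W := by
    change (q ≫ t).left b₀ ∈ V
    rw [Over.comp_left, Scheme.Hom.comp_apply]
    exact hg
  let W' := Limits.pullback f (qt ∣_ V)
  let p₁ : W' ⟶ V' := Limits.pullback.fst f (qt ∣_ V)
  let p₂ : W' ⟶ (W : Scheme.{u}) := Limits.pullback.snd f (qt ∣_ V)
  have hcond : p₁ ≫ s ≫ (aQ.orbitMap o).left = p₂ ≫ W.ι ≫ qt := by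
    rw [hsV, ← morphismRestrict_ι, ← Category.assoc, ← Category.assoc, Limits.pullback.condition]
  let T : Over (Spec (CommRingCat.of k)) := Over.mk (p₂ ≫ W.ι ≫ B.hom)
  let b : T ⟶ B := Over.homMk (p₂ ≫ W.ι) (by
    change (p₂ ≫ W.ι) ≫ B.hom = p₂ ≫ W.ι ≫ B.hom
    rw [Category.assoc])
  let γ : T ⟶ H := Over.homMk (p₁ ≫ s) (by
    change (p₁ ≫ s) ≫ H.hom = p₂ ≫ W.ι ≫ B.hom
    rw [← Over.w (aQ.orbitMap o), ← Category.assoc, Category.assoc p₁, hcond, Category.assoc,
      Category.assoc, Over.w (q ≫ t)])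
  have hγ : γ ≫ aQ.orbitMap o = b ≫ (q ≫ t) := by
    ext1
    rw [Over.comp_left, Over.comp_left]
    change (p₁ ≫ s) ≫ (aQ.orbitMap o).left = (p₂ ≫ W.ι) ≫ qt
    rw [Category.assoc, Category.assoc, hcond]
  obtain ⟨σ, hσ⟩ := exists_section hcart hpb N' hN' hR hβ (q ≫ t) hq' b γ hγ
  let jW : (W : Scheme.{u}) ⟶ Y.left := W.ι ≫ j.left
  refine ⟨jW.opensRange, ⟨⟨b₀, hb₀⟩, rfl⟩, W', p₂ ≫ jW.isoOpensRange.hom, inferInstance,
    inferInstance, inferInstance, σ.left, ?_⟩
  change σ.left ≫ φ.left = _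
  rw [Category.assoc, Scheme.Hom.isoOpensRange_hom_ι, ← Over.comp_left, hσ, Over.comp_left]
  exact Category.assoc _ _ _

/-- Over an algebraically closed field k of characteristic zero, let G be an affine group scheme of
finite type over k acting on a k-scheme X, and let φ : X → Y be a G-torsor over Y: the square formed
by the action, the second projection and φ twice is cartesian, and φ acquires sections on the
members of some fpqc covering family of Y. Then φ is locally isotrivial: every point of Y has an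
open neighbourhood U and a finite étale surjective morphism U' → U such that φ acquires a section
over U' → Y. (The source's definition of an isotrivialising morphism asks only finite étale;
surjectivity is added, since an empty U' would make the condition vacuous. The second assertion of
the source, a criterion for a group to be special, is not part of this row.) -/
theorem result
    (k : Type u) [Field k] [IsAlgClosed k] [CharZero k]
    (G X Y : Over (Spec (CommRingCat.of k))) [GrpObj G] [IsAffine G.left] [LocallyOfFiniteType G.hom]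
    (a : AlgGrp.Action G X) (φ : X ⟶ Y)
    (hcart : IsPullback a.act (snd G X) φ φ)
    (hloc : NonAbH1.IsLocallyTrivialFor Scheme.fpqcPrecoverage (Over.mk φ.left : Over Y.left)) :
    ∀ y : ↥Y.left, ∃ (U : Y.left.Opens) (_ : y ∈ U) (U' : Scheme.{u}) (f : U' ⟶ ↑U)
      (_ : IsFinite f) (_ : Etale f) (_ : Surjective f),
      NonAbH1.HasSectionOver (Over.mk φ.left : Over Y.left) (f ≫ U.ι) := by
  intro y
  have hG : IsAffineHom G.hom := inferInstance
  have hGf : Flat G.hom := inferInstance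
  have hGs : Smooth G.hom := Groth.Agent.S0353.result k G
  have h1 : IsAffineHom φ.left := K690.GeomQuot.prop_of_torsor @IsAffineHom hcart hloc hG
  have := Groth.Agent.S18976.flat_descends
  have h2 : Flat φ.left := K690.GeomQuot.prop_of_torsor @Flat hcart hloc hGf
  have h3 : Surjective φ.left := LS.surjective hloc
  obtain ⟨n, i, hi, hic⟩ := exists_embedding k G
  have hmono : Mono i := Over.mono_of_mono_left i
  have hHft := locallyOfFiniteType_GLn k n
  have hHa : IsAffine (sp k (CoordGrp.GLn n k)).left :=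
    inferInstanceAs (IsAffine (Spec (CommRingCat.of (CoordGrp.GLn n k))))
  obtain ⟨Q, aQ, o, hQ, hQc, hfl, hsu, hR⟩ :=
    Groth.Agent.S3279.result k (sp k (CoordGrp.GLn n k)) G i
  -- integrality
  have hdom := isDomain_GLn n k
  have hHi : IsIntegral (sp k (CoordGrp.GLn n k)).left :=
    inferInstanceAs (IsIntegral (Spec (CommRingCat.of (CoordGrp.GLn n k))))
  have hQi : IsIntegral Q.left := by
    have h4 : IrreducibleSpace Q.left :=
      hsu.surj.irreducibleSpace (aQ.orbitMap o).left.continuous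
    have h5 : IsReduced Q.left :=
      K638.RedEt.isReduced_of_flat_surjective (aQ.orbitMap o).left
    exact isIntegral_of_irreducibleSpace_of_isReduced _
  -- smoothness
  have hQn : IsLocallyNoetherian Q.left := LocallyOfFiniteType.isLocallyNoetherian Q.hom
  have hHc : CompactSpace (sp k (CoordGrp.GLn n k)).left := inferInstance
  have hqc : QuasiCompact (aQ.orbitMap o).left := inferInstance
  have hsm : Smooth (aQ.orbitMap o).left := by
    have h6 : Smooth (fst (sp k (CoordGrp.GLn n k)) G).left :=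
      inferInstanceAs (Smooth (Limits.pullback.fst (sp k (CoordGrp.GLn n k)).hom G.hom))
    exact MorphismProperty.of_isPullback_of_descendsAlong (P := @Smooth)
      (Q := @Surjective ⊓ @Flat ⊓ @QuasiCompact) (hR.map (Over.forget _)) ⟨⟨hsu, hfl⟩, hqc⟩ h6
  obtain ⟨V, V', f, s, hV, hf1, hf2, hf3, hsV⟩ := exists_isotrivial_open (aQ.orbitMap o).left
  obtain ⟨B, _, _, R, _, _, β, j, jX, N, hj, ⟨b₀, rfl⟩, hpb, hβ, hN⟩ :=
    exists_equivGLn hcart i y
  exact exists_local k G X Y _ Q i aQ o hR a φ hcart jX (pt β) j hpb hβ N hN V V' f s hV hsV b₀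

end Groth.Agent.S18985
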