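import Groth.Statements.S18986
import Groth.Agent.GIT.K690.SolvSpecial
import Groth.Agent.Sga3B.Parab.OppK172
import Groth.Agent.Sga3B.RG.BrPts
import Groth.Agent.S3266

set_option autoImplicit false
universe u
open CategoryTheory MonoidalCategory CartesianMonoidalCategory MonObj AlgebraicGeometry
open GIT

namespace Groth.Agent.S18986

open Groth.Agent.Sga3B Groth.Agent.Books.AffBridge

/-- Over an algebraically closed field k of characteristic zero, let G be a connected solvable affine
algebraic group (an affine smooth connected group scheme of finite type over k whose groups of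
points are solvable of bounded derived length) acting on a k-scheme X, and let φ : X → Y be a
G-torsor over Y: the square formed by the action, the second projection and φ twice is cartesian,
and φ acquires sections on the members of some fpqc covering family of Y. Then φ is locally trivial:
it acquires sections on the members of some Zariski open covering of Y. -/
theorem result
    (k : Type u) [Field k] [IsAlgClosed k] [CharZero k]
    (G X Y : Over (Spec (CommRingCat.of k))) [GrpObj G] [IsAffine G.left] [LocallyOfFiniteType G.hom]
    [Smooth G.hom] [ConnectedSpace G.left] (hsolv : Red.IsSolvableGrp G)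
    (a : AlgGrp.Action G X) (φ : X ⟶ Y)
    (hcart : IsPullback a.act (snd G X) φ φ)
    (hloc : NonAbH1.IsLocallyTrivialFor Scheme.fpqcPrecoverage (Over.mk φ.left : Over Y.left)) :
    NonAbH1.IsLocallyTrivialFor Scheme.zariskiPrecoverage (Over.mk φ.left : Over Y.left) := by
  obtain ⟨A, _, _, e, he, hft, hred, hdom⟩ := Parab.OppK172.exists_chartK G
  have hA : IsDomain A := hdom inferInstance
  have hs : Group.IsSolvable (WithConv (A →ₐ[k] k)) := by
    obtain ⟨n, hn⟩ := hsolv
    have h1 : Group.IsSolvable (𝟙_ (Over (Spec (CommRingCat.of k))) ⟶ G) := ⟨⟨n, hn _⟩⟩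
    let f : (𝟙_ (Over (Spec (CommRingCat.of k))) ⟶ G) →* WithConv (A →ₐ[k] k) :=
      { toFun := fun g => (RG.BrPts.ptEquiv k A).symm (g ≫ e.hom)
        map_one' := by rw [MonObj.one_comp, map_one]
        map_mul' := fun x y => by rw [MonObj.mul_comp, map_mul] }
    refine Group.isSolvable_of_surjective (f := f) fun x => ?_
    refine ⟨RG.BrPts.ptEquiv k A x ≫ e.inv, ?_⟩
    change (RG.BrPts.ptEquiv k A).symm ((RG.BrPts.ptEquiv k A x ≫ e.inv) ≫ e.hom) = x
    rw [Category.assoc, e.inv_hom_id, Category.comp_id, MulEquiv.symm_apply_apply]
  have hT : HopfRep.IsTrigonalizable k A :=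
    Groth.Agent.S3266.result k A (fun e he => IsIdempotentElem.iff_eq_zero_or_one.1 he)
  have hA' : K690.EqNear.Special (CoactBr.sp k A) := K690.SolvSpecial.special_of_isTrigonalizable hT
  have he' : IsMonHom e.symm.hom := inferInstanceAs (IsMonHom e.inv)
  exact K690.SolvSpecial.special_of_iso e.symm hA' X Y a φ hcart hloc

end Groth.Agent.S18986
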