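import Groth.Statements.S18989
import Groth.Agent.HopfRep.K192.UnipLie

set_option autoImplicit false
universe u
open TensorProduct
open HopfRep

namespace Groth.Agent.S18989

/-- An action of a unipotent group on an affine scheme is determined by its infinitesimal action. Over
an algebraically closed field k of characteristic zero, let A be a finitely generated commutative
Hopf algebra, unipotent in the fixed-vector sense, coacting multiplicatively on two finitely
generated commutative k-algebras R₁ and R₂, and let e : R₁ → R₂ be an algebra isomorphism which
intertwines the two infinitesimal actions: for every ε-derivation ξ : A → k and every f in R₁,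
applying ξ to the A-factor of the coaction of e(f) equals e ⊗ id applied to the same for f. Then e
intertwines the coactions: the coaction of e(f) is (e ⊗ id) of the coaction of f for all f. (With R₁
= R₂ and e the identity this says that two actions with the same infinitesimal action coincide,
which is the printed assertion.) -/
theorem result
    (k : Type u) [Field k] [IsAlgClosed k] [CharZero k]
    (A : Type u) [CommRing A] [HopfAlgebra k A] [Algebra.FiniteType k A] (hU : HopfRep.IsUnipotent k A)
    (R₁ R₂ : Type u) [CommRing R₁] [Algebra k R₁] [Algebra.FiniteType k R₁]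
    [HopfRep.Comod k A R₁] [GLin.IsCoactAlg k A R₁]
    [CommRing R₂] [Algebra k R₂] [Algebra.FiniteType k R₂]
    [HopfRep.Comod k A R₂] [GLin.IsCoactAlg k A R₂]
    (e : R₁ ≃ₐ[k] R₂)
    (h : ∀ (ξ : LieHopf.Lie k A) (f : R₁),
      LinearMap.lTensor R₂ (ξ.toLinearMap.restrictScalars k) (HopfRep.Comod.coact (k := k) (A := A) (e f)) =
        LinearMap.rTensor (LieHopf.K k A) e.toLinearMap
          (LinearMap.lTensor R₁ (ξ.toLinearMap.restrictScalars k) (HopfRep.Comod.coact (k := k) (A := A) f))) :
    ∀ f : R₁, HopfRep.Comod.coact (k := k) (A := A) (e f) =
      LinearMap.rTensor A e.toLinearMap (HopfRep.Comod.coact (k := k) (A := A) f) := by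
  have hs := Groth.Agent.Books.ComodSocle.isUnipotent_iff.1 hU
  intro f
  refine K192.UnipLie.coact_comm_of_F_one hs e.toLinearMap (fun v => ?_) f
  refine Groth.Agent.Books.ComodBasic.ext_slice fun φ => ?_
  rw [Groth.Agent.Books.ComodBasic.slice_rTensor, K192.UnipLie.slice_F_one,
    K192.UnipLie.slice_F_one]
  have h1 := congrArg (TensorProduct.rid k R₂) (h (K192.UnipLie.xi hs φ) v)
  have h2 : ∀ z : R₁ ⊗[k] k, TensorProduct.rid k R₂ (e.toLinearMap.rTensor k z) =
      e.toLinearMap (TensorProduct.rid k R₁ z) := by
    intro z
    induction z with
    | zero => simp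
    | tmul v c => simp
    | add x y hx hy => simp only [map_add, hx, hy]
  exact h1.trans (h2 _)

end Groth.Agent.S18989
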