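import Groth.Statements.S18990
import Groth.Agent.AlbPic.K978.Main

set_option autoImplicit false
universe v u
open CategoryTheory CategoryTheory.Limits AlgebraicGeometry Opposite
open AlbPic

namespace Groth.Agent.S18990

open K978.Main K978.SymPt K978.NormFibre K978.Eval K717.Basic K717.Approx K717.Crv Groth.Agent.Picfga.RegLocus

open Classical in
/-- Let k be an algebraically closed field and F a contravariant functor from k-schemes to abelian
groups such that (a) the map F(Spec k) → F(𝔸¹_k) induced by the structure morphism of the affine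
line is surjective, and (b) for every smooth separated integral curve V of finite type over k, every
n ≥ 0 and every n-th symmetric product of V over k, that is a morphism q from the n-fold fibre power
V ×_k ⋯ ×_k V to a k-scheme Y which is a quotient by the action of the symmetric group permuting the
factors, the image of F(Y) → F(V ×_k ⋯ ×_k V) is exactly the set of elements fixed by every
permutation of the factors. Let C be a smooth proper integral curve over k, S a finite set of
k-points of C with open complement U, and f a nonzero rational function on C taking the value 1 at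
each point of S. Then for every ξ ∈ F(U) the sum Σ_x ord_x(f) · x^*(ξ) over the k-points x of U
vanishes in F(Spec k), where x^* : F(U) → F(Spec k) is induced by the point x. (The affine line
stands for the projective line with one rational point removed, to which it is isomorphic; curves
are taken irreducible.) -/
theorem result
    (k : Type u) [Field k] [IsAlgClosed k]
    (F : (Over (Spec (CommRingCat.of k)))ᵒᵖ ⥤ AddCommGrpCat.{v})
    (ha : Function.Surjective (F.map (Over.homMk
        (Spec.map (CommRingCat.ofHom (algebraMap k (Polynomial k))))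
        (Category.comp_id _) :
        Over.mk (Spec.map (CommRingCat.ofHom (algebraMap k (Polynomial k)))) ⟶
          Over.mk (𝟙 (Spec (CommRingCat.of k)))).op))
    (hb : ∀ (V : Over (Spec (CommRingCat.of k))) [IsIntegral V.left] [Smooth V.hom] [IsSeparated V.hom]
        [QuasiCompact V.hom], topologicalKrullDim V.left = 1 →
      ∀ (n : ℕ) (Y : Scheme.{u}) (q : SymProd.fibPow V.hom n ⟶ Y) (g : Y ⟶ Spec (CommRingCat.of k))
        (h : SymProd.IsSymProd V.hom n q g),
        Set.range (F.map (Over.homMk q h.over :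
            Over.mk (WidePullback.base fun _ : Fin n => V.hom) ⟶ Over.mk g).op) =
          {ξ | ∀ σ : Equiv.Perm (Fin n),
            F.map (Over.homMk (SymProd.permHom V.hom n σ) (SymProd.permHom_base V.hom n σ) :
              Over.mk (WidePullback.base fun _ : Fin n => V.hom) ⟶
                Over.mk (WidePullback.base fun _ : Fin n => V.hom)).op ξ = ξ})
    (X : Scheme.{u}) [IsIntegral X] (c : X ⟶ Spec (CommRingCat.of k)) [IsProper c] [Smooth c]
    (hdim : topologicalKrullDim X = 1)
    (S : Finset (LocSym.Pt c)) (U : X.Opens)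
    (hU : (U : Set X) = (LocSym.Pt.pt '' (S : Set (LocSym.Pt c)))ᶜ)
    (f : X.functionField) (hf0 : f ≠ 0) (hf1 : ∀ x ∈ S, LocSym.HasValueAt x f (1 : k))
    (pt : ∀ x : LocSym.Pt c, x ∉ S → (Over.mk (𝟙 (Spec (CommRingCat.of k))) ⟶ Over.mk (U.ι ≫ c)))
    (hpt : ∀ (x : LocSym.Pt c) (hx : x ∉ S), (pt x hx).left ≫ U.ι = x.1)
    (ξ : F.obj (op (Over.mk (U.ι ≫ c)))) :
    ∑ᶠ x : LocSym.Pt c,
      (if hx : x ∈ S then (0 : F.obj (op (Over.mk (𝟙 (Spec (CommRingCat.of k))))))
        else (x.ord f) • F.map (pt x hx).op ξ) = 0 := by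
  by_cases hconst : ∃ a : k, f = LocSym.constFun c a
  · obtain ⟨a, rfl⟩ := hconst
    refine finsum_eq_zero_of_forall_eq_zero fun x => ?_
    by_cases hx : x ∈ S
    · rw [dif_pos hx]
    · rw [dif_neg hx, ord_const hdim, zero_smul]
  have hnc : ∀ a : k, f ≠ LocSym.constFun c a := fun a h => hconst ⟨a, h⟩
  have hf1' : 1 - f ≠ 0 := fun h0 => hnc 1 (by rw [map_one]; exact (sub_eq_zero.1 h0).symm)
  let h : X.functionField := (1 - f)⁻¹
  have hh0 : h ≠ 0 := inv_ne_zero hf1'
  have hfh : f = (h - LocSym.constFun c 1) / h := by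
    rw [map_one]
    change f = ((1 - f)⁻¹ - 1) / (1 - f)⁻¹
    field_simp
    ring
  have hhnc : ∀ a : k, h ≠ LocSym.constFun c a := by
    intro a ha
    apply hnc (1 - a⁻¹)
    have : 1 - f = LocSym.constFun c a⁻¹ := by
      rw [map_inv₀, ← ha, inv_inv]
    rw [map_sub, map_one, ← this]
    ring
  have hpole := exists_pole_of_not_const hdim hhnc
  have hh1 : h - LocSym.constFun c 1 ≠ 0 := sub_const_ne_zero hdim hpole 1
  have hS : ∀ x ∈ S, x.pt ∉ reg h := by
    intro x hx
    rw [mem_reg_iff hdim]
    intro hle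
    have h1 := (hasValueAt_iff hdim x f 1).1 (hf1 x hx)
    have h2 : val c hdim x (1 - f) < 1 := by
      rw [map_one] at h1
      rwa [Valuation.map_sub_swap]
    have h3 : val c hdim x (1 - f) * val c hdim x h = 1 := by
      rw [← map_mul, mul_inv_cancel₀ hf1', map_one]
    have h4 : val c hdim x (1 - f) * val c hdim x h ≤ val c hdim x (1 - f) :=
      (mul_le_mul' le_rfl hle).trans_eq (mul_one _)
    rw [h3] at h4
    exact absurd h2 (not_lt.2 h4)
  have hVU : reg h ≤ U := by
    intro x hx
    change x ∈ (U : Set X)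
    rw [hU]
    rintro ⟨y, hy, rfl⟩
    exact hS y hy hx
  obtain ⟨n, Y, q, g, hq, s, hs, hsp⟩ := exists_symPt hdim hpole
  -- the objects over `Spec k`
  let VO : Over (Spec (CommRingCat.of k)) := Over.mk ((reg h).ι ≫ c)
  have hne : Nonempty (reg h : Scheme.{u}) := ⟨⟨_, genericPoint_mem_reg h⟩⟩
  have hint : IsIntegral VO.left := inferInstanceAs (IsIntegral (reg h : Scheme.{u}))
  have hsm : Smooth VO.hom := inferInstanceAs (Smooth ((reg h).ι ≫ c))
  have hsep : IsSeparated VO.hom := inferInstanceAs (IsSeparated ((reg h).ι ≫ c))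
  have hqc : QuasiCompact VO.hom := by
    have hc : QuasiCompact (reg h).ι := by
      have hLN : IsLocallyNoetherian X := LocallyOfFiniteType.isLocallyNoetherian c
      infer_instance
    exact inferInstanceAs (QuasiCompact ((reg h).ι ≫ c))
  have hb1 := hb VO (krullDim_reg hdim hpole) n Y q g hq
  let iO : VO ⟶ Over.mk (U.ι ≫ c) := Over.homMk (X.homOfLE hVU) (by
    change X.homOfLE hVU ≫ U.ι ≫ c = (reg h).ι ≫ c
    rw [← Category.assoc, Scheme.homOfLE_ι])
  let PO : Over (Spec (CommRingCat.of k)) := Over.mk (WidePullback.base fun _ : Fin n => VO.hom)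
  let prO : Fin n → (PO ⟶ VO) := fun i => Over.homMk (WidePullback.π (fun _ : Fin n => VO.hom) i)
    (WidePullback.π_arrow (fun _ : Fin n => VO.hom) i)
  let ξV := F.map iO.op ξ
  let ζ : F.obj (op PO) := ∑ i, F.map (prO i).op ξV
  have hζ : ζ ∈ {ξ | ∀ σ : Equiv.Perm (Fin n),
      F.map (Over.homMk (SymProd.permHom VO.hom n σ) (SymProd.permHom_base VO.hom n σ) :
        PO ⟶ PO).op ξ = ξ} := by
    intro σ
    change F.map _ (∑ i, F.map (prO i).op ξV) = ∑ i, F.map (prO i).op ξV
    rw [map_sum, ← Equiv.sum_comp σ.symm (fun i => F.map (prO i).op ξV)]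
    refine Finset.sum_congr rfl fun i _ => ?_
    rw [← AddCommGrpCat.comp_apply, ← F.map_comp, ← op_comp]
    have h1 : (Over.homMk (SymProd.permHom VO.hom n σ) (SymProd.permHom_base VO.hom n σ) : PO ⟶ PO) ≫
        prO i = prO (σ.symm i) := by
      apply Over.OverMorphism.ext
      exact SymProd.permHom_π VO.hom n σ i
    rw [h1]
  rw [← hb1] at hζ
  obtain ⟨η, hη⟩ := hζ
  let A1 : Over (Spec (CommRingCat.of k)) :=
    Over.mk (Spec.map (CommRingCat.ofHom (algebraMap k (Polynomial k))))
  let sO : A1 ⟶ Over.mk g := Over.homMk s hs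
  obtain ⟨η', hη'⟩ := ha (F.map sO.op η)
  -- the values over the fibres
  let A : LocSym.Pt c → F.obj (op (Over.mk (𝟙 (Spec (CommRingCat.of k))))) :=
    fun x => if hx : x ∈ S then 0 else F.map (pt x hx).op ξ
  have hkey : ∀ a : k, ∑ᶠ y : LocSym.Pt c, (mult hdim h a y : ℤ) • A y = η' := by
    intro a
    obtain ⟨x, hx, hm, hp⟩ := hsp a
    rw [← sum_eq_finsum x (mult hdim h a) hm A]
    let pa : Over.mk (𝟙 (Spec (CommRingCat.of k))) ⟶ A1 :=
      Over.homMk (Spec.map (CommRingCat.ofHom (Polynomial.evalRingHom a))) (by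
        change Spec.map _ ≫ Spec.map _ = 𝟙 _
        rw [← Spec.map_comp, ← Spec.map_id]
        congr 1
        ext1
        apply RingHom.ext
        intro r
        exact Polynomial.eval_C)
    let powO : Over.mk (𝟙 (Spec (CommRingCat.of k))) ⟶ PO :=
      Over.homMk (powPt (reg h) x hx) (powPt_base (reg h) x hx)
    let qO : PO ⟶ Over.mk g := Over.homMk q hq.over
    have e1 : pa ≫ sO = powO ≫ qO := by
      apply Over.OverMorphism.ext
      exact hp
    have e2 : F.map pa.op (F.map sO.op η) = η' := by
      rw [← hη', ← AddCommGrpCat.comp_apply, ← F.map_comp, ← op_comp]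
      have h1 : pa ≫ (Over.homMk (Spec.map (CommRingCat.ofHom (algebraMap k (Polynomial k))))
          (Category.comp_id _) : A1 ⟶ Over.mk (𝟙 (Spec (CommRingCat.of k)))) = 𝟙 _ := by
        apply Over.OverMorphism.ext
        exact Over.w pa
      rw [h1, op_id, F.map_id]
      rfl
    have e3 : F.map powO.op ζ = η' := by
      rw [← hη, ← AddCommGrpCat.comp_apply, ← F.map_comp, ← op_comp, ← e2, ← AddCommGrpCat.comp_apply,
        ← F.map_comp, ← op_comp, e1]
    rw [← e3]
    change _ = F.map powO.op (∑ i, F.map (prO i).op ξV)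
    rw [map_sum]
    refine Finset.sum_congr rfl fun i _ => ?_
    have hxS : x i ∉ S := fun h1 => hS _ h1 (hx i)
    have hA : A (x i) = F.map (pt (x i) hxS).op ξ := dif_neg hxS
    rw [hA]
    change _ = F.map powO.op (F.map (prO i).op (F.map iO.op ξ))
    rw [← AddCommGrpCat.comp_apply, ← AddCommGrpCat.comp_apply, ← F.map_comp, ← F.map_comp, ← op_comp,
      ← op_comp]
    have h1 : (powO ≫ prO i) ≫ iO = pt (x i) hxS := by
      apply Over.OverMorphism.ext
      rw [← cancel_mono U.ι, hpt]
      change ((powPt (reg h) x hx ≫ WidePullback.π (fun _ : Fin n => (reg h).ι ≫ c) i) ≫ X.homOfLE hVU) ≫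
        U.ι = _
      rw [Category.assoc, Scheme.homOfLE_ι, powPt_π, toV_ι]
    rw [← h1, Category.assoc]
  have hordf : ∀ y : LocSym.Pt c, y.ord f = (mult hdim h 1 y : ℤ) - (mult hdim h 0 y : ℤ) := by
    intro y
    rw [mult_apply, mult_apply, map_zero, sub_zero]
    have h1 : y.ord f = y.ord (h - LocSym.constFun c 1) - y.ord h := by
      conv_lhs => rw [hfh]
      exact ord_div hdim y hh1 hh0
    have h2 : y.ord h < 0 → y.ord (h - LocSym.constFun c 1) = y.ord h :=
      fun h2 => ord_sub_const_of_neg hdim y h2 1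
    have h3 : y.ord (h - LocSym.constFun c 1) < 0 → y.ord h < 0 := ord_sub_const hdim 1 y
    omega
  have hfin : ∀ a : k, (Function.support fun y : LocSym.Pt c => (mult hdim h a y : ℤ) • A y).Finite := by
    intro a
    refine (finite_support_mult hdim h a).subset ?_
    intro y hy h0
    exact hy (by
      change (mult hdim h a y : ℤ) • A y = 0
      rw [show (mult hdim h a y : ℤ) = 0 from h0, zero_smul])
  calc _ = ∑ᶠ y : LocSym.Pt c, ((mult hdim h 1 y : ℤ) • A y - (mult hdim h 0 y : ℤ) • A y) := by
        refine finsum_congr fun y => ?_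
        rw [← sub_smul, ← hordf]
        by_cases hy : y ∈ S
        · have : A y = 0 := dif_pos hy
          rw [dif_pos hy, this, smul_zero]
        · have : A y = F.map (pt y hy).op ξ := dif_neg hy
          rw [dif_neg hy, this]
    _ = 0 := by
        rw [finsum_sub_distrib (hfin 1) (hfin 0), hkey, hkey, sub_self]

end Groth.Agent.S18990
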