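import Groth.Statements.S18991
import Groth.Agent.AbVar.K528.LineGrp
import Groth.Agent.Etcore.SmoothRed

set_option autoImplicit false
universe u
open CategoryTheory MonoidalCategory CartesianMonoidalCategory MonObj GrpObj AlgebraicGeometry CategoryTheory.Limits
open AbVar

namespace Groth.Agent.S18991

open K528.LineConst

/-- Two morphisms over `S` from a reduced to a separated scheme agreeing on a jointly surjective family are equal. -/
theorem eq_of_points {S : Scheme.{u}} {X Y : Over S} [IsReduced X.left] [IsSeparated Y.hom] (f g : X ⟶ Y)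
    (h : ∀ z : X.left, ∃ (Z : Over S) (p : Z ⟶ X), z ∈ Set.range p.left ∧ p ≫ f = p ≫ g) : f = g := by
  ext1
  have hs : Surjective (equalizer.ι f.left g.left) := by
    constructor
    intro z
    obtain ⟨Z, p, ⟨x, hx⟩, hp⟩ := h z
    refine ⟨equalizer.lift p.left (congrArg CommaMorphism.left hp) x, ?_⟩
    rw [← Scheme.Hom.comp_apply, equalizer.lift_ι, hx]
  exact ext_of_isDominant_of_isSeparated Y.hom ((Over.w f).trans (Over.w g).symm) (equalizer.ι f.left g.left)
    (equalizer.condition _ _)

theorem exists_geom_pt {X : Scheme.{u}} (z : X) : ∃ (Ω : Type u) (_ : Field Ω) (_ : IsAlgClosed Ω)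
    (t : Spec (CommRingCat.of Ω) ⟶ X), z ∈ Set.range t := by
  obtain ⟨x⟩ : Nonempty ↥(Spec (CommRingCat.of (AlgebraicClosure (X.residueField z)))) := inferInstance
  refine ⟨AlgebraicClosure (X.residueField z), inferInstance, inferInstance,
    Spec.map (CommRingCat.ofHom (algebraMap (X.residueField z) _)) ≫ X.fromSpecResidueField z, x, ?_⟩
  rw [Scheme.Hom.comp_apply]
  exact Scheme.fromSpecResidueField_apply _ _

section

variable {k : Type u} [Field k] (n : ℕ)

/-- Affine space of the statement. -/
noncomputable abbrev Pn (k : Type u) [Field k] (n : ℕ) : Over (Spec (CommRingCat.of k)) :=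
  Over.mk (Spec.map (CommRingCat.ofHom (algebraMap k (MvPolynomial (Fin n) k))))

variable {Ω : Type u} [Field Ω] [Algebra k Ω]

/-- The structure morphism of `Spec Ω`. -/
noncomputable abbrev jj (k Ω : Type u) [Field k] [Field Ω] [Algebra k Ω] :
    Spec (CommRingCat.of Ω) ⟶ Spec (CommRingCat.of k) := Spec.map (CommRingCat.ofHom (algebraMap k Ω))

/-- The line through `0` and `c` in affine space. -/
noncomputable def line (c : Fin n → Ω) : Lk (jj k Ω) ⟶ Pn k n :=
  Over.homMk (Spec.map (CommRingCat.ofHom (MvPolynomial.eval₂Hom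
    ((MvPolynomial.C (σ := PUnit.{u+1})).comp (algebraMap k Ω))
    (fun i => MvPolynomial.C (c i) * MvPolynomial.X PUnit.unit)))) (by
      change Spec.map _ ≫ Spec.map _ = Spec.map _ ≫ Spec.map _
      rw [← Spec.map_comp, ← Spec.map_comp, ← CommRingCat.ofHom_comp, ← CommRingCat.ofHom_comp]
      congr 2
      ext x
      simp [MvPolynomial.algebraMap_eq])

/-- The origin. -/
noncomputable def origin : 𝟙_ (Over (Spec (CommRingCat.of k))) ⟶ Pn k n :=
  Over.homMk (Spec.map (CommRingCat.ofHom (MvPolynomial.aeval (R := k) (fun _ : Fin n => (0 : k))).toRingHom)) (by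
      change Spec.map _ ≫ Spec.map _ = _
      rw [← Spec.map_comp, ← CommRingCat.ofHom_comp]
      refine (congrArg Spec.map (?_ : _ = 𝟙 (CommRingCat.of k))).trans (Spec.map_id _)
      ext x
      simp [MvPolynomial.algebraMap_eq])

theorem v_zero_line (c : Fin n → Ω) : v (jj k Ω) 0 ≫ line n c = toUnit _ ≫ origin n := by
  ext1
  change pnt 0 ≫ Spec.map _ = (toUnit (Ωk (jj k Ω))).left ≫ Spec.map _
  have h1 : (toUnit (Ωk (jj k Ω))).left = jj k Ω := rfl
  rw [h1, pnt, ← Spec.map_comp, ← Spec.map_comp, ← CommRingCat.ofHom_comp, ← CommRingCat.ofHom_comp]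
  congr 2
  apply MvPolynomial.ringHom_ext
  · intro r
    simp
  · intro i
    simp

/-- Every `Ω`-point of affine space is on a line through the origin. -/
theorem exists_line (p : Ωk (jj k Ω) ⟶ Pn k n) : ∃ c : Fin n → Ω, v (jj k Ω) 1 ≫ line n c = p := by
  obtain ⟨ρ, hρ⟩ : ∃ ρ : CommRingCat.of (MvPolynomial (Fin n) k) ⟶ CommRingCat.of Ω, Spec.map ρ = p.left :=
    ⟨Spec.preimage _, Spec.map_preimage _⟩
  refine ⟨fun i => ρ.hom (MvPolynomial.X i), ?_⟩
  ext1
  have hw : Spec.map ρ ≫ Spec.map (CommRingCat.ofHom (algebraMap k (MvPolynomial (Fin n) k))) = jj k Ω := by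
    rw [hρ]
    exact Over.w p
  rw [← Spec.map_comp] at hw
  have hw' := congrArg CommRingCat.Hom.hom (Spec.map_injective hw)
  rw [← hρ]
  change pnt 1 ≫ Spec.map _ = Spec.map ρ
  rw [pnt, ← Spec.map_comp, ← CommRingCat.ofHom_comp]
  congr 1
  ext1
  apply MvPolynomial.ringHom_ext
  · intro r
    have := DFunLike.congr_fun hw' r
    simp only [CommRingCat.hom_comp, RingHom.comp_apply, CommRingCat.hom_ofHom] at this
    rw [MvPolynomial.algebraMap_eq] at this
    simp [this]
  · intro i
    simp

end

/-- In the form of the factorization it amounts to, let k be a perfect field, X a reduced separated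
k-scheme of finite type, n ≥ 0 and G a large group over k, that is a commutative separated k-group
scheme locally of finite type together with a connected open subgroup scheme G⁰ (its neutral
component) which is semiabelian: G⁰ has a closed subgroup scheme T that is a torus and is the kernel
of a flat surjective homomorphism from G⁰ onto an abelian variety A (a proper smooth connected
k-group scheme). Then every k-morphism X ×_k 𝔸ⁿ_k → G factors through the first projection X ×_k
𝔸ⁿ_k → X. (So a k-morphism X → A_X that is universal for morphisms from X to large groups remains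
universal after composing with the projection: the Albanese scheme of X ×_k 𝔸ⁿ_k is that of X via
the projection.) -/
theorem result (k : Type u) [Field k] [PerfectField k]
    (X : Over (Spec (CommRingCat.of k))) [IsReduced X.left] [IsSeparated X.hom] [QuasiCompact X.hom]
    [LocallyOfFiniteType X.hom] (n : ℕ)
    (G : Over (Spec (CommRingCat.of k))) [GrpObj G] [IsCommMonObj G] [IsSeparated G.hom] [LocallyOfFiniteType G.hom]
    (G0 : Over (Spec (CommRingCat.of k))) [GrpObj G0] (e : G0 ⟶ G) [IsMonHom e] [IsOpenImmersion e.left]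
    [ConnectedSpace ↥G0.left]
    (T : Over (Spec (CommRingCat.of k))) [GrpObj T] (i : T ⟶ G0) [IsMonHom i] [IsClosedImmersion i.left]
    (hT : Red.IsTorus T)
    (A : Over (Spec (CommRingCat.of k))) [GrpObj A] [IsProper A.hom] [Smooth A.hom] [ConnectedSpace ↥A.left]
    (q : G0 ⟶ A) [IsMonHom q] [Surjective q.left] [Flat q.left] (hker : AlgGrp.IsKernel i q)
    (φ : X ⊗ Over.mk (Spec.map (CommRingCat.ofHom (algebraMap k (MvPolynomial (Fin n) k)))) ⟶ G) :
    ∃ ψ : X ⟶ G, φ = fst X (Over.mk (Spec.map (CommRingCat.ofHom (algebraMap k (MvPolynomial (Fin n) k))))) ≫ ψ := by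
  have h1 : IsReduced (X ⊗ Pn k n).left := by
    have h2 : Smooth (Pn k n).hom := by
      change Smooth (Spec.map (CommRingCat.ofHom (algebraMap k (MvPolynomial (Fin n) k))))
      rw [HasRingHomProperty.Spec_iff (P := @Smooth)]
      simp only [CommRingCat.hom_ofHom, RingHom.smooth_algebraMap]
      exact ⟨inferInstance, inferInstance⟩
    exact Groth.Agent.Etcore.SmoothRed.isReduced_of_smooth (pullback.fst X.hom (Pn k n).hom)
  refine ⟨lift (𝟙 X) (toUnit X ≫ origin n) ≫ φ, eq_of_points _ _ fun z => ?_⟩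
  obtain ⟨Ω, _, _, t, ht⟩ := exists_geom_pt z
  let := (Spec.preimage (t ≫ (X ⊗ Pn k n).hom)).hom.toAlgebra
  have hj : t ≫ (X ⊗ Pn k n).hom = jj k Ω := (Spec.map_preimage _).symm
  let t' : Ωk (jj k Ω) ⟶ X ⊗ Pn k n := Over.homMk t hj
  obtain ⟨c, hc⟩ := exists_line n (t' ≫ snd _ _)
  let h : Lk (jj k Ω) ⟶ X ⊗ Pn k n := lift (pr (jj k Ω) ≫ t' ≫ fst _ _) (line n c)
  have e1 : v (jj k Ω) 1 ≫ h = t' := by
    rw [comp_lift, hc, v_pr_assoc, ← comp_lift, lift_fst_snd, Category.comp_id]
  have e0 : v (jj k Ω) 0 ≫ h = t' ≫ fst _ _ ≫ lift (𝟙 X) (toUnit X ≫ origin n) := by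
    rw [comp_lift, v_zero_line, v_pr_assoc]
    ext
    · simp
    · simp
  refine ⟨_, t', ht, ?_⟩
  have : Mono i := (Over.forget _).mono_of_mono_map (show Mono ((Over.forget _).map i) from
    (inferInstance : Mono i.left))
  have hconst := large_const (jj k Ω) G G0 T A e i hT q hker (h ≫ φ)
  calc t' ≫ φ = v (jj k Ω) 1 ≫ h ≫ φ := by rw [reassoc_of% e1]
    _ = v (jj k Ω) 0 ≫ h ≫ φ := by
      rw [hconst, v_pr_assoc]
      rw [← hconst]
    _ = t' ≫ fst _ _ ≫ lift (𝟙 X) (toUnit X ≫ origin n) ≫ φ := by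
      rw [reassoc_of% e0]

end Groth.Agent.S18991
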