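import Groth.Statements.S18993
import Groth.Agent.PicF.K718.Core

set_option autoImplicit false
universe u
open CategoryTheory MonoidalCategory CartesianMonoidalCategory MonObj GrpObj AlgebraicGeometry CategoryTheory.Limits
open PicF

namespace Groth.Agent.S18993

/-- Let k be an algebraically closed field of characteristic zero, π : X̄ → Spec k a smooth proper
integral k-scheme, i : Y → X̄ a reduced closed subscheme having c connected components, and
G_{m,(X̄,Y)} the sheaf on the big fppf site of X̄ of units congruent to 1 along Y. Suppose the first
higher direct image R¹π_*G_{m,(X̄,Y)} on the big fppf site of Spec k (the fppf sheaf attached to the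
relative Picard functor of the pair, T ↦ Pic(X̄_T, Y_T)) is the sheaf of points of a commutative
k-group scheme P locally of finite type. Then the neutral component of P, namely a connected open
subgroup scheme P⁰ → P, is semi-abelian: it contains a closed subgroup scheme T which is a split
torus of rank c − 1 and is the kernel of a flat surjective homomorphism from P⁰ onto an abelian
variety (a proper smooth connected k-group scheme). (The published statement takes X̄ smooth
projective and Y a reduced divisor with normal crossings and smooth components; this row takes X̄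
smooth, proper and integral and Y any reduced closed subscheme, on which the argument for the
asserted part does not depend. In the published setting one moreover identifies the torus with the
cokernel of π_*G_{m,X̄} → (π|_Y)_*G_{m,Y}, whose character group has rank c − 1, and the abelian
quotient with the identity component of the kernel of Pic⁰(X̄) → ⊕_j Pic⁰(Y_j), the Y_j being the
components of Y; those two identifications are not asserted here.) -/
theorem result
    (k : Type u) [Field k] [IsAlgClosed k] [CharZero k]
    {Xb Y : Scheme.{u}} (π : Xb ⟶ Spec (CommRingCat.of k)) [IsProper π] [Smooth π] [IsIntegral Xb]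
    (i : Y ⟶ Xb) [IsClosedImmersion i] [IsReduced Y]
    (c : ℕ) (hc : Nat.card (_root_.ConnectedComponents ↥Y) = c)
    (P : Over (Spec (CommRingCat.of k))) [GrpObj P] [IsCommMonObj P] [LocallyOfFiniteType P.hom]
    (eP : CGrpSh.pts Scheme.fppfPrecoverage P ≅ (EtFppf.RpushBig π 1).obj (EtDl.GmMod i)) :
    ∃ (P0 : Over (Spec (CommRingCat.of k))) (_ : GrpObj P0) (e : P0 ⟶ P) (_ : IsMonHom e)
      (T : Over (Spec (CommRingCat.of k))) (_ : GrpObj T) (j : T ⟶ P0) (_ : IsMonHom j)
      (A : Over (Spec (CommRingCat.of k))) (_ : GrpObj A) (q : P0 ⟶ A) (_ : IsMonHom q),
      IsOpenImmersion e.left ∧ ConnectedSpace ↥P0.left ∧ IsClosedImmersion j.left ∧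
      Red.IsSplitTorusWith (Fin (c - 1) → ℤ) T ∧
      IsProper A.hom ∧ Smooth A.hom ∧ ConnectedSpace ↥A.left ∧
      Surjective q.left ∧ Flat q.left ∧ AlgGrp.IsKernel j q := by
  by_cases hY : Nonempty Y
  · exact Groth.Agent.PicF.K718.core P eP c hc
  · have hY' : IsEmpty Y := not_nonempty_iff.1 hY
    obtain ⟨s, hs⟩ := Groth.Agent.Etdl.H494.Gamma.exists_section π
    have hcl : IsClosedImmersion s := by
      have h1 : IsClosedImmersion (s ≫ π) := by
        rw [hs]
        infer_instance
      exact IsClosedImmersion.of_comp s π
    obtain ⟨e⟩ := Groth.Agent.PicF.K718.nonempty_iso_rigid π s hs i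
    have h1 : Nat.card (_root_.ConnectedComponents ↥(Spec (CommRingCat.of k))) = 1 := by
      have : Subsingleton (_root_.ConnectedComponents ↥(Spec (CommRingCat.of k))) := inferInstance
      have : Nonempty (_root_.ConnectedComponents ↥(Spec (CommRingCat.of k))) := inferInstance
      exact Nat.card_of_subsingleton (Classical.arbitrary _)
    have h2 : IsEmpty (_root_.ConnectedComponents ↥Y) :=
      ⟨fun x => by
        obtain ⟨y, -⟩ := _root_.ConnectedComponents.surjective_coe x
        exact hY'.false y⟩
    have h3 : c = 0 := by
      rw [← hc]
      exact Nat.card_of_isEmpty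
    subst h3
    exact Groth.Agent.PicF.K718.core P (eP ≪≫ e) 1 h1

end Groth.Agent.S18993
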