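import Groth.Statements.S18994
import Mathlib.Tactic
import Mathlib.RingTheory.MvPolynomial.Homogeneous
import Mathlib.LinearAlgebra.LinearIndependent.Basic

set_option autoImplicit false
universe u
open TernForm

namespace Groth.Agent.S18994


open MvPolynomial

theorem eq_single {s : Fin 3 →₀ ℕ} {j : Fin 3} (hs : s.degree = 2) (hj : 2 ≤ s j) : s = Finsupp.single j 2 := by
  have h1 : Finsupp.single j 2 ≤ s := by
    rw [Finsupp.single_le_iff]; exact hj
  obtain ⟨t, ht⟩ := exists_add_of_le h1
  have h2 : t.degree = 0 := by
    have := congrArg Finsupp.degree ht
    rw [hs, map_add, Finsupp.degree_single] at this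
    omega
  rw [Finsupp.degree_eq_zero_iff] at h2
  rw [ht, h2, add_zero]

theorem key {R : Type u} [CommRing R] (j : Fin 3) (q : MvPolynomial (Fin 3) R)
    (hq : q.IsHomogeneous 2) (hqj : IsUnit (q.coeff (Finsupp.single j 2))) (p : MvPolynomial (Fin 3) R)
    (hp : ∀ m : Fin 3 →₀ ℕ, 2 ≤ m j → (q * p).coeff m = 0) : p = 0 := by
  classical
  by_contra hne
  obtain ⟨m, hm, hmax⟩ := Finset.exists_max_image p.support (fun m => m j)
    (Finset.nonempty_iff_ne_empty.mpr (by rwa [Ne, MvPolynomial.support_eq_empty]))
  have h1 := hp (m + Finsupp.single j 2) (by simp)
  rw [MvPolynomial.coeff_mul] at h1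
  rw [Finset.sum_eq_single (Finsupp.single j 2, m)] at h1
  · rw [MvPolynomial.mem_support_iff] at hm
    exact hm ((hqj.mul_right_eq_zero).mp h1)
  · rintro ⟨s, t⟩ hst hne'
    rw [Finset.mem_antidiagonal] at hst
    simp only at hst ⊢
    by_contra hcon
    have hs : q.coeff s ≠ 0 := left_ne_zero_of_mul hcon
    have ht : p.coeff t ≠ 0 := right_ne_zero_of_mul hcon
    have hsd : s.degree = 2 := by
      by_contra h2
      exact hs (hq.coeff_eq_zero h2)
    have h3 := hmax t (by rwa [MvPolynomial.mem_support_iff])
    have h4 : s j + t j = m j + 2 := by
      have := DFunLike.congr_fun hst j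
      simpa using this
    have h5 : s = Finsupp.single j 2 := eq_single hsd (by omega)
    subst h5
    have h6 : t = m := by
      rw [add_comm m] at hst
      exact add_left_cancel hst
    subst h6
    exact hne' rfl
  · intro h2
    exact absurd (Finset.mem_antidiagonal.mpr (add_comm _ _)) h2


/-- Let R be a commutative ring, j ∈ {0, 1, 2}, q a homogeneous polynomial of degree 2 in R[X_0, X_1,
X_2] whose coefficient of X_j^2 is a unit, and n a natural number. Then the family consisting of the
monomials of degree n not divisible by X_j^2 (exponent of X_j at most 1) together with the products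
q · m, m running over the monomials of degree n − 2 (indexed by exponents m with |m| + 2 = n), is
linearly independent over R and spans exactly the homogeneous polynomials of degree n; in particular
it is a basis of that module and the two parts are disjoint. (The published lemma is stated over a
field with the coefficient nonzero, the special case of a field R here; the version over a ring with
the coefficient invertible is what its change-of-basis argument gives — ordering monomials by
decreasing exponent of X_j makes the matrix triangular with diagonal entries 1 and that coefficient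
— and is the form used to trivialise the bundle of degree-n forms modulo multiples of q over the
locus where the coefficient is invertible. The published lemma also allows an arbitrary monomial of
degree 2 in place of X_j^2; for the mixed monomial X_1X_2, the form q = X_1^2 + X_1X_2 + X_2^2 and n
= 3 give the linear relation q·X_1 − q·X_2 = X_1^3 − X_2^3 among members of the family, so the claim
fails there and is stated here for the square of a variable.) -/
theorem result
    (R : Type u) [CommRing R] (j : Fin 3) (q : MvPolynomial (Fin 3) R)
    (hq : q.IsHomogeneous 2) (hqj : IsUnit (q.coeff (Finsupp.single j 2))) (n : ℕ) :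
    LinearIndependent R (Sum.elim (fun m : {m : Fin 3 →₀ ℕ // m.degree = n ∧ m j < 2} => MvPolynomial.monomial m.1 (1 : R)) (fun m : {m : Fin 3 →₀ ℕ // m.degree + 2 = n} => q * MvPolynomial.monomial m.1 (1 : R))) ∧
      Submodule.span R (Set.range (Sum.elim (fun m : {m : Fin 3 →₀ ℕ // m.degree = n ∧ m j < 2} => MvPolynomial.monomial m.1 (1 : R)) (fun m : {m : Fin 3 →₀ ℕ // m.degree + 2 = n} => q * MvPolynomial.monomial m.1 (1 : R)))) = MvPolynomial.homogeneousSubmodule (Fin 3) R n := by
  classical
  set f : {m : Fin 3 →₀ ℕ // m.degree = n ∧ m j < 2} → MvPolynomial (Fin 3) R :=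
    fun m => MvPolynomial.monomial m.1 (1 : R) with hf
  set h : {m : Fin 3 →₀ ℕ // m.degree + 2 = n} → MvPolynomial (Fin 3) R :=
    fun m => MvPolynomial.monomial m.1 (1 : R) with hh
  have hg : (fun m : {m : Fin 3 →₀ ℕ // m.degree + 2 = n} => q * MvPolynomial.monomial m.1 (1 : R)) =
      (LinearMap.mulLeft R q) ∘ h := rfl
  rw [hg]
  constructor
  · refine LinearIndependent.sum_type ?_ ?_ ?_
    · have := (MvPolynomial.basisMonomials (Fin 3) R).linearIndependent.comp
        (fun m : {m : Fin 3 →₀ ℕ // m.degree = n ∧ m j < 2} => m.1) Subtype.val_injective
      simpa [Function.comp_def, MvPolynomial.coe_basisMonomials] using this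
    · have h1 := (MvPolynomial.basisMonomials (Fin 3) R).linearIndependent.comp
        (fun m : {m : Fin 3 →₀ ℕ // m.degree + 2 = n} => m.1) Subtype.val_injective
      have h2 : LinearIndependent R h := by
        simpa [Function.comp_def, MvPolynomial.coe_basisMonomials] using h1
      refine h2.map' _ ?_
      rw [LinearMap.ker_eq_bot']
      intro p hp
      refine key j q hq hqj p fun m _ => ?_
      have : q * p = 0 := hp
      rw [this, MvPolynomial.coeff_zero]
    · rw [Submodule.disjoint_def]
      intro x hx1 hx2
      rw [Set.range_comp, ← Submodule.map_span] at hx2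
      obtain ⟨p, _, rfl⟩ := hx2
      have hle : Submodule.span R (Set.range f) ≤
          ⨅ m : {m : Fin 3 →₀ ℕ // 2 ≤ m j}, LinearMap.ker (MvPolynomial.lcoeff R m.1) := by
        rw [Submodule.span_le]
        rintro _ ⟨m, rfl⟩
        simp only [SetLike.mem_coe, Submodule.mem_iInf, LinearMap.mem_ker, MvPolynomial.lcoeff_apply]
        intro m'
        simp only [hf]
        rw [MvPolynomial.coeff_monomial, if_neg]
        intro h2
        have h3 := m.2.2
        have h4 := m'.2
        rw [h2] at h3
        omega
      have h1 := hle hx1
      simp only [Submodule.mem_iInf, LinearMap.mem_ker, MvPolynomial.lcoeff_apply] at h1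
      have h2 : p = 0 := key j q hq hqj p fun m hm => h1 ⟨m, hm⟩
      rw [h2, map_zero]
  · apply le_antisymm
    · rw [Submodule.span_le]
      rintro _ ⟨(m | m), rfl⟩
      · exact MvPolynomial.isHomogeneous_monomial _ m.2.1
      · have h1 := hq.mul (MvPolynomial.isHomogeneous_monomial (d := m.1) (1 : R) rfl)
        rw [add_comm 2, m.2] at h1
        exact h1
    · have hmono : ∀ (d : ℕ) (m : Fin 3 →₀ ℕ), m.degree = n → m j = d →
          MvPolynomial.monomial m (1 : R) ∈ Submodule.span R (Set.range (Sum.elim f ((LinearMap.mulLeft R q) ∘ h))) := by
        intro d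
        induction d using Nat.strong_induction_on with
        | _ d ih =>
        intro m hm hmd
        by_cases h2 : m j < 2
        · exact Submodule.subset_span ⟨Sum.inl ⟨m, hm, h2⟩, rfl⟩
        · have h1 : Finsupp.single j 2 ≤ m := by
            rw [Finsupp.single_le_iff]; omega
          obtain ⟨m', hm'⟩ := exists_add_of_le h1
          have hm'd : m'.degree + 2 = n := by
            rw [← hm, hm', map_add, Finsupp.degree_single, add_comm]
          have h3 : q * MvPolynomial.monomial m' (1 : R) ∈
              Submodule.span R (Set.range (Sum.elim f ((LinearMap.mulLeft R q) ∘ h))) :=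
            Submodule.subset_span ⟨Sum.inr ⟨m', hm'd⟩, rfl⟩
          have h4 : q * MvPolynomial.monomial m' (1 : R) =
              ∑ s ∈ q.support, q.coeff s • MvPolynomial.monomial (s + m') (1 : R) := by
            conv_lhs => rw [q.as_sum, Finset.sum_mul]
            refine Finset.sum_congr rfl fun s _ => ?_
            rw [MvPolynomial.monomial_mul, mul_one, MvPolynomial.smul_monomial, smul_eq_mul, mul_one]
          by_cases hq0 : Finsupp.single j 2 ∈ q.support
          · rw [← Finset.add_sum_erase _ _ hq0] at h4
            have h5 : ∑ s ∈ q.support.erase (Finsupp.single j 2), q.coeff s • MvPolynomial.monomial (s + m') (1 : R) ∈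
                Submodule.span R (Set.range (Sum.elim f ((LinearMap.mulLeft R q) ∘ h))) := by
              refine Submodule.sum_mem _ fun s hs => Submodule.smul_mem _ _ ?_
              rw [Finset.mem_erase, MvPolynomial.mem_support_iff] at hs
              have hsd : s.degree = 2 := by
                by_contra h2
                exact hs.2 (hq.coeff_eq_zero h2)
              have hsj : s j < 2 := by
                by_contra h6
                exact hs.1 (eq_single hsd (by omega))
              refine ih ((s + m') j) ?_ (s + m') ?_ rfl
              · rw [← hmd, hm']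
                simp only [Finsupp.add_apply, Finsupp.single_eq_same]
                omega
              · rw [map_add, hsd, ← hm'd, add_comm]
            have h6 : q.coeff (Finsupp.single j 2) • MvPolynomial.monomial m (1 : R) ∈
                Submodule.span R (Set.range (Sum.elim f ((LinearMap.mulLeft R q) ∘ h))) := by
              have h7 := Submodule.sub_mem _ h3 h5
              rw [h4, add_sub_cancel_right, ← hm'] at h7
              exact h7
            obtain ⟨u, hu⟩ := hqj
            have h8 := Submodule.smul_mem _ (↑u⁻¹ : R) h6
            rw [← hu, smul_smul, Units.inv_mul, one_smul] at h8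
            exact h8
          · rw [MvPolynomial.mem_support_iff, not_not] at hq0
            rw [hq0] at hqj
            have : Subsingleton R := isUnit_zero_iff.mp hqj |> fun h => subsingleton_of_zero_eq_one h
            have : Subsingleton (MvPolynomial (Fin 3) R) := Module.subsingleton R _
            rw [Subsingleton.elim (MvPolynomial.monomial m (1 : R)) 0]
            exact Submodule.zero_mem _
      intro p hp
      rw [MvPolynomial.mem_homogeneousSubmodule] at hp
      rw [p.as_sum]
      refine Submodule.sum_mem _ fun m hm => ?_
      have h1 : MvPolynomial.monomial m (p.coeff m) = p.coeff m • MvPolynomial.monomial m (1 : R) := by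
        rw [MvPolynomial.smul_monomial, smul_eq_mul, mul_one]
      rw [h1]
      refine Submodule.smul_mem _ _ (hmono (m j) m ?_ rfl)
      by_contra h2
      exact (MvPolynomial.mem_support_iff.mp hm) (hp.coeff_eq_zero h2)

end Groth.Agent.S18994
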