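-- Statement S18996.
import Groth.Statements.S18996
import Groth.Agent.ProjBd.K716.Compl

set_option autoImplicit false
universe u
open CategoryTheory AlgebraicGeometry
open ProjBd

namespace Groth.Agent.S18996

/-- Let X be a scheme and 0 → A → E → B → 0 a short exact sequence of finite locally free O_X-modules
which splits (a retraction σ of A → E is given). Let (π : P → X, O(1), q), (π_B : P_B → X, O_B(1),
q_B) and (π_A : P_A → X, O_A(1), q_A) be the projective bundles of rank-one quotients of E, B and A,
given through their universal properties; let c : P_B → P over X, with c^*O(1) ≅ O_B(1) identifying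
c^*q with π_B^*E → π_B^*B → O_B(1), be the sub-bundle P(B) ⊂ P(E); let W be the open subscheme of P
whose complement is exactly the image of c; and let β : W → P_A over X, with β^*O_A(1) ≅ O(1)|_W
identifying β^*q_A with the restriction to W of π^*A → π^*E → O(1), be the projection away from the
sub-bundle. Let M be an O_{P_A}-module inverse to O_A(1) and let V → P_A be the vector bundle Spec
Sym(M ⊗ π_A^*B), the symmetric algebra being given by its universal property among quasi-coherent
algebras and the module M ⊗ π_A^*B being assumed quasi-coherent. Then there is an isomorphism of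
schemes e : W ≅ V whose composite with the projection V → P_A is β (existence of an isomorphism over
P_A; it depends on the splitting). (In the convention where projective bundles parametrise lines,
with 0 → F → E → G → 0 the dual sequence, this is the statement that the complement of P(F) in P(E)
is, once the sequence splits, the vector bundle over P(G) with sheaf of sections π^*F ⊗ O_{P(G)}(1);
the published statement takes X of finite type over a field, and the row is stated for any scheme X,
which the functorial argument allows.) -/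
theorem result
    (X P PB PA : Scheme.{u}) (S : ShortComplex X.Modules) (hS : S.ShortExact)
    (hA : FlatMod.IsFinLocFree S.X₁) (hE : FlatMod.IsFinLocFree S.X₂) (hB : FlatMod.IsFinLocFree S.X₃)
    (σ : S.X₂ ⟶ S.X₁) (hσ : S.f ≫ σ = 𝟙 S.X₁)
    (π : P ⟶ X) (O1 : P.Modules) (q : (Scheme.Modules.pullback π).obj S.X₂ ⟶ O1)
    (hP : KRR.IsProjBundle π S.X₂ O1 q)
    (πB : PB ⟶ X) (O1B : PB.Modules) (qB : (Scheme.Modules.pullback πB).obj S.X₃ ⟶ O1B)
    (hPB : KRR.IsProjBundle πB S.X₃ O1B qB)
    (πA : PA ⟶ X) (O1A : PA.Modules) (qA : (Scheme.Modules.pullback πA).obj S.X₁ ⟶ O1A)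
    (hPA : KRR.IsProjBundle πA S.X₁ O1A qA)
    (c : PB ⟶ P) (hc : c ≫ π = πB) (ec : (Scheme.Modules.pullback c).obj O1 ≅ O1B)
    (hcq : (Scheme.Modules.pullbackCongr hc).inv.app S.X₂ ≫ (Scheme.Modules.pullbackComp c π).inv.app S.X₂ ≫
      (Scheme.Modules.pullback c).map q ≫ ec.hom = (Scheme.Modules.pullback πB).map S.g ≫ qB)
    (W : P.Opens) (hW : (W : Set P)ᶜ = Set.range c.base)
    (β : (W : Scheme.{u}) ⟶ PA) (hβ : β ≫ πA = W.ι ≫ π)
    (eβ : (Scheme.Modules.pullback β).obj O1A ≅ (Scheme.Modules.pullback W.ι).obj O1)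
    (hβq : (Scheme.Modules.pullbackCongr hβ).inv.app S.X₁ ≫ (Scheme.Modules.pullbackComp β πA).inv.app S.X₁ ≫
      (Scheme.Modules.pullback β).map qA ≫ eβ.hom =
      (Scheme.Modules.pullbackComp W.ι π).inv.app S.X₁ ≫
        (Scheme.Modules.pullback W.ι).map ((Scheme.Modules.pullback π).map S.f ≫ q))
    (Minv : PA.Modules) (hMinv : ClSub.IsInverseOf Minv O1A)
    (hqc : Coh.IsQCoh (CohB1.tensorMod Minv ((Scheme.Modules.pullback πA).obj S.X₃)))
    (AV : RelSpec.QCAlg PA) (jV : CohB1.tensorMod Minv ((Scheme.Modules.pullback πA).obj S.X₃) ⟶ AV.toModule)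
    (hAV : RelSpec.IsSymAlg (CohB1.tensorMod Minv ((Scheme.Modules.pullback πA).obj S.X₃)) AV jV) :
    ∃ e : (W : Scheme.{u}) ≅ AV.spec, e.hom ≫ AV.π = β := by
  have hepi : Epi S.g := hS.epi_g
  let sp := ShortComplex.Splitting.ofExactOfRetraction S hS.exact σ hσ hepi
  obtain ⟨ε⟩ := hMinv
  have h1 : Groth.Agent.Krr.H496.ProjCrit.bc β qA hβ ≫ eβ.hom =
      Groth.Agent.Krr.H496.ProjCrit.bc W.ι ((Scheme.Modules.pullback π).map S.f ≫ q) rfl := by
    simp only [Groth.Agent.Krr.H496.ProjCrit.bc, Category.assoc]
    rw [hβq]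
    exact (Category.id_comp _).symm
  exact K716.VB.exists_iso_spec (Groth.Agent.Ega2.QCohLocal.isFinLocFreeOfRank_one_iff.1 hPA.invertible) ε hqc
    (K716.Compl.wmap hβ eβ q sp.s)
    (K716.Compl.local_data hβ eβ hS hA hB sp.s sp.s_g hP hPA hc ec hcq hW h1) AV jV hAV


end Groth.Agent.S18996
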