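import Groth.Statements.S18998
import Groth.Agent.Cyc.K309.LimField

set_option autoImplicit false
universe u
open CategoryTheory AlgebraicGeometry Limits
open Cyc

namespace Groth.Agent.S18998

/-- For a field extension K of k and a scheme X of finite type over k, pullback of cycles along X_K → X
induces an injection of Chow groups with rational coefficients CH_n(X) ⊗ ℚ → CH_n(X_K) ⊗ ℚ.
Concretely: δ is the dimension function on X induced from Spec k and δ_K the one on X_K induced from
Spec K; if α is an n-cycle on X and some nonzero integer multiple of its flat pullback (relative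
dimension 0) to X_K is rationally equivalent to zero as an n-cycle, then some nonzero integer
multiple of α is rationally equivalent to zero. (The published statement takes X a variety, i.e.
integral of finite type; integrality plays no role and is not assumed here.) -/
theorem result (k K : Type u) [Field k] [Field K] [Algebra k K]
    (X : Scheme.{u}) [X.Over (Spec (CommRingCat.of k))]
    [LocallyOfFiniteType (X ↘ Spec (CommRingCat.of k))] [QuasiCompact (X ↘ Spec (CommRingCat.of k))]
    (δ : X → ℤ) (hδ : Cyc.DeltaCompat (X ↘ Spec (CommRingCat.of k)) δ (fun _ => 0))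
    (δK : ↥(Curv2.bc k X K) → ℤ) (hδK : Cyc.DeltaCompat (Curv2.bcSnd k X K) δK (fun _ => 0))
    (n : ℤ) (α : AlgebraicCycle X ℤ) (hα : α ∈ Cyc.Zk X δ n)
    (γ : AlgebraicCycle (Curv2.bc k X K) ℤ) (hγ : ⇑γ = Cyc.pullFun (Curv2.bcFst k X K) δK δ 0 ⇑α)
    (m : ℤ) (hm : m ≠ 0) (h0 : Cyc.RatEquivZero δK n (m • γ)) :
    ∃ m' : ℤ, m' ≠ 0 ∧ Cyc.RatEquivZero δ n (m' • α) := by
  classical
  have hsq : IsPullback (Curv2.bcFst k X K) (Curv2.bcSnd k X K) (X ↘ Spec (CommRingCat.of k))
      (Spec.map (CommRingCat.ofHom (algebraMap k K))) := IsPullback.of_hasPullback _ _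
  have hmZ : ∀ (Y : Scheme.{u}) (δY : Y → ℤ) (β : AlgebraicCycle Y ℤ) (hβ : β ∈ Cyc.Zk Y δY n)
      (m : ℤ), m • β ∈ Cyc.Zk Y δY n := by
    intro Y δY β hβ m y hy
    rw [Function.locallyFinsuppWithin.coe_zsmul, Pi.smul_apply, hβ y hy, smul_zero]
  have hZ : K309.Dvr.ZeroAt (X ↘ Spec (CommRingCat.of k)) hδ (K308.Grp.cl δ (m • α))
      (algebraMap k K) := by
    refine K309.Dvr.zeroAt_of hsq hδK ?_
    rw [map_zsmul, map_zsmul]
    unfold K309.Dvr.bcF
    have := K309.Dvr.flat_spec_of_field (CommRingCat.ofHom (algebraMap k K))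
    rw [K309.Bc.bc_cl _ _ _ _ hsq hδK hγ, ← map_zsmul]
    exact K308.Grp.cl_eq_zero_of_ratEquivZero h0
  obtain ⟨s, hs⟩ := K309.LimField.exists_stage (K := K) hδ (hmZ _ _ _ hα m) hZ
  obtain ⟨m', hm', hx⟩ := K309.TorFg.tor_adjoin_finset (k := k) s X _ δ hδ _ hs
  refine ⟨m' * m, mul_ne_zero hm' hm, ?_⟩
  rw [← map_zsmul, smul_smul] at hx
  exact (K308.Grp.cl_eq_zero_iff (hmZ _ _ _ hα _)).1 hx

end Groth.Agent.S18998
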