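import Groth.Statements.S18999
import Groth.Agent.Surf.K457.DualChi
import Groth.Agent.Surf.K457.DualCM
import Groth.Agent.Ega3B.ProjProper
import Groth.Agent.Ega3B.PicTwist
import Groth.Agent.LoccohB.GorLci
import Groth.Agent.S0341

set_option autoImplicit false
universe u
open CategoryTheory CategoryTheory.Limits AlgebraicGeometry
open Surf

namespace Groth.Agent.S18999

open Groth.Agent.LoccohB.GorBasic Groth.Agent.LoccohB.GorLci in
/-- The local rings of a local complete intersection over a field are Gorenstein. -/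
theorem isGorensteinLocalRing_stalk (k : Type u) [Field k] {X : Scheme.{u}} (f : X ⟶ Spec (CommRingCat.of k))
    (hlci : Dual3.IsLCIMor f) (x : X) : LocCoh.IsGorensteinLocalRing (X.presheaf.stalk x) := by
  obtain ⟨U, ⟨V, hVa⟩, e, hxU, h⟩ := hlci x
  obtain rfl : V = ⊤ := by
    rw [eq_top_iff]
    intro z _
    have h1 : z = f x := Subsingleton.elim (α := PrimeSpectrum k) _ _
    rw [h1]; exact e hxU
  letI := (f.appLE ⊤ U.1 e).hom.toAlgebra
  have hGk : LocCoh.IsGorensteinRing Γ(Spec (CommRingCat.of k), ⊤) :=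
    isGorensteinRing_of_ringEquiv (Scheme.ΓSpecIso (CommRingCat.of k)).symm.commRingCatIsoToRingEquiv
      (isGorensteinRing_of_field k)
  have hG := isGorensteinRing_of_isLCI _ _ hGk h
  have hG' := hG.isGorensteinLocalRing_localization (U.2.primeIdealOf ⟨x, hxU⟩).asIdeal
  letI : Algebra Γ(X, U.1) (X.presheaf.stalk x) := (X.presheaf.germ U.1 x hxU).hom.toAlgebra
  have := U.2.isLocalization_stalk ⟨x, hxU⟩
  exact isGorensteinLocalRing_of_ringEquiv (IsLocalization.algEquiv (U.2.primeIdealOf ⟨x, hxU⟩).asIdeal.primeCompl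
    (Localization.AtPrime (U.2.primeIdealOf ⟨x, hxU⟩).asIdeal) (X.presheaf.stalk x)).toRingEquiv hG'

/-- Let k be a field and X an integral scheme of dimension two admitting a closed immersion into some
P^n_k over k, such that X → Spec k is a local complete intersection morphism. Let (ω, t) be a
dualizing sheaf for X — ω coherent, t a k-linear form on H^2(X, ω), such that for every coherent F
and every k-linear form ψ on H^2(X, F) there is exactly one φ : F → ω with ψ = t ∘ H^2(φ) — and
assume ω invertible (as it is, X being Gorenstein). Then for every invertible O_X-module L one has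
2χ(L) = (L·L) − (L·ω) + 2χ(O_X), where (A·B) = χ(O_X) − χ(A) − χ(B) + χ(A ⊗ B) is the intersection
number (packaged as FGA.intNum) and all dimensions are over k. (The published statement is for a
proper two-dimensional variety of local complete intersection over k, with Euler characteristics
over the field of global functions; this row assumes X projective over k and counts dimensions over
k, which multiplies both sides by the same degree.) -/
theorem result (k : Type u) [Field k] (X : Scheme.{u}) [X.Over (Spec (CommRingCat.of k))]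
    [IsIntegral X] (hdim : topologicalKrullDim X = 2)
    (hproj : ∃ (n : ℕ) (ι : X ⟶ CohB1.ProjSpace n k), IsClosedImmersion ι ∧ ι ≫ CohB1.ProjSpace.toSpec n k = (X ↘ (Spec (CommRingCat.of k))))
    (hlci : Dual3.IsLCIMor (X ↘ (Spec (CommRingCat.of k))))
    (ω : X.Modules) (hωcoh : Coh.IsCoh ω) (hωinv : PicF.IsInvertible ω) (t : Coh.HH X ω 2 →ₗ[k] k)
    (hdual : ∀ F : X.Modules, Coh.IsCoh F → ∀ ψ : Coh.HH X F 2 →ₗ[k] k,
        ∃! φ : F ⟶ ω, ∀ x : Coh.HH X F 2,
          ψ x = t (Sheaf.H.map ((SheafOfModules.toSheaf X.ringCatSheaf).map φ) 2 x))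
    (L : X.Modules) (hL : PicF.IsInvertible L) :
    2 * Curv2.euler k X L = FGA.intNum k X 2 ![L, L] (Coh.structureModule X) - FGA.intNum k X 2 ![L, ω] (Coh.structureModule X) + 2 * Curv2.euler k X (Coh.structureModule X) := by
  have hCM : ∀ x : X, LocCoh.IsCohenMacaulayLocalRing (X.presheaf.stalk x) := fun x => by
    have := isGorensteinLocalRing_stalk k (X ↘ Spec (CommRingCat.of k)) hlci x
    exact Groth.Agent.S0341.result _
  obtain ⟨n, ι, hι, hιk⟩ := hproj
  have hP : IsProper (X ↘ Spec (CommRingCat.of k)) := by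
    rw [← hιk]
    have := Groth.Agent.Ega3B.ProjProper.isProper_toSpec n k
    infer_instance
  have hLN : IsLocallyNoetherian X := LocallyOfFiniteType.isLocallyNoetherian (X ↘ Spec (CommRingCat.of k))
  have hd : ∀ Z : Set X, Z ∈ irreducibleComponents X → topologicalKrullDim ↥Z = ((2 : ℕ) : WithBot ℕ∞) := by
    intro Z hZ
    rw [irreducibleComponents_eq_singleton, Set.mem_singleton_iff] at hZ
    subst hZ
    rw [IsHomeomorph.topologicalKrullDim_eq _ (Homeomorph.Set.univ X).isHomeomorph, hdim]
    rfl
  obtain ⟨w, hw, hsd⟩ := K457.DualCM.exists_isSD k X hCM 2 hd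
  obtain ⟨t', ht'⟩ := hsd.exists_rep
  obtain ⟨e⟩ := K457.DualCM.nonempty_iso_of_rep k X 2 hωcoh hw
    (t ∘ₗ (Groth.Agent.CurvesC.HV.equiv k ω 2).toLinearMap) t'
    (fun F hF => by
      constructor
      · intro a b hab
        obtain ⟨c, -, hc⟩ := hdual F hF
          ((t ∘ₗ (Groth.Agent.CurvesC.HV.equiv k ω 2).toLinearMap ∘ₗ Groth.Agent.CurvesC.HV.map k a 2) ∘ₗ
            (Groth.Agent.CurvesC.HV.equiv k F 2).symm.toLinearMap)
        rw [hc a (fun x => rfl), hc b (fun x => LinearMap.congr_fun hab x)]
      · intro ψ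
        obtain ⟨c, hc, -⟩ := hdual F hF (ψ ∘ₗ (Groth.Agent.CurvesC.HV.equiv k F 2).symm.toLinearMap)
        exact ⟨c, LinearMap.ext fun x => (hc x).symm⟩)
    (fun F hF => ht' F hF.1)
  have hsd' := K457.Dual.isSD_congr e hsd
  have h2 : topologicalKrullDim X ≤ 2 := hdim.le
  have hRR := K457.Form.rr_of_duality (k := k) h2 _ (K457.DualChi.chi_dual hωinv hsd')
    (Groth.Agent.Grpsch.PicGrp.mk L hL)
  rw [K457.Form.intNum_eq k X hL hL, K457.Form.intNum_eq k X hL hωinv, ← K457.Form.chi_mk h2 hL,
    ← K457.Form.chi_one h2]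
  exact hRR

end Groth.Agent.S18999
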