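import Groth.Statements.S19000
import Groth.Agent.Surf.K936.Fin
import Groth.Agent.Surf.K936.ParFld

set_option autoImplicit false
universe u
open CategoryTheory CategoryTheory.Limits AlgebraicGeometry
open Surf

namespace Groth.Agent.S19000

/-- Let F be a perfect field of characteristic 2 and K = F(a_0, a_1, a_2, a_3) the field of rational
functions in four variables over F. There is a regular del Pezzo surface X over K with field of
global functions K, irregularity h^1(X, O_X) = 1 and anticanonical degree 1, and X is geometrically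
reduced. Spelled out: X → Spec K is a closed subscheme of some P^n_K, X is integral of dimension two
with every local ring regular, K → H^0(X, O_X) is an isomorphism, (ω, t) is a dualizing sheaf for X
— ω coherent and invertible, t a K-linear form on H^2(X, ω) through which every K-linear form on H^2
of a coherent module factors by exactly one map to ω — whose inverse M is ample, dim_K H^1(X, O_X) =
1, the self-intersection number (ω·ω) = χ(O_X) − 2χ(ω) + χ(ω ⊗ ω) equals 1, and X ×_K E is reduced
for every field extension E of K. -/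
theorem result (F : Type u) [Field F] [CharP F 2] [PerfectField F] :
    ∃ (X : Scheme.{u}) (f : X ⟶ Spec (CommRingCat.of (FractionRing (MvPolynomial (Fin 4) F)))),
      letI : X.Over (Spec (CommRingCat.of (FractionRing (MvPolynomial (Fin 4) F)))) := ⟨f⟩;
      ∃ (ω : X.Modules) (t : Coh.HH X ω 2 →ₗ[FractionRing (MvPolynomial (Fin 4) F)] FractionRing (MvPolynomial (Fin 4) F)) (M : X.Modules),
      (∃ (n : ℕ) (ι : X ⟶ CohB1.ProjSpace n (FractionRing (MvPolynomial (Fin 4) F))), IsClosedImmersion ι ∧
          ι ≫ CohB1.ProjSpace.toSpec n (FractionRing (MvPolynomial (Fin 4) F)) = f) ∧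
      AlgebraicGeometry.IsIntegral X ∧ topologicalKrullDim X = 2 ∧
      (∀ x : X, IsRegularLocalRing (X.presheaf.stalk x)) ∧ IsIso f.appTop ∧
      Coh.IsCoh ω ∧ PicF.IsInvertible ω ∧
      (∀ G : X.Modules, Coh.IsCoh G → ∀ ψ : Coh.HH X G 2 →ₗ[FractionRing (MvPolynomial (Fin 4) F)] FractionRing (MvPolynomial (Fin 4) F),
        ∃! φ : G ⟶ ω, ∀ x : Coh.HH X G 2,
          ψ x = t (Sheaf.H.map ((SheafOfModules.toSheaf X.ringCatSheaf).map φ) 2 x)) ∧
      PicF.IsInvertible M ∧ Nonempty (CohB1.tensorMod M ω ≅ Coh.structureModule X) ∧ CohB1.IsAmple M ∧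
      Curv2.genus (FractionRing (MvPolynomial (Fin 4) F)) X = 1 ∧
      FGA.intNum (FractionRing (MvPolynomial (Fin 4) F)) X 2 ![ω, ω] (Coh.structureModule X) = 1 ∧
      (∀ (E : Type u) [Field E] [Algebra (FractionRing (MvPolynomial (Fin 4) F)) E],
        AlgebraicGeometry.IsReduced (Curv2.bc (FractionRing (MvPolynomial (Fin 4) F)) X E)) := by
  
  have hK : CharP (FractionRing (MvPolynomial (Fin 4) F)) 2 :=
    charP_of_injective_algebraMap (algebraMap F (FractionRing (MvPolynomial (Fin 4) F))).injective 2
  obtain ⟨w, -⟩ := K936.ParFld.exists_par_frac F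
  obtain ⟨L, _, _, ρ, hsp⟩ := K936.Ext.exists_L (K816.Plane.pf (FractionRing (MvPolynomial (Fin 4) F))) w
  exact ⟨K816.Surface.Y _ L, K816.Geom.fY _ L, K936.Fin.summary (K816.Cov.covOne ρ hsp)
    (K816.RegThree.good_one ρ hsp) (K816.Num.nums_one ρ hsp) (K936.Fin.const_one ρ hsp) _
    (fun E' _ _ => K936.GeoRed.isReduced_bc ρ hsp E')⟩


end Groth.Agent.S19000
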