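import Groth.Statements.S19002
import Groth.Agent.Surf.K936.Fin
import Groth.Agent.Surf.K936.ParFld
import Groth.Agent.Surf.K816.NumTwo

set_option autoImplicit false
universe u
open CategoryTheory CategoryTheory.Limits AlgebraicGeometry
open Surf

namespace Groth.Agent.S19002

/-- Let F be a perfect field of characteristic 2, L = F(a_0, a_1, a_2, a_3) the field of rational
functions in four variables and K ⊂ L the subfield generated over F by the products a_i a_j (0 ≤ i,
j ≤ 3). There is a regular del Pezzo surface X over K with field of global functions K, irregularity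
h^1(X, O_X) = 1 and anticanonical degree 2, and X is geometrically non-reduced. Spelled out: X →
Spec K is a closed subscheme of some P^n_K, X is integral of dimension two with every local ring
regular, K → H^0(X, O_X) is an isomorphism, (ω, t) is a dualizing sheaf for X — ω coherent and
invertible, t a K-linear form on H^2(X, ω) through which every K-linear form on H^2 of a coherent
module factors by exactly one map to ω — whose inverse M is ample, dim_K H^1(X, O_X) = 1, the
self-intersection number (ω·ω) = χ(O_X) − 2χ(ω) + χ(ω ⊗ ω) equals 2, and X ×_K E is not reduced for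
some field extension E of K. -/
theorem result (F : Type u) [Field F] [CharP F 2] [PerfectField F]
    (K : IntermediateField F (FractionRing (MvPolynomial (Fin 4) F)))
    (hK : K = IntermediateField.adjoin F (Set.range fun ij : Fin 4 × Fin 4 =>
      algebraMap (MvPolynomial (Fin 4) F) (FractionRing (MvPolynomial (Fin 4) F)) (MvPolynomial.X ij.1 * MvPolynomial.X ij.2))) :
    ∃ (X : Scheme.{u}) (f : X ⟶ Spec (CommRingCat.of K)),
      letI : X.Over (Spec (CommRingCat.of K)) := ⟨f⟩;
      ∃ (ω : X.Modules) (t : Coh.HH X ω 2 →ₗ[K] K) (M : X.Modules),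
      (∃ (n : ℕ) (ι : X ⟶ CohB1.ProjSpace n K), IsClosedImmersion ι ∧
          ι ≫ CohB1.ProjSpace.toSpec n K = f) ∧
      AlgebraicGeometry.IsIntegral X ∧ topologicalKrullDim X = 2 ∧
      (∀ x : X, IsRegularLocalRing (X.presheaf.stalk x)) ∧ IsIso f.appTop ∧
      Coh.IsCoh ω ∧ PicF.IsInvertible ω ∧
      (∀ G : X.Modules, Coh.IsCoh G → ∀ ψ : Coh.HH X G 2 →ₗ[K] K,
        ∃! φ : G ⟶ ω, ∀ x : Coh.HH X G 2,
          ψ x = t (Sheaf.H.map ((SheafOfModules.toSheaf X.ringCatSheaf).map φ) 2 x)) ∧
      PicF.IsInvertible M ∧ Nonempty (CohB1.tensorMod M ω ≅ Coh.structureModule X) ∧ CohB1.IsAmple M ∧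
      Curv2.genus K X = 1 ∧
      FGA.intNum K X 2 ![ω, ω] (Coh.structureModule X) = 2 ∧
      (∃ (E : Type u) (_ : Field E) (_ : Algebra K E),
        ¬ AlgebraicGeometry.IsReduced (Curv2.bc K X E)) := by
  
  have h0 : CharP K 2 := charP_of_injective_algebraMap (algebraMap F K).injective 2
  obtain ⟨w, -⟩ := K936.ParFld.exists_par_even F K hK
  obtain ⟨L, _, _, ρ, hsp⟩ := K936.Ext.exists_L (K816.Plane.pf K) w
  obtain ⟨M, _, _, _, _, σ, hsp2⟩ := K936.Ext.exists_M (K816.Plane.pf K) w L
  exact ⟨K816.Surface.Y _ M, K816.Geom.fY _ M, K936.Fin.summary (K816.CovTwo.covTwo ρ σ hsp hsp2)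
    (K816.RegThree.good_two ρ hsp σ hsp2) (K816.NumTwo.nums_two ρ σ hsp hsp2)
    (K936.Fin.const_two ρ σ hsp hsp2) _ (K936.GeoNon.exists_not_isReduced_bc ρ σ hsp hsp2)⟩


end Groth.Agent.S19002
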