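import Groth.Statements.S19003
import Groth.Agent.Canon.K769.GenFib
import Groth.Agent.ArSurf.K482.CanonVia

set_option autoImplicit false
universe u
open CategoryTheory CategoryTheory.Limits AlgebraicGeometry
open Canon

namespace Groth.Agent.S19003

open K482.DetPic K769.DetCore K769.DetComp K769.RegCodim K769.GenFib K561.LciDict
open Groth.Agent.Dual.H375.LciLocus Groth.Agent.Grpsch.PicGrp

/-- Let π : X → B be a local complete intersection morphism between integral schemes of finite type over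
a field F whose structure morphisms to Spec F are local complete intersection morphisms, and let k =
F(B) be the function field of B. If ω is a canonical sheaf of X over F — for some factorisation of X
→ Spec F into a quasi-compact regular immersion of constant codimension followed by a
quasi-separated smooth morphism of constant relative dimension, ω is isomorphic to the dual of the
top exterior power of the conormal sheaf tensor the pulled-back top differentials — then the
restriction of ω to the generic fibre X_η = X ×_B Spec k is a canonical sheaf of X_η over k in the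
same sense. (Canonical sheaves are pinned only up to isomorphism here, so the statement is the
existence of a suitable factorisation of X_η → Spec k and of an isomorphism.) -/
theorem result (F : Type u) [Field F] (X B : Scheme.{u})
    [IsIntegral X] [IsIntegral B]
    (pX : X ⟶ Spec (CommRingCat.of F)) (pB : B ⟶ Spec (CommRingCat.of F))
    [LocallyOfFiniteType pX] [QuasiCompact pX] [LocallyOfFiniteType pB] [QuasiCompact pB]
    (π : X ⟶ B) (hπ : π ≫ pB = pX)
    (hπlci : Dual3.IsLCIMor π) (hXlci : Dual3.IsLCIMor pX) (hBlci : Dual3.IsLCIMor pB)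
    (ω : X.Modules) (hω : Canon.IsCanonical pX ω) :
    Canon.IsCanonical (pullback.snd π (B.fromSpecStalk (genericPoint B)))
      ((Scheme.Modules.pullback (pullback.fst π (B.fromSpecStalk (genericPoint B)))).obj ω) := by
  obtain ⟨Z, i, g, c, n, hig, hi, hg, hqc, hqs, hvia⟩ := hω
  have hii : IsImmersion i := hi.1
  have hBn : IsLocallyNoetherian B := LocallyOfFiniteType.isLocallyNoetherian pB
  have hXn : IsLocallyNoetherian X := LocallyOfFiniteType.isLocallyNoetherian pX
  have lπ : LM π := (isLCIMor_iff π).1 hπlci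
  have lB : LM pB := (isLCIMor_iff pB).1 hBlci
  have hgs : Smooth g := SmoothOfRelativeDimension.smooth n g
  -- an affine open subscheme of the base
  obtain ⟨B₀, hB₀, hξ, -⟩ := exists_isAffineOpen_mem_and_subset (x := genericPoint B) (U := ⊤) trivial
  have hB₀a : IsAffine B₀.toScheme := hB₀
  have hB₀h : IsAffineHom (B₀.ι ≫ pB) := inferInstance
  have hB₀f : LocallyOfFiniteType (B₀.ι ≫ pB) := inferInstance
  obtain ⟨N, j, hj, hjp⟩ := Groth.Agent.Etbc.H215.AffEmb.exists_closedImmersion (B₀.ι ≫ pB)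
  obtain ⟨v, hv, hvf⟩ := exists_lift_fromSpecStalk B (genericPoint B) B₀ hξ
  have hp := smoothOfRelativeDimension_affineSpace N (CommRingCat.of F)
  have hps : Smooth (𝔸(ULift.{u} (Fin N); Spec (CommRingCat.of F)) ↘ Spec (CommRingCat.of F)) :=
    SmoothOfRelativeDimension.smooth N _
  have hpq : QuasiSeparated (𝔸(ULift.{u} (Fin N); Spec (CommRingCat.of F)) ↘ Spec (CommRingCat.of F)) :=
    inferInstance
  -- the restriction of `X`
  have H₀ := isPullback_morphismRestrict π B₀
  have lπ₀ : LM (π ∣_ B₀) := LM_flatBaseChange H₀.flip lπ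
  have w : (π ∣_ B₀) ≫ (B₀.ι ≫ pB) = ((π ⁻¹ᵁ B₀).ι ≫ i) ≫ g := by
    rw [← Category.assoc, morphismRestrict_ι, Category.assoc, Category.assoc, hig, hπ]
  have hC := K482.ConRank.isFinLocFreeOfRank_conormal i hi
  have hΩ : FlatMod.IsFinLocFreeOfRank n (Omega.sheaf g) :=
    Groth.Agent.Dual.H339.OmegaRank.isFinLocFreeOfRank_omega n g
  obtain ⟨hk, ek⟩ := det_of_iso (π ⁻¹ᵁ B₀).ι hC (conormal_restrict i (π ⁻¹ᵁ B₀))
  have inv := isInvertible_of_via hC hΩ hvia
  have inv₀ := Groth.Agent.Fdesc.LocGen.isInvertible_pullback (π ⁻¹ᵁ B₀).ι inv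
  have via₀ : Canon.IsCanonicalVia ((π ⁻¹ᵁ B₀).ι ≫ i) g c n ((Scheme.Modules.pullback (π ⁻¹ᵁ B₀).ι).obj ω) := by
    refine via_of_mk hk hΩ inv₀ ?_
    rw [ek, ← pull_mk _ inv, ← map_mul, mk_via hC hΩ hvia inv, pull_comp]
  -- ranks
  have lj : LM j := LM_of_comp_smooth j (𝔸(ULift.{u} (Fin N); Spec (CommRingCat.of F)) ↘ Spec (CommRingCat.of F))
    (by rw [hjp]; exact LM_comp (LM_smooth B₀.ι) lB)
  have hB₀ne : Nonempty B₀ := ⟨⟨_, hξ⟩⟩
  obtain ⟨cj, hjr⟩ := exists_rank (isFinLocFree_conormal j lj)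
  have hpr : FlatMod.IsFinLocFreeOfRank N
      (Omega.sheaf (𝔸(ULift.{u} (Fin N); Spec (CommRingCat.of F)) ↘ Spec (CommRingCat.of F))) :=
    Groth.Agent.Dual.H339.OmegaRank.isFinLocFreeOfRank_omega N _
  have hBq : QuasiSeparated (B₀.ι ≫ pB) := inferInstance
  have l1 := isImmersion_lift (π ∣_ B₀) (B₀.ι ≫ pB) ((π ⁻¹ᵁ B₀).ι ≫ i) g w
  have l2 := quasiCompact_lift (π ∣_ B₀) (B₀.ι ≫ pB) ((π ⁻¹ᵁ B₀).ι ≫ i) g w
  have l3 := LM_lift (π ∣_ B₀) (B₀.ι ≫ pB) ((π ⁻¹ᵁ B₀).ι ≫ i) g w lπ₀
  have hpc : PreconnectedSpace (π ⁻¹ᵁ B₀).toScheme := by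
    have : PreirreducibleSpace (π ⁻¹ᵁ B₀).toScheme := Subtype.preirreducibleSpace
      ((PreirreducibleSpace.isPreirreducible_univ (X := X)).open_subset (π ⁻¹ᵁ B₀).2 (Set.subset_univ _))
    infer_instance
  obtain ⟨cl, hl⟩ := exists_rank (isFinLocFree_conormal _ l3)
  -- the square
  have hw : (pullback.snd π (B.fromSpecStalk (genericPoint B)) ≫ v) ≫ B₀.ι =
      pullback.fst π (B.fromSpecStalk (genericPoint B)) ≫ π := by
    rw [Category.assoc, hv, pullback.condition]
  have ha := H₀.lift_snd _ _ hw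
  have Hsq : IsPullback (H₀.lift _ _ hw) (pullback.snd π (B.fromSpecStalk (genericPoint B))) (π ∣_ B₀) v := by
    refine IsPullback.of_right (h₁₂ := (π ⁻¹ᵁ B₀).ι) (v₁₃ := π) (h₂₂ := B₀.ι) ?_ (H₀.lift_fst _ _ hw) H₀.flip
    rw [ha, hv]
    exact IsPullback.of_hasPullback π (B.fromSpecStalk (genericPoint B))
  have hTn : IsLocallyNoetherian (Spec (B.presheaf.stalk (genericPoint B))) := inferInstance
  have key := isCanonical_core (π ∣_ B₀) (B₀.ι ≫ pB) ((π ⁻¹ᵁ B₀).ι ≫ i) g j
    (𝔸(ULift.{u} (Fin N); Spec (CommRingCat.of F)) ↘ Spec (CommRingCat.of F)) v (H₀.lift _ _ hw)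
    (pullback.snd π (B.fromSpecStalk (genericPoint B)))
    (pic_spec_local (B.presheaf.stalk (genericPoint B))) w hjp lπ₀ Hsq hg hk hjr hpr hl via₀
  refine K482.CanonVia.canonical_of_iso ⟨?_⟩ key
  exact (Scheme.Modules.pullbackComp _ _).app _ ≪≫ (Scheme.Modules.pullbackCongr ha).app _

end Groth.Agent.S19003
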