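import Groth.Statements.S19004
import Mathlib.LinearAlgebra.Vandermonde
import Mathlib.Tactic

set_option autoImplicit false
open GIT

namespace Groth.Agent.S19004

open MvPolynomial Finset Matrix in
theorem prod_eq_det_mul_det (n : ℕ) :
    (∏ i : Fin n, ∏ j ∈ Finset.univ.erase i,
      (MvPolynomial.X i - MvPolynomial.X j : MvPolynomial (Fin n) ℤ)) =
      (projVandermonde (fun i : Fin n => (X i : MvPolynomial (Fin n) ℤ)) 1).det *
      (projVandermonde 1 (fun i : Fin n => (X i : MvPolynomial (Fin n) ℤ))).det := by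
  rw [det_projVandermonde, det_projVandermonde]
  have h1 : ∀ i : Fin n, (∏ j ∈ Finset.univ.erase i,
      (X i - X j : MvPolynomial (Fin n) ℤ)) =
      (∏ j ∈ Iio i, (X i - X j : MvPolynomial (Fin n) ℤ)) *
        ∏ j ∈ Ioi i, (X i - X j : MvPolynomial (Fin n) ℤ) := by
    intro i
    rw [← Finset.prod_union]
    · apply Finset.prod_congr _ (fun _ _ => rfl)
      ext j
      simp only [mem_erase, mem_univ, and_true, mem_union, mem_Iio, mem_Ioi]
      exact lt_or_lt_iff_ne.symm
    · rw [Finset.disjoint_left]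
      intro j hj hj'
      simp only [mem_Iio, mem_Ioi] at hj hj'
      exact lt_asymm hj hj'
  simp_rw [h1]
  rw [Finset.prod_mul_distrib]
  congr 1
  · rw [Finset.prod_sigma', Finset.prod_sigma']
    refine Finset.prod_nbij' (fun p => ⟨p.2, p.1⟩) (fun p => ⟨p.2, p.1⟩) ?_ ?_ ?_ ?_ ?_
    · rintro ⟨i, j⟩ h
      simpa using h
    · rintro ⟨i, j⟩ h
      simpa using h
    · rintro ⟨i, j⟩ h; rfl
    · rintro ⟨i, j⟩ h; rfl
    · rintro ⟨i, j⟩ h
      simp
  · simp

open MvPolynomial Finset Matrix in
theorem det_left (n : ℕ) :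
    (projVandermonde (fun i : Fin n => (X i : MvPolynomial (Fin n) ℤ)) 1).det =
      ∑ σ : Equiv.Perm (Fin n), ((Equiv.Perm.sign σ : ℤˣ) : ℤ) •
        monomial (Finsupp.equivFunOnFinite.symm (fun i => ((σ i : Fin n) : ℕ))) (1 : ℤ) := by
  rw [← det_transpose, det_apply]
  refine Finset.sum_congr rfl ?_
  intro σ _
  rw [Units.smul_def]
  congr 1
  rw [monomial_eq]
  simp only [transpose_apply, projVandermonde_apply, map_one, one_mul, Pi.one_apply, one_pow,
    mul_one]
  rw [Finsupp.prod_fintype _ _ (by simp)]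
  simp

open MvPolynomial Finset Matrix in
theorem det_right (n : ℕ) :
    (projVandermonde 1 (fun i : Fin n => (X i : MvPolynomial (Fin n) ℤ))).det =
      ∑ σ : Equiv.Perm (Fin n), ((Equiv.Perm.sign σ : ℤˣ) : ℤ) •
        monomial (Finsupp.equivFunOnFinite.symm (fun i => (((σ i).rev : Fin n) : ℕ))) (1 : ℤ) := by
  rw [← det_transpose, det_apply]
  refine Finset.sum_congr rfl ?_
  intro σ _
  rw [Units.smul_def]
  congr 1
  rw [monomial_eq]
  simp only [transpose_apply, projVandermonde_apply, map_one, one_mul, Pi.one_apply, one_pow]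
  rw [Finsupp.prod_fintype _ _ (by simp)]
  simp

/-- For the group PGL(n) acting on the space of n × n matrices the T-quotient is (P^{n−1})^n with Chow
ring ℚ[t_1,…,t_n]/(t_1^n,…,t_n^n), the class c_top(g/t) is the product of all roots t_i − t_j (i ≠
j), and the computation in the proof shows that this product equals n!·t_1^{n−1}⋯t_n^{n−1} in that
ring. Stated here as the equivalent coefficient identity in ℤ[t_1,…,t_n]: the coefficient of
t_1^{n−1}⋯t_n^{n−1} in the product over ordered pairs i ≠ j of (t_i − t_j) is n!. -/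
theorem result (n : ℕ) :
    MvPolynomial.coeff (Finsupp.equivFunOnFinite.symm (fun _ : Fin n => n - 1))
      (∏ i : Fin n, ∏ j ∈ Finset.univ.erase i, (MvPolynomial.X i - MvPolynomial.X j : MvPolynomial (Fin n) ℤ)) = (n.factorial : ℤ) := by
  rw [prod_eq_det_mul_det, det_left, det_right, Finset.sum_mul_sum]
  simp only [MvPolynomial.coeff_sum, smul_mul_smul_comm, MvPolynomial.monomial_mul, mul_one,
    MvPolynomial.coeff_smul, MvPolynomial.coeff_monomial]
  have key : ∀ σ τ : Equiv.Perm (Fin n),
      ((Finsupp.equivFunOnFinite.symm (fun i => ((σ i : Fin n) : ℕ)) : Fin n →₀ ℕ) +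
        (Finsupp.equivFunOnFinite.symm (fun i => (((τ i).rev : Fin n) : ℕ))) =
        Finsupp.equivFunOnFinite.symm (fun _ : Fin n => n - 1)) ↔ σ = τ := by
    intro σ τ
    constructor
    · intro h
      ext i
      have := DFunLike.congr_fun h i
      simp only [Finsupp.coe_add, Pi.add_apply, Finsupp.equivFunOnFinite_symm_apply_apply,
        Fin.val_rev] at this
      have h1 := (σ i).2
      have h2 := (τ i).2
      omega
    · rintro rfl
      ext i
      simp only [Finsupp.coe_add, Pi.add_apply, Finsupp.equivFunOnFinite_symm_apply_apply,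
        Fin.val_rev]
      have h1 := (σ i).2
      omega
  simp only [key]
  have : ∀ σ : Equiv.Perm (Fin n), ∑ τ : Equiv.Perm (Fin n),
      (((Equiv.Perm.sign σ : ℤˣ) : ℤ) * ((Equiv.Perm.sign τ : ℤˣ) : ℤ)) •
        (if σ = τ then (1 : ℤ) else 0) = 1 := by
    intro σ
    rw [Finset.sum_eq_single σ]
    · simp
    · intro b _ hb
      rw [if_neg (Ne.symm hb)]
      simp
    · simp
  simp only [this]
  simp [Fintype.card_perm]

end Groth.Agent.S19004
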