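import Groth.Statements.S19005
import Mathlib.Tactic
import Mathlib.LinearAlgebra.TensorProduct.Basic
import Mathlib.LinearAlgebra.QuadraticForm.Basic

set_option autoImplicit false
open scoped TensorProduct
open K2Cent

namespace Groth.Agent.S19005



/-- For abelian groups X and M and ε in M with 2ε = 0 (in the source X is the character group of a split
torus and ε is the class of −1 among the units), the map x ↦ (x ⊗ x, −(x ⊗ ε)) into (X ⊗ X) × (X ⊗
M) is quadratic over ℤ, i.e. it underlies an integer quadratic map with exactly these values. -/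
theorem result (X M : Type*) [AddCommGroup X]
    [AddCommGroup M] (ε : M) (hε : 2 • ε = 0) :
    ∃ R : QuadraticMap ℤ X (TensorProduct ℤ X X × TensorProduct ℤ X M),
      ∀ x : X, R x = (x ⊗ₜ[ℤ] x, -(x ⊗ₜ[ℤ] ε)) := by
  let B : LinearMap.BilinMap ℤ X (TensorProduct ℤ X X × TensorProduct ℤ X M) :=
    LinearMap.mk₂ ℤ (fun x y => (x ⊗ₜ[ℤ] y + y ⊗ₜ[ℤ] x, 0))
      (by intro x y z; simp only [TensorProduct.add_tmul, TensorProduct.tmul_add, Prod.mk_add_mk, add_zero, Prod.mk.injEq, and_true]; abel)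
      (by intro c x y; simp only [TensorProduct.smul_tmul', TensorProduct.tmul_smul, Prod.smul_mk, smul_add, smul_zero, Prod.mk.injEq, and_true])
      (by intro x y z; simp only [TensorProduct.add_tmul, TensorProduct.tmul_add, Prod.mk_add_mk, add_zero, Prod.mk.injEq, and_true]; abel)
      (by intro c x y; simp only [TensorProduct.smul_tmul', TensorProduct.tmul_smul, Prod.smul_mk, smul_add, smul_zero, Prod.mk.injEq, and_true])
  refine ⟨{ toFun := fun x => (x ⊗ₜ[ℤ] x, -(x ⊗ₜ[ℤ] ε)), toFun_smul := ?_, exists_companion' := ⟨B, ?_⟩ }, fun x => rfl⟩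
  · intro a x
    refine Prod.ext ?_ ?_
    · show (a • x) ⊗ₜ[ℤ] (a • x) = (a * a) • (x ⊗ₜ[ℤ] x)
      rw [TensorProduct.tmul_smul, ← TensorProduct.smul_tmul', smul_smul]
    · show -((a • x) ⊗ₜ[ℤ] ε) = (a * a) • -(x ⊗ₜ[ℤ] ε)
      have h2 : (2 : ℤ) • (x ⊗ₜ[ℤ] ε) = 0 := by
        rw [← TensorProduct.tmul_smul]
        have : (2 : ℤ) • ε = 0 := by exact_mod_cast hε
        rw [this, TensorProduct.tmul_zero]
      obtain ⟨m, hm⟩ : Even (a * (a - 1)) := Int.even_mul_pred_self a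
      have h3 : a * a = a + m * 2 := by linarith
      rw [h3, smul_neg, add_smul, mul_smul, h2, smul_zero, add_zero, TensorProduct.smul_tmul']
  · intro x y
    refine Prod.ext ?_ ?_
    · show (x + y) ⊗ₜ[ℤ] (x + y) = x ⊗ₜ[ℤ] x + y ⊗ₜ[ℤ] y + (x ⊗ₜ[ℤ] y + y ⊗ₜ[ℤ] x)
      simp only [TensorProduct.add_tmul, TensorProduct.tmul_add]
      abel
    · show -((x + y) ⊗ₜ[ℤ] ε) = -(x ⊗ₜ[ℤ] ε) + -(y ⊗ₜ[ℤ] ε) + 0
      rw [TensorProduct.add_tmul, add_zero, neg_add]

end Groth.Agent.S19005
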