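import Groth.Statements.S19007
import Groth.Agent.RootD.K222.Quad

set_option autoImplicit false
universe u v w x
open RootD

namespace Groth.Agent.S19007

/-- Let P be a finite reduced crystallographic root pairing over an integral domain of characteristic
zero, b a base of P (a system of simple roots) and Q a quadratic form on the coweight module with
polar form B. Then Q is invariant under all root reflections (equivalently under the Weyl group) on
the span of the coroots if and only if for all pairs of distinct simple roots α_i ≠ α_j one has
B(α_i^∨, α_j^∨) = ⟨α_j, α_i^∨⟩ Q(α_j^∨). (In the source the form is integer-valued on the lattice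
spanned by the coroots and the condition says that the bilinear form lies in the kernel of the last
map of a three-term complex built from the Bruhat cells of codimension at most two; here the form
takes values in the base ring.) -/
theorem result {ι : Type u} {R : Type v} {M : Type w} {N : Type x} [CommRing R] [IsDomain R] [CharZero R]
    [AddCommGroup M] [Module R M] [AddCommGroup N] [Module R N] (P : RootPairing ι R M N)
    [Finite ι] [P.IsCrystallographic] [P.IsReduced] (b : P.Base) (Q : QuadraticMap R N R) :
    (∀ i : ι, ∀ y ∈ Submodule.span R (Set.range P.coroot), Q (P.coreflection i y) = Q y) ↔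
      ∀ i ∈ b.support, ∀ j ∈ b.support, i ≠ j →
        QuadraticMap.polar Q (P.coroot i) (P.coroot j) = P.pairing j i * Q (P.coroot j) := by
  set D := Submodule.span R (Set.range P.coroot) with hD
  have hcor : ∀ i, P.coroot i ∈ D := fun i => Submodule.subset_span ⟨i, rfl⟩
  constructor
  · intro h i hi j hj hij
    exact K222.Quad.polar_of_inv P Q D (hcor j) (h j) (hcor i)
  · intro h
    -- the identity `B(y, α_j^∨) = ⟨α_j, y⟩ Q(α_j^∨)` on `D` for simple `j`
    have h1 : ∀ j ∈ b.support, ∀ y ∈ D,
        QuadraticMap.polar Q y (P.coroot j) = P.root' j y * Q (P.coroot j) := by
      intro j hj y hy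
      rw [hD, show Submodule.span R (Set.range P.coroot) = P.corootSpan R from rfl,
        ← b.span_coroot_support] at hy
      induction hy using Submodule.span_induction with
      | mem x hx =>
        obtain ⟨i, hi, rfl⟩ := hx
        by_cases hij : i = j
        · subst hij
          rw [QuadraticMap.polar_self, P.root'_coroot_eq_pairing, P.pairing_same]
          simp
        · rw [h i hi j hj hij]
          rfl
      | zero => simp
      | add x y _ _ hx hy => rw [QuadraticMap.polar_add_left, hx, hy, map_add]; ring
      | smul t x _ hx => rw [QuadraticMap.polar_smul_left, hx, map_smul]; simp only [smul_eq_mul]; ring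
    have hinvt : ∀ i, ∀ y ∈ D, P.coreflection i y ∈ D := fun i y hy =>
      P.corootSpan_mem_invtSubmodule_coreflection i hy
    intro i
    refine b.induction_reflect i (p := fun i => ∀ y ∈ D, Q (P.coreflection i y) = Q y) ?_ ?_ ?_
    · intro i hi y hy
      have : P.coreflection (P.reflectionPerm i i) y = P.coreflection i y := by
        rw [P.coreflection_eq_flip_reflection, ← P.flip_reflectionPerm, P.flip.reflection_reflectionPerm]
        simp [P.coreflection_eq_flip_reflection]
      rw [this, hi y hy]
    · intro i hi y hy
      exact K222.Quad.inv_of P Q (h1 i hi y hy)
    · intro i j hi hj y hy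
      have hj' : ∀ y ∈ D, Q (P.coreflection j y) = Q y := fun y hy => K222.Quad.inv_of P Q (h1 j hj y hy)
      have : P.coreflection (P.reflectionPerm j i) y =
          P.coreflection j (P.coreflection i (P.coreflection j y)) := by
        rw [P.coreflection_eq_flip_reflection, ← P.flip_reflectionPerm, P.flip.reflection_reflectionPerm]
        rfl
      rw [this, hj' _ (hinvt _ _ (hinvt _ _ hy)), hi _ (hinvt _ _ hy), hj' _ hy]

end Groth.Agent.S19007
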