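import Groth.Statements.S19008
import Groth.Agent.RootD.K222.Forest

set_option autoImplicit false
universe u v w x
open RootD

namespace Groth.Agent.S19008

/-- Let P be a finite reduced crystallographic root pairing over an integral domain of characteristic
zero and b a base (simple roots α_i, i in the support of b), with Cartan integers a_ij = ⟨α_i,
α_j^∨⟩. An integer-valued bilinear form C on the lattice with basis the simple coroots is an integer
matrix C_ij = C(α_i^∨, α_j^∨), and the component of the last map of the complex at the pair (i, j),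
i ≠ j, is C ↦ C(α_i^∨, α_j^∨) + C(α_j^∨, s_j(α_i^∨)) = C_ij + C_ji − a_ji C_jj; the pairs (i, j) and
(j, i) index the same component exactly when α_i and α_j are orthogonal. This map is surjective: for
every family of integers d_ij (i ≠ j in the support) with d_ij = d_ji whenever a_ij = 0 there is an
integer matrix C with C_ij + C_ji − a_ji C_jj = d_ij for all i ≠ j in the support. -/
theorem result {ι : Type u} {R : Type v} {M : Type w} {N : Type x} [CommRing R] [IsDomain R] [CharZero R]
    [AddCommGroup M] [Module R M] [AddCommGroup N] [Module R N] (P : RootPairing ι R M N)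
    [Finite ι] [P.IsCrystallographic] [P.IsReduced] (b : P.Base) (d : ι → ι → ℤ)
    (hd : ∀ i ∈ b.support, ∀ j ∈ b.support, i ≠ j → P.pairingIn ℤ i j = 0 → d i j = d j i) :
    ∃ C : ι → ι → ℤ, ∀ i ∈ b.support, ∀ j ∈ b.support, i ≠ j →
      C i j + C j i - P.pairingIn ℤ j i * C j j = d i j := by
  classical
  have hpi0 : ∀ i j, P.pairingIn ℤ i j = 0 → P.pairingIn ℤ j i = 0 := by
    intro i j h
    have : Module.IsReflexive R M := .of_isPerfPair P.toLinearMap
    exact P.pairingIn_eq_zero_iff.1 h
  -- it suffices to find the diagonal entries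
  suffices H : ∀ n : ℕ, ∀ S : Finset ι, S.card = n → S ⊆ b.support → ∃ x : ι → ℤ, ∀ i ∈ S, ∀ j ∈ S, i ≠ j →
      d i j + P.pairingIn ℤ j i * x j = d j i + P.pairingIn ℤ i j * x i by
    obtain ⟨x, hx⟩ := H _ b.support rfl le_rfl
    obtain ⟨r⟩ : Nonempty (LinearOrder ι) := ⟨linearOrderOfSTO (WellOrderingRel (α := ι))⟩
    let C : ι → ι → ℤ := fun i j => if i = j then x i else if i < j then
      d i j + P.pairingIn ℤ j i * x j else 0
    have hC : ∀ i, C i i = x i := fun i => if_pos rfl
    refine ⟨C, fun i hi j hj hij => ?_⟩
    rcases lt_or_gt_of_ne hij with h | h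
    · have h1 : C i j = d i j + P.pairingIn ℤ j i * x j := by
        simp only [C]; rw [if_neg hij, if_pos h]
      have h2 : C j i = 0 := by
        simp only [C]; rw [if_neg hij.symm, if_neg (not_lt.2 h.le)]
      rw [h1, h2, hC]; ring
    · have h1 : C j i = d j i + P.pairingIn ℤ i j * x i := by
        simp only [C]; rw [if_neg hij.symm, if_pos h]
      have h2 : C i j = 0 := by
        simp only [C]; rw [if_neg hij, if_neg (not_lt.2 h.le)]
      rw [h1, h2, hC, ← hx i hi j hj hij]; ring
  intro n
  induction n with
  | zero =>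
    intro S hS _
    rw [Finset.card_eq_zero] at hS
    subst hS
    exact ⟨0, by simp⟩
  | succ n ih =>
    intro S hS hsub
    have hne : S.Nonempty := by rw [← Finset.card_pos]; omega
    have hli' : LinearIndepOn ℤ P.flip.root (b.support : Set ι) := b.linearIndepOn_coroot.restrict_scalars' ℤ
    have hli : LinearIndepOn ℤ P.flip.root (S : Set ι) := hli'.mono (by exact_mod_cast hsub)
    obtain ⟨j, hj, hsum⟩ := K222.Forest.exists_sum_pos P.flip hne hli
    simp only [K222.Forest.pairingIn_flip] at hsum
    rw [← Finset.add_sum_erase _ _ hj, P.pairingIn_same] at hsum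
    have hle : ∀ i ∈ S.erase j, P.pairingIn ℤ j i ≤ 0 := fun i hi =>
      b.pairingIn_le_zero_of_ne (Finset.ne_of_mem_erase hi).symm (hsub hj) (hsub (Finset.mem_of_mem_erase hi))
    obtain ⟨x, hx⟩ := ih (S.erase j) (by rw [Finset.card_erase_of_mem hj, hS]; rfl)
      ((Finset.erase_subset _ _).trans hsub)
    -- the value at `j`
    obtain ⟨y, hy⟩ : ∃ y : ℤ, ∀ i ∈ S.erase j, d i j + P.pairingIn ℤ j i * y = d j i + P.pairingIn ℤ i j * x i := by
      by_cases hall : ∀ i ∈ S.erase j, P.pairingIn ℤ j i = 0
      · refine ⟨0, fun i hi => ?_⟩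
        have h1 := hall i hi
        have h2 := hpi0 _ _ h1
        rw [h1, h2, hd i (hsub (Finset.mem_of_mem_erase hi)) j (hsub hj) (Finset.ne_of_mem_erase hi) h2]
        ring
      · push Not at hall
        obtain ⟨i, hi, hi0⟩ := hall
        have hothers : ∀ k ∈ (S.erase j).erase i, P.pairingIn ℤ j k = 0 := by
          intro k hk
          by_contra hk0
          have h1 := hle i hi
          have h2 := hle k (Finset.mem_of_mem_erase hk)
          have h3 : ∑ l ∈ ((S.erase j).erase i).erase k, P.pairingIn ℤ j l ≤ 0 :=
            Finset.sum_nonpos fun l hl => hle l (Finset.mem_of_mem_erase (Finset.mem_of_mem_erase hl))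
          rw [← Finset.add_sum_erase _ _ hi, ← Finset.add_sum_erase _ _ hk] at hsum
          omega
        have hm1 : P.pairingIn ℤ j i = -1 := by
          have h1 := hle i hi
          rw [← Finset.add_sum_erase _ _ hi, Finset.sum_eq_zero hothers] at hsum
          omega
        refine ⟨d i j - d j i - P.pairingIn ℤ i j * x i, fun k hk => ?_⟩
        by_cases hki : k = i
        · subst hki
          rw [hm1]; ring
        · have h1 := hothers k (Finset.mem_erase.2 ⟨hki, hk⟩)
          have h2 := hpi0 _ _ h1
          rw [h1, h2, hd k (hsub (Finset.mem_of_mem_erase hk)) j (hsub hj) (Finset.ne_of_mem_erase hk) h2]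
          ring
    refine ⟨Function.update x j y, fun i hi k hk hik => ?_⟩
    by_cases hij : i = j
    · subst hij
      have hki : k ≠ i := hik.symm
      rw [Function.update_self, Function.update_of_ne hki]
      exact (hy k (Finset.mem_erase.2 ⟨hki, hk⟩)).symm
    · by_cases hkj : k = j
      · subst hkj
        rw [Function.update_self, Function.update_of_ne hij]
        exact hy i (Finset.mem_erase.2 ⟨hij, hi⟩)
      · rw [Function.update_of_ne hij, Function.update_of_ne hkj]
        exact hx i (Finset.mem_erase.2 ⟨hij, hi⟩) k (Finset.mem_erase.2 ⟨hkj, hk⟩) hik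

end Groth.Agent.S19008
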