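import Groth.Statements.S19009
import Groth.Agent.RootD.K222.Quad
import Mathlib.LinearAlgebra.Projection

set_option autoImplicit false
universe u v w x
open RootD

namespace Groth.Agent.S19009

/-- Let P be a root pairing over an integral domain R of characteristic zero (roots α acting on the
coweight module N through reflections y ↦ y − ⟨α, y⟩ α^∨), D ⊆ N a submodule containing every coroot
and such that every element of D has a positive integer multiple in the span of the coroots (the
derived part), and Y₀ a complement of D in N. Let Q_d be a quadratic form on N whose restriction to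
D is invariant under all root reflections. Then there is a quadratic form on N, invariant under all
root reflections and agreeing with Q_d on D, if and only if there is an R-bilinear form Φ on N with
Φ(y₀, α^∨) = ⟨α, y₀⟩ Q_d(α^∨) for all y₀ in Y₀ and all roots α. (In the source R = ℤ, N = Y₀ ⊕ Y_der
is the cocharacter lattice of a split reductive group, and the condition is phrased as integrality
on Y₀ × Y_der of the pairing y₀, y ↦ B(q(y₀), y) deduced from the polar form B of Q_d; that pairing
is characterised by the displayed values on coroots, only the values of Φ on Y₀ × D matter, and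
forms take values in R here.) -/
theorem result {ι : Type u} {R : Type v} {M : Type w} {N : Type x} [CommRing R] [IsDomain R] [CharZero R]
    [AddCommGroup M] [Module R M] [AddCommGroup N] [Module R N] (P : RootPairing ι R M N)
    (D Y₀ : Submodule R N) (hD : ∀ i : ι, P.coroot i ∈ D)
    (hDsat : ∀ y ∈ D, ∃ n : ℕ, 0 < n ∧ n • y ∈ Submodule.span R (Set.range P.coroot))
    (hc : IsCompl Y₀ D)
    (Qd : QuadraticMap R N R) (hQd : ∀ i : ι, ∀ y ∈ D, Qd (P.coreflection i y) = Qd y) :
    (∃ Q : QuadraticMap R N R, (∀ (i : ι) (y : N), Q (P.coreflection i y) = Q y) ∧ ∀ y ∈ D, Q y = Qd y) ↔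
      ∃ Φ : N →ₗ[R] N →ₗ[R] R, ∀ y₀ ∈ Y₀, ∀ i : ι,
        Φ y₀ (P.coroot i) = P.root' i y₀ * Qd (P.coroot i) := by
  constructor
  · rintro ⟨Q, hQ, hQD⟩
    refine ⟨QuadraticMap.polarBilin Q, fun y₀ _ i => ?_⟩
    rw [QuadraticMap.polarBilin_apply_apply, (K222.Quad.inv_iff_top P Q i).1 (hQ i), hQD _ (hD i)]
  · rintro ⟨Φ, hΦ⟩
    set pY := Y₀.projection D hc
    set pD := D.projection Y₀ hc.symm
    have hYD : ∀ y ∈ D, pY y = 0 := fun y hy => Submodule.projection_apply_of_mem_right hc hy
    have hDD : ∀ y ∈ D, pD y = y := fun y hy => Submodule.projection_apply_of_mem_left hc.symm hy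
    let B : N →ₗ[R] N →ₗ[R] R := Φ.compl₁₂ pY pD
    let Q : QuadraticMap R N R := Qd.comp pD + LinearMap.BilinMap.toQuadraticMap B
    have hQv : ∀ y, Q y = Qd (pD y) + Φ (pY y) (pD y) := fun y => rfl
    have hQD : ∀ y ∈ D, Q y = Qd y := by
      intro y hy
      rw [hQv, hYD y hy, hDD y hy]; simp
    refine ⟨Q, fun i => (K222.Quad.inv_iff_top P Q i).2 fun y => ?_, hQD⟩
    have h1 : QuadraticMap.polar Q y (P.coroot i) =
        QuadraticMap.polar Qd (pD y) (P.coroot i) + Φ (pY y) (P.coroot i) := by
      simp only [QuadraticMap.polar, hQv, map_add, hYD _ (hD i), hDD _ (hD i), add_zero, map_zero,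
        LinearMap.zero_apply]
      ring
    rw [h1, K222.Quad.polar_of_inv P Qd D (hD i) (hQd i) (Submodule.projection_apply_mem hc.symm y),
      hΦ _ (Submodule.projection_apply_mem hc y) i, hQD _ (hD i), ← add_mul, ← map_add]
    congr 2
    rw [add_comm]
    exact Submodule.projection_add_projection_eq_self hc y

end Groth.Agent.S19009
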