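import Groth.Statements.S19010
import Groth.Agent.RootD.K222.Quad
import Mathlib.LinearAlgebra.Projection

set_option autoImplicit false
universe u v w x
open RootD

namespace Groth.Agent.S19010

/-- Let P be a root pairing over an integral domain R of characteristic zero (roots α acting on the
coweight module N through reflections y ↦ y − ⟨α, y⟩ α^∨), D ⊆ N a submodule containing every coroot
and such that every element of D has a positive integer multiple in the span of the coroots (the
derived part), and Y₀ a complement of D in N. Let Q' be a quadratic form on N invariant under all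
root reflections. Then restriction to Y₀ is a bijection from the set of quadratic forms on N that
are invariant under all root reflections and agree with Q' on D onto the set of all quadratic forms
on Y₀. (In the source R = ℤ and N = Y₀ ⊕ Y_der is the cocharacter lattice of a split reductive
group; forms take values in R here.) -/
theorem result {ι : Type u} {R : Type v} {M : Type w} {N : Type x} [CommRing R] [IsDomain R] [CharZero R]
    [AddCommGroup M] [Module R M] [AddCommGroup N] [Module R N] (P : RootPairing ι R M N)
    (D Y₀ : Submodule R N) (hD : ∀ i : ι, P.coroot i ∈ D)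
    (hDsat : ∀ y ∈ D, ∃ n : ℕ, 0 < n ∧ n • y ∈ Submodule.span R (Set.range P.coroot))
    (hc : IsCompl Y₀ D)
    (Q' : QuadraticMap R N R) (hQ' : ∀ (i : ι) (y : N), Q' (P.coreflection i y) = Q' y) :
    Set.BijOn (fun Q : QuadraticMap R N R => Q.comp Y₀.subtype)
      {Q | (∀ (i : ι) (y : N), Q (P.coreflection i y) = Q y) ∧ ∀ y ∈ D, Q y = Q' y} Set.univ := by
  have hdec : ∀ y : N, ∃ a ∈ Y₀, ∃ d ∈ D, a + d = y := fun y =>
    ⟨_, Submodule.projection_apply_mem hc y, _, Submodule.projection_apply_mem hc.symm y,
      Submodule.projection_add_projection_eq_self hc y⟩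
  refine ⟨fun _ _ => Set.mem_univ _, ?_, ?_⟩
  · rintro Q₁ ⟨h₁, h₁D⟩ Q₂ ⟨h₂, h₂D⟩ h
    have hY : ∀ a ∈ Y₀, Q₁ a = Q₂ a := fun a ha => congrArg (fun q : QuadraticMap R Y₀ R => q ⟨a, ha⟩) h
    have hcor : ∀ a : N, ∀ y ∈ Submodule.span R (Set.range P.coroot),
        QuadraticMap.polar Q₁ a y = QuadraticMap.polar Q₂ a y := by
      intro a y hy
      induction hy using Submodule.span_induction with
      | mem x hx =>
        obtain ⟨i, rfl⟩ := hx
        rw [(K222.Quad.inv_iff_top P Q₁ i).1 (h₁ i), (K222.Quad.inv_iff_top P Q₂ i).1 (h₂ i),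
          h₁D _ (hD i), h₂D _ (hD i)]
      | zero => simp
      | add x y _ _ hx hy => rw [QuadraticMap.polar_add_right, QuadraticMap.polar_add_right, hx, hy]
      | smul t x _ hx => rw [QuadraticMap.polar_smul_right, QuadraticMap.polar_smul_right, hx]
    have hpol : ∀ a : N, ∀ y ∈ D, QuadraticMap.polar Q₁ a y = QuadraticMap.polar Q₂ a y := by
      intro a y hy
      obtain ⟨n, hn, hny⟩ := hDsat y hy
      have h3 := hcor a _ hny
      rw [← Nat.cast_smul_eq_nsmul R, QuadraticMap.polar_smul_right, QuadraticMap.polar_smul_right] at h3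
      exact mul_left_cancel₀ (Nat.cast_ne_zero.2 hn.ne') h3
    ext y
    obtain ⟨a, ha, d, hd, rfl⟩ := hdec y
    rw [QuadraticMap.map_add Q₁, QuadraticMap.map_add Q₂, hY a ha, h₁D d hd, h₂D d hd, hpol a d hd]
  · rintro q -
    set pY := Y₀.projectionOnto D hc
    have hYD : ∀ y ∈ D, pY y = 0 := fun y hy => Submodule.projectionOnto_apply_of_mem_right hc hy
    have hYY : ∀ y : Y₀, pY y = y := fun y => Submodule.projectionOnto_apply_left hc y
    refine ⟨Q' + (q - Q'.comp Y₀.subtype).comp pY, ⟨?_, ?_⟩, ?_⟩
    · intro i y
      have h1 : pY (P.coreflection i y) = pY y := by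
        rw [P.coreflection_apply, map_sub, map_smul, hYD _ (hD i), smul_zero, sub_zero]
      simp only [QuadraticMap.add_apply, QuadraticMap.comp_apply, h1, hQ' i y]
    · intro y hy
      simp only [QuadraticMap.add_apply, QuadraticMap.comp_apply, hYD y hy, QuadraticMap.map_zero, add_zero]
    · ext y
      simp only [QuadraticMap.add_apply, QuadraticMap.comp_apply, QuadraticMap.sub_apply,
        Submodule.subtype_apply, hYY]
      ring

end Groth.Agent.S19010
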