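import Groth.Statements.S19012
import Groth.Agent.RootD.K222.Quad

set_option autoImplicit false
universe u v w x
open RootD

namespace Groth.Agent.S19012

/-- Let P be a finite reduced crystallographic root pairing over a field of characteristic zero which is
irreducible, and b a base. A quadratic form on the coweight module that is invariant under all root
reflections and vanishes on some simple coroot is zero; in other words an invariant form is
determined by its value on a single simple coroot. (The source proves, component by component of the
Dynkin diagram, that an invariant integer-valued form on the coroot lattice with prescribed value on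
the first simple coroot of each component is unique; here the system is irreducible, the coroots
span the coweight module, and forms take values in the base field.) -/
theorem result {ι : Type u} {K : Type v} {M : Type w} {N : Type x} [Field K] [CharZero K]
    [AddCommGroup M] [Module K M] [AddCommGroup N] [Module K N] (P : RootPairing ι K M N)
    [Finite ι] [P.IsCrystallographic] [P.IsReduced] [P.IsIrreducible] (b : P.Base)
    (Q : QuadraticMap K N K) (hQ : ∀ (i : ι) (y : N), Q (P.coreflection i y) = Q y)
    (i₀ : ι) (hi₀ : i₀ ∈ b.support) (h0 : Q (P.coroot i₀) = 0) : Q = 0 := by
  have h1 : ∀ j, ∀ y : N, QuadraticMap.polar Q y (P.coroot j) = P.root' j y * Q (P.coroot j) := fun j =>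
    (K222.Quad.inv_iff_top P Q j).1 (hQ j)
  set q : Submodule K N := LinearMap.ker (QuadraticMap.polarBilin Q) with hq
  have hmem : ∀ x, x ∈ q ↔ ∀ y, QuadraticMap.polar Q x y = 0 := by
    intro x
    rw [hq, LinearMap.mem_ker, LinearMap.ext_iff]
    rfl
  have hpol : ∀ i x y, QuadraticMap.polar Q (P.coreflection i x) y = QuadraticMap.polar Q x (P.coreflection i y) := by
    intro i x y
    rw [QuadraticMap.polar, QuadraticMap.polar, ← hQ i (P.coreflection i x + y), hQ i y, hQ i x,
      map_add, P.coreflection_same]
  have htop : q = ⊤ := by
    apply RootPairing.IsIrreducible.eq_top_of_invtSubmodule_coreflection (P := P) q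
    · intro i x hx
      rw [Submodule.mem_comap]
      change P.coreflection i x ∈ q
      rw [hmem] at hx ⊢
      intro y
      rw [hpol]
      exact hx _
    · intro hbot
      have h2 : P.coroot i₀ ∈ q := by
        rw [hmem]
        intro y
        rw [QuadraticMap.polar_comm, h1, h0, mul_zero]
      rw [hbot, Submodule.mem_bot] at h2
      exact P.ne_zero' i₀ h2
  ext y
  have h3 : y ∈ q := htop ▸ Submodule.mem_top
  rw [hmem] at h3
  have h4 := h3 y
  rw [QuadraticMap.polar_self] at h4
  simpa using h4

end Groth.Agent.S19012
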