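import Groth.Statements.S19018
import Mathlib.Algebra.Algebra.Operations
import Mathlib.RingTheory.Ideal.Operations
import Mathlib.Tactic
-- import your own Groth.Agent.* helpers here

set_option autoImplicit false
universe u
open TensorProduct
open SymTen

namespace Groth.Agent.S19018

section Swap
variable (k R : Type u) [Field k] [CommRing R] [Algebra k R]

/-- The swap. -/
noncomputable abbrev tau : R ⊗[k] R →ₐ[k] R ⊗[k] R :=
  ((Algebra.TensorProduct.comm k R R : R ⊗[k] R ≃ₐ[k] R ⊗[k] R) : R ⊗[k] R →ₐ[k] R ⊗[k] R)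

/-- The swap-invariants. -/
noncomputable abbrev SS : Subalgebra k (R ⊗[k] R) :=
  AlgHom.equalizer (tau k R) (AlgHom.id k (R ⊗[k] R))

variable {k R}

theorem tau_tau (x : R ⊗[k] R) : tau k R (tau k R x) = x := by
  induction x using TensorProduct.induction_on with
  | zero => simp
  | tmul a b => simp [tau]
  | add x y hx hy => rw [map_add, map_add, hx, hy]

theorem mem_SS (x : R ⊗[k] R) : x ∈ SS k R ↔ tau k R x = x := Iff.rfl

theorem add_tau_mem (x : R ⊗[k] R) : x + tau k R x ∈ SS k R := by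
  rw [mem_SS, map_add, tau_tau, add_comm]

/-- The generators of the diagonal ideal. -/
noncomputable def dd (s : R) : R ⊗[k] R := (1 : R) ⊗ₜ[k] s - s ⊗ₜ[k] (1 : R)

theorem tau_dd (s : R) : tau k R (dd s) = - dd s := by
  simp [tau, dd]

theorem dd_mem (s : R) : dd s ∈ KaehlerDifferential.ideal k R :=
  KaehlerDifferential.one_smul_sub_smul_one_mem_ideal k s

theorem ideal_pow_four : KaehlerDifferential.ideal k R ^ 4 =
    Ideal.span {x : R ⊗[k] R | ∃ a b c d : R, x = dd a * dd b * (dd c * dd d)} := by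
  have h1 : KaehlerDifferential.ideal k R = Ideal.span (Set.range (dd (k := k) (R := R))) :=
    (KaehlerDifferential.span_range_eq_ideal k R).symm
  rw [show (4 : ℕ) = 2 + 2 by rfl, pow_add, pow_two, h1, Ideal.span_mul_span', Ideal.span_mul_span']
  congr 1
  ext x
  simp only [Set.mem_mul, Set.mem_range, Set.mem_ofPred_eq]
  constructor
  · rintro ⟨_, ⟨_, ⟨a, rfl⟩, _, ⟨b, rfl⟩, rfl⟩, _, ⟨_, ⟨c, rfl⟩, _, ⟨d, rfl⟩, rfl⟩, rfl⟩
    exact ⟨a, b, c, d, rfl⟩
  · rintro ⟨a, b, c, d, rfl⟩
    exact ⟨_, ⟨_, ⟨a, rfl⟩, _, ⟨b, rfl⟩, rfl⟩, _, ⟨_, ⟨c, rfl⟩, _, ⟨d, rfl⟩, rfl⟩, rfl⟩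

theorem dd_mul_mem (a b : R) : dd (k := k) a * dd b ∈ SS k R := by
  rw [mem_SS, map_mul, tau_dd, tau_dd, neg_mul_neg]

/-- The invariant elements of `I ^ 2`. -/
noncomputable abbrev J2 : Ideal (SS k R) :=
  Ideal.comap (SS k R).val (KaehlerDifferential.ideal k R ^ 2)

theorem dd_mul_mem_J2 (a b : R) : (⟨dd a * dd b, dd_mul_mem a b⟩ : SS k R) ∈ J2 (k := k) (R := R) := by
  rw [Ideal.mem_comap, pow_two]
  exact Ideal.mul_mem_mul (dd_mem a) (dd_mem b)

theorem add_tau_mem_of_mem {x : R ⊗[k] R} (hx : x ∈ KaehlerDifferential.ideal k R ^ 4) (w : R ⊗[k] R) :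
    (⟨w * x + tau k R (w * x), add_tau_mem _⟩ : SS k R) ∈ (J2 (k := k) (R := R)) ^ 2 := by
  rw [ideal_pow_four] at hx
  induction hx using Submodule.span_induction generalizing w with
  | mem x hx =>
    obtain ⟨a, b, c, d, rfl⟩ := hx
    have h : (⟨w * (dd a * dd b * (dd c * dd d)) + tau k R (w * (dd a * dd b * (dd c * dd d))),
        add_tau_mem _⟩ : SS k R) =
        ⟨w + tau k R w, add_tau_mem _⟩ * (⟨dd a * dd b, dd_mul_mem a b⟩ * ⟨dd c * dd d, dd_mul_mem c d⟩) := by
      apply Subtype.ext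
      show w * (dd a * dd b * (dd c * dd d)) + tau k R (w * (dd a * dd b * (dd c * dd d))) =
        (w + tau k R w) * ((dd a * dd b) * (dd c * dd d))
      rw [map_mul, map_mul, map_mul, map_mul, tau_dd, tau_dd, tau_dd, tau_dd]
      ring
    rw [h, pow_two]
    exact Ideal.mul_mem_left _ _ (Ideal.mul_mem_mul (dd_mul_mem_J2 a b) (dd_mul_mem_J2 c d))
  | zero =>
    have h : (⟨w * 0 + tau k R (w * 0), add_tau_mem _⟩ : SS k R) = 0 := by
      apply Subtype.ext
      simp
    rw [h]
    exact Submodule.zero_mem _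
  | add x y _ _ hx hy =>
    have h : (⟨w * (x + y) + tau k R (w * (x + y)), add_tau_mem _⟩ : SS k R) =
        ⟨w * x + tau k R (w * x), add_tau_mem _⟩ + ⟨w * y + tau k R (w * y), add_tau_mem _⟩ := by
      apply Subtype.ext
      show w * (x + y) + tau k R (w * (x + y)) = (w * x + tau k R (w * x)) + (w * y + tau k R (w * y))
      rw [mul_add, map_add]
      ring
    rw [h]
    exact Submodule.add_mem _ (hx w) (hy w)
  | smul r x _ hx =>
    have h := hx (w * r)
    have e : w * (r • x) = w * r * x := by rw [smul_eq_mul, mul_assoc]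
    simp only [e]
    exact h

end Swap

/-- Suppose k is a field in which 2 ≠ 0 and R is a commutative k-algebra. Write I for the ideal of the
diagonal, i.e. the kernel of multiplication R ⊗_k R → R, and write S for the subalgebra of R ⊗_k R
consisting of elements invariant under interchanging the two tensor factors. Then, viewed as ideals
of S, the swap-invariant elements of I^4 form precisely the square of the ideal of swap-invariant
elements of I^2. (The source is stated over the complex numbers; the proof needs only that 2 is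
invertible.) -/
theorem result
    (k R : Type u) [Field k] [NeZero (2 : k)] [CommRing R] [Algebra k R] :
    Ideal.comap
        (AlgHom.equalizer ((Algebra.TensorProduct.comm k R R : R ⊗[k] R ≃ₐ[k] R ⊗[k] R) : R ⊗[k] R →ₐ[k] R ⊗[k] R)
          (AlgHom.id k (R ⊗[k] R))).val
        (KaehlerDifferential.ideal k R ^ 4) =
      (Ideal.comap
        (AlgHom.equalizer ((Algebra.TensorProduct.comm k R R : R ⊗[k] R ≃ₐ[k] R ⊗[k] R) : R ⊗[k] R →ₐ[k] R ⊗[k] R)
          (AlgHom.id k (R ⊗[k] R))).val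
        (KaehlerDifferential.ideal k R ^ 2)) ^ 2 := by
  apply le_antisymm
  · intro x hx
    have h1 := add_tau_mem_of_mem (k := k) (R := R) (x := x.1) (Ideal.mem_comap.mp hx) 1
    have h2 : (⟨1 * x.1 + tau k R (1 * x.1), add_tau_mem _⟩ : SS k R) = (2 : k) • x := by
      apply Subtype.ext
      show 1 * x.1 + tau k R (1 * x.1) = (2 : k) • x.1
      have h3 : tau k R x.1 = x.1 := x.2
      rw [one_mul, h3, two_smul]
    rw [h2] at h1
    have h4 : ((2 : k)⁻¹) • ((2 : k) • x) = x := by
      rw [smul_smul, inv_mul_cancel₀ (NeZero.ne _), one_smul]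
    rw [← h4, Algebra.smul_def]
    exact Ideal.mul_mem_left _ _ h1
  · rw [pow_two, Ideal.mul_le]
    intro a ha b hb
    rw [Ideal.mem_comap] at ha hb ⊢
    rw [map_mul, show (4 : ℕ) = 2 + 2 by rfl, pow_add]
    exact Ideal.mul_mem_mul ha hb

end Groth.Agent.S19018
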