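import Groth.Statements.S19019
import Mathlib.Tactic
import Mathlib.Analysis.Matrix.Hermitian
import Mathlib.LinearAlgebra.Matrix.PosDef
import Mathlib.Analysis.Complex.Basic
import Mathlib.MeasureTheory.Integral.IntervalIntegral.FundThmCalculus
import Mathlib.Analysis.SpecialFunctions.Integrals.Basic
import Mathlib.Topology.Algebra.Module.Cardinality
import Mathlib.Algebra.Polynomial.Roots

set_option autoImplicit false
open scoped ComplexOrder
open Toeplitz

namespace Groth.Agent.S19019


open Complex in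
theorem int_exp (k : ℤ) : ∫ y in (0:ℝ)..(2 * Real.pi), Complex.exp (Complex.I * (k : ℂ) * (y : ℂ)) =
    if k = 0 then (2 * Real.pi : ℂ) else 0 := by
  by_cases hk : k = 0
  · subst hk
    simp
  · rw [if_neg hk]
    have hc : Complex.I * (k : ℂ) ≠ 0 := mul_ne_zero Complex.I_ne_zero (by exact_mod_cast hk)
    rw [integral_exp_mul_complex hc]
    have h1 : Complex.exp (Complex.I * (k : ℂ) * ((2 * Real.pi : ℝ) : ℂ)) = 1 := by
      rw [Complex.exp_eq_one_iff]
      exact ⟨k, by push_cast; ring⟩
    rw [h1]
    simp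

theorem zeros_finite {m : ℕ} (x : Fin m → ℂ) (hx : x ≠ 0) :
    Set.Finite {z : ℂ | ∑ j : Fin m, x j * z ^ (j : ℕ) = 0} := by
  classical
  let P : Polynomial ℂ := ∑ j : Fin m, Polynomial.C (x j) * Polynomial.X ^ (j : ℕ)
  have hP : P ≠ 0 := by
    intro h
    apply hx
    funext i
    have h1 : P.coeff i = x i := by
      simp only [P, Polynomial.finsetSum_coeff, Polynomial.coeff_C_mul, Polynomial.coeff_X_pow]
      rw [Finset.sum_eq_single i]
      · simp
      · intro b _ hb
        rw [if_neg (fun h => hb (Fin.ext h.symm)), mul_zero]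
      · intro h; exact absurd (Finset.mem_univ _) h
    rw [← h1, h, Polynomial.coeff_zero]
    rfl
  refine Set.Finite.subset (Polynomial.rootSet_finite P ℂ) fun z hz => ?_
  rw [Polynomial.mem_rootSet]
  refine ⟨hP, ?_⟩
  simp only [P, map_sum, map_mul, Polynomial.aeval_C, map_pow, Polynomial.aeval_X]
  exact hz

theorem preimage_countable {s : Set ℂ} (hs : s.Finite) :
    Set.Countable {y : ℝ | Complex.exp (-(Complex.I * (y : ℂ))) ∈ s} := by
  have h1 : {y : ℝ | Complex.exp (-(Complex.I * (y : ℂ))) ∈ s} = ⋃ z ∈ s, {y : ℝ | Complex.exp (-(Complex.I * (y : ℂ))) = z} := by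
    ext y; simp
  rw [h1]
  refine hs.countable.biUnion fun z _ => ?_
  rcases Set.eq_empty_or_nonempty {y : ℝ | Complex.exp (-(Complex.I * (y : ℂ))) = z} with h | ⟨y0, hy0⟩
  · rw [h]; exact Set.countable_empty
  · refine Set.Countable.mono (s₂ := Set.range fun k : ℤ => y0 - 2 * Real.pi * k) ?_ (Set.countable_range _)
    intro y hy
    have h2 : Complex.exp (-(Complex.I * (y : ℂ))) = Complex.exp (-(Complex.I * (y0 : ℂ))) := hy.trans hy0.symm
    rw [Complex.exp_eq_exp_iff_exists_int] at h2
    obtain ⟨n, hn⟩ := h2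
    refine ⟨n, ?_⟩
    have h3 : Complex.I * (y : ℂ) = Complex.I * ((y0 - 2 * Real.pi * n : ℝ) : ℂ) := by
      push_cast
      linear_combination -hn
    have h4 := mul_left_cancel₀ Complex.I_ne_zero h3
    exact (Complex.ofReal_injective h4).symm


/-- Let A be an m × m complex Hermitian Toeplitz matrix, with entries A i j = t (j - i) constant along
diagonals, and let f(y) = Σ_{-m < k < m} t k · exp(i k y) be the trigonometric polynomial attached
to it. If f has positive real part at every real y outside a countable set, then A is positive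
definite (hence nondegenerate). (The source also states the mirror case: f negative off a countable
set gives A negative definite, which is this statement for -A.) -/
theorem result
    (m : ℕ) (t : ℤ → ℂ) (A : Matrix (Fin m) (Fin m) ℂ)
    (hA : ∀ i j : Fin m, A i j = t ((j : ℤ) - (i : ℤ))) (hH : A.IsHermitian)
    (hpos : Set.Countable {y : ℝ | ¬ 0 < (∑ k ∈ Finset.Ioo (-(m : ℤ)) (m : ℤ),
        t k * Complex.exp (Complex.I * (k : ℂ) * (y : ℂ))).re}) :
    A.PosDef := by
  refine Matrix.PosDef.of_dotProduct_mulVec_pos hH fun x hx => ?_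
  set f : ℝ → ℂ := fun y => ∑ k ∈ Finset.Ioo (-(m : ℤ)) (m : ℤ), t k * Complex.exp (Complex.I * (k : ℂ) * (y : ℂ)) with hf
  set P : ℝ → ℂ := fun y => ∑ j : Fin m, x j * Complex.exp (-(Complex.I * (y : ℂ))) ^ (j : ℕ) with hP
  have hfc : Continuous f := by fun_prop
  have hPc : Continuous P := by fun_prop
  -- the integral formula
  have hint : ∫ y in (0:ℝ)..(2 * Real.pi), f y * (star (P y) * P y) = (2 * Real.pi : ℂ) * (star x ⬝ᵥ (A.mulVec x)) := by
    have h1 : ∀ y : ℝ, f y * (star (P y) * P y) = ∑ k ∈ Finset.Ioo (-(m : ℤ)) (m : ℤ), ∑ i : Fin m, ∑ j : Fin m,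
        (t k * (star (x i) * x j)) * Complex.exp (Complex.I * ((k + (i : ℤ) - (j : ℤ) : ℤ) : ℂ) * (y : ℂ)) := by
      intro y
      simp only [hf, hP, star_sum, star_mul', star_pow]
      rw [Finset.sum_mul_sum, Finset.sum_mul]
      refine Finset.sum_congr rfl fun k _ => ?_
      rw [Finset.mul_sum]
      refine Finset.sum_congr rfl fun i _ => ?_
      rw [Finset.mul_sum]
      refine Finset.sum_congr rfl fun j _ => ?_
      have h2 : star (Complex.exp (-(Complex.I * (y : ℂ)))) = Complex.exp (Complex.I * (y : ℂ)) := by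
        rw [Complex.star_def, ← Complex.exp_conj]
        simp
      rw [h2, ← Complex.exp_nat_mul, ← Complex.exp_nat_mul]
      have h3 : Complex.exp (Complex.I * ((k + (i : ℤ) - (j : ℤ) : ℤ) : ℂ) * (y : ℂ)) =
          Complex.exp (Complex.I * (k : ℂ) * (y : ℂ)) * Complex.exp (((i : ℕ) : ℂ) * (Complex.I * (y : ℂ))) *
            Complex.exp (((j : ℕ) : ℂ) * (-(Complex.I * (y : ℂ)))) := by
        rw [← Complex.exp_add, ← Complex.exp_add]
        congr 1
        push_cast
        ring
      rw [h3]
      ring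
    simp only [h1]
    rw [intervalIntegral.integral_finsetSum]
    · have h2 : ∀ k ∈ Finset.Ioo (-(m : ℤ)) (m : ℤ), ∫ y in (0:ℝ)..(2 * Real.pi), ∑ i : Fin m, ∑ j : Fin m,
        (t k * (star (x i) * x j)) * Complex.exp (Complex.I * ((k + (i : ℤ) - (j : ℤ) : ℤ) : ℂ) * (y : ℂ)) =
          ∑ i : Fin m, ∑ j : Fin m, (t k * (star (x i) * x j)) * (if k + (i : ℤ) - (j : ℤ) = 0 then (2 * Real.pi : ℂ) else 0) := by
        intro k _
        rw [intervalIntegral.integral_finsetSum]
        · refine Finset.sum_congr rfl fun i _ => ?_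
          rw [intervalIntegral.integral_finsetSum]
          · refine Finset.sum_congr rfl fun j _ => ?_
            rw [intervalIntegral.integral_const_mul, int_exp]
          · intro j _
            have : Continuous (fun y : ℝ => (t k * (star (x i) * x j)) * Complex.exp (Complex.I * ((k + (i : ℤ) - (j : ℤ) : ℤ) : ℂ) * (y : ℂ))) := by fun_prop
            exact this.intervalIntegrable _ _
        · intro i _
          have : Continuous (fun y : ℝ => ∑ j : Fin m, (t k * (star (x i) * x j)) * Complex.exp (Complex.I * ((k + (i : ℤ) - (j : ℤ) : ℤ) : ℂ) * (y : ℂ))) := by fun_prop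
          exact this.intervalIntegrable _ _
      rw [Finset.sum_congr rfl h2, Finset.sum_comm]
      simp only [dotProduct, Matrix.mulVec, Finset.mul_sum, Pi.star_apply]
      refine Finset.sum_congr rfl fun i _ => ?_
      rw [Finset.sum_comm]
      refine Finset.sum_congr rfl fun j _ => ?_
      rw [Finset.sum_eq_single ((j : ℤ) - (i : ℤ))]
      · rw [if_pos (by ring), hA]
        ring
      · intro k _ hk
        rw [if_neg (fun h => hk (by linarith)), mul_zero]
      · intro h
        exfalso
        apply h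
        rw [Finset.mem_Ioo]
        have := i.2
        have := j.2
        constructor <;> omega
    · intro k _
      have : Continuous (fun y : ℝ => ∑ i : Fin m, ∑ j : Fin m, (t k * (star (x i) * x j)) * Complex.exp (Complex.I * ((k + (i : ℤ) - (j : ℤ) : ℤ) : ℂ) * (y : ℂ))) := by fun_prop
      exact this.intervalIntegrable _ _
  -- positivity of the real part
  have hre : ∀ y, (f y * (star (P y) * P y)).re = (f y).re * ‖P y‖ ^ 2 := by
    intro y
    have h1 : star (P y) * P y = ((‖P y‖ ^ 2 : ℝ) : ℂ) := by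
      rw [mul_comm, Complex.star_def, Complex.mul_conj, Complex.normSq_eq_norm_sq]
    rw [h1, Complex.re_mul_ofReal]
  have hcl : IsClosed {y : ℝ | 0 ≤ (f y).re} := isClosed_le continuous_const (Complex.continuous_re.comp hfc)
  have hnn : ∀ y : ℝ, 0 ≤ (f y).re := by
    intro y
    have hd := hpos.dense_compl ℝ
    have h1 : {y : ℝ | ¬ 0 < (f y).re}ᶜ ⊆ {y : ℝ | 0 ≤ (f y).re} := by
      intro z hz
      rw [Set.mem_compl_iff, Set.mem_ofPred_eq, not_not] at hz
      exact hz.le
    have h2 := closure_minimal h1 hcl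
    rw [hd.closure_eq] at h2
    exact h2 (Set.mem_univ y)
  have hPcount : Set.Countable {y : ℝ | P y = 0} := preimage_countable (zeros_finite x hx)
  obtain ⟨y0, hy0, hy0'⟩ : ∃ y0 : ℝ, y0 ∈ Set.Ioo (0:ℝ) (2 * Real.pi) ∧ y0 ∈ ({y : ℝ | ¬ 0 < (f y).re} ∪ {y : ℝ | P y = 0})ᶜ := by
    have hd := (hpos.union hPcount).dense_compl ℝ
    exact hd.exists_mem_open isOpen_Ioo ⟨Real.pi, by constructor <;> linarith [Real.pi_pos]⟩ |>.imp fun y hy => ⟨hy.2, hy.1⟩
  have hposint : 0 < ∫ y in (0:ℝ)..(2 * Real.pi), (f y).re * ‖P y‖ ^ 2 := by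
    refine intervalIntegral.integral_pos (by linarith [Real.pi_pos]) ?_ ?_ ⟨y0, ⟨hy0.1.le, hy0.2.le⟩, ?_⟩
    · have : Continuous (fun y => (f y).re * ‖P y‖ ^ 2) := by
        have := Complex.continuous_re.comp hfc
        fun_prop
      exact this.continuousOn
    · intro y _
      exact mul_nonneg (hnn y) (by positivity)
    · simp only [Set.mem_compl_iff, Set.mem_union, Set.mem_ofPred_eq, not_or, not_not] at hy0'
      have h1 := norm_pos_iff.mpr hy0'.2
      exact mul_pos hy0'.1 (by positivity)
  have hreint : (∫ y in (0:ℝ)..(2 * Real.pi), f y * (star (P y) * P y)).re = ∫ y in (0:ℝ)..(2 * Real.pi), (f y).re * ‖P y‖ ^ 2 := by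
    have h1 : Continuous (fun y => f y * (star (P y) * P y)) := by
      have : Continuous fun y => star (P y) := continuous_star.comp hPc
      fun_prop
    have h2 := Complex.reCLM.intervalIntegral_comp_comm (h1.intervalIntegrable (μ := MeasureTheory.volume) 0 (2 * Real.pi))
    simp only [Complex.reCLM_apply] at h2
    rw [← h2]
    exact intervalIntegral.integral_congr fun y _ => hre y
  rw [hint] at hreint
  have h5 : ((2 * Real.pi : ℂ) * (star x ⬝ᵥ (A.mulVec x))).re = (2 * Real.pi) * (star x ⬝ᵥ (A.mulVec x)).re := by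
    have : (2 * Real.pi : ℂ) = ((2 * Real.pi : ℝ) : ℂ) := by push_cast; rfl
    rw [this, Complex.re_ofReal_mul]
  rw [h5] at hreint
  rw [← hreint] at hposint
  rw [Complex.pos_iff]
  refine ⟨(mul_pos_iff_of_pos_left (by positivity)).mp hposint, ?_⟩
  have h6 := Matrix.IsHermitian.im_star_dotProduct_mulVec_self hH x
  exact h6.symm

end Groth.Agent.S19019
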