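import Groth.Statements.S19020
import Mathlib.Tactic
import Mathlib.LinearAlgebra.Matrix.PosDef
import Mathlib.Data.Nat.Choose.Vandermonde
import Mathlib.Data.Nat.Choose.Sum
import Mathlib.Data.Real.Basic
import Mathlib.Algebra.Order.Star.Real

set_option autoImplicit false
open Toeplitz

namespace Groth.Agent.S19020


open Finset in
theorem vand (n d : ℕ) : ∑ s ∈ range (n + 1), n.choose s * n.choose (s + d) = (2 * n).choose (n + d) := by
  rw [two_mul, Nat.add_choose_eq, Finset.Nat.sum_antidiagonal_eq_sum_range_succ_mk,
    show (n + d).succ = (n + 1) + d by omega, Finset.sum_range_add _ (n + 1) d]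
  simp only
  have h1 : ∑ x ∈ range d, n.choose (n + 1 + x) * n.choose (n + d - (n + 1 + x)) = 0 := by
    refine Finset.sum_eq_zero fun x _ => ?_
    rw [Nat.choose_eq_zero_of_lt (show n < n + 1 + x by omega), zero_mul]
  rw [h1, add_zero, ← Finset.sum_range_reflect]
  refine Finset.sum_congr rfl fun s hs => ?_
  rw [Finset.mem_range] at hs
  have h2 : n + 1 - 1 - s = n - s := by omega
  rw [h2, Nat.choose_symm (by omega)]
  congr 2
  omega

/-- the band matrix entries -/
def b (n i t : ℕ) : ℝ := if i ≤ t then (-1) ^ i * (n.choose (t - i) : ℝ) else 0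

open Finset in
theorem sum_b (n m i j : ℕ) (hi : i < m) (hij : j ≤ i) :
    ∑ t ∈ range (m + n), b n i t * b n j t = (-1 : ℝ) ^ (i + j) * (Nat.choose (2 * n) (n + (i - j)) : ℝ) := by
  have h1 : m + n = (i + (n + 1)) + (m - i - 1) := by omega
  rw [h1, Finset.sum_range_add]
  have h2 : ∑ x ∈ range (m - i - 1), b n i (i + (n + 1) + x) * b n j (i + (n + 1) + x) = 0 := by
    refine Finset.sum_eq_zero fun x _ => ?_
    have : b n i (i + (n + 1) + x) = 0 := by
      simp only [b]
      rw [if_pos (by omega), Nat.choose_eq_zero_of_lt (by omega)]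
      simp
    rw [this, zero_mul]
  rw [h2, add_zero, Finset.sum_range_add]
  have h3 : ∑ x ∈ range i, b n i x * b n j x = 0 := by
    refine Finset.sum_eq_zero fun x hx => ?_
    rw [Finset.mem_range] at hx
    have : b n i x = 0 := by
      simp only [b]
      rw [if_neg (by omega)]
    rw [this, zero_mul]
  rw [h3, zero_add, ← vand n (i - j)]
  push_cast
  rw [Finset.mul_sum]
  refine Finset.sum_congr rfl fun s _ => ?_
  simp only [b]
  rw [if_pos (by omega), if_pos (by omega), show i + s - i = s by omega, show i + s - j = s + (i - j) by omega,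
    pow_add]
  ring


/-- For natural numbers n and m, the m × m real Toeplitz matrix with (i, j) entry (-1)^(i+j) · C(2n, n +
|i - j|), i.e. with t_k = (-1)^k C(2n, n + k) on the k-th diagonal for |k| ≤ n and zero beyond, is
positive definite; in particular it is nondegenerate, which is the printed assertion (positive
definiteness is what the printed proof establishes; m = 0 is the empty matrix). -/
theorem result (n m : ℕ) :
    (Matrix.of fun i j : Fin m =>
        (-1 : ℝ) ^ ((i : ℕ) + (j : ℕ)) * (Nat.choose (2 * n) (n + Nat.dist i j) : ℝ)).PosDef := by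
  let B : Matrix (Fin m) (Fin (m + n)) ℝ := Matrix.of fun i t => b n i t
  have hB : (Matrix.of fun i j : Fin m =>
        (-1 : ℝ) ^ ((i : ℕ) + (j : ℕ)) * (Nat.choose (2 * n) (n + Nat.dist i j) : ℝ)) = B * B.conjTranspose := by
    ext i j
    rw [Matrix.mul_apply]
    simp only [Matrix.of_apply, Matrix.conjTranspose_apply, star_trivial, B]
    rw [Fin.sum_univ_eq_sum_range (fun t => b n i t * b n j t) (m + n)]
    rcases le_total (j : ℕ) (i : ℕ) with h | h
    · rw [sum_b n m i j i.2 h, Nat.dist_eq_sub_of_le_right h]
    · have h1 := sum_b n m j i j.2 h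
      rw [Nat.dist_eq_sub_of_le h, add_comm (i : ℕ), ← h1]
      exact Finset.sum_congr rfl fun t _ => mul_comm _ _
  rw [hB]
  apply Matrix.PosDef.mul_conjTranspose_self
  rw [← Matrix.coe_vecMulLinear, ← LinearMap.ker_eq_bot, LinearMap.ker_eq_bot']
  intro x hx
  have hx' : ∀ t : Fin (m + n), ∑ i : Fin m, x i * b n i t = 0 := fun t => congrFun hx t
  have key : ∀ t : ℕ, ∀ ht : t < m, x ⟨t, ht⟩ = 0 := by
    intro t
    induction t using Nat.strong_induction_on with
    | _ t ih =>
    intro ht
    have h1 := hx' ⟨t, by omega⟩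
    rw [Finset.sum_eq_single ⟨t, ht⟩] at h1
    · simp only [b] at h1
      rw [if_pos le_rfl, Nat.sub_self, Nat.choose_zero_right, Nat.cast_one, mul_one] at h1
      rcases mul_eq_zero.mp h1 with h2 | h2
      · exact h2
      · exact absurd h2 (pow_ne_zero _ (by norm_num))
    · intro i _ hi
      rcases lt_trichotomy (i : ℕ) t with h2 | h2 | h2
      · rw [show x i = 0 from ih i h2 i.2, zero_mul]
      · exact absurd (Fin.ext h2) hi
      · simp only [b]
        rw [if_neg (by omega), mul_zero]
    · intro h2
      exact absurd (Finset.mem_univ _) h2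
  funext i
  exact key i i.2

end Groth.Agent.S19020
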