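import Groth.Statements.S19021
import Mathlib.Tactic
import Mathlib.LinearAlgebra.Vandermonde
import Mathlib.Data.Nat.Choose.Vandermonde
import Mathlib.Data.Nat.Choose.Sum
import Mathlib.RingTheory.Polynomial.Pochhammer
import Mathlib.LinearAlgebra.Matrix.Block

set_option autoImplicit false
open Toeplitz

namespace Groth.Agent.S19021


/-- the entries without sign -/
def c (n l j : ℕ) : ℕ := if l ≤ n + j then Nat.choose (2 * n + 1) (n + j - l) else 0

theorem c_eq (n i j : ℕ) : (if j ≤ i then (Nat.choose (2 * n + 1) (n + 1 + (i - j)) : ℤ)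
            else (Nat.choose (2 * n + 1) (n + (j - i)) : ℤ)) = (c n i j : ℤ) := by
  simp only [c]
  by_cases h1 : j ≤ i
  · rw [if_pos h1]
    by_cases h2 : i ≤ n + j
    · rw [if_pos h2, ← Nat.choose_symm (show n + 1 + (i - j) ≤ 2 * n + 1 by omega)]
      congr 2
      omega
    · rw [if_neg h2, Nat.choose_eq_zero_of_lt (by omega)]
  · rw [if_neg h1, if_pos (by omega)]
    congr 2
    omega

open Finset in
theorem vand (n i j : ℕ) : ∑ l ∈ range (i + 1), i.choose l * c n l j = (2 * n + 1 + i).choose (n + j) := by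
  rw [add_comm (2 * n + 1) i, Nat.add_choose_eq, Finset.Nat.sum_antidiagonal_eq_sum_range_succ_mk]
  simp only
  have h0 : ∀ l, i.choose l * c n l j = if l < n + j + 1 then i.choose l * Nat.choose (2 * n + 1) (n + j - l) else 0 := by
    intro l
    simp only [c]
    by_cases h : l ≤ n + j
    · rw [if_pos h, if_pos (by omega)]
    · rw [if_neg h, if_neg (by omega), mul_zero]
  rcases le_total (i + 1) (n + j + 1) with h | h
  · obtain ⟨d, hd⟩ := Nat.exists_eq_add_of_le h
    rw [show (n + j).succ = i + 1 + d by omega, Finset.sum_range_add _ (i + 1) d]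
    have h1 : ∑ x ∈ range d, i.choose (i + 1 + x) * (2 * n + 1).choose (n + j - (i + 1 + x)) = 0 := by
      refine Finset.sum_eq_zero fun x _ => ?_
      rw [Nat.choose_eq_zero_of_lt (by omega), zero_mul]
    rw [h1, add_zero]
    refine Finset.sum_congr rfl fun l hl => ?_
    rw [Finset.mem_range] at hl
    rw [h0, if_pos (by omega)]
  · obtain ⟨d, hd⟩ := Nat.exists_eq_add_of_le h
    rw [hd, Finset.sum_range_add]
    have h1 : ∑ x ∈ range d, i.choose (n + j + 1 + x) * c n (n + j + 1 + x) j = 0 := by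
      refine Finset.sum_eq_zero fun x _ => ?_
      rw [h0, if_neg (by omega)]
    rw [h1, add_zero]
    refine Finset.sum_congr rfl fun l hl => ?_
    rw [Finset.mem_range] at hl
    rw [h0, if_pos (by omega)]

theorem det_M (n m : ℕ) : (Matrix.of fun i j : Fin m => ((2 * n + 1 + i).choose (n + j) : ℤ)).det ≠ 0 := by
  intro h
  -- multiply columns by (n + j)!
  have h1 : (Matrix.of fun i j : Fin m => (((n + j).factorial : ℕ) : ℤ) *
      (Matrix.of fun i j : Fin m => ((2 * n + 1 + i).choose (n + j) : ℤ)) i j).det = 0 := by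
    rw [Matrix.det_mul_row, h, mul_zero]
  have h2 : (Matrix.of fun i j : Fin m => (((n + j).factorial : ℕ) : ℤ) *
      (Matrix.of fun i j : Fin m => ((2 * n + 1 + i).choose (n + j) : ℤ)) i j) =
      Matrix.of fun i j : Fin m => (((2 * n + 1 + i).descFactorial n : ℕ) : ℤ) *
        (Matrix.of fun i j : Fin m => ((descPochhammer ℤ j).eval (((n + 1 + i : ℕ) : ℤ)))) i j := by
    ext i j
    simp only [Matrix.of_apply]
    rw [descPochhammer_eval_eq_descFactorial]
    have h3 : (n + j : ℕ).factorial * (2 * n + 1 + i).choose (n + j) =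
        (2 * n + 1 + i).descFactorial n * (n + 1 + i).descFactorial j := by
      rw [← Nat.descFactorial_eq_factorial_mul_choose]
      have h4 := Nat.descFactorial_mul_descFactorial (n := 2 * n + 1 + i) (m := n + j) (k := n) (by omega)
      rw [show 2 * n + 1 + (i : ℕ) - n = n + 1 + i by omega, show n + (j : ℕ) - n = j by omega] at h4
      rw [← h4, mul_comm]
    exact_mod_cast h3
  rw [h2, Matrix.det_mul_column] at h1
  rcases mul_eq_zero.mp h1 with h3 | h3
  · rw [Finset.prod_eq_zero_iff] at h3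
    obtain ⟨i, _, hi⟩ := h3
    have h4 : (2 * n + 1 + (i : ℕ)).descFactorial n ≠ 0 := by
      rw [Ne, Nat.descFactorial_eq_zero_iff_lt]
      omega
    exact h4 (by exact_mod_cast hi)
  · rw [← Matrix.det_eval_matrixOfPolynomials_eq_det_vandermonde (fun i : Fin m => (((n + 1 + i : ℕ) : ℤ)))
      (fun j : Fin m => descPochhammer ℤ j) (fun j => descPochhammer_natDegree ℤ j)
      (fun j => monic_descPochhammer ℤ j)] at h3
    revert h3
    rw [imp_false, ← Ne, Matrix.det_vandermonde_ne_zero_iff]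
    intro i i' hii
    simp only at hii
    have : n + 1 + (i : ℕ) = n + 1 + (i' : ℕ) := by exact_mod_cast hii
    exact Fin.ext (by omega)


/-- For natural numbers n and m, the m × m integer Toeplitz matrix with (i, j) entry (-1)^(i+j) ·
C(2n+1, n+1+i-j) (the binomial coefficient being 0 outside the range 0 ≤ n+1+i-j ≤ 2n+1;
equivalently s_k = (-1)^k C(2n+1, n+k+1) on the diagonal i - j = k for -n-1 ≤ k ≤ n and zero beyond)
is nondegenerate: its determinant is nonzero (m = 0 is the empty matrix, of determinant 1). -/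
theorem result (n m : ℕ) :
    (Matrix.of fun i j : Fin m =>
        (-1 : ℤ) ^ ((i : ℕ) + (j : ℕ)) *
          (if (j : ℕ) ≤ (i : ℕ) then (Nat.choose (2 * n + 1) (n + 1 + ((i : ℕ) - (j : ℕ))) : ℤ)
            else (Nat.choose (2 * n + 1) (n + ((j : ℕ) - (i : ℕ))) : ℤ))).det ≠ 0 := by
  have h1 : (Matrix.of fun i j : Fin m =>
        (-1 : ℤ) ^ ((i : ℕ) + (j : ℕ)) *
          (if (j : ℕ) ≤ (i : ℕ) then (Nat.choose (2 * n + 1) (n + 1 + ((i : ℕ) - (j : ℕ))) : ℤ)
            else (Nat.choose (2 * n + 1) (n + ((j : ℕ) - (i : ℕ))) : ℤ))) =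
      Matrix.of fun i j : Fin m => (-1 : ℤ) ^ (i : ℕ) * (Matrix.of fun i j : Fin m => (-1 : ℤ) ^ (j : ℕ) *
        (Matrix.of fun i j : Fin m => (c n i j : ℤ)) i j) i j := by
    ext i j
    simp only [Matrix.of_apply]
    rw [c_eq, pow_add, mul_assoc]
  rw [h1, Matrix.det_mul_column, Matrix.det_mul_row]
  refine mul_ne_zero ?_ (mul_ne_zero ?_ ?_)
  · exact Finset.prod_ne_zero_iff.mpr fun i _ => pow_ne_zero _ (by norm_num)
  · exact Finset.prod_ne_zero_iff.mpr fun i _ => pow_ne_zero _ (by norm_num)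
  · intro h2
    apply det_M n m
    have h3 : (Matrix.of fun i j : Fin m => ((2 * n + 1 + i).choose (n + j) : ℤ)) =
        (Matrix.of fun i l : Fin m => ((i : ℕ).choose l : ℤ)) * (Matrix.of fun i j : Fin m => (c n i j : ℤ)) := by
      ext i j
      rw [Matrix.mul_apply]
      simp only [Matrix.of_apply]
      rw [Fin.sum_univ_eq_sum_range (fun l => (((i : ℕ).choose l : ℕ) : ℤ) * (c n l j : ℤ)) m, ← vand]
      push_cast
      obtain ⟨d, hd⟩ := Nat.exists_eq_add_of_le (show (i : ℕ) + 1 ≤ m from i.2)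
      have h5 : ∑ l ∈ Finset.range m, (((i : ℕ).choose l : ℕ) : ℤ) * (c n l j : ℤ) =
          ∑ l ∈ Finset.range ((i : ℕ) + 1 + d), (((i : ℕ).choose l : ℕ) : ℤ) * (c n l j : ℤ) :=
        congrArg (fun N => ∑ l ∈ Finset.range N, (((i : ℕ).choose l : ℕ) : ℤ) * (c n l j : ℤ)) hd
      rw [h5, Finset.sum_range_add _ ((i : ℕ) + 1) d]
      have h4 : ∑ x ∈ Finset.range d, (((i : ℕ).choose ((i : ℕ) + 1 + x) : ℕ) : ℤ) * (c n ((i : ℕ) + 1 + x) j : ℤ) = 0 := by
        refine Finset.sum_eq_zero fun x _ => ?_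
        rw [Nat.choose_eq_zero_of_lt (by omega), Nat.cast_zero, zero_mul]
      rw [h4, add_zero]
    rw [h3, Matrix.det_mul, h2, mul_zero]

end Groth.Agent.S19021
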