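import Groth.Statements.S19022
import Groth.Agent.S2127
import Groth.Agent.PicF.K248.Basic

set_option autoImplicit false
universe u
open CategoryTheory AlgebraicGeometry
open PicF

namespace Groth.Agent.S19022

/-- Let X be a scheme, L an invertible O_X-module and T a finite set of closed points of X that lies in
some affine open of X. Then T lies in an affine open U of X on which L is trivial (L restricted to U
is isomorphic to the structure sheaf). (The source states this for a smooth quasi-projective complex
surface, where every finite set of points lies in an affine open, and phrases it as: X^n and the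
symmetric product S^n X are covered by the opens U^n and S^n U with U affine and L trivial on U; the
printed argument uses only that the finitely many points lie in one affine open, which is taken as
the hypothesis here.) -/
theorem result
    (X : Scheme.{u}) (L : X.Modules) (hL : PicF.IsInvertible L)
    (T : Finset X) (hT : ∀ x ∈ T, IsClosed ({x} : Set X))
    (hU : ∃ U : X.Opens, IsAffineOpen U ∧ ∀ x ∈ T, x ∈ U) :
    ∃ U : X.Opens, IsAffineOpen U ∧ (∀ x ∈ T, x ∈ U) ∧
      Nonempty (L.restrict U.ι ≅ Coh.structureModule (↑U : Scheme.{u})) := by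
  obtain ⟨U, hU, hTU⟩ := hU
  have : IsAffine U := hU
  obtain ⟨s, hs1, hs2, -⟩ := Groth.Agent.S2127.result (X := ↑U) (L.restrict U.ι)
    (K248.Basic.isInvertible_restrict hL U.ι) ⊤ (U.ι ⁻¹' (T : Set X))
    (T.finite_toSet.preimage U.ι.isOpenEmbedding.injective.injOn) (fun _ _ => trivial)
  refine ⟨U.ι ''ᵁ (CohB1.genLocus _ s), hs1.image_of_isOpenImmersion U.ι, ?_, ?_⟩
  · intro x hx
    exact ⟨⟨x, hTU x hx⟩, hs2 hx, rfl⟩
  · have h1 := Groth.Agent.Fdesc.LocGen.isGen_sec_genLocus s
    obtain ⟨m, hm⟩ := (Groth.Agent.Fdesc.LocGen.toRestrict (M := L) U.ι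
      (U := CohB1.genLocus _ s)).surjective (Groth.Agent.Fdesc.LocGen.sec s (CohB1.genLocus _ s))
    rw [← hm, Groth.Agent.Fdesc.LocGen.isGen_toRestrict_iff] at h1
    exact K248.Basic.triv_restrict_of_isGen h1

end Groth.Agent.S19022
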