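import Groth.Statements.S19025
import Mathlib.Tactic
import Mathlib.Algebra.Group.ForwardDiff
import Mathlib.Data.Nat.Choose.Sum

set_option autoImplicit false
universe u
open HigherRestr

namespace Groth.Agent.S19025


open Finset in
theorem leibniz {S : Type u} [CommRing S] (N : ℕ) : ∀ (u y : ℕ → S) (a : ℕ),
    (fwdDiff (1 : ℕ))^[N] (fun j => u j * y j) a =
      ∑ ij ∈ antidiagonal N, (N.choose ij.1 : S) *
        ((fwdDiff (1 : ℕ))^[ij.1] u a * (fwdDiff (1 : ℕ))^[ij.2] y (a + ij.1)) := by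
  induction N with
  | zero => intro u y a; simp
  | succ N ih =>
    intro u y a
    rw [Finset.sum_antidiagonal_choose_succ_mul
      (fun i k => (fwdDiff (1 : ℕ))^[i] u a * (fwdDiff (1 : ℕ))^[k] y (a + i)) N]
    rw [Function.iterate_succ_apply]
    have h1 : fwdDiff (1 : ℕ) (fun j => u j * y j) =
        (fun j => u j * fwdDiff (1 : ℕ) y j) + (fun j => fwdDiff (1 : ℕ) u j * y (j + 1)) := by
      funext j
      simp only [fwdDiff, Pi.add_apply]
      ring
    rw [h1, fwdDiff_iter_add, Pi.add_apply, ih, ih]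
    congr 1
    refine Finset.sum_congr rfl fun ij hij => ?_
    rw [mem_antidiagonal] at hij
    have h2 : N.choose ij.1 = N.choose ij.2 := by
      rw [← hij]; exact (Nat.choose_symm_add)
    rw [h2, ← Function.iterate_succ_apply (fwdDiff 1) ij.1 u]
    congr 2
    have h3 : ∀ (k b : ℕ), (fwdDiff (1 : ℕ))^[k] (fun j => y (j + 1)) b = (fwdDiff (1 : ℕ))^[k] y (b + 1) := by
      intro k
      induction k with
      | zero => intro b; rfl
      | succ k ihk =>
        intro b
        rw [Function.iterate_succ_apply', Function.iterate_succ_apply']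
        simp only [fwdDiff]
        rw [ihk, ihk]
    rw [h3]
    rfl

theorem geom {S : Type u} [CommRing S] (g₀ g₁ : S) (N : ℕ) : ∀ (i a : ℕ), a + i ≤ N →
    (fwdDiff (1 : ℕ))^[i] (fun j : ℕ => g₀ ^ (N - j) * g₁ ^ j) a =
      g₀ ^ (N - a - i) * g₁ ^ a * (g₁ - g₀) ^ i := by
  intro i
  induction i with
  | zero => intro a _; simp
  | succ i ih =>
    intro a ha
    rw [Function.iterate_succ_apply', fwdDiff, ih (a + 1) (by omega), ih a (by omega)]
    have h1 : N - a - i = (N - a - (i + 1)) + 1 := by omega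
    have h2 : N - (a + 1) - i = N - a - (i + 1) := by omega
    rw [h1, h2]
    ring


/-- In abstract form, the estimate its proof establishes. Let S be a commutative ring, I an ideal of S,
g₀ and g₁ elements with g₁ - g₀ ∈ I, N a natural number and y a sequence in S such that, for 1 ≤ i ≤
N, the (N-i)-fold unit-step forward difference of y taken at i lies in I^(N-i). Then g₀^N times the
N-fold forward difference of y at 0, minus the N-fold forward difference at 0 of the twisted
sequence j ↦ g₀^(N-j) g₁^j y_j, lies in I^N. (In the source S is the ring of functions on an affine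
chart of X^n, I the ideal of a pairwise diagonal, g₀ and g₁ the two pullbacks of a transition unit
of L, and y_j the components x_λ along the compositions a₀^(N-j) a₁^j μ; the estimate is what makes
the higher order restrictions D^l_L well defined on ker D^(l-1)_L independently of the
trivialisation.) -/
theorem result
    (S : Type u) [CommRing S] (I : Ideal S) (g₀ g₁ : S) (hg : g₁ - g₀ ∈ I)
    (N : ℕ) (y : ℕ → S)
    (hy : ∀ i : ℕ, 1 ≤ i → i ≤ N → (fwdDiff (1 : ℕ))^[N - i] y i ∈ I ^ (N - i)) :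
    g₀ ^ N * (fwdDiff (1 : ℕ))^[N] y 0 -
        (fwdDiff (1 : ℕ))^[N] (fun j : ℕ => g₀ ^ (N - j) * g₁ ^ j * y j) 0 ∈ I ^ N := by
  have h1 := leibniz N (fun j : ℕ => g₀ ^ (N - j) * g₁ ^ j) y 0
  rw [h1, Finset.Nat.sum_antidiagonal_eq_sum_range_succ_mk, Finset.sum_range_succ']
  simp only [Nat.choose_zero_right, Nat.cast_one, one_mul, Nat.sub_zero, Function.iterate_zero, id, pow_zero, mul_one, add_zero]
  have h2 : ∀ i ∈ Finset.range N, ((N.choose (i + 1) : S) * ((fwdDiff (1 : ℕ))^[i + 1] (fun j : ℕ => g₀ ^ (N - j) * g₁ ^ j) 0 *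
      (fwdDiff (1 : ℕ))^[N - (i + 1)] y (0 + (i + 1)))) ∈ I ^ N := by
    intro i hi
    rw [Finset.mem_range] at hi
    rw [geom g₀ g₁ N (i + 1) 0 (by omega)]
    have h3 := hy (i + 1) (by omega) (by omega)
    have h4 : (g₁ - g₀) ^ (i + 1) ∈ I ^ (i + 1) := Ideal.pow_mem_pow hg _
    have h5 : (g₁ - g₀) ^ (i + 1) * (fwdDiff (1 : ℕ))^[N - (i + 1)] y (0 + (i + 1)) ∈ I ^ N := by
      have := Ideal.mul_mem_mul h4 h3
      rw [← pow_add, show i + 1 + (N - (i + 1)) = N by omega] at this
      rwa [zero_add]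
    have h6 := (I ^ N).mul_mem_left ((N.choose (i + 1) : S) * (g₀ ^ (N - 0 - (i + 1)) * g₁ ^ 0)) h5
    convert h6 using 1
    ring
  have h7 := (I ^ N).sum_mem h2
  have h8 : g₀ ^ N * (fwdDiff (1 : ℕ))^[N] y 0 - (∑ i ∈ Finset.range N, ((N.choose (i + 1) : S) * ((fwdDiff (1 : ℕ))^[i + 1] (fun j : ℕ => g₀ ^ (N - j) * g₁ ^ j) 0 *
      (fwdDiff (1 : ℕ))^[N - (i + 1)] y (0 + (i + 1)))) + g₀ ^ N * (fwdDiff (1 : ℕ))^[N] y 0) =
      -(∑ i ∈ Finset.range N, ((N.choose (i + 1) : S) * ((fwdDiff (1 : ℕ))^[i + 1] (fun j : ℕ => g₀ ^ (N - j) * g₁ ^ j) 0 *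
      (fwdDiff (1 : ℕ))^[N - (i + 1)] y (0 + (i + 1))))) := by ring
  rw [h8]
  exact (I ^ N).neg_mem h7

end Groth.Agent.S19025
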