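import Groth.Statements.S19033
import Groth.Agent.LabGraph.K794.BI2

set_option autoImplicit false
universe u
open LabGraph

namespace Groth.Agent.S19033

open LabGraph in
/-- Let X be a quasi-wp-stable curve of genus g ≥ 2 over an algebraically closed field, encoded by a
weighted multigraph: vertices are the irreducible components C_v, with the weight w v and the loops
at v chosen so that w v plus the number of loops at v is the arithmetic genus of C_v; two distinct
components are joined by one edge for each node and by two edges for each tacnode at which they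
meet. For a set Y of vertices (a subcurve) canDeg Y is then deg_Y ω_X = 2 g_Y − 2 + k_Y and cut Y is
k_Y, the length of the intersection of Y with its complementary subcurve; a vertex is exceptional
(weight zero, loopless, exactly two edges to other vertices) exactly when C_v is an exceptional
component; the twist of the indicator function of Y is the multidegree Σ_{C ⊆ Y} C of the degree
class group construction; and the graph is a connected quasistable graph. Let d, d' be properly
balanced multidegrees of the same total degree D (each satisfies the Basic Inequality 2·|K·d_Y −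
D·canDeg Y| ≤ cut Y·K for every Y, where K = 2g − 2 = canDeg of the whole graph, and takes the value
1 on every exceptional vertex), with d strictly balanced: for every nonempty proper Y with d_Y equal
to the upper extreme, i.e. 2(K·d_Y − D·canDeg Y) = K·cut Y, every edge with exactly one endpoint in
Y has an exceptional endpoint. Suppose d' = d + Σ_i twist(1_{Z_i}) for nested vertex sets Z_1 ⊆ ⋯ ⊆
Z_m, each with d at its upper extreme, such that for j < i no edge joins a vertex of Z_j to a vertex
outside Z_i. Then d = d'. (The source assumes only that d − d' lies in the lattice generated by the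
multidegrees of the components and takes the existence of such a nested family from an earlier paper
it cites without proof; this row carries that description as its hypothesis.) -/
theorem result {V E : Type u} [Fintype V] [Fintype E]
    [DecidableEq V] [DecidableEq E] (ends : E → V × V) (w : V → ℕ) (hX : IsQuasistableGraph ends w)
    (hg : 2 ≤ genus ends w) (d d' : V → ℤ) (hD : ∑ v, d v = ∑ v, d' v)
    (hBI : SatisfiesBI ends w d) (hBI' : SatisfiesBI ends w d')
    (hone : ∀ v : V, IsExceptional ends w v → d v = 1) (hone' : ∀ v : V, IsExceptional ends w v → d' v = 1)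
    (hstrict : ∀ Y : Finset V, Y.Nonempty → Y ≠ Finset.univ →
      2 * (canDeg ends w Finset.univ * (∑ v ∈ Y, d v) - (∑ v, d v) * canDeg ends w Y)
          = (cut ends Y : ℤ) * canDeg ends w Finset.univ →
      ∀ e : E, (((ends e).1 ∈ Y ∧ (ends e).2 ∉ Y) ∨ ((ends e).1 ∉ Y ∧ (ends e).2 ∈ Y)) →
        (IsExceptional ends w (ends e).1 ∨ IsExceptional ends w (ends e).2))
    (m : ℕ) (Z : Fin m → Finset V) (hmono : ∀ i j : Fin m, i ≤ j → Z i ⊆ Z j)
    (hext : ∀ i : Fin m, 2 * (canDeg ends w Finset.univ * (∑ v ∈ Z i, d v) - (∑ v, d v) * canDeg ends w (Z i))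
          = (cut ends (Z i) : ℤ) * canDeg ends w Finset.univ)
    (hsep : ∀ i j : Fin m, j < i → ∀ e : E,
      ¬ (((ends e).1 ∈ Z j ∧ (ends e).2 ∉ Z i) ∨ ((ends e).2 ∈ Z j ∧ (ends e).1 ∉ Z i)))
    (hsum : ∀ v : V, d' v = d v + ∑ i : Fin m, twist ends (fun u => if u ∈ Z i then (1 : ℤ) else 0) v) :
    d = d' := by
  classical
  have hK : 0 < canDeg ends w Finset.univ := by
    rw [K794.BI.canDeg_univ]; linarith
  have hA : ∀ (i : Fin m) (u : V), IsExceptional ends w u → u ∉ Z i → ∀ e : E,
      ¬ (((ends e).1 = u ∧ (ends e).2 ∈ Z i) ∨ ((ends e).2 = u ∧ (ends e).1 ∈ Z i)) :=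
    fun i u hu huZ e => K794.BI2.not_adj_of_upper_extreme ends w hK d hBI hu (hone u hu) (hext i) huZ e
  -- no edge crosses a member of the family
  have hB : ∀ (i : Fin m) (e : E), (ends e).1 ∈ Z i ↔ (ends e).2 ∈ Z i := by
    -- the twist of the sum of the indicators vanishes at exceptional vertices
    have hφ0 : ∀ a, IsExceptional ends w a →
        twist ends (fun u => ∑ j : Fin m, if u ∈ Z j then (1 : ℤ) else 0) a = 0 := by
      intro a ha
      rw [K794.BI.twist_sum ends Finset.univ (fun j u => if u ∈ Z j then (1 : ℤ) else 0) a]
      have := hsum a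
      rw [hone a ha, hone' a ha] at this
      linarith
    -- neighbours of an exceptional vertex have smaller or equal value
    have hle : ∀ a, IsExceptional ends w a → ∀ x, (∃ e, ends e = (a, x) ∨ ends e = (x, a)) → ∀ j : Fin m,
        (if x ∈ Z j then (1 : ℤ) else 0) ≤ (if a ∈ Z j then (1 : ℤ) else 0) := by
      rintro a ha x ⟨e, he⟩ j
      by_cases hx : x ∈ Z j
      · have haj : a ∈ Z j := by
          by_contra haj
          refine hA j a ha haj e ?_
          rcases he with he | he
          · left; rw [he]; exact ⟨rfl, hx⟩
          · right; rw [he]; exact ⟨rfl, hx⟩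
        simp [hx, haj]
      · rw [if_neg hx]
        split_ifs <;> simp
    have key : ∀ (i : Fin m) (a b : V) (e : E), (ends e = (a, b) ∨ ends e = (b, a)) → a ∈ Z i → b ∉ Z i →
        IsExceptional ends w a → False := by
      intro i a b e he ha hb hexc
      have h0 := hφ0 a hexc
      have hterm : ∀ e' ∈ (Finset.univ : Finset E),
          ((if (ends e').1 = a then (∑ j : Fin m, if (ends e').2 ∈ Z j then (1 : ℤ) else 0) -
              (∑ j : Fin m, if (ends e').1 ∈ Z j then (1 : ℤ) else 0) else 0) +
            (if (ends e').2 = a then (∑ j : Fin m, if (ends e').1 ∈ Z j then (1 : ℤ) else 0) -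
              (∑ j : Fin m, if (ends e').2 ∈ Z j then (1 : ℤ) else 0) else 0)) ≤ 0 := by
        intro e' _
        have h1 : (if (ends e').1 = a then (∑ j : Fin m, if (ends e').2 ∈ Z j then (1 : ℤ) else 0) -
              (∑ j : Fin m, if (ends e').1 ∈ Z j then (1 : ℤ) else 0) else 0) ≤ 0 := by
          split_ifs with h
          · rw [sub_nonpos, h]
            exact Finset.sum_le_sum fun j _ => hle a hexc _ ⟨e', Or.inl (Prod.ext h rfl)⟩ j
          · exact le_rfl
        have h2 : (if (ends e').2 = a then (∑ j : Fin m, if (ends e').1 ∈ Z j then (1 : ℤ) else 0) -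
              (∑ j : Fin m, if (ends e').2 ∈ Z j then (1 : ℤ) else 0) else 0) ≤ 0 := by
          split_ifs with h
          · rw [sub_nonpos, h]
            exact Finset.sum_le_sum fun j _ => hle a hexc _ ⟨e', Or.inr (Prod.ext rfl h)⟩ j
          · exact le_rfl
        linarith
      have hall := (Finset.sum_eq_zero_iff_of_nonpos hterm).1 h0 e (Finset.mem_univ e)
      have hlt : (∑ j : Fin m, if b ∈ Z j then (1 : ℤ) else 0) < ∑ j : Fin m, if a ∈ Z j then (1 : ℤ) else 0 := by
        refine Finset.sum_lt_sum (fun j _ => hle a hexc b ⟨e, he⟩ j) ⟨i, Finset.mem_univ i, ?_⟩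
        simp [ha, hb]
      have hab : a ≠ b := fun h => hb (h ▸ ha)
      rcases he with he | he
      · rw [he] at hall
        simp only [if_true, if_neg hab.symm, add_zero] at hall
        linarith
      · rw [he] at hall
        simp only [if_true, if_neg hab.symm, zero_add] at hall
        linarith
    intro i e
    by_contra hcon
    have hcross : ((ends e).1 ∈ Z i ∧ (ends e).2 ∉ Z i) ∨ ((ends e).1 ∉ Z i ∧ (ends e).2 ∈ Z i) := by tauto
    have hne : (Z i).Nonempty := by
      rcases hcross with h | h
      · exact ⟨_, h.1⟩
      · exact ⟨_, h.2⟩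
    have hnu : Z i ≠ Finset.univ := by
      rintro h
      rw [h] at hcross
      simp at hcross
    have hex := hstrict (Z i) hne hnu (hext i) e hcross
    rcases hcross with ⟨h1, h2⟩ | ⟨h1, h2⟩
    · rcases hex with hex | hex
      · exact key i _ _ e (Or.inl rfl) h1 h2 hex
      · exact hA i _ hex h2 e (Or.inr ⟨rfl, h1⟩)
    · rcases hex with hex | hex
      · exact hA i _ hex h1 e (Or.inl ⟨rfl, h2⟩)
      · exact key i _ _ e (Or.inr rfl) h2 h1 hex
  funext v
  rw [hsum v, Finset.sum_eq_zero fun i _ => K794.BI2.twist_indicator_of_no_cross ends (Z i) (hB i) v, add_zero]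

end Groth.Agent.S19033
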