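import Groth.Statements.S19034
import Groth.Agent.LabGraph.K794.BI2

set_option autoImplicit false
universe u
open LabGraph

namespace Groth.Agent.S19034

open LabGraph in
/-- Let σ : Z → X be the contraction of some exceptional components of a quasi-wp-stable curve Z of
genus g ≥ 2 onto a quasi-wp-stable curve X, and d a properly balanced multidegree on X; then the
pull-back d̃ of d to Z (d̃_W = d_{σ(W)} when σ(W) is a curve, d̃ = 0 on contracted components) is
balanced. Encode Z by its weighted multigraph (vertices = irreducible components, weight plus number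
of loops = arithmetic genus of the component, one edge per node and two per tacnode joining distinct
components; canDeg Y = deg_Y ω_Z, cut Y = k_Y, K = canDeg of all vertices = 2g − 2; exceptional
vertex = exceptional component), and let S be the set of contracted components, each an exceptional
vertex. The components of X are the vertices outside S; for a set W of them, the subcurve σ(W) of X
has deg ω_X equal to canDeg Ŵ and k equal to cut Ŵ, where Ŵ is W together with the vertices of S all
of whose edges end in W, and the exceptional components of X are the exceptional vertices outside S.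
So the hypotheses below say that d̃ vanishes on S and that d = d̃|_{V∖S} is properly balanced on X
(Basic Inequality 2·|K·d_W − D·canDeg Ŵ| ≤ cut Ŵ·K for every W disjoint from S, D the total degree,
and value 1 on exceptional vertices outside S); the conclusion is the Basic Inequality for d̃ on Z,
for every set of vertices. -/
theorem result {V E : Type u} [Fintype V] [Fintype E]
    [DecidableEq V] [DecidableEq E] (ends : E → V × V) (w : V → ℕ) (hZ : IsQuasistableGraph ends w)
    (hg : 2 ≤ genus ends w) (S : Finset V) (hS : ∀ v ∈ S, IsExceptional ends w v)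
    (dt : V → ℤ) (hzero : ∀ v ∈ S, dt v = 0)
    (hBI : ∀ W : Finset V, Disjoint W S →
      2 * |canDeg ends w Finset.univ * (∑ v ∈ W, dt v) - (∑ v, dt v) * canDeg ends w (Finset.univ.filter (fun v : V => v ∈ W ∨ (v ∈ S ∧ ∀ e : E, ((ends e).1 = v → (ends e).2 ∈ W) ∧ ((ends e).2 = v → (ends e).1 ∈ W))))|
        ≤ (cut ends (Finset.univ.filter (fun v : V => v ∈ W ∨ (v ∈ S ∧ ∀ e : E, ((ends e).1 = v → (ends e).2 ∈ W) ∧ ((ends e).2 = v → (ends e).1 ∈ W)))) : ℤ) * canDeg ends w Finset.univ)
    (hone : ∀ v : V, v ∉ S → IsExceptional ends w v → dt v = 1) :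
    SatisfiesBI ends w dt := by
  classical
  have hK : 0 < canDeg ends w Finset.univ := by
    rw [K794.BI.canDeg_univ]; linarith
  intro Y
  set W : Finset V := Y \ S with hW
  have hWS : Disjoint W S := Finset.sdiff_disjoint
  have hBIW := hBI W hWS
  set Wh : Finset V := Finset.univ.filter (fun v : V => v ∈ W ∨ (v ∈ S ∧ ∀ e : E,
    ((ends e).1 = v → (ends e).2 ∈ W) ∧ ((ends e).2 = v → (ends e).1 ∈ W))) with hWh
  have hmemWh : ∀ v, v ∉ S → (v ∈ Wh ↔ v ∈ Y) := by
    intro v hv
    simp [hWh, hW, hv]
  have hmemW : ∀ v, v ∉ S → (v ∈ W ↔ v ∈ Y) := by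
    intro v hv
    simp [hW, hv]
  -- sums of functions vanishing on `S`
  have hsum0 : ∀ (c : V → ℤ), (∀ v ∈ S, c v = 0) → ∀ X X' : Finset V, X \ S = X' \ S →
      ∑ v ∈ X, c v = ∑ v ∈ X', c v := by
    intro c hc X X' h
    have h1 : ∀ X : Finset V, ∑ v ∈ X \ S, c v = ∑ v ∈ X, c v := by
      intro X
      refine Finset.sum_subset Finset.sdiff_subset fun v hv hv' => hc v ?_
      by_contra hvS
      exact hv' (Finset.mem_sdiff.2 ⟨hv, hvS⟩)
    rw [← h1 X, h, h1 X']
  have hdeg : ∑ v ∈ W, dt v = ∑ v ∈ Y, dt v := by
    refine hsum0 dt hzero W Y ?_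
    rw [hW]
    simp
  have hcan : canDeg ends w Wh = canDeg ends w Y := by
    refine hsum0 _ (fun v hv => K794.BI2.canDeg_exceptional' ends w v (hS v hv)) Wh Y ?_
    ext v
    simp only [Finset.mem_sdiff]
    constructor
    · rintro ⟨h1, h2⟩
      exact ⟨(hmemWh v h2).1 h1, h2⟩
    · rintro ⟨h1, h2⟩
      exact ⟨(hmemWh v h2).2 h1, h2⟩
  have hcut : (cut ends Wh : ℤ) ≤ cut ends Y := by
    rw [K794.BI.cut_eq_sum, K794.BI.cut_eq_sum]
    set N : V → Finset E := fun s => Finset.univ.filter fun e : E => (ends e).1 = s ∨ (ends e).2 = s with hN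
    have hother : ∀ s ∈ S, ∀ e ∈ N s, ∃ o, o ∉ S ∧ (ends e = (s, o) ∨ ends e = (o, s)) := by
      intro s hs e he
      simp only [hN, Finset.mem_filter, Finset.mem_univ, true_and] at he
      have hne : (ends e).1 ≠ (ends e).2 := by
        intro h
        rcases he with he | he
        · exact (hS s hs).2.1 e (Prod.ext he (h ▸ he))
        · exact (hS s hs).2.1 e (Prod.ext (h ▸ he) he)
      rcases he with he | he
      · refine ⟨(ends e).2, fun ho => ?_, Or.inl (Prod.ext he rfl)⟩
        exact hZ.2 e hne ⟨he ▸ hS s hs, hS _ ho⟩
      · refine ⟨(ends e).1, fun ho => ?_, Or.inr (Prod.ext rfl he)⟩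
        exact hZ.2 e hne ⟨hS _ ho, he ▸ hS s hs⟩
    have hdisj : Set.PairwiseDisjoint (S : Set V) N := by
      intro s hs t ht hst
      refine Finset.disjoint_left.2 fun e he he' => ?_
      obtain ⟨o, ho, ho'⟩ := hother s hs e he
      simp only [hN, Finset.mem_filter, Finset.mem_univ, true_and] at he'
      have hs' : s ∈ S := hs
      have ht' : t ∈ S := ht
      rcases ho' with h | h <;> rw [h] at he' <;> rcases he' with h' | h' <;> dsimp only at h'
      · exact hst h'
      · exact ho (h' ▸ ht')
      · exact ho (h' ▸ ht')
      · exact hst h'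
    rw [← Finset.sum_add_sum_compl (S.biUnion N), ← Finset.sum_add_sum_compl (S.biUnion N)
      (f := fun e => (K794.BI.ind Y (ends e).1 - K794.BI.ind Y (ends e).2) ^ 2),
      Finset.sum_biUnion hdisj, Finset.sum_biUnion hdisj]
    refine add_le_add (Finset.sum_le_sum fun s hs => ?_) (le_of_eq ?_)
    · -- the two edges at `s`
      have hcard : (N s).card = 2 := by
        rw [← (hS s hs).2.2]
        unfold cut
        congr 1
        ext e
        have := (hS s hs).2.1 e
        simp only [hN, Finset.mem_filter, Finset.mem_univ, true_and, Finset.mem_singleton]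
        constructor
        · intro h
          by_cases h1 : (ends e).1 = s
          · exact Or.inl ⟨h1, fun h2 => this (Prod.ext h1 h2)⟩
          · exact Or.inr ⟨h1, h.resolve_left h1⟩
        · rintro (⟨h, _⟩ | ⟨_, h⟩)
          · exact Or.inl h
          · exact Or.inr h
      obtain ⟨e, e', hee, hNs⟩ := Finset.card_eq_two.1 hcard
      obtain ⟨o, ho, heo⟩ := hother s hs e (by rw [hNs]; simp)
      obtain ⟨o', ho', heo'⟩ := hother s hs e' (by rw [hNs]; simp)
      have hsW : s ∉ W := fun h => Finset.disjoint_left.1 hWS h hs
      have hso : o ≠ s := fun h => ho (h ▸ hs)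
      have hso' : o' ≠ s := fun h => ho' (h ▸ hs)
      have hsWh : s ∈ Wh ↔ (o ∈ Y ∧ o' ∈ Y) := by
        rw [← hmemW o ho, ← hmemW o' ho']
        simp only [hWh, Finset.mem_filter, Finset.mem_univ, true_and, hsW, false_or, hs]
        constructor
        · intro h
          refine ⟨?_, ?_⟩
          · rcases heo with h1 | h1
            · have := (h e).1; rw [h1] at this; exact this rfl
            · have := (h e).2; rw [h1] at this; exact this rfl
          · rcases heo' with h1 | h1
            · have := (h e').1; rw [h1] at this; exact this rfl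
            · have := (h e').2; rw [h1] at this; exact this rfl
        · rintro ⟨h1, h2⟩ e''
          by_cases he'' : e'' ∈ N s
          · rw [hNs] at he''
            rcases Finset.mem_insert.1 he'' with rfl | he''
            · rcases heo with h3 | h3 <;> rw [h3] <;> exact ⟨fun h => by first | exact h1 | exact absurd h hso,
                fun h => by first | exact h1 | exact absurd h hso⟩
            · rw [Finset.mem_singleton] at he''
              subst he''
              rcases heo' with h3 | h3 <;> rw [h3] <;> exact ⟨fun h => by first | exact h2 | exact absurd h hso',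
                fun h => by first | exact h2 | exact absurd h hso'⟩
          · simp only [hN, Finset.mem_filter, Finset.mem_univ, true_and, not_or] at he''
            exact ⟨fun h => absurd h he''.1, fun h => absurd h he''.2⟩
      have hval : ∀ (X : Finset V) (e : E) (o : V), (ends e = (s, o) ∨ ends e = (o, s)) →
          (K794.BI.ind X (ends e).1 - K794.BI.ind X (ends e).2) ^ 2 = (K794.BI.ind X s - K794.BI.ind X o) ^ 2 := by
        intro X e o h
        rcases h with h | h <;> rw [h]
        ring
      rw [hNs, Finset.sum_pair hee, Finset.sum_pair hee, hval Wh e o heo, hval Wh e' o' heo',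
        hval Y e o heo, hval Y e' o' heo']
      unfold K794.BI.ind
      have c1 := hmemWh o ho
      have c2 := hmemWh o' ho'
      by_cases a1 : o ∈ Y <;> by_cases a2 : o' ∈ Y <;> by_cases a3 : s ∈ Y <;>
        simp [a1, a2, a3, c1, c2, hsWh]
    · refine Finset.sum_congr rfl fun e he => ?_
      have h1 : (ends e).1 ∉ S ∧ (ends e).2 ∉ S := by
        rw [Finset.mem_compl, Finset.mem_biUnion] at he
        push Not at he
        refine ⟨fun h => he _ h ?_, fun h => he _ h ?_⟩
        · simp [hN]
        · simp [hN]
      unfold K794.BI.ind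
      simp only [hmemWh _ h1.1, hmemWh _ h1.2]
  rw [hdeg, hcan] at hBIW
  exact hBIW.trans (mul_le_mul_of_nonneg_right hcut hK.le)

end Groth.Agent.S19034
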