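import Groth.Statements.S19035
import Mathlib.Tactic
import Mathlib.RingTheory.FinitePresentation

set_option autoImplicit false
universe u v w x
open CAlg

namespace Groth.Agent.S19035

/-- A finitely presented `k`-algebra which is the filtered colimit of `k`-algebras `A i` is a
retract of some `A i`. -/
theorem exists_section
    (k : Type u) [CommRing k]
    {ι : Type v} [Preorder ι] [IsDirected ι (· ≤ ·)] [Nonempty ι]
    (A : ι → Type w) [∀ i, CommRing (A i)] [∀ i, Algebra k (A i)]
    (f : ∀ i j, i ≤ j → (A i →ₐ[k] A j))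
    (hf : ∀ i j l (hij : i ≤ j) (hjl : j ≤ l) (x : A i),
      f j l hjl (f i j hij x) = f i l (hij.trans hjl) x)
    (B : Type x) [CommRing B] [Algebra k B] [hfp : Algebra.FinitePresentation k B]
    (g : ∀ i, A i →ₐ[k] B)
    (hfg : ∀ i j (hij : i ≤ j) (x : A i), g j (f i j hij x) = g i x)
    (hsurj : ∀ b : B, ∃ i, ∃ x : A i, g i x = b)
    (hinj : ∀ i (x y : A i), g i x = g i y → ∃ j, ∃ hij : i ≤ j, f i j hij x = f i j hij y) :
    ∃ (i : ι) (h : B →ₐ[k] A i), ∀ b, g i (h b) = b := by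
  classical
  obtain ⟨n, φ, hφ, S, hS⟩ := hfp.out
  choose i₁ a₁ ha₁ using fun j : Fin n => hsurj (φ (MvPolynomial.X j))
  obtain ⟨i₀, hi₀⟩ := Finite.exists_le i₁
  let ψ : MvPolynomial (Fin n) k →ₐ[k] A i₀ :=
    MvPolynomial.aeval (fun j => f (i₁ j) i₀ (hi₀ j) (a₁ j))
  have hψ : ∀ p, g i₀ (ψ p) = φ p := by
    intro p
    have : (g i₀).comp ψ = φ := by
      ext j
      simp [ψ, hfg, ha₁]
    exact congrArg (fun F => F p) (congrArg DFunLike.coe this)
  have hker : ∀ r : S, ∃ j, ∃ hij : i₀ ≤ j, f i₀ j hij (ψ r) = 0 := by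
    intro r
    have h1 : g i₀ (ψ r) = g i₀ 0 := by
      rw [hψ, map_zero]
      have : (r : MvPolynomial (Fin n) k) ∈ RingHom.ker φ.toRingHom :=
        hS ▸ Ideal.subset_span r.2
      exact this
    obtain ⟨j, hij, h2⟩ := hinj _ _ _ h1
    exact ⟨j, hij, by rw [h2, map_zero]⟩
  choose j₁ hj₁ hj₁' using hker
  obtain ⟨j₂, hj₂⟩ := Finite.exists_le j₁
  obtain ⟨j₀, hj₀, hj₀'⟩ := exists_ge_ge i₀ j₂
  let θ : MvPolynomial (Fin n) k →ₐ[k] A j₀ := (f i₀ j₀ hj₀).comp ψ
  have hθ : ∀ p, φ p = 0 → θ p = 0 := by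
    intro p hp
    have h1 : p ∈ Ideal.span (S : Set (MvPolynomial (Fin n) k)) := by rw [hS]; exact hp
    have h2 : Ideal.span (S : Set (MvPolynomial (Fin n) k)) ≤ RingHom.ker θ.toRingHom := by
      rw [Ideal.span_le]
      intro r hr
      change f i₀ j₀ hj₀ (ψ r) = 0
      rw [← hf i₀ (j₁ ⟨r, hr⟩) j₀ (hj₁ ⟨r, hr⟩) ((hj₂ ⟨r, hr⟩).trans hj₀') (ψ r),
        hj₁' ⟨r, hr⟩, map_zero]
    exact h2 h1
  have hθ' : RingHom.ker φ ≤ RingHom.ker θ := fun p hp => hθ p hp
  let h : B →ₐ[k] A j₀ := AlgHom.liftOfSurjective φ hφ θ hθ'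
  have hh : ∀ p, h (φ p) = θ p := fun p => AlgHom.liftOfSurjective_apply φ hφ θ hθ' p
  refine ⟨j₀, h, fun b => ?_⟩
  obtain ⟨p, rfl⟩ := hφ b
  rw [hh]
  change g j₀ (f i₀ j₀ hj₀ (ψ p)) = φ p
  rw [hfg, hψ]

/-- Two algebra maps out of a finitely generated algebra which agree in the colimit agree at a
finite stage. -/
theorem exists_eq_stage
    (k : Type u) [CommRing k]
    {ι : Type v} [Preorder ι] [IsDirected ι (· ≤ ·)] [Nonempty ι]
    (A : ι → Type w) [∀ i, CommRing (A i)] [∀ i, Algebra k (A i)]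
    (f : ∀ i j, i ≤ j → (A i →ₐ[k] A j))
    (hf : ∀ i j l (hij : i ≤ j) (hjl : j ≤ l) (x : A i),
      f j l hjl (f i j hij x) = f i l (hij.trans hjl) x)
    (B : Type x) [CommRing B] [Algebra k B]
    (g : ∀ i, A i →ₐ[k] B)
    (hinj : ∀ i (x y : A i), g i x = g i y → ∃ j, ∃ hij : i ≤ j, f i j hij x = f i j hij y)
    (C : Type*) [CommRing C] [Algebra k C] [hC : Algebra.FiniteType k C]
    (i : ι) (α β : C →ₐ[k] A i) (hαβ : ∀ c, g i (α c) = g i (β c)) :
    ∃ j, ∃ hij : i ≤ j, ∀ c, f i j hij (α c) = f i j hij (β c) := by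
  classical
  obtain ⟨S, hS⟩ := hC.out
  choose j₁ hj₁ hj₁' using fun c : S => hinj i (α c) (β c) (hαβ c)
  obtain ⟨j₂, hj₂⟩ := Finite.exists_le j₁
  obtain ⟨j₀, hj₀, hj₀'⟩ := exists_ge_ge i j₂
  refine ⟨j₀, hj₀, ?_⟩
  have h1 : (⊤ : Subalgebra k C) ≤ AlgHom.equalizer ((f i j₀ hj₀).comp α) ((f i j₀ hj₀).comp β) := by
    rw [← hS, Algebra.adjoin_le_iff]
    intro c hc
    change f i j₀ hj₀ (α c) = f i j₀ hj₀ (β c)
    rw [← hf i (j₁ ⟨c, hc⟩) j₀ (hj₁ ⟨c, hc⟩) ((hj₂ ⟨c, hc⟩).trans hj₀') (α c), hj₁' ⟨c, hc⟩, hf]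
  intro c
  exact h1 (Algebra.mem_top : c ∈ ⊤)

/-- Let p be a prime and k a perfect field of characteristic p. Let (A_i) be a directed system of
finitely generated commutative k-algebras, indexed by a nonempty directed preorder, with compatible
k-algebra transition maps, and let B be a finitely generated k-algebra with compatible k-algebra
maps A_i → B which present B as the direct limit of the system (every element of B is the image of
an element of some A_i, and two elements of some A_i with the same image in B have the same image in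
some A_j). Then the p-typical Witt vectors commute with this direct limit: every Witt vector over B
is the image of a Witt vector over some A_i, and two Witt vectors over some A_i with the same image
over B already have the same image over some A_j. (Both finiteness hypotheses matter: for an
arbitrary filtered direct limit of commutative rings either assertion can fail.) -/
theorem result
    (p : ℕ) [Fact p.Prime] (k : Type u) [Field k] [CharP k p] [PerfectRing k p]
    {ι : Type v} [Preorder ι] [IsDirected ι (· ≤ ·)] [Nonempty ι]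
    (A : ι → Type w) [∀ i, CommRing (A i)] [∀ i, Algebra k (A i)]
    [∀ i, Algebra.FiniteType k (A i)]
    (f : ∀ i j, i ≤ j → (A i →ₐ[k] A j))
    (hf : ∀ i j l (hij : i ≤ j) (hjl : j ≤ l) (x : A i),
      f j l hjl (f i j hij x) = f i l (hij.trans hjl) x)
    (B : Type x) [CommRing B] [Algebra k B] [Algebra.FiniteType k B]
    (g : ∀ i, A i →ₐ[k] B)
    (hfg : ∀ i j (hij : i ≤ j) (x : A i), g j (f i j hij x) = g i x)
    (hsurj : ∀ b : B, ∃ i, ∃ x : A i, g i x = b)
    (hinj : ∀ i (x y : A i), g i x = g i y → ∃ j, ∃ hij : i ≤ j, f i j hij x = f i j hij y) :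
    (∀ w : WittVector p B, ∃ i, ∃ v : WittVector p (A i),
        WittVector.map (g i).toRingHom v = w) ∧
    (∀ i (v v' : WittVector p (A i)),
        WittVector.map (g i).toRingHom v = WittVector.map (g i).toRingHom v' →
        ∃ j, ∃ hij : i ≤ j,
          WittVector.map (f i j hij).toRingHom v = WittVector.map (f i j hij).toRingHom v') := by
  have : Algebra.FinitePresentation k B := (Algebra.FinitePresentation.of_finiteType).1 inferInstance
  obtain ⟨i₀, h, hh⟩ := exists_section k A f hf B g hfg hsurj hinj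
  refine ⟨fun w => ⟨i₀, WittVector.map h.toRingHom w, ?_⟩, ?_⟩
  · ext n
    rw [WittVector.map_coeff, WittVector.map_coeff]
    exact hh _
  · intro i v v' hvv'
    obtain ⟨i₁, hi, hi₀⟩ := exists_ge_ge i i₀
    -- two maps `A i → A i₁`
    obtain ⟨j, hij, hj⟩ := exists_eq_stage k A f hf B g hinj (A i) i₁ (f i i₁ hi)
      (((f i₀ i₁ hi₀).comp h).comp (g i)) (by
        intro c
        change g i₁ (f i i₁ hi c) = g i₁ (f i₀ i₁ hi₀ (h (g i c)))
        rw [hfg, hfg, hh])
    refine ⟨j, hi.trans hij, ?_⟩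
    ext n
    have h1 : ∀ c : A i, f i j (hi.trans hij) c = f i₁ j hij (f i₀ i₁ hi₀ (h (g i c))) := by
      intro c
      rw [← hf i i₁ j hi hij c, hj c]
      rfl
    rw [WittVector.map_coeff, WittVector.map_coeff]
    have h2 : g i (v.coeff n) = g i (v'.coeff n) := by
      have := congrArg (fun w => WittVector.coeff w n) hvv'
      simp only [WittVector.map_coeff] at this
      exact this
    change f i j (hi.trans hij) (v.coeff n) = f i j (hi.trans hij) (v'.coeff n)
    rw [h1, h1, h2]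

end Groth.Agent.S19035
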