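import Groth.Statements.S19036
import Groth.Agent.Instab.K979.ValCpt

set_option autoImplicit false
universe u
open Instab

namespace Groth.Agent.S19036

open CategoryTheory AlgebraicGeometry in
/-- Let f : X → Y be a morphism of schemes which is locally of finite presentation, and for which the
valuative criterion holds (every valuative square over a valuation ring has exactly one lift). When
X has only finitely many irreducible components, the morphism f is quasi-compact. (The source states
this for algebraic spaces and adds that f is then proper; universal closedness follows from
quasi-compactness and the existence part by the standard criterion, and separatedness from the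
uniqueness part once f is quasi-separated. Only the scheme case and the quasi-compactness conclusion
are stated here.) -/
theorem result
    {X Y : Scheme.{u}} (f : X ⟶ Y) [LocallyOfFinitePresentation f]
    (hf : ValuativeCriterion f) (hX : (irreducibleComponents ↥X).Finite) :
    QuasiCompact f := by
  rw [quasiCompact_iff_forall_isAffineOpen]
  intro V hV
  have hcov : ((f ⁻¹ᵁ V : X.Opens) : Set X) =
      ⋃ Z ∈ irreducibleComponents X, (((f ⁻¹ᵁ V : X.Opens) : Set X) ∩ Z) := by
    ext x
    simp only [Set.mem_iUnion, Set.mem_inter_iff, exists_prop]
    constructor
    · intro hx
      exact ⟨irreducibleComponent x, irreducibleComponent_mem_irreducibleComponents x, hx,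
        mem_irreducibleComponent⟩
    · rintro ⟨Z, -, hx, -⟩
      exact hx
  rw [hcov]
  refine hX.isCompact_biUnion fun Z hZ => ?_
  have hirr : IsIrreducible Z := hZ.1
  have hcl : IsClosed Z := isClosed_of_mem_irreducibleComponents Z hZ
  obtain ⟨ξ, hξ⟩ := QuasiSober.sober hirr hcl
  rw [← hξ.def]
  exact K979.ValCpt.isCompact_inter_closure f hf ξ hV

end Groth.Agent.S19036
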