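import Groth.Statements.S19037

set_option autoImplicit false
universe u v
open scoped Polynomial LaurentPolynomial
open Instab

namespace Groth.Agent.S19037

/-- Affine form over a ring R. Let A be a commutative ℤ-graded R-algebra and t an element of degree −1
(so A is a graded algebra over R[t] with t in degree −1), and let ψ : A[1/t] → R[T, T⁻¹] be an
R-algebra map sending t to T which is graded, in the sense that each homogeneous element of degree n
of A goes to an element of R times T^(−n). Then ψ is obtained by inverting t from an R-algebra map χ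
: A → R[T] (compared through the inclusion of R[T] in R[T, T⁻¹]) if and only if ψ kills t·a for
every homogeneous a of degree 1; such a χ is unique. (The source states this for quasi-coherent
graded algebras over an arbitrary base scheme; the statement is local on the base and is given here
over an affine base.) -/
theorem result
    {R : Type u} {A : Type v} [CommRing R] [CommRing A] [Algebra R A]
    (𝒜 : ℤ → Submodule R A) [GradedAlgebra 𝒜] (t : A) (ht : t ∈ 𝒜 (-1))
    (ψ : Localization.Away t →ₐ[R] R[T;T⁻¹])
    (hψt : ψ (algebraMap A (Localization.Away t) t) = LaurentPolynomial.T 1)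
    (hψ : ∀ (n : ℤ) (a : A), a ∈ 𝒜 n →
      ∃ r : R, ψ (algebraMap A (Localization.Away t) a) = LaurentPolynomial.C r * LaurentPolynomial.T (-n)) :
    (∃! χ : A →ₐ[R] R[X], ∀ a : A,
        ψ (algebraMap A (Localization.Away t) a) = Polynomial.toLaurentAlg (χ a)) ↔
      ∀ a ∈ 𝒜 1, ψ (algebraMap A (Localization.Away t) (t * a)) = 0 := by
  let ψ' : A →ₐ[R] R[T;T⁻¹] := ψ.comp (IsScalarTower.toAlgHom R A (Localization.Away t))
  have hψ'def : ∀ a, ψ' a = ψ (algebraMap A (Localization.Away t) a) := fun a => rfl
  have hψ't : ψ' t = LaurentPolynomial.T 1 := hψt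
  constructor
  · rintro ⟨χ, hχ, -⟩ a ha
    obtain ⟨r, hr⟩ := hψ 1 a ha
    have h1 := hχ a
    rw [hr] at h1
    -- the coefficient of `T ^ (-1)`
    have h2 : r = 0 := by
      have h3 : (Polynomial.toLaurent (Polynomial.C r) : R[T;T⁻¹]) =
          Polynomial.toLaurent (χ a * Polynomial.X) := by
        rw [map_mul, Polynomial.toLaurent_X, Polynomial.toLaurent_C,
          ← Polynomial.toLaurentAlg_apply, ← h1, mul_assoc, ← LaurentPolynomial.T_add]
        simp
      have h4 := congrArg (fun p => Polynomial.coeff p 0) (Polynomial.toLaurent_injective h3)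
      simpa using h4
    rw [map_mul, map_mul, hr, h2]
    simp
  · intro h
    -- elements of positive degree are killed
    have hpos : ∀ (n : ℕ) (a : A), a ∈ 𝒜 (n + 1) → ψ' a = 0 := by
      intro n a ha
      obtain ⟨r, hr⟩ := hψ _ a ha
      have hta : t ^ n * a ∈ 𝒜 1 := by
        have h1 : t ^ n ∈ 𝒜 (n • (-1 : ℤ)) := SetLike.pow_mem_graded n ht
        have h2 := SetLike.mul_mem_graded h1 ha
        have h3 : n • (-1 : ℤ) + ((n : ℤ) + 1) = 1 := by simp
        rwa [h3] at h2
      have h1 := h _ hta
      rw [← hψ'def, map_mul, map_mul, map_pow, hψ't] at h1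
      have h2 : ψ' a = LaurentPolynomial.T (-((n : ℤ) + 1)) * (LaurentPolynomial.T 1 *
          (LaurentPolynomial.T 1 ^ n * ψ' a)) := by
        rw [LaurentPolynomial.T_pow, ← mul_assoc, ← mul_assoc, ← LaurentPolynomial.T_add,
          ← LaurentPolynomial.T_add]
        have : -((n : ℤ) + 1) + 1 + (n : ℤ) * 1 = 0 := by ring
        rw [this, LaurentPolynomial.T_zero, one_mul]
      rw [h2, h1, mul_zero]
    -- the image lies in the polynomials
    have hrange : ∀ a, ψ' a ∈ (Polynomial.toLaurentAlg (R := R)).range := by
      intro a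
      classical
      rw [← DirectSum.sum_support_decompose 𝒜 a, map_sum]
      refine Subalgebra.sum_mem _ fun i _ => ?_
      rcases le_or_gt i 0 with hi | hi
      · obtain ⟨r, hr⟩ := hψ i _ (DirectSum.decompose 𝒜 a i).2
        obtain ⟨m, hm⟩ := Int.eq_ofNat_of_zero_le (neg_nonneg.mpr hi)
        refine ⟨Polynomial.C r * Polynomial.X ^ m, ?_⟩
        rw [hψ'def, hr, hm]
        simp
      · obtain ⟨m, hm⟩ := Int.eq_ofNat_of_zero_le (Int.sub_nonneg_of_le (Int.add_one_le_of_lt hi))
        have h1 : i = m + 1 := by omega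
        rw [hpos m _ (by rw [← h1]; exact (DirectSum.decompose 𝒜 a i).2)]
        exact Subalgebra.zero_mem _
    have hinj : Function.Injective (Polynomial.toLaurentAlg (R := R)) := Polynomial.toLaurent_injective
    let e := AlgEquiv.ofInjective (Polynomial.toLaurentAlg (R := R)) hinj
    let χ : A →ₐ[R] R[X] := (e.symm : _ →ₐ[R] R[X]).comp (ψ'.codRestrict _ hrange)
    have hχ : ∀ a, ψ (algebraMap A (Localization.Away t) a) = Polynomial.toLaurentAlg (χ a) := by
      intro a
      have h1 : (e (χ a) : R[T;T⁻¹]) = ψ' a := by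
        change (e (e.symm (ψ'.codRestrict _ hrange a)) : R[T;T⁻¹]) = ψ' a
        rw [AlgEquiv.apply_symm_apply]
        rfl
      rw [← hψ'def, ← h1]
      rfl
    refine ⟨χ, hχ, fun χ' hχ' => ?_⟩
    apply AlgHom.ext
    intro a
    apply hinj
    rw [← hχ, ← hχ']

end Groth.Agent.S19037
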