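import Groth.Statements.S19038
import Groth.Agent.Instab.K979.ConjFam
import Groth.Agent.SGA3x.K10.MTLoc
import Groth.Agent.S15870

set_option autoImplicit false
universe u
open Instab

namespace Groth.Agent.S19038

open CategoryTheory MonoidalCategory CartesianMonoidalCategory MonObj GrpObj AlgebraicGeometry in
/-- Let k be a perfect field, S a connected scheme of finite type over k, G a smooth affine group scheme
over k with a one-parameter subgroup λ : G_m → G, and φ : (G_m)_S → G_S a homomorphism of group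
schemes over S (here (G_m)_S and G_S are the base changes of G_m and G along S → Spec k, and λ_S is
the base change of λ). Suppose that at some k-rational point s of S the restriction of φ to the
fibre over s equals g₀·λ_S·g₀⁻¹ for a point g₀ of G over s. Then φ is étale-locally conjugate to the
constant family λ: there are an S-scheme S′ whose structure map is étale and surjective and an
S′-valued point g of G_S such that, on (G_m)_S ×_S S′, φ composed with the first projection equals
(g ∘ pr₂)·(λ_S ∘ pr₁)·(g ∘ pr₂)⁻¹ for the group law on points of G_S. (The source phrases this as: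
the sheaf of such g is a torsor under the centralizer of λ; the statement here is its final
assertion together with the étale-local existence of sections.) -/
theorem result
    (k : Type u) [Field k] [PerfectField k] (S : Scheme.{u}) (f : S ⟶ Spec (CommRingCat.of k))
    [LocallyOfFiniteType f] [QuasiCompact f] [ConnectedSpace ↥S]
    (G : Over (Spec (CommRingCat.of k))) [GrpObj G] [IsAffine G.left] [Smooth G.hom]
    (lam : Red.Gm (Spec (CommRingCat.of k)) ⟶ G) [IsMonHom lam]
    (φ : Red.bc f (Red.Gm (Spec (CommRingCat.of k))) ⟶ Red.bc f G) [IsMonHom φ]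
    (s : Spec (CommRingCat.of k) ⟶ S) (hs : s ≫ f = 𝟙 _)
    (g₀ : Over.mk s ⟶ Red.bc f G)
    (h₀ : fst (Red.bc f (Red.Gm (Spec (CommRingCat.of k)))) (Over.mk s) ≫ φ =
      (snd _ _ ≫ g₀) * (fst _ _ ≫ (Over.pullback f).map lam) * (snd _ _ ≫ g₀)⁻¹) :
    ∃ (S' : Over S), Etale S'.hom ∧ Surjective S'.hom ∧ ∃ g : S' ⟶ Red.bc f G,
      fst (Red.bc f (Red.Gm (Spec (CommRingCat.of k)))) S' ≫ φ =
        (snd _ _ ≫ g) * (fst _ _ ≫ (Over.pullback f).map lam) * (snd _ _ ≫ g)⁻¹ := by
  let B := Spec (CommRingCat.of k)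
  have : IsAffineHom G.hom := by
    have : IsAffine G.left := inferInstance
    exact isAffineHom_of_isAffine G.hom
  let H : Over B := Red.Gm B
  have hH : SGA3x.IsMultTypeFT H := K10.MTLoc.of_split (M := ℤ) inferInstance ⟨Iso.refl _⟩
  have hbc : ∀ {X : Scheme.{u}} (f : X ⟶ B), SGA3x.IsMultTypeFT (Red.bc f H) :=
    fun f => K10.MTLoc.bc f hH
  have h₁ : AutFam.IsHomFamily H G (Groth.Agent.Sga3B.BcPts.fam ((Over.pullback f).map lam)) :=
    Groth.Agent.Sga3B.IsoFam.isHomFamily_fam _
  have h₂ : AutFam.IsHomFamily H G (Groth.Agent.Sga3B.BcPts.fam φ) :=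
    Groth.Agent.Sga3B.IsoFam.isHomFamily_fam _
  obtain ⟨T, π, hπ, hT⟩ := K979.ConjFam.exists_transp hbc h₁ h₂
  have hcl : IsClopen (Set.range π) := by
    refine K979.ConjFam.isClopen_range hbc (fun Y y y' => ?_) h₂ π hT
    rw [K979.ConjFam.fam_pullback, whiskerLeft_fst_assoc, whiskerLeft_fst_assoc]
  have hne : (Set.range π).Nonempty := by
    obtain ⟨t, -⟩ := (hT _ (Groth.Agent.Sga3B.IsoFam.st (T := Over.mk f) (Over.mk s))).mpr
      ⟨_, (K979.ConjFam.conj_iff _ _ g₀).1 h₀.symm⟩
    have h0 : Nonempty (Spec (CommRingCat.of k)) := inferInstance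
    obtain ⟨z⟩ := h0
    exact ⟨_, t z, rfl⟩
  have : PreconnectedSpace ↥(Over.mk f).left := inferInstanceAs (PreconnectedSpace ↥S)
  have hsurj : Surjective π := ⟨Set.range_eq_univ.1 (hcl.eq_univ hne)⟩
  obtain ⟨W, q, σ, hq, hqs, hσ⟩ := Groth.Agent.S15870.exists_etale_cover π
  have h3 : ∃ g : (Over.map f).obj (Over.mk q) ⟶ G, K979.ConjFam.IsConj
      (H ◁ (Groth.Agent.Sga3B.IsoFam.st (T := Over.mk f) (Over.mk q)) ≫
        Groth.Agent.Sga3B.BcPts.fam ((Over.pullback f).map lam))
      (H ◁ (Groth.Agent.Sga3B.IsoFam.st (T := Over.mk f) (Over.mk q)) ≫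
        Groth.Agent.Sga3B.BcPts.fam φ) g :=
    (hT _ (Groth.Agent.Sga3B.IsoFam.st (T := Over.mk f) (Over.mk q))).mp ⟨σ, hσ⟩
  obtain ⟨g, hg⟩ := h3
  refine ⟨Over.mk q, hq, hqs, Groth.Agent.Sga3B.BcPts.bcEquiv f (Over.mk q) G g, ?_⟩
  refine ((K979.ConjFam.conj_iff _ _ _).2 ?_).symm
  rw [Equiv.symm_apply_apply]
  exact hg

end Groth.Agent.S19038
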