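import Groth.Statements.S19039
import Groth.Agent.Instab.K979.LineDom

set_option autoImplicit false
universe u
open Instab

namespace Groth.Agent.S19039

open CategoryTheory MonoidalCategory CartesianMonoidalCategory MonObj GrpObj AlgebraicGeometry in
/-- The case n = 1 for a scheme X separated over an affine base Spec R, stated as the two facts that
identify equivariant families with maps whose orbit map extends. Let G_m act on X (a left action a :
G_m × X → X over Spec R) and on A¹ × T through the scaling action on A¹, for an R-scheme T; write j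
: G_m → A¹ for the inclusion t ↦ t. (a) If u, v : A¹ × T → X are G_m-equivariant R-morphisms with
the same restriction to the section {1} × T, then u = v. (b) If x : T → X is an R-morphism and u :
A¹ × T → X is an R-morphism whose restriction along j × T is the orbit family (g, t) ↦ g · x(t),
then u is G_m-equivariant. (The source works with an algebraic space X quasi-separated and locally
of finite presentation over a base B with an action of G_mⁿ and deduces that X⁺ → X is a locally
finitely presented unramified monomorphism; only the elementary identification for n = 1 is stated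
here, which uses separatedness alone.) -/
theorem result
    (R : Type u) [CommRing R] (X : Over (Spec (CommRingCat.of R))) [IsSeparated X.hom]
    (a : AlgGrp.Action (ThetaS.Gm R) X) (T : Over (Spec (CommRingCat.of R))) :
    (∀ u v : ThetaS.Line R ⊗ T ⟶ X,
        (α_ (ThetaS.Gm R) (ThetaS.Line R) T).inv ≫ ((ThetaS.lineAction R).act ▷ T) ≫ u = (ThetaS.Gm R ◁ u) ≫ a.act →
        (α_ (ThetaS.Gm R) (ThetaS.Line R) T).inv ≫ ((ThetaS.lineAction R).act ▷ T) ≫ v = (ThetaS.Gm R ◁ v) ≫ a.act →
        lift ((1 : T ⟶ ThetaS.Gm R) ≫ (CoactBr.pt (ThetaS.linePt (ThetaS.zPow R 1)) : ThetaS.Gm R ⟶ ThetaS.Line R)) (𝟙 T) ≫ u =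
          lift ((1 : T ⟶ ThetaS.Gm R) ≫ (CoactBr.pt (ThetaS.linePt (ThetaS.zPow R 1)) : ThetaS.Gm R ⟶ ThetaS.Line R)) (𝟙 T) ≫ v →
        u = v) ∧
    (∀ (x : T ⟶ X) (u : ThetaS.Line R ⊗ T ⟶ X),
        ((CoactBr.pt (ThetaS.linePt (ThetaS.zPow R 1)) : ThetaS.Gm R ⟶ ThetaS.Line R) ▷ T) ≫ u = (ThetaS.Gm R ◁ x) ≫ a.act →
        (α_ (ThetaS.Gm R) (ThetaS.Line R) T).inv ≫ ((ThetaS.lineAction R).act ▷ T) ≫ u =
          (ThetaS.Gm R ◁ u) ≫ a.act) := by
  -- the multiplication law of the action, on points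
  have hmul : ∀ {S : Over (Spec (CommRingCat.of R))} (g h : S ⟶ ThetaS.Gm R) (x : S ⟶ X),
      lift (g * h) x ≫ a.act = lift g (lift h x ≫ a.act) ≫ a.act := by
    intro S g h x
    have h1 := congrArg (fun f => lift (lift g h) x ≫ f) a.mul_act
    simp only [← Category.assoc] at h1
    rw [lift_whiskerRight] at h1
    have h2 : (lift (lift g h) x ≫ (α_ (ThetaS.Gm R) (ThetaS.Gm R) X).hom) ≫ (ThetaS.Gm R ◁ a.act) =
        lift g (lift h x ≫ a.act) := by
      rw [lift_lift_associator_hom, lift_whiskerLeft]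
    rw [h2] at h1
    exact h1
  -- equivariance, on points
  have hequiv : ∀ (u : ThetaS.Line R ⊗ T ⟶ X),
      (α_ (ThetaS.Gm R) (ThetaS.Line R) T).inv ≫ ((ThetaS.lineAction R).act ▷ T) ≫ u =
        (ThetaS.Gm R ◁ u) ≫ a.act →
      ∀ {S : Over (Spec (CommRingCat.of R))} (g : S ⟶ ThetaS.Gm R) (l : S ⟶ ThetaS.Line R) (t : S ⟶ T),
        lift (lift g l ≫ (ThetaS.lineAction R).act) t ≫ u = lift g (lift l t ≫ u) ≫ a.act := by
    intro u hu S g l t
    have h1 := congrArg (fun f => lift g (lift l t) ≫ f) hu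
    simp only [← Category.assoc] at h1
    rw [lift_lift_associator_inv, lift_whiskerRight, lift_whiskerLeft] at h1
    exact h1
  constructor
  · intro u v hu hv h1
    apply K979.LineDom.hom_ext
    -- evaluate at the universal point
    have key : ∀ (w : ThetaS.Line R ⊗ T ⟶ X),
        (α_ (ThetaS.Gm R) (ThetaS.Line R) T).inv ≫ ((ThetaS.lineAction R).act ▷ T) ≫ w =
          (ThetaS.Gm R ◁ w) ≫ a.act →
        (K979.LineDom.j R ▷ T) ≫ w = lift (fst _ _) (snd (ThetaS.Gm R) T ≫
          lift ((1 : T ⟶ ThetaS.Gm R) ≫ K979.LineDom.j R) (𝟙 T) ≫ w) ≫ a.act := by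
      intro w hw
      have h2 := hequiv w hw (fst (ThetaS.Gm R) T) ((1 : ThetaS.Gm R ⊗ T ⟶ ThetaS.Gm R) ≫
        K979.LineDom.j R) (snd _ _)
      rw [K979.LineDom.lift_j_act, _root_.mul_one] at h2
      have h3 : (K979.LineDom.j R ▷ T) = lift (fst (ThetaS.Gm R) T ≫ K979.LineDom.j R) (snd _ _) := by
        apply CartesianMonoidalCategory.hom_ext
        · simp
        · simp
      rw [h3, h2]
      congr 2
      rw [← Category.assoc, comp_lift, Category.comp_id, ← Category.assoc]
      congr 3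
      exact (MonObj.comp_one _).symm
    rw [key u hu, key v hv]
    have h4 : lift ((1 : T ⟶ ThetaS.Gm R) ≫ K979.LineDom.j R) (𝟙 T) ≫ u =
        lift ((1 : T ⟶ ThetaS.Gm R) ≫ K979.LineDom.j R) (𝟙 T) ≫ v := h1
    rw [h4]
  · intro x u hxu
    have hxu' : ∀ {S : Over (Spec (CommRingCat.of R))} (g : S ⟶ ThetaS.Gm R) (t : S ⟶ T),
        lift (g ≫ K979.LineDom.j R) t ≫ u = lift g (t ≫ x) ≫ a.act := by
      intro S g t
      have h1 := congrArg (fun f => lift g t ≫ f) hxu
      simp only [← Category.assoc] at h1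
      rw [lift_whiskerRight, lift_whiskerLeft] at h1
      exact h1
    -- move the line factor to the front
    let σ : ThetaS.Line R ⊗ (ThetaS.Gm R ⊗ T) ⟶ ThetaS.Gm R ⊗ (ThetaS.Line R ⊗ T) :=
      lift (snd _ _ ≫ fst _ _) (lift (fst _ _) (snd _ _ ≫ snd _ _))
    let τ : ThetaS.Gm R ⊗ (ThetaS.Line R ⊗ T) ⟶ ThetaS.Line R ⊗ (ThetaS.Gm R ⊗ T) :=
      lift (snd _ _ ≫ fst _ _) (lift (fst _ _) (snd _ _ ≫ snd _ _))
    have hτσ : τ ≫ σ = 𝟙 _ := by
      simp only [τ, σ]
      apply CartesianMonoidalCategory.hom_ext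
      · simp
      · apply CartesianMonoidalCategory.hom_ext <;> simp
    have hσ : σ ≫ ((α_ (ThetaS.Gm R) (ThetaS.Line R) T).inv ≫ ((ThetaS.lineAction R).act ▷ T) ≫ u) =
        σ ≫ ((ThetaS.Gm R ◁ u) ≫ a.act) := by
      apply K979.LineDom.hom_ext
      have h2 : (K979.LineDom.j R ▷ (ThetaS.Gm R ⊗ T)) ≫ σ =
          lift (snd _ _ ≫ fst _ _) (lift (fst _ _ ≫ K979.LineDom.j R) (snd _ _ ≫ snd _ _)) := by
        simp only [σ]
        apply CartesianMonoidalCategory.hom_ext
        · simp
        · apply CartesianMonoidalCategory.hom_ext <;> simp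
      simp only [← Category.assoc]
      rw [h2, lift_lift_associator_inv, lift_whiskerRight, lift_whiskerLeft, K979.LineDom.lift_j_act,
        hxu', hxu', hmul]
    have h3 := congrArg (fun f => τ ≫ f) hσ
    simp only [← Category.assoc] at h3
    rw [hτσ] at h3
    simpa only [Category.id_comp, Category.assoc] using h3

end Groth.Agent.S19039
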