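import Groth.Statements.S19040
import Groth.Agent.Cyc.K309.FlatFin
import Groth.Agent.Cyc.K309.WidePb
import Groth.Agent.Dix.ProjProper

set_option autoImplicit false
universe u
open CategoryTheory CategoryTheory.Limits AlgebraicGeometry
open Cyc

namespace Groth.Agent.S19040

/-- Let X be an integral Noetherian scheme and n a natural number, let P be the n-fold fibre product
over X of copies of the projective line over X, with structure map to X, and let W be an integral
closed subscheme of P of codimension n, in the sense that the local ring of P at the generic point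
of W has Krull dimension n. If the induced morphism f : W → X is dominant and flat, then f is finite
and surjective, so finite and faithfully flat. (The source works with a Noetherian separated scheme
X of finite dimension over a field k, takes W to be the closure in X ×_k (P^1_k)^n of an integral
closed subscheme Z of codimension n of X × (P^1 minus the point 1)^n, and assumes the closure
dominant and flat over X; such a closure is an integral closed subscheme of codimension n of the
n-fold product of projective lines over X, which is the form stated here, and the field k plays no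
role.) -/
theorem result
    (X : Scheme.{u}) [IsIntegral X] [IsNoetherian X] (n : ℕ)
    (W : Scheme.{u}) [IsIntegral W]
    (i : W ⟶ widePullback X (fun _ : Fin n => CohB1.ProjSpaceOver 1 X)
      (fun _ => CohB1.ProjSpaceOver.toBase 1 X))
    [IsClosedImmersion i]
    (hcodim : ringKrullDim
      ((widePullback X (fun _ : Fin n => CohB1.ProjSpaceOver 1 X)
        (fun _ => CohB1.ProjSpaceOver.toBase 1 X)).presheaf.stalk (i.base (genericPoint W))) = n)
    (f : W ⟶ X)
    (hf : i ≫ WidePullback.base (fun _ : Fin n => CohB1.ProjSpaceOver.toBase 1 X) = f)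
    [IsDominant f] [Flat f] :
    IsFinite f ∧ Surjective f := by
  have hid : MorphismProperty.ContainsIdentities (@IsProper : MorphismProperty Scheme.{u}) :=
    ⟨fun X => inferInstance⟩
  have hproper : IsProper (WidePullback.base (fun _ : Fin n => CohB1.ProjSpaceOver.toBase 1 X)) :=
    K309.WidePb.prop_base @IsProper (CohB1.ProjSpaceOver.toBase 1 X)
      (Groth.Agent.Dix.ProjProper.isProper_toBase 1 X) n
  have hfp : IsProper f := by rw [← hf]; infer_instance
  have hη : f (genericPoint W) = genericPoint X := K309.DimIrr.map_genericPoint_of_flat f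
  -- the relative transcendence degree at the generic point
  have h0 : CycB.RelDim.rtd f (genericPoint W) = 0 := by
    let b := WidePullback.base (fun _ : Fin n => CohB1.ProjSpaceOver.toBase 1 X)
    let w := i (genericPoint W)
    have hbw : b w = genericPoint X := by
      rw [← hη, ← hf]; rfl
    have hlen : (n : WithBot ℕ∞) ≤ ringKrullDim ((widePullback X
        (fun _ : Fin n => CohB1.ProjSpaceOver 1 X)
          (fun _ => CohB1.ProjSpaceOver.toBase 1 X)).presheaf.stalk w) := hcodim.ge
    obtain ⟨p, hp⟩ := Order.le_krullDim_iff.1 hlen
    let ζ := CycB.LocQuot.ptOf p.head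
    have hζ : ζ ⤳ w := CycB.LocQuot.ptOf_specializes p.head
    have hbζ : b ζ = genericPoint X := by
      have h1 := hζ.map b.continuous
      rw [hbw] at h1
      exact (h1.antisymm (genericPoint_specializes _)).eq
    have hd : (n : WithBot ℕ∞) ≤ ringKrullDim (Cyc.LocQuot w ζ hζ) := by
      rw [ringKrullDim_quotient]
      let q : LTSeries ↥(PrimeSpectrum.zeroLocus
          (RingHom.ker (Cyc.specMap w ζ hζ) : Set (_))) :=
        { length := p.length
          toFun := fun i => ⟨p i, (CycB.LocQuot.mem_zeroLocus_iff hζ _).2 (by
            have h1 : CycB.LocQuot.primeOf hζ = p.head := CycB.LocQuot.primeOf_ptOf p.head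
            rw [h1]
            exact p.monotone (Fin.zero_le _))⟩
          step := fun i => p.step i }
      have h2 : q.length = n := hp
      have h2' : (n : WithBot ℕ∞) = ((q.length : ℕ) : WithBot ℕ∞) := congrArg _ h2.symm
      exact h2'.trans_le (le_iSup (fun p : LTSeries _ => (p.length : WithBot ℕ∞)) q)
    obtain ⟨dX, dY, h1, h2, h3⟩ := K309.FlatFin.dim_ineq b hζ
    have hdY : dY = 0 := by
      have h4 : ringKrullDim (Cyc.LocQuot (b w) (b ζ) (hζ.map b.continuous)) = 0 := by
        have h5 : ringKrullDim (X.presheaf.stalk (b w)) = 0 := by
          rw [hbw]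
          exact ringKrullDim_eq_zero_of_isField (Field.toIsField X.functionField)
        rw [K309.FlatFin.ringKrullDim_locQuot_generic hbζ, h5]
      rw [h4] at h2
      exact_mod_cast h2.symm
    have hdX : n ≤ dX := by
      rw [h1] at hd
      exact_mod_cast hd
    have hle := K309.WidePb.rtd_base_le (CohB1.ProjSpaceOver.toBase 1 X) 1
      (CycA.MovGeo.hasRelDim_toBase X) n ζ
    have h6 : CycB.RelDim.rtd b w = 0 := by
      obtain ⟨a, ha⟩ := Cardinal.lt_aleph0.1 (CycB.RelDim.rtd_lt_aleph0 b w)
      obtain ⟨c, hc⟩ := Cardinal.lt_aleph0.1 (CycB.RelDim.rtd_lt_aleph0 b ζ)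
      change CycB.RelDim.rtd b ζ ≤ _ at hle
      rw [hc] at hle h3
      rw [ha] at h3 ⊢
      rw [hdY] at h3
      have h7 : dX + a ≤ 0 + c := by exact_mod_cast h3
      have h8 : c ≤ n * 1 := by exact_mod_cast hle
      have : a = 0 := by omega
      rw [this]; rfl
    have h9 : CycB.RelDim.rtd (i ≫ b) (genericPoint W) = CycB.RelDim.rtd b w +
        CycB.RelDim.rtd i (genericPoint W) := CycB.RelDim.rtd_comp i b _
    rw [← hf]
    refine h9.trans ?_
    rw [h6, CycB.RelDim.rtd_eq_zero_of_isPreimmersion, add_zero]
  exact ⟨K309.FlatFin.isFinite_of_flat f h0, K309.FlatFin.surjective_of_flat f⟩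

end Groth.Agent.S19040
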