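import Groth.Statements.S19041
import Groth.Agent.Dieu.K978.Gc

set_option autoImplicit false
universe u
open Dieu

namespace Groth.Agent.S19041



/-- Let `k` be a perfect field of characteristic `2` and `c` a natural number, and consider the explicit
`2c`-dimensional `k`-space on `X_1, …, X_c, Y_1, …, Y_c` with its operators `F` and `V` (`F Y_j =
0`; `F X_j = X_{j/2}` for `j` even and `Y_{c-(j-1)/2}` for `j` odd; `V Y_j = Y_{2j}` when `2j ≤ c`,
else `0`; `V X_j = Y_{2c-2j+1}` when `2j > c`, else `0`). For `j = 2^e l` with `l` odd and `c < 2j ≤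
2c`, and for `j'` with `c < 2j' ≤ 2c` and `n` with `2^n (2c - 2j' + 1) = c - (l-1)/2`, one has
`F^{e+1} X_j + V^{n+1} X_{j'} = 0`. (Stated over any perfect field of characteristic `2`; the source
works over an algebraically closed one.) -/
theorem result (c : ℕ) (k : Type u) [Field k] [CharP k 2] [PerfectRing k 2]
    (j e l : ℕ) (hj : j = 2 ^ e * l) (hl : Odd l) (hjc : j ≤ c) (hcj : c < 2 * j)
    (j' n : ℕ) (hj'c : j' ≤ c) (hcj' : c < 2 * j') (hn : 2 ^ n * (2 * c - 2 * j' + 1) = c - (l - 1) / 2) :
    (W4c6eohyperellchar2.F c k)^[e + 1] (W4c6eohyperellchar2.X c k j) + (W4c6eohyperellchar2.V c k)^[n + 1] (W4c6eohyperellchar2.X c k j') = 0 := by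
  subst hj
  have hF : ∀ (e m : ℕ), 2 ^ e * m ≤ c → (W4c6eohyperellchar2.F c k)^[e] (W4c6eohyperellchar2.X c k (2 ^ e * m)) =
      W4c6eohyperellchar2.X c k m := by
    intro e
    induction e with
    | zero => intro m _; simp
    | succ e ih =>
      intro m hm
      have h1 : 2 ^ (e + 1) * m = 2 * (2 ^ e * m) := by ring
      rw [h1] at hm ⊢
      rw [Function.iterate_succ_apply, K978.Gc.F_X_even _ hm]
      exact ih m (by omega)
  have hV : ∀ (n m : ℕ), (W4c6eohyperellchar2.V c k)^[n] (W4c6eohyperellchar2.Y c k m) =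
      W4c6eohyperellchar2.Y c k (2 ^ n * m) := by
    intro n
    induction n with
    | zero => intro m; simp
    | succ n ih =>
      intro m
      rw [Function.iterate_succ_apply, K978.Gc.V_Y, ih]
      congr 1
      ring
  obtain ⟨r, hr⟩ := hl
  have hlc : l ≤ c := le_trans (Nat.le_mul_of_pos_left l (by positivity)) hjc
  rw [Function.iterate_succ_apply', hF e l hjc, Function.iterate_succ_apply, K978.Gc.V_X j' hj'c hcj', hV, hn, hr,
    K978.Gc.F_X_odd r (by omega)]
  have h2 : c - (2 * r + 1 - 1) / 2 = c - r := by omega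
  rw [h2]
  have h3 : ∀ v : W4c6eohyperellchar2.GcMod c k, v + v = 0 := by
    intro v
    refine Prod.ext ?_ ?_
    · funext i; exact CharTwo.add_self_eq_zero _
    · funext i; exact CharTwo.add_self_eq_zero _
  exact h3 _

end Groth.Agent.S19041
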