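import Groth.Statements.S19043
import Groth.Agent.Dieu.K978.Gc
import Mathlib.LinearAlgebra.LinearIndependent.Defs

set_option autoImplicit false
universe u
open Dieu

namespace Groth.Agent.S19043



/-- Let `k` be a perfect field of characteristic `2` and `c` a natural number, and let `M` be the
explicit `2c`-dimensional `k`-space on `X_1, …, X_c, Y_1, …, Y_c` with its operators `F` and `V` (`F
Y_j = 0`; `F X_j = X_{j/2}` for `j` even and `Y_{c-(j-1)/2}` for `j` odd; `V Y_j = Y_{2j}` when `2j
≤ c`, else `0`; `V X_j = Y_{2c-2j+1}` when `2j > c`, else `0`). The classes of the `X_j` with `c <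
2j ≤ 2c` in the quotient of `M` by the `k`-span of `F(M) ∪ V(M)` are linearly independent and span
that quotient. (Stated over any perfect field of characteristic `2`; the source works over an
algebraically closed one.) -/
theorem result (c : ℕ) (k : Type u) [Field k] [CharP k 2] [PerfectRing k 2] :
    LinearIndependent k (fun j : {j : ℕ // c < 2 * j ∧ j ≤ c} =>
        Submodule.mkQ (Submodule.span k (Set.range (W4c6eohyperellchar2.F c k) ∪ Set.range (W4c6eohyperellchar2.V c k))) (W4c6eohyperellchar2.X c k j.1)) ∧
      Submodule.span k (Set.range (fun j : {j : ℕ // c < 2 * j ∧ j ≤ c} =>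
        Submodule.mkQ (Submodule.span k (Set.range (W4c6eohyperellchar2.F c k) ∪ Set.range (W4c6eohyperellchar2.V c k))) (W4c6eohyperellchar2.X c k j.1))) = ⊤ := by
  classical
  set D := Submodule.span k (Set.range (W4c6eohyperellchar2.F c k) ∪ Set.range (W4c6eohyperellchar2.V c k)) with hD
  -- every element of D has zero coordinates along X_j, c < 2j
  have hDle : ∀ v ∈ D, ∀ i : Fin c, c < 2 * (i.val + 1) → v.1 i = 0 := by
    intro v hv i hi
    induction hv using Submodule.span_induction with
    | mem x hx =>
      rcases hx with ⟨w, rfl⟩ | ⟨w, rfl⟩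
      · simp only [W4c6eohyperellchar2.F]
        rw [K978.Gc.coefX_of_not _ _ (by omega)]
        ring
      · rfl
    | zero => rfl
    | add x y _ _ hx hy => rw [Prod.fst_add, Pi.add_apply, hx, hy, add_zero]
    | smul a x _ hx => rw [Prod.smul_fst, Pi.smul_apply, hx, smul_zero]
  have hYD : ∀ m : ℕ, 1 ≤ m → m ≤ c → W4c6eohyperellchar2.Y c k m ∈ D := by
    intro m h1 h2
    refine Submodule.subset_span (Or.inr ?_)
    by_cases h : m % 2 = 1
    · exact ⟨_, K978.Gc.Y_eq_V_odd m h2 h⟩
    · have h3 : m = 2 * (m / 2) := by omega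
      rw [h3, ← K978.Gc.V_Y]
      exact ⟨_, rfl⟩
  have hXD : ∀ m : ℕ, 2 * m ≤ c → W4c6eohyperellchar2.X c k m ∈ D := by
    intro m h1
    refine Submodule.subset_span (Or.inl ⟨_, K978.Gc.F_X_even m h1⟩)
  constructor
  · rw [linearIndependent_iff']
    intro s g hg j hj
    have h1 : ∑ i ∈ s, g i • W4c6eohyperellchar2.X c k i.1 ∈ D := by
      rw [← Submodule.ker_mkQ D, LinearMap.mem_ker, map_sum]
      simpa using hg
    have hj2 := j.2
    have h2 := hDle _ h1 ⟨j.1 - 1, by omega⟩ (by simp only; omega)
    rw [Prod.fst_sum, Finset.sum_apply, Finset.sum_eq_single j] at h2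
    · simpa [W4c6eohyperellchar2.X, show j.1 - 1 + 1 = j.1 by omega] using h2
    · intro b _ hb
      have : j.1 - 1 + 1 ≠ b.1 := fun h => hb (Subtype.ext (by omega))
      simp [W4c6eohyperellchar2.X, this]
    · intro h; exact absurd hj h
  · rw [eq_top_iff]
    intro q _
    obtain ⟨v, rfl⟩ := Submodule.mkQ_surjective D q
    rw [K978.Gc.eq_sum v, map_add, map_sum, map_sum]
    refine Submodule.add_mem _ (Submodule.sum_mem _ fun i _ => ?_) (Submodule.sum_mem _ fun i _ => ?_)
    · rw [map_smul]
      refine Submodule.smul_mem _ _ ?_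
      by_cases h : c < 2 * (i.val + 1)
      · exact Submodule.subset_span ⟨⟨i.val + 1, h, by omega⟩, rfl⟩
      · have h1 : Submodule.mkQ D (W4c6eohyperellchar2.X c k (i.val + 1)) = 0 := by
          rw [← LinearMap.mem_ker, Submodule.ker_mkQ]
          exact hXD _ (by omega)
        rw [h1]
        exact Submodule.zero_mem _
    · rw [map_smul]
      have h1 : Submodule.mkQ D (W4c6eohyperellchar2.Y c k (i.val + 1)) = 0 := by
        rw [← LinearMap.mem_ker, Submodule.ker_mkQ]
        exact hYD _ (by omega) (by omega)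
      rw [h1, smul_zero]
      exact Submodule.zero_mem _

end Groth.Agent.S19043
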