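import Groth.Statements.S19044
import Groth.Agent.FunFld.K671.AS6

set_option autoImplicit false
universe u v w
open FunFld

namespace Groth.Agent.S19044

/-- Let `k` be algebraically closed of characteristic `2` and `K = k(x, y)` with `y² + y = f(x)`, `K`
separable of degree `2` over `k(x)`; let `B ⊆ k` be a finite set containing `0` such that `f` has a
pole of odd order `d_α` at `x = α` for every `α ∈ B` and is integral at all other places of `k(x)`
(so also at infinity), and put `c_α = (d_α - 1)/2`. Then the differentials `z dx` with `z = (x -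
α)^{-(j+1)}` (`α ∈ B`, `1 ≤ j ≤ c_α`) and `z = α/(x(x-α))` (`α ∈ B`, `α ≠ 0`) are regular, this
family of `z` is linearly independent over `k`, and every `z` with `z dx` regular is a `k`-linear
combination of them; regularity is read through Laurent expansions over `k` at every place of `K`.
(Up to sign these are the forms `x_α^{j-1} dx_α` and `x_α^{-1} dx_α - x_0^{-1} dx_0` with `x_α = (x
- α)^{-1}`.) -/
theorem result (k : Type u) (K : Type v)
    [Field k] [IsAlgClosed k] [CharP k 2] [Field K] [Algebra k K] [Algebra (RatFunc k) K] [IsScalarTower k (RatFunc k) K]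
    (hK : FunFld.IsFunctionField k K) (hdeg : Module.finrank (RatFunc k) K = 2) [Algebra.IsSeparable (RatFunc k) K]
    (y : K) (hy : y ∉ Set.range (algebraMap (RatFunc k) K)) (f : RatFunc k)
    (heq : y ^ 2 + y = algebraMap (RatFunc k) K f)
    (B : Finset k) (h0 : (0 : k) ∈ B) (d : k → ℕ) (hd : ∀ α ∈ B, Odd (d α))
    (hpole : ∀ (p : FunFld.Place k (RatFunc k)) (α : k), α ∈ B →
      p.1 ((RatFunc.X : RatFunc k) - RatFunc.C α) < 1 → p.ord f = -(d α : ℤ))
    (hint : ∀ p : FunFld.Place k (RatFunc k), (∀ α ∈ B, 1 ≤ p.1 ((RatFunc.X : RatFunc k) - RatFunc.C α)) → p.1 f ≤ 1)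
    (F : FunFld.Place k K → Type w) [∀ P, Field (F P)] [∀ P, Algebra k (F P)] [∀ P, FiniteDimensional k (F P)]
    (φ : ∀ P, K →ₐ[k] LaurentSeries (F P)) (hφ : ∀ P, LocRes.IsExpansionAt P.1 (φ P)) :
    (∀ i P, LocRes.vDiff (φ P) ((Sum.elim
        (fun a : {a : ↥B × ℕ // 1 ≤ a.2 ∧ 2 * a.2 + 1 ≤ d (a.1 : k)} => algebraMap (RatFunc k) K (((RatFunc.X : RatFunc k) - RatFunc.C (a.1.1 : k))⁻¹ ^ (a.1.2 + 1)))
        (fun b : {b : ↥B // (b : k) ≠ 0} => algebraMap (RatFunc k) K (RatFunc.C (b.1 : k) / ((RatFunc.X : RatFunc k) * ((RatFunc.X : RatFunc k) - RatFunc.C (b.1 : k)))))) i) (algebraMap (RatFunc k) K RatFunc.X) ≤ 1) ∧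
    LinearIndependent k (Sum.elim
        (fun a : {a : ↥B × ℕ // 1 ≤ a.2 ∧ 2 * a.2 + 1 ≤ d (a.1 : k)} => algebraMap (RatFunc k) K (((RatFunc.X : RatFunc k) - RatFunc.C (a.1.1 : k))⁻¹ ^ (a.1.2 + 1)))
        (fun b : {b : ↥B // (b : k) ≠ 0} => algebraMap (RatFunc k) K (RatFunc.C (b.1 : k) / ((RatFunc.X : RatFunc k) * ((RatFunc.X : RatFunc k) - RatFunc.C (b.1 : k)))))) ∧
    ∀ z : K, (∀ P, LocRes.vDiff (φ P) z (algebraMap (RatFunc k) K RatFunc.X) ≤ 1) →
      z ∈ Submodule.span k (Set.range (Sum.elim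
        (fun a : {a : ↥B × ℕ // 1 ≤ a.2 ∧ 2 * a.2 + 1 ≤ d (a.1 : k)} => algebraMap (RatFunc k) K (((RatFunc.X : RatFunc k) - RatFunc.C (a.1.1 : k))⁻¹ ^ (a.1.2 + 1)))
        (fun b : {b : ↥B // (b : k) ≠ 0} => algebraMap (RatFunc k) K (RatFunc.C (b.1 : k) / ((RatFunc.X : RatFunc k) * ((RatFunc.X : RatFunc k) - RatFunc.C (b.1 : k))))))) := by
  classical
  have D : K671.AS2.Data y f B d := ⟨hdeg, hy, heq, hd, hpole, hint⟩
  have hreg := D.regular_iff hφ
  have hX0 : (RatFunc.X : RatFunc k) ≠ 0 := RatFunc.X_ne_zero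
  -- values of the members of the family
  have hA : ∀ (α : k) (n : ℕ), algebraMap (RatFunc k) K (((RatFunc.X : RatFunc k) - RatFunc.C α)⁻¹ ^ n) =
      ((algebraMap (RatFunc k) K RatFunc.X - algebraMap k K α)⁻¹) ^ n := by
    intro α n
    rw [map_pow, map_inv₀, K671.AS2.xa_eq]
  have hBb : ∀ (b : k), algebraMap (RatFunc k) K (RatFunc.C b / ((RatFunc.X : RatFunc k) *
      ((RatFunc.X : RatFunc k) - RatFunc.C b))) = algebraMap k K b *
      (algebraMap (RatFunc k) K RatFunc.X - algebraMap k K 0)⁻¹ *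
      (algebraMap (RatFunc k) K RatFunc.X - algebraMap k K b)⁻¹ := by
    intro b
    rw [map_div₀, map_mul, ← K671.AS2.xa_eq, ← RatFunc.algebraMap_eq_C,
      ← IsScalarTower.algebraMap_apply, map_zero, sub_zero]
    rw [div_eq_mul_inv, mul_inv, mul_assoc]
  have vA : ∀ (P : FunFld.Place k K) (α : k) (n : ℕ), P.1 (((algebraMap (RatFunc k) K RatFunc.X -
      algebraMap k K α)⁻¹) ^ n) = (P.1 (algebraMap (RatFunc k) K RatFunc.X - algebraMap k K α))⁻¹ ^ n := by
    intro P α n
    rw [map_pow, map_inv₀]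
  have vB : ∀ (P : FunFld.Place k K) (b : k), b ≠ 0 → P.1 (algebraMap k K b *
      (algebraMap (RatFunc k) K RatFunc.X - algebraMap k K 0)⁻¹ *
      (algebraMap (RatFunc k) K RatFunc.X - algebraMap k K b)⁻¹) =
      (P.1 (algebraMap (RatFunc k) K RatFunc.X - algebraMap k K 0))⁻¹ *
      (P.1 (algebraMap (RatFunc k) K RatFunc.X - algebraMap k K b))⁻¹ := by
    intro P b hb
    rw [map_mul, map_mul, map_inv₀, map_inv₀, K671.Basic.val_algebraMap P hb, one_mul]
  have e1 : (1 : WithZero (Multiplicative ℤ)) = WithZero.exp (0 : ℤ) := WithZero.exp_zero.symm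
  refine ⟨?_, ?_, ?_⟩
  · rintro (a | b)
    · rw [Sum.elim_inl, hreg, hA]
      obtain ⟨⟨⟨α, hα⟩, j⟩, hj1, hj2⟩ := a
      change 1 ≤ j at hj1
      change 2 * j + 1 ≤ d α at hj2
      change K671.AS2.Reg B d (((algebraMap (RatFunc k) K RatFunc.X - algebraMap k K α)⁻¹) ^ (j + 1))
      refine ⟨fun P β hβ hP => ?_, fun P hP hx => ?_, fun P hP => ?_⟩
      · rw [vA]
        by_cases hβα : α = β
        · subst hβα
          rw [D.val_xa hα hP, ← WithZero.exp_neg, ← WithZero.exp_nsmul, WithZero.exp_le_exp]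
          simp only [nsmul_eq_mul]
          push_cast
          omega
        · rw [D.val_xa_ne hP hβα, inv_one, one_pow, e1, WithZero.exp_le_exp]
          omega
      · rw [vA]
        exact pow_le_one' (inv_le_one_of_one_le₀ (hP α hα)) _
      · rw [vA, D.val_xa_inf hP, ← WithZero.exp_neg, ← WithZero.exp_nsmul, WithZero.exp_le_exp]
        simp only [nsmul_eq_mul]
        push_cast
        omega
    · rw [Sum.elim_inr, hreg, hBb]
      obtain ⟨⟨b, hb⟩, hb0⟩ := b
      change b ≠ 0 at hb0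
      change K671.AS2.Reg B d (algebraMap k K b *
        (algebraMap (RatFunc k) K RatFunc.X - algebraMap k K 0)⁻¹ *
        (algebraMap (RatFunc k) K RatFunc.X - algebraMap k K b)⁻¹)
      refine ⟨fun P β hβ hP => ?_, fun P hP hx => ?_, fun P hP => ?_⟩
      · rw [vB P b hb0]
        by_cases hβ0 : (0 : k) = β
        · subst hβ0
          rw [D.val_xa hβ hP, D.val_xa_ne hP hb0, inv_one, mul_one, ← WithZero.exp_neg,
            WithZero.exp_le_exp]
          have := D.two_pos 0 hβ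
          omega
        · rw [D.val_xa_ne hP hβ0, inv_one, one_mul]
          by_cases hβb : b = β
          · subst hβb
            rw [D.val_xa hβ hP, ← WithZero.exp_neg, WithZero.exp_le_exp]
            have := D.two_pos b hβ
            omega
          · rw [D.val_xa_ne hP hβb, inv_one, e1, WithZero.exp_le_exp]
            omega
      · rw [vB P b hb0]
        exact mul_le_one' (inv_le_one_of_one_le₀ (hP 0 h0)) (inv_le_one_of_one_le₀ (hP b hb))
      · rw [vB P b hb0, D.val_xa_inf hP, D.val_xa_inf hP, ← WithZero.exp_neg, ← WithZero.exp_add,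
          WithZero.exp_le_exp]
        norm_num
  · have hex : ∀ α : k, ∃ P : FunFld.Place k K,
        P.1 (algebraMap (RatFunc k) K RatFunc.X - algebraMap k K α) < 1 := by
      intro α
      apply K660.Places.exists_zero hK
      rintro ⟨c, hc⟩
      exact K671.AS2.xa_ne_zero (k := k) (K := K) (c + α) (by rw [map_add, hc]; ring)
    choose Pl hPl using hex
    let pt : ({a : ↥B × ℕ // 1 ≤ a.2 ∧ 2 * a.2 + 1 ≤ d (a.1 : k)} ⊕ {b : ↥B // (b : k) ≠ 0}) → k :=
      Sum.elim (fun a => (a.1.1 : k)) (fun b => (b.1 : k))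
    let rk : ({a : ↥B × ℕ // 1 ≤ a.2 ∧ 2 * a.2 + 1 ≤ d (a.1 : k)} ⊕ {b : ↥B // (b : k) ≠ 0}) → ℕ :=
      Sum.elim (fun a => a.1.2) (fun _ => 0)
    refine K671.AS2.linInd_of_rank _ rk (fun i => Pl (pt i)) (fun i => 2 * ((rk i : ℤ) + 1)) ?_ ?_
    · rintro (a | b)
      · obtain ⟨⟨⟨α, hα⟩, j⟩, hj1, hj2⟩ := a
        rw [Sum.elim_inl, hA, vA]
        change ((Pl α).1 (algebraMap (RatFunc k) K RatFunc.X - algebraMap k K α))⁻¹ ^ (j + 1) =
          WithZero.exp (2 * ((j : ℤ) + 1))
        rw [D.val_xa hα (hPl α), ← WithZero.exp_neg, ← WithZero.exp_nsmul]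
        congr 1
        simp only [nsmul_eq_mul]
        push_cast
        ring
      · obtain ⟨⟨b, hb⟩, hb0⟩ := b
        change b ≠ 0 at hb0
        rw [Sum.elim_inr, hBb, vB _ _ hb0]
        change ((Pl b).1 (algebraMap (RatFunc k) K RatFunc.X - algebraMap k K 0))⁻¹ *
          ((Pl b).1 (algebraMap (RatFunc k) K RatFunc.X - algebraMap k K b))⁻¹ =
          WithZero.exp (2 * (((0 : ℕ) : ℤ) + 1))
        rw [D.val_xa hb (hPl b), D.val_xa_ne (hPl b) (Ne.symm hb0), inv_one, one_mul,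
          ← WithZero.exp_neg]
        congr 1
    · rintro (a | b) (a' | b') hne hrk
      · obtain ⟨⟨⟨α, hα⟩, j⟩, hj1, hj2⟩ := a
        obtain ⟨⟨⟨α', hα'⟩, j'⟩, hj1', hj2'⟩ := a'
        change j' ≤ j at hrk
        rw [Sum.elim_inl, hA, vA]
        change ((Pl α).1 (algebraMap (RatFunc k) K RatFunc.X - algebraMap k K α'))⁻¹ ^ (j' + 1) <
          WithZero.exp (2 * ((j : ℤ) + 1))
        by_cases hαα : α' = α
        · subst hαα
          have hjj : j' ≠ j := by
            rintro rfl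
            exact hne rfl
          rw [D.val_xa hα (hPl α'), ← WithZero.exp_neg, ← WithZero.exp_nsmul, WithZero.exp_lt_exp]
          simp only [nsmul_eq_mul]
          push_cast
          omega
        · rw [D.val_xa_ne (hPl α) hαα, inv_one, one_pow, e1, WithZero.exp_lt_exp]
          omega
      · obtain ⟨⟨⟨α, hα⟩, j⟩, hj1, hj2⟩ := a
        obtain ⟨⟨b, hb⟩, hb0⟩ := b'
        change b ≠ 0 at hb0
        change 1 ≤ j at hj1
        rw [Sum.elim_inr, hBb, vB _ _ hb0]
        change ((Pl α).1 (algebraMap (RatFunc k) K RatFunc.X - algebraMap k K 0))⁻¹ *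
          ((Pl α).1 (algebraMap (RatFunc k) K RatFunc.X - algebraMap k K b))⁻¹ <
          WithZero.exp (2 * ((j : ℤ) + 1))
        by_cases hα0 : (0 : k) = α
        · subst hα0
          rw [D.val_xa hα (hPl 0), D.val_xa_ne (hPl 0) hb0, inv_one, mul_one, ← WithZero.exp_neg,
            WithZero.exp_lt_exp]
          omega
        · rw [D.val_xa_ne (hPl α) hα0, inv_one, one_mul]
          by_cases hbα : b = α
          · subst hbα
            rw [D.val_xa hα (hPl b), ← WithZero.exp_neg, WithZero.exp_lt_exp]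
            omega
          · rw [D.val_xa_ne (hPl α) hbα, inv_one, e1, WithZero.exp_lt_exp]
            omega
      · exfalso
        have := a'.2.1
        change a'.1.2 ≤ 0 at hrk
        omega
      · obtain ⟨⟨b, hb⟩, hb0⟩ := b
        obtain ⟨⟨b', hb'⟩, hb0'⟩ := b'
        change b ≠ 0 at hb0
        change b' ≠ 0 at hb0'
        rw [Sum.elim_inr, hBb, vB _ _ hb0']
        change ((Pl b).1 (algebraMap (RatFunc k) K RatFunc.X - algebraMap k K 0))⁻¹ *
          ((Pl b).1 (algebraMap (RatFunc k) K RatFunc.X - algebraMap k K b'))⁻¹ <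
          WithZero.exp (2 * (((0 : ℕ) : ℤ) + 1))
        have hbb : b' ≠ b := by
          rintro rfl
          exact hne rfl
        rw [D.val_xa_ne (hPl b) (Ne.symm hb0), D.val_xa_ne (hPl b) hbb, inv_one, mul_one, e1,
          WithZero.exp_lt_exp]
        norm_num
  · intro z hz
    have hz' := (hreg z).1 hz
    obtain ⟨u, hu, rfl⟩ := D.mem_of_reg hK (Submodule.span k (Set.range (Sum.elim
        (fun a : {a : ↥B × ℕ // 1 ≤ a.2 ∧ 2 * a.2 + 1 ≤ d (a.1 : k)} =>
          ((RatFunc.X : RatFunc k) - RatFunc.C (a.1.1 : k))⁻¹ ^ (a.1.2 + 1))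
        (fun b : {b : ↥B // (b : k) ≠ 0} => RatFunc.C (b.1 : k) / ((RatFunc.X : RatFunc k) *
          ((RatFunc.X : RatFunc k) - RatFunc.C (b.1 : k)))))))
      (fun α hα j hj1 hj2 => Submodule.subset_span ⟨Sum.inl ⟨⟨⟨α, hα⟩, j⟩, hj1, hj2⟩, rfl⟩)
      (fun b hb hb0 => Submodule.subset_span ⟨Sum.inr ⟨⟨b, hb⟩, hb0⟩, rfl⟩)
      (by
        intro p hp w hw
        have hle : Submodule.span k (Set.range (Sum.elim
          (fun a : {a : ↥B × ℕ // 1 ≤ a.2 ∧ 2 * a.2 + 1 ≤ d (a.1 : k)} =>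
            ((RatFunc.X : RatFunc k) - RatFunc.C (a.1.1 : k))⁻¹ ^ (a.1.2 + 1))
          (fun b : {b : ↥B // (b : k) ≠ 0} => RatFunc.C (b.1 : k) / ((RatFunc.X : RatFunc k) *
            ((RatFunc.X : RatFunc k) - RatFunc.C (b.1 : k)))))) ≤ K671.AS2.valSub p (-2) := by
          apply Submodule.span_le.2
          rintro w ⟨(a | b), rfl⟩
          · change p.1 _ ≤ WithZero.exp (-2)
            have := a.2.1
            rw [Sum.elim_inl, map_pow, map_inv₀, K671.AS2.rat_val_inf hp, ← WithZero.exp_neg,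
              ← WithZero.exp_nsmul, WithZero.exp_le_exp]
            simp only [nsmul_eq_mul]
            push_cast
            omega
          · change p.1 _ ≤ WithZero.exp (-2)
            rw [Sum.elim_inr, map_div₀, map_mul, K671.AS2.rat_val_inf hp,
              K666.RatPl.inf_val_X p hp, ← RatFunc.algebraMap_eq_C,
              K671.Basic.val_algebraMap p b.2, ← WithZero.exp_add, one_div, ← WithZero.exp_neg,
              WithZero.exp_le_exp]
            norm_num
        exact hle hw) hz'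
    -- transport the span
    have hmap : algebraMap (RatFunc k) K u ∈ (Submodule.span k (Set.range (Sum.elim
        (fun a : {a : ↥B × ℕ // 1 ≤ a.2 ∧ 2 * a.2 + 1 ≤ d (a.1 : k)} =>
          ((RatFunc.X : RatFunc k) - RatFunc.C (a.1.1 : k))⁻¹ ^ (a.1.2 + 1))
        (fun b : {b : ↥B // (b : k) ≠ 0} => RatFunc.C (b.1 : k) / ((RatFunc.X : RatFunc k) *
          ((RatFunc.X : RatFunc k) - RatFunc.C (b.1 : k))))))).map
            (IsScalarTower.toAlgHom k (RatFunc k) K).toLinearMap := ⟨u, hu, rfl⟩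
    rw [Submodule.map_span, ← Set.range_comp] at hmap
    have hfun : (Sum.elim
        (fun a : {a : ↥B × ℕ // 1 ≤ a.2 ∧ 2 * a.2 + 1 ≤ d (a.1 : k)} => algebraMap (RatFunc k) K (((RatFunc.X : RatFunc k) - RatFunc.C (a.1.1 : k))⁻¹ ^ (a.1.2 + 1)))
        (fun b : {b : ↥B // (b : k) ≠ 0} => algebraMap (RatFunc k) K (RatFunc.C (b.1 : k) / ((RatFunc.X : RatFunc k) * ((RatFunc.X : RatFunc k) - RatFunc.C (b.1 : k)))))) =
        (IsScalarTower.toAlgHom k (RatFunc k) K).toLinearMap ∘ Sum.elim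
        (fun a : {a : ↥B × ℕ // 1 ≤ a.2 ∧ 2 * a.2 + 1 ≤ d (a.1 : k)} =>
          ((RatFunc.X : RatFunc k) - RatFunc.C (a.1.1 : k))⁻¹ ^ (a.1.2 + 1))
        (fun b : {b : ↥B // (b : k) ≠ 0} => RatFunc.C (b.1 : k) / ((RatFunc.X : RatFunc k) *
          ((RatFunc.X : RatFunc k) - RatFunc.C (b.1 : k)))) := by
      funext i
      rcases i with a | b <;> rfl
    rw [hfun]
    exact hmap

end Groth.Agent.S19044
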