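import Groth.Statements.S19045
import Groth.Agent.FunFld.K671.AS2
import Groth.Agent.FunFld.K660.Places

set_option autoImplicit false
universe u v
open FunFld

namespace Groth.Agent.S19045

/-- Let `k` be algebraically closed of characteristic `2` and `K = k(x, y)` with `y² + y = f(x)`, `K`
separable of degree `2` over `k(x)`; let `B ⊆ k` be a finite set containing `0` such that `f` has a
pole of odd order `d_β` at `x = β` for every `β ∈ B` and is integral at all other places of `k(x)`.
Then `y` is integral at the places of `K` above `x = ∞` and has order `0` at one of them, and for `α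
∈ B` and `j ∈ ℤ` the divisor of poles of `y (x - α)^j` consists of: order `max(d_α - 2j, 0)` at the
place above `α`, order exactly `d_β` above every other `β ∈ B`, order `max(j - ord_P y, 0)` at each
place `P` above `∞`, and nothing elsewhere. -/
theorem result (k : Type u) (K : Type v)
    [Field k] [IsAlgClosed k] [CharP k 2] [Field K] [Algebra k K] [Algebra (RatFunc k) K] [IsScalarTower k (RatFunc k) K]
    (hK : FunFld.IsFunctionField k K) (hdeg : Module.finrank (RatFunc k) K = 2) [Algebra.IsSeparable (RatFunc k) K]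
    (y : K) (hy : y ∉ Set.range (algebraMap (RatFunc k) K)) (f : RatFunc k)
    (heq : y ^ 2 + y = algebraMap (RatFunc k) K f)
    (B : Finset k) (h0 : (0 : k) ∈ B) (d : k → ℕ) (hd : ∀ β ∈ B, Odd (d β))
    (hpole : ∀ (p : FunFld.Place k (RatFunc k)) (β : k), β ∈ B →
      p.1 ((RatFunc.X : RatFunc k) - RatFunc.C β) < 1 → p.ord f = -(d β : ℤ))
    (hint : ∀ p : FunFld.Place k (RatFunc k), (∀ β ∈ B, 1 ≤ p.1 ((RatFunc.X : RatFunc k) - RatFunc.C β)) → p.1 f ≤ 1) :
    (∀ P : FunFld.Place k K, 1 < P.1 (algebraMap (RatFunc k) K RatFunc.X) → 0 ≤ P.ord y) ∧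
    (∃ P : FunFld.Place k K, 1 < P.1 (algebraMap (RatFunc k) K RatFunc.X) ∧ P.ord y = 0) ∧
    ∀ (α : k), α ∈ B → ∀ (j : ℤ) (P : FunFld.Place k K),
      (P.1 ((algebraMap (RatFunc k) K RatFunc.X) - (algebraMap k K α)) < 1 →
        max (-(P.ord (y * ((algebraMap (RatFunc k) K RatFunc.X) - (algebraMap k K α)) ^ j))) 0 = max ((d α : ℤ) - 2 * j) 0) ∧
      (∀ β : k, β ∈ B → β ≠ α → P.1 ((algebraMap (RatFunc k) K RatFunc.X) - (algebraMap k K β)) < 1 →
        P.ord (y * ((algebraMap (RatFunc k) K RatFunc.X) - (algebraMap k K α)) ^ j) = -(d β : ℤ)) ∧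
      (1 < P.1 (algebraMap (RatFunc k) K RatFunc.X) → max (-(P.ord (y * ((algebraMap (RatFunc k) K RatFunc.X) - (algebraMap k K α)) ^ j))) 0 = max (j - P.ord y) 0) ∧
      (P.1 (algebraMap (RatFunc k) K RatFunc.X) ≤ 1 → (∀ β : k, β ∈ B → 1 ≤ P.1 ((algebraMap (RatFunc k) K RatFunc.X) - (algebraMap k K β))) → 0 ≤ P.ord (y * ((algebraMap (RatFunc k) K RatFunc.X) - (algebraMap k K α)) ^ j)) := by
  have D : K671.AS2.Data y f B d := ⟨hdeg, hy, heq, hd, hpole, hint⟩
  have hy0 := D.y_ne_zero
  have hinf : ∀ P : FunFld.Place k K, 1 < P.1 (algebraMap (RatFunc k) K RatFunc.X) → 0 ≤ P.ord y := by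
    intro P hP
    rw [← K671.Basic.val_le_one_iff]
    exact D.val_y_le_one fun α _ => (D.inf_B hP α).le
  refine ⟨hinf, ?_, ?_⟩
  · obtain ⟨P, hP⟩ := K660.Places.exists_pole hK (f := algebraMap (RatFunc k) K RatFunc.X) (by
      rintro ⟨c, hc⟩
      exact K671.AS2.xa_ne_zero (k := k) (K := K) c (by rw [hc, sub_self]))
    by_cases h0 : P.ord y = 0
    · exact ⟨P, hP, h0⟩
    · obtain ⟨σ, hσ⟩ := D.exists_aut
      refine ⟨K661.Galois.comapEquiv P σ, ?_, ?_⟩
      · rw [K661.Galois.comapEquiv_val, AlgEquiv.commutes]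
        exact hP
      · have h1 : 0 < P.ord y := lt_of_le_of_ne (hinf P hP) (Ne.symm h0)
        rw [← K671.Basic.val_lt_one_iff P hy0] at h1
        have h2 : (K661.Galois.comapEquiv P σ).1 y = 1 := by
          rw [K661.Galois.comapEquiv_val, hσ, Valuation.map_add_eq_of_lt_right _ (by rwa [map_one]),
            map_one]
        rw [FunFld.Place.ord, h2]
        simp
  · intro α hα j P
    have hx0 := K671.AS2.xa_ne_zero (k := k) (K := K) α
    have hord : P.ord (y * ((algebraMap (RatFunc k) K RatFunc.X) - (algebraMap k K α)) ^ j) =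
        P.ord y + j * P.ord ((algebraMap (RatFunc k) K RatFunc.X) - (algebraMap k K α)) := by
      rw [K671.Basic.ord_mul P hy0 (zpow_ne_zero _ hx0), K671.Basic.ord_zpow]
    rw [hord]
    refine ⟨?_, ?_, ?_, ?_⟩
    · intro h
      rw [K671.Basic.ord_of_val_eq P (D.val_xa hα h), K671.Basic.ord_of_val_eq P (D.val_y hα h)]
      congr 1
      ring
    · intro β hβ hne h
      have h1 : P.1 ((algebraMap (RatFunc k) K RatFunc.X) - (algebraMap k K α)) = WithZero.exp (0 : ℤ) :=
        (D.val_xa_ne h (β := α) (Ne.symm hne)).trans WithZero.exp_zero.symm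
      rw [K671.Basic.ord_of_val_eq P (D.val_y hβ h), K671.Basic.ord_of_val_eq P h1]
      ring
    · intro h
      rw [K671.Basic.ord_of_val_eq P (D.val_xa_inf h α)]
      congr 1
      ring
    · intro h1 h2
      have h3 : P.1 ((algebraMap (RatFunc k) K RatFunc.X) - (algebraMap k K α)) = WithZero.exp (0 : ℤ) := by
        rw [WithZero.exp_zero]
        apply le_antisymm _ (h2 α hα)
        exact P.1.map_sub_le h1 (P.2.1 α)
      rw [K671.Basic.ord_of_val_eq P h3]
      have h4 := D.val_y_le_one h2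
      rw [K671.Basic.val_le_one_iff] at h4
      simpa using h4

end Groth.Agent.S19045
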