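import Groth.Statements.S19048
import Groth.Agent.Dieu.K978.Gc
import Mathlib.LinearAlgebra.FiniteDimensional.Lemmas
import Mathlib.LinearAlgebra.Dimension.Constructions
import Mathlib.LinearAlgebra.Basis.Prod

set_option autoImplicit false
universe u
open Dieu

namespace Groth.Agent.S19048


open W4c6eohyperellchar2

variable {c : ℕ} {k : Type u} [Field k]

theorem mem_Nfil (i : ℕ) (v : GcMod c k) :
    v ∈ Nfil c k i ↔ (∀ t : Fin c, t.val + 1 + i ≤ 2 * c → v.1 t = 0) ∧ (∀ t : Fin c, i < t.val + 1 → v.2 t = 0) := by
  constructor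
  · intro hv
    simp only [Nfil] at hv
    induction hv using Submodule.span_induction with
    | mem x hx =>
      rcases hx with ⟨n, hn, rfl⟩ | ⟨n, hn, rfl⟩
      · rw [Set.mem_Icc] at hn
        refine ⟨fun t _ => rfl, fun t ht => ?_⟩
        have := t.2
        simp only [Y]
        rw [if_neg (by omega)]
      · rw [Set.mem_Ioc] at hn
        refine ⟨fun t ht => ?_, fun t _ => rfl⟩
        have := t.2
        simp only [X]
        rw [if_neg (by omega)]
    | zero => exact ⟨fun _ _ => rfl, fun _ _ => rfl⟩
    | add x y _ _ hx hy =>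
      refine ⟨fun t ht => ?_, fun t ht => ?_⟩
      · rw [Prod.fst_add, Pi.add_apply, hx.1 t ht, hy.1 t ht, add_zero]
      · rw [Prod.snd_add, Pi.add_apply, hx.2 t ht, hy.2 t ht, add_zero]
    | smul a x _ hx =>
      refine ⟨fun t ht => ?_, fun t ht => ?_⟩
      · rw [Prod.smul_fst, Pi.smul_apply, hx.1 t ht, smul_zero]
      · rw [Prod.smul_snd, Pi.smul_apply, hx.2 t ht, smul_zero]
  · rintro ⟨h1, h2⟩
    rw [K978.Gc.eq_sum v]
    refine Submodule.add_mem _ (Submodule.sum_mem _ fun t _ => ?_) (Submodule.sum_mem _ fun t _ => ?_)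
    · by_cases ht : t.val + 1 + i ≤ 2 * c
      · rw [h1 t ht, zero_smul]; exact Submodule.zero_mem _
      · refine Submodule.smul_mem _ _ (Submodule.subset_span (Or.inr ⟨t.val + 1, ?_, rfl⟩))
        rw [Set.mem_Ioc]
        omega
    · by_cases ht : i < t.val + 1
      · rw [h2 t ht, zero_smul]; exact Submodule.zero_mem _
      · refine Submodule.smul_mem _ _ (Submodule.subset_span (Or.inl ⟨t.val + 1, ?_, rfl⟩))
        rw [Set.mem_Icc]
        omega

theorem finrank_Nfil (i : ℕ) (hi : i ≤ 2 * c) : Module.finrank k (Nfil c k i) = i := by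
  classical
  -- restriction to the free coordinates
  let S := {t : Fin c // ¬ t.val + 1 + i ≤ 2 * c}
  let T := {t : Fin c // ¬ i < t.val + 1}
  let φ : Nfil c k i →ₗ[k] (S → k) × (T → k) :=
    { toFun := fun v => (fun s => v.1.1 s.1, fun t => v.1.2 t.1)
      map_add' := fun _ _ => rfl
      map_smul' := fun _ _ => rfl }
  have hφ : Function.Bijective φ := by
    constructor
    · rw [← LinearMap.ker_eq_bot, LinearMap.ker_eq_bot']
      rintro ⟨v, hv⟩ h
      have hv' := (mem_Nfil i v).mp hv
      apply Subtype.ext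
      refine Prod.ext ?_ ?_
      · funext t
        by_cases ht : t.val + 1 + i ≤ 2 * c
        · exact hv'.1 t ht
        · exact congrFun (congrArg Prod.fst h) ⟨t, ht⟩
      · funext t
        by_cases ht : i < t.val + 1
        · exact hv'.2 t ht
        · exact congrFun (congrArg Prod.snd h) ⟨t, ht⟩
    · rintro ⟨f, g⟩
      refine ⟨⟨(fun t => if ht : t.val + 1 + i ≤ 2 * c then 0 else f ⟨t, ht⟩,
        fun t => if ht : i < t.val + 1 then 0 else g ⟨t, ht⟩), ?_⟩, ?_⟩
      · rw [mem_Nfil]
        refine ⟨fun t ht => ?_, fun t ht => ?_⟩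
        · simp only [dif_pos ht]
        · simp only [dif_pos ht]
      · refine Prod.ext ?_ ?_
        · funext s
          show (if ht : s.1.val + 1 + i ≤ 2 * c then 0 else f ⟨s.1, ht⟩) = f s
          rw [dif_neg s.2]
        · funext s
          show (if ht : i < s.1.val + 1 then 0 else g ⟨s.1, ht⟩) = g s
          rw [dif_neg s.2]
  rw [(LinearEquiv.ofBijective φ hφ).finrank_eq, Module.finrank_prod, Module.finrank_fintype_fun_eq_card,
    Module.finrank_fintype_fun_eq_card]
  have hS : Fintype.card S = c - (2 * c - i) := by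
    have e : S ≃ Fin (c - (2 * c - i)) :=
      { toFun := fun s => ⟨s.1.val - (2 * c - i), by have := s.2; have := s.1.2; omega⟩
        invFun := fun s => ⟨⟨s.val + (2 * c - i), by have := s.2; omega⟩, by simp only; omega⟩
        left_inv := fun s => by
          apply Subtype.ext; apply Fin.ext
          simp only
          have := s.2
          omega
        right_inv := fun s => by
          apply Fin.ext
          simp only
          omega }
    rw [Fintype.card_congr e, Fintype.card_fin]
  have hT : Fintype.card T = min c i := by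
    have e : T ≃ Fin (min c i) :=
      { toFun := fun s => ⟨s.1.val, by have := s.2; have := s.1.2; omega⟩
        invFun := fun s => ⟨⟨s.val, by have := s.2; omega⟩, by have := s.2; simp only; omega⟩
        left_inv := fun s => rfl
        right_inv := fun s => rfl }
    rw [Fintype.card_congr e, Fintype.card_fin]
  rw [hS, hT]
  omega

variable [CharP k 2] [PerfectRing k 2] (a : ℕ → k)

theorem NV_add (v w : GcMod c k) : NV c k a (v + w) = NV c k a v + NV c k a w := by
  have hc : ∀ n, coefY (v + w) n = coefY v n + coefY w n := by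
    intro n
    simp only [coefY]
    split_ifs
    · rfl
    · rw [add_zero]
  refine Prod.ext (by show (0 : Fin c → k) = 0 + 0; rw [add_zero]) ?_
  funext t
  simp only [NV, Prod.snd_add, Pi.add_apply, hc, map_add]
  have : ∀ j : Fin c, (if (j.val + 1) % 2 = 1 ∧ (t.val + 1) + j.val / 2 ≤ c then
          (frobeniusEquiv k 2).symm ((v + w).1 j * a ((t.val + 1) + j.val / 2)) else 0) =
      (if (j.val + 1) % 2 = 1 ∧ (t.val + 1) + j.val / 2 ≤ c then
          (frobeniusEquiv k 2).symm (v.1 j * a ((t.val + 1) + j.val / 2)) else 0) +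
      (if (j.val + 1) % 2 = 1 ∧ (t.val + 1) + j.val / 2 ≤ c then
          (frobeniusEquiv k 2).symm (w.1 j * a ((t.val + 1) + j.val / 2)) else 0) := by
    intro j
    split_ifs
    · rw [Prod.fst_add, Pi.add_apply, add_mul, map_add]
    · rw [add_zero]
  rw [Finset.sum_congr rfl (fun j _ => this j), Finset.sum_add_distrib]
  ring

theorem NV_mem (i : ℕ) (hi : i ≤ 2 * c) (v : GcMod c k) (hv : v ∈ Nfil c k i) : NV c k a v ∈ Nfil c k (i / 2) := by
  rw [mem_Nfil] at hv ⊢
  refine ⟨fun t _ => rfl, fun t ht => ?_⟩
  have ht2 := t.2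
  simp only [NV]
  have h1 : coefY v (2 * (t.val + 1)) = 0 := by
    simp only [coefY]
    split_ifs with h
    · exact hv.2 _ (by simp only; omega)
    · rfl
  rw [h1, map_zero, zero_add]
  refine Finset.sum_eq_zero fun j _ => ?_
  split_ifs with h
  · have hj := j.2
    rw [hv.1 j (by omega), zero_mul, map_zero]
  · rfl

theorem exists_NV (ha : a c ≠ 0) : ∀ (r : ℕ), r ≤ c → ∀ w ∈ Nfil c k r, ∃ v ∈ Nfil c k (2 * r), NV c k a v = w := by
  intro r
  induction r with
  | zero =>
    intro _ w hw
    rw [mem_Nfil] at hw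
    have : w = 0 := by
      refine Prod.ext ?_ ?_
      · funext t; exact hw.1 t (by have := t.2; omega)
      · funext t; exact hw.2 t (by omega)
    subst this
    refine ⟨0, Submodule.zero_mem _, ?_⟩
    have := NV_add a (0 : GcMod c k) 0
    rw [add_zero] at this
    exact left_eq_add.mp this
  | succ r ih =>
    intro hr w hw
    have hw' := (mem_Nfil _ _).mp hw
    -- the leading coefficient
    set x := w.2 ⟨r, by omega⟩ with hx
    -- it is enough to find v1 in N_{2r+2} with NV v1 - w in N_r
    suffices h : ∃ v1 ∈ Nfil c k (2 * (r + 1)), (NV c k a v1).2 ⟨r, by omega⟩ = x ∧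
        ∀ t : Fin c, r + 1 < t.val + 1 → (NV c k a v1).2 t = 0 by
      obtain ⟨v1, hv1, h1, h2⟩ := h
      have h3 : w - NV c k a v1 ∈ Nfil c k r := by
        rw [mem_Nfil]
        refine ⟨fun t ht => ?_, fun t ht => ?_⟩
        · rw [Prod.fst_sub, Pi.sub_apply, hw'.1 t (by have := t.2; omega)]
          simp [NV]
        · rw [Prod.snd_sub, Pi.sub_apply]
          by_cases htr : t.val = r
          · have : t = ⟨r, by omega⟩ := Fin.ext htr
            rw [this, h1, hx, sub_self]
          · rw [hw'.2 t (by omega), h2 t (by omega), sub_self]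
      obtain ⟨v', hv', hv'2⟩ := ih (by omega) _ h3
      refine ⟨v' + v1, Submodule.add_mem _ ?_ hv1, ?_⟩
      · rw [mem_Nfil] at hv' ⊢
        exact ⟨fun t ht => hv'.1 t (by omega), fun t ht => hv'.2 t (by omega)⟩
      · rw [NV_add, hv'2, sub_add_cancel]
    by_cases hc : 2 * (r + 1) ≤ c
    · -- use x^2 Y_{2(r+1)}
      refine ⟨x ^ 2 • Y c k (2 * (r + 1)), ?_, ?_, ?_⟩
      · rw [mem_Nfil]
        refine ⟨fun t _ => ?_, fun t ht => ?_⟩
        · simp [Y]
        · simp only [Y, Prod.smul_snd, Pi.smul_apply]
          rw [if_neg (by omega), smul_zero]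
      · simp only [NV]
        have h1 : coefY (x ^ 2 • Y c k (2 * (r + 1))) (2 * (r + 1)) = x ^ 2 := by
          simp only [coefY]
          rw [dif_pos (by omega)]
          simp only [Y, Prod.smul_snd, Pi.smul_apply]
          rw [if_pos (by omega), smul_eq_mul, mul_one]
        rw [h1, Finset.sum_eq_zero, add_zero]
        · rw [← frobenius_def, ← frobeniusEquiv_apply, RingEquiv.symm_apply_apply]
        · intro j _
          simp [Y]
      · intro t ht
        simp only [NV]
        have h1 : coefY (x ^ 2 • Y c k (2 * (r + 1))) (2 * (t.val + 1)) = 0 := by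
          simp only [coefY]
          split_ifs with h
          · simp only [Y, Prod.smul_snd, Pi.smul_apply]
            rw [if_neg (by omega), smul_zero]
          · rfl
        rw [h1, map_zero, zero_add, Finset.sum_eq_zero]
        intro j _
        simp [Y]
    · -- use (x^2 / a_c) X_{2(c-r-1)+1}
      have hp : 2 * (c - r - 1) < c := by omega
      refine ⟨(x ^ 2 / a c) • X c k (2 * (c - r - 1) + 1), ?_, ?_, ?_⟩
      · rw [mem_Nfil]
        refine ⟨fun t ht => ?_, fun t ht => ?_⟩
        · simp only [X, Prod.smul_fst, Pi.smul_apply]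
          rw [if_neg (by omega), smul_zero]
        · simp [X]
      · simp only [NV]
        have h1 : coefY ((x ^ 2 / a c) • X c k (2 * (c - r - 1) + 1)) (2 * (r + 1)) = 0 := by
          simp only [coefY]
          split_ifs with h
          · simp [X]
          · rfl
        rw [h1, map_zero, zero_add, Finset.sum_eq_single ⟨2 * (c - r - 1), hp⟩]
        · simp only
          rw [if_pos (by omega)]
          simp only [X, Prod.smul_fst, Pi.smul_apply, if_true, smul_eq_mul, mul_one]
          have h2 : r + 1 + 2 * (c - r - 1) / 2 = c := by omega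
          rw [h2, div_mul_cancel₀ _ ha, ← frobenius_def, ← frobeniusEquiv_apply, RingEquiv.symm_apply_apply]
        · intro j _ hj
          have hj' : ¬ j.val + 1 = 2 * (c - r - 1) + 1 := fun h => hj (Fin.ext (by simp only; omega))
          split_ifs with h
          · simp only [X, Prod.smul_fst, Pi.smul_apply]
            rw [if_neg hj', smul_zero, zero_mul, map_zero]
          · rfl
        · intro h; exact absurd (Finset.mem_univ _) h
      · intro t ht
        simp only [NV]
        have h1 : coefY ((x ^ 2 / a c) • X c k (2 * (c - r - 1) + 1)) (2 * (t.val + 1)) = 0 := by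
          simp only [coefY]
          split_ifs with h
          · simp [X]
          · rfl
        rw [h1, map_zero, zero_add]
        refine Finset.sum_eq_zero fun j _ => ?_
        split_ifs with h
        · by_cases hj' : j.val + 1 = 2 * (c - r - 1) + 1
          · omega
          · simp only [X, Prod.smul_fst, Pi.smul_apply]
            rw [if_neg hj', smul_zero, zero_mul, map_zero]
        · rfl

omit [CharP k 2] [PerfectRing k 2] in
theorem NF_mem_iff (ha : a c ≠ 0) (i : ℕ) (hi : i ≤ 2 * c) (v : GcMod c k) :
    NF c k a v ∈ Nfil c k i ↔ v ∈ Nfil c k (c + (i + 1) / 2) := by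
  rw [mem_Nfil, mem_Nfil]
  constructor
  · rintro ⟨h1, h2⟩
    refine ⟨?_, fun t ht => by have := t.2; omega⟩
    -- strong induction on t
    have key : ∀ (n : ℕ) (hn : n < c), n + 1 + (c + (i + 1) / 2) ≤ 2 * c → v.1 ⟨n, hn⟩ = 0 := by
      intro n
      induction n using Nat.strong_induction_on with
      | _ n ih =>
      intro hn hnc
      by_cases hc : 2 * (n + 1) ≤ c
      · have h3 := h1 ⟨2 * (n + 1) - 1, by omega⟩ (by simp only; omega)
        simp only [NF] at h3
        rw [if_pos (by omega)] at h3
        have h4 : coefX v ((2 * (n + 1) - 1 + 1) / 2) = v.1 ⟨n, hn⟩ := by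
          simp only [coefX]
          rw [dif_pos (by omega)]
          exact congrArg v.1 (Fin.ext (by simp only; omega))
        rw [h4] at h3
        exact pow_eq_zero_iff (two_ne_zero) |>.mp h3
      · have h3 := h2 ⟨2 * (c - (n + 1)), by omega⟩ (by simp only; omega)
        simp only [NF] at h3
        rw [if_pos (by omega), Finset.sum_eq_single ⟨n, hn⟩] at h3
        · simp only at h3
          rw [if_pos (by omega)] at h3
          have h4 : n + 1 + 2 * (c - (n + 1)) / 2 = c := by omega
          rw [h4] at h3
          rcases mul_eq_zero.mp h3 with h5 | h5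
          · exact pow_eq_zero_iff (two_ne_zero) |>.mp h5
          · exact absurd h5 ha
        · intro j _ hj
          split_ifs with h
          · have hjn : j.val ≠ n := fun h => hj (Fin.ext h)
            have : v.1 j = 0 := ih j.val (by omega) j.2 (by omega)
            rw [this]
            ring
          · rfl
        · intro h; exact absurd (Finset.mem_univ _) h
    intro t ht
    exact key t.val t.2 ht
  · rintro ⟨h1, h2⟩
    refine ⟨fun t ht => ?_, fun t ht => ?_⟩
    · have ht2 := t.2
      simp only [NF]
      split_ifs with h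
      · have h4 : coefX v ((t.val + 1) / 2) = 0 := by
          simp only [coefX]
          split_ifs with h5
          · exact h1 _ (by simp only; omega)
          · rfl
        rw [h4]
        ring
      · rfl
    · have ht2 := t.2
      simp only [NF]
      split_ifs with h
      · refine Finset.sum_eq_zero fun j _ => ?_
        split_ifs with h5
        · rw [h1 j (by omega)]
          ring
        · rfl
      · rfl


/-- Let `k` be a perfect field of characteristic `2`, `c` a natural number and `a_1, …, a_c ∈ k` with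
`a_c ≠ 0`. On the `2c`-dimensional `k`-space with basis `λ_1, …, λ_c, σ_1, …, σ_c` let `F` be
Frobenius-semilinear with `F λ_j = 0`, `F σ_j = σ_{2j}` for `2j ≤ c`, `F σ_j = Σ_{i=j}^{c} a_i
λ_{2i-2j+1}` for `2j > c`, and `V` inverse-Frobenius-semilinear with `V λ_j = λ_{j/2}` (`j` even),
`0` (`j` odd), `V σ_j = 0` (`j` even), `V σ_j = Σ_{i=(j+1)/2}^{c} a_i^{1/2} λ_{i-(j-1)/2}` (`j` odd)
— the shape of `F` and `V` on the block of the first de Rham cohomology of `y² − y = f(x)` belonging
to a branch point with invariant `d = 2c + 1`, `a_i` the coefficients of the odd polynomial `f_α`.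
Put `N_i = ⟨λ_1, …, λ_i⟩` for `i ≤ c` and `N_i = ⟨λ_1, …, λ_c, σ_{2c-i+1}, …, σ_c⟩` for `c ≤ i ≤
2c`. Then for `0 ≤ i ≤ 2c`: `dim N_i = i`, `V(N_i) = N_{⌊i/2⌋}` and `F⁻¹(N_i) = N_{c+⌈i/2⌉}`; so
`(N_i)` is a final filtration with `dim V(N_i) = ⌊i/2⌋`. (The published statement adjoins the `σ_j`
starting from `σ_1`; then `V(N_{c+1})` contains `V σ_1`, whose `λ_c`-coefficient is a square root of
`a_c ≠ 0`, so it is not `N_{⌊(c+1)/2⌋}` once `c ≥ 2`; adjoining them from `σ_c` downward, as here,
makes both identities hold.) -/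
theorem result (c : ℕ) (k : Type u) [Field k] [CharP k 2] [PerfectRing k 2]
    (a : ℕ → k) (ha : a c ≠ 0) (i : ℕ) (hi : i ≤ 2 * c) :
    Module.finrank k (W4c6eohyperellchar2.Nfil c k i) = i ∧
      W4c6eohyperellchar2.NV c k a '' (W4c6eohyperellchar2.Nfil c k i : Set (W4c6eohyperellchar2.GcMod c k)) = (W4c6eohyperellchar2.Nfil c k (i / 2) : Set (W4c6eohyperellchar2.GcMod c k)) ∧
      W4c6eohyperellchar2.NF c k a ⁻¹' (W4c6eohyperellchar2.Nfil c k i : Set (W4c6eohyperellchar2.GcMod c k)) = (W4c6eohyperellchar2.Nfil c k (c + (i + 1) / 2) : Set (W4c6eohyperellchar2.GcMod c k)) := by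
  refine ⟨finrank_Nfil i hi, ?_, ?_⟩
  · ext w
    constructor
    · rintro ⟨v, hv, rfl⟩
      exact NV_mem a i hi v hv
    · intro hw
      obtain ⟨v, hv, hvw⟩ := exists_NV a ha (i / 2) (by omega) w hw
      refine ⟨v, ?_, hvw⟩
      rw [mem_Nfil] at hv
      rw [SetLike.mem_coe, mem_Nfil]
      exact ⟨fun t ht => hv.1 t (by omega), fun t ht => hv.2 t (by omega)⟩
  · ext v
    rw [Set.mem_preimage, SetLike.mem_coe, SetLike.mem_coe]
    exact NF_mem_iff a ha i hi v

end Groth.Agent.S19048
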