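import Groth.Statements.S19052
import Groth.Agent.NonPure.K981.IdealImage
import Groth.Agent.CycB.C1Pull

set_option autoImplicit false
open CategoryTheory CategoryTheory.Limits AlgebraicGeometry
universe u
open NonPure

namespace Groth.Agent.S19052

/-- Let K be a field and X an integral K-scheme, smooth, proper and geometrically irreducible over K, of
dimension at least 2, with an invertible ample O_X-module L (the polarisation for Hilbert
polynomials) and an integer ℓ ≥ 1. Let A_j (j ∈ J) be sets of closed subschemes of X (quasi-coherent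
ideal sheaves), each member integral and different from X. Assume that each A_j contains every
closed subscheme whose ideal sheaf is isomorphic, as an O_X-module, to the ideal sheaf of a member
of A_j, and condition (†)(2) over K: for W ∈ A_j, Y ∈ A_{j'} and every coherent torsion-free
O_Y-module G of generic rank one whose Hilbert polynomial is P_{O_Y} − ℓ, every morphism I_W → i_*G
vanishes (I_W the ideal sheaf of W as an O_X-module, i : Y → X the inclusion). Let Z ⊆ X be a closed
subscheme finite locally free of degree ℓ over K, so that F = I_Z is a sheaf of ideal type. Then for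
every W ∈ A_j the K-vector space Hom(I_W, I_Z) is finite-dimensional of dimension at most one. (In
the published statement X is the base change to K of a fixed smooth projective geometrically
connected variety and the A_j are the K-points of the connected components α_j of a fixed open and
closed α ⊆ Hilb(X) whose points are geometrically integral and geometrically normal or divisors,
with (†) asked over every field extension; the row keeps exactly what the printed argument uses over
K, and makes explicit that members of α are proper closed subschemes.) -/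
theorem result
    (K : Type u) [Field K] (X : Scheme.{u}) [X.Over (Spec (CommRingCat.of K))]
    [IsIntegral X] [Smooth (X ↘ Spec (CommRingCat.of K))] [IsProper (X ↘ Spec (CommRingCat.of K))]
    [GeometricallyIrreducible (X ↘ Spec (CommRingCat.of K))]
    (hdim : 2 ≤ topologicalKrullDim X)
    (L : X.Modules) (hLi : PicF.IsInvertible L) (hLa : CohB1.IsAmple L)
    (ℓ : ℕ) (hℓ : 0 < ℓ)
    (J : Type u) (A : J → Set X.IdealSheafData)
    (hA : ∀ j, ∀ W ∈ A j, IsIntegral W.subscheme ∧ W ≠ ⊥)
    (hAiso : ∀ j, ∀ W ∈ A j, ∀ W'' : X.IdealSheafData,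
      Nonempty (ClSub.idealMod W'' ≅ ClSub.idealMod W) → W'' ∈ A j)
    (dag2 : ∀ j j', ∀ W ∈ A j, ∀ Y ∈ A j', ∀ (hY : IsIntegral Y.subscheme) (G : Y.subscheme.Modules),
      Coh.IsCoh G → TorSh.IsTorsionFree G →
      (haveI := hY
       Module.finrank (Y.subscheme.presheaf.stalk (genericPoint Y.subscheme))
        (G.presheaf.stalk (genericPoint Y.subscheme)) = 1) →
      (letI : Y.subscheme.Over (Spec (CommRingCat.of K)) := ⟨Y.subschemeι ≫ (X ↘ Spec (CommRingCat.of K))⟩
       ∃ P : Polynomial ℚ,
        ShStab.IsHilbPoly K Y.subscheme ((Scheme.Modules.pullback Y.subschemeι).obj L)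
          (Coh.structureModule Y.subscheme) P ∧
        ShStab.IsHilbPoly K Y.subscheme ((Scheme.Modules.pullback Y.subschemeι).obj L) G
          (P - Polynomial.C (ℓ : ℚ))) →
      ∀ φ : ClSub.idealMod W ⟶ (Coh.push Y.subschemeι).obj G, φ = 0)
    (Z : X.IdealSheafData) (hZ : Mor2.IsFinLocFreeOfDeg ℓ (Z.subschemeι ≫ (X ↘ Spec (CommRingCat.of K))))
    (j : J) (W : X.IdealSheafData) (hW : W ∈ A j) :
    Module.Finite K (ClSub.idealMod W ⟶ ClSub.idealMod Z) ∧
      Module.finrank K (ClSub.idealMod W ⟶ ClSub.idealMod Z) ≤ 1 := by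
  have hloc := K981.IdealEndK.isLocallyNoetherian (X ↘ Spec (CommRingCat.of K))
  have hN := K981.IdealEndK.isIntegrallyClosed_stalk (X ↘ Spec (CommRingCat.of K))
  have hΓ := K981.IdealEndK.surjective_appTop K X
  by_cases hall : ∀ φ : ClSub.idealMod W ⟶ ClSub.idealMod Z, φ = 0
  · have hs : Subsingleton (ClSub.idealMod W ⟶ ClSub.idealMod Z) :=
      ⟨fun a b => (hall a).trans (hall b).symm⟩
    refine ⟨inferInstance, ?_⟩
    rw [Module.finrank_zero_of_subsingleton]
    exact Nat.zero_le _
  push Not at hall
  obtain ⟨φ₀, hφ₀⟩ := hall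
  have hWne := (hA j W hW).2
  have hm : Mono φ₀ := K981.IdealHilb.mono_of_ne_zero φ₀ hφ₀
  obtain ⟨W₁, hle, l, hiso⟩ := K981.IdealImage.exists_image φ₀
  have hW₁A : W₁ ∈ A j := hAiso j W hW W₁ ⟨(asIso l).symm⟩
  have hYint : IsIntegral W₁.subscheme := (hA j W₁ hW₁A).1
  -- every map factors through `idealMod W₁`
  have key : ∀ φ : ClSub.idealMod W ⟶ ClSub.idealMod Z, ∃ φ' : ClSub.idealMod W ⟶ ClSub.idealMod W₁,
      φ' ≫ Groth.Agent.Dix.TwistClosed490.incl hle = φ := by
    intro φ
    by_cases hD : K981.IdealRestr.rs hle = ⊥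
    · exact K981.IdealImage.exists_factor_of_eq hle (K981.IdealRestr.eq_of_rs_eq_bot hle hD) φ
    · apply K981.IdealRestr.exists_factor_incl hle
      let D := K981.IdealRestr.rs hle
      letI : W₁.subscheme.Over (Spec (CommRingCat.of K)) :=
        ⟨W₁.subschemeι ≫ (X ↘ Spec (CommRingCat.of K))⟩
      have hprop : IsProper (W₁.subscheme ↘ Spec (CommRingCat.of K)) :=
        inferInstanceAs (IsProper (W₁.subschemeι ≫ (X ↘ Spec (CommRingCat.of K))))
      have hNY : IsLocallyNoetherian W₁.subscheme :=
        K981.IdealEndK.isLocallyNoetherian (W₁.subscheme ↘ Spec (CommRingCat.of K))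
      have hdeg : Mor2.IsFinLocFreeOfDeg ℓ
          (D.subschemeι ≫ (W₁.subscheme ↘ Spec (CommRingCat.of K))) := by
        have e1 : D.subschemeι ≫ (W₁.subscheme ↘ Spec (CommRingCat.of K)) =
            (K981.IdealRestr.eZ hle).inv ≫ Z.subschemeι ≫ (X ↘ Spec (CommRingCat.of K)) := by
          rw [Iso.eq_inv_comp]
          have e2 := K981.IdealRestr.eZ_hom_ι_ι hle
          rw [← e2, Category.assoc, Category.assoc]
          rfl
        rw [e1]
        exact Groth.Agent.Picfga.HilbPull.isFinLocFreeOfDeg_comp_iso hZ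
      exact dag2 j j W hW W₁ hW₁A hYint (ClSub.idealMod D)
        (Groth.Agent.VarietyB.DegCartier.isCoh_idealMod D)
        (K981.IdealRestr.isTorsionFree_idealMod D) (K981.IdealRestr.finrank_idealMod hD)
        (K981.IdealHilb.hilb_idealMod K W₁.subscheme
          (Groth.Agent.CycB.C1Pull.isInvertible_pullback W₁.subschemeι hLi) D hdeg) _
  let ψ : ClSub.idealMod W ⟶ ClSub.idealMod Z := l ≫ Groth.Agent.Dix.TwistClosed490.incl hle
  have hspan : ∀ φ : ClSub.idealMod W ⟶ ClSub.idealMod Z, ∃ c : K, c • ψ = φ := by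
    intro φ
    obtain ⟨φ', hφ'⟩ := key φ
    obtain ⟨c, hc⟩ := K981.IdealEndK.exists_smul_eq (K := K) hN hΓ hWne (φ' ≫ inv l)
    refine ⟨c, ?_⟩
    have h1 : φ' = c • l := by
      have h2 : φ' = (φ' ≫ inv l) ≫ l := by rw [Category.assoc, IsIso.inv_hom_id, Category.comp_id]
      rw [h2, ← hc, Linear.smul_comp, Category.id_comp]
    rw [← hφ', h1, Linear.smul_comp]
  have hψ : ψ ≠ 0 := by
    rintro h0
    obtain ⟨c, hc⟩ := hspan φ₀
    rw [h0, smul_zero] at hc
    exact hφ₀ hc.symm
  have hfin := K981.IdealEndK.finite_finrank_one ψ hψ hspan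
  exact ⟨hfin.1, hfin.2.le⟩

end Groth.Agent.S19052
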