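import Groth.Statements.S19053
import Groth.Agent.NonPure.K981.Thm53

set_option autoImplicit false
open CategoryTheory CategoryTheory.Limits AlgebraicGeometry
universe u
open NonPure

namespace Groth.Agent.S19053

/-- Let K be an algebraically closed field and Y an integral K-scheme which is smooth, proper and
projective over K (a closed subscheme of some P^n_K), polarised by an invertible ample O_Y-module L,
and whose Picard group is isomorphic to ℤ. Let ℓ ≥ 1 and let G be a coherent torsion-free O_Y-module
of generic rank one whose Hilbert polynomial with respect to L is P_{O_Y} − ℓ. Then G is isomorphic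
to the ideal sheaf of a closed subscheme Z ⊆ Y which is finite locally free of degree ℓ over K (a
length-ℓ subscheme). (This is the assertion proved in the first two steps of the printed proof, for
the members Y of α, which are assumed smooth with Pic(Y) ≅ ℤ there; the surjectivity statement of
the proposition itself rests on the existence of the good moduli space and is not restated.) -/
theorem result
    (K : Type u) [Field K] [IsAlgClosed K] (Y : Scheme.{u}) [Y.Over (Spec (CommRingCat.of K))]
    [IsIntegral Y] [Smooth (Y ↘ Spec (CommRingCat.of K))] [IsProper (Y ↘ Spec (CommRingCat.of K))]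
    (hproj : ∃ (n : ℕ) (ι : Y ⟶ CohB1.ProjSpace n K), IsClosedImmersion ι ∧
      ι ≫ CohB1.ProjSpace.toSpec n K = Y ↘ Spec (CommRingCat.of K))
    (L : Y.Modules) (hLi : PicF.IsInvertible L) (hLa : CohB1.IsAmple L)
    [PicGrp.Law Y] (hPic : Nonempty (PicLoc.PicSet Y ≃* Multiplicative ℤ))
    (ℓ : ℕ) (hℓ : 0 < ℓ)
    (G : Y.Modules) (hGc : Coh.IsCoh G) (hGt : TorSh.IsTorsionFree G)
    (hGr : Module.finrank (Y.presheaf.stalk (genericPoint Y)) (G.presheaf.stalk (genericPoint Y)) = 1)
    (hGP : ∃ P : Polynomial ℚ, ShStab.IsHilbPoly K Y L (Coh.structureModule Y) P ∧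
      ShStab.IsHilbPoly K Y L G (P - Polynomial.C (ℓ : ℚ))) :
    ∃ Z : Y.IdealSheafData, Mor2.IsFinLocFreeOfDeg ℓ (Z.subschemeι ≫ (Y ↘ Spec (CommRingCat.of K))) ∧
      Nonempty (G ≅ ClSub.idealMod Z) := by
  obtain ⟨P, hP, hG⟩ := hGP
  obtain ⟨e⟩ := hPic
  obtain ⟨t, ht⟩ := K981.Thm53.exists_mono K hLi hLa e hℓ hGc hGt hGr hP hG
  exact K981.ZeroDim.exists_ideal K hLa hℓ hGc ⟨P, hP, hG⟩ t

end Groth.Agent.S19053
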