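import Groth.Statements.S19054
import Groth.Agent.NonPure.K981.Thm54

set_option autoImplicit false
open CategoryTheory CategoryTheory.Limits AlgebraicGeometry
universe u
open NonPure

namespace Groth.Agent.S19054

/-- Let R be a discrete valuation ring with closed point s and generic point η, X a smooth proper
projective R-scheme with integral fibres, and F a coherent O_X-module flat over R whose special
fibre F_s is of torsion type — it sits in a short exact sequence 0 → i_*G_s → F_s → I_{W_s} → 0 on
the fibre X_s, where Y_s and W_s are integral closed subschemes of X_s different from X_s, i : Y_s →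
X_s is the inclusion, dim Y_s = d and G_s is a coherent torsion-free O_{Y_s}-module of generic rank
one — while the generic fibre F_η is not torsion-free. Let T ⊆ F be a coherent submodule with T and
F/T flat over R such that T_η is a torsion sheaf and (F/T)_η is torsion-free (so T is the flat
extension of the maximal torsion subsheaf of F_η). Then T_s is isomorphic, compatibly with the maps
to F_s, to i_*A for a torsion-free subsheaf A ⊆ G_s of generic rank one, and T_s and T_η are both
pure of dimension d. (The published construction also asks the determinant of F to be trivial and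
Y_s, W_s to lie in one component of the fixed family α; these are not used in the printed proof of
this lemma and are not assumed.) -/
theorem result (R : Type u) [CommRing R] [IsDomain R] [IsDiscreteValuationRing R]
    (X : Scheme.{u}) [X.Over (Spec (CommRingCat.of R))]
    [IsProper (X ↘ Spec (CommRingCat.of R))] [Smooth (X ↘ Spec (CommRingCat.of R))]
    (hproj : ∃ (m : ℕ) (ι : X ⟶ CohB1.ProjSpace m R), IsClosedImmersion ι ∧
      ι ≫ CohB1.ProjSpace.toSpec m R = X ↘ Spec (CommRingCat.of R))
    (hint : ∀ y : ↥(Spec (CommRingCat.of R)), IsIntegral ((X ↘ Spec (CommRingCat.of R)).fiber y))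
    (F : X.Modules) (hFc : Coh.IsCoh F) (hFfl : FlatMod.IsFlatOver (X ↘ Spec (CommRingCat.of R)) F)
    (Ys Ws : ((X ↘ Spec (CommRingCat.of R)).fiber (IsLocalRing.closedPoint R)).IdealSheafData)
    (hYs : IsIntegral Ys.subscheme) (hYs' : Ys ≠ ⊥) (hWs : IsIntegral Ws.subscheme) (hWs' : Ws ≠ ⊥)
    (d : ℕ) (hd : topologicalKrullDim ↥Ys.subscheme = d)
    (Gs : Ys.subscheme.Modules) (hGc : Coh.IsCoh Gs) (hGt : TorSh.IsTorsionFree Gs)
    (hGr : haveI := hYs; Module.finrank (Ys.subscheme.presheaf.stalk (genericPoint Ys.subscheme))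
        (Gs.presheaf.stalk (genericPoint Ys.subscheme)) = 1)
    (a : (Coh.push Ys.subschemeι).obj Gs ⟶
      (Scheme.Modules.pullback ((X ↘ Spec (CommRingCat.of R)).fiberι (IsLocalRing.closedPoint R))).obj F)
    (q : (Scheme.Modules.pullback ((X ↘ Spec (CommRingCat.of R)).fiberι (IsLocalRing.closedPoint R))).obj F ⟶
      ClSub.idealMod Ws)
    (w : a ≫ q = 0) (hex : (ShortComplex.mk a q w).ShortExact)
    (T : X.Modules) (t : T ⟶ F) [Mono t] (hTc : Coh.IsCoh T)
    (hTfl : FlatMod.IsFlatOver (X ↘ Spec (CommRingCat.of R)) T)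
    (hEfl : FlatMod.IsFlatOver (X ↘ Spec (CommRingCat.of R)) (cokernel t))
    (hTη : letI η : ↥(Spec (CommRingCat.of R)) := genericPoint (Spec (CommRingCat.of R))
      letI Xη := (X ↘ Spec (CommRingCat.of R)).fiber η
      letI Tη := (Scheme.Modules.pullback ((X ↘ Spec (CommRingCat.of R)).fiberι η)).obj T
      ∀ x : ↥Xη, Module.IsTorsion (Xη.presheaf.stalk x) (Tη.presheaf.stalk x))
    (hEη : TorSh.IsTorsionFree
      ((Scheme.Modules.pullback ((X ↘ Spec (CommRingCat.of R)).fiberι
        (genericPoint (Spec (CommRingCat.of R))))).obj (cokernel t)))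
    (hFη : ¬ TorSh.IsTorsionFree
      ((Scheme.Modules.pullback ((X ↘ Spec (CommRingCat.of R)).fiberι
        (genericPoint (Spec (CommRingCat.of R))))).obj F)) :
    letI f := X ↘ Spec (CommRingCat.of R)
    letI s : ↥(Spec (CommRingCat.of R)) := IsLocalRing.closedPoint R
    letI η : ↥(Spec (CommRingCat.of R)) := genericPoint (Spec (CommRingCat.of R))
    (∃ (A : Ys.subscheme.Modules) (m : A ⟶ Gs) (e : (Scheme.Modules.pullback (f.fiberι s)).obj T ≅
        (Coh.push Ys.subschemeι).obj A),
      Mono m ∧ TorSh.IsTorsionFree A ∧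
      (haveI := hYs; Module.finrank (Ys.subscheme.presheaf.stalk (genericPoint Ys.subscheme))
        (A.presheaf.stalk (genericPoint Ys.subscheme)) = 1) ∧
      e.hom ≫ (Coh.push Ys.subschemeι).map m ≫ a = (Scheme.Modules.pullback (f.fiberι s)).map t) ∧
    ShStab.IsPure (f.fiber s) ((Scheme.Modules.pullback (f.fiberι s)).obj T) d ∧
    ShStab.IsPure (f.fiber η) ((Scheme.Modules.pullback (f.fiberι η)).obj T) d := by
  obtain ⟨m, ι, hι, -⟩ := hproj
  obtain ⟨L, hL⟩ := K981.FibHilb.exists_isAmple ι hι
  have hXs := hint (IsLocalRing.closedPoint R)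
  have hXη := hint (genericPoint (Spec (CommRingCat.of R)))
  have hloc : IsLocallyNoetherian X := LocallyOfFiniteType.isLocallyNoetherian (X ↘ Spec (CommRingCat.of R))
  have hlocs := K981.Thm54.isLocallyNoetherian_fiber (X ↘ Spec (CommRingCat.of R)) (IsLocalRing.closedPoint R)
  have hθ := K981.Thm54.mono_fiber (X ↘ Spec (CommRingCat.of R)) t hEfl (IsLocalRing.closedPoint R)
  have hTη0 := K981.Thm54.ne_zero (K981.Thm54.shortExact_fiber (X ↘ Spec (CommRingCat.of R)) t hEfl _) hFη hEη
  have hTs0 := (K981.FibHilb.fiber_isZero_iff (X ↘ Spec (CommRingCat.of R)) hL hTc hTfl).not.1 hTη0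
  have hgen := K981.Thm54.generic_not_mem (X ↘ Spec (CommRingCat.of R)) hL hint hTc hTfl
    (K981.Thm54.generic_not_mem_of_isTorsion (hTη _))
  have hs := K981.Thm54.special
    (Groth.Agent.FormalB.PullCoh.isCoh_pullback
      ((X ↘ Spec (CommRingCat.of R)).fiberι (IsLocalRing.closedPoint R)) hTc)
    hTs0 hgen Ys Ws d hd hGc hGt hGr a q w hex
    ((Scheme.Modules.pullback ((X ↘ Spec (CommRingCat.of R)).fiberι (IsLocalRing.closedPoint R))).map t)
  exact ⟨hs.1, hs.2, K981.Thm54.isPure_generic (X ↘ Spec (CommRingCat.of R)) hL hTc hTfl hs.2⟩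

end Groth.Agent.S19054
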