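import Groth.Statements.S19056
import Groth.Agent.HilbD.K327.RelMain

set_option autoImplicit false
open CategoryTheory CategoryTheory.Limits AlgebraicGeometry
universe u
open HilbD

namespace Groth.Agent.S19056

open K327.RelHilb K327.RelMain

/-- Let k be a field and X a smooth projective surface over k — an integral k-scheme, smooth, proper and
geometrically irreducible over k, of dimension 2, with a closed immersion into some P^n_k over k.
Let (H, Z_u) represent the Hilbert functor of X over k (on locally Noetherian k-schemes), let U ⊆ H
be an open subscheme which is proper over k, and let C ⊆ X ×_k U be the restriction of the universal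
family over U, with structure morphism c : C → U. Assume that for every algebraically closed field K
over k and every K-point a of U the fibre C_a ⊆ X_K is an integral curve, and that there is an
integer I such that C_a · C_b = I (intersection number on the surface X_K) for all pairs of K-points
a, b of U. Let ℓ > 0 be an integer with I < ℓ, let (H_X, Z_X) represent the degree-ℓ Hilbert functor
of points of X over k and (H', Z') the degree-ℓ Hilbert functor of points of C over U. Then the
k-morphism ψ : H' → H_X classifying the image of Z' ⊆ C ×_U H' in X ×_k H' — on T-points, (a : T →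
U, W ⊆ C_a) ↦ W ⊆ X ×_k T — is finite and universally injective. (In the published statement U is a
connected component α of Hilb(X) whose universal family parametrizes geometrically integral curves;
its properness over k and the constancy I(α) of the intersection number, both consequences stated in
the text, are what the printed argument uses and are assumed here directly; representability of the
Hilbert functors of points is assumed through the representing pairs.) -/
theorem result (k : Type u) [Field k] (X : Scheme.{u}) (g : X ⟶ Spec (CommRingCat.of k))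
    [IsIntegral X] [Smooth g] [IsProper g] [GeometricallyIrreducible g]
    (hproj : ∃ (n : ℕ) (ι : X ⟶ CohB1.ProjSpace n k), IsClosedImmersion ι ∧ ι ≫ CohB1.ProjSpace.toSpec n k = g)
    (hdim : topologicalKrullDim X = 2)
    (H : Over (Spec (CommRingCat.of k))) (Zu : FGA.HilbSet g H) (hH : FGA.HilbRepresentedBy g H Zu)
    (U : H.left.Opens) (hU : IsProper (U.ι ≫ H.hom))
    (C : (PicF.XT g (Over.mk (U.ι ≫ H.hom))).IdealSheafData)
    (hC : C = FGA.hilbPull g (Over.homMk U.ι rfl : Over.mk (U.ι ≫ H.hom) ⟶ H) Zu.1)
    (c : C.subscheme ⟶ ↑U) (hc : c = C.subschemeι ≫ PicF.XTproj g (Over.mk (U.ι ≫ H.hom)))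
    (hint : ∀ (K : Type u) [Field K] [IsAlgClosed K] [Algebra k K]
      (a : Over.mk (Spec.map (CommRingCat.ofHom (algebraMap k K))) ⟶ Over.mk (U.ι ≫ H.hom)),
      IsIntegral (FGA.hilbPull g a C).subscheme ∧
        topologicalKrullDim ↥(FGA.hilbPull g a C).subscheme = 1)
    (I : ℤ)
    (hI : ∀ (K : Type u) [Field K] [IsAlgClosed K] [Algebra k K]
      (a b : Over.mk (Spec.map (CommRingCat.ofHom (algebraMap k K))) ⟶ Over.mk (U.ι ≫ H.hom)),
      letI TK : Over (Spec (CommRingCat.of k)) := Over.mk (Spec.map (CommRingCat.ofHom (algebraMap k K)))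
      letI : (PicF.XT g TK).Over (Spec (CommRingCat.of K)) := ⟨PicF.XTproj g TK⟩
      FGA.intNum K (PicF.XT g TK) 2
        (fun i : Fin 2 => if i = 0 then ClSub.idealMod (FGA.hilbPull g a C)
          else ClSub.idealMod (FGA.hilbPull g b C))
        (Coh.structureModule (PicF.XT g TK)) = I)
    (ℓ : ℕ) (hℓ : 0 < ℓ) (hIℓ : I < (ℓ : ℤ))
    (Hx : Over (Spec (CommRingCat.of k))) (Zx : HilbD.Obj g ℓ Hx) (hZx : HilbD.IsUniversal g ℓ Hx Zx)
    (H' : Over (↑U : Scheme.{u})) (Z' : HilbD.Obj c ℓ H') (hZ' : HilbD.IsUniversal c ℓ H' Z')
    (m : Over.mk (H'.hom ≫ U.ι ≫ H.hom) ⟶ Hx)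
    (heq : c ≫ (U.ι ≫ H.hom) =
      (C.subschemeι ≫ pullback.fst g (Over.mk (U.ι ≫ H.hom)).hom) ≫ g)
    (hm : HilbD.pull g m Zx.1 =
      (Z'.1.subschemeι ≫ pullback.map c H'.hom g (H'.hom ≫ U.ι ≫ H.hom)
        (C.subschemeι ≫ pullback.fst g (Over.mk (U.ι ≫ H.hom)).hom) (𝟙 H'.left) (U.ι ≫ H.hom)
        heq (Category.id_comp _).symm).ker) :
    IsFinite m.left ∧ UniversallyInjective m.left := by
  subst hc
  have hk : IsProper (Over.mk (U.ι ≫ H.hom)).hom := hU
  have hprop : IsProper m.left := isProper_m (V := Over.mk (U.ι ≫ H.hom)) (heq := heq) hm hZx hZ'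
  have hinj : UniversallyInjective m.left := by
    rw [UniversallyInjective.iff_diagonal]
    constructor
    intro z
    let κ := (pullback m.left m.left).residueField z
    let K := AlgebraicClosure κ
    let φ : Spec (CommRingCat.of K) ⟶ pullback m.left m.left :=
      Spec.map (CommRingCat.ofHom (algebraMap κ K)) ≫ (pullback m.left m.left).fromSpecResidueField z
    have hφz : φ (IsLocalRing.closedPoint K) = z := by
      change ((pullback m.left m.left).fromSpecResidueField z)
        ((Spec.map (CommRingCat.ofHom (algebraMap κ K))) (IsLocalRing.closedPoint K)) = z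
      exact Scheme.fromSpecResidueField_apply _ _
    have h : φ ≫ pullback.fst m.left m.left = φ ≫ pullback.snd m.left m.left :=
      eq_of_comp_m hdim hH hC hint hI hIℓ hZx hZ' (heq := heq) hm _ _ (by
        exact (Category.assoc _ _ _).trans ((congrArg (fun t => φ ≫ t) pullback.condition).trans
          (Category.assoc _ _ _).symm))
    refine ⟨(φ ≫ pullback.fst m.left m.left) (IsLocalRing.closedPoint K), ?_⟩
    have h2 : (φ ≫ pullback.fst m.left m.left) ≫ pullback.diagonal m.left = φ := by
      apply pullback.hom_ext
      · rw [Category.assoc, pullback.diagonal_fst, Category.comp_id]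
      · rw [Category.assoc, pullback.diagonal_snd, Category.comp_id, h]
    rw [← Scheme.Hom.comp_apply, h2, hφz]
  exact ⟨IsFinite.of_isProper_of_locallyQuasiFinite m.left, hinj⟩

end Groth.Agent.S19056
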