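import Groth.Statements.S19057
import Groth.Agent.NonPure.K981.Bidual
import Groth.Agent.NonPure.K981.Uniq

set_option autoImplicit false
open CategoryTheory CategoryTheory.Limits AlgebraicGeometry
universe u
open NonPure

namespace Groth.Agent.S19057

/-- Let K be a field and X an integral K-scheme which is smooth, proper, projective and geometrically
irreducible over K, of dimension at least 2, polarised by an invertible ample O_X-module L; let ℓ ≥
1. Let F be a coherent torsion-free O_X-module whose double dual Hom(Hom(F, O_X), O_X) is isomorphic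
to O_X (the sheaf Hom functors Hom(M, −) are taken as right adjoints of M ⊗ −; their existence is
the stated instance hypothesis and holds) and whose Hilbert polynomial with respect to L is P_{O_X}
− ℓ. Then there is a closed subscheme Z ⊆ X, finite locally free of degree ℓ over K, with F ≅ I_Z,
and Z is unique: two such subschemes of degree ℓ with isomorphic ideal sheaves coincide. (The
published statement is the isomorphism of stacks ψ : Hilb^ℓ(X) × B𝔾_m → Coh^tf(X)_{O_X,P_ℓ}; this
row is its shadow on K-valued points — every torsion-free sheaf with trivial determinant and Hilbert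
polynomial P_ℓ is the ideal sheaf of a unique length-ℓ subscheme — with triviality of the
determinant expressed, for a torsion-free sheaf of rank one on a smooth variety, as triviality of
the reflexive hull.) -/
theorem result
    (K : Type u) [Field K] (X : Scheme.{u}) [X.Over (Spec (CommRingCat.of K))]
    [IsIntegral X] [Smooth (X ↘ Spec (CommRingCat.of K))] [IsProper (X ↘ Spec (CommRingCat.of K))]
    [GeometricallyIrreducible (X ↘ Spec (CommRingCat.of K))]
    (hproj : ∃ (n : ℕ) (ι : X ⟶ CohB1.ProjSpace n K), IsClosedImmersion ι ∧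
      ι ≫ CohB1.ProjSpace.toSpec n K = X ↘ Spec (CommRingCat.of K))
    (hdim : 2 ≤ topologicalKrullDim X)
    (L : X.Modules) (hLi : PicF.IsInvertible L) (hLa : CohB1.IsAmple L)
    (ℓ : ℕ) (hℓ : 0 < ℓ)
    (F : X.Modules) (hFc : Coh.IsCoh F) (hFt : TorSh.IsTorsionFree F)
    [DCoh.HasSheafHom F] [DCoh.HasSheafHom ((DCoh.sheafHom F).obj (Coh.structureModule X))]
    (hdet : Nonempty ((DCoh.sheafHom ((DCoh.sheafHom F).obj (Coh.structureModule X))).obj
      (Coh.structureModule X) ≅ Coh.structureModule X))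
    (hFP : ∃ P : Polynomial ℚ, ShStab.IsHilbPoly K X L (Coh.structureModule X) P ∧
      ShStab.IsHilbPoly K X L F (P - Polynomial.C (ℓ : ℚ))) :
    (∃ Z : X.IdealSheafData, Mor2.IsFinLocFreeOfDeg ℓ (Z.subschemeι ≫ (X ↘ Spec (CommRingCat.of K))) ∧
      Nonempty (F ≅ ClSub.idealMod Z)) ∧
    (∀ Z Z' : X.IdealSheafData, Mor2.IsFinLocFreeOfDeg ℓ (Z.subschemeι ≫ (X ↘ Spec (CommRingCat.of K))) →
      Mor2.IsFinLocFreeOfDeg ℓ (Z'.subschemeι ≫ (X ↘ Spec (CommRingCat.of K))) →
      Nonempty (ClSub.idealMod Z ≅ ClSub.idealMod Z') → Z = Z') := by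
  have hloc := K981.IdealEndK.isLocallyNoetherian (X ↘ Spec (CommRingCat.of K))
  have hN := K981.IdealEndK.isIntegrallyClosed_stalk (X ↘ Spec (CommRingCat.of K))
  have hΓ := K981.IdealEndK.surjective_appTop K X
  refine ⟨?_, ?_⟩
  · obtain ⟨t, ht⟩ := K981.Bidual.exists_mono hFc hFt hdet
    exact K981.ZeroDim.exists_ideal K hLa hℓ hFc hFP t
  · rintro Z Z' hZ hZ' ⟨e⟩
    have hf : IsFinite (Z.subschemeι ≫ (X ↘ Spec (CommRingCat.of K))) := hZ.1.1
    have hf' : IsFinite (Z'.subschemeι ≫ (X ↘ Spec (CommRingCat.of K))) := hZ'.1.1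
    have hne : Z ≠ ⊥ := K981.Uniq.ne_bot K hdim Z
    have hne' : Z' ≠ ⊥ := K981.Uniq.ne_bot K hdim Z'
    have h1 : e.hom ≠ 0 := fun h => K981.IdealEndK.id_ne_zero hne (by
      rw [← e.hom_inv_id, h, zero_comp])
    have h2 : e.inv ≠ 0 := fun h => K981.IdealEndK.id_ne_zero hne' (by
      rw [← e.inv_hom_id, h, zero_comp])
    exact le_antisymm
      (K981.Uniq.le_of_iso K hN hΓ (K981.Uniq.big_cpl K hdim Z) e.hom h1)
      (K981.Uniq.le_of_iso K hN hΓ (K981.Uniq.big_cpl K hdim Z') e.inv h2)

end Groth.Agent.S19057
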