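import Groth.Statements.S19058
import Groth.Agent.NonPure.K981.OpenImm
import Groth.Agent.NonPure.K981.NegHom
import Groth.Agent.Sga67.DVRConn
import Groth.Agent.Flat2B.SmoothGeom

set_option autoImplicit false
open CategoryTheory CategoryTheory.Limits AlgebraicGeometry
universe u
attribute [local instance] HasDerivedCategory.standard
open NonPure

namespace Groth.Agent.S19058

/-- Let k be a field and X an integral k-scheme which is smooth, proper, projective and geometrically
irreducible over k, of dimension at least 2, and let (H, Z_u) represent the Hilbert functor of X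
over k on locally Noetherian k-schemes. Let i : Y → X be a closed immersion with Y smooth over k, B
a separated k-scheme locally of finite type, and π : Y → B a smooth, proper and surjective
k-morphism with geometrically irreducible fibres. Let N = Hom(I/I², O_Y) be the normal sheaf of Y in
X (the sheaf Hom of the conormal sheaf of i, taken as a right adjoint, whose existence is the stated
instance hypothesis) and assume that H^0(Y_b, N|_{Y_b}) = 0 for every point b of B, Y_b being the
fibre of π. Let φ : B → H be a k-morphism classifying the family Y ⊆ X ×_k B given by the graph of π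
(a closed subscheme proper and flat over B). Then φ is an open immersion. (In the published
corollary Y → B is a P^1-fibration inside X whose normal bundle is fibrewise bounded by −1, which
for a vector bundle on P^1 is the vanishing of H^0 assumed here, and the conclusion drawn is that
the image of B in Hilb(X) is open, so that the contraction result for P^ℓ-fibrations applies; that
contraction statement rests on the existence of the good moduli space and is not restated.) -/
theorem result
    (k : Type u) [Field k] (X : Scheme.{u}) (g : X ⟶ Spec (CommRingCat.of k))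
    [IsIntegral X] [Smooth g] [IsProper g] [GeometricallyIrreducible g]
    (hproj : ∃ (n : ℕ) (ι : X ⟶ CohB1.ProjSpace n k), IsClosedImmersion ι ∧ ι ≫ CohB1.ProjSpace.toSpec n k = g)
    (hdim : 2 ≤ topologicalKrullDim X)
    (H : Over (Spec (CommRingCat.of k))) (Zu : FGA.HilbSet g H) (hH : FGA.HilbRepresentedBy g H Zu)
    (Y B : Scheme.{u}) (i : Y ⟶ X) [IsClosedImmersion i] (b₀ : B ⟶ Spec (CommRingCat.of k))
    [IsSeparated b₀] [LocallyOfFiniteType b₀]
    (π : Y ⟶ B) [Smooth π] [IsProper π] [Surjective π] [GeometricallyIrreducible π]
    (hcomm : i ≫ g = π ≫ b₀) [Smooth (i ≫ g)]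
    [DCoh.HasSheafHom (Omega.conormal i)]
    (hneg : ∀ b : B, Subsingleton (Coh.HH (π.fiber b)
      ((Scheme.Modules.pullback (π.fiberι b)).obj
        ((DCoh.sheafHom (Omega.conormal i)).obj (Coh.structureModule Y))) 0))
    (φ : Over.mk b₀ ⟶ H)
    (hφ : FGA.hilbPull g φ Zu.1 = (pullback.lift i π hcomm).ker) :
    IsOpenImmersion φ.left := by
  have hXn : IsLocallyNoetherian X := LocallyOfFiniteType.isLocallyNoetherian g
  let c : Y ⟶ PicF.XT g (Over.mk b₀) := pullback.lift i π hcomm
  have hc1 : c ≫ pullback.fst g (Over.mk b₀).hom = i := pullback.lift_fst _ _ _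
  have hc2 : c ≫ PicF.XTproj g (Over.mk b₀) = π := pullback.lift_snd _ _ _
  have hcl : IsClosedImmersion c := by
    have h1 : IsClosedImmersion (c ≫ pullback.fst g (Over.mk b₀).hom) := by rw [hc1]; infer_instance
    have h3 : IsSeparated (Over.mk b₀).hom := ‹IsSeparated b₀›
    have h2 : IsSeparated (pullback.fst g (Over.mk b₀).hom) := inferInstance
    exact IsClosedImmersion.of_comp c (pullback.fst g (Over.mk b₀).hom)
  obtain ⟨v, hv, hvc⟩ := (K740.Hilb.hilbPull_eq_iff g φ Zu.1 c).mp hφ
  rw [hc2] at hv
  have hvq : v ≫ Zu.1.subschemeι ≫ pullback.fst g H.hom = i := by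
    rw [← Category.assoc, hvc, Category.assoc, FGA.XTmap_fst]
    exact hc1
  have hC := K981.NegHom.isFinLocFree_conormal i g
  refine K981.OpenImm.isOpenImmersion hH hv hvq (fun b => ?_) fun b w =>
    K981.NegHom.hom_eq_zero hC (π.fiberι b) (hneg b) w
  have h1 : IsProper (π.fiberToSpecResidueField b) := inferInstanceAs (IsProper (pullback.snd _ _))
  have h2 : Smooth (π.fiberToSpecResidueField b) := inferInstanceAs (Smooth (pullback.snd _ _))
  have h3 : GeometricallyIrreducible (π.fiberToSpecResidueField b) := inferInstance
  have h4 : GeometricallyReduced (π.fiberToSpecResidueField b) :=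
    Groth.Agent.Flat2B.SmoothGeom.geometricallyReduced_of_smooth _
  have h5 : GeometricallyIntegral (π.fiberToSpecResidueField b) :=
    GeometricallyIntegral.of_geometricallyReduced_of_geometricallyIrreducible _
  exact Groth.Agent.Sga67.DVRConn.appTop_bijective_of_field (B.residueField b) (π.fiber b)
    (π.fiberToSpecResidueField b)

end Groth.Agent.S19058
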