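import Groth.Statements.S19060
import Groth.Agent.Ega3B.Master
import Groth.Agent.Flat2G.FibDimVanish
import Groth.Agent.Curves.K334.ProjKer

set_option autoImplicit false
universe u
open CategoryTheory CategoryTheory.Limits AlgebraicGeometry Opposite
open Curves

namespace Groth.Agent.S19060

/-- Let R be a Noetherian ring and X a relative curve over Spec R (proper and smooth, with geometrically
connected fibres of dimension one, and projective: X carries an ample invertible module). Let F be a
coherent O_X-module which is flat over Spec R (every stalk is a flat module over the local ring of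
the base). If H^1(X, F) is a projective R-module, then H^0(X, F) is a projective R-module. (The
source says only that F is an O_X-module flat over the base; F is taken coherent here, as the
finiteness of its cohomology over R used there requires.) -/
theorem result (R : Type u) [CommRing R] [IsNoetherianRing R]
    (X : Scheme.{u}) [X.Over (Spec (CommRingCat.of R))] [IsProper (X ↘ Spec (CommRingCat.of R))]
    [Smooth (X ↘ Spec (CommRingCat.of R))] [GeometricallyConnected (X ↘ Spec (CommRingCat.of R))]
    (hdim : ∀ s : Spec (CommRingCat.of R), topologicalKrullDim ↥((X ↘ Spec (CommRingCat.of R)).fiber s) = 1)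
    (hproj : ∃ M : X.Modules, CohB1.IsAmple M)
    (F : X.Modules) (hF : Coh.IsCoh F) (hfl : FlatMod.IsFlatOver (X ↘ Spec (CommRingCat.of R)) F)
    (h1 : Module.Projective R (Coh.HH X F 1)) :
    Module.Projective R (Coh.HH X F 0) := by
  obtain ⟨P, hP, ⟨b, hb⟩, -, hH⟩ := Groth.Agent.Ega3B.Master.exists_complex' X F hF hfl
  have hproj' : ∀ i, Module.Projective R (P.X i) := by
    intro i
    obtain ⟨h2, h3⟩ := hP i
    have : Module.FinitePresentation R (P.X i) := Module.finitePresentation_of_finite R _
    exact Module.Flat.projective_of_finitePresentation
  have hHi : ∀ i < (0 : ℤ), Module.Projective R (P.homology i) := by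
    intro i hi
    obtain ⟨p, rfl⟩ : ∃ p : ℕ, i = -(p : ℤ) := ⟨(-i).toNat, by omega⟩
    obtain ⟨e⟩ := hH p
    rcases Nat.lt_or_ge 1 p with hp | hp
    · have h2 : Subsingleton (Coh.HH X F p) :=
        Groth.Agent.Flat2G.FibDimVanish.subsingleton_HH (X ↘ Spec (CommRingCat.of R)) 1
          (fun s => (hdim s).le) F hF.1 p hp
      have h3 : Module.Projective R (Coh.HH X F p) := Module.Projective.of_free
      exact Module.Projective.of_equiv e.symm
    · obtain rfl : p = 1 := by omega
      exact Module.Projective.of_equiv e.symm
  have h0 := K334.ProjKer.homology_zero P hproj' b hb hHi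
  have h2 := hH 0
  rw [Nat.cast_zero, neg_zero] at h2
  obtain ⟨e⟩ := h2
  exact Module.Projective.of_equiv e

end Groth.Agent.S19060
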