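import Groth.Statements.S19062
import Groth.Agent.Curves.K386.NGFam

set_option autoImplicit false
universe u
open CategoryTheory CategoryTheory.Limits AlgebraicGeometry Opposite
open Curves

namespace Groth.Agent.S19062

/-- Let R be a Noetherian ring and f : X ⟶ Spec R a relative curve of genus g (proper and smooth, with
geometrically connected fibres of dimension one and genus g, and projective: X carries an ample
invertible module). Let L be an invertible O_X-module such that for every point s of Spec R the
restriction L_s of L to the fibre X_s has degree at least 2g + 1. Then L is normally generated: L is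
ample (X is quasi-compact and every point of X lies in an affine open of the form X_t for a global
section t of some power L^d, d ≥ 1), and for every n ≥ 1 the global sections of L^(n+1) = L^n ⊗ L
are additively generated by the products m ⊗ s of a global section m of L^n and a global section s
of L (equivalently, the n-fold tensor powers of the global sections of L map onto the global
sections of L^n for every n ≥ 1). -/
theorem result (R : Type u) [CommRing R] [IsNoetherianRing R]
    {X : Scheme.{u}} (f : X ⟶ Spec (CommRingCat.of R)) [IsProper f] [Smooth f] [GeometricallyConnected f]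
    (hdim : ∀ s : Spec (CommRingCat.of R), topologicalKrullDim ↥(f.fiber s) = 1)
    (hproj : ∃ M : X.Modules, CohB1.IsAmple M)
    (g : ℕ) (hgen : ∀ s : Spec (CommRingCat.of R), letI : (f.fiber s).Over (Spec ((Spec (CommRingCat.of R)).residueField s)) := ⟨f.fiberToSpecResidueField s⟩
      Curv2.genus ((Spec (CommRingCat.of R)).residueField s) (f.fiber s) = g)
    (L : X.Modules) (hL : PicF.IsInvertible L)
    (hdeg : ∀ s : Spec (CommRingCat.of R), letI : (f.fiber s).Over (Spec ((Spec (CommRingCat.of R)).residueField s)) := ⟨f.fiberToSpecResidueField s⟩
      2 * (g : ℤ) + 1 ≤ Curv2.deg ((Spec (CommRingCat.of R)).residueField s) (f.fiber s) (CohIII.fiberMod f L s) 1) :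
    CohB1.IsAmple L ∧ ∀ n : ℕ, 1 ≤ n →
      AddSubgroup.closure {t | ∃ (m : (CohB1.tensorPow L n).val.obj (op ⊤)) (s : L.val.obj (op ⊤)), t = SecTwist.tmul (CohB1.tensorPow L n) L ⊤ m s} = ⊤ := by
  have hN : IsLocallyNoetherian (Spec (CommRingCat.of R)) := inferInstance
  refine ⟨Groth.Agent.Ega2.VeryAmpleAmple.isAmple_of_isRelVeryAmplePn f L
    (K386.FibDeg.isRelVeryAmplePn_of_fiber f hdim g hgen L hL hdeg), fun n hn => ?_⟩
  exact K386.NGFam.prods_eq_top f hdim g hgen L hL hdeg n hn

end Groth.Agent.S19062
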