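import Groth.Statements.S19073
import Groth.Agent.Surf.K464.Base
import Groth.Agent.Surf.K455.SmoothRR
import Groth.Agent.Surf.K455.RelDim
import Groth.Agent.Surf.K455.Canon
import Groth.Agent.Ega3B.ProjProper
import Groth.Agent.CurvesB.CurveRR

set_option autoImplicit false
universe u
open CategoryTheory CategoryTheory.Limits AlgebraicGeometry
open Surf

namespace Groth.Agent.S19073

open K464.Base Groth.Agent.Grpsch.PicGrp

/-- Let X be a surface over an algebraically closed field k (an integral scheme of dimension two all of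
whose local rings are regular, with a closed immersion into some P^n_k over k), and let L₁, L₂ be
invertible O_X-modules which are numerically equivalent: (L₁·M) = (L₂·M) for every invertible
O_X-module M, where (L·M) = χ(O_X) − χ(L) − χ(M) + χ(L ⊗ M) is the intersection number. Then χ(X,
L₁) = χ(X, L₂). -/
theorem result (k : Type u) [Field k] [IsAlgClosed k] (X : Scheme.{u}) [X.Over (Spec (CommRingCat.of k))]
    [AlgebraicGeometry.IsIntegral X] (hdim : topologicalKrullDim X = 2) (hreg : ∀ x : X, IsRegularLocalRing (X.presheaf.stalk x))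
    (hproj : ∃ (n : ℕ) (ι : X ⟶ CohB1.ProjSpace n k), IsClosedImmersion ι ∧ ι ≫ CohB1.ProjSpace.toSpec n k = (X ↘ (Spec (CommRingCat.of k))))
    (L₁ L₂ : X.Modules) (hL₁ : PicF.IsInvertible L₁) (hL₂ : PicF.IsInvertible L₂)
    (hnum : ∀ M : X.Modules, PicF.IsInvertible M →
      FGA.intNum k X 2 ![L₁, M] (Coh.structureModule X) = FGA.intNum k X 2 ![L₂, M] (Coh.structureModule X)) :
    Curv2.euler k X L₁ = Curv2.euler k X L₂ := by
  obtain ⟨n, ι, hι, hιk⟩ := hproj
  have hP : IsProper (X ↘ Spec (CommRingCat.of k)) := by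
    rw [← hιk]
    have := Groth.Agent.Ega3B.ProjProper.isProper_toSpec n k
    infer_instance
  have hN : AlgebraicGeometry.IsNoetherian X := Groth.Agent.CurvesB.CurveRR.isNoetherian_of_proper k X
  have hS : Smooth (X ↘ Spec (CommRingCat.of k)) := K455.RelDim.smooth_of_regular k (X ↘ Spec (CommRingCat.of k)) hreg
  have hR : SmoothOfRelativeDimension 2 (X ↘ Spec (CommRingCat.of k)) :=
    K455.RelDim.smoothOfRelativeDimension k (X ↘ Spec (CommRingCat.of k)) 2 (by
      intro Z hZ
      rw [irreducibleComponents_eq_singleton, Set.mem_singleton_iff] at hZ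
      subst hZ
      rw [IsHomeomorph.topologicalKrullDim_eq _ (Homeomorph.Set.univ X).isHomeomorph, hdim]
      rfl)
  obtain ⟨W, hW, hWinv⟩ := K455.Canon.exists_canonical (X ↘ Spec (CommRingCat.of k)) 2
  have hdim' : topologicalKrullDim X ≤ (2 : ℕ) := hdim.le
  have h1 := K455.SmoothRR.rr k hW hdim' hL₁
  have h2 := K455.SmoothRR.rr k hW hdim' hL₂
  have h3 := hnum L₁ hL₁
  have h4 := hnum L₂ hL₂
  have h5 := hnum W hWinv
  have h6 : FGA.intNum k X 2 ![L₁, L₂] (Coh.structureModule X) = FGA.intNum k X 2 ![L₂, L₁] (Coh.structureModule X) := by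
    rw [intNum_eq_dot k X hdim' hL₁ hL₂, intNum_eq_dot k X hdim' hL₂ hL₁, dot_comm]
  have e1 : ∀ L : X.Modules, PicF.IsInvertible L → Curv2.euler k X L = FGA.eulerCharLE k X L 2 := fun L hL =>
    (Groth.Agent.Fga.IntAdd.eulerCharLE_eq k X 2 hdim' L).symm
  rw [e1 L₁ hL₁, e1 L₂ hL₂]
  linarith

end Groth.Agent.S19073
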