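import Groth.Statements.S19088
import Groth.Agent.SymSq.K980.SymInt

set_option autoImplicit false
universe u
open CategoryTheory CategoryTheory.Limits AlgebraicGeometry Opposite
open SymSq

namespace Groth.Agent.S19088

/-- Let k be an algebraically closed field of characteristic ≠ 2 and C a hyperelliptic curve of genus g
≥ 2 over k: C ⟶ Spec k proper and smooth, C connected of dimension one with dim_k H^1(C, O_C) = g,
with a double cover κ : C ⟶ P^1_k over k (finite, flat, of rank 2 everywhere) and hyperelliptic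
involution σ (σ ≫ κ = κ, σ ≠ id). On X = C ×_k C let L = κ^*O(1), F_m = p_1^*L^m ⊗ p_2^*L^m and N an
invertible O_X-module inverse to the ideal sheaf of the graph Γ_σ = (id, σ) : C ⟶ X. Let S = Sym²(C)
be the symmetric square: π : X ⟶ S is a quotient (affine, invariant, sections of S = invariant
sections) for the action of the symmetric group on two letters in which the transposition acts by
the swap of the two factors, and q : S ⟶ Spec k its structure morphism with π over Spec k; let N_Δ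
be an invertible module on X inverse to the ideal sheaf of the diagonal, x : Spec k ⟶ C a k-point
with A = O_C(x), and MΘ, MΔ, M∇ invertible O_S-modules with π^*MΘ ≅ p_1^*A ⊗ p_2^*A, π^*MΔ ≅ N_Δ ⊗
N_Δ and π^*M∇ ≅ N (the classes Θ_S = π({x} × C), Δ_S = π(Δ) with π^*Δ_S = 2Δ, and ∇_S = π(Γ_σ)).
Then (Θ_S·Θ_S) = 1, (Θ_S·Δ_S) = 2, (Θ_S·∇_S) = 1, (Δ_S·Δ_S) = 4 − 4g, (∇_S·∇_S) = 1 − g and
(Δ_S·∇_S) = 2g + 2, intersection numbers being (M·M') = χ(O_S) − χ(M) − χ(M') + χ(M ⊗ M'). -/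
theorem result (k : Type u) [Field k] [IsAlgClosed k] (h2 : (2 : k) ≠ 0)
    (C : Scheme.{u}) [C.Over (Spec (CommRingCat.of k))] [IsProper (C ↘ Spec (CommRingCat.of k))] [Smooth (C ↘ Spec (CommRingCat.of k))] [ConnectedSpace ↥C]
    (hdim : topologicalKrullDim ↥C = 1) (g : ℕ) (hg : 2 ≤ g) (hgen : Curv2.genus k C = g)
    (κ : C ⟶ CohB1.ProjSpace 1 k) (hκ : κ ≫ CohB1.ProjSpace.toSpec 1 k = (C ↘ Spec (CommRingCat.of k)))
    [IsFinite κ] [Flat κ] (hκ2 : ∀ y : ↥(CohB1.ProjSpace 1 k), κ.finrank y = 2)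
    (σ : C ⟶ C) (hσ : σ ≫ κ = κ) (hσ1 : σ ≠ 𝟙 C) (hσp : σ ≫ (C ↘ Spec (CommRingCat.of k)) = (C ↘ Spec (CommRingCat.of k)))
    (N : (pullback (C ↘ Spec (CommRingCat.of k)) (C ↘ Spec (CommRingCat.of k))).Modules) (hN : PicF.IsInvertible N)
    (hNinv : ClSub.IsInverseOf N (ClSub.idealMod (pullback.lift (𝟙 C) σ ((Category.id_comp (C ↘ Spec (CommRingCat.of k))).trans hσp.symm)).ker))
    (ND : (pullback (C ↘ Spec (CommRingCat.of k)) (C ↘ Spec (CommRingCat.of k))).Modules) (hND : PicF.IsInvertible ND)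
    (hNDinv : ClSub.IsInverseOf ND (ClSub.idealMod (pullback.diagonal (C ↘ Spec (CommRingCat.of k))).ker))
    (x : Spec (CommRingCat.of k) ⟶ C) (hx : x ≫ (C ↘ Spec (CommRingCat.of k)) = 𝟙 (Spec (CommRingCat.of k)))
    (A : C.Modules) (hA : PicF.IsInvertible A) (hAinv : ClSub.IsInverseOf A (ClSub.idealMod x.ker))
    (ρ : ULift.{u} (Equiv.Perm (Fin 2)) →* Aut (pullback (C ↘ Spec (CommRingCat.of k)) (C ↘ Spec (CommRingCat.of k)))) (hρ : (ρ (ULift.up (Equiv.swap 0 1))).hom = (pullbackSymmetry (C ↘ Spec (CommRingCat.of k)) (C ↘ Spec (CommRingCat.of k))).hom)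
    (Sq : Scheme.{u}) (π : (pullback (C ↘ Spec (CommRingCat.of k)) (C ↘ Spec (CommRingCat.of k))) ⟶ Sq) (hπ : SGA1.IsQuot ρ π) (q : Sq ⟶ Spec (CommRingCat.of k)) (hq : π ≫ q = pullback.fst (C ↘ Spec (CommRingCat.of k)) (C ↘ Spec (CommRingCat.of k)) ≫ (C ↘ Spec (CommRingCat.of k)))
    (MΘ MΔ MV : Sq.Modules) (hMΘ : PicF.IsInvertible MΘ) (hMΔ : PicF.IsInvertible MΔ) (hMV : PicF.IsInvertible MV)
    (hΘ : Nonempty ((Scheme.Modules.pullback π).obj MΘ ≅ CohB1.tensorMod ((Scheme.Modules.pullback (pullback.fst (C ↘ Spec (CommRingCat.of k)) (C ↘ Spec (CommRingCat.of k)))).obj A) ((Scheme.Modules.pullback (pullback.snd (C ↘ Spec (CommRingCat.of k)) (C ↘ Spec (CommRingCat.of k)))).obj A)))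
    (hΔ : Nonempty ((Scheme.Modules.pullback π).obj MΔ ≅ CohB1.tensorMod ND ND))
    (hV : Nonempty ((Scheme.Modules.pullback π).obj MV ≅ N)) :
    letI : Sq.Over (Spec (CommRingCat.of k)) := ⟨q⟩
    FGA.intNum k Sq 2 ![MΘ, MΘ] (Coh.structureModule Sq) = 1 ∧ FGA.intNum k Sq 2 ![MΘ, MΔ] (Coh.structureModule Sq) = 2 ∧ FGA.intNum k Sq 2 ![MΘ, MV] (Coh.structureModule Sq) = 1 ∧
      FGA.intNum k Sq 2 ![MΔ, MΔ] (Coh.structureModule Sq) = 4 - 4 * (g : ℤ) ∧ FGA.intNum k Sq 2 ![MV, MV] (Coh.structureModule Sq) = 1 - (g : ℤ) ∧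
      FGA.intNum k Sq 2 ![MΔ, MV] (Coh.structureModule Sq) = 2 * (g : ℤ) + 2 := by
  have hI := K980.Setup.isIntegral_of_connected (C ↘ Spec (CommRingCat.of k))
  obtain ⟨y, hy⟩ := K980.DCover.exists_basis k κ hκ2
  let iS : Sq.Over (Spec (CommRingCat.of k)) := ⟨q⟩
  have h0 := K980.Inter.dg_point k x hx hA hAinv
  have hAA := Groth.Agent.Fdesc.LocGen.isInvertible_tensorMod
    (Groth.Agent.Fdesc.LocGen.isInvertible_pullback (pullback.fst (C ↘ Spec (CommRingCat.of k)) (C ↘ Spec (CommRingCat.of k))) hA)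
    (Groth.Agent.Fdesc.LocGen.isInvertible_pullback (pullback.snd (C ↘ Spec (CommRingCat.of k)) (C ↘ Spec (CommRingCat.of k))) hA)
  have hDD := Groth.Agent.Fdesc.LocGen.isInvertible_tensorMod hND hND
  have cΘ := K980.SymData.pull_mk_eq π hMΘ hAA hΘ
  have cΔ := K980.SymData.pull_mk_eq π hMΔ hDD hΔ
  have cV := K980.SymData.pull_mk_eq π hMV hN hV
  rw [← K980.BoxNum.bx_mk k hA hA] at cΘ
  rw [← Groth.Agent.Grpsch.PicGrp.mk_mul_mk hND hND] at cΔ
  have hd := hdim.le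
  have key := @K980.SymInt.intNum_sym k _ C _ κ _ h2 _ _ hd g hgen hκ _ σ hσ hσp hσ1 y hy N hN hNinv ρ hρ Sq π hπ q hq
  have hid := Category.id_comp (C ↘ Spec (CommRingCat.of k))
  have v0 : ∀ a b : Groth.Agent.Grpsch.PicGrp.Pic C, ∀ i, 3 ≤ i → K980.PicNum.Van (K980.BoxNum.bx k a b) i :=
    fun a b i hi => K980.SymInt.van_bx3 k hd a b hi
  have v1 : ∀ i, 3 ≤ i → K980.PicNum.Van (Groth.Agent.Grpsch.PicGrp.mk N hN) i := fun i hi => by
    rw [← one_mul (Groth.Agent.Grpsch.PicGrp.mk N hN)]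
    exact K980.Inter.van_mul k hd hσp hN hNinv 1 hi (K980.SymInt.van_one3 k hd hi)
  have v2 : ∀ i, 3 ≤ i → K980.PicNum.Van (Groth.Agent.Grpsch.PicGrp.mk ND hND * Groth.Agent.Grpsch.PicGrp.mk ND hND) i :=
    fun i hi => by
      rw [← one_mul (Groth.Agent.Grpsch.PicGrp.mk ND hND * Groth.Agent.Grpsch.PicGrp.mk ND hND)]
      exact K980.SymInt.van_mul_two k hd hid hND hNDinv 1 hi (K980.SymInt.van_one3 k hd hi)
  have e1 := K980.Inter.pull_diag_nd k κ g hgen hκ hσ hσp hσ1 y hy hN hNinv hND hNDinv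
  have e2 := K980.Inter.pull_diag_n k κ g hgen hκ hσ hσp hσ1 y hy hN hNinv
  have e3 := K980.Num.pull_n k κ g hgen hκ hσ hσp hσ1 y hy hN hNinv
  have hiso := K980.Invol.isIso_sigma k κ hκ hσ hσ1 y hy
  have hell := K980.NumC.dg_ell k g hgen κ hκ y hy hd
  refine ⟨key hMΘ hMΘ 1 ?_ ?_ ?_ ?_, key hMΘ hMΔ 2 ?_ ?_ ?_ ?_, key hMΘ hMV 1 ?_ ?_ ?_ ?_,
    key hMΔ hMΔ _ ?_ ?_ ?_ ?_, key hMV hMV _ ?_ ?_ ?_ ?_, key hMΔ hMV _ ?_ ?_ ?_ ?_⟩ <;>
    simp only [cΘ, cΔ, cV]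
  · exact v0 _ _
  · exact v0 _ _
  · rw [← K980.BoxNum.bx_mul]; exact v0 _ _
  · rw [K980.SymInt.qf_box k hd, h0]; rfl
  · exact v0 _ _
  · exact v2
  · exact fun i hi => K980.SymInt.van_mul_two k hd hid hND hNDinv _ hi (v0 _ _ i hi)
  · rw [K980.SymInt.qf_graph_two k hd hid hND hNDinv, K980.Main.pull_gr_bx, Groth.Agent.Grpsch.PicGrp.pull_id,
      K980.NumC.dg_mul k hd, h0]; rfl
  · exact v0 _ _
  · exact v1
  · exact fun i hi => K980.Inter.van_mul k hd hσp hN hNinv _ hi (v0 _ _ i hi)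
  · rw [K980.SymInt.qf_graph k hd hσp hN hNinv, K980.Main.pull_gr_bx, K980.NumC.dg_mul k hd,
      K980.Inter.dg_pull_iso k hσp, h0]; rfl
  · exact v2
  · exact v2
  · exact fun i hi => K980.SymInt.van_mul_two k hd hid hND hNDinv _ hi (v2 i hi)
  · rw [K980.SymInt.qf_graph_two k hd hid hND hNDinv, map_mul, K980.NumC.dg_mul k hd]
    erw [e1]
    rw [hell]; ring
  · exact v1
  · exact v1
  · exact fun i hi => K980.Inter.van_mul k hd hσp hN hNinv _ hi (v1 i hi)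
  · rw [K980.SymInt.qf_graph k hd hσp hN hNinv]
    erw [e3]
    rw [hell]
  · exact v2
  · exact v1
  · exact fun i hi => K980.Inter.van_mul k hd hσp hN hNinv _ hi (v2 i hi)
  · have hc : ∀ b c : Groth.Agent.Grpsch.PicGrp.Pic (pullback (C ↘ Spec (CommRingCat.of k)) (C ↘ Spec (CommRingCat.of k))),
        @K980.SymInt.qf k _ _ (K980.BoxNum.ov k) b c = @K980.SymInt.qf k _ _ (K980.BoxNum.ov k) c b := fun b c => by
      rw [K980.SymInt.qf, K980.SymInt.qf, mul_comm b c]; ring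
    rw [hc, K980.SymInt.qf_graph_two k hd hid hND hNDinv]
    erw [e2]
    rw [hell]; ring

end Groth.Agent.S19088
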