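import Groth.Statements.S19090
import Groth.Agent.SymSq.K763.SymCan

set_option autoImplicit false
universe u
open CategoryTheory CategoryTheory.Limits AlgebraicGeometry Opposite
open SymSq

attribute [-instance] CategoryTheory.catToReflQuiver

namespace Groth.Agent.S19090

/-- Let k be an algebraically closed field of characteristic ≠ 2 and C a hyperelliptic curve of genus g
≥ 2 over k: C ⟶ Spec k proper and smooth, C connected of dimension one with dim_k H^1(C, O_C) = g,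
with a double cover κ : C ⟶ P^1_k over k (finite, flat, of rank 2 everywhere) and hyperelliptic
involution σ (σ ≫ κ = κ, σ ≠ id). On X = C ×_k C let L = κ^*O(1), F_m = p_1^*L^m ⊗ p_2^*L^m and N an
invertible O_X-module inverse to the ideal sheaf of the graph Γ_σ = (id, σ) : C ⟶ X. Let S = Sym²(C)
be the symmetric square: π : X ⟶ S is a quotient (affine, invariant, sections of S = invariant
sections) for the action of the symmetric group on two letters in which the transposition acts by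
the swap of the two factors, and q : S ⟶ Spec k its structure morphism with π over Spec k; let W be
a canonical module of S (a second exterior power of Ω_{S/k}). Then K_S^2 = (W·W) = (g − 1)(4g − 9),
with (M·M') = χ(O_S) − χ(M) − χ(M') + χ(M ⊗ M'). -/
theorem result (k : Type u) [Field k] [IsAlgClosed k] (h2 : (2 : k) ≠ 0)
    (C : Scheme.{u}) [C.Over (Spec (CommRingCat.of k))] [IsProper (C ↘ Spec (CommRingCat.of k))] [Smooth (C ↘ Spec (CommRingCat.of k))] [ConnectedSpace ↥C]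
    (hdim : topologicalKrullDim ↥C = 1) (g : ℕ) (hg : 2 ≤ g) (hgen : Curv2.genus k C = g)
    (κ : C ⟶ CohB1.ProjSpace 1 k) (hκ : κ ≫ CohB1.ProjSpace.toSpec 1 k = (C ↘ Spec (CommRingCat.of k)))
    [IsFinite κ] [Flat κ] (hκ2 : ∀ y : ↥(CohB1.ProjSpace 1 k), κ.finrank y = 2)
    (σ : C ⟶ C) (hσ : σ ≫ κ = κ) (hσ1 : σ ≠ 𝟙 C) (hσp : σ ≫ (C ↘ Spec (CommRingCat.of k)) = (C ↘ Spec (CommRingCat.of k)))
    (N : (pullback (C ↘ Spec (CommRingCat.of k)) (C ↘ Spec (CommRingCat.of k))).Modules) (hN : PicF.IsInvertible N)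
    (hNinv : ClSub.IsInverseOf N (ClSub.idealMod (pullback.lift (𝟙 C) σ ((Category.id_comp (C ↘ Spec (CommRingCat.of k))).trans hσp.symm)).ker))
    (ρ : ULift.{u} (Equiv.Perm (Fin 2)) →* Aut (pullback (C ↘ Spec (CommRingCat.of k)) (C ↘ Spec (CommRingCat.of k)))) (hρ : (ρ (ULift.up (Equiv.swap 0 1))).hom = (pullbackSymmetry (C ↘ Spec (CommRingCat.of k)) (C ↘ Spec (CommRingCat.of k))).hom)
    (Sq : Scheme.{u}) (π : (pullback (C ↘ Spec (CommRingCat.of k)) (C ↘ Spec (CommRingCat.of k))) ⟶ Sq) (hπ : SGA1.IsQuot ρ π) (q : Sq ⟶ Spec (CommRingCat.of k)) (hq : π ≫ q = pullback.fst (C ↘ Spec (CommRingCat.of k)) (C ↘ Spec (CommRingCat.of k)) ≫ (C ↘ Spec (CommRingCat.of k)))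
    (W : Sq.Modules) (hW : ExtPow.IsExtPow 2 (Omega.sheaf q) W) :
    letI : Sq.Over (Spec (CommRingCat.of k)) := ⟨q⟩
    FGA.intNum k Sq 2 ![W, W] (Coh.structureModule Sq) = ((g : ℤ) - 1) * (4 * (g : ℤ) - 9) := by
  have hI := K980.Setup.isIntegral_of_connected (C ↘ Spec (CommRingCat.of k))
  have h1 := Groth.Agent.Picfga.CurveRelDim.smoothOfRelativeDimension_of_topologicalKrullDim_eq k C
    (C ↘ Spec (CommRingCat.of k)) 1 hdim
  obtain ⟨y, hy⟩ := K980.DCover.exists_basis k κ hκ2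
  obtain ⟨hWi, e⟩ := K763.SymCan.pull_w k h2 hdim g hg hgen κ hκ hσ hσp hσ1 y hy hN hNinv ρ hρ hπ q hq hW
  have hd := hdim.le
  have v0 : ∀ a b : Groth.Agent.Grpsch.PicGrp.Pic C, ∀ i, 3 ≤ i → K980.PicNum.Van (K980.BoxNum.bx k a b) i :=
    fun a b i hi => K980.SymInt.van_bx3 k hd a b hi
  have hell := K980.NumC.dg_ell k g hgen κ hκ y hy hd
  set ℓ := K980.NumC.ell k κ ((g : ℤ) - 2) with hℓ
  have e' : Groth.Agent.Grpsch.PicGrp.pull π (Groth.Agent.Grpsch.PicGrp.mk W hWi) =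
      K980.BoxNum.bx k ℓ ℓ * Groth.Agent.Grpsch.PicGrp.mk N hN := e
  have v1 : ∀ i, 3 ≤ i → K980.PicNum.Van (K980.BoxNum.bx k ℓ ℓ * Groth.Agent.Grpsch.PicGrp.mk N hN) i :=
    fun i hi => K980.Inter.van_mul k hd hσp hN hNinv _ hi (v0 _ _ i hi)
  have e2 : K980.BoxNum.bx k ℓ ℓ * Groth.Agent.Grpsch.PicGrp.mk N hN *
      (K980.BoxNum.bx k ℓ ℓ * Groth.Agent.Grpsch.PicGrp.mk N hN) =
      K980.BoxNum.bx k (ℓ * ℓ) (ℓ * ℓ) * Groth.Agent.Grpsch.PicGrp.mk N hN ^ 2 := by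
    rw [K980.BoxNum.bx_mul, pow_two, mul_mul_mul_comm]
  refine @K980.SymInt.intNum_sym k _ C _ κ _ h2 _ _ hd g hgen hκ _ σ hσ hσp hσ1 y hy N hN hNinv ρ hρ Sq π hπ q hq
    W W hWi hWi _ ?_ ?_ ?_ ?_ <;> simp only [e']
  · exact v1
  · exact v1
  · intro i hi
    rw [e2, pow_two, ← mul_assoc]
    exact K980.Inter.van_mul k hd hσp hN hNinv _ hi (K980.Inter.van_mul k hd hσp hN hNinv _ hi (v0 _ _ i hi))
  · have hcb := K980.Inter.chi_box_n k κ hd g hgen hκ hσ hσp hσ1 y hy hN hNinv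
    have c0 := hcb 1 1 0
    have c1 := hcb ℓ ℓ 1
    have c2 := hcb (ℓ * ℓ) (ℓ * ℓ) 2
    rw [pow_zero, mul_one, K980.BoxNum.bx_one] at c0
    rw [pow_one] at c1
    have d0 : K980.NumC.dg k (1 : Groth.Agent.Grpsch.PicGrp.Pic C) = 0 := by rw [K980.NumC.dg, sub_self]
    have d1 : K980.NumC.dg k ℓ = 2 * ((g : ℤ) - 2) := hell _
    rw [d0] at c0
    rw [d1] at c1
    rw [K980.NumC.dg_mul k hd, d1] at c2
    have hq' : @K980.SymInt.qf k _ _ (K980.BoxNum.ov k) (K980.BoxNum.bx k ℓ ℓ * Groth.Agent.Grpsch.PicGrp.mk N hN)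
        (K980.BoxNum.bx k ℓ ℓ * Groth.Agent.Grpsch.PicGrp.mk N hN) = 2 * (((g : ℤ) - 1) * (4 * (g : ℤ) - 9)) := by
      rw [K980.SymInt.qf, e2, c0, c1, c2]
      push_cast
      ring
    exact hq'

end Groth.Agent.S19090
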