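import Groth.Statements.S19093
import Groth.Agent.FrobAlg.K675.FFinite
import Mathlib.RingTheory.Localization.AtPrime.Basic

set_option autoImplicit false
universe u
open FrobAlg

namespace Groth.Agent.S19093

/-- Let p be a prime, k a finite field of characteristic p, A a commutative k[[t]]-algebra of finite
type over the power series ring k[[t]], and P a prime ideal of A. Then the absolute Frobenius a ↦
a^p of the local ring A_P is a finite ring homomorphism. In particular every local ring of a scheme
of finite type over k[[t]] has finite absolute Frobenius. (The instance hypothesis that A_P has
characteristic p always holds, A_P being a nonzero algebra over k.) The published statement is for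
the local rings of a projective strictly semistable scheme over k[[t]] and adds that such a scheme
is regular with F-finite local rings; its proof uses only that the scheme is of finite type over
k[[t]], which is the form stated here. -/
theorem result (p : ℕ) [Fact p.Prime]
    (k : Type u) [Field k] [Finite k] [CharP k p]
    (A : Type u) [CommRing A] [Algebra (PowerSeries k) A] [Algebra.FiniteType (PowerSeries k) A]
    (P : Ideal A) [P.IsPrime] [CharP (Localization.AtPrime P) p] :
    (frobenius (Localization.AtPrime P) p).Finite := by
  have : Nontrivial A := by
    by_contra h
    rw [not_nontrivial_iff_subsingleton] at h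
    exact Ideal.IsPrime.ne_top ‹P.IsPrime› (Subsingleton.elim _ _)
  have : CharP (PowerSeries k) p := K675.FFinite.charP_powerSeries p k
  have : PerfectRing k p := inferInstance
  have : CharP A p := charP_of_injective_ringHom
    ((algebraMap (PowerSeries k) A).comp (PowerSeries.C (R := k))).injective p
  obtain ⟨n, f, hf⟩ := Algebra.FiniteType.iff_quotient_mvPolynomial''.1
    (inferInstance : Algebra.FiniteType (PowerSeries k) A)
  have h1 : (frobenius (MvPolynomial (Fin n) (PowerSeries k)) p).Finite :=
    K675.FFinite.finite_mvPolynomial p _ (K675.FFinite.finite_powerSeries p k) n
  have h2 : (frobenius A p).Finite := K675.FFinite.finite_of_surjective p _ h1 A f.toRingHom hf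
  exact K675.FFinite.finite_localization p A h2 P.primeCompl _

end Groth.Agent.S19093
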