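import Groth.Statements.S19094
import Groth.Agent.FrobAlg.K675.PBasis
import Mathlib.RingTheory.LaurentSeries
import Mathlib.FieldTheory.IntermediateField.Adjoin.Algebra
import Mathlib.RingTheory.AlgebraicIndependent.Adjoin
import Mathlib.RingTheory.AlgebraicIndependent.TranscendenceBasis

set_option autoImplicit false
universe u
open FrobAlg

namespace Groth.Agent.S19094

open K675.PBasis in
/-- The general form: `K` is a finitely generated field extension of transcendence degree `d` of a
field `K₀` with a finite basis over its `p`-th powers. -/
theorem finrank_of_fg (p : ℕ) [Fact p.Prime] (K₀ : Type u) [Field K₀] [CharP K₀ p] (K : Type u)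
    [Field K] [Algebra K₀ K] [CharP K p] (hfg : (⊤ : IntermediateField K₀ K).FG)
    (d : ℕ) (hd : Algebra.trdeg K₀ K = d) {m : ℕ} (g : Fin m → K₀) (hg : IsPB p g) :
    Module.finrank (↥(frobenius K p).fieldRange) K = m * p ^ d := by
  obtain ⟨ι, x₀, hx₀⟩ := exists_isTranscendenceBasis' K₀ K
  have hcard : Cardinal.mk ι = (d : Cardinal) := by rw [hx₀.cardinalMk_eq_trdeg, hd]
  have hfin : Finite ι := by
    rw [← Cardinal.lt_aleph0_iff_finite, hcard]
    exact Cardinal.natCast_lt_aleph0
  have hι : Nat.card ι = d := by
    rw [Nat.card, hcard]
    exact Cardinal.toNat_natCast d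
  let e : Fin d ≃ ι := (Finite.equivFinOfCardEq hι).symm
  have hx : IsTranscendenceBasis K₀ (x₀ ∘ e) := hx₀.comp_equiv e
  let L := IntermediateField.adjoin K₀ (Set.range (x₀ ∘ e))
  have hess : Algebra.EssFiniteType K₀ K := IntermediateField.fg_top_iff.1 hfg
  have hess' : Algebra.EssFiniteType L K := Algebra.EssFiniteType.of_comp K₀ L K
  have halg : Algebra.IsAlgebraic L K := hx.isAlgebraic_field
  have hfin' : Module.Finite L K := Algebra.finite_of_essFiniteType_of_isAlgebraic
  have hcL : CharP L p := (RingHom.charP_iff (algebraMap L K) (algebraMap L K).injective p).2 ‹_›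
  rw [finrank_eq_of_finite p L K]
  obtain ⟨g', hg'⟩ := exists_isPB_mvPolynomial p hg d
  have hcF : CharP (FractionRing (MvPolynomial (Fin d) K₀)) p :=
    charP_of_injective_algebraMap (IsFractionRing.injective (MvPolynomial (Fin d) K₀) _) p
  have h1 := (hg'.fractionField (FractionRing (MvPolynomial (Fin d) K₀))).ringEquiv
    hx.1.aevalEquivField.toRingEquiv
  rw [finrank_of_isPB h1, Fintype.card_fin]

/-- Let p be a prime, k a finite field of characteristic p and K a finitely generated field extension of
the Laurent series field k((t)) of finite transcendence degree d. Then [K : K^p] = p^(d+1), where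
K^p ⊆ K is the subfield of p-th powers (the image of the Frobenius). The case of interest is the
residue field of a generic point of a projective strictly semistable scheme of relative dimension d
over k[[t]], which is such an extension. -/
theorem result (p : ℕ) [Fact p.Prime]
    (k : Type u) [Field k] [Finite k] [CharP k p]
    (K : Type u) [Field K] [Algebra (LaurentSeries k) K] [CharP K p]
    (hfg : (⊤ : IntermediateField (LaurentSeries k) K).FG)
    (d : ℕ) (hd : Algebra.trdeg (LaurentSeries k) K = d) :
    Module.finrank (↥(frobenius K p).fieldRange) K = p ^ (d + 1) := by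
  have : CharP (PowerSeries k) p := K675.FFinite.charP_powerSeries p k
  have : CharP (LaurentSeries k) p :=
    (RingHom.charP_iff (algebraMap (LaurentSeries k) K) (algebraMap (LaurentSeries k) K).injective p).2
      ‹_›
  have : PerfectRing k p := inferInstance
  have h1 := (K675.PBasis.isPB_powerSeries p k).fractionField (LaurentSeries k)
  rw [finrank_of_fg p (LaurentSeries k) K hfg d hd _ h1, pow_succ']

end Groth.Agent.S19094
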