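import Groth.Statements.S19095
-- import your own Groth.Agent.* helpers here
import Groth.Agent.Dual3.K478.DetSeq
import Groth.Agent.Dual3.K478.OmegaPS
import Groth.Agent.Dual.H328.WUniv
import Groth.Agent.Dual.H366.LciImm
import Groth.Agent.Dual.H310.OpenBC
import Groth.Agent.S3635
import Groth.Agent.Vancyc.H878.RelOmega
import Groth.Agent.PerfC.PullRestrict
import Groth.Agent.Sga67.CohBasic
import Groth.Agent.Ega2.TensMon

set_option autoImplicit false
universe u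
open CategoryTheory CategoryTheory.Limits AlgebraicGeometry
attribute [local instance] HasDerivedCategory.standard
open Dual3

namespace Groth.Agent.S19095

open Groth.Agent Sga67.TensorOps

/-- Koszul-regular closed immersions into locally Noetherian schemes are regular. -/
theorem isRegularClosedImmersion {X W : Scheme.{u}} [IsLocallyNoetherian W] (s : X ⟶ W)
    (hs : Dual3.IsKoszulRegularImmersion s) : Mor2.IsRegularClosedImmersion s := by
  have := hs.1
  rw [Divis.RegImm.isRegularClosedImmersion_iff]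
  refine ⟨inferInstance, fun z => ?_⟩
  obtain ⟨V, hV, hzV, -⟩ := exists_isAffineOpen_mem_and_subset (x := s z) (U := ⊤) trivial
  have h1 := hs.2 ⟨V, hV⟩
  rw [Divis.RegStalk.regAt_iff_stalk s.ker (s z) ⟨V, hV⟩ hzV]
  let := W.presheaf.algebra_section_stalk ⟨s z, hzV⟩
  have hloc := hV.isLocalization_stalk ⟨s z, hzV⟩
  let p := (hV.primeIdealOf ⟨s z, hzV⟩).asIdeal
  obtain ⟨g, hg, h2⟩ := Flat2H.KoszulIdeal.IsKoszulRegularIdeal.exists_genK h1 p
  have : Module.Flat Γ(W, V) (W.presheaf.stalk (s z)) := IsLocalization.flat _ p.primeCompl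
  obtain ⟨l, hl, hl'⟩ := h2 (W.presheaf.stalk (s z)) (IsLocalization.map_units _ (⟨g, hg⟩ : p.primeCompl))
  refine ⟨l, (Flat2H.KoszulNoeth.isKoszulRegularSeq_iff_isWeaklyRegular fun f hfl => ?_).mp hl, hl'⟩
  have h3 : f ∈ (s.ker.ideal ⟨V, hV⟩).map (algebraMap Γ(W, V) (W.presheaf.stalk (s z))) := by
    rw [hl']
    exact Ideal.subset_span hfl
  have h4 : (s.ker.ideal ⟨V, hV⟩).map (algebraMap Γ(W, V) (W.presheaf.stalk (s z))) ≤
      IsLocalRing.maximalIdeal _ := by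
    have h5 := Divis.RegStalk.ker_stalkMap s z ⟨V, hV⟩ hzV
    have h6 : RingHom.ker (s.stalkMap z).hom ≤ IsLocalRing.maximalIdeal _ :=
      IsLocalRing.le_maximalIdeal (RingHom.ker_ne_top _)
    rw [h5] at h6
    exact h6
  exact h4 h3

/-- `Λ^{n + 1} Ω_{P/ℤ} ≅ Λ^n Ω_{P/B}` for `B = Spec k[[t]]`. -/
theorem nonempty_det (k : Type u) [Field k] [Finite k] (P : Scheme.{u}) (n : ℕ)
    (π : P ⟶ Spec (CommRingCat.of (PowerSeries k))) [IsSeparated π] [SmoothOfRelativeDimension n π]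
    (D₀ : P.Modules) (hD₀ : ExtPow.IsExtPow n (Omega.sheaf π) D₀)
    (w : P ⟶ Spec (CommRingCat.of (ULift.{u} ℤ))) (hw : π ≫ K478.OmegaPS.wS k = w) :
    FlatMod.IsFinLocFreeOfRank (1 + n) (Omega.sheaf w) ∧
      ∀ D : P.Modules, ExtPow.IsExtPow (1 + n) (Omega.sheaf w) D → Nonempty (D ≅ D₀) := by
  subst hw
  have hsm : Smooth π := SmoothOfRelativeDimension.smooth n π
  obtain ⟨S, hS, ⟨e₁⟩, ⟨e₂⟩, ⟨e₃⟩⟩ := Vancyc.H878.RelOmega.exists_shortExact π (K478.OmegaPS.wS k)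
  obtain ⟨eΩ⟩ := K478.OmegaPS.nonempty_iso k
  let e₁' : S.X₁ ≅ Coh.structureModule P :=
    e₁ ≪≫ (Scheme.Modules.pullback π).mapIso eΩ ≪≫ PerfC.PullRestrict.pullbackUnit π
  have h₁ : FlatMod.IsFinLocFreeOfRank 1 S.X₁ :=
    Krr.H495.Rank.rank_iso e₁'.symm Krr.H495.Rank.isFinLocFreeOfRank_structureModule
  have h₃ : FlatMod.IsFinLocFreeOfRank n S.X₃ :=
    Krr.H495.Rank.rank_iso e₃.symm (Vancyc.H878.OmegaRank.isFinLocFreeOfRank_omega n π)
  have h₂ := Krr.H495.Rank.rank_shortExact hS h₁ h₃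
  refine ⟨Krr.H495.Rank.rank_iso e₂ h₂, fun D hD => ?_⟩
  obtain ⟨L₂, hL₂⟩ := Dual.H366.ExtQCoh.exists_isExtPow (1 + n)
    (Sga67.CohBasic.isQCoh_of_iso e₂.symm (Dual.H366.ConSec.isQCoh_omega _))
  obtain ⟨L₃, hL₃⟩ := Dual.H366.ExtQCoh.exists_isExtPow n
    (Sga67.CohBasic.isQCoh_of_iso e₃.symm (Dual.H366.ConSec.isQCoh_omega _))
  obtain ⟨i₂⟩ := nonempty_iso_of_isExtPow e₂ hL₂ hD
  obtain ⟨i₃⟩ := nonempty_iso_of_isExtPow e₃ hL₃ hD₀
  obtain ⟨t⟩ := K478.DetSeq.nonempty_of_shortExact hS h₁ h₃ (isExtPow_one S.X₁) hL₂ hL₃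
  exact ⟨i₂.symm ≪≫ t.symm ≪≫ ((DCoh.tensorBi (X := P)).obj L₃).mapIso e₁' ≪≫
    Ega2.Tens.runit (X := P) L₃ ≪≫ i₃⟩


/-- Let k be a finite field and B = Spec k[[t]]. Let ι : X → P be a Koszul-regular closed immersion
whose conormal sheaf is finite locally free of rank c, and π : P → B a proper smooth morphism of
relative dimension d + c; suppose that the sheaf Ω_{X/ℤ} of absolute differentials of X
(differentials of X → Spec ℤ) is finite locally free of rank d + 1. Let R(ι ≫ π)_* on D_QCoh be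
given with a right adjoint a, let O be an object of D_QCoh(B) whose underlying object is Ω_{B/ℤ} in
degree 0, and let L be a (d+1)-st exterior power of Ω_{X/ℤ}. Then a(O) is isomorphic in D(O_X) to L
placed in degree −d, that is to Λ^{d+1} Ω_{X/ℤ}[d] (existence of an isomorphism; no particular trace
map is singled out). The published statement assumes X → B projective and strictly semistable of
relative dimension d; the statement here assumes instead a factorisation through a Koszul-regular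
closed immersion into a proper smooth B-scheme and that Ω_{X/ℤ} is locally free of rank d + 1, both
of which hold in that case. -/
theorem result
    (k : Type u) [Field k] [Finite k]
    (X P : Scheme.{u}) (d c : ℕ)
    (ι : X ⟶ P) (hι : Dual3.IsKoszulRegularImmersion ι)
    (hN : FlatMod.IsFinLocFreeOfRank c (Omega.conormal ι))
    (π : P ⟶ Spec (CommRingCat.of (PowerSeries k))) [IsProper π] [SmoothOfRelativeDimension (d + c) π]
    (hΩ : FlatMod.IsFinLocFreeOfRank (d + 1) (Omega.sheaf (specULiftZIsTerminal.from X)))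
    [DCoh.HasRpush (ι ≫ π)] (hf : DCoh.RpushPreservesQCoh (ι ≫ π))
    (a : DCoh.DQCoh (Spec (CommRingCat.of (PowerSeries k))) ⥤ DCoh.DQCoh X) (adj : DCoh.RpushQ (ι ≫ π) hf ⊣ a)
    (O : DCoh.DQCoh (Spec (CommRingCat.of (PowerSeries k))))
    (hO : Nonempty (O.obj ≅ DCoh.inD (Spec (CommRingCat.of (PowerSeries k)))
      (Omega.sheaf (specULiftZIsTerminal.from (Spec (CommRingCat.of (PowerSeries k)))))))
    (L : X.Modules) (hL : ExtPow.IsExtPow (d + 1) (Omega.sheaf (specULiftZIsTerminal.from X)) L) :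
    Nonempty ((a.obj O).obj ≅ (DCoh.inD X L)⟦(d : ℤ)⟧) := by
  have := hι.1
  have hsm : Smooth π := SmoothOfRelativeDimension.smooth (d + c) π
  have hB : IsNoetherian (Spec (CommRingCat.of (PowerSeries k))) := inferInstance
  have hPc : CompactSpace P := QuasiCompact.compactSpace_of_compactSpace π
  have hPn : IsLocallyNoetherian P := LocallyOfFiniteType.isLocallyNoetherian π
  have hP : IsNoetherian P := ⟨⟩
  have hXc : CompactSpace X := QuasiCompact.compactSpace_of_compactSpace ι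
  have hXn : IsLocallyNoetherian X := LocallyOfFiniteType.isLocallyNoetherian ι
  have hX : IsNoetherian X := ⟨⟩
  have hreg := isRegularClosedImmersion ι hι
  -- adjoints
  have := Dcoh.DerSch.hasRpush π
  have := Dcoh.DerSch.hasRpush ι
  have := Dcoh.DerPull.hasLpull ι
  have hπ : DCoh.RpushPreservesQCoh π := fun K hK => S0998.result _ K hK
  have hι' : DCoh.RpushPreservesQCoh ι := fun K hK => S0998.result _ K hK
  have hleft : (DCoh.RpushQ π hπ).IsLeftAdjoint := S1766.result _ _ π hπ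
  have hleft' : (DCoh.RpushQ ι hι').IsLeftAdjoint := S1766.result _ _ ι hι'
  let aπ := (DCoh.RpushQ π hπ).rightAdjoint
  let adjπ : DCoh.RpushQ π hπ ⊣ aπ := Adjunction.ofIsLeftAdjoint _
  let aι := (DCoh.RpushQ ι hι').rightAdjoint
  let adjι : DCoh.RpushQ ι hι' ⊣ aι := Adjunction.ofIsLeftAdjoint _
  obtain ⟨e⟩ := Dual.H310.OpenBC.nonempty_rightAdjComp ι π (ι ≫ π) rfl hι' hπ hf adjι adjπ adj
  -- the top exterior powers
  obtain ⟨D₀, hD₀⟩ := Dual.H366.ExtQCoh.exists_isExtPow (d + c) (Dual.H366.ConSec.isQCoh_omega π)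
  obtain ⟨LC, hLC⟩ := Dual.H366.ExtQCoh.exists_isExtPow c (Dual.H366.ConSec.isQCoh_conormal ι)
  have hD₀i : PicF.IsInvertible D₀ := Dual.H328.WUniv.isInvertible_extPow
    (Vancyc.H878.OmegaRank.isFinLocFreeOfRank_omega (d + c) π) hD₀
  obtain ⟨eO⟩ := hO
  obtain ⟨eΩ⟩ := K478.OmegaPS.nonempty_iso k
  obtain ⟨eπ⟩ := S3635.result _ P (d + c) π hπ aπ adjπ O
    ⟨eO ≪≫ (DerivedCategory.singleFunctor _ 0).mapIso eΩ⟩ D₀ hD₀
  have hU : Ega1.ADualUniv.Univ ι ((DCoh.inD P D₀)⟦((d + c : ℕ) : ℤ)⟧) (aι.obj (aπ.obj O)).obj :=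
    (Ega1.ADualUniv.univ_of_adj (h := hι') adjι (aπ.obj O)).of_iso_right eπ
  obtain ⟨e₁⟩ := Dual.H328.WUniv.nonempty_lpull_shift ι (d + c) hD₀i
  have h1 : ((DCoh.Lpull ι).obj ((DCoh.inD P D₀)⟦((d + c : ℕ) : ℤ)⟧)).IsLE (-((d + c : ℕ) : ℤ)) := by
    have := Dual.H328.WUniv.isLE_inD_shift ((Scheme.Modules.pullback ι).obj D₀) (d + c)
    exact ⟨(DerivedCategory.TStructure.t.isLE_of_iso e₁.symm _).le⟩
  have h2 : ((DCoh.Lpull ι).obj ((DCoh.inD P D₀)⟦((d + c : ℕ) : ℤ)⟧)).IsGE (-((d + c : ℕ) : ℤ)) := by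
    have := Dual.H328.WUniv.isGE_inD_shift ((Scheme.Modules.pullback ι).obj D₀) (d + c)
    exact ⟨(DerivedCategory.TStructure.t.isGE_of_iso e₁.symm _).ge⟩
  obtain ⟨w, ⟨e₂⟩, ⟨e₃⟩⟩ := Dual.H339.TwistFull.main ι hreg hN hLC
    (Dual.H328.WUniv.isQCohD_shift (d + c) hD₀i) (-((d + c : ℕ) : ℤ))
    (Dual.H328.WUniv.isGE_inD_shift D₀ (d + c)) hU (-((d + c : ℕ) : ℤ)) h1 h2 (d : ℤ)
    (by push_cast; ring)
  obtain ⟨e₄⟩ := Dual.H328.WUniv.nonempty_HD_lpull ι (d + c) hD₀i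
  -- the conormal sequence
  let wP : P ⟶ Spec (CommRingCat.of (ULift.{u} ℤ)) := specULiftZIsTerminal.from P
  have hwP : π ≫ K478.OmegaPS.wS k = wP := specULiftZIsTerminal.hom_ext _ _
  have hwX : ι ≫ wP = specULiftZIsTerminal.from X := specULiftZIsTerminal.hom_ext _ _
  obtain ⟨hΩP, hdet⟩ := nonempty_det k P (d + c) π D₀ hD₀ wP hwP
  have hsepP : IsSeparated wP := by rw [← hwP]; infer_instance
  have hsepX : IsSeparated (ι ≫ wP) := inferInstance
  obtain ⟨D, hD⟩ := Dual.H366.ExtQCoh.exists_isExtPow (1 + (d + c)) (Dual.H366.ConSec.isQCoh_omega wP)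
  obtain ⟨e₅⟩ := hdet D hD
  rw [← hwX] at hΩ hL
  obtain ⟨e₆⟩ := K478.DetSeq.nonempty_conormal ι wP (r := d + 1) (m := c) (n := 1 + (d + c))
    (by ring) hN hΩP hΩ hL hLC hD
  have hLC1 : FlatMod.IsFinLocFreeOfRank 1 LC := by
    rw [Ega2.QCohLocal.isFinLocFreeOfRank_one_iff]
    exact Dual.H328.WUniv.isInvertible_extPow hN hLC
  obtain ⟨e₇⟩ := K478.DetSeq.nonempty_untensor hLC1
    ⟨e₃ ≪≫ e₄ ≪≫ (Scheme.Modules.pullback ι).mapIso e₅.symm ≪≫ e₆.symm⟩
  exact ⟨(ObjectProperty.ι _).mapIso (e.app O) ≪≫ e₂ ≪≫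
    (shiftFunctor _ (d : ℤ)).mapIso ((DerivedCategory.singleFunctor X.Modules 0).mapIso e₇)⟩

end Groth.Agent.S19095
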