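import Groth.Statements.S19098
import Groth.Agent.ChGrp.K982.Act

set_option autoImplicit false
universe u
open CategoryTheory MonoidalCategory CartesianMonoidalCategory MonObj AlgebraicGeometry
open ChGrp

namespace Groth.Agent.S19098

open K982.Act K982.Pts GrpObj in

/-- Let S be a scheme, G an S-group scheme acting on an S-scheme X through a, and h an S-point of G. Let
i : Z → G be a homomorphism and ψ : Ψ → G a monomorphism with a G-action on Ψ under which ψ
intertwines with conjugation, and o an S-point of Ψ over h, such that (Ψ, o) is the homogeneous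
space G/Z for the fppf topology through the orbit map g ↦ g h g⁻¹ (so Z is the centralizer of h and
Ψ its conjugacy class). Let incl : X^h → X be a monomorphism whose points are the points of X fixed
by h, with the Z-action restricted from a; let σ : S_Ψ → G ×_S X be a monomorphism whose points are
the pairs (g, x) with g a point of Ψ and g x = x (the part of the global stabilizer over Ψ), with
the G-action by conjugation on the first entry and by a on the second; and let Φ : G ×_S X^h → S_Ψ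
be the morphism (g, x) ↦ (g h g⁻¹, g x). Then Φ makes S_Ψ, with its G-action, the balanced product G
×^Z X^h for the fppf topology: Φ is G-equivariant, it is a Z-torsor for the action z (g, x) = (g
z⁻¹, z x), and it has sections fppf-locally on S_Ψ. (The source works with algebraic spaces of
finite type over the complex numbers and a semisimple conjugacy class Ψ, where the identification of
Ψ with G/Z comes from the theory of algebraic groups; here that identification is the hypothesis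
hhom, the base is arbitrary and X is a scheme.) -/
theorem result
    {S : Scheme.{u}} {G X Z Ψ Xh SΨ : Over S} [GrpObj G] [GrpObj Z]
    (a : AlgGrp.Action G X) (h : 𝟙_ (Over S) ⟶ G)
    (i : Z ⟶ G) [IsMonHom i]
    (ψ : Ψ ⟶ G) [Mono ψ] (aΨ : AlgGrp.Action G Ψ)
    (hψ : aΨ.act ≫ ψ = fst G Ψ * (snd G Ψ ≫ ψ) * (fst G Ψ)⁻¹)
    (o : 𝟙_ (Over S) ⟶ Ψ) (ho : o ≫ ψ = h)
    (hhom : ChGrp.IsHomog Scheme.fppfPrecoverage i aΨ o)
    (incl : Xh ⟶ X) [Mono incl]
    (hXh : ∀ (T : Over S) (x : T ⟶ X), (∃ y : T ⟶ Xh, y ≫ incl = x) ↔ lift (toUnit T ≫ h) x ≫ a.act = x)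
    (aXh : AlgGrp.Action Z Xh) (hincl : AlgGrp.Action.IsEquivariant aXh (a.restrict i) incl)
    (σ : SΨ ⟶ G ⊗ X) [Mono σ]
    (hSΨ : ∀ (T : Over S) (g : T ⟶ G) (x : T ⟶ X),
      (∃ q : T ⟶ SΨ, q ≫ σ = lift g x) ↔ ((∃ y : T ⟶ Ψ, y ≫ ψ = g) ∧ lift g x ≫ a.act = x))
    (aS : AlgGrp.Action G SΨ)
    (hσ : aS.act ≫ σ = lift (fst G SΨ * (snd G SΨ ≫ σ ≫ fst G X) * (fst G SΨ)⁻¹)
      (lift (fst G SΨ) (snd G SΨ ≫ σ ≫ snd G X) ≫ a.act))
    (Φ : G ⊗ Xh ⟶ SΨ)
    (hΦ : Φ ≫ σ = lift (fst G Xh * (toUnit (G ⊗ Xh) ≫ h) * (fst G Xh)⁻¹)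
      (lift (fst G Xh) (snd G Xh ≫ incl) ≫ a.act)) :
    ChGrp.IsBalProd Scheme.fppfPrecoverage i aXh aS Φ := by
  have hψ' : ∀ (T : Over S) (g : T ⟶ G) (y : T ⟶ Ψ), sm aΨ g y ≫ ψ = g * (y ≫ ψ) * g⁻¹ := by
    intro T g y
    have := congrArg (lift g y ≫ ·) hψ
    simp only [comp_mul, comp_inv, lift_fst, lift_snd_assoc] at this
    rw [← this, ← Category.assoc]
    rfl
  have hoψ : ∀ (T : Over S) (g : T ⟶ G), sm aΨ g (toUnit T ≫ o) ≫ ψ = g * (toUnit T ≫ h) * g⁻¹ := by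
    intro T g
    rw [hψ', Category.assoc, ho]
  have hinc : ∀ (T : Over S) (z : T ⟶ Z) (x : T ⟶ Xh), sm aXh z x ≫ incl = sm a (z ≫ i) (x ≫ incl) := by
    intro T z x
    rw [(isEquivariant_iff _ _ _).1 hincl, sm_restrict]
  have hfix : ∀ (T : Over S) (x : T ⟶ Xh), sm a (toUnit T ≫ h) (x ≫ incl) = x ≫ incl :=
    fun T x => (hXh T _).1 ⟨x, rfl⟩
  have hΦ' : ∀ (T : Over S) (g : T ⟶ G) (x : T ⟶ Xh), (lift g x ≫ Φ) ≫ σ =
      lift (g * (toUnit T ≫ h) * g⁻¹) (sm a g (x ≫ incl)) := by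
    intro T g x
    rw [Category.assoc, hΦ, comp_lift, comp_mul, comp_mul, comp_inv, lift_fst, ← Category.assoc,
      toUnit_unique (lift g x ≫ toUnit _) (toUnit T), ← Category.assoc, comp_lift, lift_fst,
      lift_snd_assoc]
    rfl
  have hσ' : ∀ (T : Over S) (g : T ⟶ G) (q : T ⟶ SΨ) (γ : T ⟶ G) (x : T ⟶ X), q ≫ σ = lift γ x →
      sm aS g q ≫ σ = lift (g * γ * g⁻¹) (sm a g x) := by
    intro T g q γ x hq
    have hq1 : q ≫ σ ≫ fst G X = γ := by rw [← Category.assoc, hq, lift_fst]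
    have hq2 : q ≫ σ ≫ snd G X = x := by rw [← Category.assoc, hq, lift_snd]
    rw [sm, Category.assoc, hσ, comp_lift, comp_mul, comp_mul, comp_inv, lift_fst, lift_snd_assoc,
      hq1, comp_lift_assoc, lift_fst, lift_snd_assoc, hq2]
    rfl
  refine isBalProd_of_points ?_ ?_ ?_ ?_ ?_
  · intro T g' g x
    rw [← cancel_mono σ, hΦ', hσ' T g' _ _ _ (hΦ' T g x), mul_sm]
    congr 1
    group
  · intro T z g x
    rw [← cancel_mono σ, hΦ', hΦ', hinc, ← mul_sm, inv_mul_cancel_right]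
    congr 1
    have h1 : z ≫ i * (toUnit T ≫ h) * (z ≫ i)⁻¹ = toUnit T ≫ h := by
      rw [← hoψ, sm_point_of_isHomog hhom, Category.assoc, ho]
    have h2 : (z ≫ i)⁻¹ * (toUnit T ≫ h) * (z ≫ i) = toUnit T ≫ h := by
      nth_rewrite 1 [← h1]
      group
    calc g * (z ≫ i)⁻¹ * (toUnit T ≫ h) * (g * (z ≫ i)⁻¹)⁻¹
        = g * ((z ≫ i)⁻¹ * (toUnit T ≫ h) * (z ≫ i)) * g⁻¹ := by group
      _ = g * (toUnit T ≫ h) * g⁻¹ := by rw [h2]
  · intro T g g' x x' e
    have e' := congrArg (· ≫ σ) e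
    simp only [hΦ'] at e'
    obtain ⟨e1, e2⟩ := lift_inj e'
    rw [← hoψ, ← hoψ, cancel_mono] at e1
    obtain ⟨z, hz⟩ := exists_of_isHomog hhom g' g e1.symm
    refine ⟨z⁻¹, ?_, ?_⟩
    · rw [inv_comp, _root_.inv_inv, hz]
    · rw [← cancel_mono incl, hinc, inv_comp]
      rw [hz, mul_sm] at e2
      have e3 := congrArg (sm a g'⁻¹) e2
      rw [inv_sm_sm, inv_sm_sm] at e3
      rw [← e3, inv_sm_sm]
  · intro T z z' x e _
    exact unique_of_isHomog hhom z z' e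
  · have h1 : ∃ y : SΨ ⟶ Ψ, y ≫ ψ = σ ≫ fst G X := by
      have := (hSΨ SΨ (σ ≫ fst G X) (σ ≫ snd G X)).1 ⟨𝟙 _, by
        rw [Category.id_comp, ← comp_lift, lift_fst_snd, Category.comp_id]⟩
      exact this.1
    obtain ⟨y, hy⟩ := h1
    refine isLocallyTrivialFor_of_lift hhom.2.2 Φ y fun T t g hg => ?_
    obtain ⟨γ, x, hq⟩ := exists_eq_lift (t ≫ σ)
    obtain ⟨⟨y', hy'⟩, hfx⟩ := (hSΨ T γ x).1 ⟨t, hq⟩
    have hγ : γ = g * (toUnit T ≫ h) * g⁻¹ := by
      rw [← hoψ, ← comp_orbitMap, hg, Category.assoc, hy, ← Category.assoc, hq, lift_fst]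
    have hx : sm a (toUnit T ≫ h) (sm a g⁻¹ x) = sm a g⁻¹ x := by
      rw [lift_act, hγ] at hfx
      rw [mul_sm, mul_sm] at hfx
      have := congrArg (sm a g⁻¹) hfx
      rwa [inv_sm_sm] at this
    obtain ⟨x', hx'⟩ := (hXh T _).2 hx
    refine ⟨lift g x', ?_⟩
    rw [← cancel_mono σ, hΦ', hx', sm_inv_sm, hq, hγ]


end Groth.Agent.S19098
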