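import Groth.Statements.S19099
import Groth.Agent.ChGrp.K982.Descent
import Groth.Agent.Etbase.FpqcDescent

set_option autoImplicit false
universe u
open CategoryTheory MonoidalCategory CartesianMonoidalCategory MonObj AlgebraicGeometry
open ChGrp

namespace Groth.Agent.S19099


open K982.Act K982.Pts K982.Descent GrpObj in
/-- Let S be a scheme, i : G → Q a monomorphic homomorphism of S-group schemes (a closed subgroup), h an
S-point of G whose image in Q is central, and X an S-scheme with a G-action a. Let incl : X^h → X be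
a monomorphism whose points are the points of X fixed by h, with a G-action making incl equivariant
(X^h is G-stable since h is central in G). Let Y with its Q-action and j : Q ×_S X → Y be the
balanced product Q ×^G X for the fppf topology, Y' with j' : Q ×_S X^h → Y' the balanced product Q
×^G X^h, and m : Y' → Y the morphism under which j' followed by m is Q × incl followed by j. Then m
is a monomorphism, a point of Y factors through m exactly when it is fixed by h acting on Y through
the Q-action, and m is a closed immersion if incl is one: Q ×^G X^h is the fixed locus of h in Q ×^G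
X. (The source states this for a smooth algebraic space X of finite type over the complex numbers,
as an equality of closed subspaces, and argues on closed points; the form here is the one its
computation gives for the fppf quotients over any base, with X a scheme.) -/
theorem result
    {S : Scheme.{u}} {Q G X Xh Y Y' : Over S} [GrpObj Q] [GrpObj G]
    (i : G ⟶ Q) [IsMonHom i] [Mono i]
    (h : 𝟙_ (Over S) ⟶ G)
    (hcent : ∀ (T : Over S) (q : T ⟶ Q), q * (toUnit T ≫ h ≫ i) = (toUnit T ≫ h ≫ i) * q)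
    (a : AlgGrp.Action G X)
    (incl : Xh ⟶ X) [Mono incl]
    (hXh : ∀ (T : Over S) (x : T ⟶ X), (∃ y : T ⟶ Xh, y ≫ incl = x) ↔ lift (toUnit T ≫ h) x ≫ a.act = x)
    (aXh : AlgGrp.Action G Xh) (hincl : AlgGrp.Action.IsEquivariant aXh a incl)
    (aY : AlgGrp.Action Q Y) (j : Q ⊗ X ⟶ Y) (hY : ChGrp.IsBalProd Scheme.fppfPrecoverage i a aY j)
    (aY' : AlgGrp.Action Q Y') (j' : Q ⊗ Xh ⟶ Y') (hY' : ChGrp.IsBalProd Scheme.fppfPrecoverage i aXh aY' j')
    (m : Y' ⟶ Y) (hm : j' ≫ m = (Q ◁ incl) ≫ j) :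
    Mono m ∧
      (∀ (T : Over S) (y : T ⟶ Y), (∃ y' : T ⟶ Y', y' ≫ m = y) ↔ lift (toUnit T ≫ h ≫ i) y ≫ aY.act = y) ∧
      (IsClosedImmersion incl.left → IsClosedImmersion m.left) := by
  have hK := Scheme.fppfPrecoverage_le_fpqcPrecoverage.{u}
  have hinc : ∀ (T : Over S) (g : T ⟶ G) (x : T ⟶ Xh), sm aXh g x ≫ incl = sm a g (x ≫ incl) :=
    fun T g x => (isEquivariant_iff _ _ _).1 hincl T g x
  have hjm : ∀ (T : Over S) (q : T ⟶ Q) (x : T ⟶ Xh), (lift q x ≫ j') ≫ m = lift q (x ≫ incl) ≫ j := by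
    intro T q x
    rw [Category.assoc, hm, ← Category.assoc, lift_whiskerLeft]
  have hcent' : ∀ (T : Over S) (q : T ⟶ Q), ((toUnit T ≫ h) ≫ i) * q = q * ((toUnit T ≫ h) ≫ i) := by
    intro T q
    rw [Category.assoc]
    exact (hcent T q).symm
  -- a point `j(q, x)` is fixed by `h` iff `x` is
  have hfixj : ∀ (T : Over S) (q : T ⟶ Q) (x : T ⟶ X),
      sm aY (toUnit T ≫ h ≫ i) (lift q x ≫ j) = lift q (sm a (toUnit T ≫ h) x) ≫ j := by
    intro T q x
    rw [← balProd_mul hY, ← balProd_mul_inner hY, hcent' T q |>.symm, Category.assoc]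
  have hfix : ∀ (T : Over S) (q : T ⟶ Q) (x : T ⟶ X),
      sm aY (toUnit T ≫ h ≫ i) (lift q x ≫ j) = lift q x ≫ j → sm a (toUnit T ≫ h) x = x := by
    intro T q x e
    rw [hfixj] at e
    obtain ⟨g, hg, hx⟩ := exists_of_balProd hY _ _ _ _ e
    have h1 : g ≫ i = (1 : T ⟶ G) ≫ i := by
      have h2 : q * (g ≫ i)⁻¹ = q * 1 := by rw [← hg, _root_.mul_one]
      rw [mul_right_inj, inv_eq_one] at h2
      rw [h2, MonObj.one_comp]
    rw [cancel_mono] at h1
    rw [hx, h1, one_sm]
  have hmono : Mono m := by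
    refine ⟨fun {T} y₁ y₂ e => ?_⟩
    refine hom_ext_lift hK hY'.2.2 y₁ fun T' t p hp => ?_
    refine hom_ext_lift hK hY'.2.2 (t ≫ y₂) fun T'' t' p' hp' => ?_
    obtain ⟨q, x, hqx⟩ := exists_eq_lift (t' ≫ p)
    obtain ⟨q', x', rfl⟩ := exists_eq_lift p'
    have h1 : t' ≫ t ≫ y₁ = lift q x ≫ j' := by rw [← hqx, Category.assoc, hp]
    rw [h1, ← hp']
    have h2 : lift q (x ≫ incl) ≫ j = lift q' (x' ≫ incl) ≫ j := by
      rw [← hjm, ← hjm, ← h1, hp']
      simp only [Category.assoc, e]
    obtain ⟨g, hg, hx⟩ := exists_of_balProd hY _ _ _ _ h2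
    rw [← hinc, cancel_mono] at hx
    rw [hg, hx, balProd_twist hY']
  have hpt : ∀ (T : Over S) (y : T ⟶ Y),
      (∃ y' : T ⟶ Y', y' ≫ m = y) ↔ sm aY (toUnit T ≫ h ≫ i) y = y := by
    intro T y
    constructor
    · rintro ⟨y', rfl⟩
      refine hom_ext_lift hK hY'.2.2 y' fun T' t p hp => ?_
      obtain ⟨q, x, rfl⟩ := exists_eq_lift p
      have e1 : t ≫ y' ≫ m = lift q (x ≫ incl) ≫ j := by rw [← Category.assoc, ← hp, hjm]
      have e2 : t ≫ toUnit T ≫ h ≫ i = toUnit T' ≫ h ≫ i := by
        rw [← Category.assoc, toUnit_unique (t ≫ toUnit T) (toUnit T')]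
      have := (hXh T' (x ≫ incl)).1 ⟨x, rfl⟩
      rw [lift_act] at this
      rw [comp_sm, e1, e2, hfixj, this]
    · intro hy
      refine exists_lift_of_mono hK hY.2.2 y m y fun T' t p hp => ?_
      obtain ⟨q, x, rfl⟩ := exists_eq_lift p
      have h1 : sm aY (toUnit T' ≫ h ≫ i) (lift q x ≫ j) = lift q x ≫ j := by
        rw [hp]
        conv_rhs => rw [← hy]
        rw [comp_sm, ← Category.assoc t, toUnit_unique (t ≫ toUnit T) (toUnit T')]
      obtain ⟨x', hx'⟩ := (hXh T' x).2 (hfix T' q x h1)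
      exact ⟨lift q x' ≫ j', by rw [hjm, hx', hp]⟩
  refine ⟨hmono, hpt, fun hcl => ?_⟩
  have hpb : IsPullback j' (Q ◁ incl) m j := by
    refine isPullback_of_points hm ?_ ?_
    · intro T y p e
      obtain ⟨q, x, rfl⟩ := exists_eq_lift p
      obtain ⟨x', hx'⟩ := (hXh T x).2 (hfix T q x (by rw [← e]; exact (hpt T _).1 ⟨y, rfl⟩))
      refine ⟨lift q x', ?_, by rw [lift_whiskerLeft, hx']⟩
      rw [← cancel_mono m, hjm, hx', e]
    · intro T p p' _ e
      obtain ⟨q, x, rfl⟩ := exists_eq_lift p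
      obtain ⟨q', x', rfl⟩ := exists_eq_lift p'
      rw [lift_whiskerLeft, lift_whiskerLeft] at e
      obtain ⟨e1, e2⟩ := lift_inj e
      rw [cancel_mono] at e2
      rw [e1, e2]
  have hd := Groth.Agent.Etbase.FpqcDescent.descendsAlong_isClosedImmersion.{u}
  exact property_descend @IsClosedImmersion hY.2.2 hpb
    (property_whiskerLeft @IsClosedImmersion Q incl hcl)

end Groth.Agent.S19099
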