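import Groth.Statements.S19100
import Groth.Agent.S19098
import Groth.Agent.ChGrp.K982.Stab
import Groth.Agent.ChGrp.K982.UTors
import Groth.Agent.Books.AlgPtsGrp

set_option autoImplicit false
open CategoryTheory MonoidalCategory CartesianMonoidalCategory MonObj AlgebraicGeometry
open ChGrp

namespace Groth.Agent.S19100


open K982.Act K982.Pts GrpObj in

/-- Work over S = Spec ℂ. Let G be a connected affine group scheme of finite type over ℂ acting on a
smooth ℂ-scheme X through a, with finite stabilizer: the global stabilizer S_X, given as a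
monomorphism σX : S_X → G × X whose points are the pairs (g, x) with g x = x, is finite over X. Let
h be a complex point of G, i : Z → G a homomorphism and ψ : Ψ → G a closed immersion with a G-action
lifting conjugation and a point o over h such that (Ψ, o) is the homogeneous space G/Z for the fppf
topology through g ↦ g h g⁻¹ (Z is the centralizer of h and Ψ its conjugacy class, which is closed).
Let p : P → G be a parabolic subgroup and l : Z → P a Levi subgroup of P with l followed by p equal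
to i. Let incl : X^h → X be the monomorphism of points fixed by h with its Z-action, σ : S_Ψ → G × X
the monomorphism of pairs (g, x) with g in Ψ and g x = x, with G acting by conjugation and by a, and
Φ : G × X^h → S_Ψ the morphism (g, x) ↦ (g h g⁻¹, g x). Let Y with a G-action and jY : G × X → Y be
the balanced product G ×^P X for the fppf topology (P acting on X through p), q : Y → X the morphism
with jY followed by q equal to the action, assumed separated, and j : S_Ψ → Y the morphism with Φ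
followed by j equal to (G × incl) followed by jY. Then j is a closed immersion. (The source states
it for a smooth algebraic space X and concludes that j is a regular embedding, which for the smooth
spaces S_Ψ and G ×_P X amounts to j being a closed immersion, the assertion its proof establishes
and the one made here; X is a scheme here, and the projection q with its separatedness, implicit in
the source's G/P × X, is part of the data.) -/
theorem result
    {G X Z Ψ P Xh SX SΨ Y : Over (Spec (CommRingCat.of ℂ))} [GrpObj G] [GrpObj Z] [GrpObj P]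
    [IsAffine G.left] [LocallyOfFiniteType G.hom] [ConnectedSpace G.left]
    [Smooth X.hom] (a : AlgGrp.Action G X)
    (σX : SX ⟶ G ⊗ X) [Mono σX]
    (hSX : ∀ (T : Over (Spec (CommRingCat.of ℂ))) (g : T ⟶ G) (x : T ⟶ X),
      (∃ s : T ⟶ SX, s ≫ σX = lift g x) ↔ lift g x ≫ a.act = x)
    [IsFinite (σX ≫ snd G X).left]
    (h : 𝟙_ (Over (Spec (CommRingCat.of ℂ))) ⟶ G)
    (i : Z ⟶ G) [IsMonHom i]
    (ψ : Ψ ⟶ G) [IsClosedImmersion ψ.left] (aΨ : AlgGrp.Action G Ψ)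
    (hψ : aΨ.act ≫ ψ = fst G Ψ * (snd G Ψ ≫ ψ) * (fst G Ψ)⁻¹)
    (o : 𝟙_ (Over (Spec (CommRingCat.of ℂ))) ⟶ Ψ) (ho : o ≫ ψ = h)
    (hhom : ChGrp.IsHomog Scheme.fppfPrecoverage i aΨ o)
    (p : P ⟶ G) [IsMonHom p] (hP : Red.IsParabolicOver ℂ p)
    (l : Z ⟶ P) [IsMonHom l] (hl : l ≫ p = i) (hL : Par.IsLevi l)
    (incl : Xh ⟶ X) [Mono incl]
    (hXh : ∀ (T : Over (Spec (CommRingCat.of ℂ))) (x : T ⟶ X),
      (∃ y : T ⟶ Xh, y ≫ incl = x) ↔ lift (toUnit T ≫ h) x ≫ a.act = x)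
    (aXh : AlgGrp.Action Z Xh) (hincl : AlgGrp.Action.IsEquivariant aXh (a.restrict i) incl)
    (σ : SΨ ⟶ G ⊗ X) [Mono σ]
    (hSΨ : ∀ (T : Over (Spec (CommRingCat.of ℂ))) (g : T ⟶ G) (x : T ⟶ X),
      (∃ s : T ⟶ SΨ, s ≫ σ = lift g x) ↔ ((∃ y : T ⟶ Ψ, y ≫ ψ = g) ∧ lift g x ≫ a.act = x))
    (aS : AlgGrp.Action G SΨ)
    (hσ : aS.act ≫ σ = lift (fst G SΨ * (snd G SΨ ≫ σ ≫ fst G X) * (fst G SΨ)⁻¹)
      (lift (fst G SΨ) (snd G SΨ ≫ σ ≫ snd G X) ≫ a.act))
    (Φ : G ⊗ Xh ⟶ SΨ)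
    (hΦ : Φ ≫ σ = lift (fst G Xh * (toUnit (G ⊗ Xh) ≫ h) * (fst G Xh)⁻¹)
      (lift (fst G Xh) (snd G Xh ≫ incl) ≫ a.act))
    (aY : AlgGrp.Action G Y) (jY : G ⊗ X ⟶ Y)
    (hY : ChGrp.IsBalProd Scheme.fppfPrecoverage p (a.restrict p) aY jY)
    (q : Y ⟶ X) (hq : jY ≫ q = a.act) [IsSeparated q.left]
    (j : SΨ ⟶ Y) (hj : Φ ≫ j = (G ◁ incl) ≫ jY) :
    IsClosedImmersion j.left := by
  have hK := Scheme.fppfPrecoverage_le_fpqcPrecoverage.{0}
  have hψm₀ : Mono ψ := Groth.Agent.Books.AlgPtsGrp.mono_of_isClosedImmersion _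
  have hbal : ChGrp.IsBalProd Scheme.fppfPrecoverage i aXh aS Φ :=
    Groth.Agent.S19098.result a h i ψ aΨ hψ o ho hhom incl hXh aXh hincl σ hSΨ aS hσ Φ hΦ
  have hψ' : ∀ (T : Over (Spec (CommRingCat.of ℂ))) (g : T ⟶ G) (y : T ⟶ Ψ),
      sm aΨ g y ≫ ψ = g * (y ≫ ψ) * g⁻¹ := by
    intro T g y
    have := congrArg (lift g y ≫ ·) hψ
    simp only [comp_mul, comp_inv, lift_fst, lift_snd_assoc] at this
    rw [← this, ← Category.assoc]
    rfl
  have hoψ : ∀ (T : Over (Spec (CommRingCat.of ℂ))) (g : T ⟶ G),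
      sm aΨ g (toUnit T ≫ o) ≫ ψ = g * (toUnit T ≫ h) * g⁻¹ := by
    intro T g
    rw [hψ', Category.assoc, ho]
  have hfix : ∀ (T : Over (Spec (CommRingCat.of ℂ))) (x : T ⟶ Xh),
      sm a (toUnit T ≫ h) (x ≫ incl) = x ≫ incl :=
    fun T x => (hXh T _).1 ⟨x, rfl⟩
  have hΦ' : ∀ (T : Over (Spec (CommRingCat.of ℂ))) (g : T ⟶ G) (x : T ⟶ Xh), (lift g x ≫ Φ) ≫ σ =
      lift (g * (toUnit T ≫ h) * g⁻¹) (sm a g (x ≫ incl)) := by
    intro T g x
    rw [Category.assoc, hΦ, comp_lift, comp_mul, comp_mul, comp_inv, lift_fst, ← Category.assoc,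
      toUnit_unique (lift g x ≫ toUnit _) (toUnit T), ← Category.assoc, comp_lift, lift_fst,
      lift_snd_assoc]
    rfl
  have hZh : ∀ (T : Over (Spec (CommRingCat.of ℂ))) (z : T ⟶ Z),
      (z ≫ i) * (toUnit T ≫ h) * (z ≫ i)⁻¹ = toUnit T ≫ h := by
    intro T z
    rw [← hoψ, sm_point_of_isHomog hhom, Category.assoc, ho]
  -- `h` is a point of `Z`
  obtain ⟨h', hh'⟩ : ∃ h' : 𝟙_ (Over (Spec (CommRingCat.of ℂ))) ⟶ Z, h' ≫ i = h := by
    obtain ⟨z, hz⟩ := exists_of_isHomog hhom (1 : 𝟙_ (Over (Spec (CommRingCat.of ℂ))) ⟶ G) h (by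
      have hm : Mono ψ := Groth.Agent.Books.AlgPtsGrp.mono_of_isClosedImmersion _
      rw [← cancel_mono ψ, hoψ, hoψ, toUnit_unique (toUnit (𝟙_ _)) (𝟙 _), Category.id_comp]
      group)
    exact ⟨z, by rw [hz, _root_.one_mul]⟩
  obtain ⟨-, -, -, U, gU, u, ⟨hum, huc, hun, hus, huq, huf, -⟩, hiso⟩ := hL
  have hp1 := hP.1
  have hp2 : IsClosedImmersion p.left := hP.2.1
  have hpm : Mono p := Groth.Agent.Books.AlgPtsGrp.mono_of_isClosedImmersion _
  have hupc : IsClosedImmersion (u ≫ p).left := by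
    rw [Over.comp_left]
    infer_instance
  have hUa : IsAffine U.left := isAffine_of_isAffineHom (u ≫ p).left
  have hUnt : K540.NoTor.NoTor U := fun s => (huf s).2
  have hUnt' : Red.HasNoSubtorus ℂ U := K540.NoTor.hasNoSubtorus_of_noTor hUnt
  have hUc : ConnectedSpace U.left := by
    have s : Spec (CommRingCat.of ℂ) := (⊥ : PrimeSpectrum ℂ)
    have hs := (huf s).1
    have h1 : Surjective (Red.geomPt s) :=
      ⟨fun y => ⟨Classical.arbitrary _, Subsingleton.elim (α := PrimeSpectrum ℂ) _ _⟩⟩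
    have h2 : Surjective (Limits.pullback.fst U.hom (Red.geomPt s)) := inferInstance
    have h3 : ConnectedSpace ↥(Limits.pullback U.hom (Red.geomPt s)) := hs
    exact h2.surj.connectedSpace (Limits.pullback.fst U.hom (Red.geomPt s)).continuous
  have htf : ∀ (T : Over (Spec (CommRingCat.of ℂ))) (g : T ⟶ U) (m : ℕ), 1 ≤ m → g ^ m = 1 → g = 1 :=
    fun T g m hm hg => K982.UTors.eq_one_of_pow_of_hasNoSubtorus hUnt' g m hm hg
  have hfin : IsFinite (K957.Free.stabSnd (a.restrict (u ≫ p))) :=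
    K982.Stab.isFinite_stabSnd a σX hSX (u ≫ p)
  have hfree : ∀ (T : Over (Spec (CommRingCat.of ℂ))) (v : T ⟶ U) (x : T ⟶ X),
      sm a (v ≫ u ≫ p) x = x → v = 1 := by
    intro T v x hv
    exact K982.Stab.eq_one_of_fix (a.restrict (u ≫ p)) htf v x (by rw [sm_restrict]; exact hv)
  -- decomposition of points of `P`
  have hdec : ∀ (T : Over (Spec (CommRingCat.of ℂ))) (r : T ⟶ P), ∃ (z : T ⟶ Z) (v : T ⟶ U),
      r = (z ≫ l) * (v ≫ u) := by
    intro T r
    obtain ⟨z, v, hzv⟩ := exists_eq_lift (r ≫ inv ((l ⊗ₘ u) ≫ μ[P]))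
    refine ⟨z, v, ?_⟩
    rw [Hom.mul_def, ← lift_map, ← hzv]
    simp
  -- the key computation
  have key : ∀ (T : Over (Spec (CommRingCat.of ℂ))) (r : T ⟶ P) (y y' : T ⟶ Xh),
      y ≫ incl = sm a (r ≫ p) (y' ≫ incl) → (r ≫ p) * (toUnit T ≫ h) * (r ≫ p)⁻¹ = toUnit T ≫ h := by
    intro T r y y' e
    obtain ⟨z, v, rfl⟩ := hdec T r
    set H : T ⟶ G := toUnit T ≫ h with hH
    have hHZ : H = ((toUnit T ≫ h') ≫ l) ≫ p := by
      rw [hH, Category.assoc, Category.assoc, hl, hh']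
    obtain ⟨v', hv'⟩ := hun T ((toUnit T ≫ h') ≫ l) v
    have hzp : (z ≫ l) ≫ p = z ≫ i := by rw [Category.assoc, hl]
    have hv'' : (v' ≫ u) ≫ p = H * ((v ≫ u) ≫ p) * H⁻¹ := by
      rw [← hv', MonObj.mul_comp, MonObj.mul_comp, GrpObj.inv_comp, hHZ]
    rw [MonObj.mul_comp, mul_sm, hzp] at e
    -- `v y'` is fixed by `H`
    have hw : sm a H (sm a ((v ≫ u) ≫ p) (y' ≫ incl)) = sm a ((v ≫ u) ≫ p) (y' ≫ incl) := by
      have e1 : sm a ((v ≫ u) ≫ p) (y' ≫ incl) = sm a (z ≫ i)⁻¹ (y ≫ incl) := by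
        rw [e, inv_sm_sm]
      have e2 : H * (z ≫ i)⁻¹ = (z ≫ i)⁻¹ * H := by
        have := hZh T z
        rw [← hH] at this
        rw [eq_comm, inv_mul_eq_iff_eq_mul, ← _root_.mul_assoc, eq_mul_inv_iff_mul_eq] 
        rw [mul_inv_eq_iff_eq_mul] at this
        exact this.symm
      rw [e1, ← mul_sm, e2, mul_sm, hfix]
    have h1 : sm a ((v⁻¹ * v') ≫ u ≫ p) (y' ≫ incl) = y' ≫ incl := by
      rw [← Category.assoc, MonObj.mul_comp, MonObj.mul_comp, hv'', GrpObj.inv_comp, GrpObj.inv_comp]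
      have e3 : sm a H⁻¹ (y' ≫ incl) = y' ≫ incl := by
        conv_lhs => rw [← hfix T y', inv_sm_sm]
      rw [mul_sm, mul_sm, mul_sm, e3, hw, inv_sm_sm]
    have h2 := hfree T _ _ h1
    have h3 : v' = v := (inv_mul_eq_one.1 h2).symm
    rw [h3] at hv''
    have h4 : ((v ≫ u) ≫ p) * H * ((v ≫ u) ≫ p)⁻¹ = H := by
      rw [eq_mul_inv_iff_mul_eq] at hv''
      rw [hv'', mul_inv_cancel_right]
    rw [MonObj.mul_comp, hzp]
    calc (z ≫ i) * ((v ≫ u) ≫ p) * H * ((z ≫ i) * ((v ≫ u) ≫ p))⁻¹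
        = (z ≫ i) * (((v ≫ u) ≫ p) * H * ((v ≫ u) ≫ p)⁻¹) * (z ≫ i)⁻¹ := by group
      _ = H := by rw [h4]; exact hZh T z
  have hjpt : ∀ (T : Over (Spec (CommRingCat.of ℂ))) (g : T ⟶ G) (x : T ⟶ Xh),
      (lift g x ≫ Φ) ≫ j = lift g (x ≫ incl) ≫ jY := by
    intro T g x
    rw [Category.assoc, hj, ← Category.assoc, lift_whiskerLeft]
  have hjmono : Mono j := by
    refine ⟨fun {T} s₁ s₂ e => ?_⟩
    refine hom_ext_lift hK hbal.2.2 s₁ fun T' t c hc => ?_
    refine hom_ext_lift hK hbal.2.2 (t ≫ s₂) fun T'' t' c' hc' => ?_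
    obtain ⟨g, y, hgy⟩ := exists_eq_lift (t' ≫ c)
    obtain ⟨g', y', rfl⟩ := exists_eq_lift c'
    have h1 : t' ≫ t ≫ s₁ = lift g y ≫ Φ := by rw [← hgy, Category.assoc, hc]
    rw [h1, ← hc']
    have h2 : lift g (y ≫ incl) ≫ jY = lift g' (y' ≫ incl) ≫ jY := by
      rw [← hjpt, ← hjpt, ← h1, hc']
      simp only [Category.assoc, e]
    obtain ⟨r, hg, hx⟩ := exists_of_balProd hY _ _ _ _ h2
    rw [sm_restrict] at hx
    have hr := key _ r y y' hx
    rw [← cancel_mono σ, hΦ', hΦ', hg, hx, ← mul_sm, inv_mul_cancel_right]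
    congr 1
    have hr' : (r ≫ p)⁻¹ * (toUnit T'' ≫ h) * (r ≫ p) = toUnit T'' ≫ h := by
      nth_rewrite 1 [← hr]
      group
    calc g' * (r ≫ p)⁻¹ * (toUnit T'' ≫ h) * (g' * (r ≫ p)⁻¹)⁻¹
        = g' * ((r ≫ p)⁻¹ * (toUnit T'' ≫ h) * (r ≫ p)) * g'⁻¹ := by group
      _ = g' * (toUnit T'' ≫ h) * g'⁻¹ := by rw [hr']
  -- properness
  have hjq : j ≫ q = σ ≫ snd G X := by
    refine cancel_left hK hbal.2.2 ?_
    refine AlgGrp.Action.hom_ext_lift₂ fun T g y => ?_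
    have e1 : lift g y ≫ Φ ≫ j ≫ q = sm a g (y ≫ incl) := by
      rw [← Category.assoc, ← Category.assoc, hjpt, Category.assoc, hq]
      rfl
    have e2 : lift g y ≫ Φ ≫ σ ≫ snd G X = sm a g (y ≫ incl) := by
      rw [← Category.assoc, ← Category.assoc, hΦ', lift_snd]
    rw [e1, e2]
  obtain ⟨κ, hκ⟩ : ∃ κ : SΨ ⟶ SX, κ ≫ σX = σ := by
    obtain ⟨s, hs⟩ := (hSX SΨ (σ ≫ fst G X) (σ ≫ snd G X)).2
      ((hSΨ SΨ (σ ≫ fst G X) (σ ≫ snd G X)).1 ⟨𝟙 _, by
        rw [Category.id_comp, ← comp_lift, lift_fst_snd, Category.comp_id]⟩).2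
    exact ⟨s, by rw [hs, ← comp_lift, lift_fst_snd, Category.comp_id]⟩
  obtain ⟨τ, hτ⟩ : ∃ τ : SΨ ⟶ Ψ, τ ≫ ψ = σ ≫ fst G X :=
    ((hSΨ SΨ (σ ≫ fst G X) (σ ≫ snd G X)).1 ⟨𝟙 _, by
        rw [Category.id_comp, ← comp_lift, lift_fst_snd, Category.comp_id]⟩).1
  have hψm : Mono ψ := Groth.Agent.Books.AlgPtsGrp.mono_of_isClosedImmersion _
  have hpb : IsPullback κ τ (σX ≫ fst G X) ψ := by
    refine isPullback_of_points ?_ ?_ ?_
    · rw [← Category.assoc, hκ, hτ]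
    · intro T s y e
      have hs : lift (s ≫ σX ≫ fst G X) (s ≫ σX ≫ snd G X) = s ≫ σX := by
        rw [← comp_lift, ← comp_lift, lift_fst_snd, Category.comp_id]
      obtain ⟨t, ht⟩ := (hSΨ T (s ≫ σX ≫ fst G X) (s ≫ σX ≫ snd G X)).2
        ⟨⟨y, e.symm⟩, (hSX T _ _).1 ⟨s, hs.symm⟩⟩
      rw [hs] at ht
      have h1 : t ≫ κ = s := by rw [← cancel_mono σX, Category.assoc, hκ, ht]
      exact ⟨t, h1, by rw [← cancel_mono ψ, Category.assoc, hτ, ← Category.assoc, ht, ← e, Category.assoc]⟩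
    · intro T t t' e _
      rw [← cancel_mono σ, ← hκ, ← Category.assoc, e, Category.assoc]
  have hκc : IsClosedImmersion κ.left :=
    MorphismProperty.of_isPullback (P := @IsClosedImmersion) (hpb.map (Over.forget _)).flip ‹_›
  have hfin2 : IsFinite (σ ≫ snd G X).left := by
    rw [← hκ, Category.assoc, Over.comp_left]
    infer_instance
  have hfin3 : IsProper (j.left ≫ q.left) := by
    rw [← Over.comp_left, hjq]
    infer_instance
  have hprop : IsProper j.left := IsProper.of_comp j.left q.left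
  exact (IsClosedImmersion.iff_isProper_and_mono _).2 ⟨hprop, inferInstance⟩

end Groth.Agent.S19100
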