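import Groth.Statements.S19103
import Groth.Agent.HopfRep.K192.ConjMain
import Mathlib.Analysis.Complex.Polynomial.Basic

set_option autoImplicit false
open CategoryTheory MonoidalCategory CartesianMonoidalCategory MonObj AlgebraicGeometry
open HopfRep

namespace Groth.Agent.S19103

/-- Let A be a finitely generated commutative Hopf algebra over the complex numbers (an arbitrary
complex linear algebraic group G = Spec A) and g, g' : A → ℂ two semisimple complex points of G
(right translation by each on A is a semisimple endomorphism). If every finite-dimensional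
representation of G, given as a comodule structure on a coordinate space, has the same trace at g
and at g' (all characters agree on the two conjugacy classes, i.e. the two maximal ideals of virtual
characters vanishing on them coincide), then g and g' are conjugate in the group of complex points
of G. (The source states that Ψ ↦ m_Ψ is a bijection from semisimple conjugacy classes onto the
maximal ideals of the complexified representation ring; this row is the injectivity, unfolded
through characters; the surjectivity half needs the representation ring itself and is not restated.) -/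
theorem result
    (A : Type) [CommRing A] [HopfAlgebra ℂ A] [Algebra.FiniteType ℂ A]
    (g g' : A →ₐ[ℂ] ℂ) (hg : Module.End.IsSemisimple (HopfRep.Comod.act ℂ A A g))
    (hg' : Module.End.IsSemisimple (HopfRep.Comod.act ℂ A A g'))
    (htr : ∀ (d : ℕ) (c : HopfRep.Comod ℂ A (Fin d → ℂ)),
      LinearMap.trace ℂ (Fin d → ℂ) (@HopfRep.Comod.act ℂ A _ _ _ (Fin d → ℂ) _ _ c g) =
        LinearMap.trace ℂ (Fin d → ℂ) (@HopfRep.Comod.act ℂ A _ _ _ (Fin d → ℂ) _ _ c g')) :
    ∃ x : CoactBr.sp ℂ ℂ ⟶ CoactBr.sp ℂ A, x * CoactBr.pt g * x⁻¹ = CoactBr.pt g' := by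
  obtain ⟨x, hx⟩ := K192.ConjMain.exists_conj_of_char (K := ℂ) (A := A) (WithConv.toConv g)
    (WithConv.toConv g') hg hg' (fun f hf => by
      obtain ⟨d, c, rfl⟩ := (K192.Char.mem_charSet_iff A f).1 hf
      have e2 : ∀ h : A →ₐ[ℂ] ℂ, h (K192.Char.chi ℂ A (Fin d → ℂ)) =
          LinearMap.trace ℂ (Fin d → ℂ) (Comod.act ℂ A (Fin d → ℂ) h) := fun h =>
        K192.Char.apply_chi (k := ℂ) A (V := Fin d → ℂ) h.toLinearMap
      exact (e2 g).trans ((htr d c).trans (e2 g').symm))
  refine ⟨CoactBr.pt x.ofConv, ?_⟩
  rw [K192.ConjScheme.pt_inv', K192.ConjScheme.pt_mul_pt', K192.ConjScheme.pt_mul_pt']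
  exact congrArg (fun z : WithConv (A →ₐ[ℂ] ℂ) => CoactBr.pt z.ofConv) hx

end Groth.Agent.S19103
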