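import Groth.Statements.S19104
import Groth.Agent.HilbD.K684.DivAlg

set_option autoImplicit false
open CategoryTheory CategoryTheory.Limits AlgebraicGeometry
universe u
open HilbD

namespace Groth.Agent.S19104

/-- Let f : X ⟶ S be smooth of relative dimension 1, μ a non-empty Young diagram and n a reversed plane
partition of shape μ (a labelling of the cells by naturals, non-decreasing along rows and columns).
Call relative divisor of degree d a closed subscheme of X, given by a quasi-coherent ideal sheaf,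
whose projection to S is finite locally free of degree d; sums of divisors are products of ideal
sheaves. Then every flag (Z_c)_{c ∈ μ} of relative divisors of degrees n_c which grows along rows
and columns has exactly one system of edge data of type n — the corner divisor Z_00, for each cell
(i,j) with i ≥ 1 a divisor X_ij of degree n_ij − n_{i−1,j} with Z_ij = Z_{i−1,j} + X_ij, and for
each cell with j ≥ 1 a divisor Y_ij of degree n_ij − n_{i,j−1} with Z_ij = Z_{i,j−1} + Y_ij — and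
this edge data satisfies X_ij + Y_{i−1,j} = Y_ij + X_{i,j−1} for every cell with i, j ≥ 1. (The
published statement is for X = C × T ⟶ T with C a smooth irreducible quasi-projective complex curve
and T a complex scheme, and identifies, through T-points, the scheme of such flags with the zero
scheme of a section of a vector bundle on the product of symmetric powers that carries the edge
data; the vanishing of the pulled-back section at a T-point amounts to the containment of Y_ij +
X_{i,j−1} in X_ij + Y_{i−1,j}, which for divisors of equal degree is the equality stated last. Here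
f is any smooth morphism of relative dimension 1, and neither the bundle nor its section is formed.) -/
theorem result {X S : Scheme.{u}} (f : X ⟶ S) [SmoothOfRelativeDimension 1 f]
    (μ : YoungDiagram) (h00 : ((0, 0) : ℕ × ℕ) ∈ μ) (n : ℕ × ℕ → ℕ) (hn : HilbD.IsRevPlanePartition μ n)
    (Z : ∀ c : ℕ × ℕ, c ∈ μ → X.IdealSheafData) (hZ : HilbD.IsDnFlag f μ n Z) :
    (∃! E : HilbD.DnEdgeData μ X, E.IsOfType f n ∧ E.IsEdgesOf h00 Z) ∧
      ∀ E : HilbD.DnEdgeData μ X, E.IsOfType f n → E.IsEdgesOf h00 Z →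
        ∀ (c : ℕ × ℕ) (hc : c ∈ μ) (hi : 1 ≤ c.1) (hj : 1 ≤ c.2), E.gammaOne c hc hi hj = E.gammaTwo c hc hi hj := by
  classical
  obtain ⟨hZ1, hZ2⟩ := hZ
  have hup : ∀ c : ℕ × ℕ, ((c.1 - 1, c.2) : ℕ × ℕ) ≤ c := fun c => ⟨Nat.sub_le c.1 1, le_rfl⟩
  have hleft : ∀ c : ℕ × ℕ, ((c.1, c.2 - 1) : ℕ × ℕ) ≤ c := fun c => ⟨le_rfl, Nat.sub_le c.2 1⟩
  have hV : ∀ (c : ℕ × ℕ) (hc : c ∈ μ) (_ : 1 ≤ c.1), ∃ I : X.IdealSheafData,
      HilbD.IsDivOfDeg f (n c - n (c.1 - 1, c.2)) I ∧ Z c hc = Z (c.1 - 1, c.2) (HilbD.mem_up hc) * I :=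
    fun c hc hi => K684.DivAlg.exists_mul f (hZ1 _ (HilbD.mem_up hc)) (hZ1 c hc)
      (hZ2 _ _ (HilbD.mem_up hc) hc (hup c))
  have hH : ∀ (c : ℕ × ℕ) (hc : c ∈ μ) (_ : 1 ≤ c.2), ∃ I : X.IdealSheafData,
      HilbD.IsDivOfDeg f (n c - n (c.1, c.2 - 1)) I ∧ Z c hc = Z (c.1, c.2 - 1) (HilbD.mem_left hc) * I :=
    fun c hc hj => K684.DivAlg.exists_mul f (hZ1 _ (HilbD.mem_left hc)) (hZ1 c hc)
      (hZ2 _ _ (HilbD.mem_left hc) hc (hleft c))
  choose V hV1 hV2 using hV
  choose H hH1 hH2 using hH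
  refine ⟨⟨⟨Z (0, 0) h00, V, H⟩, ⟨⟨hZ1 _ h00, hV1, hH1⟩, ⟨rfl, hV2, hH2⟩⟩, ?_⟩, ?_⟩
  · rintro ⟨b, v, h⟩ ⟨-, hE1, hE2, hE3⟩
    dsimp only at hE1 hE2 hE3
    congr 1
    · exact hE1.symm
    · funext c hc hi
      exact K684.DivAlg.cancel f (hZ1 _ (HilbD.mem_up hc)) ((hE2 c hc hi).symm.trans (hV2 c hc hi))
    · funext c hc hj
      exact K684.DivAlg.cancel f (hZ1 _ (HilbD.mem_left hc)) ((hE3 c hc hj).symm.trans (hH2 c hc hj))
  · rintro E - ⟨-, hE2, hE3⟩ c hc hi hj
    have h1 : Z (c.1 - 1, c.2 - 1) (HilbD.mem_left (HilbD.mem_up hc)) * E.gammaOne c hc hi hj = Z c hc := by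
      rw [hE2 c hc hi, hE3 _ (HilbD.mem_up hc) hj, HilbD.DnEdgeData.gammaOne, mul_assoc,
        mul_comm (E.vert c hc hi)]
    have h2 : Z (c.1 - 1, c.2 - 1) (HilbD.mem_left (HilbD.mem_up hc)) * E.gammaTwo c hc hi hj = Z c hc := by
      rw [hE3 c hc hj, hE2 _ (HilbD.mem_left hc) hi, HilbD.DnEdgeData.gammaTwo, mul_assoc,
        mul_comm (E.horiz c hc hj)]
    exact K684.DivAlg.cancel f (hZ1 _ (HilbD.mem_left (HilbD.mem_up hc))) (h1.trans h2.symm)

end Groth.Agent.S19104
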