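import Groth.Statements.S19105
import Groth.Agent.HilbD.K684.DivAlg

set_option autoImplicit false
open CategoryTheory CategoryTheory.Limits AlgebraicGeometry
universe u
open HilbD

namespace Groth.Agent.S19105

/-- Let f : X ⟶ S be smooth of relative dimension 1, μ a non-empty Young diagram and n a reversed plane
partition of shape μ (a labelling of the cells by naturals, non-decreasing along rows and columns).
Call relative divisor of degree d a closed subscheme of X, given by a quasi-coherent ideal sheaf,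
whose projection to S is finite locally free of degree d; sums of divisors are products of ideal
sheaves. Let edge data of type n be given: a relative divisor Z_00 of degree n_00, for each cell
(i,j) with i ≥ 1 a relative divisor X_ij of degree n_ij − n_{i−1,j} and for each cell with j ≥ 1 a
relative divisor Y_ij of degree n_ij − n_{i,j−1}, such that for every cell with i, j ≥ 1 the divisor
Y_ij + X_{i,j−1} is contained in X_ij + Y_{i−1,j} (containment of ideal sheaves the other way). Then
there is exactly one flag (Z_c)_{c ∈ μ} of relative divisors of degrees n_c, growing along rows and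
columns, with corner Z_00 and with Z_ij = Z_{i−1,j} + X_ij and Z_ij = Z_{i,j−1} + Y_ij throughout.
(The published statement is for X = C × T ⟶ T with C a smooth irreducible quasi-projective complex
curve and T a complex scheme, and identifies, through T-points, the scheme of such flags with the
zero scheme of a section of a vector bundle on the product of symmetric powers that carries the edge
data; the vanishing of the pulled-back section at a T-point amounts to the stated containment of
divisors. Here f is any smooth morphism of relative dimension 1, and neither the bundle nor its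
section is formed.) -/
theorem result {X S : Scheme.{u}} (f : X ⟶ S) [SmoothOfRelativeDimension 1 f]
    (μ : YoungDiagram) (h00 : ((0, 0) : ℕ × ℕ) ∈ μ) (n : ℕ × ℕ → ℕ) (hn : HilbD.IsRevPlanePartition μ n)
    (E : HilbD.DnEdgeData μ X) (hE : E.IsOfType f n)
    (hcomm : ∀ (c : ℕ × ℕ) (hc : c ∈ μ) (hi : 1 ≤ c.1) (hj : 1 ≤ c.2), E.gammaOne c hc hi hj ≤ E.gammaTwo c hc hi hj) :
    ∃! Z : ∀ c : ℕ × ℕ, c ∈ μ → X.IdealSheafData, HilbD.IsDnFlag f μ n Z ∧ E.IsEdgesOf h00 Z := by
  classical
  obtain ⟨hb, hv, hh⟩ := hE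
  have hup : ∀ c : ℕ × ℕ, ((c.1 - 1, c.2) : ℕ × ℕ) ≤ c := fun c => ⟨Nat.sub_le c.1 1, le_rfl⟩
  have hleft : ∀ c : ℕ × ℕ, ((c.1, c.2 - 1) : ℕ × ℕ) ≤ c := fun c => ⟨le_rfl, Nat.sub_le c.2 1⟩
  have hlow : ∀ {i j i' j' : ℕ}, i' ≤ i → j' ≤ j → (i, j) ∈ μ → (i', j') ∈ μ :=
    fun hi hj h => μ.up_left_mem hi hj h
  have hγ : ∀ (c : ℕ × ℕ) (hc : c ∈ μ) (hi : 1 ≤ c.1) (hj : 1 ≤ c.2),
      E.gammaOne c hc hi hj = E.gammaTwo c hc hi hj := by
    intro c hc hi hj
    have n1 := hn (HilbD.mem_left (HilbD.mem_up hc)) (HilbD.mem_up hc) (hleft (c.1 - 1, c.2))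
    have n2 := hn (HilbD.mem_up hc) hc (hup c)
    have n3 := hn (HilbD.mem_up (HilbD.mem_left hc)) (HilbD.mem_left hc) (hup (c.1, c.2 - 1))
    have n4 := hn (HilbD.mem_left hc) hc (hleft c)
    dsimp only at n1 n2 n3 n4
    have d1 : HilbD.IsDivOfDeg f (n c - n (c.1 - 1, c.2 - 1)) (E.gammaOne c hc hi hj) := by
      have := K684.DivAlg.mul f (hv c hc hi) (hh _ (HilbD.mem_up hc) hj)
      dsimp only at this
      rwa [show n c - n (c.1 - 1, c.2) + (n (c.1 - 1, c.2) - n (c.1 - 1, c.2 - 1)) =
        n c - n (c.1 - 1, c.2 - 1) by omega] at this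
    have d2 : HilbD.IsDivOfDeg f (n c - n (c.1 - 1, c.2 - 1)) (E.gammaTwo c hc hi hj) := by
      have := K684.DivAlg.mul f (hh c hc hj) (hv _ (HilbD.mem_left hc) hi)
      dsimp only at this
      rwa [show n c - n (c.1, c.2 - 1) + (n (c.1, c.2 - 1) - n (c.1 - 1, c.2 - 1)) =
        n c - n (c.1 - 1, c.2 - 1) by omega] at this
    exact K684.DivAlg.eq_of_le f d2 d1 (hcomm c hc hi hj)
  let V : ℕ × ℕ → X.IdealSheafData := fun c => if h : c ∈ μ ∧ 1 ≤ c.1 then E.vert c h.1 h.2 else 1
  let H : ℕ × ℕ → X.IdealSheafData := fun c => if h : c ∈ μ ∧ 1 ≤ c.2 then E.horiz c h.1 h.2 else 1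
  have hVe : ∀ (c : ℕ × ℕ) (hc : c ∈ μ) (hi : 1 ≤ c.1), V c = E.vert c hc hi :=
    fun c hc hi => dif_pos ⟨hc, hi⟩
  have hHe : ∀ (c : ℕ × ℕ) (hc : c ∈ μ) (hj : 1 ≤ c.2), H c = E.horiz c hc hj :=
    fun c hc hj => dif_pos ⟨hc, hj⟩
  let W : ℕ → ℕ → X.IdealSheafData := fun i j =>
    E.base * (∏ k ∈ Finset.range i, V (k + 1, 0)) * ∏ l ∈ Finset.range j, H (i, l + 1)
  have hW0 : W 0 0 = E.base := by simp [W, -Scheme.IdealSheafData.one_eq_top]
  have hWr : ∀ i j, W i (j + 1) = W i j * H (i, j + 1) := fun i j => by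
    simp only [W, Finset.prod_range_succ, mul_assoc]
  have hWc : ∀ j i, (i + 1, j) ∈ μ → W (i + 1) j = W i j * V (i + 1, j) := by
    intro j
    induction j with
    | zero =>
      intro i _
      simp only [W, Finset.prod_range_succ, Finset.range_zero, Finset.prod_empty, mul_one, mul_assoc]
    | succ j ih =>
      intro i hi
      have hm1 : (i + 1, j) ∈ μ := hlow le_rfl (Nat.le_succ j) hi
      have hm2 : (i, j + 1) ∈ μ := hlow (Nat.le_succ i) le_rfl hi
      have := hγ (i + 1, j + 1) hi (Nat.le_add_left 1 i) (Nat.le_add_left 1 j)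
      rw [HilbD.DnEdgeData.gammaOne, HilbD.DnEdgeData.gammaTwo] at this
      have key : V (i + 1, j) * H (i + 1, j + 1) = H (i, j + 1) * V (i + 1, j + 1) := by
        rw [hVe (i + 1, j) hm1 (Nat.le_add_left 1 i), hHe (i + 1, j + 1) hi (Nat.le_add_left 1 j),
          hHe (i, j + 1) hm2 (Nat.le_add_left 1 j), hVe (i + 1, j + 1) hi (Nat.le_add_left 1 i), mul_comm,
          mul_comm (E.horiz (i, j + 1) _ _)]
        exact this.symm
      rw [hWr (i + 1) j, ih i hm1, mul_assoc (W i j), key, ← mul_assoc, ← hWr i j]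
  have hWrow : ∀ i j k, W i (j + k) ≤ W i j := by
    intro i j k
    induction k with
    | zero => exact le_rfl
    | succ k ih =>
      rw [← add_assoc, hWr]
      exact (K684.DivAlg.mul_le_left' _ _).trans ih
  have hWcol : ∀ i j k, (i + k, j) ∈ μ → W (i + k) j ≤ W i j := by
    intro i j k
    induction k with
    | zero => exact fun _ => le_rfl
    | succ k ih =>
      intro hk
      rw [← add_assoc, hWc j (i + k) (by rwa [add_assoc])]
      exact (K684.DivAlg.mul_le_left' _ _).trans
        (ih (hlow (by omega) le_rfl hk))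
  have hdeg : ∀ j i, (i, j) ∈ μ → HilbD.IsDivOfDeg f (n (i, j)) (W i j) := by
    intro j
    induction j with
    | zero =>
      intro i
      induction i with
      | zero =>
        intro _
        rw [hW0]
        exact hb
      | succ i ih =>
        intro hi
        have hm : (i, 0) ∈ μ := hlow (Nat.le_succ i) le_rfl hi
        have h1 := hn hm hi ⟨Nat.le_succ i, le_rfl⟩
        rw [hWc 0 i hi, hVe (i + 1, 0) hi (Nat.le_add_left 1 i)]
        have := K684.DivAlg.mul f (ih hm) (hv (i + 1, 0) hi (Nat.le_add_left 1 i))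
        dsimp only [Nat.add_sub_cancel] at this
        rwa [show n (i, 0) + (n (i + 1, 0) - n (i + 1 - 1, 0)) = n (i + 1, 0) by
          rw [Nat.add_sub_cancel]; omega] at this
    | succ j ih =>
      intro i hi
      have hm : (i, j) ∈ μ := hlow le_rfl (Nat.le_succ j) hi
      have h1 := hn hm hi ⟨le_rfl, Nat.le_succ j⟩
      rw [hWr, hHe (i, j + 1) hi (Nat.le_add_left 1 j)]
      have := K684.DivAlg.mul f (ih i hm) (hh (i, j + 1) hi (Nat.le_add_left 1 j))
      dsimp only [Nat.add_sub_cancel] at this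
      rwa [show n (i, j) + (n (i, j + 1) - n (i, j + 1 - 1)) = n (i, j + 1) by
        rw [Nat.add_sub_cancel]; omega] at this
  refine ⟨fun c _ => W c.1 c.2, ⟨⟨fun c hc => hdeg c.2 c.1 hc, ?_⟩, ⟨hW0, ?_, ?_⟩⟩, ?_⟩
  · rintro ⟨i, j⟩ ⟨i', j'⟩ hc hc' ⟨hi, hj⟩
    dsimp only at hi hj ⊢
    obtain ⟨k, rfl⟩ := Nat.exists_eq_add_of_le hi
    obtain ⟨l, rfl⟩ := Nat.exists_eq_add_of_le hj
    exact (hWrow _ _ _).trans (hWcol i j k (hlow le_rfl (Nat.le_add_right j l) hc'))
  · rintro ⟨i, j⟩ hc hi
    dsimp only at hi ⊢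
    obtain ⟨i, rfl⟩ : ∃ i', i = i' + 1 := ⟨i - 1, by omega⟩
    rw [hWc j i hc, hVe _ hc hi]
    rfl
  · rintro ⟨i, j⟩ hc hj
    dsimp only at hj ⊢
    obtain ⟨j, rfl⟩ : ∃ j', j = j' + 1 := ⟨j - 1, by omega⟩
    rw [hWr, hHe _ hc hj]
    rfl
  · rintro Z ⟨-, hZ0, hZ1, hZ2⟩
    have key : ∀ j i (hc : (i, j) ∈ μ), Z (i, j) hc = W i j := by
      intro j
      induction j with
      | zero =>
        intro i
        induction i with
        | zero =>
          intro hc
          rw [hW0, ← hZ0]
        | succ i ih =>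
          intro hc
          have hm : (i, 0) ∈ μ := hlow (Nat.le_succ i) le_rfl hc
          rw [hWc 0 i hc, hVe _ hc (Nat.le_add_left 1 i), ← ih hm]
          exact hZ1 (i + 1, 0) hc (Nat.le_add_left 1 i)
      | succ j ih =>
        intro i hc
        have hm : (i, j) ∈ μ := hlow le_rfl (Nat.le_succ j) hc
        rw [hWr, hHe _ hc (Nat.le_add_left 1 j), ← ih i hm]
        exact hZ2 (i, j + 1) hc (Nat.le_add_left 1 j)
    funext c hc
    exact key c.2 c.1 hc

end Groth.Agent.S19105
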