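import Groth.Statements.S19106
-- import your own Groth.Agent.* helpers here

set_option autoImplicit false
open HilbD

namespace Groth.Agent.S19106

/-- Let μ be a non-empty Young diagram, V the number of its cells, E the number of unordered pairs of
cells sharing a side (a cell together with the cell immediately below it, or immediately to its
right, both in μ) and Q the number of 2 × 2 blocks of cells of μ (cells c such that the cell
diagonally below-right of c is in μ, the other two corners being in μ automatically). Then V − E + Q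
− 1 = 0, stated as V + Q = E + 1 in the naturals. (The empty diagram, for which the count reads 0 −
0 + 0 − 1, is excluded.) -/
theorem result (μ : YoungDiagram) (hμ : μ ≠ ⊥) :
    μ.cells.card + (μ.cells.filter (fun c => (c.1 + 1, c.2 + 1) ∈ μ)).card =
      (μ.cells.filter (fun c => (c.1 + 1, c.2) ∈ μ)).card + (μ.cells.filter (fun c => (c.1, c.2 + 1) ∈ μ)).card + 1 := by
  have hlow : ∀ {i j i' j' : ℕ}, i' ≤ i → j' ≤ j → (i, j) ∈ μ → (i', j') ∈ μ :=
    fun hi hj h => μ.up_left_mem hi hj h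
  have h00 : ((0, 0) : ℕ × ℕ) ∈ μ := by
    by_contra h
    apply hμ
    ext ⟨i, j⟩
    constructor
    · intro hc
      exact absurd (hlow (Nat.zero_le i) (Nat.zero_le j) (by simpa using hc)) h
    · intro hc
      exact absurd hc (by simp)
  have e1 : (μ.cells.filter (fun c => (c.1 + 1, c.2) ∈ μ)).card = (μ.cells.filter (fun c => c.1 ≠ 0)).card := by
    apply Finset.card_bij (fun c _ => (c.1 + 1, c.2))
    · rintro ⟨i, j⟩ hc
      simp only [Finset.mem_filter, YoungDiagram.mem_cells] at hc ⊢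
      exact ⟨hc.2, Nat.succ_ne_zero i⟩
    · rintro ⟨i, j⟩ _ ⟨i', j'⟩ _ h
      simp only [Prod.mk.injEq, Nat.add_right_cancel_iff] at h
      simp [h.1, h.2]
    · rintro ⟨i, j⟩ hc
      simp only [Finset.mem_filter, YoungDiagram.mem_cells] at hc
      obtain ⟨i, rfl⟩ := Nat.exists_eq_succ_of_ne_zero hc.2
      refine ⟨(i, j), ?_, rfl⟩
      simp only [Finset.mem_filter, YoungDiagram.mem_cells]
      exact ⟨hlow (Nat.le_succ i) le_rfl hc.1, hc.1⟩
  have e2 : (μ.cells.filter (fun c => (c.1, c.2 + 1) ∈ μ)).card = (μ.cells.filter (fun c => c.2 ≠ 0)).card := by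
    apply Finset.card_bij (fun c _ => (c.1, c.2 + 1))
    · rintro ⟨i, j⟩ hc
      simp only [Finset.mem_filter, YoungDiagram.mem_cells] at hc ⊢
      exact ⟨hc.2, Nat.succ_ne_zero j⟩
    · rintro ⟨i, j⟩ _ ⟨i', j'⟩ _ h
      simp only [Prod.mk.injEq, Nat.add_right_cancel_iff] at h
      simp [h.1, h.2]
    · rintro ⟨i, j⟩ hc
      simp only [Finset.mem_filter, YoungDiagram.mem_cells] at hc
      obtain ⟨j, rfl⟩ := Nat.exists_eq_succ_of_ne_zero hc.2
      refine ⟨(i, j), ?_, rfl⟩
      simp only [Finset.mem_filter, YoungDiagram.mem_cells]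
      exact ⟨hlow le_rfl (Nat.le_succ j) hc.1, hc.1⟩
  have e3 : (μ.cells.filter (fun c => (c.1 + 1, c.2 + 1) ∈ μ)).card =
      (μ.cells.filter (fun c => c.1 ≠ 0 ∧ c.2 ≠ 0)).card := by
    apply Finset.card_bij (fun c _ => (c.1 + 1, c.2 + 1))
    · rintro ⟨i, j⟩ hc
      simp only [Finset.mem_filter, YoungDiagram.mem_cells] at hc ⊢
      exact ⟨hc.2, Nat.succ_ne_zero i, Nat.succ_ne_zero j⟩
    · rintro ⟨i, j⟩ _ ⟨i', j'⟩ _ h
      simp only [Prod.mk.injEq, Nat.add_right_cancel_iff] at h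
      simp [h.1, h.2]
    · rintro ⟨i, j⟩ hc
      simp only [Finset.mem_filter, YoungDiagram.mem_cells] at hc
      obtain ⟨i, rfl⟩ := Nat.exists_eq_succ_of_ne_zero hc.2.1
      obtain ⟨j, rfl⟩ := Nat.exists_eq_succ_of_ne_zero hc.2.2
      refine ⟨(i, j), ?_, rfl⟩
      simp only [Finset.mem_filter, YoungDiagram.mem_cells]
      exact ⟨hlow (Nat.le_succ i) (Nat.le_succ j) hc.1, hc.1⟩
  rw [e1, e2, e3]
  have e4 : (μ.cells.filter (fun c => ¬ (c.1 ≠ 0 ∨ c.2 ≠ 0))) = {(0, 0)} := by
    ext ⟨i, j⟩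
    simp only [Finset.mem_filter, YoungDiagram.mem_cells, Finset.mem_singleton, Prod.mk.injEq, not_or,
      not_not]
    constructor
    · exact fun h => h.2
    · rintro ⟨rfl, rfl⟩; exact ⟨h00, rfl, rfl⟩
  have e5 : (μ.cells.filter (fun c => c.1 ≠ 0 ∨ c.2 ≠ 0)).card + 1 = μ.cells.card := by
    have := Finset.card_filter_add_card_filter_not (s := μ.cells) (fun c => c.1 ≠ 0 ∨ c.2 ≠ 0)
    rw [e4, Finset.card_singleton] at this
    exact this
  have e6 : (μ.cells.filter (fun c => c.1 ≠ 0 ∨ c.2 ≠ 0)).card +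
      (μ.cells.filter (fun c => c.1 ≠ 0 ∧ c.2 ≠ 0)).card =
      (μ.cells.filter (fun c => c.1 ≠ 0)).card + (μ.cells.filter (fun c => c.2 ≠ 0)).card := by
    rw [Finset.filter_or, Finset.filter_and]
    exact Finset.card_union_add_card_inter _ _
  omega

end Groth.Agent.S19106
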