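import Groth.Statements.S19118
import Groth.Agent.StMod.K894.AffMono
import Groth.Agent.AlgSt.K737.MonoFF
import Groth.Agent.S12762

set_option autoImplicit false
universe u
open CategoryTheory AlgebraicGeometry
open StMod

namespace Groth.Agent.S19118

/-- Let `S` be an affine scheme, `𝒳` a locally Noetherian algebraic stack over `(Sch/S)` for the fppf
topology whose diagonal over `S` is affine, `ξ` a point of `|𝒳|` and `𝒢 ⊆ 𝒳` the residual gerbe at
`ξ` (the strictly full substack cut out by `Q`: algebraic, reduced, locally Noetherian, with a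
single point, mapping to `ξ`). If `ξ` has linearly reductive stabilizer, rendered as: the structure
functor `σ : 𝒢 ⟶ (Sch/S)` over the affine base is quasi-compact, quasi-separated and cohomologically
affine (pushforward takes surjections of quasi-coherent modules to maps surjective on sections over
every affine scheme etale over `S`), then the inclusion `𝒢 ⟶ 𝒳` is affine (representable by
algebraic spaces with affine base changes). (The base is taken affine so that cohomological
affineness of `𝒢` can be expressed over it; standing conventions of the source: quasi-separated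
schemes and spaces, stacks with quasi-compact separated diagonal.) -/
theorem result
    (S : Scheme.{u}) [IsAffine S]
    (𝒳 : AlgSt.Cat S) (h𝒳 : AlgSt.IsAlgStack Scheme.fppfPrecoverage 𝒳)
    (hN : AlgSt.SmoothLocally (fun T => IsLocallyNoetherian T) 𝒳)
    (hΔ : AlgSt.RepByAlgSpWith AlgSp.IsAffineMor (FibCat.diag (FibCat.toSelf 𝒳)))
    (ξ : AlgSt.Points 𝒳) (Q : 𝒳.obj → Prop) (hQ : Gerb.IsResGerbe Scheme.fppfPrecoverage 𝒳 ξ Q)
    (σ : AlgSt.fullSub 𝒳 Q ⥤ᵇ AlgSt.ofSch (Over.mk (𝟙 S)))
    (hσqc : AlgSt.IsQuasiCompactMor Scheme.fppfPrecoverage σ) (hσqs : AlgSt.IsQuasiSeparatedMor σ)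
    (hσ : StMod.IsCohAffine σ) :
    AlgSt.RepByAlgSpWith AlgSp.IsAffineMor (AlgSt.subIncl 𝒳 Q) := by
  have h1 : (AlgSt.subIncl 𝒳 Q).toFunctor.Faithful := inferInstanceAs (ObjectProperty.ι Q).Faithful
  have h2 : (AlgSt.subIncl 𝒳 Q).toFunctor.Full := inferInstanceAs (ObjectProperty.ι Q).Full
  have h3 : AlgSt.RepByAlgSp1 (AlgSt.subIncl 𝒳 Q) := (Groth.Agent.S12762.result hQ.2.1 h𝒳 _).1 h1
  have h4 : AlgSt.IsMono (AlgSt.subIncl 𝒳 Q) := K737.MonoFF.isMono_of_full h3 h2
  exact K894.AffMono.repByAlgSpWith_isAffineMor hQ.2.1 h𝒳 hΔ _ h4 hσqc hσ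

end Groth.Agent.S19118
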