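import Groth.Statements.S19119
import Groth.Agent.StMod.K862.FinRow
import Groth.Agent.StMod.K949.FinRep
import Groth.Agent.StMod.K563.ClosedLN

set_option autoImplicit false
universe u
open CategoryTheory AlgebraicGeometry
open StMod

namespace Groth.Agent.S19119

/-- Let `S` be a quasi-separated scheme, `𝒳`, `𝒳'` locally Noetherian algebraic stacks over `(Sch/S)`
for the fppf topology with quasi-compact quasi-separated good moduli spaces `π : 𝒳 ⟶ M`, `π' : 𝒳' ⟶
M'` to algebraic spaces quasi-separated over `S`, and let `f : 𝒳 ⟶ 𝒳'`, `g : M ⟶ M'` make the square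
2-commute. Suppose that `f` is representable by algebraic spaces, quasi-finite (locally
quasi-finite, locally of finite type and quasi-compact) and separated, that `g` is finite, and that
`|f|` sends closed points of `|𝒳|` to closed points of `|𝒳'|`. Then `f` is finite. Here a good
moduli space is a quasi-compact quasi-separated morphism to an algebraic space along which
pushforward takes surjections of quasi-coherent modules to maps surjective on sections over every
affine scheme etale over the target (cohomological affineness), and for which the canonical map from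
the functions on any scheme etale over the target to the sections of the pushforward of the
structure sheaf is bijective. (Standing conventions of the source: all schemes and algebraic spaces
are quasi-separated and all stacks have quasi-compact separated diagonal; this row carries instead
the quasi-separatedness of `M` and `M'` over a quasi-separated base scheme and of `π` and `π'`,
which is what the arguments use.) -/
theorem result
    (S : Scheme.{u}) [QuasiSeparatedSpace S]
    (𝒳 𝒳' : AlgSt.Cat S) (h𝒳 : AlgSt.IsAlgStack Scheme.fppfPrecoverage 𝒳) (h𝒳' : AlgSt.IsAlgStack Scheme.fppfPrecoverage 𝒳')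
    (hN : AlgSt.SmoothLocally (fun T => IsLocallyNoetherian T) 𝒳)
    (hN' : AlgSt.SmoothLocally (fun T => IsLocallyNoetherian T) 𝒳')
    (M M' : AlgSp.Space S) (hM : AlgSp.IsQuasiSeparatedSp M.obj) (hM' : AlgSp.IsQuasiSeparatedSp M'.obj)
    (π : 𝒳 ⥤ᵇ AlgSt.ofSp M.obj) (π' : 𝒳' ⥤ᵇ AlgSt.ofSp M'.obj)
    (hqc : AlgSt.IsQuasiCompactMor Scheme.fppfPrecoverage π) (hqs : AlgSt.IsQuasiSeparatedMor π)
    (hqc' : AlgSt.IsQuasiCompactMor Scheme.fppfPrecoverage π') (hqs' : AlgSt.IsQuasiSeparatedMor π')
    (h : StMod.IsGoodModuli π) (h' : StMod.IsGoodModuli π')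
    (f : 𝒳 ⥤ᵇ 𝒳') (g : M.obj ⟶ M'.obj)
    (hsq : Nonempty (BasedFunctor.comp f π' ≅ BasedFunctor.comp π (AlgSt.ofSpMap g)))
    (ha : AlgSt.RepByAlgSpWith
      (AlgSp.LocP (@LocallyQuasiFinite ⊓ @LocallyOfFiniteType) ⊓ AlgSp.IsQuasiCompactMor ⊓ AlgSp.IsSeparatedMor) f)
    (hb : AlgSp.IsFiniteMor g)
    (hc : ∀ x : AlgSt.Points 𝒳, IsClosed ({x} : Set (AlgSt.Points 𝒳)) →
      IsClosed ({AlgSt.Points.map f x} : Set (AlgSt.Points 𝒳'))) :
    AlgSt.RepByAlgSpWith AlgSp.IsFiniteMor f := by
  obtain ⟨e⟩ := hsq
  refine K949.FinRep.repByAlgSpWith_finite h𝒳'.isStack.1 h𝒳.isStack.1 f ha ?_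
  exact K862.FinRow.isRep_finite S 𝒳 𝒳' h𝒳 h𝒳' M M' hM hM' π π' hqc hqs h hqc' hqs' h' f g e
    (K949.QfRep.isRep_qfSep h𝒳'.isStack.1 f ha) hb
    (fun W hW hne => K563.ClosedLN.exists_closed_locNoeth h𝒳 M hM π hqc hqs hN h W hW hne)
    (fun W hW hne => K563.ClosedLN.exists_closed_locNoeth h𝒳' M' hM' π' hqc' hqs' hN' h' W hW hne) hc

end Groth.Agent.S19119
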