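import Groth.Statements.S19123
import Groth.Agent.StMod.K815.Descent

set_option autoImplicit false
universe u
open CategoryTheory AlgebraicGeometry
open StMod

namespace Groth.Agent.S19123

/-- Let `S` be a quasi-separated scheme, `𝒳` a locally Noetherian algebraic stack over `(Sch/S)` for the
fppf topology, `M` an algebraic space over `S` that is quasi-separated over `S`, `π : 𝒳 ⟶ M` a
quasi-compact quasi-separated good moduli space, and `F` a vector bundle on `𝒳` (a quasi-coherent
module, locally free of finite type) with trivial stabilizer action at closed points, in the form: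
for every closed point `ξ` of `|𝒳|` there is a residual gerbe `𝒢 ⊆ 𝒳` at `ξ` (the strictly full
substack cut out by some `Q`: algebraic, reduced, locally Noetherian, with a single point, mapping
to `ξ`) such that the restriction of `F` to `𝒢` is isomorphic to a free module of finite rank. Then
`F` descends to `M`: there is a quasi-coherent module `G` on (the category over `(Sch/S)` of) `M`,
locally free of finite type, whose inverse image along `π` is isomorphic to `F`. (The printed result
is an equivalence of categories between vector bundles on `M` and such `F`, with inverse the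
pushforward; only the existence of a descent is stated here.) Here a good moduli space is a
quasi-compact quasi-separated morphism to an algebraic space along which pushforward takes
surjections of quasi-coherent modules to maps surjective on sections over every affine scheme etale
over the target (cohomological affineness), and for which the canonical map from the functions on
any scheme etale over the target to the sections of the pushforward of the structure sheaf is
bijective. (Standing conventions of the source: all schemes and algebraic spaces are quasi-separated
and all stacks have quasi-compact separated diagonal; this row carries instead the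
quasi-separatedness of `M` over a quasi-separated base scheme and of `π`, which is what the
arguments use.) -/
theorem result
    (S : Scheme.{u}) [QuasiSeparatedSpace S]
    (𝒳 : AlgSt.Cat S) (h𝒳 : AlgSt.IsAlgStack Scheme.fppfPrecoverage 𝒳)
    (M : AlgSp.Space S) (hM : AlgSp.IsQuasiSeparatedSp M.obj) (π : 𝒳 ⥤ᵇ AlgSt.ofSp M.obj)
    (hqc : AlgSt.IsQuasiCompactMor Scheme.fppfPrecoverage π) (hqs : AlgSt.IsQuasiSeparatedMor π)
    (h : StMod.IsGoodModuli π)
    (hN : AlgSt.SmoothLocally (fun T => IsLocallyNoetherian T) 𝒳)
    (F : StMod.QCoh 𝒳) (hF : F.obj.IsLocFree) (hF' : F.obj.IsFinType)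
    (htriv : ∀ ξ : AlgSt.Points 𝒳, IsClosed ({ξ} : Set (AlgSt.Points 𝒳)) →
      ∃ Q : 𝒳.obj → Prop, Gerb.IsResGerbe Scheme.fppfPrecoverage 𝒳 ξ Q ∧
        ∃ n : ℕ, Nonempty ((StMod.comapQ (AlgSt.subIncl 𝒳 Q)).obj F ≅
          StMod.freeQ (AlgSt.fullSub 𝒳 Q) (ULift.{u} (Fin n)))) :
    ∃ G : StMod.QCoh (AlgSt.ofSp M.obj), G.obj.IsLocFree ∧ G.obj.IsFinType ∧
      Nonempty ((StMod.comapQ π).obj G ≅ F) := by
  exact K815.Descent.exists_descent h𝒳 M π hqc hqs h.2 F
    (K815.Good.exists_gd_cover h𝒳 M hM π hqc hqs h hN
      (fun W hW hne => K563.ClosedLN.exists_closed_locNoeth h𝒳 M hM π hqc hqs hN h W hW hne) F hF hF' htriv)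

end Groth.Agent.S19123
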