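import Groth.Statements.S19125
import Groth.Agent.StMod.K908.BGExt

set_option autoImplicit false
universe u
open CategoryTheory AlgebraicGeometry MonoidalCategory
open StMod

namespace Groth.Agent.S19125

/-- In the case of affine group schemes, let `S` be a quasi-separated scheme and consider an exact
sequence `1 ⟶ G' ⟶ G ⟶ G'' ⟶ 1` of affine, flat, locally finitely presented group schemes over `S`:
homomorphisms `ι : G' ⟶ G` and `q : G ⟶ G''` with `q` flat and surjective and `ι` identifying `G'`
with the kernel of `q` (the square of `ι`, `q`, `G' ⟶ 1` and the unit `1 ⟶ G''` is cartesian). Write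
`σ'`, `σ`, `σ''` for the structure functors to `(Sch/S)` of the classifying stacks `BG'`, `BG`,
`BG''` of fppf torsors, assumed quasi-compact and quasi-separated. If `G'` and `G''` are linearly
reductive (`σ'` and `σ''` cohomologically affine) then `G` is linearly reductive: `σ` is
cohomologically affine. Here an affine flat finitely presented group scheme G over a base is called
linearly reductive when the structure functor of its classifying stack BG (fppf G-torsors in
schemes) to the base is cohomologically affine: quasi-compact, quasi-separated, and pushforward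
along it takes surjections of quasi-coherent modules to maps surjective on sections over every
affine scheme etale over the base. (The printed statement is for faithfully flat, finitely
presented, separated group schemes; affine groups here.) -/
theorem result
    (S : Scheme.{u}) [QuasiSeparatedSpace S]
    (G' G G'' : Over S) [GrpObj G'] [GrpObj G] [GrpObj G'']
    [IsAffineHom G'.hom] [IsAffineHom G.hom] [IsAffineHom G''.hom]
    [Flat G'.hom] [Flat G.hom] [Flat G''.hom]
    [LocallyOfFinitePresentation G'.hom] [LocallyOfFinitePresentation G.hom]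
    [LocallyOfFinitePresentation G''.hom]
    (ι : G' ⟶ G) [IsMonHom ι] (q : G ⟶ G'') [IsMonHom q]
    (hqf : Flat q.left) (hqs : Surjective q.left)
    (hker : IsPullback ι (CartesianMonoidalCategory.toUnit G') q (MonObj.one : 𝟙_ (Over S) ⟶ G''))
    (σ' : AlgSt.BG Scheme.fppfPrecoverage G' ⥤ᵇ AlgSt.ofSch (Over.mk (𝟙 S)))
    (σ : AlgSt.BG Scheme.fppfPrecoverage G ⥤ᵇ AlgSt.ofSch (Over.mk (𝟙 S)))
    (σ'' : AlgSt.BG Scheme.fppfPrecoverage G'' ⥤ᵇ AlgSt.ofSch (Over.mk (𝟙 S)))
    (hqc' : AlgSt.IsQuasiCompactMor Scheme.fppfPrecoverage σ') (hqs' : AlgSt.IsQuasiSeparatedMor σ')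
    (hqc : AlgSt.IsQuasiCompactMor Scheme.fppfPrecoverage σ) (hqsσ : AlgSt.IsQuasiSeparatedMor σ)
    (hqc'' : AlgSt.IsQuasiCompactMor Scheme.fppfPrecoverage σ'') (hqs'' : AlgSt.IsQuasiSeparatedMor σ'')
    (h' : StMod.IsCohAffine σ') (h'' : StMod.IsCohAffine σ'') : StMod.IsCohAffine σ := by
  have h1 := K908.BGExt.isCohAffine_ext (κ := ι) (q := q) hqf hqs hker σ' σ'' h' h''
  rwa [K908.ToBase.functor_eq (BasedFunctor.comp (K908.BG.bq q) σ'') σ] at h1


end Groth.Agent.S19125
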