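import Groth.Statements.S19126
import Groth.Agent.StMod.K864.GluPts

set_option autoImplicit false
universe u
open CategoryTheory AlgebraicGeometry
open StMod

namespace Groth.Agent.S19126

/-- In the case where the open substacks cover `𝒳` and the targets are schemes, let `S` be a
quasi-separated scheme and `𝒳` an algebraic stack over `(Sch/S)` for the fppf topology, covered by
open substacks `𝒰_i` (`i : ι`; the strictly full substacks cut out by `Q i`) each admitting a
quasi-compact quasi-separated good moduli space `φ_i : 𝒰_i ⟶ Y_i` with `Y_i` a scheme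
quasi-separated over `S`. Suppose that for all `i, j` the subset of `|𝒰_i|` of points lying in `𝒰_j`
is saturated for `φ_i` (equal to the preimage of its image under `|φ_i|`). Then there are a scheme
`Y` over `S`, a quasi-compact quasi-separated good moduli space `π : 𝒳 ⟶ Y` and open immersions `e_i
: Y_i ⟶ Y` over `S` such that `π` restricted to `𝒰_i` is 2-isomorphic to (equivalently, the target
being fibred in sets, equal to) `φ_i` followed by `e_i`, and the preimage under `|π|` of the image
of `e_i` is exactly `|𝒰_i|`. Here a good moduli space is a quasi-compact quasi-separated morphism to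
an algebraic space along which pushforward takes surjections of quasi-coherent modules to maps
surjective on sections over every affine scheme etale over the target (cohomological affineness),
and for which the canonical map from the functions on any scheme etale over the target to the
sections of the pushforward of the structure sheaf is bijective. (Standing conventions of the
source: all schemes are quasi-separated and all stacks have quasi-compact separated diagonal; this
row assumes instead that each `Y_i` is quasi-separated over a quasi-separated base scheme and that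
each `φ_i` is quasi-compact and quasi-separated.) -/
theorem result
    (S : Scheme.{u}) [QuasiSeparatedSpace S]
    (𝒳 : AlgSt.Cat S) (h𝒳 : AlgSt.IsAlgStack Scheme.fppfPrecoverage 𝒳)
    (ι : Type u) (Q : ι → 𝒳.obj → Prop) (hQ : ∀ i, AlgSt.IsOpenSubstack 𝒳 (Q i) Scheme.fppfPrecoverage)
    (hcov : ∀ x : AlgSt.Points 𝒳, ∃ i, x ∈ Set.range (AlgSt.Points.map (AlgSt.subIncl 𝒳 (Q i))))
    (Y : ι → Over S) (hY : ∀ i, AlgSp.IsQuasiSeparatedSp ((AlgSp.yon S).obj (Y i)))
    (φ : ∀ i, AlgSt.fullSub 𝒳 (Q i) ⥤ᵇ AlgSt.ofSch (Y i))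
    (hqc : ∀ i, AlgSt.IsQuasiCompactMor Scheme.fppfPrecoverage (φ i))
    (hqs : ∀ i, AlgSt.IsQuasiSeparatedMor (φ i)) (hφ : ∀ i, StMod.IsGoodModuli (φ i))
    (hsat : ∀ i j, AlgSt.Points.map (φ i) ⁻¹' (AlgSt.Points.map (φ i) ''
        (AlgSt.Points.map (AlgSt.subIncl 𝒳 (Q i)) ⁻¹' Set.range (AlgSt.Points.map (AlgSt.subIncl 𝒳 (Q j))))) =
      AlgSt.Points.map (AlgSt.subIncl 𝒳 (Q i)) ⁻¹' Set.range (AlgSt.Points.map (AlgSt.subIncl 𝒳 (Q j)))) :
    ∃ (Y₀ : Over S) (π : 𝒳 ⥤ᵇ AlgSt.ofSch Y₀) (e : ∀ i, Y i ⟶ Y₀),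
      StMod.IsGoodModuli π ∧ AlgSt.IsQuasiCompactMor Scheme.fppfPrecoverage π ∧ AlgSt.IsQuasiSeparatedMor π ∧
      (∀ i, IsOpenImmersion (e i).left) ∧
      (∀ i, Nonempty (BasedFunctor.comp (AlgSt.subIncl 𝒳 (Q i)) π ≅
        BasedFunctor.comp (φ i) (AlgSt.ofSpMap ((AlgSp.yon S).map (e i))))) ∧
      (∀ i, AlgSt.Points.map π ⁻¹' Set.range (AlgSt.Points.map (AlgSt.ofSpMap ((AlgSp.yon S).map (e i)))) =
        Set.range (AlgSt.Points.map (AlgSt.subIncl 𝒳 (Q i)))) := by
  let D : K864.Glu.GMDat 𝒳 := K864.Glu.gmDat h𝒳 ι Q hQ hcov Y φ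
    (fun i E hE => K907.GM.exact_and_pres (hQ i).2.1 (hY i) (hqc i) (hqs i) (hφ i).1 E hE)
    (fun i => (hφ i).2) hsat
  obtain ⟨G⟩ := D.nonempty_glued
  have hA : ∀ i, AlgSt.IsAlgStack Scheme.fppfPrecoverage (AlgSt.fullSub 𝒳 (D.Q i)) := fun i => (hQ i).2.1
  exact ⟨G.Y₀, G.π, G.e, G.isGoodModuli h𝒳 hA hqc hqs hφ, G.isQuasiCompactMor h𝒳 hA hqc,
    G.isQuasiSeparatedMor h𝒳 hA hqs, G.opn, fun i => ⟨eqToIso (G.comp_subIncl i)⟩, fun i => G.preimage_eq i⟩

end Groth.Agent.S19126
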