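import Groth.Statements.S19127
import Groth.Agent.FrobAlg.K675.HSLCore
import Groth.Agent.FrobAlg.K675.AdicAct
import Groth.Agent.CalgA.H1Union
import Groth.Agent.S0336
import Mathlib.RingTheory.Smooth.AdicCompletion
import Mathlib.RingTheory.MvPolynomial.Ideal
import Mathlib.Algebra.Field.ZMod
import Mathlib.Algebra.Algebra.ZMod
import Mathlib.RingTheory.RegularLocalRing.Polynomial
import Mathlib.FieldTheory.Perfect

set_option autoImplicit false
universe u v
open FrobAlg

namespace Groth.Agent.S19127

open IsLocalRing in
/-- A coefficient field of the completion. -/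
theorem exists_coeff (p : ℕ) [Fact p.Prime] (A : Type u) [CommRing A] [IsNoetherianRing A]
    [IsLocalRing A] [CharP A p] :
    CharP (ResidueField A) p ∧ ∃ g : ResidueField A →+* AdicCompletion (maximalIdeal A) A,
      ∀ c, AdicCompletion.evalOneₐ (maximalIdeal A) (g c) = c := by
  have hk : CharP (ResidueField A) p := by
    rw [CharP.charP_iff_prime_eq_zero (Fact.out : p.Prime), ← map_natCast (residue A),
      CharP.cast_eq_zero, map_zero]
  refine ⟨hk, ?_⟩
  letI : Algebra (ZMod p) A := ZMod.algebra A p
  have hfs : Algebra.FormallySmooth (ZMod p) (ResidueField A) :=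
    Groth.Agent.CalgA.H1Union.formallySmooth_of_perfectField (ZMod p) (ResidueField A)
  obtain ⟨g, hg⟩ := Algebra.FormallySmooth.exists_adicCompletionEvalOneₐ_comp_eq
    (R := ZMod p) (A := ResidueField A) (I := maximalIdeal A) (AlgHom.id (ZMod p) (ResidueField A))
  exact ⟨g, fun c => DFunLike.congr_fun hg c⟩

theorem isMaximal_span_X (k : Type u) [Field k] (d : ℕ) :
    (Ideal.span (Set.range (MvPolynomial.X : Fin d → MvPolynomial (Fin d) k))).IsMaximal := by
  have h : Ideal.span (Set.range (MvPolynomial.X : Fin d → MvPolynomial (Fin d) k)) =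
      RingHom.ker (MvPolynomial.constantCoeff (R := k) (σ := Fin d)) := by
    ext f
    have h1 := MvPolynomial.mem_pow_idealOfVars_iff' 1 f
    rw [pow_one] at h1
    refine h1.trans ?_
    rw [RingHom.mem_ker, MvPolynomial.constantCoeff_eq]
    constructor
    · intro h2
      exact h2 0 (by simp)
    · intro h2 x hx
      have : x = 0 := by
        rw [Nat.lt_one_iff, Finsupp.degree_eq_zero_iff] at hx
        exact hx
      rw [this, h2]
  rw [h]
  exact RingHom.ker_isMaximal_of_surjective _ (fun c => ⟨MvPolynomial.C c, by simp⟩)

open IsLocalRing K675.ArtTors in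
/-- Let p be a prime, A a Noetherian local ring of characteristic p with maximal ideal m, and M an
A-module which is cofinite, meaning that every element of M is annihilated by some power of m and
that the socle of M (the elements annihilated by m) is a finitely generated A-module. Let φ : M → M
be an additive map that is semilinear for the Frobenius of A, φ(a x) = a^p φ(x). If φ is locally
nilpotent, i.e. every element of M is annihilated by some iterate of φ, then φ is nilpotent: one
iterate of φ is zero on all of M. -/
theorem result
    (p : ℕ) [Fact p.Prime] (A : Type u) [CommRing A] [IsNoetherianRing A] [IsLocalRing A] [CharP A p]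
    (M : Type v) [AddCommGroup M] [Module A M]
    (htors : LocCoh.IsPowerTorsion (IsLocalRing.maximalIdeal A) M)
    (hsoc : Module.Finite A ↥(LocCoh.torsionBy (IsLocalRing.maximalIdeal A) M))
    (φ : M →ₛₗ[frobenius A p] M)
    (hloc : ∀ x : M, ∃ n : ℕ, (⇑φ)^[n] x = 0) :
    ∃ n : ℕ, ∀ x : M, (⇑φ)^[n] x = 0 := by
  classical
  obtain ⟨hk, g, hg⟩ := exists_coeff p A
  obtain ⟨d, x, hx⟩ := (Submodule.fg_iff_exists_fin_generating_family).1
    ((isNoetherianRing_iff_ideal_fg A).1 inferInstance (maximalIdeal A))
  have hxm : ∀ i, x i ∈ maximalIdeal A := fun i => by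
    rw [← hx]; exact Submodule.subset_span ⟨i, rfl⟩
  let S := MvPolynomial (Fin d) (ResidueField A)
  let θ : S →+* AdicCompletion (maximalIdeal A) A :=
    MvPolynomial.eval₂Hom g (fun i => algebraMap A _ (x i))
  letI : Module (AdicCompletion (maximalIdeal A) A) M := K675.AdicAct.module htors
  letI : Module S M := Module.compHom M θ
  have hsm : ∀ (s : S) (m : M), s • m = θ s • m := fun _ _ => rfl
  have hX : ∀ i (m : M), (MvPolynomial.X i : S) • m = x i • m := by
    intro i m
    rw [hsm]
    have h1 : θ (MvPolynomial.X i) = algebraMap A _ (x i) := MvPolynomial.eval₂Hom_X' _ _ _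
    rw [h1]
    exact K675.AdicAct.algebraMap_smul_eq htors (x i) m
  have hXpow : ∀ i (j : ℕ) (m : M), (MvPolynomial.X i : S) ^ j • m = x i ^ j • m := by
    intro i j
    induction j with
    | zero => intro m; rw [pow_zero, pow_zero, one_smul, one_smul]
    | succ j ih => intro m; rw [pow_succ, mul_smul, hX, ih, pow_succ, mul_smul]
  let ψ : M →ₛₗ[frobenius S p] M :=
    { toFun := φ
      map_add' := map_add φ
      map_smul' := fun s m => by
        change φ (θ s • m) = θ (s ^ p) • φ m
        rw [map_pow]
        exact K675.AdicAct.map_smul_of_semilinear htors p φ (θ s) m }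
  have hF : (frobenius S p).Flat := (Groth.Agent.S0336.result p S).1 inferInstance
  refine K675.HSLCore.core (R := S) (M := M) hF (MvPolynomial.X : Fin d → S)
    (isMaximal_span_X _ d) (fun i m => ?_) ?_ ψ hloc
  · obtain ⟨n, hn⟩ := htors m
    exact ⟨n, by rw [hXpow]; exact hn _ (Ideal.pow_mem_pow (hxm i) n)⟩
  · -- the socle
    have hmem : ∀ m : M, m ∈ tb Finset.univ (MvPolynomial.X : Fin d → S) M ↔
        m ∈ LocCoh.torsionBy (maximalIdeal A) M := by
      intro m
      rw [mem_tb, Submodule.mem_torsionBySet_iff]
      constructor
      · intro h1 a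
        have key : ∀ a ∈ Submodule.span A (Set.range x), a • m = 0 := by
          intro a ha
          induction ha using Submodule.span_induction with
          | mem a ha =>
            obtain ⟨i, rfl⟩ := ha
            have := h1 i (Finset.mem_univ i)
            rwa [hX] at this
          | zero => exact zero_smul _ _
          | add a b _ _ ha hb => rw [add_smul, ha, hb, add_zero]
          | smul c a _ ha => rw [smul_eq_mul, mul_smul, ha, smul_zero]
        exact key a (by rw [hx]; exact a.2)
      · intro h1 i _
        rw [hX]
        exact h1 ⟨x i, hxm i⟩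
    -- constants act through the residue field
    have hconst : ∀ (a : A) (m : M), m ∈ LocCoh.torsionBy (maximalIdeal A) M →
        a • m = (MvPolynomial.C (residue A a) : S) • m := by
      intro a m hm
      rw [Submodule.mem_torsionBySet_iff] at hm
      obtain ⟨b, hb⟩ := Ideal.Quotient.mk_surjective
        (AdicCompletion.evalₐ (maximalIdeal A) 1 (g (residue A a)))
      have h1 : θ (MvPolynomial.C (residue A a)) = g (residue A a) := MvPolynomial.eval₂Hom_C _ _ _
      have h2 : (MvPolynomial.C (residue A a) : S) • m = b • m := by
        rw [hsm, h1]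
        exact K675.AdicAct.smul_eq htors (n := 1) (fun c hc => by
          rw [pow_one] at hc
          exact hm ⟨c, hc⟩) hb.symm
      rw [h2, ← sub_eq_zero, ← sub_smul]
      have h3 : a - b ∈ maximalIdeal A := by
        have h4 := hg (residue A a)
        rw [← AdicCompletion.factorₐ_evalₐ_one, ← hb, Ideal.Quotient.factor_mk] at h4
        exact (Ideal.Quotient.eq (I := maximalIdeal A)).1 h4.symm
      exact hm ⟨_, h3⟩
    obtain ⟨s, hs⟩ := hsoc.fg_top
    have hfin : (tb Finset.univ (MvPolynomial.X : Fin d → S) M).FG := by
      refine ⟨s.image Subtype.val, ?_⟩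
      apply le_antisymm
      · rw [Submodule.span_le]
        intro m hm
        rw [Finset.coe_image] at hm
        obtain ⟨z, -, rfl⟩ := hm
        exact (hmem _).2 z.2
      · intro m hm
        have h1 : (⟨m, (hmem m).1 hm⟩ : LocCoh.torsionBy (maximalIdeal A) M) ∈
            Submodule.span A (s : Set (LocCoh.torsionBy (maximalIdeal A) M)) := by
          rw [hs]; trivial
        have key : ∀ z ∈ Submodule.span A (s : Set (LocCoh.torsionBy (maximalIdeal A) M)),
            (z : M) ∈ Submodule.span S ((s.image Subtype.val : Finset M) : Set M) := by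
          intro z hz
          induction hz using Submodule.span_induction with
          | mem z hz => exact Submodule.subset_span (Finset.mem_coe.2 (Finset.mem_image_of_mem _ hz))
          | zero => exact zero_mem _
          | add a b _ _ ha hb => exact add_mem ha hb
          | smul c a _ ha =>
            rw [Submodule.coe_smul, hconst c a a.2]
            exact Submodule.smul_mem _ _ ha
        exact key _ h1
    have : Module.Finite S (tb Finset.univ (MvPolynomial.X : Fin d → S) M) :=
      Module.Finite.iff_fg.2 hfin
    exact isNoetherian_of_isNoetherianRing_of_finite S _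

end Groth.Agent.S19127
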