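import Groth.Statements.S19128
-- import your own Groth.Agent.* helpers here
import Groth.Agent.EtDual.K152.GaE

set_option autoImplicit false
universe u
open CategoryTheory CategoryTheory.Limits AlgebraicGeometry Opposite
open EtDual

namespace Groth.Agent.S19128

/-- Let p be a prime and R a Noetherian local ring of characteristic p which is strictly henselian
(henselian with separably closed residue field) and Cohen–Macaulay, of Krull dimension d; let Y =
Spec R with closed point y and punctured spectrum U = Y - {y}. Then the local cohomology groups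
H^i_y(Y_et, Z/p) of the constant étale sheaf Z/p with support in the closed point (right derived
functors of sections vanishing on U) are zero for every i < d. -/
theorem result
    (p : ℕ) [Fact p.Prime] (R : Type u) [CommRing R] [LocCoh.IsCohenMacaulayLocalRing R]
    [HenselianLocalRing R] [IsSepClosed (IsLocalRing.ResidueField R)] [CharP R p]
    (i : ℕ) (hi : (i : WithBot ℕ∞) < ringKrullDim R) :
    IsZero ((EtDual.HY (FEt.puncturedSpec R).ι i).obj (EtCoh.const (Spec (CommRingCat.of R)) (ZMod p))) := by
  obtain ⟨d, hd⟩ := Groth.Agent.CalgA.RegBasic.ringKrullDim_eq_natCast R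
  have hdep : LocCoh.depth R R = d := by
    have h1 : Module.supportDim R R = ((LocCoh.depth R R : ℕ∞) : WithBot ℕ∞) :=
      LocCoh.IsCohenMacaulayLocalRing.supportDim_eq_depth
    rw [Module.supportDim_self_eq_ringKrullDim, hd] at h1
    exact (WithBot.coe_inj.1 (h1.symm.trans rfl : ((LocCoh.depth R R : ℕ∞) : WithBot ℕ∞) = ((d : ℕ∞) : WithBot ℕ∞)))
  have hid : i < d := by
    rw [hd] at hi
    exact_mod_cast hi
  obtain ⟨e⟩ := K152.LocExt.nonempty_HYIso (FEt.puncturedSpec R).ι i
  have h := K152.GaE.subsingleton_const R p d hdep i hid
  refine IsZero.of_iso ?_ (e.app (EtCoh.const (Spec (CommRingCat.of R)) (ZMod p)))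
  have : Subsingleton ((Abelian.extFunctorObj.{u + 1} (K152.LocExt.K (FEt.puncturedSpec R).ι) i).obj
      (EtCoh.const (Spec (CommRingCat.of R)) (ZMod p)) : Type (u + 1)) := h
  exact AddCommGrpCat.isZero_of_subsingleton _

end Groth.Agent.S19128
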