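import Groth.Statements.S19129
-- import your own Groth.Agent.* helpers here
import Groth.Agent.EtDual.K152.GaE
import Groth.Agent.Ega4A.RegCM

set_option autoImplicit false
universe u
open CategoryTheory CategoryTheory.Limits AlgebraicGeometry Opposite
open EtDual

namespace Groth.Agent.S19129

/-- Let p be a prime and R a regular local ring of characteristic p which is strictly henselian
(henselian with separably closed residue field), of Krull dimension d > 0; let Y = Spec R with
closed point y and punctured spectrum U. Then the local cohomology groups H^i_y(Y_et, Z/p) of the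
constant étale sheaf Z/p with support in the closed point vanish for every i ≤ d; in particular
H^d_y(Y_et, Z/p) = 0. -/
theorem result
    (p : ℕ) [Fact p.Prime] (R : Type u) [CommRing R] [IsRegularLocalRing R]
    [HenselianLocalRing R] [IsSepClosed (IsLocalRing.ResidueField R)] [CharP R p]
    (d : ℕ) (hd : ringKrullDim R = d) (hd0 : 0 < d) (i : ℕ) (hi : i ≤ d) :
    IsZero ((EtDual.HY (FEt.puncturedSpec R).ι i).obj (EtCoh.const (Spec (CommRingCat.of R)) (ZMod p))) := by
  have hcm := Groth.Agent.Ega4A.RegCM.isCohenMacaulayLocalRing_of_isRegularLocalRing R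
  have hdep : LocCoh.depth R R = d := by
    have h1 : Module.supportDim R R = ((LocCoh.depth R R : ℕ∞) : WithBot ℕ∞) :=
      LocCoh.IsCohenMacaulayLocalRing.supportDim_eq_depth
    rw [Module.supportDim_self_eq_ringKrullDim, hd] at h1
    exact (WithBot.coe_inj.1 (h1.symm.trans rfl : ((LocCoh.depth R R : ℕ∞) : WithBot ℕ∞) = ((d : ℕ∞) : WithBot ℕ∞)))
  obtain ⟨e⟩ := K152.LocExt.nonempty_HYIso (FEt.puncturedSpec R).ι i
  have h : Subsingleton (Abelian.Ext (K152.LocExt.K (K152.GaPunct.jp R))
      (EtCoh.const (Spec (CommRingCat.of R)) (ZMod p)) i) := by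
    rcases Nat.lt_or_ge i d with hid | hid
    · exact K152.GaE.subsingleton_const R p d hdep i hid
    · obtain rfl : i = d := le_antisymm hi hid
      obtain ⟨n, rfl⟩ := Nat.exists_eq_succ_of_ne_zero hd0.ne'
      exact K152.GaE.subsingleton_const_top R p inferInstance n hd hdep
  refine IsZero.of_iso ?_ (e.app (EtCoh.const (Spec (CommRingCat.of R)) (ZMod p)))
  have : Subsingleton ((Abelian.extFunctorObj.{u + 1} (K152.LocExt.K (FEt.puncturedSpec R).ι) i).obj
      (EtCoh.const (Spec (CommRingCat.of R)) (ZMod p)) : Type (u + 1)) := h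
  exact AddCommGrpCat.isZero_of_subsingleton _

end Groth.Agent.S19129
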