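import Groth.Statements.S19130
import Groth.Agent.S0626
import Groth.Agent.S0627
import Groth.Agent.Etcore.NormalAcyclic
import Groth.Agent.Etrest.SHPoint
import Groth.Agent.EtpbcA.CdExact

set_option autoImplicit false
universe u
open CategoryTheory CategoryTheory.Limits AlgebraicGeometry Opposite
open EtCoh

namespace Groth.Agent.S19130

/-- Let p be a prime and Y an integral scheme which is normal (every local ring is integrally closed in
its fraction field) and whose function field is algebraically closed. Then the étale cohomology of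
the constant sheaf Z/p on Y is Z/p in degree 0 and vanishes in positive degrees: H^0(Y_et, Z/p) has
exactly p elements and H^i(Y_et, Z/p) = 0 for i > 0. Moreover, for every nonempty open subscheme j :
U → Y, the unit morphism from the constant sheaf Z/p on Y_et to j_* of its restriction to U is an
isomorphism. -/
theorem result
    (p : ℕ) [Fact p.Prime] (Y : Scheme.{u}) [IsIntegral Y]
    (hnorm : ∀ y : Y, IsIntegrallyClosed (Y.presheaf.stalk y)) [IsAlgClosed Y.functionField] :
    Nat.card (EtCoh.H Y (EtCoh.const Y (ZMod p)) 0) = p ∧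
      (∀ i : ℕ, 0 < i → Subsingleton (EtCoh.H Y (EtCoh.const Y (ZMod p)) i)) ∧
      ∀ U : Y.Opens, (U : Set Y).Nonempty →
        IsIso ((EtCoh.pullPushAdj U.ι).unit.app (EtCoh.const Y (ZMod p))) := by
  refine ⟨?_, ?_, fun U hU => Groth.Agent.S0627.result Y hnorm U hU (ZMod p)⟩
  · obtain ⟨e⟩ := Groth.Agent.Etrest.SHPoint.nonempty_H0_const Y (ZMod p)
    rw [Nat.card_congr e.toEquiv, Nat.card_zmod]
  · intro i hi
    let g : Spec (CommRingCat.of Y.functionField) ⟶ Y := Y.fromSpecStalk (genericPoint Y)
    have h1 : IsIso ((EtCoh.pullPushAdj g).unit.app (EtCoh.const Y (ZMod p))) :=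
      Groth.Agent.S0626.result Y hnorm (ZMod p)
    have hsep : IsSepClosed Y.functionField := inferInstance
    have h2 : Subsingleton (EtCoh.H Y ((EtCoh.push g).obj
        ((EtCoh.pull g).obj (EtCoh.const Y (ZMod p)))) i) := by
      rw [Groth.Agent.EtpbcA.CdExact.H_push_iff_of_isZero g _
        (fun q => Groth.Agent.Etcore.NormalAcyclic.isZero_Rpush_point g _ (q + 1) (by omega)) i]
      exact Groth.Agent.Etrest.SHPoint.subsingleton_H_of_sepClosed _ _ i hi
    have e : EtCoh.H Y (EtCoh.const Y (ZMod p)) i ≃ EtCoh.H Y ((EtCoh.push g).obj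
        ((EtCoh.pull g).obj (EtCoh.const Y (ZMod p)))) i :=
      (((EtCoh.HF Y i).mapIso (asIso ((EtCoh.pullPushAdj g).unit.app
        (EtCoh.const Y (ZMod p))))).addCommGroupIsoToAddEquiv).toEquiv
    exact e.subsingleton

end Groth.Agent.S19130
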