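import Groth.Statements.S19132
import Groth.Agent.Dual.K175.LDBounded
import Groth.Agent.Localalg.DDual
import Groth.Agent.LoccohA.DzTrunc

set_option autoImplicit false
universe u
open CategoryTheory
attribute [local instance] HasDerivedCategory.standard
open Dual

namespace Groth.Agent.S19132

/-- In the case of a local ring whose dualizing complex is normalized, let A be a Noetherian local ring
with residue field k and ω a normalized dualizing complex over A (Hom(k, ω[i]) = 0 in D(A) for i ≠
0), and let N be an object of D(A) which is bounded with finitely generated cohomology modules and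
concentrated in nonnegative degrees (H^i(N) = 0 for i < 0). Then RHom_A(N, ω) is concentrated in
nonpositive degrees: the group of morphisms N → ω[i] in D(A) vanishes for every i > 0. (For the
local ring at a point x of a scheme of finite type over the base, whose dualizing complex is
normalized only up to the shift by the integer d(x), the corresponding bound is degree −d(x); that
case is this statement applied to the shifted complex.) -/
theorem result
    (A : Type u) [CommRing A] [IsLocalRing A] [IsNoetherianRing A]
    (ω : Dual.D A) (hω : Dual.IsDualizing A ω) (hn : Dual.IsNormalized A ω)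
    (N : Dual.D A) (hfin : ∀ i : ℤ, Module.Finite A (Dual.HD A N i))
    (b : ℤ) (hb : ∀ i : ℤ, b < i → Subsingleton (Dual.HD A N i))
    (hge : ∀ i : ℤ, i < 0 → Subsingleton (Dual.HD A N i))
    (i : ℤ) (hi : 0 < i) :
    Subsingleton (N ⟶ ω⟦i⟧) := by
  have hc := K175.LDBounded.isGE_of_subsingleton N 0 hge
  have hd := K175.LDBounded.isLE_of_subsingleton N b hb
  let P : ObjectProperty (Dual.D A) := fun K => ∀ j : ℤ, 0 < j → Subsingleton (K ⟶ ω⟦j⟧)
  have hPiso : P.IsClosedUnderIsomorphisms :=
    ⟨fun e h j hj => by
      have := h j hj
      exact (Linear.homCongr A e (Iso.refl (ω⟦j⟧))).symm.toEquiv.subsingleton⟩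
  have hP : P N := by
    refine Groth.Agent.LoccohB.Devissage.devissage P ?_ ?_ N 0 b ?_
    · intro Z hZ j _
      exact ⟨fun f g => hZ.eq_of_src f g⟩
    · intro T hT h1 h3 j hj
      have := h1 j hj
      have := h3 j hj
      refine subsingleton_of_forall_eq 0 fun g => ?_
      obtain ⟨g', hg'⟩ := Pretriangulated.Triangle.yoneda_exact₂ T hT g (Subsingleton.elim _ _)
      rw [hg', Subsingleton.elim g' 0, Limits.comp_zero]
    · intro k j hj
      by_cases hk : k < 0
      · have h0 := hge k hk
        have hz : Limits.IsZero ((DerivedCategory.homologyFunctor (ModuleCat.{u} A) k).obj N) :=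
          ModuleCat.isZero_of_subsingleton _
        have hz' := (DerivedCategory.singleFunctor (ModuleCat.{u} A) k).map_isZero hz
        exact ⟨fun f g => hz'.eq_of_src f g⟩
      · have hf := hfin k
        have h1 := Groth.Agent.Localalg.DDual.subsingleton_of_pos hω hn
          (Dual.HD A N k) (k + j) (by omega)
        exact (Groth.Agent.LoccohA.DzTrunc.singleShiftEquiv A
          ((DerivedCategory.homologyFunctor (ModuleCat.{u} A) k).obj N) ω j k (k + j)
            (by omega)).toEquiv.subsingleton
  exact hP i hi

end Groth.Agent.S19132
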