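import Groth.Statements.S19133
import Groth.Agent.LocCoh.K103.HLFinal

set_option autoImplicit false
universe u
open CategoryTheory
open LocCoh

namespace Groth.Agent.S19133

/-- Let p be a prime and R a Noetherian local normal domain of characteristic p which is excellent and
F-finite (R is a finitely generated module over itself through the Frobenius), and let R⁺ be the
absolute integral closure of R, i.e. the integral closure of R in an algebraic closure of its
fraction field. Then R⁺ is Cohen–Macaulay over R in the sense of local cohomology: for every prime
ideal q of R and every i < height q, the i-th local cohomology module of the localization (R⁺)_q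
with support in the maximal ideal of R_q vanishes. -/
theorem result
    (p : ℕ) [Fact p.Prime] (R : Type u) [CommRing R] [IsDomain R] [IsNoetherianRing R] [IsLocalRing R]
    [CharP R p] (hexc : EGA4.IsExcellent R) (hnorm : IsIntegrallyClosed R)
    [Module.Finite R (FrobAlg.Twist p R)]
    (q : Ideal R) [q.IsPrime] (i : ℕ) (hi : (i : ℕ∞) < q.height) :
    Subsingleton (LocCoh.H (IsLocalRing.maximalIdeal (Localization.AtPrime q)) i
      (LocalizedModule q.primeCompl ↥(integralClosure R (AlgebraicClosure (FractionRing R))))) := by
  have hinj : Function.Injective (algebraMap R (AlgebraicClosure (FractionRing R))) := by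
    rw [IsScalarTower.algebraMap_eq R (FractionRing R) (AlgebraicClosure (FractionRing R)),
      RingHom.coe_comp]
    exact (algebraMap (FractionRing R) (AlgebraicClosure (FractionRing R))).injective.comp
      (IsFractionRing.injective R (FractionRing R))
  have hchar : CharP (AlgebraicClosure (FractionRing R)) p :=
    charP_of_injective_algebraMap hinj p
  exact K103.HLFinal.final p (AlgebraicClosure (FractionRing R)) R hinj hexc.2.1 hexc.2.2.1 q i hi

end Groth.Agent.S19133
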