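import Groth.Statements.S19134
import Groth.Agent.Dual.K175.GMArt

set_option autoImplicit false
universe u
open CategoryTheory
attribute [local instance] HasDerivedCategory.standard
open Dual

namespace Groth.Agent.S19134

/-- Let A be a Noetherian local ring with maximal ideal m which is m-adically complete, and ω a
normalized dualizing complex over A (Hom(k, ω[i]) = 0 in D(A) for i ≠ 0); assume the total right
derived functor RΓ_m of the m-power-torsion functor and the derived m-adic completion functor (left
adjoint to the inclusion of derived complete objects, with unit K → K^) exist on D(A). Call an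
A-module N cofinite when every element of N is killed by a power of m and the socle of N (the
elements killed by m) is finitely generated. Then RΓ_m and derived completion are mutually inverse
equivalences between the bounded complexes with finitely generated cohomology modules and the
bounded complexes with cofinite cohomology modules, the comparison maps being the canonical ones:
(a) for M bounded with finitely generated cohomology, RΓ_m M is bounded, every H^i(RΓ_m M) is
cofinite, the derived completion of the canonical map RΓ_m M → M is an isomorphism, and the unit M →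
M^ is an isomorphism; (b) for K bounded with cofinite cohomology modules, the derived completion K^
is bounded with finitely generated cohomology, RΓ_m applied to the unit K → K^ is an isomorphism,
and the canonical map RΓ_m K → K is an isomorphism; (c) for a cofinite module N, the derived
completion of N placed in degree 0 is perverse coherent: Hom(N[0]^, ω[i]) = 0 for every i ≠ 0. (The
published proposition also asserts that these equivalences exchange the perverse t-structure,
defined by RHom(−, ω), with the standard one; that exactness is not part of this statement.) -/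
theorem result
    (A : Type u) [CommRing A] [IsLocalRing A] [IsNoetherianRing A]
    [IsAdicComplete (IsLocalRing.maximalIdeal A) A]
    (ω : Dual.D A) (hω : Dual.IsDualizing A ω) (hn : Dual.IsNormalized A ω)
    [DRing.HasRgammaI (IsLocalRing.maximalIdeal A)] [DRing.HasDerivedCompletion (IsLocalRing.maximalIdeal A)] :
    (∀ M : Dual.D A, (∀ i : ℤ, Module.Finite A (Dual.HD A M i)) →
      (∃ a b : ℤ, ∀ i : ℤ, (i < a ∨ b < i) → Subsingleton (Dual.HD A M i)) →
        (∃ a b : ℤ, ∀ i : ℤ, (i < a ∨ b < i) →
          Subsingleton (Dual.HD A ((DRing.RgammaI (IsLocalRing.maximalIdeal A)).obj M) i)) ∧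
        (∀ i : ℤ, LocCoh.IsPowerTorsion (IsLocalRing.maximalIdeal A)
            (Dual.HD A ((DRing.RgammaI (IsLocalRing.maximalIdeal A)).obj M) i) ∧
          Module.Finite A ↥(LocCoh.torsionBy (IsLocalRing.maximalIdeal A)
            (Dual.HD A ((DRing.RgammaI (IsLocalRing.maximalIdeal A)).obj M) i))) ∧
        IsIso ((DRing.derivedCompletion (IsLocalRing.maximalIdeal A)).map
          ((DRing.RgammaIε (IsLocalRing.maximalIdeal A)).app M)) ∧
        IsIso (DRing.toDerivedCompletion (IsLocalRing.maximalIdeal A) M)) ∧
    (∀ K : Dual.D A, (∃ a b : ℤ, ∀ i : ℤ, (i < a ∨ b < i) → Subsingleton (Dual.HD A K i)) →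
      (∀ i : ℤ, LocCoh.IsPowerTorsion (IsLocalRing.maximalIdeal A) (Dual.HD A K i) ∧
        Module.Finite A ↥(LocCoh.torsionBy (IsLocalRing.maximalIdeal A) (Dual.HD A K i))) →
        (∀ i : ℤ, Module.Finite A
          (Dual.HD A ((DRing.derivedCompletion (IsLocalRing.maximalIdeal A)).obj K).obj i)) ∧
        (∃ a b : ℤ, ∀ i : ℤ, (i < a ∨ b < i) → Subsingleton
          (Dual.HD A ((DRing.derivedCompletion (IsLocalRing.maximalIdeal A)).obj K).obj i)) ∧
        IsIso ((DRing.RgammaI (IsLocalRing.maximalIdeal A)).map
          (DRing.toDerivedCompletion (IsLocalRing.maximalIdeal A) K)) ∧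
        IsIso ((DRing.RgammaIε (IsLocalRing.maximalIdeal A)).app K)) ∧
    (∀ (N : Type u) [AddCommGroup N] [Module A N],
      LocCoh.IsPowerTorsion (IsLocalRing.maximalIdeal A) N →
      Module.Finite A ↥(LocCoh.torsionBy (IsLocalRing.maximalIdeal A) N) →
        ∀ i : ℤ, i ≠ 0 → Subsingleton
          (((DRing.derivedCompletion (IsLocalRing.maximalIdeal A)).obj (Dual.inD A N)).obj ⟶ ω⟦i⟧)) := by
  have hIfg : (IsLocalRing.maximalIdeal A).FG := IsNoetherian.noetherian _
  -- cofinite = Artinian
  have hart : ∀ (N : Type u) [AddCommGroup N] [Module A N],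
      LocCoh.IsPowerTorsion (IsLocalRing.maximalIdeal A) N →
      Module.Finite A ↥(LocCoh.torsionBy (IsLocalRing.maximalIdeal A) N) → IsArtinian A N := by
    intro N _ _ h1 h2
    rw [Localalg.Matlis.isArtinian_iff]
    exact ⟨h1, Module.Finite.of_restrictScalars_finite A _ _⟩
  have hart' : ∀ (N : Type u) [AddCommGroup N] [Module A N], IsArtinian A N →
      LocCoh.IsPowerTorsion (IsLocalRing.maximalIdeal A) N ∧
      Module.Finite A ↥(LocCoh.torsionBy (IsLocalRing.maximalIdeal A) N) := by
    intro N _ _ h
    obtain ⟨h1, h2⟩ := (Localalg.Matlis.isArtinian_iff N).1 h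
    exact ⟨h1, Module.Finite.trans (A ⧸ IsLocalRing.maximalIdeal A) _⟩
  obtain ⟨E, _, _, f, hf⟩ :=
    Localalg.InjHull.exists_injective_hull A (IsLocalRing.ResidueField A)
  -- completion of an object with a model
  have hmodel : ∀ (K M : Dual.D A) (α : K ⟶ M), K175.GMArt.FinB M →
      LoccohB.FInv.IsApprox (IsLocalRing.maximalIdeal A) α →
      Nonempty (M ≅ ((DRing.derivedCompletion (IsLocalRing.maximalIdeal A)).obj K).obj) := by
    intro K M α hM hα
    have hc := K175.GMEquiv.isDerivedComplete_of_finite (IsLocalRing.maximalIdeal A) M hM.fin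
    have h1 := K175.GMEquiv.isIso_completion_of_isApprox hIfg hα
    have h2 := K175.GMEquiv.isIso_unit M hc
    exact ⟨asIso (DRing.toDerivedCompletion (IsLocalRing.maximalIdeal A) M) ≪≫
      (ObjectProperty.ι (DRing.IsDerivedComplete (IsLocalRing.maximalIdeal A))).mapIso
        (asIso ((DRing.derivedCompletion (IsLocalRing.maximalIdeal A)).map α)).symm⟩
  refine ⟨fun M hM hb => ?_, fun K hb hK => ?_, fun N _ _ hN1 hN2 => ?_⟩
  · obtain ⟨c, d, hcd⟩ := hb
    have hGE : M.IsGE c := K175.LDBounded.isGE_of_subsingleton M c fun i hi => hcd i (Or.inl hi)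
    have hLE : M.IsLE d := K175.LDBounded.isLE_of_subsingleton M d fun i hi => hcd i (Or.inr hi)
    have key := K175.LDBounded.rgamma_equiv ω hω hn E f hf M c d hGE hLE hM
    obtain ⟨a, b, hJ⟩ := K175.GMArt.hom_omega hω M c d hGE hLE hM
    refine ⟨⟨-b, -a, fun i hi => ?_⟩, fun i => ?_, ?_, ?_⟩
    · obtain ⟨e⟩ := key i
      have h3 : Subsingleton (M ⟶ ω⟦-i⟧) := hJ.2 (-i) (by omega)
      have h4 : Subsingleton ((M ⟶ ω⟦-i⟧) →ₗ[A] E) :=
        ⟨fun a b => LinearMap.ext fun x => by rw [Subsingleton.elim x 0, map_zero, map_zero]⟩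
      exact e.toEquiv.subsingleton
    · obtain ⟨e⟩ := key i
      have h3 : Module.Finite A (M ⟶ ω⟦-i⟧) := hJ.1 (-i)
      have h4 := Localalg.Matlis.isArtinian_dual hf (M ⟶ ω⟦-i⟧)
      exact hart' _ (isArtinian_of_linearEquiv e.symm)
    · exact K175.GMEquiv.isIso_completion_of_isApprox hIfg (LoccohB.RHomApprox.isApprox_ε _ M)
    · exact K175.GMEquiv.isIso_unit M (K175.GMEquiv.isDerivedComplete_of_finite _ M hM)
  · have hart1 : ∀ i : ℤ, IsArtinian A (Dual.HD A K i) := fun i => hart _ (hK i).1 (hK i).2
    obtain ⟨M, α, hM, hα⟩ := K175.GMArt.hasModel_of_artinian hω hn K hb hart1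
    obtain ⟨e⟩ := hmodel K M α hM hα
    have hF := hM.of_iso e
    refine ⟨hF.fin, hF.bdd, ?_, ?_⟩
    · have hc := K175.GMEquiv.isDerivedComplete_of_finite (IsLocalRing.maximalIdeal A) M hM.fin
      have h1 := K175.GMEquiv.isIso_completion_of_isApprox hIfg hα
      have h2 := K175.GMEquiv.isIso_unit M hc
      have h3 := (DRing.derivedCompletionAdj (IsLocalRing.maximalIdeal A)).unit.naturality α
      have h4 : IsIso ((ObjectProperty.ι (DRing.IsDerivedComplete (IsLocalRing.maximalIdeal A))).map
        ((DRing.derivedCompletion (IsLocalRing.maximalIdeal A)).map α)) := inferInstance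
      have h5 : DRing.toDerivedCompletion (IsLocalRing.maximalIdeal A) K =
          α ≫ DRing.toDerivedCompletion (IsLocalRing.maximalIdeal A) M ≫
            inv ((ObjectProperty.ι (DRing.IsDerivedComplete (IsLocalRing.maximalIdeal A))).map
              ((DRing.derivedCompletion (IsLocalRing.maximalIdeal A)).map α)) := by
        rw [← Category.assoc, IsIso.eq_comp_inv]
        exact h3.symm
      have h6 := K175.GMEquiv.isIso_rgamma_of_isApprox hα
      rw [h5, Functor.map_comp]
      infer_instance
    · exact LoccohB.RGammaTors.isIso_ε_of_torsion _ K fun i => (hK i).1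
  · intro i hi
    have hNart := hart N hN1 hN2
    obtain ⟨M, α, hM, hα⟩ := K175.GMArt.hasModel_inD hω hn N
    obtain ⟨e⟩ := hmodel _ M α hM hα
    obtain ⟨c, d, hcd⟩ := hM.bdd
    have hGE : M.IsGE c := K175.LDBounded.isGE_of_subsingleton M c fun i hi => hcd i (Or.inl hi)
    have hLE : M.IsLE d := K175.LDBounded.isLE_of_subsingleton M d fun i hi => hcd i (Or.inr hi)
    obtain ⟨r⟩ := hα.nonempty_iso (LoccohB.RHomApprox.isApprox_ε _ M)
    have h1 : Subsingleton (Dual.HD A ((DRing.RgammaI (IsLocalRing.maximalIdeal A)).obj M) (-i)) := by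
      have := K230.DCLink.subsingleton_HD_inD (A := A) N (-i) (by omega)
      exact ((DerivedCategory.homologyFunctor (ModuleCat.{u} A) (-i)).mapIso r).toLinearEquiv.symm.toEquiv.subsingleton
    have h2 := (K175.LDBounded.subsingleton_rgamma_iff ω hω hn E f hf M c d hGE hLE hM.fin (-i)).1 h1
    rw [neg_neg] at h2
    exact (Iso.homCongr e.symm (Iso.refl (ω⟦i⟧))).subsingleton

end Groth.Agent.S19134
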