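import Groth.Statements.S19137

set_option autoImplicit false
universe u
open Instab

namespace Groth.Agent.S19137

/-- Let p be a seminorm on a real vector space whose unit ball is strictly convex in the sense that p(a
+ b) < p(a) + p(b) whenever p(a) and p(b) are non-zero and b is not a positive multiple of a; let ℓ
be a linear form, y₀ and y₁ vectors with p and ℓ positive at both and y₁ not a positive multiple of
y₀, and y = t y₀ + (1 - t) y₁ with 0 < t < 1 a point at which p is positive. Then ℓ(y)/p(y) is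
strictly greater than the smaller of ℓ(y₀)/p(y₀) and ℓ(y₁)/p(y₁). (The published lemma says that
when the norm on graded points is locally a norm with strictly convex unit balls, the numerical
invariant attached to a degree-two class and that norm is strictly quasi-concave on each cone and is
positive at no pair of antipodal points; on one rational simplex the first property is this strict
form of the quasi-concavity inequality for the quotient of a linear form by the norm, at points
where the linear form is positive, and the second property is not stated here. The vector space is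
arbitrary here.) -/
theorem result {E : Type u} [AddCommGroup E] [Module ℝ E]
    (p : Seminorm ℝ E)
    (hp : ∀ a b : E, p a ≠ 0 → p b ≠ 0 → (¬ ∃ c : ℝ, 0 < c ∧ b = c • a) → p (a + b) < p a + p b)
    (ℓ : E →ₗ[ℝ] ℝ) (y₀ y₁ : E) (h₀ : 0 < p y₀) (h₁ : 0 < p y₁)
    (hℓ₀ : 0 < ℓ y₀) (hℓ₁ : 0 < ℓ y₁) (hne : ¬ ∃ c : ℝ, 0 < c ∧ y₁ = c • y₀)
    (t : ℝ) (ht₀ : 0 < t) (ht₁ : t < 1) (hy : 0 < p (t • y₀ + (1 - t) • y₁)) :
    min (ℓ y₀ / p y₀) (ℓ y₁ / p y₁) < ℓ (t • y₀ + (1 - t) • y₁) / p (t • y₀ + (1 - t) • y₁) := by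
  have ht₁' : 0 < 1 - t := by linarith
  have hpy : p (t • y₀ + (1 - t) • y₁) < t * p y₀ + (1 - t) * p y₁ := by
    have e₀ : p (t • y₀) = t * p y₀ := by
      rw [map_smul_eq_mul, Real.norm_eq_abs, abs_of_pos ht₀]
    have e₁ : p ((1 - t) • y₁) = (1 - t) * p y₁ := by
      rw [map_smul_eq_mul, Real.norm_eq_abs, abs_of_pos ht₁']
    have h := hp (t • y₀) ((1 - t) • y₁) (by rw [e₀]; exact (mul_pos ht₀ h₀).ne')
      (by rw [e₁]; exact (mul_pos ht₁' h₁).ne') (by
        rintro ⟨c, hc, h⟩
        refine hne ⟨(1 - t)⁻¹ * (c * t), mul_pos (inv_pos.mpr ht₁') (mul_pos hc ht₀), ?_⟩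
        rw [← smul_smul, ← smul_smul, ← h, smul_smul, inv_mul_cancel₀ ht₁'.ne', one_smul])
    rw [e₀, e₁] at h
    exact h
  have hℓy : ℓ (t • y₀ + (1 - t) • y₁) = t * ℓ y₀ + (1 - t) * ℓ y₁ := by
    rw [map_add, map_smul, map_smul, smul_eq_mul, smul_eq_mul]
  set m := min (ℓ y₀ / p y₀) (ℓ y₁ / p y₁) with hm
  have hm0 : 0 < m := lt_min (div_pos hℓ₀ h₀) (div_pos hℓ₁ h₁)
  have hm₀ : m * p y₀ ≤ ℓ y₀ := by
    rw [← le_div_iff₀ h₀]; exact min_le_left _ _
  have hm₁ : m * p y₁ ≤ ℓ y₁ := by
    rw [← le_div_iff₀ h₁]; exact min_le_right _ _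
  have h2 := mul_lt_mul_of_pos_left hpy hm0
  have h3 := mul_le_mul_of_nonneg_left hm₀ ht₀.le
  have h4 := mul_le_mul_of_nonneg_left hm₁ ht₁'.le
  rw [lt_div_iff₀ hy, hℓy]
  nlinarith

end Groth.Agent.S19137
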