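import Groth.Statements.S19138
import Groth.Agent.Instab.K979.Rat
import Mathlib.Analysis.Convex.StdSimplex
import Mathlib.Algebra.BigOperators.Field

set_option autoImplicit false
open Instab

namespace Groth.Agent.S19138

open Matrix in
/-- Let ℓ ∈ ℚⁿ and let B be a rational n × n matrix whose real quadratic form q(y) = y · (B y) is
non-negative on ℝⁿ and positive at every non-zero point of the non-negative orthant. If ℓ · y > 0 at
some point of the orthant, then the function ℓ · y / √q(y) on the non-zero points of the orthant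
attains its maximum at a point with rational coordinates. (The published lemma says that the
numerical invariant attached to a rational degree-two class and such a norm on graded points attains
its maximum on each rational simplex at a rational point whenever it is positive somewhere on that
simplex; on one rational simplex that invariant is this function, so this is what is asked there.
The case of a piecewise rational linear norm is not stated here.) -/
theorem result (n : ℕ) (ℓ : Fin n → ℚ)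
    (B : Matrix (Fin n) (Fin n) ℚ)
    (hnn : ∀ y : Fin n → ℝ, 0 ≤ y ⬝ᵥ (B.map (fun r : ℚ => (r : ℝ))) *ᵥ y)
    (hpos : ∀ y : Fin n → ℝ, (∀ i, 0 ≤ y i) → y ≠ 0 → 0 < y ⬝ᵥ (B.map (fun r : ℚ => (r : ℝ))) *ᵥ y)
    (hℓ : ∃ y : Fin n → ℝ, (∀ i, 0 ≤ y i) ∧ 0 < (fun i => (ℓ i : ℝ)) ⬝ᵥ y) :
    ∃ x : Fin n → ℚ, (∀ i, 0 ≤ x i) ∧ x ≠ 0 ∧
      ∀ y : Fin n → ℝ, (∀ i, 0 ≤ y i) → y ≠ 0 →
        (fun i => (ℓ i : ℝ)) ⬝ᵥ y / Real.sqrt (y ⬝ᵥ (B.map (fun r : ℚ => (r : ℝ))) *ᵥ y) ≤
          (fun i => (ℓ i : ℝ)) ⬝ᵥ (fun i => (x i : ℝ)) /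
            Real.sqrt ((fun i => (x i : ℝ)) ⬝ᵥ (B.map (fun r : ℚ => (r : ℝ))) *ᵥ (fun i => (x i : ℝ))) := by
  classical
  set A : Matrix (Fin n) (Fin n) ℝ := B.map (fun r : ℚ => (r : ℝ)) with hA
  -- the symmetrized form
  let SQ : Matrix (Fin n) (Fin n) ℚ := fun i j => (B i j + B j i) / 2
  let S : Matrix (Fin n) (Fin n) ℝ := fun i j => ((SQ i j : ℚ) : ℝ)
  have hSsymm : ∀ x y : Fin n → ℝ, x ⬝ᵥ S *ᵥ y = y ⬝ᵥ S *ᵥ x := by
    intro x y
    simp only [dotProduct, mulVec, Finset.mul_sum]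
    rw [Finset.sum_comm]
    refine Finset.sum_congr rfl fun i _ => Finset.sum_congr rfl fun j _ => ?_
    simp only [S, SQ]
    push_cast
    ring
  have hSA : ∀ y : Fin n → ℝ, y ⬝ᵥ A *ᵥ y = y ⬝ᵥ S *ᵥ y := by
    intro y
    have h1 : y ⬝ᵥ A *ᵥ y = ∑ i, ∑ j, y i * (A i j * y j) := by
      simp only [dotProduct, mulVec, Finset.mul_sum]
    have h2 : y ⬝ᵥ A *ᵥ y = ∑ i, ∑ j, y i * (A j i * y j) := by
      rw [h1, Finset.sum_comm]
      exact Finset.sum_congr rfl fun i _ => Finset.sum_congr rfl fun j _ => by ring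
    have h3 : y ⬝ᵥ S *ᵥ y = ∑ i, ∑ j, (y i * (A i j * y j) + y i * (A j i * y j)) / 2 := by
      simp only [dotProduct, mulVec, Finset.mul_sum]
      refine Finset.sum_congr rfl fun i _ => Finset.sum_congr rfl fun j _ => ?_
      simp only [S, SQ, hA, Matrix.map_apply]
      push_cast
      ring
    rw [h3]
    simp only [← Finset.sum_div, Finset.sum_add_distrib]
    rw [← h1, ← h2]
    ring
  simp only [hSA] at hnn hpos ⊢
  let q : (Fin n → ℝ) → ℝ := fun y => y ⬝ᵥ S *ᵥ y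
  let L : (Fin n → ℝ) → ℝ := fun y => (fun i => (ℓ i : ℝ)) ⬝ᵥ y
  have hqsmul : ∀ (c : ℝ) y, q (c • y) = c ^ 2 * q y := by
    intro c y
    simp only [q, mulVec_smul, dotProduct_smul, smul_dotProduct, smul_eq_mul]
    ring
  have hLsmul : ∀ (c : ℝ) y, L (c • y) = c * L y := by
    intro c y
    simp only [L, dotProduct_smul, smul_eq_mul]
  have hqcont : Continuous q := by
    simp only [q, dotProduct, mulVec]
    fun_prop
  have hLcont : Continuous L := by
    simp only [L, dotProduct]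
    fun_prop
  -- the maximum on the standard simplex
  obtain ⟨y₀, hy₀, hLy₀⟩ := hℓ
  have hy₀ne : y₀ ≠ 0 := by
    rintro rfl
    simp at hLy₀
  have hsumpos : ∀ y : Fin n → ℝ, (∀ i, 0 ≤ y i) → y ≠ 0 → 0 < ∑ i, y i := by
    intro y hy hne
    obtain ⟨i, hi⟩ : ∃ i, y i ≠ 0 := by
      by_contra h
      push Not at h
      exact hne (funext h)
    exact Finset.sum_pos' (fun j _ => hy j) ⟨i, Finset.mem_univ _, lt_of_le_of_ne (hy i) (Ne.symm hi)⟩
  have hnorm : ∀ y : Fin n → ℝ, (∀ i, 0 ≤ y i) → y ≠ 0 →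
      (∑ i, y i)⁻¹ • y ∈ stdSimplex ℝ (Fin n) := by
    intro y hy hne
    have hs := hsumpos y hy hne
    refine ⟨fun i => mul_nonneg (inv_nonneg.mpr hs.le) (hy i), ?_⟩
    simp only [Pi.smul_apply, smul_eq_mul]
    rw [← Finset.mul_sum, inv_mul_cancel₀ hs.ne']
  have hsne : ∀ y ∈ stdSimplex ℝ (Fin n), y ≠ 0 := by
    rintro y ⟨-, h⟩ rfl
    simp at h
  have hfcont : ContinuousOn (fun y => L y / Real.sqrt (q y)) (stdSimplex ℝ (Fin n)) := by
    refine hLcont.continuousOn.div (Real.continuous_sqrt.comp hqcont).continuousOn fun y hy => ?_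
    exact (Real.sqrt_pos.mpr (hpos y hy.1 (hsne y hy))).ne'
  obtain ⟨xs, hxs, hmax⟩ := (isCompact_stdSimplex ℝ (Fin n)).exists_isMaxOn
    ⟨_, hnorm y₀ hy₀ hy₀ne⟩ hfcont
  -- scaling invariance
  have hscale : ∀ (c : ℝ), 0 < c → ∀ y, L (c • y) / Real.sqrt (q (c • y)) = L y / Real.sqrt (q y) := by
    intro c hc y
    rw [hLsmul, hqsmul, Real.sqrt_mul (by positivity), Real.sqrt_sq hc.le,
      mul_div_mul_left _ _ hc.ne']
  have hmax' : ∀ y : Fin n → ℝ, (∀ i, 0 ≤ y i) → y ≠ 0 →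
      L y / Real.sqrt (q y) ≤ L xs / Real.sqrt (q xs) := by
    intro y hy hne
    rw [← hscale _ (inv_pos.mpr (hsumpos y hy hne)) y]
    exact hmax (hnorm y hy hne)
  have hqxs : 0 < q xs := hpos xs hxs.1 (hsne xs hxs)
  have hLxs : 0 < L xs := by
    have h1 := hmax' y₀ hy₀ hy₀ne
    have h2 : 0 < L y₀ / Real.sqrt (q y₀) := div_pos hLy₀ (Real.sqrt_pos.mpr (hpos y₀ hy₀ hy₀ne))
    have h3 := h2.trans_le h1
    exact (div_pos_iff_of_pos_right (Real.sqrt_pos.mpr hqxs)).mp h3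
  -- rescale so that `L x = q x`
  let s : ℝ := L xs / q xs
  have hs : 0 < s := div_pos hLxs hqxs
  let x : Fin n → ℝ := s • xs
  have hx0 : ∀ i, 0 ≤ x i := fun i => mul_nonneg hs.le (hxs.1 i)
  have hxne : x ≠ 0 := fun h => hsne xs hxs ((smul_eq_zero.mp h).resolve_left hs.ne')
  have hLq : L x = q x := by
    simp only [x]
    rw [hLsmul, hqsmul]
    simp only [s]
    field_simp
  have hLx : 0 < L x := by
    simp only [x]
    rw [hLsmul]
    exact mul_pos hs hLxs
  have hmaxx : ∀ y : Fin n → ℝ, (∀ i, 0 ≤ y i) → y ≠ 0 →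
      L y / Real.sqrt (q y) ≤ L x / Real.sqrt (q x) := by
    intro y hy hne
    rw [hscale s hs xs]
    exact hmax' y hy hne
  -- the critical point equations
  have hcrit : ∀ i, 0 < x i → (ℓ i : ℝ) = (S *ᵥ x) i := by
    intro i hi
    set α : ℝ := (ℓ i : ℝ) - (S *ᵥ x) i with hα
    set β : ℝ := L x * S i i - (ℓ i : ℝ) ^ 2 with hβ
    -- the inequality along the coordinate direction
    have hineq : ∀ t : ℝ, -(x i) < t → 0 < L x + t * (ℓ i : ℝ) → 2 * t * (L x * α) ≤ t ^ 2 * β := by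
      intro t ht htL
      let y : Fin n → ℝ := x + t • Pi.single i 1
      have hyi : 0 < y i := by simp [y]; linarith
      have hy0 : ∀ j, 0 ≤ y j := by
        intro j
        by_cases hj : j = i
        · subst hj; exact hyi.le
        · simp [y, Pi.single_eq_of_ne hj, hx0 j]
      have hyne : y ≠ 0 := fun h => by
        rw [h] at hyi
        exact lt_irrefl _ hyi
      have hLy : L y = L x + t * (ℓ i : ℝ) := by
        simp only [L, y, dotProduct_add, dotProduct_smul, smul_eq_mul, dotProduct_single, mul_one]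
      have hqy : q y = q x + 2 * t * (S *ᵥ x) i + t ^ 2 * S i i := by
        have h1 : q y = x ⬝ᵥ S *ᵥ x + t * (x ⬝ᵥ S *ᵥ (Pi.single i 1)) +
            (t * ((Pi.single i 1 : Fin n → ℝ) ⬝ᵥ S *ᵥ x) +
              t * (t * ((Pi.single i 1 : Fin n → ℝ) ⬝ᵥ S *ᵥ (Pi.single i 1)))) := by
          simp only [q, y, mulVec_add, mulVec_smul, dotProduct_add, add_dotProduct, smul_dotProduct,
            dotProduct_smul, smul_eq_mul]
        rw [h1, hSsymm x (Pi.single i 1)]
        simp only [single_dotProduct, one_mul, q]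
        have h2 : (S *ᵥ (Pi.single i 1 : Fin n → ℝ)) i = S i i := by
          simp [mulVec, dotProduct_single]
        rw [h2]
        ring
      have hqy0 : 0 < q y := hpos y hy0 hyne
      have h1 := hmaxx y hy0 hyne
      have h2 : L x / Real.sqrt (q x) = Real.sqrt (L x) := by
        rw [← hLq, Real.div_sqrt]
      rw [h2, div_le_iff₀ (Real.sqrt_pos.mpr hqy0), ← Real.sqrt_mul hLx.le] at h1
      have h3 : (L y) ^ 2 ≤ L x * q y := by
        have h4 : 0 ≤ L y := by rw [hLy]; exact htL.le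
        have h5 := Real.sqrt_nonneg (L x * q y)
        calc (L y) ^ 2 ≤ (Real.sqrt (L x * q y)) ^ 2 := by gcongr
          _ = L x * q y := Real.sq_sqrt (mul_nonneg hLx.le hqy0.le)
      rw [hLy, hqy, ← hLq] at h3
      simp only [hα, hβ]
      nlinarith
    -- conclude
    by_contra hne
    have hα0 : α ≠ 0 := fun h => hne (sub_eq_zero.mp h)
    have hγ0 : L x * α ≠ 0 := mul_ne_zero hLx.ne' hα0
    -- choose a small parameter of the sign of `L x * α`
    set γ := L x * α with hγ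
    obtain ⟨ε, hε, hε1, hε2, hε3⟩ : ∃ ε : ℝ, 0 < ε ∧ ε * |γ| < x i ∧
        ε * |γ| * |(ℓ i : ℝ)| < L x ∧ ε * |β| < 1 := by
      have h1 : ∀ᶠ ε in nhdsWithin (0 : ℝ) (Set.Ioi 0), ε * |γ| < x i := by
        have : Filter.Tendsto (fun ε : ℝ => ε * |γ|) (nhdsWithin 0 (Set.Ioi 0)) (nhds (0 * |γ|)) :=
          (Filter.Tendsto.mul_const _ Filter.tendsto_id).mono_left nhdsWithin_le_nhds
        rw [zero_mul] at this
        exact this.eventually (gt_mem_nhds hi)
      have h2 : ∀ᶠ ε in nhdsWithin (0 : ℝ) (Set.Ioi 0), ε * |γ| * |(ℓ i : ℝ)| < L x := by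
        have : Filter.Tendsto (fun ε : ℝ => ε * |γ| * |(ℓ i : ℝ)|) (nhdsWithin 0 (Set.Ioi 0))
            (nhds (0 * |γ| * |(ℓ i : ℝ)|)) :=
          ((Filter.Tendsto.mul_const _ Filter.tendsto_id).mul_const _).mono_left nhdsWithin_le_nhds
        rw [zero_mul, zero_mul] at this
        exact this.eventually (gt_mem_nhds hLx)
      have h3 : ∀ᶠ ε in nhdsWithin (0 : ℝ) (Set.Ioi 0), ε * |β| < 1 := by
        have : Filter.Tendsto (fun ε : ℝ => ε * |β|) (nhdsWithin 0 (Set.Ioi 0)) (nhds (0 * |β|)) :=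
          (Filter.Tendsto.mul_const _ Filter.tendsto_id).mono_left nhdsWithin_le_nhds
        rw [zero_mul] at this
        exact this.eventually (gt_mem_nhds one_pos)
      have h4 : ∀ᶠ ε in nhdsWithin (0 : ℝ) (Set.Ioi 0), 0 < ε := self_mem_nhdsWithin
      obtain ⟨ε, he⟩ := (h1.and (h2.and (h3.and h4))).exists
      exact ⟨ε, he.2.2.2, he.1, he.2.1, he.2.2.1⟩
    have h1 := hineq (ε * γ) (by
      have := neg_abs_le γ
      have h2 : ε * -|γ| ≤ ε * γ := mul_le_mul_of_nonneg_left this hε.le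
      linarith) (by
      have h2 : |ε * γ * (ℓ i : ℝ)| = ε * |γ| * |(ℓ i : ℝ)| := by
        rw [abs_mul, abs_mul, abs_of_pos hε]
      have h3 := neg_abs_le (ε * γ * (ℓ i : ℝ))
      rw [h2] at h3
      linarith)
    have h2 : 0 < γ ^ 2 := by positivity
    have h3 : 2 * (ε * γ) * γ ≤ (ε * γ) ^ 2 * |β| := h1.trans
      (mul_le_mul_of_nonneg_left (le_abs_self β) (sq_nonneg _))
    have h4 : (ε * γ) ^ 2 * |β| = ε * γ ^ 2 * (ε * |β|) := by ring
    have h5 : ε * γ ^ 2 * (ε * |β|) < ε * γ ^ 2 * 1 :=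
      mul_lt_mul_of_pos_left hε3 (mul_pos hε h2)
    have h6 : 2 * (ε * γ) * γ = 2 * (ε * γ ^ 2) := by ring
    have h7 := mul_pos hε h2
    linarith
  -- the rational companion
  obtain ⟨Λ, hΛ⟩ := K979.Rat.exists_linear_pos (fun o : Option (Fin n) => o.elim (1 : ℝ) x)
  have hΛ1 : 0 < Λ 1 := hΛ none one_pos
  have hΛx : ∀ i, 0 < x i → 0 < Λ (x i) := fun i hi => hΛ (some i) hi
  let x' : Fin n → ℚ := fun i => Λ (x i) / Λ 1
  have hx'0 : ∀ i, x i = 0 → x' i = 0 := by
    intro i hi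
    simp [x', hi]
  have hx'pos : ∀ i, 0 < x i → 0 < x' i := fun i hi => div_pos (hΛx i hi) hΛ1
  have hx'nn : ∀ i, 0 ≤ x' i := by
    intro i
    rcases (hx0 i).eq_or_lt with h | h
    · rw [hx'0 i h.symm]
    · exact (hx'pos i h).le
  have hcrit' : ∀ i, 0 < x i → ℓ i = (SQ *ᵥ x') i := by
    intro i hi
    have h1 : Λ ((ℓ i : ℝ)) = ℓ i * Λ 1 := by
      have : (ℓ i : ℝ) = ℓ i • (1 : ℝ) := by rw [Rat.smul_def, mul_one]
      rw [this, map_smul, smul_eq_mul]
    have h2 : Λ ((S *ᵥ x) i) = ∑ j, SQ i j * Λ (x j) := by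
      have : (S *ᵥ x) i = ∑ j, SQ i j • x j := by
        simp only [mulVec, dotProduct, S, Rat.smul_def]
      rw [this, map_sum]
      exact Finset.sum_congr rfl fun j _ => by rw [map_smul, smul_eq_mul]
    have h3 : ℓ i * Λ 1 = ∑ j, SQ i j * Λ (x j) := by rw [← h1, hcrit i hi, h2]
    have h4 : (SQ *ᵥ x') i = (∑ j, SQ i j * Λ (x j)) / Λ 1 := by
      simp only [mulVec, dotProduct, x', Finset.sum_div, mul_div_assoc]
    rw [h4, ← h3, mul_div_cancel_right₀ _ hΛ1.ne']
  let xr : Fin n → ℝ := fun i => (x' i : ℝ)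
  have hcritr : ∀ i, 0 < x i → (ℓ i : ℝ) = (S *ᵥ xr) i := by
    intro i hi
    rw [hcrit' i hi]
    simp only [mulVec, dotProduct, S, xr]
    push_cast
    rfl
  -- `ℓ · y = b (x, y)` for `y` supported on the support of `x`
  have hsupp : ∀ (a y : Fin n → ℝ), (∀ i, 0 < x i → (ℓ i : ℝ) = (S *ᵥ a) i) →
      (∀ i, x i = 0 → y i = 0) → L y = y ⬝ᵥ S *ᵥ a := by
    intro a y ha hy
    simp only [L, dotProduct]
    refine Finset.sum_congr rfl fun i _ => ?_
    rcases (hx0 i).eq_or_lt with h | h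
    · rw [hy i h.symm]; simp
    · rw [ha i h, mul_comm]
  have hxr0 : ∀ i, x i = 0 → xr i = 0 := fun i hi => by simp [xr, hx'0 i hi]
  have h1 : L xr = q xr := hsupp xr xr hcritr hxr0
  have h2 : L xr = xr ⬝ᵥ S *ᵥ x := hsupp x xr hcrit hxr0
  have h3 : L x = x ⬝ᵥ S *ᵥ xr := hsupp xr x hcritr (fun _ h => h)
  have h4 : L xr = L x := by rw [h2, h3, hSsymm]
  have h5 : q xr = q x := by rw [← h1, h4, hLq]
  refine ⟨x', hx'nn, ?_, fun y hy hne => ?_⟩
  · intro h
    apply hLx.ne'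
    rw [← h4]
    simp only [L, xr, h]
    simp
  · have h6 := hmaxx y hy hne
    rw [← h4, ← h5] at h6
    exact h6

end Groth.Agent.S19138
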