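import Groth.Statements.S19159
import Groth.Agent.SGA3x.K21.DSAdapt
import Groth.Agent.SGA3x.K21.MonoClosed

set_option autoImplicit false
open CategoryTheory MonoidalCategory CartesianMonoidalCategory MonObj GrpObj AlgebraicGeometry
universe u
open SGA3x

namespace Groth.Agent.S19159

open Groth.Agent.Sga3B.DSPts in
/-- the factorisation over `U` -/
theorem exists_of_adOn {S : Scheme.{u}} {Γ : Type} [AddCommGroup Γ] {G : Over S} [GrpObj G] [IsSeparated G.hom]
    [QuasiCompact G.hom] [LocallyOfFiniteType G.hom] (f : Red.DS S Γ ⟶ G) [IsMonHom f] (U : S.Opens)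
    (Λ : AddSubgroup Γ) (hΛ : Λ.FG) (hU : K21.DSAdapt.AdOn f (K21.DSAdapt.dsChart (Over.mk (𝟙 S)) Γ) U Λ) :
    ∃ j : Red.bc U.ι (Red.DS S Λ) ⟶ Red.bc U.ι G, IsMonHom j ∧ IsClosedImmersion j.left ∧
        (Over.pullback U.ι).map f = (Over.pullback U.ι).map (Red.DSmap S Λ.subtype) ≫ j := by
  obtain ⟨h1, h2, h3, h4⟩ := K21.DSFact.cover_subtype (S := S) Λ
  obtain ⟨h5, h6, h7⟩ := K21.DSAdapt.cover_bc U.ι (Red.DSmap S Λ.subtype)
  have key : ∀ (T : Over (U : Scheme.{u})) (a : T ⟶ Red.bc U.ι (Red.DS S Γ)),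
      a ≫ (Over.pullback U.ι).map (Red.DSmap S Λ.subtype) = 1 ↔ a ≫ (Over.pullback U.ι).map f = 1 := by
    intro T a
    obtain ⟨a, rfl⟩ := (bcEquiv U.ι T (Red.DS S Γ)).surjective a
    rw [bcEquiv_comp, bcEquiv_comp, map_eq_one_iff _ (MulEquiv.injective _),
      map_eq_one_iff _ (MulEquiv.injective _), K21.DSFact.comp_DSmap_subtype_eq_one_iff]
    refine (hU ((Over.map U.ι).obj T) (Over.homMk ((Over.map U.ι).obj T).hom) ?_ a).symm
    rintro _ ⟨z, rfl⟩
    exact (T.hom z).2
  obtain ⟨j, hj, hpj⟩ := K21.DSFact.exists_factor_of_ker ((Over.pullback U.ι).map (Red.DSmap S Λ.subtype))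
    ((Over.pullback U.ι).map f) (fun T a => (key T a).1)
  have hm : Mono j := K21.DSFact.mono_of_ker ((Over.pullback U.ι).map (Red.DSmap S Λ.subtype)) j (fun T a ha => by
    rw [hpj] at ha
    exact (key T a).2 ha)
  have : IsSeparated (Red.bc U.ι G).hom := inferInstanceAs (IsSeparated (Limits.pullback.snd _ _))
  have : LocallyOfFiniteType (Red.bc U.ι G).hom := inferInstanceAs (LocallyOfFiniteType (Limits.pullback.snd _ _))
  have : QuasiCompact (Red.bc U.ι G).hom := inferInstanceAs (QuasiCompact (Limits.pullback.snd _ _))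
  exact ⟨j, hj, K21.MonoClosed.isClosedImmersion j
    (K21.MultLoc.isMultTypeFT_bc U.ι (K21.MultLoc.isMultTypeFT_DS Λ ((AddGroup.fg_iff_addSubgroup_fg Λ).2 hΛ))), hpj.symm⟩

/-- Let Γ be a commutative group, G an S-group separated and of finite presentation over S, and f :
D_S(Γ) ⟶ G a homomorphism. Then S is covered by open and closed subsets U on each of which there is
a finitely generated subgroup Λ ⊆ Γ (Λ is then the group of those γ ∈ Γ which, as characters of
D(Γ), are trivial on the kernel of the fibre homomorphism f_{s'}, one and the same group for every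
point s' of U) such that f|_U factors as the canonical map D_U(Γ) ⟶ D_U(Λ) (restriction of
characters, faithfully flat with kernel D_U(Γ/Λ)) followed by a homomorphism D_U(Λ) ⟶ G_U which is a
closed immersion: over U, ker f = D(Γ/Λ) and im f ≅ D(Λ). -/
theorem result {S : Scheme.{u}} (Γ : Type) [AddCommGroup Γ]
    (G : Over S) [GrpObj G] [IsSeparated G.hom] [QuasiCompact G.hom] [LocallyOfFinitePresentation G.hom]
    (f : Red.DS S Γ ⟶ G) [IsMonHom f] (s : S) :
    ∃ U : S.Opens, s ∈ U ∧ IsClosed (U : Set S) ∧ ∃ Λ : AddSubgroup Γ, Λ.FG ∧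
      ∃ j : Red.bc U.ι (Red.DS S Λ) ⟶ Red.bc U.ι G, IsMonHom j ∧ IsClosedImmersion j.left ∧
        (Over.pullback U.ι).map f = (Over.pullback U.ι).map (Red.DSmap S Λ.subtype) ≫ j := by
  obtain ⟨U, hsU, hcl, Λ, hΛ, hU⟩ := K21.DSAdapt.exists_clopen f (K21.DSAdapt.dsChart (Over.mk (𝟙 S)) Γ) s
  exact ⟨U, hsU, hcl, Λ, hΛ, exists_of_adOn f U Λ hΛ hU⟩

end Groth.Agent.S19159
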