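import Groth.Statements.S19147
import Groth.Agent.SGA3x.K21.Image
import Groth.Agent.SGA3x.K21.DSIso
import Groth.Agent.S19159

set_option autoImplicit false
open CategoryTheory MonoidalCategory CartesianMonoidalCategory MonObj GrpObj AlgebraicGeometry
universe u
open SGA3x

namespace Groth.Agent.S19147

open Groth.Agent Groth.Agent.Sga3B

lemma exists_addEquiv {Γ : Type} [AddCommGroup Γ] [IsAddTorsionFree Γ] (Λ : AddSubgroup Γ) (h : Λ.FG) :
    ∃ r : ℕ, Nonempty (Λ ≃+ (Fin r → ℤ)) := by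
  have h1 : AddGroup.FG Λ := (AddGroup.fg_iff_addSubgroup_fg Λ).2 h
  have h2 : Module.Finite ℤ Λ := Module.Finite.iff_addGroup_fg.mpr inferInstance
  have h3 : IsAddTorsionFree Λ := Function.Injective.isAddTorsionFree Λ.subtype Subtype.val_injective
  have h4 : Module.IsTorsionFree ℤ Λ := inferInstance
  have h5 : Module.Free ℤ Λ := inferInstance
  obtain ⟨r, b⟩ := Module.basisOfFiniteTypeTorsionFree' (R := ℤ) (M := Λ)
  exact ⟨r, ⟨b.equivFun.toAddEquiv⟩⟩

/-- Let Γ be a torsion-free commutative group, G an S-group separated and of finite presentation over S,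
and f : D_S(Γ) ⟶ G a homomorphism. Then the image of f (the closed subgroup of G through which f
factors by a faithfully flat homomorphism) is a locally trivial subtorus of G: f = f' ≫ j with f'
flat and surjective, j the inclusion of a closed subgroup scheme Q, and Q Zariski-locally on S
isomorphic as a group to D(ℤ^r) for some r (depending on the open). -/
theorem result {S : Scheme.{u}} (Γ : Type) [AddCommGroup Γ] [IsAddTorsionFree Γ]
    (G : Over S) [GrpObj G] [IsSeparated G.hom] [QuasiCompact G.hom] [LocallyOfFinitePresentation G.hom]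
    (f : Red.DS S Γ ⟶ G) [IsMonHom f] :
    ∃ (Q : Over S) (_ : GrpObj Q) (j : Q ⟶ G) (_ : IsMonHom j) (f' : Red.DS S Γ ⟶ Q) (_ : IsMonHom f'),
      IsClosedImmersion j.left ∧ Flat f'.left ∧ Surjective f'.left ∧ f' ≫ j = f ∧
      TwC.Locally S TwC.Topology.zariski (fun S' g => ∃ r : ℕ, Red.IsSplitTorusWith (Fin r → ℤ) (Red.bc g Q)) := by
  obtain ⟨Q, hQ, j, f', h1, h2, h3, h4, h5, h6, h7⟩ := K21.Image.exists_image (K21.MultLoc.isMult_DS Γ) f
  refine ⟨Q, hQ, j, h1, f', h2, h3, h5, h6, h7, fun s => ?_⟩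
  obtain ⟨U, hsU, -, Λ, hΛ, j', g1, g2, g3⟩ := S19159.result Γ G f s
  obtain ⟨r, ⟨b⟩⟩ := exists_addEquiv Λ hΛ
  refine ⟨U, hsU, r, ?_⟩
  have k0 : QuasiCompact f'.left := by
    have h8 : QuasiCompact (f'.left ≫ j.left) := by
      rw [← Over.comp_left, h7]
      have hHa : IsAffineHom (Red.DS S Γ).hom := K21.MonoClosed.isAffineHom_DS Γ
      have : QuasiCompact (f.left ≫ G.hom) := by rw [Over.w f]; infer_instance
      exact QuasiCompact.of_comp _ G.hom
    exact QuasiCompact.of_comp _ j.left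
  obtain ⟨k1, k2, k3⟩ := K21.DSAdapt.cover_bc U.ι f'
  obtain ⟨m1, m2, m3, m4⟩ := K21.DSFact.cover_subtype (S := S) Λ
  obtain ⟨n1, n2, n3⟩ := K21.DSAdapt.cover_bc U.ι (Red.DSmap S Λ.subtype)
  have := K21.Image.dominant_of_cover ((Over.pullback U.ι).map f')
  have := K21.Image.dominant_of_cover ((Over.pullback U.ι).map (Red.DSmap S Λ.subtype))
  have h8 : IsClosedImmersion ((Over.pullback U.ι).map j).left :=
    MorphismProperty.of_isPullback (P := @IsClosedImmersion) (Sga3.H798.FpqcIso.isPullback_map_left U.ι j) inferInstance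
  obtain ⟨e, he, -⟩ := K21.Image.exists_iso ((Over.pullback U.ι).map j) j' ((Over.pullback U.ι).map f')
    ((Over.pullback U.ι).map (Red.DSmap S Λ.subtype)) (by rw [← Functor.map_comp, h7, g3])
  have hj' : Mono j' := Sga3C.ClosedSub.mono_of_left j'
  have h9 : IsMonHom e.hom := by
    have : IsMonHom (e.hom ≫ j') := by rw [he]; infer_instance
    exact Sga3C.SubGrp.isMonHom_of_comp_mono e.hom j'
  obtain ⟨i, -⟩ := K21.DSIso.exists_iso (S := (U : Scheme.{u})) b
  exact ⟨Grp.mkIso' e ≪≫ TorusAlgClosed.dsBcIso U.ι Λ ≪≫ i.symm⟩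

end Groth.Agent.S19147
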