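import Groth.Statements.S19149
import Groth.Agent.GrpSch.K267.SmoothUnit

set_option autoImplicit false
universe u
open GrpSch

namespace Groth.Agent.S19149

/-- In affine form, let R be a commutative ring, A a smooth R-algebra with an augmentation ε : A → R
(the unit section of G = Spec A over S = Spec R), I = ker ε its augmentation ideal, and J ⊆ I an
ideal (defining a closed subscheme H of G through the unit section) such that (1) J is finitely
generated, (2) J ∩ I² = I·J in A, and (3) I/(J + I²) is a finitely generated projective R-module
(finite locally free on S). Then H = Spec (A/J) is smooth over S at every point of the unit section: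
for every prime P of A/J containing the image of I, the localization (A/J)_P is formally smooth over
R. (The source states this for G an affine smooth group scheme over a scheme S and H a closed
subgroup, concluding that the neutral component H° is a smooth open subgroup scheme; that conclusion
is smoothness of H along the unit section, which is the statement here in affine form; the group
structure is not used.) -/
theorem result (R A : Type u) [CommRing R] [CommRing A] [Algebra R A]
    [Algebra.Smooth R A] (ε : A →ₐ[R] R) (J : Ideal A) (hJI : J ≤ RingHom.ker ε)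
    (h1 : J.FG)
    (h2 : J ⊓ RingHom.ker ε ^ 2 = RingHom.ker ε * J)
    (h3 : Module.Finite R (↥(RingHom.ker ε) ⧸ Submodule.comap (RingHom.ker ε).subtype (J ⊔ RingHom.ker ε ^ 2)) ∧
      Module.Projective R (↥(RingHom.ker ε) ⧸ Submodule.comap (RingHom.ker ε).subtype (J ⊔ RingHom.ker ε ^ 2)))
    (P : Ideal (A ⧸ J)) [P.IsPrime] (hP : (RingHom.ker ε).map (Ideal.Quotient.mk J) ≤ P) :
    Algebra.IsSmoothAt R P := by
  let Q : Ideal A := P.comap (Ideal.Quotient.mk J)
  have hIQ : ∀ a ∈ RingHom.ker ε, a ∈ Q := fun a ha => hP (Ideal.mem_map_of_mem _ ha)
  let φ : Localization.AtPrime Q →+* Localization.AtPrime P :=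
    Localization.localRingHom Q P (Ideal.Quotient.mk J) rfl
  have hφ : ∀ a : A, φ (algebraMap A _ a) = algebraMap (A ⧸ J) _ (Ideal.Quotient.mk J a) :=
    fun a => Localization.localRingHom_to_map Q P (Ideal.Quotient.mk J) rfl a
  letI : Algebra (Localization.AtPrime Q) (Localization.AtPrime P) := φ.toAlgebra
  have hφ' : ∀ x, algebraMap (Localization.AtPrime Q) (Localization.AtPrime P) x = φ x := fun _ => rfl
  have : IsScalarTower A (Localization.AtPrime Q) (Localization.AtPrime P) := by
    refine IsScalarTower.of_algebraMap_eq fun a => ?_
    rw [hφ', hφ, IsScalarTower.algebraMap_apply A (A ⧸ J) (Localization.AtPrime P)]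
    rfl
  have : IsScalarTower R (Localization.AtPrime Q) (Localization.AtPrime P) := by
    refine IsScalarTower.of_algebraMap_eq fun r => ?_
    rw [IsScalarTower.algebraMap_apply R A (Localization.AtPrime P),
      IsScalarTower.algebraMap_apply R A (Localization.AtPrime Q),
      ← IsScalarTower.algebraMap_apply A (Localization.AtPrime Q) (Localization.AtPrime P)]
  have : Algebra.FormallyEtale A (Localization.AtPrime Q) :=
    Algebra.FormallyEtale.of_isLocalization Q.primeCompl
  have : Algebra.FormallySmooth R (Localization.AtPrime Q) :=
    Algebra.FormallySmooth.comp R A (Localization.AtPrime Q)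
  have : Algebra.EssFiniteType R (Localization.AtPrime Q) :=
    Algebra.EssFiniteType.comp R A (Localization.AtPrime Q)
  have : Module.Free (Localization.AtPrime Q) (Ω[Localization.AtPrime Q⁄R]) :=
    Module.free_of_flat_of_isLocalRing
  have hsurj : Function.Surjective (algebraMap (Localization.AtPrime Q) (Localization.AtPrime P)) :=
    RingHom.surjective_localRingHom_of_surjective (Ideal.Quotient.mk J) Ideal.Quotient.mk_surjective P
  have hker : RingHom.ker (algebraMap (Localization.AtPrime Q) (Localization.AtPrime P)) =
      J.map (algebraMap A (Localization.AtPrime Q)) := by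
    have hT : Submonoid.map (Ideal.Quotient.mk J) Q.primeCompl = P.primeCompl := by
      ext x
      obtain ⟨x, rfl⟩ := Ideal.Quotient.mk_surjective x
      constructor
      · rintro ⟨y, hy, hxy⟩
        rw [← hxy]
        exact hy
      · intro hx
        exact ⟨x, hx, rfl⟩
    have h4 := IsLocalization.ker_map (S := Localization.AtPrime Q) (Localization.AtPrime P)
      (Ideal.Quotient.mk J) hT
    rw [Ideal.mk_ker] at h4
    exact h4
  refine K267.SmoothUnit.formallySmooth_of ε J hJI h1 h2 h3.2 (Localization.AtPrime Q) (Localization.AtPrime P)
    hsurj hker ?_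
  intro a ha
  rw [IsScalarTower.algebraMap_apply A (Localization.AtPrime P)
    (IsLocalRing.ResidueField (Localization.AtPrime P)), IsLocalRing.ResidueField.algebraMap_eq,
    IsLocalRing.residue_eq_zero_iff,
    IsScalarTower.algebraMap_apply A (A ⧸ J) (Localization.AtPrime P)]
  exact (IsLocalization.AtPrime.to_map_mem_maximal_iff (Localization.AtPrime P) P _).mpr (hIQ a ha)

end Groth.Agent.S19149
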