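import Groth.Statements.S19150
import Groth.Agent.TwC.K983.RedIso

set_option autoImplicit false
open CategoryTheory MonoidalCategory CartesianMonoidalCategory MonObj GrpObj AlgebraicGeometry
universe u
open TwC

namespace Groth.Agent.S19150

/-- Let O be a local ring such that either O is henselian or every local ring of S = Spec O is
geometrically unibranch, and let G be a reductive S-group. Then G is isotrivial: it splits over a
finite etale surjective cover of S (more precisely over the open and closed pieces of one such
cover). -/
theorem result (O : Type u) [CommRing O] [IsLocalRing O]
    (hO : HenselianLocalRing O ∨ ∀ p : PrimeSpectrum O, CAlg2.IsGeomUnibranch (Localization.AtPrime p.asIdeal))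
    (G : Over (Spec (CommRingCat.of O))) [GrpObj G] (hG : Red.IsReductive G) :
    TwC.IsSplitLocally TwC.Topology.finiteEtale G := by
  exact K983.RedIso.main O hO G hG

end Groth.Agent.S19150
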