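import Groth.Statements.S19151
import Groth.Agent.Par.K547.DynTools

set_option autoImplicit false
open CategoryTheory MonoidalCategory CartesianMonoidalCategory MonObj GrpObj AlgebraicGeometry
universe u
open Par

namespace Groth.Agent.S19151

open Groth.Agent.Sga3B Groth.Agent.Sga3B.Parab Groth.Agent.Sga3B.Par

/-- Let O be a henselian local ring with residue field k and closed point i : Spec k ⟶ S = Spec O, G a
reductive S-group and P₀ a parabolic subgroup of the closed fibre G_k. Then there is a parabolic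
subgroup P of G whose closed fibre is P₀: P ×_S Spec k and P₀ are isomorphic over G_k. -/
theorem result (O : Type u) [CommRing O] [HenselianLocalRing O]
    (G : Over (Spec (CommRingCat.of O))) [GrpObj G] (hG : Red.IsReductive G)
    (P₀ : Over (Spec (CommRingCat.of (IsLocalRing.ResidueField O)))) [GrpObj P₀]
    (p₀ : P₀ ⟶ Red.bc (Spec.map (CommRingCat.ofHom (IsLocalRing.residue O))) G) (hp₀ : Red.IsParabolic p₀) :
    ∃ (P : Over (Spec (CommRingCat.of O))) (_ : GrpObj P) (p : P ⟶ G), Red.IsParabolic p ∧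
      ∃ e : Red.bc (Spec.map (CommRingCat.ofHom (IsLocalRing.residue O))) P ≅ P₀,
        e.hom ≫ p₀ = (Over.pullback (Spec.map (CommRingCat.ofHom (IsLocalRing.residue O)))).map p := by
  have hG₀ : Red.IsReductive (Red.bc (K547.HensLift.cl O) G) := RedBcAny636.isReductive_bc _ hG
  obtain ⟨lam₀, hlam₀, h₀⟩ := LevFin622.exists_cochar SplitFin885.splitTStmt hG₀ p₀ hp₀
  obtain ⟨lam, hlam, rfl⟩ := K547.DynTools.exists_cochar_lift hG.2.1 hG.1 lam₀
  obtain ⟨P, _, p, hp, hpp⟩ := K547.DynTools.exists_isDynP lam hG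
  obtain ⟨e, he⟩ := K547.DynTools.exists_iso_of_isDynP _ (hp.bc (K547.HensLift.cl O)) h₀
  exact ⟨P, inferInstance, p, hpp, e, he⟩

end Groth.Agent.S19151
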