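import Groth.Statements.S19153
import Groth.Agent.Par.K547.SplTor
import Groth.Agent.Sga3B.Parab.OppPts172
import Groth.Agent.S2999

set_option autoImplicit false
open CategoryTheory MonoidalCategory CartesianMonoidalCategory MonObj GrpObj AlgebraicGeometry
universe u
open Par

namespace Groth.Agent.S19153

/-- Let O be a local ring, G a reductive group over S = Spec O, T a maximal split torus of G (a subgroup
scheme which is a split torus D(ℤ^r) and is not strictly contained in another split subtorus of G),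
Z the centralizer of T in G and P a parabolic subgroup of G containing Z. Then (i) P has exactly one
Levi subgroup L containing Z; (ii) there is exactly one parabolic subgroup P' of G opposed to P (P ∩
P' is a Levi subgroup of both) and containing Z; (iii) L = P ∩ P'. Uniqueness is stated up to
isomorphism over P, resp. over G. (The source also notes that P ↦ P' preserves inclusions; not
stated here.) -/
theorem result (O : Type u) [CommRing O] [IsLocalRing O]
    (G T Z P : Over (Spec (CommRingCat.of O))) [GrpObj G] [GrpObj T] [GrpObj Z] [GrpObj P] (hG : Red.IsReductive G)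
    (σ : T ⟶ G) [IsMonHom σ] [Mono σ]
    (hT : Red.IsTorus T ∧ (∃ r : ℕ, Red.IsSplitTorusWith (Fin r → ℤ) T) ∧
      (∀ (T' : Over (Spec (CommRingCat.of O))) [GrpObj T'] (σ' : T' ⟶ G) [IsMonHom σ'] [Mono σ'] (f : T ⟶ T'),
        Red.IsTorus T' → (∃ r : ℕ, Red.IsSplitTorusWith (Fin r → ℤ) T') → f ≫ σ' = σ → IsIso f))
    (z : Z ⟶ G) [IsMonHom z] (hZ : Red.IsCentralizerOf σ z)
    (p : P ⟶ G) (hp : Red.IsParabolic p) (zP : Z ⟶ P) (hzP : zP ≫ p = z) :
    (∃ (L : Over (Spec (CommRingCat.of O))) (_ : GrpObj L) (l : L ⟶ P) (zL : Z ⟶ L), Par.IsLevi l ∧ zL ≫ l = zP ∧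
      (∀ (L₂ : Over (Spec (CommRingCat.of O))) [GrpObj L₂] (l₂ : L₂ ⟶ P) (zL₂ : Z ⟶ L₂), Par.IsLevi l₂ → zL₂ ≫ l₂ = zP →
        ∃ e : L ≅ L₂, e.hom ≫ l₂ = l) ∧
      ∃ (P' : Over (Spec (CommRingCat.of O))) (_ : GrpObj P') (p' : P' ⟶ G) (zP' : Z ⟶ P') (m : L ⟶ P'),
        Red.IsParabolic p' ∧ zP' ≫ p' = z ∧ IsPullback l m p p' ∧ Par.IsLevi m ∧
        (∀ (P₂ : Over (Spec (CommRingCat.of O))) [GrpObj P₂] (p₂ : P₂ ⟶ G) (zP₂ : Z ⟶ P₂)
          (L' : Over (Spec (CommRingCat.of O))) [GrpObj L'] (l' : L' ⟶ P) (m' : L' ⟶ P₂),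
          Red.IsParabolic p₂ → zP₂ ≫ p₂ = z → IsPullback l' m' p p₂ → Par.IsLevi l' → Par.IsLevi m' →
          ∃ e : P' ≅ P₂, e.hom ≫ p₂ = p')) := by
  obtain ⟨L, _, l, zL, hl, hzL, huniq, -⟩ :=
    Groth.Agent.K547.SplTor.exists_levi hG σ hT.1 hT.2.1 z hZ p hp zP hzP
  refine ⟨L, inferInstance, l, zL, hl, hzL, huniq, ?_⟩
  have hGa : IsAffineHom G.hom := hG.1
  obtain ⟨lam, hlam, hlp, hlz⟩ := Groth.Agent.RedSub.H663.DynPair.exists_cochar_levi hG p hp l hl
  obtain ⟨P', _, p', m, hp', hcl, hpb⟩ := Groth.Agent.Sga3B.Parab.OppPts172.exists_opp hlp hlz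
  have hpar' := Groth.Agent.K547.DynTools.isParabolic_of_isDynP
    (Groth.Agent.Sga3B.Parab.negLam lam) hG hp'
  have hm : Par.IsLevi m := Groth.Agent.K547.DynTools.isLevi_of_isDynZ
    (Groth.Agent.Sga3B.Parab.negLam lam) hG hp' (by
      rw [← hpb.w]
      exact Groth.Agent.K547.DynTools.isDynZ_neg lam hG.1 hlz)
  refine ⟨P', inferInstance, p', zL ≫ m, m, hpar', ?_, hpb, hm, ?_⟩
  · rw [Category.assoc, ← hpb.w, ← Category.assoc, hzL, hzP]
  · intro P₂ _ p₂ zP₂ L' _ l' m' hp₂ hzP₂ hpb' hl' hm'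
    obtain ⟨e, he⟩ := huniq L' l' (hpb'.lift zP zP₂ (hzP.trans hzP₂.symm)) hl'
      (hpb'.lift_fst _ _ _)
    have hpb'' : IsPullback l (e.hom ≫ m') p p₂ :=
      IsPullback.of_iso hpb' e.symm (Iso.refl _) (Iso.refl _) (Iso.refl _)
        (by rw [Iso.refl_hom, Category.comp_id, ← he, Iso.symm_hom, Iso.inv_hom_id_assoc])
        (by rw [Iso.refl_hom, Category.comp_id, Iso.symm_hom, Iso.inv_hom_id_assoc])
        (by rw [Iso.refl_hom, Iso.refl_hom, Category.comp_id, Category.id_comp])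
        (by rw [Iso.refl_hom, Iso.refl_hom, Category.comp_id, Category.id_comp])
    exact (Groth.Agent.S2999.result G P L hG p hp l hl).2 P' P₂ p' p₂ m (e.hom ≫ m') hpar' hp₂ hpb hpb''

end Groth.Agent.S19153
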