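import Groth.Statements.S19156
import Groth.Agent.RootD.K222.Dom

set_option autoImplicit false
open RootPairing
open RootD

namespace Groth.Agent.S19156

/-- Let P be a root datum (root pairing over ℤ with finitely many roots indexed by ι), S a system of
positive roots, Γ a non-trivial totally ordered commutative group and f : M → Γ additive. Then f is
dominant (non-negative on the positive roots) if and only if, for every w in the Weyl group, f − f ∘
w is a combination m ↦ Σ_{α ∈ S} ⟨m, α∨⟩ c_α of the positive coroots with coefficients c_α ≥ 0 in Γ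
(f ∘ w is strongly dominated by f); and f is dominant if and only if f(w m) ≤ f(m) for every w ∈ W
and every dominant weight m (weak dominance). -/
theorem result {ι M N : Type*} [AddCommGroup M] [AddCommGroup N]
    (P : RootPairing ι ℤ M N) [Fintype ι] (S : Set ι) (hS : RootD.IsPosSys P S)
    {Γ : Type*} [AddCommGroup Γ] [LinearOrder Γ] [IsOrderedAddMonoid Γ] [Nontrivial Γ] (f : M →+ Γ) :
    ((∀ i ∈ S, 0 ≤ f (P.root i)) ↔
      ∀ g : P.Aut, g ∈ P.weylGroup → ∃ c : ι → Γ, (∀ i, 0 ≤ c i) ∧ (∀ i, i ∉ S → c i = 0) ∧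
        ∀ m : M, f m - f (RootPairing.Equiv.weightHom P g m) = ∑ i, (P.coroot' i m) • c i) ∧
    ((∀ i ∈ S, 0 ≤ f (P.root i)) ↔
      ∀ g : P.Aut, g ∈ P.weylGroup → ∀ m : M, (∀ i ∈ S, 0 ≤ P.coroot' i m) →
        f (RootPairing.Equiv.weightHom P g m) ≤ f m) := by
  obtain ⟨Δ, hΔ, rfl⟩ := K222.Dom.exists_simple hS
  have hback : (∀ g : P.Aut, g ∈ P.weylGroup → ∀ m : M, (∀ i ∈ RootD.posOf P Δ, 0 ≤ P.coroot' i m) →
        f (RootPairing.Equiv.weightHom P g m) ≤ f m) → ∀ i ∈ RootD.posOf P Δ, 0 ≤ f (P.root i) := by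
    intro h i hi
    refine K222.Dom.nonneg_of_simple f (fun j hj => ?_) hi
    obtain ⟨m, hm0, hm⟩ := K222.Dom.exists_fundamental hΔ hj
    have hdom : ∀ i ∈ RootD.posOf P Δ, 0 ≤ P.coroot' i m := fun i hi =>
      K222.Dom.coroot'_nonneg_of_simple (fun k hk => by
        by_cases hkj : k = j
        · subst hkj; exact hm.le
        · rw [hm0 k hk hkj]) hi
    have h1 := h _ (P.reflection_mem_weylGroup j) m hdom
    rw [K222.Dom.weightHom_apply, K222.Dom.reflection_smul_eq, map_sub, map_zsmul, sub_le_self_iff] at h1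
    by_contra hneg
    rw [not_le] at hneg
    have h2 := zsmul_pos (neg_pos.2 hneg) hm
    rw [smul_neg, neg_pos] at h2
    exact absurd h1 (not_le.2 h2)
  have hfwd : (∀ i ∈ RootD.posOf P Δ, 0 ≤ f (P.root i)) → ∀ g : P.Aut, g ∈ P.weylGroup →
      ∃ c : ι → Γ, (∀ i, 0 ≤ c i) ∧ (∀ i, i ∉ RootD.posOf P Δ → c i = 0) ∧
        ∀ m : M, f m - f (RootPairing.Equiv.weightHom P g m) = ∑ i, (P.coroot' i m) • c i :=
    fun h g hg => K222.Dom.strong f hΔ hg h
  have hmid : (∀ g : P.Aut, g ∈ P.weylGroup → ∃ c : ι → Γ, (∀ i, 0 ≤ c i) ∧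
      (∀ i, i ∉ RootD.posOf P Δ → c i = 0) ∧
        ∀ m : M, f m - f (RootPairing.Equiv.weightHom P g m) = ∑ i, (P.coroot' i m) • c i) →
      (∀ g : P.Aut, g ∈ P.weylGroup → ∀ m : M, (∀ i ∈ RootD.posOf P Δ, 0 ≤ P.coroot' i m) →
        f (RootPairing.Equiv.weightHom P g m) ≤ f m) := by
    intro h g hg m hm
    obtain ⟨c, hc, hc0, hcm⟩ := h g hg
    rw [← sub_nonneg, hcm]
    refine Finset.sum_nonneg fun i _ => ?_
    by_cases hi : i ∈ RootD.posOf P Δ
    · exact zsmul_nonneg (hc i) (hm i hi)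
    · rw [hc0 i hi, smul_zero]
  exact ⟨⟨hfwd, fun h => hback (hmid h)⟩, ⟨fun h => hmid (hfwd h), hback⟩⟩

end Groth.Agent.S19156
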