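import Groth.Statements.S19161
import Groth.Agent.RootD.K222.Dom

set_option autoImplicit false
open RootPairing
open RootD

namespace Groth.Agent.S19161

/-- Let P be a root datum (root pairing over ℤ, finitely many roots), S a system of positive roots, W
the Weyl group, Γ a non-trivial totally ordered commutative group and f₁, f₂ : M → Γ additive maps
which are dominant (f_i(α) ≥ 0 for α ∈ S). Then f₁ ≤ f₂ in the weak dominance order (f₁(m) ≤ f₂(m)
for every dominant weight m, i.e. every m with ⟨m, α∨⟩ ≥ 0 for all α ∈ S) if and only if, for every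
non-empty finite W-stable subset X ⊆ M, the maximum of f₁ on X is at most the maximum of f₂ on X.
(The source phrases the right-hand side through W-invariant elements x of ℕ[M] and the largest
element of the support of f_i(x) in ℤ[Γ]; for ℕ-coefficients that largest element is the maximum of
f_i over the support of x.) -/
theorem result {ι M N : Type*} [AddCommGroup M] [AddCommGroup N]
    (P : RootPairing ι ℤ M N) [Finite ι] (S : Set ι) (hS : RootD.IsPosSys P S)
    {Γ : Type*} [AddCommGroup Γ] [LinearOrder Γ] [IsOrderedAddMonoid Γ] [Nontrivial Γ] (f₁ f₂ : M →+ Γ)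
    (hf₁ : ∀ i ∈ S, 0 ≤ f₁ (P.root i)) (hf₂ : ∀ i ∈ S, 0 ≤ f₂ (P.root i)) :
    (∀ m : M, (∀ i ∈ S, 0 ≤ P.coroot' i m) → f₁ m ≤ f₂ m) ↔
    ∀ (X : Finset M) (hX : X.Nonempty), (∀ g : P.Aut, g ∈ P.weylGroup → ∀ m ∈ X, RootPairing.Equiv.weightHom P g m ∈ X) →
      X.sup' hX f₁ ≤ X.sup' hX f₂ := by
  obtain ⟨Δ, hΔ, rfl⟩ := K222.Dom.exists_simple hS
  have hmax : ∀ f : M →+ Γ, (∀ i ∈ RootD.posOf P Δ, 0 ≤ f (P.root i)) → ∀ g ∈ P.weylGroup, ∀ m : M,
      (∀ i ∈ RootD.posOf P Δ, 0 ≤ P.coroot' i m) → f (g • m) ≤ f m := by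
    intro f hf g hg m hm
    let := Fintype.ofFinite ι
    obtain ⟨c, hc, hc0, hcm⟩ := K222.Dom.strong f hΔ hg hf
    rw [← sub_nonneg, hcm]
    refine Finset.sum_nonneg fun i _ => ?_
    by_cases hi : i ∈ RootD.posOf P Δ
    · exact zsmul_nonneg (hc i) (hm i hi)
    · rw [hc0 i hi, smul_zero]
  constructor
  · intro h X hX hXs
    refine Finset.sup'_le _ _ fun x hx => ?_
    obtain ⟨g, hg, hgx⟩ := K222.Dom.exists_dominant_weight hΔ x
    have h1 := hmax f₁ hf₁ g⁻¹ (inv_mem hg) _ hgx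
    rw [inv_smul_smul] at h1
    exact (h1.trans (h _ hgx)).trans (Finset.le_sup' f₂ (hXs g hg x hx))
  · intro h m hm
    classical
    have hW := K222.Dom.finite_weylGroup hΔ
    let X : Finset M := (Set.toFinite (Set.range fun g : P.weylGroup => (g : P.Aut) • m)).toFinset
    have hmX : m ∈ X := by
      rw [Set.Finite.mem_toFinset]
      exact ⟨1, one_smul _ _⟩
    have h1 := h X ⟨m, hmX⟩ (by
      intro g hg x hx
      rw [Set.Finite.mem_toFinset] at hx ⊢
      obtain ⟨w, rfl⟩ := hx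
      refine ⟨⟨g, hg⟩ * w, ?_⟩
      have e : (((⟨g, hg⟩ : P.weylGroup) * w : P.weylGroup) : P.Aut) = g * (w : P.Aut) := rfl
      simp only [e, mul_smul]
      rfl)
    refine (Finset.le_sup' f₁ hmX).trans (h1.trans (Finset.sup'_le _ _ fun x hx => ?_))
    rw [Set.Finite.mem_toFinset] at hx
    obtain ⟨w, rfl⟩ := hx
    exact hmax f₂ hf₂ w w.2 m hm

end Groth.Agent.S19161
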