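import Groth.Statements.S19162
import Groth.Agent.Par.K547.MaxBc

set_option autoImplicit false
open CategoryTheory MonoidalCategory CartesianMonoidalCategory MonObj GrpObj AlgebraicGeometry
universe u
open RedSub

namespace Groth.Agent.S19162

/-- Let O be a henselian local ring with residue field k, i : Spec k ⟶ Spec O the closed point, and G a
reductive group over Spec O. A maximal split torus of G is a subgroup scheme which is a torus
isomorphic to some D(ℤ^r) and which equals every split subtorus of G containing it. Then (i) if T is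
a maximal split torus of G, its closed fibre T_k ⟶ G_k is a maximal split torus of G_k; (ii) every
maximal split torus T₀ of G_k is, up to isomorphism over G_k, the closed fibre of a maximal split
torus of G. -/
theorem result (O : Type u) [CommRing O] [HenselianLocalRing O]
    (G : Over (Spec (CommRingCat.of O))) [GrpObj G] (hG : Red.IsReductive G) :
    (∀ (T : Over (Spec (CommRingCat.of O))) [GrpObj T] (σ : T ⟶ G) [IsMonHom σ] [Mono σ],
      (Red.IsTorus (T) ∧ (∃ r : ℕ, Red.IsSplitTorusWith (Fin r → ℤ) (T)) ∧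
      (∀ (T' : Over (Spec (CommRingCat.of O))) [GrpObj T'] (σ' : T' ⟶ G) [IsMonHom σ'] [Mono σ'] (f : T ⟶ T'),
        Red.IsTorus T' → (∃ r : ℕ, Red.IsSplitTorusWith (Fin r → ℤ) T') → f ≫ σ' = σ → IsIso f)) →
      IsMonHom ((Over.pullback (Spec.map (CommRingCat.ofHom (IsLocalRing.residue O)))).map σ) ∧ Mono ((Over.pullback (Spec.map (CommRingCat.ofHom (IsLocalRing.residue O)))).map σ) ∧
      (Red.IsTorus (Red.bc (Spec.map (CommRingCat.ofHom (IsLocalRing.residue O))) T) ∧ (∃ r : ℕ, Red.IsSplitTorusWith (Fin r → ℤ) (Red.bc (Spec.map (CommRingCat.ofHom (IsLocalRing.residue O))) T)) ∧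
      (∀ (T' : Over (Spec (CommRingCat.of (IsLocalRing.ResidueField O)))) [GrpObj T'] (σ' : T' ⟶ Red.bc (Spec.map (CommRingCat.ofHom (IsLocalRing.residue O))) G) [IsMonHom σ'] [Mono σ'] (f : Red.bc (Spec.map (CommRingCat.ofHom (IsLocalRing.residue O))) T ⟶ T'),
        Red.IsTorus T' → (∃ r : ℕ, Red.IsSplitTorusWith (Fin r → ℤ) T') → f ≫ σ' = (Over.pullback (Spec.map (CommRingCat.ofHom (IsLocalRing.residue O)))).map σ → IsIso f))) ∧
    (∀ (T₀ : Over (Spec (CommRingCat.of (IsLocalRing.ResidueField O)))) [GrpObj T₀] (σ₀ : T₀ ⟶ Red.bc (Spec.map (CommRingCat.ofHom (IsLocalRing.residue O))) G) [IsMonHom σ₀] [Mono σ₀],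
      (Red.IsTorus (T₀) ∧ (∃ r : ℕ, Red.IsSplitTorusWith (Fin r → ℤ) (T₀)) ∧
      (∀ (T' : Over (Spec (CommRingCat.of (IsLocalRing.ResidueField O)))) [GrpObj T'] (σ' : T' ⟶ Red.bc (Spec.map (CommRingCat.ofHom (IsLocalRing.residue O))) G) [IsMonHom σ'] [Mono σ'] (f : T₀ ⟶ T'),
        Red.IsTorus T' → (∃ r : ℕ, Red.IsSplitTorusWith (Fin r → ℤ) T') → f ≫ σ' = σ₀ → IsIso f)) →
      ∃ (T : Over (Spec (CommRingCat.of O))) (_ : GrpObj T) (σ : T ⟶ G) (_ : IsMonHom σ) (_ : Mono σ),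
        (Red.IsTorus (T) ∧ (∃ r : ℕ, Red.IsSplitTorusWith (Fin r → ℤ) (T)) ∧
      (∀ (T' : Over (Spec (CommRingCat.of O))) [GrpObj T'] (σ' : T' ⟶ G) [IsMonHom σ'] [Mono σ'] (f : T ⟶ T'),
        Red.IsTorus T' → (∃ r : ℕ, Red.IsSplitTorusWith (Fin r → ℤ) T') → f ≫ σ' = σ → IsIso f)) ∧
        ∃ e : Red.bc (Spec.map (CommRingCat.ofHom (IsLocalRing.residue O))) T ≅ T₀, e.hom ≫ σ₀ = (Over.pullback (Spec.map (CommRingCat.ofHom (IsLocalRing.residue O)))).map σ) := by
  refine ⟨fun T _ σ _ _ hT => ?_, fun T₀ _ σ₀ _ _ hT₀ => ?_⟩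
  · exact ⟨inferInstance, inferInstance, Groth.Agent.K547.MaxBc.maxSpl_closedFibre hG σ hT⟩
  · obtain ⟨r, J, hJ, hJm, hmax, e, -, he⟩ :=
      Groth.Agent.K547.LiftSpl.exists_lift_maxSpl hG.2.1 hG.1 σ₀ hT₀
    exact ⟨Red.DS (Spec (CommRingCat.of O)) (Fin r → ℤ), inferInstance, J, hJ, hJm, hmax, e, he⟩

end Groth.Agent.S19162
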