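import Groth.Statements.S19164
import Groth.Agent.Par.K547.DynTools

set_option autoImplicit false
open CategoryTheory MonoidalCategory CartesianMonoidalCategory MonObj GrpObj AlgebraicGeometry
universe u
open Par

namespace Groth.Agent.S19164

open Groth.Agent.Sga3B Groth.Agent.Sga3B.Parab Groth.Agent.Sga3B.Par Groth.Agent.RedSub.H663

/-- Let O be a henselian local ring with residue field k, G a reductive group over Spec O and (P₀, P₀')
a pair of opposed parabolic subgroups of the closed fibre G_k (P₀ ∩ P₀' is a Levi subgroup of P₀ and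
of P₀'). Then there are opposed parabolic subgroups P, P' of G whose closed fibres are P₀ and P₀'
(isomorphic to them over G_k). -/
theorem result (O : Type u) [CommRing O] [HenselianLocalRing O]
    (G : Over (Spec (CommRingCat.of O))) [GrpObj G] (hG : Red.IsReductive G)
    (P₀ P₀' : Over (Spec (CommRingCat.of (IsLocalRing.ResidueField O)))) [GrpObj P₀] [GrpObj P₀']
    (p₀ : P₀ ⟶ Red.bc (Spec.map (CommRingCat.ofHom (IsLocalRing.residue O))) G) (p₀' : P₀' ⟶ Red.bc (Spec.map (CommRingCat.ofHom (IsLocalRing.residue O))) G) (hp₀ : Red.IsParabolic p₀) (hp₀' : Red.IsParabolic p₀')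
    (hopp : (∃ (L : Over (Spec (CommRingCat.of (IsLocalRing.ResidueField O)))) (_ : GrpObj L) (l : L ⟶ P₀) (m : L ⟶ P₀'), IsPullback l m p₀ p₀' ∧ Par.IsLevi l ∧ Par.IsLevi m)) :
    ∃ (P P' : Over (Spec (CommRingCat.of O))) (_ : GrpObj P) (_ : GrpObj P') (p : P ⟶ G) (p' : P' ⟶ G),
      Red.IsParabolic p ∧ Red.IsParabolic p' ∧ (∃ (L : Over (Spec (CommRingCat.of O))) (_ : GrpObj L) (l : L ⟶ P) (m : L ⟶ P'), IsPullback l m p p' ∧ Par.IsLevi l ∧ Par.IsLevi m) ∧
      (∃ e : Red.bc (Spec.map (CommRingCat.ofHom (IsLocalRing.residue O))) P ≅ P₀, e.hom ≫ p₀ = (Over.pullback (Spec.map (CommRingCat.ofHom (IsLocalRing.residue O)))).map p) ∧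
      (∃ e' : Red.bc (Spec.map (CommRingCat.ofHom (IsLocalRing.residue O))) P' ≅ P₀', e'.hom ≫ p₀' = (Over.pullback (Spec.map (CommRingCat.ofHom (IsLocalRing.residue O)))).map p') := by
  have hG₀ : Red.IsReductive (Red.bc (K547.HensLift.cl O) G) := RedBcAny636.isReductive_bc _ hG
  obtain ⟨L, _, l, m, hL, hl, hm⟩ := hopp
  obtain ⟨lam₀, hlam₀, h₀, hz₀⟩ := DynPair.exists_cochar_levi hG₀ p₀ hp₀ l hl
  have h₀' : IsDynP (negLam lam₀) p₀' := OppMain151.isDynP_opp DynPair.parConn hG₀ hp₀' hL lam₀ h₀ hz₀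
  obtain ⟨lam, hlam, rfl⟩ := K547.DynTools.exists_cochar_lift hG.2.1 hG.1 lam₀
  obtain ⟨P, _, p, hp, hpp⟩ := K547.DynTools.exists_isDynP lam hG
  obtain ⟨U, Z, _, _, u, z, hu, hz, -, -, hlev⟩ := K547.DynTools.exists_all lam hG hp
  have hGa := hG.1
  obtain ⟨P', _, p', m', hp', hc', hpb⟩ := OppPts172.exists_opp hp hz
  refine ⟨P, P', inferInstance, inferInstance, p, p', hpp, K547.DynTools.isParabolic_of_isDynP _ hG hp',
    ⟨Z, inferInstance, z, m', hpb, hlev, ?_⟩, ?_, ?_⟩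
  · refine K547.DynTools.isLevi_of_isDynZ (negLam lam) hG hp' ?_
    rw [← hpb.w]
    exact K547.DynTools.isDynZ_neg lam hG.1 hz
  · exact K547.DynTools.exists_iso_of_isDynP _ (hp.bc (K547.HensLift.cl O)) h₀
  · have h := hp'.bc (K547.HensLift.cl O)
    rw [OppS172.bcLam_negLam] at h
    exact K547.DynTools.exists_iso_of_isDynP _ h h₀'

end Groth.Agent.S19164
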