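import Groth.Statements.S19165
import Groth.Agent.RedSub.K687.GenSpl

set_option autoImplicit false
open CategoryTheory MonoidalCategory CartesianMonoidalCategory MonObj GrpObj AlgebraicGeometry
universe u
open RedSub

namespace Groth.Agent.S19165

/-- Let O be a valuation ring with fraction field K, j : Spec K ⟶ Spec O the generic point and G a
reductive group over Spec O. Then (i) if T is a maximal split torus of G (a split torus D(ℤ^r)
inside G, maximal among split subtori), its generic fibre T_K ⟶ G_K is a maximal split torus of G_K;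
(ii) if two maximal split tori T₁, T₂ of G have generic fibres which are the same subgroup of G_K
(isomorphic over G_K), then T₁ and T₂ are the same subgroup of G (isomorphic over G). -/
theorem result (O : Type u) [CommRing O] [IsDomain O] [ValuationRing O]
    (G : Over (Spec (CommRingCat.of O))) [GrpObj G] (hG : Red.IsReductive G) :
    (∀ (T : Over (Spec (CommRingCat.of O))) [GrpObj T] (σ : T ⟶ G) [IsMonHom σ] [Mono σ],
      (Red.IsTorus (T) ∧ (∃ r : ℕ, Red.IsSplitTorusWith (Fin r → ℤ) (T)) ∧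
      (∀ (T' : Over (Spec (CommRingCat.of O))) [GrpObj T'] (σ' : T' ⟶ G) [IsMonHom σ'] [Mono σ'] (f : T ⟶ T'),
        Red.IsTorus T' → (∃ r : ℕ, Red.IsSplitTorusWith (Fin r → ℤ) T') → f ≫ σ' = σ → IsIso f)) →
      IsMonHom ((Over.pullback (Spec.map (CommRingCat.ofHom (algebraMap O (FractionRing O))))).map σ) ∧ Mono ((Over.pullback (Spec.map (CommRingCat.ofHom (algebraMap O (FractionRing O))))).map σ) ∧
      (Red.IsTorus (Red.bc (Spec.map (CommRingCat.ofHom (algebraMap O (FractionRing O)))) T) ∧ (∃ r : ℕ, Red.IsSplitTorusWith (Fin r → ℤ) (Red.bc (Spec.map (CommRingCat.ofHom (algebraMap O (FractionRing O)))) T)) ∧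
      (∀ (T' : Over (Spec (CommRingCat.of (FractionRing O)))) [GrpObj T'] (σ' : T' ⟶ Red.bc (Spec.map (CommRingCat.ofHom (algebraMap O (FractionRing O)))) G) [IsMonHom σ'] [Mono σ'] (f : Red.bc (Spec.map (CommRingCat.ofHom (algebraMap O (FractionRing O)))) T ⟶ T'),
        Red.IsTorus T' → (∃ r : ℕ, Red.IsSplitTorusWith (Fin r → ℤ) T') → f ≫ σ' = (Over.pullback (Spec.map (CommRingCat.ofHom (algebraMap O (FractionRing O))))).map σ → IsIso f))) ∧
    (∀ (T₁ T₂ : Over (Spec (CommRingCat.of O))) [GrpObj T₁] [GrpObj T₂] (σ₁ : T₁ ⟶ G) (σ₂ : T₂ ⟶ G)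
      [IsMonHom σ₁] [Mono σ₁] [IsMonHom σ₂] [Mono σ₂],
      (Red.IsTorus (T₁) ∧ (∃ r : ℕ, Red.IsSplitTorusWith (Fin r → ℤ) (T₁)) ∧
      (∀ (T' : Over (Spec (CommRingCat.of O))) [GrpObj T'] (σ' : T' ⟶ G) [IsMonHom σ'] [Mono σ'] (f : T₁ ⟶ T'),
        Red.IsTorus T' → (∃ r : ℕ, Red.IsSplitTorusWith (Fin r → ℤ) T') → f ≫ σ' = σ₁ → IsIso f)) →
      (Red.IsTorus (T₂) ∧ (∃ r : ℕ, Red.IsSplitTorusWith (Fin r → ℤ) (T₂)) ∧
      (∀ (T' : Over (Spec (CommRingCat.of O))) [GrpObj T'] (σ' : T' ⟶ G) [IsMonHom σ'] [Mono σ'] (f : T₂ ⟶ T'),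
        Red.IsTorus T' → (∃ r : ℕ, Red.IsSplitTorusWith (Fin r → ℤ) T') → f ≫ σ' = σ₂ → IsIso f)) →
      (∃ e : Red.bc (Spec.map (CommRingCat.ofHom (algebraMap O (FractionRing O)))) T₁ ≅ Red.bc (Spec.map (CommRingCat.ofHom (algebraMap O (FractionRing O)))) T₂, e.hom ≫ (Over.pullback (Spec.map (CommRingCat.ofHom (algebraMap O (FractionRing O))))).map σ₂ = (Over.pullback (Spec.map (CommRingCat.ofHom (algebraMap O (FractionRing O))))).map σ₁) →
      ∃ f : T₁ ≅ T₂, f.hom ≫ σ₂ = σ₁) := by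
  refine ⟨fun T _ σ _ _ hT => ?_, fun T₁ T₂ _ _ σ₁ σ₂ _ _ _ _ hT₁ hT₂ h => ?_⟩
  · exact ⟨inferInstance, inferInstance, Groth.Agent.K687.GenSpl.maxSpl_genFibre hG σ hT⟩
  · obtain ⟨e, he⟩ := h
    exact Groth.Agent.K687.GenSpl.exists_iso_of_genFibre hG σ₁ σ₂ hT₁.1 hT₂.1 e he

end Groth.Agent.S19165
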