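import Groth.Statements.S19166
import Groth.Agent.Par.K147.PfMain

set_option autoImplicit false
open CategoryTheory MonoidalCategory CartesianMonoidalCategory MonObj GrpObj AlgebraicGeometry
universe u
open Par

namespace Groth.Agent.S19166

/-- Over an affine base S = Spec R, let Γ be a non-trivial totally ordered commutative group, G a
reductive S-group, f : D_S(Γ) ⟶ G a homomorphism, L_f its centralizer in G, and g_γ ⊆ Lie(G) the
weight space of the character γ for the adjoint action of D_S(Γ) through f (on every affine test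
scheme Spec B). Then there is a parabolic subgroup P_f of G containing L_f whose Lie algebra is ⊕_{γ
≥ 0} g_γ, i.e. for every R-algebra B the image of Lie(P_f)(B) in Lie(G)(B) is generated by the
g_γ(B) with γ ≥ 0; such a parabolic subgroup is unique up to isomorphism over G; and L_f is a Levi
subgroup of P_f. (The source works over an arbitrary base; the statement is local on the base. Its
further clauses on P_{−f}, opposed to P_f with P_f ∩ P_{−f} = L_f, and on Lie(U_f), are not stated.) -/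
theorem result (R : Type u) [CommRing R]
    (Γ : Type) [AddCommGroup Γ] [LinearOrder Γ] [IsOrderedAddMonoid Γ] [Nontrivial Γ]
    (G : Over (Spec (CommRingCat.of R))) [GrpObj G] (hG : Red.IsReductive G)
    (f : Red.DS (Spec (CommRingCat.of R)) Γ ⟶ G) [IsMonHom f]
    (Z : Over (Spec (CommRingCat.of R))) [GrpObj Z] (z : Z ⟶ G) [IsMonHom z] (hZ : Red.IsCentralizerOf f z) :
    (∃ (P : Over (Spec (CommRingCat.of R))) (_ : GrpObj P) (p : P ⟶ G) (_ : IsMonHom p) (zP : Z ⟶ P),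
      Red.IsParabolic p ∧ zP ≫ p = z ∧ Par.IsLevi zP ∧
      ∀ (B : Type u) [CommRing B] [Algebra R B],
        Subgroup.map (LieS.map B (Spec.map (CommRingCat.ofHom (algebraMap R B))) p) ⊤ =
          ⨆ c ∈ {c : Γ | 0 ≤ c}, LieWt.weightSpOf f (Red.chi (Spec (CommRingCat.of R)) c) B) ∧
    (∀ (P₁ P₂ : Over (Spec (CommRingCat.of R))) [GrpObj P₁] [GrpObj P₂] (p₁ : P₁ ⟶ G) (p₂ : P₂ ⟶ G) [IsMonHom p₁] [IsMonHom p₂]
      (z₁ : Z ⟶ P₁) (z₂ : Z ⟶ P₂),
      Red.IsParabolic p₁ → Red.IsParabolic p₂ → z₁ ≫ p₁ = z → z₂ ≫ p₂ = z →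
      (∀ (B : Type u) [CommRing B] [Algebra R B],
        Subgroup.map (LieS.map B (Spec.map (CommRingCat.ofHom (algebraMap R B))) p₁) ⊤ =
          ⨆ c ∈ {c : Γ | 0 ≤ c}, LieWt.weightSpOf f (Red.chi (Spec (CommRingCat.of R)) c) B) →
      (∀ (B : Type u) [CommRing B] [Algebra R B],
        Subgroup.map (LieS.map B (Spec.map (CommRingCat.ofHom (algebraMap R B))) p₂) ⊤ =
          ⨆ c ∈ {c : Γ | 0 ≤ c}, LieWt.weightSpOf f (Red.chi (Spec (CommRingCat.of R)) c) B) →
      ∃ e : P₁ ≅ P₂, e.hom ≫ p₂ = p₁) := by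
  have hzm := hZ.1
  obtain ⟨lam, _, P, _, p, _, hp, hz, hpar, hLie⟩ := K147.PfMain.exists_main f hG z hZ
  have hpmono := hp.mono
  obtain ⟨zP, hzP⟩ := Groth.Agent.Sga3B.Parab.DynLevi998.exists_zP hp hz
  refine ⟨⟨P, inferInstance, p, inferInstance, zP, hpar, hzP, ?_, hLie⟩, ?_⟩
  · exact Groth.Agent.K547.DynTools.isLevi_of_isDynZ lam hG hp (l := zP) (by rw [hzP]; exact hz)
  · intro P₁ P₂ _ _ p₁ p₂ _ _ z₁ z₂ hp₁ hp₂ hz₁ hz₂ hL₁ hL₂
    obtain ⟨e₁, he₁⟩ := K147.PfMain.exists_iso hG lam hp hz hp₁ z₁ hz₁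
      (fun B _ _ => (hL₁ B).trans (hLie B).symm)
    obtain ⟨e₂, he₂⟩ := K147.PfMain.exists_iso hG lam hp hz hp₂ z₂ hz₂
      (fun B _ _ => (hL₂ B).trans (hLie B).symm)
    refine ⟨e₁ ≪≫ e₂.symm, ?_⟩
    rw [← he₁, ← he₂]
    simp

end Groth.Agent.S19166
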