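import Groth.Statements.S19174
import Groth.Agent.Curves.K334.ConstMap
import Groth.Agent.VarietyB.ProjSpaceProper

set_option autoImplicit false
universe u
open CategoryTheory CategoryTheory.Limits AlgebraicGeometry
open Curves

namespace Groth.Agent.S19174

open Groth.Agent.CurvesC.TailNum Groth.Agent.CurvesC.DegIso in
attribute [local instance] subOver in
theorem main (k : Type u) [Field k] [IsAlgClosed k]
    (C : Scheme.{u}) [C.Over (Spec (CommRingCat.of k))] [IsProper (C ↘ (Spec (CommRingCat.of k)))]
    [AlgebraicGeometry.IsReduced C] [ConnectedSpace C] (hdim : topologicalKrullDim C = 1)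
    (hg : Curv2.genus k C = 1)
    (π : C ⟶ CohB1.ProjSpace 1 k)
    (hcontr : ∀ J : C.IdealSheafData, AlgebraicGeometry.IsReduced J.subscheme → ConnectedSpace J.subscheme →
      topologicalKrullDim J.subscheme = 1 →
      (∀ x y : J.subscheme, (J.subschemeι ≫ π).base x = (J.subschemeι ≫ π).base y) →
      @Curv2.genus k _ J.subscheme ⟨J.subschemeι ≫ (C ↘ (Spec (CommRingCat.of k)))⟩ = 0) (d : ℤ) (hd : 0 < d) :
    Subsingleton (Coh.HH C ((Scheme.Modules.pullback π).obj (Twist.twistProjSpace 1 k d)) 1) := by
  have hA : CohB1.IsAmple (Twist.twistProjSpace 1 k d) := Groth.Agent.S10962.isAmple_of_pos k 1 hd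
  have hgA := K334.ConstMap.isGloballyGenerated_twist 1 k d hd.le
  have hL := Groth.Agent.Fdesc.LocGen.isInvertible_pullback π hA.1
  have hgL := Groth.Agent.VarietyB.GGStalk.isGloballyGenerated_pullback π _ hgA
  have hprop : IsProper (CohB1.ProjSpace.toSpec 1 k) :=
    Groth.Agent.VarietyB.ProjSpaceProper.isProper_toSpec 1 k
  have hqs : QuasiSeparatedSpace (CohB1.ProjSpace 1 k) :=
    quasiSeparatedSpace_of_quasiSeparated (CohB1.ProjSpace.toSpec 1 k)
  refine K334.GorNum.exists_subcurve_of_h1 k hdim _ hL fun J hr hc h1 => ?_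
  have hPJ := Groth.Agent.CurvesC.DegZeroSec512.isProper_sub k J
  have h2 := K334.ConstMap.gg_le k hdim.le J
  rw [hg] at h2
  have h3 : 0 ≤ K334.GorNum.dd k C ((Scheme.Modules.pullback π).obj (Twist.twistProjSpace 1 k d)) J :=
    K334.ConstMap.deg_nonneg_of_gg k J.subscheme h1 (Groth.Agent.Fdesc.LocGen.isInvertible_pullback _ hL)
      (Groth.Agent.VarietyB.GGStalk.isGloballyGenerated_pullback _ _ hgL)
  by_contra hcon
  push Not at hcon
  have h4 : K334.GorNum.gg k C J = 1 := by push_cast at h2; omega
  have h5 : K334.GorNum.dd k C ((Scheme.Modules.pullback π).obj (Twist.twistProjSpace 1 k d)) J ≤ 0 := by omega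
  have e : (Scheme.Modules.pullback J.subschemeι).obj ((Scheme.Modules.pullback π).obj (Twist.twistProjSpace 1 k d)) ≅
      (Scheme.Modules.pullback (J.subschemeι ≫ π)).obj (Twist.twistProjSpace 1 k d) :=
    (Scheme.Modules.pullbackComp J.subschemeι π).app _
  have h6 := hcontr J hr hc h1 (K334.ConstMap.const_of_deg k J.subscheme h1 (J.subschemeι ≫ π) hA
    (Groth.Agent.VarietyB.GGStalk.isGloballyGenerated_pullback _ _ hgA)
    (by rw [← deg_congr k e]; exact h5))
  have h7 : K334.GorNum.gg k C J = ((0 : ℕ) : ℤ) := congrArg (Nat.cast : ℕ → ℤ) h6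
  rw [h7] at h4
  norm_num at h4

/-- Let k be an algebraically closed field of characteristic zero and C a proper reduced connected
one-dimensional scheme over k with at-worst-nodal singularities and dim_k H^1(C, O_C) = 1 (a
connected nodal curve of arithmetic genus one). Let π : C → P^1_k be a morphism over k contracting
no connected subcurve of arithmetic genus one: for every reduced connected one-dimensional closed
subscheme Y of C on which π is constant, dim_k H^1(Y, O_Y) = 0. Then H^1(C, π^*O(1)) = 0 and H^1(C,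
π^*O(2)) = 0, where O(d) is the d-th twisting sheaf of P^1_k. -/
theorem result (k : Type u) [Field k] [IsAlgClosed k] [CharZero k]
    (C : Scheme.{u}) [C.Over (Spec (CommRingCat.of k))] [IsProper (C ↘ (Spec (CommRingCat.of k)))]
    [AlgebraicGeometry.IsReduced C] [ConnectedSpace C] (hdim : topologicalKrullDim C = 1)
    (hC : Curv2.AtWorstNodal k C) (hg : Curv2.genus k C = 1)
    (π : C ⟶ CohB1.ProjSpace 1 k) (hπ : π ≫ CohB1.ProjSpace.toSpec 1 k = C ↘ (Spec (CommRingCat.of k)))
    (hcontr : ∀ J : C.IdealSheafData, AlgebraicGeometry.IsReduced J.subscheme → ConnectedSpace J.subscheme →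
      topologicalKrullDim J.subscheme = 1 →
      (∀ x y : J.subscheme, (J.subschemeι ≫ π).base x = (J.subschemeι ≫ π).base y) →
      @Curv2.genus k _ J.subscheme ⟨J.subschemeι ≫ (C ↘ (Spec (CommRingCat.of k)))⟩ = 0) :
    Subsingleton (Coh.HH C ((Scheme.Modules.pullback π).obj (Twist.twistProjSpace 1 k 1)) 1) ∧
      Subsingleton (Coh.HH C ((Scheme.Modules.pullback π).obj (Twist.twistProjSpace 1 k 2)) 1) := by
  exact ⟨main k C hdim hg π hcontr 1 one_pos, main k C hdim hg π hcontr 2 two_pos⟩

end Groth.Agent.S19174
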