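import Groth.Statements.S19175
import Groth.Agent.Surf.K464.FibTriv
import Groth.Agent.Surf.K464.FibCurve
import Groth.Agent.CurvesC.DegIso
import Groth.Agent.S1535

set_option autoImplicit false
universe u
open CategoryTheory CategoryTheory.Limits AlgebraicGeometry
open Surf

namespace Groth.Agent.S19175

open K464.Base K464.Curves K464.DegCurve K464.PtCurve K464.FibCurve Groth.Agent.Grpsch.PicGrp Groth.Agent

/-- Let k be an algebraically closed field of characteristic zero, X a smooth proper integral surface
over k and B a smooth proper integral curve over k, and f : X → B a k-morphism each of whose fibres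
over a closed point is an integral one-dimensional scheme with at-worst-nodal singularities and
arithmetic genus one (an elliptic fibration all of whose fibres are smooth elliptic or irreducible
nodal). Let s be a section of f and L_S an invertible O_X-module inverse to the ideal of the closed
immersion s (the class of the curve S = s(B)); let L_F be the pullback along f of an invertible
O_B-module inverse to the ideal of a closed point (the class of a fibre); and let L_C be an
invertible O_X-module whose restriction to the fibre over every closed point of some nonempty open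
subset of B is isomorphic to the restriction of L_S (a class agreeing with S on the general fibre).
Then there is an integer m with 2m = (L_S·L_S) − (L_C·L_C) and (L_S·N) = (L_C·N) + m·(L_F·N) for
every invertible O_X-module N: numerically S ≡ C + ((S² − C²)/2)·F. Here (L·N) = χ(O_X) − χ(L) −
χ(N) + χ(L ⊗ N) is the intersection number of invertible modules on the proper surface X. -/
theorem result (k : Type u) [Field k] [IsAlgClosed k] [CharZero k]
    (X B : Scheme.{u}) [X.Over (Spec (CommRingCat.of k))] [B.Over (Spec (CommRingCat.of k))]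
    [IsProper (X ↘ (Spec (CommRingCat.of k)))] [Smooth (X ↘ (Spec (CommRingCat.of k)))] [AlgebraicGeometry.IsIntegral X] (hX2 : topologicalKrullDim X = 2)
    [IsProper (B ↘ (Spec (CommRingCat.of k)))] [Smooth (B ↘ (Spec (CommRingCat.of k)))] [AlgebraicGeometry.IsIntegral B] (hB1 : topologicalKrullDim B = 1)
    (f : X ⟶ B) (hf : f ≫ (B ↘ (Spec (CommRingCat.of k))) = X ↘ (Spec (CommRingCat.of k)))
    (hfib : ∀ b : B, IsClosed ({b} : Set B) →
      AlgebraicGeometry.IsIntegral (f.fiber b) ∧ topologicalKrullDim (f.fiber b) = 1 ∧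
        @Curv2.AtWorstNodal (B.residueField b) _ (f.fiber b) ⟨f.fiberToSpecResidueField b⟩ ∧
        @Curv2.genus (B.residueField b) _ (f.fiber b) ⟨f.fiberToSpecResidueField b⟩ = 1)
    (s : B ⟶ X) (hs : s ≫ f = 𝟙 B)
    (LS : X.Modules) (hLS : PicF.IsInvertible LS) (hLSinv : ClSub.IsInverseOf LS (ClSub.idealMod s.ker))
    (b₀ : B) (hb₀ : IsClosed ({b₀} : Set B)) (M : B.Modules) (hM : PicF.IsInvertible M)
    (hMinv : ClSub.IsInverseOf M (ClSub.idealMod (Scheme.IdealSheafData.vanishingIdeal ⟨{b₀}, hb₀⟩)))
    (LC : X.Modules) (hLC : PicF.IsInvertible LC)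
    (hgen : ∃ U : B.Opens, (U : Set B).Nonempty ∧ ∀ b ∈ U, IsClosed ({b} : Set B) →
      Nonempty ((Scheme.Modules.pullback (f.fiberι b)).obj LC ≅ (Scheme.Modules.pullback (f.fiberι b)).obj LS)) :
    ∃ m : ℤ, 2 * m = FGA.intNum k X 2 ![LS, LS] (Coh.structureModule X) - FGA.intNum k X 2 ![LC, LC] (Coh.structureModule X) ∧
      ∀ N : X.Modules, PicF.IsInvertible N →
        FGA.intNum k X 2 ![LS, N] (Coh.structureModule X) =
          FGA.intNum k X 2 ![LC, N] (Coh.structureModule X) +
            m * FGA.intNum k X 2 ![(Scheme.Modules.pullback f).obj M, N] (Coh.structureModule X) := by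
  have hregB : ∀ b : B, IsRegularLocalRing (B.presheaf.stalk b) := fun b => S1535.result k B b
  have hsurj : Surjective f := ⟨fun b => ⟨s b, by rw [← Scheme.Hom.comp_apply, hs]; rfl⟩⟩
  have hprop : IsProper f := isProper k f hf
  have hflat : Flat f := K456.FlatCurve.flat_of_dominant f hregB hB1.le
  have hlfp : LocallyOfFinitePresentation f := locallyOfFinitePresentation k f hf
  have hX2' : topologicalKrullDim X ≤ (2 : ℕ) := hX2.le
  have : AlgebraicGeometry.IsNoetherian X := CurvesB.CurveRR.isNoetherian_of_proper k X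
  have : AlgebraicGeometry.IsNoetherian B := CurvesB.CurveRR.isNoetherian_of_proper k B
  -- the section
  have hsc : IsClosedImmersion s := by
    have : IsClosedImmersion (s ≫ f) := by rw [hs]; infer_instance
    exact IsClosedImmersion.of_comp s f
  have hsk : s ≫ (X ↘ Spec (CommRingCat.of k)) = B ↘ Spec (CommRingCat.of k) := by
    rw [← hf, reassoc_of% hs]
  let eS : B ≅ s.ker.subscheme := asIso s.toImage
  have : Nonempty s.ker.subscheme := ⟨eS.hom (genericPoint B)⟩
  have hC : IsCurve s.ker := by
    refine ⟨isIntegral_of_isOpenImmersion eS.inv, ?_⟩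
    rw [← dim_sub, ← hB1]
    exact (IsHomeomorph.topologicalKrullDim_eq _ eS.schemeIsoToHomeo.isHomeomorph).symm
  have hSe : BlowUp.IsEffCartierIdeal s.ker := isEff_of_smooth k hX2 hC
  have hdegS : ∀ A : Pic B, dot k X (pull f A) (mk LS hLS) = degC k B A := by
    intro A
    obtain ⟨L, hL, rfl⟩ := exists_mk A
    rw [mk_eq_ic_inv hLSinv hLS hSe, dot_inv_right k X hX2', dot_comm, dot_ic_eq, neg_neg, degOn_eq_degC, pull_mk, pull_mk,
      degC_mk, degC_mk]
    let _ := overC k X s.ker
    have h1 := Groth.Agent.CurvesC.DegIso.deg_restrict k s.ker.subschemeι s rfl hsk eS.symm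
      (by simp [eS]) ((Scheme.Modules.pullback f).obj L) 1
    refine h1.trans ?_
    have h2 : degC k B (pull s (pull f (mk L hL))) = degC k B (mk L hL) := by
      rw [← pull_comp, hs, pull_id]
    exact h2
  -- the difference
  obtain ⟨M', hM', hpull⟩ : ∃ (M' : B.Modules) (hM' : PicF.IsInvertible M'),
      mk LS hLS = mk LC hLC * pull f (mk M' hM') := by
    obtain ⟨N₀, hN₀, h0⟩ := exists_mk (mk LS hLS * (mk LC hLC)⁻¹)
    obtain ⟨U, hU, hUtriv⟩ := hgen
    obtain ⟨M', hM', h1⟩ := K464.FibTriv.exists_pull f k (B ↘ Spec (CommRingCat.of k)) hB1 hregB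
      (fun b hb => (hfib b hb).1) hN₀ U hU (fun b hb hb' => by
        rw [← mk_eq_one_iff (Groth.Agent.Fdesc.LocGen.isInvertible_pullback (f.fiberι b) hN₀), ← pull_mk (f.fiberι b) hN₀, ← h0, map_mul, map_inv,
          pull_mk, pull_mk, mul_inv_eq_one, mk_eq_iff]
        exact ⟨(hUtriv b hb hb').some.symm⟩)
    exact ⟨M', hM', by rw [h1, ← h0, mul_comm, inv_mul_cancel_right]⟩
  have hE : BlowUp.IsEffCartierIdeal (pt hb₀) := isEff_pt k (B ↘ Spec (CommRingCat.of k)) hB1 hregB hb₀
  have hMdeg : degC k B (mk M hM) = 1 := by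
    rw [mk_eq_ic_inv hMinv hM hE, degC_inv k B hB1, degC_pt k hB1 hb₀]; norm_num
  have hMM := Groth.Agent.Fdesc.LocGen.isInvertible_pullback f hM
  refine ⟨degC k B (mk M' hM'), ?_, ?_⟩
  · rw [intNum_eq_dot k X hX2' hLS hLS, intNum_eq_dot k X hX2' hLC hLC]
    have h1 : mk LC hLC = mk LS hLS * (pull f (mk M' hM'))⁻¹ := by rw [hpull, mul_inv_cancel_right]
    rw [h1, dot_mul_left k X hX2', dot_mul_right k X hX2', dot_mul_right k X hX2', dot_inv_right k X hX2',
      dot_inv_inv k X hX2', dot_inv_left k X hX2', dot_comm k X (mk LS hLS) (pull f (mk M' hM')), hdegS,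
      dot_pull_pull k f hf hX2' hB1 hregB]
    ring
  · intro N hN
    rw [intNum_eq_dot k X hX2' hLS hN, intNum_eq_dot k X hX2' hLC hN, intNum_eq_dot k X hX2' hMM hN, ← pull_mk f hM,
      dot_pull k f hf hX2' hB1 hregB _ hN, hMdeg, hpull, dot_mul_left k X hX2', dot_pull k f hf hX2' hB1 hregB _ hN]
    ring

end Groth.Agent.S19175
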