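import Groth.Statements.S19176
import Mathlib.RingTheory.MvPolynomial.Ideal
import Mathlib.LinearAlgebra.Dimension.Constructions
import Mathlib.LinearAlgebra.FreeModule.Finite.Basic
import Mathlib.Algebra.MvPolynomial.PDeriv
import Mathlib.Tactic

set_option autoImplicit false
universe u
open PlaneCurve

namespace Groth.Agent.S19176

section helpers
open MvPolynomial


/-- The exponent `(i, j)`. -/
noncomputable def ex (i j : ℕ) : Fin 2 →₀ ℕ := Finsupp.single 0 i + Finsupp.single 1 j

theorem ex_zero (i j : ℕ) : ex i j 0 = i := by simp [ex]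
theorem ex_one (i j : ℕ) : ex i j 1 = j := by simp [ex]

theorem ex_inj {i j i' j' : ℕ} (h : ex i j = ex i' j') : i = i' ∧ j = j' := by
  refine ⟨?_, ?_⟩
  · rw [← ex_zero i j, h, ex_zero]
  · rw [← ex_one i j, h, ex_one]

/-- Coefficients in the box `a × b`. -/
noncomputable def cf (k : Type u) [Field k] (a b : ℕ) :
    MvPolynomial (Fin 2) k →ₗ[k] (Fin a × Fin b → k) :=
  LinearMap.pi fun ij => MvPolynomial.lcoeff k (ex ij.1 ij.2)

theorem cf_surj (k : Type u) [Field k] (a b : ℕ) : Function.Surjective (cf k a b) := by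
  intro f
  refine ⟨∑ ij : Fin a × Fin b, monomial (ex ij.1 ij.2) (f ij), ?_⟩
  funext ij
  simp only [cf, LinearMap.pi_apply, lcoeff_apply, coeff_sum, coeff_monomial]
  rw [Finset.sum_eq_single ij]
  · simp
  · intro b' _ hb'
    rw [if_neg]
    intro h
    apply hb'
    obtain ⟨h1, h2⟩ := ex_inj h
    exact Prod.ext (Fin.ext h1) (Fin.ext h2)
  · simp

theorem ker_cf (k : Type u) [Field k] (a b : ℕ) :
    LinearMap.ker (cf k a b) = (Ideal.span ({X 0 ^ a, X 1 ^ b} : Set (MvPolynomial (Fin 2) k))).restrictScalars k := by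
  have himg : ({X 0 ^ a, X 1 ^ b} : Set (MvPolynomial (Fin 2) k)) =
      (fun s => monomial s (1 : k)) '' {ex a 0, ex 0 b} := by
    rw [Set.image_pair]
    simp only [ex, X_pow_eq_monomial, Finsupp.single_zero, add_zero, zero_add]
  ext p
  rw [Submodule.restrictScalars_mem, himg, mem_ideal_span_monomial_image, LinearMap.mem_ker]
  constructor
  · intro hp xi hxi
    by_contra hcon
    push Not at hcon
    have h1 := hcon (ex a 0) (by simp)
    have h2 := hcon (ex 0 b) (by simp)
    have h1' : xi 0 < a := by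
      by_contra hlt
      apply h1
      intro t
      fin_cases t
      · simpa [ex] using hlt
      · simp [ex]
    have h2' : xi 1 < b := by
      by_contra hlt
      apply h2
      intro t
      fin_cases t
      · simp [ex]
      · simpa [ex] using hlt
    have := congrFun hp (⟨xi 0, h1'⟩, ⟨xi 1, h2'⟩)
    simp only [cf, LinearMap.pi_apply, lcoeff_apply, Pi.zero_apply] at this
    have hxe : ex (xi 0) (xi 1) = xi := by
      ext t
      fin_cases t
      · simp [ex]
      · simp [ex]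
    rw [hxe] at this
    exact (mem_support_iff.1 hxi) this
  · intro hp
    funext ij
    simp only [cf, LinearMap.pi_apply, lcoeff_apply, Pi.zero_apply]
    by_contra hne
    obtain ⟨si, hsi, hle⟩ := hp _ (mem_support_iff.2 hne)
    rcases hsi with rfl | hsi
    · have := hle 0
      rw [ex_zero, ex_zero] at this
      exact absurd this (not_le.2 ij.1.2)
    · rw [Set.mem_singleton_iff] at hsi
      subst hsi
      have := hle 1
      rw [ex_one, ex_one] at this
      exact absurd this (not_le.2 ij.2.2)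

theorem finrank_box (k : Type u) [Field k] (a b : ℕ) :
    Module.finrank k (MvPolynomial (Fin 2) k ⧸ Ideal.span
      ({X 0 ^ a, X 1 ^ b} : Set (MvPolynomial (Fin 2) k))) = a * b := by
  have e1 := LinearMap.quotKerEquivOfSurjective (cf k a b) (cf_surj k a b)
  have e2 : (MvPolynomial (Fin 2) k ⧸ LinearMap.ker (cf k a b)) ≃ₗ[k]
    (MvPolynomial (Fin 2) k ⧸ (Ideal.span ({X 0 ^ a, X 1 ^ b} : Set (MvPolynomial (Fin 2) k))).restrictScalars k) :=
    Submodule.quotEquivOfEq _ _ (ker_cf k a b)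
  have e3 := Submodule.Quotient.restrictScalarsEquiv k (Ideal.span ({X 0 ^ a, X 1 ^ b} : Set (MvPolynomial (Fin 2) k)))
  rw [← (e2.trans e3).finrank_eq, e1.finrank_eq]
  simp

theorem ideal_eq (k : Type u) [Field k] (a b : ℕ)
    (J : Ideal (MvPolynomial (Fin 2) k)) 
    (h1 : (X 0 ^ a : MvPolynomial (Fin 2) k) ∈ J) (h2 : (X 1 ^ b : MvPolynomial (Fin 2) k) ∈ J)
    (f g h : MvPolynomial (Fin 2) k) (hJ : J = Ideal.span {f, g, h})
    (hf : f ∈ Ideal.span ({X 0 ^ a, X 1 ^ b} : Set (MvPolynomial (Fin 2) k)))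
    (hg : g ∈ Ideal.span ({X 0 ^ a, X 1 ^ b} : Set (MvPolynomial (Fin 2) k)))
    (hh : h ∈ Ideal.span ({X 0 ^ a, X 1 ^ b} : Set (MvPolynomial (Fin 2) k))) :
    J = Ideal.span ({X 0 ^ a, X 1 ^ b} : Set (MvPolynomial (Fin 2) k)) := by
  apply le_antisymm
  · rw [hJ, Ideal.span_le]
    rintro x (rfl | rfl | rfl)
    exacts [hf, hg, hh]
  · rw [Ideal.span_le]
    rintro x (rfl | rfl)
    exacts [h1, h2]

end helpers

open MvPolynomial in
/-- Let k be a field of characteristic p (p = 0 allowed) and F = y² − x³ in k[x, y] (x the variable of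
index 0, y of index 1). The singular subscheme of the plane curve F = 0, cut out by F and its two
partial derivatives, is finite over k of degree 4 when p = 2, of degree 3 when p = 3, and of degree
2 otherwise: the k-dimension of k[x, y]/(F, ∂F/∂x, ∂F/∂y) is that number. (The source phrases this
through the complete local ring of a cusp; the row is the computation for the standard cusp y² =
x³.) -/
theorem result (k : Type u) [Field k] (p : ℕ) [CharP k p] :
    Module.finrank k (MvPolynomial (Fin 2) k ⧸ Ideal.span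
      ({X 1 ^ 2 - X 0 ^ 3, pderiv 0 (X 1 ^ 2 - X 0 ^ 3), pderiv 1 (X 1 ^ 2 - X 0 ^ 3)} :
        Set (MvPolynomial (Fin 2) k))) = (if p = 2 then 4 else if p = 3 then 3 else 2) := by
  have hd0 : pderiv 0 (X 1 ^ 2 - X 0 ^ 3 : MvPolynomial (Fin 2) k) = - (3 * X 0 ^ 2) := by
    rw [map_sub, Derivation.leibniz_pow, Derivation.leibniz_pow, pderiv_X_self, pderiv_X_of_ne (by decide)]
    simp [nsmul_eq_mul]
  have hd1 : pderiv 1 (X 1 ^ 2 - X 0 ^ 3 : MvPolynomial (Fin 2) k) = 2 * X 1 := by
    rw [map_sub, Derivation.leibniz_pow, Derivation.leibniz_pow, pderiv_X_self, pderiv_X_of_ne (by decide)]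
    simp [nsmul_eq_mul]
  rw [hd0, hd1]
  have h2C : (2 : MvPolynomial (Fin 2) k) = C (2 : k) := (map_ofNat C 2).symm
  have h3C : (3 : MvPolynomial (Fin 2) k) = C (3 : k) := (map_ofNat C 3).symm
  generalize hJ : Ideal.span ({X 1 ^ 2 - X 0 ^ 3, -(3 * X 0 ^ 2), 2 * X 1} : Set (MvPolynomial (Fin 2) k)) = J
  have hfJ : (X 1 ^ 2 - X 0 ^ 3 : MvPolynomial (Fin 2) k) ∈ J := by
    rw [← hJ]; exact Ideal.subset_span (Set.mem_insert _ _)
  have hgJ : (-(3 * X 0 ^ 2) : MvPolynomial (Fin 2) k) ∈ J := by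
    rw [← hJ]; exact Ideal.subset_span (Set.mem_insert_of_mem _ (Set.mem_insert _ _))
  have hhJ : (2 * X 1 : MvPolynomial (Fin 2) k) ∈ J := by
    rw [← hJ]
    exact Ideal.subset_span (Set.mem_insert_of_mem _ (Set.mem_insert_of_mem _ (Set.mem_singleton _)))
  by_cases h2 : p = 2
  · subst h2
    have h20 : (2 : k) = 0 := by exact_mod_cast CharP.cast_eq_zero k 2
    have h2M : (2 : MvPolynomial (Fin 2) k) = 0 := by rw [h2C, h20, map_zero]
    have hx2 : (X 0 ^ 2 : MvPolynomial (Fin 2) k) ∈ J := by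
      have : (X 0 ^ 2 : MvPolynomial (Fin 2) k) = - (3 * X 0 ^ 2) := by
        linear_combination (2 * X 0 ^ 2) * h2M
      rw [this]
      exact hgJ
    have hy2 : (X 1 ^ 2 : MvPolynomial (Fin 2) k) ∈ J := by
      have : (X 1 ^ 2 : MvPolynomial (Fin 2) k) = (X 1 ^ 2 - X 0 ^ 3) + X 0 * X 0 ^ 2 := by ring
      rw [this]
      exact Ideal.add_mem _ hfJ (Ideal.mul_mem_left _ _ hx2)
    rw [ideal_eq k 2 2 J hx2 hy2 _ _ _ hJ.symm, finrank_box, if_pos rfl]
    · refine Ideal.mem_span_pair.2 ⟨-X 0, 1, by ring⟩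
    · refine Ideal.mem_span_pair.2 ⟨-3, 0, by ring⟩
    · rw [h2M, zero_mul]; exact Ideal.zero_mem _
  · rw [if_neg h2]
    have h20 : (2 : k) ≠ 0 := by
      intro h
      have h' : ((2 : ℕ) : k) = 0 := by exact_mod_cast h
      rw [CharP.cast_eq_zero_iff k p 2] at h'
      rcases (Nat.dvd_prime Nat.prime_two).1 h' with h1 | h1
      · exact CharP.char_ne_one k p h1
      · exact h2 h1
    have hyJ : (X 1 : MvPolynomial (Fin 2) k) ∈ J := by
      have : (X 1 : MvPolynomial (Fin 2) k) = C (2 : k)⁻¹ * (2 * X 1) := by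
        rw [h2C, ← mul_assoc, ← map_mul, inv_mul_cancel₀ h20, map_one, one_mul]
      rw [this]
      exact Ideal.mul_mem_left _ _ hhJ
    by_cases h3 : p = 3
    · subst h3
      have h30 : (3 : k) = 0 := by exact_mod_cast CharP.cast_eq_zero k 3
      have h3M : (3 : MvPolynomial (Fin 2) k) = 0 := by rw [h3C, h30, map_zero]
      have hx3 : (X 0 ^ 3 : MvPolynomial (Fin 2) k) ∈ J := by
        have : (X 0 ^ 3 : MvPolynomial (Fin 2) k) = X 1 * X 1 - (X 1 ^ 2 - X 0 ^ 3) := by ring
        rw [this]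
        exact Ideal.sub_mem _ (Ideal.mul_mem_left _ _ hyJ) hfJ
      rw [ideal_eq k 3 1 J hx3 (by rw [pow_one]; exact hyJ) _ _ _ hJ.symm, finrank_box, if_pos rfl]
      · refine Ideal.mem_span_pair.2 ⟨-1, X 1, by ring⟩
      · rw [h3M, zero_mul, neg_zero]; exact Ideal.zero_mem _
      · refine Ideal.mem_span_pair.2 ⟨0, 2, by ring⟩
    · rw [if_neg h3]
      have h30 : (3 : k) ≠ 0 := by
        intro h
        have h' : ((3 : ℕ) : k) = 0 := by exact_mod_cast h
        rw [CharP.cast_eq_zero_iff k p 3] at h'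
        rcases (Nat.dvd_prime Nat.prime_three).1 h' with h1 | h1
        · exact CharP.char_ne_one k p h1
        · exact h3 h1
      have hx2 : (X 0 ^ 2 : MvPolynomial (Fin 2) k) ∈ J := by
        have : (X 0 ^ 2 : MvPolynomial (Fin 2) k) = - C (3 : k)⁻¹ * (- (3 * X 0 ^ 2)) := by
          rw [h3C, neg_mul_neg, ← mul_assoc, ← map_mul, inv_mul_cancel₀ h30, map_one, one_mul]
        rw [this]
        exact Ideal.mul_mem_left _ _ hgJ
      rw [ideal_eq k 2 1 J hx2 (by rw [pow_one]; exact hyJ) _ _ _ hJ.symm, finrank_box]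
      · refine Ideal.mem_span_pair.2 ⟨-X 0, X 1, by ring⟩
      · refine Ideal.mem_span_pair.2 ⟨-3, 0, by ring⟩
      · refine Ideal.mem_span_pair.2 ⟨0, 2, by ring⟩

end Groth.Agent.S19176
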