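import Groth.Statements.S19177
import Mathlib.Tactic
import Mathlib.RingTheory.Flat.Rank
import Mathlib.RingTheory.Spectrum.Prime.FreeLocus

set_option autoImplicit false
universe u
open CAlg

namespace Groth.Agent.S19177

/-- Let S → R be a homomorphism of commutative rings making R a finitely generated projective S-module
of rank 2 at every prime of S (the affine form of a finite locally free morphism of degree 2). Then
the cokernel of the (injective) structure map S → R, the S-module R/S, is a projective S-module of
rank 1 at every prime of S (locally free of rank 1). -/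
theorem result
    (S R : Type u) [CommRing S] [CommRing R] [Algebra S R] [Module.Finite S R] [Module.Projective S R]
    (h2 : ∀ p : PrimeSpectrum S, Module.rankAtStalk (R := S) R p = 2) :
    Module.Projective S (R ⧸ LinearMap.range (Algebra.linearMap S R)) ∧
      ∀ p : PrimeSpectrum S,
        Module.rankAtStalk (R := S) (R ⧸ LinearMap.range (Algebra.linearMap S R)) p = 1 := by
  classical
  have hsurj : Function.Surjective (PrimeSpectrum.comap (algebraMap S R)) := by
    rw [← PrimeSpectrum.rankAtStalk_pos_iff_comap_surjective]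
    intro p
    rw [h2 p]; norm_num
  -- a linear form taking the value `1` at `1`
  obtain ⟨φ, hφ⟩ : ∃ φ : R →ₗ[S] S, φ 1 = 1 := by
    let J : Ideal S := LinearMap.range (LinearMap.applyₗ (R := S) (M₂ := S) (1 : R))
    have hJ : J = ⊤ := by
      by_contra hne
      obtain ⟨m, hm, hJm⟩ := Ideal.exists_le_maximal J hne
      obtain ⟨q, hq⟩ := hsurj ⟨m, hm.isPrime⟩
      have hq' : q.asIdeal.comap (algebraMap S R) = m := congrArg PrimeSpectrum.asIdeal hq
      obtain ⟨n, f, g, -, -, hfg⟩ := Module.Finite.exists_comp_eq_id_of_projective S R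
      have h1 : (1 : R) = ∑ i, g 1 i • f (Pi.single i 1) := by
        have h3 : f (g 1) = 1 := congrArg (fun h => h (1 : R)) (congrArg DFunLike.coe hfg)
        conv_lhs => rw [← h3, pi_eq_sum_univ' (g 1)]
        simp [map_sum]
      apply q.isPrime.ne_top
      rw [Ideal.eq_top_iff_one, h1]
      refine Ideal.sum_mem _ (fun i _ => ?_)
      rw [Algebra.smul_def]
      apply Ideal.mul_mem_right
      have h4 : g 1 i ∈ m := hJm ⟨(LinearMap.proj i).comp g, rfl⟩
      rw [← hq'] at h4
      exact h4
    have : (1 : S) ∈ J := hJ ▸ Submodule.mem_top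
    obtain ⟨φ, hφ⟩ := this
    exact ⟨φ, hφ⟩
  set Q := R ⧸ LinearMap.range (Algebra.linearMap S R) with hQ
  let F : R →ₗ[S] S × Q := φ.prod (Submodule.mkQ _)
  have hbij : Function.Bijective F := by
    constructor
    · rw [← LinearMap.ker_eq_bot, LinearMap.ker_eq_bot']
      intro x hx
      have hx1 : φ x = 0 := congrArg Prod.fst hx
      have hx2 : Submodule.mkQ (LinearMap.range (Algebra.linearMap S R)) x = 0 :=
        congrArg Prod.snd hx
      rw [Submodule.mkQ_apply, Submodule.Quotient.mk_eq_zero] at hx2
      obtain ⟨s, rfl⟩ := hx2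
      rw [Algebra.linearMap_apply, Algebra.algebraMap_eq_smul_one, map_smul, hφ] at hx1
      have : s = 0 := by simpa using hx1
      rw [this, map_zero]
    · rintro ⟨s, y⟩
      obtain ⟨y, rfl⟩ := Submodule.mkQ_surjective _ y
      refine ⟨y + algebraMap S R (s - φ y), Prod.ext ?_ ?_⟩
      · change φ (y + algebraMap S R (s - φ y)) = s
        rw [map_add, Algebra.algebraMap_eq_smul_one, map_smul, hφ]
        simp
      · change Submodule.mkQ _ (y + algebraMap S R (s - φ y)) = Submodule.mkQ _ y
        rw [map_add, add_eq_left, Submodule.mkQ_apply, Submodule.Quotient.mk_eq_zero]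
        exact ⟨_, rfl⟩
  let e : R ≃ₗ[S] S × Q := LinearEquiv.ofBijective F hbij
  haveI : Module.Projective S (S × Q) := Module.Projective.of_equiv e
  haveI hproj : Module.Projective S Q :=
    Module.Projective.of_split (LinearMap.inr S S Q) (LinearMap.snd S S Q) (by ext; simp)
  refine ⟨hproj, fun p => ?_⟩
  haveI : Nontrivial S := p.nontrivial
  have h3 := Module.rankAtStalk_eq_of_equiv e
  rw [Module.rankAtStalk_prod] at h3
  have h4 := congrFun h3 p
  rw [h2 p, Pi.add_apply, Module.rankAtStalk_self] at h4
  rw [Pi.one_apply] at h4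
  have h5 : Module.rankAtStalk (R := S) Q p = 1 := by
    generalize Module.rankAtStalk (R := S) Q p = z at h4 ⊢
    omega
  exact h5

end Groth.Agent.S19177
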