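import Groth.Statements.S19178
import Mathlib.RingTheory.Polynomial.Eisenstein.Criterion
import Mathlib.Algebra.MvPolynomial.Division
import Mathlib.Algebra.MvPolynomial.Equiv

set_option autoImplicit false
universe u
open Curves

namespace Groth.Agent.S19178

lemma irreducible_neg_aux {R : Type u} [CommRing R] {x : R} (h : Irreducible x) : Irreducible (-x) := by
  have : Associated x (-x) := ⟨-1, by simp⟩
  exact this.irreducible h

open Polynomial in
/-- A monic cubic whose lower coefficients are divisible by a prime `z`, with `z ^ 2` not dividing the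
constant term, is irreducible. -/
lemma irreducible_cubic {R : Type u} [CommRing R] [IsDomain R] {z : R} (hz : Prime z) (b c e : R)
    (he : ¬ z ∣ e) :
    Irreducible ((X : R[X]) ^ 3 + C (z * b) * X ^ 2 + C (z * c) * X + C (z * e)) := by
  have hdeg : ((X : R[X]) ^ 3 + C (z * b) * X ^ 2 + C (z * c) * X + C (z * e)).natDegree = 3 := by
    compute_degree!
  have hmon : ((X : R[X]) ^ 3 + C (z * b) * X ^ 2 + C (z * c) * X + C (z * e)).Monic := by
    monicity!
  refine irreducible_of_eisenstein_criterion (P := Ideal.span {z})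
    ((Ideal.span_singleton_prime hz.ne_zero).mpr hz) ?_ ?_ ?_ ?_ hmon.isPrimitive
  · rw [hmon.leadingCoeff]
    intro h
    exact hz.not_isUnit (isUnit_of_dvd_one (Ideal.mem_span_singleton.mp h))
  · intro n hn
    rw [degree_eq_natDegree hmon.ne_zero, hdeg] at hn
    have hn' : n < 3 := by exact_mod_cast hn
    rw [Ideal.mem_span_singleton]
    interval_cases n
    · simp only [coeff_add, coeff_C_mul, coeff_X_pow, coeff_X, coeff_C]; simp
    · simp only [coeff_add, coeff_C_mul, coeff_X_pow, coeff_X, coeff_C]; simp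
    · simp only [coeff_add, coeff_C_mul, coeff_X_pow, coeff_X, coeff_C]; simp
  · rw [degree_eq_natDegree hmon.ne_zero, hdeg]
    norm_num
  · have : ((X : R[X]) ^ 3 + C (z * b) * X ^ 2 + C (z * c) * X + C (z * e)).coeff 0 = z * e := by
      simp [coeff_X, coeff_C, coeff_X_pow]
    rw [this, Ideal.span_singleton_pow, Ideal.mem_span_singleton, pow_two]
    intro h
    exact he ((mul_dvd_mul_iff_left hz.ne_zero).mp h)

/-- For every field k and every choice of coefficients a₁, a₂, a₃, a₄, a₆ in k, the homogeneous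
Weierstrass cubic Y²Z + a₁XYZ + a₃YZ² − (X³ + a₂X²Z + a₄XZ² + a₆Z³) is an irreducible polynomial in
k[X, Y, Z]. Applied to all fields, this says every fibre of the Weierstrass family over the affine
space of coefficients is geometrically integral. -/
theorem result (k : Type u) [Field k]
    (W : WeierstrassCurve k) :
    Irreducible (WeierstrassCurve.Projective.polynomial W) := by
  have h0 : (0 : Fin 3) = 0 := rfl
  rw [← MulEquiv.irreducible_iff (MvPolynomial.finSuccEquiv k 2)]
  have h1 : MvPolynomial.finSuccEquiv k 2 (MvPolynomial.X 1) = Polynomial.C (MvPolynomial.X 0) :=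
    MvPolynomial.finSuccEquiv_X_succ (j := (0 : Fin 2))
  have h2 : MvPolynomial.finSuccEquiv k 2 (MvPolynomial.X 2) = Polynomial.C (MvPolynomial.X 1) :=
    MvPolynomial.finSuccEquiv_X_succ (j := (1 : Fin 2))
  have key : MvPolynomial.finSuccEquiv k 2 (WeierstrassCurve.Projective.polynomial W) =
      - (Polynomial.X ^ 3 + Polynomial.C (MvPolynomial.X 1 * (MvPolynomial.C W.a₂)) * Polynomial.X ^ 2
        + Polynomial.C (MvPolynomial.X 1 * (MvPolynomial.C W.a₄ * MvPolynomial.X 1 - MvPolynomial.C W.a₁ * MvPolynomial.X 0)) * Polynomial.X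
        + Polynomial.C (MvPolynomial.X 1 * (MvPolynomial.C W.a₆ * MvPolynomial.X 1 ^ 2 - MvPolynomial.X 0 ^ 2
          - MvPolynomial.C W.a₃ * MvPolynomial.X 0 * MvPolynomial.X 1))) := by
    rw [WeierstrassCurve.Projective.polynomial]
    simp only [map_add, map_sub, map_mul, map_pow, MvPolynomial.finSuccEquiv_X_zero, h1, h2,
      MvPolynomial.finSuccEquiv_apply, MvPolynomial.eval₂Hom_C, RingHom.comp_apply]
    simp only [← MvPolynomial.finSuccEquiv_apply, MvPolynomial.finSuccEquiv_X_zero, h1, h2]
    ring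
  rw [key]
  refine irreducible_neg_aux (irreducible_cubic (MvPolynomial.X_prime) _ _ _ ?_)
  intro hd
  have h3 : (MvPolynomial.X 1 : MvPolynomial (Fin 2) k) ∣ MvPolynomial.X 0 ^ 2 := by
    have h4 : (MvPolynomial.X 1 : MvPolynomial (Fin 2) k) ∣ MvPolynomial.C W.a₆ * MvPolynomial.X 1 ^ 2
        - MvPolynomial.C W.a₃ * MvPolynomial.X 0 * MvPolynomial.X 1 :=
      dvd_sub (Dvd.dvd.mul_left (dvd_pow_self _ two_ne_zero) _) (dvd_mul_left _ _)
    have h5 := dvd_sub h4 hd
    have : MvPolynomial.C W.a₆ * MvPolynomial.X 1 ^ 2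
        - MvPolynomial.C W.a₃ * MvPolynomial.X 0 * MvPolynomial.X 1 -
        (MvPolynomial.C W.a₆ * MvPolynomial.X 1 ^ 2 - MvPolynomial.X 0 ^ 2
          - MvPolynomial.C W.a₃ * MvPolynomial.X 0 * MvPolynomial.X 1) =
        (MvPolynomial.X 0 ^ 2 : MvPolynomial (Fin 2) k) := by ring
    rwa [this] at h5
  have h6 := (MvPolynomial.X_prime (R := k) (i := (1 : Fin 2))).dvd_of_dvd_pow h3
  rw [MvPolynomial.X_dvd_X] at h6
  exact absurd h6 (by decide)

end Groth.Agent.S19178
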