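import Groth.Statements.S19181
import Mathlib.Tactic

set_option autoImplicit false
universe u
open CAlg

namespace Groth.Agent.S19181

/-- saturation of a principal ideal `(x² g)` when `x` is regular and regular modulo `g` -/
theorem sat {P : Type*} [CommRing P] (x g : P) (hx : x ∈ nonZeroDivisors P)
    (hg : ∀ t, x ∣ g * t → x ∣ t) (s : P) :
    (∃ n : ℕ, x ^ n * s ∈ Ideal.span ({x ^ 2 * g} : Set P)) ↔ s ∈ Ideal.span ({g} : Set P) := by
  constructor
  · rintro ⟨n, hn⟩
    have h1 : ∀ (n : ℕ) (s : P), x ^ n * s ∈ Ideal.span ({g} : Set P) → s ∈ Ideal.span ({g} : Set P) := by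
      intro n
      induction n with
      | zero => intro s hs; simpa using hs
      | succ n ih =>
        intro s hs
        apply ih
        rw [pow_succ', mul_assoc, Ideal.mem_span_singleton] at hs
        obtain ⟨t, ht⟩ := hs
        obtain ⟨t', rfl⟩ := hg t ⟨_, ht.symm⟩
        rw [Ideal.mem_span_singleton]
        refine ⟨t', ?_⟩
        rw [mul_left_comm g] at ht
        exact (mul_cancel_left_mem_nonZeroDivisors hx).1 ht
    apply h1 n
    rw [Ideal.mem_span_singleton] at hn ⊢
    exact (Dvd.intro_left _ rfl).trans hn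
  · intro hs
    rw [Ideal.mem_span_singleton] at hs
    obtain ⟨t, rfl⟩ := hs
    exact ⟨2, by rw [Ideal.mem_span_singleton]; exact ⟨t, by ring⟩⟩

open MvPolynomial in
theorem regular_mod (R : Type u) [CommRing R] (g : MvPolynomial (Fin 2) R)
    (hg : MvPolynomial.aeval (![0, Polynomial.X] : Fin 2 → Polynomial R) g ∈
      nonZeroDivisors (Polynomial R)) (t : MvPolynomial (Fin 2) R) (ht : X 0 ∣ g * t) : X 0 ∣ t := by
  let φ : MvPolynomial (Fin 2) R →ₐ[R] Polynomial R := MvPolynomial.aeval ![0, Polynomial.X]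
  let ι : Polynomial R →ₐ[R] MvPolynomial (Fin 2) R := Polynomial.aeval (X 1)
  have key : ∀ p : MvPolynomial (Fin 2) R, X 0 ∣ p - ι (φ p) := by
    intro p
    rw [← Ideal.mem_span_singleton, ← Ideal.Quotient.mk_eq_mk_iff_sub_mem]
    let q := Ideal.Quotient.mkₐ R (Ideal.span ({X 0} : Set (MvPolynomial (Fin 2) R)))
    have h1 : q = (q.comp ι).comp φ := by
      ext i
      fin_cases i
      · simp only [AlgHom.comp_apply, φ, aeval_X]
        simp only [Fin.zero_eta, Matrix.cons_val_zero, map_zero]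
        exact Ideal.Quotient.eq_zero_iff_mem.2 (Ideal.mem_span_singleton_self _)
      · simp [φ, ι]
    exact congrArg (fun f => f p) (congrArg DFunLike.coe h1)
  obtain ⟨c, hc⟩ := ht
  have h2 : φ g * φ t = 0 := by
    rw [← map_mul, hc, map_mul]
    simp [φ]
  have h3 : φ t = 0 := (mul_left_mem_nonZeroDivisors_eq_zero_iff hg).1 h2
  have h4 := key t
  rwa [h3, map_zero, sub_zero] at h4

theorem X_mem (R : Type u) [CommRing R] :
    (MvPolynomial.X 0 : MvPolynomial (Fin 2) R) ∈ nonZeroDivisors (MvPolynomial (Fin 2) R) := by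
  rw [mem_nonZeroDivisors_iff_right]
  intro z hz
  ext m
  have := congrArg (MvPolynomial.coeff (m + Finsupp.single 0 1)) hz
  rw [MvPolynomial.coeff_mul_X] at this
  simpa using this

open MvPolynomial in
/-- Let R be a commutative ring, a₁, a₂ ∈ R, and C ⊂ A²_R the curve y² + a₁xy = x³ + a₂x², blown up at
the section x = y = 0. In the chart where x = yα (variables y = X 0, α = X 1) the equation of C
becomes y²·g₁ with g₁ = 1 + a₁α − yα³ − a₂α², and the y-saturation of the ideal (y²g₁) is (g₁): for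
s ∈ R[y, α], some yⁿs lies in (y²g₁) if and only if s ∈ (g₁). In the chart where y = xβ (variables x
= X 0, β = X 1) the equation becomes x²·g₂ with g₂ = β² + a₁β − x − a₂, and some xⁿs lies in (x²g₂)
if and only if s ∈ (g₂). In other words the strict transform of C is cut out by g₁, resp. g₂, in the
two charts. -/
theorem result (R : Type u) [CommRing R] (a₁ a₂ : R) :
    (∀ s : MvPolynomial (Fin 2) R,
      (∃ n : ℕ, X 0 ^ n * s ∈ Ideal.span ({X 0 ^ 2 * (1 + C a₁ * X 1 - X 0 * X 1 ^ 3 - C a₂ * X 1 ^ 2)} :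
        Set (MvPolynomial (Fin 2) R))) ↔
      s ∈ Ideal.span ({1 + C a₁ * X 1 - X 0 * X 1 ^ 3 - C a₂ * X 1 ^ 2} : Set (MvPolynomial (Fin 2) R))) ∧
    (∀ s : MvPolynomial (Fin 2) R,
      (∃ n : ℕ, X 0 ^ n * s ∈ Ideal.span ({X 0 ^ 2 * (X 1 ^ 2 + C a₁ * X 1 - X 0 - C a₂)} :
        Set (MvPolynomial (Fin 2) R))) ↔
      s ∈ Ideal.span ({X 1 ^ 2 + C a₁ * X 1 - X 0 - C a₂} : Set (MvPolynomial (Fin 2) R))) := by
  constructor
  · intro s
    refine sat _ _ (X_mem R) (fun t ht => regular_mod R _ ?_ t ht) s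
    have h1 : MvPolynomial.aeval (![0, Polynomial.X] : Fin 2 → Polynomial R)
        (1 + C a₁ * X 1 - X 0 * X 1 ^ 3 - C a₂ * X 1 ^ 2) =
        1 + Polynomial.C a₁ * Polynomial.X - Polynomial.C a₂ * Polynomial.X ^ 2 := by
      simp
    rw [h1]
    rcases subsingleton_or_nontrivial R with h | h
    · rw [mem_nonZeroDivisors_iff_right]; intros; exact Subsingleton.elim _ _
    apply Polynomial.mem_nonZeroDivisors_of_trailingCoeff
    have h2 : (1 + Polynomial.C a₁ * Polynomial.X - Polynomial.C a₂ * Polynomial.X ^ 2).coeff 0 = 1 := by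
      simp
    have h3 : (1 + Polynomial.C a₁ * Polynomial.X - Polynomial.C a₂ * Polynomial.X ^ 2).trailingCoeff = 1 := by
      rw [Polynomial.trailingCoeff, Polynomial.natTrailingDegree_eq_zero_of_constantCoeff_ne_zero, h2]
      rw [Polynomial.constantCoeff_apply, h2]; exact one_ne_zero
    rw [h3]; exact one_mem _
  · intro s
    refine sat _ _ (X_mem R) (fun t ht => regular_mod R _ ?_ t ht) s
    have h1 : MvPolynomial.aeval (![0, Polynomial.X] : Fin 2 → Polynomial R)
        (X 1 ^ 2 + C a₁ * X 1 - X 0 - C a₂) =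
        Polynomial.X ^ 2 + Polynomial.C a₁ * Polynomial.X - Polynomial.C a₂ := by
      simp
    rw [h1]
    apply Polynomial.Monic.mem_nonZeroDivisors
    monicity!

end Groth.Agent.S19181
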