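import Groth.Statements.S19182
import Mathlib.Tactic
import Groth.Agent.Lefpen.H705.JacHyp

set_option autoImplicit false
universe u
open CAlg

namespace Groth.Agent.S19182

open MvPolynomial in
/-- Let R be a commutative ring and a₁, a₂ ∈ R. The two affine charts of the blow-up of the plane curve
y² + a₁xy = x³ + a₂x² at the section x = y = 0, with coordinate rings R[y, α]/(1 + a₁α − yα³ − a₂α²)
and R[x, β]/(β² + a₁β − x − a₂) (variables indexed 0 and 1 in this order), are smooth R-algebras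
(formally smooth of finite presentation). This is the local computation behind the statement that
the blow-up of a Weierstrass curve along a section through its singular locus is a smooth proper
curve of genus 0. -/
theorem result (R : Type u) [CommRing R] (a₁ a₂ : R) :
    Algebra.Smooth R (MvPolynomial (Fin 2) R ⧸
      Ideal.span ({1 + C a₁ * X 1 - X 0 * X 1 ^ 3 - C a₂ * X 1 ^ 2} : Set (MvPolynomial (Fin 2) R))) ∧
    Algebra.Smooth R (MvPolynomial (Fin 2) R ⧸
      Ideal.span ({X 1 ^ 2 + C a₁ * X 1 - X 0 - C a₂} : Set (MvPolynomial (Fin 2) R))) := by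
  constructor
  · apply Groth.Agent.Lefpen.H705.JacHyp.smooth_quotient_of_pderiv
    set g : MvPolynomial (Fin 2) R := 1 + C a₁ * X 1 - X 0 * X 1 ^ 3 - C a₂ * X 1 ^ 2 with hg
    have h0 : pderiv (0 : Fin 2) g = - X 1 ^ 3 := by
      simp [hg, pderiv_X, Pi.single_apply]
    rw [Ideal.eq_top_iff_one]
    have hg' : g ∈ Ideal.span ({g} ∪ Set.range fun i => pderiv i g) :=
      Ideal.subset_span (Or.inl rfl)
    have hX : (X 1 ^ 3 : MvPolynomial (Fin 2) R) ∈
        Ideal.span ({g} ∪ Set.range fun i => pderiv i g) := by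
      have h1 : pderiv (0 : Fin 2) g ∈ Ideal.span ({g} ∪ Set.range fun i => pderiv i g) :=
        Ideal.subset_span (Or.inr ⟨0, rfl⟩)
      rw [h0] at h1
      simpa using neg_mem h1
    -- `1 = g + X₁ * h` hence `1 - g ^ ...`
    have key : ∃ c : MvPolynomial (Fin 2) R, (1 : MvPolynomial (Fin 2) R) = c * g +
        (X 0 * X 1 ^ 2 + C a₂ * X 1 - C a₁) ^ 3 * X 1 ^ 3 := by
      refine ⟨1 + (X 1 * (X 0 * X 1 ^ 2 + C a₂ * X 1 - C a₁)) +
        (X 1 * (X 0 * X 1 ^ 2 + C a₂ * X 1 - C a₁)) ^ 2, ?_⟩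
      rw [hg]; ring
    obtain ⟨c, hc⟩ := key
    rw [hc]
    exact Ideal.add_mem _ (Ideal.mul_mem_left _ _ hg') (Ideal.mul_mem_left _ _ hX)
  · apply Groth.Agent.Lefpen.H705.JacHyp.smooth_quotient_of_pderiv
    set g : MvPolynomial (Fin 2) R := X 1 ^ 2 + C a₁ * X 1 - X 0 - C a₂ with hg
    have h0 : pderiv (0 : Fin 2) g = - 1 := by
      simp [hg, pderiv_X, Pi.single_apply]
    rw [Ideal.eq_top_iff_one]
    have h1 : pderiv (0 : Fin 2) g ∈ Ideal.span ({g} ∪ Set.range fun i => pderiv i g) :=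
        Ideal.subset_span (Or.inr ⟨0, rfl⟩)
    rw [h0] at h1
    simpa using neg_mem h1

end Groth.Agent.S19182
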