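import Groth.Statements.S19183
import Mathlib.Tactic

set_option autoImplicit false
universe u
open CAlg

namespace Groth.Agent.S19183

/-- Let A be a non-zero commutative ring and f ∈ A a non-zero-divisor. The fibre product A ×_{A/(f)} A
of two copies of A over A/(f) — the A-submodule of A × A of pairs (x, y) with x − y ∈ (f), which is
the coordinate ring of two copies of Spec A glued along the Cartier divisor f = 0 — is a free
A-module of rank 2. (This is what makes the gluing of two copies of a curve along an effective
Cartier divisor finite locally free of degree 2 over the curve.) -/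
theorem result (A : Type u) [CommRing A] [Nontrivial A]
    (f : A) (hf : f ∈ nonZeroDivisors A) :
    Module.Free A (Submodule.comap (LinearMap.fst A A A - LinearMap.snd A A A) (Ideal.span ({f} : Set A))) ∧
      Module.finrank A (Submodule.comap (LinearMap.fst A A A - LinearMap.snd A A A) (Ideal.span ({f} : Set A))) = 2 := by
  let N := Submodule.comap (LinearMap.fst A A A - LinearMap.snd A A A) (Ideal.span ({f} : Set A))
  have hN : ∀ z : A × A, z ∈ N ↔ z.1 - z.2 ∈ Ideal.span ({f} : Set A) := fun z => Iff.rfl
  let g₀ : (A × A) →ₗ[A] (A × A) :=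
    { toFun := fun z => (z.1 + f * z.2, z.1)
      map_add' := fun z w => by ext <;> simp [mul_add] <;> ring
      map_smul' := fun a z => by ext <;> simp [mul_add] ; ring }
  have hg₀ : ∀ z, g₀ z ∈ N := fun z => by
    rw [hN, Ideal.mem_span_singleton]
    exact ⟨z.2, by simp [g₀]⟩
  let g : (A × A) →ₗ[A] N := LinearMap.codRestrict N g₀ hg₀
  have hbij : Function.Bijective g := by
    constructor
    · intro z w hzw
      have h1 : g₀ z = g₀ w := congrArg Subtype.val hzw
      have h2 : z.1 = w.1 := congrArg Prod.snd h1
      have h3 : z.1 + f * z.2 = w.1 + f * w.2 := congrArg Prod.fst h1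
      rw [h2, add_right_inj] at h3
      exact Prod.ext h2 ((mul_cancel_left_mem_nonZeroDivisors hf).1 h3)
    · rintro ⟨⟨x, y⟩, hxy⟩
      have h1 := (hN _).1 hxy
      rw [Ideal.mem_span_singleton] at h1
      obtain ⟨c, hc⟩ := h1
      simp only at hc
      refine ⟨(y, c), ?_⟩
      apply Subtype.ext
      change (y + f * c, y) = (x, y)
      rw [← hc]; simp
  let e : (A × A) ≃ₗ[A] N := LinearEquiv.ofBijective g hbij
  refine ⟨Module.Free.of_equiv e, ?_⟩
  have := e.finrank_eq
  rw [← this]
  simp

end Groth.Agent.S19183
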