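import Groth.Statements.S19184
import Mathlib.Tactic

set_option autoImplicit false
universe u
open CAlg

namespace Groth.Agent.S19184

open Polynomial in
/-- Let S be a commutative ring, a, b ∈ S, f = x² + ax + b ∈ S[x] and R = S[x]/(f), a free S-algebra of
rank 2. Let A ⊂ S[x] be the S-subalgebra of polynomials whose class in R lies in the image of S → R;
it is the fibre product S[x] ×_R S, the coordinate ring of the affine line over S with the degree-2
subscheme Spec R collapsed onto Spec S. Then A is a free S-module and S[x] is a finitely generated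
A-module. -/
theorem result (S : Type u) [CommRing S] (a b : S) :
    Module.Free S ((⊥ : Subalgebra S (S[X] ⧸ Ideal.span ({X ^ 2 + C a * X + C b} : Set S[X]))).comap
        (Ideal.Quotient.mkₐ S (Ideal.span ({X ^ 2 + C a * X + C b} : Set S[X])))) ∧
      Module.Finite ((⊥ : Subalgebra S (S[X] ⧸ Ideal.span ({X ^ 2 + C a * X + C b} : Set S[X]))).comap
        (Ideal.Quotient.mkₐ S (Ideal.span ({X ^ 2 + C a * X + C b} : Set S[X])))) S[X] := by
  set f : S[X] := X ^ 2 + C a * X + C b with hf
  set A := (⊥ : Subalgebra S (S[X] ⧸ Ideal.span ({f} : Set S[X]))).comap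
        (Ideal.Quotient.mkₐ S (Ideal.span ({f} : Set S[X]))) with hA
  have hmonic : f.Monic := by
    rw [hf]; monicity!
  have hmem : ∀ p : S[X], p ∈ A ↔ ∃ (c : S) (q : S[X]), p = C c + f * q := by
    intro p
    rw [hA, Subalgebra.mem_comap, Algebra.mem_bot]
    constructor
    · rintro ⟨c, hc⟩
      have h1 : Ideal.Quotient.mkₐ S (Ideal.span ({f} : Set S[X])) (C c) =
          Ideal.Quotient.mkₐ S (Ideal.span ({f} : Set S[X])) p := by
        rw [← hc]; rfl
      have h2 : p - C c ∈ Ideal.span ({f} : Set S[X]) := by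
        rw [← Ideal.Quotient.mk_eq_mk_iff_sub_mem]
        exact h1.symm
      rw [Ideal.mem_span_singleton] at h2
      obtain ⟨q, hq⟩ := h2
      exact ⟨c, q, by rw [← hq]; ring⟩
    · rintro ⟨c, q, rfl⟩
      refine ⟨c, ?_⟩
      have h3 : Ideal.Quotient.mkₐ S (Ideal.span ({f} : Set S[X])) (f * q) = 0 :=
        Ideal.Quotient.eq_zero_iff_mem.2 (Ideal.mul_mem_right _ _ (Ideal.mem_span_singleton_self f))
      rw [map_add, h3, add_zero]
      rfl
  cases subsingleton_or_nontrivial S with
  | inl hS =>
    have h1 : Subsingleton S[X] := inferInstance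
    have h2 : Subsingleton A := inferInstance
    exact ⟨Module.Free.of_subsingleton' S A, inferInstance⟩
  | inr hS =>
  have hdeg : f.natDegree = 2 := by
    rw [hf]; compute_degree!
  have hinj : ∀ (c : S) (q : S[X]), C c + f * q = 0 → c = 0 ∧ q = 0 := by
    intro c q h
    have h1 := (Polynomial.div_modByMonic_unique q (C c) hmonic (f := C c + f * q) ⟨rfl, by
      refine lt_of_le_of_lt Polynomial.degree_C_le ?_
      rw [Polynomial.degree_eq_natDegree hmonic.ne_zero, hdeg]
      norm_num⟩)
    rw [h] at h1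
    simp at h1
    exact ⟨Polynomial.C_eq_zero.1 h1.2.symm, h1.1.symm⟩
  constructor
  · let g₀ : (S × S[X]) →ₗ[S] S[X] :=
      { toFun := fun z => C z.1 + f * z.2
        map_add' := fun z w => by simp [mul_add]; ring
        map_smul' := fun t z => by simp [mul_add, Polynomial.smul_eq_C_mul]; ring }
    let g : (S × S[X]) →ₗ[S] Subalgebra.toSubmodule A :=
      LinearMap.codRestrict _ g₀ (fun z => (hmem _).2 ⟨z.1, z.2, rfl⟩)
    have hbij : Function.Bijective g := by
      constructor
      · rw [← LinearMap.ker_eq_bot, LinearMap.ker_eq_bot']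
        rintro ⟨c, q⟩ hz
        have h1 : C c + f * q = 0 := congrArg Subtype.val hz
        obtain ⟨rfl, rfl⟩ := hinj c q h1
        rfl
      · rintro ⟨p, hp⟩
        obtain ⟨c, q, rfl⟩ := (hmem p).1 hp
        exact ⟨(c, q), rfl⟩
    exact Module.Free.of_equiv (LinearEquiv.ofBijective g hbij)
  · classical
    refine ⟨⟨({1, X} : Finset S[X]), ?_⟩⟩
    rw [eq_top_iff]
    intro p _
    have h1 := Polynomial.modByMonic_add_div p f
    have h2 : (p %ₘ f).natDegree ≤ 1 := by
      have := Polynomial.natDegree_modByMonic_lt p hmonic (by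
        intro h; rw [h] at hdeg; simp at hdeg)
      omega
    obtain ⟨d, c, hdc⟩ := Polynomial.exists_eq_X_add_C_of_natDegree_le_one h2
    have h3 : (f * (p /ₘ f) + C c) ∈ A := (hmem _).2 ⟨c, p /ₘ f, add_comm _ _⟩
    have h4 : (C d) ∈ A := (hmem _).2 ⟨d, 0, by simp⟩
    have h5 : p = (⟨_, h3⟩ : A) • (1 : S[X]) + (⟨_, h4⟩ : A) • X := by
      rw [Subalgebra.smul_def, Subalgebra.smul_def]
      simp only [smul_eq_mul, mul_one]
      conv_lhs => rw [← h1, hdc]
      ring
    rw [h5]
    exact Submodule.add_mem _ (Submodule.smul_mem _ _ (Submodule.subset_span (by simp)))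
      (Submodule.smul_mem _ _ (Submodule.subset_span (by simp)))

end Groth.Agent.S19184
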