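import Groth.Statements.S19186
import Mathlib.RingTheory.Coprime.Lemmas

set_option autoImplicit false
universe u
open OneMot

namespace Groth.Agent.S19186

/-- Let p and ℓ be distinct prime numbers, r and n natural numbers, and f : A → B a homomorphism of
abelian groups whose kernel and cokernel are annihilated by p^r (f a = 0 implies p^r • a = 0, and
every p^r • b lies in the image of f). Then f induces a bijection between the ℓ^n-torsion subgroups
of A and B and a bijection A/ℓ^n A → B/ℓ^n B. Spelled out without quotients: every ℓ^n-torsion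
element of B has exactly one ℓ^n-torsion preimage; an element of A whose image is an ℓ^n-multiple is
itself an ℓ^n-multiple; and every element of B is the sum of an image and an ℓ^n-multiple. -/
theorem result {A B : Type u} [AddCommGroup A] [AddCommGroup B] (f : A →+ B) (p ℓ r n : ℕ) (hp : p.Prime) (hl : ℓ.Prime) (hne : ℓ ≠ p) (hker : ∀ a : A, f a = 0 → p ^ r • a = 0) (hcoker : ∀ b : B, ∃ a : A, f a = p ^ r • b) : (∀ b : B, ℓ ^ n • b = 0 → ∃! a : A, ℓ ^ n • a = 0 ∧ f a = b) ∧ (∀ a : A, (∃ b' : B, f a = ℓ ^ n • b') → ∃ a' : A, a = ℓ ^ n • a') ∧ (∀ b : B, ∃ (a : A) (b' : B), b = f a + ℓ ^ n • b') := by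
  have hcop : Nat.Coprime (p ^ r) (ℓ ^ n) :=
    Nat.Coprime.pow _ _ ((Nat.coprime_primes hp hl).2 (Ne.symm hne))
  -- integers x, y with x * p^(2r) + y * ℓ^n = 1
  have hcop2 : IsCoprime ((p ^ r : ℕ) : ℤ) ((ℓ ^ n : ℕ) : ℤ) := Nat.isCoprime_iff_coprime.2 hcop
  obtain ⟨x, y, hxy⟩ := hcop2
  obtain ⟨x2, y2, hxy2⟩ : IsCoprime (((p ^ r : ℕ) : ℤ) * ((p ^ r : ℕ) : ℤ)) ((ℓ ^ n : ℕ) : ℤ) :=
    IsCoprime.mul_left (Nat.isCoprime_iff_coprime.2 hcop) (Nat.isCoprime_iff_coprime.2 hcop)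
  have hkill : ∀ a : A, p ^ r • a = 0 → ℓ ^ n • a = 0 → a = 0 := by
    intro a h1 h2
    have : (x * ((p ^ r : ℕ) : ℤ) + y * ((ℓ ^ n : ℕ) : ℤ)) • a = 0 := by
      rw [add_smul, mul_smul, mul_smul, natCast_zsmul, natCast_zsmul, h1, h2]; simp
    rwa [hxy, one_smul] at this
  refine ⟨?_, ?_, ?_⟩
  · intro b hb
    obtain ⟨a₀, ha₀⟩ := hcoker b
    -- f (p^r a₀) = p^{2r} b ; a := x2 • p^r • a₀
    have hℓa₀ : ℓ ^ n • (p ^ r • a₀) = 0 := by
      rw [smul_comm]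
      apply hker
      rw [map_nsmul, ha₀, smul_comm, hb, smul_zero]
    refine ⟨x2 • (p ^ r • a₀), ⟨?_, ?_⟩, ?_⟩
    · rw [smul_comm, hℓa₀, smul_zero]
    · rw [map_zsmul, map_nsmul, ha₀]
      have : (x2 * (((p ^ r : ℕ) : ℤ) * ((p ^ r : ℕ) : ℤ)) + y2 * ((ℓ ^ n : ℕ) : ℤ)) • b = b := by
        rw [hxy2, one_smul]
      rw [add_smul, mul_smul, mul_smul, mul_smul, natCast_zsmul, natCast_zsmul, natCast_zsmul, hb, smul_zero,
        add_zero] at this
      exact this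
    · rintro a ⟨ha1, ha2⟩
      refine sub_eq_zero.1 (hkill _ (hker _ ?_) ?_)
      · rw [map_sub, ha2, map_zsmul, map_nsmul, ha₀]
        have : (x2 * (((p ^ r : ℕ) : ℤ) * ((p ^ r : ℕ) : ℤ)) + y2 * ((ℓ ^ n : ℕ) : ℤ)) • b = b := by
          rw [hxy2, one_smul]
        rw [add_smul, mul_smul, mul_smul, mul_smul, natCast_zsmul, natCast_zsmul, natCast_zsmul, hb, smul_zero,
          add_zero] at this
        rw [this, sub_self]
      · rw [smul_sub, ha1, smul_comm, hℓa₀, smul_zero, sub_zero]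
  · rintro a ⟨b', hb'⟩
    obtain ⟨a₁, ha₁⟩ := hcoker b'
    have h1 : p ^ r • (p ^ r • a - ℓ ^ n • a₁) = 0 := by
      apply hker
      rw [map_sub, map_nsmul, map_nsmul, hb', ha₁, smul_comm, sub_self]
    refine ⟨x2 • (p ^ r • a₁) + y2 • a, ?_⟩
    have h2 : p ^ r • (p ^ r • a) = ℓ ^ n • (p ^ r • a₁) := by
      rw [smul_sub, sub_eq_zero] at h1
      rw [h1, smul_comm]
    have : (x2 * (((p ^ r : ℕ) : ℤ) * ((p ^ r : ℕ) : ℤ)) + y2 * ((ℓ ^ n : ℕ) : ℤ)) • a = a := by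
      rw [hxy2, one_smul]
    rw [add_smul, mul_smul, mul_smul, mul_smul, natCast_zsmul, natCast_zsmul, natCast_zsmul, h2] at this
    rw [smul_add, smul_comm (ℓ ^ n) x2, smul_comm (ℓ ^ n) y2, this]
  · intro b
    obtain ⟨a, ha⟩ := hcoker b
    refine ⟨x • a, y • b, ?_⟩
    have : (x * ((p ^ r : ℕ) : ℤ) + y * ((ℓ ^ n : ℕ) : ℤ)) • b = b := by rw [hxy, one_smul]
    rw [add_smul, mul_smul, mul_smul, natCast_zsmul, natCast_zsmul] at this
    rw [map_zsmul, ha, smul_comm (ℓ ^ n) y, this]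

end Groth.Agent.S19186
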