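import Groth.Statements.S19188
import Groth.Agent.CGrpSh3.K983.TorusPush
import Groth.Agent.CGrpSh.K731.RepPts
import Groth.Agent.S1297
import Groth.Agent.Flat2B.SmoothGeom
-- import your own Groth.Agent.* helpers here

set_option autoImplicit false
universe u
open CGrpSh3

namespace Groth.Agent.S19188

open CategoryTheory AlgebraicGeometry MonObj in
/-- Let k be a field and f : X → Spec k a proper smooth morphism of schemes. Then the direct image f_*
𝔾_{m,X} on the big fppf site of Spec k, the abelian sheaf whose sections over a k-scheme T are the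
invertible functions on X ×_k T, is representable by a torus: there is a commutative k-group scheme
which is a torus and whose sheaf of points is isomorphic to f_* 𝔾_{m,X} (representability is an
existence statement; no particular isomorphism is singled out). -/
theorem result (k : Type u) [Field k] (X : Scheme.{u}) (f : X ⟶ Spec (CommRingCat.of k)) [IsProper f] [Smooth f] : ∃ (T : Over (Spec (CommRingCat.of k))) (_ : GrpObj T) (_ : IsCommMonObj T), Red.IsTorus T ∧ Nonempty (CGrpSh.pts Scheme.fppfPrecoverage T ≅ CGrpSh3.pushGm Scheme.fppfPrecoverage f) := by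
  let _ : Algebra k Γ(X, ⊤) := ((Scheme.ΓSpecIso (CommRingCat.of k)).inv ≫ f.appTop).hom.toAlgebra
  have hfin : Module.Finite k Γ(X, ⊤) := Groth.Agent.S1297.finite_toGlobal k X f
  let β : K983.SecTensor.TopAlg f Γ(X, ⊤) := ⟨Iso.refl _, Category.comp_id _⟩
  obtain ⟨W, _, _, q, hq⟩ := K983.UnitsRep.exists_isWeilRes β
  let K := AlgebraicClosure k
  -- splitting over the algebraic closure
  have hred : _root_.IsReduced (TensorProduct k K Γ(X, ⊤)) := by
    have h1 : Smooth (Limits.pullback.fst (Spec.map (CommRingCat.ofHom (algebraMap k K))) f) := inferInstance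
    have h2 : AlgebraicGeometry.IsReduced (Limits.pullback (Spec.map (CommRingCat.ofHom (algebraMap k K))) f) :=
      Flat2B.SmoothGeom.isReduced_of_smooth (Limits.pullback.fst (Spec.map (CommRingCat.ofHom (algebraMap k K))) f)
    have h3 : _root_.IsReduced Γ(Limits.pullback (Spec.map (CommRingCat.ofHom (algebraMap k K))) f, ⊤) := inferInstance
    have h4 : _root_.IsReduced Γ((Red.bc f (K983.SecTensor.so k K)).left, ⊤) := h3
    exact isReduced_of_injective (K983.SecTensor.secIso β K).commRingCatIsoToRingEquiv
      (K983.SecTensor.secIso β K).commRingCatIsoToRingEquiv.injective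
  obtain ⟨n, c, hc⟩ := K983.SplitRed.exists_coord k K Γ(X, ⊤)
  -- the group structure
  let e : ∀ T : Over (Spec (CommRingCat.of k)), (T ⟶ K983.SecTensor.so k W) ≃
      (CGrpSh3.pushGm Scheme.fppfPrecoverage f).obj.obj (Opposite.op T) := fun T =>
    (Equiv.ofBijective (WeilRes.restr f q T) (hq T)).trans
      (Additive.ofMul.trans Equiv.ulift.symm)
  obtain ⟨g, g', i, hi⟩ := K731.RepPts.exists_grpObj (CGrpSh3.pushGm Scheme.fppfPrecoverage f)
    (K983.SecTensor.so k W) e (fun {T T'} j x => by
      change ULift.up (Additive.ofMul (WeilRes.restr f q T' (j ≫ x))) = _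
      rw [WeilRes.restr_comp]
      rfl)
  refine ⟨K983.SecTensor.so k W, g, g', ?_, ⟨i⟩⟩
  have hm : ∀ (T : Over (Spec (CommRingCat.of k))) (x y : T ⟶ K983.SecTensor.so k W),
      WeilRes.restr f q T (x * y) = WeilRes.restr f q T x * WeilRes.restr f q T y := by
    intro T x y
    have h1 := (i.hom.hom.app (Opposite.op T)).hom.map_add (ULift.up (Additive.ofMul x))
      (ULift.up (Additive.ofMul y))
    have h2 : i.hom.hom.app (Opposite.op T) (ULift.up (Additive.ofMul (x * y))) =
        i.hom.hom.app (Opposite.op T) (ULift.up (Additive.ofMul x)) +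
          i.hom.hom.app (Opposite.op T) (ULift.up (Additive.ofMul y)) := h1
    rw [hi, hi, hi] at h2
    exact congrArg (fun z : (CGrpSh3.pushGm Scheme.fppfPrecoverage f).obj.obj (Opposite.op T) => z.down.toMul) h2
  have hs := K983.TorusPush.isSplitTorusWith (K := K) β c hc hq hm
  have hT : Red.IsTorus (Red.bc (K983.TorusPush.pK k K) (K983.SecTensor.so k W)) :=
    ⟨_, 𝟙 _, inferInstance, inferInstance, fun V hV => ⟨V, hV.isCompact, by simp⟩, fun _ =>
      ⟨⊤, trivial, n, Groth.Agent.Sga3B.TorusAlgClosed.isSplitTorusWith_bc _ hs⟩⟩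
  have hfl : Flat (K983.TorusPush.pK k K) := by
    rw [HasRingHomProperty.Spec_iff (P := @Flat)]
    exact (RingHom.flat_algebraMap_iff).mpr inferInstance
  have hsurj : Surjective (K983.TorusPush.pK k K) := by
    refine ⟨fun x => ⟨IsLocalRing.closedPoint K, ?_⟩⟩
    exact Subsingleton.elim (α := PrimeSpectrum k) _ _
  refine Groth.Agent.Sga3B.AlgBc.isTorus_of_bc (K983.TorusPush.pK k K) (fun V hV => ?_) hT
  refine ⟨(K983.TorusPush.pK k K) ⁻¹ᵁ V, QuasiCompact.isCompact_preimage _ V.2 hV.isCompact, ?_⟩
  exact Set.image_preimage_eq _ (K983.TorusPush.pK k K).surjective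

end Groth.Agent.S19188
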