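import Groth.Statements.S19190
import Mathlib.CategoryTheory.Localization.CalculusOfFractions

set_option autoImplicit false
universe w v u v' u'
open CategoryTheory CategoryTheory.Limits CategoryTheory.Pretriangulated CategoryTheory.Triangulated
open CohDer

namespace Groth.Agent.S19190

section

variable {A : Type w} [CommRing A] (S : Submonoid A)
  {T : Type u} [Category.{v} T] [Preadditive T] [Linear A T] [HasZeroObject T] [HasShift T ℤ]
  [∀ n : ℤ, (shiftFunctor T n).Additive] [∀ n : ℤ, (shiftFunctor T n).Linear A]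
  [Pretriangulated T]

/-- Objects whose identity is killed by an element of `S`. -/
def killed : ObjectProperty T := fun X => ∃ s ∈ S, s • 𝟙 X = 0


omit [HasZeroObject T] [∀ n : ℤ, (shiftFunctor T n).Additive] [∀ n : ℤ, (shiftFunctor T n).Linear A] [Pretriangulated T] in
lemma killed_retract {X Y : T} (r : Retract X Y) (hY : killed S Y) : killed S X := by
  obtain ⟨s, hs, h⟩ := hY
  refine ⟨s, hs, ?_⟩
  have : s • 𝟙 X = r.i ≫ (s • 𝟙 Y) ≫ r.r := by
    rw [Linear.smul_comp, Category.id_comp, Linear.comp_smul, r.retract]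
  rw [this, h, zero_comp, comp_zero]

instance : (killed S : ObjectProperty T).IsStableUnderRetracts where
  of_retract r h := killed_retract S r h

instance : (killed S : ObjectProperty T).IsClosedUnderIsomorphisms where
  of_iso e h := killed_retract S ⟨e.inv, e.hom, e.inv_hom_id⟩ h

instance : (killed S : ObjectProperty T).ContainsZero where
  exists_zero := by
    obtain ⟨Z, hZ⟩ := (inferInstance : HasZeroObject T).zero
    exact ⟨Z, hZ, 1, S.one_mem, hZ.eq_of_src _ _⟩

instance (n : ℤ) : (killed S : ObjectProperty T).IsStableUnderShiftBy n where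
  le_shift := by
    rintro X ⟨s, hs, h⟩
    refine ⟨s, hs, ?_⟩

    rw [← (shiftFunctor T n).map_id, ← (shiftFunctor T n).map_smul, h, Functor.map_zero]

instance : (killed S : ObjectProperty T).IsStableUnderShift ℤ where

instance : (killed S : ObjectProperty T).IsTriangulatedClosed₂ := by
  apply ObjectProperty.IsTriangulatedClosed₂.mk'
  rintro D hD ⟨s, hs, h⟩ ⟨s', hs', h'⟩
  refine ⟨s * s', S.mul_mem hs hs', ?_⟩
  have h1 : (s' • 𝟙 D.obj₂) ≫ D.mor₂ = 0 := by
    rw [Linear.smul_comp, Category.id_comp, ← Category.comp_id D.mor₂, ← Linear.comp_smul, h',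
      comp_zero]
  obtain ⟨g, hg⟩ := Triangle.coyoneda_exact₂ _ hD _ h1
  rw [mul_smul, hg, ← Linear.comp_smul, ← Category.id_comp D.mor₁, ← Linear.smul_comp, h, zero_comp,
    comp_zero]

instance : (killed S : ObjectProperty T).IsTriangulated where

lemma killed_cone (X : T) (f : A) (hf : f ∈ S) (Z : T) (g : X ⟶ Z) (h : Z ⟶ X⟦(1 : ℤ)⟧)
    (hT : Triangle.mk (f • 𝟙 X) g h ∈ distTriang T) : killed S Z := by
  refine ⟨f * f, S.mul_mem hf hf, ?_⟩
  have h0 : (f • 𝟙 X) ≫ g = 0 := comp_distTriang_mor_zero₁₂ _ hT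
  have h3 : h ≫ (shiftFunctor T (1 : ℤ)).map (f • 𝟙 X) = 0 := comp_distTriang_mor_zero₃₁ _ hT
  have h1 : g ≫ (f • 𝟙 Z) = 0 := by
    rw [Linear.comp_smul, Category.comp_id, ← Category.id_comp g, ← Linear.smul_comp, h0]
  obtain ⟨r, hr⟩ : ∃ r : X⟦(1 : ℤ)⟧ ⟶ Z, f • 𝟙 Z = h ≫ r := Triangle.yoneda_exact₃ _ hT _ h1
  have h4 : h ≫ (f • 𝟙 (X⟦(1 : ℤ)⟧)) = 0 := by
    rw [← h3, Functor.map_smul, CategoryTheory.Functor.map_id]
  rw [mul_smul, hr, ← Linear.smul_comp, ← Category.comp_id h, ← Linear.comp_smul, h4, zero_comp]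

end

/-- Let `A` be a commutative ring, `S` a multiplicative subset of `A` and `T` an `A`-linear triangulated
category (octahedron axiom included; the shift functors are `A`-linear). Call an object of `T`
`S`-torsion when it lies in the smallest thick subcategory `U` of `T` (a property of objects
containing zero, stable under shifts, extensions, isomorphisms and direct factors) containing every
cone of an endomorphism `f • 𝟙 X` with `f ∈ S`. Let `Q : T ⥤ E` exhibit `E` as the localization of
`T` at the morphisms whose cone lies in `U` (the Verdier quotient `T/U`), where `E` is preadditive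
and `A`-linear and `Q` is `A`-linear. Then for all objects `X`, `Y` of `T` the `A`-linear map
`Hom_T(X, Y) → Hom_E(Q X, Q Y)` given by `Q` exhibits its target as the localization of `Hom_T(X,
Y)` at `S`. Since `Q` is essentially surjective, this says that the comparison functor from `T/U` to
the category having the objects of `T` and morphism modules `Hom_T(X, Y) ⊗_A S⁻¹A` is an
equivalence. -/
theorem result
    {A : Type w} [CommRing A] (S : Submonoid A)
    {T : Type u} [Category.{v} T] [Preadditive T] [Linear A T] [HasZeroObject T] [HasShift T ℤ]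
    [∀ n : ℤ, (shiftFunctor T n).Additive] [∀ n : ℤ, (shiftFunctor T n).Linear A]
    [Pretriangulated T] [IsTriangulated T]
    (U : ObjectProperty T) [U.IsTriangulated] [U.IsClosedUnderIsomorphisms] [U.IsStableUnderRetracts]
    (hU : ∀ (X : T) (f : A), f ∈ S → ∀ (Z : T) (g : X ⟶ Z) (h : Z ⟶ X⟦(1 : ℤ)⟧),
      Triangle.mk (f • 𝟙 X) g h ∈ distTriang T → U Z)
    (hmin : ∀ (U' : ObjectProperty T) [U'.IsTriangulated] [U'.IsClosedUnderIsomorphisms]
      [U'.IsStableUnderRetracts],
      (∀ (X : T) (f : A), f ∈ S → ∀ (Z : T) (g : X ⟶ Z) (h : Z ⟶ X⟦(1 : ℤ)⟧),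
        Triangle.mk (f • 𝟙 X) g h ∈ distTriang T → U' Z) → U ≤ U')
    {E : Type u'} [Category.{v'} E] [Preadditive E] [Linear A E]
    (Q : T ⥤ E) [Q.Additive] [Q.Linear A] [Q.IsLocalization U.trW] (X Y : T) :
    IsLocalizedModule S (Q.mapLinearMap A : (X ⟶ Y) →ₗ[A] (Q.obj X ⟶ Q.obj Y)) := by
  have hle : U ≤ killed S := hmin (killed S) (fun X f hf Z g h hT => killed_cone S X f hf Z g h hT)
  -- the key point: morphisms in `trW` divide elements of `S`
  have key : ∀ {X' : T} (s : X' ⟶ X), U.trW s → ∃ f ∈ S, ∃ r : X ⟶ X', r ≫ s = f • 𝟙 X := by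
    rintro X' s ⟨Z, g, h, hT, hZ⟩
    obtain ⟨f, hf, hf'⟩ := hle _ hZ
    have h1 : (f • 𝟙 X) ≫ g = 0 := by
      rw [Linear.smul_comp, Category.id_comp, ← Category.comp_id g, ← Linear.comp_smul, hf',
        comp_zero]
    obtain ⟨r, hr⟩ := Triangle.coyoneda_exact₂ _ hT _ h1
    exact ⟨f, hf, r, hr.symm⟩
  constructor
  · rintro ⟨f, hf⟩
    have hiso : IsIso (Q.map (f • 𝟙 X)) := by
      obtain ⟨Z, g, h, hT⟩ := distinguished_cocone_triangle (f • 𝟙 X)
      exact Localization.inverts Q U.trW _ ⟨Z, g, h, hT, hU X f hf Z g h hT⟩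
    rw [Functor.map_smul, CategoryTheory.Functor.map_id] at hiso
    rw [Module.End.isUnit_iff]
    have e : ∀ y : Q.obj X ⟶ Q.obj Y, (algebraMap A (Module.End A (Q.obj X ⟶ Q.obj Y)) f) y =
        (f • 𝟙 (Q.obj X)) ≫ y := by
      intro y
      rw [Module.algebraMap_end_apply, Linear.smul_comp, Category.id_comp]
    constructor
    · intro y y' hy
      simp only [e] at hy
      exact (cancel_epi _).1 hy
    · intro y
      refine ⟨inv (f • 𝟙 (Q.obj X)) ≫ y, ?_⟩
      simp only [e, IsIso.hom_inv_id_assoc]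
  · intro y
    obtain ⟨φ, hφ⟩ := Localization.exists_rightFraction Q U.trW y
    obtain ⟨f, hf, r, hr⟩ := key φ.s φ.hs
    refine ⟨⟨r ≫ φ.f, ⟨f, hf⟩⟩, ?_⟩
    have h1 : Q.map φ.s ≫ y = Q.map φ.f := by
      rw [hφ]
      exact MorphismProperty.RightFraction.map_s_comp_map φ Q (Localization.inverts Q U.trW)
    change f • y = Q.map (r ≫ φ.f)
    rw [Q.map_comp, ← h1, ← Category.assoc, ← Q.map_comp, hr, Functor.map_smul, CategoryTheory.Functor.map_id,
      Linear.smul_comp, Category.id_comp]
  · intro x₁ x₂ h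
    replace h : Q.map x₁ = Q.map x₂ := h
    rw [MorphismProperty.map_eq_iff_precomp Q U.trW] at h
    obtain ⟨X', s, hs, hs'⟩ := h
    obtain ⟨f, hf, r, hr⟩ := key s hs
    refine ⟨⟨f, hf⟩, ?_⟩
    change f • x₁ = f • x₂
    rw [← Category.id_comp x₁, ← Category.id_comp x₂, ← Linear.smul_comp, ← Linear.smul_comp, ← hr,
      Category.assoc, Category.assoc, hs']

end Groth.Agent.S19190
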