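import Groth.Statements.S19191
import Mathlib.CategoryTheory.Localization.CalculusOfFractions

set_option autoImplicit false
universe w v u v' u'
open CategoryTheory CategoryTheory.Limits CategoryTheory.Pretriangulated CategoryTheory.Triangulated
open CohDer

namespace Groth.Agent.S19191

/-- Let `A` be a commutative ring, `T` an `A`-linear triangulated category (octahedron axiom included;
shift functors `A`-linear), `U` a thick subcategory of `T` (a property of objects containing zero,
stable under shifts, extensions, isomorphisms and direct factors), and `Q : T ⥤ E` a localization of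
`T` at the morphisms whose cone lies in `U` (the Verdier quotient `T/U`), where `E` is preadditive
and `A`-linear and `Q` is `A`-linear. For an object `X` of `T` the following two conditions are
equivalent: (i) `X` lies in `U`; (ii) for every maximal ideal `m` of `A` the image of `X` in the
category obtained from `T/U` by tensoring the morphism modules with `A_m` is zero, i.e. some element
of `A` outside `m` annihilates the identity of `Q X`. (The published statement also lists a third
equivalent condition, phrased with idempotent completions of the localized categories; it is not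
asserted here.) -/
theorem result
    {A : Type w} [CommRing A]
    {T : Type u} [Category.{v} T] [Preadditive T] [Linear A T] [HasZeroObject T] [HasShift T ℤ]
    [∀ n : ℤ, (shiftFunctor T n).Additive] [∀ n : ℤ, (shiftFunctor T n).Linear A]
    [Pretriangulated T] [IsTriangulated T]
    (U : ObjectProperty T) [U.IsTriangulated] [U.IsClosedUnderIsomorphisms] [U.IsStableUnderRetracts]
    {E : Type u'} [Category.{v'} E] [Preadditive E] [Linear A E]
    (Q : T ⥤ E) [Q.Additive] [Q.Linear A] [Q.IsLocalization U.trW] (X : T) :
    U X ↔ ∀ m : Ideal A, m.IsMaximal → ∃ s : A, s ∉ m ∧ s • 𝟙 (Q.obj X) = 0 := by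
  constructor
  · intro hX m hm
    refine ⟨1, fun h => hm.ne_top ((Ideal.eq_top_iff_one _).2 h), ?_⟩
    -- `X ⟶ 0` has cone in `U`
    have h0 : U.trW (0 : X ⟶ X) := by
      rw [ObjectProperty.trW_iff]
      obtain ⟨Z, g, h, mem⟩ := distinguished_cocone_triangle (0 : X ⟶ X)
      exact ⟨Z, g, h, mem, U.ext_of_isTriangulatedClosed₃ _ mem hX hX⟩
    have : IsIso (Q.map (0 : X ⟶ X)) := Localization.inverts Q U.trW _ h0
    rw [Functor.map_zero] at this
    rw [one_smul, ← IsIso.hom_inv_id (0 : Q.obj X ⟶ Q.obj X), zero_comp]
  · intro H
    let I : Ideal A :=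
      { carrier := {s | s • 𝟙 (Q.obj X) = 0}
        add_mem' := by
          intro a b ha hb
          simp only [Set.mem_ofPred_eq] at ha hb ⊢
          rw [add_smul, ha, hb, add_zero]
        zero_mem' := by simp
        smul_mem' := by
          intro c a ha
          simp only [Set.mem_ofPred_eq] at ha ⊢
          rw [smul_eq_mul, mul_smul, ha, smul_zero] }
    have hI : I = ⊤ := by
      by_contra hI
      obtain ⟨m, hm, hle⟩ := Ideal.exists_le_maximal I hI
      obtain ⟨s, hs, hs'⟩ := H m hm
      exact hs (hle hs')
    have h1 : (1 : A) • 𝟙 (Q.obj X) = 0 := (Ideal.eq_top_iff_one I).1 hI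
    rw [one_smul, ← Q.map_id] at h1
    have h2 : Q.map (𝟙 X) = Q.map 0 := by rw [h1, Functor.map_zero]
    rw [MorphismProperty.map_eq_iff_precomp Q U.trW] at h2
    obtain ⟨Y, s, hs, hs'⟩ := h2
    rw [comp_zero, Category.comp_id] at hs'
    subst hs'
    obtain ⟨Z, g, h, mem, hZ⟩ := hs
    obtain ⟨r, hr⟩ := Triangle.yoneda_exact₂ _ mem (𝟙 X) zero_comp
    exact U.prop_of_retract ⟨g, r, hr.symm⟩ hZ

end Groth.Agent.S19191
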