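import Groth.Statements.S19192
import Groth.Agent.EtModD.K571.Final

set_option autoImplicit false
universe u
open CategoryTheory CategoryTheory.Limits AlgebraicGeometry
open EtModD

namespace Groth.Agent.S19192

/-- Let `Λ` be a Noetherian commutative ring of coefficients and `X` a Noetherian scheme, and assume
that every `X`-scheme `g : Y ⟶ X` which is separated, locally quasi-finite and locally of finite
type is of finite étale cohomological dimension for `Λ`-linear coefficients: there is an integer `N`
with `H^i(Y_ét, F) = 0` for every sheaf of `Λ`-modules `F` on `Y_ét` and every `i > N` (cohomology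
computed on the underlying abelian sheaf). Then the compact objects of the unbounded derived
category `D(X_ét, Λ)` of sheaves of `Λ`-modules (those `K` for which `Hom(K, −)` commutes with small
direct sums) are exactly the objects of `D^b_ctf(X_ét, Λ)`, taken here in the form: `K` is
isomorphic in `D(X_ét, Λ)` to a bounded complex of sheaves of `Λ`-modules whose components are
constructible and flat (a sheaf `F` being flat when `F ⊗_Λ −` preserves finite limits); for `X` and
`Λ` Noetherian this form is equivalent to 'bounded constructible cohomology and finite
Tor-dimension'. The derived category is taken with `(u+1)`-small morphism sets and small direct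
sums, both carried as instance hypotheses. (The published statement assumes finite cohomological
dimension only for separated quasi-finite `X`-schemes; asking it for all separated, locally
quasi-finite `X`-schemes locally of finite type is a stronger hypothesis, so no more is claimed.) -/
theorem result
    (Λ : Type (u + 1)) [CommRing Λ] [IsNoetherianRing Λ] (X : Scheme.{u}) [IsNoetherian X]
    [HasDerivedCategory.{u + 1} (EtModW.Mod Λ X)]
    [HasCoproducts.{u + 1} (DerivedCategory (EtModW.Mod Λ X))]
    (hcd : ∀ (Y : Scheme.{u}) (g : Y ⟶ X) [IsSeparated g] [LocallyQuasiFinite g] [LocallyOfFiniteType g],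
      ∃ N : ℕ, ∀ (F : EtModW.Mod Λ Y) (i : ℕ), N < i →
        Subsingleton (EtCoh.H Y ((EtModD.forgetToAb Λ Y).obj F) i))
    (K : DerivedCategory (EtModW.Mod Λ X)) :
    CohDer.IsCompactObject K ↔
      ∃ (C : CochainComplex (EtModW.Mod Λ X) ℤ) (a b : ℤ),
        (∀ i : ℤ, i < a ∨ b < i → IsZero (C.X i)) ∧
        (∀ i : ℤ, EtModW.IsConstructible Λ (C.X i)) ∧
        (∀ i : ℤ, PreservesFiniteLimits ((EtModD.tensorBi Λ X).obj (C.X i))) ∧
        Nonempty (DerivedCategory.Q.obj C ≅ K) := by
  constructor
  · intro hK
    obtain ⟨C, a, b, h1, h2, h3⟩ := K571.Final.exists_bounded K hK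
    exact ⟨C, a, b, h1, fun i => (h2 i).1, fun i => (h2 i).2, h3⟩
  · rintro ⟨C, a, b, h1, h2, h3, ⟨e⟩⟩
    have h : K571.Closed.HCD Λ X := hcd
    exact K571.Final.isCompact_of_bounded h K C a b h1 h2 h3 e

end Groth.Agent.S19192
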