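import Groth.Statements.S19195
import Groth.Agent.Ega4dB.FlatRegC
import Mathlib.RingTheory.Ideal.AssociatedPrime.Basic

set_option autoImplicit false
universe u
open TensorProduct
open RelS1

namespace Groth.Agent.S19195

/-- Localizations (over `S`) of `R`-flat modules are `R`-flat. -/
theorem flat_localizedModule {R S : Type u} [CommRing R] [CommRing S] [Algebra R S] (M : Submonoid S)
    (N : Type u) [AddCommGroup N] [Module S N] [Module R N] [IsScalarTower R S N] [Module.Flat R N] :
    Module.Flat R (LocalizedModule M N) := by
  rw [Module.Flat.iff_lTensor_preserves_injective_linearMap]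
  intro P Q _ _ _ _ f hf
  have h1 : Function.Injective (AlgebraTensorModule.lTensor S N f) :=
    Module.Flat.lTensor_preserves_injective_linearMap (M := N) f hf
  have h2 := IsLocalizedModule.map_lTensor (R := R) S M f (LocalizedModule.mkLinearMap M N)
  have h3 := IsLocalizedModule.map_injective M
    (AlgebraTensorModule.rTensor R P (LocalizedModule.mkLinearMap M N))
    (AlgebraTensorModule.rTensor R Q (LocalizedModule.mkLinearMap M N)) _ h1
  rw [h2] at h3
  exact h3

theorem reg_iff {B N : Type*} [CommRing B] [AddCommGroup N] [Module B N] {a : B} :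
    IsSMulRegular N a ↔ ∀ x : N, a • x = 0 → x = 0 := by
  constructor
  · intro h x hx
    exact h (by simpa using hx)
  · intro h x y hxy
    rw [← sub_eq_zero]
    apply h
    rw [smul_sub]
    exact sub_eq_zero.2 hxy

/-- Regularity passes to localized modules. -/
theorem isSMulRegular_localizedModule {B N : Type*} [CommRing B] [AddCommGroup N] [Module B N]
    (S : Submonoid B) (a : B) (h : IsSMulRegular N a) : IsSMulRegular (LocalizedModule S N) a := by
  rw [reg_iff]
  intro x hx
  induction x with
  | _ m s =>
  rw [LocalizedModule.smul'_mk, ← LocalizedModule.zero_mk s, LocalizedModule.mk_eq] at hx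
  obtain ⟨u, hu⟩ := hx
  rw [smul_zero, smul_zero, smul_comm s a m, smul_comm u a (s • m)] at hu
  have h2 := (reg_iff).1 h _ hu
  rw [← LocalizedModule.zero_mk s, LocalizedModule.mk_eq]
  exact ⟨u, by rw [smul_zero, smul_zero]; exact h2⟩

/-- An element outside all associated primes of a module over a noetherian ring is regular. -/
theorem isSMulRegular_of_forall {R N : Type*} [CommRing R] [IsNoetherianRing R] [AddCommGroup N]
    [Module R N] (r : R) (h : ∀ P ∈ associatedPrimes R N, r ∉ P) : IsSMulRegular N r := by
  rw [reg_iff]
  intro x hx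
  by_contra hx0
  have : r ∈ {r : R | ∃ x : N, x ≠ 0 ∧ r • x = 0} := ⟨x, hx0, hx⟩
  rw [← biUnion_associatedPrimes_eq_zero_divisors] at this
  obtain ⟨P, hP, hrP⟩ := Set.mem_iUnion₂.1 this
  exact h P hP hrP

/-- Let A be a commutative ring, B a finitely presented A-algebra and M a finitely presented B-module
which is flat over A. Suppose that for every prime p of A, with residue field κ(p), the fibre module
(B ⊗_A κ(p)) ⊗_B M over the fibre ring B ⊗_A κ(p) satisfies Serre's condition (S_1) in the form:
each of its associated primes is a minimal prime of its annihilator. Let a be an element of B whose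
image a ⊗ 1 in every fibre ring B ⊗_A κ(p) lies in no minimal prime of the annihilator of the fibre
module. Then a is a non-zero-divisor on M. (Since all hypotheses are preserved by base change of A
and by passing to affine opens, this expresses that a flat finitely presented sheaf with (S_1)
fibres is pure relative to the base after every base change. The published statement is an
equivalence for sheaves on a locally finitely presented morphism, quantified over all base changes;
this row states its direct implication in affine form.) -/
theorem result (A B M : Type u) [CommRing A] [CommRing B] [Algebra A B]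
    [Algebra.FinitePresentation A B] [AddCommGroup M] [Module B M] [Module A M]
    [IsScalarTower A B M] [Module.FinitePresentation B M] [Module.Flat A M]
    (hS1 : ∀ (p : Ideal A) [p.IsPrime],
      associatedPrimes (B ⊗[A] p.ResidueField) ((B ⊗[A] p.ResidueField) ⊗[B] M) ⊆
        (Module.annihilator (B ⊗[A] p.ResidueField) ((B ⊗[A] p.ResidueField) ⊗[B] M)).minimalPrimes)
    (a : B)
    (ha : ∀ (p : Ideal A) [p.IsPrime],
      ∀ P ∈ (Module.annihilator (B ⊗[A] p.ResidueField) ((B ⊗[A] p.ResidueField) ⊗[B] M)).minimalPrimes,
        a ⊗ₜ[A] (1 : p.ResidueField) ∉ P) :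
    IsSMulRegular M a := by
  -- regularity on the fibre modules
  have hfib : ∀ (p : Ideal A) [p.IsPrime], IsSMulRegular (M ⊗[A] p.ResidueField) a := by
    intro p hp
    have hnoeth : IsNoetherianRing (B ⊗[A] p.ResidueField) := by
      have h1 : IsNoetherianRing (p.ResidueField ⊗[A] B) :=
        Algebra.FiniteType.isNoetherianRing p.ResidueField _
      exact isNoetherianRing_of_ringEquiv (p.ResidueField ⊗[A] B)
        (Algebra.TensorProduct.comm A p.ResidueField B).toRingEquiv
    have h1 : IsSMulRegular ((B ⊗[A] p.ResidueField) ⊗[B] M) (a ⊗ₜ[A] (1 : p.ResidueField)) :=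
      isSMulRegular_of_forall _ (fun P hP => ha p P (hS1 p hP))
    let e : ((B ⊗[A] p.ResidueField) ⊗[B] M) ≃ₗ[B] (M ⊗[A] p.ResidueField) :=
      (TensorProduct.comm B (B ⊗[A] p.ResidueField) M).trans
        (TensorProduct.AlgebraTensorModule.cancelBaseChange A B B M p.ResidueField)
    rw [reg_iff]
    intro x hx
    have h2 : a • e.symm x = 0 := by rw [← map_smul, hx, map_zero]
    have h3 : (a ⊗ₜ[A] (1 : p.ResidueField)) • e.symm x = 0 := by
      rw [← h2]
      exact algebraMap_smul (B ⊗[A] p.ResidueField) a (e.symm x)
    have h4 := h1.right_eq_zero_of_smul h3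
    rwa [LinearEquiv.map_eq_zero_iff] at h4
  rw [reg_iff]
  intro m hm
  -- the annihilator of `m` is the unit ideal
  by_contra hm0
  have hA : (LinearMap.ker (LinearMap.toSpanSingleton B M m) : Ideal B) ≠ ⊤ := by
    intro hA
    apply hm0
    have : (1 : B) ∈ (LinearMap.ker (LinearMap.toSpanSingleton B M m) : Ideal B) := by
      rw [hA]; trivial
    simpa using this
  obtain ⟨q, hq, hle⟩ := Ideal.exists_le_maximal _ hA
  have hqp : q.IsPrime := hq.isPrime
  have haq : a ∈ q := hle (by
    rw [LinearMap.mem_ker, LinearMap.toSpanSingleton_apply]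
    exact hm)
  have hflat : Module.Flat A (LocalizedModule q.primeCompl M) := flat_localizedModule q.primeCompl M
  have hreg : RingTheory.Sequence.IsWeaklyRegular (LocalizedModule q.primeCompl
      (M ⊗[A] (q.comap (algebraMap A B)).ResidueField)) [a] := by
    rw [RingTheory.Sequence.isWeaklyRegular_singleton_iff]
    exact isSMulRegular_localizedModule _ a (hfib (q.comap (algebraMap A B)))
  obtain ⟨g, hg, hg'⟩ := Ega4dB.FlatPolyFib.exists_notMem_isWeaklyRegular (A := A) (M := M) q [a]
    (by intro b hb; rw [List.mem_singleton] at hb; rw [hb]; exact haq) hflat hreg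
  obtain ⟨h1, -⟩ := hg' q hg
  rw [RingTheory.Sequence.isWeaklyRegular_singleton_iff,
    reg_iff] at h1
  have h2 : LocalizedModule.mkLinearMap q.primeCompl M m = 0 := by
    apply h1
    rw [← map_smul, hm, map_zero]
  obtain ⟨s, hs⟩ := (IsLocalizedModule.eq_zero_iff q.primeCompl
    (LocalizedModule.mkLinearMap q.primeCompl M)).1 h2
  exact s.2 (hle (by
    rw [LinearMap.mem_ker, LinearMap.toSpanSingleton_apply]
    exact hs))

end Groth.Agent.S19195
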