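import Groth.Statements.S19196
import Mathlib.RingTheory.Ideal.MinimalPrime.Noetherian
import Mathlib.RingTheory.Ideal.AssociatedPrime.Basic

set_option autoImplicit false
universe u
open RelS1

namespace Groth.Agent.S19196

/-- Let R be a Noetherian commutative ring and N a finitely generated R-module which fails Serre's
condition (S_1), in the sense that some associated prime of N is not a minimal prime of the
annihilator of N. Then there exist an element a of R lying in no minimal prime of the annihilator of
N and a nonzero element b of N with a • b = 0; thus the basic open set D(a) meets the support of N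
densely while restriction to it is not injective on N. -/
theorem result (R N : Type u) [CommRing R] [IsNoetherianRing R]
    [AddCommGroup N] [Module R N] [Module.Finite R N]
    (h : ¬ associatedPrimes R N ⊆ (Module.annihilator R N).minimalPrimes) :
    ∃ (a : R) (b : N), (∀ P ∈ (Module.annihilator R N).minimalPrimes, a ∉ P) ∧ b ≠ 0 ∧ a • b = 0 := by
  rw [Set.not_subset] at h
  obtain ⟨P, hP, hPm⟩ := h
  have hPp : P.IsPrime := IsAssociatedPrime.isPrime hP
  have hann : Module.annihilator R N ≤ P := by
    have := IsAssociatedPrime.annihilator_le hP
    rwa [Submodule.annihilator_top] at this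
  have hfin := Ideal.finite_minimalPrimes_of_isNoetherianRing R (Module.annihilator R N)
  have hnot : ¬ ((P : Set R) ⊆ ⋃ I ∈ (Module.annihilator R N).minimalPrimes, (I : Set R)) := by
    intro hsub
    obtain ⟨Q, hQ, hle⟩ := (Ideal.subset_union_prime_finite hfin (f := id) ⊤ ⊤
      (fun I hI _ _ => hI.1.1)).1 hsub
    apply hPm
    have : P = Q := le_antisymm hle (hQ.2 ⟨hPp, hann⟩ hle)
    rw [this]
    exact hQ
  rw [Set.not_subset] at hnot
  obtain ⟨a, haP, ha⟩ := hnot
  obtain ⟨_, b, hb⟩ := isAssociatedPrime_iff.1 (AssociatedPrimes.mem_iff.1 hP)
  refine ⟨a, b, ?_, ?_, ?_⟩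
  · intro I hI haI
    exact ha (Set.mem_biUnion hI haI)
  · rintro rfl
    apply hPp.ne_top
    rw [hb, Ideal.eq_top_iff_one]
    simp
  · have : a ∈ P := haP
    rw [hb] at this
    simpa [Submodule.mem_colon_singleton] using this

end Groth.Agent.S19196
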