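import Groth.Statements.S19197
import Groth.Agent.Ega43.FlatKer
import Mathlib.Algebra.Category.ModuleCat.ProjectiveDimension
import Mathlib.LinearAlgebra.TensorProduct.Quotient
import Mathlib.RingTheory.Support

set_option autoImplicit false
universe u
open TensorProduct CategoryTheory
open RelS1

namespace Groth.Agent.S19197

open EGA4

/-- The fibre stalk module, in the two presentations. -/
noncomputable def fibEquiv (A B M : Type u) [CommRing A] [CommRing B] [Algebra A B] [AddCommGroup M]
    [Module B M] (P : Ideal B) [P.IsPrime] :
    ((FibLocRing A B P) ⊗[B] M) ≃ₗ[FibLocRing A B P] FibLocMod A B P M :=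
  let C := Localization.AtPrime P
  let J : Ideal C := (P.comap (algebraMap A B)).map (algebraMap A C)
  let e1 : ((C ⧸ J) ⊗[B] M) ≃ₗ[C ⧸ J] ((C ⧸ J) ⊗[C] (C ⊗[B] M)) :=
    (AlgebraTensorModule.cancelBaseChange B C (C ⧸ J) (C ⧸ J) M).symm
  let e2 : ((C ⧸ J) ⊗[C] (C ⊗[B] M)) ≃ₗ[C ⧸ J] ((C ⧸ J) ⊗[C] (LocalizedModule P.primeCompl M)) :=
    LinearEquiv.baseChange C (C ⧸ J) _ _ (LocalizedModule.equivTensorProduct P.primeCompl M).symm
  let e3 : ((C ⧸ J) ⊗[C] (LocalizedModule P.primeCompl M)) ≃ₗ[C ⧸ J] FibLocMod A B P M :=
    LinearEquiv.extendScalarsOfSurjective (R := C) Ideal.Quotient.mk_surjective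
      (quotTensorEquivQuotSMul (LocalizedModule P.primeCompl M) J)
  (e1.trans e2).trans e3

theorem subsingleton_iff (A B M : Type u) [CommRing A] [CommRing B] [Algebra A B] [AddCommGroup M]
    [Module B M] [Module.Finite B M] (P : Ideal B) [P.IsPrime] :
    Subsingleton (FibLocMod A B P M) ↔ Subsingleton (LocalizedModule P.primeCompl M) := by
  constructor
  · intro h
    have hle : (P.comap (algebraMap A B)).map (algebraMap A (Localization.AtPrime P)) ≤
        IsLocalRing.maximalIdeal (Localization.AtPrime P) := by
      rw [Ideal.map_le_iff_le_comap]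
      intro a ha
      rw [Ideal.mem_comap, IsScalarTower.algebraMap_apply A B (Localization.AtPrime P)]
      exact (IsLocalization.AtPrime.to_map_mem_maximal_iff (Localization.AtPrime P) P _).mpr ha
    rw [Submodule.Quotient.subsingleton_iff] at h
    have h4 := Submodule.eq_bot_of_le_smul_of_le_jacobson_bot _
      (⊤ : Submodule (Localization.AtPrime P) (LocalizedModule P.primeCompl M)) Module.Finite.fg_top
      h.ge (hle.trans (IsLocalRing.maximalIdeal_le_jacobson _))
    exact (Submodule.subsingleton_iff (Localization.AtPrime P)).1 (subsingleton_of_bot_eq_top h4.symm)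
  · intro h
    infer_instance

/-- In affine form, let A be a commutative ring, B a finitely presented A-algebra which is flat over A,
and M a finitely presented B-module which is flat over A. For a prime P of B lying over the prime p
of A, let B_P/pB_P be the local ring of the fibre at P and M_P/pM_P = (B_P/pB_P) ⊗_B M the fibre
stalk module. Then the function sending P to the projective dimension of M_P/pM_P over B_P/pB_P
(valued in WithBot ℕ∞, the zero module having dimension ⊥) is upper semicontinuous on Spec B: for
every bound, the set of P where the fibre projective dimension is below the bound is open. -/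
theorem result (A B M : Type u) [CommRing A] [CommRing B] [Algebra A B]
    [Algebra.FinitePresentation A B] [Module.Flat A B] [AddCommGroup M] [Module B M] [Module A M]
    [IsScalarTower A B M] [Module.FinitePresentation B M] [Module.Flat A M] :
    UpperSemicontinuous fun P : PrimeSpectrum B => projectiveDimension (ModuleCat.of
      (Localization.AtPrime P.asIdeal ⧸ (P.asIdeal.under A).map (algebraMap A (Localization.AtPrime P.asIdeal)))
      ((Localization.AtPrime P.asIdeal ⧸ (P.asIdeal.under A).map (algebraMap A (Localization.AtPrime P.asIdeal))) ⊗[B] M)) := by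
  have hf : ∀ P : PrimeSpectrum B, projectiveDimension (ModuleCat.of
      (Localization.AtPrime P.asIdeal ⧸ (P.asIdeal.under A).map (algebraMap A (Localization.AtPrime P.asIdeal)))
      ((Localization.AtPrime P.asIdeal ⧸ (P.asIdeal.under A).map (algebraMap A (Localization.AtPrime P.asIdeal))) ⊗[B] M)) =
      projectiveDimension (ModuleCat.of (FibLocRing A B P.asIdeal) (FibLocMod A B P.asIdeal M)) :=
    fun P => projectiveDimension_eq_of_iso (fibEquiv A B M P.asIdeal).toModuleIso
  simp only [hf]
  -- openness of the sublevel sets at natural numbers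
  have hopen : ∀ n : ℕ, IsOpen {P : PrimeSpectrum B | projectiveDimension
      (ModuleCat.of (FibLocRing A B P.asIdeal) (FibLocMod A B P.asIdeal M)) < n} := by
    intro n
    simp only [projectiveDimension_lt_iff]
    cases n with
    | zero =>
      have hset : {P : PrimeSpectrum B | HasProjectiveDimensionLT
          (ModuleCat.of (FibLocRing A B P.asIdeal) (FibLocMod A B P.asIdeal M)) 0} =
          (Module.support B M)ᶜ := by
        ext P
        rw [Set.mem_ofPred_eq, Set.mem_compl_iff, Module.notMem_support_iff,
          hasProjectiveDimensionLT_zero_iff_isZero, ← subsingleton_iff A B M P.asIdeal]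
        exact ModuleCat.isZero_of_iff_subsingleton
      rw [hset]
      exact (Module.isClosed_support (R := B) (M := M)).isOpen_compl
    | succ n =>
      exact Ega43.FibPd.isOpen_pd A B (Ega43.FlatKer.kerFP A B) n M
  intro P y hy
  obtain ⟨n, hn1, hn2⟩ : ∃ n : ℕ, projectiveDimension
      (ModuleCat.of (FibLocRing A B P.asIdeal) (FibLocMod A B P.asIdeal M)) < n ∧
        ((n : WithBot ℕ∞) ≤ y) := by
    induction y with
    | bot => exact absurd hy not_lt_bot
    | coe y =>
      induction y with
      | top =>
        have hne : projectiveDimension (ModuleCat.of (FibLocRing A B P.asIdeal)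
            (FibLocMod A B P.asIdeal M)) ≠ ⊤ := hy.ne
        rw [projectiveDimension_ne_top_iff] at hne
        obtain ⟨n, hn⟩ := hne
        exact ⟨n + 1, projectiveDimension_lt_iff.2 hn, le_top⟩
      | coe n => exact ⟨n, hy, le_rfl⟩
  filter_upwards [(hopen n).mem_nhds hn1] with Q hQ
  exact lt_of_lt_of_le hQ hn2

end Groth.Agent.S19197
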