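import Groth.Statements.S19198
import Mathlib.AlgebraicGeometry.SpreadingOut
import Mathlib.AlgebraicGeometry.ValuativeCriterion
import Mathlib.AlgebraicGeometry.Morphisms.SchemeTheoreticallyDominant
import Mathlib.AlgebraicGeometry.Noetherian
import Mathlib.AlgebraicGeometry.Morphisms.FiniteType
import Mathlib.RingTheory.DiscreteValuationRing.TFAE
import Mathlib.RingTheory.KrullDimension.LocalRing
import Groth.Agent.Divis.EffCartier
import Groth.Agent.PerfA.StalkPush

set_option autoImplicit false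
universe u
open CategoryTheory AlgebraicGeometry
open Models

namespace Groth.Agent.S19198

/-- A morphism with a section over `U`, flat over an integral base and an isomorphism over the preimage of a nonempty
open subset of the base, is an isomorphism over `U`. -/
theorem isIso_restrict {S C Z : Scheme.{u}} [IsIntegral S] (h : Z ⟶ C) [IsSeparated h]
    (πC : C ⟶ S) [Flat (h ≫ πC)] (W : S.Opens) (hW : (W : Set S).Nonempty) [QuasiCompact W.ι]
    (hgen : IsIso (h ∣_ (πC ⁻¹ᵁ W))) (U : C.Opens) (g : U.toScheme ⟶ Z) (hg : g ≫ h = U.ι) :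
    IsIso (h ∣_ U) := by
  have hdom : IsDominant W.ι := by
    refine ⟨?_⟩
    rw [DenseRange, Scheme.Opens.range_ι]
    exact W.isOpen.dense hW
  have hstd : IsSchemeTheoreticallyDominant W.ι := IsSchemeTheoreticallyDominant.of_isDominant _
  -- the section over `U`
  have hr : Set.range g ⊆ ((h ⁻¹ᵁ U : Z.Opens) : Set Z) := by
    rintro _ ⟨x, rfl⟩
    change h (g x) ∈ U
    rw [← Scheme.Hom.comp_apply, hg]
    exact x.2
  let g' : U.toScheme ⟶ (h ⁻¹ᵁ U).toScheme := IsOpenImmersion.lift (h ⁻¹ᵁ U).ι g (by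
    rw [Scheme.Opens.range_ι]; exact hr)
  have hg' : g' ≫ (h ⁻¹ᵁ U).ι = g := IsOpenImmersion.lift_fac _ _ _
  have hg'' : g' ≫ (h ∣_ U) = 𝟙 _ := by
    rw [← cancel_mono U.ι, Category.assoc, morphismRestrict_ι, reassoc_of% hg', hg, Category.id_comp]
  have hci : IsClosedImmersion g' := by
    have h1 : IsClosedImmersion (g' ≫ (h ∣_ U)) := by rw [hg'']; infer_instance
    exact IsClosedImmersion.of_comp g' (h ∣_ U)
  -- the generic fibre of `h ⁻¹ U`
  let q : (h ⁻¹ᵁ U).toScheme ⟶ S := (h ⁻¹ᵁ U).ι ≫ h ≫ πC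
  let j := Limits.pullback.fst q W.ι
  have hj : IsSchemeTheoreticallyDominant j := inferInstance
  have hjqc : QuasiCompact j := inferInstance
  have hfac : j = (j ≫ (h ∣_ U)) ≫ g' := by
    rw [← cancel_mono (h ⁻¹ᵁ U).ι, Category.assoc, Category.assoc, hg']
    have e1 : (j ≫ (h ⁻¹ᵁ U).ι) ≫ h = (j ≫ (h ∣_ U) ≫ g) ≫ h := by
      simp only [Category.assoc, hg, morphismRestrict_ι]
    have e2 : ((j ≫ (h ⁻¹ᵁ U).ι) ≫ h) ≫ πC = Limits.pullback.snd q W.ι ≫ W.ι := by
      have := Limits.pullback.condition (f := q) (g := W.ι)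
      simpa only [q, Category.assoc] using this
    have r1 : Set.range (j ≫ (h ⁻¹ᵁ U).ι) ⊆ ((h ⁻¹ᵁ (πC ⁻¹ᵁ W) : Z.Opens) : Set Z) := by
      rintro _ ⟨x, rfl⟩
      change πC (h ((j ≫ (h ⁻¹ᵁ U).ι) x)) ∈ W
      rw [← Scheme.Hom.comp_apply, ← Scheme.Hom.comp_apply, ← Category.assoc, e2]
      exact (Limits.pullback.snd q W.ι x).2
    have r2 : Set.range (j ≫ (h ∣_ U) ≫ g) ⊆ ((h ⁻¹ᵁ (πC ⁻¹ᵁ W) : Z.Opens) : Set Z) := by
      rintro _ ⟨x, rfl⟩
      change πC (h ((j ≫ (h ∣_ U) ≫ g) x)) ∈ W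
      rw [← Scheme.Hom.comp_apply, ← Scheme.Hom.comp_apply, ← Category.assoc, ← e1, e2]
      exact (Limits.pullback.snd q W.ι x).2
    let a := IsOpenImmersion.lift (h ⁻¹ᵁ (πC ⁻¹ᵁ W)).ι (j ≫ (h ⁻¹ᵁ U).ι)
      (by rw [Scheme.Opens.range_ι]; exact r1)
    let b := IsOpenImmersion.lift (h ⁻¹ᵁ (πC ⁻¹ᵁ W)).ι (j ≫ (h ∣_ U) ≫ g)
      (by rw [Scheme.Opens.range_ι]; exact r2)
    have ha : a ≫ (h ⁻¹ᵁ (πC ⁻¹ᵁ W)).ι = j ≫ (h ⁻¹ᵁ U).ι := IsOpenImmersion.lift_fac _ _ _
    have hb : b ≫ (h ⁻¹ᵁ (πC ⁻¹ᵁ W)).ι = j ≫ (h ∣_ U) ≫ g := IsOpenImmersion.lift_fac _ _ _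
    have hab : a = b := by
      rw [← cancel_mono (h ∣_ (πC ⁻¹ᵁ W)), ← cancel_mono (πC ⁻¹ᵁ W).ι]
      simp only [Category.assoc, morphismRestrict_ι]
      rw [reassoc_of% ha, reassoc_of% hb]
      simpa only [Category.assoc] using e1
    rw [← ha, ← hb, hab]
  have hker : g'.ker = ⊥ := by
    have h1 : j.ker = ⊥ := IsSchemeTheoreticallyDominant.ker_eq_bot j
    have h2 := Scheme.Hom.le_ker_comp (j ≫ (h ∣_ U)) g'
    rw [← hfac, h1] at h2
    exact le_bot_iff.mp h2
  have hiso : IsIso g' := IsClosedImmersion.isIso_iff_ker_eq_bot.mpr hker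
  have h3 : h ∣_ U = inv g' := by
    rw [← cancel_epi g', hg'', IsIso.hom_inv_id]
  rw [h3]
  infer_instance

/-- A Noetherian integrally closed local domain of dimension one is a valuation ring. -/
theorem valuationRing_of_dim_one (A : Type*) [CommRing A] [IsDomain A] [IsLocalRing A] [IsNoetherianRing A]
    [hn : IsIntegrallyClosed A] (hdim : ringKrullDim A = 1) : ValuationRing A := by
  have h1 := (ringKrullDim_eq_one_iff_of_isLocalRing_isDomain (R := A)).mp hdim
  have h2 : ∀ P : Ideal A, P ≠ ⊥ → P.IsPrime → P = IsLocalRing.maximalIdeal A := by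
    intro P hP hPp
    obtain ⟨x, hx, hx0⟩ := Submodule.exists_mem_ne_zero_of_ne_bot hP
    refine le_antisymm (IsLocalRing.le_maximalIdeal hPp.ne_top) ((h1.2 x hx0).trans ?_)
    rw [hPp.radical_le_iff, Ideal.span_le, Set.singleton_subset_iff]
    exact hx
  have h3 := ((tfae_of_isNoetherianRing_of_isLocalRing_of_isDomain (R := A)).out 1 3 :
    ValuationRing A ↔ IsIntegrallyClosed A ∧ ∀ P : Ideal A, P ≠ ⊥ → P.IsPrime →
      P = IsLocalRing.maximalIdeal A)
  exact h3.mpr ⟨hn, h2⟩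

/-- The existence part of the valuative criterion for a proper morphism. -/
theorem exists_lift {C Z : Scheme.{u}} (h : Z ⟶ C) [IsProper h] (A : CommRingCat.{u}) [IsDomain A]
    [ValuationRing A] (t : Spec (CommRingCat.of (FractionRing A)) ⟶ Z) (b : Spec A ⟶ C)
    (w : t ≫ h = Spec.map (CommRingCat.ofHom (algebraMap A (FractionRing A))) ≫ b) :
    ∃ l : Spec A ⟶ Z, l ≫ h = b := by
  have hv : ValuativeCriterion h := by
    have : IsProper h := inferInstance
    rw [IsProper.eq_valuativeCriterion] at this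
    exact this.1.1.1
  let Sq : ValuativeCommSq h := { R := A, K := FractionRing A, i₁ := t, i₂ := b, commSq := ⟨w⟩ }
  have h2 : Sq.commSq.HasLift := hv.existence Sq
  obtain ⟨⟨l⟩⟩ := h2
  exact ⟨l.l, l.fac_right⟩

/-- Form over the valuation ring: let R be a discrete valuation ring with a uniformizer ϖ, let C → Spec
R be flat and locally of finite type, f : X → C proper, and Z → X a closed immersion with Z flat
over R such that the composite Z → C restricts to an isomorphism over the generic fibre, the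
preimage of the open set D(ϖ) of Spec R. Then for every point c of C whose local ring is an
integrally closed domain of Krull dimension one (a codimension-one point at which C is normal, for
instance a generic point of the closed fibre lying in the smooth locus), there is an open
neighbourhood V of c over which Z → C is an isomorphism. (The published statement, that the closed
fibre of such a Z maps isomorphically onto the closed fibre of C over every generic point of its
smooth locus, also after a finite extension of R, follows by restriction to the closed fibre and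
flat descent.) -/
theorem result (R : Type u) [CommRing R] [IsDomain R]
    [IsDiscreteValuationRing R] {C X Z : Scheme.{u}} (πC : C ⟶ Spec (CommRingCat.of R)) [Flat πC]
    [LocallyOfFiniteType πC] (f : X ⟶ C) [IsProper f] (i : Z ⟶ X) [IsClosedImmersion i]
    [Flat ((i ≫ f) ≫ πC)] (ϖ : R) (hϖ : Irreducible ϖ)
    (hgen : IsIso ((i ≫ f) ∣_ (πC ⁻¹ᵁ (PrimeSpectrum.basicOpen ϖ))))
    (c : C) (hdom : IsDomain (C.presheaf.stalk c)) (hnorm : IsIntegrallyClosed (C.presheaf.stalk c))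
    (hdim : ringKrullDim (C.presheaf.stalk c) = 1) :
    ∃ V : C.Opens, c ∈ V ∧ IsIso ((i ≫ f) ∣_ V) := by
  set h : Z ⟶ C := i ≫ f with hh
  have hprop : IsProper h := inferInstance
  by_cases hc : c ∈ πC ⁻¹ᵁ (PrimeSpectrum.basicOpen ϖ)
  · exact ⟨_, hc, hgen⟩
  have hCn : IsLocallyNoetherian C := LocallyOfFiniteType.isLocallyNoetherian πC
  have hnoeth : IsNoetherianRing (C.presheaf.stalk c) := inferInstance
  -- the local ring is a valuation ring
  have hval : ValuationRing (C.presheaf.stalk c) := valuationRing_of_dim_one _ hdim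
  -- the image of the uniformizer is nonzero
  let A := C.presheaf.stalk c
  let K := FractionRing A
  have hfl : Flat (C.fromSpecStalk c ≫ πC) := by
    have := PerfA.StalkPush.flat_fromSpecStalk c
    infer_instance
  obtain ⟨ψ, hψ⟩ : ∃ ψ : CommRingCat.of R ⟶ C.presheaf.stalk c, Spec.map ψ = C.fromSpecStalk c ≫ πC :=
    ⟨Spec.preimage _, Spec.map_preimage _⟩
  rw [← hψ, Flat.SpecMap_iff] at hfl
  have h0 : ψ.hom ϖ ∈ nonZeroDivisors (C.presheaf.stalk c) :=
    Divis.EffCartier.map_mem_nonZeroDivisors_of_flat _ hfl (mem_nonZeroDivisors_of_ne_zero hϖ.ne_zero)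
  -- the fraction field maps to the generic fibre
  let ι : CommRingCat.of (C.presheaf.stalk c) ⟶ CommRingCat.of K :=
    CommRingCat.ofHom (algebraMap (C.presheaf.stalk c) K)
  let t : Spec (CommRingCat.of K) ⟶ C := Spec.map ι ≫ C.fromSpecStalk c
  have ht : Set.range t ⊆ ((πC ⁻¹ᵁ (PrimeSpectrum.basicOpen ϖ) : C.Opens) : Set C) := by
    rintro _ ⟨x, rfl⟩
    change πC (t x) ∈ PrimeSpectrum.basicOpen ϖ
    rw [← Scheme.Hom.comp_apply]
    have e1 : t ≫ πC = Spec.map (ψ ≫ ι) := by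
      rw [Spec.map_comp, hψ, Category.assoc]
    rw [e1]
    change ϖ ∉ ((Spec.map (ψ ≫ ι)) x).asIdeal
    intro hmem
    have h2 : IsUnit ((ψ ≫ ι).hom ϖ) := by
      change IsUnit (algebraMap (C.presheaf.stalk c) K (ψ.hom ϖ))
      exact IsLocalization.map_units K (⟨_, h0⟩ : nonZeroDivisors (C.presheaf.stalk c))
    exact x.isPrime.ne_top (Ideal.eq_top_of_isUnit_mem _ hmem h2)
  let t' : Spec (CommRingCat.of K) ⟶ (πC ⁻¹ᵁ (PrimeSpectrum.basicOpen ϖ)).toScheme :=
    IsOpenImmersion.lift (πC ⁻¹ᵁ (PrimeSpectrum.basicOpen ϖ)).ι t (by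
      rw [Scheme.Opens.range_ι]; exact ht)
  have ht' : t' ≫ (πC ⁻¹ᵁ (PrimeSpectrum.basicOpen ϖ)).ι = t := IsOpenImmersion.lift_fac _ _ _
  let i₁ : Spec (CommRingCat.of K) ⟶ Z :=
    t' ≫ inv (h ∣_ (πC ⁻¹ᵁ (PrimeSpectrum.basicOpen ϖ))) ≫ (h ⁻¹ᵁ (πC ⁻¹ᵁ (PrimeSpectrum.basicOpen ϖ))).ι
  have hi₁ : i₁ ≫ h = t := by
    simp only [i₁, Category.assoc]
    rw [← morphismRestrict_ι, IsIso.inv_hom_id_assoc, ht']
  -- the valuative criterion
  obtain ⟨l, hl⟩ := exists_lift h (C.presheaf.stalk c) i₁ (C.fromSpecStalk c) hi₁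
  obtain ⟨U, hcU, g, -, hg⟩ := spread_out_of_isGermInjective' (𝟙 C) h l (by rw [hl, Category.comp_id])
  rw [Category.comp_id] at hg
  refine ⟨U, hcU, ?_⟩
  have hSint : IsIntegral (Spec (CommRingCat.of R)) := inferInstance
  refine isIso_restrict h πC (PrimeSpectrum.basicOpen ϖ) ?_ hgen U g hg
  exact ⟨⟨⊥, Ideal.isPrime_bot⟩, fun h3 => hϖ.ne_zero h3⟩

end Groth.Agent.S19198
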