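import Groth.Statements.S19200
import Groth.Agent.Jac.K914.Strict

set_option autoImplicit false
universe u
open CategoryTheory CategoryTheory.Limits AlgebraicGeometry MonoidalCategory CartesianMonoidalCategory MonObj
open Jac

namespace Groth.Agent.S19200

open Groth.Agent

/-- Let k be an algebraically closed field and X a smooth proper connected curve over k of genus g ≥ 3
which is not hyperelliptic (no invertible module of degree 2 on X has a two-dimensional space of
global sections); let 1 ≤ d ≤ g − 1, let (Y, q) be the d-th symmetric power X^(d) of X over k, let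
(J_d, ψ_d) be a coarse moduli scheme on all k-schemes for line bundles of degree d on X modulo
twisting from the base, and let j_d : Y → J_d be the Abel map (q followed by j_d classifies the
family O(Γ_1 + ⋯ + Γ_d) on X × X^d, so an effective divisor D goes to the class of O(D)). Then j_d
is small onto its image W_d: for every i ≥ 1, the set of points x of J_d whose fibre Y ×_{J_d} Spec
κ(x) has dimension at least i has dimension strictly less than d − 2i (as a subspace of J_d; the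
empty set has dimension −∞, so the claim holds when that locus is empty). -/
theorem result (k : Type u) [Field k] [IsAlgClosed k]
    (X : Scheme.{u}) [X.Over (Spec (CommRingCat.of k))]
    [IsProper (X ↘ Spec (CommRingCat.of k))] [Smooth (X ↘ Spec (CommRingCat.of k))]
    [GeometricallyConnected (X ↘ Spec (CommRingCat.of k))] (hdim : topologicalKrullDim ↥X = 1)
    (g : ℕ) (hg : Curv2.genus k X = g) (hg3 : 3 ≤ g)
    (d : ℕ) (hd1 : 1 ≤ d) (hdg : d + 1 ≤ g)
    (Y : Scheme.{u}) (q : SymProd.fibPow (X ↘ Spec (CommRingCat.of k)) d ⟶ Y) (gY : Y ⟶ Spec (CommRingCat.of k))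
    (hY : SymProd.IsSymProd (X ↘ Spec (CommRingCat.of k)) d q gY)
    (Jd : Over (Spec (CommRingCat.of k)))
    (ψd : (ModFun.PicDeg (X ↘ Spec (CommRingCat.of k)) (d : ℤ)).Hom ⊤ Jd)
    (hJd : ModFun.IsCoarseModuli ⊤ (ModFun.PicDeg (X ↘ Spec (CommRingCat.of k)) (d : ℤ)) Jd ψd)
    (jd : Over.mk gY ⟶ Jd) (hjd : Jac.IsAbelMapSym q gY hY.over ψd jd)
    (hnh : ¬ ∃ L : X.Modules, PicF.IsInvertible L ∧ Curv2.deg k X L 1 = 2 ∧ Module.finrank k (Coh.HH X L 0) = 2)
    (i : ℕ) (hi : 1 ≤ i) :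
    topologicalKrullDim ↥{x : ↥Jd.left | ((i : ℕ) : WithBot ℕ∞) ≤ topologicalKrullDim ↥(pullback jd.left (Jd.left.fromSpecResidueField x))} + ((2 * i : ℕ) : WithBot ℕ∞) < ((d : ℕ) : WithBot ℕ∞) := by
  have hX := K914.Curve.isSmoothProperCurve (X ↘ Spec (CommRingCat.of k)) hdim
  have hrd : SmoothOfRelativeDimension 1 (X ↘ Spec (CommRingCat.of k)) := Fga.JacAlg.smoothOfRelDim hX
  have hint := K914.Curve.isIntegral (X ↘ Spec (CommRingCat.of k))
  obtain ⟨σ, hσ⟩ := K914.Semi.exists_section (X ↘ Spec (CommRingCat.of k))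
  have hP := K914.Fine.isProper_of_coarse (X ↘ Spec (CommRingCat.of k)) σ hσ hJd
  obtain ⟨J₀, _, ξ₀, -, -, h₀⟩ := K914.Fine.exists_isJac (X ↘ Spec (CommRingCat.of k)) σ hσ
  obtain ⟨ξ, hξ, -, hξ2⟩ := K914.Fine.exists_univ h₀ hJd
  obtain ⟨hqs, -, -⟩ := S2908.result _ _ hY.isQuot
  have hfp := K914.Pow.isProper_base (X ↘ Spec (CommRingCat.of k)) d
  obtain ⟨-, -, -, hft⟩ := S2909.result _ _ hY.isQuot _ gY hY.over (fun σ => SymProd.permHom_base _ _ _)
  obtain ⟨hgY, -⟩ := hft inferInstance inferInstance inferInstance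
  have hjw : jd.left ≫ Jd.hom = gY := Over.w jd
  have hlft : LocallyOfFiniteType jd.left := by
    have : LocallyOfFiniteType (jd.left ≫ Jd.hom) := by rw [hjw]; exact hgY
    exact locallyOfFiniteType_of_comp jd.left Jd.hom
  have hqj : IsProper (q ≫ jd.left) := by
    have h1 : (q ≫ jd.left) ≫ Jd.hom = WidePullback.base fun _ : Fin d => (X ↘ Spec (CommRingCat.of k)) := by
      rw [Category.assoc, hjw, hY.over]
    have : IsProper ((q ≫ jd.left) ≫ Jd.hom) := h1 ▸ hfp
    exact IsProper.of_comp (q ≫ jd.left) Jd.hom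
  have hclosed : IsClosedMap jd.left.base := by
    intro C hC
    have h1 : jd.left.base '' C = (q ≫ jd.left).base '' (q.base ⁻¹' C) := by
      ext y
      constructor
      · rintro ⟨c, hc, rfl⟩
        obtain ⟨z, rfl⟩ := hqs c
        exact ⟨z, hc, by simp⟩
      · rintro ⟨z, hz, rfl⟩
        exact ⟨q.base z, hz, by simp⟩
    rw [h1]
    exact (q ≫ jd.left).isClosedMap _ (hC.preimage q.continuous)
  have hA := S3387.result jd.left hclosed i
  have hchi : (d : ℤ) + Picfga.ChiDef.chiK (X ↘ Spec (CommRingCat.of k)) (𝟙 (Spec (CommRingCat.of k))) 1 ≤ 0 := by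
    rw [K914.Curve.chiK_one k X, hg]
    omega
  have hnh' : ∀ x y : Fga.JacSum.Pt (X ↘ Spec (CommRingCat.of k)) (Over.mk (𝟙 (Spec (CommRingCat.of k)))),
      K914.HField.hK (X ↘ Spec (CommRingCat.of k)) (𝟙 (Spec (CommRingCat.of k))) 0
        ((Fga.JacSum.gcl (X ↘ Spec (CommRingCat.of k)) x)⁻¹ * (Fga.JacSum.gcl (X ↘ Spec (CommRingCat.of k)) y)⁻¹) ≤ 1 := by
    intro x y
    by_contra hlt
    obtain ⟨L, hL, hdeg, hrk⟩ := K914.Strict.exists_module k X hdim
      ((Fga.JacSum.gcl (X ↘ Spec (CommRingCat.of k)) x)⁻¹ * (Fga.JacSum.gcl (X ↘ Spec (CommRingCat.of k)) y)⁻¹)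
    have hd2 : K914.HField.dK (X ↘ Spec (CommRingCat.of k)) (𝟙 (Spec (CommRingCat.of k)))
        ((Fga.JacSum.gcl (X ↘ Spec (CommRingCat.of k)) x)⁻¹ * (Fga.JacSum.gcl (X ↘ Spec (CommRingCat.of k)) y)⁻¹) = 2 := by
      rw [K914.HField.dK_mul, K914.HField.dK_inv, K914.HField.dK_inv, K914.HField.dK_gcl, K914.HField.dK_gcl]
      norm_num
    rw [hd2] at hdeg
    refine hnh ⟨L, hL, hdeg, ?_⟩
    rw [hrk 0]
    have hC : K532.CurvePic.IsCurve k X := K532.CurvePic.isCurve_of_isAlgClosed k X hX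
    have h1 := hrk 0
    rw [← K532.CurvePic.h_mk k X 0 hL] at h1
    have h2 : 0 < K532.CurvePic.h k X 0 (Grpsch.PicGrp.mk L hL) := by omega
    have h3 := K532.CurvePic.h0_le_deg hC h2
    rw [K532.CurvePic.deg_mk k X hdim hL, hdeg] at h3
    by_contra hne
    have h4 := K532.CurvePic.gen_eq_zero_of_h0_eq hC h2 (by
      rw [K532.CurvePic.deg_mk k X hdim hL, hdeg]
      omega) (by
      rw [K532.CurvePic.deg_mk k X hdim hL, hdeg]
      norm_num)
    have h5 : K532.CurvePic.gen k X = g := hg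
    omega
  have key : ∀ y ∈ {y : Jd.left | (i : WithBot ℕ∞) ≤ topologicalKrullDim ↥(jd.left.fiber y)},
      2 * i + 1 ≤ d ∧ Sga4h.GeoDim.trdegAt Jd.hom y ≤ ((d - 2 * i - 1 : ℕ) : Cardinal.{u}) := by
    intro y hy
    obtain ⟨w, rfl, hw⟩ := K914.Semi.exists_of_le_dim jd.left y i hy
    have h1 := K914.Strict.strict_ineq hY.over hjd hξ2 hσ hnh' hchi hqs w (by
      refine le_trans ?_ hw
      exact_mod_cast hi)
    obtain ⟨a, ha⟩ := Sga4h.GeoDim.exists_nat_trdegAt Jd.hom (jd.left w)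
    obtain ⟨b, hb⟩ := Sga4h.GeoDim.exists_nat_trdegAt jd.left w
    rw [ha, hb] at h1
    rw [hb] at hw
    rw [ha]
    have h2 : a + 2 * b + 1 ≤ d := by exact_mod_cast h1
    have h3 : i ≤ b := by exact_mod_cast hw
    refine ⟨by omega, ?_⟩
    have h4 : a ≤ d - 2 * i - 1 := by omega
    exact_mod_cast h4
  have hfin := K914.Semi.dim_closed_le Jd.hom hA (d - 2 * i - 1) fun y hy => (key y hy).2
  change topologicalKrullDim ↥{y : Jd.left | (i : WithBot ℕ∞) ≤ topologicalKrullDim ↥(jd.left.fiber y)} +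
    ((2 * i : ℕ) : WithBot ℕ∞) < ((d : ℕ) : WithBot ℕ∞)
  rcases Set.eq_empty_or_nonempty {y : Jd.left | (i : WithBot ℕ∞) ≤ topologicalKrullDim ↥(jd.left.fiber y)} with h | ⟨y, hy⟩
  · rw [h]
    have h1 : topologicalKrullDim ↥(∅ : Set Jd.left) = ⊥ := by
      rw [topologicalKrullDim, Order.krullDim_eq_bot_iff]
      exact ⟨fun Z => (Z.isIrreducible.nonempty.elim fun x _ => x.2)⟩
    rw [h1, WithBot.bot_add]
    exact WithBot.bot_lt_coe _
  · have h1 := (key y hy).1
    calc _ ≤ ((d - 2 * i - 1 : ℕ) : WithBot ℕ∞) + ((2 * i : ℕ) : WithBot ℕ∞) := add_le_add_left hfin _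
      _ < ((d : ℕ) : WithBot ℕ∞) := by
        rw [← Nat.cast_add]
        have h2 : d - 2 * i - 1 + 2 * i < d := by omega
        exact_mod_cast h2


end Groth.Agent.S19200
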