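import Groth.Statements.S19201
import Groth.Agent.Jac.K914.DiffAsm
import Groth.Agent.S2908
import Groth.Agent.S2909

set_option autoImplicit false
universe u
open CategoryTheory CategoryTheory.Limits AlgebraicGeometry MonoidalCategory CartesianMonoidalCategory MonObj
open Jac

namespace Groth.Agent.S19201

open Groth.Agent

/-- Let k be an algebraically closed field of characteristic zero and X a smooth proper connected curve
over k of genus g ≥ 3 which is hyperelliptic (some invertible module of degree 2 has a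
two-dimensional space of global sections), with a k-point σ; let (J, ψ) be the Jacobian of X (a
commutative group scheme over k which is a coarse moduli scheme on all k-schemes for degree-0 line
bundles modulo twisting from the base, its group law inducing the tensor product), j_1 : X → J the
Abel map with base point σ (x ↦ O(x − σ)), and, for 1 ≤ r ≤ g − 1, (Y, q) the r-th symmetric power
X^(r) and j_r : Y → J the Abel map with base point σ (D ↦ O(D − r·σ)); let W_r ⊆ J be the
scheme-theoretic image of j_r, C − C ⊆ J the set-theoretic image of the difference map (x, y) ↦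
j_1(x) · j_1(y)^{-1} on X ×_k X, and f_r : W_r ×_k W_r → J the difference map (a, b) ↦ a · b^{-1}.
Then: every fibre W_r ×_k W_r ×_J Spec κ(z) of f_r has dimension at most r; there is an open subset
V of J meeting C − C in a dense subset of C − C such that the fibre of f_r over every point of V ∩
(C − C) has dimension exactly r − 1; and the preimage f_r^{-1}(C − C) has dimension at most r + 1
(dimensions of underlying spaces; the empty space has dimension −∞). (The published statement
assumes no characteristic; this row assumes characteristic zero. The published statement is for the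
curve translated inside J so that it is symmetric about the origin; the three assertions do not
change under translation, so they are stated for the Abel maps with base point σ. The published
statement also asserts that the image of C × C × W_{r−1} is an irreducible component of f_r^{-1}(C −
C) of top dimension; that clause is not included here.) -/
theorem result (k : Type u) [Field k] [IsAlgClosed k] [CharZero k]
    (X : Scheme.{u}) [X.Over (Spec (CommRingCat.of k))]
    [IsProper (X ↘ Spec (CommRingCat.of k))] [Smooth (X ↘ Spec (CommRingCat.of k))]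
    [GeometricallyConnected (X ↘ Spec (CommRingCat.of k))] (hdim : topologicalKrullDim ↥X = 1)
    (g : ℕ) (hg : Curv2.genus k X = g) (hg3 : 3 ≤ g)
    (hhyp : ∃ L : X.Modules, PicF.IsInvertible L ∧ Curv2.deg k X L 1 = 2 ∧ Module.finrank k (Coh.HH X L 0) = 2)
    (σ : Spec (CommRingCat.of k) ⟶ X) (hσ : σ ≫ (X ↘ Spec (CommRingCat.of k)) = 𝟙 _)
    (J : Over (Spec (CommRingCat.of k))) [GrpObj J] [IsCommMonObj J]
    (ψ : (ModFun.PicDeg (X ↘ Spec (CommRingCat.of k)) 0).Hom ⊤ J) (hJ : Jac.IsJacobian (X ↘ Spec (CommRingCat.of k)) ⊤ J ψ)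
    (j₁ : (Over.mk (X ↘ Spec (CommRingCat.of k))) ⟶ J) (hj₁ : Jac.IsAbelJacobiAt (X ↘ Spec (CommRingCat.of k)) σ ψ j₁)
    (r : ℕ) (hr1 : 1 ≤ r) (hrg : r + 1 ≤ g)
    (Y : Scheme.{u}) (q : SymProd.fibPow (X ↘ Spec (CommRingCat.of k)) r ⟶ Y) (gY : Y ⟶ Spec (CommRingCat.of k))
    (hY : SymProd.IsSymProd (X ↘ Spec (CommRingCat.of k)) r q gY)
    (jr : Over.mk gY ⟶ J) (hjr : Jac.IsAbelMapSymAt σ q gY hY.over ψ jr) :
    (∀ z : ↥J.left, topologicalKrullDim ↥(pullback ((fst (Over.mk (jr.left.imageι ≫ J.hom)) (Over.mk (jr.left.imageι ≫ J.hom)) ≫ (Over.homMk jr.left.imageι rfl : (Over.mk (jr.left.imageι ≫ J.hom)) ⟶ J)) * (snd (Over.mk (jr.left.imageι ≫ J.hom)) (Over.mk (jr.left.imageι ≫ J.hom)) ≫ (Over.homMk jr.left.imageι rfl : (Over.mk (jr.left.imageι ≫ J.hom)) ⟶ J))⁻¹).left (J.left.fromSpecResidueField z)) ≤ ((r : ℕ) : WithBot ℕ∞)) ∧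
    (∃ V : Set ↥J.left, IsOpen V ∧ Set.range ((fst (Over.mk (X ↘ Spec (CommRingCat.of k))) (Over.mk (X ↘ Spec (CommRingCat.of k))) ≫ j₁) * (snd (Over.mk (X ↘ Spec (CommRingCat.of k))) (Over.mk (X ↘ Spec (CommRingCat.of k))) ≫ j₁)⁻¹).left.base ⊆ closure (V ∩ Set.range ((fst (Over.mk (X ↘ Spec (CommRingCat.of k))) (Over.mk (X ↘ Spec (CommRingCat.of k))) ≫ j₁) * (snd (Over.mk (X ↘ Spec (CommRingCat.of k))) (Over.mk (X ↘ Spec (CommRingCat.of k))) ≫ j₁)⁻¹).left.base) ∧
      ∀ z ∈ V ∩ Set.range ((fst (Over.mk (X ↘ Spec (CommRingCat.of k))) (Over.mk (X ↘ Spec (CommRingCat.of k))) ≫ j₁) * (snd (Over.mk (X ↘ Spec (CommRingCat.of k))) (Over.mk (X ↘ Spec (CommRingCat.of k))) ≫ j₁)⁻¹).left.base, topologicalKrullDim ↥(pullback ((fst (Over.mk (jr.left.imageι ≫ J.hom)) (Over.mk (jr.left.imageι ≫ J.hom)) ≫ (Over.homMk jr.left.imageι rfl : (Over.mk (jr.left.imageι ≫ J.hom)) ⟶ J)) * (snd (Over.mk (jr.left.imageι ≫ J.hom)) (Over.mk (jr.left.imageι ≫ J.hom)) ≫ (Over.homMk jr.left.imageι rfl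 : (Over.mk (jr.left.imageι ≫ J.hom)) ⟶ J))⁻¹).left (J.left.fromSpecResidueField z)) = ((r - 1 : ℕ) : WithBot ℕ∞)) ∧
    topologicalKrullDim ↥(((fst (Over.mk (jr.left.imageι ≫ J.hom)) (Over.mk (jr.left.imageι ≫ J.hom)) ≫ (Over.homMk jr.left.imageι rfl : (Over.mk (jr.left.imageι ≫ J.hom)) ⟶ J)) * (snd (Over.mk (jr.left.imageι ≫ J.hom)) (Over.mk (jr.left.imageι ≫ J.hom)) ≫ (Over.homMk jr.left.imageι rfl : (Over.mk (jr.left.imageι ≫ J.hom)) ⟶ J))⁻¹).left.base ⁻¹' Set.range ((fst (Over.mk (X ↘ Spec (CommRingCat.of k))) (Over.mk (X ↘ Spec (CommRingCat.of k))) ≫ j₁) * (snd (Over.mk (X ↘ Spec (CommRingCat.of k))) (Over.mk (X ↘ Spec (CommRingCat.of k))) ≫ j₁)⁻¹).left.base) ≤ ((r + 1 : ℕ) : WithBot ℕ∞) := by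
  have hX := K914.Curve.isSmoothProperCurve (X ↘ Spec (CommRingCat.of k)) hdim
  have hrd : SmoothOfRelativeDimension 1 (X ↘ Spec (CommRingCat.of k)) := Fga.JacAlg.smoothOfRelDim hX
  obtain ⟨ξ, h, hψ, hp, hgi⟩ := K532.Setup.exists_isJac Groth.Agent.Sga7.H780.JK.jk hdim σ hσ hJ
  have hAb : K532.Dict.IsAbel h j₁ := K532.Setup.isAbel h hψ hj₁
  obtain ⟨hqs, -, -⟩ := S2908.result _ _ hY.isQuot
  have hfp := K914.Pow.isProper_base (X ↘ Spec (CommRingCat.of k)) r
  obtain ⟨-, -, -, hft⟩ := S2909.result _ _ hY.isQuot _ gY hY.over (fun σ => SymProd.permHom_base _ _ _)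
  obtain ⟨hgY, hgY2⟩ := hft inferInstance inferInstance inferInstance
  have hqc : QuasiCompact jr.left := by
    have h1 : jr.left ≫ J.hom = gY := Over.w jr
    have h2 : CompactSpace (SymProd.fibPow (X ↘ Spec (CommRingCat.of k)) r) :=
      (quasiCompact_iff_compactSpace (WidePullback.base fun _ : Fin r => (X ↘ Spec (CommRingCat.of k)))).1 inferInstance
    have h3 : CompactSpace Y := by
      have := hqs.range_eq
      rw [← isCompact_univ_iff, ← this]
      exact isCompact_range q.continuous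
    have h4 : QuasiCompact (jr.left ≫ J.hom) := by
      rw [h1, quasiCompact_iff_compactSpace]
      exact h3
    exact QuasiCompact.of_comp jr.left J.hom
  let Q : Jac.powOver (X ↘ Spec (CommRingCat.of k)) r ⟶ Over.mk gY := Over.homMk q hY.over
  have hpw : IsProper (Jac.powOver (X ↘ Spec (CommRingCat.of k)) r).hom := hfp
  let S := K914.DiffAsm.toim Q jr
  have hS := K914.DiffAsm.surjective_tensor S (K914.DiffAsm.surjective_toim Q jr hqs)
  have hci : IsClosedImmersion (K914.DiffAsm.iim jr).left := inferInstanceAs (IsClosedImmersion jr.left.imageι)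
  have hi := K914.DiffAsm.trdegAt_tensor (K914.DiffAsm.iim jr)
  have hW : IsProper (K914.DiffAsm.Wim jr).hom := inferInstanceAs (IsProper (jr.left.imageι ≫ J.hom))
  have hcl : ∀ {K : Type u} [Field K] (t : Spec (CommRingCat.of K) ⟶ Spec (CommRingCat.of k))
      (x : Fin r → Fga.JacSum.Pt (X ↘ Spec (CommRingCat.of k)) (Over.mk t)),
      Sga7.H732.Abel.cls h (Over.mk t) ((K914.Points.ptsHom x ≫ S) ≫ K914.DiffAsm.iim jr) =
        K914.Dv.cl _ (Multiset.ofList (List.ofFn x)) *
          Fga.JacSum.gcl _ (Fga.JacSum.Pt.ofSection hσ (Over.mk t)) ^ r := by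
    intro K _ t x
    rw [Category.assoc, K914.DiffAsm.toim_iim]
    exact K914.DiffAsm.cls_jr hdim h hψ hjr t x
  obtain ⟨L, hL, hL1, hL2⟩ := hhyp
  obtain ⟨gk, hgk1, hgk2⟩ := K914.DiffAsm.exists_class k X hdim hL
  have h2 : 2 ≤ K914.HField.hK (X ↘ Spec (CommRingCat.of k)) (𝟙 _) 0 gk := by rw [← hgk2, hL2]
  have hd : K914.HField.dK (X ↘ Spec (CommRingCat.of k)) (𝟙 _) gk = 2 := by rw [← hgk1, hL1]
  have hr : (r : ℤ) + Picfga.ChiDef.chiK (X ↘ Spec (CommRingCat.of k)) (𝟙 (Spec (CommRingCat.of k))) 1 ≤ 0 := by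
    rw [K914.Curve.chiK_one k X, hg]
    omega
  have hXp : IsProper (K914.DiffUp.XO (X ↘ Spec (CommRingCat.of k))).hom :=
    inferInstanceAs (IsProper (X ↘ Spec (CommRingCat.of k)))
  have hdi := K914.DiffAsm.isProper_df (K914.DiffAsm.iim jr)
  have hdj := K914.DiffAsm.isProper_df (W := K914.DiffUp.XO (X ↘ Spec (CommRingCat.of k))) j₁
  have hclosed : IsClosed (Set.range (K914.DiffUp.df (W := K914.DiffUp.XO (X ↘ Spec (CommRingCat.of k))) j₁).left) :=
    (K914.DiffUp.df (W := K914.DiffUp.XO (X ↘ Spec (CommRingCat.of k))) j₁).left.isClosedMap.isClosed_range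
  have hWW : LocallyOfFiniteType (K914.DiffAsm.Wim jr ⊗ K914.DiffAsm.Wim jr).hom :=
    inferInstanceAs (LocallyOfFiniteType (pullback.fst (K914.DiffAsm.Wim jr).hom (K914.DiffAsm.Wim jr).hom ≫
      (K914.DiffAsm.Wim jr).hom))
  have hirr := K914.DiffAsm.irreducible_square (X ↘ Spec (CommRingCat.of k))
  have hid : IsClosed (K914.DiffMain.idSet J) := by
    have h1 : IsClosedImmersion (MonObj.one (X := J)).left := by
      have h2 : IsClosedImmersion ((MonObj.one (X := J)).left ≫ J.hom) := by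
        have h3 : (MonObj.one (X := J)).left ≫ J.hom = 𝟙 _ := Over.w (MonObj.one (X := J))
        rw [h3]
        infer_instance
      exact IsClosedImmersion.of_comp _ J.hom
    exact (MonObj.one (X := J)).left.isClosedEmbedding.isClosed_range
  refine ⟨fun z => ?_, ⟨(K914.DiffMain.idSet J)ᶜ, hid.isOpen_compl, ?_, fun z hz => ?_⟩, ?_⟩
  · exact K914.DiffMain.fiber_le (K914.DiffAsm.iim jr) hi S hS z
  · exact K914.DiffMain.subset_closure hid.isOpen_compl
      (K914.DiffMain.exists_ne h hAb (by omega))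
  · exact K914.DiffMain.fiber_eq (K914.DiffAsm.iim jr) hi S hS h hcl hAb gk h2 hd hr1 hr z hz.2 hz.1
  · exact K914.DiffMain.dim_preimage_le (K914.DiffAsm.iim jr) hi S hS h hcl hAb gk h2 hd hr1 hr
      (K914.DiffAsm.trdegAt_square_le _) hclosed

end Groth.Agent.S19201
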