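import Groth.Statements.S19206
import Groth.Agent.LocAlg.K539.LechAlg

set_option autoImplicit false
universe u
open Filter
open LocAlg

namespace Groth.Agent.S19206

/-- Let O be a Noetherian local ring of Krull dimension r which contains a field, with maximal ideal m,
and let I be an m-primary ideal (I ⊆ m and m^N ⊆ I for some N). Write e(I) for the Samuel
multiplicity of I, the limit of r!·length(O/I^n)/n^r, and e(O) for that of m. Then e(I) ≤
r!·e(O)·length(O/I); consequently the supremum of e(I)/(r!·length(O/I)) over such I is at most e(O).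
(Stated for real numbers e(I), e(O) equal to those limits; the hypothesis that O contains a field is
the standing equicharacteristic convention of the section and is not needed for the inequality.) -/
theorem result (O : Type u) [CommRing O] [IsNoetherianRing O] [IsLocalRing O]
    (K : Type u) [Field K] [Algebra K O] (r : ℕ) (hr : ringKrullDim O = r)
    (I : Ideal O) (hI : I ≤ IsLocalRing.maximalIdeal O) (hIN : ∃ N : ℕ, IsLocalRing.maximalIdeal O ^ N ≤ I)
    (eI eO : ℝ)
    (heI : Tendsto (fun n : ℕ => (r.factorial : ℝ) * ((Module.length O (O ⧸ I ^ n)).toNat : ℝ) / (n : ℝ) ^ r)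
      atTop (nhds eI))
    (heO : Tendsto (fun n : ℕ => (r.factorial : ℝ) *
        ((Module.length O (O ⧸ IsLocalRing.maximalIdeal O ^ n)).toNat : ℝ) / (n : ℝ) ^ r) atTop (nhds eO)) :
    eI ≤ (r.factorial : ℝ) * eO * ((Module.length O (O ⧸ I)).toNat : ℝ) := by
  classical
  -- generators of the maximal ideal
  obtain ⟨G, hG⟩ := (IsNoetherian.noetherian (IsLocalRing.maximalIdeal O) :
    (IsLocalRing.maximalIdeal O).FG)
  let y : Fin G.card → O := fun i => (G.equivFin.symm i : O)
  have hy : Ideal.span (Set.range y) = IsLocalRing.maximalIdeal O := by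
    rw [← hG]
    congr 1
    ext a
    constructor
    · rintro ⟨i, rfl⟩
      exact (G.equivFin.symm i).2
    · intro ha
      exact ⟨G.equivFin ⟨a, ha⟩, by simp [y]⟩
  obtain ⟨M, hM⟩ := hIN
  have hpow : ∀ n, IsLocalRing.maximalIdeal O ^ (M * n) ≤ I ^ n := fun n => by
    rw [pow_mul]
    exact Ideal.pow_right_mono hM n
  have h1 := K539.LechAlg.length_eq_ncard y hy I M hM
  have hIeq : ((Module.length O (O ⧸ I)).toNat : ℝ) = ((K539.LechAlg.P y I)ᶜ.ncard : ℝ) := by
    rw [h1.2, ENat.toNat_natCast]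
  rw [hIeq]
  refine K539.LechComb.core (K539.LechAlg.P y ⊥) (K539.LechAlg.P y I)
    (fun n => K539.LechAlg.P y (I ^ n)) (K539.LechAlg.isUpperSet_P y ⊥) h1.1
    (fun n => K539.LechAlg.P_mono y bot_le) (fun n δ hδ γ =>
      K539.LechAlg.isUpperSet_P y _ (fun i => Nat.le_add_right _ _)
        (K539.LechAlg.nsmul_mem_P y hδ n))
    (fun n => (Module.length O (O ⧸ IsLocalRing.maximalIdeal O ^ n)).toNat) ?_ r eI eO ?_ heO
  · intro n S hS
    obtain ⟨hfin, h2⟩ := K539.LechAlg.length_eq_ncard y hy (IsLocalRing.maximalIdeal O ^ n) n le_rfl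
    rw [h2, ENat.toNat_natCast, ← Set.ncard_coe_finset]
    refine Set.ncard_le_ncard ?_ hfin
    intro γ hγ h
    obtain ⟨h3, h4⟩ := hS γ hγ
    apply h4
    change K539.LechAlg.mon y γ ∈ ⊥ ⊔ K539.LechAlg.T y γ
    have h5 : K539.LechAlg.mon y γ ∈ IsLocalRing.maximalIdeal O ^ n ⊔ K539.LechAlg.T y γ := h
    rw [sup_eq_right.2 (K539.LechAlg.pow_le_T y hy h3)] at h5
    rwa [bot_sup_eq]
  · refine heI.congr fun n => ?_
    rw [(K539.LechAlg.length_eq_ncard y hy (I ^ n) (M * n) (hpow n)).2, ENat.toNat_natCast]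

end Groth.Agent.S19206
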