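import Groth.Statements.S19207
import Groth.Agent.LocAlg.K539.DoublePt2
import Groth.Agent.LocAlg.K539.Samuel

set_option autoImplicit false
universe u
open Filter
open LocAlg

namespace Groth.Agent.S19207

/-- Let k be a field and n ≥ 3, and let A = k[[x, y, t]]/(x^2 − y^n), the power-series ring in t over
the higher double point O = k[[x, y]]/(x^2 − y^n), a two-dimensional local ring. The ideal I = (x^2,
xy, y^2, xt, yt^2, t^4) of A has length(A/I) = 7 and Samuel multiplicity e(I) = 16, in the sense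
that 2·length(A/I^m)/m^2 tends to 16. Hence e(I)/(2!·length(A/I)) = 8/7, which gives the bound
e_1(O) ≥ 8/7 for the first flat multiplicity of a higher double point (the supremum of
e(I)/(2!·length(A/I)) over ideals of finite colength of A = O[[t]]). Here x, y, t are the
power-series variables indexed 0, 1, 2. -/
theorem result (k : Type u) [Field k] (n : ℕ) (hn : 3 ≤ n)
    (I : Ideal (MvPowerSeries (Fin 3) k ⧸ Ideal.span {(MvPowerSeries.X 0 ^ 2 - MvPowerSeries.X 1 ^ n : MvPowerSeries (Fin 3) k)}))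
    (hI : I = Ideal.map (Ideal.Quotient.mk (Ideal.span {(MvPowerSeries.X 0 ^ 2 - MvPowerSeries.X 1 ^ n : MvPowerSeries (Fin 3) k)}))
      (Ideal.span {(MvPowerSeries.X 0 ^ 2 : MvPowerSeries (Fin 3) k), MvPowerSeries.X 0 * MvPowerSeries.X 1,
        MvPowerSeries.X 1 ^ 2, MvPowerSeries.X 0 * MvPowerSeries.X 2,
        MvPowerSeries.X 1 * MvPowerSeries.X 2 ^ 2, MvPowerSeries.X 2 ^ 4})) :
    Module.length (MvPowerSeries (Fin 3) k ⧸ Ideal.span {(MvPowerSeries.X 0 ^ 2 - MvPowerSeries.X 1 ^ n : MvPowerSeries (Fin 3) k)}) ((MvPowerSeries (Fin 3) k ⧸ Ideal.span {(MvPowerSeries.X 0 ^ 2 - MvPowerSeries.X 1 ^ n : MvPowerSeries (Fin 3) k)}) ⧸ I) = 7 ∧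
      Tendsto (fun m : ℕ => (2 : ℝ) * ((Module.length (MvPowerSeries (Fin 3) k ⧸ Ideal.span {(MvPowerSeries.X 0 ^ 2 - MvPowerSeries.X 1 ^ n : MvPowerSeries (Fin 3) k)}) ((MvPowerSeries (Fin 3) k ⧸ Ideal.span {(MvPowerSeries.X 0 ^ 2 - MvPowerSeries.X 1 ^ n : MvPowerSeries (Fin 3) k)}) ⧸ I ^ m)).toNat : ℝ) / (m : ℝ) ^ 2)
        atTop (nhds 16) := by
  have hI' : I = (Ideal.span {(MvPowerSeries.X 0 ^ 2 : MvPowerSeries (Fin 3) k),
      MvPowerSeries.X 0 * MvPowerSeries.X 1, MvPowerSeries.X 1 ^ 2,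
      MvPowerSeries.X 0 * MvPowerSeries.X 2, MvPowerSeries.X 1 * MvPowerSeries.X 2 ^ 2,
      MvPowerSeries.X 2 ^ 4}).map (K539.DoublePt.q k n) := hI
  refine ⟨by rw [hI']; exact K539.DoublePt.length_seven k n (by omega), ?_⟩
  obtain ⟨hle, N, hN⟩ := K539.DoublePt.exists_reduction k n hn I hI'
  set J : Ideal (K539.DoublePt.Rn k n) := Ideal.span (Set.range (K539.DoublePt.par k n)) with hJ
  -- lengths of the powers of `J`
  have hq : CAlgX.IsQuasiRegular (K539.DoublePt.par k n) :=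
    Groth.Agent.Sga67.SymAlg.isQuasiRegular_of_isWeaklyRegular _
      (K539.DoublePt.weaklyRegular k n (by omega))
  have hlen : ∀ m : ℕ, Module.length (K539.DoublePt.Rn k n) (K539.DoublePt.Rn k n ⧸ J ^ m) =
      ((8 * (m * (m + 1)) : ℕ) : ℕ∞) := by
    intro m
    rcases m with _ | m
    · rw [K539.QRegLen.length_pow _ hq]
      simp
    · rw [K539.QRegLen.length_pow_succ _ hq, K539.DoublePt.length_par k n (by omega)]
      have h1 : (m + 2).choose 2 * 2 = (m + 2) * (m + 1) := by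
        have := Nat.triangle_succ (m + 1)
        rw [Nat.choose_two_right, show m + 2 - 1 = m + 1 by omega]
        exact Nat.div_mul_cancel (even_iff_two_dvd.1 (by
          have := Nat.even_mul_succ_self (m + 1)
          rwa [mul_comm]))
      have h2 : (m + 2).choose 2 * 16 = 8 * ((m + 1) * (m + 1 + 1)) := by
        calc (m + 2).choose 2 * 16 = ((m + 2).choose 2 * 2) * 8 := by ring
          _ = 8 * ((m + 1) * (m + 1 + 1)) := by rw [h1]; ring
      rw [← h2]
      push_cast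
      rfl
  have hfin : ∀ m : ℕ, Module.length (K539.DoublePt.Rn k n) (K539.DoublePt.Rn k n ⧸ J ^ m) ≠ ⊤ :=
    fun m => by rw [hlen]; exact ENat.coe_ne_top _
  have hup : ∀ m : ℕ, (Module.length (K539.DoublePt.Rn k n) (K539.DoublePt.Rn k n ⧸ I ^ m)).toNat ≤
      8 * (m * (m + 1)) := by
    intro m
    have h1 := ENat.toNat_le_toNat (Module.length_le_of_surjective (R := K539.DoublePt.Rn k n)
      (Submodule.factor (Ideal.pow_right_mono hle m))
      (Submodule.factor_surjective (Ideal.pow_right_mono hle m))) (hfin m)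
    rw [hlen, ENat.toNat_coe] at h1
    exact h1
  have hfinI : ∀ m : ℕ, Module.length (K539.DoublePt.Rn k n) (K539.DoublePt.Rn k n ⧸ I ^ m) ≠ ⊤ := by
    intro m h0
    have h1 := Module.length_le_of_surjective (R := K539.DoublePt.Rn k n)
      (Submodule.factor (Ideal.pow_right_mono hle m))
      (Submodule.factor_surjective (Ideal.pow_right_mono hle m))
    rw [h0, top_le_iff] at h1
    exact hfin m h1
  have hlow : ∀ m : ℕ, 8 * (m * (m + 1)) ≤
      (Module.length (K539.DoublePt.Rn k n) (K539.DoublePt.Rn k n ⧸ I ^ (m + N))).toNat := by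
    intro m
    have h0 : I ^ (m + N) ≤ J ^ m := by
      rw [add_comm, K539.IntDep.pow_add_eq hN]
      exact Ideal.mul_le_left
    have h1 := ENat.toNat_le_toNat (Module.length_le_of_surjective (R := K539.DoublePt.Rn k n)
      (Submodule.factor h0) (Submodule.factor_surjective h0)) (hfinI (m + N))
    rw [hlen, ENat.toNat_coe] at h1
    exact h1
  rw [← tendsto_add_atTop_iff_nat N]
  have t1 : Tendsto (fun m : ℕ => (16 : ℝ) * (((m : ℝ) / ((m + N : ℕ) : ℝ)) *
      ((m : ℝ) / ((m + N : ℕ) : ℝ)) + (m : ℝ) / ((m + N : ℕ) : ℝ) * (1 / ((m + N : ℕ) : ℝ))))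
      atTop (nhds (16 * (1 * 1 + 1 * 0))) := by
    have a1 := Groth.Agent.CycA.KoszulAsym.tendsto_div_add N
    have a2 : Tendsto (fun m : ℕ => 1 / ((m + N : ℕ) : ℝ)) atTop (nhds 0) :=
      (tendsto_const_div_atTop_nhds_zero_nat (1 : ℝ)).comp (tendsto_add_atTop_nat N)
    exact ((a1.mul a1).add (a1.mul a2)).const_mul _
  have t2 : Tendsto (fun m : ℕ => (16 : ℝ) * (1 + 1 / ((m + N : ℕ) : ℝ)))
      atTop (nhds (16 * (1 + 0))) := by
    have a2 : Tendsto (fun m : ℕ => 1 / ((m + N : ℕ) : ℝ)) atTop (nhds 0) :=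
      (tendsto_const_div_atTop_nhds_zero_nat (1 : ℝ)).comp (tendsto_add_atTop_nat N)
    exact (a2.const_add _).const_mul _
  norm_num at t1 t2
  refine tendsto_of_tendsto_of_tendsto_of_le_of_le' t1 t2 ?_ ?_
  · filter_upwards [eventually_ge_atTop 1] with m hm
    have hpos : (0 : ℝ) < ((m + N : ℕ) : ℝ) := by exact_mod_cast (by omega : 0 < m + N)
    have h1 : ((8 * (m * (m + 1)) : ℕ) : ℝ) ≤ ((Module.length (K539.DoublePt.Rn k n)
      (K539.DoublePt.Rn k n ⧸ I ^ (m + N))).toNat : ℝ) := by exact_mod_cast hlow m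
    push_cast at h1 hpos ⊢
    rw [le_div_iff₀ (by positivity)]
    have hne := hpos.ne'
    field_simp
    nlinarith
  · filter_upwards [eventually_ge_atTop 1] with m hm
    have hpos : (0 : ℝ) < ((m + N : ℕ) : ℝ) := by exact_mod_cast (by omega : 0 < m + N)
    have h1 : ((Module.length (K539.DoublePt.Rn k n)
      (K539.DoublePt.Rn k n ⧸ I ^ (m + N))).toNat : ℝ) ≤ ((8 * ((m + N) * ((m + N) + 1)) : ℕ) : ℝ) := by
      exact_mod_cast hup (m + N)
    push_cast at h1 hpos ⊢
    rw [div_le_iff₀ (by positivity)]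
    have hne := hpos.ne'
    field_simp
    nlinarith

end Groth.Agent.S19207
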