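import Groth.Statements.S19208
import Groth.Agent.LocAlg.K539.SamuelPos

set_option autoImplicit false
universe u
open Filter
open LocAlg

namespace Groth.Agent.S19208

/-- Let O be a Noetherian local ring of Krull dimension r containing a field, with maximal ideal m. The
zeroth flat multiplicity e_0(O), the supremum over m-primary ideals I of e(I)/(r!·length(O/I)) with
e(I) the Samuel multiplicity, is at least 1: for every ε > 0 there is an m-primary ideal I (I ⊆ m,
m^N ⊆ I for some N) whose multiplicity e(I), the limit of r!·length(O/I^n)/n^r, satisfies e(I) ≥ (1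
− ε)·r!·length(O/I). (The same statement for the power-series rings O[[t_1, …, t_k]] is the bound
e_k(O) ≥ 1 for the k-th flat multiplicity.) -/
theorem result (O : Type u) [CommRing O] [IsNoetherianRing O]
    [IsLocalRing O] (K : Type u) [Field K] [Algebra K O] (r : ℕ) (hr : ringKrullDim O = r)
    (ε : ℝ) (hε : 0 < ε) :
    ∃ (I : Ideal O) (e : ℝ), I ≤ IsLocalRing.maximalIdeal O ∧
      (∃ N : ℕ, IsLocalRing.maximalIdeal O ^ N ≤ I) ∧
      Tendsto (fun n : ℕ => (r.factorial : ℝ) * ((Module.length O (O ⧸ I ^ n)).toNat : ℝ) / (n : ℝ) ^ r)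
        atTop (nhds e) ∧
      (1 - ε) * ((r.factorial : ℝ) * ((Module.length O (O ⧸ I)).toNat : ℝ)) ≤ e := by
  classical
  set 𝔪 := IsLocalRing.maximalIdeal O with h𝔪
  have h𝔪b : ∃ b, 𝔪 ^ b ≤ 𝔪 := ⟨1, by rw [pow_one]⟩
  obtain ⟨P, hP, N, hPN⟩ := K539.Samuel.exists_polynomial_ring 𝔪 h𝔪b r hr.le
  have hlim : Tendsto (fun n : ℕ => ((Module.length O (O ⧸ 𝔪 ^ n)).toNat : ℝ) / (n : ℝ) ^ r) atTop
      (nhds ((P.coeff r : ℚ) : ℝ)) := by
    refine K539.Samuel.tendsto_ratPoly P r hP (N := N) fun n hn => ?_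
    rw [← hPN n hn]
    simp
  set c : ℝ := ((P.coeff r : ℚ) : ℝ) with hc
  have hcpos : 0 < c := by
    refine K539.Samuel.pos_of_tendsto 𝔪 h𝔪b le_rfl O r
      (by rw [Module.supportDim_self_eq_ringKrullDim, hr]) c ?_
    refine hlim.congr fun n => ?_
    rw [K539.Samuel.pow_smul_top]
  -- choose `n`
  have h1 : ∀ᶠ n : ℕ in atTop, (1 - ε) * (((Module.length O (O ⧸ 𝔪 ^ n)).toNat : ℝ) / (n : ℝ) ^ r) < c := by
    have h2 := hlim.const_mul (1 - ε)
    refine h2.eventually_lt_const ?_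
    nlinarith
  obtain ⟨n, hn, hn1⟩ := (h1.and (eventually_ge_atTop 1)).exists
  refine ⟨𝔪 ^ n, (r.factorial : ℝ) * (c * (n : ℝ) ^ r), Ideal.pow_le_self (by omega), ⟨n, le_rfl⟩, ?_, ?_⟩
  · have hsub : Tendsto (fun m : ℕ => n * m) atTop atTop := by
      refine tendsto_atTop_mono (fun m => ?_) tendsto_id
      simp only [id]
      nlinarith
    have h3 := (hlim.comp hsub).mul_const (((n : ℝ) ^ r))
    have h4 := h3.const_mul (r.factorial : ℝ)
    refine h4.congr' ?_
    filter_upwards [eventually_gt_atTop 0] with m hm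
    simp only [Function.comp_apply]
    rw [pow_mul]
    have hn0 : (n : ℝ) ≠ 0 := by positivity
    have hm0 : (m : ℝ) ≠ 0 := by positivity
    push_cast
    rw [mul_pow]
    field_simp
  · have hn0 : (0 : ℝ) < (n : ℝ) ^ r := by positivity
    have h5 : (1 - ε) * ((Module.length O (O ⧸ 𝔪 ^ n)).toNat : ℝ) ≤ c * (n : ℝ) ^ r := by
      rw [← mul_div_assoc, div_lt_iff₀ hn0] at hn
      exact hn.le
    have h6 : (0 : ℝ) ≤ (r.factorial : ℝ) := by positivity
    calc (1 - ε) * ((r.factorial : ℝ) * ((Module.length O (O ⧸ 𝔪 ^ n)).toNat : ℝ))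
        = (r.factorial : ℝ) * ((1 - ε) * ((Module.length O (O ⧸ 𝔪 ^ n)).toNat : ℝ)) := by ring
      _ ≤ (r.factorial : ℝ) * (c * (n : ℝ) ^ r) := mul_le_mul_of_nonneg_left h5 h6

end Groth.Agent.S19208
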