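import Groth.Statements.S19210
import Mathlib.Tactic
import Mathlib.Tactic.Positivity
import Mathlib.Tactic.Linarith
import Mathlib.Tactic.FieldSimp

set_option autoImplicit false
universe u
open LocAlg

namespace Groth.Agent.S19210

lemma pow_sub_lower (b : ℕ) (x : ℝ) (hx : 0 ≤ x) :
    ((b : ℝ) + 1) * x ^ b ≤ (x + 1) ^ (b + 1) - x ^ (b + 1) := by
  induction b with
  | zero => simp
  | succ b ih =>
    have h1 : (x + 1) ^ (b + 1 + 1) - x ^ (b + 1 + 1) =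
        x * ((x + 1) ^ (b + 1) - x ^ (b + 1)) + (x + 1) ^ (b + 1) := by ring
    have h2 : x ^ (b + 1) ≤ (x + 1) ^ (b + 1) := by gcongr; linarith
    have h3 := mul_le_mul_of_nonneg_left ih hx
    rw [h1]
    push_cast
    have h4 : x * (((b : ℝ) + 1) * x ^ b) = ((b : ℝ) + 1) * x ^ (b + 1) := by ring
    rw [h4] at h3
    linarith

lemma pow_sub_upper (b : ℕ) (x : ℝ) (hx : 0 ≤ x) :
    (x + 1) ^ (b + 1) - x ^ (b + 1) ≤ ((b : ℝ) + 1) * (x + 1) ^ b := by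
  induction b with
  | zero => simp
  | succ b ih =>
    have h1 : (x + 1) ^ (b + 1 + 1) - x ^ (b + 1 + 1) =
        (x + 1) * ((x + 1) ^ (b + 1) - x ^ (b + 1)) + x ^ (b + 1) := by ring
    have h2 : x ^ (b + 1) ≤ (x + 1) ^ (b + 1) := by gcongr; linarith
    have h3 := mul_le_mul_of_nonneg_left ih (by linarith : (0 : ℝ) ≤ x + 1)
    rw [h1]
    push_cast
    have h4 : (x + 1) * (((b : ℝ) + 1) * (x + 1) ^ b) = ((b : ℝ) + 1) * (x + 1) ^ (b + 1) := by ring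
    rw [h4] at h3
    linarith

lemma sum_pow_upper (b n : ℕ) :
    ((b : ℝ) + 1) * ∑ i ∈ Finset.range n, (i : ℝ) ^ b ≤ (n : ℝ) ^ (b + 1) := by
  induction n with
  | zero => simp
  | succ n ih =>
    rw [Finset.sum_range_succ, mul_add]
    have := pow_sub_lower b (n : ℝ) (Nat.cast_nonneg n)
    push_cast
    linarith

lemma sum_pow_lower (b n : ℕ) :
    (n : ℝ) ^ (b + 1) ≤ ((b : ℝ) + 1) * (∑ i ∈ Finset.range n, (i : ℝ) ^ b + (n : ℝ) ^ b) := by
  induction n with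
  | zero =>
    simp only [Nat.cast_zero, Finset.range_zero, Finset.sum_empty, zero_add]
    rw [pow_succ, mul_zero]
    positivity
  | succ n ih =>
    have := pow_sub_upper b (n : ℝ) (Nat.cast_nonneg n)
    rw [Finset.sum_range_succ]
    push_cast
    linarith

lemma base (b n : ℕ) :
    |(∑ i ∈ Finset.range n, (i : ℝ) ^ b) - (b.factorial : ℝ) / ((b + 1).factorial : ℝ) * (n : ℝ) ^ (b + 1)| ≤
      1 * (n : ℝ) ^ b := by
  have h1 := sum_pow_upper b n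
  have h2 := sum_pow_lower b n
  have hb : (0 : ℝ) < (b : ℝ) + 1 := by positivity
  have h3 : (b.factorial : ℝ) / ((b + 1).factorial : ℝ) * (n : ℝ) ^ (b + 1) = (n : ℝ) ^ (b + 1) / ((b : ℝ) + 1) := by
    rw [Nat.factorial_succ]
    push_cast
    have : (b.factorial : ℝ) ≠ 0 := by exact_mod_cast b.factorial_ne_zero
    field_simp
  rw [h3, abs_le]
  constructor
  · rw [neg_le_sub_iff_le_add, div_le_iff₀ hb]
    linarith
  · have h4 : ∑ i ∈ Finset.range n, (i : ℝ) ^ b ≤ (n : ℝ) ^ (b + 1) / ((b : ℝ) + 1) := by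
      rw [le_div_iff₀ hb]; linarith
    have h5 : (0 : ℝ) ≤ 1 * (n : ℝ) ^ b := by positivity
    linarith

lemma main (a : ℕ) : ∀ b : ℕ, ∃ C : ℝ, ∀ n : ℕ,
    |(∑ i ∈ Finset.range n, ((n : ℝ) - (i : ℝ)) ^ a * (i : ℝ) ^ b) -
      (a.factorial : ℝ) * (b.factorial : ℝ) / ((a + b + 1).factorial : ℝ) * (n : ℝ) ^ (a + b + 1)| ≤
        C * (n : ℝ) ^ (a + b) := by
  induction a with
  | zero =>
    intro b
    refine ⟨1, fun n => ?_⟩
    simpa using base b n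
  | succ a ih =>
    intro b
    obtain ⟨C₁, h₁⟩ := ih b
    obtain ⟨C₂, h₂⟩ := ih (b + 1)
    refine ⟨C₁ + C₂, fun n => ?_⟩
    have e1 : (∑ i ∈ Finset.range n, ((n : ℝ) - (i : ℝ)) ^ (a + 1) * (i : ℝ) ^ b) =
        (n : ℝ) * (∑ i ∈ Finset.range n, ((n : ℝ) - (i : ℝ)) ^ a * (i : ℝ) ^ b) -
          ∑ i ∈ Finset.range n, ((n : ℝ) - (i : ℝ)) ^ a * (i : ℝ) ^ (b + 1) := by
      rw [Finset.mul_sum, ← Finset.sum_sub_distrib]
      refine Finset.sum_congr rfl fun i _ => ?_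
      ring
    have e2 : ((a + 1).factorial : ℝ) * (b.factorial : ℝ) / ((a + 1 + b + 1).factorial : ℝ) =
        (a.factorial : ℝ) * (b.factorial : ℝ) / ((a + b + 1).factorial : ℝ) -
        (a.factorial : ℝ) * ((b + 1).factorial : ℝ) / ((a + (b + 1) + 1).factorial : ℝ) := by
      have k1 : a + 1 + b + 1 = (a + b + 1) + 1 := by omega
      have k2 : a + (b + 1) + 1 = (a + b + 1) + 1 := by omega
      rw [k1, k2, Nat.factorial_succ (a + b + 1), Nat.factorial_succ a, Nat.factorial_succ b]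
      push_cast
      have : ((a + b + 1).factorial : ℝ) ≠ 0 := by exact_mod_cast Nat.factorial_ne_zero _
      field_simp
      ring
    have h1 := h₁ n
    have h2 := h₂ n
    have k1 : a + 1 + b + 1 = a + (b + 1) + 1 := by omega
    have k2 : a + 1 + b = a + (b + 1) := by omega
    rw [e1, e2, k1, k2]
    have e3 : (n : ℝ) * (∑ i ∈ Finset.range n, ((n : ℝ) - (i : ℝ)) ^ a * (i : ℝ) ^ b) -
          ∑ i ∈ Finset.range n, ((n : ℝ) - (i : ℝ)) ^ a * (i : ℝ) ^ (b + 1) -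
        ((a.factorial : ℝ) * (b.factorial : ℝ) / ((a + b + 1).factorial : ℝ) -
        (a.factorial : ℝ) * ((b + 1).factorial : ℝ) / ((a + (b + 1) + 1).factorial : ℝ)) * (n : ℝ) ^ (a + (b + 1) + 1) =
        (n : ℝ) * ((∑ i ∈ Finset.range n, ((n : ℝ) - (i : ℝ)) ^ a * (i : ℝ) ^ b) -
      (a.factorial : ℝ) * (b.factorial : ℝ) / ((a + b + 1).factorial : ℝ) * (n : ℝ) ^ (a + b + 1)) -
      ((∑ i ∈ Finset.range n, ((n : ℝ) - (i : ℝ)) ^ a * (i : ℝ) ^ (b + 1)) -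
      (a.factorial : ℝ) * ((b + 1).factorial : ℝ) / ((a + (b + 1) + 1).factorial : ℝ) * (n : ℝ) ^ (a + (b + 1) + 1)) := by
      ring
    rw [e3]
    refine (abs_sub _ _).trans ?_
    rw [abs_mul, Nat.abs_cast]
    have h3 := mul_le_mul_of_nonneg_left h1 (Nat.cast_nonneg n : (0 : ℝ) ≤ n)
    have h4 : (n : ℝ) * (C₁ * (n : ℝ) ^ (a + b)) = C₁ * (n : ℝ) ^ (a + (b + 1)) := by ring
    rw [h4] at h3
    linarith

/-- For natural numbers j ≤ r, the sums Σ_{i=0}^{n−1} (n − i)^{r−j} i^j equal n^{r+1}·(r − j)!·j!/(r +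
1)! up to O(n^r): there is a real constant C with |Σ_{i<n} (n − i)^{r−j} i^j − ((r − j)!·j!/(r +
1)!)·n^{r+1}| ≤ C·n^r for all n ≥ 1. -/
theorem result (r j : ℕ) (hj : j ≤ r) :
    ∃ C : ℝ, ∀ n : ℕ, 1 ≤ n →
      |(∑ i ∈ Finset.range n, ((n : ℝ) - (i : ℝ)) ^ (r - j) * (i : ℝ) ^ j) -
          ((r - j).factorial : ℝ) * (j.factorial : ℝ) / ((r + 1).factorial : ℝ) * (n : ℝ) ^ (r + 1)| ≤
        C * (n : ℝ) ^ r := by
  obtain ⟨C, hC⟩ := main (r - j) j
  refine ⟨C, fun n _ => ?_⟩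
  have h := hC n
  have e1 : r - j + j = r := by omega
  rwa [e1] at h

end Groth.Agent.S19210
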