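import Groth.Statements.S19211
import Groth.Agent.Coh.K229.BlowEuler

set_option autoImplicit false
universe u
open CategoryTheory AlgebraicGeometry
open Coh

namespace Groth.Agent.S19211

/-- Let X be a scheme proper over a field k with dim X = r, L an invertible O_X-module and I a
quasi-coherent ideal sheaf on X. Then there are a polynomial P(n, m) with rational coefficients, of
total degree at most r, and an integer m₀ such that the Euler characteristic χ(X, L^{⊗n} ⊗ O_X/I^m)
equals P(n, m) for every m ≥ m₀ and every n ≥ 0; here O_X/I^m is the direct image on X of the
structure sheaf of the closed subscheme cut out by I^m. (The published statement is for a variety X,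
not necessarily complete, asking only that the support of O_X/I be proper over k, and reduces to the
complete case by compactifying X; it is stated here for X proper over any field, and X need not be
integral.) -/
theorem result (k : Type u) [Field k] (X : Scheme.{u})
    [X.Over (Spec (CommRingCat.of k))] [IsProper (X ↘ (Spec (CommRingCat.of k)))]
    (r : ℕ) (hdim : topologicalKrullDim X = r)
    (L : X.Modules) (hL : PicF.IsInvertible L) (I : X.IdealSheafData) :
    ∃ (P : MvPolynomial (Fin 2) ℚ) (m₀ : ℕ), P.totalDegree ≤ r ∧
      ∀ m : ℕ, m₀ ≤ m → ∀ n : ℕ,
        (Curv2.euler k X (CohB1.tensorMod (CohB1.tensorPow L n) ((Scheme.Modules.pushforward (I ^ m).subschemeι).obj (Coh.structureModule (I ^ m).subscheme))) : ℚ) =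
          MvPolynomial.eval ![(n : ℚ), (m : ℚ)] P := by
  exact K229.BlowEuler.exists_polynomial k hdim.le hL I

end Groth.Agent.S19211
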