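import Groth.Statements.S19212
import Groth.Agent.DiagIdeal.K984.Theta

set_option autoImplicit false
universe u v
open TensorProduct
open DiagIdeal

namespace Groth.Agent.S19212

/-- Let k be an algebraically closed field of characteristic zero and A a smooth k-algebra which is a
domain. Let the symmetric group on three letters permute the factors of A ⊗ A ⊗ A (it is generated
by the swap of the first two factors and the swap of the last two), let r : A ⊗ (A ⊗ A) → A ⊗ A be
the k-linear map a ⊗ b ⊗ c ↦ ab ⊗ c, and let D : A ⊗ A → Ω_{A/k} be the k-linear map a ⊗ b ↦ 2a·db −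
b·da. Then an element y of A ⊗ A satisfies D y = 0 if and only if y = r x for some x fixed by both
swaps, and D is surjective. (This is exactness at the last two places of the four-term right
resolution of the invariants of the ideal of the big diagonal on the symmetric cube of X = Spec A,
namely invariant functions on X³, then functions on X × X through restriction to a diagonal, then
one-forms on X; exactness at the first two places is immediate. The published statement is the sheaf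
version on the symmetric cube of a smooth complex variety of any dimension; an algebraically closed
field of characteristic zero is used here.) -/
theorem result (k : Type u) [Field k] [IsAlgClosed k] [CharZero k]
    (A : Type v) [CommRing A] [Algebra k A] [Algebra.Smooth k A] [IsDomain A]
    (r : A ⊗[k] (A ⊗[k] A) →ₗ[k] A ⊗[k] A)
    (hr : ∀ a b c : A, r (a ⊗ₜ[k] (b ⊗ₜ[k] c)) = (a * b) ⊗ₜ[k] c)
    (D : A ⊗[k] A →ₗ[k] Ω[A⁄k])
    (hD : ∀ a b : A, D (a ⊗ₜ[k] b) = (2 : A) • (a • KaehlerDifferential.D k A b) - b • KaehlerDifferential.D k A a) :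
    (∀ y : A ⊗[k] A, D y = 0 ↔ ∃ x : A ⊗[k] (A ⊗[k] A),
        TensorProduct.leftComm k A A A x = x ∧
        LinearMap.lTensor A (TensorProduct.comm k A A).toLinearMap x = x ∧ r x = y) ∧
    Function.Surjective D := by
  set s : A ⊗[k] (A ⊗[k] A) →ₗ[k] A ⊗[k] (A ⊗[k] A) := (TensorProduct.leftComm k A A A).toLinearMap
    with hs
  set t : A ⊗[k] (A ⊗[k] A) →ₗ[k] A ⊗[k] (A ⊗[k] A) :=
    LinearMap.lTensor A (TensorProduct.comm k A A).toLinearMap with ht
  have hs' : ∀ a b c : A, s (a ⊗ₜ[k] (b ⊗ₜ[k] c)) = b ⊗ₜ[k] (a ⊗ₜ[k] c) := fun a b c => by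
    simp [hs]
  have ht' : ∀ a b c : A, t (a ⊗ₜ[k] (b ⊗ₜ[k] c)) = a ⊗ₜ[k] (c ⊗ₜ[k] b) := fun a b c => by
    simp [ht]
  -- the submodule of restrictions of invariants
  let E : Submodule k (A ⊗[k] A) :=
    ((LinearMap.ker (s - LinearMap.id)) ⊓ (LinearMap.ker (t - LinearMap.id))).map r
  have hE : ∀ y, y ∈ E ↔ ∃ x : A ⊗[k] (A ⊗[k] A),
        TensorProduct.leftComm k A A A x = x ∧
        LinearMap.lTensor A (TensorProduct.comm k A A).toLinearMap x = x ∧ r x = y := by
    intro y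
    simp only [E, Submodule.mem_map, Submodule.mem_inf, LinearMap.mem_ker, LinearMap.sub_apply,
      LinearMap.id_apply, sub_eq_zero, and_assoc]
    rfl
  have h2 : (2 : k) ≠ 0 := two_ne_zero
  have h3 : (3 : k) ≠ 0 := by exact_mod_cast (by norm_num : (3 : ℕ) ≠ 0)
  -- the relations
  have hrel : ∀ a b c : A, (a * b) ⊗ₜ[k] c + (a * c) ⊗ₜ[k] b + (b * c) ⊗ₜ[k] a ∈ E := by
    intro a b c
    have hx : (2 : k) • ((a * b) ⊗ₜ[k] c + (a * c) ⊗ₜ[k] b + (b * c) ⊗ₜ[k] a) ∈ E := by
      refine ⟨a ⊗ₜ[k] (b ⊗ₜ[k] c) + a ⊗ₜ[k] (c ⊗ₜ[k] b) + b ⊗ₜ[k] (a ⊗ₜ[k] c) +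
        b ⊗ₜ[k] (c ⊗ₜ[k] a) + c ⊗ₜ[k] (a ⊗ₜ[k] b) + c ⊗ₜ[k] (b ⊗ₜ[k] a), ⟨?_, ?_⟩, ?_⟩
      · simp only [SetLike.mem_coe, LinearMap.mem_ker, LinearMap.sub_apply, map_add, hs',
          LinearMap.id_apply]
        abel
      · simp only [SetLike.mem_coe, LinearMap.mem_ker, LinearMap.sub_apply, map_add, ht',
          LinearMap.id_apply]
        abel
      · simp only [map_add, hr, two_smul, mul_comm b a, mul_comm c a, mul_comm c b]
        abel
    exact (Submodule.smul_mem_iff _ h2).1 hx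
  have hrel2 : ∀ a b : A, (a * b) ⊗ₜ[k] (1 : A) + a ⊗ₜ[k] b + b ⊗ₜ[k] a ∈ E := by
    intro a b
    simpa using hrel a b 1
  have hrel1 : ∀ a : A, a ⊗ₜ[k] (1 : A) + a ⊗ₜ[k] (1 : A) + (1 : A) ⊗ₜ[k] a ∈ E := by
    intro a
    simpa using hrel2 a 1
  let τ : A ⊗[k] A →ₗ[k] A ⊗[k] A := (TensorProduct.comm k A A).toLinearMap
  have hτ : ∀ a b : A, τ (a ⊗ₜ[k] b) = b ⊗ₜ[k] a := fun a b => by simp [τ]
  have hττ : ∀ y, τ (τ y) = y := fun y => by simp [τ]
  let Φ : A ⊗[k] A →ₗ[k] A ⊗[k] A := (2 : k) • LinearMap.id + τ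
  let T : A ⊗[k] A →ₗ[k] A ⊗[k] A := (2 : k) • LinearMap.id - τ
  have hΦT : ∀ y, Φ (T y) = (3 : k) • y := by
    intro y
    simp only [Φ, T, LinearMap.add_apply, LinearMap.sub_apply, LinearMap.smul_apply,
      LinearMap.id_apply, map_sub, map_smul, hττ]
    module
  have hθT : ∀ y, (KaehlerDifferential.D k A).tensorProductTo (T y) = D y := by
    intro y
    induction y using TensorProduct.induction_on with
    | zero => simp
    | tmul a b =>
      simp only [T, LinearMap.sub_apply, LinearMap.smul_apply, LinearMap.id_apply, hτ, map_sub, hD,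
        Derivation.tensorProductTo_tmul]
      congr 1
      rw [two_smul, map_add, two_smul, Derivation.tensorProductTo_tmul]
    | add x y hx hy => rw [map_add, map_add, map_add, hx, hy]
  have hΦ1 : ∀ a : A, Φ (a ⊗ₜ[k] (1 : A)) ∈ E := by
    intro a
    have := hrel1 a
    simpa [Φ, hτ, two_smul] using this
  have hΦI : ∀ x ∈ (KaehlerDifferential.ideal k A) ^ 2, Φ x ∈ E := by
    refine K984.Theta.sq_induction (by simp) (fun x y hx hy => by rw [map_add]; exact add_mem hx hy)
      ?_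
    intro a b c
    have e1 : (a ⊗ₜ[k] (1 : A)) * ((1 : A) ⊗ₜ[k] b - b ⊗ₜ[k] (1 : A)) *
      ((1 : A) ⊗ₜ[k] c - c ⊗ₜ[k] (1 : A)) = a ⊗ₜ[k] (b * c) - (a * c) ⊗ₜ[k] b - (a * b) ⊗ₜ[k] c +
        (a * b * c) ⊗ₜ[k] (1 : A) := by
      simp only [mul_sub, sub_mul, Algebra.TensorProduct.tmul_mul_tmul, mul_one, one_mul]
      abel
    have e2 : Φ ((a ⊗ₜ[k] (1 : A)) * ((1 : A) ⊗ₜ[k] b - b ⊗ₜ[k] (1 : A)) *
      ((1 : A) ⊗ₜ[k] c - c ⊗ₜ[k] (1 : A))) =
        (2 : k) • ((a * (b * c)) ⊗ₜ[k] (1 : A) + a ⊗ₜ[k] (b * c) + (b * c) ⊗ₜ[k] a)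
        - (((a * b) * c) ⊗ₜ[k] (1 : A) + (a * b) ⊗ₜ[k] c + c ⊗ₜ[k] (a * b))
        - (((a * c) * b) ⊗ₜ[k] (1 : A) + (a * c) ⊗ₜ[k] b + b ⊗ₜ[k] (a * c))
        - ((a * b) ⊗ₜ[k] c + (a * c) ⊗ₜ[k] b + (b * c) ⊗ₜ[k] a)
        + ((a * b * c) ⊗ₜ[k] (1 : A) + (a * b * c) ⊗ₜ[k] (1 : A) + (1 : A) ⊗ₜ[k] (a * b * c)) := by
      rw [e1]
      simp only [Φ, LinearMap.add_apply, LinearMap.smul_apply, LinearMap.id_apply, map_add,
        map_sub, hτ, two_smul]
      rw [show a * c * b = a * b * c by ring, show a * (b * c) = a * b * c by ring]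
      abel
    rw [e2]
    exact add_mem (sub_mem (sub_mem (sub_mem (E.smul_mem _ (hrel2 _ _)) (hrel2 _ _)) (hrel2 _ _))
      (hrel _ _ _)) (hrel1 _)
  refine ⟨fun y => ⟨fun hy => ?_, ?_⟩, ?_⟩
  · rw [← hE]
    have h := K984.Theta.sub_mem_sq (T y) (by rw [hθT, hy])
    have h' : (3 : k) • y ∈ E := by
      rw [← hΦT]
      have := add_mem (hΦI _ h) (hΦ1 (Algebra.TensorProduct.lmul' k (T y)))
      rwa [← map_add, sub_add_cancel] at this
    exact (Submodule.smul_mem_iff _ h3).1 h'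
  · rintro ⟨x, hx1, hx2, rfl⟩
    have hx1' : s x = x := hx1
    have hx2' : t x = x := hx2
    have hsym : ∀ x, D (r (x + s x + t x + s (t x) + t (s x) + s (t (s x)))) = 0 := by
      intro x
      induction x using TensorProduct.induction_on with
      | zero => simp
      | tmul a y =>
        induction y using TensorProduct.induction_on with
        | zero => simp
        | tmul b c =>
          simp only [hs', ht', map_add, hr, hD, Derivation.leibniz]
          module
        | add y z hy hz =>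
          simp only [TensorProduct.tmul_add, map_add] at hy hz ⊢
          rw [← add_zero (0 : Ω[A⁄k])]
          nth_rewrite 1 [← hy]
          rw [← hz]
          abel
      | add y z hy hz =>
        simp only [map_add] at hy hz ⊢
        rw [← add_zero (0 : Ω[A⁄k])]
        nth_rewrite 1 [← hy]
        rw [← hz]
        abel
    have h6 := hsym x
    simp only [hx1', hx2'] at h6
    have h7 : (6 : k) • D (r x) = 0 := by
      rw [← h6]
      simp only [map_add]
      rw [show (6 : k) = 1 + 1 + 1 + 1 + 1 + 1 by norm_num]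
      simp only [add_smul, one_smul]
    exact (smul_eq_zero.1 h7).resolve_left (by norm_num)
  · intro ω
    obtain ⟨z, hz⟩ := KaehlerDifferential.tensorProductTo_surjective k A ω
    refine ⟨(3 : k)⁻¹ • Φ z, ?_⟩
    rw [← hθT]
    have hTΦ : T (Φ z) = (3 : k) • z := by
      simp only [Φ, T, LinearMap.add_apply, LinearMap.sub_apply, LinearMap.smul_apply,
        LinearMap.id_apply, map_add, map_smul, hττ]
      module
    rw [map_smul, hTΦ, smul_smul, inv_mul_cancel₀ h3, one_smul, hz]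

end Groth.Agent.S19212
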