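import Groth.Statements.S19213
import Groth.Agent.DiagIdeal.K984.Theta

set_option autoImplicit false
universe u v
open TensorProduct
open DiagIdeal

namespace Groth.Agent.S19213

/-- Let k be an algebraically closed field of characteristic zero and A a smooth k-algebra which is a
domain. Let r₁₂, r₂₃ : A ⊗ (A ⊗ A) → A ⊗ A be the k-linear maps a ⊗ u ⊗ v ↦ au ⊗ v and a ⊗ u ⊗ v ↦
uv ⊗ a (restriction to the diagonal of factors 1, 2, resp. 2, 3, the repeated coordinate written
first), let m : A ⊗ A → A be multiplication, and let ψ : (A ⊗ A) × (A ⊗ A) → Ω_{A/k} be the k-linear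
map with ψ(a ⊗ u, b ⊗ v) = 2a·du − v·db. Then for p, q in A ⊗ A with m p = m q one has ψ(p, q) = 0
if and only if (p, q) = (r₁₂ x, r₂₃ x) for some x fixed by the swap of the last two tensor factors;
and every element of Ω_{A/k} is ψ(p, q) for some pair with m p = m q. (This is exactness at the last
two places of the right resolution, on the symmetric cube of X = Spec A, of the invariants of the
ideal of the big diagonal under the transposition of the last two factors; exactness at the first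
two places is immediate. The published statement is the sheaf version for a smooth complex variety
of any dimension; an algebraically closed field of characteristic zero is used here.) -/
theorem result (k : Type u) [Field k] [IsAlgClosed k] [CharZero k]
    (A : Type v) [CommRing A] [Algebra k A] [Algebra.Smooth k A] [IsDomain A]
    (r₁₂ r₂₃ : A ⊗[k] (A ⊗[k] A) →ₗ[k] A ⊗[k] A)
    (h₁₂ : ∀ a u v : A, r₁₂ (a ⊗ₜ[k] (u ⊗ₜ[k] v)) = (a * u) ⊗ₜ[k] v)
    (h₂₃ : ∀ a u v : A, r₂₃ (a ⊗ₜ[k] (u ⊗ₜ[k] v)) = (u * v) ⊗ₜ[k] a)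
    (ψ : (A ⊗[k] A) × (A ⊗[k] A) →ₗ[k] Ω[A⁄k])
    (hψ : ∀ a u b v : A, ψ (a ⊗ₜ[k] u, b ⊗ₜ[k] v) =
      (2 : A) • (a • KaehlerDifferential.D k A u) - v • KaehlerDifferential.D k A b) :
    (∀ p q : A ⊗[k] A, LinearMap.mul' k A p = LinearMap.mul' k A q →
      (ψ (p, q) = 0 ↔ ∃ x : A ⊗[k] (A ⊗[k] A),
        LinearMap.lTensor A (TensorProduct.comm k A A).toLinearMap x = x ∧ r₁₂ x = p ∧ r₂₃ x = q)) ∧
    (∀ ω : Ω[A⁄k], ∃ p q : A ⊗[k] A, LinearMap.mul' k A p = LinearMap.mul' k A q ∧ ψ (p, q) = ω) := by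
  set t : A ⊗[k] (A ⊗[k] A) →ₗ[k] A ⊗[k] (A ⊗[k] A) :=
    LinearMap.lTensor A (TensorProduct.comm k A A).toLinearMap with ht
  have ht' : ∀ a b c : A, t (a ⊗ₜ[k] (b ⊗ₜ[k] c)) = a ⊗ₜ[k] (c ⊗ₜ[k] b) := fun a b c => by
    simp [ht]
  have h2 : (2 : k) ≠ 0 := two_ne_zero
  let θ : A ⊗[k] A →ₗ[k] Ω[A⁄k] :=
    (KaehlerDifferential.D k A).tensorProductTo.restrictScalars k
  have hθ : ∀ a b, θ (a ⊗ₜ[k] b) = a • KaehlerDifferential.D k A b := fun a b => rfl
  have hψ1 : ψ ∘ₗ LinearMap.inl k _ _ = (2 : k) • θ := by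
    apply TensorProduct.ext'
    intro a u
    have := hψ a u 0 0
    simp only [TensorProduct.tmul_zero, zero_smul, sub_zero] at this
    rw [LinearMap.comp_apply, LinearMap.inl_apply, this, LinearMap.smul_apply, hθ,
      ← algebraMap_smul A (2 : k), map_ofNat]
  have hψ1' : ∀ p : A ⊗[k] A, ψ (p, 0) = (2 : k) • θ p := fun p => by
    have := LinearMap.congr_fun hψ1 p
    simpa using this
  let F : Submodule k ((A ⊗[k] A) × (A ⊗[k] A)) :=
    (LinearMap.ker (t - LinearMap.id)).map (r₁₂.prod r₂₃)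
  have hF : ∀ p q, (p, q) ∈ F ↔ ∃ x : A ⊗[k] (A ⊗[k] A),
        LinearMap.lTensor A (TensorProduct.comm k A A).toLinearMap x = x ∧ r₁₂ x = p ∧ r₂₃ x = q := by
    intro p q
    simp only [F, Submodule.mem_map, LinearMap.mem_ker, LinearMap.sub_apply,
      LinearMap.id_apply, sub_eq_zero, LinearMap.prod_apply, ht]
    constructor
    · rintro ⟨x, hx, h⟩
      exact ⟨x, hx, congrArg Prod.fst h, congrArg Prod.snd h⟩
    · rintro ⟨x, hx, h, h'⟩
      exact ⟨x, hx, Prod.ext h h'⟩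
  -- every element of F is killed by ψ and satisfies m p = m q
  have hk1 : (ψ ∘ₗ (r₁₂.prod r₂₃)) ∘ₗ (LinearMap.id + t) = 0 := by
    apply TensorProduct.ext
    apply LinearMap.ext
    intro a
    apply TensorProduct.ext'
    intro b c
    change ψ (r₁₂ ((a ⊗ₜ[k] (b ⊗ₜ[k] c)) + t (a ⊗ₜ[k] (b ⊗ₜ[k] c))),
      r₂₃ ((a ⊗ₜ[k] (b ⊗ₜ[k] c)) + t (a ⊗ₜ[k] (b ⊗ₜ[k] c)))) = 0
    rw [ht', map_add, map_add, h₁₂, h₁₂, h₂₃, h₂₃, ← Prod.mk_add_mk, map_add, hψ, hψ]
    simp only [Derivation.leibniz]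
    module
  have hk2 : (LinearMap.mul' k A ∘ₗ (r₁₂ - r₂₃)) ∘ₗ (LinearMap.id + t) = 0 := by
    apply TensorProduct.ext
    apply LinearMap.ext
    intro a
    apply TensorProduct.ext'
    intro b c
    change LinearMap.mul' k A ((r₁₂ - r₂₃) ((a ⊗ₜ[k] (b ⊗ₜ[k] c)) + t (a ⊗ₜ[k] (b ⊗ₜ[k] c)))) = 0
    rw [ht', LinearMap.sub_apply, map_add, map_add, h₁₂, h₁₂, h₂₃, h₂₃, map_sub, map_add, map_add]
    simp only [LinearMap.mul'_apply]
    ring
  have hkill : ∀ x, t x = x → ψ (r₁₂ x, r₂₃ x) = 0 ∧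
      LinearMap.mul' k A (r₁₂ x) = LinearMap.mul' k A (r₂₃ x) := by
    intro x hx
    have e1 := LinearMap.congr_fun hk1 x
    have e2 := LinearMap.congr_fun hk2 x
    have e : (LinearMap.id + t : _ →ₗ[k] _) x = (2 : k) • x := by
      rw [LinearMap.add_apply, hx, LinearMap.id_apply, two_smul]
    rw [LinearMap.comp_apply, e, map_smul, LinearMap.zero_apply] at e1 e2
    refine ⟨(smul_eq_zero.1 e1).resolve_left h2, ?_⟩
    have := (smul_eq_zero.1 e2).resolve_left h2
    rw [LinearMap.comp_apply, LinearMap.sub_apply, map_sub, sub_eq_zero] at this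
    exact this
  -- elements (f, 0) with f in I^2 are in F
  have hsq : ∀ f ∈ (KaehlerDifferential.ideal k A) ^ 2, (f, 0) ∈ F := by
    refine K984.Theta.sq_induction (p := fun f => (f, 0) ∈ F) (zero_mem F) ?_ ?_
    · intro x y hx hy
      have : ((x + y, 0) : (A ⊗[k] A) × (A ⊗[k] A)) = (x, 0) + (y, 0) := by simp
      rw [this]
      exact add_mem hx hy
    · intro a b c
      rw [hF]
      -- `a₁ (b₃ - b₂) (c₃ - c₂)`
      refine ⟨a ⊗ₜ[k] ((1 : A) ⊗ₜ[k] (b * c)) - a ⊗ₜ[k] (b ⊗ₜ[k] c) - a ⊗ₜ[k] (c ⊗ₜ[k] b)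
        + a ⊗ₜ[k] ((b * c) ⊗ₜ[k] (1 : A)), ?_, ?_, ?_⟩
      · change t _ = _
        simp only [map_add, map_sub, ht']
        abel
      · simp only [map_add, map_sub, h₁₂, mul_sub, sub_mul, Algebra.TensorProduct.tmul_mul_tmul,
          mul_one, one_mul, mul_assoc]
        abel
      · simp only [map_add, map_sub, h₂₃, mul_comm c b, mul_one, one_mul]
        abel
  -- reduce to q = 0
  have hq : ∀ q : A ⊗[k] A, ∃ p, (p, q) ∈ F := by
    intro q
    induction q using TensorProduct.induction_on with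
    | zero => exact ⟨0, zero_mem _⟩
    | tmul b v =>
      refine ⟨(2 : k)⁻¹ • ((v * b) ⊗ₜ[k] (1 : A) + v ⊗ₜ[k] b), ?_⟩
      rw [hF]
      refine ⟨(2 : k)⁻¹ • (v ⊗ₜ[k] (b ⊗ₜ[k] (1 : A)) + v ⊗ₜ[k] ((1 : A) ⊗ₜ[k] b)), ?_, ?_, ?_⟩
      · change t _ = _
        simp only [map_add, map_smul, ht']
        congr 1
        abel
      · simp only [map_add, map_smul, h₁₂, mul_one]
      · simp only [map_add, map_smul, h₂₃, mul_one, one_mul]
        rw [← two_smul k, smul_smul, inv_mul_cancel₀ h2, one_smul]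
    | add x y hx hy =>
      obtain ⟨p, hp⟩ := hx
      obtain ⟨p', hp'⟩ := hy
      exact ⟨p + p', add_mem hp hp'⟩
  have hm : ∀ f : A ⊗[k] A, LinearMap.mul' k A f = Algebra.TensorProduct.lmul' k f := by
    intro f
    have : LinearMap.mul' k A = (Algebra.TensorProduct.lmul' k : A ⊗[k] A →ₐ[k] A).toLinearMap := by
      apply TensorProduct.ext'
      intro x y
      simp
    rw [this]
    rfl
  constructor
  · intro p q hpq
    rw [← hF]
    constructor
    · intro h
      obtain ⟨p', hp'⟩ := hq q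
      have hF' : ∀ z ∈ F, ψ z = 0 ∧ LinearMap.mul' k A z.1 = LinearMap.mul' k A z.2 := by
        rintro ⟨z, w⟩ hz
        obtain ⟨x, hx, rfl, rfl⟩ := (hF z w).1 hz
        exact hkill x hx
      have e : (p, q) = (p - p', 0) + (p', q) := by simp
      have h0 : (p - p', (0 : A ⊗[k] A)) ∈ F := by
        apply hsq
        apply K984.Theta.mem_sq_of_mem
        · change Algebra.TensorProduct.lmul' k (p - p') = 0
          rw [← hm, map_sub, hpq, (hF' _ hp').2, sub_self]
        · have h1 : ψ (p - p', 0) = 0 := by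
            have := h
            rw [e, map_add, (hF' _ hp').1, add_zero] at this
            exact this
          rw [hψ1'] at h1
          exact (smul_eq_zero.1 h1).resolve_left h2
      rw [e]
      exact add_mem h0 hp'
    · intro h
      obtain ⟨x, hx, rfl, rfl⟩ := (hF p q).1 h
      exact (hkill x hx).1
  · intro ω
    obtain ⟨z, hz⟩ := KaehlerDifferential.tensorProductTo_surjective k A ω
    refine ⟨(2 : k)⁻¹ • (z - (Algebra.TensorProduct.lmul' k z) ⊗ₜ[k] (1 : A)), 0, ?_, ?_⟩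
    · rw [map_smul, hm, map_zero]
      have h0 : Algebra.TensorProduct.lmul' k (z - (Algebra.TensorProduct.lmul' k z) ⊗ₜ[k] (1 : A)) = 0 :=
        K984.Theta.sub_mem z
      rw [h0, smul_zero]
    · rw [hψ1', map_smul, smul_smul, mul_inv_cancel₀ h2, one_smul, map_sub, hθ,
        Derivation.map_one_eq_zero, smul_zero, sub_zero]
      exact hz

end Groth.Agent.S19213
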