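import Groth.Statements.S19215
import Groth.Agent.DiagIdeal.K984.InvMain

set_option autoImplicit false
universe u v
open TensorProduct
open DiagIdeal

namespace Groth.Agent.S19215

/-- n = 4, affine form: let k be an algebraically closed field of characteristic zero and A a smooth
k-algebra which is a domain of Krull dimension at most 2. In the fourfold tensor power of A over k,
indexed by Fin 4, let I_{ij} be the ideal generated by the elements a_i − a_j (a ∈ A put in factor
i, resp. j, and 1 elsewhere). Then every element fixed by all permutations of the four factors and
lying in all six ideals I_{ij} lies in their product: on the fourth symmetric power of Spec A the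
invariants of the product of the six diagonal ideals and of their intersection coincide. (The
published statement is the sheaf version for a smooth complex variety of any dimension; the
published proof of the case of four points is written out for curves and surfaces, so dimension at
most 2 is assumed here, and a field of characteristic zero is used.) -/
theorem result (k : Type u) [Field k] [IsAlgClosed k] [CharZero k]
    (A : Type v) [CommRing A] [Algebra k A] [Algebra.Smooth k A] [IsDomain A]
    (hdim : ringKrullDim A ≤ 2)
    (x : ⨂[k] _ : Fin 4, A)
    (hx : ∀ σ : Equiv.Perm (Fin 4), PiTensorProduct.reindex k (fun _ : Fin 4 => A) σ x = x)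
    (hmem : ∀ p : Fin 4 × Fin 4, p.1 < p.2 → x ∈ Ideal.span (Set.range fun a : A =>
        PiTensorProduct.singleAlgHom (R := k) (A := fun _ : Fin 4 => A) p.1 a -
        PiTensorProduct.singleAlgHom (R := k) (A := fun _ : Fin 4 => A) p.2 a)) :
    x ∈ ∏ p ∈ Finset.univ.filter (fun p : Fin 4 × Fin 4 => p.1 < p.2), Ideal.span (Set.range fun a : A =>
        PiTensorProduct.singleAlgHom (R := k) (A := fun _ : Fin 4 => A) p.1 a -
        PiTensorProduct.singleAlgHom (R := k) (A := fun _ : Fin 4 => A) p.2 a) := by
  exact K984.InvMain.mem_prod_of_invariant K984.PolyDiag.small_four x hx hmem

end Groth.Agent.S19215
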