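import Groth.Statements.S19216
import Mathlib.Tactic.LinearCombination

set_option autoImplicit false
universe u
open SymRep

namespace Groth.Agent.S19216

/-- Let k be a field of characteristic zero and r, s ≥ 1. Realise the standard representation of the
symmetric group on a finite set T as the hyperplane of functions T → k with sum zero, the group
acting by precomposition with the inverse. Then the standard representation of the symmetric group
of Fin r ⊕ Fin s, restricted to the subgroup S_r × S_s, is isomorphic to the direct sum of the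
standard representations of S_r and of S_s and of a one-dimensional trivial representation: there is
a k-linear map E from functions on Fin r ⊕ Fin s to triples (function on Fin r, function on Fin s,
scalar), compatible with the actions of S_r × S_s (trivial on the scalar), which maps the sum-zero
hyperplane bijectively onto the product of the two sum-zero hyperplanes and k. (The published
statement is over the complex numbers; a field of characteristic zero is used here. The published
statement also gives the analogous decomposition for any number of blocks, which follows by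
induction; only the two-block case is stated here.) -/
theorem result (k : Type u) [Field k] [CharZero k]
    (r s : ℕ) (hr : 1 ≤ r) (hs : 1 ≤ s) :
    ∃ E : (Fin r ⊕ Fin s → k) →ₗ[k] (Fin r → k) × (Fin s → k) × k,
      (∀ (σ : Equiv.Perm (Fin r)) (τ : Equiv.Perm (Fin s)) (f : Fin r ⊕ Fin s → k),
        E (f ∘ ⇑(Equiv.sumCongr σ τ).symm) = ((E f).1 ∘ ⇑σ.symm, (E f).2.1 ∘ ⇑τ.symm, (E f).2.2)) ∧
      Set.BijOn E {f | ∑ i, f i = 0}
        ({g : Fin r → k | ∑ i, g i = 0} ×ˢ ({h : Fin s → k | ∑ i, h i = 0} ×ˢ Set.univ)) := by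
  have hr0 : (r : k) ≠ 0 := Nat.cast_ne_zero.2 (by omega)
  have hs0 : (s : k) ≠ 0 := Nat.cast_ne_zero.2 (by omega)
  let S1 : (Fin r ⊕ Fin s → k) →ₗ[k] k := ∑ i : Fin r, LinearMap.proj (Sum.inl i)
  let S2 : (Fin r ⊕ Fin s → k) →ₗ[k] k := ∑ i : Fin s, LinearMap.proj (Sum.inr i)
  have hS1 : ∀ f, S1 f = ∑ i, f (Sum.inl i) := fun f => by simp [S1]
  have hS2 : ∀ f, S2 f = ∑ i, f (Sum.inr i) := fun f => by simp [S2]
  let E1 : (Fin r ⊕ Fin s → k) →ₗ[k] (Fin r → k) :=
    LinearMap.pi fun i => LinearMap.proj (Sum.inl i) - (r : k)⁻¹ • S1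
  let E2 : (Fin r ⊕ Fin s → k) →ₗ[k] (Fin s → k) :=
    LinearMap.pi fun i => LinearMap.proj (Sum.inr i) - (s : k)⁻¹ • S2
  have hE1 : ∀ f i, E1 f i = f (Sum.inl i) - (r : k)⁻¹ * ∑ j, f (Sum.inl j) := fun f i => by
    simp [E1, hS1]
  have hE2 : ∀ f i, E2 f i = f (Sum.inr i) - (s : k)⁻¹ * ∑ j, f (Sum.inr j) := fun f i => by
    simp [E2, hS2]
  refine ⟨E1.prod (E2.prod S1), ?_, ?_⟩
  · intro σ τ f
    have h1 : ∀ i, (f ∘ ⇑(Equiv.sumCongr σ τ).symm) (Sum.inl i) = f (Sum.inl (σ.symm i)) := fun i => rfl
    have h2 : ∀ i, (f ∘ ⇑(Equiv.sumCongr σ τ).symm) (Sum.inr i) = f (Sum.inr (τ.symm i)) := fun i => rfl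
    have h3 : ∑ i, f (Sum.inl (σ.symm i)) = ∑ i, f (Sum.inl i) :=
      Equiv.sum_comp σ.symm (fun i => f (Sum.inl i))
    have h4 : ∑ i, f (Sum.inr (τ.symm i)) = ∑ i, f (Sum.inr i) :=
      Equiv.sum_comp τ.symm (fun i => f (Sum.inr i))
    refine Prod.ext ?_ (Prod.ext ?_ ?_)
    · funext i
      show E1 _ i = E1 f (σ.symm i)
      rw [hE1, hE1]
      simp only [h1, h3]
    · funext i
      show E2 _ i = E2 f (τ.symm i)
      rw [hE2, hE2]
      simp only [h2, h4]
    · show S1 _ = S1 f
      rw [hS1, hS1]
      simp only [h1, h3]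
  · refine ⟨?_, ?_, ?_⟩
    · intro f _
      refine ⟨?_, ?_, trivial⟩
      · show ∑ i, E1 f i = 0
        simp only [hE1, Finset.sum_sub_distrib, Finset.sum_const, Finset.card_univ, Fintype.card_fin,
          nsmul_eq_mul]
        rw [← mul_assoc, mul_inv_cancel₀ hr0, one_mul, sub_self]
      · show ∑ i, E2 f i = 0
        simp only [hE2, Finset.sum_sub_distrib, Finset.sum_const, Finset.card_univ, Fintype.card_fin,
          nsmul_eq_mul]
        rw [← mul_assoc, mul_inv_cancel₀ hs0, one_mul, sub_self]
    · intro f hf g hg hfg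
      have hf' : ∑ i, f i = 0 := hf
      have hg' : ∑ i, g i = 0 := hg
      rw [Fintype.sum_sum_type] at hf' hg'
      have h1 : ∀ i, E1 f i = E1 g i := fun i => congrFun (congrArg Prod.fst hfg) i
      have h2 : ∀ i, E2 f i = E2 g i := fun i => congrFun (congrArg (fun x => x.2.1) hfg) i
      have h3 : S1 f = S1 g := congrArg (fun x => x.2.2) hfg
      rw [hS1, hS1] at h3
      have h4 : ∑ i, f (Sum.inr i) = ∑ i, g (Sum.inr i) := by
        linear_combination hf' - hg' - h3
      funext i
      rcases i with i | i
      · have := h1 i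
        rw [hE1, hE1, h3] at this
        exact sub_left_injective this
      · have := h2 i
        rw [hE2, hE2, h4] at this
        exact sub_left_injective this
    · rintro ⟨g, h, t⟩ ⟨hg, hh, -⟩
      have hg' : ∑ i, g i = 0 := hg
      have hh' : ∑ i, h i = 0 := hh
      have h1 : ∑ i, (g i + (r : k)⁻¹ * t) = t := by
        simp only [Finset.sum_add_distrib, Finset.sum_const, Finset.card_univ, Fintype.card_fin,
          nsmul_eq_mul]
        rw [hg', zero_add, ← mul_assoc, mul_inv_cancel₀ hr0, one_mul]
      have h2 : ∑ i, (h i - (s : k)⁻¹ * t) = -t := by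
        simp only [Finset.sum_sub_distrib, Finset.sum_const, Finset.card_univ, Fintype.card_fin,
          nsmul_eq_mul]
        rw [hh', zero_sub, ← mul_assoc, mul_inv_cancel₀ hs0, one_mul]
      refine ⟨Sum.elim (fun i => g i + (r : k)⁻¹ * t) (fun i => h i - (s : k)⁻¹ * t), ?_, ?_⟩
      · show ∑ i, _ = (0 : k)
        rw [Fintype.sum_sum_type]
        simp only [Sum.elim_inl, Sum.elim_inr]
        rw [h1, h2, add_neg_cancel]
      · refine Prod.ext ?_ (Prod.ext ?_ ?_)
        · funext i
          show E1 _ i = g i
          rw [hE1]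
          simp only [Sum.elim_inl, h1]
          ring
        · funext i
          show E2 _ i = h i
          rw [hE2]
          simp only [Sum.elim_inr, h2]
          ring
        · show S1 _ = t
          rw [hS1]
          simp only [Sum.elim_inl, h1]

end Groth.Agent.S19216
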