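import Groth.Statements.S19217
import Groth.Agent.DiagIdeal.K984.DepthMain

set_option autoImplicit false
universe u
open TensorProduct CategoryTheory CategoryTheory.Limits
open DiagIdeal

namespace Groth.Agent.S19217

/-- Let k be an algebraically closed field of characteristic zero and A a smooth k-algebra which is a
domain of Krull dimension 2 (an affine piece of a smooth surface). In the n-fold tensor power R of A
over k, indexed by Fin n, let I_p (p = (i, j), i < j) be the ideal generated by the a_i − a_j, a ∈
A, the ideal of the diagonal of factors i and j; let M be the intersection of the powers I_p ^ ℓ(p)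
over all p with i < j, for arbitrary exponents ℓ; and let 𝔞 be the intersection, over all pairs of
distinct index pairs p ≠ q, of I_p + I_q (an ideal cutting out the locus W where two distinct
pairwise diagonals meet, of codimension 4). Then the local cohomology modules of M with support in 𝔞
vanish in degrees 0 and 1; equivalently M, as a sheaf on Spec R, coincides with the direct image of
its restriction to the complement of W. (The source states this for the product of copies of a
smooth quasi-projective complex surface, as the equality of the direct image from the complement of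
W of the restricted product of the powers of the diagonal ideals with the intersection of those
powers; the two sheaves agree away from W, where the diagonals are pairwise disjoint.) -/
theorem result (k : Type u) [Field k] [IsAlgClosed k] [CharZero k]
    (A : Type u) [CommRing A] [Algebra k A] [Algebra.Smooth k A] [IsDomain A]
    (hdim : ringKrullDim A = 2) (n : ℕ) (ℓ : Fin n × Fin n → ℕ)
    (I : Fin n × Fin n → Ideal (⨂[k] _ : Fin n, A))
    (hI : ∀ p, I p = Ideal.span (Set.range fun a : A =>
        PiTensorProduct.singleAlgHom (R := k) (A := fun _ : Fin n => A) p.1 a -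
        PiTensorProduct.singleAlgHom (R := k) (A := fun _ : Fin n => A) p.2 a))
    (𝔞 : Ideal (⨂[k] _ : Fin n, A))
    (h𝔞 : 𝔞 = ⨅ pq ∈ Finset.univ.filter (fun pq : (Fin n × Fin n) × (Fin n × Fin n) =>
        pq.1.1 < pq.1.2 ∧ pq.2.1 < pq.2.2 ∧ pq.1 ≠ pq.2), I pq.1 ⊔ I pq.2)
    (M : Submodule (⨂[k] _ : Fin n, A) (⨂[k] _ : Fin n, A))
    (hM : M = ⨅ p ∈ Finset.univ.filter (fun p : Fin n × Fin n => p.1 < p.2), (I p) ^ (ℓ p)) :
    IsZero ((localCohomology 𝔞 0).obj (ModuleCat.of (⨂[k] _ : Fin n, A) M)) ∧
    IsZero ((localCohomology 𝔞 1).obj (ModuleCat.of (⨂[k] _ : Fin n, A) M)) := by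
  have hI' : I = fun p => K984.Loc.diag k A p.1 p.2 := funext fun p => by rw [hI]; rfl
  subst hI'
  have h𝔞' : 𝔞 = K984.DepthMain.aa k A n := h𝔞
  have hM' : M = K984.DepthMain.MM k A ℓ := hM
  subst h𝔞' hM'
  have hd : 0 < K984.Chart.dim k A := by
    apply K984.DimPos.dim_pos
    rw [hdim]
    norm_num
  haveI : IsNoetherianRing (⨂[k] _ : Fin n, A) := K984.DimPos.isNoetherianRing n
  have h := K984.DepthMain.depth_ge hd ℓ
  constructor
  · have h0 := Groth.Agent.Localalg.DepthLC.subsingleton_H_of_lt_idealDepth
      (K984.DepthMain.aa k A n) (K984.DepthMain.MM k A ℓ) 0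
      (lt_of_lt_of_le (by norm_num) h)
    exact ModuleCat.isZero_of_subsingleton _
  · have h1 := Groth.Agent.Localalg.DepthLC.subsingleton_H_of_lt_idealDepth
      (K984.DepthMain.aa k A n) (K984.DepthMain.MM k A ℓ) 1
      (lt_of_lt_of_le (by norm_num) h)
    exact ModuleCat.isZero_of_subsingleton _

end Groth.Agent.S19217
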