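import Groth.Statements.S19220
import Groth.Agent.DiagIdeal.K984.PartC

set_option autoImplicit false
universe u v
open TensorProduct
open DiagIdeal

namespace Groth.Agent.S19220

/-- Let k be an algebraically closed field of characteristic zero and A a smooth k-algebra which is a
domain of Krull dimension at most 2; write Ω for Ω_{A/k}, d for its derivation, I ⊂ A ⊗ A for the
diagonal ideal (kernel of multiplication) and θ : A ⊗ A → Ω for the k-linear map x ⊗ y ↦ x·dy, which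
on I is the conormal map d_Δ : I → I/I² = Ω. Consider: r : A⊗A⊗A⊗A → A⊗A⊗A, a⊗b⊗c⊗d ↦ ab⊗c⊗d; δ :
A⊗A⊗A → A⊗A, a⊗u⊗v ↦ a⊗uv − uv⊗a; D : A⊗A⊗A → Ω ⊗_k A, a⊗u⊗v ↦ (2a·du − u·da)⊗v + (2a·dv − v·da)⊗u;
the action act of A ⊗ A on Ω ⊗_k A factor by factor; μ : Ω ⊗_k I → Ω ⊗_k A, w ⊗ f ↦ f·(w ⊗ 1), whose
image is the module of sections of Ω_X ⊠ I_Δ on X × X; Λ : Ω ⊗_k I → ⋀Ω, w ⊗ f ↦ w ∧ θf; and any
k-linear C : Ω ⊗_k I → Ω ⊗_A Ω ⊗_A Ω that vanishes on every u with μ u = D y for some y fixed by the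
swap of the last two factors and killed by δ, and satisfies C(w ⊗ fg) = sym(w ⊗ θf ⊗ θg) for f, g ∈
I (sym = sum over the six permutations). Write T₁ for the elements of A⊗A⊗A fixed by the swap of the
last two factors and killed by δ. Then: (1) for y ∈ T₁, D y = 0 if and only if y = r x with x fixed
by all permutations of the four factors; (2) for y ∈ T₁ there is u with Λ u = 0 and μ u = D y; (3)
if Λ u = 0 and C u = 0 then μ u = D y for some y ∈ T₁; (4) every 3-tensor of one-forms fixed by the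
permutations of its factors is C u for some u with Λ u = 0. (This is the exactness, at the last
three places, of the natural four-term right resolution of the S₄-invariants of the ideal of the big
diagonal on the symmetric fourth power of X = Spec A — invariant functions on X⁴, then the kernel of
δ inside functions on X × S²X, then the kernel of Λ inside one-forms on the tripled point times the
diagonal ideal, then symmetric cubic forms — written through the surjection μ; the last map of the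
source is determined only up to a nonzero constant, which does not change kernels and images. The
published statement is for a smooth complex variety of any dimension, its published proof being
written out for dimension at most 2, which is assumed here.) -/
theorem result (k : Type u) [Field k] [IsAlgClosed k] [CharZero k]
    (A : Type v) [CommRing A] [Algebra k A] [Algebra.Smooth k A] [IsDomain A] (hdim : ringKrullDim A ≤ 2)
    (r : A ⊗[k] (A ⊗[k] (A ⊗[k] A)) →ₗ[k] A ⊗[k] (A ⊗[k] A))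
    (hr : ∀ a b c e : A, r (a ⊗ₜ[k] (b ⊗ₜ[k] (c ⊗ₜ[k] e))) = (a * b) ⊗ₜ[k] (c ⊗ₜ[k] e))
    (δ : A ⊗[k] (A ⊗[k] A) →ₗ[k] A ⊗[k] A)
    (hδ : ∀ a u w : A, δ (a ⊗ₜ[k] (u ⊗ₜ[k] w)) = a ⊗ₜ[k] (u * w) - (u * w) ⊗ₜ[k] a)
    (D : A ⊗[k] (A ⊗[k] A) →ₗ[k] Ω[A⁄k] ⊗[k] A)
    (hD : ∀ a u w : A, D (a ⊗ₜ[k] (u ⊗ₜ[k] w)) =
      ((2 : A) • (a • KaehlerDifferential.D k A u) - u • KaehlerDifferential.D k A a) ⊗ₜ[k] w +
      ((2 : A) • (a • KaehlerDifferential.D k A w) - w • KaehlerDifferential.D k A a) ⊗ₜ[k] u)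
    (act : A ⊗[k] A →ₗ[k] (Ω[A⁄k] ⊗[k] A) →ₗ[k] (Ω[A⁄k] ⊗[k] A))
    (hact : ∀ (x y b : A) (w : Ω[A⁄k]), act (x ⊗ₜ[k] y) (w ⊗ₜ[k] b) = (x • w) ⊗ₜ[k] (y * b))
    (θ : A ⊗[k] A →ₗ[k] Ω[A⁄k]) (hθ : ∀ x y : A, θ (x ⊗ₜ[k] y) = x • KaehlerDifferential.D k A y)
    (μ : Ω[A⁄k] ⊗[k] ↥(KaehlerDifferential.ideal k A) →ₗ[k] Ω[A⁄k] ⊗[k] A)
    (hμ : ∀ (w : Ω[A⁄k]) (f : ↥(KaehlerDifferential.ideal k A)), μ (w ⊗ₜ[k] f) = act (f : A ⊗[k] A) (w ⊗ₜ[k] (1 : A)))
    (Λ : Ω[A⁄k] ⊗[k] ↥(KaehlerDifferential.ideal k A) →ₗ[k] ExteriorAlgebra A (Ω[A⁄k]))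
    (hΛ : ∀ (w : Ω[A⁄k]) (f : ↥(KaehlerDifferential.ideal k A)),
      Λ (w ⊗ₜ[k] f) = ExteriorAlgebra.ι A w * ExteriorAlgebra.ι A (θ (f : A ⊗[k] A)))
    (sym : Ω[A⁄k] ⊗[A] (Ω[A⁄k] ⊗[A] Ω[A⁄k]) →ₗ[A] Ω[A⁄k] ⊗[A] (Ω[A⁄k] ⊗[A] Ω[A⁄k]))
    (hsym : ∀ a b c : Ω[A⁄k], sym (a ⊗ₜ[A] (b ⊗ₜ[A] c)) =
      a ⊗ₜ[A] (b ⊗ₜ[A] c) + a ⊗ₜ[A] (c ⊗ₜ[A] b) + b ⊗ₜ[A] (a ⊗ₜ[A] c) +
      b ⊗ₜ[A] (c ⊗ₜ[A] a) + c ⊗ₜ[A] (a ⊗ₜ[A] b) + c ⊗ₜ[A] (b ⊗ₜ[A] a))
    (C : Ω[A⁄k] ⊗[k] ↥(KaehlerDifferential.ideal k A) →ₗ[k] Ω[A⁄k] ⊗[A] (Ω[A⁄k] ⊗[A] Ω[A⁄k]))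
    (hC₁ : ∀ u y, LinearMap.lTensor A (TensorProduct.comm k A A).toLinearMap y = y → δ y = 0 →
      μ u = D y → C u = 0)
    (hC₂ : ∀ (w : Ω[A⁄k]) (f g h : ↥(KaehlerDifferential.ideal k A)), (h : A ⊗[k] A) = (f : A ⊗[k] A) * (g : A ⊗[k] A) →
      C (w ⊗ₜ[k] h) = sym (θ (f : A ⊗[k] A) ⊗ₜ[A] (θ (g : A ⊗[k] A) ⊗ₜ[A] w))) :
    (∀ y : A ⊗[k] (A ⊗[k] A), LinearMap.lTensor A (TensorProduct.comm k A A).toLinearMap y = y → δ y = 0 →
      (D y = 0 ↔ ∃ x : A ⊗[k] (A ⊗[k] (A ⊗[k] A)),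
        TensorProduct.leftComm k A A (A ⊗[k] A) x = x ∧
        LinearMap.lTensor A (TensorProduct.leftComm k A A A).toLinearMap x = x ∧
        LinearMap.lTensor A (LinearMap.lTensor A (TensorProduct.comm k A A).toLinearMap) x = x ∧ r x = y)) ∧
    (∀ y : A ⊗[k] (A ⊗[k] A), LinearMap.lTensor A (TensorProduct.comm k A A).toLinearMap y = y → δ y = 0 →
      ∃ u, Λ u = 0 ∧ μ u = D y) ∧
    (∀ u, Λ u = 0 → C u = 0 → ∃ y : A ⊗[k] (A ⊗[k] A),
      LinearMap.lTensor A (TensorProduct.comm k A A).toLinearMap y = y ∧ δ y = 0 ∧ μ u = D y) ∧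
    (∀ τ : Ω[A⁄k] ⊗[A] (Ω[A⁄k] ⊗[A] Ω[A⁄k]),
      TensorProduct.leftComm A (Ω[A⁄k]) (Ω[A⁄k]) (Ω[A⁄k]) τ = τ →
      LinearMap.lTensor (Ω[A⁄k]) (TensorProduct.comm A (Ω[A⁄k]) (Ω[A⁄k])).toLinearMap τ = τ →
      ∃ u, Λ u = 0 ∧ C u = τ) := by
  have hθ' : θ = K984.Op.θ k A := by
    apply TensorProduct.ext'
    intro x y
    rw [hθ, K984.Op.θ_tmul]
  subst hθ'
  have hact' : ∀ (x : A ⊗[k] A) (m : Ω[A⁄k] ⊗[k] A), act x m = x • (show K984.Op.MM k A from m) := by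
    intro x m
    induction x using TensorProduct.induction_on with
    | zero => rw [map_zero, LinearMap.zero_apply, zero_smul]; rfl
    | add x y hx hy => rw [map_add, LinearMap.add_apply, hx, hy, add_smul]; rfl
    | tmul x y =>
      induction m using TensorProduct.induction_on with
      | zero =>
        rw [map_zero]
        exact (smul_zero (x ⊗ₜ[k] y) : (x ⊗ₜ[k] y) • (0 : K984.Op.MM k A) = 0).symm
      | add m n hm hn =>
        rw [map_add, hm, hn]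
        exact (smul_add (x ⊗ₜ[k] y) (show K984.Op.MM k A from m) (show K984.Op.MM k A from n)).symm
      | tmul w b => rw [hact]; exact (K984.Op.smul_tm x y w b).symm
  have hD' : ∀ y : A ⊗[k] (A ⊗[k] A), D y = K984.Op.E k A (y + K984.Tri.sw k A y) := by
    intro y
    refine K984.Tri.tri_induction
      (P := fun y => D y = K984.Op.E k A (y + K984.Tri.sw k A y)) (by simp; rfl) ?_ ?_ y
    · intro x y hx hy
      rw [map_add (K984.Tri.sw k A), add_add_add_comm, map_add (K984.Op.E k A), map_add, hx, hy]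
      rfl
    · intro a u w
      rw [← K984.Tri.tmul_eq, hD, K984.Tri.sw_tmul, map_add, K984.Op.E_tmul, K984.Op.E_tmul,
        K984.Op.E2_tmul, K984.Op.E2_tmul]
      have h2 : ∀ v : Ω[A⁄k], (2 : k) • v = (2 : A) • v := fun v => by rw [two_smul, two_smul]
      rw [h2, h2]
      rfl
  have hδ' : ∀ y : A ⊗[k] (A ⊗[k] A), δ y = K984.Part2.δ₀ y := by
    intro y
    refine K984.Tri.tri_induction (P := fun y => δ y = K984.Part2.δ₀ y) ?_ ?_ ?_ y
    · rw [K984.Part2.δ₀]; simp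
    · intro x y hx hy
      rw [map_add, hx, hy, K984.Part2.δ₀, K984.Part2.δ₀, K984.Part2.δ₀, map_add, map_add]
      abel
    · intro a u w
      rw [← K984.Tri.tmul_eq, hδ, K984.Part2.δ₀, K984.Tri.rQR_tmul, TensorProduct.comm_tmul]
  have hT : ∀ y : A ⊗[k] (A ⊗[k] A),
      LinearMap.lTensor A (TensorProduct.comm k A A).toLinearMap y = y → δ y = 0 →
      K984.Part2.T1 y := fun y h1 h2 =>
    ⟨(K984.Tri.sw_eq y).trans h1, by rw [← hδ', h2]⟩
  have hT' : ∀ y : A ⊗[k] (A ⊗[k] A), K984.Part2.T1 y →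
      LinearMap.lTensor A (TensorProduct.comm k A A).toLinearMap y = y ∧ δ y = 0 := fun y h =>
    ⟨(K984.Tri.sw_eq y).symm.trans h.1, by rw [hδ', h.2]⟩
  have hDT : ∀ y : A ⊗[k] (A ⊗[k] A), K984.Part2.T1 y →
      D y = (2 : k) • (show Ω[A⁄k] ⊗[k] A from K984.Op.E k A y) := by
    intro y hy
    rw [hD', hy.1, map_add, two_smul]
    rfl
  have hr' : ∀ x, r x = K984.Four.r k A x := by
    intro x
    refine K984.Four.four_induction (P := fun x => r x = K984.Four.r k A x) (by simp) ?_ ?_ x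
    · intro x y hx hy
      rw [map_add, map_add, hx, hy]
    · intro a b c e
      rw [hr, K984.Four.r_tmul]
  have hμ' : ∀ (w : Ω[A⁄k]) (f : ↥(KaehlerDifferential.ideal k A)),
      (show Ω[A⁄k] ⊗[k] ↥(KaehlerDifferential.ideal k A) →ₗ[k] K984.Op.MM k A from μ) (w ⊗ₜ[k] f) =
        (f : A ⊗[k] A) • K984.Op.tm k A w 1 := fun w f => by
    change μ (w ⊗ₜ[k] f) = _
    rw [hμ, hact']
    rfl
  have h2 : IsUnit (2 : k) := isUnit_iff_ne_zero.2 (by norm_num)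
  have h6 : IsUnit (6 : k) := isUnit_iff_ne_zero.2 (by norm_num)
  have h24 : (24 : k) ≠ 0 := by norm_num
  refine ⟨?_, ?_, ?_, ?_⟩
  · intro y hy1 hy2
    have hy := hT y hy1 hy2
    constructor
    · intro hDy
      rw [hDT y hy] at hDy
      have hE : K984.Op.E k A y = 0 := (smul_eq_zero_iff_right (by norm_num : (2 : k) ≠ 0)).1 hDy
      obtain ⟨F, hF⟩ := K984.PartC.main y hy hE
      refine ⟨(2 : k)⁻¹ • K984.Four.Sym F, ?_, ?_, ?_, ?_⟩
      · rw [map_smul]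
        congr 1
        exact K984.Four.t1_Sym F
      · rw [map_smul]
        congr 1
        exact K984.Four.t2_Sym F
      · rw [map_smul]
        congr 1
        exact K984.Four.t3_Sym F
      · rw [map_smul, hr', K984.Four.r_Sym, hF, two_mul, ← two_smul k, smul_smul,
          inv_mul_cancel₀ (by norm_num), one_smul]
    · rintro ⟨x, hx1, hx2, hx3, rfl⟩
      have hSym := K984.Four.Sym_eq x hx1 hx2 hx3
      have h := K984.Four.r_Sym x
      rw [hSym, map_nsmul, ← hr'] at h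
      have hE : K984.Op.E k A ((24 : ℕ) • r x) = 0 := by
        rw [h, two_mul, map_add, K984.PartA.E_SE, add_zero]
      rw [map_nsmul, ← Nat.cast_smul_eq_nsmul k] at hE
      have hE' := (smul_eq_zero_iff_right (by norm_num : ((24 : ℕ) : k) ≠ 0)).1 hE
      rw [hDT _ hy, hE']
      exact (smul_zero (2 : k) : (2 : k) • (0 : Ω[A⁄k] ⊗[k] A) = 0)
  · intro y hy1 hy2
    have hy := hT y hy1 hy2
    refine ⟨(2 : k) • K984.Part2.U k A y, ?_, ?_⟩
    · rw [map_smul, K984.Part2.Λ_U_eq_zero Λ hΛ h2 y hy, smul_zero]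
    · rw [map_smul, hDT y hy]
      congr 1
      exact K984.Part2.μ_U_eq (k := k) (A := A) μ hμ' h2 y hy
  · intro u hu hCu
    obtain ⟨y, hy, hy'⟩ := K984.Part3.main (k := k) (A := A) μ hμ' Λ hΛ sym hsym C hC₂
      (by
        intro u y hy huy
        have hy2 : K984.Part2.T1 ((2 : k)⁻¹ • y) := (K984.Rels.T1s k A).smul_mem _ hy
        refine hC₁ u ((2 : k)⁻¹ • y) (hT' _ hy2).1 (hT' _ hy2).2 ?_
        rw [hDT _ hy2]
        change μ u = _
        refine (show μ u = _ from huy).trans ?_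
        change K984.Op.E k A y = (2 : k) • K984.Op.E k A ((2 : k)⁻¹ • y)
        rw [map_smul, smul_smul, mul_inv_cancel₀ (by norm_num), one_smul]) u hu hCu
    have hy2 : K984.Part2.T1 ((2 : k)⁻¹ • y) := (K984.Rels.T1s k A).smul_mem _ hy
    refine ⟨(2 : k)⁻¹ • y, (hT' _ hy2).1, (hT' _ hy2).2, ?_⟩
    rw [hDT _ hy2]
    refine (show μ u = _ from hy').trans ?_
    change K984.Op.E k A y = (2 : k) • K984.Op.E k A ((2 : k)⁻¹ • y)
    rw [map_smul, smul_smul, mul_inv_cancel₀ (by norm_num), one_smul]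
  · intro τ h1 h2
    exact K984.Part4.main Λ hΛ sym hsym C hC₂ h6 τ h1 h2

end Groth.Agent.S19220
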