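import Groth.Statements.S19221
import Groth.Agent.SymRep.K985.Reynolds

set_option autoImplicit false
universe u
open SymRep

namespace Groth.Agent.S19221

/-- Let k be a field of characteristic zero and F the k-space of functions Fin 2 → Fin 4 → Fin 4 → k,
with the symmetric group of Fin 4 acting through P σ f c a b = f c (σ⁻¹ a) (σ⁻¹ b). The signed edge
vectors of the complete graph on four vertices live in F as the functions antisymmetric in the two
vertex arguments, and for a colour c and an oriented 3-cycle i → j → l → i the cycle vector z c i j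
l is the function equal, in colour c, to +1 at (i,j), (j,l), (l,i), to −1 at (j,i), (l,j), (i,l) and
to 0 elsewhere (and 0 in the other colour); these cycle vectors span k² ⊗ (cycle space), the
representation written C² ⊗ q in the published text. Let Γ be the graph with edges 01, 02, 03, 12,
23 (a 4-cycle with one chord), whose cycle space is spanned by the cycles (0,1,2) and (0,2,3), and
let ω be the product in the exterior algebra of F of the four vectors z 0 0 1 2, z 1 0 1 2, z 0 0 2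
3, z 1 0 2 3 (a generator of the top exterior power of k² ⊗ q_Γ). Then ω is fixed by the stabiliser
of Γ in the symmetric group (generated by the transpositions (0 2) and (1 3)), and the sum over all
24 permutations σ of the images of ω under the maps induced by P σ is nonzero: the projection of ω
to the invariants of the fourth exterior power of k² ⊗ q_{K₄} does not vanish. (The published
statement is over the complex numbers; a field of characteristic zero is used here. The published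
statement also asserts that this map is an isomorphism onto the one-dimensional space of
S₄-invariants of the fourth exterior power of k² ⊗ q_{K₄}; only its non-vanishing is stated here.) -/
theorem result (k : Type u) [Field k] [CharZero k]
    (P : Equiv.Perm (Fin 4) → ((Fin 2 → Fin 4 → Fin 4 → k) →ₗ[k] (Fin 2 → Fin 4 → Fin 4 → k)))
    (hP : ∀ (σ : Equiv.Perm (Fin 4)) (f : Fin 2 → Fin 4 → Fin 4 → k) (c : Fin 2) (a b : Fin 4),
      P σ f c a b = f c (σ.symm a) (σ.symm b))
    (z : Fin 2 → Fin 4 → Fin 4 → Fin 4 → (Fin 2 → Fin 4 → Fin 4 → k))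
    (hz : ∀ (c : Fin 2) (i j l : Fin 4) (c' : Fin 2) (a b : Fin 4), z c i j l c' a b =
      if c' = c then
        ((if a = i ∧ b = j then 1 else 0) + (if a = j ∧ b = l then 1 else 0) + (if a = l ∧ b = i then 1 else 0)
          - (if a = j ∧ b = i then 1 else 0) - (if a = l ∧ b = j then 1 else 0) - (if a = i ∧ b = l then 1 else 0))
      else 0)
    (ω : ExteriorAlgebra k (Fin 2 → Fin 4 → Fin 4 → k))
    (hω : ω = ExteriorAlgebra.ι k (z 0 0 1 2) * ExteriorAlgebra.ι k (z 1 0 1 2) *
      ExteriorAlgebra.ι k (z 0 0 2 3) * ExteriorAlgebra.ι k (z 1 0 2 3)) :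
    ExteriorAlgebra.map (P (Equiv.swap 0 2)) ω = ω ∧
    ExteriorAlgebra.map (P (Equiv.swap 1 3)) ω = ω ∧
    (∑ σ : Equiv.Perm (Fin 4), ExteriorAlgebra.map (P σ) ω) ≠ 0 := by
  have hzI : ∀ (c : Fin 2) (i j l : Fin 4) (c' : Fin 2) (a b : Fin 4), z c i j l c' a b =
      if c' = c then ((K985.SymRep.zI i j l a b : ℤ) : k) else 0 := by
    intro c i j l c' a b
    rw [hz, K985.SymRep.zI]
    push_cast
    rfl
  have hPz : ∀ (σ : Equiv.Perm (Fin 4)) (c : Fin 2) (i j l : Fin 4),
      P σ (z c i j l) = z c (σ i) (σ j) (σ l) := by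
    intro σ c i j l
    funext c' a b
    rw [hP, hz, hz]
    simp only [Equiv.symm_apply_eq]
  have hneg : ∀ (c : Fin 2) (i j l i' j' l' : Fin 4), (∀ a b, K985.SymRep.zI i j l a b =
      - K985.SymRep.zI i' j' l' a b) → z c i j l = - z c i' j' l' := by
    intro c i j l i' j' l' h
    funext c' a b
    rw [Pi.neg_apply, Pi.neg_apply, Pi.neg_apply, hzI, hzI, h a b]
    split_ifs
    · push_cast; rfl
    · rw [neg_zero]
  have hmap : ∀ σ : Equiv.Perm (Fin 4), ExteriorAlgebra.map (P σ) ω =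
      ExteriorAlgebra.ι k (z 0 (σ 0) (σ 1) (σ 2)) * ExteriorAlgebra.ι k (z 1 (σ 0) (σ 1) (σ 2)) *
      ExteriorAlgebra.ι k (z 0 (σ 0) (σ 2) (σ 3)) * ExteriorAlgebra.ι k (z 1 (σ 0) (σ 2) (σ 3)) := by
    intro σ
    rw [hω, map_mul, map_mul, map_mul, ExteriorAlgebra.map_apply_ι, ExteriorAlgebra.map_apply_ι,
      ExteriorAlgebra.map_apply_ι, ExteriorAlgebra.map_apply_ι, hPz, hPz, hPz, hPz]
  refine ⟨?_, ?_, ?_⟩
  · rw [hmap]
    have e0 : (Equiv.swap (0 : Fin 4) 2) 0 = 2 := by decide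
    have e1 : (Equiv.swap (0 : Fin 4) 2) 1 = 1 := by decide
    have e2 : (Equiv.swap (0 : Fin 4) 2) 2 = 0 := by decide
    have e3 : (Equiv.swap (0 : Fin 4) 2) 3 = 3 := by decide
    rw [e0, e1, e2, e3]
    have h1 : ∀ c, z c 2 1 0 = - z c 0 1 2 := fun c => hneg c _ _ _ _ _ _ (by decide)
    have h2 : ∀ c, z c 2 0 3 = - z c 0 2 3 := fun c => hneg c _ _ _ _ _ _ (by decide)
    rw [h1, h1, h2, h2, hω]
    simp only [map_neg, neg_mul, mul_neg, neg_neg]
  · rw [hmap]
    have e0 : (Equiv.swap (1 : Fin 4) 3) 0 = 0 := by decide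
    have e1 : (Equiv.swap (1 : Fin 4) 3) 1 = 3 := by decide
    have e2 : (Equiv.swap (1 : Fin 4) 3) 2 = 2 := by decide
    have e3 : (Equiv.swap (1 : Fin 4) 3) 3 = 1 := by decide
    rw [e0, e1, e2, e3]
    have h1 : ∀ c, z c 0 3 2 = - z c 0 2 3 := fun c => hneg c _ _ _ _ _ _ (by decide)
    have h2 : ∀ c, z c 0 2 1 = - z c 0 1 2 := fun c => hneg c _ _ _ _ _ _ (by decide)
    rw [h1, h1, h2, h2, hω]
    simp only [map_neg, neg_mul, mul_neg, neg_neg]
    have hs : ∀ v w : Fin 2 → Fin 4 → Fin 4 → k, ExteriorAlgebra.ι k v * ExteriorAlgebra.ι k w =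
        - (ExteriorAlgebra.ι k w * ExteriorAlgebra.ι k v) := fun v w =>
      eq_neg_of_add_eq_zero_left (ExteriorAlgebra.ι_add_mul_swap v w)
    generalize hA0 : z 0 0 1 2 = A0
    generalize hA1 : z 1 0 1 2 = A1
    generalize hB0 : z 0 0 2 3 = B0
    generalize hB1 : z 1 0 2 3 = B1
    rw [mul_assoc (ExteriorAlgebra.ι k B0), hs B1 A0, mul_neg, neg_mul, ← mul_assoc, hs B0 A0,
      neg_mul, neg_mul, neg_neg, mul_assoc, hs B1 A1, mul_neg, mul_assoc (ExteriorAlgebra.ι k A0),
      ← mul_assoc (ExteriorAlgebra.ι k B0), hs B0 A1]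
    simp only [neg_mul, mul_neg, neg_neg, mul_assoc]
  · intro h0
    have h1 := congrArg (K985.SymRep.Lf k) h0
    rw [map_sum, map_zero] at h1
    have h2 : ∀ σ : Equiv.Perm (Fin 4), K985.SymRep.Lf k (ExteriorAlgebra.map (P σ) ω) =
        (((K985.SymRep.mI σ) ^ 2 : ℤ) : k) := by
      intro σ
      rw [hmap, K985.SymRep.prod_eq, K985.SymRep.Lf_apply, K985.SymRep.D_apply]
      have h3 : (Matrix.of fun j : Fin 4 => K985.SymRep.phi k
          ((![z 0 (σ 0) (σ 1) (σ 2), z 1 (σ 0) (σ 1) (σ 2), z 0 (σ 0) (σ 2) (σ 3),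
            z 1 (σ 0) (σ 2) (σ 3)] : Fin 4 → (Fin 2 → Fin 4 → Fin 4 → k)) j)) =
          Matrix.of ![![((K985.SymRep.zI (σ 0) (σ 1) (σ 2) 1 2 : ℤ) : k), 0,
              ((K985.SymRep.zI (σ 0) (σ 1) (σ 2) 2 3 : ℤ) : k), 0],
            ![0, ((K985.SymRep.zI (σ 0) (σ 1) (σ 2) 1 2 : ℤ) : k), 0,
              ((K985.SymRep.zI (σ 0) (σ 1) (σ 2) 2 3 : ℤ) : k)],
            ![((K985.SymRep.zI (σ 0) (σ 2) (σ 3) 1 2 : ℤ) : k), 0,
              ((K985.SymRep.zI (σ 0) (σ 2) (σ 3) 2 3 : ℤ) : k), 0],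
            ![0, ((K985.SymRep.zI (σ 0) (σ 2) (σ 3) 1 2 : ℤ) : k), 0,
              ((K985.SymRep.zI (σ 0) (σ 2) (σ 3) 2 3 : ℤ) : k)]] := by
        ext i j
        fin_cases i <;> fin_cases j <;> simp [K985.SymRep.phi, hzI]
      rw [h3, K985.SymRep.det_block, K985.SymRep.mI]
      push_cast
      rfl
    rw [Finset.sum_congr rfl (fun σ _ => h2 σ), ← Int.cast_sum] at h1
    have h4 := K985.SymRep.sum_mI_pos
    have h5 : (∑ σ : Equiv.Perm (Fin 4), K985.SymRep.mI σ ^ 2) = 0 := by exact_mod_cast h1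
    exact absurd h5 h4.ne'

end Groth.Agent.S19221
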