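import Groth.Statements.S19223
import Groth.Agent.GalCoh.K447.RepSeq
import Groth.Agent.GalCoh.K447.HensUnits
import Groth.Agent.S7725

set_option autoImplicit false
attribute [local instance] Units.mulDistribMulActionRight
open GalCoh

namespace Groth.Agent.S19223

/-- For a strictly henselian local ring R whose residue field k has characteristic p ≥ 0, and a finite
group G of order prime to p acting on R by ring automorphisms (hence on the unit groups R^× and
k^×), consider the homomorphism H^n(G, R^×) → H^n(G, k^×) induced by the reduction map. It is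
bijective for every n ≥ 2; it is also bijective for n = 1 provided that p = 0 or the only p-power
root of unity in R is 1. (The reduction map on cohomology is pinned by its values on units; groups,
rings and modules are taken in the lowest universe, as integral coefficients in the group-cohomology
library require.) -/
theorem result (R : Type) [CommRing R]
    [HenselianLocalRing R] [IsSepClosed (IsLocalRing.ResidueField R)] (p : ℕ) [CharP (IsLocalRing.ResidueField R) p]
    (G : Type) [Group G] [Finite G] [MulSemiringAction G R] (hp : ¬ p ∣ Nat.card G)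
    (φ : Rep.ofMulDistribMulAction G Rˣ ⟶ Rep.ofMulDistribMulAction G (IsLocalRing.ResidueField R)ˣ)
    (hφ : ∀ x : Rˣ, Additive.toMul (φ.hom (Additive.ofMul x)) = Units.map (IsLocalRing.residue R).toMonoidHom x)
    (n : ℕ) (hn : 1 ≤ n) (h1 : n = 1 → p ≠ 0 → ∀ (ζ : Rˣ) (m : ℕ), ζ ^ p ^ m = 1 → ζ = 1) :
    Function.Bijective ((groupCohomology.functor ℤ G n).map φ).hom := by
  have hm : ((Nat.card G : ℕ) : IsLocalRing.ResidueField R) ≠ 0 := by
    rw [Ne, CharP.cast_eq_zero_iff _ p]
    exact hp
  have hφ' : ∀ x : Rep.ofMulDistribMulAction G Rˣ, φ.hom x =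
      Additive.ofMul (Units.map (IsLocalRing.residue R).toMonoidHom (Additive.toMul x)) := fun x =>
    hφ (Additive.toMul x)
  have hsurj : Function.Surjective φ.hom := by
    intro y
    obtain ⟨x, hx⟩ := K447.HensUnits.units_map_surjective (R := R) (Additive.toMul y)
    exact ⟨Additive.ofMul x, by rw [hφ']; exact congrArg Additive.ofMul hx⟩
  have hdiv : Function.Bijective fun a : (K447.RepSeq.kerSeq φ).X₁ => Nat.card G • a := by
    constructor
    · intro a b hab
      have h1 : Nat.card G • (a - b) = 0 := by
        rw [smul_sub, sub_eq_zero]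
        exact hab
      rw [← sub_eq_zero]
      have h2 : Nat.card G • ((a - b : (K447.RepSeq.kerSeq φ).X₁).1) = 0 := congrArg Subtype.val h1
      have h3 : Units.map (IsLocalRing.residue R).toMonoidHom (Additive.toMul (a - b).1) = 1 := by
        have h4 : φ.hom (a - b).1 = 0 := (a - b).2
        rw [hφ'] at h4
        exact congrArg Additive.toMul h4
      exact Subtype.ext (congrArg Additive.ofMul
        (K447.HensUnits.units_eq_one_of_pow hm _ h3 (congrArg Additive.toMul h2)))
    · intro a
      have h3 : Units.map (IsLocalRing.residue R).toMonoidHom (Additive.toMul a.1) = 1 := by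
        have h4 : φ.hom a.1 = 0 := a.2
        rw [hφ'] at h4
        exact congrArg Additive.toMul h4
      obtain ⟨y, hy, hyx⟩ := K447.HensUnits.units_exists_pow_eq hm _ h3
      refine ⟨⟨Additive.ofMul y, ?_⟩, Subtype.ext ?_⟩
      · rw [LinearMap.mem_ker]
        change φ.hom (Additive.ofMul y) = 0
        rw [hφ']
        exact congrArg Additive.ofMul hy
      · exact congrArg Additive.ofMul hyx
  have hvan : ∀ i, 0 < i → Subsingleton (groupCohomology (K447.RepSeq.kerSeq φ).X₁ i) := fun i hi =>
    Groth.Agent.S7725.result ℤ G _ hdiv i hi
  exact ⟨K447.RepSeq.injective_of_subsingleton (K447.RepSeq.kerSeq_shortExact φ hsurj) n (hvan n hn),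
    K447.RepSeq.surjective_of_subsingleton (K447.RepSeq.kerSeq_shortExact φ hsurj) n
      (hvan (n + 1) n.succ_pos)⟩

end Groth.Agent.S19223
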