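import Groth.Statements.S19224
import Groth.Agent.GalCoh.K447.TrivH2
import Mathlib.RingTheory.RootsOfUnity.AlgebraicallyClosed
import Groth.Agent.S7724

set_option autoImplicit false
open GalCoh

namespace Groth.Agent.S19224

/-- Let Q be a finite group such that H^3(Q, ℤ) = 0 for the trivial action, and let k be a separably
closed field of characteristic p ≥ 0 with p not dividing the order of Q. Then H^2(Q, k^×) = 0, where
Q acts trivially on the units of k. (Groups and fields are taken in the lowest universe, as integral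
coefficients in the group-cohomology library require.) -/
theorem result (Q : Type) [Group Q] [Finite Q]
    (hQ : Subsingleton (groupCohomology (Rep.trivial ℤ Q ℤ) 3)) (k : Type) [Field k] [IsSepClosed k]
    (p : ℕ) [CharP k p] (hp : ¬ p ∣ Nat.card Q) :
    Subsingleton (groupCohomology (Rep.trivial ℤ Q (Additive kˣ)) 2) := by
  have hm0 : Nat.card Q ≠ 0 := Nat.card_pos.ne'
  have hmk : ((Nat.card Q : ℕ) : k) ≠ 0 := by
    rw [Ne, CharP.cast_eq_zero_iff k p]
    exact hp
  have : NeZero ((Nat.card Q : ℕ) : k) := ⟨hmk⟩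
  have : NeZero (Nat.card Q) := ⟨hm0⟩
  obtain ⟨ζ₀, hζ₀⟩ := HasEnoughRootsOfUnity.exists_primitiveRoot k (Nat.card Q)
  obtain ⟨ζ, rfl⟩ := hζ₀.isUnit hm0
  have hζ : IsPrimitiveRoot ζ (Nat.card Q) := IsPrimitiveRoot.coe_units_iff.mp hζ₀
  refine K447.TrivH2.subsingleton_H2 (Nat.card Q) hm0 (fun A _ x => Groth.Agent.S7724.result ℤ Q _ 2 two_pos x) hQ
    (Additive kˣ) ?_ (Additive.ofMul ζ) ?_ ?_
  · intro a
    obtain ⟨z, hz⟩ := IsSepClosed.exists_pow_nat_eq ((Additive.toMul a : kˣ) : k) (Nat.card Q)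
    have hz0 : z ≠ 0 := by
      rintro rfl
      rw [zero_pow hm0] at hz
      exact (Additive.toMul a).ne_zero hz.symm
    refine ⟨Additive.ofMul (Units.mk0 z hz0), ?_⟩
    refine congrArg Additive.ofMul (Units.ext ?_ : (Units.mk0 z hz0) ^ (Nat.card Q) = Additive.toMul a)
    rw [Units.val_pow_eq_pow_val, Units.val_mk0, hz]
  · intro a ha
    have ha' : (Additive.toMul a : kˣ) ^ Nat.card Q = 1 := ha
    have ha'' : ((Additive.toMul a : kˣ) : k) ^ Nat.card Q = 1 := by
      rw [← Units.val_pow_eq_pow_val, ha', Units.val_one]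
    obtain ⟨i, -, hi⟩ := hζ₀.eq_pow_of_pow_eq_one ha''
    refine ⟨(i : ℤ), ?_⟩
    rw [natCast_zsmul]
    refine congrArg Additive.ofMul (Units.ext ?_ : ζ ^ i = Additive.toMul a)
    rw [Units.val_pow_eq_pow_val, hi]
  · intro i
    exact hζ.zpow_eq_one_iff_dvd i

end Groth.Agent.S19224
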