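import Groth.Statements.S19225
import Groth.Agent.Dix.K733.PtClass
import Groth.Agent.Dix.K733.BrCrit
import Groth.Agent.S0227
import Groth.Agent.S3095
import Groth.Agent.S3479
import Groth.Agent.S2878

set_option autoImplicit false
universe u
open CategoryTheory AlgebraicGeometry
open Dix

namespace Groth.Agent.S19225

section

open CategoryTheory.Limits
open scoped Groth.Agent.Etcore.EtInst
open Groth.Agent.Etcore.EtInst Groth.Agent.Etcore.HpullCalc
open Groth.Agent.Etcore.HC Groth.Agent.Etcore.GmFun Groth.Agent.Etcore.KummerCls

theorem dim_fiber {R : Type u} [CommRing R] {X : Scheme.{u}} (f : X ⟶ Spec (CommRingCat.of R))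
    [SmoothOfRelativeDimension 1 f] [GeometricallyConnected f] (s : Spec (CommRingCat.of R)) :
    topologicalKrullDim ↥(f.fiber s) = 1 := by
  let k : Type u := (Spec (CommRingCat.of R)).residueField s
  let q : f.fiber s ⟶ Spec (CommRingCat.of k) := f.fiberToSpecResidueField s
  have hst := smoothOfRelativeDimension_isStableUnderBaseChange.{u} 1
  have hq : SmoothOfRelativeDimension 1 q := MorphismProperty.of_isPullback
    (P := @SmoothOfRelativeDimension 1) (IsPullback.of_hasPullback f _) ‹_›
  have hqs : Smooth q := SmoothOfRelativeDimension.smooth 1 q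
  have hqg : GeometricallyConnected q :=
    inferInstanceAs (GeometricallyConnected (pullback.snd f _))
  have hc : ConnectedSpace (f.fiber s) :=
    K317.SmoothCurve.connectedSpace_of_geometricallyConnected k q
  have hi : IsIntegral (f.fiber s) := K317.SmoothCurve.isIntegral_of_smooth k q
  simpa using Groth.Agent.Sga4B.RelCurveFibre.topologicalKrullDim_eq q 1

theorem range_fst {R : Type u} [CommRing R] [IsLocalRing R] {X : Scheme.{u}}
    (f : X ⟶ Spec (CommRingCat.of R)) :
    Set.range (fun x => pullback.fst f (Spec.map (CommRingCat.ofHom (IsLocalRing.residue R))) x) =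
      (fun x => f x) ⁻¹' {IsLocalRing.closedPoint R} := by
  have h := Scheme.Pullback.range_fst (f := f)
    (g := Spec.map (CommRingCat.ofHom (IsLocalRing.residue R)))
  have h2 : Set.range (Spec.map (CommRingCat.ofHom (IsLocalRing.residue R))) =
      {IsLocalRing.closedPoint R} := by
    ext y
    constructor
    · rintro ⟨z, rfl⟩
      exact IsLocalRing.PrimeSpectrum.comap_residue R z
    · rintro rfl
      exact ⟨IsLocalRing.closedPoint (IsLocalRing.ResidueField R),
        IsLocalRing.PrimeSpectrum.comap_residue R _⟩
  rw [h2] at h
  exact h

theorem main (R : Type u) [CommRing R] [IsNoetherianRing R]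
    [HenselianLocalRing R] [IsSepClosed (IsLocalRing.ResidueField R)] (X : Scheme.{u})
    (f : X ⟶ Spec (CommRingCat.of R)) [IsProper f] [SmoothOfRelativeDimension 1 f] [GeometricallyConnected f]
    (n : ℕ) (hn : (n : IsLocalRing.ResidueField R) ≠ 0) (x : HH X (EtCoh.Gm X) 2) (hx : n • x = 0) : x = 0 := by
  have hn0 : 0 < n := Nat.pos_of_ne_zero (by rintro rfl; exact hn Nat.cast_zero)
  let κ := IsLocalRing.ResidueField R
  let K := AlgebraicClosure κ
  let res : Spec (CommRingCat.of κ) ⟶ Spec (CommRingCat.of R) :=
    Spec.map (CommRingCat.ofHom (IsLocalRing.residue R))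
  let g : Spec (CommRingCat.of K) ⟶ Spec (CommRingCat.of κ) :=
    Spec.map (CommRingCat.ofHom (algebraMap κ K))
  let X₀ := pullback f res
  let t₀ : X₀ ⟶ X := pullback.fst f res
  let p : X₀ ⟶ Spec (CommRingCat.of κ) := pullback.snd f res
  let C := pullback p g
  let t₁ : C ⟶ X₀ := pullback.fst p g
  let b : C ⟶ Spec (CommRingCat.of K) := pullback.snd p g
  have hst := smoothOfRelativeDimension_isStableUnderBaseChange.{u} 1
  have hp1 : SmoothOfRelativeDimension 1 p := MorphismProperty.of_isPullback
    (P := @SmoothOfRelativeDimension 1) (IsPullback.of_hasPullback f res) ‹_›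
  have hb1 : SmoothOfRelativeDimension 1 b := MorphismProperty.of_isPullback
    (P := @SmoothOfRelativeDimension 1) (IsPullback.of_hasPullback p g) ‹_›
  have hps : Smooth p := SmoothOfRelativeDimension.smooth 1 p
  have hbs : Smooth b := SmoothOfRelativeDimension.smooth 1 b
  have hpp : IsProper p := inferInstance
  have hbp : IsProper b := inferInstance
  have hpg : GeometricallyConnected p := inferInstance
  have hbg : GeometricallyConnected b := inferInstance
  have hcX : ConnectedSpace X₀ := K317.SmoothCurve.connectedSpace_of_geometricallyConnected κ p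
  have hcC : ConnectedSpace C := K317.SmoothCurve.connectedSpace_of_geometricallyConnected K b
  have hiX : IsIntegral X₀ := K317.SmoothCurve.isIntegral_of_smooth κ p
  have hiC : IsIntegral C := K317.SmoothCurve.isIntegral_of_smooth K b
  have hdimC : topologicalKrullDim C = 1 := by
    simpa using Groth.Agent.Sga4B.RelCurveFibre.topologicalKrullDim_eq b 1
  have hnR : IsUnit (n : R) := by
    by_contra h
    apply hn
    have h1 : (n : R) ∈ IsLocalRing.maximalIdeal R := (IsLocalRing.mem_maximalIdeal _).2 h
    have h2 := (IsLocalRing.residue_eq_zero_iff (n : R)).2 h1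
    rwa [map_natCast] at h2
  have hnX : IsUnit (n : Γ(X, ⊤)) := by
    have := hnR.map (f.appTop.hom.comp (Scheme.ΓSpecIso (CommRingCat.of R)).inv.hom)
    rwa [map_natCast] at this
  have hnX₀ : IsUnit (n : Γ(X₀, ⊤)) := by
    have := hnX.map t₀.appTop.hom
    rwa [map_natCast] at this
  have hnK : (n : K) ≠ 0 := by
    have h1 : (n : K) = algebraMap κ K (n : κ) := (map_natCast _ n).symm
    rw [h1]
    exact (map_ne_zero _).2 hn
  -- the pullback maps in degree two
  have hbij0 : Function.Bijective (hp t₀ (EtCoh.mu X n) 2) :=
    S3095.result R X f (EtCoh.mu X n) (K733.BrCrit.isTorsion_mu X n hn0) 2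
  have hbij1 : Function.Bijective (hp t₁ (EtCoh.mu X₀ n) 2) :=
    S3479.result κ K p (EtCoh.mu X₀ n) (K733.BrCrit.isTorsion_mu X₀ n hn0) 2
  have hM : Function.Injective (Groth.Agent.Etcore.Kappa228.HM n (t₁ ≫ t₀) 2) := by
    intro a b hab
    rw [Groth.Agent.Etcore.Kappa228.HM_comp, Groth.Agent.Etcore.Kappa228.HM_comp] at hab
    exact (K733.BrCrit.bijective_HM n hnX t₀ 2 hbij0).1
      ((K733.BrCrit.bijective_HM n hnX₀ t₁ 2 hbij1).1 hab)
  have hH2 : Subsingleton (HH C (EtCoh.Gm C) 2) := S0227.result K C b hdimC 2 le_rfl
  refine K733.BrCrit.eq_zero_of_nsmul (t₁ ≫ t₀) n hnX hM hH2 ?_ x hx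
  -- surjectivity on Picard groups
  have hs0 : Function.Surjective (HG t₀ 1) := by
    apply K733.PicNat.HG_one_surjective
    intro L₀ hL₀
    have hfp : LocallyOfFinitePresentation f :=
      LocallyOfFinitePresentation.iff_locallyOfFiniteType.2 inferInstance
    have hrc : IsClosedImmersion res :=
      IsClosedImmersion.spec_of_surjective _ (IsLocalRing.residue_surjective (R := R))
    have hti : IsClosedImmersion t₀ :=
      inferInstanceAs (IsClosedImmersion (pullback.fst f res))
    have hres : LocallyOfFiniteType res := inferInstance
    have hft : LocallyOfFiniteType (t₀ ≫ f) := by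
      have h1 : t₀ ≫ f = p ≫ res := pullback.condition
      rw [h1]
      infer_instance
    have hfp' : LocallyOfFinitePresentation (t₀ ≫ f) :=
      LocallyOfFinitePresentation.iff_locallyOfFiniteType.2 hft
    exact S2878.result R f (dim_fiber f _).le t₀ (range_fst f) L₀ hL₀
  intro a
  have : Nonempty X₀ := inferInstance
  obtain ⟨σ, hσ, -⟩ := Groth.Agent.Picfga.RatPts.exists_section_mem p ⊤ (Classical.arbitrary X₀) trivial
  obtain ⟨c, e, rfl⟩ := K733.PtClass.exists_add (IsPullback.of_hasPullback p g) hσ n hnK a
  obtain ⟨c', rfl⟩ := hs0 c
  exact ⟨c', e, by rw [← HG_HG t₁ t₀ (t₁ ≫ t₀) rfl]⟩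

end

attribute [-instance] CategoryTheory.catToReflQuiver

/-- Let R be a noetherian strictly henselian local ring with residue field k, and let X → Spec R be a
proper smooth morphism of relative dimension 1 with geometrically connected fibres (a smooth proper
curve over R). Then H²(X_et, G_m) has no non-zero torsion of order invertible in R: if n is a
natural number whose image in k is non-zero and x ∈ H²(X_et, G_m) satisfies n·x = 0, then x = 0.
(The published statement asserts that H²(X_et, G_m) is torsion-free, i.e. that the cohomological
Brauer group of X is zero. Its argument compares, by proper base change, the cohomology of the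
two-term complex G_m → G_m given by the n-th power map on X with that on the closed fibre X_k; this
comparison is valid when n is invertible in R, but not in general when the residue characteristic
divides n: for an elliptic curve over the ring of Witt vectors of an algebraic closure of the field
with three elements and n = 3, the degree-2 cohomology of that complex is infinite on X and finite
on X_k. So this row states the part of the assertion that the argument establishes, the vanishing of
the torsion of order prime to the residue characteristic. The source works with a projective curve;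
the argument uses properness, the fibre dimension and the surjectivity of Pic X → Pic X_k, so proper
is assumed here.) -/
theorem result (R : Type u) [CommRing R] [IsNoetherianRing R]
    [HenselianLocalRing R] [IsSepClosed (IsLocalRing.ResidueField R)] (X : Scheme.{u})
    (f : X ⟶ Spec (CommRingCat.of R)) [IsProper f] [SmoothOfRelativeDimension 1 f] [GeometricallyConnected f]
    (n : ℕ) (hn : (n : IsLocalRing.ResidueField R) ≠ 0) (x : Dix.BrCoh X) (hx : n • x = 0) : x = 0 := by
  exact main R X f n hn x hx

end Groth.Agent.S19225
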