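import Groth.Statements.S5709
import Groth.Agent.Dix.K349.IntCase
import Groth.Agent.CycB.ImageInt

set_option autoImplicit false
universe u
open CategoryTheory AlgebraicGeometry
open Dix

namespace Groth.Agent.S5709

/-- Let k be a separably closed field and X a scheme proper over k of dimension at most 1 (a proper
algebraic curve). Then the cohomological Brauer group H²(X_et, G_m) vanishes. -/
theorem result (k : Type u) [Field k] [IsSepClosed k] (X : Scheme.{u}) (f : X ⟶ Spec (CommRingCat.of k)) [IsProper f] (hdim : topologicalKrullDim X ≤ 1) : Subsingleton (Dix.BrCoh X) := by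
  have hps : ∀ {Y Y' : Scheme.{u}} (g : Y' ⟶ Y), Limits.PreservesFiniteLimits (EtCoh.pull g) :=
    fun g => Groth.Agent.S0101.result g
  have hln : IsLocallyNoetherian X := LocallyOfFiniteType.isLocallyNoetherian f
  have hcs : CompactSpace X := QuasiCompact.compactSpace_of_compactSpace f
  have hN : IsNoetherian X := { }
  have key : ∀ ξ : EtCoh.H X (EtCoh.Gm X) 2, ξ = 0 := fun ξ => by
    refine K280.DimOneBr.eq_zero_of_forall hdim
      (fun x hx => Groth.Agent.CurvesA.ClosedPtSep.isSepClosed_residueField f x hx) ξ (fun x hx => ?_)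
    have hens : HenselianLocalRing (X.presheaf.stalk x) :=
      Groth.Agent.Pi1.H421.CurveStep.henselianLocalRing_of_isNilpotent _ (K280.DimOneBr.isNilpotent_maximalIdeal x hx)
    let j : Spec (CommRingCat.of (X.presheaf.stalk x ⧸ IsLocalRing.maximalIdeal (X.presheaf.stalk x))) ⟶
        Spec (CommRingCat.of (X.presheaf.stalk x)) :=
      Spec.map (CommRingCat.ofHom (Ideal.Quotient.mk (IsLocalRing.maximalIdeal (X.presheaf.stalk x))))
    have hinj := (Groth.Agent.S5715.result (X.presheaf.stalk x)
      (IsLocalRing.maximalIdeal (X.presheaf.stalk x)) (Ideal.IsPrime.ne_top inferInstance) 2 (by norm_num)).1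
    apply hinj
    rw [map_zero]
    let _ : Field (X.presheaf.stalk x ⧸ IsLocalRing.maximalIdeal (X.presheaf.stalk x)) := Ideal.Quotient.field _
    let a : Spec (CommRingCat.of (X.presheaf.stalk x ⧸ IsLocalRing.maximalIdeal (X.presheaf.stalk x))) ⟶ X :=
      j ≫ X.fromSpecStalk x
    have hqc : QuasiCompact a := inferInstance
    have hint : IsIntegral a.image := Groth.Agent.CycB.ImageInt.isIntegral_image a
    have h1 : EtLim.HGmPull a.imageι 2 ξ = 0 :=
      K349.IntCase.eq_zero (a.imageι ≫ f) ((a.imageι.isEmbedding.isInducing.topologicalKrullDim_le).trans hdim) _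
    refine (K280.GmPullComp.HGmPull_comp j (X.fromSpecStalk x) a rfl 2 _).trans ?_
    exact K349.GmZ.HGmPull_eq_zero a.imageι a.toImage a a.toImage_imageι 2 ξ h1
  exact ⟨fun a b => (key a).trans (key b).symm⟩

end Groth.Agent.S5709
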