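import Groth.Statements.S19226
import Groth.Agent.Dix.K349.GenCls
import Groth.Agent.Dix.K349.GenLim
import Groth.Agent.Lefpen.H716.CIGeom
import Groth.Agent.Etbc.H220.DimOneCd
import Groth.Agent.S5709

set_option autoImplicit false
universe u
open CategoryTheory AlgebraicGeometry
open Dix

namespace Groth.Agent.S19226

open K349.Tow K349.EdgeTwo in
/-- The range of the edge map is the kernel of restriction to `K ⊗ ks`. -/
theorem range_eq (k ks K : Type u) [Field k] [Field ks]
    [Algebra k ks] [IsSepClosure k ks] [Field K] [Algebra k K] (X : Scheme.{u}) [IsIntegral X]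
    (f : X ⟶ Spec (CommRingCat.of k)) [IsProper f] [SmoothOfRelativeDimension 1 f]
    (e : X.functionField ≅ CommRingCat.of K)
    (hcomp : Spec.map e.hom ≫ X.fromSpecStalk (genericPoint X) ≫ f = Spec.map (CommRingCat.ofHom (algebraMap k K)))
    [Limits.PreservesFiniteLimits (EtCoh.pull (Spec.map (CommRingCat.ofHom
      (Algebra.TensorProduct.includeLeftRingHom : K →+* TensorProduct k K ks))))]
    (hps : ∀ {Y Y' : Scheme.{u}} (g : Y' ⟶ Y), Limits.PreservesFiniteLimits (EtCoh.pull g))
    (γ : EtCoh.H (Spec (CommRingCat.of K)) (EtCoh.Gm (Spec (CommRingCat.of K))) 2) :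
    (∃ β, EtLim.HofPush (Spec.map e.hom ≫ X.fromSpecStalk (genericPoint X)) (EtCoh.Gm (Spec (CommRingCat.of K))) 2 β = γ) ↔
      EtLim.HGmPull (Spec.map (CommRingCat.ofHom (Algebra.TensorProduct.includeLeftRingHom : K →+* TensorProduct k K ks))) 2 γ = 0 := by
  have hln : IsLocallyNoetherian X := LocallyOfFiniteType.isLocallyNoetherian f
  have hcs : CompactSpace X := QuasiCompact.compactSpace_of_compactSpace f
  have hN : IsNoetherian X := { }
  have hdim : topologicalKrullDim X ≤ 1 := by
    have := Groth.Agent.Lefpen.H716.CIGeom.topologicalKrullDim_le_of_smooth 1 f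
    rwa [Nat.cast_one] at this
  have hη : ∀ z : X, z ⤳ genericPoint X → z = genericPoint X := fun z hz =>
    ((genericPoint_specializes z).antisymm hz).eq.symm
  have hgen : ∀ x : X, genericPoint X ⤳ x := fun x => genericPoint_specializes x
  have hsepk : Algebra.IsSeparable k ks := IsSepClosure.separable
  have hsc : IsSepClosed ks := IsSepClosure.sep_closed k
  let σ : Spec (CommRingCat.of ks) ⟶ Spec (CommRingCat.of k) := Spec.map (CommRingCat.ofHom (algebraMap k ks))
  let s : Spec (CommRingCat.of K) ⟶ Spec (CommRingCat.of k) := Spec.map (CommRingCat.ofHom (algebraMap k K))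
  let h : Spec (CommRingCat.of K) ⟶ X := Spec.map e.hom ≫ X.fromSpecStalk (genericPoint X)
  have hhf : h ≫ f = s := (Category.assoc _ _ _).trans hcomp
  let g' : Spec (CommRingCat.of (TensorProduct k K ks)) ⟶ Spec (CommRingCat.of K) := Spec.map (CommRingCat.ofHom
      (Algebra.TensorProduct.includeLeftRingHom : K →+* TensorProduct k K ks))
  let q : Spec (CommRingCat.of (TensorProduct k K ks)) ⟶ Spec (CommRingCat.of ks) := Spec.map (CommRingCat.ofHom
      (Algebra.TensorProduct.includeRight : ks →ₐ[k] TensorProduct k K ks).toRingHom)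
  have hP : IsPullback g' q s σ :=
    isPullback_SpecMap_of_isPushout _ _ _ _ (CommRingCat.isPushout_tensorProduct k K ks)
  constructor
  · rintro ⟨β, rfl⟩
    let X' : Scheme.{u} := Limits.pullback f σ
    let f' : X' ⟶ Spec (CommRingCat.of ks) := Limits.pullback.snd f σ
    let g : X' ⟶ X := Limits.pullback.fst f σ
    have hsm : SmoothOfRelativeDimension 1 f' :=
      (smoothOfRelativeDimension_isStableUnderBaseChange (n := 1)).of_isPullback (IsPullback.of_hasPullback f σ)
        inferInstance
    have hint : IsIntegralHom σ := K349.UH.isIntegralHom_spec k ks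
    have hint' : IsIntegralHom g := inferInstance
    have hln' : IsLocallyNoetherian X' := LocallyOfFiniteType.isLocallyNoetherian f'
    have hcs' : CompactSpace X' := QuasiCompact.compactSpace_of_compactSpace f'
    have hN' : AlgebraicGeometry.IsNoetherian X' := { }
    have hdim' : topologicalKrullDim X' ≤ 1 := by
      have := Groth.Agent.Lefpen.H716.CIGeom.topologicalKrullDim_le_of_smooth 1 f'
      rwa [Nat.cast_one] at this
    have hpun : Groth.Agent.CurvesA.CurveCd.PunAcyc X' :=
      Groth.Agent.Etbc.H220.DimOneCd.punAcyc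
        (fun x hx => Groth.Agent.CurvesA.ClosedPtSep.isSepClosed_residueField f' x hx)
    have hz : Subsingleton (Dix.BrCoh X') :=
      Groth.Agent.S5709.result ks X' f' hdim'
    let h' : Spec (CommRingCat.of (TensorProduct k K ks)) ⟶ X' :=
      Limits.pullback.lift (g' ≫ h) q (by rw [Category.assoc, hhf]; exact hP.w)
    have h1 := K349.GenCls.gmp_hp_ho_eq_zero hdim (genericPoint X) hη hgen (Spec.map e.hom) g hpun 2 (by norm_num)
      (fun x => Subsingleton.elim (h := hz) _ _) g' h' (Limits.pullback.lift_fst _ _ _).symm β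
    exact (Groth.Agent.Topos.H571.GmPull.HGmPull_eq g' 2 _).trans h1
  · intro hγ
    have h1 : EtLim.HGmPull (ZZ s (sO k ks)).hom 2 γ = 0 :=
      K349.GmZ.HGmPull_eq_zero g' (hP.lift (Limits.pullback.fst s σ) (Limits.pullback.snd s σ)
        Limits.pullback.condition) (ZZ s (sO k ks)).hom (hP.lift_fst _ _ _) 2 γ hγ
    obtain ⟨β, hβ⟩ := exists_ho_two h (EtCoh.Gm _) (K349.GenFld.isZero_Rpush_one (genericPoint X) (Spec.map e.hom) hη) γ
      (fun y => K349.GenLim.exists_etale s f h hhf ks γ h1 y)
    exact ⟨β, hβ⟩

/-- Let k be a field with a separable closure k^s and let X be a smooth, proper, geometrically connected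
curve over k, with function field K and generic point η : Spec K → X. Then H²(X_et, η_* G_m) is
isomorphic to the kernel of the restriction map H²(K, G_m) → H²(K ⊗_k k^s, G_m), that is to ker(Br
k(X) → Br k^s(X)). (Existence of an isomorphism of abelian groups only. The function field is
presented by a field K identified with the stalk at the generic point compatibly with the structure
map to k; the source says projective, and proper is assumed here; exactness of the inverse image
along Spec(K ⊗_k k^s) → Spec K is carried as an instance binder.) -/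
theorem result (k ks K : Type u) [Field k] [Field ks]
    [Algebra k ks] [IsSepClosure k ks] [Field K] [Algebra k K] (X : Scheme.{u}) [IsIntegral X]
    (f : X ⟶ Spec (CommRingCat.of k)) [IsProper f] [SmoothOfRelativeDimension 1 f] [GeometricallyConnected f]
    (e : X.functionField ≅ CommRingCat.of K)
    (hcomp : Spec.map e.hom ≫ X.fromSpecStalk (genericPoint X) ≫ f = Spec.map (CommRingCat.ofHom (algebraMap k K)))
    [Limits.PreservesFiniteLimits (EtCoh.pull (Spec.map (CommRingCat.ofHom
      (Algebra.TensorProduct.includeLeftRingHom : K →+* TensorProduct k K ks))))] :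
    Nonempty (EtCoh.H X ((EtCoh.push (Spec.map e.hom ≫ X.fromSpecStalk (genericPoint X))).obj
        (EtCoh.Gm (Spec (CommRingCat.of K)))) 2 ≃+
      (EtLim.HGmPull (Spec.map (CommRingCat.ofHom (Algebra.TensorProduct.includeLeftRingHom : K →+* TensorProduct k K ks))) 2).ker) := by
  have hps : ∀ {Y Y' : Scheme.{u}} (g : Y' ⟶ Y), Limits.PreservesFiniteLimits (EtCoh.pull g) :=
    fun g => Groth.Agent.S0101.result g
  have hln : IsLocallyNoetherian X := LocallyOfFiniteType.isLocallyNoetherian f
  have hη : ∀ z : X, z ⤳ genericPoint X → z = genericPoint X := fun z hz =>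
    ((genericPoint_specializes z).antisymm hz).eq.symm
  have hinj : Function.Injective (EtLim.HofPush (Spec.map e.hom ≫ X.fromSpecStalk (genericPoint X))
      (EtCoh.Gm (Spec (CommRingCat.of K))) 2) :=
    K280.EdgeEt.HofPush_two_injective _ _
      (K349.GenFld.isZero_Rpush_one (genericPoint X) (Spec.map e.hom) hη)
  refine ⟨(AddMonoidHom.ofInjective hinj).trans (AddEquiv.addSubgroupCongr ?_)⟩
  ext γ
  exact range_eq k ks K X f e hcomp hps γ

end Groth.Agent.S19226
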