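import Groth.Statements.S19240
import Groth.Agent.FrobSch.K363.UHFactor

set_option autoImplicit false
universe u
open FrobSch

namespace Groth.Agent.S19240

open CategoryTheory CategoryTheory.Limits AlgebraicGeometry in
/-- Let k be a perfect field of characteristic p > 0 and let u : X ⟶ Y be a k-morphism between integral
k-schemes (separated, of finite type and quasi-projective over k) which is a universal
homeomorphism, and assume Y is normal. Then the degree of the function field of X over that of Y is
p ^ n for some natural number n, and for this n there is a universal homeomorphism v : Y ⟶ X^{(n)},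
where X^{(n)} is the base change of X along the n-th power of the Frobenius of Spec k, such that v
is a k-morphism, u followed by v is the n-th relative Frobenius of X over k (its composite with the
projection X^{(n)} ⟶ X is the n-th power of the absolute Frobenius of X) and v followed by the base
change of u is the n-th relative Frobenius of Y over k (the composite of v with the projection to X
and with u is the n-th power of the absolute Frobenius of Y). -/
theorem result
    (p : ℕ) [Fact p.Prime] (k : Type u) [Field k] [CharP k p] [PerfectField k]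
    {X Y : Scheme.{u}} (fX : X ⟶ Spec (CommRingCat.of k)) (fY : Y ⟶ Spec (CommRingCat.of k))
    [IsIntegral X] [IsIntegral Y] [FrobSch.IsCharP X p] [FrobSch.IsCharP Y p]
    [IsSeparated fX] [IsSeparated fY] [LocallyOfFiniteType fX] [LocallyOfFiniteType fY]
    (hqX : ∃ (N : ℕ) (i : X ⟶ CohB1.ProjSpace N k), IsImmersion i ∧ i ≫ CohB1.ProjSpace.toSpec N k = fX)
    (hqY : ∃ (N : ℕ) (i : Y ⟶ CohB1.ProjSpace N k), IsImmersion i ∧ i ≫ CohB1.ProjSpace.toSpec N k = fY)
    (hY : Pi1.IsNormalScheme Y)
    (u : X ⟶ Y) (hu : u ≫ fY = fX) (huniv : FlatMor.IsUnivHomeo u)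
    (e : u (genericPoint X) = genericPoint Y) :
    ∃ n : ℕ,
      @Module.finrank Y.functionField X.functionField _ _
          (Y.presheaf.stalkSpecializes (specializes_of_eq e) ≫ u.stalkMap (genericPoint X)).hom.toAlgebra.toModule = p ^ n ∧
      ∃ v : Y ⟶ pullback fX ((fun g : Spec (CommRingCat.of k) ⟶ Spec (CommRingCat.of k) => g ≫ FrobSch.frob (Spec (CommRingCat.of k)) p)^[n] (𝟙 (Spec (CommRingCat.of k)))),
        FlatMor.IsUnivHomeo v ∧
        v ≫ pullback.snd fX ((fun g : Spec (CommRingCat.of k) ⟶ Spec (CommRingCat.of k) => g ≫ FrobSch.frob (Spec (CommRingCat.of k)) p)^[n] (𝟙 (Spec (CommRingCat.of k)))) = fY ∧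
        u ≫ v ≫ pullback.fst fX ((fun g : Spec (CommRingCat.of k) ⟶ Spec (CommRingCat.of k) => g ≫ FrobSch.frob (Spec (CommRingCat.of k)) p)^[n] (𝟙 (Spec (CommRingCat.of k)))) =
          (fun g : X ⟶ X => g ≫ FrobSch.frob X p)^[n] (𝟙 X) ∧
        v ≫ pullback.fst fX ((fun g : Spec (CommRingCat.of k) ⟶ Spec (CommRingCat.of k) => g ≫ FrobSch.frob (Spec (CommRingCat.of k)) p)^[n] (𝟙 (Spec (CommRingCat.of k)))) ≫ u =
          (fun g : Y ⟶ Y => g ≫ FrobSch.frob Y p)^[n] (𝟙 Y) := by
  have hXs : X.IsSeparated := ⟨by
    rw [← terminal.comp_from fX]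
    infer_instance⟩
  have hYs : Y.IsSeparated := ⟨by
    rw [← terminal.comp_from fY]
    infer_instance⟩
  have hint : IsIntegralHom u := Groth.Agent.FlatA.UnivHomeo.isIntegralHom_of_isUnivHomeo huniv
  have hinj : UniversallyInjective u := Groth.Agent.FlatA.UnivHomeo.universallyInjective_of_isUnivHomeo huniv
  have hsurj : Surjective u := ((Groth.Agent.FlatA.UnivHomeo.isUnivHomeo_iff u).mp huniv).2.2
  have hlft : LocallyOfFiniteType u := by
    have : LocallyOfFiniteType (u ≫ fY) := by rw [hu]; infer_instance
    exact locallyOfFiniteType_of_comp u fY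
  have hpi := K363.UHFactor.isPurelyInseparable_ff u e
  have hfin := K322.FrobTwist.finite_functionField u e (by
    let _ : Algebra Y.functionField X.functionField := (K425.GenEtale.ffMap u e).toAlgebra
    exact hpi.isIntegral.isAlgebraic)
  have hexp : ExpChar Y.functionField p := K363.UHFactor.expChar_functionField Y p
  obtain ⟨n, hn, hpow⟩ : ∃ n : ℕ, @Module.finrank Y.functionField X.functionField _ _
      (K425.GenEtale.ffMap u e).toAlgebra.toModule = p ^ n ∧
      ∀ b : X.functionField, ∃ c : Y.functionField, K425.GenEtale.ffMap u e c = b ^ p ^ n := by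
    let _ : Algebra Y.functionField X.functionField := (K425.GenEtale.ffMap u e).toAlgebra
    have : IsPurelyInseparable Y.functionField X.functionField := hpi
    have : FiniteDimensional Y.functionField X.functionField := hfin
    obtain ⟨n, hn⟩ := IsPurelyInseparable.finrank_eq_pow Y.functionField X.functionField p
    exact ⟨n, hn, K363.UHFactor.pow_mem_of_finrank p hn⟩
  refine ⟨n, hn, ?_⟩
  obtain ⟨w, hw⟩ := K363.UHFactor.exists_factor u p huniv hY e n hpow
  rw [K363.UHFactor.iterate_eq, K363.UHFactor.iterate_eq, K363.UHFactor.iterate_eq]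
  have hepi : ∀ {Z : Scheme.{u}} [Z.IsSeparated] (a b : Y ⟶ Z), u ≫ a = u ≫ b → a = b := by
    intro Z _ a b hab
    exact ext_of_isDominant u hab
  have hc : w ≫ fX = fY ≫ FrobSch.frobIter (Spec (CommRingCat.of k)) p n := by
    apply hepi
    rw [← Category.assoc, hw, K865.FrobIter.frobIter_comp, ← Category.assoc, hu]
  have hwu : w ≫ u = FrobSch.frobIter Y p n := by
    apply hepi
    rw [← Category.assoc, hw, K865.FrobIter.frobIter_comp]
  refine ⟨pullback.lift w fY hc, ?_, pullback.lift_snd _ _ _, ?_, ?_⟩
  · apply Groth.Agent.FlatA.UnivHomeo.isUnivHomeo_of_precomp u _ _ huniv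
    apply Groth.Agent.FlatA.UnivHomeo.isUnivHomeo_of_postcomp _ (pullback.fst fX _)
    · rw [Category.assoc, pullback.lift_fst, hw]
      exact K363.UHFactor.frobIter_isUnivHomeo X p n
    · exact Groth.Agent.FlatA.UnivHomeo.isUnivHomeo_of_isPullback
        (IsPullback.of_hasPullback fX _).flip (K363.UHFactor.frobIter_isUnivHomeo _ p n)
  · rw [pullback.lift_fst, hw]
  · rw [pullback.lift_fst_assoc, hwu]

end Groth.Agent.S19240
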