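import Groth.Statements.S19241
import Groth.Agent.Cone.K859.Aff
import Groth.Agent.S5029
import Groth.Agent.Mor.K386.HQP
import Groth.Agent.S0824
-- import your own Groth.Agent.* helpers here

set_option autoImplicit false
universe u
open Cone

namespace Groth.Agent.S19241

open CategoryTheory AlgebraicGeometry in
/-- Let k be a perfect field of characteristic p > 0, X₀ a smooth, proper and geometrically connected
k-scheme of dimension d, and L a very ample invertible O_{X₀}-module (the pullback of O(1) along an
immersion into some projective space over k), with inverse L'. Let V = V(L) = Spec(Sym L) be the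
line bundle of L and C = Spec Γ(V, O_V) the affine cone of (X₀, L), so that Γ(C, O_C) = ⊕_{n ≥ 0}
H⁰(X₀, L^{⊗n}). Then C is Cohen–Macaulay (every local ring of C is a Cohen–Macaulay local ring) if
and only if H^i(X₀, L^{⊗n}) = 0 for every integer n (positive powers of L and of L') and every i
with 1 ≤ i ≤ d − 1. (The source states this for the projective cone Proj(S[z]) of (X₀, L) and under
an additional vanishing hypothesis on ω_{X₀} ⊗ L^{⊗n} which is not used for this assertion; the
projective cone contains C as an open subscheme and is smooth away from the vertex of C, so the two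
Cohen–Macaulay conditions agree.) -/
theorem result
    (p : ℕ) [Fact p.Prime] (k : Type u) [Field k] [CharP k p] [PerfectField k]
    (X₀ : Scheme.{u}) (f : X₀ ⟶ Spec (CommRingCat.of k)) [Smooth f] [IsProper f] [GeometricallyConnected f]
    (d : ℕ) (hd : topologicalKrullDim X₀ = d)
    (L L' : X₀.Modules) (hL : PicF.IsInvertible L) (hLq : Coh.IsQCoh L) (hva : RelAmple.IsRelVeryAmplePn f L)
    (hinv : Nonempty (CohB1.tensorMod L L' ≅ Coh.structureModule X₀))
    (𝒜 : RelSpec.QCAlg X₀) (jL : L ⟶ 𝒜.toModule) (hA : RelSpec.IsSymAlg L 𝒜 jL) :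
    (∀ c : Spec Γ(𝒜.spec, ⊤), LocCoh.IsCohenMacaulayLocalRing ((Spec Γ(𝒜.spec, ⊤)).presheaf.stalk c)) ↔
      ∀ (n i : ℕ), 1 ≤ i → i + 1 ≤ d →
        Subsingleton (Coh.HH X₀ (CohB1.tensorPow L n) i) ∧ Subsingleton (Coh.HH X₀ (CohB1.tensorPow L' n) i) := by
  obtain ⟨θ⟩ := hinv
  have hL' : PicF.IsInvertible L' := Groth.Agent.VarietyA.AmpleNegPow.isInvertible_of_inv hL θ
  obtain ⟨j0, ⟨B⟩⟩ := Groth.Agent.Cone.K859.Geo.exists_lineBdl hLq hA
  have hamp : RelAmple.IsRelAmple f L := K386.HQP.isRelAmple_of_isRelVeryAmplePn hL hva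
  have hsm : Smooth 𝒜.π := Groth.Agent.S5029.result L hLq (Groth.Agent.Ega2.QCohLocal.isFinLocFree_of_rank (Groth.Agent.Ega2.QCohLocal.isFinLocFreeOfRank_one_iff.2 hL)) 𝒜 jL hA
  refine (Groth.Agent.Cone.K859.Aff.main f hL hL' θ.hom hamp B d hd).trans ?_
  constructor
  · intro h n i hi hid
    refine ⟨h i hi hid (Int.ofNat n), ?_⟩
    cases n with
    | zero => exact h i hi hid (Int.ofNat 0)
    | succ n => exact h i hi hid (Int.negSucc n)
  · intro h i hi hid n
    cases n with
    | ofNat n => exact (h n i hi hid).1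
    | negSucc n => exact (h (n + 1) i hi hid).2

end Groth.Agent.S19241
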