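import Groth.Statements.S19242
import Groth.Agent.Cone.K859.Ctr
import Groth.Agent.S0028
-- import your own Groth.Agent.* helpers here

set_option autoImplicit false
universe u
open Cone

namespace Groth.Agent.S19242

open CategoryTheory CategoryTheory.Limits AlgebraicGeometry in
/-- Let k be a perfect field of characteristic p > 0, X a proper k-scheme which is smooth of relative
dimension d over k, ω_X a d-th exterior power of Ω_{X/k}, and L an ample invertible O_X-module. For
an invertible module M call (C, q, ε) a contractor of the zero section of V = V(M) = Spec(Sym M)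
(with Sym M realised as a quasi-coherent graded algebra with degree-zero part O_X, its augmentation
and its vertex section j₀ : X ⟶ V) when C is separated and of finite type over k, ε is a k-rational
point of C, q : V ⟶ C is a proper k-morphism with j₀ ≫ q = (X ⟶ Spec k) ≫ ε, and q restricts on the
open complement of j₀(X) to an open immersion with image the complement of ε. Then the following are
equivalent: (1) for every n ≥ 1, every contractor (C, q, ε) of the zero section of V(L^{⊗n}) and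
every (d+1)-st exterior power ω_V of the differentials of V(L^{⊗n}) over k, the higher direct images
R^i q_* ω_V vanish (as abelian sheaves) for all i ≥ 1; (2) H^i(X, ω_X ⊗ L^{⊗n}) = 0 for all i ≥ 1
and all n ≥ 1. (Stated for X of pure relative dimension d so that the canonical sheaves are top
exterior powers of the differentials; the source has X proper and smooth. The contractor C is not
required to be quasi-projective over k, although all schemes in this part of the source are; the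
proof of (2) ⇒ (1) does not use it.) -/
theorem result
    (p : ℕ) [Fact p.Prime] (k : Type u) [Field k] [CharP k p] [PerfectField k]
    (X : Scheme.{u}) (f : X ⟶ Spec (CommRingCat.of k)) [IsProper f] (d : ℕ) [SmoothOfRelativeDimension d f]
    (ωX : X.Modules) (hω : Canon.IsTopDiff f d ωX)
    (L : X.Modules) (hL : CohB1.IsAmple L) (hLq : Coh.IsQCoh L) :
    (∀ (n : ℕ), 1 ≤ n →
      ∀ (𝒜 : RelProj.QCGrAlg X) (jL : CohB1.tensorPow L n ⟶ 𝒜.toModule),
        RelProj.IsGrSymAlg (CohB1.tensorPow L n) 𝒜 jL → RelCone.StrZeroBij 𝒜 →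
      ∀ (aug : 𝒜.toQCAlg ⟶ RelSpec.QCAlg.unit X), RelCone.IsAugmentation 𝒜 aug →
      ∀ (j₀ : X ⟶ 𝒜.toQCAlg.spec), RelCone.IsVertex 𝒜 aug j₀ →
      ∀ (V₀ : 𝒜.toQCAlg.spec.Opens), (V₀ : Set 𝒜.toQCAlg.spec) = (Set.range j₀)ᶜ →
      ∀ (ωV : 𝒜.toQCAlg.spec.Modules), Canon.IsTopDiff (𝒜.toQCAlg.π ≫ f) (d + 1) ωV →
      ∀ (C : Scheme.{u}) (g : C ⟶ Spec (CommRingCat.of k)) (ε : Spec (CommRingCat.of k) ⟶ C)
        (q : 𝒜.toQCAlg.spec ⟶ C),
        IsSeparated g → LocallyOfFiniteType g → ε ≫ g = 𝟙 _ → q ≫ g = 𝒜.toQCAlg.π ≫ f → j₀ ≫ q = f ≫ ε →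
        IsProper q → IsOpenImmersion (V₀.ι ≫ q) → Set.range (V₀.ι ≫ q) = (Set.range ε)ᶜ →
      ∀ i : ℕ, 1 ≤ i → IsZero ((Coh.RpushAb q i).obj (Coh.toAb ωV))) ↔
    (∀ (n i : ℕ), 1 ≤ n → 1 ≤ i →
      Subsingleton (Coh.HH X (CohB1.tensorMod ωX (CohB1.tensorPow L n)) i)) := by
  have hXc : CompactSpace X := QuasiCompact.compactSpace_of_compactSpace f
  have hXs : QuasiSeparatedSpace X := quasiSeparatedSpace_of_quasiSeparated f
  have hpow : ∀ n : ℕ, PicF.IsInvertible (CohB1.tensorPow L n) := fun n =>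
    (Groth.Agent.Fdesc.LocGen.isInvertible_iff _).2 fun x => by
      obtain ⟨W, e, hxW, he⟩ := (Groth.Agent.Fdesc.LocGen.isInvertible_iff L).1 hL.1 x
      exact ⟨W, Groth.Agent.Fdesc.LocGen.pow e n, hxW, he.pow n⟩
  have hpowq : ∀ n : ℕ, Coh.IsQCoh (CohB1.tensorPow L n) := fun n =>
    Groth.Agent.Ega2.QCohLocal.isQCoh_of_isInvertible (hpow n)
  have hpowa : ∀ n : ℕ, 1 ≤ n → CohB1.IsAmple (CohB1.tensorPow L n) := fun n hn =>
    Groth.Agent.Divis.NormAmple.isAmple_tensorPow hL hn
  constructor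
  · intro H n i hn hi
    obtain ⟨𝒜, jL, hGr, h0, aug, haug, j₀, hj₀⟩ := Groth.Agent.Cone.K859.GrAug.exists_data (hpowq n)
    have B := K30.LBdl.ofSym (hpowq n) hGr aug haug j₀ hj₀
    rcases isEmpty_or_nonempty X with hX | hX
    · have hq : Coh.IsQCoh (CohB1.tensorMod ωX (CohB1.tensorPow L n)) := by
        have hωq : Coh.IsQCoh ωX := K583.ExtPowPull.isQCoh_of_isExtPow
          (Groth.Agent.Vancyc.H878.OmegaRank.isQCoh_omega f) hω
        exact @Groth.Agent.Ega1.TensorRestrict.isQCoh_tensorMod _ _ _ hωq (hpowq n)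
      have h1 : IsAffineHom f := by
        have : IsAffine X := inferInstance
        exact isAffineHom_of_isAffine _
      exact (Groth.Agent.Krr.H454.Bridge.isZero_RpushAb_iff_of_isAffine f hq i).1
        (Groth.Agent.S0028.result f _ i hi)
    have hcl : IsClosed (Set.range j₀) := by
      have : IsClosedImmersion j₀ := by
        have h1 : IsClosedImmersion (j₀ ≫ 𝒜.toQCAlg.π) := by
          rw [hj₀.comp_π]
          infer_instance
        exact IsClosedImmersion.of_comp j₀ 𝒜.toQCAlg.π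
      exact j₀.isClosedEmbedding.isClosed_range
    let V₀ : 𝒜.toQCAlg.spec.Opens := ⟨(Set.range j₀)ᶜ, hcl.isOpen_compl⟩
    obtain ⟨ωV, hωV⟩ := Groth.Agent.Dual.H366.ExtQCoh.exists_isExtPow (d + 1)
      (Groth.Agent.Vancyc.H878.OmegaRank.isQCoh_omega (𝒜.toQCAlg.π ≫ f))
    have hωVq : Coh.IsQCoh ωV := K583.ExtPowPull.isQCoh_of_isExtPow
      (Groth.Agent.Vancyc.H878.OmegaRank.isQCoh_omega _) hωV
    obtain ⟨C, g, ε, q, hg, hc, hεg, hqg, hjq, hq, h1, h2, h3⟩ := K30.Grauert5.exists_proper_contraction B f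
      (Groth.Agent.Ega2.Ample.locGen_top_iff.2 (hpow n))
      (Groth.Agent.Ega2.RelAmp.isRelAmple_iff_isAmple.2 (hpowa n hn)) V₀ rfl
    have hC : IsAffine C := isAffine_of_isAffineHom g
    have hinj : Function.Injective q.appTop.hom := by
      rw [injective_iff_map_eq_zero]
      intro b hb
      refine hc.inj ⊤ (isAffineOpen_top _) b hb ?_
      have h5 : f.appTop.hom (ε.appTop.hom b) = 0 := by
        have h6 : (j₀ ≫ q).appTop = (f ≫ ε).appTop := by rw [hjq]
        rw [Scheme.Hom.comp_appTop, Scheme.Hom.comp_appTop] at h6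
        have h7 := congr($h6 b)
        refine h7.symm.trans ?_
        change j₀.appTop.hom (q.appTop.hom b) = 0
        rw [hb, map_zero]
      have h7 : Nonempty ((⊤ : X.Opens) : Scheme.{u}) := ⟨⟨hX.some, trivial⟩⟩
      have h8 : Nontrivial Γ(X, ⊤) := inferInstance
      let e : Γ(Spec (CommRingCat.of k), ⊤) ≃+* k := (Scheme.ΓSpecIso (CommRingCat.of k)).commRingCatIsoToRingEquiv
      let φ : k →+* Γ(X, ⊤) := f.appTop.hom.comp (e.symm : k →+* Γ(Spec (CommRingCat.of k), ⊤))
      have h9 : φ (e (ε.appTop.hom b)) = 0 := by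
        change f.appTop.hom (e.symm (e (ε.appTop.hom b))) = 0
        rw [e.symm_apply_apply, h5]
      have h10 : e (ε.appTop.hom b) = 0 := φ.injective (h9.trans (map_zero φ).symm)
      exact e.injective (h10.trans (map_zero e).symm)
    have hN : IsNoetherianRing Γ(Spec (CommRingCat.of k), ⊤) :=
      isNoetherianRing_of_ringEquiv _ (Scheme.ΓSpecIso (CommRingCat.of k)).symm.commRingCatIsoToRingEquiv
    have hsm : Smooth 𝒜.toQCAlg.π := Groth.Agent.S5029.result (CohB1.tensorPow L n) (hpowq n)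
      (Groth.Agent.Ega2.QCohLocal.isFinLocFree_of_rank (Groth.Agent.Ega2.QCohLocal.isFinLocFreeOfRank_one_iff.2 (hpow n)))
      𝒜.toQCAlg jL hGr.1
    have hqgf : LocallyOfFiniteType (q ≫ g) := by
      rw [hqg]
      infer_instance
    have hgf : LocallyOfFiniteType g := Groth.Agent.Cone.K859.Ctr.locallyOfFiniteType_of_proper q hinj g
    have key := H n hn 𝒜 jL hGr h0 aug haug j₀ hj₀ V₀ rfl ωV hωV C g ε q inferInstance hgf hεg hqg hjq hq h1 h3 i hi
    have h4 := (Groth.Agent.Krr.H454.Bridge.isZero_RpushAb_iff_of_isAffine q hωVq i).1 key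
    have h5 := (Groth.Agent.Cone.K859.Ctr.subsingleton_HH_canonical_iff f d (hpow n) (hpowq n) 𝒜.toQCAlg jL
      hGr.1 hω hωV i).1 h4 0
    have h6 : Nonempty (CohB1.tensorMod ωX (CohB1.tensorPow (CohB1.tensorPow L n) (0 + 1)) ≅
        CohB1.tensorMod ωX (CohB1.tensorPow L n)) := by
      rw [← Groth.Agent.Fga.PicMon.mc_eq_iff, Groth.Agent.Fga.PicMon.mc_tensor, Groth.Agent.Fga.PicMon.mc_tensor,
        Groth.Agent.Fga.PicMon.mc_tensorPow, Groth.Agent.Fga.PicMon.mc_tensorPow, zero_add, pow_one]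
    obtain ⟨e⟩ := h6
    exact (Groth.Agent.Cone.K859.Dec.subsingleton_HH_iff_of_iso e i).1 h5
  · intro H n hn 𝒜 jL hGr h0 aug haug j₀ hj₀ V₀ hV₀ ωV hωV C g ε q hgs hgf hεg hqg hjq hq ho hr i hi
    have B := K30.LBdl.ofSym (hpowq n) hGr aug haug j₀ hj₀
    have hωVq : Coh.IsQCoh ωV := K583.ExtPowPull.isQCoh_of_isExtPow
      (Groth.Agent.Vancyc.H878.OmegaRank.isQCoh_omega _) hωV
    obtain ⟨C', q', u, hC', hq', hu, rfl⟩ := Groth.Agent.Cone.K859.Ctr.exists_factor f (hpowa n hn) B g ε q hjq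
    obtain ⟨e⟩ := Groth.Agent.S4457.result q' u ωV i
    have h1 : Subsingleton (Coh.HH 𝒜.toQCAlg.spec ωV i) := by
      refine (Groth.Agent.Cone.K859.Ctr.subsingleton_HH_canonical_iff f d (hpow n) (hpowq n) 𝒜.toQCAlg jL
        hGr.1 hω hωV i).2 fun m => ?_
      have h6 : Nonempty (CohB1.tensorMod ωX (CohB1.tensorPow (CohB1.tensorPow L n) (m + 1)) ≅
          CohB1.tensorMod ωX (CohB1.tensorPow L (n * (m + 1)))) := by
        rw [← Groth.Agent.Fga.PicMon.mc_eq_iff, Groth.Agent.Fga.PicMon.mc_tensor, Groth.Agent.Fga.PicMon.mc_tensor,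
          Groth.Agent.Fga.PicMon.mc_tensorPow, Groth.Agent.Fga.PicMon.mc_tensorPow,
          Groth.Agent.Fga.PicMon.mc_tensorPow, pow_mul]
      obtain ⟨e'⟩ := h6
      exact (Groth.Agent.Cone.K859.Dec.subsingleton_HH_iff_of_iso e' i).2
        (H (n * (m + 1)) i (Nat.mul_pos hn (Nat.succ_pos m)) hi)
    have h2 := (Groth.Agent.Krr.H454.Bridge.isZero_RpushAb_iff_of_isAffine q' hωVq i).2 h1
    exact ((Coh.pushAb u).map_isZero h2).of_iso e

end Groth.Agent.S19242
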