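import Groth.Statements.S19243
import Groth.Agent.CohTop.K313.RlimMod

set_option autoImplicit false
universe u
open CohTop

namespace Groth.Agent.S19243

open CategoryTheory CategoryTheory.Limits TopologicalSpace Opposite in
/-- Let X be a topological space with a sheaf of (not necessarily commutative) rings R, E = (E_n)_{n ≥
0} an inverse system of R-modules indexed by the natural numbers and B a basis of the topology of X.
Write R^i lim for the i-th right derived functor of the limit functor from ℕ-indexed inverse systems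
of R-modules to R-modules (the limit functor is additive and the category of inverse systems has
injective resolutions; both facts are carried as instance hypotheses). (1) If H^i(U, E_n) = 0 for
every U in B, every n and every i ≥ 1, then R^i lim E = 0 for every i ≥ 2. (2) If in addition, for
every U in B, the inverse system of abelian groups (H^0(U, E_n))_n satisfies the Mittag-Leffler
condition, then R^i lim E = 0 for every i ≥ 1. (The source states this for a ringed space, with a
commutative structure sheaf, and indexes the system by the integers n ≥ 1; commutativity plays no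
role.) -/
theorem result
    (X : TopCat.{u}) (R : Sheaf (Opens.grothendieckTopology X) RingCat.{u})
    [(lim : (ℕᵒᵖ ⥤ SheafOfModules.{u} R) ⥤ SheafOfModules.{u} R).Additive]
    [HasInjectiveResolutions (ℕᵒᵖ ⥤ SheafOfModules.{u} R)]
    (E : ℕᵒᵖ ⥤ SheafOfModules.{u} R) (B : Set (Opens X)) (hB : Opens.IsBasis B)
    (ha : ∀ U ∈ B, ∀ (n i : ℕ), 1 ≤ i →
      Subsingleton (CohTop.HU ((SheafOfModules.toSheaf R).obj (E.obj (op n))) i U)) :
    (∀ i : ℕ, 2 ≤ i →
      IsZero (((lim : (ℕᵒᵖ ⥤ SheafOfModules.{u} R) ⥤ SheafOfModules.{u} R).rightDerived i).obj E)) ∧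
    ((∀ U ∈ B, (E ⋙ SheafOfModules.toSheaf R ⋙
        (sheafSections (Opens.grothendieckTopology X) AddCommGrpCat.{u}).obj (op U) ⋙
          forget AddCommGrpCat.{u}).IsMittagLeffler) →
      ∀ i : ℕ, 1 ≤ i →
        IsZero (((lim : (ℕᵒᵖ ⥤ SheafOfModules.{u} R) ⥤ SheafOfModules.{u} R).rightDerived i).obj E)) := by
  open K313.RlimMod Groth.Agent in
  have hA : Acy R B E := fun U hU n i x =>
    have := ha U hU n (i + 1) (Nat.succ_pos i)
    Subsingleton.elim (α := CohTop.HU ((SheafOfModules.toSheaf R).obj (E.obj (op n))) (i + 1) U) x 0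
  -- the class of systems which are acyclic on the basis with vanishing `lim¹`
  have key : ∀ (F : ℕᵒᵖ ⥤ SheafOfModules.{u} R), Acy R B F → Lim1 R B F → ∀ i : ℕ,
      IsZero (((lim : (ℕᵒᵖ ⥤ SheafOfModules.{u} R) ⥤ SheafOfModules.{u} R).rightDerived (i + 1)).obj F) := by
    intro F hF hF' i
    refine CohtopA.RDerVanish.isZero_rightDerived_succ_of_class lim
      (fun F => Acy R B F ∧ Lim1 R B F) ?_ ⟨hF, hF'⟩ i
    rintro S hS ⟨h1, h2⟩ hI
    exact ⟨⟨acy_right hS h1, lim1_right hS h1⟩, shortExact_lim hS hB h1 h2⟩
  constructor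
  · intro i hi
    obtain ⟨j, rfl⟩ : ∃ j, i = j + 1 + 1 := ⟨i - 2, by omega⟩
    let I : InjectiveResolution E := injectiveResolution E
    have hm : Mono (I.ι.f 0) := inferInstanceAs (Mono (I.ι.f 0))
    let S : ShortComplex (ℕᵒᵖ ⥤ SheafOfModules.{u} R) :=
      ShortComplex.mk (X₁ := E) (I.ι.f 0) (cokernel.π (I.ι.f 0)) (cokernel.condition _)
    have hS : S.ShortExact :=
      { exact := ShortComplex.exact_cokernel _
        mono_f := hm
        epi_g := inferInstanceAs (Epi (cokernel.π _)) }
    have hI : Injective S.X₂ := I.injective 0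
    refine EtpbcB.RDerLES.isZero_left lim hS (j + 1) (key S.X₃ (acy_right hS hA)
      (lim1_right hS hA) j) ?_
    exact Functor.isZero_rightDerived_obj_injective_succ _ (j + 1) S.X₂
  · intro hML i hi
    obtain ⟨j, rfl⟩ : ∃ j, i = j + 1 := ⟨i - 1, by omega⟩
    refine key E hA (fun U hU y => ?_) j
    exact exists_of_isMittagLeffler (E ⋙ SheafOfModules.toSheaf R ⋙
        (sheafSections (Opens.grothendieckTopology X) AddCommGrpCat.{u}).obj (op U)) (hML U hU) y

end Groth.Agent.S19243
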