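import Groth.Statements.S19244
import Mathlib.CategoryTheory.Abelian.SerreClass.Localization

set_option autoImplicit false
universe v v' u u'
open HomAlg3

namespace Groth.Agent.S19244

section

open CategoryTheory CategoryTheory.Limits

variable {A : Type u} [Category.{v} A] [Abelian A]

/-- A morphism with bounded torsion kernel and cokernel has a one-sided inverse up to a nonzero
integer. -/
theorem exists_comp_eq_zsmul {Y Y' : A} (s : Y ⟶ Y') (a b : ℤ) (ha : a • (𝟙 (kernel s)) = 0)
    (hb : b • (𝟙 (cokernel s)) = 0) : ∃ t : Y' ⟶ Y, s ≫ t = (a * b) • 𝟙 Y := by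
  have h1 : (b • 𝟙 Y') ≫ cokernel.π s = 0 := by
    have : (b • 𝟙 Y') ≫ cokernel.π s = cokernel.π s ≫ (b • 𝟙 (cokernel s)) := by
      rw [Preadditive.zsmul_comp, Preadditive.comp_zsmul, Category.id_comp, Category.comp_id]
    rw [this, hb, comp_zero]
  let u : Y' ⟶ Abelian.image s := kernel.lift (cokernel.π s) (b • 𝟙 Y') h1
  have hu : u ≫ Abelian.image.ι s = b • 𝟙 Y' := kernel.lift_ι _ _ _
  have h2 : kernel.ι s ≫ (a • 𝟙 Y) = 0 := by
    have : kernel.ι s ≫ (a • 𝟙 Y) = (a • 𝟙 (kernel s)) ≫ kernel.ι s := by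
      rw [Preadditive.zsmul_comp, Preadditive.comp_zsmul, Category.id_comp, Category.comp_id]
    rw [this, ha, zero_comp]
  let v₀ : Abelian.coimage s ⟶ Y := cokernel.desc (kernel.ι s) (a • 𝟙 Y) h2
  have hv₀ : Abelian.coimage.π s ≫ v₀ = a • 𝟙 Y := cokernel.π_desc _ _ _
  let v : Abelian.image s ⟶ Y := (Abelian.coimageIsoImage s).inv ≫ v₀
  have hv : Abelian.factorThruImage s ≫ v = a • 𝟙 Y := by
    have h3 : Abelian.factorThruImage s ≫ (Abelian.coimageIsoImage s).inv = Abelian.coimage.π s := by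
      rw [Iso.comp_inv_eq, ← cancel_mono (Abelian.image.ι s)]
      simp
    rw [← Category.assoc, h3, hv₀]
  refine ⟨u ≫ v, ?_⟩
  have h4 : s ≫ u = b • Abelian.factorThruImage s := by
    rw [← cancel_mono (Abelian.image.ι s), Category.assoc, hu, Preadditive.comp_zsmul,
      Category.comp_id, Preadditive.zsmul_comp, Abelian.image.fac]
  rw [← Category.assoc, h4, Preadditive.zsmul_comp, hv, ← mul_smul, mul_comm]

end

open CategoryTheory in
/-- Let A be an abelian category and let P be the class of bounded-torsion objects of A, those X with n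
• 𝟙_X = 0 for some nonzero integer n; assume P is a Serre class. Let L : A ⥤ D be an additive
functor to a preadditive category exhibiting D as the localization of A at the morphisms whose
kernel and cokernel are in P (so D is the quotient category A_ℚ = A ⧸ A_{b-tor}; the source assumes
A well-powered, which guarantees that this quotient exists). Then for all objects X, Y of A: (1) for
every nonzero integer n, multiplication by n is bijective on Hom_D(L X, L Y), so that this group is
naturally a ℚ-vector space; (2) a morphism f : X ⟶ Y satisfies L f = 0 if and only if n • f = 0 for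
some nonzero integer n; (3) for every g : L X ⟶ L Y there are a nonzero integer n and f : X ⟶ Y with
n • g = L f. Equivalently, the natural map Hom_A(X, Y) ⊗_ℤ ℚ → Hom_D(L X, L Y) is an isomorphism. -/
theorem result
    {A : Type u} [Category.{v} A] [Abelian A] {D : Type u'} [Category.{v'} D] [Preadditive D]
    (P : ObjectProperty A) (hP : ∀ X : A, P X ↔ ∃ n : ℤ, n ≠ 0 ∧ n • (𝟙 X) = 0) [P.IsSerreClass]
    (L : A ⥤ D) [L.Additive] [L.IsLocalization P.isoModSerre] (X Y : A) :
    (∀ n : ℤ, n ≠ 0 → Function.Bijective (fun g : L.obj X ⟶ L.obj Y => n • g)) ∧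
    (∀ f : X ⟶ Y, L.map f = 0 ↔ ∃ n : ℤ, n ≠ 0 ∧ n • f = 0) ∧
    (∀ g : L.obj X ⟶ L.obj Y, ∃ (n : ℤ) (f : X ⟶ Y), n ≠ 0 ∧ n • g = L.map f) := by
  have hn : ∀ (X : A) (n : ℤ), n ≠ 0 → P.isoModSerre (n • 𝟙 X) := by
    intro X n hn
    constructor
    · change P (Limits.kernel (n • 𝟙 X))
      rw [hP]
      refine ⟨n, hn, ?_⟩
      rw [← cancel_mono (Limits.kernel.ι (n • 𝟙 X)), Preadditive.zsmul_comp, Category.id_comp,
        Limits.zero_comp]
      have := Limits.kernel.condition (n • 𝟙 X)
      rwa [Preadditive.comp_zsmul, Category.comp_id] at this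
    · change P (Limits.cokernel (n • 𝟙 X))
      rw [hP]
      refine ⟨n, hn, ?_⟩
      rw [← cancel_epi (Limits.cokernel.π (n • 𝟙 X)), Preadditive.comp_zsmul, Category.comp_id,
        Limits.comp_zero]
      have := Limits.cokernel.condition (n • 𝟙 X)
      rwa [Preadditive.zsmul_comp, Category.id_comp] at this
  have hbij : ∀ n : ℤ, n ≠ 0 → Function.Bijective (fun g : L.obj X ⟶ L.obj Y => n • g) := by
    intro n hn0
    haveI : IsIso (L.map (n • 𝟙 X)) := Localization.inverts L P.isoModSerre _ (hn X n hn0)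
    have h1 : L.map (n • 𝟙 X) = n • 𝟙 (L.obj X) := by
      rw [Functor.map_zsmul, CategoryTheory.Functor.map_id]
    have h2 : ∀ g : L.obj X ⟶ L.obj Y, n • g = L.map (n • 𝟙 X) ≫ g := fun g => by
      rw [h1, Preadditive.zsmul_comp, Category.id_comp]
    constructor
    · intro g g' h
      change n • g = n • g' at h
      rw [h2, h2] at h
      exact (cancel_epi _).1 h
    · intro g
      refine ⟨inv (L.map (n • 𝟙 X)) ≫ g, ?_⟩
      change n • _ = g
      rw [h2, IsIso.hom_inv_id_assoc]
  refine ⟨hbij, fun f => ⟨fun h => ?_, ?_⟩, fun g => ?_⟩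
  · have h1 : L.map f = L.map 0 := by rw [h, Functor.map_zero]
    obtain ⟨Z, s, hs, e⟩ := (MorphismProperty.map_eq_iff_postcomp L P.isoModSerre f 0).1 h1
    rw [Limits.zero_comp] at e
    have h2 := (ObjectProperty.exists_comp_isoModSerre_eq_zero_iff P f).1 ⟨Z, s, hs, e⟩
    rw [hP] at h2
    obtain ⟨n, hn0, h3⟩ := h2
    refine ⟨n, hn0, ?_⟩
    have h4 : n • f = Abelian.factorThruImage f ≫ (n • 𝟙 (Abelian.image f)) ≫ Abelian.image.ι f := by
      rw [Preadditive.zsmul_comp, Category.id_comp, Preadditive.comp_zsmul, Abelian.image.fac]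
    rw [h4, h3, Limits.zero_comp, Limits.comp_zero]
  · rintro ⟨n, hn0, h⟩
    apply (hbij n hn0).1
    change n • L.map f = n • 0
    rw [← Functor.map_zsmul, h, Functor.map_zero, smul_zero]
  · obtain ⟨φ, rfl⟩ := Localization.exists_leftFraction L P.isoModSerre g
    obtain ⟨a, ha0, ha⟩ := (hP _).1 φ.hs.1
    obtain ⟨b, hb0, hb⟩ := (hP _).1 φ.hs.2
    obtain ⟨t, ht⟩ := exists_comp_eq_zsmul φ.s a b ha hb
    refine ⟨a * b, φ.f ≫ t, mul_ne_zero ha0 hb0, ?_⟩
    haveI : IsIso (L.map φ.s) := Localization.inverts L P.isoModSerre _ φ.hs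
    have h1 : L.map t = inv (L.map φ.s) ≫ ((a * b) • 𝟙 (L.obj Y)) := by
      rw [IsIso.eq_inv_comp, ← L.map_comp, ht, Functor.map_zsmul, CategoryTheory.Functor.map_id]
    rw [L.map_comp, h1, Preadditive.comp_zsmul, Category.comp_id, Preadditive.comp_zsmul]
    congr 1

end Groth.Agent.S19244
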