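import Groth.Statements.S19245
import Groth.Agent.LocCohZ.K287.Sect
import Groth.Agent.LocCohZ.K288.Sec

set_option autoImplicit false
universe u
open LocCohZ

namespace Groth.Agent.S19245

open CategoryTheory Opposite TopologicalSpace K288.Sec in
/-- Sections over `W` vanishing on `W ⊓ U` extend to sections over `V` vanishing on `V ⊓ U`. -/
theorem exists_extend {X : TopCat.{u}} (A : CohTop.Ab X) [TopCat.Sheaf.IsFlasque A] (U : Opens X)
    {V W : Opens X} (h : W ≤ V) (s : A.obj.obj (op W)) (hs : rs A (inf_le_left : W ⊓ U ≤ W) s = 0) :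
    ∃ t : A.obj.obj (op V), rs A h t = s ∧ rs A (inf_le_left : V ⊓ U ≤ V) t = 0 := by
  have h1 : rs A (inf_le_left : W ⊓ (V ⊓ U) ≤ W) s = rs A (inf_le_right : W ⊓ (V ⊓ U) ≤ V ⊓ U) 0 := by
    have hle : W ⊓ (V ⊓ U) ≤ W ⊓ U := inf_le_inf_left W inf_le_right
    have h2 := congrArg (rs A hle) hs
    rw [rs_rs] at h2
    rw [map_zero] at h2 ⊢
    exact h2
  obtain ⟨t, ht1, ht2⟩ := exists_glue A (le_sup_left : W ≤ W ⊔ (V ⊓ U)) (le_sup_right : V ⊓ U ≤ W ⊔ (V ⊓ U))
    le_rfl s 0 h1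
  have hle : W ⊔ (V ⊓ U) ≤ V := sup_le h inf_le_left
  obtain ⟨y, hy⟩ := (AddCommGrpCat.epi_iff_surjective _).1
    (TopCat.Presheaf.IsFlasque.epi (F := A.obj) (homOfLE hle).op) t
  have hy' : rs A hle y = t := hy
  refine ⟨y, ?_, ?_⟩
  · rw [← ht1, ← hy', rs_rs]
  · rw [← ht2, ← hy', rs_rs]

open CategoryTheory TopologicalSpace in
/-- Let A be a flasque abelian sheaf on a topological space X and Z = X ∖ U the closed complement of an
open U. Then the sheaf Γ_Z(A) of sections of A supported in Z is flasque. (The source states the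
lemma for every family of supports Φ on a Noetherian topological space, where Γ_Φ(A) is the filtered
union of the Γ_Z(A), Z ∈ Φ; for a single closed Z no Noetherian hypothesis is needed.) -/
theorem result {X : TopCat.{u}} (A : CohTop.Ab X) [TopCat.Sheaf.IsFlasque A]
    (U : Opens X) : TopCat.Sheaf.IsFlasque ((LocCohZ.sectSuppF U).obj A) := by
  refine ⟨fun {V W} i => (AddCommGrpCat.epi_iff_surjective _).2 fun s => ?_⟩
  have h : W.unop ≤ V.unop := leOfHom i.unop
  obtain ⟨t, ht1, ht2⟩ := exists_extend A U h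
    (Groth.Agent.CohtopA.Sec.m ((Groth.Agent.LocCohZ.K287.Sect.κ U).app A) W.unop s)
    ((Groth.Agent.LocCohZ.K287.Sect.mem_range_κ_iff U A W.unop _).1 ⟨s, rfl⟩)
  obtain ⟨y, hy⟩ := (Groth.Agent.LocCohZ.K287.Sect.mem_range_κ_iff U A V.unop t).2 ht2
  refine ⟨y, Groth.Agent.LocCohZ.K287.Sect.κ_injective U A W.unop ?_⟩
  have h1 := Groth.Agent.CohtopA.Sec.m_r ((Groth.Agent.LocCohZ.K287.Sect.κ U).app A) h y
  rw [hy] at h1
  exact h1.trans ht1

end Groth.Agent.S19245
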