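import Groth.Statements.S19246
import Groth.Agent.CohTop.K313.Tower

set_option autoImplicit false
universe u
open CohTop

namespace Groth.Agent.S19246

open CategoryTheory CategoryTheory.Limits TopologicalSpace Opposite in
/-- Let X be a topological space and (M_n)_{n ≥ 0} an inverse system of abelian sheaves on X indexed by
the natural numbers, such that every M_n is flasque and every transition map M_{n+1} ⟶ M_n is an
epimorphism of sheaves with flasque kernel. Then the limit sheaf lim_n M_n is flasque. (The source's
statement is about flasque de Rham–Witt systems on a scheme, whose definition is exactly this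
condition on the underlying tower of abelian sheaves; the additional structure plays no role in the
assertion or its proof, so the row is stated for towers of abelian sheaves on any space.) -/
theorem result {X : TopCat.{u}} (M : ℕᵒᵖ ⥤ CohTop.Ab X) :
    (∀ n : ℕ, TopCat.Sheaf.IsFlasque (M.obj (op n))) →
      (∀ n : ℕ, Epi (M.map (homOfLE (Nat.le_succ n)).op)) →
      (∀ n : ℕ, TopCat.Sheaf.IsFlasque (kernel (M.map (homOfLE (Nat.le_succ n)).op) : CohTop.Ab X)) →
      TopCat.Sheaf.IsFlasque (limit M : CohTop.Ab X) := by
  intro hM he hk
  open Groth.Agent.CohtopA.Sec K313.Tower in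
  rw [isFlasque_iff]
  intro U V h y
  obtain ⟨t, ht, ht'⟩ := exists_seq (α := fun n => Γs (M.obj (op n)) U)
    (fun n t => r _ h t = m (limit.π M (op n)) V y)
    (fun n t t' => m (tr M n) U t' = t) (by
      haveI := hM 0
      exact surjective_r _ h _) (by
      intro n t ht
      haveI : Epi (tr M n) := he n
      obtain ⟨t', ht'⟩ := surjective_of_flasque_kernel (tr M n) (hk n) U t
      have hz : m (tr M n) V (r _ h t' - m (limit.π M (op (n + 1))) V y) = 0 := by
        rw [map_sub, m_r, ht', m_π_succ, ht, sub_self]
      obtain ⟨k, hk'⟩ := exists_kernel_section (tr M n) _ hz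
      haveI : TopCat.Sheaf.IsFlasque (kernel (tr M n) : CohTop.Ab X) := hk n
      obtain ⟨K, hK⟩ := surjective_r (kernel (tr M n) : CohTop.Ab X) h k
      refine ⟨t' - m (kernel.ι (tr M n)) U K, ?_, ?_⟩
      · rw [map_sub, ← m_r, hK, hk']
        abel
      · rw [map_sub, ht', ← m_comp, kernel.condition]
        exact sub_zero _)
  obtain ⟨z, hz⟩ := exists_section M U t ht'
  refine ⟨z, section_ext M V fun n => ?_⟩
  rw [m_r, hz, ht]

end Groth.Agent.S19246
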