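import Groth.Statements.S19247
import Groth.Agent.CohTop.K313.Tower

set_option autoImplicit false
universe u
open CohTop

namespace Groth.Agent.S19247

open CategoryTheory CategoryTheory.Limits TopologicalSpace Opposite in
/-- Let X be a topological space and S : 0 ⟶ M' ⟶ M ⟶ M'' ⟶ 0 a short exact sequence of ℕ-indexed
inverse systems of abelian sheaves on X (short exact in the abelian category of such systems, i.e.
levelwise), such that each of M', M, M'' is a flasque tower: every term is flasque and every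
transition map is an epimorphism of sheaves with flasque kernel. Then the induced map lim M ⟶ lim
M'' is an epimorphism of sheaves, so that, lim being left exact, the sequence 0 ⟶ lim M' ⟶ lim M ⟶
lim M'' ⟶ 0 is exact. (The source's statement is the exactness of lim on flasque de Rham–Witt
systems on a scheme; the de Rham–Witt structure plays no role, so the row is stated for towers of
abelian sheaves on any space.) -/
theorem result {X : TopCat.{u}}
    (S : ShortComplex (ℕᵒᵖ ⥤ CohTop.Ab X)) (hS : S.ShortExact) :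
    (∀ n : ℕ, TopCat.Sheaf.IsFlasque (S.X₁.obj (op n))) →
      (∀ n : ℕ, Epi (S.X₁.map (homOfLE (Nat.le_succ n)).op)) →
      (∀ n : ℕ, TopCat.Sheaf.IsFlasque (kernel (S.X₁.map (homOfLE (Nat.le_succ n)).op) : CohTop.Ab X)) →
    (∀ n : ℕ, TopCat.Sheaf.IsFlasque (S.X₂.obj (op n))) →
      (∀ n : ℕ, Epi (S.X₂.map (homOfLE (Nat.le_succ n)).op)) →
      (∀ n : ℕ, TopCat.Sheaf.IsFlasque (kernel (S.X₂.map (homOfLE (Nat.le_succ n)).op) : CohTop.Ab X)) →
    (∀ n : ℕ, TopCat.Sheaf.IsFlasque (S.X₃.obj (op n))) →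
      (∀ n : ℕ, Epi (S.X₃.map (homOfLE (Nat.le_succ n)).op)) →
      (∀ n : ℕ, TopCat.Sheaf.IsFlasque (kernel (S.X₃.map (homOfLE (Nat.le_succ n)).op) : CohTop.Ab X)) →
      Epi (limMap S.g) := by
  intro hf' he' hk' _ _ _ _ _ _
  open Groth.Agent.CohtopA.Sec K313.Tower in
  have hSn : ∀ n : ℕ, (S.map ((evaluation ℕᵒᵖ (CohTop.Ab X)).obj (op n))).ShortExact := fun n =>
    hS.map_of_exact _
  have hsurj : ∀ (n : ℕ) (U : Opens X), Function.Surjective (m (S.g.app (op n)) U) := fun n U =>
    have : TopCat.Sheaf.IsFlasque (S.map ((evaluation ℕᵒᵖ (CohTop.Ab X)).obj (op n))).X₁ := hf' n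
    surjective_m (hSn n) U
  have hex : ∀ (n : ℕ) (U : Opens X) (s : Γs (S.X₂.obj (op n)) U), m (S.g.app (op n)) U s = 0 →
      ∃ e : Γs (S.X₁.obj (op n)) U, m (S.f.app (op n)) U e = s := fun n U s hs =>
    exact_lift (hSn n) s hs
  refine epi_of_local _ fun U y x hx => ⟨U, le_rfl, ?_⟩
  obtain ⟨t, ht, ht'⟩ := exists_seq (α := fun n => Γs (S.X₂.obj (op n)) U)
    (fun n t => m (S.g.app (op n)) U t = m (limit.π S.X₃ (op n)) U y)
    (fun n t t' => m (tr S.X₂ n) U t' = t) (hsurj 0 U _) (by
      intro n t ht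
      obtain ⟨t', ht'⟩ := hsurj (n + 1) U (m (limit.π S.X₃ (op (n + 1))) U y)
      have hz : m (S.g.app (op n)) U (m (tr S.X₂ n) U t' - t) = 0 := by
        rw [map_sub, ht, ← m_comp, S.g.naturality, m_comp, ht', m_π_succ, sub_self]
      obtain ⟨e, he⟩ := hex n U _ hz
      have : Epi (tr S.X₁ n) := he' n
      obtain ⟨E, hE⟩ := surjective_of_flasque_kernel (tr S.X₁ n) (hk' n) U e
      refine ⟨t' - m (S.f.app (op (n + 1))) U E, ?_, ?_⟩
      · rw [map_sub, ht', ← m_comp]
        have : S.f.app (op (n + 1)) ≫ S.g.app (op (n + 1)) = 0 := by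
          rw [← NatTrans.comp_app, S.zero]; rfl
        rw [this]
        exact sub_zero _
      · rw [map_sub, ← m_comp, ← S.f.naturality, m_comp, hE, he]
        abel)
  obtain ⟨z, hz⟩ := exists_section S.X₂ U t ht'
  refine ⟨z, hx, section_ext S.X₃ U fun n => ?_⟩
  rw [← m_comp, limMap_π, m_comp, hz, ht, r_self]

end Groth.Agent.S19247
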