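import Groth.Statements.S19250
import Groth.Agent.Sga4h.RelC1Aff
import Groth.Agent.EtBC.K3.ModAcyc

set_option autoImplicit false
universe u
open CategoryTheory CategoryTheory.Limits AlgebraicGeometry Opposite
attribute [local instance] HasDerivedCategory.standard
open EtBC

namespace Groth.Agent.S19250

/-- For the affine line, let S be a locally Noetherian scheme, p : 𝔸¹_S ⟶ S the structure morphism of
the affine line over S, and Λ a commutative ring in which some positive integer n, invertible on S,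
vanishes. Assume that the unbounded derived direct image Rp_* on sheaves of Λ-modules preserves
small direct sums. Then the inverse image functor p^* : D(S_et, Λ) ⟶ D(𝔸¹_S,et, Λ) between unbounded
derived categories of sheaves of Λ-modules on the small etale sites is full and faithful. (The
statement for a vector bundle V ⟶ S reduces to this one Zariski-locally on S; the preservation of
direct sums by Rp_* holds over a locally Noetherian base by a cohomological-dimension bound and is
carried here as a hypothesis. Left exactness of p^* and existence of Rp_* are instance hypotheses.) -/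
theorem result (S : Scheme.{u}) [IsLocallyNoetherian S]
    (Λ : Type (u + 1)) [CommRing Λ] (n : ℕ) (hn : 0 < n) (hΛ : (n : Λ) = 0) (hS : IsUnit (n : Γ(S, ⊤)))
    [PreservesFiniteLimits (EtModW.pull Λ (𝔸(PUnit.{u + 1}; S) ↘ S))]
    [EtBC.HasRpushMod Λ (𝔸(PUnit.{u + 1}; S) ↘ S)]
    [∀ (ι : Type (u + 1)), PreservesColimitsOfShape (Discrete ι) (EtBC.RpushModD Λ (𝔸(PUnit.{u + 1}; S) ↘ S))] :
    (EtBC.pullModD Λ (𝔸(PUnit.{u + 1}; S) ↘ S)).Full ∧ (EtBC.pullModD Λ (𝔸(PUnit.{u + 1}; S) ↘ S)).Faithful := by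
  let p := 𝔸(PUnit.{u + 1}; S) ↘ S
  let e : 𝔸(PUnit.{u + 1}; S) ⟶ 𝔸(ULift.{u} (Fin 1); S) :=
    AffineSpace.reindex (fun _ : ULift.{u} (Fin 1) => PUnit.unit.{u + 1}) S
  let e' : 𝔸(ULift.{u} (Fin 1); S) ⟶ 𝔸(PUnit.{u + 1}; S) :=
    AffineSpace.reindex (fun _ : PUnit.{u + 1} => (⟨0⟩ : ULift.{u} (Fin 1))) S
  have he : IsIso e := by
    refine ⟨e', ?_, ?_⟩
    · apply AffineSpace.hom_ext
      · rw [Category.assoc, AffineSpace.reindex_over, AffineSpace.reindex_over, Category.id_comp]
      · intro i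
        rw [Scheme.Hom.comp_appTop, CommRingCat.comp_apply, AffineSpace.reindex_appTop_coord,
          AffineSpace.reindex_appTop_coord]
        rfl
    · apply AffineSpace.hom_ext
      · rw [Category.assoc, AffineSpace.reindex_over, AffineSpace.reindex_over, Category.id_comp]
      · intro i
        obtain rfl : i = ⟨0⟩ := Subsingleton.elim _ _
        rw [Scheme.Hom.comp_appTop, CommRingCat.comp_apply, AffineSpace.reindex_appTop_coord,
          AffineSpace.reindex_appTop_coord]
        rfl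
  have hp : e ≫ (𝔸(ULift.{u} (Fin 1); S) ↘ S) = p := AffineSpace.reindex_over _ _
  have key : ∀ F : EtCoh.Ab S, EtCoh.KilledBy n F → Groth.Agent.Sga4h.Acyc.Acyc p F := fun F hF =>
    Groth.Agent.Sga4h.AcycComp.acyc_congr hp F
      ((Groth.Agent.Sga4h.AcycComp.acyc_comp_iff _ _ _ (Groth.Agent.Sga4h.RelC1Aff.acyc_of_isIso _ _)).2
        (Groth.Agent.S3117.result S 1 n hS F hF))
  have hk : ∀ F : EtModW.Mod Λ S, EtCoh.KilledBy n ((Groth.Agent.Etrest.ModAb.ab Λ S).obj F) := fun F =>
    Groth.Agent.Sga4h.H299.AbBasic.killedBy_ab hΛ F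
  have hT := Groth.Agent.Etrest.RDer3.TRIso (EtModW.push Λ p)
  have hc : PreservesColimitsOfShape (Discrete ℕ) (Groth.Agent.Etrest.RDer3.TR (EtModW.push Λ p)) :=
    K3.UnbBc.preservesCountable _ (preservesColimitsOfShape_of_natIso hT)
  have hu : IsIso (Groth.Agent.Etrest.RDer4.dAdj (Groth.Agent.Etrest.ModAb.pullPushAdj Λ p)).unit := by
    rw [NatTrans.isIso_iff_isIso_app]
    exact K3.UnbBc.isIso_unit_of_plus Λ p
      (fun F => K3.ModAcyc.isIso_unit_of_ab Λ p F (key _ (hk F)).1)
      (fun F => K3.ModAcyc.isAcyc_pull_of_ab Λ p F p (fun q => (key _ (hk F)).2 (q + 1) (Nat.succ_pos q)))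
  exact ⟨(Groth.Agent.Etrest.RDer4.dAdj (Groth.Agent.Etrest.ModAb.pullPushAdj Λ p)).fullyFaithfulLOfIsIsoUnit.full,
    (Groth.Agent.Etrest.RDer4.dAdj (Groth.Agent.Etrest.ModAb.pullPushAdj Λ p)).fullyFaithfulLOfIsIsoUnit.faithful⟩

end Groth.Agent.S19250
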