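import Groth.Statements.S19251
import Groth.Agent.EtBC.K3.ModProper

set_option autoImplicit false
universe u
open CategoryTheory CategoryTheory.Limits AlgebraicGeometry Opposite
attribute [local instance] HasDerivedCategory.standard
open EtBC

namespace Groth.Agent.S19251

/-- Let f : X ⟶ S be a proper morphism of schemes and Λ a commutative ring in which some positive
integer vanishes. Then the unbounded derived direct image Rf_* : D(X_et, Λ) ⟶ D(S_et, Λ) of sheaves
of Λ-modules on the small etale sites preserves small direct sums. (Existence of Rf_* is an instance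
hypothesis; no Noetherian hypothesis.) -/
theorem result {X S : Scheme.{u}} (f : X ⟶ S) [IsProper f]
    (Λ : Type (u + 1)) [CommRing Λ] (n : ℕ) (hn : 0 < n) (hΛ : (n : Λ) = 0) [EtBC.HasRpushMod Λ f]
    (ι : Type (u + 1)) : PreservesColimitsOfShape (Discrete ι) (EtBC.RpushModD Λ f) := by
  have h := K3.ModProper.preservesCoproducts f Λ n hn hΛ ι
  exact preservesColimitsOfShape_of_natIso (Groth.Agent.Etrest.RDer3.TRIso (EtModW.push Λ f)).symm

end Groth.Agent.S19251
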