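import Groth.Statements.S19253
import Groth.Agent.CohDer.K237.ColimSplit
import Groth.Agent.CohDer.K237.ExactAdj
import Groth.Agent.CohtopA.ExactDer
import Groth.Agent.Cohder.RDPlusAcyc
import Groth.Agent.Cohder.SESInj
import Groth.Agent.Sga4B.AdjRep
import Mathlib.Algebra.Category.Grp.AB

set_option autoImplicit false
universe w w' v u
open CategoryTheory CategoryTheory.Limits
open CohDer

namespace Groth.Agent.S19253

open Groth.Agent.Cohder.StupidGE K237.ColimSplit

/-- Sequential colimits are exact in a Grothendieck abelian category. -/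
theorem hasExactColimitsOfShape_nat (A : Type u) [Category.{v} A] [Abelian A]
    [IsGrothendieckAbelian.{v} A] :
    ∃ _ : HasColimitsOfShape ℕ A, HasExactColimitsOfShape ℕ A := by
  have h : AB5OfSize.{v, v} A := IsGrothendieckAbelian.ab5OfSize
  have h0 : HasFilteredColimitsOfSize.{0, 0} A := hasFilteredColimitsOfSize_of_univLE.{0, 0, v, v}
  have h' : AB5OfSize.{0, 0} A := AB5OfSize_of_univLE.{0, 0, v, v} A
  exact ⟨h0.HasColimitsOfShape ℕ, h'.ofShape ℕ⟩

/-- Countable coproducts are exact in a Grothendieck abelian category. -/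
theorem hasExactColimitsOfShape_discrete_nat (A : Type u) [Category.{v} A] [Abelian A]
    [IsGrothendieckAbelian.{v} A] :
    ∃ _ : HasColimitsOfShape (Discrete ℕ) A, HasExactColimitsOfShape (Discrete ℕ) A := by
  have := IsGrothendieckAbelian.hasColimits A
  have : HasCoproducts.{v} A := fun J => this.has_colimits_of_shape _
  have h : AB4OfSize.{v} A := IsGrothendieckAbelian.ab4OfSize A
  have h1 := h.ofShape (ULift.{v} ℕ)
  have h2 : HasColimitsOfShape (Discrete ℕ) A :=
    hasColimitsOfShape_of_equivalence (Discrete.equivalence (Equiv.ulift.{v} (α := ℕ)))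
  exact ⟨h2, HasExactColimitsOfShape.of_domain_equivalence _
    (Discrete.equivalence Equiv.ulift : Discrete (ULift.{v} ℕ) ≌ Discrete ℕ)⟩

/-- (iii) ⇒ (iv): let A be a Grothendieck abelian category and F : A ⥤ Ab an additive left exact functor
such that every right derived functor RⁿF, n ≥ 0, preserves small filtered colimits; let RF : D(A) ⥤
D(Ab) be the total right derived functor of F on unbounded derived categories (its existence is an
instance hypothesis). If RF preserves countable direct sums (countable direct sums in D(A) being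
assumed to exist), then for every cochain complex K all of whose terms are F-acyclic (RⁱF(Kᵐ) = 0
for i > 0 and all m) the canonical map F(K) ⟶ RF(K) is an isomorphism in D(Ab). -/
theorem result
    {A : Type u} [Category.{v} A] [Abelian A] [IsGrothendieckAbelian.{v} A] [HasDerivedCategory.{w} A]
    [HasDerivedCategory.{w'} AddCommGrpCat.{v}]
    (F : A ⥤ AddCommGrpCat.{v}) [F.Additive] [PreservesFiniteLimits F]
    (hcolim : ∀ (n : ℕ) (J : Type v) [SmallCategory J] [IsFiltered J], PreservesColimitsOfShape J (F.rightDerived n))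
    [(F.mapHomotopyCategory (ComplexShape.up ℤ) ⋙ DerivedCategory.Qh).HasRightDerivedFunctor
      (HomotopyCategory.quasiIso A (ComplexShape.up ℤ))]
    [HasColimitsOfShape (Discrete ℕ) (DerivedCategory A)]
    [PreservesColimitsOfShape (Discrete ℕ) ((F.mapHomotopyCategory (ComplexShape.up ℤ) ⋙ DerivedCategory.Qh).totalRightDerived
      DerivedCategory.Qh (HomotopyCategory.quasiIso A (ComplexShape.up ℤ)))]
    (K : CochainComplex A ℤ) (hK : ∀ (m : ℤ) (i : ℕ), 0 < i → IsZero ((F.rightDerived i).obj (K.X m))) :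
    IsIso (((F.mapHomotopyCategory (ComplexShape.up ℤ) ⋙ DerivedCategory.Qh).totalRightDerivedUnit DerivedCategory.Qh
      (HomotopyCategory.quasiIso A (ComplexShape.up ℤ))).app ((HomotopyCategory.quotient A (ComplexShape.up ℤ)).obj K)) := by
  have hKI := K237.ExactAdj.hasKInj A
  set Φ : HomotopyCategory A (ComplexShape.up ℤ) ⥤ DerivedCategory AddCommGrpCat.{v} :=
    F.mapHomotopyCategory (ComplexShape.up ℤ) ⋙ DerivedCategory.Qh with hΦ
  set RF := Φ.totalRightDerived DerivedCategory.Qh (HomotopyCategory.quasiIso A (ComplexShape.up ℤ))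
    with hRF
  set η : Φ ⟶ DerivedCategory.Qh ⋙ RF :=
    Φ.totalRightDerivedUnit DerivedCategory.Qh (HomotopyCategory.quasiIso A (ComplexShape.up ℤ))
    with hη
  let _ : RF.CommShift ℤ := Groth.Agent.Dcoh.DerHo.commShift hKI RF η
  have hcs : NatTrans.CommShift η ℤ := Groth.Agent.Dcoh.DerHo.natTrans_commShift hKI RF η
  have htr : RF.IsTriangulated := Groth.Agent.Dcoh.DerHo.isTriangulated hKI RF η
  -- bounded below complexes
  have hbdd : ∀ (L : CochainComplex A ℤ) (n : ℤ) (_ : L.IsStrictlyGE n)
      (_ : ∀ p, Groth.Agent.Cohder.RDAcyc.IsAcyc F (L.X p)),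
      IsIso (η.app ((HomotopyCategory.quotient A (ComplexShape.up ℤ)).obj L)) := by
    intro L n hL hLa
    obtain ⟨I, i, -, hi, hI, hIn⟩ := Groth.Agent.Cohder.SESInj.exists_mono_quasiIso_injective L n
    have hIK : I.IsKInjective := CochainComplex.isKInjective_of_injective I n
    have h1 : IsIso (η.app ((HomotopyCategory.quotient A (ComplexShape.up ℤ)).obj I)) :=
      Groth.Agent.Dcoh.DerHo.isIso_unit_app' hKI RF η I hIK
    have h2 := Groth.Agent.Cohder.RDPlusAcyc.quasiIso_map F i n n hLa
      (fun p => @Groth.Agent.Cohder.RDAcyc.isAcyc_injective _ _ _ _ _ _ _ F _ (I.X p) (hI p))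
    have h3 : IsIso (Φ.map ((HomotopyCategory.quotient A (ComplexShape.up ℤ)).map i)) :=
      (DerivedCategory.isIso_Qh_map_iff _).2
        ((HomotopyCategory.quotient_map_mem_quasiIso_iff
          ((F.mapHomologicalComplex (ComplexShape.up ℤ)).map i)).2 h2)
    have h4 : IsIso (DerivedCategory.Qh.map ((HomotopyCategory.quotient A (ComplexShape.up ℤ)).map i)) :=
      (DerivedCategory.isIso_Qh_map_iff _).2 ((HomotopyCategory.quotient_map_mem_quasiIso_iff i).2 hi)
    have h5 := η.naturality ((HomotopyCategory.quotient A (ComplexShape.up ℤ)).map i)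
    have h6 : IsIso (RF.map (DerivedCategory.Qh.map
      ((HomotopyCategory.quotient A (ComplexShape.up ℤ)).map i))) := inferInstance
    have h7 : IsIso (η.app ((HomotopyCategory.quotient A (ComplexShape.up ℤ)).obj L) ≫
      (DerivedCategory.Qh ⋙ RF).map ((HomotopyCategory.quotient A (ComplexShape.up ℤ)).map i)) := by
      rw [← h5]; infer_instance
    have h8 : IsIso ((DerivedCategory.Qh ⋙ RF).map
      ((HomotopyCategory.quotient A (ComplexShape.up ℤ)).map i)) := h6
    exact IsIso.of_isIso_comp_right _ ((DerivedCategory.Qh ⋙ RF).map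
      ((HomotopyCategory.quotient A (ComplexShape.up ℤ)).map i))
  -- the truncations
  have htrunc : ∀ n : ℕ, IsIso (η.app ((HomotopyCategory.quotient A (ComplexShape.up ℤ)).obj
      (tr K n))) := by
    intro n
    refine hbdd (tr K n) (-(n : ℤ)) inferInstance (fun p => ?_)
    by_cases hp : -(n : ℤ) ≤ p
    · exact Groth.Agent.Cohder.RDUnbdd.isAcyc_of_iso F (σXIso K _ p hp).symm (hK p)
    · have hz := isZero_σ_X K (-(n : ℤ)) p (by lia)
      exact @Groth.Agent.Cohder.RDAcyc.isAcyc_injective _ _ _ _ _ _ _ F _ _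
        ⟨fun {_ _} _ _ _ => ⟨0, hz.eq_of_tgt _ _⟩⟩
  -- coproducts
  obtain ⟨_, _⟩ := hasExactColimitsOfShape_discrete_nat A
  obtain ⟨_, _⟩ := hasExactColimitsOfShape_discrete_nat AddCommGrpCat.{v}
  obtain ⟨_, _⟩ := hasExactColimitsOfShape_nat A
  have hAQ : PreservesColimitsOfShape (Discrete ℕ) (DerivedCategory.Q (C := A)) :=
    Groth.Agent.CohtopA.ExactDer.preservesColimitsOfShape_Q ℕ
  have hAbQ : PreservesColimitsOfShape (Discrete ℕ) (DerivedCategory.Q (C := AddCommGrpCat.{v})) :=
    Groth.Agent.CohtopA.ExactDer.preservesColimitsOfShape_Q ℕ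
  have hFc : PreservesColimitsOfShape (Discrete ℕ) F := by
    have h1 := hcolim 0 (Finset (Discrete (ULift.{v} ℕ)))
    have h2 : PreservesColimitsOfShape (Finset (Discrete (ULift.{v} ℕ))) F :=
      preservesColimitsOfShape_of_natIso F.rightDerivedZeroIsoSelf
    have h3 : PreservesFiniteCoproducts F := inferInstance
    have := IsGrothendieckAbelian.hasColimits A
    have h4 : PreservesColimitsOfShape (Discrete (ULift.{v} ℕ)) F :=
      Groth.Agent.Sga4B.AdjRep.preservesColimitsOfShape_discrete (ULift.{v} ℕ) F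
    exact preservesColimitsOfShape_of_equiv (Discrete.equivalence Equiv.ulift.{v}) F
  have hG₁ : PreservesColimitsOfShape (Discrete ℕ)
      (HomotopyCategory.quotient A (ComplexShape.up ℤ) ⋙ DerivedCategory.Qh) :=
    preservesColimitsOfShape_of_natIso (DerivedCategory.quotientCompQhIso A).symm
  have hG₂ : PreservesColimitsOfShape (Discrete ℕ)
      (HomotopyCategory.quotient AddCommGrpCat.{v} (ComplexShape.up ℤ) ⋙ DerivedCategory.Qh) :=
    preservesColimitsOfShape_of_natIso (DerivedCategory.quotientCompQhIso AddCommGrpCat.{v}).symm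
  have hU : PreservesColimitsOfShape (Discrete ℕ)
      (HomotopyCategory.quotient A (ComplexShape.up ℤ) ⋙ Φ) := by
    have h1 : PreservesColimitsOfShape (Discrete ℕ) (F.mapHomologicalComplex (ComplexShape.up ℤ)) :=
      inferInstance
    exact inferInstanceAs (PreservesColimitsOfShape (Discrete ℕ)
      (F.mapHomologicalComplex (ComplexShape.up ℤ) ⋙
        (HomotopyCategory.quotient AddCommGrpCat.{v} (ComplexShape.up ℤ) ⋙ DerivedCategory.Qh)))
  have hV : PreservesColimitsOfShape (Discrete ℕ)
      (HomotopyCategory.quotient A (ComplexShape.up ℤ) ⋙ (DerivedCategory.Qh ⋙ RF)) :=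
    inferInstanceAs (PreservesColimitsOfShape (Discrete ℕ)
      ((HomotopyCategory.quotient A (ComplexShape.up ℤ) ⋙ DerivedCategory.Qh) ⋙ RF))
  have hP : IsIso (η.app ((HomotopyCategory.quotient A (ComplexShape.up ℤ)).obj (∐ tr K))) := by
    let θ : HomotopyCategory.quotient A (ComplexShape.up ℤ) ⋙ Φ ⟶
        HomotopyCategory.quotient A (ComplexShape.up ℤ) ⋙ (DerivedCategory.Qh ⋙ RF) :=
      Functor.whiskerLeft _ η
    have hθ : IsIso (Functor.whiskerLeft (Discrete.functor (tr K)) θ) := by
      have : ∀ j, IsIso ((Functor.whiskerLeft (Discrete.functor (tr K)) θ).app j) := fun j =>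
        htrunc j.as
      exact NatIso.isIso_of_isIso_app _
    exact CategoryTheory.Limits.isIso_app_coconePt_of_preservesColimit (Discrete.functor (tr K)) θ
      _ (colimit.isColimit (Discrete.functor (tr K)))
  obtain ⟨δ, hT⟩ := K237.ColimSplit.exists_distTriang K
  exact isIso_app₃ η _ hT hP hP

end Groth.Agent.S19253
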