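import Groth.Statements.S19257
import Groth.Agent.EtCoh.K721.AffVan
-- import your own Groth.Agent.* helpers here

set_option autoImplicit false
universe u
open CategoryTheory CategoryTheory.Limits AlgebraicGeometry
open EtCoh

namespace Groth.Agent.S19257

/-- In the case of a finite base field and untwisted coefficients, let k be a finite field, ℓ a prime
number invertible in k, m ≥ 1, X a scheme smooth and proper over k of relative dimension N, and i :
Y → X a closed immersion whose complement is an affine open subset (for instance Y a hypersurface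
section of X for a projective embedding). Then the restriction map H^q_et(X, Z/ℓ^m) → H^q_et(Y,
Z/ℓ^m) is bijective for q ≤ N - 2 and injective for q = N - 1. (The source states this for all Tate
twists Z/ℓ^m(j) and also over 1-local and separably closed fields; here the coefficients are
untwisted, the base field is finite, and Y is only assumed closed with affine complement, which is
what the argument uses. Exactness of pullback of abelian étale sheaves is carried as an instance
hypothesis.) -/
theorem result
    (k : Type u) [Field k] [Finite k] (ℓ : ℕ) (hℓ : ℓ.Prime) (hℓk : (ℓ : k) ≠ 0) (m : ℕ) (hm : 1 ≤ m)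
    {X Y : Scheme.{u}} (f : X ⟶ Spec (CommRingCat.of k)) [IsProper f] (N : ℕ) [SmoothOfRelativeDimension N f]
    (i : Y ⟶ X) [IsClosedImmersion i] (V : X.Opens) (hV : IsAffineOpen V)
    (hcov : (V : Set X) = (Set.range (fun y : Y => i.base y))ᶜ)
    [PreservesFiniteLimits (EtCoh.pull i)] (q : ℕ) :
    (q + 2 ≤ N → Function.Bijective (EtCore.Hpull i (EtCoh.const X (ZMod (ℓ ^ m))) q)) ∧
    (q + 1 = N → Function.Injective (EtCore.Hpull i (EtCoh.const X (ZMod (ℓ ^ m))) q)) := by
  have hsm : SmoothOfRelativeDimension N (V.ι ≫ f) := by
    have h1 : SmoothOfRelativeDimension (0 + N) (V.ι ≫ f) := inferInstance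
    rwa [zero_add] at h1
  have hmk : ((ℓ ^ m : ℕ) : k) ≠ 0 := by
    rw [Nat.cast_pow]
    exact pow_ne_zero _ hℓk
  obtain ⟨h1, h2⟩ := K721.AffVan.lefschetz k f i V hV hcov N (ℓ ^ m) hmk
  exact ⟨fun h => h1 q (by omega), fun h => h2 q h⟩

end Groth.Agent.S19257
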