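import Groth.Statements.S19258
import Groth.Agent.PontDual.K985.Card

set_option autoImplicit false
universe u
open PontDual

namespace Groth.Agent.S19258

/-- Let G and G' be abelian groups such that every element of G' has finite order, and let β : G' →
Hom(G, ℚ/ℤ) be an injective homomorphism (equivalently a pairing G' × G → ℚ/ℤ with no left kernel).
Endow G with the weak topology defined by G': the coarsest topology for which every character β(f),
f ∈ G', is continuous when ℚ/ℤ carries the discrete topology. Then every homomorphism χ : G → ℚ/ℤ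
that is continuous for this topology on G and the discrete topology on ℚ/ℤ equals β(f) for some f ∈
G', so that β is a bijection from G' onto the group of continuous characters of G. -/
theorem result
    (G : Type u) (G' : Type u) [AddCommGroup G] [AddCommGroup G'] (hG' : IsAddTorsion G')
    (β : G' →+ (G →+ AddCircle (1 : ℚ))) (hβ : Function.Injective β)
    (χ : G →+ AddCircle (1 : ℚ))
    (hχ : @Continuous G (AddCircle (1 : ℚ)) (⨅ f' : G', TopologicalSpace.induced (fun x : G => β f' x) ⊥) ⊥ χ) :
    ∃ f' : G', β f' = χ := by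
  classical
  -- a finite set of characters controlling χ
  obtain ⟨F, hF⟩ : ∃ F : Set G', F.Finite ∧ ∀ x : G, (∀ f ∈ F, β f x = 0) → χ x = 0 := by
    have h0 : ({0} : Set (AddCircle (1 : ℚ))) ∈ @nhds (AddCircle (1 : ℚ)) ⊥ (χ 0) := by
      rw [@nhds_discrete (AddCircle (1 : ℚ)) ⊥ (@DiscreteTopology.mk _ ⊥ rfl), map_zero]
      exact Filter.mem_pure.2 rfl
    have h1 : (χ ⁻¹' {0}) ∈ @nhds G (⨅ f' : G', TopologicalSpace.induced (fun x : G => β f' x) ⊥) 0 :=
      @ContinuousAt.preimage_mem_nhds _ _
        (⨅ f' : G', TopologicalSpace.induced (fun x : G => β f' x) ⊥) ⊥ χ 0 {0}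
        (@Continuous.continuousAt _ _ (⨅ f' : G', TopologicalSpace.induced (fun x : G => β f' x) ⊥)
          ⊥ _ _ hχ) h0
    rw [nhds_iInf, Filter.mem_iInf] at h1
    obtain ⟨I, hI, V, hV, hU⟩ := h1
    refine ⟨I, hI, fun x hx => ?_⟩
    have h2 : x ∈ ⋂ i, V i := by
      rw [Set.mem_iInter]
      intro i
      have h3 := hV i
      rw [@nhds_induced _ _ ⊥ (fun x : G => β i x) 0, Filter.mem_comap] at h3
      obtain ⟨t, ht, htV⟩ := h3
      apply htV
      rw [Set.mem_preimage, hx i i.2]
      have h4 := @mem_of_mem_nhds _ ⊥ _ _ ht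
      rwa [map_zero] at h4
    rw [← hU] at h2
    exact h2
  obtain ⟨hFfin, hFχ⟩ := hF
  let H : AddSubgroup G' := AddSubgroup.closure F
  have hfg : AddGroup.FG H := by
    have := hFfin.to_subtype
    infer_instance
  have hfin : Finite H := by
    have : AddGroup.FG H := hfg
    have h5 : Module.Finite ℤ H := Module.Finite.iff_addGroup_fg.2 this
    apply Module.finite_of_fg_torsion
    rintro ⟨x, hx⟩
    obtain ⟨n, hn, hnx⟩ := isOfFinAddOrder_iff_nsmul_eq_zero.1 (hG' x)
    refine ⟨⟨(n : ℤ), mem_nonZeroDivisors_of_ne_zero (by exact_mod_cast hn.ne')⟩, ?_⟩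
    ext
    show (n : ℤ) • x = 0
    rw [natCast_zsmul, hnx]
  obtain ⟨h, hh⟩ := K985.PontDual.exists_of_finite (β.comp H.subtype)
    (hβ.comp Subtype.val_injective) χ (by
      intro x hx
      apply hFχ
      intro f hf
      exact hx ⟨f, AddSubgroup.subset_closure hf⟩)
  exact ⟨h, hh⟩

end Groth.Agent.S19258
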