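import Groth.Statements.S19260
import Groth.Agent.Dix.K951.Core
import Groth.Agent.Dix.K951.Chase
import Groth.Agent.Dix.K876.NodeA

set_option autoImplicit false
universe u
open CategoryTheory CategoryTheory.Limits AlgebraicGeometry
open Dix

namespace Groth.Agent.S19260

/-- The p-primary part of the Lefschetz isomorphism for cohomological Brauer groups holds over any
F-finite base field, as follows. Let k be a field of characteristic p > 0 whose Frobenius
endomorphism is finite, X a scheme smooth and proper over k of relative dimension N ≥ 4 and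
geometrically connected over k, and 𝓘 a quasi-coherent ideal of X whose ideal module is invertible
with an ample tensor-inverse L, such that the closed subscheme Y defined by 𝓘 is smooth over k.
Assume Y is sufficiently ample: for every q ≥ 0 and every O_X-module Ω which is a q-th exterior
power of the sheaf of absolute differentials Ω_{X/Z}, one has H^i(X, 𝓘^{⊗ n} ⊗ Ω) = 0 for all n ≥ 1
and all i with i + q ≤ N - 1. Then the restriction map H^2(X_et, G_m) → H^2(Y_et, G_m) along Y → X
is injective on the classes killed by a power of p, and every class on Y killed by a power of p is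
the restriction of a class on X killed by a power of p. (Exactness of pullback of abelian étale
sheaves is carried as an instance hypothesis.) -/
theorem result
    (k : Type u) [Field k] (p : ℕ) [Fact p.Prime] [CharP k p] (hF : (frobenius k p).Finite)
    (X : Scheme.{u}) (f : X ⟶ Spec (CommRingCat.of k)) [IsProper f] (N : ℕ) (hN : 4 ≤ N)
    [SmoothOfRelativeDimension N f] [GeometricallyConnected f]
    (𝓘 : X.IdealSheafData) (L : X.Modules) (hL : ClSub.IsInverseOf L (ClSub.idealMod 𝓘)) (hamp : CohB1.IsAmple L)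
    [Smooth (𝓘.subschemeι ≫ f)]
    (hsa : ∀ (q : ℕ) (Ω : X.Modules), ExtPow.IsExtPow q (Omega.sheaf (specULiftZIsTerminal.from X)) Ω → ∀ n i : ℕ, 1 ≤ n → i + q + 1 ≤ N → Subsingleton (Coh.HH X (CohB1.tensorMod (CohB1.tensorPow (ClSub.idealMod 𝓘) n) Ω) i))
    [PreservesFiniteLimits (EtCoh.pull 𝓘.subschemeι)] :
    (∀ ξ : Dix.BrCoh X, (∃ e : ℕ, p ^ e • ξ = 0) → EtLim.HGmPull 𝓘.subschemeι 2 ξ = 0 → ξ = 0) ∧
    (∀ η : Dix.BrCoh 𝓘.subscheme, (∃ e : ℕ, p ^ e • η = 0) →
      ∃ ξ : Dix.BrCoh X, (∃ e : ℕ, p ^ e • ξ = 0) ∧ EtLim.HGmPull 𝓘.subschemeι 2 ξ = η) := by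
  have hA : ∀ n, 1 ≤ n → ∀ q ≤ 3,
      Subsingleton (EtCoh.H X (Groth.Agent.Etbc.H212.ASClosed.K (K951.GoodBase.jn 𝓘 n)) q) :=
    fun n hn q hq => K876.NodeA.nodeA k p X f N 𝓘 L hL hsa n hn q (by omega)
  obtain ⟨h2, h3⟩ := K951.Core.core k p hF X f N hN 𝓘 L hL hsa hA
  exact K951.Chase.nodeC k X f N hN 𝓘 L hL hamp hsa p h2 h3

end Groth.Agent.S19260
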