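import Groth.Statements.S19259
import Groth.Agent.Dix.K951.Core
import Groth.Agent.Dix.K951.Chase
import Groth.Agent.Dix.K876.NodeA
import Groth.Agent.Dix.K917.NodeE
import Groth.Agent.Dix.K363.NodeD
import Groth.Agent.S19260

set_option autoImplicit false
universe u
open CategoryTheory CategoryTheory.Limits AlgebraicGeometry
open Dix

namespace Groth.Agent.S19259

attribute [-instance] CategoryTheory.catToReflQuiver

/-- In the cases of a finite and of an algebraically closed base field, let k be a field of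
characteristic p > 0 which is finite or algebraically closed, X a scheme smooth and proper over k of
relative dimension N ≥ 4 and geometrically connected over k, and 𝓘 a quasi-coherent ideal of X whose
ideal module is invertible with an ample tensor-inverse L, such that the closed subscheme Y defined
by 𝓘 is smooth over k. Assume Y is sufficiently ample: for every q ≥ 0 and every O_X-module Ω which
is a q-th exterior power of the sheaf of absolute differentials Ω_{X/Z}, one has H^i(X, 𝓘^{⊗ n} ⊗ Ω)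
= 0 for all n ≥ 1 and all i with i + q ≤ N - 1. Then restriction along Y → X induces a bijection
H^2(X_et, G_m) → H^2(Y_et, G_m) of cohomological Brauer groups. (Exactness of pullback of abelian
étale sheaves is carried as an instance hypothesis; the source also treats 1-local base fields.) -/
theorem result
    (k : Type u) [Field k] (p : ℕ) [Fact p.Prime] [CharP k p] (hk : Finite k ∨ IsAlgClosed k)
    (X : Scheme.{u}) (f : X ⟶ Spec (CommRingCat.of k)) [IsProper f] (N : ℕ) (hN : 4 ≤ N)
    [SmoothOfRelativeDimension N f] [GeometricallyConnected f]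
    (𝓘 : X.IdealSheafData) (L : X.Modules) (hL : ClSub.IsInverseOf L (ClSub.idealMod 𝓘)) (hamp : CohB1.IsAmple L)
    [Smooth (𝓘.subschemeι ≫ f)]
    (hsa : ∀ (q : ℕ) (Ω : X.Modules), ExtPow.IsExtPow q (Omega.sheaf (specULiftZIsTerminal.from X)) Ω → ∀ n i : ℕ, 1 ≤ n → i + q + 1 ≤ N → Subsingleton (Coh.HH X (CohB1.tensorMod (CohB1.tensorPow (ClSub.idealMod 𝓘) n) Ω) i))
    [PreservesFiniteLimits (EtCoh.pull 𝓘.subschemeι)] :
    Function.Bijective (EtLim.HGmPull 𝓘.subschemeι 2) := by
  have hF := K951.Core.frobenius_finite k p hk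
  have hsm : Smooth f := SmoothOfRelativeDimension.smooth (n := N) f
  have hXc : CompactSpace X := HasAffineProperty.iff_of_isAffine.1
    (inferInstance : QuasiCompact f)
  have hYc : CompactSpace 𝓘.subscheme := HasAffineProperty.iff_of_isAffine.1
    (inferInstance : QuasiCompact (𝓘.subschemeι ≫ f))
  have hX : ∀ ξ : Dix.BrCoh X, ∃ n : ℕ, 0 < n ∧ n • ξ = 0 := K917.NodeE.nodeE k X f
  have hY : ∀ η : Dix.BrCoh 𝓘.subscheme, ∃ n : ℕ, 0 < n ∧ n • η = 0 :=
    K917.NodeE.nodeE k 𝓘.subscheme (𝓘.subschemeι ≫ f)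
  have key : ∀ l : ℕ, l.Prime →
      (∀ ξ : Dix.BrCoh X, (∃ e : ℕ, l ^ e • ξ = 0) → EtLim.HGmPull 𝓘.subschemeι 2 ξ = 0 → ξ = 0) ∧
      (∀ η : Dix.BrCoh 𝓘.subscheme, (∃ e : ℕ, l ^ e • η = 0) →
        ∃ ξ : Dix.BrCoh X, (∃ e : ℕ, l ^ e • ξ = 0) ∧ EtLim.HGmPull 𝓘.subschemeι 2 ξ = η) := by
    intro l hl
    by_cases hlp : l = p
    · subst hlp
      exact Groth.Agent.S19260.result k l hF X f N hN 𝓘 L hL hamp hsa
    · have hlk : (l : k) ≠ 0 := by
        intro h0
        have h1 : p ∣ l := (CharP.cast_eq_zero_iff k p l).1 h0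
        exact hlp ((Nat.prime_dvd_prime_iff_eq (Fact.out : p.Prime) hl).1 h1).symm
      obtain ⟨h2, h3⟩ := K363.NodeD.nodeD k X f N 𝓘 L hL hamp l hlk
      exact K951.Chase.nodeC k X f N hN 𝓘 L hL hamp hsa l (h2 2 (by omega)) (h3 3 (by omega))
  exact ⟨K951.Core.injective_of_prime (EtLim.HGmPull 𝓘.subschemeι 2) hX fun l hl => (key l hl).1,
    K951.Core.surjective_of_prime (EtLim.HGmPull 𝓘.subschemeι 2) hY fun l hl η hη => by
      obtain ⟨ξ, -, hξ⟩ := (key l hl).2 η hη
      exact ⟨ξ, hξ⟩⟩

end Groth.Agent.S19259
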