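import Groth.Statements.S19261
import Groth.Agent.EtCoh.K721.ASLef
import Groth.Agent.EtCoh.K721.IdealVan
import Groth.Agent.Cohder.ASFinite
import Groth.Agent.S4040
import Groth.Agent.S4041
import Groth.Agent.S0023
import Groth.Agent.S0024

set_option autoImplicit false
universe u
open CategoryTheory CategoryTheory.Limits AlgebraicGeometry
open EtCoh

namespace Groth.Agent.S19261

open Groth.Agent in
/-- A field to a one-dimensional algebra of global functions is bijective. -/
theorem bijective_toGlobal (k : Type u) [Field k] (X : Scheme.{u}) [X.Over (Spec (CommRingCat.of k))]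
    (h : Module.finrank k (Coh.HH X (Coh.structureModule X) 0) = 1) :
    Function.Bijective (Coh.toGlobal (X ↘ Spec (CommRingCat.of k))) := by
  let _ : Module k (Coh.Γtop X) := CurvesC.CurveNum.topMod k X
  have e := CurvesC.CurveNum.hZeroTop k X
  have h1 : Module.finrank k (Coh.Γtop X) = 1 := e.finrank_eq.symm.trans h
  have hnt : Nontrivial (Coh.Γtop X) := Module.nontrivial_of_finrank_pos (R := k) (by omega)
  refine ⟨RingHom.injective _, fun w => ?_⟩
  obtain ⟨c, hc⟩ := (finrank_eq_one_iff_of_nonzero' (1 : Coh.Γtop X) one_ne_zero).1 h1 w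
  refine ⟨c, ?_⟩
  rw [← hc]
  exact (mul_one _).symm

open Groth.Agent in
/-- Vanishing of `H^q(P, I)` for `q ≤ n`, `I` the ideal of a smooth complete intersection of dimension `n`. -/
theorem subsingleton_I (k : Type u) [Field k] (n c : ℕ) (hn : 1 ≤ n) (a : Fin c → ℕ) (ha : ∀ j, 1 ≤ a j)
    (G : ∀ j : Fin c, LefPen.Form (n + c) k (a j))
    [SmoothOfRelativeDimension n ((LefPen.ciIdeal G).subschemeι ≫ CohB1.ProjSpace.toSpec (n + c) k)]
    (q : ℕ) (hq : q ≤ n) :
    Subsingleton (Coh.HH (CohB1.ProjSpace (n + c) k) (Etbc.H212.KZar.I (LefPen.ciIdeal G).subschemeι) q) := by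
  rcases Nat.eq_zero_or_pos c with rfl | hc
  · have hI : (LefPen.ciIdeal G) = ⊥ := by
      unfold LefPen.ciIdeal
      exact iSup_of_empty _
    have hiso : IsIso (LefPen.ciIdeal G).subschemeι := by
      rw [IsClosedImmersion.isIso_iff_ker_eq_bot, Scheme.IdealSheafData.ker_subschemeι, hI]
    have hmono : Mono (PerfB.UnitMono.unitMap (LefPen.ciIdeal G).subschemeι) := by
      rw [CohqA.ModSec.mono_iff_injective]
      intro U
      exact (ConcreteCategory.bijective_of_isIso ((LefPen.ciIdeal G).subschemeι.app U)).1
    have hz : IsZero (Etbc.H212.KZar.I (LefPen.ciIdeal G).subschemeι) := by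
      unfold Etbc.H212.KZar.I
      exact isZero_kernel_of_mono _
    exact Sheaf.subsingleton_H_of_isZero ((CohqB.ToSheafExact.toAbF _).map_isZero hz) q
  · have hΓ : Function.Bijective (LefPen.ciIdeal G).subschemeι.appTop := by
      let _ : (LefPen.ciIdeal G).subscheme.Over (Spec (CommRingCat.of k)) :=
        ⟨(LefPen.ciIdeal G).subschemeι ≫ CohB1.ProjSpace.toSpec (n + c) k⟩
      have h1 : Function.Bijective (Coh.toGlobal
          ((LefPen.ciIdeal G).subschemeι ≫ CohB1.ProjSpace.toSpec (n + c) k)) :=
        bijective_toGlobal k (LefPen.ciIdeal G).subscheme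
          (S4041.result k n c hc a ha G rfl 0 (Nat.zero_le _) (by omega) _
            (Sga67.TensorOps.isExtPow_zero _))
      have h2 : Function.Bijective (Coh.toGlobal (CohB1.ProjSpace.toSpec (n + c) k)) := by
        have := S0024.result (n + c) k
        have h3 := ConcreteCategory.bijective_of_isIso
          ((Scheme.ΓSpecIso (CommRingCat.of k)).inv ≫ (CohB1.ProjSpace.toSpec (n + c) k).appTop)
        exact h3
      have h4 : (fun x => CurvesC.CurveNum.topMap (LefPen.ciIdeal G).subschemeι
          (Coh.toGlobal (CohB1.ProjSpace.toSpec (n + c) k) x)) =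
          Coh.toGlobal ((LefPen.ciIdeal G).subschemeι ≫ CohB1.ProjSpace.toSpec (n + c) k) :=
        funext fun x => (CurvesC.CurveNum.toGlobal_comp _ _ x).symm
      have h5 : Function.Bijective (CurvesC.CurveNum.topMap (LefPen.ciIdeal G).subschemeι ∘
          Coh.toGlobal (CohB1.ProjSpace.toSpec (n + c) k)) := by
        have h6 : (CurvesC.CurveNum.topMap (LefPen.ciIdeal G).subschemeι ∘
          Coh.toGlobal (CohB1.ProjSpace.toSpec (n + c) k)) =
          Coh.toGlobal ((LefPen.ciIdeal G).subschemeι ≫ CohB1.ProjSpace.toSpec (n + c) k) := h4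
        rw [h6]
        exact h1
      exact (Function.Bijective.of_comp_iff _ h2).1 h5
    refine K721.IdealVan.subsingleton_HH_I (LefPen.ciIdeal G).subschemeι n ?_ ?_ hΓ q hq
    · intro q hq _
      exact S0023.result (n + c) k q hq
    · intro q h0 h1
      exact S4040.result k n c hc a ha G 0 _ (Sga67.TensorOps.isExtPow_zero _) q (by omega) (by omega)

/-- In the case q = 0 (constant p-torsion coefficients), let k be a field of characteristic p > 0 whose
Frobenius endomorphism is finite, c ≤ N, and G_1, …, G_c homogeneous forms of positive degrees in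
the homogeneous coordinates of P = P^N_k such that for every s ≤ c the common zero scheme V(G_1, …,
G_s) is smooth over k of relative dimension N - s (a flag of smooth complete intersections ending in
Y = V(G_1, …, G_c), of dimension d = N - c). Then for every m ≥ 1 the restriction map H^i_et(P,
Z/p^m) → H^i_et(Y, Z/p^m) along Y → P is bijective for all i ≤ d - 1. (The logarithmic Hodge–Witt
sheaf of degree zero is the constant sheaf Z/p^m; the source speaks of a smooth complete
intersection and argues through such a flag. Exactness of pullback of abelian étale sheaves is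
carried as an instance hypothesis.) -/
theorem result
    (k : Type u) [Field k] (p : ℕ) [Fact p.Prime] [CharP k p] (hF : (frobenius k p).Finite)
    (N c : ℕ) (hc : c ≤ N) (a : Fin c → ℕ) (ha : ∀ j, 1 ≤ a j) (G : ∀ j : Fin c, LefPen.Form N k (a j))
    (hflag : ∀ (s : ℕ) (hs : s ≤ c), SmoothOfRelativeDimension (N - s)
      ((LefPen.ciIdeal (fun j : Fin s => G (Fin.castLE hs j))).subschemeι ≫ CohB1.ProjSpace.toSpec N k))
    (m : ℕ) (hm : 1 ≤ m) [PreservesFiniteLimits (EtCoh.pull (LefPen.ciIdeal G).subschemeι)]
    (i : ℕ) (hi : i + c + 1 ≤ N) :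
    Function.Bijective (EtCore.Hpull (LefPen.ciIdeal G).subschemeι (EtCoh.const (CohB1.ProjSpace N k) (ZMod (p ^ m))) i) := by
  obtain ⟨n, rfl⟩ : ∃ n, N = n + c := ⟨N - c, by omega⟩
  have hsm : SmoothOfRelativeDimension n
      ((LefPen.ciIdeal G).subschemeι ≫ CohB1.ProjSpace.toSpec (n + c) k) := by
    have h := hflag c le_rfl
    rw [Nat.add_sub_cancel] at h
    exact h
  have hX : (p : Γ(CohB1.ProjSpace (n + c) k, ⊤)) = 0 :=
    Groth.Agent.Cohder.ASFinite.cast_eq_zero p (CohB1.ProjSpace.toSpec (n + c) k)
  have h := K721.ASLef.main (LefPen.ciIdeal G).subschemeι p hX (n + 1)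
    (fun q hq => subsingleton_I k n c (by omega) a ha G q (by omega)) m
  exact h.1 i (by omega)

end Groth.Agent.S19261
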