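import Groth.Statements.S19262
import Groth.Agent.Coh.K415.ExtVan

set_option autoImplicit false
universe u
open CategoryTheory CategoryTheory.Limits AlgebraicGeometry
open Coh

open K882.Coho K882.IsoMon K882.Divisor

namespace Groth.Agent.S19262

/-- Let k be a field of characteristic p > 0 whose Frobenius endomorphism is finite, X a scheme smooth
over k of relative dimension N with an ample invertible module L and a tensor-inverse M of L, and
assume (X, L) is a Kodaira pair: for every q ≥ 0 and every O_X-module Ω which is a q-th exterior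
power of the module of relative differentials Ω_{X/k}, H^i(X, Ω ⊗ M^{⊗ n}) = 0 for all n ≥ 1 and all
i with i + q ≤ N - 1. Then for every q ≥ 0, every O_X-module Ω' which is a q-th exterior power of
the module of absolute differentials Ω_{X/Z}, every n ≥ 1 and every i with i + q ≤ N - 1, one has
H^i(X, Ω' ⊗ M^{⊗ n}) = 0. -/
theorem result
    (k : Type u) [Field k] (p : ℕ) [Fact p.Prime] [CharP k p] (hF : (frobenius k p).Finite)
    (X : Scheme.{u}) (f : X ⟶ Spec (CommRingCat.of k)) (N : ℕ) [SmoothOfRelativeDimension N f]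
    (L M : X.Modules) (hamp : CohB1.IsAmple L) (hM : ClSub.IsInverseOf M L)
    (hkod : ∀ (q : ℕ) (Ω : X.Modules), ExtPow.IsExtPow q (Omega.sheaf f) Ω → ∀ n i : ℕ, 1 ≤ n → i + q + 1 ≤ N → Subsingleton (Coh.HH X (CohB1.tensorMod Ω (CohB1.tensorPow M n)) i))
    (q : ℕ) (Ω' : X.Modules) (hΩ' : ExtPow.IsExtPow q (Omega.sheaf (specULiftZIsTerminal.from X)) Ω')
    (n i : ℕ) (hn : 1 ≤ n) (hi : i + q + 1 ≤ N) :
    Subsingleton (Coh.HH X (CohB1.tensorMod Ω' (CohB1.tensorPow M n)) i) := by
  have hS : Smooth f := SmoothOfRelativeDimension.smooth N f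
  have hln : IsLocallyNoetherian X := LocallyOfFiniteType.isLocallyNoetherian f
  have hqs : QuasiSeparated f := inferInstance
  have hMi : PicF.IsInvertible M := inv_of_mul hamp.1 (isInverseOf_iff.mp hM)
  have hw : f ≫ specULiftZIsTerminal.from (Spec (CommRingCat.of k)) = specULiftZIsTerminal.from X :=
    specULiftZIsTerminal.hom_ext _ _
  obtain ⟨C, hC, ⟨e1⟩, ⟨e2⟩, ⟨e3⟩⟩ := Groth.Agent.Vancyc.H878.RelOmega.exists_shortExact f
    (specULiftZIsTerminal.from (Spec (CommRingCat.of k)))
  obtain ⟨r, ⟨er⟩⟩ := K415.AbsOmega.exists_free p hF (specULiftZIsTerminal.from (Spec (CommRingCat.of k)))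
  have hflf : FlatMod.IsFinLocFree (Omega.sheaf f) := Groth.Agent.Vancyc.H878.OmegaRank.isFinLocFree_omega f
  have h := K415.ExtVan.main (N := N) hMi r C hC (flf_c (c_iso e3.symm) hflf)
    ⟨e1 ≪≫ (Scheme.Modules.pullback f).mapIso er ≪≫ FrB.pullbackFreeIso f r⟩
    (K415.ExtVan.pv_c hflf (c_iso e3.symm) hkod)
  rw [hw] at e2
  exact K415.ExtVan.pv_c h.2 (c_iso e2) h.1 q Ω' hΩ' n i hn hi

end Groth.Agent.S19262
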