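import Groth.Statements.S19264
import Groth.Agent.WittFil.K985.Ufd

set_option autoImplicit false
universe u
open WittFil

namespace Groth.Agent.S19264

/-- Let A be a unique factorisation domain of characteristic p, x_1, …, x_r pairwise non-associate prime
elements of A, B = A[1/(x_1⋯x_r)] with u_i the unit of B defined by x_i, n ∈ ℤ^r and m ≥ 0. The
restriction map from truncated p-typical Witt vectors of length m+1 to those of length m over B
(forgetting the last coordinate) maps the filtered piece cut out by ∏ u_i ^ n_i onto the filtered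
piece cut out by ∏ u_i ^ ⌊n_i / p⌋; that is, the image is exactly that piece. (The other parts of
the exact sequence, injectivity of the (m-fold) Verschiebung from the fractional ideal generated by
(∏ u_i ^ n_i)⁻¹ and exactness in the middle, are immediate from the definition and are not restated.
The published setting is a regular local ring; only unique factorisation is used.) -/
theorem result (p : ℕ) [Fact p.Prime] {A B : Type u} [CommRing A] [IsDomain A]
    [UniqueFactorizationMonoid A] [CharP A p] [CommRing B] [Algebra A B] {r : ℕ} (x : Fin r → A)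
    (hx : ∀ i, Prime (x i)) (hxa : ∀ i j, Associated (x i) (x j) → i = j)
    [IsLocalization.Away (∏ i, x i) B] (u : Fin r → Bˣ)
    (hu : ∀ i, (u i : B) = algebraMap A B (x i)) (n : Fin r → ℤ) (m : ℕ) :
    (TruncatedWittVector.truncate (Nat.le_succ m)) '' WittFil.fil p (m + 1) (A := A) (WittFil.zmon u n) =
      WittFil.fil p m (A := A) (WittFil.zmon u (fun i => n i / (p : ℤ))) := by
  have hp0 : 0 < p := (Fact.out : p.Prime).pos
  have hpz : (0 : ℤ) < (p : ℤ) := by exact_mod_cast hp0
  ext b
  constructor
  · rintro ⟨a, ha, rfl⟩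
    intro j
    rw [TruncatedWittVector.coeff_truncate]
    have h := ha (Fin.castLE (Nat.le_succ m) j)
    set y := TruncatedWittVector.coeff (Fin.castLE (Nat.le_succ m) j) a with hy
    refine K985.WittFil.mem_of_lt x hx hxa u hu _ p hp0 (fun i => n i % (p : ℤ))
      (fun i => Int.emod_lt_of_pos _ hpz) ?_
    have h1 : (y ^ p ^ (m - 1 - (j : ℕ)) * WittFil.zmon u (fun i => n i / (p : ℤ))) ^ p *
        WittFil.zmon u (fun i => n i % (p : ℤ)) =
        y ^ p ^ (m + 1 - 1 - ((Fin.castLE (Nat.le_succ m) j : Fin (m + 1)) : ℕ)) * WittFil.zmon u n := by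
      rw [mul_pow, K985.WittFil.zmon_pow, mul_assoc, ← K985.WittFil.zmon_add', ← pow_mul, ← pow_succ]
      have h2 : (fun i => n i / (p : ℤ) * (p : ℤ) + n i % (p : ℤ)) = n :=
        funext fun i => Int.ediv_mul_add_emod (n i) p
      have h3 : m - 1 - (j : ℕ) + 1 = m + 1 - 1 - ((Fin.castLE (Nat.le_succ m) j : Fin (m + 1)) : ℕ) := by
        rw [Fin.val_castLE]
        omega
      rw [h2, h3]
    rw [h1]
    exact h
  · intro hb
    refine ⟨TruncatedWittVector.mk p (fun j : Fin (m + 1) =>
      if h : (j : ℕ) < m then TruncatedWittVector.coeff ⟨j, h⟩ b else 0), ?_, ?_⟩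
    · intro j
      rw [TruncatedWittVector.coeff_mk]
      by_cases h : (j : ℕ) < m
      · rw [dif_pos h]
        have hb' := hb ⟨j, h⟩
        set y := TruncatedWittVector.coeff ⟨(j : ℕ), h⟩ b with hy
        have h1 : y ^ p ^ (m + 1 - 1 - (j : ℕ)) * WittFil.zmon u n =
            (y ^ p ^ (m - 1 - (j : ℕ)) * WittFil.zmon u (fun i => n i / (p : ℤ))) ^ p *
            WittFil.zmon u (fun i => n i % (p : ℤ)) := by
          rw [mul_pow, K985.WittFil.zmon_pow, mul_assoc, ← K985.WittFil.zmon_add', ← pow_mul,
            ← pow_succ]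
          have h2 : (fun i => n i / (p : ℤ) * (p : ℤ) + n i % (p : ℤ)) = n :=
            funext fun i => Int.ediv_mul_add_emod (n i) p
          have h3 : m - 1 - (j : ℕ) + 1 = m + 1 - 1 - (j : ℕ) := by omega
          rw [h2, h3]
        rw [h1]
        exact Subring.mul_mem _ (Subring.pow_mem _ hb' _)
          (K985.WittFil.zmon_mem x u hu _ (fun i => Int.emod_nonneg _ hpz.ne'))
      · rw [dif_neg h, zero_pow (pow_pos hp0 _).ne', zero_mul]
        exact Subring.zero_mem _
    · apply TruncatedWittVector.ext
      intro j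
      rw [TruncatedWittVector.coeff_truncate, TruncatedWittVector.coeff_mk,
        dif_pos (by rw [Fin.val_castLE]; exact j.2)]
      rfl

end Groth.Agent.S19264
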