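import Groth.Statements.S19268
import Groth.Agent.WittFil.K985.Power

set_option autoImplicit false
universe u
open WittFil

namespace Groth.Agent.S19268

/-- Let S be an integral domain of characteristic p, A = S[[π]] the power series ring, B = A[1/π] with u
the unit of B given by π, and let m > s ≥ 0 and i be an integer with s = 0 or p ∤ i; put n = p ^
(m−1−s) · i. For e in B write fil(e) for the set of truncated p-typical Witt vectors of length m
over B whose j-th coordinate y_j satisfies y_j ^ (p ^ (m−1−j)) · e ∈ A for all j, and for a Witt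
vector c over S let Φ(c) ∈ W_m(B) be the length-m truncation of V^s(c · [u ^ i]) (V the
Verschiebung, [ ] the Teichmüller map, c mapped to B). Then Φ induces a bijection from the
length-(m−s) truncated Witt vectors of S onto the graded piece fil(u^(−n)) / fil(u^(−n−1)): (1) Φ(c)
lies in fil(u^(−n)) for every c; (2) Φ(c) lies in fil(u^(−n−1)) exactly when the length-(m−s)
truncation of c is zero; (3) every element of fil(u^(−n)) is congruent to some Φ(c) modulo
fil(u^(−n−1)). (Published for S a regular local Noetherian F-finite F_p-algebra; the argument uses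
only that S is a domain.) -/
theorem result (p : ℕ) [Fact p.Prime] {S B : Type u} [CommRing S]
    [IsDomain S] [CharP S p] [CommRing B] [Algebra (PowerSeries S) B] [Algebra S B]
    [IsScalarTower S (PowerSeries S) B] [IsLocalization.Away (PowerSeries.X : PowerSeries S) B]
    (u : Bˣ) (hu : (u : B) = algebraMap (PowerSeries S) B PowerSeries.X) (m s : ℕ) (hs : s < m)
    (i : ℤ) (hsi : s = 0 ∨ ¬ ((p : ℤ) ∣ i)) :
    (∀ c : WittVector p S,
        WittFil.vShiftTeich p m s ((u ^ i : Bˣ) : B) c ∈
          WittFil.fil p m (A := PowerSeries S) ((u ^ (-((p : ℤ) ^ (m - 1 - s) * i)) : Bˣ) : B)) ∧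
      (∀ c : WittVector p S,
        WittFil.vShiftTeich p m s ((u ^ i : Bˣ) : B) c ∈
            WittFil.fil p m (A := PowerSeries S) ((u ^ (-((p : ℤ) ^ (m - 1 - s) * i) - 1) : Bˣ) : B) ↔
          WittVector.truncate (m - s) c = 0) ∧
      (∀ y ∈ WittFil.fil p m (A := PowerSeries S) ((u ^ (-((p : ℤ) ^ (m - 1 - s) * i)) : Bˣ) : B),
        ∃ c : WittVector p S,
          y - WittFil.vShiftTeich p m s ((u ^ i : Bˣ) : B) c ∈
            WittFil.fil p m (A := PowerSeries S)
              ((u ^ (-((p : ℤ) ^ (m - 1 - s) * i) - 1) : Bˣ) : B)) := by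
  classical
  have hp0 : 0 < p := (Fact.out : p.Prime).pos
  have hp1 : 1 < p := (Fact.out : p.Prime).one_lt
  obtain ⟨L, _, _, ι, O, P, hP, hO, hA, hPX⟩ := K985.WittFil.exists_power_field (S := S) (B := B)
  have hroot : ∀ (z : B) (q : ℕ), 0 < q → z ^ q ∈ (algebraMap (PowerSeries S) B).range →
      z ∈ (algebraMap (PowerSeries S) B).range := by
    intro z q hq hz
    rw [hA] at hz ⊢
    rw [map_pow] at hz
    exact hO _ q hq hz
  have hinj : Function.Injective (algebraMap (PowerSeries S) B) :=
    IsLocalization.injective B (powers_le_nonZeroDivisors_of_noZeroDivisors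
      (PowerSeries.X_prime (R := S)).ne_zero)
  have hSB : ∀ s : S, algebraMap S B s = algebraMap (PowerSeries S) B (PowerSeries.C s) := by
    intro s
    rw [IsScalarTower.algebraMap_apply S (PowerSeries S) B]
    rfl
  -- coordinates of Φ(c)
  have hexp : ∀ j : ℕ, s ≤ j → j < m → p ^ (j - s) * p ^ (m - 1 - j) = p ^ (m - 1 - s) := by
    intro j h1 h2
    rw [← pow_add]
    congr 1
    omega
  have hup : ∀ j : ℕ, s ≤ j → j < m → ∀ b : B,
      (b * ((u ^ i : Bˣ) : B) ^ p ^ (j - s)) ^ p ^ (m - 1 - j) *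
        ((u ^ (-((p : ℤ) ^ (m - 1 - s) * i)) : Bˣ) : B) = b ^ p ^ (m - 1 - j) := by
    intro j h1 h2 b
    rw [mul_pow, ← pow_mul, hexp j h1 h2, ← Units.val_pow_eq_pow_val, mul_assoc, ← Units.val_mul,
      ← zpow_natCast, ← zpow_mul, ← zpow_add]
    push_cast
    rw [mul_comm i, add_neg_cancel, zpow_zero, Units.val_one, mul_one]
  have hum1 : ∀ b : B, ∀ N : ℤ, b * ((u ^ (N - 1) : Bˣ) : B) =
      b * ((u ^ N : Bˣ) : B) * ((u⁻¹ : Bˣ) : B) := by
    intro b N
    rw [mul_assoc, ← Units.val_mul, ← zpow_sub_one]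
  -- divisible by X iff times u⁻¹ in A
  have hXdvd : ∀ a : PowerSeries S, algebraMap (PowerSeries S) B a * ((u⁻¹ : Bˣ) : B) ∈
      (algebraMap (PowerSeries S) B).range ↔ PowerSeries.X ∣ a := by
    intro a
    constructor
    · rintro ⟨b, hb⟩
      refine ⟨b, hinj ?_⟩
      rw [map_mul, ← hu, hb, mul_comm, mul_assoc, Units.inv_mul, mul_one]
    · rintro ⟨b, rfl⟩
      refine ⟨b, ?_⟩
      rw [map_mul, ← hu, mul_comm, ← mul_assoc, Units.inv_mul, one_mul]
  refine ⟨?_, ?_, ?_⟩
  · intro c j
    rcases lt_or_ge (j : ℕ) s with h | h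
    · rw [K985.WittFil.vShift_coeff_lt p m s _ c j h, zero_pow (pow_pos hp0 _).ne', zero_mul]
      exact Subring.zero_mem _
    · rw [K985.WittFil.vShift_coeff_ge p m s _ c j h, hup j h j.2, hSB]
      exact Subring.pow_mem _ (RingHom.mem_range_self (algebraMap (PowerSeries S) B) _) _
  · intro c
    constructor
    · intro h
      rw [← map_zero (WittVector.truncate (p := p) (R := S) (m - s))]
      apply K985.WittFil.trunc_eq_of_coeff_eq
      intro j hj
      have h1 := h ⟨j + s, by omega⟩
      rw [K985.WittFil.vShift_coeff_ge p m s _ c _ (Nat.le_add_left s j), hum1,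
        hup _ (Nat.le_add_left s j) (by show j + s < m; omega), Nat.add_sub_cancel, hSB, ← map_pow, ← map_pow,
        hXdvd, PowerSeries.X_dvd_iff, PowerSeries.constantCoeff_C] at h1
      rw [WittVector.zero_coeff]
      exact pow_eq_zero_iff (pow_pos hp0 _).ne' |>.1 h1
    · intro h j
      rcases lt_or_ge (j : ℕ) s with hjs | hjs
      · rw [K985.WittFil.vShift_coeff_lt p m s _ c j hjs, zero_pow (pow_pos hp0 _).ne', zero_mul]
        exact Subring.zero_mem _
      · rw [K985.WittFil.vShift_coeff_ge p m s _ c j hjs]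
        have h1 : c.coeff ((j : ℕ) - s) = 0 := by
          rw [← map_zero (WittVector.truncate (p := p) (R := S) (m - s))] at h
          have := K985.WittFil.coeff_eq_of_trunc_eq p (m - s) h ((j : ℕ) - s) (by omega)
          rwa [WittVector.zero_coeff] at this
        rw [h1, map_zero, zero_mul, zero_pow (pow_pos hp0 _).ne', zero_mul]
        exact Subring.zero_mem _
  · intro y hy
    obtain ⟨Y, rfl⟩ := WittVector.truncate_surjective p m B y
    -- the leading coefficients
    have hlead : ∀ j : ℕ, s ≤ j → j < m → ∃ g : PowerSeries S,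
        Y.coeff j = algebraMap (PowerSeries S) B g * ((u ^ i : Bˣ) : B) ^ p ^ (j - s) := by
      intro j h1 h2
      have h3 := hy ⟨j, h2⟩
      rw [WittVector.coeff_truncate] at h3
      have h4 : Y.coeff j = (Y.coeff j * ((u ^ (-i) : Bˣ) : B) ^ p ^ (j - s)) *
          ((u ^ i : Bˣ) : B) ^ p ^ (j - s) := by
        rw [mul_assoc, ← mul_pow, ← Units.val_mul, ← zpow_add, neg_add_cancel, zpow_zero,
          Units.val_one, one_pow, mul_one]
      rw [h4] at h3
      rw [hup j h1 h2] at h3
      obtain ⟨g, hg⟩ := hroot _ _ (pow_pos hp0 _) h3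
      exact ⟨g, by rw [hg]; exact h4⟩
    choose! g hg using hlead
    let c : WittVector p S := WittVector.mk p (fun l => PowerSeries.constantCoeff (g (l + s)))
    have hcc : ∀ l, c.coeff l = PowerSeries.constantCoeff (g (l + s)) := fun l => rfl
    refine ⟨c, ?_⟩
    obtain ⟨Z, hZ⟩ := WittVector.truncate_surjective p m B
      (WittFil.vShiftTeich p m s ((u ^ i : Bˣ) : B) c)
    have hZc : ∀ j (hj : j < m), Z.coeff j = TruncatedWittVector.coeff (⟨j, hj⟩ : Fin m)
        (WittFil.vShiftTeich p m s ((u ^ i : Bˣ) : B) c) := by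
      intro j hj
      rw [← hZ, WittVector.coeff_truncate]
    have hZlt : ∀ j < m, j < s → Z.coeff j = 0 := by
      intro j hj hjs
      rw [hZc j hj, K985.WittFil.vShift_coeff_lt p m s _ c _ hjs]
    have hZge : ∀ j < m, s ≤ j → Z.coeff j =
        algebraMap (PowerSeries S) B (PowerSeries.C (PowerSeries.constantCoeff (g j))) *
          ((u ^ i : Bˣ) : B) ^ p ^ (j - s) := by
      intro j hj hjs
      rw [hZc j hj, K985.WittFil.vShift_coeff_ge p m s _ c _ hjs, hSB, hcc]
      simp only [Nat.sub_add_cancel hjs]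
    rw [← hZ, ← map_sub]
    obtain ⟨γ, hγ⟩ := IsAlgClosed.exists_pow_nat_eq
      (ι ((u ^ (-((p : ℤ) ^ (m - 1 - s) * i)) : Bˣ) : B)) (pow_pos hp0 (m - 1))
    have hYO := (K985.WittFil.mem_fil_iff p ι O hO hA hγ Y).1 hy
    have hZO : ∀ j < m, (WittVector.teichmuller p γ * WittVector.map ι Z).coeff j ∈ O := by
      apply (K985.WittFil.mem_fil_iff p ι O hO hA hγ Z).1
      rw [hZ]
      intro j
      rcases lt_or_ge (j : ℕ) s with h | h
      · rw [K985.WittFil.vShift_coeff_lt p m s _ c j h, zero_pow (pow_pos hp0 _).ne', zero_mul]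
        exact Subring.zero_mem _
      · rw [K985.WittFil.vShift_coeff_ge p m s _ c j h, hup j h j.2, hSB]
        exact Subring.pow_mem _ (RingHom.mem_range_self (algebraMap (PowerSeries S) B) _) _
    have hroot' : ∀ (z : L) (q : ℕ), 0 < q → (∃ t ∈ P, z ^ q = (t : L)) → ∃ t ∈ P, z = (t : L) := by
      rintro z q hq ⟨t, ht, htz⟩
      have hz : z ∈ O := hO z q hq (by rw [htz]; exact t.2)
      refine ⟨⟨z, hz⟩, hP.mem_of_pow_mem q ?_, rfl⟩
      have : (⟨z, hz⟩ : O) ^ q = t := Subtype.ext htz
      rw [this]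
      exact ht
    have hcong : ∀ j < m, ∃ z ∈ P, (WittVector.teichmuller p γ * WittVector.map ι Y).coeff j -
        (WittVector.teichmuller p γ * WittVector.map ι Z).coeff j = (z : L) := by
      intro j hj
      rw [K985.WittFil.teichmuller_mul_coeff, K985.WittFil.teichmuller_mul_coeff,
        WittVector.map_coeff, WittVector.map_coeff, ← mul_sub, ← map_sub]
      apply hroot' _ (p ^ (m - 1 - j)) (pow_pos hp0 _)
      rw [← K985.WittFil.key_pow p ι hj hγ]
      rcases lt_or_ge j s with h | h
      · rw [hZlt j hj h, sub_zero]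
        have h3 := hy ⟨j, hj⟩
        rw [WittVector.coeff_truncate] at h3
        have hs0 : s ≠ 0 := by omega
        have hpi : ¬ ((p : ℤ) ∣ i) := hsi.resolve_left hs0
        have hndvd : ¬ (((p ^ (m - 1 - j) : ℕ) : ℤ) ∣ -((p : ℤ) ^ (m - 1 - s) * i)) := by
          intro hd
          rw [dvd_neg] at hd
          push_cast at hd
          have h5 : (p : ℤ) ^ (m - 1 - j) = (p : ℤ) ^ (m - 1 - s) * (p : ℤ) ^ (s - j) := by
            rw [← pow_add]
            congr 1
            omega
          rw [h5] at hd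
          have h6 : (p : ℤ) ^ (s - j) ∣ i :=
            (mul_dvd_mul_iff_left (pow_ne_zero _ (by exact_mod_cast hp0.ne'))).1 hd
          exact hpi (dvd_trans (dvd_pow_self _ (by omega)) h6)
        have h4 := K985.WittFil.mem_of_not_dvd (PowerSeries.X : PowerSeries S) PowerSeries.X_prime
          hroot u hu (Y.coeff j) (p ^ (m - 1 - j)) (pow_pos hp0 _) _ hndvd h3
        obtain ⟨a, ha⟩ := h3
        rw [hum1] at h4
        simp only at ha
        rw [← ha] at h4 ⊢
        rw [hXdvd, hPX] at h4
        exact h4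
      · rw [hZge j hj h, hg j h hj, ← sub_mul, ← map_sub, hup j h hj, ← map_pow]
        rw [← hPX]
        apply dvd_pow _ (pow_pos hp0 _).ne'
        rw [PowerSeries.X_dvd_iff, map_sub, PowerSeries.constantCoeff_C, sub_self]
    have hdiff := K985.WittFil.coeff_sub_mem_ideal p O m P hYO hZO hcong
    intro j
    obtain ⟨z, hz, hzj⟩ := hdiff j j.2
    rw [← mul_sub, ← map_sub, K985.WittFil.teichmuller_mul_coeff, WittVector.map_coeff] at hzj
    rw [WittVector.coeff_truncate, hum1]
    have h1 := K985.WittFil.key_pow p ι j.2 hγ ((Y - Z).coeff j)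
    have h2 : ι ((Y - Z).coeff j ^ p ^ (m - 1 - (j : ℕ)) *
        ((u ^ (-((p : ℤ) ^ (m - 1 - s) * i)) : Bˣ) : B)) = ((z ^ p ^ (m - 1 - (j : ℕ)) : O) : L) := by
      rw [h1, hzj]
      rfl
    obtain ⟨a, ha⟩ := (hA _).2 (by rw [h2]; exact Subtype.prop _)
    rw [← ha, hXdvd, hPX, ha, h2]
    exact ⟨_, Ideal.pow_mem_of_mem P hz _ (pow_pos hp0 _), rfl⟩

end Groth.Agent.S19268
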