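import Groth.Statements.S19269
import Mathlib.Tactic
import Mathlib.RingTheory.AdicCompletion.AsTensorProduct
import Mathlib.RingTheory.AdicCompletion.Exactness
import Mathlib.RingTheory.AdicCompletion.Noetherian

set_option autoImplicit false
universe u
open CAlg

namespace Groth.Agent.S19269

open TensorProduct

open IsLocalRing in
/-- Let R be a Noetherian local ring with maximal ideal 𝔪, M a finitely generated R-module and M^ its
𝔪-adic completion, a module over the 𝔪-adic completion R^ of R. Let N' be an R^-submodule of M^ and
N an R-submodule of M whose image in M^ is contained in N' and is dense in N' for the 𝔪-adic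
topology, in the sense that for every y in N' and every k there is x in N with y ≡ x modulo the
kernel of M^ → M/𝔪^k M. Then N' equals the image of the completion of N under the map induced by the
inclusion N → M (so N' is the completion of N), and N is the set of elements of M whose image in M^
lies in N'. -/
theorem result {R : Type u} [CommRing R]
    [IsNoetherianRing R] [IsLocalRing R] {M : Type u} [AddCommGroup M] [Module R M]
    [Module.Finite R M] (N : Submodule R M)
    (N' : Submodule (AdicCompletion (maximalIdeal R) R) (AdicCompletion (maximalIdeal R) M))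
    (hle : ∀ x ∈ N, AdicCompletion.of (maximalIdeal R) M x ∈ N')
    (hdense : ∀ y ∈ N', ∀ k : ℕ, ∃ x ∈ N,
      AdicCompletion.eval (maximalIdeal R) M k y = Submodule.Quotient.mk x) :
    (N'.restrictScalars R =
        (LinearMap.range (AdicCompletion.map (maximalIdeal R) N.subtype)).restrictScalars R) ∧
      (∀ x : M, x ∈ N ↔ AdicCompletion.of (maximalIdeal R) M x ∈ N') := by
  -- elements of `N'` die in the completion of `M ⧸ N`
  have hkey : ∀ y ∈ N', AdicCompletion.map (IsLocalRing.maximalIdeal R) N.mkQ y = 0 := by
    intro y hy
    apply AdicCompletion.ext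
    intro k
    rw [AdicCompletion.map_val_apply]
    obtain ⟨x, hx, hxy⟩ := hdense y hy k
    have h1 : y.val k = Submodule.Quotient.mk x := hxy
    rw [h1]
    change Submodule.Quotient.mk (N.mkQ x) = 0
    have h2 : N.mkQ x = 0 := by
      rw [Submodule.mkQ_apply, Submodule.Quotient.mk_eq_zero]; exact hx
    rw [h2]; rfl
  have hexact : Function.Exact (AdicCompletion.map (IsLocalRing.maximalIdeal R) N.subtype) (AdicCompletion.map (IsLocalRing.maximalIdeal R) N.mkQ) :=
    AdicCompletion.map_exact (I := IsLocalRing.maximalIdeal R) N.injective_subtype (LinearMap.exact_subtype_mkQ N) N.mkQ_surjective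
  constructor
  · apply le_antisymm
    · intro y hy
      exact (hexact y).1 (hkey y hy)
    · rintro _ ⟨z, rfl⟩
      obtain ⟨t, rfl⟩ := AdicCompletion.ofTensorProduct_surjective_of_finite (IsLocalRing.maximalIdeal R) N z
      change AdicCompletion.map (IsLocalRing.maximalIdeal R) N.subtype (AdicCompletion.ofTensorProduct (IsLocalRing.maximalIdeal R) N t) ∈ N'
      induction t using TensorProduct.induction_on with
      | zero => simp
      | tmul r x =>
        rw [AdicCompletion.ofTensorProduct_tmul, map_smul, AdicCompletion.map_of]
        exact N'.smul_mem _ (hle _ x.2)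
      | add t t' h h' =>
        rw [map_add, map_add]
        exact N'.add_mem h h'
  · intro x
    refine ⟨hle x, fun hx => ?_⟩
    have h1 := hkey _ hx
    rw [AdicCompletion.map_of] at h1
    have h2 : IsHausdorff (IsLocalRing.maximalIdeal R) (M ⧸ N) := IsHausdorff.of_isLocalRing _ _ (Ideal.IsPrime.ne_top inferInstance)
    have h3 : N.mkQ x = 0 := by
      apply AdicCompletion.of_injective (IsLocalRing.maximalIdeal R) (M ⧸ N)
      rw [h1, map_zero]
    rwa [Submodule.mkQ_apply, Submodule.Quotient.mk_eq_zero] at h3

end Groth.Agent.S19269
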