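import Groth.Statements.S19270
import Mathlib.Tactic
import Mathlib.RingTheory.Ideal.Cotangent
import Mathlib.RingTheory.Kaehler.Basic
import Mathlib.Algebra.Algebra.ZMod
import Mathlib.LinearAlgebra.Matrix.NonsingularInverse
import Mathlib.LinearAlgebra.Basis.Prod
import Mathlib.RingTheory.LocalRing.Module
import Mathlib.LinearAlgebra.Dimension.OrzechProperty
import Mathlib.RingTheory.RegularLocalRing.Defs
import Groth.Agent.CalgA.H1Union

set_option autoImplicit false
universe u
open CAlg

namespace Groth.Agent.S19270

section helpers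
open IsLocalRing

variable {A : Type u} [CommRing A] [IsLocalRing A]

/-- The derivation `A → 𝔪/𝔪²` attached to a section of `A/𝔪² → κ`. -/
noncomputable def sectionDerivation (σ : ResidueField A →+* A ⧸ (maximalIdeal A) ^ 2)
    (hσ : ∀ a : A, Ideal.Quotient.mk _ a - σ (residue A a) ∈ (maximalIdeal A).cotangentIdeal) :
    Derivation ℤ A ((maximalIdeal A).Cotangent) :=
  Derivation.mk'
    ((((maximalIdeal A).cotangentEquivIdeal.symm.toLinearMap.toAddMonoidHom).comp
      { toFun := fun a => (⟨Ideal.Quotient.mk _ a - σ (residue A a), hσ a⟩ :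
          (maximalIdeal A).cotangentIdeal)
        map_zero' := by
          ext; simp
        map_add' := fun a b => by
          ext
          simp only [map_add, Submodule.coe_add]
          ring }).toIntLinearMap)
    (by
      intro a b
      apply (maximalIdeal A).cotangentEquivIdeal.injective
      rw [map_add, map_smul, map_smul]
      change (maximalIdeal A).cotangentEquivIdeal ((maximalIdeal A).cotangentEquivIdeal.symm _) =
        a • (maximalIdeal A).cotangentEquivIdeal ((maximalIdeal A).cotangentEquivIdeal.symm _) +
        b • (maximalIdeal A).cotangentEquivIdeal ((maximalIdeal A).cotangentEquivIdeal.symm _)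
      simp only [LinearEquiv.apply_symm_apply]
      apply Subtype.ext
      have h0 : (Ideal.Quotient.mk _ a - σ (residue A a)) * (Ideal.Quotient.mk _ b - σ (residue A b))
          = 0 := by
        have h1 := Ideal.mul_mem_mul (hσ a) (hσ b)
        rw [← pow_two, Ideal.cotangentIdeal_square] at h1
        exact h1
      change Ideal.Quotient.mk _ (a * b) - σ (residue A (a * b)) =
        Ideal.Quotient.mk _ a * (Ideal.Quotient.mk _ b - σ (residue A b)) +
        Ideal.Quotient.mk _ b * (Ideal.Quotient.mk _ a - σ (residue A a))
      simp only [map_mul]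
      linear_combination -h0)

theorem sectionDerivation_apply (σ : ResidueField A →+* A ⧸ (maximalIdeal A) ^ 2)
    (hσ : ∀ a : A, Ideal.Quotient.mk _ a - σ (residue A a) ∈ (maximalIdeal A).cotangentIdeal)
    (x : A) (hx : x ∈ maximalIdeal A) :
    sectionDerivation σ hσ x = (maximalIdeal A).toCotangent ⟨x, hx⟩ := by
  apply (maximalIdeal A).cotangentEquivIdeal.injective
  change (maximalIdeal A).cotangentEquivIdeal ((maximalIdeal A).cotangentEquivIdeal.symm _) = _
  rw [LinearEquiv.apply_symm_apply]
  apply Subtype.ext
  change Ideal.Quotient.mk _ x - σ (residue A x) = _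
  have : residue A x = 0 := (residue_eq_zero_iff x).2 hx
  rw [this, map_zero, sub_zero]
  rfl

/-- existence of a section of `A/𝔪² → κ` in characteristic `p` -/
theorem exists_section (p : ℕ) [Fact p.Prime] [CharP A p] :
    ∃ σ : ResidueField A →+* A ⧸ (maximalIdeal A) ^ 2,
      ∀ a : A, Ideal.Quotient.mk _ a - σ (residue A a) ∈ (maximalIdeal A).cotangentIdeal := by
  letI : Algebra (ZMod p) A := ZMod.algebra A p
  letI : Algebra (ZMod p) (ResidueField A) := ((residue A).comp (algebraMap (ZMod p) A)).toAlgebra
  have hfs : Algebra.FormallySmooth (ZMod p) (ResidueField A) :=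
    Groth.Agent.CalgA.H1Union.formallySmooth_of_perfectField _ _
  let g : (A ⧸ (maximalIdeal A) ^ 2) →ₐ[ZMod p] ResidueField A :=
    Ideal.Quotient.liftₐ _
      { residue A with
        commutes' := fun _ => rfl }
      (fun a ha => (residue_eq_zero_iff a).2 (Ideal.pow_le_self two_ne_zero ha))
  have hg : ∀ a, g (Ideal.Quotient.mk _ a) = residue A a := fun a => rfl
  have hgs : Function.Surjective g := by
    intro y
    obtain ⟨a, rfl⟩ := residue_surjective y
    exact ⟨Ideal.Quotient.mk _ a, hg a⟩
  have hker : RingHom.ker (g : (A ⧸ (maximalIdeal A) ^ 2) →+* ResidueField A) =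
      (maximalIdeal A).cotangentIdeal := by
    ext z
    obtain ⟨a, rfl⟩ := Ideal.Quotient.mk_surjective z
    rw [Ideal.mk_mem_cotangentIdeal, RingHom.mem_ker]
    change residue A a = 0 ↔ _
    rw [residue_eq_zero_iff]
  have hnil : IsNilpotent (RingHom.ker (g : (A ⧸ (maximalIdeal A) ^ 2) →+* ResidueField A)) :=
    ⟨2, by rw [hker, Ideal.cotangentIdeal_square]; rfl⟩
  let σ := Algebra.FormallySmooth.liftOfSurjective (AlgHom.id (ZMod p) (ResidueField A)) g hgs hnil
  have hσ : ∀ y, g (σ y) = y := fun y =>
    Algebra.FormallySmooth.liftOfSurjective_apply (AlgHom.id (ZMod p) (ResidueField A)) g hgs hnil y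
  refine ⟨σ.toRingHom, fun a => ?_⟩
  rw [← hker, RingHom.mem_ker, map_sub]
  change g (Ideal.Quotient.mk _ a) - g (σ (residue A a)) = 0
  rw [hσ, hg, sub_self]

end helpers

open IsLocalRing in
/-- Let A be a regular local ring of prime characteristic p, of Krull dimension N, with maximal ideal
generated by x_1, …, x_N, and assume that the module Ω_A of absolute Kähler differentials of A
(differentials relative to ℤ, equivalently relative to the prime field) is a free A-module of finite
rank. Then dx_1, …, dx_N are part of a basis of Ω_A: there exist a basis b of Ω_A and an injection e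
of the indices 1, …, N into the index type of b with b (e i) = d(x_i) for all i. (In the published
statement A is a regular local F-finite algebra over the prime field and the freeness and finiteness
of Ω_A form the first assertion, taken there from the literature; here they are hypotheses.) -/
theorem result (p : ℕ) [Fact p.Prime]
    {A : Type u} [CommRing A] [IsRegularLocalRing A] [CharP A p]
    [Module.Free A (KaehlerDifferential ℤ A)] [Module.Finite A (KaehlerDifferential ℤ A)]
    {N : ℕ} (x : Fin N → A) (hx : Ideal.span (Set.range x) = maximalIdeal A)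
    (hN : ringKrullDim A = (N : WithBot ℕ∞)) :
    ∃ (ι : Type u) (b : Module.Basis ι A (KaehlerDifferential ℤ A)) (e : Fin N ↪ ι),
      ∀ i : Fin N, b (e i) = KaehlerDifferential.D ℤ A (x i) := by
  classical
  obtain ⟨σ, hσ⟩ := exists_section (A := A) p
  set κ := ResidueField A
  let F := KaehlerDifferential ℤ A
  let L : F →ₗ[A] (maximalIdeal A).Cotangent := (sectionDerivation σ hσ).liftKaehlerDifferential
  have hxm : ∀ i, x i ∈ maximalIdeal A := fun i => by
    rw [← hx]; exact Ideal.subset_span ⟨i, rfl⟩
  have hL : ∀ i, L (KaehlerDifferential.D ℤ A (x i)) = (maximalIdeal A).toCotangent ⟨x i, hxm i⟩ := by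
    intro i
    rw [← sectionDerivation_apply σ hσ (x i) (hxm i)]
    exact (sectionDerivation σ hσ).liftKaehlerDifferential_comp_D _
  -- the classes of the `x i` are a basis of the cotangent space
  let v : Fin N → CotangentSpace A := fun i => (maximalIdeal A).toCotangent ⟨x i, hxm i⟩
  have hfr : Module.finrank (ResidueField A) (CotangentSpace A) = N := by
    have h1 := (IsRegularLocalRing.iff_finrank_cotangentSpace A).1 (inferInstance : IsRegularLocalRing A)
    rw [hN] at h1
    exact_mod_cast h1
  have hspan : ⊤ ≤ Submodule.span (ResidueField A) (Set.range v) := by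
    have h1 : Set.range v = (maximalIdeal A).toCotangent '' (Set.range fun i => (⟨x i, hxm i⟩ : maximalIdeal A)) := by
      rw [← Set.range_comp]; rfl
    rw [h1, CotangentSpace.span_image_eq_top_iff.2]
    rw [← (Submodule.map_injective_of_injective (maximalIdeal A).injective_subtype).eq_iff,
      Submodule.map_span, Submodule.map_top, Submodule.range_subtype, ← Set.range_comp]
    exact hx
  let bv : Module.Basis (Fin N) (ResidueField A) (CotangentSpace A) :=
    basisOfTopLeSpanOfCardEqFinrank v hspan (by rw [Fintype.card_fin, hfr])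
  have hbv : ∀ i, bv i = v i := fun i => by
    rw [coe_basisOfTopLeSpanOfCardEqFinrank]
  -- lift the coordinates
  let ρ : (Fin N → A) →ₗ[A] (Fin N → ResidueField A) :=
    LinearMap.pi fun i => (Algebra.linearMap A (ResidueField A)).comp (LinearMap.proj i)
  have hρs : Function.Surjective ρ := by
    intro y
    choose a ha using fun i => residue_surjective (y i)
    exact ⟨a, funext ha⟩
  let c : F →ₗ[A] (Fin N → ResidueField A) :=
    (bv.equivFun.toLinearMap.restrictScalars A).comp L
  obtain ⟨h, hh⟩ := Module.projective_lifting_property ρ c hρs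
  have hh' : ∀ ω i, residue A (h ω i) = bv.equivFun (L ω) i := fun ω i =>
    congrFun (LinearMap.congr_fun hh ω) i
  let T : (Fin N → A) →ₗ[A] F := Fintype.linearCombination A (fun i => KaehlerDifferential.D ℤ A (x i))
  have hT : ∀ i, T (Pi.single i 1) = KaehlerDifferential.D ℤ A (x i) := by
    intro i
    simp [T, Fintype.linearCombination_apply_single]
  let M : Matrix (Fin N) (Fin N) A := LinearMap.toMatrix' (h.comp T)
  have hM : (residue A).mapMatrix M = 1 := by
    ext i j
    change residue A (LinearMap.toMatrix' (h.comp T) i j) = _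
    rw [LinearMap.toMatrix'_apply]
    change residue A (h (T (Pi.single j 1)) i) = _
    rw [hT, hh', hL]
    have : bv.equivFun (bv j) i = (1 : Matrix (Fin N) (Fin N) (ResidueField A)) i j := by
      rw [Module.Basis.equivFun_apply, Module.Basis.repr_self, Finsupp.single_apply, Matrix.one_apply]
      simp only [eq_comm]
    rw [← this, hbv]
  have hdet : IsUnit M.det := by
    by_contra hne
    have h1 : M.det ∈ maximalIdeal A := hne
    rw [← residue_eq_zero_iff, RingHom.map_det, hM, Matrix.det_one] at h1
    exact one_ne_zero h1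
  let h' : F →ₗ[A] (Fin N → A) := (Matrix.toLin' M⁻¹).comp h
  have hh'T : ∀ a, h' (T a) = a := by
    intro a
    have h1 : (h.comp T) = Matrix.toLin' M := (Matrix.toLin'_toMatrix' _).symm
    have h2 : h (T a) = Matrix.toLin' M a := LinearMap.congr_fun h1 a
    change Matrix.toLin' M⁻¹ (h (T a)) = a
    rw [h2, ← LinearMap.comp_apply, ← Matrix.toLin'_mul, Matrix.nonsing_inv_mul _ hdet,
      Matrix.toLin'_one, LinearMap.id_apply]
  let K := LinearMap.ker h'
  let q₀ : F →ₗ[A] F := LinearMap.id - T.comp h'
  have hq₀ : ∀ ω, q₀ ω ∈ K := fun ω => by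
    rw [LinearMap.mem_ker]
    simp only [q₀, LinearMap.sub_apply, LinearMap.id_apply, LinearMap.comp_apply, map_sub, hh'T,
      sub_self]
  let q : F →ₗ[A] K := LinearMap.codRestrict K q₀ hq₀
  have hqK : q.comp K.subtype = LinearMap.id := by
    ext ⟨ω, hω⟩
    have : h' ω = 0 := hω
    simp [q, q₀, this]
  have hKproj : Module.Projective A K := Module.Projective.of_split K.subtype q hqK
  have hKfin : Module.Finite A K := Module.Finite.of_surjective q (fun k => ⟨k, LinearMap.congr_fun hqK k⟩)
  have hKfree : Module.Free A K := Module.free_of_flat_of_isLocalRing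
  let e : ((Fin N → A) × K) ≃ₗ[A] F :=
    LinearEquiv.ofLinearMap (T.coprod K.subtype) (h'.prod q)
      (by
        ext ω
        simp [q, q₀])
      (by
        apply LinearMap.ext
        rintro ⟨a, ⟨ω, hω⟩⟩
        have h1 : h' ω = 0 := hω
        refine Prod.ext ?_ ?_
        · change h' (T a + ω) = a
          rw [map_add, hh'T, h1, add_zero]
        · apply Subtype.ext
          change (T a + ω) - T (h' (T a + ω)) = ω
          rw [map_add h', hh'T, h1, add_zero]
          abel)
  let b₀ := ((Pi.basisFun A (Fin N)).prod (Module.Free.chooseBasis A K)).map e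
  let b := b₀.reindex (Equiv.ulift.{u} (α := Fin N ⊕ Module.Free.ChooseBasisIndex A K)).symm
  refine ⟨ULift.{u} (Fin N ⊕ Module.Free.ChooseBasisIndex A K), b,
    ⟨fun i => ULift.up (Sum.inl i), fun i j hij => by simpa using hij⟩, fun i => ?_⟩
  have h1 : b (ULift.up (Sum.inl i)) = b₀ (Sum.inl i) := by
    simp [b]
  change b (ULift.up (Sum.inl i)) = _
  rw [h1]
  have h2 : ((Pi.basisFun A (Fin N)).prod (Module.Free.chooseBasis A K)) (Sum.inl i) =
      ((Pi.single i 1 : Fin N → A), (0 : K)) := by
    rw [Module.Basis.prod_apply]
    simp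
  simp only [b₀, Module.Basis.map_apply]
  rw [h2, ← hT i]
  change T (Pi.single i 1) + K.subtype 0 = _
  simp

end Groth.Agent.S19270
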