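import Groth.Statements.S19273
import Mathlib.Tactic
import Mathlib.RingTheory.Etale.Kaehler
import Mathlib.RingTheory.Localization.Module
import Mathlib.LinearAlgebra.Basis.SMul

set_option autoImplicit false
universe u
open CAlg

namespace Groth.Agent.S19273

open KaehlerDifferential in
/-- Let A be an integral domain of prime characteristic p, x_1, …, x_N elements of A, r ≤ N, B =
A[1/(x_1⋯x_r)] with u_i the unit of B defined by x_i for i ≤ r, and suppose that the module Ω_A of
absolute Kähler differentials of A is free with a basis b indexed by {1, …, N} ⊔ ι whose i-th vector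
is d(x_i) for i ≤ N. Then the module of logarithmic 1-forms — the A-submodule of Ω_B spanned by the
image of Ω_A and the forms u_i⁻¹ · d(x_i), i ≤ r — is a free A-module: it has a basis indexed by {1,
…, N} ⊔ ι whose vector at i ≤ r is u_i⁻¹ · d(x_i), at r < i ≤ N is d(x_i), and at k ∈ ι is the image
of b_k. (In the published statement A is a regular local F-finite algebra over the prime field with
maximal ideal (x_1, …, x_N), the basis of Ω_A comes from the preceding lemma, and the assertion
covers the logarithmic q-forms for all q together with their identification with the log de Rham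
complex of the log ring; only the degree-one freeness is stated here, from the properties of A
actually used.) -/
theorem result (p : ℕ) [Fact p.Prime]
    {A B : Type u} [CommRing A] [IsDomain A] [CharP A p] [CommRing B] [Algebra A B] {r N : ℕ}
    (hr : r ≤ N) (x : Fin N → A) [IsLocalization.Away (∏ i : Fin r, x (Fin.castLE hr i)) B]
    (u : Fin r → Bˣ) (hu : ∀ i, (u i : B) = algebraMap A B (x (Fin.castLE hr i)))
    {ι : Type u} (b : Module.Basis (Fin N ⊕ ι) A (Ω[A⁄ℤ])) (hb : ∀ i, b (Sum.inl i) = D ℤ A (x i)) :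
    ∃ e : Module.Basis (Fin N ⊕ ι) A
        (W4c6katofilta.logForms1 (fun i : Fin r => x (Fin.castLE hr i)) u),
      (∀ i : Fin r, (e (Sum.inl (Fin.castLE hr i)) : Ω[B⁄ℤ]) =
          ((u i)⁻¹ : Bˣ) • KaehlerDifferential.map ℤ ℤ A B (D ℤ A (x (Fin.castLE hr i)))) ∧
      (∀ i : Fin N, r ≤ (i : ℕ) →
          (e (Sum.inl i) : Ω[B⁄ℤ]) = KaehlerDifferential.map ℤ ℤ A B (D ℤ A (x i))) ∧
      (∀ k : ι, (e (Sum.inr k) : Ω[B⁄ℤ]) = KaehlerDifferential.map ℤ ℤ A B (b (Sum.inr k))) := by
  classical
  set s : A := ∏ i : Fin r, x (Fin.castLE hr i) with hs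
  have hx0 : ∀ i, x i ≠ 0 := by
    intro i h0
    have h1 := hb i
    rw [h0, map_zero] at h1
    exact b.ne_zero _ h1
  have hs0 : s ≠ 0 := Finset.prod_ne_zero_iff.2 (fun i _ => hx0 _)
  have hM : Submonoid.powers s ≤ nonZeroDivisors A := by
    rintro _ ⟨n, rfl⟩
    exact pow_mem (mem_nonZeroDivisors_of_ne_zero hs0) n
  have hinj : Function.Injective (algebraMap A B) := IsLocalization.injective B hM
  let f : Ω[A⁄ℤ] →ₗ[A] Ω[B⁄ℤ] := KaehlerDifferential.map ℤ ℤ A B
  haveI : IsLocalizedModule (Submonoid.powers s) f :=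
    KaehlerDifferential.isLocalizedModule_map (R := ℤ) (S := A) (T := B) (Submonoid.powers s)
  let β : Module.Basis (Fin N ⊕ ι) B (Ω[B⁄ℤ]) := b.ofIsLocalizedModule B (Submonoid.powers s) f
  have hβ : ∀ i, β i = f (b i) := fun i => b.ofIsLocalizedModule_apply B (Submonoid.powers s) f i
  let w : Fin N ⊕ ι → Bˣ := fun t => match t with
    | Sum.inl i => if h : (i : ℕ) < r then (u ⟨i, h⟩)⁻¹ else 1
    | Sum.inr _ => 1
  let γ := β.unitsSMul w
  have hγ : ∀ t, γ t = w t • f (b t) := fun t => by
    rw [Module.Basis.unitsSMul_apply, hβ]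
  have hli : LinearIndependent A γ := by
    refine LinearIndependent.restrict_scalars ?_ γ.linearIndependent
    intro a a' h
    apply hinj
    simpa [Algebra.smul_def] using h
  have hγ1 : ∀ i : Fin r, γ (Sum.inl (Fin.castLE hr i)) =
      ((u i)⁻¹ : Bˣ) • KaehlerDifferential.map ℤ ℤ A B (D ℤ A (x (Fin.castLE hr i))) := by
    intro i
    have h1 : w (Sum.inl (Fin.castLE hr i)) = (u i)⁻¹ := by
      simp [w]
    rw [hγ, h1, hb]
  have hγ2 : ∀ i : Fin N, r ≤ (i : ℕ) → γ (Sum.inl i) = KaehlerDifferential.map ℤ ℤ A B (D ℤ A (x i)) := by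
    intro i hi
    have h1 : w (Sum.inl i) = 1 := by
      simp [w, hi]
    rw [hγ, h1, hb, one_smul]
  have hγ3 : ∀ t : ι, γ (Sum.inr t) = KaehlerDifferential.map ℤ ℤ A B (b (Sum.inr t)) := by
    intro t
    have h1 : w (Sum.inr t) = 1 := rfl
    rw [hγ, h1, one_smul]
  have hspan : Submodule.span A (Set.range γ) =
      W4c6katofilta.logForms1 (fun i : Fin r => x (Fin.castLE hr i)) u := by
    apply le_antisymm
    · rw [Submodule.span_le]
      rintro _ ⟨t, rfl⟩
      rcases t with i | t
      · by_cases h : (i : ℕ) < r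
        · have h1 : i = Fin.castLE hr ⟨i, h⟩ := by ext; simp
          rw [h1, hγ1]
          exact Submodule.subset_span (Or.inr ⟨_, rfl⟩)
        · rw [hγ2 i (not_lt.1 h)]
          exact Submodule.subset_span (Or.inl ⟨_, rfl⟩)
      · rw [hγ3]
        exact Submodule.subset_span (Or.inl ⟨_, rfl⟩)
    · rw [W4c6katofilta.logForms1, Submodule.span_le]
      rintro _ (⟨ω, rfl⟩ | ⟨i, rfl⟩)
      · -- the image of `ω`
        have h1 : ∀ t, f (b t) ∈ Submodule.span A (Set.range γ) := by
          intro t
          rcases t with i | t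
          · by_cases h : (i : ℕ) < r
            · have h1 : i = Fin.castLE hr ⟨i, h⟩ := by ext; simp
              have h2 : f (b (Sum.inl i)) = x i • γ (Sum.inl i) := by
                have h3 : w (Sum.inl i) = (u ⟨i, h⟩)⁻¹ := by simp [w, h]
                rw [hγ, h3, Units.smul_def, ← algebraMap_smul B (x i), smul_smul]
                have h4 : algebraMap A B (x i) = (u ⟨i, h⟩ : B) := by
                  rw [hu]; rfl
                rw [h4, Units.mul_inv, one_smul]
              rw [h2]
              exact Submodule.smul_mem _ _ (Submodule.subset_span ⟨_, rfl⟩)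
            · have h2 : f (b (Sum.inl i)) = γ (Sum.inl i) := by
                rw [hγ2 i (not_lt.1 h), hb]
              rw [h2]
              exact Submodule.subset_span ⟨_, rfl⟩
          · have h2 : f (b (Sum.inr t)) = γ (Sum.inr t) := (hγ3 t).symm
            rw [h2]
            exact Submodule.subset_span ⟨_, rfl⟩
        change f ω ∈ _
        rw [← b.linearCombination_repr ω, Finsupp.linearCombination_apply, Finsupp.sum, map_sum]
        refine Submodule.sum_mem _ (fun t _ => ?_)
        rw [map_smul]
        exact Submodule.smul_mem _ _ (h1 t)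
      · simp only
        rw [← hγ1 i]
        exact Submodule.subset_span ⟨_, rfl⟩
  let e := (Module.Basis.span hli).map (LinearEquiv.ofEq _ _ hspan)
  have he : ∀ t, (e t : Ω[B⁄ℤ]) = γ t := by
    intro t
    simp [e, Module.Basis.span_apply]
  refine ⟨e, ?_, ?_, ?_⟩
  · intro i; rw [he, hγ1]
  · intro i hi; rw [he, hγ2 i hi]
  · intro t; rw [he, hγ3]

end Groth.Agent.S19273
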