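import Groth.Statements.S19274
import Groth.Agent.WittFil.K985.Ufd
import Mathlib.RingTheory.WittVector.Domain
import Mathlib.RingTheory.WittVector.InitTail

set_option autoImplicit false
universe u
open WittFil

namespace Groth.Agent.S19274

/-- Let A be a unique factorisation domain of characteristic p, x a prime element of A, B = A[1/x] with
u the unit of B defined by x, m ≥ 1, and n an integer NOT divisible by p^m. For e in B and k ≥ 0
write fil_k(e) for the set of truncated p-typical Witt vectors of length k over B whose j-th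
coordinate y_j satisfies y_j ^ (p ^ (k−1−j)) · e ∈ A for all j < k (the filtered piece; fil_k(u^n)
is the piece of index n). Then fil_{m+1}(u^n) is contained in fil_{m+1}(u^(n−1)) + V(fil_m(u^n))
(the reverse inclusion is immediate): every a in fil_{m+1}(u^n) can be written a = b + V(y) with b
in fil_{m+1}(u^(n−1)) and y a Witt vector over B whose length-m truncation lies in fil_m(u^n), V(y)
being truncated to length m+1. (In the source A is a henselian discrete valuation ring, n = p^r·l >
1 with p not dividing l, and the condition reads m ≥ r + 1.) -/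
theorem result (p : ℕ) [Fact p.Prime]
    {A B : Type u} [CommRing A] [IsDomain A] [UniqueFactorizationMonoid A] [CharP A p]
    [CommRing B] [Algebra A B] (x : A) (hx : Prime x) [IsLocalization.Away x B] (u : Bˣ)
    (hu : (u : B) = algebraMap A B x) (m : ℕ) (hm : 0 < m) (n : ℤ) (hn : ¬ ((p : ℤ) ^ m ∣ n)) :
    ∀ a ∈ WittFil.fil p (m + 1) (A := A) ((u ^ n : Bˣ) : B),
      ∃ b ∈ WittFil.fil p (m + 1) (A := A) ((u ^ (n - 1) : Bˣ) : B),
        ∃ y : WittVector p B,
          WittVector.truncate m y ∈ WittFil.fil p m (A := A) ((u ^ n : Bˣ) : B) ∧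
            a = b + WittVector.truncate (m + 1) (WittVector.verschiebung y) := by
  have hp0 : 0 < p := (Fact.out : p.Prime).pos
  have hq0 : 0 < p ^ m := pow_pos hp0 m
  have hqz : (0 : ℤ) < (p : ℤ) ^ m := by exact_mod_cast hq0
  let x' : Fin 1 → A := fun _ => x
  let u' : Fin 1 → Bˣ := fun _ => u
  have hprod : ∏ i, x' i = x := by simp [x']
  have hloc : IsLocalization.Away (∏ i, x' i) B := by rw [hprod]; infer_instance
  have hzm : ∀ k : ℤ, WittFil.zmon u' (fun _ => k) = ((u ^ k : Bˣ) : B) := by
    intro k; simp [WittFil.zmon, u']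
  intro a ha
  obtain ⟨X, rfl⟩ := WittVector.truncate_surjective p (m + 1) B a
  set r : ℤ := n % (p : ℤ) ^ m with hr
  set k : ℤ := n / (p : ℤ) ^ m with hk
  have hnk : k * (p : ℤ) ^ m + r = n := Int.ediv_mul_add_emod n _
  have hr1 : 0 < r := by
    rcases (Int.emod_nonneg n hqz.ne').lt_or_eq with h | h
    · exact h
    · exact absurd (Int.dvd_of_emod_eq_zero h.symm) hn
  have hr2 : r < (p : ℤ) ^ m := Int.emod_lt_of_pos n hqz
  have h0 := ha 0
  rw [WittVector.coeff_truncate, Fin.val_zero] at h0
  have hw : X.coeff 0 * ((u ^ k : Bˣ) : B) ∈ (algebraMap A B).range := by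
    refine K985.WittFil.mem_of_lt x' (fun _ => hx) (fun i j _ => Subsingleton.elim i j) u'
      (fun _ => hu) _ (p ^ m) hq0 (fun _ => r) (fun _ => by exact_mod_cast hr2) ?_
    rw [hzm, mul_pow, mul_assoc, ← Units.val_pow_eq_pow_val, ← Units.val_mul, ← zpow_natCast,
      ← zpow_mul, ← zpow_add]
    have h2 : k * ((p ^ m : ℕ) : ℤ) + r = n := by push_cast; exact hnk
    rw [h2]
    exact h0
  refine ⟨WittVector.truncate (m + 1) (WittVector.teichmuller p (X.coeff 0)), ?_,
    X.shift 1, ?_, ?_⟩
  · intro j
    rw [WittVector.coeff_truncate]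
    refine Fin.cases ?_ (fun i => ?_) j
    · rw [Fin.val_zero, WittVector.teichmuller_coeff_zero]
      have h3 : X.coeff 0 ^ p ^ (m + 1 - 1 - 0) * ((u ^ (n - 1) : Bˣ) : B) =
          (X.coeff 0 * ((u ^ k : Bˣ) : B)) ^ p ^ m * WittFil.zmon u' (fun _ => r - 1) := by
        rw [hzm, mul_pow, mul_assoc, ← Units.val_pow_eq_pow_val, ← Units.val_mul, ← zpow_natCast,
          ← zpow_mul, ← zpow_add]
        have h2 : k * ((p ^ m : ℕ) : ℤ) + (r - 1) = n - 1 := by push_cast; rw [← hnk]; ring
        rw [h2]
        rfl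
      rw [h3]
      exact Subring.mul_mem _ (Subring.pow_mem _ hw _)
        (K985.WittFil.zmon_mem x' u' (fun _ => hu) _ (fun _ => by omega))
    · rw [Fin.val_succ, WittVector.teichmuller_coeff_pos p _ _ (Nat.succ_pos _),
        zero_pow (pow_pos hp0 _).ne', zero_mul]
      exact Subring.zero_mem _
  · intro j
    have h4 := ha j.succ
    rw [WittVector.coeff_truncate] at h4 ⊢
    rw [WittVector.shift_coeff]
    rw [Fin.val_succ] at h4
    have h5 : m + 1 - 1 - ((j : ℕ) + 1) = m - 1 - (j : ℕ) := by omega
    rw [h5] at h4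
    rw [add_comm 1 (j : ℕ)]
    exact h4
  · rw [← map_add]
    congr 1
    have h6 : ∀ i, (WittVector.teichmuller p (X.coeff 0)).coeff i = 0 ∨
        (WittVector.verschiebung (X.shift 1)).coeff i = 0 := by
      intro i
      rcases i with _ | i
      · exact Or.inr (WittVector.verschiebung_coeff_zero _)
      · exact Or.inl (WittVector.teichmuller_coeff_pos p _ _ (Nat.succ_pos _))
    ext i
    rw [WittVector.coeff_add_of_disjoint i _ _ h6]
    rcases i with _ | i
    · rw [WittVector.teichmuller_coeff_zero, WittVector.verschiebung_coeff_zero, add_zero]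
    · rw [WittVector.teichmuller_coeff_pos p _ _ (Nat.succ_pos _), zero_add,
        WittVector.verschiebung_coeff_add_one, WittVector.shift_coeff, add_comm]

end Groth.Agent.S19274
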