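import Groth.Statements.S19275
import Groth.Agent.Hoch.K915.BaseChange

set_option autoImplicit false
universe u v w
open Hoch

namespace Groth.Agent.S19275

open TensorProduct in
/-- In the case of an affine group scheme over a field (a K-groupoid acting on Spec K itself),
cohomology commutes with arbitrary base change. Precisely: let K be a field, A a commutative Hopf
algebra over K (the coordinate ring of an affine K-group scheme G), V a right A-comodule (a linear
representation of G) and R any commutative K-algebra. Give R ⊗ V the base-changed comodule structure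
over the R-bialgebra R ⊗ A, whose coaction sends r ⊗ v to the image of r ⊗ ρ(v) under the canonical
identification of R ⊗ (V ⊗ A) with (R ⊗ V) ⊗_R (R ⊗ A), and let φ_n : R ⊗ C^n(A, V) → C^n(R ⊗ A, R ⊗
V) be the canonical R-linear maps between the Hochschild cochain modules, determined by φ_0 = id and
φ_{n+1}(r ⊗ (c ⊗ a)) = φ_n(r ⊗ c) ⊗ (1 ⊗ a). Then every φ_n is bijective, the φ_n commute with the
Hochschild differentials, and for every n there is an R-linear isomorphism R ⊗ H^n(A, V) ≅ H^n(R ⊗
A, R ⊗ V) sending r ⊗ [z] to [φ_n(r ⊗ z)] for every n-cocycle z. (The published statement is for an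
affine K-groupoid acting on the spectrum of a finite extension L of K and its coherent
representations, with K of characteristic 0; this is its case L = K, in which the cochain complex of
a representation is the Hochschild complex of the comodule; V is not assumed finite-dimensional and
K may be any field.) -/
theorem result
    (K : Type u) [Field K] (A : Type v) [CommRing A] [HopfAlgebra K A]
    (V : Type v) [AddCommGroup V] [Module K V] [HopfRep.Comod K A V]
    (R : Type w) [CommRing R] [Algebra K R]
    (φ : ∀ n : ℕ, R ⊗[K] (Hoch.cochain K A V n) →ₗ[R] (Hoch.cochain R (R ⊗[K] A) (R ⊗[K] V) n))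
    (hφ0 : ∀ x : R ⊗[K] V, φ 0 x = x)
    (hφs : ∀ (n : ℕ) (r : R) (c : Hoch.cochain K A V n) (a : A),
      φ (n + 1) (r ⊗ₜ[K] (c ⊗ₜ[K] a)) = (φ n (r ⊗ₜ[K] c)) ⊗ₜ[R] ((1 : R) ⊗ₜ[K] a)) :
    letI := CoactBr.Comod.baseChange K R A V
    (∀ n : ℕ, Function.Bijective (φ n)) ∧
    (∀ (n : ℕ) (x : R ⊗[K] (Hoch.cochain K A V n)),
        φ (n + 1) ((Hoch.d K A V n).baseChange R x) = Hoch.d R (R ⊗[K] A) (R ⊗[K] V) n (φ n x)) ∧
      ∀ n : ℕ, ∃ e : R ⊗[K] Hoch.H K A V n ≃ₗ[R] Hoch.H R (R ⊗[K] A) (R ⊗[K] V) n,
        ∀ (r : R) (z : Hoch.cocycles K A V n)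
          (hz : φ n (r ⊗ₜ[K] (z : Hoch.cochain K A V n)) ∈ Hoch.cocycles R (R ⊗[K] A) (R ⊗[K] V) n),
          e (r ⊗ₜ[K] Hoch.H.mk K A V n z) = Hoch.H.mk R (R ⊗[K] A) (R ⊗[K] V) n ⟨φ n (r ⊗ₜ[K] (z : Hoch.cochain K A V n)), hz⟩ := by
  let _ : HopfRep.Comod R (R ⊗[K] A) (R ⊗[K] V) := CoactBr.Comod.baseChange K R A V
  have hφ : ∀ n, φ (n + 1) = K915.HochBC.ext A (φ n) := fun n => K915.HochBC.ext_eq _ _ (hφs n)
  have hbij : ∀ n, Function.Bijective (φ n) := by
    intro n
    induction n with
    | zero =>
      have : (φ 0 : _ → _) = id := funext hφ0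
      rw [this]
      exact Function.bijective_id
    | succ n ih =>
      rw [hφ]
      exact K915.HochBC.ext_bijective _ ih
  have hcomm : ∀ (n : ℕ) (x : R ⊗[K] (Hoch.cochain K A V n)),
        φ (n + 1) ((Hoch.d K A V n).baseChange R x) = Hoch.d R (R ⊗[K] A) (R ⊗[K] V) n (φ n x) := by
    intro n
    induction n with
    | zero =>
      intro x
      rw [hφ]
      have h0 : Hoch.d R (R ⊗[K] A) (R ⊗[K] V) 0 (φ 0 x) =
        (CoactBr.Comod.baseChange K R A V).coact x - x ⊗ₜ[R] (1 : R ⊗[K] A) := by
        rw [hφ0]; rfl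
      rw [h0]
      have h1 : ∀ x : R ⊗[K] V, K915.HochBC.ext A (φ 0) (((HopfRep.Comod.coact (k := K) (A := A) :
          V →ₗ[K] V ⊗[K] A) - (TensorProduct.mk K V A).flip 1).baseChange R x) =
          (CoactBr.Comod.baseChange K R A V).coact x - x ⊗ₜ[R] (1 : R ⊗[K] A) := by
        intro x
        induction x using TensorProduct.induction_on with
        | zero => simp
        | add x y hx hy =>
          rw [map_add, map_add, hx, hy, map_add, TensorProduct.add_tmul]
          abel
        | tmul r v =>
          rw [LinearMap.baseChange_tmul, LinearMap.sub_apply, TensorProduct.tmul_sub, map_sub,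
            CoactBr.baseChange_coact_tmul]
          congr 1
          · generalize (HopfRep.Comod.coact (k := K) (A := A) v : V ⊗[K] A) = w
            induction w using TensorProduct.induction_on with
            | zero => simp
            | add x y hx hy => simp only [TensorProduct.tmul_add, map_add, hx, hy]
            | tmul x a =>
              have h2 : K915.HochBC.ext A (φ 0) (r ⊗ₜ[K] (x ⊗ₜ[K] a)) =
                (r ⊗ₜ[K] x) ⊗ₜ[R] ((1 : R) ⊗ₜ[K] a) := by
                rw [K915.HochBC.ext_tmul, hφ0]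
              rw [h2]
              change _ = ((1 : R) ⊗ₜ[K] x) ⊗ₜ[R] (r ⊗ₜ[K] a)
              have h3 : r ⊗ₜ[K] x = r • ((1 : R) ⊗ₜ[K] x) := by
                rw [TensorProduct.smul_tmul', smul_eq_mul, mul_one]
              rw [h3, TensorProduct.smul_tmul, TensorProduct.smul_tmul', smul_eq_mul, mul_one]
          · have h2 : K915.HochBC.ext A (φ 0) (r ⊗ₜ[K] (v ⊗ₜ[K] (1 : A))) =
                (r ⊗ₜ[K] v) ⊗ₜ[R] ((1 : R) ⊗ₜ[K] (1 : A)) := by
              rw [K915.HochBC.ext_tmul, hφ0]
            exact h2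
      exact h1 x
    | succ n ih =>
      intro x
      have hc : ((-1 : R) ^ (n + 1)) = algebraMap K R ((-1 : K) ^ (n + 1)) := by
        rw [map_pow, map_neg, map_one]
      have h := K915.HochBC.step (φ n) (Hoch.d K A V n) (Hoch.d R (R ⊗[K] A) (R ⊗[K] V) n)
        ((-1 : K) ^ (n + 1)) ((-1 : R) ^ (n + 1)) hc (fun x => by rw [← hφ]; exact ih x) x
      rw [hφ (n + 1), hφ n]
      exact h
  refine ⟨hbij, hcomm, fun n => ?_⟩
  -- the image of the coboundaries
  have hB : Hoch.coboundaries R (R ⊗[K] A) (R ⊗[K] V) n =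
      (LinearMap.range ((Hoch.coboundaries K A V n).subtype.baseChange R)).map (φ n) := by
    cases n with
    | zero =>
      change (⊥ : Submodule R (R ⊗[K] V)) = _
      symm
      rw [eq_bot_iff]
      rintro _ ⟨_, ⟨y, rfl⟩, rfl⟩
      have : ∀ y : R ⊗[K] (⊥ : Submodule K V), ((⊥ : Submodule K V).subtype.baseChange R y) = 0 := by
        intro y
        induction y using TensorProduct.induction_on with
        | zero => simp
        | add x y hx hy => rw [map_add, hx, hy, add_zero]
        | tmul r b =>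
          rw [LinearMap.baseChange_tmul]
          have : (⊥ : Submodule K V).subtype b = 0 := (Submodule.mem_bot K).mp b.2
          rw [this, TensorProduct.tmul_zero]
      have h0 : ((Hoch.coboundaries K A V 0).subtype.baseChange R y) = 0 := this y
      rw [h0, map_zero]
      exact Submodule.zero_mem _
    | succ n =>
      change LinearMap.range (Hoch.d R (R ⊗[K] A) (R ⊗[K] V) n) =
        (LinearMap.range ((LinearMap.range (Hoch.d K A V n)).subtype.baseChange R)).map (φ (n + 1))
      apply le_antisymm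
      · rintro _ ⟨y, rfl⟩
        obtain ⟨x, rfl⟩ := (hbij n).2 y
        rw [← hcomm]
        refine ⟨_, ⟨(Hoch.d K A V n).rangeRestrict.baseChange R x, ?_⟩, rfl⟩
        rw [← LinearMap.comp_apply, ← LinearMap.baseChange_comp]
        rfl
      · rintro _ ⟨_, ⟨y, rfl⟩, rfl⟩
        obtain ⟨x, rfl⟩ : ∃ x, (Hoch.d K A V n).rangeRestrict.baseChange R x = y :=
          LinearMap.lTensor_surjective R (LinearMap.surjective_rangeRestrict (Hoch.d K A V n)) y
        refine ⟨φ n x, ?_⟩
        rw [← hcomm]
        congr 1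
        rw [← LinearMap.comp_apply, ← LinearMap.baseChange_comp]
        rfl
  obtain ⟨e, he⟩ := K915.HochBC.homology_baseChange (Hoch.d K A V n)
    (Hoch.d R (R ⊗[K] A) (R ⊗[K] V) n) (φ n) (φ (n + 1)) (hbij n) (hbij (n + 1)).1 (hcomm n)
    (Hoch.coboundaries K A V n) (Hoch.coboundaries R (R ⊗[K] A) (R ⊗[K] V) n)
    (K915.HochDSq.coboundaries_le_cocycles K A V n) hB
  exact ⟨e, fun r z hz => he r z hz⟩

end Groth.Agent.S19275
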