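import Groth.Statements.S19276
import Groth.Agent.GrpAlg.K989.Cyc2

set_option autoImplicit false
universe u v
open GrpAlg

namespace Groth.Agent.S19276

/-- Let `A` be a finite commutative group and `Λ` a commutative ring in which the order of `A` is
invertible. Then the ring homomorphism from the group ring `Λ[A]` to the product, over the subgroups
`B` of `A` with cyclic quotient, of the cyclotomic quotients `Λ[A ⧸ B]/(Φ_{|A/B|})`, each component
induced by `A → A/B`, is bijective. (In terms of group schemes: `Λ[A]` is the representation ring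
with coefficients in `Λ` of the finite diagonalizable group with character group `A`, the factors
are indexed by its dual cyclic subgroups, i.e. those isomorphic to some `μ_n`, and the components
are restriction followed by the cyclotomic quotient. The published statement takes `Λ = ℤ[1/|A|]`;
here `Λ` is any commutative ring in which `|A|` is invertible.) -/
theorem result (Λ : Type u) [CommRing Λ] (A : Type v)
    [AddCommGroup A] [Finite A] (hA : IsUnit ((Nat.card A : ℕ) : Λ)) :
    Function.Bijective (RingHom.pi fun B : {B : AddSubgroup A // IsAddCyclic (A ⧸ B)} =>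
      W4c6equivkfinstab.cycQuotMap Λ A B.1) := by
  classical
  have hA' : IsUnit (((⊥ : AddSubgroup A).index : ℕ) : Λ) := by
    rwa [AddSubgroup.index_bot]
  have hcop := K989.Cyc.pairwise_coprime Λ (⊥ : AddSubgroup A) hA'
  constructor
  · rw [injective_iff_map_eq_zero]
    intro x hx
    have h1 : x ∈ ⨅ B : K989.Cyc.Ix (⊥ : AddSubgroup A),
        RingHom.ker (W4c6equivkfinstab.cycQuotMap Λ A B.1) := by
      rw [Submodule.mem_iInf]
      intro B
      exact congrFun hx ⟨B.1, B.2.2⟩
    have h2 := K989.Cyc.iInf_ker_le Λ (⊥ : AddSubgroup A) hA' h1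
    rw [K989.Cyc.ker_quotMap] at h2
    rw [← Ideal.mem_bot]
    refine (Ideal.span_le.2 ?_) h2
    rintro _ ⟨b, hb, rfl⟩
    rw [AddSubgroup.mem_bot] at hb
    rw [hb, ← AddMonoidAlgebra.one_def, sub_self]
    exact Submodule.zero_mem _
  · intro y
    have hlift : ∀ B : K989.Cyc.Ix (⊥ : AddSubgroup A), ∃ r : AddMonoidAlgebra Λ A,
        W4c6equivkfinstab.cycQuotMap Λ A B.1 r = y ⟨B.1, B.2.2⟩ := by
      intro B
      obtain ⟨r, hr⟩ := Ideal.Quotient.mk_surjective (y ⟨B.1, B.2.2⟩)
      obtain ⟨s, rfl⟩ := K989.Cyc.quotMap_surjective Λ A B.1 r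
      exact ⟨s, hr⟩
    choose r hr using hlift
    have := Fintype.ofFinite (K989.Cyc.Ix (⊥ : AddSubgroup A))
    obtain ⟨e, he⟩ := Ideal.exists_forall_sub_mem_ideal 
      (I := fun B : K989.Cyc.Ix (⊥ : AddSubgroup A) =>
        RingHom.ker (W4c6equivkfinstab.cycQuotMap Λ A B.1))
      hcop r
    refine ⟨e, funext fun B => ?_⟩
    have h1 := he ⟨B.1, bot_le, B.2⟩
    rw [RingHom.mem_ker, map_sub, sub_eq_zero, hr] at h1
    exact h1

end Groth.Agent.S19276
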