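import Groth.Statements.S19277
import Groth.Agent.GrpAlg.K989.Cyc

set_option autoImplicit false
universe u v
open GrpAlg

namespace Groth.Agent.S19277

/-- Let `M` be a commutative group, `B ≠ B'` subgroups of finite index with `M ⧸ B` and `M ⧸ B'` cyclic,
and `Λ` a commutative ring in which both indices are invertible. Then the localization of the
`Λ[M]`-module `Λ[M ⧸ B]/(Φ_{|M/B|})` at the multiplicative subset of `Λ[M]` of elements with image
`1` in `Λ[M ⧸ B']/(Φ_{|M/B'|})` is zero. (In terms of group schemes: for two distinct dual cyclic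
subgroups σ, σ' of the diagonalizable group with character group `M`, the ring R̃(σ) with
coefficients in `Λ` vanishes after localization at σ'. The published statement has a split torus,
i.e. `M` free of finite rank, and `Λ = ℤ[1/N]` for `N` the order of the subgroup generated by σ and
σ'; here `M` is any commutative group and `Λ` any commutative ring in which the orders of σ and σ'
are invertible.) -/
theorem result (Λ : Type u) [CommRing Λ] (M : Type v)
    [AddCommGroup M] (B B' : AddSubgroup M) [B.FiniteIndex] [B'.FiniteIndex]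
    [IsAddCyclic (M ⧸ B)] [IsAddCyclic (M ⧸ B')] (hne : B ≠ B')
    (hu : IsUnit ((B.index * B'.index : ℕ) : Λ)) :
    Subsingleton (LocalizedModule (W4c6equivkfinstab.locSubmonoid Λ M B')
      (W4c6equivkfinstab.CycQuot Λ (M ⧸ B))) := by
  rw [Nat.cast_mul] at hu
  have h1 := K989.Cyc.isCoprime_ker B B' hne (isUnit_of_mul_isUnit_left hu)
    (isUnit_of_mul_isUnit_right hu)
  have h2 : (1 : AddMonoidAlgebra Λ M) ∈ RingHom.ker (W4c6equivkfinstab.cycQuotMap Λ M B) ⊔
      RingHom.ker (W4c6equivkfinstab.cycQuotMap Λ M B') := by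
    rw [h1]; trivial
  obtain ⟨a, ha, b, hb, hab⟩ := Submodule.mem_sup.1 h2
  have ha' : a ∈ W4c6equivkfinstab.locSubmonoid Λ M B' := by
    change W4c6equivkfinstab.cycQuotMap Λ M B' a = 1
    have : a = 1 - b := eq_sub_of_add_eq hab
    rw [this, map_sub, map_one, (RingHom.mem_ker).1 hb, sub_zero]
  rw [LocalizedModule.subsingleton_iff]
  intro m
  refine ⟨a, ha', ?_⟩
  obtain ⟨r, rfl⟩ := Ideal.Quotient.mk_surjective m
  change Ideal.Quotient.mk _ (W4c6equivkfinstab.quotMap Λ M B a * r) = 0
  rw [map_mul]
  have h3 : Ideal.Quotient.mk _ (W4c6equivkfinstab.quotMap Λ M B a) = 0 := (RingHom.mem_ker).1 ha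
  rw [h3, zero_mul]

end Groth.Agent.S19277
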