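import Groth.Statements.S19278
import Groth.Agent.GrpAlg.K989.Cyc

set_option autoImplicit false
universe u v
open GrpAlg

namespace Groth.Agent.S19278

/-- Let `M` be a commutative group, `B₀` a subgroup of finite index, `B` a subgroup of finite index with
`M ⧸ B` cyclic and `B₀` not contained in `B`, and `Λ` a commutative ring in which the indices of
`B₀` and `B` are invertible. Then the localization of the `Λ[M]`-module `Λ[M ⧸ B₀]` at the
multiplicative subset of `Λ[M]` of elements with image `1` in `Λ[M ⧸ B]/(Φ_{|M/B|})` is zero. (In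
terms of group schemes: for a finite closed subgroup T' = D(M/B₀) of the diagonalizable group with
character group `M` and a dual cyclic subgroup σ = D(M/B) not contained in T', the representation
ring of T' with coefficients in `Λ` vanishes after localization at σ. The published statement has a
split torus and `Λ = ℤ[1/N]`; here `M` is any commutative group and `Λ` any commutative ring in
which the orders of T' and σ are invertible.) -/
theorem result (Λ : Type u) [CommRing Λ]
    (M : Type v) [AddCommGroup M] (B₀ B : AddSubgroup M) [B₀.FiniteIndex] [B.FiniteIndex]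
    [IsAddCyclic (M ⧸ B)] (hle : ¬ B₀ ≤ B) (hu : IsUnit ((B₀.index * B.index : ℕ) : Λ)) :
    Subsingleton (LocalizedModule (W4c6equivkfinstab.locSubmonoid Λ M B)
      (AddMonoidAlgebra Λ (M ⧸ B₀))) := by
  rw [Nat.cast_mul] at hu
  have h1 := K989.Cyc.isCoprime_ker_quot B₀ B hle (isUnit_of_mul_isUnit_right hu)
  have h2 : (1 : AddMonoidAlgebra Λ M) ∈ RingHom.ker (W4c6equivkfinstab.quotMap Λ M B₀) ⊔
      RingHom.ker (W4c6equivkfinstab.cycQuotMap Λ M B) := by
    rw [h1]; trivial
  obtain ⟨a, ha, b, hb, hab⟩ := Submodule.mem_sup.1 h2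
  have ha' : a ∈ W4c6equivkfinstab.locSubmonoid Λ M B := by
    change W4c6equivkfinstab.cycQuotMap Λ M B a = 1
    have : a = 1 - b := eq_sub_of_add_eq hab
    rw [this, map_sub, map_one, (RingHom.mem_ker).1 hb, sub_zero]
  rw [LocalizedModule.subsingleton_iff]
  intro m
  refine ⟨a, ha', ?_⟩
  rw [Algebra.smul_def]
  have : algebraMap (AddMonoidAlgebra Λ M) (AddMonoidAlgebra Λ (M ⧸ B₀)) a =
      W4c6equivkfinstab.quotMap Λ M B₀ a := rfl
  rw [this, (RingHom.mem_ker).1 ha, zero_mul]

end Groth.Agent.S19278
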