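import Groth.Statements.S19279
import Groth.Agent.GrpAlg.K989.Cyc2

set_option autoImplicit false
universe u v
open GrpAlg

namespace Groth.Agent.S19279

/-- Let `M` be a commutative group, `B₀` a subgroup of finite index and `Λ` a commutative ring in which
the index of `B₀` is invertible. Then the `Λ[M]`-linear map from `Λ[M ⧸ B₀]` to the product, over
the subgroups `B ⊇ B₀` with `M ⧸ B` cyclic, of the localizations of `Λ[M ⧸ B₀]` at the
multiplicative subsets of `Λ[M]` of elements with image `1` in `Λ[M ⧸ B]/(Φ_{|M/B|})`, with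
components the localization maps, is bijective. (In terms of group schemes: for a finite closed
subgroup T' = D(M/B₀) of the diagonalizable group with character group `M`, the representation ring
of T' with coefficients in `Λ` is the product of its localizations at the dual cyclic subgroups of
T'. The published statement has a split torus and `Λ = ℤ[1/|T'|]`; here `M` is any commutative group
and `Λ` any commutative ring in which the order of T' is invertible.) -/
theorem result (Λ : Type u) [CommRing Λ]
    (M : Type v) [AddCommGroup M] (B₀ : AddSubgroup M) [B₀.FiniteIndex]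
    (hu : IsUnit ((B₀.index : ℕ) : Λ)) :
    Function.Bijective (LinearMap.pi (R := AddMonoidAlgebra Λ M)
      fun B : {B : AddSubgroup M // B₀ ≤ B ∧ IsAddCyclic (M ⧸ B)} =>
        LocalizedModule.mkLinearMap (W4c6equivkfinstab.locSubmonoid Λ M B.1)
          (AddMonoidAlgebra Λ (M ⧸ B₀))) := by
  classical
  have hcop := K989.Cyc.pairwise_coprime Λ B₀ hu
  have hK := K989.Cyc.iInf_ker_le Λ B₀ hu
  have hfin := Fintype.ofFinite (K989.Cyc.Ix B₀)
  have halg : ∀ a : AddMonoidAlgebra Λ M, ∀ x : AddMonoidAlgebra Λ (M ⧸ B₀),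
      a • x = W4c6equivkfinstab.quotMap Λ M B₀ a * x := fun a x => rfl
  -- elements of the intersection kill the module
  have hkill : ∀ a : AddMonoidAlgebra Λ M,
      (∀ B : K989.Cyc.Ix B₀, W4c6equivkfinstab.cycQuotMap Λ M B.1 a = 0) →
      ∀ x : AddMonoidAlgebra Λ (M ⧸ B₀), a • x = 0 := by
    intro a ha x
    have : a ∈ RingHom.ker (W4c6equivkfinstab.quotMap Λ M B₀) :=
      hK (by rw [Submodule.mem_iInf]; exact ha)
    rw [halg, (RingHom.mem_ker).1 this, zero_mul]
  -- the idempotents
  have hid : ∀ i : K989.Cyc.Ix B₀, ∃ e : AddMonoidAlgebra Λ M,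
      W4c6equivkfinstab.cycQuotMap Λ M i.1 e = 1 ∧
      ∀ j, j ≠ i → W4c6equivkfinstab.cycQuotMap Λ M j.1 e = 0 := by
    intro i
    obtain ⟨e, he⟩ := Ideal.exists_forall_sub_mem_ideal 
      (I := fun B : K989.Cyc.Ix B₀ =>
        RingHom.ker (W4c6equivkfinstab.cycQuotMap Λ M B.1))
      hcop (fun j => if j = i then 1 else 0)
    refine ⟨e, ?_, ?_⟩
    · have := he i
      rw [if_pos rfl, RingHom.mem_ker, map_sub, map_one, sub_eq_zero] at this
      exact this
    · intro j hj
      have := he j
      rw [if_neg hj, sub_zero, RingHom.mem_ker] at this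
      exact this
  choose e he1 he0 using hid
  constructor
  · rw [injective_iff_map_eq_zero]
    intro x hx
    obtain ⟨r, rfl⟩ := K989.Cyc.quotMap_surjective Λ M B₀ x
    have : r ∈ RingHom.ker (W4c6equivkfinstab.quotMap Λ M B₀) := by
      apply hK
      rw [Submodule.mem_iInf]
      intro B
      have h1 := congrFun hx B
      change LocalizedModule.mkLinearMap (W4c6equivkfinstab.locSubmonoid Λ M B.1)
          (AddMonoidAlgebra Λ (M ⧸ B₀)) _ = 0 at h1
      rw [IsLocalizedModule.eq_zero_iff (W4c6equivkfinstab.locSubmonoid Λ M B.1)] at h1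
      obtain ⟨c, hc⟩ := h1
      have h2 : W4c6equivkfinstab.quotMap Λ M B₀ (c.1 * r) = 0 := by
        rw [map_mul]; exact hc
      have h3 := K989.Cyc.ker_quotMap_le B.2.1 h2
      rw [RingHom.mem_ker, map_mul] at h3
      have hc1 : W4c6equivkfinstab.cycQuotMap Λ M B.1 c.1 = 1 := c.2
      rw [hc1, one_mul] at h3
      exact h3
    exact this
  · intro y
    have hy : ∀ B : K989.Cyc.Ix B₀, ∃ (x : AddMonoidAlgebra Λ (M ⧸ B₀))
        (s : W4c6equivkfinstab.locSubmonoid Λ M B.1), y B = LocalizedModule.mk x s := by
      intro B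
      exact LocalizedModule.induction_on (fun x s => ⟨x, s, rfl⟩) (y B)
    choose x s hxs using hy
    refine ⟨∑ j, e j • x j, funext fun B => ?_⟩
    change LocalizedModule.mk (∑ j, e j • x j) 1 = y B
    rw [hxs, LocalizedModule.mk_eq]
    have heB : e B ∈ W4c6equivkfinstab.locSubmonoid Λ M B.1 := he1 B
    refine ⟨⟨e B, heB⟩, ?_⟩
    change e B • (s B).1 • (∑ j, e j • x j) = e B • (1 : AddMonoidAlgebra Λ M) • x B
    rw [one_smul, ← sub_eq_zero]
    have hs1 : W4c6equivkfinstab.cycQuotMap Λ M B.1 (s B).1 = 1 := (s B).2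
    have h1 : e B • (s B).1 • (∑ j, e j • x j) = (e B * (s B).1 * e B) • x B := by
      rw [Finset.smul_sum, Finset.smul_sum, Finset.sum_eq_single B]
      · rw [smul_smul, smul_smul]
      · intro j _ hj
        rw [smul_smul, smul_smul]
        apply hkill
        intro C
        by_cases hC : C = B
        · subst hC
          rw [map_mul, he0 j _ hj.symm, mul_zero]
        · rw [map_mul, map_mul, he0 B _ hC, zero_mul, zero_mul]
      · intro h
        exact absurd (Finset.mem_univ B) h
    rw [h1, ← sub_smul]
    apply hkill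
    intro C
    by_cases hC : C = B
    · subst hC
      rw [map_sub, map_mul, map_mul, he1, hs1]
      simp
    · rw [map_sub, map_mul, map_mul, he0 B _ hC]
      simp

end Groth.Agent.S19279
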