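import Groth.Statements.S19281
import Groth.Agent.AlgGrp.K413.GLDiag

set_option autoImplicit false
universe u
open CategoryTheory MonoidalCategory CartesianMonoidalCategory MonObj GrpObj AlgebraicGeometry
open AlgGrp

namespace Groth.Agent.S19281

/-- Let `k` be a field with an algebraic closure `K`, `m ≥ 0`, `n > 0`, and let `σ'` be a closed
subgroup scheme of the base change of `GL_{m,k}` to `K` which is isomorphic as a `K`-group scheme to
`μ_n = D(ℤ/n)`. Then there are a closed subgroup scheme `σ` of `GL_{m,k}` isomorphic to `μ_n` over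
`k`, a `K`-point `g` of `GL_m` and an isomorphism `σ' ≅ σ_K` through which conjugation by `g`
carries the inclusion of `σ'` to the base change of the inclusion of `σ`. (This is the second
rationality condition, stated for all dual cyclic subgroups rather than only for those with a fixed
point on a given algebraic space, which is what the printed argument establishes and which gives the
printed statement for every action of `GL_m`.) -/
theorem result (k : Type u) [Field k]
    (K : Type u) [Field K] [Algebra k K] [IsAlgClosure k K] (m n : ℕ) (hn : 0 < n)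
    (σ' : Over (Spec (CommRingCat.of K))) [GrpObj σ']
    (i' : σ' ⟶ Red.bc (Spec.map (CommRingCat.ofHom (algebraMap k K))) (CoactBr.sp k (CoordGrp.GLn m k)))
    [IsMonHom i'] (hi' : IsClosedImmersion i'.left) (hσ' : Red.IsSplitTorusWith (ZMod n) σ') :
    ∃ (σ : Over (Spec (CommRingCat.of k))) (_ : GrpObj σ) (i : σ ⟶ CoactBr.sp k (CoordGrp.GLn m k))
      (_ : IsMonHom i), IsClosedImmersion i.left ∧ Red.IsSplitTorusWith (ZMod n) σ ∧
      ∃ (g : 𝟙_ (Over (Spec (CommRingCat.of K))) ⟶
          Red.bc (Spec.map (CommRingCat.ofHom (algebraMap k K))) (CoactBr.sp k (CoordGrp.GLn m k)))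
        (φ : σ' ≅ Red.bc (Spec.map (CommRingCat.ofHom (algebraMap k K))) σ),
        AGF.conjBy g i' = φ.hom ≫ (Over.pullback (Spec.map (CommRingCat.ofHom (algebraMap k K)))).map i := by
  have : NeZero n := ⟨hn.ne'⟩
  obtain ⟨sp⟩ := hσ'
  let Ψ := (K413.GLMod.ofGLn k m).bc K
  obtain ⟨E, hE⟩ := K413.GLGeo.exists_desc Ψ i' sp
  have hmono : Mono i' := Over.mono_of_mono_left i'
  obtain ⟨w, U, V, hUV, hVU, h1, -⟩ := K413.IdemConj.exists_conj_diag hE.isFam
  have hw : Subgroup.closure (Set.range w) = ⊤ := by
    refine K413.GLDiag.closure_eq_top hE _ fun γ hγ => ?_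
    by_contra hn
    apply hγ
    have h2 : K413.IdemConj.diagI K w γ = 0 := by
      rw [K413.IdemConj.diagI, ← Matrix.diagonal_zero]
      congr 1
      funext a
      exact if_neg fun h => hn ⟨a, h⟩
    rw [← Matrix.one_mul (E γ), ← hVU, Matrix.mul_assoc, h1, h2, Matrix.zero_mul, Matrix.mul_zero]
  obtain ⟨i, hi, hic, hid⟩ := K413.GLDiag.exists_diag (k := k) (M := ZMod n) w hw
  refine ⟨Red.DS (Spec (CommRingCat.of k)) (ZMod n), inferInstance, i, hi, hic, ⟨Iso.refl _⟩, ?_⟩
  refine K413.GLGeo.exists_conj hE (hid.bc (K := K)) hUV fun γ => ?_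
  rw [K413.IdemConj.diagI_map]
  exact h1 γ

end Groth.Agent.S19281
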