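import Groth.Statements.S19284
import Groth.Agent.NumberField.K986.CycSubMain

set_option autoImplicit false
universe u
open NumberField

namespace Groth.Agent.S19284

/-- Let L/K be a finite extension of number fields and Ω an algebraic closure of K. Suppose that L/K is
almost abelian in the non-abelian way: for some prime number p there is a bijection between the set
of K-embeddings L → Ω and Z/p under which every K-automorphism of Ω acts by an affine transformation
x ↦ a x + b with a ≠ 0, and L/K is not an abelian extension (it is not Galois with commutative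
automorphism group). Then there is an intermediate extension K ⊂ E ⊂ Ω contained in the normal
closure of L, Galois over K with nontrivial cyclic group, such that for every finite place w of K
which is unramified in L (every prime of the integers of L above w has ramification index 1), either
E admits a K-algebra embedding into the completion K_w (since E/K is Galois: w splits completely in
E) or L admits a K-algebra embedding into K_w (L has a place of degree 1 over w). (Only finite
places are treated here.) -/
theorem result (K L Ω : Type u) [Field K] [NumberField K]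
    [Field L] [NumberField L] [Algebra K L] [Field Ω] [Algebra K Ω] [IsAlgClosure K Ω]
    (p : ℕ) (hp : p.Prime) (e : (L →ₐ[K] Ω) ≃ ZMod p)
    (haff : ∀ σ : Ω ≃ₐ[K] Ω, ∃ a b : ZMod p, a ≠ 0 ∧
      ∀ φ : L →ₐ[K] Ω, e (σ.toAlgHom.comp φ) = a * e φ + b)
    (hnab : IsGalois K L → ∃ σ τ : L ≃ₐ[K] L, σ * τ ≠ τ * σ) :
    ∃ E : IntermediateField K Ω, E ≤ IntermediateField.normalClosure K L Ω ∧
      FiniteDimensional K E ∧ IsGalois K E ∧ IsCyclic (E ≃ₐ[K] E) ∧ 1 < Module.finrank K E ∧
      ∀ w : IsDedekindDomain.HeightOneSpectrum (NumberField.RingOfIntegers K),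
        (∀ P : Ideal (NumberField.RingOfIntegers L), P.IsPrime → P.LiesOver w.asIdeal →
          P.ramificationIdx (NumberField.RingOfIntegers K) = 1) →
        Nonempty (E →ₐ[K] w.adicCompletion K) ∨ Nonempty (L →ₐ[K] w.adicCompletion K) := by
  have hnΩ : Normal K Ω := IsAlgClosure.normal K Ω
  let N := IntermediateField.normalClosure K L Ω
  have hfd : FiniteDimensional K N := normalClosure.is_finiteDimensional K L Ω
  have hnormal : Normal K N := normalClosure.normal K L Ω
  have hNF : NumberField N := NumberField.of_module_finite K N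
  have hgal : IsGalois K N := ⟨⟩
  let e' : (L →ₐ[K] N) ≃ ZMod p := (normalClosure.algHomEquiv K L Ω).trans e
  have he' : ∀ φ, e' φ = e (N.val.comp φ) := fun φ => rfl
  have hlift : ∀ (σ : N ≃ₐ[K] N) (φ : L →ₐ[K] N),
      (σ.liftNormal Ω).toAlgHom.comp (N.val.comp φ) = N.val.comp (σ.toAlgHom.comp φ) := by
    intro σ φ
    ext x
    exact σ.liftNormal_commutes Ω (φ x)
  obtain ⟨E₀, hE₀, hcyc, hrank, hloc⟩ := K986.CycSubMain.main K L N p hp e' (by
      intro σ
      obtain ⟨a, b, ha, h⟩ := haff (σ.liftNormal Ω)
      refine ⟨a, b, ha, fun φ => ?_⟩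
      rw [he', he', ← h, hlift]) (by
      intro σ hσ
      let σ' := σ.liftNormal Ω
      have hle : N ≤ IntermediateField.fixedField (Subgroup.zpowers σ') := by
        rw [normalClosure_le_iff]
        rintro f _ ⟨x, rfl⟩
        rw [IntermediateField.mem_fixedField_iff]
        intro τ hτ
        have hσ' : σ' ∈ MulAction.stabilizer (Ω ≃ₐ[K] Ω) (f x) := by
          rw [MulAction.mem_stabilizer_iff]
          obtain ⟨φ, rfl⟩ := (normalClosure.algHomEquiv K L Ω).surjective f
          have h1 := hlift σ φ
          rw [hσ φ] at h1
          exact DFunLike.congr_fun h1 x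
        have hτ' : τ ∈ MulAction.stabilizer (Ω ≃ₐ[K] Ω) (f x) :=
          (Subgroup.zpowers_le.2 hσ') hτ
        exact hτ'
      ext x
      have h1 := hle x.2
      rw [IntermediateField.mem_fixedField_iff] at h1
      have h2 := h1 σ' (Subgroup.mem_zpowers σ')
      have h3 : σ' (x : Ω) = ((σ x : N) : Ω) := σ.liftNormal_commutes Ω x
      rw [h3] at h2
      exact h2) hnab
  let E := IntermediateField.lift E₀
  let ε : E₀ ≃ₐ[K] E := IntermediateField.liftAlgEquiv E₀
  refine ⟨E, IntermediateField.lift_le E₀, ε.toLinearEquiv.finiteDimensional,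
    IsGalois.of_algEquiv ε, (AlgEquiv.autCongr ε).isCyclic.1 hcyc, ?_, ?_⟩
  · rw [← ε.toLinearEquiv.finrank_eq]
    exact hrank
  · intro w hw
    rcases hloc w hw with ⟨⟨f⟩⟩ | h
    · exact Or.inl ⟨f.comp ε.symm.toAlgHom⟩
    · exact Or.inr h

end Groth.Agent.S19284
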