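import Groth.Statements.S19286
import Groth.Agent.NumberField.K986.Moebius

set_option autoImplicit false
universe u
open scoped TensorProduct
open NumberField

namespace Groth.Agent.S19286

/-- Invariance, under a linear change of coordinate on the projective line, of the hypotheses (the data
listed next) of a conjecture on locally split values. Data: k a number field, n ≥ 1, k_i = k(a_i)
with pairwise distinct minimal polynomials, L_i/k_i finite, b_i ∈ k_i nonzero, finite sets S_f ⊇
(finite places below a non-unit place of some b_i or a ramified prime of some L_i/k_i), S_∞ ⊇ real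
places, t_v ∈ k_v for v ∈ S_f ∪ S_∞ with b_i(t_v − a_i) the norm of a unit of k_v ⊗_k L_i over k_v
⊗_k k_i. Let α, β, γ, δ ∈ k with αδ − βγ ≠ 0 satisfy: (i) γa_i + δ ≠ 0 for all i and γt_v + δ ≠ 0
for v ∈ S_f ∪ S_∞; (ii) α is a unit at every finite place outside S_f and αa_i + β is a unit at
every finite place of k_i not above S_f; (iii) for every i and v ∈ S_f ∪ S_∞, (αδ − βγ)/(γt_v + δ)
is the norm of a unit of k_v ⊗_k L_i. Put a'_i = (αa_i + β)/(γa_i + δ), b'_i = b_i(γa_i + δ); let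
S'_f ⊇ S_f be a finite set of finite places containing those where α or γ is not integral and those
below a place of some k_i where a'_i is not integral or b'_i is not a unit; put t'_v = (αt_v +
β)/(γt_v + δ) for v ∈ S_f ∪ S_∞ and t'_v = 0 for v ∈ S'_f ∖ S_f; for t'_0 ∈ k with α ≠ γt'_0 write
t_0 = (δt'_0 − β)/(α − γt'_0). Then: (1) for every i and v ∈ S'_f ∪ S_∞, b'_i(t'_v − a'_i) is the
norm of a unit of k_v ⊗_k L_i over k_v ⊗_k k_i; (2) for v ∈ S_f ∪ S_∞ and every neighbourhood U of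
t_v there is a neighbourhood U' of t'_v such that t'_0 ∈ U' forces t_0 ∈ U; (4) there are
neighbourhoods U'_v of 0 in k_v for v ∈ S'_f ∖ S_f such that whenever t'_0 ∈ U'_v for all such v,
every finite place w of some k_i with w(t_0 − a_i) > 0 either lies above S_f, or does not lie above
S'_f and satisfies w(t'_0 − a'_i) > 0. (The published statement's S' may also contain further
infinite places, and it has a further conclusion on signs at real places; both are omitted here.) -/
theorem result (k : Type u) [Field k] [NumberField k]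
    (n : ℕ) (hn : 1 ≤ n)
    (kf : Fin n → Type u) [∀ i, Field (kf i)] [∀ i, NumberField (kf i)] [∀ i, Algebra k (kf i)]
    (Lf : Fin n → Type u) [∀ i, Field (Lf i)] [∀ i, NumberField (Lf i)] [∀ i, Algebra (kf i) (Lf i)]
    [∀ i, Algebra k (Lf i)] [∀ i, IsScalarTower k (kf i) (Lf i)]
    (a : (i : Fin n) → kf i) (ha : ∀ i, IntermediateField.adjoin k {a i} = ⊤)
    (hdist : ∀ i j, i ≠ j → minpoly k (a i) ≠ minpoly k (a j))
    (b : (i : Fin n) → kf i) (hb : ∀ i, b i ≠ 0)
    (Sf : Finset (IsDedekindDomain.HeightOneSpectrum (NumberField.RingOfIntegers k)))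
    (Si : Finset (NumberField.InfinitePlace k))
    (hSreal : ∀ w : NumberField.InfinitePlace k, w.IsReal → w ∈ Si)
    (hSb : ∀ i, ∀ W : IsDedekindDomain.HeightOneSpectrum (NumberField.RingOfIntegers (kf i)),
      W.valuation (kf i) (b i) ≠ 1 → ∃ v ∈ Sf, W.asIdeal.LiesOver v.asIdeal)
    (hSram : ∀ i, ∀ Q : Ideal (NumberField.RingOfIntegers (Lf i)), Q.IsPrime → Q ≠ ⊥ →
      Q.ramificationIdx (NumberField.RingOfIntegers (kf i)) ≠ 1 → ∃ v ∈ Sf, Q.LiesOver v.asIdeal)
    (tf : (v : IsDedekindDomain.HeightOneSpectrum (NumberField.RingOfIntegers k)) → v.adicCompletion k)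
    (ti : (w : NumberField.InfinitePlace k) → w.Completion)
    (htf : ∀ i, ∀ v ∈ Sf,
      letI := (Algebra.TensorProduct.map (AlgHom.id k (v.adicCompletion k))
        (IsScalarTower.toAlgHom k (kf i) (Lf i))).toRingHom.toAlgebra
      ∃ x : (v.adicCompletion k) ⊗[k] Lf i, IsUnit x ∧
        Algebra.norm ((v.adicCompletion k) ⊗[k] kf i) x =
          (1 : v.adicCompletion k) ⊗ₜ[k] b i * (tf v ⊗ₜ[k] (1 : kf i) - (1 : v.adicCompletion k) ⊗ₜ[k] a i))
    (hti : ∀ i, ∀ w ∈ Si,
      letI := (Algebra.TensorProduct.map (AlgHom.id k w.Completion)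
        (IsScalarTower.toAlgHom k (kf i) (Lf i))).toRingHom.toAlgebra
      ∃ x : w.Completion ⊗[k] Lf i, IsUnit x ∧
        Algebra.norm (w.Completion ⊗[k] kf i) x =
          (1 : w.Completion) ⊗ₜ[k] b i * (ti w ⊗ₜ[k] (1 : kf i) - (1 : w.Completion) ⊗ₜ[k] a i))
    (α β γ δ : k) (hdet : α * δ - β * γ ≠ 0)
    (hia : ∀ i, algebraMap k (kf i) γ * a i + algebraMap k (kf i) δ ≠ 0)
    (hitf : ∀ v ∈ Sf, algebraMap k (v.adicCompletion k) γ * tf v + algebraMap k (v.adicCompletion k) δ ≠ 0)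
    (hiti : ∀ w ∈ Si, algebraMap k w.Completion γ * ti w + algebraMap k w.Completion δ ≠ 0)
    (hiiα : ∀ v : IsDedekindDomain.HeightOneSpectrum (NumberField.RingOfIntegers k), v ∉ Sf → v.valuation k α = 1)
    (hiia : ∀ i, ∀ W : IsDedekindDomain.HeightOneSpectrum (NumberField.RingOfIntegers (kf i)),
      (¬ ∃ v ∈ Sf, W.asIdeal.LiesOver v.asIdeal) →
        W.valuation (kf i) (algebraMap k (kf i) α * a i + algebraMap k (kf i) β) = 1)
    (hiiif : ∀ i, ∀ v ∈ Sf,
      letI := (Algebra.TensorProduct.map (AlgHom.id k (v.adicCompletion k))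
        (IsScalarTower.toAlgHom k (kf i) (Lf i))).toRingHom.toAlgebra
      ∃ y : (v.adicCompletion k) ⊗[k] Lf i, IsUnit y ∧
        Algebra.norm ((v.adicCompletion k) ⊗[k] kf i) y =
          (algebraMap k (v.adicCompletion k) (α * δ - β * γ) /
            (algebraMap k (v.adicCompletion k) γ * tf v + algebraMap k (v.adicCompletion k) δ)) ⊗ₜ[k] (1 : kf i))
    (hiiii : ∀ i, ∀ w ∈ Si,
      letI := (Algebra.TensorProduct.map (AlgHom.id k w.Completion)
        (IsScalarTower.toAlgHom k (kf i) (Lf i))).toRingHom.toAlgebra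
      ∃ y : w.Completion ⊗[k] Lf i, IsUnit y ∧
        Algebra.norm (w.Completion ⊗[k] kf i) y =
          (algebraMap k w.Completion (α * δ - β * γ) /
            (algebraMap k w.Completion γ * ti w + algebraMap k w.Completion δ)) ⊗ₜ[k] (1 : kf i))
    (a' b' : (i : Fin n) → kf i)
    (ha' : ∀ i, a' i = (algebraMap k (kf i) α * a i + algebraMap k (kf i) β) /
      (algebraMap k (kf i) γ * a i + algebraMap k (kf i) δ))
    (hb' : ∀ i, b' i = b i * (algebraMap k (kf i) γ * a i + algebraMap k (kf i) δ))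
    (Sf' : Finset (IsDedekindDomain.HeightOneSpectrum (NumberField.RingOfIntegers k))) (hSS' : Sf ⊆ Sf')
    (hS'αγ : ∀ v : IsDedekindDomain.HeightOneSpectrum (NumberField.RingOfIntegers k), v ∉ Sf' →
      v.valuation k α ≤ 1 ∧ v.valuation k γ ≤ 1)
    (hS'ab : ∀ i, ∀ W : IsDedekindDomain.HeightOneSpectrum (NumberField.RingOfIntegers (kf i)),
      (¬ ∃ v ∈ Sf', W.asIdeal.LiesOver v.asIdeal) → W.valuation (kf i) (a' i) ≤ 1 ∧ W.valuation (kf i) (b' i) = 1)
    (tf' : (v : IsDedekindDomain.HeightOneSpectrum (NumberField.RingOfIntegers k)) → v.adicCompletion k)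
    (htf'S : ∀ v ∈ Sf, tf' v = (algebraMap k (v.adicCompletion k) α * tf v + algebraMap k (v.adicCompletion k) β) /
      (algebraMap k (v.adicCompletion k) γ * tf v + algebraMap k (v.adicCompletion k) δ))
    (htf'S' : ∀ v ∈ Sf', v ∉ Sf → tf' v = 0)
    (ti' : (w : NumberField.InfinitePlace k) → w.Completion)
    (hti' : ∀ w ∈ Si, ti' w = (algebraMap k w.Completion α * ti w + algebraMap k w.Completion β) /
      (algebraMap k w.Completion γ * ti w + algebraMap k w.Completion δ)) :
    (∀ i, ∀ v ∈ Sf',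
      letI := (Algebra.TensorProduct.map (AlgHom.id k (v.adicCompletion k))
        (IsScalarTower.toAlgHom k (kf i) (Lf i))).toRingHom.toAlgebra
      ∃ x : (v.adicCompletion k) ⊗[k] Lf i, IsUnit x ∧
        Algebra.norm ((v.adicCompletion k) ⊗[k] kf i) x =
          (1 : v.adicCompletion k) ⊗ₜ[k] b' i * (tf' v ⊗ₜ[k] (1 : kf i) - (1 : v.adicCompletion k) ⊗ₜ[k] a' i)) ∧
    (∀ i, ∀ w ∈ Si,
      letI := (Algebra.TensorProduct.map (AlgHom.id k w.Completion)
        (IsScalarTower.toAlgHom k (kf i) (Lf i))).toRingHom.toAlgebra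
      ∃ x : w.Completion ⊗[k] Lf i, IsUnit x ∧
        Algebra.norm (w.Completion ⊗[k] kf i) x =
          (1 : w.Completion) ⊗ₜ[k] b' i * (ti' w ⊗ₜ[k] (1 : kf i) - (1 : w.Completion) ⊗ₜ[k] a' i)) ∧
    (∀ v ∈ Sf, ∀ U : Set (v.adicCompletion k), IsOpen U → tf v ∈ U →
      ∃ U' : Set (v.adicCompletion k), IsOpen U' ∧ tf' v ∈ U' ∧
        ∀ t₀' : k, α ≠ γ * t₀' → algebraMap k (v.adicCompletion k) t₀' ∈ U' →
          algebraMap k (v.adicCompletion k) ((δ * t₀' - β) / (α - γ * t₀')) ∈ U) ∧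
    (∀ w ∈ Si, ∀ U : Set w.Completion, IsOpen U → ti w ∈ U →
      ∃ U' : Set w.Completion, IsOpen U' ∧ ti' w ∈ U' ∧
        ∀ t₀' : k, α ≠ γ * t₀' → algebraMap k w.Completion t₀' ∈ U' →
          algebraMap k w.Completion ((δ * t₀' - β) / (α - γ * t₀')) ∈ U) ∧
    (∃ U' : (v : IsDedekindDomain.HeightOneSpectrum (NumberField.RingOfIntegers k)) → Set (v.adicCompletion k),
      (∀ v ∈ Sf', v ∉ Sf → IsOpen (U' v) ∧ (0 : v.adicCompletion k) ∈ U' v) ∧
      ∀ t₀' : k, α ≠ γ * t₀' → (∀ v ∈ Sf', v ∉ Sf → algebraMap k (v.adicCompletion k) t₀' ∈ U' v) →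
        ∀ i, ∀ W : IsDedekindDomain.HeightOneSpectrum (NumberField.RingOfIntegers (kf i)),
          W.valuation (kf i) (algebraMap k (kf i) ((δ * t₀' - β) / (α - γ * t₀')) - a i) < 1 →
            (∃ v ∈ Sf, W.asIdeal.LiesOver v.asIdeal) ∨
            ((¬ ∃ v ∈ Sf', W.asIdeal.LiesOver v.asIdeal) ∧
              W.valuation (kf i) (algebraMap k (kf i) t₀' - a' i) < 1)) := by
  classical
  refine ⟨?_, ?_, ?_, ?_, ?_⟩
  · intro i v hv
    by_cases hvS : v ∈ Sf
    · obtain ⟨x, hx, hxn⟩ := htf i v hvS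
      obtain ⟨y, hy, hyn⟩ := hiiif i v hvS
      refine ⟨x * y, hx.mul hy, ?_⟩
      have hxn' : K986.TNorm.tnorm k (v.adicCompletion k) (kf i) (Lf i) x =
        (1 : v.adicCompletion k) ⊗ₜ[k] b i *
          (tf v ⊗ₜ[k] (1 : kf i) - (1 : v.adicCompletion k) ⊗ₜ[k] a i) := hxn
      have hyn' : K986.TNorm.tnorm k (v.adicCompletion k) (kf i) (Lf i) y =
        (algebraMap k (v.adicCompletion k) (α * δ - β * γ) /
            (algebraMap k (v.adicCompletion k) γ * tf v +
              algebraMap k (v.adicCompletion k) δ)) ⊗ₜ[k] (1 : kf i) := hyn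
      change K986.TNorm.tnorm k (v.adicCompletion k) (kf i) (Lf i) (x * y) = _
      rw [map_mul, hxn', hyn']
      exact (K986.Moebius.identity α β γ δ (tf v) (tf' v) (a i) (b i) (a' i) (b' i)
        (hitf v hvS) (hia i) (htf'S v hvS) (ha' i) (hb' i)).symm
    · have hab : ∀ W : IsDedekindDomain.HeightOneSpectrum (𝓞 (kf i)),
          W.asIdeal.LiesOver v.asIdeal → ¬ ∃ v ∈ Sf, W.asIdeal.LiesOver v.asIdeal := by
        rintro W hW ⟨v', hv', hWv'⟩
        have h1 := (K986.Coord.liesOver_iff v W).1 hW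
        have h2 := (K986.Coord.liesOver_iff v' W).1 hWv'
        rw [← h1, h2] at hvS
        exact hvS hv'
      have hu0 : -(b i * (algebraMap k (kf i) α * a i + algebraMap k (kf i) β)) ≠ 0 := by
        rw [Ne, neg_eq_zero, mul_eq_zero, not_or]
        refine ⟨hb i, fun h0 => ?_⟩
        obtain ⟨⟨P, hP, hPv⟩⟩ := Ideal.nonempty_primesOver (S := 𝓞 (kf i)) v.asIdeal
        have hP0 : P ≠ ⊥ := by
          rintro rfl
          apply v.ne_bot
          rw [hPv.over, Ideal.under_bot]
        have h1 := hiia i ⟨P, hP, hP0⟩ (hab ⟨P, hP, hP0⟩ hPv)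
        rw [h0, map_zero] at h1
        exact zero_ne_one h1
      obtain ⟨x, hx, hxn⟩ := K986.UnitNorm.exists_tnorm_eq (K := kf i) (L := Lf i) v (by
          intro W hW
          obtain ⟨⟨Q, hQ, hQW⟩⟩ := Ideal.nonempty_primesOver (S := 𝓞 (Lf i)) W.asIdeal
          have hQ0 : Q ≠ ⊥ := by
            rintro rfl
            apply W.ne_bot
            rw [hQW.over, Ideal.under_bot]
          refine ⟨Q, hQ, hQW, ?_⟩
          by_contra he
          obtain ⟨v', hv', hQv'⟩ := hSram i Q hQ hQ0 he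
          refine hab W hW ⟨v', hv', ⟨?_⟩⟩
          rw [hQW.over, Ideal.under_under]
          exact hQv'.over)
        (-(b i * (algebraMap k (kf i) α * a i + algebraMap k (kf i) β))) hu0 (by
          intro W hW
          rw [Valuation.map_neg, map_mul, hiia i W (hab W hW), mul_one]
          by_contra hbW
          exact hab W hW (hSb i W hbW))
      refine ⟨x, hx, ?_⟩
      change K986.TNorm.tnorm k (v.adicCompletion k) (kf i) (Lf i) x = _
      rw [hxn, htf'S' v hv hvS, TensorProduct.zero_tmul, zero_sub, mul_neg,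
        Algebra.TensorProduct.tmul_mul_tmul, mul_one, ← TensorProduct.tmul_neg]
      congr 1
      rw [hb' i, ha' i, mul_assoc, mul_div_cancel₀ _ (hia i)]
  · intro i w hw
    obtain ⟨x, hx, hxn⟩ := hti i w hw
    obtain ⟨y, hy, hyn⟩ := hiiii i w hw
    refine ⟨x * y, hx.mul hy, ?_⟩
    have hxn' : K986.TNorm.tnorm k w.Completion (kf i) (Lf i) x =
      (1 : w.Completion) ⊗ₜ[k] b i *
        (ti w ⊗ₜ[k] (1 : kf i) - (1 : w.Completion) ⊗ₜ[k] a i) := hxn
    have hyn' : K986.TNorm.tnorm k w.Completion (kf i) (Lf i) y =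
      (algebraMap k w.Completion (α * δ - β * γ) /
          (algebraMap k w.Completion γ * ti w +
            algebraMap k w.Completion δ)) ⊗ₜ[k] (1 : kf i) := hyn
    change K986.TNorm.tnorm k w.Completion (kf i) (Lf i) (x * y) = _
    rw [map_mul, hxn', hyn']
    exact (K986.Moebius.identity α β γ δ (ti w) (ti' w) (a i) (b i) (a' i) (b' i)
      (hiti w hw) (hia i) (hti' w hw) (ha' i) (hb' i)).symm
  · intro v hv U hU htU
    exact K986.Moebius.exists_open α β γ δ hdet (tf v) (tf' v) (hitf v hv) (htf'S v hv) U hU htU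
  · intro w hw U hU htU
    exact K986.Moebius.exists_open α β γ δ hdet (ti w) (ti' w) (hiti w hw) (hti' w hw) U hU htU
  · -- neighbourhoods of zero
    have hN : ∀ v : IsDedekindDomain.HeightOneSpectrum (𝓞 k), ∃ N : ℕ,
        v.valuation k γ < WithZero.exp (N : ℤ) ∧
        ∀ i, ∀ W : IsDedekindDomain.HeightOneSpectrum (𝓞 (kf i)), W.asIdeal.LiesOver v.asIdeal →
          W.valuation (kf i) (algebraMap k (kf i) γ * a i + algebraMap k (kf i) δ) <
            WithZero.exp (N : ℤ) := by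
      intro v
      have : ∀ i, Finite {W : IsDedekindDomain.HeightOneSpectrum (𝓞 (kf i)) |
        W.asIdeal.LiesOver v.asIdeal} := fun i => K986.Coord.finite_over v
      obtain ⟨C, hC⟩ := K986.NormClose.exists_le_exp_of_finite
        (fun p : (i : Fin n) × {W : IsDedekindDomain.HeightOneSpectrum (𝓞 (kf i)) |
          W.asIdeal.LiesOver v.asIdeal} => p.2.1.valuation (kf p.1)
            (algebraMap k (kf p.1) γ * a p.1 + algebraMap k (kf p.1) δ))
      obtain ⟨C', hC'⟩ := K986.NormClose.exists_le_exp (v.valuation k γ)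
      refine ⟨C + C' + 1, hC'.trans_lt ?_, fun i W hW => (hC ⟨i, ⟨W, hW⟩⟩).trans_lt ?_⟩
      · rw [WithZero.exp_lt_exp]
        push_cast
        omega
      · rw [WithZero.exp_lt_exp]
        push_cast
        omega
    choose N hNγ hN using hN
    refine ⟨fun v => {x | Valued.v (x - 0) ≤ WithZero.exp (-(N v : ℤ))}, ?_, ?_⟩
    · intro v _ _
      exact ⟨K986.StrongApprox.isOpen_closedBall v 0 WithZero.exp_ne_zero, by simp⟩
    · intro t₀' hne ht i W hW
      by_cases hWS : ∃ v ∈ Sf, W.asIdeal.LiesOver v.asIdeal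
      · exact Or.inl hWS
      right
      by_cases hWS' : ∃ v ∈ Sf', W.asIdeal.LiesOver v.asIdeal
      · exfalso
        obtain ⟨v, hv, hWv⟩ := hWS'
        have hvS : v ∉ Sf := fun h => hWS ⟨v, h, hWv⟩
        have ht' := ht v hv hvS
        change Valued.v (algebraMap k (v.adicCompletion k) t₀' - 0) ≤ _ at ht'
        rw [sub_zero, K986.StrongApprox.valued_algebraMap] at ht'
        exact K986.Moebius.not_lt_one_of_small v W hWv α β γ δ (a i) (hiiα v hvS) (hiia i W hWS)
          t₀' (N v) ht' (hN v i W hWv) (hNγ v) hne hW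
      · refine ⟨hWS', ?_⟩
        have hu : W.asIdeal.LiesOver (W.under (𝓞 k)).asIdeal := K986.Coord.under_liesOver W
        have hunS' : W.under (𝓞 k) ∉ Sf' := fun h => hWS' ⟨_, h, hu⟩
        have hunS : W.under (𝓞 k) ∉ Sf := fun h => hWS ⟨_, h, hu⟩
        refine K986.Moebius.lt_one_of_good W α β γ δ (a i) (b i) (a' i) (b' i)
          (K986.Coord.val_eq_one _ W hu _ (hiiα _ hunS))
          (K986.Coord.val_le_one _ W hu _ (hS'αγ _ hunS').2) ?_ (hS'ab i W hWS').1 (hS'ab i W hWS').2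
          (hia i) (ha' i) (hb' i) t₀' hne hW
        by_contra hbW
        exact hWS (hSb i W hbW)

end Groth.Agent.S19286
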