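import Groth.Statements.S19287
import Groth.Agent.Cyc.K309.DivPt

set_option autoImplicit false
universe u
open Cyc

namespace Groth.Agent.S19287

open AlgebraicGeometry CategoryTheory CategoryTheory.Limits in
/-- One direction of the decomposition-of-the-diagonal criterion for zero-cycles, stated for every
algebraically closed extension field. Let V be an integral scheme, smooth, proper and geometrically
integral over a field F, of dimension d, and let v be a closed point of V. On V ×_F V use the
dimension function δ induced from weight 0 on Spec F (δ of a point = transcendence degree of its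
residue field over F), and let Δ denote the d-cycle of the diagonal. Suppose that for some integer N
≥ 1 the d-cycle N·Δ is rationally equivalent to Γ_1 + Γ_2 where Γ_1 and Γ_2 are d-cycles on V ×_F V,
every point in the support of Γ_1 has second projection v, and every point in the support of Γ_2 has
first projection in a closed subset D ≠ V. Then for every algebraically closed field Ω over F, every
zero-cycle of degree 0 on V_Ω = V ×_F Spec Ω has class zero in the Chow group of zero-cycles of V_Ω
(for the dimension function induced from weight 0 on Spec Ω). (The published statement is an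
equivalence, for a geometrically integral variety and with Ω an algebraic closure of the function
field of V; this row states one implication, assumes V smooth and proper (the setting in which the
correspondence action used by the argument is available), and allows any algebraically closed Ω, to
which the argument applies unchanged.) -/
theorem result (F : Type u) [Field F]
    (V : Scheme.{u}) (p : V ⟶ Spec (CommRingCat.of F)) [IsIntegral V] [IsProper p] [Smooth p]
    [GeometricallyIntegral p] (d : ℕ) (hd : topologicalKrullDim V = d)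
    (v : V) (hv : IsClosed ({v} : Set V))
    (δ : ↥(pullback p p) → ℤ) (hδ : Cyc.DeltaCompat (pullback.fst p p ≫ p) δ (fun _ => 0))
    (hS : Cyc.IsSetup (pullback p p) δ)
    (cΔ : AlgebraicCycle (pullback p p) ℤ) (hcΔ : ⇑cΔ = Cyc.subschemeFun δ d (pullback.diagonal p))
    (N : ℕ) (hN : 1 ≤ N) (Γ₁ Γ₂ : AlgebraicCycle (pullback p p) ℤ)
    (hΓ₁ : Γ₁ ∈ Cyc.Zk (pullback p p) δ d) (hΓ₂ : Γ₂ ∈ Cyc.Zk (pullback p p) δ d)
    (hsupp₁ : ∀ x : ↥(pullback p p), Γ₁ x ≠ 0 → pullback.snd p p x = v)
    (D : Set V) (hD : IsClosed D) (hDne : D ≠ Set.univ)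
    (hsupp₂ : ∀ x : ↥(pullback p p), Γ₂ x ≠ 0 → pullback.fst p p x ∈ D)
    (hdec : Cyc.RatEquiv δ d (N • cΔ) (Γ₁ + Γ₂))
    (Ω : Type u) [Field Ω] [IsAlgClosed Ω] [Algebra F Ω]
    (δΩ : ↥(pullback p (Spec.map (CommRingCat.ofHom (algebraMap F Ω)))) → ℤ)
    (hδΩ : Cyc.DeltaCompat (pullback.snd p (Spec.map (CommRingCat.ofHom (algebraMap F Ω)))) δΩ (fun _ => 0))
    (hSΩ : Cyc.IsSetup (pullback p (Spec.map (CommRingCat.ofHom (algebraMap F Ω)))) δΩ)
    (α : AlgebraicCycle (pullback p (Spec.map (CommRingCat.ofHom (algebraMap F Ω)))) ℤ)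
    (hα : α ∈ Cyc.Zk (pullback p (Spec.map (CommRingCat.ofHom (algebraMap F Ω)))) δΩ 0)
    (hdeg : ChowOps.deg (pullback.snd p (Spec.map (CommRingCat.ofHom (algebraMap F Ω)))) δΩ α = 0) :
    ChowOps.cl α hα = 0 := by
  classical
  obtain ⟨δV, hV⟩ := Groth.Agent.CycB.SetupLft.exists_deltaCompat p (fun _ => 0)
  have hη : δV (genericPoint V) = (d : ℤ) := by
    obtain ⟨n, hn, hn'⟩ := Groth.Agent.CycB.DegReduce.dim_closure F p δV hV (genericPoint V)
    rw [genericPoint_closure] at hn'
    have h2 : topologicalKrullDim V = n := by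
      rw [← hn']
      exact (Homeomorph.Set.univ V).symm.isHomeomorph.topologicalKrullDim_eq
    rw [hd] at h2
    have h3 : d = n := by exact_mod_cast h2
    rw [hn, h3]
  have hv0 : δV v = 0 := by
    obtain ⟨n, hn, hn'⟩ := Groth.Agent.CycB.DegReduce.dim_closure F p δV hV v
    rw [hv.closure_eq] at hn'
    have h0 : topologicalKrullDim ({v} : Set V) ≤ 0 := by
      have : Subsingleton (TopologicalSpace.IrreducibleCloseds ({v} : Set V)) := by
        refine ⟨fun a b => ?_⟩
        ext1
        have ha : (a : Set ({v} : Set V)) = Set.univ := by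
          obtain ⟨x, hx⟩ := a.isIrreducible.nonempty
          exact Set.eq_univ_of_forall fun y => by rw [Subsingleton.elim y x]; exact hx
        have hb : (b : Set ({v} : Set V)) = Set.univ := by
          obtain ⟨x, hx⟩ := b.isIrreducible.nonempty
          exact Set.eq_univ_of_forall fun y => by rw [Subsingleton.elim y x]; exact hx
        rw [ha, hb]
      exact Order.krullDim_nonpos_of_subsingleton
    rw [hn'] at h0
    have h3 : n ≤ 0 := by exact_mod_cast h0
    omega
  obtain ⟨β₀, hβ⟩ := K309.DiagDec.grEq_generic hV hv0 hδ hη hcΔ N hΓ₁ hsupp₁ hD hDne hsupp₂ hdec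
  obtain ⟨B, hB⟩ := K309.ClosedPt.exists_const p (hV := hV) hβ
    (Spec.map (CommRingCat.ofHom (algebraMap F Ω))) hδΩ
  have hint : AlgebraicGeometry.IsIntegral
      (pullback p (Spec.map (CommRingCat.ofHom (algebraMap F Ω)))) :=
    GeometricallyIntegral.geometrically_isIntegral (f := p) _ _ _
      (IsPullback.of_hasPullback p (Spec.map (CommRingCat.ofHom (algebraMap F Ω))))
  rw [K309.Base.cl_eq_zero_iff, ← K308.Grp.cl_eq_zero_iff hα]
  exact K309.ZeroDeg.cl_eq_zero_of_div _ hδΩ hN B hB
    (fun x y hx hy => K309.DivPt.exists_div _ hδΩ hN x y hx hy) α hα hdeg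

end Groth.Agent.S19287
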