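import Groth.Statements.S19291
import Groth.Agent.AbSch.K452.HomPts
import Groth.Agent.AbSch.K452.ConnFib

set_option autoImplicit false
universe u
open CategoryTheory CategoryTheory.Limits MonoidalCategory CartesianMonoidalCategory MonObj AlgebraicGeometry
open AbSch

namespace Groth.Agent.S19291

open K452.HomPts Groth.Agent.Etdl.H432.Sec

/-- Let S be a scheme and A, B, C three abelian S-schemes (smooth proper S-group schemes with connected
fibres). Then the group of homomorphisms from A to the S-sheaf of homomorphisms from B to C is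
trivial: on the big fppf site of S, every morphism of abelian sheaves from the sheaf of points of A
to the internal Hom sheaf of the sheaves of points of B and C is zero (equivalently, there is no
non-zero biadditive morphism from A × B to C). -/
theorem result {S : Scheme.{u}} (A B C : Over S)
    [GrpObj A] [IsCommMonObj A] [Smooth A.hom] [IsProper A.hom]
    (hA : ∀ s : S, ConnectedSpace ↥(A.hom.fiber s))
    [GrpObj B] [IsCommMonObj B] [Smooth B.hom] [IsProper B.hom]
    (hB : ∀ s : S, ConnectedSpace ↥(B.hom.fiber s))
    [GrpObj C] [IsCommMonObj C] [Smooth C.hom] [IsProper C.hom]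
    (hC : ∀ s : S, ConnectedSpace ↥(C.hom.fiber s))
    (φ : (CGrpSh.pts Scheme.fppfPrecoverage A) ⟶ HomSh.homSh (QuotSh.J Scheme.fppfPrecoverage S) (CGrpSh.pts Scheme.fppfPrecoverage B) (CGrpSh.pts Scheme.fppfPrecoverage C)) : φ = 0 := by
  have hgA := K452.ConnFib.geometricallyConnected A hA
  have hgB := K452.ConnFib.geometricallyConnected B hB
  let ψ : (P B).over A ⟶ (P C).over A := m φ A (sec (𝟙 A))
  let u : A ⊗ B ⟶ C := val ψ (fst A B) (snd A B)
  have hval : ∀ (W V : Over S) (a : W ⟶ A) (h : V ⟶ W) (b : V ⟶ B),
      val (show (P B).over W ⟶ (P C).over W from m φ W (sec a)) h b = lift (h ≫ a) b ≫ u := by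
    intro W V a h b
    have h1 : m φ W (sec a) = r (K771.HomEv.hom (P B) (P C)) a (m φ A (sec (𝟙 A))) := by
      rw [← m_r, r_sec, Category.comp_id]
    have h2 : val (show (P B).over W ⟶ (P C).over W from m φ W (sec a)) h b = val ψ (h ≫ a) b := by
      rw [h1]
      rfl
    rw [h2, comp_val, lift_fst, lift_snd]
  have hu : u = 1 := by
    refine K452.ConnFib.eq_one_of_biadditive u (fun W a => ?_) (fun W b => ?_)
    · rw [comp_val, lift_fst, lift_snd]
      have h1 := val_mul ψ a 1 1
      rw [_root_.mul_one] at h1
      exact left_eq_mul.mp h1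
    · have h1 := hval W W 1 (𝟙 W) b
      rw [MonObj.comp_one] at h1
      rw [← h1, sec_one, map_zero]
      rfl
  apply Sheaf.hom_ext
  refine NatTrans.ext (funext fun W => AddCommGrpCat.ext fun x => ?_)
  have h3 : (show (P B).over W.unop ⟶ (P C).over W.unop from m φ W.unop (sec (pt x))) = 0 := by
    apply ext_val
    intro V h b
    rw [hval, hu, MonObj.comp_one]
    rfl
  exact h3

end Groth.Agent.S19291
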