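import Groth.Statements.S19293
import Groth.Agent.AbSch.K452.LatHomExt

set_option autoImplicit false
universe u
open CategoryTheory CategoryTheory.Limits MonoidalCategory CartesianMonoidalCategory MonObj AlgebraicGeometry
open AbSch

namespace Groth.Agent.S19293

/-- Let S be a scheme, X an S-group scheme which locally for the etale topology on S is the constant
group scheme of a finitely generated free abelian group, and P a smooth commutative S-group scheme
of finite presentation over S with connected fibres. Then the S-sheaf of homomorphisms from P to X
and the S-sheaf of extensions of P by X are both trivial: on the big fppf site of S, the internal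
Hom sheaf and the first Ext sheaf from the sheaf of points of P, with values in the sheaf of points
of X, are zero. -/
theorem result {S : Scheme.{u}} (P X : Over S)
    [GrpObj X] [IsCommMonObj X]
    (hX : TwC.Locally S TwC.Topology.etale (fun S' f =>
      ∃ (r : ℕ) (e : Red.bc f X ≅ TwC.const S' (Multiplicative (Fin r → ℤ))),
        TwC.IsConstGrp (Multiplicative (Fin r → ℤ)) (Red.bc f X) e))
    [GrpObj P] [IsCommMonObj P] [Smooth P.hom] [QuasiCompact P.hom] [QuasiSeparated P.hom]
    (hP : ∀ s : S, ConnectedSpace ↥(P.hom.fiber s)) :
    IsZero (HomSh.homSh (QuotSh.J Scheme.fppfPrecoverage S) (CGrpSh.pts Scheme.fppfPrecoverage P) (CGrpSh.pts Scheme.fppfPrecoverage X)) ∧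
      IsZero ((HomSh.extSh (QuotSh.J Scheme.fppfPrecoverage S) (CGrpSh.pts Scheme.fppfPrecoverage P) 1).obj (CGrpSh.pts Scheme.fppfPrecoverage X)) := by
  exact ⟨K452.LatHomExt.isZero_homSh hX hP, K452.LatHomExt.isZero_extSh hX hP⟩

end Groth.Agent.S19293
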