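import Groth.Statements.S19295
import Groth.Agent.AbSch.K630.Affine
import Groth.Agent.AbSch.K453.AsmTorus

set_option autoImplicit false
universe u
open CategoryTheory CategoryTheory.Limits MonoidalCategory CartesianMonoidalCategory MonObj AlgebraicGeometry
open AbSch

namespace Groth.Agent.S19295

/-- Let S be a quasi-compact scheme, T an S-torus and A an abelian S-scheme (smooth, proper, connected
fibres). Then every extension of T by A is of finite order: every element of the group Ext¹(T, A),
formed in the category of abelian sheaves on the big fppf site of S with T and A standing for their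
sheaves of points, has finite additive order. (Over an arbitrary base the order is only locally
finite.) -/
theorem result {S : Scheme.{u}} [CompactSpace S] (T A : Over S)
    [GrpObj T] [IsCommMonObj T] (hT : Red.IsTorus T)
    [GrpObj A] [IsCommMonObj A] [Smooth A.hom] [IsProper A.hom]
    (hA : ∀ s : S, ConnectedSpace ↥(A.hom.fiber s))
    (e : CGrpSh.ExtS Scheme.fppfPrecoverage T A 1) : IsOfFinAddOrder e := by
  exact K453.Asm.isOfFinAddOrder_of_Gm (fun Λ _ A _ _ _ _ _ D => K630.AbExt.ns_affine Λ A D) T A hT hA e

end Groth.Agent.S19295
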