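import Groth.Statements.S19294
import Groth.Agent.S19295
import Groth.Agent.AbSch.K452.ExtRep

set_option autoImplicit false
universe u
open CategoryTheory CategoryTheory.Limits MonoidalCategory CartesianMonoidalCategory MonObj AlgebraicGeometry
open AbSch

namespace Groth.Agent.S19294

/-- With the preceding lemma: let S be a scheme, T an S-torus, A an abelian S-scheme (smooth, proper,
connected fibres), and E an extension of T by A in the category of abelian sheaves on the big fppf
site of S: a short exact sequence 0 → A → E → T → 0 with A and T standing for their sheaves of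
points. Then E is a scheme: there are a commutative S-group scheme G, homomorphisms A → G → T and an
isomorphism between the sheaf of points of G and E carrying them to the given maps; moreover G is
smooth, separated and of finite presentation over S with connected fibres. -/
theorem result {S : Scheme.{u}} (T A : Over S)
    [GrpObj T] [IsCommMonObj T] (hT : Red.IsTorus T)
    [GrpObj A] [IsCommMonObj A] [Smooth A.hom] [IsProper A.hom]
    (hA : ∀ s : S, ConnectedSpace ↥(A.hom.fiber s))
    (E : BigSite.Ab Scheme.fppfPrecoverage S) (i : (CGrpSh.pts Scheme.fppfPrecoverage A) ⟶ E) (q : E ⟶ (CGrpSh.pts Scheme.fppfPrecoverage T))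
    (w : i ≫ q = 0) (hex : (ShortComplex.mk i q w).ShortExact) :
    ∃ (G : Over S) (_ : GrpObj G) (_ : IsCommMonObj G) (u : A ⟶ G) (v : G ⟶ T) (_ : IsMonHom u) (_ : IsMonHom v)
      (e : (CGrpSh.pts Scheme.fppfPrecoverage G) ≅ E),
      CGrpSh.ptsMap Scheme.fppfPrecoverage u ≫ e.hom = i ∧ e.hom ≫ q = CGrpSh.ptsMap Scheme.fppfPrecoverage v ∧
      Smooth G.hom ∧ IsSeparated G.hom ∧ QuasiCompact G.hom ∧ QuasiSeparated G.hom ∧
      ∀ s : S, ConnectedSpace ↥(G.hom.fiber s) := by
  exact K452.ExtRep.exists_grp (fun T A _ _ hT _ _ _ _ hA e => Groth.Agent.S19295.result T A hT hA e) T A hT hA E i q w hex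

end Groth.Agent.S19294
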