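import Groth.Statements.S19296
import Groth.Agent.AbSch.K454.ExtTorsRep
import Groth.Agent.AbSch.K648.HomTor
import Groth.Agent.S19295

set_option autoImplicit false
universe u
open CategoryTheory CategoryTheory.Limits MonoidalCategory CartesianMonoidalCategory MonObj AlgebraicGeometry
open AbSch

namespace Groth.Agent.S19296

/-- Let S be a scheme, T an S-torus and A an abelian S-scheme (smooth, proper, connected fibres). Then
the S-sheaf of extensions of T by A is represented by an S-group scheme: there is a commutative
S-group scheme D, separated, etale and locally of finite presentation over S, whose sheaf of points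
on the big fppf site of S is isomorphic to the first Ext sheaf from the sheaf of points of T with
values in the sheaf of points of A (existence of an isomorphism). -/
theorem result {S : Scheme.{u}} (T A : Over S)
    [GrpObj T] [IsCommMonObj T] (hT : Red.IsTorus T)
    [GrpObj A] [IsCommMonObj A] [Smooth A.hom] [IsProper A.hom]
    (hA : ∀ s : S, ConnectedSpace ↥(A.hom.fiber s)) :
    ∃ (D : Over S) (_ : GrpObj D) (_ : IsCommMonObj D),
      LocallyOfFinitePresentation D.hom ∧ IsSeparated D.hom ∧ Etale D.hom ∧
      Nonempty ((CGrpSh.pts Scheme.fppfPrecoverage D) ≅ (HomSh.extSh (QuotSh.J Scheme.fppfPrecoverage S) (CGrpSh.pts Scheme.fppfPrecoverage T) 1).obj (CGrpSh.pts Scheme.fppfPrecoverage A)) := by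
  refine K454.ExtTorsRep.result ?_ ?_ T A hT hA
  · intro S _ T A _ _ hT _ _ _ _ hA e
    exact Groth.Agent.S19295.result T A hT hA e
  · intro T A N _ _ hT _ _ _ _ hA _ _ n hn j _ hN
    exact K648.HomTor.main T A N hT hA n hn j hN

end Groth.Agent.S19296
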