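import Groth.Statements.S19297
import Groth.Agent.S18336
import Groth.Agent.AbSch.K452.HomMain

set_option autoImplicit false
universe u
open CategoryTheory CategoryTheory.Limits MonoidalCategory CartesianMonoidalCategory MonObj AlgebraicGeometry
open AbSch

namespace Groth.Agent.S19297

/-- Let S be a scheme and A, B abelian S-schemes (smooth, proper, connected fibres). Then the S-sheaf of
homomorphisms from A to B is an S-group scheme: there is a commutative S-group scheme H whose sheaf
of points on the big fppf site of S is isomorphic to the internal Hom sheaf of the sheaves of points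
of A and B (existence of an isomorphism); the structure map H → S is unramified, locally
quasi-finite, locally of finite presentation and separated, its fibre at each geometric point of S
is the constant group scheme of a finitely generated free abelian group (the published statement
says this of the fibres themselves; over a non-closed residue field the fibre is only a twisted form
of such a constant group, as for an elliptic curve and a non-trivial quadratic twist of it, so
geometric fibres are used here), and H → S satisfies the valuative criterion of properness for
discrete valuation rings (every commutative square from the spectrum of a discrete valuation ring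
and of its fraction field lifts). -/
theorem result {S : Scheme.{u}} (A B : Over S)
    [GrpObj A] [IsCommMonObj A] [Smooth A.hom] [IsProper A.hom]
    (hA : ∀ s : S, ConnectedSpace ↥(A.hom.fiber s))
    [GrpObj B] [IsCommMonObj B] [Smooth B.hom] [IsProper B.hom]
    (hB : ∀ s : S, ConnectedSpace ↥(B.hom.fiber s)) :
    ∃ (H : Over S) (_ : GrpObj H) (_ : IsCommMonObj H),
      Nonempty ((CGrpSh.pts Scheme.fppfPrecoverage H) ≅ HomSh.homSh (QuotSh.J Scheme.fppfPrecoverage S) (CGrpSh.pts Scheme.fppfPrecoverage A) (CGrpSh.pts Scheme.fppfPrecoverage B)) ∧
      IsSeparated H.hom ∧ LocallyOfFinitePresentation H.hom ∧ LocallyQuasiFinite H.hom ∧ FormallyUnramified H.hom ∧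
      (∀ (Ω : Type u) [Field Ω] [IsAlgClosed Ω] (t : Spec (CommRingCat.of Ω) ⟶ S),
        ∃ (r : ℕ) (e : Red.bc t H ≅ TwC.const (Spec (CommRingCat.of Ω)) (Multiplicative (Fin r → ℤ))),
          TwC.IsConstGrp (Multiplicative (Fin r → ℤ)) (Red.bc t H) e) ∧
      ∀ (R : Type u) [CommRing R] [IsDomain R] [IsDiscreteValuationRing R] (L : Type u) [Field L] [Algebra R L]
        [IsFractionRing R L] (a : Spec (CommRingCat.of L) ⟶ H.left) (b : Spec (CommRingCat.of R) ⟶ S),
        a ≫ H.hom = Spec.map (CommRingCat.ofHom (algebraMap R L)) ≫ b →
        ∃ l : Spec (CommRingCat.of R) ⟶ H.left, Spec.map (CommRingCat.ofHom (algebraMap R L)) ≫ l = a ∧ l ≫ H.hom = b := by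
  exact K452.HomMain.exists_grp (fun S _ X Y _ _ _ _ _ => Groth.Agent.S18336.result S X Y) A B hA hB

end Groth.Agent.S19297
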