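import Groth.Statements.S19298
import Groth.Agent.AbSch.K448.NoethRed
import Groth.Agent.AbSch.K629.Asm
import Groth.Agent.AbSch.K615.NormNS

set_option autoImplicit false
universe u
open CategoryTheory CategoryTheory.Limits MonoidalCategory CartesianMonoidalCategory MonObj AlgebraicGeometry
open AbSch

namespace Groth.Agent.S19298

/-- Let S be a scheme, A and B abelian S-schemes (smooth, proper, connected fibres), and E an extension
of A by B in abelian sheaves on the big fppf site of S: a short exact sequence 0 → B → E → A → 0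
with A, B standing for their sheaves of points. Then E is an abelian S-scheme: there are a
commutative S-group scheme G which is smooth and proper over S with connected fibres, homomorphisms
B → G → A, and an isomorphism between the sheaf of points of G and E carrying them to the given
maps. -/
theorem result {S : Scheme.{u}} (A B : Over S)
    [GrpObj A] [IsCommMonObj A] [Smooth A.hom] [IsProper A.hom]
    (hA : ∀ s : S, ConnectedSpace ↥(A.hom.fiber s))
    [GrpObj B] [IsCommMonObj B] [Smooth B.hom] [IsProper B.hom]
    (hB : ∀ s : S, ConnectedSpace ↥(B.hom.fiber s))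
    (E : BigSite.Ab Scheme.fppfPrecoverage S) (i : (CGrpSh.pts Scheme.fppfPrecoverage B) ⟶ E) (q : E ⟶ (CGrpSh.pts Scheme.fppfPrecoverage A))
    (w : i ≫ q = 0) (hex : (ShortComplex.mk i q w).ShortExact) :
    ∃ (G : Over S) (_ : GrpObj G) (_ : IsCommMonObj G) (u : B ⟶ G) (v : G ⟶ A) (_ : IsMonHom u) (_ : IsMonHom v)
      (e : (CGrpSh.pts Scheme.fppfPrecoverage G) ≅ E),
      CGrpSh.ptsMap Scheme.fppfPrecoverage u ≫ e.hom = i ∧ e.hom ≫ q = CGrpSh.ptsMap Scheme.fppfPrecoverage v ∧
      Smooth G.hom ∧ IsProper G.hom ∧ ∀ s : S, ConnectedSpace ↥(G.hom.fiber s) := by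
  exact K448.NoethRed.exists_grp
    (fun _ _ _ T₀ A₀ _ _ _ _ _ _ _ _ _ _ D₀ => K629.Asm.isRepresentable K615.NormNS.normExt T₀ A₀ D₀)
    A B hA hB E i q w hex

end Groth.Agent.S19298
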