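import Groth.Statements.S19299
import Groth.Agent.AbSch.K448.SmoothChart
import Groth.Agent.AbSch.K452.ConnFib
import Groth.Agent.Etcore.Yext

set_option autoImplicit false
universe u
open CategoryTheory CategoryTheory.Limits MonoidalCategory CartesianMonoidalCategory MonObj AlgebraicGeometry
open AbSch

namespace Groth.Agent.S19299

/-- Let k be an algebraically closed field and A, B abelian varieties over k (smooth proper k-group
schemes with connected fibres over Spec k). Then the class of every extension of A by B is of finite
order: every element of Ext¹(A, B), formed in abelian sheaves on the big fppf site of Spec k with A,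
B standing for their sheaves of points, has finite additive order. -/
theorem result (k : Type u) [Field k] [IsAlgClosed k] (A B : Over (Spec (CommRingCat.of k)))
    [GrpObj A] [IsCommMonObj A] [Smooth A.hom] [IsProper A.hom]
    (hA : ∀ s : Spec (CommRingCat.of k), ConnectedSpace ↥(A.hom.fiber s))
    [GrpObj B] [IsCommMonObj B] [Smooth B.hom] [IsProper B.hom]
    (hB : ∀ s : Spec (CommRingCat.of k), ConnectedSpace ↥(B.hom.fiber s))
    (e : CGrpSh.ExtS Scheme.fppfPrecoverage A B 1) : IsOfFinAddOrder e := by
  have hgA : GeometricallyConnected A.hom := K452.ConnFib.geometricallyConnected A hA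
  have hcA : ConnectedSpace A.left := GeometricallyConnected.connectedSpace_of_subsingleton A.hom
  have hgB : GeometricallyConnected B.hom := K452.ConnFib.geometricallyConnected B hB
  have hcB : ConnectedSpace B.left := GeometricallyConnected.connectedSpace_of_subsingleton B.hom
  obtain ⟨E, i, q, w, hex, rfl⟩ := Groth.Agent.Etcore.Yext.exists_extClass e
  obtain ⟨n, hn, τ, hτ⟩ := K448.FieldSplit.exists_nsplitting hex
  exact K448.FieldSplit.isOfFinAddOrder hex hn τ hτ

end Groth.Agent.S19299
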