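import Groth.Statements.S19300
import Groth.Agent.AbSch.K630.UnibrFin
import Groth.Agent.AbSch.K453.AsmTorus

set_option autoImplicit false
universe u
open CategoryTheory CategoryTheory.Limits MonoidalCategory CartesianMonoidalCategory MonObj AlgebraicGeometry
open AbSch

namespace Groth.Agent.S19300

/-- Let S be a quasi-compact, locally Noetherian scheme which is integral with geometrically unibranch
local rings, and A, B abelian S-schemes (smooth, proper, connected fibres). Then every extension of
A by B is of finite order: every element of Ext¹(A, B), formed in abelian sheaves on the big fppf
site of S with A, B standing for their sheaves of points, has finite additive order. (The published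
statement does not assume S locally Noetherian; its proof first reduces to a Noetherian base, a
reduction that need not preserve geometric unibranchness, so S is taken Noetherian here. Without the
quasi-compactness the order is only locally finite; without the unibranch hypothesis there are
extensions of infinite order.) -/
theorem result {S : Scheme.{u}} [CompactSpace S] [IsLocallyNoetherian S]
    [AlgebraicGeometry.IsIntegral S]
    (hS : ∀ s : S, CAlg2.IsGeomUnibranch (S.presheaf.stalk s))
    (A B : Over S)
    [GrpObj A] [IsCommMonObj A] [Smooth A.hom] [IsProper A.hom]
    (hA : ∀ s : S, ConnectedSpace ↥(A.hom.fiber s))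
    [GrpObj B] [IsCommMonObj B] [Smooth B.hom] [IsProper B.hom]
    (hB : ∀ s : S, ConnectedSpace ↥(B.hom.fiber s))
    (e : CGrpSh.ExtS Scheme.fppfPrecoverage A B 1) : IsOfFinAddOrder e := by
  have h1 := K453.HomVanish.geometricallyConnected A hA
  have h2 := K453.HomVanish.geometricallyConnected B hB
  exact K453.Asm.tors_iff.mpr (fun D => K630.AbExt.Dat.exists_ns_unibr hS D) e

end Groth.Agent.S19300
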