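import Groth.Statements.S19301
import Groth.Agent.S19295
import Groth.Agent.AbSch.K453.ExtTors
import Groth.Agent.AbSch.K453.HomVanish

set_option autoImplicit false
universe u
open CategoryTheory CategoryTheory.Limits MonoidalCategory CartesianMonoidalCategory MonObj AlgebraicGeometry
open AbSch

namespace Groth.Agent.S19301

/-- Let S be a scheme, T an S-torus and A an abelian S-scheme (smooth, proper, connected fibres). Then
the S-sheaf of extensions of T by A is a torsion sheaf: for every quasi-compact open subset U of S,
every section over U of the first Ext sheaf, on the big fppf site of S, from the sheaf of points of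
T with values in the sheaf of points of A has finite additive order. -/
theorem result {S : Scheme.{u}} (T A : Over S)
    [GrpObj T] [IsCommMonObj T] (hT : Red.IsTorus T)
    [GrpObj A] [IsCommMonObj A] [Smooth A.hom] [IsProper A.hom]
    (hA : ∀ s : S, ConnectedSpace ↥(A.hom.fiber s))
    (U : S.Opens) (hU : IsCompact (U : Set S))
    (x : BigSite.sect Scheme.fppfPrecoverage ((HomSh.extSh (QuotSh.J Scheme.fppfPrecoverage S) (CGrpSh.pts Scheme.fppfPrecoverage T) 1).obj (CGrpSh.pts Scheme.fppfPrecoverage A)) (Over.mk U.ι)) :
    IsOfFinAddOrder x := by
  have hc := K453.HomVanish.geometricallyConnected A hA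
  have : CompactSpace (Over.mk U.ι).left := isCompact_iff_compactSpace.mp hU
  refine K453.ExtTors.isOfFinAddOrder_sect T A (fun Y _ e => ?_) (Over.mk U.ι) x
  have h1 : IsProper (Red.bc Y.hom A).hom := by
    change IsProper (pullback.snd A.hom Y.hom)
    infer_instance
  have h2 : Smooth (Red.bc Y.hom A).hom := by
    change Smooth (pullback.snd A.hom Y.hom)
    infer_instance
  have h3 : GeometricallyConnected (Red.bc Y.hom A).hom := by
    change GeometricallyConnected (pullback.snd A.hom Y.hom)
    infer_instance
  exact Groth.Agent.S19295.result (Red.bc Y.hom T) (Red.bc Y.hom A)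
    (Groth.Agent.Sga3B.TorusBc.isTorus_bc Y.hom hT) (fun s => inferInstance) e

end Groth.Agent.S19301
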