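import Groth.Statements.S19302
import Groth.Agent.AbSch.K453.HomVanish

set_option autoImplicit false
universe u
open CategoryTheory CategoryTheory.Limits MonoidalCategory CartesianMonoidalCategory MonObj AlgebraicGeometry
open AbSch

namespace Groth.Agent.S19302

/-- Let S be a scheme and, for i = 1, 2, let G_i be a commutative S-group scheme given as an extension
of an abelian S-scheme A_i (smooth, proper, connected fibres) by an S-torus T_i: homomorphisms T_i →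
G_i → A_i composing to the trivial map whose sequence of sheaves of points on the big fppf site of S
is short exact. Then, for the internal Hom sheaves of the sheaves of points on that site: the map
Hom(A₁, A₂) → Hom(G₁, A₂) induced by G₁ → A₁ is an isomorphism; the map Hom(T₁, T₂) → Hom(T₁, G₂)
induced by T₂ → G₂ is an isomorphism; the map Hom(G₁, T₂) → Hom(T₁, T₂) induced by T₁ → G₁ is a
monomorphism; and the map Hom(A₁, G₂) → Hom(A₁, A₂) induced by G₂ → A₂ is a monomorphism. -/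
theorem result {S : Scheme.{u}} (T₁ G₁ A₁ T₂ G₂ A₂ : Over S)
    [GrpObj T₁] [IsCommMonObj T₁] (hT₁ : Red.IsTorus T₁) [GrpObj G₁] [IsCommMonObj G₁]
    [GrpObj A₁] [IsCommMonObj A₁] [Smooth A₁.hom] [IsProper A₁.hom]
    (hA₁ : ∀ s : S, ConnectedSpace ↥(A₁.hom.fiber s))
    [GrpObj T₂] [IsCommMonObj T₂] (hT₂ : Red.IsTorus T₂) [GrpObj G₂] [IsCommMonObj G₂]
    [GrpObj A₂] [IsCommMonObj A₂] [Smooth A₂.hom] [IsProper A₂.hom]
    (hA₂ : ∀ s : S, ConnectedSpace ↥(A₂.hom.fiber s))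
    (ι₁ : T₁ ⟶ G₁) (π₁ : G₁ ⟶ A₁) [IsMonHom ι₁] [IsMonHom π₁] (w₁ : ι₁ ≫ π₁ = 1)
    (hex₁ : (CGrpSh.seq Scheme.fppfPrecoverage ι₁ π₁ w₁).ShortExact)
    (ι₂ : T₂ ⟶ G₂) (π₂ : G₂ ⟶ A₂) [IsMonHom ι₂] [IsMonHom π₂] (w₂ : ι₂ ≫ π₂ = 1)
    (hex₂ : (CGrpSh.seq Scheme.fppfPrecoverage ι₂ π₂ w₂).ShortExact) :
    IsIso (HomSh.homShMap (QuotSh.J Scheme.fppfPrecoverage S) (CGrpSh.ptsMap Scheme.fppfPrecoverage π₁) (𝟙 (CGrpSh.pts Scheme.fppfPrecoverage A₂))) ∧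
    IsIso (HomSh.homShMap (QuotSh.J Scheme.fppfPrecoverage S) (𝟙 (CGrpSh.pts Scheme.fppfPrecoverage T₁)) (CGrpSh.ptsMap Scheme.fppfPrecoverage ι₂)) ∧
    Mono (HomSh.homShMap (QuotSh.J Scheme.fppfPrecoverage S) (CGrpSh.ptsMap Scheme.fppfPrecoverage ι₁) (𝟙 (CGrpSh.pts Scheme.fppfPrecoverage T₂))) ∧
    Mono (HomSh.homShMap (QuotSh.J Scheme.fppfPrecoverage S) (𝟙 (CGrpSh.pts Scheme.fppfPrecoverage A₁)) (CGrpSh.ptsMap Scheme.fppfPrecoverage π₂)) := by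
  have hc₁ := K453.HomVanish.geometricallyConnected A₁ hA₁
  have hc₂ := K453.HomVanish.geometricallyConnected A₂ hA₂
  have z₁ := K453.HomVanish.isZero_homSh_torus_av Scheme.fppfPrecoverage T₁ A₂ hT₁
  have z₂ := K453.HomVanish.isZero_homSh_av_torus Scheme.fppfPrecoverage A₁ T₂ hT₂
  have m₁ : Mono (CGrpSh.seq Scheme.fppfPrecoverage ι₁ π₁ w₁).f := hex₁.mono_f
  have e₁ : Epi (CGrpSh.seq Scheme.fppfPrecoverage ι₁ π₁ w₁).g := hex₁.epi_g
  have m₂ : Mono (CGrpSh.seq Scheme.fppfPrecoverage ι₂ π₂ w₂).f := hex₂.mono_f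
  refine ⟨?_, ?_, ?_, ?_⟩
  · have h1 := K453.HomShEx.mono_homShMap_left (CGrpSh.pts Scheme.fppfPrecoverage A₂)
      (CGrpSh.seq Scheme.fppfPrecoverage ι₁ π₁ w₁).g
    have h2 := (K453.HomShEx.exact_homSh_left (CGrpSh.pts Scheme.fppfPrecoverage A₂)
      (CGrpSh.seq Scheme.fppfPrecoverage ι₁ π₁ w₁) hex₁.exact).epi_f (z₁.eq_of_tgt _ _)
    exact @isIso_of_mono_of_epi _ _ _ _ _ _ h1 h2
  · have h1 := K453.HomShEx.mono_homShMap_right (CGrpSh.pts Scheme.fppfPrecoverage T₁)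
      (CGrpSh.seq Scheme.fppfPrecoverage ι₂ π₂ w₂).f
    have h2 := (K453.HomShEx.exact_homSh_right (CGrpSh.pts Scheme.fppfPrecoverage T₁)
      (CGrpSh.seq Scheme.fppfPrecoverage ι₂ π₂ w₂) hex₂.exact).epi_f (z₁.eq_of_tgt _ _)
    exact @isIso_of_mono_of_epi _ _ _ _ _ _ h1 h2
  · exact (K453.HomShEx.exact_homSh_left (CGrpSh.pts Scheme.fppfPrecoverage T₂)
      (CGrpSh.seq Scheme.fppfPrecoverage ι₁ π₁ w₁) hex₁.exact).mono_g (z₂.eq_of_src _ _)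
  · exact (K453.HomShEx.exact_homSh_right (CGrpSh.pts Scheme.fppfPrecoverage A₁)
      (CGrpSh.seq Scheme.fppfPrecoverage ι₂ π₂ w₂) hex₂.exact).mono_g (z₂.eq_of_src _ _)

end Groth.Agent.S19302
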