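import Groth.Statements.S19303
import Groth.Agent.AbSch.K453.SemiAb
import Groth.Agent.AbSch.K454.ToriVan

set_option autoImplicit false
universe u
open CategoryTheory CategoryTheory.Limits MonoidalCategory CartesianMonoidalCategory MonObj AlgebraicGeometry
open AbSch

namespace Groth.Agent.S19303

/-- Let S be a scheme and, for i = 1, 2, let G_i be a commutative S-group scheme given as an extension
of an abelian S-scheme A_i (smooth, proper, connected fibres) by an S-torus T_i: homomorphisms T_i →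
G_i → A_i composing to the trivial map whose sequence of sheaves of points on the big fppf site of S
is short exact. Then, for the first Ext sheaves of the sheaves of points on that site: the map
Ext¹(A₁, T₂) → Ext¹(G₁, T₂) induced by G₁ → A₁ is an epimorphism of sheaves, and the map Ext¹(T₁,
G₂) → Ext¹(T₁, A₂) induced by G₂ → A₂ is a monomorphism of sheaves. -/
theorem result {S : Scheme.{u}} (T₁ G₁ A₁ T₂ G₂ A₂ : Over S)
    [GrpObj T₁] [IsCommMonObj T₁] (hT₁ : Red.IsTorus T₁) [GrpObj G₁] [IsCommMonObj G₁]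
    [GrpObj A₁] [IsCommMonObj A₁] [Smooth A₁.hom] [IsProper A₁.hom]
    (hA₁ : ∀ s : S, ConnectedSpace ↥(A₁.hom.fiber s))
    [GrpObj T₂] [IsCommMonObj T₂] (hT₂ : Red.IsTorus T₂) [GrpObj G₂] [IsCommMonObj G₂]
    [GrpObj A₂] [IsCommMonObj A₂] [Smooth A₂.hom] [IsProper A₂.hom]
    (hA₂ : ∀ s : S, ConnectedSpace ↥(A₂.hom.fiber s))
    (ι₁ : T₁ ⟶ G₁) (π₁ : G₁ ⟶ A₁) [IsMonHom ι₁] [IsMonHom π₁] (w₁ : ι₁ ≫ π₁ = 1)
    (hex₁ : (CGrpSh.seq Scheme.fppfPrecoverage ι₁ π₁ w₁).ShortExact)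
    (ι₂ : T₂ ⟶ G₂) (π₂ : G₂ ⟶ A₂) [IsMonHom ι₂] [IsMonHom π₂] (w₂ : ι₂ ≫ π₂ = 1)
    (hex₂ : (CGrpSh.seq Scheme.fppfPrecoverage ι₂ π₂ w₂).ShortExact) :
    Epi ((HomSh.extShMap (QuotSh.J Scheme.fppfPrecoverage S) (CGrpSh.ptsMap Scheme.fppfPrecoverage π₁) 1).app (CGrpSh.pts Scheme.fppfPrecoverage T₂)) ∧
    Mono ((HomSh.extSh (QuotSh.J Scheme.fppfPrecoverage S) (CGrpSh.pts Scheme.fppfPrecoverage T₁) 1).map (CGrpSh.ptsMap Scheme.fppfPrecoverage π₂)) := by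
  have hz : IsZero ((HomSh.extSh (QuotSh.J Scheme.fppfPrecoverage S) (CGrpSh.pts Scheme.fppfPrecoverage T₁) 1).obj
      (CGrpSh.pts Scheme.fppfPrecoverage T₂)) := K454.ToriVan.isZero_extSh_torus T₁ T₂ hT₁ hT₂
  exact ⟨K453.SemiAb.epi_ext' (QuotSh.J Scheme.fppfPrecoverage S) (CGrpSh.ptsMap Scheme.fppfPrecoverage ι₁)
      (CGrpSh.ptsMap Scheme.fppfPrecoverage π₁) (CGrpSh.seq Scheme.fppfPrecoverage ι₁ π₁ w₁).zero hex₁
      (CGrpSh.pts Scheme.fppfPrecoverage T₂) hz,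
    K453.SemiAb.mono_ext' (QuotSh.J Scheme.fppfPrecoverage S) (CGrpSh.ptsMap Scheme.fppfPrecoverage ι₂)
      (CGrpSh.ptsMap Scheme.fppfPrecoverage π₂) (CGrpSh.seq Scheme.fppfPrecoverage ι₂ π₂ w₂).zero hex₂
      (CGrpSh.pts Scheme.fppfPrecoverage T₁) hz⟩

end Groth.Agent.S19303

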