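import Groth.Statements.S19304
import Groth.Agent.AbSch.K454.TorAb
import Groth.Agent.S19296

set_option autoImplicit false
universe u
open CategoryTheory CategoryTheory.Limits MonoidalCategory CartesianMonoidalCategory MonObj AlgebraicGeometry
open AbSch

namespace Groth.Agent.S19304

/-- Let S be a scheme, T an S-torus, A an abelian S-scheme (smooth, proper, connected fibres) and P a
commutative S-group scheme of finite presentation over S with connected fibres. Then the group of
morphisms from P to the S-sheaf of extensions of T by A is trivial: on the big fppf site of S every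
morphism of abelian sheaves from the sheaf of points of P to the first Ext sheaf from the sheaf of
points of T with values in the sheaf of points of A is zero. (This is the step that makes every
biextension of (P, T) by A trivial.) -/
theorem result {S : Scheme.{u}} (T A P : Over S)
    [GrpObj T] [IsCommMonObj T] (hT : Red.IsTorus T)
    [GrpObj A] [IsCommMonObj A] [Smooth A.hom] [IsProper A.hom]
    (hA : ∀ s : S, ConnectedSpace ↥(A.hom.fiber s))
    [GrpObj P] [IsCommMonObj P] [QuasiCompact P.hom] [QuasiSeparated P.hom] [LocallyOfFinitePresentation P.hom]
    (hP : ∀ s : S, ConnectedSpace ↥(P.hom.fiber s))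
    (φ : (CGrpSh.pts Scheme.fppfPrecoverage P) ⟶ (HomSh.extSh (QuotSh.J Scheme.fppfPrecoverage S) (CGrpSh.pts Scheme.fppfPrecoverage T) 1).obj (CGrpSh.pts Scheme.fppfPrecoverage A)) : φ = 0 := by
  exact K454.TorAb.hom_extSh_eq_zero (Groth.Agent.S19296.result T A hT hA) hP φ

end Groth.Agent.S19304
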