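import Groth.Statements.S19305
import Groth.Agent.AbSch.K448.ExtProps
import Groth.Agent.AbSch.K448.FibreBC
import Groth.Agent.AbSch.K452.ConnFib
import Groth.Agent.AbVar.K523.KerSq
import Groth.Agent.Sga3.H784.Neutral
import Groth.Agent.Sga3.H780.Pointed
import Groth.Agent.Sga3B.AlgBc
import Groth.Agent.S3036
import Groth.Agent.S4120
import Groth.Agent.S4147

set_option autoImplicit false
universe u
open CategoryTheory CategoryTheory.Limits MonoidalCategory CartesianMonoidalCategory MonObj AlgebraicGeometry
open AbSch

namespace Groth.Agent.S19305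

/-- Let k be an algebraically closed field, T a k-torus, A an abelian variety over k (smooth proper
k-group scheme with connected fibres over Spec k) and E a commutative k-group scheme which is an
extension of T by A: homomorphisms A → E → T composing to the trivial map whose sequence of sheaves
of points on the big fppf site of Spec k is short exact. Then E is a connected smooth k-group
scheme, and every maximal torus T₀ of E maps onto T by an isogeny: the composite T₀ → E → T is
finite, flat and surjective (so T₀ and T have the same dimension). (The source lets E be a sheaf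
extension and first shows it is a scheme; here E is taken to be a scheme.) -/
theorem result (k : Type u) [Field k] [IsAlgClosed k] (T A E : Over (Spec (CommRingCat.of k)))
    [GrpObj T] [IsCommMonObj T] (hT : Red.IsTorus T)
    [GrpObj A] [IsCommMonObj A] [Smooth A.hom] [IsProper A.hom]
    (hA : ∀ s : Spec (CommRingCat.of k), ConnectedSpace ↥(A.hom.fiber s))
    [GrpObj E] [IsCommMonObj E]
    (u : A ⟶ E) (v : E ⟶ T) [IsMonHom u] [IsMonHom v] (w : u ≫ v = 1)
    (hex : (CGrpSh.seq Scheme.fppfPrecoverage u v w).ShortExact) :
    Smooth E.hom ∧ ConnectedSpace ↥E.left ∧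
      ∀ (T₀ : Over (Spec (CommRingCat.of k))) [GrpObj T₀] (i : T₀ ⟶ E), Red.IsMaximalTorus i →
        IsFinite (i ≫ v).left ∧ Flat (i ≫ v).left ∧ Surjective (i ≫ v).left := by
  have hgA : GeometricallyConnected A.hom := K452.ConnFib.geometricallyConnected A hA
  have hcA : ConnectedSpace A.left := GeometricallyConnected.connectedSpace_of_subsingleton A.hom
  have hTs : Smooth T.hom := Groth.Agent.Sga3B.TorusAlgClosed.smooth_of_isTorus hT
  have hTa : IsAffineHom T.hom := Groth.Agent.Sga3B.TorusAlgClosed.isAffineHom_of_isTorus hT
  have hTc : ConnectedSpace T.left := Groth.Agent.Sga3.H784.Neutral.connectedSpace_of_isTorus hT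
  have hTg : GeometricallyIntegral T.hom := Groth.Agent.Sga3.H780.Pointed.geometricallyIntegral T
  have hTi : IrreducibleSpace T.left :=
    GeometricallyIrreducible.geometrically_irreducibleSpace (f := T.hom) (𝟙 _) (𝟙 _) T.hom
      (IsPullback.of_horiz_isIso ⟨by rw [Category.id_comp, Category.comp_id]⟩)
  have hv1 := K448.ExtProps.smooth_v u v w hex
  have hv2 := K448.ExtProps.isProper_v u v w hex
  have hv3 := K448.ExtProps.surjective_v u v w hex
  have hEs : Smooth E.hom := by
    rw [← Over.w v]
    infer_instance
  have hEsep : IsSeparated E.hom := by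
    rw [← Over.w v]
    infer_instance
  have hEqc : QuasiCompact E.hom := by
    rw [← Over.w v]
    infer_instance
  refine ⟨hEs, K448.ExtProps.connectedSpace u v w hex, fun T₀ _ i hi => ?_⟩
  have hi1 : IsMonHom i := hi.1
  have hi2 : Mono i := hi.2.1
  have hi3 := hi.2.2.1
  have hT₀s : Smooth T₀.hom := Groth.Agent.Sga3B.TorusAlgClosed.smooth_of_isTorus hi3
  have hT₀a : IsAffineHom T₀.hom := Groth.Agent.Sga3B.TorusAlgClosed.isAffineHom_of_isTorus hi3
  -- `T₀ → T` is flat and surjective
  have hE : SGA3x.HasMaxTorusFpqcLocally E :=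
    ⟨_, 𝟙 _, inferInstance, inferInstance, fun V hV => ⟨V, hV.isCompact, by simp⟩, _, inferInstance, _,
      Groth.Agent.Sga3B.AlgBc.isMaximalTorus_bc (𝟙 _) hi⟩
  obtain ⟨T', _, i', f, hi', hf, hfi, hf1, hf2⟩ := Groth.Agent.S4147.result _ E T hE v
    (fun s => MorphismProperty.of_isPullback (P := @Surjective)
      (K448.FibreBC.isPullback_map_left (Red.geomPt s) v) hv3) T₀ i hi
  have hi1' : IsMonHom i' := hi'.1
  have hi2' : Mono i' := hi'.2.1
  obtain ⟨g, hg⟩ := Groth.Agent.S4120.result _ T T' T i' (𝟙 T) hi' hT (fun X a b => mul_comm _ _)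
  have hiso : IsIso i' := by
    refine ⟨g, ?_, hg⟩
    rw [← cancel_mono i', Category.assoc, hg, Category.comp_id, Category.id_comp]
  have hiso' : IsIso i'.left := inferInstanceAs (IsIso ((Over.forget _).map i'))
  have hflat : Flat (i ≫ v).left := by
    rw [← hfi, Over.comp_left]
    infer_instance
  have hsurj : Surjective (i ≫ v).left := by
    rw [← hfi, Over.comp_left]
    infer_instance
  refine ⟨?_, hflat, hsurj⟩
  -- the kernel
  have hqc : QuasiCompact i.left := by
    have h1 : QuasiCompact (i.left ≫ E.hom) := by
      rw [Over.w i]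
      infer_instance
    exact QuasiCompact.of_comp i.left E.hom
  have hcl : IsClosedImmersion i.left := Groth.Agent.S3036.result k T₀ E i
  have hker := K448.ExtProps.isPullback_ker u v w hex
  have hucl : IsClosedImmersion u.left := K448.ExtProps.isClosedImmersion_u u v w hex
  let p := pullback.fst i u
  let p' := pullback.snd i u
  have hpb : IsPullback p p' i u := IsPullback.of_hasPullback i u
  have hp : IsClosedImmersion p.left :=
    MorphismProperty.of_isPullback (P := @IsClosedImmersion) (hpb.map (Over.forget _)).flip hucl
  have hp' : IsClosedImmersion p'.left :=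
    MorphismProperty.of_isPullback (P := @IsClosedImmersion) (hpb.map (Over.forget _)) hcl
  have hfin : IsFinite (pullback i u).hom := by
    rw [IsFinite.iff_isProper_and_isAffineHom]
    refine ⟨?_, ?_⟩
    · rw [← Over.w p']
      infer_instance
    · rw [← Over.w p]
      infer_instance
  have hN : AlgGrp.IsKernel p (i ≫ v) := by
    have h1 := hpb.paste_vert hker
    have h2 : p' ≫ toUnit A = toUnit _ := toUnit_unique _ _
    rw [h2] at h1
    exact h1
  have hqc' : QuasiCompact (i ≫ v).left := by
    have h1 : QuasiCompact ((i ≫ v).left ≫ T.hom) := by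
      rw [Over.w (i ≫ v)]
      infer_instance
    exact QuasiCompact.of_comp (i ≫ v).left T.hom
  exact K523.KerSq.isFinite_of_ker p (i ≫ v) hN

end Groth.Agent.S19305
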