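import Groth.Statements.S19306
import Mathlib.Tactic
import Mathlib.RingTheory.PowerSeries.Basic
import Mathlib.RingTheory.PowerSeries.Inverse
import Mathlib.RingTheory.Nakayama
import Mathlib.Algebra.Module.Projective
import Mathlib.LinearAlgebra.Dual.Lemmas
import Mathlib.RingTheory.TensorProduct.Free

set_option autoImplicit false
universe u
open PowerSeries
open CAlg

namespace Groth.Agent.S19306

section
variable {R : Type u} [CommRing R]

/-- division by `X ^ M`, forgetting the first `M` coefficients -/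
noncomputable def shift (M : ℕ) : R⟦X⟧ →ₗ[R] R⟦X⟧ where
  toFun f := PowerSeries.mk fun t => PowerSeries.coeff (t + M) f
  map_add' f g := by ext; simp
  map_smul' r f := by ext; simp

theorem shift_X_pow_mul (M : ℕ) (f : R⟦X⟧) : shift M ((PowerSeries.X : R⟦X⟧) ^ M * f) = f := by
  ext t
  simp [shift, PowerSeries.coeff_X_pow_mul]

/-- a polynomial of degree `< M` with given coefficients -/
noncomputable def untr (n M : ℕ) : (Fin n → Fin M → R) →ₗ[R] (Fin n → R⟦X⟧) where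
  toFun g i := ∑ t : Fin M, PowerSeries.C (g i t) * PowerSeries.X ^ (t : ℕ)
  map_add' g h := by
    ext1 i
    simp [add_mul, Finset.sum_add_distrib]
  map_smul' r g := by
    ext1 i
    simp [Finset.smul_sum, PowerSeries.smul_eq_C_mul, mul_assoc]

noncomputable def trc (n M : ℕ) : (Fin n → R⟦X⟧) →ₗ[R] (Fin n → Fin M → R) where
  toFun p i t := PowerSeries.coeff (t : ℕ) (p i)
  map_add' p q := by ext; simp
  map_smul' r p := by ext; simp

theorem sub_untr_trc (n M : ℕ) (p : Fin n → R⟦X⟧) :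
    ∃ v : Fin n → R⟦X⟧, p - untr n M (trc n M p) = ((PowerSeries.X : R⟦X⟧) ^ M) • v := by
  have h : ∀ i, (PowerSeries.X : R⟦X⟧) ^ M ∣ (p - untr n M (trc n M p)) i := by
    intro i
    rw [PowerSeries.X_pow_dvd_iff]
    intro m hm
    change PowerSeries.coeff m (p i - ∑ t : Fin M, PowerSeries.C (PowerSeries.coeff (t : ℕ) (p i)) * PowerSeries.X ^ (t : ℕ)) = 0
    rw [map_sub, map_sum]
    simp only [PowerSeries.coeff_C_mul, PowerSeries.coeff_X_pow]
    rw [Finset.sum_eq_single (⟨m, hm⟩ : Fin M)]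
    · simp
    · intro b _ hb
      rw [if_neg, mul_zero]
      intro h
      apply hb
      ext
      exact h.symm
    · intro h
      exact absurd (Finset.mem_univ _) h
  choose v hv using h
  exact ⟨v, funext hv⟩

variable {n M : ℕ} (Λ : Submodule R⟦X⟧ (Fin n → R⟦X⟧))
  (hΛ : ∀ v : Fin n → R⟦X⟧, ((PowerSeries.X : R⟦X⟧) ^ M) • v ∈ Λ)

/-- An `R`-linear retraction of `Λ → P` makes the quotient projective. -/
theorem projective_of_retraction (ψ : (Fin n → R⟦X⟧) →ₗ[R] Λ) (hψ : ∀ x : Λ, ψ x = x)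
    (hΛ : ∀ v : Fin n → R⟦X⟧, ((PowerSeries.X : R⟦X⟧) ^ M) • v ∈ Λ) :
    Module.Projective R ((Fin n → R⟦X⟧) ⧸ Λ) := by
  let θ₀ : (Fin n → R⟦X⟧) →ₗ[R] (Fin n → R⟦X⟧) :=
    LinearMap.id - (Λ.subtype.restrictScalars R).comp ψ
  have hθ₀ : ∀ x ∈ Λ, θ₀ x = 0 := by
    intro x hx
    have h1 : ψ x = ⟨x, hx⟩ := hψ ⟨x, hx⟩
    simp [θ₀, h1]
  let θ : ((Fin n → R⟦X⟧) ⧸ Λ) →ₗ[R] (Fin n → R⟦X⟧) :=
    (Submodule.liftQ (Λ.restrictScalars R) θ₀ hθ₀).comp
      (Submodule.Quotient.restrictScalarsEquiv R Λ).symm.toLinearMap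
  have hθ : ∀ p, θ (Submodule.Quotient.mk p) = p - ψ p := fun p => rfl
  refine Module.Projective.of_split ((trc n M).comp θ)
    ((Λ.mkQ.restrictScalars R).comp (untr n M)) ?_
  ext x
  obtain ⟨p, rfl⟩ := Submodule.Quotient.mk_surjective _ x
  change Λ.mkQ (untr n M (trc n M (θ (Submodule.Quotient.mk p)))) = Submodule.Quotient.mk p
  obtain ⟨v, hv⟩ := sub_untr_trc n M (θ (Submodule.Quotient.mk p))
  rw [Submodule.mkQ_apply, Submodule.Quotient.eq]
  have h1 : untr n M (trc n M (θ (Submodule.Quotient.mk p))) - p =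
      - (((PowerSeries.X : R⟦X⟧) ^ M) • v) - (ψ p : Fin n → R⟦X⟧) := by
    rw [← hv, hθ]; abel
  rw [h1]
  exact Λ.sub_mem (Λ.neg_mem (hΛ v)) (ψ p).2

theorem forward [Module.Projective R⟦X⟧ Λ]
    (hΛ : ∀ v : Fin n → R⟦X⟧, ((PowerSeries.X : R⟦X⟧) ^ M) • v ∈ Λ) :
    Module.Projective R ((Fin n → R⟦X⟧) ⧸ Λ) := by
  obtain ⟨s, hs⟩ := Module.projective_def'.1 (inferInstance : Module.Projective R⟦X⟧ Λ)
  let j : (Fin n → R⟦X⟧) →ₗ[R⟦X⟧] Λ :=
    LinearMap.codRestrict Λ (((PowerSeries.X : R⟦X⟧) ^ M) • LinearMap.id) hΛ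
  let D : (Λ →₀ R⟦X⟧) →ₗ[R] (Λ →₀ R⟦X⟧) := Finsupp.mapRange.linearMap (shift M)
  have hD : ∀ u : Λ →₀ R⟦X⟧, D (((PowerSeries.X : R⟦X⟧) ^ M) • u) = u := by
    intro u
    ext1 x
    simp only [D, Finsupp.mapRange.linearMap_apply, Finsupp.mapRange_apply, Finsupp.smul_apply,
      smul_eq_mul]
    exact shift_X_pow_mul M _
  let ψ : (Fin n → R⟦X⟧) →ₗ[R] Λ :=
    ((Finsupp.linearCombination R⟦X⟧ (id : Λ → Λ)).restrictScalars R).comp
      (D.comp (((s.comp j)).restrictScalars R))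
  refine projective_of_retraction (M := M) Λ ψ ?_ hΛ
  intro x
  change Finsupp.linearCombination R⟦X⟧ (id : Λ → Λ) (D (s (j x))) = x
  have h1 : j (x : Fin n → R⟦X⟧) = ((PowerSeries.X : R⟦X⟧) ^ M) • x := by
    apply Subtype.ext; rfl
  rw [h1, map_smul, hD]
  exact LinearMap.congr_fun hs x

/-- componentwise division by `X` -/
noncomputable def dsh (n : ℕ) : (Fin n → R⟦X⟧) →ₗ[R] (Fin n → R⟦X⟧) where
  toFun p i := shift 1 (p i)
  map_add' p q := by ext1 i; simp
  map_smul' r p := by ext1 i; simp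

theorem X_mem_jacobson : Ideal.span {(PowerSeries.X : R⟦X⟧)} ≤ Ideal.jacobson ⊥ := by
  rw [Ideal.span_singleton_le_iff_mem, Ideal.mem_jacobson_bot]
  intro y
  rw [PowerSeries.isUnit_iff_constantCoeff]
  simp

end

section abstr

open TensorProduct

variable {R : Type u} [CommRing R] {A : Type u} [CommRing A] [Algebra R A]
  {P : Type u} [AddCommGroup P] [Module R P] [Module A P] [IsScalarTower R A P]
  {G : Type u} [AddCommGroup G] [Module R G]

theorem finite_of_retraction [Module.Finite A P] [Module.Finite R G] (Λ : Submodule A P)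
    (y : A) (hΛ : ∀ v : P, y • v ∈ Λ)
    (un : G →ₗ[R] P) (tr : P →ₗ[R] G) (htr : ∀ p, ∃ v, p - un (tr p) = y • v)
    (ψ : P →ₗ[R] Λ) (hψ : ∀ x : Λ, ψ x = x) :
    Module.Finite A Λ := by
  let j : P →ₗ[A] Λ := LinearMap.codRestrict Λ (y • LinearMap.id) hΛ
  let l : G →ₗ[R] Λ := ψ.comp un
  refine Module.Finite.of_surjective ((l.liftBaseChange A).coprod j) ?_
  intro x
  obtain ⟨v, hv⟩ := htr (x : P)
  refine ⟨(1 ⊗ₜ tr x, v), ?_⟩
  rw [LinearMap.coprod_apply, LinearMap.liftBaseChange_tmul, one_smul]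
  have h1 : un (tr x) = ((x - j v : Λ) : P) := by
    change un (tr x) = (x : P) - y • v
    rw [← hv]; abel
  change ψ (un (tr x)) + j v = x
  rw [h1, hψ]; abel

theorem backward_projective (Λ : Submodule A P) [Module.Finite A Λ]
    (x : A) (hx : Ideal.span {x} ≤ Ideal.jacobson ⊥) (hreg : ∀ p : P, x • p = 0 → p = 0)
    (hsep : ∀ a : A, (∀ t : ℕ, x ^ t ∣ a) → a = 0)
    (hA : ∀ a : A, ∃ (r : R) (a' : A), a = algebraMap R A r + x * a')
    [Module.Projective R (P ⧸ Λ)] [Module.Projective R G]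
    (un : G →ₗ[R] P) (tr : P →ₗ[R] G) (D : P →ₗ[R] P)
    (h1 : ∀ p, x • D p + un (tr p) = p) (h2 : ∀ p, D (x • p) = p) (h3 : ∀ p, tr (x • p) = 0)
    (ψ : P →ₗ[R] Λ) (hψ : ∀ x : Λ, ψ x = x) :
    Module.Projective A Λ := by
  -- the `R`-module `E = Λ / X Λ`
  let XΛ : Submodule A Λ := LinearMap.range (x • (LinearMap.id : Λ →ₗ[A] Λ))
  have hXmem : ∀ y : Λ, x • y ∈ XΛ := fun y => ⟨y, rfl⟩
  let mkE : Λ →ₗ[R] (Λ ⧸ XΛ) := XΛ.mkQ.restrictScalars R
  let u₀ : Λ →ₗ[R] (P ⧸ Λ) × G :=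
    (((Λ.mkQ.restrictScalars R).comp D).prod tr).comp (Λ.subtype.restrictScalars R)
  have hu₀ : ∀ z ∈ XΛ, u₀ z = 0 := by
    rintro _ ⟨y, rfl⟩
    refine Prod.ext ?_ ?_
    · change Submodule.Quotient.mk (D (x • (y : P))) = 0
      rw [h2]
      exact (Submodule.Quotient.mk_eq_zero Λ).2 y.2
    · exact h3 y
  let u : (Λ ⧸ XΛ) →ₗ[R] (P ⧸ Λ) × G :=
    (Submodule.liftQ (XΛ.restrictScalars R) u₀ hu₀).comp
      (Submodule.Quotient.restrictScalarsEquiv R XΛ).symm.toLinearMap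
  have hu : ∀ x : Λ, u (mkE x) = u₀ x := fun x => rfl
  let v₁₀ : P →ₗ[R] (Λ ⧸ XΛ) :=
    mkE.comp (ψ.comp ((x • (LinearMap.id : P →ₗ[A] P)).restrictScalars R))
  have hv₁₀ : ∀ y ∈ Λ, v₁₀ y = 0 := by
    intro y hy
    change XΛ.mkQ (ψ (x • y)) = 0
    have h1 : ψ (x • y) = x • (⟨y, hy⟩ : Λ) := hψ (x • (⟨y, hy⟩ : Λ))
    rw [h1, Submodule.mkQ_apply, Submodule.Quotient.mk_eq_zero]
    exact hXmem _
  let v₁ : (P ⧸ Λ) →ₗ[R] (Λ ⧸ XΛ) :=
    (Submodule.liftQ (Λ.restrictScalars R) v₁₀ hv₁₀).comp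
      (Submodule.Quotient.restrictScalarsEquiv R Λ).symm.toLinearMap
  have hv₁ : ∀ y, v₁ (Submodule.Quotient.mk y) = XΛ.mkQ (ψ (x • y)) := fun x => rfl
  let v₂ : G →ₗ[R] (Λ ⧸ XΛ) := mkE.comp (ψ.comp un)
  let v := v₁.coprod v₂
  have hvu : v.comp u = LinearMap.id := by
    refine LinearMap.ext fun z => ?_
    obtain ⟨z, rfl⟩ := Submodule.Quotient.mk_surjective _ z
    change v (u (mkE z)) = _
    rw [hu]
    change v₁ (Submodule.Quotient.mk (D z)) + XΛ.mkQ (ψ (un (tr z))) = XΛ.mkQ z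
    rw [hv₁, ← map_add, ← map_add, h1, hψ]
  have hEproj : Module.Projective R (Λ ⧸ XΛ) := Module.Projective.of_split u v hvu
  obtain ⟨l, hl⟩ := Module.projective_lifting_property mkE
    (LinearMap.id (R := R) (M := Λ ⧸ XΛ)) XΛ.mkQ_surjective
  have hl' : ∀ e, XΛ.mkQ (l e) = e := fun e => LinearMap.congr_fun hl e
  let φ : (A ⊗[R] (Λ ⧸ XΛ)) →ₗ[A] Λ := l.liftBaseChange A
  have hφ : ∀ a e, φ (a ⊗ₜ e) = a • l e := fun a e => LinearMap.liftBaseChange_tmul _ _ _ _
  have hXle : ∀ z : Λ, z ∈ XΛ → z ∈ Ideal.span {x} • (⊤ : Submodule A Λ) := by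
    rintro _ ⟨y, rfl⟩
    exact Submodule.smul_mem_smul (Ideal.mem_span_singleton_self x) trivial
  have hsurj : Function.Surjective φ := by
    rw [← LinearMap.range_eq_top, eq_top_iff]
    refine Submodule.le_of_le_smul_of_le_jacobson_bot (Module.Finite.fg_top) hx ?_
    intro z _
    have h4 : z = φ (1 ⊗ₜ (XΛ.mkQ z)) + (z - l (XΛ.mkQ z)) := by
      rw [hφ, one_smul]; abel
    rw [h4]
    refine Submodule.add_mem_sup ⟨_, rfl⟩ (hXle _ ?_)
    rw [← Submodule.Quotient.mk_eq_zero]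
    change XΛ.mkQ (z - l (XΛ.mkQ z)) = 0
    rw [map_sub, hl', sub_self]
  have hdec : ∀ z : A ⊗[R] (Λ ⧸ XΛ), ∃ z', z = 1 ⊗ₜ (XΛ.mkQ (φ z)) + x • z' := by
    intro z
    induction z using TensorProduct.induction_on with
    | zero => exact ⟨0, by simp⟩
    | tmul a e =>
      obtain ⟨r, a', ha⟩ := hA a
      refine ⟨a' ⊗ₜ e, ?_⟩
      have h5 : XΛ.mkQ (φ (a ⊗ₜ e)) = r • e := by
        rw [hφ, map_smul, hl', ha, add_smul, algebraMap_smul, mul_smul]
        have h6 : x • a' • e = 0 := by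
          obtain ⟨e, rfl⟩ := XΛ.mkQ_surjective e
          rw [← map_smul, ← map_smul, Submodule.mkQ_apply, Submodule.Quotient.mk_eq_zero]
          exact hXmem _
        rw [h6, add_zero]
      rw [h5, TensorProduct.tmul_smul, TensorProduct.smul_tmul', TensorProduct.smul_tmul',
        ← TensorProduct.add_tmul, smul_eq_mul, ← Algebra.algebraMap_eq_smul_one, ← ha]
    | add z w hz hw =>
      obtain ⟨z', hz⟩ := hz
      obtain ⟨w', hw⟩ := hw
      refine ⟨z' + w', ?_⟩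
      nth_rewrite 1 [hz, hw]
      rw [map_add, map_add, TensorProduct.tmul_add, smul_add]
      abel
  have hinj : Function.Injective φ := by
    rw [injective_iff_map_eq_zero]
    intro z hz
    have hpow : ∀ t : ℕ, ∀ z, φ z = 0 → ∃ z', z = x ^ t • z' ∧ φ z' = 0 := by
      intro t
      induction t with
      | zero => intro z hz; exact ⟨z, by simp, hz⟩
      | succ t ih =>
        intro z hz
        obtain ⟨z', hz', hz''⟩ := ih z hz
        obtain ⟨w, hw⟩ := hdec z'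
        rw [hz'', map_zero, TensorProduct.tmul_zero, zero_add] at hw
        refine ⟨w, by rw [hz', hw, pow_succ, mul_smul], ?_⟩
        rw [hw, map_smul] at hz''
        apply Subtype.ext
        exact hreg _ (congrArg Subtype.val hz'')
    by_contra hne
    obtain ⟨f, hf⟩ := Module.Projective.exists_dual_ne_zero A hne
    apply hf
    apply hsep
    intro t
    obtain ⟨z', hz', -⟩ := hpow t z hz
    exact ⟨f z', by rw [hz', map_smul, smul_eq_mul]⟩
  exact Module.Projective.of_equiv (LinearEquiv.ofBijective φ ⟨hinj, hsurj⟩)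

end abstr

/-- Let k be a field, R a commutative k-algebra, n, M natural numbers and Λ an R⟦X⟧-submodule of the
free module R⟦X⟧^n with X^M · R⟦X⟧^n ⊆ Λ. Then Λ is a finitely generated projective R⟦X⟧-module if
and only if the quotient R⟦X⟧^n / Λ is projective as an R-module. (The published statement
identifies, functorially in R, the families of lattices between t^N Λ₀ and t^{-N} Λ₀ in R((t))^n, Λ₀
the standard lattice, with the R⟦t⟧-submodules in that range whose quotient t^{-N} Λ₀ / Λ is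
R-projective; after multiplying by t^N this is the pointwise statement here, with 2N replaced by any
exponent M; a submodule containing X^M · R⟦X⟧^n automatically spans R((X))^n.) -/
theorem result
    (k : Type u) [Field k] (R : Type u) [CommRing R] [Algebra k R] (n M : ℕ)
    (Λ : Submodule R⟦X⟧ (Fin n → R⟦X⟧))
    (hΛ : ∀ v : Fin n → R⟦X⟧, ((PowerSeries.X : R⟦X⟧) ^ M) • v ∈ Λ) :
    (Module.Finite R⟦X⟧ Λ ∧ Module.Projective R⟦X⟧ Λ) ↔
      Module.Projective R ((Fin n → R⟦X⟧) ⧸ Λ) := by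
  constructor
  · rintro ⟨_, h2⟩
    exact forward Λ hΛ
  · intro hproj
    obtain ⟨τ, hτ⟩ := Module.projective_lifting_property (Λ.mkQ.restrictScalars R)
      (LinearMap.id (R := R) (M := (Fin n → R⟦X⟧) ⧸ Λ)) Λ.mkQ_surjective
    have hτ' : ∀ x, Submodule.Quotient.mk (τ x) = x := fun x => LinearMap.congr_fun hτ x
    let ψ₀ : (Fin n → R⟦X⟧) →ₗ[R] (Fin n → R⟦X⟧) :=
      LinearMap.id - τ.comp (Λ.mkQ.restrictScalars R)
    have hψ₀ : ∀ p, ψ₀ p ∈ Λ := by
      intro p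
      change p - τ (Submodule.Quotient.mk p) ∈ Λ
      rw [← Submodule.Quotient.mk_eq_zero, Submodule.Quotient.mk_sub, hτ', sub_self]
    let ψ : (Fin n → R⟦X⟧) →ₗ[R] Λ :=
      LinearMap.codRestrict (Λ.restrictScalars R) ψ₀ hψ₀
    have hψ : ∀ x : Λ, ψ x = x := by
      intro x
      apply Subtype.ext
      change (x : Fin n → R⟦X⟧) - τ (Submodule.Quotient.mk (x : Fin n → R⟦X⟧)) = x
      rw [(Submodule.Quotient.mk_eq_zero Λ).2 x.2, map_zero, sub_zero]
    have hfin : Module.Finite R⟦X⟧ Λ :=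
      finite_of_retraction (R := R) (A := R⟦X⟧) (P := Fin n → R⟦X⟧) (G := Fin n → Fin M → R) Λ
        ((PowerSeries.X : R⟦X⟧) ^ M) hΛ (untr n M) (trc n M) (sub_untr_trc n M) ψ hψ
    refine ⟨hfin, ?_⟩
    have hsh : ∀ f : R⟦X⟧, shift 1 ((PowerSeries.X : R⟦X⟧) * f) = f := by
      intro f
      have := shift_X_pow_mul 1 f
      rwa [pow_one] at this
    have hdec : ∀ a : R⟦X⟧, a = algebraMap R R⟦X⟧ (PowerSeries.constantCoeff a) +
        PowerSeries.X * shift 1 a := by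
      intro a
      ext m
      rw [map_add]
      cases m with
      | zero => simp
      | succ m =>
        rw [PowerSeries.coeff_succ_X_mul]
        simp [shift, PowerSeries.algebraMap_apply, PowerSeries.coeff_C]
    have hD2 : ∀ p : Fin n → R⟦X⟧, dsh n ((PowerSeries.X : R⟦X⟧) • p) = p := by
      intro p
      ext1 i
      exact hsh (p i)
    refine backward_projective (R := R) (A := R⟦X⟧) (P := Fin n → R⟦X⟧) (G := Fin n → Fin 1 → R) Λ
      PowerSeries.X X_mem_jacobson ?_ ?_ (fun a => ⟨_, _, hdec a⟩) (untr n 1) (trc n 1) (dsh n)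
      ?_ hD2 ?_ ψ hψ
    · intro p hp
      rw [← hD2 p, hp, map_zero]
    · intro a ha
      ext m
      exact PowerSeries.X_pow_dvd_iff.1 (ha (m + 1)) m (Nat.lt_succ_self m)
    · intro p
      ext1 i
      change PowerSeries.X * shift 1 (p i) + ∑ t : Fin 1, PowerSeries.C (PowerSeries.coeff (t : ℕ) (p i)) *
        PowerSeries.X ^ (t : ℕ) = p i
      conv_rhs => rw [hdec (p i)]
      simp [add_comm]
    · intro p
      ext i t
      change PowerSeries.coeff (t : ℕ) ((PowerSeries.X : R⟦X⟧) * p i) = 0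
      have ht : (t : ℕ) = 0 := by omega
      rw [ht]
      simp

end Groth.Agent.S19306
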