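import Groth.Statements.S19308
import Groth.Agent.CAlg.K94.FibreReg
import Groth.Agent.Picfga.FibreReg

set_option autoImplicit false
universe u
open TensorProduct
open CAlg

namespace Groth.Agent.S19308

/-- Let k be an algebraically closed field, A a finitely generated k-algebra which is an integral domain
(an affine variety X = Spec A), Z a finite (possibly empty) set of k-points of A, R a commutative
k-algebra and U an open dense subset of Spec (R ⊗_k A) = X_R containing every point of Z_R and
meeting every fibre of X_R → Spec R. Then locally on Spec R there is a principal relative effective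
Cartier divisor missing Z_R whose complement lies in U: for every prime p of R there are r ∉ p and f
∈ R[1/r] ⊗_k A such that f is a non-zero-divisor, (R[1/r] ⊗_k A)/(f) is flat over R[1/r], f maps to
a unit under every point of Z, and the basic open set D(f) of X_{R[1/r]} maps into U. (The published
statement is for a quasi-projective variety X and asks for relative Cartier divisors D_i over an
open cover of Spec R; this row is the affine case, to which the published proof reduces, where the
divisors produced are principal.) -/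
theorem result
    (k : Type u) [Field k] [IsAlgClosed k]
    (A : Type u) [CommRing A] [Algebra k A] [IsDomain A] [Algebra.FiniteType k A]
    (Z : Finset (A →ₐ[k] k))
    (R : Type u) [CommRing R] [Algebra k R]
    (U : TopologicalSpace.Opens (PrimeSpectrum (TensorProduct k R A)))
    (hU : Dense (U : Set (PrimeSpectrum (TensorProduct k R A))))
    (hZ : ∀ z ∈ Z, ∀ q : PrimeSpectrum R,
      PrimeSpectrum.comap (Algebra.TensorProduct.lift (AlgHom.id k R) ((Algebra.ofId k R).comp z)
        (fun _ _ => Commute.all _ _)).toRingHom q ∈ U)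
    (hsurj : ∀ q : PrimeSpectrum R, ∃ P ∈ U,
      PrimeSpectrum.comap (Algebra.TensorProduct.includeLeftRingHom : R →+* TensorProduct k R A) P = q)
    (p : PrimeSpectrum R) :
    ∃ r : R, r ∉ p.asIdeal ∧
      ∃ f : TensorProduct k (Localization.Away r) A,
        f ∈ nonZeroDivisors (TensorProduct k (Localization.Away r) A) ∧
        Module.Flat (Localization.Away r)
          (TensorProduct k (Localization.Away r) A ⧸ Ideal.span {f}) ∧
        (∀ z ∈ Z, IsUnit (Algebra.TensorProduct.lift (AlgHom.id k (Localization.Away r))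
          ((Algebra.ofId k (Localization.Away r)).comp z) (fun _ _ => Commute.all _ _) f)) ∧
        (∀ P : PrimeSpectrum (TensorProduct k (Localization.Away r) A), f ∉ P.asIdeal →
          PrimeSpectrum.comap (Algebra.TensorProduct.map
            (IsScalarTower.toAlgHom k R (Localization.Away r)) (AlgHom.id k A)).toRingHom P ∈ U) := by
  classical
  obtain ⟨J, hJ⟩ := (PrimeSpectrum.isClosed_iff_zeroLocus_ideal _).1 U.2.isClosed_compl
  have hJU : ∀ P : PrimeSpectrum (TensorProduct k R A), P ∈ U ↔ ¬ J ≤ P.asIdeal := by
    intro P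
    have h1 : P ∈ ((U : Set (PrimeSpectrum (TensorProduct k R A)))ᶜ) ↔ J ≤ P.asIdeal := by
      change P ∈ U.carrierᶜ ↔ _
      rw [hJ]; exact Iff.rfl
    rw [← h1, Set.mem_compl_iff, not_not]
    exact Iff.rfl
  have := Groth.Agent.Fdesc.TensorDomain.isDomain_tensorProduct (k := k) (A := R ⧸ p.asIdeal) (B := A)
  have hprime : (RingHom.ker (K94.FibreReg.red (k := k) A p.asIdeal)).IsPrime := RingHom.ker_isPrime _
  have hmem := K94.FibreReg.mem_open_red U p hprime (hsurj _)
  let ev : (A →ₐ[k] k) → (TensorProduct k R A →ₐ[k] R) := fun z =>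
    (Algebra.TensorProduct.lift (AlgHom.id k R) ((Algebra.ofId k R).comp z)
        (fun _ _ => Commute.all _ _))
  let I : Option (A →ₐ[k] k) → Ideal (TensorProduct k R A) := fun o =>
    o.elim (RingHom.ker (K94.FibreReg.red (k := k) A p.asIdeal))
      (fun z => p.asIdeal.comap (ev z).toRingHom)
  have hI : ∀ o ∈ Finset.insertNone Z, (I o).IsPrime := by
    intro o _
    cases o with
    | none => exact hprime
    | some z => exact Ideal.IsPrime.comap _
  have hJI : ∀ o ∈ Finset.insertNone Z, ¬ J ≤ I o := by
    intro o ho
    cases o with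
    | none => exact (hJU _).1 hmem
    | some z => exact (hJU _).1 (hZ z (Finset.some_mem_insertNone.1 ho) p)
  have havoid : ¬ ((J : Set (TensorProduct k R A)) ⊆ ⋃ o ∈ (↑(Finset.insertNone Z) : Set _), (I o)) := by
    intro h
    rw [Ideal.subset_union_prime none none (fun o ho _ _ => hI o ho)] at h
    obtain ⟨o, ho, h⟩ := h
    exact hJI o ho h
  rw [Set.not_subset] at havoid
  obtain ⟨f₀, hf₀J, hf₀⟩ := havoid
  simp only [Set.mem_iUnion, not_exists] at hf₀
  have hf₀red : K94.FibreReg.red A p.asIdeal f₀ ≠ 0 := fun h =>
    hf₀ none (Finset.mem_coe.2 Finset.none_mem_insertNone) h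
  have hf₀z : ∀ z ∈ Z, ev z f₀ ∉ p.asIdeal := fun z hz h =>
    hf₀ (some z) (Finset.mem_coe.2 (Finset.some_mem_insertNone.2 hz)) h
  let b := Module.Free.chooseBasis k A
  let B := Algebra.TensorProduct.basis R b
  obtain ⟨i, hi⟩ : ∃ i, B.repr f₀ i ∉ p.asIdeal := by
    by_contra hcon
    push Not at hcon
    apply hf₀red
    apply (Algebra.TensorProduct.basis (R ⧸ p.asIdeal) b).repr.injective
    ext j
    have h1 := K94.FibreReg.repr_map (Ideal.Quotient.mkₐ k p.asIdeal) b f₀ j
    rw [map_zero, Finsupp.zero_apply]
    refine h1.trans ?_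
    exact Ideal.Quotient.eq_zero_iff_mem.2 (hcon j)
  let r : R := B.repr f₀ i * ∏ z ∈ Z, ev z f₀
  have hr : r ∉ p.asIdeal := by
    intro h
    rcases p.2.mem_or_mem h with h | h
    · exact hi h
    · rw [Ideal.IsPrime.prod_mem_iff] at h
      obtain ⟨z, hz, h⟩ := h
      exact hf₀z z hz h
  have hru : IsUnit (algebraMap R (Localization.Away r) r) := IsLocalization.Away.algebraMap_isUnit r
  let φ : R →ₐ[k] Localization.Away r := IsScalarTower.toAlgHom k R (Localization.Away r)
  have hiu : IsUnit (φ (B.repr f₀ i)) := by
    refine isUnit_of_dvd_unit ?_ hru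
    exact map_dvd (algebraMap R (Localization.Away r)) (Dvd.intro _ rfl)
  have hzu : ∀ z ∈ Z, IsUnit (φ (ev z f₀)) := by
    intro z hz
    refine isUnit_of_dvd_unit ?_ hru
    exact map_dvd (algebraMap R (Localization.Away r))
      ((Finset.dvd_prod_of_mem (fun z => ev z f₀) hz).trans (Dvd.intro_left _ rfl))
  let f : TensorProduct k (Localization.Away r) A := Algebra.TensorProduct.map φ (AlgHom.id k A) f₀
  have hfred : ∀ q : Ideal (Localization.Away r), q.IsMaximal → K94.FibreReg.red A q f ≠ 0 := by
    intro q hq h0
    have h1 := K94.FibreReg.repr_map (Ideal.Quotient.mkₐ k q) b f i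
    have h2 : Algebra.TensorProduct.map (Ideal.Quotient.mkₐ k q) (AlgHom.id k A) f = 0 := h0
    rw [h2, map_zero, Finsupp.zero_apply] at h1
    have h3 := Ideal.Quotient.eq_zero_iff_mem.1 h1.symm
    rw [K94.FibreReg.repr_map φ b f₀ i] at h3
    exact hq.ne_top (Ideal.eq_top_of_isUnit_mem _ h3 hiu)
  have hfmem := fun (K : Ideal (Localization.Away r)) (x : TensorProduct k (Localization.Away r) A)
    (h : f * x ∈ K.map (algebraMap (Localization.Away r) (TensorProduct k (Localization.Away r) A))) =>
    K94.FibreReg.mem_map_of_mul_mem_map f hfred K x h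
  refine ⟨r, hr, f, ?_, ?_, ?_, ?_⟩
  · rw [mem_nonZeroDivisors_iff_right]
    intro x hx
    have h1 := hfmem ⊥ x
    rw [Ideal.map_bot, Ideal.mem_bot, Ideal.mem_bot, mul_comm] at h1
    exact h1 hx
  · exact Groth.Agent.Picfga.FibreReg.flat_quotient_of_forall f hfmem
  · intro z hz
    have h1 : (Algebra.TensorProduct.lift (AlgHom.id k (Localization.Away r))
          ((Algebra.ofId k (Localization.Away r)).comp z) (fun _ _ => Commute.all _ _)).comp
          (Algebra.TensorProduct.map φ (AlgHom.id k A)) = φ.comp (ev z) := by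
      apply Algebra.TensorProduct.ext'
      intro a c
      simp [ev, φ, Algebra.ofId_apply, ← IsScalarTower.algebraMap_apply]
    have h2 := DFunLike.congr_fun h1 f₀
    refine (congrArg IsUnit h2).mpr (hzu z hz)
  · intro P hP
    rw [hJU]
    intro hle
    exact hP (hle hf₀J)

end Groth.Agent.S19308
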