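import Groth.Statements.S19309
import Mathlib.Tactic
import Mathlib.RingTheory.LaurentSeries

set_option autoImplicit false
universe u
open PowerSeries LaurentSeries
open CAlg

namespace Groth.Agent.S19309

theorem coeff_theta {R R' : Type u} [CommRing R] [CommRing R'] (φ : R →+* R')
    (θ : R⸨X⸩ →+* R'⸨X⸩)
    (hθ : θ.comp (algebraMap R⟦X⟧ R⸨X⸩) = (algebraMap R'⟦X⟧ R'⸨X⸩).comp (PowerSeries.map φ))
    (f : R⸨X⸩) (i : ℤ) : (θ f).coeff i = φ (f.coeff i) := by
  obtain ⟨⟨g, ⟨_, n, rfl⟩⟩, hg⟩ := IsLocalization.surj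
    (Submonoid.powers (PowerSeries.X : R⟦X⟧)) (S := R⸨X⸩) f
  have hX : ∀ (S : Type u) [CommRing S], algebraMap S⟦X⟧ S⸨X⸩ (PowerSeries.X ^ n) =
      HahnSeries.single (n : ℤ) (1 : S) := by
    intro S _
    rw [LaurentSeries.coe_algebraMap, HahnSeries.ofPowerSeries_X_pow]
  have h1 : ∀ (S : Type u) [CommRing S] (a : S⸨X⸩) (i : ℤ),
      (a * algebraMap S⟦X⟧ S⸨X⸩ (PowerSeries.X ^ n)).coeff (i + n) = a.coeff i := by
    intro S _ a i
    rw [hX, HahnSeries.coeff_mul_single_add, mul_one]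
  have h2 : θ f * algebraMap R'⟦X⟧ R'⸨X⸩ (PowerSeries.X ^ n) =
      algebraMap R'⟦X⟧ R'⸨X⸩ (PowerSeries.map φ g) := by
    have e1 := congrArg θ hg
    rw [map_mul] at e1
    have e2 := RingHom.congr_fun hθ (PowerSeries.X ^ n)
    have e3 := RingHom.congr_fun hθ g
    simp only [RingHom.comp_apply, map_pow, PowerSeries.map_X] at e2 e3
    rw [← e3, ← e1, map_pow, ← e2]
    simp only [map_pow]
  rw [← h1 R' (θ f) i, h2, ← h1 R f i]
  have h3 : f * algebraMap R⟦X⟧ R⸨X⸩ (PowerSeries.X ^ n) = algebraMap R⟦X⟧ R⸨X⸩ g := hg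
  rw [h3, LaurentSeries.coe_algebraMap, LaurentSeries.coe_algebraMap, PowerSeries.coeff_coe,
    PowerSeries.coeff_coe]
  split_ifs
  · rw [map_zero]
  · rw [PowerSeries.coeff_map]

theorem mem_range_iff {R : Type u} [CommRing R] (f : R⸨X⸩) :
    f ∈ (algebraMap R⟦X⟧ R⸨X⸩).range ↔ ∀ i : ℤ, i < 0 → f.coeff i = 0 := by
  constructor
  · rintro ⟨g, rfl⟩ i hi
    rw [LaurentSeries.coe_algebraMap, PowerSeries.coeff_coe, if_pos hi]
  · intro h
    refine ⟨PowerSeries.mk (fun n => f.coeff n), ?_⟩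
    ext i
    rw [LaurentSeries.coe_algebraMap, PowerSeries.coeff_coe]
    split_ifs with hi
    · exact (h i hi).symm
    · rw [PowerSeries.coeff_mk, Int.natAbs_of_nonneg (not_lt.1 hi)]

/-- Let k be a field, R a commutative k-algebra, B a finitely presented R⟦X⟧-algebra (an affine scheme V
= Spec B of finite presentation over the disc D_R = Spec R⟦X⟧) and s : B → R((X)) an R⟦X⟧-algebra
map (a section of V over the punctured disc). Then there is an ideal I of R such that for every ring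
map φ : R → R', writing θ : R((X)) → R'((X)) for the ring map compatible with R⟦X⟧ → R'⟦X⟧, the
section s extends to a section over D_{R'} — an R⟦X⟧-algebra map s' : B → R'⟦X⟧ whose composite with
R'⟦X⟧ → R'((X)) is θ ∘ s — if and only if φ kills I. In other words the sub-presheaf of Spec R where
s extends over the disc is the closed subscheme defined by I. -/
theorem result
    (k : Type u) [Field k] (R : Type u) [CommRing R] [Algebra k R]
    (B : Type u) [CommRing B] [Algebra R⟦X⟧ B] [Algebra.FinitePresentation R⟦X⟧ B]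
    (s : B →ₐ[R⟦X⟧] R⸨X⸩) :
    ∃ I : Ideal R, ∀ (R' : Type u) [CommRing R'] (φ : R →+* R') (θ : R⸨X⸩ →+* R'⸨X⸩),
      θ.comp (algebraMap R⟦X⟧ R⸨X⸩) = (algebraMap R'⟦X⟧ R'⸨X⸩).comp (PowerSeries.map φ) →
      ((∃ s' : B →+* R'⟦X⟧, s'.comp (algebraMap R⟦X⟧ B) = PowerSeries.map φ ∧
          (algebraMap R'⟦X⟧ R'⸨X⸩).comp s' = θ.comp s.toRingHom) ↔ I ≤ RingHom.ker φ) := by
  refine ⟨Ideal.span {c | ∃ (b : B) (i : ℤ), i < 0 ∧ c = (s b).coeff i}, ?_⟩
  intro R' _ φ θ hθ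
  have hinj : Function.Injective (algebraMap R'⟦X⟧ R'⸨X⸩) := by
    rw [LaurentSeries.coe_algebraMap]; exact HahnSeries.ofPowerSeries_injective
  constructor
  · rintro ⟨s', hs', hs''⟩
    rw [Ideal.span_le]
    rintro c ⟨b, i, hi, rfl⟩
    have h1 : θ (s b) ∈ (algebraMap R'⟦X⟧ R'⸨X⸩).range :=
      ⟨s' b, RingHom.congr_fun hs'' b⟩
    rw [mem_range_iff] at h1
    have h2 := h1 i hi
    rw [coeff_theta φ θ hθ] at h2
    exact h2
  · intro hI
    have h1 : ∀ b : B, θ (s b) ∈ (algebraMap R'⟦X⟧ R'⸨X⸩).range := by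
      intro b
      rw [mem_range_iff]
      intro i hi
      rw [coeff_theta φ θ hθ]
      exact hI (Ideal.subset_span ⟨b, i, hi, rfl⟩)
    let t : B →+* (algebraMap R'⟦X⟧ R'⸨X⸩).range := (θ.comp s.toRingHom).codRestrict _ h1
    let e : R'⟦X⟧ ≃+* (algebraMap R'⟦X⟧ R'⸨X⸩).range :=
      RingEquiv.ofBijective (algebraMap R'⟦X⟧ R'⸨X⸩).rangeRestrict
        ⟨fun a b hab => hinj (congrArg Subtype.val hab), RingHom.rangeRestrict_surjective _⟩
    have he : ∀ x, (algebraMap R'⟦X⟧ R'⸨X⸩) (e.symm x) = x := fun x =>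
      congrArg Subtype.val (e.apply_symm_apply x)
    refine ⟨e.symm.toRingHom.comp t, ?_, ?_⟩
    · ext1 g
      apply hinj
      change (algebraMap R'⟦X⟧ R'⸨X⸩) (e.symm (t (algebraMap R⟦X⟧ B g))) = _
      rw [he]
      change θ (s (algebraMap R⟦X⟧ B g)) = _
      rw [s.commutes]
      exact RingHom.congr_fun hθ g
    · ext1 b
      exact he (t b)

end Groth.Agent.S19309
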