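import Groth.Statements.S19310
import Groth.Agent.CAlg.K94.FibreReg

set_option autoImplicit false
universe u
open TensorProduct
open CAlg

namespace Groth.Agent.S19310

/-- Let k be an algebraically closed field, A a finitely generated k-algebra which is an integral domain
(X = Spec A an affine variety), R a commutative k-algebra, possibly non-reduced, and U an open
subset of X_R = Spec (R ⊗_k A) meeting every fibre of X_R → Spec R (a very dense open subset). Then
a regular function on X_R whose restriction to U vanishes is zero: if f ∈ R ⊗_k A maps to 0 in the
localisation (R ⊗_k A)[1/g] for every g with D(g) ⊆ U, then f = 0. (The published statement is that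
automorphisms of a torsor under a smooth affine group scheme over X_R which are the identity over a
very dense open subset are the identity, for X a smooth projective curve; its proof reduces this to
the present assertion about functions, for quasi-projective X; this row is the affine case.) -/
theorem result
    (k : Type u) [Field k] [IsAlgClosed k]
    (A : Type u) [CommRing A] [Algebra k A] [IsDomain A] [Algebra.FiniteType k A]
    (R : Type u) [CommRing R] [Algebra k R]
    (U : TopologicalSpace.Opens (PrimeSpectrum (TensorProduct k R A)))
    (hsurj : ∀ q : PrimeSpectrum R, ∃ P ∈ U,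
      PrimeSpectrum.comap (Algebra.TensorProduct.includeLeftRingHom : R →+* TensorProduct k R A) P = q)
    (f : TensorProduct k R A)
    (hf : ∀ g : TensorProduct k R A, (PrimeSpectrum.basicOpen g : Set (PrimeSpectrum (TensorProduct k R A))) ⊆ U →
      algebraMap (TensorProduct k R A) (Localization.Away g) f = 0) :
    f = 0 := by
  by_contra hf0
  obtain ⟨q, hq, H⟩ := K94.FibreReg.exists_maximal_forall_mul_ne_zero f hf0
  have := Groth.Agent.Fdesc.TensorDomain.isDomain_tensorProduct (k := k) (A := R ⧸ q) (B := A)
  have hprime : (RingHom.ker (K94.FibreReg.red (k := k) A q)).IsPrime := RingHom.ker_isPrime _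
  have hmem := K94.FibreReg.mem_open_red U ⟨q, hq.isPrime⟩ hprime (hsurj _)
  obtain ⟨_, ⟨g, rfl⟩, hg1, hg2⟩ :=
    PrimeSpectrum.isTopologicalBasis_basic_opens.exists_subset_of_mem_open hmem U.2
  have h1 := hf g hg2
  rw [IsLocalization.map_eq_zero_iff (Submonoid.powers g)] at h1
  obtain ⟨⟨_, n, rfl⟩, hn⟩ := h1
  refine H (g ^ n) ?_ hn
  rw [map_pow]
  exact pow_ne_zero _ hg1

end Groth.Agent.S19310
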