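import Groth.Statements.S19316
import Groth.Agent.DecSh.K987.Sect
import Groth.Agent.DecSh.K987.Par
import Groth.Agent.DecSh.K987.GG

set_option autoImplicit false
universe u
open CategoryTheory CategoryTheory.Limits AlgebraicGeometry
open DecSh

namespace Groth.Agent.S19316

/-- Let k be an algebraically closed field of characteristic zero, Y a smooth proper k-scheme of
dimension one without isolated points (possibly disconnected) and L an ample invertible O_Y-module.
Fix finitely many effective Cartier ideal sheaves I_1, …, I_ν on Y (the divisors D_i), rational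
weights κ_i with 0 < κ_i < 1, δ > 0, natural numbers r, a, b and an integer d. Consider the locally
free O_Y-modules E of rank r and degree d (χ(E) − r·χ(O_Y) = d) for which there exist k-subspaces
K_i ⊂ H⁰(E ⊗ O_{D_i}) with quotients of dimension r and a tensor field of type (a, b) on E with
values in some O_Y-module, (κ, δ)-semistable with respect to L. This family is bounded: there is n₀
such that for every such E and every n ≥ n₀, H¹(Y, E ⊗ L^{⊗n}) = 0 and E ⊗ L^{⊗n} is globally
generated. (The published statement fixes the target det(E)^{⊗c} ⊗ L' of the tensor field and takes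
the D_i to be the pairs of points over the nodes; allowing any target and any effective divisors
gives a larger family, bounded by the same argument.) -/
theorem result
    (k : Type u) [Field k] [IsAlgClosed k] [CharZero k]
    (Y : Scheme.{u}) [Y.Over (Spec (CommRingCat.of k))] [IsProper (Y ↘ Spec (CommRingCat.of k))]
    [Smooth (Y ↘ Spec (CommRingCat.of k))] (hdim : topologicalKrullDim Y = 1)
    (hpure : ∀ y : Y, ¬ IsOpen ({y} : Set Y))
    (L : Y.Modules) (hL : CohB1.IsAmple L)
    {ν : ℕ} (I : Fin ν → Y.IdealSheafData) (hI : ∀ i, FGA.IsEffCartier (I i))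
    (κ : Fin ν → ℚ) (hκ : ∀ i, 0 < κ i ∧ κ i < 1) (δ : ℚ) (hδ : 0 < δ)
    (r a b : ℕ) (d : ℤ) :
    ∃ n₀ : ℕ, ∀ n : ℕ, n₀ ≤ n → ∀ E : Y.Modules,
      (FlatMod.IsFinLocFreeOfRank r E ∧ Curv2.deg k Y E r = d ∧
        ∃ (K : ∀ i, Submodule k (ParSh.fibD Y (I i) E)),
          (∀ i, Module.finrank k (ParSh.fibD Y (I i) E ⧸ K i) = r) ∧
          ∃ (D : Y.Modules) (T : DecSh.TF E a b D), T.IsParSemistable k I K κ L δ) →
      Subsingleton (Coh.HH Y (CohB1.tensorMod E (CohB1.tensorPow L n)) 1) ∧
        Curv2.IsGloballyGenerated (CohB1.tensorMod E (CohB1.tensorPow L n)) := by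
  obtain ⟨w, hw⟩ := K987.DecShCurve.exists_isDz k hdim hL
  obtain ⟨N, hN⟩ := K987.DecShCurve.exists_van hdim.le hL hw
    (((d + r * Curv2.euler k Y (Coh.structureModule Y) : ℤ) : ℚ) /
      ((r * DecSh.mult k Y L (Coh.structureModule Y) : ℤ) : ℚ) + ((a : ℚ) * δ + (r : ℚ) * (ν : ℚ)))
    (r * DecSh.mult k Y L (Coh.structureModule Y)) (d + r * Curv2.euler k Y (Coh.structureModule Y))
  obtain ⟨s, hs⟩ := K987.DecShCurve.exists_gg k hdim.le hL
  have key : ∀ n : ℕ, N ≤ n → ∀ E : Y.Modules, (FlatMod.IsFinLocFreeOfRank r E ∧ Curv2.deg k Y E r = d ∧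
        ∃ (K : ∀ i, Submodule k (ParSh.fibD Y (I i) E)),
          (∀ i, Module.finrank k (ParSh.fibD Y (I i) E ⧸ K i) = r) ∧
          ∃ (D : Y.Modules) (T : DecSh.TF E a b D), T.IsParSemistable k I K κ L δ) →
      Groth.Agent.Pic13.H11.Cls.V 1
        (Groth.Agent.Pic13.H11.Cls.unit hL.1 ^ n • Groth.Agent.Fga.PicMon.mc E) := by
    rintro n hn E ⟨hE, hd, K, hK, D, T, hT⟩
    have hmult : DecSh.mult k Y L E = r * DecSh.mult k Y L (Coh.structureModule Y) := by
      rw [K987.DecShCurve.mult_eq k hL.1, K987.DecShCurve.mult_eq k hL.1]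
      exact K987.DecShCurve.al_locFree k hdim hL hE
    have hEe : Curv2.euler k Y E = d + r * Curv2.euler k Y (Coh.structureModule Y) := by
      rw [← hd, Curv2.deg]
      ring
    have h1 := K987.DecShCurve.slopeLE_of_par k I K hK κ hκ hL hdim hE
      (K987.DecShCurve.posSub_of_locFree k hL hdim hpure hE) T δ hδ hT
    rw [hmult, hEe] at h1
    exact hN n hn _ (K987.DecShCurve.isCoh_of_rank hE) h1 (by rw [← K987.DecShCurve.mult_eq, hmult])
      (by rw [Groth.Agent.Pic13.H11.Cls.chi_mc, hEe])
  refine ⟨N + s, fun n hn E hE => ⟨?_, ?_⟩⟩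
  · have h1 := key n (by omega) E hE
    rw [← K987.DecShCurve.mc_twist hL.1, Groth.Agent.Pic13.H11.Cls.V_mc] at h1
    exact h1
  · have h1 := hs E (K987.DecShCurve.isCoh_of_rank hE.1) (n - s) (key (n - s) (by omega) E hE)
    have h2 : n - s + s = n := by omega
    rwa [h2] at h1

end Groth.Agent.S19316
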