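import Groth.Statements.S19321
import Groth.Agent.DecSh.K987.Bdd
import Groth.Agent.DecSh.K987.SectMain

set_option autoImplicit false
universe u
open CategoryTheory CategoryTheory.Limits AlgebraicGeometry
open DecSh

namespace Groth.Agent.S19321

/-- Let k be an algebraically closed field of characteristic zero, X a reduced proper k-scheme of
dimension one without isolated points, and L an ample invertible O_X-module which is very ample
relative to some projective space over k; write χ for the Euler characteristic over k, M(m) = M ⊗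
L^{⊗m}, h⁰(M) = dim_k H⁰(X, M), α(M) = χ(M ⊗ L) − χ(M). Fix δ > 0, integers α and e, natural numbers
a, b and a finite locally free O_X-module D. Then there is N₁ such that for every rational number C
the following family of coherent O_X-modules F′ is bounded: F′ admits a monomorphism with torsion
free cokernel (a saturated subsheaf) into some coherent F with torsion free stalks, α(F) = α, χ(F) =
e, which carries a tensor field T of type (a, b) with values in D that is δ-semistable with respect
to L or satisfies for some m ≥ N₁ the quotient sectional condition Σ_i m_i (α(F/F_i) · χ(F(m)) − α ·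
h⁰((F/F_i)(m))) + δ μ ≤ 0 for all weighted filtrations of F by coherent subsheaves; and |χ(F′) −
α(F′) · (e − aδ)/α| ≤ C. (The last condition is the source's |deg F′ − α(F′) μ_s| ≤ C with μ_s =
(deg F − aδ)/α, rewritten through χ: the correction terms by the rational rank cancel. The published
setting is a reduced projective curve with a very ample polarisation and a locally free D, as here.) -/
theorem result
    (k : Type u) [Field k] [IsAlgClosed k] [CharZero k]
    (X : Scheme.{u}) [X.Over (Spec (CommRingCat.of k))] [IsProper (X ↘ Spec (CommRingCat.of k))]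
    [AlgebraicGeometry.IsReduced X] (hdim : topologicalKrullDim X = 1)
    (hpure : ∀ x : X, ¬ IsOpen ({x} : Set X))
    (L : X.Modules) (hL : CohB1.IsAmple L) (hva : RelAmple.IsRelVeryAmplePn (X ↘ Spec (CommRingCat.of k)) L)
    (δ : ℚ) (hδ : 0 < δ) (α e : ℤ) (a b : ℕ) (D : X.Modules) (hD : FlatMod.IsFinLocFree D) :
    ∃ N₁ : ℕ, ∀ C : ℚ, Pic13.IsBounded k X (fun F' => Coh.IsCoh F' ∧
      (∃ (F : X.Modules) (ι : F' ⟶ F), Mono ι ∧ TorSh.IsTorsionFree (cokernel ι) ∧
        Coh.IsCoh F ∧ TorSh.IsTorsionFree F ∧ DecSh.mult k X L F = α ∧ Curv2.euler k X F = e ∧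
          ∃ T : DecSh.TF F a b D, (T.IsSemistable k L δ ∨ ∃ m : ℕ, N₁ ≤ m ∧
            ∀ 𝓕 : DecSh.WFilt F, (∀ i, Coh.IsCoh ((𝓕.piece i : Subobject F) : X.Modules)) →
              (∑ i, 𝓕.wt i * ((DecSh.mult k X L (cokernel (𝓕.piece i).arrow) : ℚ) *
                  (Curv2.euler k X (ShStab.twist X L F m) : ℚ) -
                (α : ℚ) * (Module.finrank k (Coh.HH X (ShStab.twist X L (cokernel (𝓕.piece i).arrow) m) 0) : ℚ))) +
                δ * T.mu k L 𝓕 ≤ 0)) ∧
      |(Curv2.euler k X F' : ℚ) - (DecSh.mult k X L F' : ℚ) * (((e : ℚ) - (a : ℚ) * δ) / (α : ℚ))| ≤ C) := by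
  have := Groth.Agent.Fga.IntAdd.isNoetherian k X
  obtain ⟨N, hN⟩ := K987.DecShCurve.sect_iff (k := k) hdim hpure hL δ hδ α e a
  refine ⟨N, fun C => ?_⟩
  obtain ⟨M, hM⟩ := exists_nat_ge (C + |(α : ℚ)| * |((e : ℚ) - (a : ℚ) * δ) / (α : ℚ)|)
  refine Groth.Agent.Pic13.H508.Calc.isBounded_mono ?_
    (K987.DecShCurve.isBounded_slope_range k hdim hL ((e : ℚ) / α + δ * a) α M)
  rintro F' ⟨hF', ⟨F, ι, hι, -, hF, htf, hα, he, T, hT'⟩, hC⟩
  have hT : T.IsSemistable k L δ := by
    rcases hT' with h | ⟨m, hm, h⟩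
    · exact h
    · exact (hN m hm F hF htf hα he D b T).2.1.2 h
  have hs := K987.DecShCurve.slopeLE_of_semistable hL hdim.le hF
    (K987.DecShCurve.posSub_of_torsionFree k hdim hpure hL htf) α e hα he T δ hδ hT
  have hsub := K987.DecShCurve.Sub.of_mono ι hF' hF
  have h0 : 0 ≤ DecSh.mult k X L F' := K987.DecShCurve.mult_nonneg k hL hF' hdim.le
  have h1 : DecSh.mult k X L F' ≤ α := by
    have h2 := K987.DecShCurve.mult_le k hL hF hdim.le (Subobject.mk ι) (K987.DecShCurve.isCoh_mk ι hF')
    rw [K987.DecShCurve.mult_mk, hα] at h2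
    exact h2
  have h2 : |(Curv2.euler k X F' : ℚ)| ≤ M := by
    have h3 : |(DecSh.mult k X L F' : ℚ) * (((e : ℚ) - (a : ℚ) * δ) / (α : ℚ))| ≤
        |(α : ℚ)| * |((e : ℚ) - (a : ℚ) * δ) / (α : ℚ)| := by
      rw [abs_mul]
      refine mul_le_mul_of_nonneg_right ?_ (abs_nonneg _)
      have h0' : (0 : ℚ) ≤ DecSh.mult k X L F' := by exact_mod_cast h0
      rw [abs_of_nonneg h0']
      have h1' : (DecSh.mult k X L F' : ℚ) ≤ α := by exact_mod_cast h1
      exact h1'.trans (le_abs_self _)
    have h4 := abs_sub_abs_le_abs_sub (Curv2.euler k X F' : ℚ)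
      ((DecSh.mult k X L F' : ℚ) * (((e : ℚ) - (a : ℚ) * δ) / (α : ℚ)))
    linarith
  rw [abs_le] at h2
  refine ⟨hF', hs.sub hsub, ?_, ?_⟩
  · rw [← K987.DecShCurve.mult_eq]
    exact ⟨h0, h1⟩
  · rw [Groth.Agent.Pic13.H11.Cls.chi_mc]
    exact ⟨by exact_mod_cast h2.1, by exact_mod_cast h2.2⟩

end Groth.Agent.S19321
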