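import Groth.Statements.S19326
import Groth.Agent.Books.ComodInv

set_option autoImplicit false
universe u
open TensorProduct
open GLin

namespace Groth.Agent.S19326

open Groth.Agent.Books.ComodBasic Groth.Agent.Books.ComodHom Groth.Agent.Books.ComodInv

section
variable {k : Type u} [Field k] {M : Type u} [AddCommGroup M]
    {R : Type u} [AddCommGroup R] [Module k R] [HopfRep.Comod k (AddMonoidAlgebra k M) R]

/-- The coordinate functional. -/
noncomputable def crd (k : Type u) [Field k] {M : Type u} [AddCommGroup M] (a : M) :
    AddMonoidAlgebra k M →ₗ[k] k :=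
  (AddMonoidAlgebra.basis M k).coord a

lemma crd_single [DecidableEq M] (a b : M) (c : k) :
    crd k a (AddMonoidAlgebra.single b c) = if b = a then c else 0 := by
  simp [crd, AddMonoidAlgebra.basis, Finsupp.single_apply]

lemma dmul_crd (φ : AddMonoidAlgebra k M →ₗ[k] k) (a : M) :
    dmul k (AddMonoidAlgebra k M) φ (crd k a) = φ (AddMonoidAlgebra.single a 1) • crd k a := by
  classical
  refine (AddMonoidAlgebra.basis M k).ext fun b => ?_
  have hb : (AddMonoidAlgebra.basis M k) b = AddMonoidAlgebra.single b 1 := by
    simp [AddMonoidAlgebra.basis]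
  rw [hb]
  simp only [dmul, LinearMap.comp_apply, AddMonoidAlgebra.comul_single, CommSemiring.comul_apply,
    TensorProduct.map_tmul, LinearMap.mul'_apply, LinearMap.smul_apply, smul_eq_mul,
    AddMonoidAlgebra.lsingle_apply, crd_single]
  by_cases h : b = a
  · subst h; simp
  · simp [h]

lemma dact_crd_mem (a : M) (f : R) : dact R (crd k a) f ∈
    HopfRep.eigenspace k (AddMonoidAlgebra k M) R (AddMonoidAlgebra.single a 1) := by
  rw [mem_eigenspace_iff_dact]
  intro φ
  rw [dact_dact, dmul_crd]
  simp only [dact, slice]
  simp [LinearMap.lTensor_smul]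

end

/-- Let k be a field, M a finite abelian group and D = Spec k[M] the finite diagonalizable group scheme
it defines, acting on an affine k-scheme U = Spec R through a multiplicative coaction R → R ⊗ k[M];
write R_a for the weight space of a ∈ M (elements with coaction f ⊗ a). For an ideal J of R the
induced action of D on the closed subscheme V(J) is trivial, meaning that the coaction followed by
reduction modulo J equals f ↦ (f mod J) ⊗ 1, exactly when J contains the ideal generated by the
weight spaces R_a for a ≠ 0; in other words that ideal defines the largest closed subscheme of U on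
which D acts trivially. (The printed setting has U smooth, which plays no role here and is not
assumed; the further assertion that the construction commutes with flat base change on U/D is not
part of this statement.) -/
theorem result
    {k : Type u} [Field k] {M : Type u} [AddCommGroup M] [Finite M]
    {R : Type u} [CommRing R] [Algebra k R] [HopfRep.Comod k (AddMonoidAlgebra k M) R]
    [GLin.IsCoactAlg k (AddMonoidAlgebra k M) R] (J : Ideal R) :
    (∀ f : R, LinearMap.rTensor (AddMonoidAlgebra k M) (Ideal.Quotient.mkₐ k J).toLinearMap
        (HopfRep.Comod.coact (k := k) (A := AddMonoidAlgebra k M) f) =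
        (Ideal.Quotient.mk J f) ⊗ₜ[k] (1 : AddMonoidAlgebra k M)) ↔
      Ideal.span (⋃ (a : M) (_ : a ≠ 0),
        (HopfRep.eigenspace k (AddMonoidAlgebra k M) R (AddMonoidAlgebra.single a 1) : Set R)) ≤ J := by
  classical
  have := Fintype.ofFinite M
  constructor
  · intro h
    rw [Ideal.span_le]
    intro f hf
    simp only [Set.mem_iUnion] at hf
    obtain ⟨a, ha, hf⟩ := hf
    have h1 := h f
    rw [show HopfRep.Comod.coact (k := k) (A := AddMonoidAlgebra k M) f =
      f ⊗ₜ[k] AddMonoidAlgebra.single a 1 from hf] at h1
    have h2 := congrArg (slice (R ⧸ J) (crd k a)) h1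
    rw [LinearMap.rTensor_tmul, slice_tmul, slice_tmul, AddMonoidAlgebra.one_def, crd_single,
      crd_single, if_pos rfl, if_neg (Ne.symm ha), one_smul, zero_smul] at h2
    exact Ideal.Quotient.eq_zero_iff_mem.1 h2
  · intro h f
    apply ext_slice
    intro φ
    rw [slice_rTensor, slice_tmul, ← dact_apply]
    have hφ : ∀ φ : AddMonoidAlgebra k M →ₗ[k] k,
        φ = ∑ a : M, φ (AddMonoidAlgebra.single a 1) • crd k a := by
      intro φ
      refine (AddMonoidAlgebra.basis M k).ext fun b => ?_
      have hb : (AddMonoidAlgebra.basis M k) b = AddMonoidAlgebra.single b 1 := by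
        simp [AddMonoidAlgebra.basis]
      rw [hb]
      simp [crd_single]
    have hlin : ∀ ψ : AddMonoidAlgebra k M →ₗ[k] k,
        dact R ψ f = ∑ a : M, ψ (AddMonoidAlgebra.single a 1) • dact R (crd k a) f := by
      intro ψ
      conv_lhs => rw [hφ ψ]
      simp only [dact_apply]
      generalize HopfRep.Comod.coact (k := k) (A := AddMonoidAlgebra k M) f = z
      induction z with
      | zero => simp
      | tmul v a => simp [Finset.sum_smul, smul_smul]
      | add x y hx hy => simp only [map_add, hx, hy, smul_add, Finset.sum_add_distrib]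
    have hz : ∀ a : M, a ≠ 0 → (Ideal.Quotient.mkₐ k J).toLinearMap (dact R (crd k a) f) = 0 := by
      intro a ha
      refine Ideal.Quotient.eq_zero_iff_mem.2 (h (Ideal.subset_span ?_))
      simp only [Set.mem_iUnion]
      exact ⟨a, ha, dact_crd_mem a f⟩
    have key : ∀ ψ : AddMonoidAlgebra k M →ₗ[k] k,
        (Ideal.Quotient.mkₐ k J).toLinearMap (dact R ψ f) = ψ 1 •
          (Ideal.Quotient.mkₐ k J).toLinearMap (dact R (crd k (0 : M)) f) := by
      intro ψ
      rw [hlin ψ, map_sum, Finset.sum_eq_single (0 : M), map_smul, AddMonoidAlgebra.one_def]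
      · intro b _ hb
        rw [map_smul, hz b hb, smul_zero]
      · simp
    have h1 := key (CoalgebraStruct.counit (R := k) (A := AddMonoidAlgebra k M))
    rw [dact_counit, Bialgebra.counit_one, one_smul] at h1
    rw [key φ, ← h1]
    rfl

end Groth.Agent.S19326
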