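import Groth.Statements.S19328
import Mathlib.FieldTheory.IsAlgClosed.Basic
import Mathlib.RingTheory.AdjoinRoot
import Mathlib.RingTheory.Polynomial.ScaleRoots
import Mathlib.RingTheory.Localization.Integer
import Mathlib.RingTheory.Flat.FaithfullyFlat.Basic
import Mathlib.RingTheory.Flat.FaithfullyFlat.Algebra

set_option autoImplicit false
universe u
open CategoryTheory CategoryTheory.Limits AlgebraicGeometry TopologicalSpace
open ModPair

namespace Groth.Agent.S19328

open Polynomial

/-- A monic polynomial over the residue field at `p` becomes, after scaling its roots, the image of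
a monic polynomial over `A`. -/
lemma exists_monic_lift (A : Type u) [CommRing A] (p : Ideal A) [p.IsPrime]
    (P : p.ResidueField[X]) (hP : P.Monic) :
    ∃ (b : p.ResidueField) (Q : A[X]), b ≠ 0 ∧ Q.Monic ∧
      Q.map (algebraMap A p.ResidueField) = P.scaleRoots b := by
  obtain ⟨b, hb⟩ := IsLocalization.exist_integer_multiples_of_finset (nonZeroDivisors (A ⧸ p))
    P.coeffs
  have hb0 : algebraMap (A ⧸ p) p.ResidueField b ≠ 0 := by
    intro h
    have : (b : A ⧸ p) = 0 := (IsFractionRing.injective (A ⧸ p) p.ResidueField) (by rw [h, map_zero])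
    exact nonZeroDivisors.ne_zero b.2 this
  have hlift : P.scaleRoots (algebraMap (A ⧸ p) p.ResidueField b) ∈
      Polynomial.lifts (algebraMap A p.ResidueField) := by
    rw [Polynomial.lifts_iff_coeff_lifts]
    intro n
    have hsurj : ∀ y : A ⧸ p, algebraMap (A ⧸ p) p.ResidueField y ∈
        Set.range (algebraMap A p.ResidueField) := by
      intro y
      obtain ⟨a, rfl⟩ := Ideal.Quotient.mk_surjective y
      exact ⟨a, by rw [IsScalarTower.algebraMap_apply A (A ⧸ p) p.ResidueField]; rfl⟩
    rw [coeff_scaleRoots]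
    by_cases hn : P.natDegree ≤ n
    · rcases hn.eq_or_lt with h | h
      · rw [← h, hP.coeff_natDegree, Nat.sub_self, pow_zero, mul_one]
        exact ⟨1, map_one _⟩
      · rw [Polynomial.coeff_eq_zero_of_natDegree_lt h, zero_mul]
        exact ⟨0, map_zero _⟩
    · push Not at hn
      by_cases h0 : P.coeff n = 0
      · rw [h0, zero_mul]; exact ⟨0, map_zero _⟩
      · obtain ⟨c, hc⟩ := hb (P.coeff n) (Polynomial.coeff_mem_coeffs h0)
        obtain ⟨m, hm⟩ : ∃ m, P.natDegree - n = m + 1 := ⟨P.natDegree - n - 1, by omega⟩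
        have : P.coeff n * algebraMap (A ⧸ p) p.ResidueField b ^ (P.natDegree - n) =
            algebraMap (A ⧸ p) p.ResidueField (c * b ^ m) := by
          rw [hm, pow_succ, map_mul, map_pow, hc, Algebra.smul_def]
          ring
        rw [this]
        exact hsurj _
  have hmon : (P.scaleRoots (algebraMap (A ⧸ p) p.ResidueField b)).Monic :=
    (Polynomial.monic_scaleRoots_iff _).2 hP
  obtain ⟨Q, hQ, -, hQm⟩ := Polynomial.lifts_and_natDegree_eq_and_monic hlift hmon
  exact ⟨_, Q, hb0, hQm, hQ⟩

/-- Let A be a commutative ring such that Spec A is local for fppf coverings, in the sense that for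
every scheme X, every jointly surjective family of morphisms to X each of which is flat and of
finite presentation (locally of finite presentation, quasi-compact and quasi-separated), and every
morphism Spec A ⟶ X, the morphism factors through a member of the family. Then the residue field of
A at every prime ideal is algebraically closed. -/
theorem result (A : Type u) [CommRing A]
    (hloc : ∀ (X : Scheme.{u}) (R : Presieve X),
      R ∈ Scheme.precoverage (@Flat ⊓ @LocallyOfFinitePresentation ⊓ @QuasiCompact ⊓ @QuasiSeparated) X →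
      ∀ g : Spec (CommRingCat.of A) ⟶ X,
        ∃ (Y : Scheme.{u}) (v : Y ⟶ X) (h : Spec (CommRingCat.of A) ⟶ Y), R v ∧ h ≫ v = g)
    (p : Ideal A) [p.IsPrime] : IsAlgClosed p.ResidueField := by
  apply IsAlgClosed.of_exists_root
  intro P hP hirr
  obtain ⟨b, Q, hb, hQ, hQP⟩ := exists_monic_lift A p P hP
  -- the finite free algebra `A[x]/(Q)`
  have : Nontrivial A := by
    rcases subsingleton_or_nontrivial A with h | h
    · exact absurd (Subsingleton.elim (1 : A) 0) (fun h1 ↦ ‹p.IsPrime›.ne_top
        ((Ideal.eq_top_iff_one p).2 (h1 ▸ p.zero_mem)))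
    · exact h
  have hdeg : Q.natDegree ≠ 0 := by
    intro h
    have h1 : (Q.map (algebraMap A p.ResidueField)).natDegree = 0 := by
      rw [hQ.natDegree_map]; exact h
    rw [hQP, Polynomial.natDegree_scaleRoots] at h1
    exact hirr.natDegree_pos.ne' h1
  have hfree : Module.Free A (AdjoinRoot Q) := hQ.free_adjoinRoot
  have hfin : Module.Finite A (AdjoinRoot Q) := hQ.finite_adjoinRoot
  have hnt : Nontrivial (AdjoinRoot Q) := by
    have := (AdjoinRoot.powerBasis' hQ).basis
    have hpos : 0 < (AdjoinRoot.powerBasis' hQ).dim := by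
      rw [AdjoinRoot.powerBasis'_dim]; exact Nat.pos_of_ne_zero hdeg
    exact ⟨(AdjoinRoot.powerBasis' hQ).basis ⟨0, hpos⟩, 0,
      (AdjoinRoot.powerBasis' hQ).basis.ne_zero _⟩
  have hff : Module.FaithfullyFlat A (AdjoinRoot Q) := inferInstance
  have hfp : Algebra.FinitePresentation A (AdjoinRoot Q) :=
    Algebra.FinitePresentation.quotient (R := A) (A := A[X]) (I := Ideal.span {Q})
      ⟨{Q}, by simp⟩
  let v := Spec.map (CommRingCat.ofHom (algebraMap A (AdjoinRoot Q)))
  have hv := (flat_and_surjective_SpecMap_iff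
    (CommRingCat.ofHom (algebraMap A (AdjoinRoot Q)))).2 (by
      rw [CommRingCat.hom_ofHom, RingHom.faithfullyFlat_algebraMap_iff]
      exact hff)
  obtain ⟨Y, w, h, ⟨⟩, hw⟩ := hloc _ (Presieve.singleton v)
    ((Scheme.singleton_mem_precoverage_iff _ v).2
      ⟨hv.2.1, ⟨⟨⟨hv.1, (LocallyOfFinitePresentation.SpecMap_iff _).2
        (by
          rw [CommRingCat.hom_ofHom, RingHom.finitePresentation_algebraMap]
          exact hfp)⟩,
        inferInstance⟩, inferInstance⟩⟩) (𝟙 _)
  obtain ⟨φ, rfl⟩ := Spec.map_surjective h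
  have hφ : CommRingCat.ofHom (algebraMap A (AdjoinRoot Q)) ≫ φ = 𝟙 _ := by
    apply Spec.map_injective
    rw [Spec.map_comp, Spec.map_id]
    exact hw
  have hφ' : φ.hom.comp (algebraMap A (AdjoinRoot Q)) = RingHom.id A := by
    have := congrArg CommRingCat.Hom.hom hφ
    simpa using this
  let r : A := φ.hom (AdjoinRoot.root Q)
  have hr : Q.eval r = 0 := by
    have h1 : φ.hom (Q.eval₂ (algebraMap A (AdjoinRoot Q)) (AdjoinRoot.root Q)) = 0 := by
      rw [AdjoinRoot.algebraMap_eq, AdjoinRoot.eval₂_root, map_zero]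
    rw [Polynomial.hom_eval₂, hφ', Polynomial.eval₂_id] at h1
    exact h1
  have hr' : (P.scaleRoots b).eval (algebraMap A p.ResidueField r) = 0 := by
    rw [← hQP, Polynomial.eval_map, Polynomial.eval₂_at_apply, hr, map_zero]
  refine ⟨algebraMap A p.ResidueField r / b, ?_⟩
  have h2 := Polynomial.scaleRoots_eval_mul P (algebraMap A p.ResidueField r / b) b
  rw [mul_div_cancel₀ _ hb, hr'] at h2
  exact (mul_eq_zero.1 h2.symm).resolve_left (pow_ne_zero _ hb)

end Groth.Agent.S19328
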