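import Groth.Statements.S19329
import Groth.Agent.ModPair.K972.Basic

set_option autoImplicit false
universe u
open CategoryTheory CategoryTheory.Limits AlgebraicGeometry TopologicalSpace
open ModPair

namespace Groth.Agent.S19329

open K972.Basic Groth.Agent.Divis.IdealComap

/-- Let (X, I), (Y, J), (Z, K) be modulus pairs, i.e. schemes with quasi-coherent ideal sheaves of
effective Cartier divisors, and let f : X ⟶ Y and g : Y ⟶ Z satisfy the modulus conditions I ≤
J.comap f and J ≤ K.comap g. Suppose the composite X ⟶ Z is minimal, I = K.comap (f ≫ g). Then f is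
minimal, and there is an open subset U of Y whose inclusion is quasi-compact, which contains the
image of f, and such that U ⟶ Z is minimal for the modulus of Y restricted to U. -/
theorem result {X Y Z : Scheme.{u}}
    (I : X.IdealSheafData) (J : Y.IdealSheafData) (K : Z.IdealSheafData)
    (hI : BlowUp.IsEffCartierIdeal I) (hJ : BlowUp.IsEffCartierIdeal J)
    (hK : BlowUp.IsEffCartierIdeal K) (f : X ⟶ Y) (g : Y ⟶ Z)
    (hf : ModPair.IsAmbient I J f) (hg : ModPair.IsAmbient J K g)
    (hfg : ModPair.IsMinimal I K (f ≫ g)) :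
    ModPair.IsMinimal I J f ∧
      ∃ U : Y.Opens, QuasiCompact U.ι ∧ Set.range f.base ⊆ (U : Set Y) ∧
        ModPair.IsMinimal (J.comap U.ι) K (U.ι ≫ g) := by
  have hmin : ModPair.IsMinimal I J f := by
    refine le_antisymm hf ?_
    have h1 : J.comap f ≤ (K.comap g).comap f := Scheme.IdealSheafData.comap_mono f hg
    rw [← Scheme.IdealSheafData.comap_comp] at h1
    exact h1.trans hfg.ge
  refine ⟨hmin, ?_⟩
  have hKg : BlowUp.IsEffCartierIdeal (K.comap g) := isEff_comap_of_isAmbient hJ hK hg
  obtain ⟨L, hL⟩ := exists_mul_eq hKg hg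
  have hLe : BlowUp.IsEffCartierIdeal L :=
    Groth.Agent.Divis.BlowUpFormal.isEff_of_mul (𝓘 := L) (𝓙 := K.comap g) (hL ▸ hJ)
  have hKfg : BlowUp.IsEffCartierIdeal ((K.comap g).comap f) := by
    rw [← Scheme.IdealSheafData.comap_comp]; exact hfg ▸ hI
  have hLf : L.comap f = ⊤ := by
    apply eq_of_mul_eq_mul hKfg
    rw [← comap_mul, hL, ← hmin, Scheme.IdealSheafData.top_mul, ← Scheme.IdealSheafData.comap_comp]
    exact hfg
  refine ⟨ModPair.interior L, ?_, ?_, ?_⟩
  · have := Groth.Agent.Divis.CartierCompl.isAffineHom_compl hLe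
    exact (inferInstance : QuasiCompact (Scheme.Opens.ι (X := Y) L.support.compl))
  · rintro _ ⟨x, rfl⟩
    have h1 : x ∈ ModPair.interior (L.comap f) := by rw [hLf, interior_eq_top_iff.2 rfl]; trivial
    rw [interior_comap] at h1
    exact h1
  · have h1 : L.comap (ModPair.interior L).ι = ⊤ := by
      rw [← interior_eq_top_iff, interior_comap, Scheme.Opens.ι_preimage_self]
    change J.comap _ = K.comap _
    rw [Scheme.IdealSheafData.comap_comp, ← hL, comap_mul, h1, Scheme.IdealSheafData.top_mul]

end Groth.Agent.S19329
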