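import Groth.Statements.S19330
import Groth.Agent.ModPair.K972.Closure

set_option autoImplicit false
universe u
open CategoryTheory CategoryTheory.Limits AlgebraicGeometry TopologicalSpace
open ModPair

namespace Groth.Agent.S19330

/-- Let (S, I) be a modulus pair, i.e. a scheme with the quasi-coherent ideal sheaf of an effective
Cartier divisor, with interior U, and let g_i : V_i ⟶ U be a jointly surjective family of closed
immersions into the interior. Let V̄_i be the scheme-theoretic image of V_i ⟶ U ⟶ S. Then the closed
immersions V̄_i ⟶ S are jointly surjective, the modulus restricted to each V̄_i is again the ideal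
sheaf of an effective Cartier divisor (so that V̄_i ⟶ S is a minimal morphism of modulus pairs), and
the interior of V̄_i is V_i: the canonical morphism V_i ⟶ V̄_i is an open immersion whose image is
the preimage of U. -/
theorem result {S : Scheme.{u}} (I : S.IdealSheafData)
    (hI : BlowUp.IsEffCartierIdeal I) {ι : Type u} (V : ι → Scheme.{u})
    (g : ∀ i, V i ⟶ (ModPair.interior I : Scheme.{u})) [∀ i, IsClosedImmersion (g i)]
    (hsurj : ∀ u : (ModPair.interior I : Scheme.{u}), ∃ (i : ι) (v : V i), (g i).base v = u) :
    (∀ s : S, ∃ (i : ι) (v : (g i ≫ (ModPair.interior I).ι).image),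
        (g i ≫ (ModPair.interior I).ι).imageι.base v = s) ∧
      (∀ i, BlowUp.IsEffCartierIdeal (I.comap (g i ≫ (ModPair.interior I).ι).imageι)) ∧
      ∀ i, IsOpenImmersion (g i ≫ (ModPair.interior I).ι).toImage ∧
        Set.range (g i ≫ (ModPair.interior I).ι).toImage.base =
          (g i ≫ (ModPair.interior I).ι).imageι.base ⁻¹' (ModPair.interior I : Set S) := by
  have := K971.Basic.isAffineHom_interior hI
  refine ⟨fun s ↦ ?_, fun i ↦ K972.Closure.isEff_comap_closure (K971.Basic.locPrin_of_isEff hI) (g i),
    fun i ↦ K972.Closure.isOpenImmersion_toImage (g i)⟩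
  obtain ⟨u, hu, hus⟩ := K972.Closure.exists_specializes hI s
  obtain ⟨i, v, hv⟩ := hsurj ⟨u, hu⟩
  refine ⟨i, ?_⟩
  have hcl : IsClosed (Set.range (g i ≫ (ModPair.interior I).ι).imageι.base) :=
    (g i ≫ (ModPair.interior I).ι).imageι.isClosedEmbedding.isClosed_range
  have hmem : u ∈ Set.range (g i ≫ (ModPair.interior I).ι).imageι.base := by
    refine ⟨(g i ≫ (ModPair.interior I).ι).toImage.base v, ?_⟩
    have h1 := congrArg (fun k : V i ⟶ S ↦ k.base v) (g i ≫ (ModPair.interior I).ι).toImage_imageι
    have h2 : (g i ≫ (ModPair.interior I).ι).base v = u := by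
      change (ModPair.interior I).ι.base ((g i).base v) = u
      rw [hv]; rfl
    exact h1.trans h2
  exact hus.mem_closed hcl hmem

end Groth.Agent.S19330
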