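import Groth.Statements.S19331
import Groth.Agent.ModPair.K972.Closure
import Groth.Agent.S0385
import Mathlib.AlgebraicGeometry.ZariskisMainTheorem

set_option autoImplicit false
universe u
open CategoryTheory CategoryTheory.Limits AlgebraicGeometry TopologicalSpace
open ModPair

namespace Groth.Agent.S19331


open K971.Basic K972.Closure

/-- If `k ≫ m` is an open immersion and `m` is a monomorphism then `k` is an open immersion. -/
lemma isOpenImmersion_of_comp_mono {X Y Z : Scheme.{u}} (k : X ⟶ Y) (m : Y ⟶ Z) [Mono m]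
    [IsOpenImmersion (k ≫ m)] : IsOpenImmersion k := by
  have h : IsPullback k (𝟙 X) m (k ≫ m) := by
    refine ⟨⟨by simp⟩, ⟨PullbackCone.IsLimit.mk _ (fun s ↦ s.snd) (fun s ↦ ?_) (fun s ↦ by simp) ?_⟩⟩
    · rw [← cancel_mono m, Category.assoc, ← s.condition]
    · intro s l _ h2
      simpa using h2
  exact MorphismProperty.of_isPullback (P := @IsOpenImmersion) h.flip inferInstance

/-- Let (S, I) be a modulus pair, i.e. a scheme with the quasi-coherent ideal sheaf of an effective
Cartier divisor, with S quasi-compact and quasi-separated and with interior U, and let t₀ : T₀ ⟶ U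
be a finite surjective morphism. Then there are a finite surjective morphism t : T ⟶ S such that the
pulled-back modulus I.comap t is again the ideal sheaf of an effective Cartier divisor, making T ⟶ S
a minimal morphism of modulus pairs, and an open immersion j : T₀ ⟶ T with image t⁻¹(U) and j ≫ t =
t₀ ≫ (U ⟶ S), so that t₀ is the interior of t. -/
theorem result {S : Scheme.{u}}
    [CompactSpace S] [QuasiSeparatedSpace S] (I : S.IdealSheafData)
    (hI : BlowUp.IsEffCartierIdeal I) {T₀ : Scheme.{u}}
    (t₀ : T₀ ⟶ (ModPair.interior I : Scheme.{u})) [IsFinite t₀] [Surjective t₀] :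
    ∃ (T : Scheme.{u}) (t : T ⟶ S) (j : T₀ ⟶ T), IsFinite t ∧ Surjective t ∧
      BlowUp.IsEffCartierIdeal (I.comap t) ∧ IsOpenImmersion j ∧
      Set.range j.base = t.base ⁻¹' (ModPair.interior I : Set S) ∧
      j ≫ t = t₀ ≫ (ModPair.interior I).ι := by
  have haff : IsAffineHom (ModPair.interior I).ι := isAffineHom_interior hI
  have q1 : LocallyQuasiFinite t₀ := inferInstance
  have q2 : LocallyQuasiFinite (ModPair.interior I).ι := inferInstance
  have q3 : LocallyQuasiFinite (t₀ ≫ (ModPair.interior I).ι) :=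
    MorphismProperty.comp_mem @LocallyQuasiFinite _ _ q1 q2
  obtain ⟨T₁, j₁, π, hj₁, hqc, hπ, hfac⟩ := Groth.Agent.S0385.result (t₀ ≫ (ModPair.interior I).ι)
  -- replace `T₁` by the closure of `T₀`
  have hjo : IsOpenImmersion j₁.toImage := by
    have : IsOpenImmersion (j₁.toImage ≫ j₁.imageι) := by rw [j₁.toImage_imageι]; exact hj₁
    exact isOpenImmersion_of_comp_mono j₁.toImage j₁.imageι
  have hdom := Groth.Agent.Flat2C.ClosureIso.isSchemeTheoreticallyDominant_toImage j₁
  set t := j₁.imageι ≫ π with ht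
  set j := j₁.toImage with hj
  have hfin : IsFinite t := inferInstance
  have hjt : j ≫ t = t₀ ≫ (ModPair.interior I).ι := by
    rw [hj, ht, ← Category.assoc, Scheme.Hom.toImage_imageι]; exact hfac
  have hr : Set.range j ⊆ Set.range (t ⁻¹ᵁ (ModPair.interior I)).ι := by
    rw [Scheme.Opens.range_ι]
    rintro _ ⟨v, rfl⟩
    change t (j v) ∈ (ModPair.interior I)
    rw [← Scheme.Hom.comp_apply, hjt]
    exact (t₀ v).2
  let jW : T₀ ⟶ (t ⁻¹ᵁ (ModPair.interior I) : Scheme.Opens _) := IsOpenImmersion.lift (t ⁻¹ᵁ (ModPair.interior I)).ι j hr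
  have hjW : jW ≫ (t ⁻¹ᵁ (ModPair.interior I)).ι = j := IsOpenImmersion.lift_fac _ _ _
  have hdomW : IsSchemeTheoreticallyDominant jW :=
    IsSchemeTheoreticallyDominant.of_isPullback
      (IsOpenImmersion.isPullback_lift_id j (t ⁻¹ᵁ (ModPair.interior I)).ι hr).flip
  have hcomp : jW ≫ (t ∣_ (ModPair.interior I)) = t₀ := by
    rw [← cancel_mono (ModPair.interior I).ι, Category.assoc, morphismRestrict_ι, ← Category.assoc, hjW, hjt]
  have hopW : IsOpenImmersion jW := by
    have : IsOpenImmersion (jW ≫ (t ⁻¹ᵁ (ModPair.interior I)).ι) := by rw [hjW]; exact hjo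
    exact isOpenImmersion_of_comp_mono jW (t ⁻¹ᵁ (ModPair.interior I)).ι
  have hprop : IsProper jW := by
    have : IsProper (jW ≫ (t ∣_ (ModPair.interior I))) := by rw [hcomp]; infer_instance
    exact IsProper.of_comp jW (t ∣_ (ModPair.interior I))
  have hcl : IsClosedImmersion jW := (IsClosedImmersion.iff_isProper_and_mono jW).2 ⟨hprop, inferInstance⟩
  have hiso : IsIso jW := IsClosedImmersion.isIso_iff_ker_eq_bot.2 jW.ker_eq_bot
  have hrange : Set.range j = t ⁻¹' ((ModPair.interior I) : Set S) := by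
    apply subset_antisymm
    · rw [Scheme.Opens.range_ι] at hr; exact hr
    · intro x hx
      obtain ⟨v, hv⟩ := (ConcreteCategory.bijective_of_isIso jW.base).2 ⟨x, hx⟩
      refine ⟨v, ?_⟩
      rw [← hjW, Scheme.Hom.comp_apply]
      change (t ⁻¹ᵁ (ModPair.interior I)).ι (jW.base v) = x
      rw [hv]; rfl
  refine ⟨j₁.image, t, j, hfin, ?_, ?_, hjo, hrange, hjt⟩
  · have hclosed : IsClosed (Set.range t) := t.isClosedMap.isClosed_range
    refine ⟨fun s ↦ ?_⟩
    obtain ⟨u, hu, hus⟩ := exists_specializes hI s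
    obtain ⟨v, hv⟩ := t₀.surjective ⟨u, hu⟩
    have hu' : u ∈ Set.range t := by
      refine ⟨j v, ?_⟩
      rw [← Scheme.Hom.comp_apply, hjt, Scheme.Hom.comp_apply, hv]
      rfl
    exact hus.mem_closed hclosed hu'
  · apply isEff_of_comap_dominant j ((locPrin_of_isEff hI).comap _)
    rw [← Scheme.IdealSheafData.comap_comp, hjt, Scheme.IdealSheafData.comap_comp]
    have : I.comap (ModPair.interior I).ι = ⊤ := by
      rw [← interior_eq_top_iff, interior_comap, Scheme.Opens.ι_preimage_self]
    rw [this, Scheme.IdealSheafData.comap_top]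
    exact Groth.Agent.Divis.EffCartier.isEff_top

end Groth.Agent.S19331
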