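import Groth.Statements.S19332
import Groth.Agent.ModPair.K973.AdmBlow
import Groth.Agent.ModPair.K973.ZarExt
import Groth.Agent.Flat2C.GlobFlat
import Groth.Agent.Flat2C.FlatteningAlg

set_option autoImplicit false
universe u
open CategoryTheory CategoryTheory.Limits AlgebraicGeometry TopologicalSpace
open ModPair

namespace Groth.Agent.S19332

/-- Let (S, I_S) and (X, I_X) be modulus pairs, i.e. schemes with quasi-coherent ideal sheaves of
effective Cartier divisors, with S and X quasi-compact and quasi-separated, and let f : X ⟶ S be a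
minimal morphism (I_X = I_S.comap f) which is locally of finite type and whose restriction to the
interiors f⁻¹(S°) ⟶ S° is flat and locally of finite presentation. Then there are abstract
admissible blow-ups t : T ⟶ S of (S, I_S) and y : Y ⟶ X of (X, I_X) (minimal, proper, and
isomorphisms over the interiors) and a morphism g : Y ⟶ T with y ≫ f = g ≫ t which is flat, locally
of finite presentation, quasi-compact and quasi-separated; g is then minimal for the pulled-back
moduli. The published statement assumes f only of finite type; this row also assumes X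
quasi-separated. -/
theorem result {X S : Scheme.{u}}
    [CompactSpace S] [QuasiSeparatedSpace S] [CompactSpace X] [QuasiSeparatedSpace X]
    (IS : S.IdealSheafData) (IX : X.IdealSheafData) (hS : BlowUp.IsEffCartierIdeal IS)
    (hX : BlowUp.IsEffCartierIdeal IX) (f : X ⟶ S) (hf : ModPair.IsMinimal IX IS f)
    [LocallyOfFiniteType f] [Flat (f ∣_ ModPair.interior IS)]
    [LocallyOfFinitePresentation (f ∣_ ModPair.interior IS)] :
    ∃ (T : Scheme.{u}) (t : T ⟶ S) (Y : Scheme.{u}) (y : Y ⟶ X) (g : Y ⟶ T),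
      BlowUp.IsEffCartierIdeal (IS.comap t) ∧ ModPair.IsAdmBlowup (IS.comap t) IS t ∧
        BlowUp.IsEffCartierIdeal (IX.comap y) ∧ ModPair.IsAdmBlowup (IX.comap y) IX y ∧
        y ≫ f = g ≫ t ∧ Flat g ∧ LocallyOfFinitePresentation g ∧ QuasiCompact g ∧
        QuasiSeparated g := by
  have hqc : QuasiCompact f := inferInstance
  have hqs : QuasiSeparated f := inferInstance
  obtain ⟨𝓘, h𝓘, h𝓘s, H⟩ := Groth.Agent.Flat2C.GlobFlat.exists_flat_center
    Groth.Agent.Flat2C.FlatteningAlg.ringFlattening f (ModPair.interior IS)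
    (K973.ZarExt.isCompact_interior hS)
  obtain ⟨T, b, hb⟩ := Groth.Agent.S8859.result S 𝓘
  have hISs : (IS.support : Set S) = (𝓘.support : Set S) := by
    rw [h𝓘s, K973.AdmBlow.support_eq_compl_interior]
  have hTe : BlowUp.IsEffCartierIdeal (IS.comap b) :=
    K973.AdmBlow.isEff_comap_of_support_subset hS b hb.1 hISs.subset
  have hEft : BlowUp.IsFiniteTypeIdeal ((𝓘.comap f).comap (pullback.fst f b)) :=
    Groth.Agent.Flat2C.StrictTr.isFiniteTypeIdeal_comap
      (Groth.Agent.Flat2C.StrictTr.isFiniteTypeIdeal_comap h𝓘 _) _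
  obtain ⟨𝒥, h𝒥⟩ : ∃ 𝒥, Groth.Agent.Flat2C.StrictTr.IsKilledIdeal
      ((𝓘.comap f).comap (pullback.fst f b)) 𝒥 :=
    ⟨_, Groth.Agent.Flat2C.StrictTr.isKilledIdeal_killedIdeal hEft⟩
  obtain ⟨hfl, hlfp⟩ := H b hb.1 _ _ (IsPullback.of_hasPullback f b) _ h𝒥
  have hy := Groth.Agent.Flat2C.StrictTr.isBlowUp_strictTransform hb (IsPullback.of_hasPullback f b) h𝒥
  have hadm : BlowUp.IsAdmissibleFor (ModPair.interior IX) (𝓘.comap f) := by
    refine ⟨Groth.Agent.Flat2C.StrictTr.isFiniteTypeIdeal_comap h𝓘 _, ?_⟩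
    rw [Set.disjoint_left]
    intro x hx hx'
    rw [hf, K973.Pairs.interior_comap] at hx'
    rw [SetLike.mem_coe, Scheme.IdealSheafData.support_comap] at hx
    have h1 : f x ∈ (𝓘.support : Set S) := hx
    rw [h𝓘s] at h1
    exact h1 hx'
  have hadmS : BlowUp.IsAdmissibleFor (ModPair.interior IS) 𝓘 :=
    ⟨h𝓘, by rw [h𝓘s]; exact disjoint_compl_left⟩
  have hcomm : (𝒥.subschemeι ≫ pullback.fst f b) ≫ f = (𝒥.subschemeι ≫ pullback.snd f b) ≫ b := by
    rw [Category.assoc, Category.assoc, pullback.condition]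
  have hf' : IX = IS.comap f := hf
  refine ⟨T, b, _, _, 𝒥.subschemeι ≫ pullback.snd f b, hTe,
    K973.AdmBlow.isAdmBlowup_of_isBlowUp hb hadmS, ?_,
    K973.AdmBlow.isAdmBlowup_of_isBlowUp hy hadm, hcomm, hfl, hlfp, inferInstance, inferInstance⟩
  rw [hf', ← Scheme.IdealSheafData.comap_comp IS, hcomm, Scheme.IdealSheafData.comap_comp]
  exact Groth.Agent.Divis.EffCartier.isEff_comap_flat hTe _

end Groth.Agent.S19332
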