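import Groth.Statements.S19333
import Mathlib.RingTheory.Valuation.LocalSubring
import Mathlib.RingTheory.Localization.Away.Basic
import Mathlib.RingTheory.Ideal.MinimalPrime.Localization

set_option autoImplicit false
universe u
open ModPair

namespace Groth.Agent.S19333

/-- Let A → B be any homomorphism of commutative rings. An element x of B is integral over A if and only
if for every field K, every valuation subring R of K and every ring homomorphism φ : B → K which
sends the image of A into R, the element φ(x) lies in R. In other words the integral closure of A in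
B is the intersection of the subrings R ×_K B taken over all commutative squares A → R ⊆ K ← B with
R a valuation ring of the field K. -/
theorem result {A B : Type u} [CommRing A]
    [CommRing B] [Algebra A B] (x : B) :
    x ∈ integralClosure A B ↔
      ∀ (K : Type u) [Field K] (R : ValuationSubring K) (φ : B →+* K),
        (∀ a : A, φ (algebraMap A B a) ∈ R) → φ x ∈ R := by
  classical
  constructor
  · intro hx K _ R φ hφ
    have h1 : (R.toSubring).subtype.IsIntegralElem (φ x) := by
      obtain ⟨p, hp, hpx⟩ := (mem_integralClosure_iff A B).mp hx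
      let θ : A →+* R.toSubring := (φ.comp (algebraMap A B)).codRestrict R.toSubring hφ
      refine ⟨p.map θ, hp.map _, ?_⟩
      have e : R.toSubring.subtype.comp θ = φ.comp (algebraMap A B) := RingHom.ext fun a => rfl
      rw [Polynomial.eval₂_map, e, ← Polynomial.hom_eval₂, hpx, map_zero]
    have h2 : IsIntegral R.toSubring (φ x) := h1
    have h3 : IsIntegrallyClosedIn R.toSubring K := inferInstanceAs (IsIntegrallyClosedIn R K)
    obtain ⟨y, hy⟩ := (isIntegrallyClosedIn_iff.mp h3).2 h2
    rw [← hy]
    exact y.2
  · intro H
    by_contra hx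
    have hnt : Nontrivial A := by
      by_contra hA
      rw [not_nontrivial_iff_subsingleton] at hA
      have hB : Subsingleton B := (algebraMap A B).codomain_trivial
      exact hx (by rw [Subsingleton.elim x 0]; exact zero_mem _)
    let L := Localization.Away x
    have hu : IsUnit (algebraMap B L x) := IsLocalization.Away.algebraMap_isUnit x
    obtain ⟨u, hu'⟩ := hu
    let y : L := (u⁻¹ : Lˣ)
    let iy : Invertible y := ⟨(u : L), Units.mul_inv u, Units.inv_mul u⟩
    let S := Algebra.adjoin A {y}
    let ys : S := ⟨y, Algebra.subset_adjoin rfl⟩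
    have hne : Ideal.span {ys} ≠ ⊤ := by
      intro htop
      obtain ⟨p, hp, hpx⟩ := Algebra.exists_aeval_invOf_eq_zero_of_idealMap_adjoin_sup_span_eq_top y
        (⊥ : Ideal A) bot_ne_top (top_unique <| htop.ge.trans le_sup_right)
      have hmon : p.Monic := by
        rw [Ideal.mem_bot, sub_eq_zero] at hp
        exact hp
      have hpx' : algebraMap B L (Polynomial.aeval x p) = 0 := by
        rw [← Polynomial.aeval_algebraMap_apply, ← hu']
        exact hpx
      obtain ⟨n, hn⟩ : ∃ n : ℕ, x ^ n * Polynomial.aeval x p = 0 := by
        obtain ⟨⟨_, n, rfl⟩, hm⟩ := (IsLocalization.map_eq_zero_iff (Submonoid.powers x) L _).mp hpx'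
        exact ⟨n, hm⟩
      refine hx ((mem_integralClosure_iff A B).mpr ⟨Polynomial.X ^ n * p, (Polynomial.monic_X_pow n).mul hmon, ?_⟩)
      rw [← Polynomial.aeval_def, map_mul, map_pow, Polynomial.aeval_X, hn]
    obtain ⟨M, hM, hyM⟩ := Ideal.exists_le_maximal _ hne
    obtain ⟨p, hp, hpM⟩ := Ideal.exists_minimalPrimes_le (I := ⊥) (J := M) bot_le
    obtain ⟨q, hq, hqp⟩ := Ideal.exists_comap_eq_of_mem_minimalPrimes_of_injective
      (f := S.val.toRingHom) (by exact Subtype.val_injective) p hp
    let K := q.ResidueField
    let φ : L →+* K := algebraMap L K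
    have hφ : RingHom.ker φ = q := Ideal.ker_algebraMap_residueField q
    let ψ : S →+* K := φ.comp S.val.toRingHom
    have hψ : RingHom.ker ψ = p := by
      rw [← RingHom.comap_ker, hφ, hqp]
    let T : Subring K := ψ.range
    have hsurj : Function.Surjective ψ.rangeRestrict := ψ.rangeRestrict_surjective
    have hMT : M.map ψ.rangeRestrict ≠ ⊤ := by
      intro ht
      have h1 : (1 : T) ∈ M.map ψ.rangeRestrict := by rw [ht]; trivial
      obtain ⟨m, hm, hm1⟩ := (Ideal.mem_map_iff_of_surjective _ hsurj).mp h1
      have h2 : ψ (1 - m) = 0 := by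
        have : ψ m = 1 := congrArg Subtype.val hm1
        rw [map_sub, map_one, this, sub_self]
      have h3 : (1 - m) ∈ M := hpM (by rw [← hψ]; exact h2)
      exact hM.ne_top ((Ideal.eq_top_iff_one M).mpr (by simpa using M.add_mem h3 hm))
    obtain ⟨V, hV1, hV2⟩ := Ideal.image_subset_nonunits_valuationSubring _ hMT
    have hyV : φ y ∈ V.nonunits := by
      refine hV2 ⟨ψ.rangeRestrict ys, Ideal.mem_map_of_mem _ (hyM (Ideal.mem_span_singleton_self _)), rfl⟩
    have hA : ∀ a : A, (φ.comp (algebraMap B L)) (algebraMap A B a) ∈ V := by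
      intro a
      refine hV1 ⟨algebraMap A S a, ?_⟩
      change φ (algebraMap A L a) = φ (algebraMap B L (algebraMap A B a))
      rw [← IsScalarTower.algebraMap_apply A B L]
    have hxV : φ (algebraMap B L x) ∈ V := H K V (φ.comp (algebraMap B L)) hA
    have hmul : φ (algebraMap B L x) * φ y = 1 := by
      rw [← map_mul, ← hu']
      have : (u : L) * y = 1 := Units.mul_inv u
      rw [this, map_one]
    have hy0 : φ y ≠ 0 := right_ne_zero_of_mul_eq_one hmul
    have hinv : φ (algebraMap B L x) = (φ y)⁻¹ := eq_inv_of_mul_eq_one_left hmul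
    rw [← inv_inv (φ y), V.inv_mem_nonunits_iff] at hyV
    rcases hyV with h | h
    · exact hy0 (inv_eq_zero.mp h)
    · exact h (hinv ▸ hxV)

end Groth.Agent.S19333
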