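import Groth.Statements.S19334
import Groth.Agent.ModPair.K973.Base

set_option autoImplicit false
universe u
open CategoryTheory CategoryTheory.Limits AlgebraicGeometry TopologicalSpace
open ModPair

namespace Groth.Agent.S19334

/-- Let (X, I) be a modulus pair, i.e. a scheme X with the quasi-coherent ideal sheaf I of an effective
Cartier divisor. Suppose that for every valuation ring R and every morphism p : Spec R ⟶ X along
which the divisor of I pulls back to an effective Cartier divisor on Spec R (so that p is a minimal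
morphism of modulus pairs for the pulled-back modulus), the pulled-back divisor is empty, I.comap p
= ⊤. Then the divisor of I is empty: I = ⊤. -/
theorem result {X : Scheme.{u}}
    (I : X.IdealSheafData) (hI : BlowUp.IsEffCartierIdeal I)
    (h : ∀ (R : Type u) [CommRing R] [IsDomain R] [ValuationRing R]
      (p : Spec (CommRingCat.of R) ⟶ X), BlowUp.IsEffCartierIdeal (I.comap p) → I.comap p = ⊤) :
    I = ⊤ := by
  by_contra hI0
  obtain ⟨x, hx⟩ : ∃ x, x ∈ I.support := by
    by_contra! hc
    apply hI0
    rw [← Scheme.IdealSheafData.support_eq_bot_iff]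
    ext x
    simpa using hc x
  obtain ⟨U, hxU, f, hf, hIf⟩ := hI x
  have hfx : f ∈ (U.2.primeIdealOf ⟨x, hxU⟩).asIdeal := by
    have h1 : U.2.fromSpec (U.2.primeIdealOf ⟨x, hxU⟩) = x := U.2.fromSpec_primeIdealOf ⟨x, hxU⟩
    have h2 : (U.2.primeIdealOf ⟨x, hxU⟩) ∈ (I.comap U.2.fromSpec).support := by
      rw [Scheme.IdealSheafData.support_comap]
      change U.2.fromSpec _ ∈ I.support
      rw [h1]
      exact hx
    rw [Groth.Agent.Divis.BlowChart2.comap_fromSpec] at h2
    have h3 := (K973.Base.mem_support_idl (A := Γ(X, U.1)) _ _).mp h2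
    rw [hIf] at h3
    exact h3 (Ideal.mem_span_singleton_self f)
  obtain ⟨K, _, V, φ, hφf, hφ⟩ := K973.Base.exists_valuationRing (U.2.primeIdealOf ⟨x, hxU⟩).asIdeal hf
  have hc := K973.Base.comap_map_fromSpec_span hIf φ
  have h4 := h V (Spec.map (CommRingCat.ofHom φ) ≫ U.2.fromSpec) (by
    rw [hc]
    exact K973.Base.isEff_idl_span (mem_nonZeroDivisors_of_ne_zero hφf))
  rw [hc, ← K973.Base.idl_top, K973.Base.idl_inj, Ideal.span_singleton_eq_top] at h4
  exact hφ f hfx h4

end Groth.Agent.S19334
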