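import Groth.Statements.S19335
import Groth.Agent.ModPair.K973.Base

set_option autoImplicit false
universe u
open CategoryTheory CategoryTheory.Limits AlgebraicGeometry TopologicalSpace
open ModPair

namespace Groth.Agent.S19335

/-- Let X be a scheme and I, J quasi-coherent ideal sheaves of effective Cartier divisors D_I ≤ D_J on
X, i.e. J ≤ I. Suppose that for every valuation ring R and every morphism p : Spec R ⟶ X such that
I.comap p is the ideal sheaf of an effective Cartier divisor on Spec R (so p is a minimal morphism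
of modulus pairs for (X, I)) whose open complement consists of the generic point of Spec R only, the
two divisors agree after pull-back, I.comap p = J.comap p. Then I = J. -/
theorem result {X : Scheme.{u}} (I J : X.IdealSheafData)
    (hI : BlowUp.IsEffCartierIdeal I) (hJ : BlowUp.IsEffCartierIdeal J) (hJI : J ≤ I)
    (h : ∀ (R : Type u) [CommRing R] [IsDomain R] [ValuationRing R]
      (p : Spec (CommRingCat.of R) ⟶ X), BlowUp.IsEffCartierIdeal (I.comap p) →
        (∀ x : Spec (CommRingCat.of R),
          x ∈ (ModPair.interior (I.comap p) : Set (Spec (CommRingCat.of R))) ↔ x.asIdeal = ⊥) →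
        I.comap p = J.comap p) :
    I = J := by
  have key : ∀ x : X, ∃ U : X.affineOpens, x ∈ U.1 ∧ I.ideal U = J.ideal U := by
    intro x
    obtain ⟨U₁, hxU₁, -⟩ := hI x
    obtain ⟨U₂, hx₂, hU₂, hP₂⟩ := Groth.Agent.Divis.EffCartier.exists_princAt hJ x U₁.1 hxU₁
    obtain ⟨U, hx, hUU₂, hP⟩ := Groth.Agent.Divis.EffCartier.exists_princAt hI x U₂.1 hx₂
    obtain ⟨g, hg, hJg⟩ := hP₂.mono hUU₂
    obtain ⟨f, hf, hIf⟩ := hP
    refine ⟨U, hx, ?_⟩
    obtain ⟨k, hk⟩ : ∃ k, g = f * k := by
      have : g ∈ I.ideal U := hJI U (hJg ▸ Ideal.mem_span_singleton_self g)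
      rw [hIf, Ideal.mem_span_singleton] at this
      exact this
    have hku : IsUnit k := by
      by_contra hku
      obtain ⟨p, hp, hkp⟩ := exists_max_ideal_of_mem_nonunits hku
      have := hp.isPrime
      obtain ⟨K, _, V, φ, hφg, hφ⟩ := K973.Base.exists_valuationRing p hg
      have hφf : φ f ≠ 0 := by
        intro h0
        exact hφg (by rw [hk, map_mul, h0, zero_mul])
      obtain ⟨S, _, _, _, π, hπf, hπP, hπu⟩ := K973.Base.exists_quotient_rank_one_at hφf
      have hcI := K973.Base.comap_map_fromSpec_span hIf (π.comp φ)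
      have hcJ := K973.Base.comap_map_fromSpec_span hJg (π.comp φ)
      have h4 := h S (Spec.map (CommRingCat.ofHom (π.comp φ)) ≫ U.2.fromSpec) (by
        rw [hcI]
        exact K973.Base.isEff_idl_span (mem_nonZeroDivisors_of_ne_zero hπf)) (by
        intro y
        rw [hcI, SetLike.mem_coe, K973.Base.mem_interior_idl_span]
        constructor
        · intro hy
          exact hπP _ y.isPrime hy
        · intro hy
          rw [hy]
          exact hπf)
      rw [hcI, hcJ, K973.Base.idl_inj, hk, map_mul] at h4
      have h5 : π (φ f) ∈ Ideal.span {(π.comp φ) f * (π.comp φ) k} := by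
        rw [← h4]
        exact Ideal.mem_span_singleton_self _
      obtain ⟨c, hc⟩ := Ideal.mem_span_singleton.mp h5
      have h6 : (π.comp φ) k * c = 1 := by
        apply mul_left_cancel₀ hπf
        rw [mul_one, ← mul_assoc]
        exact hc.symm
      exact hφ k hkp (hπu _ (IsUnit.of_mul_eq_one _ h6))
    rw [hIf, hJg, hk, Ideal.span_singleton_mul_right_unit hku]
  choose U hxU hU using key
  refine Scheme.IdealSheafData.ext_of_iSup_eq_top U ?_ hU
  rw [eq_top_iff]
  intro x _
  exact TopologicalSpace.Opens.mem_iSup.mpr ⟨x, hxU x⟩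

end Groth.Agent.S19335
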