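import Groth.Statements.S19336
import Groth.Agent.ModPair.K973.ZarExt

set_option autoImplicit false
universe u
open CategoryTheory CategoryTheory.Limits AlgebraicGeometry TopologicalSpace
open ModPair

namespace Groth.Agent.S19336

/-- Let (S, I) be a modulus pair, i.e. a scheme S with the quasi-coherent ideal sheaf I of an effective
Cartier divisor, with S quasi-compact and quasi-separated and with interior U, and let (V_i) be a
covering of U by quasi-compact open subsets. Then there are a quasi-coherent ideal sheaf F of finite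
type on S whose support is disjoint from U, a blow-up b : Y ⟶ S of S in F (an admissible blow-up)
such that I.comap b is again the ideal sheaf of an effective Cartier divisor, and a covering of Y by
quasi-compact open subsets W_j such that each W_j ∩ b⁻¹(U) is contained in b⁻¹(V_i) for some i: the
Zariski covering of the interior extends, after an admissible blow-up, to a Zariski covering of the
total space. -/
theorem result {S : Scheme.{u}}
    [CompactSpace S] [QuasiSeparatedSpace S] (I : S.IdealSheafData)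
    (hI : BlowUp.IsEffCartierIdeal I) {ι : Type u} (V : ι → S.Opens)
    (hVU : ∀ i, V i ≤ ModPair.interior I) (hVqc : ∀ i, IsCompact (V i : Set S))
    (hcov : ModPair.interior I ≤ ⨆ i, V i) :
    ∃ (F : S.IdealSheafData) (Y : Scheme.{u}) (b : Y ⟶ S) (κ : Type u) (W : κ → Y.Opens),
      BlowUp.IsAdmissibleFor (ModPair.interior I) F ∧ BlowUp.IsBlowUp b F ∧
        BlowUp.IsEffCartierIdeal (I.comap b) ∧ (∀ k, IsCompact (W k : Set Y)) ∧
        (⨆ k, W k) = ⊤ ∧ ∀ k, ∃ i, W k ⊓ b ⁻¹ᵁ ModPair.interior I ≤ b ⁻¹ᵁ V i := by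
  classical
  have hcU := K973.ZarExt.isCompact_interior hI
  obtain ⟨t, ht⟩ := hcU.elim_finite_subcover (fun i => (V i : Set S)) (fun i => (V i).2) (by
    intro x hx
    obtain ⟨i, hi⟩ := TopologicalSpace.Opens.mem_iSup.mp (hcov hx)
    exact Set.mem_iUnion.mpr ⟨i, hi⟩)
  choose K hKft hK using fun i : t => Groth.Agent.Flat2C.Glob.exists_ft_support_eq_compl (V i.1) (hVqc i.1)
  have hKs : ∀ x : S, x ∉ (⨆ i, K i).support ↔ x ∈ ModPair.interior I := by
    intro x
    rw [Scheme.IdealSheafData.support_iSup, TopologicalSpace.Closeds.mem_iInf]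
    push Not
    constructor
    · rintro ⟨i, hi⟩
      have h1 : x ∉ ((K i).support : Set S) := hi
      rw [hK i, Set.notMem_compl_iff] at h1
      exact hVU i.1 h1
    · intro hx
      obtain ⟨i, hi⟩ := Set.mem_iUnion.mp (ht hx)
      obtain ⟨hit, hxi⟩ := Set.mem_iUnion.mp hi
      refine ⟨⟨i, hit⟩, ?_⟩
      change x ∉ ((K ⟨i, hit⟩).support : Set S)
      rw [hK ⟨i, hit⟩, Set.notMem_compl_iff]
      exact hxi
  obtain ⟨Y, b, hb⟩ := Groth.Agent.S8859.result S ((⨆ i, K i) * I)
  have hb1 := hb.1
  rw [Groth.Agent.Divis.IdealComap.comap_mul] at hb1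
  obtain ⟨hbK, hbI⟩ := Groth.Agent.S8852.result _ _ hb1
  have key := K973.ZarExt.exists_local b K hbK
  choose W i hyW hW using key
  refine ⟨(⨆ i, K i) * I, Y, b, Y, fun y => (W y).1, ⟨?_, ?_⟩, hb, hbI, fun y => (W y).2.isCompact, ?_, ?_⟩
  · exact K973.ZarExt.isFiniteType_mul (K973.ZarExt.isFiniteType_iSup hKft)
      (K973.ZarExt.isFiniteType_of_isEff hI)
  · rw [Set.disjoint_left]
    intro x hx hxU
    have h1 : x ∈ ModPair.interior ((⨆ i, K i) * I) := by
      rw [K973.Pairs.interior_mul]
      exact ⟨(hKs x).mpr hxU, hxU⟩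
    exact h1 hx
  · rw [eq_top_iff]
    intro y _
    exact TopologicalSpace.Opens.mem_iSup.mpr ⟨y, hyW y⟩
  · intro y
    refine ⟨(i y).1, ?_⟩
    rintro z ⟨hz, hzU⟩
    have h1 := hW y z hz ((hKs _).mpr hzU)
    have h2 : b z ∉ ((K (i y)).support : Set S) := h1
    rw [hK (i y), Set.notMem_compl_iff] at h2
    exact h2

end Groth.Agent.S19336
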