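import Groth.Statements.S19338
-- import your own Groth.Agent.* helpers here

set_option autoImplicit false
universe w v u
open CategoryTheory
open ModPair

namespace Groth.Agent.S19338

/-- Let C be a category and S a class of morphisms which contains the identities, is closed under
composition, admits a right calculus of fractions, and consists of monomorphisms. Then the sieves
containing a morphism of S are the covering sieves of a Grothendieck topology on C, and for every
such topology J a presheaf of types F on C is a J-sheaf if and only if it is S-local, i.e. F sends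
every morphism of S to a bijection. -/
theorem result {C : Type u} [Category.{v} C]
    (S : MorphismProperty C) [S.HasRightCalculusOfFractions]
    (hmono : ∀ ⦃X Y : C⦄ (s : X ⟶ Y), S s → Mono s) :
    (∃ J : GrothendieckTopology C, ∀ (X : C) (T : Sieve X),
        T ∈ J X ↔ ∃ (Y : C) (s : Y ⟶ X), S s ∧ T s) ∧
      ∀ J : GrothendieckTopology C, (∀ (X : C) (T : Sieve X),
          T ∈ J X ↔ ∃ (Y : C) (s : Y ⟶ X), S s ∧ T s) →
        ∀ F : Cᵒᵖ ⥤ Type w,
          Presheaf.IsSheaf J F ↔ ∀ ⦃X Y : C⦄ (s : X ⟶ Y), S s → IsIso (F.map s.op) := by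
  classical
  have key : ∀ ⦃X Y Z : C⦄ (f : Z ⟶ X) (s : Y ⟶ X), S s →
      ∃ (W : C) (s' : W ⟶ Z) (f' : W ⟶ Y), S s' ∧ s' ≫ f = f' ≫ s := by
    intro X Y Z f s hs
    obtain ⟨ψ, hψ⟩ := (MorphismProperty.LeftFraction.mk f s hs).exists_rightFraction
    exact ⟨_, ψ.s, ψ.f, ψ.hs, hψ⟩
  refine ⟨⟨{ sieves := fun X => {T | ∃ (Y : C) (s : Y ⟶ X), S s ∧ T s}
             top_mem' := fun X => ⟨X, 𝟙 X, S.id_mem X, trivial⟩
             pullback_stable' := ?_
             transitive' := ?_ }, fun X T => Iff.rfl⟩, ?_⟩
  · rintro X Y T f ⟨Z, s, hs, hT⟩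
    obtain ⟨W, s', f', hs', e⟩ := key f s hs
    refine ⟨W, s', hs', ?_⟩
    change T (s' ≫ f)
    rw [e]
    exact T.downward_closed hT _
  · rintro X T ⟨Y, s, hs, hT⟩ R hR
    obtain ⟨Z, t, ht, hRt⟩ := hR hT
    exact ⟨Z, t ≫ s, S.comp_mem _ _ ht hs, hRt⟩
  · intro J hJ F
    rw [isSheaf_iff_isSheaf_of_type]
    constructor
    · intro hF X Y s hs
      have := hmono s hs
      have hcov : Sieve.generate (Presieve.singleton s) ∈ J Y :=
        (hJ _ _).mpr ⟨X, s, hs, Sieve.le_generate _ _ _ (Presieve.singleton.mk)⟩
      have hsh := hF _ hcov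
      rw [← Presieve.isSheafFor_iff_generate] at hsh
      rw [isIso_iff_bijective]
      constructor
      · intro a b hab
        refine hsh.isSeparatedFor.ext ?_
        rintro Z f ⟨⟩
        exact hab
      · intro a
        let x : Presieve.FamilyOfElements F (Presieve.singleton s) := fun Z f hf =>
          F.map (eqToHom (by cases hf; rfl) : Z ⟶ X).op a
        have hx : x.Compatible := by
          rintro Z₁ Z₂ W g₁ g₂ f₁ f₂ ⟨⟩ ⟨⟩ e
          have : g₁ = g₂ := by rwa [cancel_mono] at e
          subst this
          rfl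
        obtain ⟨b, hb, -⟩ := hsh x hx
        refine ⟨b, ?_⟩
        have := hb s Presieve.singleton.mk
        simpa [x] using this
    · intro hF X T hT
      obtain ⟨Y, s, hs, hTs⟩ := (hJ _ _).mp hT
      have hi := hF s hs
      rw [isIso_iff_bijective] at hi
      intro x hx
      obtain ⟨a, ha⟩ := hi.2 (x s hTs)
      refine ⟨a, ?_, ?_⟩
      · intro Z f hf
        obtain ⟨W, s', f', hs', e⟩ := key f s hs
        have hi' := hF s' hs'
        rw [isIso_iff_bijective] at hi'
        apply hi'.1
        have h1 : F.map s'.op (F.map f.op a) = F.map f'.op (F.map s.op a) := by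
          rw [← Functor.map_comp_apply, ← Functor.map_comp_apply, ← op_comp, ← op_comp, e]
        rw [h1, ha]
        exact (hx f' s' hTs hf e.symm)
      · intro b hb
        apply hi.1
        rw [ha]
        exact hb s hTs

end Groth.Agent.S19338
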