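import Groth.Statements.S19339
import Groth.Agent.ModPair.K973.FppfRefine
-- import your own Groth.Agent.* helpers here

set_option autoImplicit false
universe u
open CategoryTheory CategoryTheory.Limits AlgebraicGeometry TopologicalSpace
open ModPair

namespace Groth.Agent.S19339

/-- Let X be a scheme and (w_j : W_j ⟶ X) an fppf covering, i.e. a jointly surjective family of
morphisms each of which is flat and of finite presentation (locally of finite presentation,
quasi-compact and quasi-separated). Then it is refined by a family of composites V_k ⟶ U_k ⟶ X in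
which the u_k : U_k ⟶ X are étale morphisms such that every point of X is the image of a point of
some U_k with trivial residue field extension, and the v_k : V_k ⟶ U_k are finite, flat and
surjective: each composite v_k ≫ u_k factors through some w_j. (The covering condition on the family
(u_k) is stated here pointwise, every point lifting to some U_k with the same residue field; a
Nisnevich covering in the stronger sense with members of finite presentation and a finite splitting
stratification is not asserted.) -/
theorem result {X : Scheme.{u}}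
    {ι : Type u} (W : ι → Scheme.{u}) (w : ∀ j, W j ⟶ X)
    (hw : Presieve.ofArrows W w ∈
      Scheme.precoverage (@Flat ⊓ @LocallyOfFinitePresentation ⊓ @QuasiCompact ⊓ @QuasiSeparated) X) :
    ∃ (κ : Type u) (U V : κ → Scheme.{u}) (u : ∀ k, U k ⟶ X) (v : ∀ k, V k ⟶ U k),
      (∀ k, Etale (u k)) ∧
        (∀ x : X, ∃ (k : κ) (y : U k), (u k).base y = x ∧ IsIso ((u k).residueFieldMap y)) ∧
        (∀ k, IsFinite (v k) ∧ Flat (v k) ∧ Surjective (v k)) ∧
        ∀ k, ∃ (j : ι) (r : V k ⟶ W j), r ≫ w j = v k ≫ u k := by
  rw [Scheme.ofArrows_mem_precoverage_iff] at hw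
  choose j hj using hw.1
  have hex : ∀ x : X, ∃ (U V : Scheme.{u}) (e : U ⟶ X) (v : V ⟶ U), Etale e ∧
      (∃ y : U, e y = x ∧ IsIso (e.residueFieldMap y)) ∧
      IsFinite v ∧ Flat v ∧ Surjective v ∧ LocallyOfFinitePresentation v ∧
      ∃ r : V ⟶ W (j x), r ≫ w (j x) = v ≫ e := by
    intro x
    have h1 : Flat (w (j x)) := (hw.2 _).1.1.1
    have h2 : LocallyOfFinitePresentation (w (j x)) := (hw.2 _).1.1.2
    exact K973.FppfRefine.exists_local (w (j x)) x (hj x)
  choose U V e v h1 h2 h3 h4 h5 h6 r h7 using hex
  refine ⟨X, U, V, e, v, h1, fun x => ?_, fun x => ⟨h3 x, h4 x, h5 x⟩, fun x => ⟨j x, r x, h7 x⟩⟩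
  obtain ⟨y, hy1, hy2⟩ := h2 x
  exact ⟨x, y, hy1, hy2⟩

end Groth.Agent.S19339
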