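import Groth.Statements.S19340
-- import your own Groth.Agent.* helpers here

set_option autoImplicit false
universe v v' u u'
open CategoryTheory
open ModPair

namespace Groth.Agent.S19340

/-- Let C be a category, S a class of morphisms of C containing the identities, closed under composition
and admitting a right calculus of fractions, and L : C ⥤ D a localization functor for S. Then for
every object X of C the comma category of L under X, whose objects are pairs (Y, L(X) ⟶ L(Y)) and
whose morphisms are morphisms Y ⟶ Y' of C compatible with the structure maps, is cofiltered. The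
published statement calls this category filtered; its proof verifies, and this row states,
cofilteredness. -/
theorem result {C : Type u}
    [Category.{v} C] {D : Type u'} [Category.{v'} D] (S : MorphismProperty C)
    [S.HasRightCalculusOfFractions] (L : C ⥤ D) [L.IsLocalization S] (X : C) :
    IsCofiltered (StructuredArrow (L.obj X) L) := by
  classical
  have hinv : S.IsInvertedBy L := Localization.inverts L S
  -- every map is dominated by the inverse of a denominator
  have key : ∀ (A : StructuredArrow (L.obj X) L), ∃ (X' : C) (s : X' ⟶ X) (_ : S s) (f : X' ⟶ A.right),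
      L.map s ≫ A.hom = L.map f := by
    intro A
    obtain ⟨φ, hφ⟩ := Localization.exists_rightFraction L S A.hom
    exact ⟨φ.X', φ.s, φ.hs, φ.f, by rw [hφ, φ.map_s_comp_map]⟩
  have ore : ∀ ⦃X Y Z : C⦄ (f : Z ⟶ X) (s : Y ⟶ X), S s →
      ∃ (W : C) (s' : W ⟶ Z) (f' : W ⟶ Y), S s' ∧ s' ≫ f = f' ≫ s := by
    intro X Y Z f s hs
    obtain ⟨ψ, hψ⟩ := (MorphismProperty.LeftFraction.mk f s hs).exists_rightFraction
    exact ⟨_, ψ.s, ψ.f, ψ.hs, hψ⟩
  -- the basic objects
  let ob : ∀ {X' : C} (s : X' ⟶ X) (_ : S s), StructuredArrow (L.obj X) L := fun s hs =>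
    have := hinv _ hs
    StructuredArrow.mk (inv (L.map s))
  have obhom : ∀ {X' : C} (s : X' ⟶ X) (hs : S s) (A : StructuredArrow (L.obj X) L) (f : X' ⟶ A.right),
      L.map s ≫ A.hom = L.map f → ∃ g : ob s hs ⟶ A, g.right = f := by
    intro X' s hs A f hf
    have := hinv _ hs
    refine ⟨StructuredArrow.homMk f ?_, rfl⟩
    change inv (L.map s) ≫ L.map f = A.hom
    rw [← hf, IsIso.inv_hom_id_assoc]
  have hf : IsCofilteredOrEmpty (StructuredArrow (L.obj X) L) := by
    refine { cone_objs := ?_, cone_maps := ?_ }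
    · intro A B
      obtain ⟨X₁, s₁, hs₁, f₁, e₁⟩ := key A
      obtain ⟨X₂, s₂, hs₂, f₂, e₂⟩ := key B
      obtain ⟨W, t₁, t₂, ht₁, e⟩ := ore s₁ s₂ hs₂
      obtain ⟨g₁, -⟩ := obhom (t₁ ≫ s₁) (S.comp_mem _ _ ht₁ hs₁) A (t₁ ≫ f₁)
        (by rw [L.map_comp, L.map_comp, Category.assoc, e₁])
      obtain ⟨g₂, -⟩ := obhom (t₁ ≫ s₁) (S.comp_mem _ _ ht₁ hs₁) B (t₂ ≫ f₂)
        (by rw [e, L.map_comp, L.map_comp, Category.assoc, e₂])
      exact ⟨_, g₁, g₂, trivial⟩
    · intro A B u v
      obtain ⟨X₁, s, hs, f, e⟩ := key A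
      have h1 : L.map (f ≫ u.right) = L.map (f ≫ v.right) := by
        rw [L.map_comp, L.map_comp, ← e, Category.assoc, Category.assoc, StructuredArrow.w, StructuredArrow.w]
      obtain ⟨W, t, ht, e'⟩ := (MorphismProperty.map_eq_iff_precomp L S _ _).mp h1
      obtain ⟨g, hg⟩ := obhom (t ≫ s) (S.comp_mem _ _ ht hs) A (t ≫ f)
        (by rw [L.map_comp, L.map_comp, Category.assoc, e])
      refine ⟨_, g, ?_⟩
      ext
      rw [StructuredArrow.comp_right, StructuredArrow.comp_right, hg, Category.assoc, Category.assoc, e']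
  exact { toIsCofilteredOrEmpty := hf, nonempty := ⟨StructuredArrow.mk (𝟙 _)⟩ }

end Groth.Agent.S19340
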