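import Groth.Statements.S19345
import Groth.Agent.ModPair.K973.AicSec
-- import your own Groth.Agent.* helpers here

set_option autoImplicit false
universe u
open CategoryTheory CategoryTheory.Limits AlgebraicGeometry TopologicalSpace
open ModPair

namespace Groth.Agent.S19345

/-- Let P be a quasi-separated scheme. Then P is local for Zariski coverings (for every scheme X, every
jointly surjective family of quasi-compact open immersions into X and every morphism P ⟶ X, the
morphism factors through a member) and for finite coverings (the same for jointly surjective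
families of finite morphisms) — which together is locality for the rqfh coverings, the finite
composites of coverings of these two kinds — if and only if P is affine and Γ(P) is a local integral
domain in which every monic polynomial of positive degree has a root, i.e. the spectrum of an
absolutely integrally closed local domain. The published statement allows any scheme P; this row
assumes P quasi-separated. -/
theorem result (P : Scheme.{u}) [QuasiSeparatedSpace P] :
    ((∀ (X : Scheme.{u}) (R : Presieve X), R ∈ Scheme.precoverage (@IsOpenImmersion ⊓ @QuasiCompact) X →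
        ∀ g : P ⟶ X, ∃ (Y : Scheme.{u}) (w : Y ⟶ X) (h : P ⟶ Y), R w ∧ h ≫ w = g) ∧
      (∀ (X : Scheme.{u}) (R : Presieve X), R ∈ Scheme.precoverage @IsFinite X →
        ∀ g : P ⟶ X, ∃ (Y : Scheme.{u}) (w : Y ⟶ X) (h : P ⟶ Y), R w ∧ h ≫ w = g)) ↔
    (IsAffine P ∧ IsLocalRing Γ(P, ⊤) ∧ IsDomain Γ(P, ⊤) ∧ Curves.IsAIC Γ(P, ⊤)) := by
  let Pp : ModPair.Pair.{u} := ⟨P, ⊤, K973.AicSec.isEff_top P⟩
  have hqs : QuasiSeparatedSpace Pp.total := ‹QuasiSeparatedSpace P›
  have hbc : MorphismProperty.IsStableUnderBaseChange (C := Scheme.{u})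
      (@IsOpenImmersion ⊓ @QuasiCompact : MorphismProperty Scheme.{u}) :=
    MorphismProperty.IsStableUnderBaseChange.inf
      (P := (@IsOpenImmersion : MorphismProperty Scheme.{u})) (Q := @QuasiCompact)
  constructor
  · rintro ⟨hz, hf⟩
    have hz' : K973.ValPair.ZarLocal Pp := fun X ι U v hv hc g =>
      K973.AicSec.pair_of_scheme (@IsOpenImmersion ⊓ @QuasiCompact) Pp hz X ι U v hv hc g
    have hf' : K973.AicSec.FinLocal Pp := fun X ι U v hv hc g =>
      K973.AicSec.pair_of_scheme (@IsFinite) Pp hf X ι U v hv hc g
    obtain ⟨h1, h2⟩ := K973.ValPair.isAffine_of_zarLocal Pp hz'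
    obtain ⟨h3, h4⟩ := K973.AicSec.dom_aic_of_finLocal Pp hf'
    exact ⟨h1, h2, h3, h4⟩
  · rintro ⟨h1, h2, h3, h4⟩
    have h1' : IsAffine Pp.total := h1
    have h2' : IsLocalRing Γ(Pp.total, ⊤) := h2
    have h3' : IsDomain Γ(Pp.total, ⊤) := h3
    have hE : ∀ (V : Scheme.{u}) (p : V ⟶ Pp.total), BlowUp.IsEffCartierIdeal (Pp.mod.comap p) := by
      intro V p
      have : Pp.mod.comap p = ⊤ := Scheme.IdealSheafData.comap_top p
      rw [this]
      exact K973.AicSec.isEff_top V
    refine ⟨fun X R hR g => ?_, fun X R hR g => ?_⟩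
    · exact K973.AicSec.scheme_of_pair (@IsOpenImmersion ⊓ @QuasiCompact) Pp
        (fun V p _ => hE V p) (K973.ValPair.zarLocal_of_isLocalRing Pp) X R hR g
    · exact K973.AicSec.scheme_of_pair (@IsFinite) Pp
        (fun V p _ => hE V p) (K973.AicSec.finLocal_of_aic Pp h4) X R hR g

end Groth.Agent.S19345
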