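import Groth.Statements.S19347
import Groth.Agent.RigCh.K989.Model2
import Groth.Agent.Dcoh.Spread

set_option autoImplicit false
universe u
open RigCh

namespace Groth.Agent.S19347

open AlgebraicGeometry CategoryTheory in
/-- Let k be a field, X a separated k-scheme of finite type and 0 → F₁ → F₂ → F₃ → 0 a short exact
sequence of finite locally free O_X-modules. Then there are an open immersion j of X, over k, into a
scheme proper over k, such that the complement of the image of j is the support of an effective
Cartier divisor (a quasi-coherent ideal sheaf which near every point is generated on some affine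
open by a single nonzerodivisor), and a short exact sequence 0 → G₁ → G₂ → G₃ → 0 of finite locally
free modules on that scheme whose pullback along j is isomorphic to the given sequence (isomorphisms
on the three terms commuting with the maps). (In the source, compactifications have divisor boundary
by a standing convention, so the divisor clause is part of the published statement, although the
published proof does not re-verify it for the compactification it constructs. The source assumes k
of positive characteristic; this plays no role in the statement or its proof.) -/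
theorem result (k : Type u) [Field k]
    (X : Scheme.{u}) (f : X ⟶ Spec (CommRingCat.of k)) [IsSeparated f] [QuasiCompact f] [LocallyOfFiniteType f]
    (S : ShortComplex X.Modules) (hS : S.ShortExact)
    (h₁ : FlatMod.IsFinLocFree S.X₁) (h₂ : FlatMod.IsFinLocFree S.X₂) (h₃ : FlatMod.IsFinLocFree S.X₃) :
    ∃ (Xb : Scheme.{u}) (j : X ⟶ Xb) (g : Xb ⟶ Spec (CommRingCat.of k)) (E : Xb.IdealSheafData),
      IsOpenImmersion j ∧ IsProper g ∧ j ≫ g = f ∧
      BlowUp.IsEffCartierIdeal E ∧ (E.support : Set Xb) = (Set.range j.base)ᶜ ∧
      ∃ (T : ShortComplex Xb.Modules), T.ShortExact ∧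
        FlatMod.IsFinLocFree T.X₁ ∧ FlatMod.IsFinLocFree T.X₂ ∧ FlatMod.IsFinLocFree T.X₃ ∧
        ∃ (e₁ : (Scheme.Modules.pullback j).obj T.X₁ ≅ S.X₁) (e₂ : (Scheme.Modules.pullback j).obj T.X₂ ≅ S.X₂)
          (e₃ : (Scheme.Modules.pullback j).obj T.X₃ ≅ S.X₃),
          (Scheme.Modules.pullback j).map T.f ≫ e₂.hom = e₁.hom ≫ S.f ∧
          (Scheme.Modules.pullback j).map T.g ≫ e₃.hom = e₂.hom ≫ S.g := by
  have hN : IsNoetherian (Spec (CommRingCat.of k)) := inferInstance
  have hepi : Epi S.g := hS.epi_g
  have hmono : Mono S.f := hS.mono_f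
  obtain ⟨Y, j, g, E, hj, hg, hjg, hE, hEs, m, hm₂, hm₃⟩ :=
    K989.Model.exists_locFree_model f S.g h₂ h₃
  have hmepi : Epi m.p := m.epi
  let T : ShortComplex Y.Modules := ShortComplex.mk (Limits.kernel.ι m.p) m.p (Limits.kernel.condition m.p)
  have hT : T.ShortExact :=
    { exact := ShortComplex.exact_kernel m.p
      mono_f := inferInstanceAs (Mono (Limits.kernel.ι m.p))
      epi_g := hmepi }
  -- the restriction functor is exact
  have hTr : (T.map (Scheme.Modules.restrictFunctor j)).ShortExact := hT.map_of_exact _
  have hpf : Limits.PreservesFiniteLimits (Scheme.Modules.pullback j) :=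
    Limits.preservesFiniteLimits_of_natIso (Scheme.Modules.restrictFunctorIsoPullback j)
  have hpz : (Scheme.Modules.pullback j).PreservesZeroMorphisms := inferInstance
  have hTp : (T.map (Scheme.Modules.pullback j)).ShortExact := hT.map_of_exact _
  have hfT := hTp.fIsKernel
  have hfS := hS.fIsKernel
  let e₁ : (Scheme.Modules.pullback j).obj T.X₁ ≅ S.X₁ :=
    Limits.KernelFork.mapIsoOfIsLimit hfT hfS
      (Arrow.isoMk m.e₂ m.e₃ m.comm.symm)
  have he₁ : (Scheme.Modules.pullback j).map T.f ≫ m.e₂.hom = e₁.hom ≫ S.f := by
    have h := Limits.KernelFork.mapOfIsLimit_ι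
      (Limits.KernelFork.ofι (T.map (Scheme.Modules.pullback j)).f
        (T.map (Scheme.Modules.pullback j)).zero) hfS
      (Arrow.isoMk m.e₂ m.e₃ m.comm.symm).hom
    exact h.symm
  exact ⟨Y, j, g, E, hj, hg, hjg, hE, hEs, T, hT,
    Groth.Agent.Dcoh.Spread.isFinLocFree_kernel m.p hm₂ hm₃, hm₂, hm₃, e₁, m.e₂, m.e₃, he₁, m.comm⟩

end Groth.Agent.S19347
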