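import Groth.Statements.S19348
import Mathlib.RingTheory.AdicCompletion.Basic
import Mathlib.RingTheory.DividedPowers.Basic

set_option autoImplicit false
universe u
open RigCh

namespace Groth.Agent.S19348

/-- Let p be a prime and m a natural number, P a commutative ring complete and separated for the p-adic
topology, and I an ideal of P with a divided power structure of level m, that is a sub-ideal J of I
endowed with divided powers such that x ^ (p ^ m) and p * x lie in J for all x in I. Then an element
of P whose class in P / I is invertible is invertible in P. (The source states this for a lift of a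
unit to the p-adically completed level-m divided power envelope of a closed immersion; the statement
here keeps exactly what its argument uses: completeness for p and the level-m divided powers on the
kernel.) -/
theorem result (p : ℕ) [Fact p.Prime] (m : ℕ)
    (P : Type u) [CommRing P] [IsAdicComplete (Ideal.span {(p : P)}) P]
    (I J : Ideal P) (hJ : DividedPowers J) (hJI : J ≤ I)
    (hpow : ∀ x ∈ I, x ^ (p ^ m) ∈ J) (hmul : ∀ x ∈ I, (p : P) * x ∈ J)
    (u : P) (hu : IsUnit (Ideal.Quotient.mk I u)) : IsUnit u := by
  have hp : p.Prime := Fact.out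
  obtain ⟨w, hw⟩ := hu.exists_right_inv
  obtain ⟨v, rfl⟩ := Ideal.Quotient.mk_surjective w
  have hx : 1 - u * v ∈ I := by
    rw [← Ideal.Quotient.eq_zero_iff_mem, map_sub, map_one, map_mul, hw, sub_self]
  set x := 1 - u * v with hxdef
  -- `x ^ (p ^ (m + 1))` is divisible by `p`
  have h1 : x ^ (p ^ (m + 1)) ∈ Ideal.span {(p : P)} := by
    rw [pow_succ, pow_mul, ← hJ.factorial_mul_dpow_eq_pow (hpow x hx)]
    apply Ideal.mul_mem_right
    rw [Ideal.mem_span_singleton]
    exact Nat.cast_dvd_cast (Nat.dvd_factorial hp.pos le_rfl)
  have h2 : x ^ (p ^ (m + 1)) ∈ (⊥ : Ideal P).jacobson :=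
    IsAdicComplete.le_jacobson_bot _ h1
  have h3 : IsUnit (1 - x ^ (p ^ (m + 1))) := by
    have := Ideal.mem_jacobson_bot.1 h2 (-1)
    convert this using 1
    ring
  have h4 : 1 - x ∣ 1 - x ^ (p ^ (m + 1)) := by
    simpa using sub_dvd_pow_sub_pow (1 : P) x (p ^ (m + 1))
  have h5 : IsUnit (1 - x) := isUnit_of_dvd_unit h4 h3
  have h6 : 1 - x = u * v := by rw [hxdef]; ring
  rw [h6] at h5
  exact isUnit_of_mul_isUnit_left h5

end Groth.Agent.S19348
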