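import Groth.Statements.S19352
import Groth.Agent.Surf.K465.ProjH
import Groth.Agent.Surf.K455.Pos
import Groth.Agent.VarietyA.CurveFin
import Groth.Agent.CurvesB.HZero

set_option autoImplicit false
universe u
open CategoryTheory CategoryTheory.Limits AlgebraicGeometry
open Surf

namespace Groth.Agent.S19352

/-- Let k be an algebraically closed field and X a nonsingular projective surface over k, namely an
integral scheme, smooth over k, of dimension two, given with a closed immersion ι into a projective
space P^n_k over k, and let H = ι^* O(1) be the invertible module of a hyperplane section. If L is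
an invertible O_X-module (the module of a divisor D) with dim_k H^0(X, L) > 1, then (L·H) > 0. Here
(A·B) denotes the intersection number of two invertible modules, the alternating sum χ(O_X) − χ(A) −
χ(B) + χ(A ⊗ B) of Euler characteristics (cohomology in degrees at most two); for two invertible
modules this agrees with the same sum formed from their inverses. -/
theorem result (k : Type u) [Field k] [IsAlgClosed k]
    (X : Scheme.{u}) [X.Over (Spec (CommRingCat.of k))] [AlgebraicGeometry.IsIntegral X]
    [Smooth (X ↘ Spec (CommRingCat.of k))] (hdim : topologicalKrullDim X = 2)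
    (n : ℕ) (ι : X ⟶ CohB1.ProjSpace n k) [IsClosedImmersion ι]
    (hι : ι ≫ CohB1.ProjSpace.toSpec n k = X ↘ Spec (CommRingCat.of k))
    (L : X.Modules) (hL : PicF.IsInvertible L)
    (hsec : 1 < Module.finrank k (Coh.HH X L 0)) :
    0 < FGA.intNum k X 2 ![L, (Scheme.Modules.pullback ι).obj (Twist.twistProjSpace n k 1)] (Coh.structureModule X) := by
  obtain ⟨hprop, hH⟩ := K465.ProjH.facts k X ι hι
  have h0 := Groth.Agent.VarietyA.CurveFin.finrank_h0_structure k X
  obtain ⟨s, hs⟩ : ∃ s : Γ(L, ⊤), s ≠ 0 := by
    by_contra hcon
    push Not at hcon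
    have : Subsingleton Γ(L, ⊤) := ⟨fun a b => (hcon a).trans (hcon b).symm⟩
    have h1 : Subsingleton (Coh.HH X L 0) := (Groth.Agent.CurvesB.HZero.equivAdd L).toEquiv.subsingleton
    have h2 := Module.finrank_zero_of_subsingleton (R := k) (M := Coh.HH X L 0)
    omega
  obtain ⟨h1, h2⟩ := K455.Pos.intNum_nonneg_of_section k hdim hH hL s hs
  refine lt_of_le_of_ne h1 fun h3 => ?_
  obtain ⟨e⟩ := (Groth.Agent.Fga.PicMon.mc_eq_iff _ _).1 (h2 h3.symm)
  have h4 := (Groth.Agent.Fga.PicMon.hmapEquiv k X e 0).finrank_eq
  omega

end Groth.Agent.S19352
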