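import Groth.Statements.S19356
import Mathlib.LinearAlgebra.QuadraticForm.Basic
import Mathlib.LinearAlgebra.Matrix.Charpoly.LinearMap
import Mathlib.LinearAlgebra.Matrix.ToLinearEquiv
import Mathlib.LinearAlgebra.Charpoly.Basic
import Mathlib.LinearAlgebra.Charpoly.ToMatrix
import Mathlib.RingTheory.Artinian.Algebra
import Mathlib.Tactic

set_option autoImplicit false
universe u
open AbVar

namespace Groth.Agent.S19356

open scoped Matrix

section aux

open Matrix

/-- A complex eigenvalue of a rational similitude (multiplier `q`) of a positive definite rational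
diagonal form has absolute value squared `q`. -/
lemma norm_sq_of_similitude {n : Type*} [Fintype n] [DecidableEq n] (M : Matrix n n ℚ)
    (d : n → ℚ) (hd : ∀ i, 0 < d i) (q : ℚ)
    (hM : Mᵀ * Matrix.diagonal d * M = q • Matrix.diagonal d) (l : ℂ)
    (v : n → ℂ) (hv : v ≠ 0) (hl : (M.map (algebraMap ℚ ℂ)) *ᵥ v = l • v) : ‖l‖ ^ 2 = (q : ℝ) := by
  set c := algebraMap ℚ ℂ with hc
  -- the hermitian sum
  have hsum : ∀ w : n → ℂ, star w ⬝ᵥ ((Matrix.diagonal d).map c *ᵥ w) =
      ((∑ i, (d i : ℝ) * ‖w i‖ ^ 2 : ℝ) : ℂ) := by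
    intro w
    have hdm : (Matrix.diagonal d).map c = Matrix.diagonal (fun i => c (d i)) := by
      rw [Matrix.diagonal_map (map_zero c)]
    rw [hdm]
    simp only [dotProduct, Matrix.mulVec_diagonal, Pi.star_apply, Complex.ofReal_sum]
    refine Finset.sum_congr rfl fun i _ => ?_
    have : star (w i) * w i = ((‖w i‖ ^ 2 : ℝ) : ℂ) := by
      rw [Complex.star_def, Complex.conj_mul', Complex.ofReal_pow]
    rw [Complex.ofReal_mul, ← this]
    simp only [hc, eq_ratCast, Complex.ofReal_ratCast]
    ring
  have hMc : (M.map c)ᴴ * (Matrix.diagonal d).map c * M.map c = c q • (Matrix.diagonal d).map c := by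
    have h1 : (M.map c)ᴴ = (Mᵀ).map c := by
      ext i j
      simp [Matrix.conjTranspose_apply, hc]
    rw [h1, ← Matrix.map_mul, ← Matrix.map_mul, hM]
    ext i j
    rw [Matrix.map_apply, Matrix.smul_apply, Matrix.smul_apply, Matrix.map_apply, smul_eq_mul,
      smul_eq_mul, map_mul]
  have hkey : star (M.map c *ᵥ v) ⬝ᵥ ((Matrix.diagonal d).map c *ᵥ (M.map c *ᵥ v)) =
      c q * (star v ⬝ᵥ ((Matrix.diagonal d).map c *ᵥ v)) := by
    rw [Matrix.star_mulVec, ← Matrix.dotProduct_mulVec, Matrix.mulVec_mulVec, Matrix.mulVec_mulVec,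
      hMc, Matrix.smul_mulVec, dotProduct_smul, smul_eq_mul]
  rw [hl, hsum, hsum] at hkey
  have hr : (∑ i, (d i : ℝ) * ‖(l • v) i‖ ^ 2 : ℝ) = (q : ℝ) * ∑ i, (d i : ℝ) * ‖v i‖ ^ 2 := by
    apply Complex.ofReal_injective
    rw [hkey, Complex.ofReal_mul]
    simp [hc]
  have hr2 : (∑ i, (d i : ℝ) * ‖(l • v) i‖ ^ 2 : ℝ) = ‖l‖ ^ 2 * ∑ i, (d i : ℝ) * ‖v i‖ ^ 2 := by
    rw [Finset.mul_sum]
    refine Finset.sum_congr rfl fun i _ => ?_
    rw [Pi.smul_apply, smul_eq_mul, norm_mul]
    ring
  have hpos : 0 < ∑ i, (d i : ℝ) * ‖v i‖ ^ 2 := by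
    obtain ⟨i, hi⟩ := Function.ne_iff.1 hv
    refine Finset.sum_pos' (fun j _ => ?_) ⟨i, Finset.mem_univ _, ?_⟩
    · exact mul_nonneg (by exact_mod_cast (hd j).le) (by positivity)
    · have : (0 : ℝ) < d i := by exact_mod_cast hd i
      have h2 : 0 < ‖v i‖ := norm_pos_iff.2 hi
      positivity
  rw [hr2] at hr
  exact mul_right_cancel₀ hpos.ne' hr

end aux

theorem result (R : Type u) [Ring R] [Algebra ℚ R]
    [Module.Finite ℚ R] [StarRing R] [StarModule ℚ R]
    (σ : R →ₗ[ℚ] ℚ) (hpos : ∀ x : R, x ≠ 0 → 0 < σ (x * star x))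
    (α : R) (q : ℚ) (hα : α * star α = algebraMap ℚ R q) :
    ∃ hmem : star α ∈ Algebra.adjoin ℚ ({α} : Set R),
      ∀ ρ : Algebra.adjoin ℚ ({α} : Set R) →ₐ[ℚ] ℂ,
        ρ ⟨star α, hmem⟩ = starRingEnd ℂ (ρ ⟨α, Algebra.self_mem_adjoin_singleton ℚ α⟩) ∧
          ‖ρ ⟨α, Algebra.self_mem_adjoin_singleton ℚ α⟩‖ ^ 2 = (q : ℝ) := by
  classical
  -- the symmetric bilinear form
  let starL : R →ₗ[ℚ] R :=
    { toFun := star, map_add' := star_add, map_smul' := fun a x => by simp [star_smul] }
  let B₀ : LinearMap.BilinForm ℚ R :=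
    (LinearMap.mul ℚ R).compl₁₂ LinearMap.id starL |>.compr₂ σ
  have hB₀ : ∀ x y, B₀ x y = σ (x * star y) := fun x y => rfl
  let B : LinearMap.BilinForm ℚ R := B₀ + B₀.flip
  have hB : ∀ x y, B x y = σ (x * star y) + σ (y * star x) := fun x y => rfl
  have hBsymm : LinearMap.IsSymm B := ⟨fun x y => by
    simp only [hB, RingHom.id_apply]; rw [add_comm]⟩
  obtain ⟨b, hb⟩ := LinearMap.BilinForm.exists_orthogonal_basis hBsymm
  let d : Fin (Module.finrank ℚ R) → ℚ := fun i => B (b i) (b i)
  have hd : ∀ i, 0 < d i := fun i => by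
    have : 0 < σ (b i * star (b i)) := hpos _ (b.ne_zero i)
    change 0 < B (b i) (b i)
    rw [hB]; linarith
  -- right multiplication
  let T : R →ₗ[ℚ] R := LinearMap.mulRight ℚ α
  have hT : ∀ x y, B (T x) (T y) = q * B x y := by
    intro x y
    have e1 : ∀ x y : R, (T x) * star (T y) = q • (x * star y) := by
      intro x y
      change (x * α) * star (y * α) = _
      rw [star_mul, mul_assoc, ← mul_assoc α, hα, ← mul_assoc, ← Algebra.commutes, mul_assoc,
        Algebra.smul_def]
    rw [hB, hB, e1, e1, map_smul, map_smul, smul_eq_mul, smul_eq_mul, mul_add]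
  let M := LinearMap.toMatrix b b T
  have hM : Mᵀ * Matrix.diagonal d * M = q • Matrix.diagonal d := by
    have hBmat : ∀ x y : R, B x y = ∑ i, d i * b.repr x i * b.repr y i := by
      intro x y
      conv_lhs => rw [← b.sum_repr x, ← b.sum_repr y]
      simp only [map_sum, LinearMap.sum_apply, map_smul, LinearMap.smul_apply, smul_eq_mul]
      refine Finset.sum_congr rfl fun i _ => ?_
      rw [Finset.sum_eq_single i]
      · simp only [d]; ring
      · intro j _ hji
        have hji' : B (b j) (b i) = 0 := hb hji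
        rw [hji', mul_zero]
      · simp
    ext j k
    rw [Matrix.mul_apply, Matrix.smul_apply, Matrix.diagonal_apply]
    have h1 := hT (b j) (b k)
    rw [hBmat (T (b j)) (T (b k))] at h1
    have h2 : B (b j) (b k) = if j = k then d j else 0 := by
      split_ifs with h
      · subst h; rfl
      · exact hb h
    rw [h2] at h1
    rw [smul_eq_mul, ← h1]
    refine Finset.sum_congr rfl fun i _ => ?_
    rw [Matrix.mul_diagonal, Matrix.transpose_apply]
    have hMr : ∀ i j, M i j = b.repr (T (b j)) i := fun i j => LinearMap.toMatrix_apply b b T i j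
    rw [hMr, hMr]
    ring
  -- the eigenvalue
  have hnorm : ∀ ρ : Algebra.adjoin ℚ ({α} : Set R) →ₐ[ℚ] ℂ,
      ‖ρ ⟨α, Algebra.self_mem_adjoin_singleton ℚ α⟩‖ ^ 2 = (q : ℝ) := by
    intro ρ
    set a : Algebra.adjoin ℚ ({α} : Set R) := ⟨α, Algebra.self_mem_adjoin_singleton ℚ α⟩ with ha
    have hpT : Polynomial.aeval T T.charpoly = 0 := LinearMap.aeval_self_charpoly T
    have hpα : Polynomial.aeval α T.charpoly = 0 := by
      have h1 : ∀ p : Polynomial ℚ, Polynomial.aeval T p 1 = Polynomial.aeval α p := by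
        intro p
        have h2 : ∀ (n : ℕ) , (T ^ n) 1 = α ^ n := by
          intro n
          induction n with
          | zero => simp
          | succ n ih =>
            rw [pow_succ', Module.End.mul_apply, ih]
            exact (pow_succ α n).symm
        induction p using Polynomial.induction_on' with
        | add p r hp hr => rw [map_add, map_add, LinearMap.add_apply, hp, hr]
        | monomial n c =>
          rw [Polynomial.aeval_monomial, Polynomial.aeval_monomial, Module.End.mul_apply, h2,
            Module.algebraMap_end_apply, Algebra.smul_def]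
      rw [← h1, hpT, LinearMap.zero_apply]
    have hpa : Polynomial.aeval a T.charpoly = 0 := by
      apply Subtype.val_injective
      have := Polynomial.aeval_algHom_apply (Algebra.adjoin ℚ ({α} : Set R)).val a T.charpoly
      rw [← Subalgebra.val_apply, ← this]
      simpa [ha] using hpα
    have hpl : Polynomial.aeval (ρ a) T.charpoly = 0 := by
      rw [Polynomial.aeval_algHom_apply, hpa, map_zero]
    have hroot : ((M.map (algebraMap ℚ ℂ)).charpoly).eval (ρ a) = 0 := by
      rw [Matrix.charpoly_map, Polynomial.eval_map, LinearMap.charpoly_toMatrix]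
      exact hpl
    rw [Matrix.eval_charpoly] at hroot
    obtain ⟨v, hv, hv0⟩ := Matrix.exists_mulVec_eq_zero_iff.2 hroot
    refine norm_sq_of_similitude M d hd q hM (ρ a) v hv ?_
    rw [Matrix.sub_mulVec, sub_eq_zero] at hv0
    rw [← hv0]
    simp [Matrix.scalar_apply, ← Matrix.smul_one_eq_diagonal, Matrix.smul_mulVec]
  -- membership
  have hmem : star α ∈ Algebra.adjoin ℚ ({α} : Set R) := by
    by_cases hq : q = 0
    · have h0 : α = 0 := by
        by_contra h
        have := hpos α h
        rw [hα, hq, map_zero, map_zero] at this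
        exact lt_irrefl _ this
      rw [h0, star_zero]
      exact Subalgebra.zero_mem _
    · set A := Algebra.adjoin ℚ ({α} : Set R)
      set a : A := ⟨α, Algebra.self_mem_adjoin_singleton ℚ α⟩ with ha
      -- left multiplication by `a` on `A` is injective
      haveI : Module.Finite ℚ A := Module.Finite.of_injective A.val.toLinearMap Subtype.val_injective
      have hu : ∃ u : R, u * α = 1 := by
        have h1 : α * (q⁻¹ • star α) = 1 := by
          rw [mul_smul_comm, hα, Algebra.smul_def, ← map_mul, inv_mul_cancel₀ hq, map_one]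
        have : IsArtinianRing R := IsArtinianRing.of_finite ℚ R
        have : IsNoetherianRing R := IsNoetherianRing.of_finite ℚ R
        exact ⟨_, mul_eq_one_comm.1 h1⟩
      obtain ⟨u, hu⟩ := hu
      have hinj : Function.Injective (LinearMap.mulLeft ℚ a) := by
        rw [injective_iff_map_eq_zero]
        intro x hx
        have h1 : α * (x : R) = 0 := congrArg Subtype.val hx
        apply Subtype.val_injective
        have h2 : u * (α * (x : R)) = 0 := by rw [h1, mul_zero]
        rwa [← mul_assoc, hu, one_mul] at h2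
      obtain ⟨x, hx⟩ := (LinearMap.injective_iff_surjective.1 hinj) (algebraMap ℚ A q)
      have h1 : α * (x : R) = algebraMap ℚ R q := congrArg Subtype.val hx
      have h2 : star α = x := by
        have h3 : u * (α * star α) = u * (α * (x : R)) := by rw [h1, hα]
        rwa [← mul_assoc, hu, one_mul, ← mul_assoc, hu, one_mul] at h3
      rw [h2]; exact x.2
  refine ⟨hmem, fun ρ => ⟨?_, hnorm ρ⟩⟩
  have h1 := hnorm ρ
  set a : Algebra.adjoin ℚ ({α} : Set R) := ⟨α, Algebra.self_mem_adjoin_singleton ℚ α⟩ with ha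
  set a' : Algebra.adjoin ℚ ({α} : Set R) := ⟨star α, hmem⟩ with ha'
  have h2 : ρ a * ρ a' = (q : ℂ) := by
    rw [← map_mul]
    have : a * a' = algebraMap ℚ _ q := Subtype.val_injective hα
    rw [this, AlgHom.commutes, eq_ratCast]
  have h3 : ρ a * starRingEnd ℂ (ρ a) = (q : ℂ) := by
    rw [Complex.mul_conj', ← Complex.ofReal_pow, h1, Complex.ofReal_ratCast]
  by_cases hz : ρ a = 0
  · have hq : q = 0 := by
      rw [hz, norm_zero] at h1
      have : (q : ℝ) = 0 := by rw [← h1]; norm_num
      exact_mod_cast this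
    have h0 : α = 0 := by
      by_contra h
      have := hpos α h
      rw [hα, hq, map_zero, map_zero] at this
      exact lt_irrefl _ this
    have : a' = 0 := Subtype.val_injective (by simp [ha', h0])
    rw [this, hz, map_zero, map_zero]
  · exact mul_left_cancel₀ hz (h2.trans h3.symm)

end Groth.Agent.S19356
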