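import Groth.Statements.S19357
import Groth.Agent.LefMon.K372.Limit
import Groth.Agent.LefMon.K372.BlowSurj
import Groth.Agent.Lefpen.H710.SepFin

set_option autoImplicit false
universe u
open CategoryTheory CategoryTheory.Limits AlgebraicGeometry
open LefMon

namespace Groth.Agent.S19357

/-- Let k be an algebraically closed field, X an irreducible smooth projective surface embedded in
projective r-space by a closed immersion i, (F, G) degree-d forms (d ≥ 1) spanning a Lefschetz
pencil for X with at least one member not transversal to X, and b : X' → X, ρ : X' → P^1_k the total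
space of the pencil (b a blowing up of X in the base locus, ρ the projection whose fibre at t = c is
the member X ∩ V(F + cG)); let Ω be a separable closure of the function field k(t) of P^1, X'_Ω the
geometric generic member, on which Aut(Ω/k(t)) acts by base change, and ℓ a prime invertible in k.
Then every class x of H^1(X'_Ω, Z_ℓ) = lim_ν H^1(X'_Ω, Z/ℓ^ν) which every element of Aut(Ω/k(t))
fixes up to torsion has a positive multiple equal to the pullback, along X'_Ω → X' → X, of a class
of H^1(X, Z_ℓ). In words: with rational coefficients, the monodromy invariants in H^1 of the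
geometric generic member of the pencil are contained in (hence equal to) the image of H^1 of the
surface; the reverse inclusion is formal and not stated. (The published proposition asserts more:
over the smooth locus of the pencil, the local system of vanishing cycles is canonically isomorphic
to the quotient of the first cohomology of the members by the classes coming from the surface; its
printed proof reduces that identification, by the Picard–Lefschetz formula and hard Lefschetz, to
the inclusion stated here, which it then proves. The published setting is a geometrically connected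
smooth projective surface over an arbitrary field, with the geometric monodromy over the smooth
locus, under the standing assumption that the vanishing-cycle local system is non-zero, an
assumption the proof of this inclusion uses only to make the smooth locus a strict, hence affine,
open subset of the projective line; here the field is taken algebraically closed and only the weaker
hypothesis that some member of the pencil is not transversal to X is assumed. The exactness of the
inverse-image functors involved is carried as hypotheses.) -/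
theorem result (k : Type u) [Field k] [IsAlgClosed k]
    (r : ℕ) {X : Scheme.{u}} (i : X ⟶ CohB1.ProjSpace r k) [IsClosedImmersion i] [IrreducibleSpace X]
    [SmoothOfRelativeDimension 2 (i ≫ CohB1.ProjSpace.toSpec r k)]
    (d : ℕ) (hd : 1 ≤ d) (F G : LefPen.Form r k d) (hL : LefPen.IsLefschetzPencil k 2 i d F G)
    (hsing : ∃ H ∈ LefPen.members k F G, ¬ LefPen.Transversal k 2 1 (LefPen.secToSpec i ({H} : Set (LefPen.Form r k d))))
    {X' : Scheme.{u}} (b : X' ⟶ X) (ρ : X' ⟶ CohB1.ProjSpace 1 k) (hρ : LefMon.IsPencilFibration i F G b ρ)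
    (Ω : Type u) [Field Ω] [Algebra (RatFunc k) Ω] [IsSepClosure (RatFunc k) Ω]
    [hex : ∀ σ : Ω ≃ₐ[RatFunc k] Ω, PreservesFiniteLimits (EtCoh.pull (LefMon.galAct k ρ Ω σ))]
    (hpr : PreservesFiniteLimits (EtCoh.pull (pullback.fst ρ (LefMon.geomGenPt k Ω) ≫ b)))
    (ℓ : ℕ) [Fact ℓ.Prime] (hℓ : (ℓ : k) ≠ 0)
    (x : ∀ ν : ℕ, EtAdic.Hmod (LefMon.geomFibre k ρ Ω) ℓ 1 ν) (hx : x ∈ EtAdic.Hl (LefMon.geomFibre k ρ Ω) ℓ 1)
    (hinv : ∀ σ : Ω ≃ₐ[RatFunc k] Ω, ∃ N : ℕ, 0 < N ∧
      ∀ ν : ℕ, N • (EtAdic.Hmap ℓ (LefMon.galAct k ρ Ω σ) (hex σ) 1 ν (x ν) - x ν) = 0) :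
    ∃ N : ℕ, 0 < N ∧ ∃ y : ∀ ν : ℕ, EtAdic.Hmod X ℓ 1 ν, y ∈ EtAdic.Hl X ℓ 1 ∧
      ∀ ν : ℕ, EtAdic.Hmap ℓ (pullback.fst ρ (LefMon.geomGenPt k Ω) ≫ b) hpr 1 ν (y ν) = N • x ν := by
  have hn : ∀ ν, ((ℓ ^ ν : ℕ) : k) ≠ 0 := fun ν => by
    rw [Nat.cast_pow]
    exact pow_ne_zero ν hℓ
  have hPr := Groth.Agent.Ega3B.ProjProper.isProper_toSpec r k
  obtain ⟨c, hc, y, hy1, hy2⟩ := K372.Limit.main hd hL hρ Ω ℓ hℓ
    (fun ν => K372.BlowSurj.surjective_b hL hρ (ℓ ^ ν) (pow_pos (Fact.out : ℓ.Prime).pos ν) (hn ν))
    (fun ν => Groth.Agent.Lefpen.H710.SepFin.finite_H k (i ≫ CohB1.ProjSpace.toSpec r k) (ℓ ^ ν) (hn ν) 1)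
    x ((Groth.Agent.Lefpen.H527.HlMem.mem_Hl_iff _ ℓ 1 x).1 hx)
    (fun σ => by
      obtain ⟨N, hN, h⟩ := hinv σ
      exact ⟨N, hN, fun ν => Groth.Agent.Lefpen.H527.AdicConv.diff_conv ℓ _ (hex σ) 1 ν N (x ν) (h ν)⟩)
  exact ⟨c, hc, y, Groth.Agent.Lefpen.H527.AdicConv.mem_Hl_of ℓ 1 y hy1, hy2⟩

end Groth.Agent.S19357
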