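import Groth.Statements.S19359
import Groth.Agent.Instab.K979.Top

set_option autoImplicit false
universe u
open CategoryTheory Opposite Instab
open Instab Instab.Fan

namespace Groth.Agent.S19359

/-- A formal fan G is quasi-separated (the fibre product of any two of its cones is a bounded fan) if
and only if, for every bounded formal fan F, every map of fans F ⟶ G is bounded (its base change
along each cone of G is a bounded fan). -/
theorem result (G : Fan.{u}) :
    G.IsQuasiSeparated ↔
      ∀ (F : Fan.{u}) (f : F ⟶ G), F.IsBounded → Fan.IsBoundedMap f := by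
  classical
  constructor
  · intro hG F f hF n σ
    obtain ⟨s, hs⟩ := hF
    -- for each cone of `s`, a finite cover of the fibre product with `σ`
    have h : ∀ e : Σ k : ICone, F.obj (op k), ∃ t : Finset (Σ k : ICone,
        (Limits.pullback (coneMap (f.app _ e.2)) (coneMap σ)).obj (op k)),
        ∀ x : P (Limits.pullback (coneMap (f.app _ e.2)) (coneMap σ)), ∃ e' ∈ t, x ∈ P.cell e'.2 :=
      fun e => hG e.1 n (f.app _ e.2) σ
    choose t ht using h
    -- the comparison map of fibre products
    have hcomp : ∀ e : Σ k : ICone, F.obj (op k), coneMap e.2 ≫ f = coneMap (f.app _ e.2) := by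
      intro e
      apply NatTrans.ext
      funext k
      apply ConcreteCategory.hom_ext
      intro φ
      exact NatTrans.naturality_apply f φ.down.op e.2
    let g : ∀ e : Σ k : ICone, F.obj (op k), Limits.pullback (coneMap (f.app _ e.2)) (coneMap σ) ⟶
        Limits.pullback f (coneMap σ) := fun e =>
      Limits.pullback.lift (Limits.pullback.fst _ _ ≫ coneMap e.2) (Limits.pullback.snd _ _) (by
        rw [Category.assoc, hcomp]
        exact Limits.pullback.condition)
    refine ⟨s.biUnion fun e => (t e).image fun e' => ⟨e'.1, (g e).app _ e'.2⟩, fun x => ?_⟩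
    obtain ⟨m, c, y, rfl⟩ := K979.Fan.P_ind x
    obtain ⟨e, he, w, hw⟩ := hs (P.mk ((Limits.pullback.fst f (coneMap σ)).app _ c) y)
    rw [K979.Fan.P_mk_eq_mk_iff] at hw
    obtain ⟨k, φ, φ', z, h1, h2, h3⟩ := hw
    -- the cone of the fibre product over `σ`
    have h4 : (coneMap (f.app _ e.2)).app (op k) (K979.Fan.ymk φ) = (coneMap σ).app (op k)
        ((uliftYoneda.{u}.obj n).map φ'.op ((Limits.pullback.snd f (coneMap σ)).app _ c)) := by
      rw [NatTrans.naturality_apply, ← K979.Fan.pullback_condition_app, K979.Fan.coneMap_app,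
        ← NatTrans.naturality_apply, ← NatTrans.naturality_apply, h1]
    obtain ⟨d, hd1, hd2⟩ := K979.Fan.exists_pullback _ _ _ _ h4
    have h5 : (g e).app (op k) d = (Limits.pullback f (coneMap σ)).map φ'.op c := by
      have hext : ∀ a b : (Limits.pullback f (coneMap σ)).obj (op k),
          (Limits.pullback.fst f (coneMap σ)).app _ a = (Limits.pullback.fst f (coneMap σ)).app _ b →
          (Limits.pullback.snd f (coneMap σ)).app _ a = (Limits.pullback.snd f (coneMap σ)).app _ b →
          a = b := fun a b h1 h2 =>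
        Limits.Types.ext_of_isPullback (Functor.map_isPullback ((evaluation _ _).obj (op k))
          (IsPullback.of_hasPullback f (coneMap σ))) h1 h2
      apply hext
      · have h6 : (Limits.pullback.fst f (coneMap σ)).app (op k) ((g e).app (op k) d) =
            (g e ≫ Limits.pullback.fst f (coneMap σ)).app (op k) d := rfl
        rw [h6, Limits.pullback.lift_fst, NatTrans.naturality_apply, ← h1]
        change (coneMap e.2).app (op k)
          ((Limits.pullback.fst (coneMap (f.app _ e.2)) (coneMap σ)).app (op k) d) = _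
        rw [hd1]
        exact K979.Fan.coneMap_app e.2 φ
      · have h6 : (Limits.pullback.snd f (coneMap σ)).app (op k) ((g e).app (op k) d) =
            (g e ≫ Limits.pullback.snd f (coneMap σ)).app (op k) d := rfl
        rw [h6, Limits.pullback.lift_snd, NatTrans.naturality_apply, ← hd2]
    obtain ⟨e', he', w', hw'⟩ := ht e (P.mk d z)
    refine ⟨⟨e'.1, (g e).app _ e'.2⟩, Finset.mem_biUnion.mpr ⟨e, he,
      Finset.mem_image.mpr ⟨e', he', rfl⟩⟩, w', ?_⟩
    have h7 : P.map (g e) (P.mk e'.2 w') = P.map (g e) (P.mk d z) := by rw [hw']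
    rw [K979.Fan.P_map_mk, K979.Fan.P_map_mk, h5, K979.Fan.P_mk_map] at h7
    rw [h7]
    exact (K979.Fan.P_mk_ray c h3).symm
  · intro h n₀ n₁ σ₀ σ₁
    refine h _ (coneMap σ₀) ?_ n₁ σ₁
    refine ⟨{⟨n₀, K979.Fan.ymk (𝟙 n₀)⟩}, fun x => ⟨_, Finset.mem_singleton_self _, ?_⟩⟩
    obtain ⟨k, ξ, v, rfl⟩ := K979.Fan.P_ind x
    refine ⟨K979.Fan.omap ξ.down v, ?_⟩
    rw [K979.Fan.yoneda_mk_eq_iff, K979.Fan.ymk_down, K979.Fan.omap_id]
    exact K979.Fan.Ray.refl _

end Groth.Agent.S19359
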