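import Groth.Statements.S19362
import Groth.Agent.Instab.K979.Top

set_option autoImplicit false
universe u
open CategoryTheory Opposite Instab
open Instab Instab.Fan

namespace Groth.Agent.S19362

/-- Let f : F ⟶ G be a map of formal fans. (1) The image of the induced map P F → P G is the image of
the projective realization of the image sub-fan of f. (2) For a map g : G' ⟶ G, the image of the
projective realization of the base change F ×_G G' ⟶ G' is the preimage, under P G' → P G, of the
image of P F → P G. -/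
theorem result {F G G' : Fan.{u}} (f : F ⟶ G) (g : G' ⟶ G) :
    Set.range (Fan.P.map f) = Set.range (Fan.P.map (Subfunctor.range f).ι) ∧
    Set.range (Fan.P.map (Limits.pullback.snd f g)) = Fan.P.map g ⁻¹' Set.range (Fan.P.map f) := by
  constructor
  · ext y
    constructor
    · rintro ⟨x, rfl⟩
      obtain ⟨n, ξ, v, rfl⟩ := K979.Fan.P_ind x
      exact ⟨P.mk (⟨f.app _ ξ, ⟨ξ, rfl⟩⟩ : (Subfunctor.range f).toFunctor.obj (op n)) v, rfl⟩
    · rintro ⟨x, rfl⟩
      obtain ⟨n, ⟨ξ, ξ', hξ⟩, v, rfl⟩ := K979.Fan.P_ind x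
      refine ⟨P.mk ξ' v, ?_⟩
      subst hξ
      rfl
  · ext y
    constructor
    · rintro ⟨x, rfl⟩
      refine ⟨P.map (Limits.pullback.fst f g) x, ?_⟩
      obtain ⟨n, ξ, v, rfl⟩ := K979.Fan.P_ind x
      rw [K979.Fan.P_map_mk, K979.Fan.P_map_mk, K979.Fan.P_map_mk, K979.Fan.P_map_mk,
        K979.Fan.pullback_condition_app]
    · rintro ⟨x, hx⟩
      obtain ⟨z, -, hz⟩ := K979.Fan.exists_P_pullback_lift f g x y hx
      exact ⟨z, hz⟩

end Groth.Agent.S19362
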