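import Groth.Statements.S19363
import Groth.Agent.Instab.K979.Top

set_option autoImplicit false
universe u
open CategoryTheory Opposite Instab
open Instab Instab.Fan

namespace Groth.Agent.S19363

/-- Let ψ : F ⟶ G be a bounded map of formal fans. Then the induced map P F → P G is a closed map whose
fibres are finite, and its image meets each rational simplex of P G in a finite union of closed
rational sub-simplices: for every n-cone ξ of G there are finitely many cone morphisms φ into [n]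
such that a nonzero nonnegative vector v of ℝ^n gives a point of the image exactly when v is a
positive multiple of φ y for one of these φ and some nonzero nonnegative y. -/
theorem result {F G : Fan.{u}} (ψ : F ⟶ G)
    (hψ : Fan.IsBoundedMap ψ) :
    IsClosedMap (Fan.P.map ψ) ∧ (∀ y : Fan.P G, (Fan.P.map ψ ⁻¹' {y}).Finite) ∧
    ∀ (n : ICone) (ξ : G.obj (op n)), ∃ s : Finset (Σ k : ICone, k ⟶ n),
      {v : Fan.Orth n | Fan.P.mk ξ v ∈ Set.range (Fan.P.map ψ)} =
        ⋃ e ∈ s, {v : Fan.Orth n | ∃ (y : Fan.Orth e.1) (c : ℝ), 0 < c ∧ v.1 = c • e.2.realMap y.1} := by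
  classical
  refine ⟨K979.Fan.IsBoundedMap.isClosedMap hψ, ?_, ?_⟩
  · intro y
    obtain ⟨n, ξ, v, rfl⟩ := K979.Fan.P_ind y
    obtain ⟨s, -, hs⟩ := K979.Fan.IsBoundedMap.exists_finset hψ n ξ
    -- each sub-cone contributes at most one point
    let T : (Σ k : ICone, F.obj (op k) × (k ⟶ n)) → Set (P F) := fun e =>
      {x | ∃ y : Orth e.1, x = P.mk e.2.1 y ∧ K979.Fan.Ray v (K979.Fan.omap e.2.2 y)}
    have hT : ∀ e, (T e).Subsingleton := by
      rintro e x ⟨y, rfl, h⟩ x' ⟨y', rfl, h'⟩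
      exact K979.Fan.P_mk_ray _ (K979.Fan.Ray.of_omap e.2.2 (h.symm.trans h'))
    have hsub : (Fan.P.map ψ ⁻¹' {P.mk ξ v}) ⊆ ⋃ e ∈ s, T e := by
      intro x hx
      obtain ⟨e, he, y, h1, h2⟩ := (hs x v).mp hx
      exact Set.mem_iUnion₂.mpr ⟨e, he, y, h1, h2⟩
    exact (s.finite_toSet.biUnion fun e _ => (hT e).finite).subset hsub
  · intro n ξ
    obtain ⟨s, -, hs⟩ := K979.Fan.IsBoundedMap.exists_finset hψ n ξ
    refine ⟨s.image fun e => ⟨e.1, e.2.2⟩, ?_⟩
    ext v
    simp only [Set.mem_ofPred_eq, Set.mem_iUnion, exists_prop, Set.mem_range]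
    constructor
    · rintro ⟨x, hx⟩
      obtain ⟨e, he, y, -, c, hc, h2⟩ := (hs x v).mp hx
      exact ⟨_, Finset.mem_image_of_mem _ he, y, c, hc, h2⟩
    · rintro ⟨e, he, y, c, hc, h2⟩
      obtain ⟨e', he', rfl⟩ := Finset.mem_image.mp he
      exact ⟨P.mk e'.2.1 y, (hs _ v).mpr ⟨e', he', y, rfl, c, hc, h2⟩⟩

end Groth.Agent.S19363
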