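import Groth.Statements.S19365
import Groth.Agent.Instab.K979.Top

set_option autoImplicit false
universe u
open CategoryTheory Opposite Instab
open Instab Instab.Fan

namespace Groth.Agent.S19365

/-- Let F ⟶ G be a map of formal fans which is bounded and injective on n-cones for every n (a bounded
sub-fan). Then the induced map P F → P G is a closed embedding. (The description of its preimage
under a rational simplex as a finite union of rational sub-simplices is the corresponding assertion
for bounded maps and is not repeated here.) -/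
theorem result {F G : Fan.{u}} (ψ : F ⟶ G)
    (hψ : Fan.IsBoundedMap ψ) (hinj : ∀ n : ICone, Function.Injective (ψ.app (op n))) :
    Topology.IsClosedEmbedding (Fan.P.map ψ) := by
  refine Topology.IsClosedEmbedding.of_continuous_injective_isClosedMap
    (K979.Fan.continuous_P_map ψ) ?_ (K979.Fan.IsBoundedMap.isClosedMap hψ)
  intro x y h
  obtain ⟨n, ξ, v, rfl⟩ := K979.Fan.P_ind x
  obtain ⟨n', ξ', v', rfl⟩ := K979.Fan.P_ind y
  rw [K979.Fan.P_map_mk, K979.Fan.P_map_mk, K979.Fan.P_mk_eq_mk_iff] at h
  obtain ⟨k, φ, φ', z, e, h1, h2⟩ := h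
  rw [K979.Fan.P_mk_eq_mk_iff]
  refine ⟨k, φ, φ', z, hinj k ?_, h1, h2⟩
  rw [NatTrans.naturality_apply, NatTrans.naturality_apply]
  exact e

end Groth.Agent.S19365
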