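import Groth.Statements.S19367
import Groth.Agent.Instab.K979.Top2

set_option autoImplicit false
universe u
open CategoryTheory Opposite Instab
open Instab Instab.Fan

namespace Groth.Agent.S19367

/-- Let ψ : F ⟶ G be a map of formal fans with F quasi-separated. Then injectivity of the induced map P
F → P G is equivalent to its injectivity on the rational points of P F. -/
theorem result {F G : Fan.{u}} (ψ : F ⟶ G)
    (hF : F.IsQuasiSeparated) :
    Function.Injective (Fan.P.map ψ) ↔
      ∀ x y : Fan.P F, x.IsRational → y.IsRational → Fan.P.map ψ x = Fan.P.map ψ y → x = y := by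
  constructor
  · intro h x y _ _ hxy
    exact h hxy
  · intro h x y hxy
    obtain ⟨n, ξ, v, rfl⟩ := K979.Fan.P_ind x
    obtain ⟨n', ξ', v', rfl⟩ := K979.Fan.P_ind y
    rw [K979.Fan.P_map_mk, K979.Fan.P_map_mk, K979.Fan.P_mk_eq_mk_iff] at hxy
    obtain ⟨k, φ, φ', z, e, h1, h2⟩ := hxy
    rw [K979.Fan.P_mk_ray ξ h1, K979.Fan.P_mk_ray ξ' h2, ← K979.Fan.P_mk_map, ← K979.Fan.P_mk_map]
    rw [← NatTrans.naturality_apply, ← NatTrans.naturality_apply] at e
    generalize F.map φ.op ξ = a at e ⊢
    generalize F.map φ'.op ξ' = b at e ⊢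
    have hcl := K979.Fan.IsQuasiSeparated.isClosed_agree hF a b
    refine K979.Fan.eq_univ_of_isClosed _ hcl ?_ z
    intro w χ hw
    refine h _ _ (K979.Fan.isRational_mk_of_ray a w χ hw) (K979.Fan.isRational_mk_of_ray b w χ hw) ?_
    rw [K979.Fan.P_map_mk, K979.Fan.P_map_mk, e]

end Groth.Agent.S19367
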