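import Groth.Statements.S19368
import Groth.Agent.Instab.K979.Top

set_option autoImplicit false
universe u
open CategoryTheory Opposite Instab
open Instab Instab.Fan

namespace Groth.Agent.S19368

/-- Let F be a formal fan; a subset of P F is realizable when it is the image of the projective
realization of some sub-fan of F. The intersection of two realizable subsets is realizable, and the
union of an arbitrary family of realizable subsets is realizable. -/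
theorem result (F : Fan.{u}) :
    (∀ U V : Set (Fan.P F), Fan.IsRealizable U → Fan.IsRealizable V → Fan.IsRealizable (U ∩ V)) ∧
    ∀ (ι : Type u) (U : ι → Set (Fan.P F)), (∀ i, Fan.IsRealizable (U i)) →
      Fan.IsRealizable (Set.iUnion U) := by
  constructor
  · rintro U V ⟨S, rfl⟩ ⟨T, rfl⟩
    refine ⟨S ⊓ T, ?_⟩
    ext x
    constructor
    · rintro ⟨⟨a, rfl⟩, ⟨b, hb⟩⟩
      obtain ⟨n, ⟨ξ, hξ⟩, v, rfl⟩ := K979.Fan.P_ind a
      obtain ⟨n', ⟨ξ', hξ'⟩, v', rfl⟩ := K979.Fan.P_ind b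
      change P.mk ξ' v' = P.mk ξ v at hb
      obtain ⟨k, φ, φ', z, e, h1, h2⟩ := K979.Fan.P_mk_eq_mk_iff.mp hb
      have hm : F.map φ'.op ξ ∈ (S ⊓ T).obj (op k) := by
        constructor
        · exact S.map φ'.op hξ
        · rw [← e]; exact T.map φ.op hξ'
      refine ⟨P.mk (⟨_, hm⟩ : (S ⊓ T).toFunctor.obj (op k)) z, ?_⟩
      change P.mk (F.map φ'.op ξ) z = P.mk ξ v
      rw [K979.Fan.P_mk_map]
      exact (K979.Fan.P_mk_ray ξ h2).symm
    · rintro ⟨a, rfl⟩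
      obtain ⟨n, ⟨ξ, hξ⟩, v, rfl⟩ := K979.Fan.P_ind a
      exact ⟨⟨P.mk (⟨ξ, hξ.1⟩ : S.toFunctor.obj (op n)) v, rfl⟩,
        ⟨P.mk (⟨ξ, hξ.2⟩ : T.toFunctor.obj (op n)) v, rfl⟩⟩
  · intro ι U hU
    choose S hS using hU
    refine ⟨⨆ i, S i, ?_⟩
    ext x
    constructor
    · intro hx
      obtain ⟨i, hi⟩ := Set.mem_iUnion.mp hx
      rw [hS i] at hi
      obtain ⟨a, rfl⟩ := hi
      obtain ⟨n, ⟨ξ, hξ⟩, v, rfl⟩ := K979.Fan.P_ind a
      have hm : ξ ∈ (⨆ i, S i).obj (op n) := by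
        rw [Subfunctor.iSup_obj]
        exact Set.mem_iUnion.mpr ⟨i, hξ⟩
      exact ⟨P.mk (⟨ξ, hm⟩ : (⨆ i, S i).toFunctor.obj (op n)) v, rfl⟩
    · rintro ⟨a, rfl⟩
      obtain ⟨n, ⟨ξ, hξ⟩, v, rfl⟩ := K979.Fan.P_ind a
      rw [Subfunctor.iSup_obj] at hξ
      obtain ⟨i, hi⟩ := Set.mem_iUnion.mp hξ
      refine Set.mem_iUnion.mpr ⟨i, ?_⟩
      rw [hS i]
      exact ⟨P.mk (⟨ξ, hi⟩ : (S i).toFunctor.obj (op n)) v, rfl⟩

end Groth.Agent.S19368
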