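import Groth.Statements.S19369
import Groth.Agent.Instab.K979.Top2

set_option autoImplicit false
universe u
open CategoryTheory Opposite Instab
open Instab Instab.Fan

namespace Groth.Agent.S19369

/-- Let F be a quasi-separated formal fan and let (x i) be a sequence in P F converging to a point x.
Then there are an n-cone σ of F and a subsequence of (x i) whose terms lift to nonzero nonnegative
vectors of ℝ^n, mapping to them under the rational simplex of σ, such that the lifts converge to a
vector that lifts x. -/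
theorem result (F : Fan.{u}) (hF : F.IsQuasiSeparated)
    (x : ℕ → Fan.P F) (x₀ : Fan.P F) (hx : Filter.Tendsto x Filter.atTop (nhds x₀)) :
    ∃ (n : ICone) (σ : F.obj (op n)) (r : ℕ → ℕ) (v : ℕ → Fan.Orth n) (v₀ : Fan.Orth n),
      StrictMono r ∧ (∀ j, Fan.P.mk σ (v j) = x (r j)) ∧ Fan.P.mk σ v₀ = x₀ ∧
        Filter.Tendsto v Filter.atTop (nhds v₀) := by
  classical
  -- either the sequence takes the value `x₀` infinitely often, or we may drop these terms
  by_cases hinf : ∀ N, ∃ m, N ≤ m ∧ x m = x₀
  · obtain ⟨n, ξ, v, hv⟩ := K979.Fan.P_ind x₀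
    obtain ⟨r, hr, hr'⟩ := Filter.extraction_of_frequently_atTop
      (Filter.frequently_atTop.mpr hinf)
    exact ⟨n, ξ, r, fun _ => v, v, hr, fun j => by rw [hr', hv], hv.symm, tendsto_const_nhds⟩
  · push Not at hinf
    obtain ⟨N, hN⟩ := hinf
    have hpt : ∀ z : P F, IsClosed ({z} : Set (P F)) := fun z =>
      K979.Fan.IsQuasiSeparated.isClosed_singleton hF z
    -- the set of terms is not closed
    let A : Set (P F) := {z | ∃ m, N ≤ m ∧ x m = z}
    have hx₀A : x₀ ∉ A := fun ⟨m, hm, h⟩ => hN m hm h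
    have hA : ¬ IsClosed A := by
      intro hA
      have h1 := hx.eventually (hA.isOpen_compl.mem_nhds hx₀A)
      obtain ⟨m, hm⟩ := Filter.eventually_atTop.mp h1
      exact hm (max m N) (le_max_left _ _) ⟨_, le_max_right _ _, rfl⟩
    rw [K979.Fan.isClosed_iff] at hA
    push Not at hA
    obtain ⟨n, σ, hσ⟩ := hA
    -- a convergent sequence of lifts leaving the set
    have hfc : FirstCountableTopology (Orth n) := inferInstanceAs
      (FirstCountableTopology {v : Fin n.dim → ℝ // (∀ i, 0 ≤ v i) ∧ v ≠ 0})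
    have hseq : ¬ IsSeqClosed {v : Orth n | P.mk σ v ∈ A} := fun h => hσ h.isClosed
    rw [IsSeqClosed] at hseq
    push Not at hseq
    obtain ⟨v, v₀, hv, hv₀, hvA⟩ := hseq
    choose r hr hrv using hv
    -- each index occurs only finitely often
    have hfin : ∀ m, ∀ᶠ j in Filter.atTop, r j ≠ m := by
      intro m
      by_contra hfr
      have hfr' : ∃ᶠ j in Filter.atTop, r j = m := by
        rw [Filter.Frequently]
        exact hfr
      have hNm : N ≤ m := by
        obtain ⟨j, hj⟩ := hfr'.exists
        rw [← hj]; exact hr j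
      have hcl : IsClosed {w : Orth n | P.mk σ w = x m} :=
        (hpt (x m)).preimage (K979.Fan.continuous_mk σ)
      have h1 : v₀ ∈ {w : Orth n | P.mk σ w = x m} := by
        refine hcl.mem_of_frequently_of_tendsto (hfr'.mono fun j hj => ?_) hv₀
        change P.mk σ (v j) = x m
        rw [← hrv j, hj]
      exact hvA ⟨m, hNm, h1.symm⟩
    have hrt : Filter.Tendsto r Filter.atTop Filter.atTop := by
      rw [Filter.tendsto_atTop]
      intro b
      have h1 : ∀ᶠ j in Filter.atTop, ∀ m ∈ Finset.range b, r j ≠ m :=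
        (Finset.eventually_all (Finset.range b)).mpr fun m _ => hfin m
      filter_upwards [h1] with j hj
      by_contra hlt
      push Not at hlt
      exact hj (r j) (Finset.mem_range.mpr hlt) rfl
    obtain ⟨s, hs, hrs⟩ := Filter.strictMono_subseq_of_tendsto_atTop hrt
    have hvs : Filter.Tendsto (v ∘ s) Filter.atTop (nhds v₀) := hv₀.comp hs.tendsto_atTop
    refine ⟨n, σ, r ∘ s, v ∘ s, v₀, hrs, fun j => (hrv (s j)).symm, ?_, hvs⟩
    -- the limit of the lifts lifts the limit
    by_contra hne
    -- the rays of the lifts and of their limit form a closed set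
    let K : Set (Orth n) := insert v₀ (Set.range (v ∘ s))
    have hK : IsCompact K := hvs.isCompact_insert_range
    let S : Set (Orth n) := {w | ∃ u ∈ K, K979.Fan.Ray w u}
    have hS : IsClosed S := by
      have h1 : IsClosed {q : Orth n × Orth n | K979.Fan.Ray q.1 q.2} :=
        K979.Fan.isClosed_ray continuous_fst continuous_snd
      rw [← isOpen_compl_iff, isOpen_iff_mem_nhds]
      intro w hw
      -- tube lemma
      have h4 : ∀ u ∈ K, ¬ K979.Fan.Ray w u := fun u hu h => hw ⟨u, hu, h⟩
      have h5 : {w} ×ˢ K ⊆ {q : Orth n × Orth n | K979.Fan.Ray q.1 q.2}ᶜ := by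
        rintro ⟨w', u⟩ ⟨hw', hu⟩ h
        rw [Set.mem_singleton_iff] at hw'
        simp only at hw'
        subst hw'
        exact h4 u hu h
      obtain ⟨U, V, hU, hV, hwU, hKV, hUV⟩ :=
        generalized_tube_lemma isCompact_singleton hK h1.isOpen_compl h5
      refine Filter.mem_of_superset (hU.mem_nhds (hwU rfl)) ?_
      rintro w' hw' ⟨u, hu, h⟩
      exact hUV (Set.mk_mem_prod hw' (hKV hu)) h
    have hcl := K979.Fan.IsQuasiSeparated.isClosed_image hF σ S hS
      (fun a b hab ⟨u, hu, h⟩ => ⟨u, hu, hab.trans h⟩)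
    have hx₀S : x₀ ∉ P.mk σ '' S := by
      rintro ⟨w, ⟨u, hu, h⟩, hw⟩
      rw [K979.Fan.P_mk_ray σ h] at hw
      rcases hu with rfl | ⟨j, rfl⟩
      · exact hne hw
      · refine hx₀A ⟨r (s j), hr _, ?_⟩
        rw [hrv, ← hw]
        rfl
    have h6 := (hx.comp hrs.tendsto_atTop).eventually (hcl.isOpen_compl.mem_nhds hx₀S)
    obtain ⟨m, hm⟩ := h6.exists
    refine hm ⟨v (s m), ⟨v (s m), Or.inr ⟨m, rfl⟩, K979.Fan.Ray.refl _⟩, ?_⟩
    exact (hrv (s m)).symm

end Groth.Agent.S19369
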