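import Groth.Statements.S19370
import Groth.Agent.Instab.K979.Cvx

set_option autoImplicit false
universe u v
open CategoryTheory Opposite Instab
open Instab Instab.Fan

namespace Groth.Agent.S19370

/-- Let F be a formal fan, U ⊆ P F a convex subset, Γ a totally ordered set and Φ : U → Γ a
quasi-concave function that is lower semicontinuous in the sense that every sublevel set {Φ ≤ c} is
closed in U. Then every rational point of U at which Φ has a local maximum is a global maximum of Φ,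
and if Φ is strictly quasi-concave there is at most one such rational point. -/
theorem result (F : Fan.{u}) (U : Set (Fan.P F))
    (hU : Fan.IsConvex U) {Γ : Type v} [LinearOrder Γ] (Φ : U → Γ) (hΦ : Fan.IsQuasiConcaveOn U Φ)
    (hlsc : ∀ c : Γ, IsClosed {x : U | Φ x ≤ c}) :
    (∀ x : U, (x : Fan.P F).IsRational → IsLocalMax Φ x → ∀ y : U, Φ y ≤ Φ x) ∧
    (Fan.IsStrictQuasiConcaveOn U Φ → ∀ x y : U, (x : Fan.P F).IsRational → (y : Fan.P F).IsRational →
      IsLocalMax Φ x → IsLocalMax Φ y → x = y) := by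
  obtain ⟨hloc, hreal, hconn⟩ := hU
  have hmax : ∀ x : U, (x : Fan.P F).IsRational → IsLocalMax Φ x → ∀ y : U, Φ y ≤ Φ x := by
    intro x hx hmx y
    by_contra hlt
    push Not at hlt
    -- a rational point with larger value
    obtain ⟨y', hy', hyr⟩ := K979.Fan.IsRealizable.exists_rational hreal {z : U | Φ z ≤ Φ x}ᶜ
      (hlsc (Φ x)).isOpen_compl ⟨y, fun h => (not_le.mpr hlt) h⟩
    have hlt' : Φ x < Φ y' := not_le.mp hy'
    have hne : (x : Fan.P F) ≠ y' := by
      intro h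
      have : x = y' := Subtype.ext h
      rw [this] at hlt'
      exact lt_irrefl _ hlt'
    obtain ⟨τ, hτ, h0, h1⟩ := hconn x y' x.2 y'.2 hx hyr hne
    have hmem : ∀ w, P.mk τ w ∈ U := fun w => hτ ⟨w, rfl⟩
    let γ : unitInterval → U := fun t =>
      ⟨P.mk τ (K979.Fan.ocomb (Orth.basis two 0) (Orth.basis two 1) t), hmem _⟩
    have hγ : Continuous γ :=
      ((K979.Fan.continuous_mk τ).comp (K979.Fan.continuous_ocomb _ _)).subtype_mk _
    obtain ⟨t, ht0, ht1, ht⟩ := K979.Fan.exists_param hmx γ hγ (Subtype.ext (by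
      change P.mk τ (K979.Fan.ocomb _ _ 0) = _
      rw [K979.Fan.ocomb_zero, h0]))
    have hq := hΦ two τ (Orth.basis two 0) (K979.Fan.ocomb (Orth.basis two 0) (Orth.basis two 1) t)
      (Orth.basis two 1) (hmem _) (hmem _) (hmem _) (fun ⟨c, hc⟩ => K979.Fan.basis_ne hc)
      ⟨1 - t, t, by linarith, ht0, K979.Fan.ocomb_val _ _ _⟩
    have e0 : (⟨P.mk τ (Orth.basis two 0), hmem _⟩ : U) = x := Subtype.ext h0
    have e1 : (⟨P.mk τ (Orth.basis two 1), hmem _⟩ : U) = y' := Subtype.ext h1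
    rw [e0, e1, min_eq_left hlt'.le] at hq
    have h2 : Φ (γ t) = Φ x := le_antisymm ht hq.1
    exact hlt'.ne (hq.2 h2)
  refine ⟨hmax, fun hstr x y hx hy hmx hmy => ?_⟩
  by_contra hne
  have hxy : Φ x = Φ y := le_antisymm (hmax y hy hmy x) (hmax x hx hmx y)
  obtain ⟨τ, hτ, h0, h1⟩ := hconn x y x.2 y.2 hx hy (fun h => hne (Subtype.ext h))
  have hmem : ∀ w, P.mk τ w ∈ U := fun w => hτ ⟨w, rfl⟩
  let t : unitInterval := ⟨1 / 2, by norm_num, by norm_num⟩
  have hq := hstr two τ (Orth.basis two 0) (K979.Fan.ocomb (Orth.basis two 0) (Orth.basis two 1) t)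
    (Orth.basis two 1) (hmem _) (hmem _) (hmem _) (fun ⟨c, hc⟩ => K979.Fan.basis_ne hc)
    ⟨1 - t, t, by norm_num [t], by norm_num [t], K979.Fan.ocomb_val _ _ _⟩
  have e0 : (⟨P.mk τ (Orth.basis two 0), hmem _⟩ : U) = x := Subtype.ext h0
  have e1 : (⟨P.mk τ (Orth.basis two 1), hmem _⟩ : U) = y := Subtype.ext h1
  rw [e0, e1, ← hxy, min_self] at hq
  exact (not_le.mpr hq) (hmax x hx hmx _)

end Groth.Agent.S19370
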