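import Groth.Statements.S19371
import Groth.Agent.Instab.K979.Cvx

set_option autoImplicit false
universe u v
open CategoryTheory Opposite Instab
open Instab Instab.Fan

namespace Groth.Agent.S19371

/-- Let F be a quasi-separated formal fan whose projective realization P F is a Hausdorff space, U ⊆ P F
a compact convex subset, Γ a totally ordered set with the order topology, and Φ : U → Γ continuous
and strictly quasi-concave. Then any two local maxima of Φ coincide, so the global maximum of Φ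
(which exists when U is nonempty, by the extreme value property of upper semicontinuous functions on
compact sets) is its unique local maximum. (The published lemma assumes only that F is
quasi-separated and derives the Hausdorff property of P F from that; this derivation does not hold
in general, and the Hausdorff property, which the published proof uses, is assumed here.) -/
theorem result (F : Fan.{u})
    (hF : F.IsQuasiSeparated) (hT2 : T2Space (Fan.P F)) (U : Set (Fan.P F)) (hUc : IsCompact U)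
    (hU : Fan.IsConvex U) {Γ : Type v} [LinearOrder Γ] [TopologicalSpace Γ] [OrderTopology Γ]
    (Φ : U → Γ) (hΦc : Continuous Φ) (hΦ : Fan.IsStrictQuasiConcaveOn U Φ) (x y : U)
    (hx : IsLocalMax Φ x) (hy : IsLocalMax Φ y) : x = y := by
  obtain ⟨hloc, hreal, hconn⟩ := hU
  wlog hxy : Φ x ≤ Φ y generalizing x y
  · exact (this y x hy hx (le_of_not_ge hxy)).symm
  by_contra hne
  -- the superlevel set of the value at `x` is closed
  let N : Set (Fan.P F) := Subtype.val '' {z : U | Φ x ≤ Φ z}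
  have hUcs : CompactSpace U := isCompact_iff_compactSpace.mp hUc
  have hN : IsCompact N := by
    have h1 : IsClosed {z : U | Φ x ≤ Φ z} := isClosed_le continuous_const hΦc
    exact h1.isCompact.image continuous_subtype_val
  have hNU : N ⊆ U := by rintro _ ⟨z, -, rfl⟩; exact z.2
  have hNmem : ∀ z (hz : z ∈ U), z ∈ N → Φ x ≤ Φ ⟨z, hz⟩ := by
    rintro _ hz ⟨z, h, rfl⟩; exact h
  -- in a simplex through `x` there is no other point of this set
  have hcell : ∀ (n : ICone) (ξ : F.obj (op n)) (v w : Orth n), P.mk ξ v = x → P.mk ξ w ∈ N →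
      P.mk ξ w = x := by
    intro n ξ v w hv hw
    by_contra hwx
    have hvU : P.mk ξ v ∈ U := by rw [hv]; exact x.2
    have hwU : P.mk ξ w ∈ U := hNU hw
    have hmem := K979.Fan.IsLocallyConvex.ocomb_mem hloc ξ v w hvU hwU
    let γ : unitInterval → U := fun t => ⟨P.mk ξ (K979.Fan.ocomb v w t), hmem t⟩
    have hγ : Continuous γ :=
      ((K979.Fan.continuous_mk ξ).comp (K979.Fan.continuous_ocomb _ _)).subtype_mk _
    obtain ⟨t, ht0, ht1, ht⟩ := K979.Fan.exists_param hx γ hγ (Subtype.ext (by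
      change P.mk ξ (K979.Fan.ocomb _ _ 0) = _
      rw [K979.Fan.ocomb_zero, hv]))
    have hq := hΦ n ξ v (K979.Fan.ocomb v w t) w hvU (hmem t) hwU (by
      rintro ⟨c, hc⟩
      have hc0 : 0 < c := by
        obtain ⟨i, hi⟩ : ∃ i, w.1 i ≠ 0 := by
          by_contra h
          push Not at h
          exact w.2.2 (funext h)
        have hwi : 0 < w.1 i := lt_of_le_of_ne (w.2.1 i) (Ne.symm hi)
        have h1 : w.1 i = c * v.1 i := congrFun hc i
        rw [h1] at hwi
        exact pos_of_mul_pos_left hwi (v.2.1 i)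
      exact hwx ((K979.Fan.P_mk_ray ξ ⟨c, hc0, hc⟩).trans hv))
      ⟨1 - t, t, by linarith, ht0, K979.Fan.ocomb_val _ _ _⟩
    have e0 : (⟨P.mk ξ v, hvU⟩ : U) = x := Subtype.ext hv
    rw [e0, min_eq_left (hNmem _ hwU hw)] at hq
    exact (not_le.mpr hq) ht
  -- so `x` is isolated in the superlevel set
  let N' : Set (Fan.P F) := N \ {(x : Fan.P F)}
  have hN' : IsClosed N' := by
    rw [K979.Fan.isClosed_iff]
    intro n ξ
    by_cases h : ∃ v, P.mk ξ v = x
    · obtain ⟨v, hv⟩ := h
      have : {w : Orth n | P.mk ξ w ∈ N'} = ∅ := by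
        ext w
        simp only [Set.mem_ofPred_eq, Set.mem_empty_iff_false, iff_false]
        rintro ⟨h1, h2⟩
        exact h2 (hcell n ξ v w hv h1)
      rw [this]
      exact isClosed_empty
    · have : {w : Orth n | P.mk ξ w ∈ N'} = {w : Orth n | P.mk ξ w ∈ N} := by
        ext w
        exact ⟨fun hw => hw.1, fun hw => ⟨hw, fun h' => h ⟨w, h'⟩⟩⟩
      rw [this]
      exact hN.isClosed.preimage (K979.Fan.continuous_mk ξ)
  have hN'c : IsCompact N' := hN.of_isClosed_subset hN' Set.diff_subset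
  have hyN' : (y : Fan.P F) ∈ N' := ⟨⟨y, hxy, rfl⟩, fun h => hne (Subtype.ext h.symm)⟩
  obtain ⟨O, O', hO, hO', hxO, hNO', hdisj⟩ :=
    SeparatedNhds.of_isCompact_isCompact (isCompact_singleton (x := (x : Fan.P F))) hN'c
      (Set.disjoint_singleton_left.mpr fun h => h.2 rfl)
  have hxO' : (x : Fan.P F) ∈ O := hxO rfl
  -- the rest of `U`
  let K : Set U := {z : U | (z : Fan.P F) ∉ O ∧ (z : Fan.P F) ∉ O'}
  have hK : IsCompact K := by
    have h1 : IsClosed {z : U | (z : Fan.P F) ∉ O} :=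
      (hO.preimage continuous_subtype_val).isClosed_compl
    have h2 : IsClosed {z : U | (z : Fan.P F) ∉ O'} :=
      (hO'.preimage continuous_subtype_val).isClosed_compl
    exact (h1.inter h2).isCompact
  have hKlt : ∀ k ∈ K, Φ k < Φ x := by
    intro k hk
    by_contra h
    push Not at h
    have hkN : (k : Fan.P F) ∈ N := ⟨k, h, rfl⟩
    by_cases hkx : (k : Fan.P F) = x
    · exact hk.1 (by rw [hkx]; exact hxO')
    · exact hk.2 (hNO' ⟨hkN, hkx⟩)
  obtain ⟨W, hW, hxW, hyW, hWK⟩ : ∃ W : Set U, IsOpen W ∧ x ∈ W ∧ y ∈ W ∧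
      ∀ z ∈ W, ∀ k ∈ K, Φ k < Φ z := by
    rcases K.eq_empty_or_nonempty with h | h
    · exact ⟨Set.univ, isOpen_univ, trivial, trivial, fun z _ k hk => by rw [h] at hk; exact hk.elim⟩
    · obtain ⟨k₀, hk₀, hmaxk⟩ := hK.exists_isMaxOn h hΦc.continuousOn
      refine ⟨{z | Φ k₀ < Φ z}, isOpen_lt continuous_const hΦc, hKlt k₀ hk₀,
        (hKlt k₀ hk₀).trans_le hxy, fun z hz k hk => (hmaxk hk).trans_lt hz⟩
  obtain ⟨x', hx', hxr⟩ := K979.Fan.IsRealizable.exists_rational hreal (W ∩ Subtype.val ⁻¹' O)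
    (hW.inter (hO.preimage continuous_subtype_val)) ⟨x, hxW, hxO'⟩
  obtain ⟨y', hy', hyr⟩ := K979.Fan.IsRealizable.exists_rational hreal (W ∩ Subtype.val ⁻¹' O')
    (hW.inter (hO'.preimage continuous_subtype_val)) ⟨y, hyW, hNO' hyN'⟩
  have hne' : (x' : Fan.P F) ≠ y' := by
    intro h
    have h1 : (x' : Fan.P F) ∈ O' := by rw [h]; exact hy'.2
    exact Set.disjoint_left.mp hdisj hx'.2 h1
  obtain ⟨τ, hτ, h0, h1⟩ := hconn x' y' x'.2 y'.2 hxr hyr hne'
  have hmem : ∀ w, P.mk τ w ∈ U := fun w => hτ ⟨w, rfl⟩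
  let γ : unitInterval → Fan.P F := fun t =>
    P.mk τ (K979.Fan.ocomb (Orth.basis two 0) (Orth.basis two 1) t)
  have hγ : Continuous γ := (K979.Fan.continuous_mk τ).comp (K979.Fan.continuous_ocomb _ _)
  have hγ0 : γ 0 = x' := by
    change P.mk τ (K979.Fan.ocomb _ _ 0) = _
    rw [K979.Fan.ocomb_zero, h0]
  have hγ1 : γ 1 = y' := by
    change P.mk τ (K979.Fan.ocomb _ _ 1) = _
    rw [K979.Fan.ocomb_one, h1]
  -- the path must leave the two open sets
  obtain ⟨t, htO, htO'⟩ : ∃ t, γ t ∉ O ∧ γ t ∉ O' := by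
    by_contra hcon
    push Not at hcon
    have hpre : IsPreconnected (Set.range γ) := isPreconnected_range hγ
    have hsub : Set.range γ ⊆ O ∪ O' := by
      rintro _ ⟨t, rfl⟩
      by_cases h : γ t ∈ O
      · exact Or.inl h
      · exact Or.inr (hcon t h)
    have h2 := hpre.subset_left_of_subset_union hO hO' hdisj hsub
      ⟨γ 0, ⟨0, rfl⟩, by rw [hγ0]; exact hx'.2⟩
    have h3 : γ 1 ∈ O := h2 ⟨1, rfl⟩
    rw [hγ1] at h3
    exact Set.disjoint_left.mp hdisj h3 hy'.2
  have ht0 : 0 < (t : ℝ) := by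
    refine lt_of_le_of_ne t.2.1 fun h => htO ?_
    have : t = 0 := Subtype.ext h.symm
    rw [this, hγ0]; exact hx'.2
  have ht1 : (t : ℝ) < 1 := by
    refine lt_of_le_of_ne t.2.2 fun h => htO' ?_
    have : t = 1 := Subtype.ext h
    rw [this, hγ1]; exact hy'.2
  have hq := hΦ two τ (Orth.basis two 0) (K979.Fan.ocomb (Orth.basis two 0) (Orth.basis two 1) t)
    (Orth.basis two 1) (hmem _) (hmem _) (hmem _) (fun ⟨c, hc⟩ => K979.Fan.basis_ne hc)
    ⟨1 - t, t, by linarith, ht0, K979.Fan.ocomb_val _ _ _⟩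
  have e0 : (⟨P.mk τ (Orth.basis two 0), hmem _⟩ : U) = x' := Subtype.ext h0
  have e1 : (⟨P.mk τ (Orth.basis two 1), hmem _⟩ : U) = y' := Subtype.ext h1
  rw [e0, e1] at hq
  have hzK : (⟨γ t, hmem _⟩ : U) ∈ K := ⟨htO, htO'⟩
  have h4 : Φ ⟨γ t, hmem _⟩ < min (Φ x') (Φ y') :=
    lt_min (hWK x' hx'.1 _ hzK) (hWK y' hy'.1 _ hzK)
  exact lt_asymm hq h4

end Groth.Agent.S19371
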