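import Groth.Statements.S19372
import Groth.Agent.Instab.K979.RFanLem

set_option autoImplicit false
open CategoryTheory Opposite Instab
open Instab Instab.Fan

namespace Groth.Agent.S19372

/-- Let K a ⊆ ℝ^N, for a in a finite index type, be cones, each expressible as finitely many rational
polyhedral cones put together (nonnegative real spans of finite sets of integer vectors). Then the
canonical map from the projective realization of the formal fan R(K) to the space of rays of ℝ^N (a
model of the sphere), sending the point given by a cone φ and a vector v to the ray of φ v, is a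
homeomorphism onto the rays through ⋃ K a: it is a topological embedding with that image. (The
published lemma also asserts that the affine realization of R(K), defined as a colimit over the
category of cones of R(K), maps homeomorphically onto ⋃ K a; that fails at the cone point, since for
the pair of coordinate rays of ℝ^2 the colimit has two origins and for ⋃ K a = 0 it is empty, and it
is not stated here.) -/
theorem result {N : ℕ} {ι : Type} [Finite ι] (K : ι → Set (Fin N → ℝ))
    (hK : ∀ a, ∃ (m : ℕ) (gen : Fin m → Finset (Fin N → ℤ)),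
      K a = Set.iUnion fun l => {x | ∃ c : (Fin N → ℤ) → ℝ, (∀ g, 0 ≤ c g) ∧
        x = Finset.sum (gen l) fun g => c g • fun j => (g j : ℝ)}) :
    ∃ g : Fan.P (RFan K) → Fan.Rays N,
      (∀ (n : ICone) (φ : (RFan K).obj (op n)) (v : Fan.Orth n) (h : RFan.toVec K n φ v.1 ≠ 0),
        g (Fan.P.mk φ v) = Quot.mk _ ⟨RFan.toVec K n φ v.1, h⟩) ∧
      Topology.IsEmbedding g ∧
      Set.range g = {r | ∃ w : {w : Fin N → ℝ // w ≠ 0}, r = Quot.mk _ w ∧ w.1 ∈ Set.iUnion K} := by
  classical
  have hK' : ∀ a, ∃ (m : ℕ) (gen : Fin m → Finset (Fin N → ℤ)),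
      K a = Set.iUnion fun l => K979.Fan.genCone (gen l) := hK
  have hex := fun a => K979.Fan.exists_finset_cone K a (hK' a)
  choose t ht using hex
  have hfin : Fintype ι := Fintype.ofFinite ι
  have hne : ∀ {n : ICone} (φ : (RFan K).obj (op n)) (v : Orth n),
      K979.Fan.rmap φ.1 v.1 ≠ 0 := fun φ v h => v.2.2
    (K979.Fan.rmap_injective φ.1 φ.2.1 (h.trans (map_zero _).symm))
  -- the map to the space of rays
  let g₀ : Pt (RFan K) → Fan.Rays N := fun p =>
    K979.Fan.raymk (K979.Fan.rmap p.1.2.1 p.2.1) (hne p.1.2 p.2)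
  have hg₀ : ∀ p q, Rel (RFan K) p q → g₀ p = g₀ q := by
    rintro _ _ ⟨φ, ξ, v, w, c, hc, h⟩
    refine K979.Fan.raymk_eq_iff.mpr ⟨c, hc, ?_⟩
    change K979.Fan.rmap ξ.1 w.1 = c • K979.Fan.rmap (ξ.1.comp φ.toLin) v.1
    rw [h, K979.Fan.realMap_eq, map_smul, K979.Fan.rmap_comp]
  let g : Fan.P (RFan K) → Fan.Rays N := Quot.lift g₀ hg₀
  have hgmk : ∀ {n : ICone} (φ : (RFan K).obj (op n)) (v : Orth n),
      g (Fan.P.mk φ v) = K979.Fan.raymk (K979.Fan.rmap φ.1 v.1) (hne φ v) := fun φ v => rfl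
  have hgcont : Continuous g := by
    refine continuous_quot_lift hg₀ ?_
    refine continuous_sigma fun e => ?_
    refine continuous_quot_mk.comp ?_
    exact ((LinearMap.continuous_of_finiteDimensional (K979.Fan.rmap e.2.1)).comp
      (K979.Fan.continuous_val e.1)).subtype_mk _
  have hginj : Function.Injective g := by
    intro x y h
    obtain ⟨n, φ, v, rfl⟩ := K979.Fan.P_ind x
    obtain ⟨n', φ', v', rfl⟩ := K979.Fan.P_ind y
    rw [hgmk, hgmk, K979.Fan.raymk_eq_iff] at h
    obtain ⟨c, hc, h⟩ := h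
    obtain ⟨k, ψ₁, ψ₂, y, e, h1, h2⟩ := K979.Fan.exists_refine φ.1 φ'.1 φ.2.1 φ'.2.1
      (K979.Fan.osmul c hc v) v' (by
        rw [K979.Fan.osmul_val, map_smul]
        exact h.symm)
    rw [K979.Fan.P_mk_eq_mk_iff]
    refine ⟨k, ψ₁, ψ₂, y, Subtype.ext e, ?_, ?_⟩
    · rw [← h1]; exact (K979.Fan.Ray.osmul c hc v).symm
    · rw [← h2]; exact K979.Fan.Ray.refl _
  -- points of the image
  have hmem : ∀ {n : ICone} (φ : (RFan K).obj (op n)) (v : Orth n),
      ∃ a, K979.Fan.rmap φ.1 v.1 ∈ K a := fun φ v => K979.Fan.rmap_mem K t ht φ v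
  have hgclosed : IsClosedMap g := by
    intro S hS
    rw [K979.Fan.isClosed_rays_iff]
    -- each cone of the finite family contributes a closed set
    have hC : ∀ e : Σ n : ICone, RFan.Cone K n, ∃ C : Set (Fin N → ℝ), IsClosed C ∧
        ∀ w : Fin N → ℝ, w ≠ 0 → (w ∈ C ↔
          ∃ v ∈ {v : Orth e.1 | (Fan.P.mk e.2 v : Fan.P (RFan K)) ∈ S}, K979.Fan.rmap e.2.1 v.1 = w) :=
      fun e => K979.Fan.isClosed_image_punctured (K979.Fan.rmap e.2.1)
        (K979.Fan.rmap_injective _ e.2.2.1) _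
          (hS.preimage (K979.Fan.continuous_mk (F := RFan K) e.2))
    choose C hC1 hC2 using hC
    have : {w : {v : Fin N → ℝ // v ≠ 0} | K979.Fan.raymk w.1 w.2 ∈ g '' S} =
        ⋃ a, ⋃ e ∈ t a, (fun w : {v : Fin N → ℝ // v ≠ 0} => w.1) ⁻¹' C e := by
      ext w
      simp only [Set.mem_preimage, Set.mem_iUnion, exists_prop, Set.mem_image, Set.mem_ofPred_eq]
      constructor
      · rintro ⟨x, hx, hxw⟩
        obtain ⟨n, φ, v, rfl⟩ := K979.Fan.P_ind x
        rw [hgmk, K979.Fan.raymk_eq_iff] at hxw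
        obtain ⟨c, hc, hxw⟩ := hxw
        obtain ⟨a, ha⟩ := hmem φ (K979.Fan.osmul c hc v)
        have hw : K979.Fan.rmap φ.1 (K979.Fan.osmul c hc v).1 = w.1 := by
          rw [K979.Fan.osmul_val, map_smul]; exact hxw.symm
        rw [hw, ht a _ w.2] at ha
        obtain ⟨e, he, v', hv'⟩ := ha
        refine ⟨a, e, he, ?_⟩
        rw [hC2 e _ w.2]
        refine ⟨v', ?_, hv'⟩
        have h1 : (Fan.P.mk e.2 v' : Fan.P (RFan K)) = Fan.P.mk φ v := by
          apply hginj
          rw [hgmk, hgmk, K979.Fan.raymk_eq_iff]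
          refine ⟨c⁻¹, inv_pos.mpr hc, ?_⟩
          rw [hv', hxw, smul_smul, inv_mul_cancel₀ hc.ne', one_smul]
        change (Fan.P.mk e.2 v' : Fan.P (RFan K)) ∈ S
        rw [h1]
        exact hx
      · rintro ⟨a, e, he, hw⟩
        rw [hC2 e _ w.2] at hw
        obtain ⟨v, hv, hvw⟩ := hw
        refine ⟨Fan.P.mk e.2 v, hv, ?_⟩
        rw [hgmk]
        exact K979.Fan.raymk_congr hvw
    rw [this]
    exact isClosed_iUnion_of_finite fun a => isClosed_biUnion_finset fun e _ =>
      (hC1 e).preimage continuous_subtype_val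
  refine ⟨g, fun n φ v h => hgmk φ v,
    (Topology.IsClosedEmbedding.of_continuous_injective_isClosedMap hgcont hginj
      hgclosed).isEmbedding, ?_⟩
  ext r
  constructor
  · rintro ⟨x, rfl⟩
    obtain ⟨n, φ, v, rfl⟩ := K979.Fan.P_ind x
    exact ⟨⟨K979.Fan.rmap φ.1 v.1, hne φ v⟩, hgmk φ v, Set.mem_iUnion.mpr (hmem φ v)⟩
  · rintro ⟨w, rfl, hw⟩
    obtain ⟨a, ha⟩ := Set.mem_iUnion.mp hw
    rw [ht a _ w.2] at ha
    obtain ⟨e, -, v, hv⟩ := ha
    refine ⟨Fan.P.mk e.2 v, ?_⟩
    rw [hgmk]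
    exact K979.Fan.raymk_congr hv

end Groth.Agent.S19372
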