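import Groth.Statements.S19374
import Groth.Agent.Instab.K979.Top

set_option autoImplicit false
universe u
open CategoryTheory Opposite Instab
open Instab Instab.Fan

namespace Groth.Agent.S19374

/-- Let F be a formal fan and U ⊆ P F. Then U is locally convex in the simplex-wise sense — for every
rational simplex, a ray lying strictly between two rays that map into U also maps into U — if and
only if, for every n-cone ξ of F, the set of nonzero nonnegative vectors v of ℝ^n whose point of the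
rational simplex of ξ lies in U is a convex subset of ℝ^n (convexity of the preimage of U in each
punctured cone of the affine realization). -/
theorem result (F : Fan.{u}) (U : Set (Fan.P F)) :
    Fan.IsLocallyConvex U ↔
      ∀ (n : ICone) (ξ : F.obj (op n)),
        Convex ℝ {v : Fin n.dim → ℝ | ∃ h : (∀ i, 0 ≤ v i) ∧ v ≠ 0, Fan.P.mk ξ (⟨v, h⟩ : Fan.Orth n) ∈ U} := by
  constructor
  · intro hU n ξ v₀ h₀ v₂ h₂ a b ha hb hab
    obtain ⟨hv₀, h₀⟩ := h₀
    obtain ⟨hv₂, h₂⟩ := h₂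
    rcases ha.eq_or_lt with rfl | ha
    · rw [zero_add] at hab
      subst hab
      rw [zero_smul, one_smul, zero_add]
      exact ⟨hv₂, h₂⟩
    rcases hb.eq_or_lt with rfl | hb
    · rw [add_zero] at hab
      subst hab
      rw [zero_smul, one_smul, add_zero]
      exact ⟨hv₀, h₀⟩
    have hnn : ∀ i, 0 ≤ (a • v₀ + b • v₂) i := fun i =>
      add_nonneg (mul_nonneg ha.le (hv₀.1 i)) (mul_nonneg hb.le (hv₂.1 i))
    have hne : a • v₀ + b • v₂ ≠ 0 := by
      obtain ⟨i, hi⟩ : ∃ i, v₀ i ≠ 0 := by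
        by_contra h
        push Not at h
        exact hv₀.2 (funext h)
      intro h
      have h1 := congrFun h i
      have h2 : 0 < v₀ i := lt_of_le_of_ne (hv₀.1 i) (Ne.symm hi)
      have h3 : 0 < (a • v₀ + b • v₂) i :=
        add_pos_of_pos_of_nonneg (mul_pos ha h2) (mul_nonneg hb.le (hv₂.1 i))
      rw [h1] at h3
      exact lt_irrefl _ h3
    exact ⟨⟨hnn, hne⟩, hU n ξ ⟨v₀, hv₀⟩ ⟨_, hnn, hne⟩ ⟨v₂, hv₂⟩ h₀ h₂ ⟨a, b, ha, hb, rfl⟩⟩
  · intro hconv n ξ v₀ v₁ v₂ h₀ h₂ h
    obtain ⟨a, b, ha, hb, h⟩ := h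
    have hab : 0 < a + b := add_pos ha hb
    have h3 := hconv n ξ (x := v₀.1) ⟨v₀.2, h₀⟩ (y := v₂.1) ⟨v₂.2, h₂⟩
      (a := a / (a + b)) (b := b / (a + b)) (div_nonneg ha.le hab.le) (div_nonneg hb.le hab.le)
      (by field_simp)
    obtain ⟨h4, h5⟩ := h3
    rw [K979.Fan.P_mk_ray ξ (w := ⟨_, h4⟩) ⟨a + b, hab, ?_⟩]
    · exact h5
    · change v₁.1 = (a + b) • ((a / (a + b)) • v₀.1 + (b / (a + b)) • v₂.1)
      rw [h, smul_add, smul_smul, smul_smul]
      congr 2 <;> field_simp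

end Groth.Agent.S19374
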