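import Groth.Statements.S19375
import Groth.Agent.EGA4.K114.NormHom
import Groth.Agent.EGA4.K114.OnePlus
import Groth.Agent.EGA4.K114.ConnIdem
import Groth.Agent.S0543
import Groth.Agent.Ega3B.IdemLift
import Groth.Agent.Ega4C.NormIntIn

set_option autoImplicit false
universe u
open EGA4

namespace Groth.Agent.S19375

/-- Let A be a Noetherian ring, J a proper ideal of A, Â the J-adic completion of A and A_T the
localization of A at the multiplicative set T = 1 + J (the elements congruent to 1 modulo J). Assume
that the canonical map A → Â is a normal homomorphism (flat, with geometrically normal fibres), as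
happens when A is excellent. Then Â is an integrally closed domain if and only if A_T is an
integrally closed domain and the spectrum of A/J is connected. (The published statement asserts the
equivalence of the first two conditions alone; for A = ℤ and J = 6ℤ the localization A_T is an
integrally closed domain while Â ≅ ℤ_2 × ℤ_3 is not a domain, and the published proof tacitly uses
that Spec Â, whose connected components correspond to those of Spec(A/J), is connected. The case of
the henselization of the pair and of the weak completion is not stated here.) -/
theorem result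
    (A : Type u) [CommRing A] [IsNoetherianRing A] (J : Ideal A) (hJ : J ≠ ⊤)
    (hf : EGA4.IsNormalHom A (AdicCompletion J A))
    (T : Submonoid A) (hT : T = MonoidHom.mker (Ideal.Quotient.mk J)) :
    (IsDomain (AdicCompletion J A) ∧ IsIntegrallyClosed (AdicCompletion J A)) ↔
      ((IsDomain (Localization T) ∧ IsIntegrallyClosed (Localization T)) ∧
        ConnectedSpace (PrimeSpectrum (A ⧸ J))) := by
  have hJfg : J.FG := IsNoetherian.noetherian J
  let _ : Algebra (Localization T) (AdicCompletion J A) :=
    (K114.OnePlus.lift J hJfg T hT (Localization T)).toRingHom.toAlgebra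
  have : IsScalarTower A (Localization T) (AdicCompletion J A) :=
    IsScalarTower.of_algebraMap_eq (fun x =>
      ((K114.OnePlus.lift J hJfg T hT (Localization T)).commutes x).symm)
  have hff : Module.FaithfullyFlat (Localization T) (AdicCompletion J A) :=
    K114.OnePlus.faithfullyFlat J T hT (Localization T)
  have hnT : IsNoetherianRing (Localization T) := IsLocalization.isNoetherianRing T _ inferInstance
  have hnA : IsNoetherianRing (AdicCompletion J A) := Groth.Agent.S0543.result A J
  have hn : EGA4.IsNormalHom (Localization T) (AdicCompletion J A) :=
    K114.NormHom.isNormalHom_localization_left (Localization T) T hf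
  have hnt : Nontrivial (A ⧸ J) := Ideal.Quotient.nontrivial_iff.2 hJ
  -- the quotient map `Â → A / J`
  let K : Ideal (AdicCompletion J A) := RingHom.ker (AdicCompletion.evalOneₐ J)
  have hK : K = J.map (algebraMap A (AdicCompletion J A)) :=
    AdicCompletion.ker_evalOneₐ_eq_map J hJfg
  have hcomp : IsAdicComplete K (AdicCompletion J A) := by
    rw [hK]; exact AdicCompletion.isAdicComplete_self J hJfg
  have hsurj : Function.Surjective (AdicCompletion.evalOneₐ J) := AdicCompletion.evalOneₐ_surjective J
  have hntA : Nontrivial (AdicCompletion J A) := hsurj.nontrivial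
  rw [K114.ConnIdem.connectedSpace_iff]
  constructor
  · rintro ⟨h1, h2⟩
    refine ⟨Ega4C.NormUnion.isIntegrallyClosed_domain_of_faithfullyFlat (Localization T)
      (AdicCompletion J A), hnt, fun e he => ?_⟩
    have hhens : HenselianRing (AdicCompletion J A) K := inferInstance
    obtain ⟨x, hx⟩ := hsurj e
    have hx2 : x * x - x ∈ K := by
      rw [RingHom.mem_ker, map_sub, map_mul, hx, he, sub_self]
    obtain ⟨b, hb, hbe⟩ := Ega3B.IdemLift.exists_isIdempotentElem K (Ideal.Quotient.mk K x) (by
      rw [IsIdempotentElem, ← map_mul]
      exact Ideal.Quotient.eq.2 hx2)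
    have hbx : b - x ∈ K := Ideal.Quotient.eq.1 hbe
    have hbe' : AdicCompletion.evalOneₐ J b = e := by
      rw [RingHom.mem_ker, map_sub, hx, sub_eq_zero] at hbx
      exact hbx
    rcases IsIdempotentElem.iff_eq_zero_or_one.mp hb with h | h
    · left; rw [← hbe', h, map_zero]
    · right; rw [← hbe', h, map_one]
  · rintro ⟨⟨h1, h2⟩, -, hid⟩
    have hN : EGA4.IsNormalRing (AdicCompletion J A) :=
      Ega4C.NormUnion.isNormalRing_of_ringEquiv
        (Algebra.TensorProduct.rid (Localization T) (Localization T)
          (AdicCompletion J A)).symm.toRingEquiv
        (Ega4C.NormBase.isNormalRing_tensor (Localization T) (AdicCompletion J A) (Localization T) hn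
          (Ega4C.NormUnion.isNormalRing_of_isIntegrallyClosed_domain (Localization T)))
    have hjac : K ≤ (⊥ : Ideal (AdicCompletion J A)).jacobson := IsAdicComplete.le_jacobson_bot K
    have key : ∀ e : AdicCompletion J A, e * e = e → e ∈ K → e = 0 := by
      intro e he heK
      have hu : IsUnit (1 - e) := by
        have := Ideal.mem_jacobson_bot.1 (hjac heK) (-1)
        rwa [mul_neg, mul_one, neg_add_eq_sub] at this
      have h3 : (1 - e) * e = 0 := by rw [sub_mul, one_mul, he, sub_self]
      exact (hu.mul_right_eq_zero).1 h3
    have hD : IsDomain (AdicCompletion J A) := by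
      apply Ega4C.NormIntIn.isDomain_of_isNormalRing _ hN (minimalPrimes.finite_of_isNoetherianRing _)
      intro e he
      rcases hid (AdicCompletion.evalOneₐ J e) (by rw [← map_mul, he]) with h | h
      · left
        exact key e he h
      · right
        have h4 := key (1 - e) (by ring_nf; rw [pow_two, he]; ring) (by
          rw [RingHom.mem_ker, map_sub, map_one, h, sub_self])
        rw [sub_eq_zero] at h4
        exact h4.symm
    exact ⟨hD, Ega4C.NormalRing.isIntegrallyClosed_of_isNormalRing _ hN⟩

end Groth.Agent.S19375
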