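import Groth.Statements.S19376
import Groth.Agent.EGA4.K114.CplLift
import Mathlib.RingTheory.AdicCompletion.LocalRing

set_option autoImplicit false
universe u
open EGA4

namespace Groth.Agent.S19376

/-- Let V be an excellent normal ring with no additive torsion, I an ideal of V such that (V, I) is a
henselian pair, A and C smooth V-algebras, and φ₀ a V-algebra homomorphism from A/IA to C/IC which
is finite. Then φ₀ lifts to a finite V-algebra homomorphism φ from the IA-adic completion of A to
the IC-adic completion of C: composing φ with the projection onto C/IC equals the projection onto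
A/IA followed by φ₀. (The published statement also treats finite flat, finite faithfully flat and
finite étale maps, whose proofs are referred elsewhere; only the finite case is stated.) -/
theorem result
    (V : Type u) [CommRing V] [IsAddTorsionFree V]
    (hexc : EGA4.IsExcellent V) (hV : EGA4.IsNormalRing V)
    (I : Ideal V) [HenselianRing V I]
    (A C : Type u) [CommRing A] [Algebra V A] [Algebra.Smooth V A]
    [CommRing C] [Algebra V C] [Algebra.Smooth V C]
    (φ₀ : (A ⧸ I.map (algebraMap V A)) →ₐ[V] (C ⧸ I.map (algebraMap V C)))
    (hφ₀ : φ₀.toRingHom.Finite) :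
    ∃ φ : AdicCompletion (I.map (algebraMap V A)) A →ₐ[V]
        AdicCompletion (I.map (algebraMap V C)) C,
      φ.toRingHom.Finite ∧
      (AdicCompletion.evalOneₐ (I.map (algebraMap V C))).toRingHom.comp φ.toRingHom =
        φ₀.toRingHom.comp (AdicCompletion.evalOneₐ (I.map (algebraMap V A))).toRingHom := by
  have hVN : IsNoetherianRing V := hexc.1
  have hAN : IsNoetherianRing A := Algebra.FiniteType.isNoetherianRing V A
  have hCN : IsNoetherianRing C := Algebra.FiniteType.isNoetherianRing V C
  obtain ⟨g, hg⟩ := Algebra.FormallySmooth.exists_adicCompletionEvalOneₐ_comp_eq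
    (I := I.map (algebraMap V C)) (φ₀.comp (Ideal.Quotient.mkₐ V (I.map (algebraMap V A))))
  have hg1 : ∀ a, AdicCompletion.evalOneₐ (I.map (algebraMap V C)) (g a) =
      φ₀.toRingHom (Ideal.Quotient.mk (I.map (algebraMap V A)) a) := fun a =>
    DFunLike.congr_fun hg a
  have hg0 : ∀ a ∈ I.map (algebraMap V A),
      AdicCompletion.evalOneₐ (I.map (algebraMap V C)) (g a) = 0 := by
    intro a ha
    rw [hg1, Ideal.Quotient.eq_zero_iff_mem.mpr ha, map_zero]
  have key := K114.CplLift.evalOneₐ_extend (I.map (algebraMap V A)) (I.map (algebraMap V C)) g hg0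
    φ₀.toRingHom hg1
  refine ⟨K114.CplLift.extend (I.map (algebraMap V A)) (I.map (algebraMap V C)) g hg0, ?_,
    RingHom.ext key⟩
  set φ := K114.CplLift.extend (I.map (algebraMap V A)) (I.map (algebraMap V C)) g hg0 with hφ
  let _ := φ.toRingHom.toAlgebra
  change Module.Finite _ _

  have hA' : IsAdicComplete ((I.map (algebraMap V A)).map
      (algebraMap A (AdicCompletion (I.map (algebraMap V A)) A)))
      (AdicCompletion (I.map (algebraMap V A)) A) :=
    AdicCompletion.isAdicComplete_self _ (IsNoetherian.noetherian _)
  have hC' : IsAdicComplete ((I.map (algebraMap V C)).map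
      (algebraMap C (AdicCompletion (I.map (algebraMap V C)) C)))
      (AdicCompletion (I.map (algebraMap V C)) C) :=
    AdicCompletion.isAdicComplete_self _ (IsNoetherian.noetherian _)
  have hI' : ((I.map (algebraMap V A)).map
      (algebraMap A (AdicCompletion (I.map (algebraMap V A)) A))).map
      (algebraMap (AdicCompletion (I.map (algebraMap V A)) A)
        (AdicCompletion (I.map (algebraMap V C)) C)) = (I.map (algebraMap V C)).map
      (algebraMap C (AdicCompletion (I.map (algebraMap V C)) C)) := by
    rw [Ideal.map_map, Ideal.map_map, Ideal.map_map]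
    congr 1
    refine RingHom.ext fun v => ?_
    change φ (algebraMap A _ (algebraMap V A v)) = algebraMap C _ (algebraMap V C v)
    rw [K114.CplLift.extend_algebraMap, AlgHom.commutes]
    rfl
  have hker : RingHom.ker (AdicCompletion.evalOneₐ (I.map (algebraMap V C))) =
      (I.map (algebraMap V C)).map
      (algebraMap C (AdicCompletion (I.map (algebraMap V C)) C)) :=
    AdicCompletion.ker_evalOneₐ_eq_map _ (IsNoetherian.noetherian _)
  have hH : IsHausdorff (((I.map (algebraMap V A)).map
      (algebraMap A (AdicCompletion (I.map (algebraMap V A)) A))).map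
      (algebraMap (AdicCompletion (I.map (algebraMap V A)) A)
        (AdicCompletion (I.map (algebraMap V C)) C)))
      (AdicCompletion (I.map (algebraMap V C)) C) := by
    rw [hI']
    infer_instance
  apply K114.CplLift.finite_of_finite_quotient ((I.map (algebraMap V A)).map
      (algebraMap A (AdicCompletion (I.map (algebraMap V A)) A)))
  let e : (AdicCompletion (I.map (algebraMap V C)) C ⧸ (((I.map (algebraMap V A)).map
      (algebraMap A (AdicCompletion (I.map (algebraMap V A)) A))).map
      (algebraMap (AdicCompletion (I.map (algebraMap V A)) A)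
        (AdicCompletion (I.map (algebraMap V C)) C)))) ≃+* C ⧸ I.map (algebraMap V C) :=
    (Ideal.quotEquivOfEq (hI'.trans hker.symm)).trans
      (RingHom.quotientKerEquivOfSurjective (AdicCompletion.evalOneₐ_surjective
        (I.map (algebraMap V C))))
  have hfin : (φ₀.toRingHom.comp (AdicCompletion.evalOneₐ (I.map (algebraMap V A))).toRingHom).Finite :=
    RingHom.Finite.comp hφ₀ (RingHom.Finite.of_surjective _ (AdicCompletion.evalOneₐ_surjective _))
  have hfin2 := RingHom.Finite.comp (RingHom.Finite.of_surjective e.symm.toRingHom e.symm.surjective)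
    hfin
  have heq : (algebraMap (AdicCompletion (I.map (algebraMap V A)) A)
      (AdicCompletion (I.map (algebraMap V C)) C ⧸ (((I.map (algebraMap V A)).map
      (algebraMap A (AdicCompletion (I.map (algebraMap V A)) A))).map
      (algebraMap (AdicCompletion (I.map (algebraMap V A)) A)
        (AdicCompletion (I.map (algebraMap V C)) C))))) =
      e.symm.toRingHom.comp (φ₀.toRingHom.comp
        (AdicCompletion.evalOneₐ (I.map (algebraMap V A))).toRingHom) := by
    refine RingHom.ext fun x => ?_
    change _ = e.symm _
    rw [eq_comm, RingEquiv.symm_apply_eq]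
    exact (key x).symm
  rw [← heq] at hfin2
  rwa [RingHom.finite_algebraMap] at hfin2

end Groth.Agent.S19376
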