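import Groth.Statements.S19378
import Groth.Agent.EGA4.K114.NormHom
import Groth.Agent.EGA4.K114.OnePlus
import Groth.Agent.S0543

set_option autoImplicit false
universe u
open EGA4

namespace Groth.Agent.S19378

/-- Let A be a Noetherian ring, J a proper ideal of A, Â the J-adic completion and A_T the localization
of A at T = 1 + J. If the canonical map A → Â is a normal homomorphism (flat with geometrically
normal fibres), then A_T is a normal ring (all local rings integrally closed domains) if and only if
Â is. (The case of the henselization of the pair and of the weak completion is not stated here.) -/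
theorem result
    (A : Type u) [CommRing A] [IsNoetherianRing A] (J : Ideal A) (hJ : J ≠ ⊤)
    (hf : EGA4.IsNormalHom A (AdicCompletion J A))
    (T : Submonoid A) (hT : T = MonoidHom.mker (Ideal.Quotient.mk J)) :
    EGA4.IsNormalRing (Localization T) ↔ EGA4.IsNormalRing (AdicCompletion J A) := by
  have hJfg : J.FG := IsNoetherian.noetherian J
  let _ : Algebra (Localization T) (AdicCompletion J A) :=
    (K114.OnePlus.lift J hJfg T hT (Localization T)).toRingHom.toAlgebra
  have : IsScalarTower A (Localization T) (AdicCompletion J A) :=
    IsScalarTower.of_algebraMap_eq (fun x =>
      ((K114.OnePlus.lift J hJfg T hT (Localization T)).commutes x).symm)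
  have hff : Module.FaithfullyFlat (Localization T) (AdicCompletion J A) :=
    K114.OnePlus.faithfullyFlat J T hT (Localization T)
  have hnT : IsNoetherianRing (Localization T) := IsLocalization.isNoetherianRing T _ inferInstance
  have hnA : IsNoetherianRing (AdicCompletion J A) := Groth.Agent.S0543.result A J
  have hn : EGA4.IsNormalHom (Localization T) (AdicCompletion J A) :=
    K114.NormHom.isNormalHom_localization_left (Localization T) T hf
  constructor
  · intro h
    exact Ega4C.NormUnion.isNormalRing_of_ringEquiv
      (Algebra.TensorProduct.rid (Localization T) (Localization T) (AdicCompletion J A)).symm.toRingEquiv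
      (Ega4C.NormBase.isNormalRing_tensor (Localization T) (AdicCompletion J A) (Localization T) hn h)
  · intro h
    exact Ega4C.NormUnion.isNormalRing_of_faithfullyFlat (Localization T) (AdicCompletion J A) h

end Groth.Agent.S19378
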