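import Groth.Statements.S19380
import Mathlib.Tactic
import Mathlib.LinearAlgebra.Matrix.Charpoly.Coeff

set_option autoImplicit false
universe u
open CAlg

namespace Groth.Agent.S19380

theorem charpolyRev_mul_comm' {L : Type*} [CommRing L] {n : Type*} [Fintype n] [DecidableEq n]
    (A B : Matrix n n L) : (A * B).charpolyRev = (B * A).charpolyRev := by
  rw [← Matrix.reverse_charpoly, ← Matrix.reverse_charpoly, Matrix.charpoly_mul_comm]

theorem charpolyRev_map' {L M : Type*} [CommRing L] [CommRing M] {n : Type*} [Fintype n]
    [DecidableEq n] (A : Matrix n n L) (f : L →+* M) :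
    (A.map f).charpolyRev = A.charpolyRev.map f := by
  unfold Matrix.charpolyRev
  rw [← Polynomial.coe_mapRingHom, RingHom.map_det]
  congr 1
  ext i j
  simp [Matrix.one_apply, apply_ite]

/-- Let L be a commutative ring, σ a ring automorphism of L of finite order dividing d (σ^d = 1), and C
an r × r matrix over L. The reverse characteristic polynomial det(1 − T·N) of the twisted product N
= C·σ(C)·σ²(C)⋯σ^(d−1)(C), with σ applied to the entries, is fixed by σ acting on coefficients. (In
the source this is phrased for the fibre at a closed point x of degree d of a convergent F-module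
with Frobenius matrix C: the d-th iterate of the semilinear Frobenius of the fibre is the linear map
with matrix N, so its characteristic polynomial has coefficients in the subfield fixed by the
Frobenius of K(x), namely K, and likewise with the valuation ring in place of K for an integral
F-module; only this linear-algebra statement, over any commutative ring, is given here.) -/
theorem result
    (L : Type u) [CommRing L] (σ : L ≃+* L) (d : ℕ) (hσ : σ ^ d = 1)
    (r : ℕ) (C : Matrix (Fin r) (Fin r) L) :
    (Matrix.charpolyRev (((List.range d).map fun i => C.map ⇑(σ ^ i)).prod)).map (σ : L →+* L) =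
      Matrix.charpolyRev (((List.range d).map fun i => C.map ⇑(σ ^ i)).prod) := by
  set Ci : ℕ → Matrix (Fin r) (Fin r) L := fun i => C.map ⇑(σ ^ i) with hCi
  have hs : ∀ i, (Ci i).map (σ : L →+* L) = Ci (i + 1) := by
    intro i
    ext a b
    have : (σ ^ (i + 1)) (C a b) = σ ((σ ^ i) (C a b)) := by
      rw [pow_succ', RingAut.mul_apply]
    simp only [hCi, Matrix.map_apply, this]
    rfl
  rw [← charpolyRev_map']
  have h1 : (((List.range d).map Ci).prod).map (σ : L →+* L) = ((List.range d).map fun i => Ci (i + 1)).prod := by
    have := map_list_prod (σ : L →+* L).mapMatrix ((List.range d).map Ci)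
    rw [List.map_map] at this
    refine this.trans ?_
    congr 1
    apply List.map_congr_left
    intro i _
    exact hs i
  rw [h1]
  cases d with
  | zero => rfl
  | succ d =>
    have h2 : ((List.range (d + 1)).map fun i => Ci (i + 1)).prod =
        ((List.range d).map fun i => Ci (i + 1)).prod * Ci (d + 1) := by
      rw [List.range_succ, List.map_append, List.prod_append]; simp
    have h3 : ((List.range (d + 1)).map Ci).prod = Ci 0 * ((List.range d).map fun i => Ci (i + 1)).prod := by
      rw [List.range_succ_eq_map, List.map_cons, List.prod_cons, List.map_map]; rfl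
    have h4 : Ci (d + 1) = Ci 0 := by
      simp only [hCi]
      rw [hσ, pow_zero]
    rw [h2, h3, h4, charpolyRev_mul_comm']

end Groth.Agent.S19380
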