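import Groth.Statements.S19383
import Mathlib.Tactic
import Mathlib.RingTheory.AdicCompletion.AsTensorProduct
import Mathlib.RingTheory.Flat.TorsionFree
import Mathlib.RingTheory.Filtration

set_option autoImplicit false
universe u
open CAlg

namespace Groth.Agent.S19383

/-- Over a discrete valuation ring a module on which a uniformizer is injective is flat. -/
theorem flat_of_uniformizer (V : Type*) [CommRing V] [IsDomain V] [IsDiscreteValuationRing V]
    (π : V) (hπ : Irreducible π) (N : Type*) [AddCommGroup N] [Module V N]
    (h : ∀ x : N, π • x = 0 → x = 0) : Module.Flat V N := by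
  rw [IsDedekindDomain.flat_iff_torsion_eq_bot, eq_bot_iff]
  rintro x ⟨⟨a, ha⟩, hx⟩
  have ha0 : a ≠ 0 := nonZeroDivisors.ne_zero ha
  obtain ⟨n, u, rfl⟩ := IsDiscreteValuationRing.eq_unit_mul_pow_irreducible ha0 hπ
  have hx' : (u : V) • (π ^ n • x) = 0 := by
    rw [smul_smul]; exact hx
  have hx2 : π ^ n • x = 0 := (u.isUnit.smul_eq_zero).1 hx'
  have : ∀ n : ℕ, ∀ x : N, π ^ n • x = 0 → x = 0 := by
    intro n
    induction n with
    | zero => intro x hx; simpa using hx
    | succ n ih =>
      intro x hx
      rw [pow_succ, mul_smul] at hx
      exact h x (ih _ hx)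
  exact (Submodule.mem_bot V).2 (this n x hx2)

/-- Over a discrete valuation ring, let V be a henselian discrete valuation ring with maximal ideal 𝔪
and B a Noetherian V-algebra, B̂ its 𝔪B-adic completion. Then B is flat over V if and only if B̂ is
flat over V. (The published lemma takes V an excellent normal ring with an ideal I such that (V,
V/I) is a henselian pair and B of finite type; in that generality it fails: for V = ℤ_p[[x]], I =
(p) and B = V[y]/(x, py − 1) ≅ ℚ_p one has IB = B, so B̂ = 0 is flat while B is not flat over V.
Over a discrete valuation ring flatness is torsion-freeness and the statement holds for every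
Noetherian B.) -/
theorem result
    (V : Type u) [CommRing V] [IsDomain V] [IsDiscreteValuationRing V] [HenselianLocalRing V]
    (B : Type u) [CommRing B] [Algebra V B] [IsNoetherianRing B] :
    Module.Flat V B ↔
      Module.Flat V (AdicCompletion ((IsLocalRing.maximalIdeal V).map (algebraMap V B)) B) := by
  constructor
  · intro h
    haveI : Module.Flat B (AdicCompletion ((IsLocalRing.maximalIdeal V).map (algebraMap V B)) B) :=
      inferInstance
    exact Module.Flat.trans V B _
  · intro h
    obtain ⟨π, hπ⟩ := IsDiscreteValuationRing.exists_irreducible V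
    apply flat_of_uniformizer V π hπ
    intro b hb
    set I := (IsLocalRing.maximalIdeal V).map (algebraMap V B) with hI
    have hIπ : I = Ideal.span {algebraMap V B π} := by
      rw [hI, hπ.maximalIdeal_eq, Ideal.map_span, Set.image_singleton]
    have h1 : π • (AdicCompletion.of I B b) = 0 := by
      have : π • (AdicCompletion.of I B b) = AdicCompletion.of I B (π • b) := by
        rw [← algebraMap_smul B π (AdicCompletion.of I B b), ← algebraMap_smul B π b, map_smul]
      rw [this, hb, map_zero]
    have h2 : AdicCompletion.of I B b = 0 := by
      have := Module.Flat.isSMulRegular_of_nonZeroDivisors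
        (M := AdicCompletion I B) (mem_nonZeroDivisors_of_ne_zero hπ.ne_zero)
      exact this (by simpa using h1)
    have h3 : b ∈ (⨅ i : ℕ, I ^ i • ⊤ : Submodule B B) := by
      rw [Submodule.mem_iInf]
      intro i
      have := congrArg (AdicCompletion.eval I B i) h2
      rw [AdicCompletion.eval_of, map_zero] at this
      exact (Submodule.Quotient.mk_eq_zero _).1 this
    rw [Ideal.mem_iInf_smul_pow_eq_bot_iff] at h3
    obtain ⟨⟨r, hr⟩, hrb⟩ := h3
    rw [hIπ, Ideal.mem_span_singleton] at hr
    obtain ⟨c, rfl⟩ := hr
    rw [← hrb]
    simp only [smul_eq_mul]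
    rw [mul_right_comm, ← Algebra.smul_def, hb, zero_mul]

end Groth.Agent.S19383
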