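import Groth.Statements.S19384
import Groth.Agent.Versch.K875.VBase
import Groth.Agent.Versch.K875.Frob
import Groth.Agent.Versch.K875.PowComp
-- import your own Groth.Agent.* helpers here

set_option autoImplicit false
universe u
open Versch

namespace Groth.Agent.S19384

/-- Over a field and for one finite level, let k be a field of characteristic p > 0 and G = Spec A a
finite commutative k-group scheme (A a finite-dimensional commutative cocommutative Hopf algebra)
killed by p^n, i.e. the p^n-th power map of G is the trivial homomorphism, and suppose the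
Verschiebung of G is an isomorphism (the ring map v : A → A ⊗_k k^(p) characterised as the
Verschiebung is bijective). Then G is infinitesimal, more precisely the n-th iterate of its
Frobenius is trivial: a^(p^n) = 0 for every a in the augmentation ideal. (The source states this for
the p^n-torsion levels of a p-divisible group of multiplicative type over any scheme of
characteristic p and reduces to a field fibre by fibre; it also records that the Cartier dual has
unipotent fibres, which is not stated here.) -/
theorem result
    (p : ℕ) [Fact p.Prime] (k : Type u) [Field k] [CharP k p]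
    (A : Type u) [CommRing A] [HopfAlgebra k A] [Coalgebra.IsCocomm k A] [Module.Finite k A]
    (n : ℕ)
    (hn : SGA3b.powConv k A (p ^ n) = (Algebra.ofId k A).comp (Bialgebra.counitAlgHom k A))
    (v : A →+* FrobAlg.BaseChange p k A) (hv : Versch.IsVerschiebung p k A v)
    (hbij : Function.Bijective v)
    (a : A) (ha : Coalgebra.counit (R := k) a = 0) : a ^ (p ^ n) = 0 := by
  have hchar : CharP A p := charP_of_injective_algebraMap (K875.VBase.algebraMap_injective k A) p
  obtain ⟨m, e, f, h⟩ := K875.VBase.exists_isDB k A
  have hv1 := fun a => K875.VBase.verschiebung_apply p hv h a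
  have hp1 := fun a => K875.VBase.powConv_prime_apply p h a
  have hFV : ∀ a, FrobAlg.relFrob p k A (v a) = SGA3b.powConv k A p a := by
    intro a
    rw [hv1, hp1, map_sum]
    refine Finset.sum_congr rfl fun i _ => ?_
    rw [K875.Frob.relFrob_tmul, RingEquiv.symm_apply_apply, Algebra.smul_def, mul_comm]
  -- a p-th power is a value of `[p]`
  have hstep : ∀ a : A, Coalgebra.counit (R := k) a = 0 →
      ∃ b : A, Coalgebra.counit (R := k) b = 0 ∧ a ^ p = SGA3b.powConv k A p b := by
    intro a ha
    obtain ⟨b, hb⟩ := hbij.2 (a ⊗ₜ 1)
    refine ⟨b, ?_, ?_⟩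
    · have h1 := (Versch.isVerschiebung_iff p k A v).mp hv b 1
      rw [hb, Versch.evTw_tmul', one_pow, mul_one] at h1
      have h2 : (1 : CartDual.D k A) a = 0 := ha
      rw [h2, zero_pow (Fact.out : p.Prime).ne_zero, map_zero] at h1
      have h3 := (FrobAlg.toTwist p k).map_eq_zero_iff.mp h1.symm
      exact h3
    · rw [← hFV, hb, K875.Frob.relFrob_tmul, map_one, map_one, mul_one]
  have hcomp : ∀ (j : ℕ) (b : A), SGA3b.powConv k A (p ^ j) (SGA3b.powConv k A p b) =
      SGA3b.powConv k A (p ^ (j + 1)) b := by
    intro j b
    rw [K875.PowComp.powConv_comp_apply, ← pow_succ]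
  have hmain : ∀ (j : ℕ) (a : A), Coalgebra.counit (R := k) a = 0 →
      ∃ b : A, Coalgebra.counit (R := k) b = 0 ∧ a ^ (p ^ j) = SGA3b.powConv k A (p ^ j) b := by
    intro j
    induction j with
    | zero =>
      intro a ha
      refine ⟨a, ha, ?_⟩
      rw [pow_zero, pow_one, K875.PowComp.powConv_one, AlgHom.id_apply]
    | succ j ih =>
      intro a ha
      obtain ⟨b, hb, hab⟩ := ih a ha
      obtain ⟨c, hc, hbc⟩ := hstep b hb
      refine ⟨c, hc, ?_⟩
      rw [← hcomp, ← hbc, map_pow, ← hab, ← pow_mul, ← pow_succ]
  obtain ⟨b, hb, hab⟩ := hmain n a ha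
  rw [hab, hn, AlgHom.comp_apply, Bialgebra.counitAlgHom_apply, hb, map_zero]

end Groth.Agent.S19384
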