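import Groth.Statements.S19385
import Groth.Agent.HdgLef.K989.DivZero
import Groth.Agent.HdgLef.K989.Dim
import Groth.Agent.HdgLef.K989.Zero
import Groth.Agent.HdgLef.K989.Esz

set_option autoImplicit false
universe u
open CategoryTheory CategoryTheory.Limits AlgebraicGeometry
open HdgLef

namespace Groth.Agent.S19385

open K882.Coho K882.IsoMon K882.Divisor

/-- Let X be a smooth proper scheme of dimension n over a field k and L an ample invertible O_X-module.
There is m₀ such that for every m ≥ m₀ and every global section s of L^{⊗m} with O_X → L^{⊗m}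
injective (a regular section) whose zero scheme Y, with inclusion i : Y → X, is smooth over k, one
has H^a(X, i_*Ω^b ⊗ L^{⊗m}) = 0 for every b-th exterior power Ω^b of the sheaf of differentials of Y
over k (in the affine-local sense) and all a, b with a + b > n − 1. (The published statement takes Y
among the degree-m hypersurface sections of a projective embedding and twists with O_X(Y); the
published argument uses only Serre vanishing for the powers of an ample invertible module, so zero
schemes of regular sections of L^{⊗m} are allowed here, with O_X(Y) = L^{⊗m}.) -/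
theorem result
    (k : Type u) [Field k] (X : Scheme.{u}) [X.Over (Spec (CommRingCat.of k))]
    [IsProper (X ↘ Spec (CommRingCat.of k))] [Smooth (X ↘ Spec (CommRingCat.of k))] (n : ℕ) (hn : topologicalKrullDim X = n)
    (L : X.Modules) (hL : CohB1.IsAmple L) :
    ∃ m₀ : ℕ, ∀ (m : ℕ), m₀ ≤ m →
      ∀ (s : Coh.structureModule X ⟶ CohB1.tensorPow L m) [Mono s]
        [Smooth ((PicF2.zeroScheme (CohB1.tensorPow L m) s).subschemeι ≫ (X ↘ Spec (CommRingCat.of k)))]
        (a b : ℕ) (OmY : (PicF2.zeroScheme (CohB1.tensorPow L m) s).subscheme.Modules),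
        ExtPow.IsExtPow b (Omega.sheaf ((PicF2.zeroScheme (CohB1.tensorPow L m) s).subschemeι ≫ (X ↘ Spec (CommRingCat.of k)))) OmY →
        n ≤ a + b →
        Subsingleton (Coh.HH X (CohB1.tensorMod ((Coh.push (PicF2.zeroScheme (CohB1.tensorPow L m) s).subschemeι).obj OmY)
          (CohB1.tensorPow L m)) a) := by
  have hΩX : FlatMod.IsFinLocFree (Omega.sheaf (X ↘ Spec (CommRingCat.of k))) :=
    Groth.Agent.Vancyc.H878.OmegaRank.isFinLocFree_omega _
  obtain ⟨AX, hAX⟩ := exists_pows hΩX
  have hAf : ∀ a, FlatMod.IsFinLocFree (AX a) := fun a =>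
    Groth.Agent.Sga67.LocBasis.isFinLocFree_of_isExtPow hΩX (hAX a)
  obtain ⟨m₀, h₀⟩ := K989.EszVan.exists_serre k X (X ↘ Spec (CommRingCat.of k)) hL AX hAf n
  refine ⟨max m₀ 1, fun m hm s _ _ a b OmY hY hab => ?_⟩
  have hinv := inv_pow hL.1 m
  have hMI : c (CohB1.tensorPow L m) * c (ClSub.idealMod (PicF2.zeroScheme (CohB1.tensorPow L m) s)) = 1 := by
    rw [← c_tensor, ← c_unit, c_eq_iff]
    exact K989.ZeroMono.isInverseOf_idealMod hinv s
  revert OmY hY
  have hsm : Smooth ((PicF2.zeroScheme (CohB1.tensorPow L m) s).subschemeι ≫ (X ↘ Spec (CommRingCat.of k))) := inferInstance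
  revert hsm hMI
  generalize PicF2.zeroScheme (CohB1.tensorPow L m) s = D
  intro hMI hsm OmY hY
  have hI : PicF.IsInvertible (ClSub.idealMod D) := inv_of_mul hinv (by rw [mul_comm]; exact hMI)
  have hΩY : FlatMod.IsFinLocFree (Omega.sheaf (D.subschemeι ≫ (X ↘ Spec (CommRingCat.of k)))) :=
    Groth.Agent.Vancyc.H878.OmegaRank.isFinLocFree_omega _
  obtain ⟨AY, hAY⟩ := exists_pows hΩY
  have hvan : ∀ j : ℕ, 1 ≤ j → ∀ a q : ℕ, a ≤ n → 1 ≤ q →
      Van (CohB1.tensorMod (AX a) (CohB1.tensorPow (CohB1.tensorPow L m) j)) q := by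
    intro j hj a q ha hq
    have hm' : m₀ ≤ m * j := (le_trans (le_max_left _ _) hm).trans (Nat.le_mul_of_pos_right m hj)
    refine van_c ?_ q (h₀ (m * j) hm' a ha q hq)
    rw [c_tensor, c_tensor, c_pow, c_pow, c_pow, pow_mul]
  have hX0 : ∀ a, n < a → IsZero (AX a) := fun a ha => K989.DimVan.isZero_extPow_omega _ n hn (hAX a) ha
  have hY0 : ∀ a, n ≤ a → IsZero (AY a) := fun a ha =>
    K989.Lef.isZero_div (X ↘ Spec (CommRingCat.of k)) D (CohB1.tensorPow L m) hinv hI hMI AX hAX AY hAY hX0 a ha
  have key := K989.Lef.van_pos (X ↘ Spec (CommRingCat.of k)) D (CohB1.tensorPow L m) hinv hI hMI AX hAX AY hAY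
    hX0 hY0 hvan a b 1 le_rfl (by omega)
  have e1 : c (CohB1.tensorMod ((Scheme.Modules.pushforward D.subschemeι).obj OmY) (CohB1.tensorPow L m)) =
      c ((Scheme.Modules.pushforward D.subschemeι).obj
        (CohB1.tensorMod ((Scheme.Modules.pullback D.subschemeι).obj (CohB1.tensorPow L m)) OmY)) := by
    rw [c_tensor, mul_comm, ← c_tensor]
    exact c_iso (Groth.Agent.VarietyB.ProjForm.projIso D.subschemeι
      (Groth.Agent.VarietyB.TensCoh.HasBases.of_isFinLocFree (flf_of_inv hinv)) OmY)
  have e2 : c (CohB1.tensorMod ((Scheme.Modules.pullback D.subschemeι).obj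
        (CohB1.tensorPow (CohB1.tensorPow L m) 1)) (AY b)) =
      c (CohB1.tensorMod ((Scheme.Modules.pullback D.subschemeι).obj (CohB1.tensorPow L m)) OmY) := by
    rw [c_tensor, c_tensor, c_extPow_unique rfl (hAY b) hY, c_pull_iso D.subschemeι
      (M := CohB1.tensorPow (CohB1.tensorPow L m) 1) (N := CohB1.tensorPow L m) (by rw [c_pow, pow_one])]
  exact van_c e1.symm a (van_push' D.subschemeι _ a (van_c e2 a key))

end Groth.Agent.S19385
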