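import Groth.Statements.S19386
import Groth.Agent.HdgLef.K989.Ineq
import Groth.Agent.HdgLef.K989.Zero
import Groth.Agent.HdgLef.K989.Esz

set_option autoImplicit false
universe u
open CategoryTheory CategoryTheory.Limits AlgebraicGeometry
open HdgLef

namespace Groth.Agent.S19386

open K882.Coho K882.IsoMon K882.Divisor

/-- Let X be an irreducible smooth proper scheme of dimension n over a field k and L an ample invertible
O_X-module. There is m₀ such that for every m ≥ m₀, every global section s of L^{⊗m} with O_X →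
L^{⊗m} injective whose zero scheme Y, with inclusion i : Y → X, is smooth over k, and all p-th
exterior powers Ω^p_X of the differentials of X over k and Ω^p_Y of the differentials of Y over k
(affine-local sense), the k-dimensions of H^q(X, Ω^p_X) and of H^q(X, i_*Ω^p_Y) = H^q(Y, Ω^p_Y)
agree when p + q < n − 1, and the first is at most the second when p + q = n − 1. (The published
statement asserts that the restriction map is bijective, resp. injective, in these ranges; only the
resulting comparison of dimensions is stated, the pull-back map on exterior powers not being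
available as a named map here. X is taken irreducible: for a disjoint union of projective 3-space
with a curve of positive genus the comparison fails for p = 0, q = 1. The published statement takes
Y among the degree-m hypersurface sections of a projective embedding; the published argument uses
only Serre vanishing and duality for the powers of an ample invertible module.) -/
theorem result
    (k : Type u) [Field k] (X : Scheme.{u}) [X.Over (Spec (CommRingCat.of k))]
    [IsProper (X ↘ Spec (CommRingCat.of k))] [Smooth (X ↘ Spec (CommRingCat.of k))] [IrreducibleSpace X]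
    (n : ℕ) (hn : topologicalKrullDim X = n)
    (L : X.Modules) (hL : CohB1.IsAmple L) :
    ∃ m₀ : ℕ, ∀ (m : ℕ), m₀ ≤ m →
      ∀ (s : Coh.structureModule X ⟶ CohB1.tensorPow L m) [Mono s]
        [Smooth ((PicF2.zeroScheme (CohB1.tensorPow L m) s).subschemeι ≫ (X ↘ Spec (CommRingCat.of k)))]
        (p q : ℕ) (OmX : X.Modules) (OmY : (PicF2.zeroScheme (CohB1.tensorPow L m) s).subscheme.Modules),
        ExtPow.IsExtPow p (Omega.sheaf (X ↘ Spec (CommRingCat.of k))) OmX →
        ExtPow.IsExtPow p (Omega.sheaf ((PicF2.zeroScheme (CohB1.tensorPow L m) s).subschemeι ≫ (X ↘ Spec (CommRingCat.of k)))) OmY →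
        (p + q + 1 < n → Module.finrank k (Coh.HH X OmX q) = Module.finrank k (Coh.HH X ((Coh.push (PicF2.zeroScheme (CohB1.tensorPow L m) s).subschemeι).obj OmY) q)) ∧
        (p + q + 1 = n → Module.finrank k (Coh.HH X OmX q) ≤ Module.finrank k (Coh.HH X ((Coh.push (PicF2.zeroScheme (CohB1.tensorPow L m) s).subschemeι).obj OmY) q)) := by
  have hΩX : FlatMod.IsFinLocFree (Omega.sheaf (X ↘ Spec (CommRingCat.of k))) :=
    Groth.Agent.Vancyc.H878.OmegaRank.isFinLocFree_omega _
  rcases n with _ | N
  · exact ⟨0, fun m _ s _ _ p q OmX OmY _ _ => ⟨fun h => absurd h (by omega), fun h => absurd h (by omega)⟩⟩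
  obtain ⟨P, hP, hLP⟩ := Groth.Agent.Grpsch.PicGrp.exists_inverse hL.1
  obtain ⟨AX, hAX⟩ := exists_pows hΩX
  have hAf : ∀ a, FlatMod.IsFinLocFree (AX a) := fun a =>
    Groth.Agent.Sga67.LocBasis.isFinLocFree_of_isExtPow hΩX (hAX a)
  obtain ⟨m₀, h₀⟩ := K989.EszVan.exists_esz k X (N + 1) hn hLP hL AX hAf N
  have hLP' : c L * c P = 1 := isInverseOf_iff.mp hLP
  refine ⟨max m₀ 1, fun m hm s _ _ p q OmX OmY hX hY => ?_⟩
  have hinv := inv_pow hL.1 m
  have hcJ : c (CohB1.tensorPow L m) * c (ClSub.idealMod (PicF2.zeroScheme (CohB1.tensorPow L m) s)) = 1 := by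
    rw [← c_tensor, ← c_unit, c_eq_iff]
    exact K989.ZeroMono.isInverseOf_idealMod hinv s
  revert OmY hY
  have hsm : Smooth ((PicF2.zeroScheme (CohB1.tensorPow L m) s).subschemeι ≫ (X ↘ Spec (CommRingCat.of k))) := inferInstance
  revert hsm hcJ
  generalize PicF2.zeroScheme (CohB1.tensorPow L m) s = D
  intro hcJ hsm OmY hY
  have hcP : c (ClSub.idealMod D) = c P ^ m := by
    rw [c_pow] at hcJ
    calc c (ClSub.idealMod D) = (c L * c P) ^ m * c (ClSub.idealMod D) := by rw [hLP', one_pow, one_mul]
      _ = c P ^ m * (c L ^ m * c (ClSub.idealMod D)) := by rw [mul_pow, mul_comm (c L ^ m), mul_assoc]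
      _ = c P ^ m := by rw [hcJ, mul_one]
  have hI : PicF.IsInvertible (ClSub.idealMod D) := inv_of_mul hinv (by rw [mul_comm]; exact hcJ)
  have hΩY : FlatMod.IsFinLocFree (Omega.sheaf (D.subschemeι ≫ (X ↘ Spec (CommRingCat.of k)))) :=
    Groth.Agent.Vancyc.H878.OmegaRank.isFinLocFree_omega _
  obtain ⟨AY, hAY⟩ := exists_pows hΩY
  have hvan : ∀ j : ℕ, 1 ≤ j → ∀ a q : ℕ, a + q ≤ N →
      Van (CohB1.tensorMod (AX a) (CohB1.tensorPow (ClSub.idealMod D) j)) q := by
    intro j hj a q haq
    have hm' : m₀ ≤ m * j := (le_trans (le_max_left _ _) hm).trans (Nat.le_mul_of_pos_right m hj)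
    refine van_c ?_ q (h₀ (m * j) hm' a (by omega) q (by omega))
    rw [c_tensor, c_tensor, c_pow, c_pow, hcP, pow_mul]
  letI : D.subscheme.Over (Spec (CommRingCat.of k)) := ⟨D.subschemeι ≫ (X ↘ Spec (CommRingCat.of k))⟩
  have hD : D.subschemeι ≫ (X ↘ Spec (CommRingCat.of k)) = D.subscheme ↘ Spec (CommRingCat.of k) := rfl
  have hprop : IsProper (D.subscheme ↘ Spec (CommRingCat.of k)) := by
    rw [← hD]
    infer_instance
  have hlN : IsLocallyNoetherian D.subscheme :=
    LocallyOfFiniteType.isLocallyNoetherian (D.subscheme ↘ Spec (CommRingCat.of k))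
  have hfin : ∀ (M : D.subscheme.Modules), FlatMod.IsFinLocFree M → ∀ q, FinD k M q := fun M hM q =>
    Groth.Agent.S0002.result k D.subscheme M (Groth.Agent.PerfA.CohSerre.isCoh_of_isFinLocFree hM) q
  have e1 : hd k OmX q = hd k (AX p) q := hd_c (c_extPow_unique rfl hX (hAX p)) q
  have e2 : hd k ((Scheme.Modules.pushforward D.subschemeι).obj OmY) q = hd k (AY p) q :=
    (hd_push k D.subschemeι hD OmY q).trans (hd_c (c_extPow_unique rfl hY (hAY p)) q)
  constructor
  · intro h
    exact e1.trans ((hd_main (X ↘ Spec (CommRingCat.of k)) D hI AX hAX AY hAY hvan hD p q (by omega)).symm.trans e2.symm)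
  · intro h
    exact e1.le.trans ((K989.Lef.hd_le_main (X ↘ Spec (CommRingCat.of k)) D hI AX hAX AY hAY hvan hD hfin p q
      (by omega)).trans e2.ge)

end Groth.Agent.S19386
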