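import Groth.Statements.S19387
-- import your own Groth.Agent.* helpers here
import Groth.Agent.RelBert.K989.Final

set_option autoImplicit false
universe u
open CategoryTheory CategoryTheory.Limits AlgebraicGeometry
open RelBert

namespace Groth.Agent.S19387

/-- Let R be a Henselian discrete valuation ring with infinite perfect residue field k and X a smooth
projective R-scheme of relative dimension 2 (f : X → Spec R smooth of relative dimension 2 and
proper, with an ample invertible O_X-module). Let Z₁, Z₂ be nonempty closed subschemes of X which
are finite and flat over R with reduced special fibre; these are exactly the regular horizontal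
one-dimensional closed subschemes meeting the special fibre transversally. Then there is a closed
subscheme H of X, smooth of relative dimension 1 over R, containing Z₁ and Z₂. (The published
statement assumes only that the residue field k is infinite, not that it is perfect; for k = F_p(s,
t) and R = k[[π]], the closed subscheme of the projective plane over R given by Y^p = s, Z^p = t in
an affine chart is the spectrum of k(s^{1/p}, t^{1/p})[[π]], finite and flat over R with reduced
special fibre, and it lies on no subscheme smooth of relative dimension 1 over R, because the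
residue field of a closed point of a smooth curve over k has at most one-dimensional module of
differentials over k. The published proof uses that the differentials of a regular system of
parameters at a closed point of the special fibre are linearly independent, which holds when the
residue fields of closed points are separable over k, so k is taken perfect here. The published
statement is for X of any relative dimension d, with H of relative dimension 1, and its proof
reduces to d = 2 without argument; the case d = 2 is stated.) -/
theorem result
    (R : Type u) [CommRing R] [IsDomain R] [IsDiscreteValuationRing R] [HenselianLocalRing R]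
    [Infinite (IsLocalRing.ResidueField R)] [PerfectField (IsLocalRing.ResidueField R)]
    (X : Scheme.{u}) (f : X ⟶ Spec (CommRingCat.of R)) [IsProper f] [SmoothOfRelativeDimension 2 f]
    (L : X.Modules) (hL : CohB1.IsAmple L)
    (Z₁ Z₂ : X.IdealSheafData) [Nonempty ↥Z₁.subscheme] [Nonempty ↥Z₂.subscheme]
    [IsFinite (Z₁.subschemeι ≫ f)] [Flat (Z₁.subschemeι ≫ f)]
    [IsFinite (Z₂.subschemeι ≫ f)] [Flat (Z₂.subschemeι ≫ f)]
    [AlgebraicGeometry.IsReduced (Models.specialFibre R Z₁.subscheme (Z₁.subschemeι ≫ f))] [AlgebraicGeometry.IsReduced (Models.specialFibre R Z₂.subscheme (Z₂.subschemeι ≫ f))] :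
    ∃ H : X.IdealSheafData, SmoothOfRelativeDimension 1 (H.subschemeι ≫ f) ∧ H ≤ Z₁ ∧ H ≤ Z₂ := by
  obtain ⟨n, c, hc, rfl⟩ := Groth.Agent.CalgB.ProjField.exists_closedImmersion_projSpace f ⟨L, hL⟩
  have h1 : K989.RBProj.BaseLe 0 (Z₁.map c) := by
    have := K989.RBProj.isFinite_map c Z₁
    exact K989.RBProj.baseLe_zero _ (K989.RBProj.isReduced_pullback_map c Z₁ _
      (inferInstanceAs (AlgebraicGeometry.IsReduced (Models.specialFibre R Z₁.subscheme
        (Z₁.subschemeι ≫ c ≫ CohB1.ProjSpace.toSpec n R)))))
  have h2 : K989.RBProj.BaseLe 0 (Z₂.map c) := by
    have := K989.RBProj.isFinite_map c Z₂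
    exact K989.RBProj.baseLe_zero _ (K989.RBProj.isReduced_pullback_map c Z₂ _
      (inferInstanceAs (AlgebraicGeometry.IsReduced (Models.specialFibre R Z₂.subscheme
        (Z₂.subschemeι ≫ c ≫ CohB1.ProjSpace.toSpec n R)))))
  have h3 : K989.RBProj.BaseLe 1 ((Z₁ ⊓ Z₂).map c) := by
    rw [Scheme.IdealSheafData.map_inf]
    exact K989.RBProj.baseLe_inf (IsPrincipalIdealRing.principal _) h1 h2
  have hbot : SmoothOfRelativeDimension 2 ((⊥ : X.IdealSheafData).subschemeι ≫ c ≫ CohB1.ProjSpace.toSpec n R) :=
    (K989.RBProj.smooth_iso_iff 2 (asIso (⊥ : X.IdealSheafData).subschemeι) _).2 inferInstance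
  obtain ⟨H, hH, hs⟩ := K989.RBProj.exists_hypersurface_of_le c (κ := Unit) (fun _ => ⊥) (fun _ => 2)
    (fun _ => hbot) (Z₁ ⊓ Z₂) 1 h3 (fun _ => by norm_num)
  refine ⟨H, ?_, hH.trans inf_le_left, hH.trans inf_le_right⟩
  have h4 := hs ()
  rwa [bot_sup_eq] at h4

end Groth.Agent.S19387
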