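import Groth.Statements.S19388
-- import your own Groth.Agent.* helpers here
import Groth.Agent.RelBert.K989.Final2

set_option autoImplicit false
universe u
open CategoryTheory CategoryTheory.Limits AlgebraicGeometry
open RelBert

namespace Groth.Agent.S19388

/-- Let R be an excellent Henselian discrete valuation ring with infinite perfect residue field k and X
a smooth projective R-scheme of relative dimension d ≥ 2 (f : X → Spec R smooth of relative
dimension d and proper, with an ample invertible O_X-module). Let T be an integral regular closed
subscheme of X, finite and flat over R (a regular horizontal curve), and C an integral closed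
subscheme, finite and flat over R with reduced special fibre (a regular horizontal curve meeting the
special fibre transversally). Then there are closed subschemes Z and Z' of X, smooth over R of
relative dimension 1 and d − 1 respectively, with T ⊆ Z and C ⊆ Z', such that the closed subscheme Z
∩ Z' ∩ X₀, X₀ the special fibre, is reduced and finite over R (it consists of finitely many reduced
points). (In the published lemma T and C are the specific horizontal curves of the surrounding
induction and the residue field k is only known to be infinite; the hypotheses listed are the ones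
its proof uses, together with k perfect: the published proof equates the embedding dimension of T at
a closed point of the special fibre with the rank of its differentials there, which holds when the
residue field of the point is separable over k and fails in general otherwise — for k = F_p(s, t)
and R = k[[π]], the spectrum of k(s^{1/p}, t^{1/p})[[π]], embedded in the projective plane over R by
Y^p = s, Z^p = t, is an admissible T and an admissible C and lies on no subscheme smooth of relative
dimension 1 over R.) -/
theorem result
    (R : Type u) [CommRing R] [IsDomain R] [IsDiscreteValuationRing R] [HenselianLocalRing R]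
    (hR : EGA4.IsExcellent R) [Infinite (IsLocalRing.ResidueField R)] [PerfectField (IsLocalRing.ResidueField R)]
    (X : Scheme.{u}) (f : X ⟶ Spec (CommRingCat.of R)) [IsProper f]
    (d : ℕ) [SmoothOfRelativeDimension d f] (hd : 2 ≤ d)
    (L : X.Modules) (hL : CohB1.IsAmple L)
    (T C : X.IdealSheafData) [AlgebraicGeometry.IsIntegral T.subscheme] (hT : Models.IsRegularScheme T.subscheme)
    [IsFinite (T.subschemeι ≫ f)] [Flat (T.subschemeι ≫ f)]
    [AlgebraicGeometry.IsIntegral C.subscheme] [IsFinite (C.subschemeι ≫ f)] [Flat (C.subschemeι ≫ f)]
    [AlgebraicGeometry.IsReduced (Models.specialFibre R C.subscheme (C.subschemeι ≫ f))] :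
    ∃ Z Z' : X.IdealSheafData, SmoothOfRelativeDimension 1 (Z.subschemeι ≫ f) ∧
      SmoothOfRelativeDimension (d - 1) (Z'.subschemeι ≫ f) ∧ Z ≤ T ∧ Z' ≤ C ∧
      AlgebraicGeometry.IsReduced (Z ⊔ Z' ⊔ (pullback.fst f (Spec.map (CommRingCat.ofHom (algebraMap R (IsLocalRing.ResidueField R))))).ker).subscheme ∧
      IsFinite ((Z ⊔ Z' ⊔ (pullback.fst f (Spec.map (CommRingCat.ofHom (algebraMap R (IsLocalRing.ResidueField R))))).ker).subschemeι ≫ f) := by
  obtain ⟨n, c, hc, rfl⟩ := Groth.Agent.CalgB.ProjField.exists_closedImmersion_projSpace f ⟨L, hL⟩
  have hR1 : ringKrullDim R ≤ 1 :=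
    (IsPrincipalIdealRing.ringKrullDim_eq_one R (IsDiscreteValuationRing.not_isField R)).le
  have h1 : K989.RBProj.BaseLe 1 (T.map c) := by
    have := K989.RBProj.isFinite_map c T
    exact K989.RBProj.baseLe_one hR1 _ (K989.RBProj.isRegular_map c T hT)
  have h2 : K989.RBProj.BaseLe 0 (C.map c) := by
    have := K989.RBProj.isFinite_map c C
    exact K989.RBProj.baseLe_zero _ (K989.RBProj.isReduced_pullback_map c C _
      (inferInstanceAs (AlgebraicGeometry.IsReduced (Models.specialFibre R C.subscheme
        (C.subschemeι ≫ c ≫ CohB1.ProjSpace.toSpec n R)))))
  obtain ⟨Z, Z', hZ, hZ', hZT, hZC, hs⟩ := K989.RBProj.exists_curve_and_hypersurface c d (by omega) T C h1 h2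
  exact ⟨Z, Z', hZ, hZ', hZT, hZC, K989.RBProj.special_fibre (c ≫ CohB1.ProjSpace.toSpec n R) (Z ⊔ Z') hs⟩

end Groth.Agent.S19388
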