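import Groth.Statements.S19389
-- import your own Groth.Agent.* helpers here
import Groth.Agent.PicThk.K111.Algebraize
import Groth.Agent.PicThk.K111.Geom

set_option autoImplicit false
universe u
open CategoryTheory CategoryTheory.Limits AlgebraicGeometry
open PicThk

namespace Groth.Agent.S19389

/-- Let p > 2 be a prime, k a finite field of characteristic p and W = W(k) its ring of Witt vectors;
let f : X → Spec W be proper and smooth of relative dimension 1 with an ample invertible O_X-module
(a smooth projective relative curve), and X_n = X ×_W Spec W/(p^{n+1}) the infinitesimal thickenings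
of the special fibre, with inclusions ι_n : X_n → X. Granting the group laws of the Picard groups
involved and the multiplicativity of pull-back of invertible classes along each ι_n, the restriction
maps Pic(X) → Pic(X_n) are all surjective, and for every i there is a level t such that a class on X
whose restriction to X_t is a p^i-th power is already a p^i-th power in Pic(X). (The published proof
identifies CH^1(X) with Pic(X) and H^1(X_1, K^M_1 of X_n) with Pic(X_n) and states that CH^1(X) ⊗
Z/p^i → (Pic(X_n) ⊗ Z/p^i)_n is an isomorphism of pro-abelian groups; the two assertions here are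
what its proof establishes and imply that pro-isomorphism, the first giving levelwise surjectivity
and the second the vanishing of the kernel pro-system.) -/
theorem result
    (p : ℕ) [Fact p.Prime] (hp : 2 < p) (k : Type u) [Field k] [Finite k] [CharP k p]
    (X : Scheme.{u}) (f : X ⟶ Spec (CommRingCat.of (WittVector p k))) [IsProper f] [SmoothOfRelativeDimension 1 f]
    (L : X.Modules) (hL : CohB1.IsAmple L)
    [PicGrp.Law X] [∀ n : ℕ, PicGrp.Law (CohB1.thick f (Ideal.span (singleton (p : (WittVector p k)))) n)]
    (hι : ∀ n : ℕ, PicGrp.PullMul (CohB1.thickι f (Ideal.span (singleton (p : (WittVector p k)))) n)) (i : ℕ) :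
    (∀ n : ℕ, Function.Surjective (PicGrp.pullHom (CohB1.thickι f (Ideal.span (singleton (p : (WittVector p k)))) n) (hι n))) ∧
    ∃ t : ℕ, ∀ a : PicLoc.PicSet X,
      (∃ b : PicLoc.PicSet (CohB1.thick f (Ideal.span (singleton (p : (WittVector p k)))) t), b ^ (p ^ i) = PicGrp.pullHom (CohB1.thickι f (Ideal.span (singleton (p : (WittVector p k)))) t) (hι t) a) →
      ∃ a' : PicLoc.PicSet X, a' ^ (p ^ i) = a := by
  have hm : Ideal.span (singleton (p : (WittVector p k))) = IsLocalRing.maximalIdeal (WittVector p k) :=
    ((IsDiscreteValuationRing.irreducible_iff_uniformizer _).mp (WittVector.irreducible p)).symm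
  have hc : IsAdicComplete (Ideal.span (singleton (p : (WittVector p k)))) (WittVector p k) :=
    WittVector.isAdicCompleteIdealSpanP
  have hc' : IsAdicComplete (IsLocalRing.maximalIdeal (WittVector p k)) (WittVector p k) := by
    rw [← hm]; exact hc
  have hsurj : ∀ n, Function.Surjective
      (K858.Basic.pull (CohB1.thickι f (Ideal.span (singleton (p : (WittVector p k)))) n)) := by
    rw [hm]
    exact K111.Geom.pull_surjective f
  have hvan : ∀ n (F : CohTop.Ab (CohB1.thick f (Ideal.span (singleton (p : (WittVector p k)))) n).toTopCat),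
      Subsingleton (CohTop.H F 2) := by
    rw [hm]
    exact K111.Geom.subsingleton_H f
  have hsurj' : ∀ n : ℕ, Function.Surjective
      (PicGrp.pullHom (CohB1.thickι f (Ideal.span (singleton (p : (WittVector p k)))) n) (hι n)) := by
    intro n b
    obtain ⟨c, hc⟩ := hsurj n ((K858.Basic.ofPic _).symm b)
    refine ⟨K858.Basic.ofPic X c, ?_⟩
    rw [K858.Basic.ofPic_pull, hc, MulEquiv.apply_symm_apply]
  refine ⟨hsurj', 1 + i, ?_⟩
  rintro a ⟨b, hb⟩
  obtain ⟨b', rfl⟩ := hsurj' (1 + i) b
  obtain ⟨d, -, hd⟩ := K111.Algebraize.exists_pow_root p f hm.le L hL hsurj hvan i 1 le_rfl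
    ((K858.Basic.ofPic X).symm (a * (b' ^ (p ^ i))⁻¹)) (by
      rw [← K858.Basic.ofPic_symm_pullHom _ (hι (1 + i)), map_mul, map_inv, map_pow, hb, mul_inv_cancel, map_one])
  refine ⟨K858.Basic.ofPic X d * b', ?_⟩
  rw [mul_pow, ← map_pow, hd, MulEquiv.apply_symm_apply, inv_mul_cancel_right]

end Groth.Agent.S19389
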