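import Groth.Statements.S19390
import Mathlib.Data.Fin.Tuple.Sort
import Mathlib.Tactic

set_option autoImplicit false
universe u
open GIT

namespace Groth.Agent.S19390

/-- The permutation of positions: a triangle `0 → e → 2e → 0` and transpositions `p ↔ p + e`. -/
def sg (e p : ℕ) : ℕ :=
  if p = 0 then e else if p = e then 2 * e else if p = 2 * e then 0 else
    if p < e then p + e else p - e

lemma sg_lt {e p : ℕ} (he : 1 ≤ e) (hp : p < 2 * e + 1) : sg e p < 2 * e + 1 := by
  unfold sg; split_ifs <;> omega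

lemma sg_inj {e p q : ℕ} (_he : 1 ≤ e) (_hp : p < 2 * e + 1) (hq : q < 2 * e + 1)
    (h : sg e p = sg e q) : p = q := by
  unfold sg at h; split_ifs at h <;> omega

lemma sg_far {e p : ℕ} (he : 1 ≤ e) (hp : p < 2 * e + 1) :
    e + p ≤ sg e p ∨ e + sg e p ≤ p := by
  unfold sg; split_ifs <;> omega

/-- Sorting the points by colour: positions at distance at least `e` have different colours. -/
lemma exists_sorted {α : Type u} [DecidableEq α] (e : ℕ)
    (x : Fin (2 * e + 1) → α)
    (hx : ∀ a : α, (Finset.univ.filter fun k => x k = a).card ≤ e) :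
    ∃ s : Equiv.Perm (Fin (2 * e + 1)), ∀ p q : Fin (2 * e + 1), e + (p : ℕ) ≤ q →
      x (s p) ≠ x (s q) := by
  classical
  -- canonical representative of a colour
  have hne : ∀ m, (Finset.univ.filter fun k => x k = x m).Nonempty :=
    fun m => ⟨m, by simp⟩
  let c : Fin (2 * e + 1) → Fin (2 * e + 1) :=
    fun m => (Finset.univ.filter fun k => x k = x m).min' (hne m)
  have hc : ∀ m, x (c m) = x m := by
    intro m
    have := Finset.min'_mem _ (hne m)
    exact (Finset.mem_filter.1 this).2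
  have hc' : ∀ m m', x m = x m' → c m = c m' := by
    intro m m' h
    simp only [c, h]
  refine ⟨Tuple.sort c, ?_⟩
  have hmono := Tuple.monotone_sort c
  intro p q hpq heq
  have h1 : ∀ t, p ≤ t → t ≤ q → x (Tuple.sort c t) = x (Tuple.sort c p) := by
    intro t hpt htq
    have h2 : (c ∘ Tuple.sort c) p ≤ (c ∘ Tuple.sort c) t := hmono hpt
    have h3 : (c ∘ Tuple.sort c) t ≤ (c ∘ Tuple.sort c) q := hmono htq
    have h4 : (c ∘ Tuple.sort c) p = (c ∘ Tuple.sort c) q := hc' _ _ heq
    rw [← h4] at h3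
    have h5 : c (Tuple.sort c t) = c (Tuple.sort c p) := le_antisymm h3 h2
    rw [← hc (Tuple.sort c t), h5, hc]
  have h2 : ((Finset.Icc p q).map (Tuple.sort c).toEmbedding) ⊆
      Finset.univ.filter fun k => x k = x (Tuple.sort c p) := by
    intro k hk
    obtain ⟨t, ht, rfl⟩ := Finset.mem_map.1 hk
    rw [Finset.mem_Icc] at ht
    exact Finset.mem_filter.2 ⟨Finset.mem_univ _, h1 t ht.1 ht.2⟩
  have h3 := Finset.card_le_card h2
  rw [Finset.card_map, Fin.card_Icc] at h3
  have h4 := hx (x (Tuple.sort c p))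
  omega

/-- Let e ≥ 1, n = 2e + 1, and let x_1, …, x_n be points such that no point occurs more than e times
among them (the stability condition for n ordered points on a line, n odd). Then there are index
sequences i_1, …, i_n and j_1, …, j_n in which every index between 1 and n occurs exactly twice in
total, such that x_{i_k} ≠ x_{j_k} for every k and (i_1, i_2, i_3) = (j_3, j_1, j_2). Indices are
written 0, …, n − 1 here. -/
theorem result {α : Type u} [DecidableEq α] (e : ℕ) (he : 1 ≤ e)
    (x : Fin (2 * e + 1) → α)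
    (hx : ∀ a : α, (Finset.univ.filter fun k => x k = a).card ≤ e) :
    ∃ i j : Fin (2 * e + 1) → Fin (2 * e + 1),
      (∀ m : Fin (2 * e + 1),
        (Finset.univ.filter fun k => i k = m).card + (Finset.univ.filter fun k => j k = m).card = 2) ∧
      (∀ k, x (i k) ≠ x (j k)) ∧
      i 0 = j 2 ∧ i 1 = j 0 ∧ i 2 = j 1 := by
  obtain ⟨s, hs⟩ := exists_sorted e x hx
  let σ : Fin (2 * e + 1) → Fin (2 * e + 1) := fun p => ⟨sg e p, sg_lt he p.2⟩
  have hσinj : Function.Injective σ := by
    intro p q h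
    apply Fin.ext
    exact sg_inj he p.2 q.2 (congrArg Fin.val h)
  have hσ : Function.Bijective σ := Finite.injective_iff_bijective.1 hσinj
  let pe : Fin (2 * e + 1) := ⟨e, by omega⟩
  let p2e : Fin (2 * e + 1) := ⟨2 * e, by omega⟩
  have v0 : ((0 : Fin (2 * e + 1)) : ℕ) = 0 := rfl
  have v1 : ((1 : Fin (2 * e + 1)) : ℕ) = 1 := by
    rw [Fin.val_one']
    exact Nat.mod_eq_of_lt (by omega)
  have v2 : ((2 : Fin (2 * e + 1)) : ℕ) = 2 := by
    change 2 % (2 * e + 1) = 2
    exact Nat.mod_eq_of_lt (by omega)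
  let τ : Equiv.Perm (Fin (2 * e + 1)) := Equiv.swap 1 pe * Equiv.swap 2 p2e
  have hne : ∀ a b : Fin (2 * e + 1), (a : ℕ) ≠ b → a ≠ b := fun a b h h' => h (by rw [h'])
  have vpe : (pe : ℕ) = e := rfl
  have vp2e : (p2e : ℕ) = 2 * e := rfl
  have t0 : τ 0 = 0 := by
    have h1 : Equiv.swap 2 p2e 0 = 0 := Equiv.swap_apply_of_ne_of_ne
      (hne _ _ (by rw [v0, v2]; omega)) (hne _ _ (by rw [v0, vp2e]; omega))
    simp only [τ, Equiv.Perm.mul_apply, h1]
    exact Equiv.swap_apply_of_ne_of_ne
      (hne _ _ (by rw [v0, v1]; omega)) (hne _ _ (by rw [v0, vpe]; omega))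
  have t1 : τ 1 = pe := by
    have h1 : Equiv.swap 2 p2e 1 = 1 := Equiv.swap_apply_of_ne_of_ne
      (hne _ _ (by rw [v1, v2]; omega)) (hne _ _ (by rw [v1, vp2e]; omega))
    simp only [τ, Equiv.Perm.mul_apply, h1]
    exact Equiv.swap_apply_left _ _
  have t2 : τ 2 = p2e := by
    have h1 : Equiv.swap 2 p2e 2 = p2e := Equiv.swap_apply_left _ _
    simp only [τ, Equiv.Perm.mul_apply, h1]
    exact Equiv.swap_apply_of_ne_of_ne
      (hne _ _ (by rw [vp2e, v1]; omega)) (hne _ _ (by rw [vp2e, vpe]; omega))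
  have s0 : σ 0 = pe := by
    apply Fin.ext
    simp only [σ, pe, v0]
    simp [sg]
  have s1 : σ pe = p2e := by
    apply Fin.ext
    simp only [σ, pe, p2e]
    unfold sg
    split_ifs <;> omega
  have s2 : σ p2e = 0 := by
    apply Fin.ext
    simp only [σ, p2e, v0]
    unfold sg
    split_ifs <;> omega
  have hcard : ∀ (f : Fin (2 * e + 1) → Fin (2 * e + 1)), Function.Bijective f → ∀ m,
      (Finset.univ.filter fun k => f k = m).card = 1 := by
    intro f hf m
    obtain ⟨k, hk⟩ := hf.2 m
    rw [Finset.card_eq_one]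
    refine ⟨k, ?_⟩
    ext k'
    simp only [Finset.mem_filter, Finset.mem_univ, true_and, Finset.mem_singleton]
    constructor
    · intro h; exact hf.1 (h.trans hk.symm)
    · rintro rfl; exact hk
  refine ⟨fun k => s (τ k), fun k => s (σ (τ k)), ?_, ?_, ?_, ?_, ?_⟩
  · intro m
    have h1 := hcard _ (s.bijective.comp τ.bijective) m
    have h2 := hcard _ (s.bijective.comp (hσ.comp τ.bijective)) m
    simp only [Function.comp_apply] at h1 h2
    simp only [h1, h2]
  · intro k
    rcases sg_far he (τ k).2 with h | h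
    · exact hs _ _ h
    · exact (hs (σ (τ k)) (τ k) h).symm
  · change s (τ 0) = s (σ (τ 2))
    rw [t0, t2, s2]
  · change s (τ 1) = s (σ (τ 0))
    rw [t0, t1, s0]
  · change s (τ 2) = s (σ (τ 1))
    rw [t1, t2, s1]

end Groth.Agent.S19390
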