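import Groth.Statements.S19397
import Groth.Agent.FunFld.K671.EllAut2

set_option autoImplicit false
universe u v
open FunFld

namespace Groth.Agent.S19397

open Classical in
/-- Over an algebraically closed field of characteristic different from 2 and 3, the automorphism group
of an elliptic curve (automorphisms fixing the base point) with invariant j has order 2 if j ≠ 0,
12³, order 4 if j = 12³ and order 6 if j = 0. Stated for the function field K/k of the curve: K of
genus 1 generated by x, y with y² = x³ + a x + b and 4a³ + 27b² ≠ 0, P the place where x has its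
double and y its triple pole (and no other poles), so that j = 12³ · 4a³/(4a³ + 27b²) and the three
cases are a, b ≠ 0; b = 0; a = 0; the automorphisms are the k-algebra automorphisms of K preserving
the valuation of P. -/
theorem result (k : Type u) (K : Type v) [Field k]
    [IsAlgClosed k] [Field K] [Algebra k K] (h2 : (2 : k) ≠ 0) (h3 : (3 : k) ≠ 0)
    (hK : FunFld.IsFunctionField k K) (hgen : FunFld.genus k K = 1) (P : FunFld.Place k K)
    (a b : k) (hdisc : 4 * a ^ 3 + 27 * b ^ 2 ≠ 0) (x y : K)
    (heq : y ^ 2 = x ^ 3 + algebraMap k K a * x + algebraMap k K b)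
    (hxy : IntermediateField.adjoin k ({x, y} : Set K) = ⊤)
    (hx : x ∈ FunFld.L (Finsupp.single P 2)) (hx2 : P.ord x = -2)
    (hy : y ∈ FunFld.L (Finsupp.single P 3)) (hy3 : P.ord y = -3) :
    Nat.card {σ : K ≃ₐ[k] K // ∀ z : K, P.1 (σ z) = P.1 z} =
      if a = 0 then 6 else if b = 0 then 4 else 2 := by
  classical
  have hP : P.deg = 1 := K671.Basic.place_deg_eq_one hK P
  have hx0 : x ≠ 0 := by rintro rfl; simp at hx2
  have hy0 : y ≠ 0 := by rintro rfl; simp at hy3
  have hinj := (algebraMap k K).injective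
  -- the bijection
  have hcard : Nat.card {σ : K ≃ₐ[k] K // ∀ z : K, P.1 (σ z) = P.1 z} =
      Nat.card {l : k // l ≠ 0 ∧ l ^ 4 * a = a ∧ l ^ 6 * b = b} := by
    have hex := fun σ : {σ : K ≃ₐ[k] K // ∀ z : K, P.1 (σ z) = P.1 z} =>
      K671.EllAut.exists_lambda h2 h3 hK hgen P hP a b x y heq hx hx2 hy hy3 σ.1 σ.2
    choose l hl hlx hly using hex
    refine Nat.card_congr (Equiv.ofBijective (fun σ => ⟨l σ, hl σ⟩) ⟨?_, ?_⟩)
    · intro σ τ hστ
      have hll : l σ = l τ := congrArg Subtype.val hστ
      apply Subtype.ext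
      have : (σ.1 : K →ₐ[k] K) = (τ.1 : K →ₐ[k] K) := by
        apply K671.EllAut.algHom_ext_of_adjoin hxy
        rintro z (rfl | hz)
        · change σ.1 _ = τ.1 _
          rw [hlx, hlx, hll]
        · rw [Set.mem_singleton_iff] at hz
          subst hz
          change σ.1 _ = τ.1 _
          rw [hly, hly, hll]
      ext z
      exact DFunLike.congr_fun this z
    · rintro ⟨m, hm0, hma, hmb⟩
      obtain ⟨σ, hσ, hσx, hσy⟩ := K671.EllAut.exists_aut P heq hxy hx hx2 hy3 hm0 hma hmb
      refine ⟨⟨σ, hσ⟩, Subtype.ext ?_⟩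
      change l ⟨σ, hσ⟩ = m
      have h1 := hlx ⟨σ, hσ⟩
      have h2' := hly ⟨σ, hσ⟩
      change σ x = _ at h1
      change σ y = _ at h2'
      rw [hσx] at h1
      rw [hσy] at h2'
      have e2 := hinj (mul_right_cancel₀ hx0 h1)
      have e3 := hinj (mul_right_cancel₀ hy0 h2')
      have hl0 := (hl ⟨σ, hσ⟩).1
      generalize l ⟨σ, hσ⟩ = l' at *
      have h4 : l' ^ 2 * (l' - m) = 0 := by linear_combination -e3 + m * e2
      rcases mul_eq_zero.1 h4 with h | h
      · exact absurd (pow_eq_zero_iff (by norm_num) |>.1 h) hl0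
      · exact sub_eq_zero.1 h
  rw [hcard]
  have h4 : (4 : k) ≠ 0 := by
    have : (4 : k) = 2 * 2 := by norm_num
    rw [this]; exact mul_ne_zero h2 h2
  have h6 : (6 : k) ≠ 0 := by
    have : (6 : k) = 2 * 3 := by norm_num
    rw [this]; exact mul_ne_zero h2 h3
  have key : ∀ n : ℕ, 0 < n → (n : k) ≠ 0 →
      (∀ l : k, (l ≠ 0 ∧ l ^ 4 * a = a ∧ l ^ 6 * b = b) ↔ l ^ n = 1) →
      Nat.card {l : k // l ≠ 0 ∧ l ^ 4 * a = a ∧ l ^ 6 * b = b} = n := by
    intro n _ hn h
    rw [Nat.card_congr (Equiv.subtypeEquivRight h)]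
    exact K671.EllAut.card_roots n hn
  by_cases ha : a = 0
  · rw [if_pos ha]
    have hb : b ≠ 0 := by
      rintro rfl
      apply hdisc
      rw [ha]; ring
    apply key 6 (by norm_num) (by exact_mod_cast h6)
    intro l
    constructor
    · rintro ⟨-, -, h⟩
      exact mul_right_cancel₀ hb (by rw [h, one_mul])
    · intro h
      refine ⟨?_, by rw [ha, mul_zero], by rw [h, one_mul]⟩
      rintro rfl
      norm_num at h
  · rw [if_neg ha]
    by_cases hb : b = 0
    · rw [if_pos hb]
      apply key 4 (by norm_num) (by exact_mod_cast h4)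
      intro l
      constructor
      · rintro ⟨-, h, -⟩
        exact mul_right_cancel₀ ha (by rw [h, one_mul])
      · intro h
        refine ⟨?_, by rw [h, one_mul], by rw [hb, mul_zero]⟩
        rintro rfl
        norm_num at h
    · rw [if_neg hb]
      apply key 2 (by norm_num) (by exact_mod_cast h2)
      intro l
      constructor
      · rintro ⟨-, h, h'⟩
        have e4 : l ^ 4 = 1 := mul_right_cancel₀ ha (by rw [h, one_mul])
        have e6 : l ^ 6 = 1 := mul_right_cancel₀ hb (by rw [h', one_mul])
        linear_combination e6 - l ^ 2 * e4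
      · intro h
        refine ⟨?_, ?_, ?_⟩
        · rintro rfl
          norm_num at h
        · linear_combination (l ^ 2 + 1) * a * h
        · linear_combination (l ^ 4 + l ^ 2 + 1) * b * h

end Groth.Agent.S19397
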