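import Groth.Statements.S19398
import Groth.Agent.Books.ComodInv

set_option autoImplicit false
universe u
open GIT

namespace Groth.Agent.S19398

/-- For a reductive group G (here: every finite-dimensional representation completely reducible, i.e.
linearly reductive) acting linearly on vector spaces V and V′ of any dimension, with Reynolds
operators E and E′ (the projections onto the invariants along the unique invariant complement),
every G-linear map u : V → V′ satisfies E′ ∘ u = u ∘ E. Stated for comodules over a commutative Hopf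
algebra A whose finite-dimensional comodules are semisimple; a Reynolds operator is a comodule
endomorphism that is idempotent and fixes exactly the invariant vectors (such an operator is the
projection onto the invariants along an invariant complement, which is unique). -/
theorem result (k : Type u) [Field k] (A : Type u) [CommRing A] [HopfAlgebra k A]
    (hG : HopfRep.IsLinearlyReductive k A)
    (V W : Type u) [AddCommGroup V] [Module k V] [HopfRep.Comod k A V]
    [AddCommGroup W] [Module k W] [HopfRep.Comod k A W]
    (E : V →ₗ[k] V) (hE₁ : Hoch.IsComodHom A E) (hE₂ : E ∘ₗ E = E)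
    (hE₃ : ∀ x : V, E x = x ↔ x ∈ HopfRep.fixedPts k A V)
    (E' : W →ₗ[k] W) (hE'₁ : Hoch.IsComodHom A E') (hE'₂ : E' ∘ₗ E' = E')
    (hE'₃ : ∀ y : W, E' y = y ↔ y ∈ HopfRep.fixedPts k A W)
    (u : V →ₗ[k] W) (hu : Hoch.IsComodHom A u) :
    E' ∘ₗ u = u ∘ₗ E := by
  have hE : Groth.Agent.Books.ComodHom.IsComodHom k A E := fun v => LinearMap.congr_fun hE₁ v
  have hE' : Groth.Agent.Books.ComodHom.IsComodHom k A E' := fun v => LinearMap.congr_fun hE'₁ v
  have hu' : Groth.Agent.Books.ComodHom.IsComodHom k A u := fun v => LinearMap.congr_fun hu v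
  have hEE : ∀ x, E (E x) = E x := fun x => LinearMap.congr_fun hE₂ x
  have hE'E' : ∀ x, E' (E' x) = E' x := fun x => LinearMap.congr_fun hE'₂ x
  have hf : Groth.Agent.Books.ComodHom.IsComodHom k A (E' ∘ₗ u ∘ₗ (LinearMap.id - E)) :=
    hE'.comp (hu'.comp (Groth.Agent.Books.ComodHom.isComodHom_id.sub hE))
  ext v
  have hw : (E' ∘ₗ u ∘ₗ (LinearMap.id - E)) v ∈ HopfRep.fixedPts k A W := by
    rw [← hE'₃]
    simp only [LinearMap.comp_apply, hE'E']
  obtain ⟨v', hv', hv''⟩ :=
    Groth.Agent.Books.ComodInv.exists_fixed_lift hG hf hw (v := v) rfl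
  have h0 : (E' ∘ₗ u ∘ₗ (LinearMap.id - E)) v' = 0 := by
    have : E v' = v' := (hE₃ v').2 hv'
    simp [this]
  rw [h0] at hv''
  have h1 : E' (u v) = E' (u (E v)) := by
    have : E' (u (v - E v)) = 0 := hv''.symm
    rw [map_sub, map_sub, sub_eq_zero] at this
    exact this
  have h2 : E' (u (E v)) = u (E v) := by
    rw [hE'₃]
    exact Groth.Agent.Books.ComodInv.IsComodHom.map_mem_fixedPts hu' ((hE₃ _).1 (hEE v))
  simp only [LinearMap.comp_apply]
  rw [h1, h2]

end Groth.Agent.S19398
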