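import Groth.Statements.S19400
import Groth.Agent.GIT.K690.Orbits
import Groth.Agent.S18834

set_option autoImplicit false
universe u
open GIT

namespace Groth.Agent.S19400

open K690.Orbits

/-- For a linearly reductive coaction, extension of a proper ideal of the invariants is proper. -/
theorem map_ne_top (k : Type u) [Field k]
    (A : Type u) [CommRing A] [HopfAlgebra k A] (hG : HopfRep.IsLinearlyReductive k A)
    (R : Type u) [CommRing R] [Algebra k R]
    [HopfRep.Comod k A R] [GLin.IsCoactAlg k A R]
    (I : Ideal (GLin.invariants k A R)) (hI : I ≠ ⊤) :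
    Ideal.map (GLin.invariants k A R).val.toRingHom I ≠ ⊤ := by
  intro h
  apply hI
  rw [Ideal.eq_top_iff_one]
  have hx : (1 : R) ∈ Ideal.map (GLin.invariants k A R).val.toRingHom I := by rw [h]; trivial
  rw [Ideal.map, Ideal.span, Submodule.mem_span_set'] at hx
  obtain ⟨n, r, g, hg⟩ := hx
  have hg' : ∀ i, ∃ y ∈ I, (y : R) = g i := fun i => (g i).2
  choose y hyI hy using hg'
  have hx' : ∑ i, (y i : R) * r i = 1 := by
    refine Eq.trans (Finset.sum_congr rfl fun i _ => ?_) hg
    rw [hy, smul_eq_mul, mul_comm]
  obtain ⟨s, hs, hs'⟩ := S18834.exists_invariant_coeff k A hG R (fun i => (y i : R))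
    (fun i => (y i).2) r (by rw [hx']; exact one_mem_fixedPts)
  have : (1 : GLin.invariants k A R) = ∑ i, y i * (⟨s i, hs i⟩ : GLin.invariants k A R) := by
    apply Subtype.ext
    rw [AddSubmonoidClass.coe_finsetSum]
    exact (hs'.trans hx').symm
  rw [this]
  exact I.sum_mem fun i _ => I.mul_mem_right _ (hyI i)

/-- For a reductive group G (here: every finite-dimensional representation completely reducible, i.e.
linearly reductive; any characteristic) acting on an affine variety X = Spec R over an algebraically
closed field with all orbits of closed points closed, the morphism X → Y = Spec R^G is a geometric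
quotient; in particular it is surjective on closed points and its fibre over every closed point of Y
is a single orbit. This row states those two point-set assertions in coaction form: G = Spec A with
A a finitely generated commutative Hopf algebra whose finite-dimensional comodules are semisimple, R
of finite type with a multiplicative unital coaction, points as k-algebra maps. The published
statement takes X to be a variety (reduced and irreducible); this row does not assume R reduced or a
domain. -/
theorem result (k : Type u) [Field k] [IsAlgClosed k]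
    (A : Type u) [CommRing A] [HopfAlgebra k A] [Algebra.FiniteType k A]
    (hG : HopfRep.IsLinearlyReductive k A)
    (R : Type u) [CommRing R] [Algebra k R] [Algebra.FiniteType k R]
    [HopfRep.Comod k A R] [GLin.IsCoactAlg k A R]
    (hcl : ∀ x : R →ₐ[k] k, GLin.IsClosedOrbit k A x)
    (y : GLin.invariants k A R →ₐ[k] k) :
    (∃ x : R →ₐ[k] k, x.comp (GLin.invariants k A R).val = y) ∧
      ∀ x x' : R →ₐ[k] k, x.comp (GLin.invariants k A R).val = y →
        x'.comp (GLin.invariants k A R).val = y →
          ∃ g : A →ₐ[k] k, x' = GLin.actPt k g x := by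
  constructor
  · have hne : RingHom.ker y ≠ ⊤ := RingHom.ker_ne_top _
    obtain ⟨x, hx⟩ := exists_point_of_ne_top (k := k) _ (map_ne_top k A hG R _ hne)
    refine ⟨x, ?_⟩
    apply AlgHom.ext
    intro f
    have h1 : f - algebraMap k _ (y f) ∈ RingHom.ker y := by
      rw [RingHom.mem_ker, map_sub, AlgHom.commutes]
      simp
    have h2 := hx (Ideal.mem_map_of_mem _ h1)
    rw [RingHom.mem_ker] at h2
    have h3 : (x.comp (GLin.invariants k A R).val) (f - algebraMap k _ (y f)) = 0 := h2
    rw [map_sub, AlgHom.commutes, sub_eq_zero] at h3
    exact h3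
  · intro x x' hx hx'
    by_cases h : RingHom.ker (GLin.orbitHom k A x) ⊔ RingHom.ker (GLin.orbitHom k A x') = ⊤
    · exfalso
      obtain ⟨a, ha, haI, haJ⟩ := exists_invariant_sub_mem hG _ _
        (isSubcomod_ker_orbitHom x) (isSubcomod_ker_orbitHom x') h
      have h1 : x a = 0 := by
        rw [← counit_orbitHom (A := A) x a, (RingHom.mem_ker).1 haI, map_zero]
      have h2 : x' (1 - a) = 0 := by
        rw [← counit_orbitHom (A := A) x' (1 - a), (RingHom.mem_ker).1 haJ, map_zero]
      have h3 : x' a = x a := by
        have := AlgHom.congr_fun (hx'.trans hx.symm) ⟨a, ha⟩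
        exact this
      rw [map_sub, map_one, h3, h1, sub_zero] at h2
      exact one_ne_zero h2
    · obtain ⟨z, hz⟩ := exists_point_of_ne_top (k := k) _ h
      obtain ⟨g, hg⟩ := exists_actPt_of_ker_le (hcl x) (le_sup_left.trans hz)
      obtain ⟨g', hg'⟩ := exists_actPt_of_ker_le (hcl x') (le_sup_right.trans hz)
      refine ⟨mulPt g (invPt g'), ?_⟩
      rw [← actPt_actPt, ← hg, hg', actPt_invPt_actPt]

end Groth.Agent.S19400
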