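import Groth.Statements.S19402
import Groth.Agent.Ega4late.H543.UnramInj
import Mathlib.RingTheory.Unramified.LocalRing
import Mathlib.RingTheory.LocalRing.ResidueField.Instances

set_option autoImplicit false
universe u v w
open scoped Pointwise
open GLin

namespace Groth.Agent.S19402

/-- Invariants of a normal domain are normal. -/
lemma isIntegrallyClosed_of_isInvariant {R : Type*} [CommRing R] [IsDomain R] [IsIntegrallyClosed R]
    (G : Type*) [Group G] [MulSemiringAction G R] {B : Type*} [CommRing B] [IsDomain B]
    [Algebra B R] [FaithfulSMul B R] [SMulCommClass G B R] [Algebra.IsInvariant B R G] :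
    IsIntegrallyClosed B := by
  rw [isIntegrallyClosed_iff (FractionRing B)]
  intro x hx
  obtain ⟨a, b, hb, rfl⟩ := IsFractionRing.div_surjective (A := B) x
  have hb0 : b ≠ 0 := nonZeroDivisors.ne_zero hb
  have hbR : algebraMap B R b ≠ 0 := by
    rwa [Ne, FaithfulSMul.algebraMap_eq_zero_iff]
  let f : FractionRing B →+* FractionRing R :=
    IsFractionRing.map (FaithfulSMul.algebraMap_injective B R)
  have hf : ∀ c : B, f (algebraMap B _ c) = algebraMap R _ (algebraMap B R c) :=
    fun c => IsLocalization.map_eq _ c
  have h1 : IsIntegral R (f (algebraMap B _ a / algebraMap B _ b)) := by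
    refine hx.map_of_comp_eq (algebraMap B R) f ?_
    ext c
    exact (hf c).symm
  obtain ⟨y, hy⟩ := IsIntegrallyClosed.isIntegral_iff.mp h1
  rw [map_div₀, hf, hf, eq_div_iff (by rwa [Ne, FaithfulSMul.algebraMap_eq_zero_iff]),
    ← map_mul] at hy
  have hy' : y * algebraMap B R b = algebraMap B R a :=
    FaithfulSMul.algebraMap_injective R (FractionRing R) hy
  obtain ⟨c, hc⟩ := Algebra.IsInvariant.isInvariant (A := B) (G := G) y (fun g => by
    have h2 := congrArg (g • ·) hy'
    simp only [smul_mul', smul_algebraMap] at h2
    rw [← hy'] at h2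
    exact mul_right_cancel₀ hbR h2)
  refine ⟨c, ?_⟩
  rw [eq_div_iff (by rwa [Ne, FaithfulSMul.algebraMap_eq_zero_iff]), ← map_mul]
  congr 1
  apply FaithfulSMul.algebraMap_injective B R
  rw [map_mul, hc, hy']

/-- Trivial stabiliser: the maximal ideal of the local ring is generated from below. -/
lemma map_under_eq {R : Type*} [CommRing R]
    (G : Type*) [Group G] [Finite G] [MulSemiringAction G R] {B : Type*} [CommRing B]
    [Algebra B R] [Algebra.IsInvariant B R G] [IsNoetherianRing R]
    (m : Ideal R) [m.IsMaximal] (hm : MulAction.stabilizer G m = ⊥) :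
    (m.comap (algebraMap B R)).map (algebraMap B (Localization.AtPrime m)) =
      IsLocalRing.maximalIdeal (Localization.AtPrime m) := by
  classical
  cases nonempty_fintype G
  set n := m.comap (algebraMap B R) with hn
  let L := Localization.AtPrime m
  have hmL : m.map (algebraMap R L) = IsLocalRing.maximalIdeal L :=
    Localization.AtPrime.map_eq_maximalIdeal
  have hle : n.map (algebraMap B L) ≤ IsLocalRing.maximalIdeal L := by
    rw [← hmL, IsScalarTower.algebraMap_eq B R L, ← Ideal.map_map]
    exact Ideal.map_mono Ideal.map_comap_le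
  refine le_antisymm hle ?_
  -- elements congruent to `1` at the other points
  have key : ∀ f ∈ m, (∀ g : G, g ≠ 1 → g • f - 1 ∈ m) →
      algebraMap R L f ∈ n.map (algebraMap B L) := by
    intro f hf h
    obtain ⟨b, hb⟩ := Algebra.IsInvariant.isInvariant (A := B) (G := G) (∏ g : G, g • f) (fun g => by
      rw [Finset.smul_prod']
      simp_rw [smul_smul]
      exact Fintype.prod_equiv (Equiv.mulLeft g) _ _ fun _ => rfl)
    have hprod : ∏ g : G, g • f = f * ∏ g ∈ Finset.univ.erase (1 : G), g • f := by
      rw [← Finset.mul_prod_erase _ _ (Finset.mem_univ (1 : G)), one_smul]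
    have hbn : b ∈ n := by
      rw [hn, Ideal.mem_comap, hb, hprod]
      exact m.mul_mem_right _ hf
    have hu : (∏ g ∈ Finset.univ.erase (1 : G), g • f) ∉ m := by
      intro hcon
      obtain ⟨g, hg, hgm⟩ := (Ideal.IsPrime.prod_mem_iff (p := m)).1 hcon
      have h1 := h g (Finset.ne_of_mem_erase hg)
      have : (1 : R) ∈ m := by
        have := m.sub_mem hgm h1
        simpa using this
      exact (Ideal.ne_top_iff_one m).1 (Ideal.IsMaximal.ne_top ‹_›) this
    have hunit : IsUnit (algebraMap R L (∏ g ∈ Finset.univ.erase (1 : G), g • f)) :=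
      IsLocalization.map_units L (⟨_, hu⟩ : m.primeCompl)
    have h2 : algebraMap R L f * algebraMap R L (∏ g ∈ Finset.univ.erase (1 : G), g • f) ∈
        n.map (algebraMap B L) := by
      rw [← map_mul, ← hprod, ← hb, ← IsScalarTower.algebraMap_apply]
      exact Ideal.mem_map_of_mem _ hbn
    rwa [mul_comm, Ideal.unit_mul_mem_iff_mem _ hunit] at h2
  -- arbitrary elements
  have key2 : ∀ f ∈ m, ∃ f' ∈ m, f - f' ∈ m ^ 2 ∧ ∀ g : G, g ≠ 1 → g • f' - 1 ∈ m := by
    intro f hf
    let I : Option {g : G // g ≠ 1} → Ideal R := fun i => i.elim (m ^ 2) (fun g => (g.1)⁻¹ • m)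
    have hmax : ∀ g : G, (g • m).IsMaximal := fun g => by
      rw [Ideal.pointwise_smul_eq_comap]
      exact Ideal.comap_isMaximal_of_equiv _
    have hne : ∀ g : G, g ≠ 1 → g • m ≠ m := by
      intro g hg hgm
      have : g ∈ MulAction.stabilizer G m := hgm
      rw [hm] at this
      exact hg this
    have hcop : Pairwise fun i j => IsCoprime (I i) (I j) := by
      have hc1 : ∀ g : G, g ≠ 1 → IsCoprime m (g⁻¹ • m) := by
        intro g hg
        haveI := hmax g⁻¹
        refine Ideal.isCoprime_of_isMaximal ?_
        intro h
        exact hne g⁻¹ (inv_ne_one.2 hg) h.symm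
      intro i j hij
      rcases i with _ | i <;> rcases j with _ | j
      · exact absurd rfl hij
      · exact IsCoprime.pow_left (hc1 j.1 j.2)
      · exact (IsCoprime.pow_left (hc1 i.1 i.2)).symm
      · haveI h1 : (I (some i)).IsMaximal := hmax _
        haveI h2 : (I (some j)).IsMaximal := hmax _
        refine Ideal.isCoprime_of_isMaximal ?_
        intro h
        have h' : (i.1)⁻¹ • m = (j.1)⁻¹ • m := h
        have h3 : i.1 • (j.1)⁻¹ • m = m := by rw [← h', smul_inv_smul]
        rw [smul_smul] at h3
        have h4 : i.1 * (j.1)⁻¹ = 1 := by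
          by_contra h5
          exact hne _ h5 h3
        apply hij
        rw [mul_inv_eq_one] at h4
        rw [Subtype.ext h4]
    obtain ⟨f', hf'⟩ := Ideal.exists_forall_sub_mem_ideal hcop
      (fun i : Option {g : G // g ≠ 1} => i.elim f (fun _ => (1 : R)))
    have h0 : f' - f ∈ m ^ 2 := hf' none
    have hmm : m ^ 2 ≤ m := Ideal.pow_le_self (by norm_num)
    refine ⟨f', ?_, ?_, fun g hg => ?_⟩
    · have := m.add_mem (hmm h0) hf
      simpa using this
    · rw [← neg_sub]
      exact (m ^ 2).neg_mem h0
    · have h1 : f' - 1 ∈ (g⁻¹ • m : Ideal R) := hf' (some ⟨g, hg⟩)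
      have h2 := Ideal.mem_inv_pointwise_smul_iff.1 h1
      rwa [smul_sub, smul_one] at h2
  -- Nakayama
  have hfg : (IsLocalRing.maximalIdeal L).FG := (isNoetherianRing_iff_ideal_fg L).1 inferInstance _
  have hnak : IsLocalRing.maximalIdeal L ≤ n.map (algebraMap B L) ⊔
      IsLocalRing.maximalIdeal L • IsLocalRing.maximalIdeal L := by
    rw [← hmL, Ideal.map_le_iff_le_comap]
    intro f hf
    obtain ⟨f', hf', h1, h2⟩ := key2 f hf
    have h3 : algebraMap R L f = algebraMap R L f' + algebraMap R L (f - f') := by
      rw [map_sub]; ring
    rw [Ideal.mem_comap, h3]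
    refine Submodule.add_mem_sup (key f' hf' h2) ?_
    rw [smul_eq_mul, ← Ideal.map_mul, ← pow_two]
    exact Ideal.mem_map_of_mem _ h1
  exact Submodule.le_of_le_smul_of_le_jacobson_bot hfg
    (IsLocalRing.maximalIdeal_le_jacobson _) hnak


/-- Let k be an algebraically closed field of characteristic zero, R a finitely generated commutative
k-algebra which is an integrally closed domain (a normal irreducible affine variety X), and G a
finite group acting faithfully on R by k-algebra automorphisms. Let B be a commutative k-algebra
with an injective algebra map B → R, compatible with the k-structures and G-invariant, whose image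
is exactly the subring of G-invariants (so Spec R → Spec B is the quotient morphism X → X/G). Then
for a maximal ideal m of R (a closed point x of X), R is étale over B at m (the local ring R_m is
formally étale over B) if and only if the stabilizer of m in G is trivial. -/
theorem result (k : Type u) [Field k] [IsAlgClosed k] [CharZero k]
    (R : Type v) [CommRing R] [IsDomain R] [IsIntegrallyClosed R] [Algebra k R] [Algebra.FiniteType k R]
    (G : Type w) [Group G] [Finite G] [MulSemiringAction G R] [FaithfulSMul G R] [SMulCommClass G k R]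
    (B : Type v) [CommRing B] [Algebra k B] [Algebra B R] [IsScalarTower k B R] [FaithfulSMul B R]
    [SMulCommClass G B R] [Algebra.IsInvariant B R G]
    (m : Ideal R) [m.IsMaximal] :
    Algebra.IsEtaleAt B m ↔ MulAction.stabilizer G m = ⊥ := by
  classical
  haveI : IsDomain B := (FaithfulSMul.algebraMap_injective B R).isDomain (algebraMap B R)
  haveI : IsNoetherianRing R := Algebra.FiniteType.isNoetherianRing k R
  haveI : Algebra.FiniteType B R := Algebra.FiniteType.of_restrictScalars_finiteType k B R
  haveI : Algebra.IsIntegral B R := Algebra.IsInvariant.isIntegral B R G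
  constructor
  · intro het
    rw [eq_bot_iff]
    intro g hg
    have hg' : g • m = m := hg
    let L := Localization.AtPrime m
    have hcomap : m = m.comap (MulSemiringAction.toRingHom G R g) := by
      ext x
      rw [Ideal.mem_comap]
      change x ∈ m ↔ g • x ∈ m
      conv_rhs => rw [← hg']
      exact Ideal.smul_mem_pointwise_smul_iff.symm
    let σ : L →+* L := Localization.localRingHom m m (MulSemiringAction.toRingHom G R g) hcomap
    have hσ : ∀ r : R, σ (algebraMap R L r) = algebraMap R L (g • r) := fun r =>
      Localization.localRingHom_to_map m m _ hcomap r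
    let σ' : L →ₐ[B] L :=
      { σ with
        commutes' := fun b => by
          change σ (algebraMap B L b) = algebraMap B L b
          rw [IsScalarTower.algebraMap_apply B R L, hσ, smul_algebraMap] }
    have hin : ∀ r : R, g • r - r ∈ m := by
      intro r
      obtain ⟨c, hc⟩ : ∃ c : k, r - algebraMap k R c ∈ m := by
        haveI : Module.Finite k (R ⧸ m) := by
          letI := Ideal.Quotient.field m
          exact finite_of_finite_type_of_isJacobsonRing k (R ⧸ m)
        have : Function.Bijective (algebraMap k (R ⧸ m)) := by
          letI := Ideal.Quotient.field m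
          exact IsAlgClosed.algebraMap_bijective_of_isIntegral
        obtain ⟨c, hc⟩ := this.2 (Ideal.Quotient.mk m r)
        refine ⟨c, ?_⟩
        rw [← Ideal.Quotient.eq, ← hc]
        rfl
      have h1 : g • (r - algebraMap k R c) ∈ m := by
        have h2 : g • (r - algebraMap k R c) ∈ g • m := Ideal.smul_mem_pointwise_smul g _ _ hc
        rwa [hg'] at h2
      rw [smul_sub, smul_algebraMap] at h1
      have := m.sub_mem h1 hc
      have h3 : g • r - algebraMap k R c - (r - algebraMap k R c) = g • r - r := by ring
      rwa [h3] at this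
    haveI : Algebra.FormallyUnramified B L := inferInstance
    have heq : σ' = AlgHom.id B L := by
      refine Algebra.FormallyUnramified.ext_of_iInf (I := IsLocalRing.maximalIdeal L)
        (Ideal.iInf_pow_eq_bot_of_isLocalRing _ (Ideal.IsPrime.ne_top inferInstance)) ?_
      intro x
      obtain ⟨r, s, rfl⟩ := IsLocalization.exists_mk'_eq m.primeCompl x
      rw [Ideal.Quotient.eq]
      have hcore : ∀ r : R, σ' (algebraMap R L r) - algebraMap R L r ∈
          IsLocalRing.maximalIdeal L := by
        intro r
        change σ (algebraMap R L r) - algebraMap R L r ∈ _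
        rw [hσ, ← map_sub, ← Localization.AtPrime.map_eq_maximalIdeal]
        exact Ideal.mem_map_of_mem _ (hin r)
      -- the subring on which both maps agree modulo the maximal ideal
      have h1 : Ideal.Quotient.mk (IsLocalRing.maximalIdeal L) (σ' (IsLocalization.mk' L r s)) *
          Ideal.Quotient.mk (IsLocalRing.maximalIdeal L) (algebraMap R L s) =
          Ideal.Quotient.mk (IsLocalRing.maximalIdeal L) (IsLocalization.mk' L r s) *
          Ideal.Quotient.mk (IsLocalRing.maximalIdeal L) (algebraMap R L s) := by
        rw [← map_mul, ← map_mul, IsLocalization.mk'_spec]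
        have h2 : Ideal.Quotient.mk (IsLocalRing.maximalIdeal L) (algebraMap R L s) =
            Ideal.Quotient.mk (IsLocalRing.maximalIdeal L) (σ' (algebraMap R L s)) := by
          rw [eq_comm, Ideal.Quotient.eq]
          exact hcore s
        rw [map_mul, h2, ← map_mul, ← map_mul, IsLocalization.mk'_spec, Ideal.Quotient.eq]
        exact hcore r
      have hunit : IsUnit (Ideal.Quotient.mk (IsLocalRing.maximalIdeal L) (algebraMap R L s)) :=
        (IsLocalization.map_units L s).map _
      have h3 := hunit.mul_right_cancel h1
      rw [Ideal.Quotient.eq] at h3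
      exact h3
    have hgr : ∀ r : R, g • r = r := by
      intro r
      have h1 := DFunLike.congr_fun heq (algebraMap R L r)
      change σ (algebraMap R L r) = algebraMap R L r at h1
      rw [hσ] at h1
      exact IsLocalization.injective L m.primeCompl_le_nonZeroDivisors h1
    exact FaithfulSMul.eq_of_smul_eq_smul (M := G) (α := R) (fun r => by rw [hgr, one_smul])
  · intro hm
    haveI : IsIntegrallyClosed B := isIntegrallyClosed_of_isInvariant (R := R) G
    set n := m.comap (algebraMap B R) with hn
    haveI : n.IsPrime := inferInstance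
    haveI : m.LiesOver n := ⟨rfl⟩
    letI : Algebra (Localization.AtPrime n) (Localization.AtPrime m) :=
      Localization.AtPrime.algebraOfLiesOver n m
    haveI : Algebra.IsUnramifiedAt B m := by
      rw [Algebra.isUnramifiedAt_iff_map_eq B n m]
      refine ⟨?_, map_under_eq G m hm⟩
      haveI : CharZero n.ResidueField :=
        charZero_of_injective_algebraMap (algebraMap k n.ResidueField).injective
      infer_instance
    refine Groth.Agent.Ega4late.H543.UnramInj.isEtaleAt B R m ⊥ bot_le ?_
    intro a b hab
    apply FaithfulSMul.algebraMap_injective B R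
    have h1 : Ideal.Quotient.mk (⊥ : Ideal R) (algebraMap B R a) =
      Ideal.Quotient.mk (⊥ : Ideal R) (algebraMap B R b) := hab
    rw [Ideal.Quotient.eq, Ideal.mem_bot, sub_eq_zero] at h1
    exact h1

end Groth.Agent.S19402
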