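import Groth.Statements.S19403
import Groth.Agent.GLin.K765.ZMT

set_option autoImplicit false
universe u
open TensorProduct
open GLin

namespace Groth.Agent.S19403

/-- The equivariant form of Zariski's Main Theorem. Let k be an algebraically closed field of
characteristic zero, A a finitely generated commutative Hopf algebra over k all of whose
finite-dimensional comodules are semisimple (a reductive group G), R and S finitely generated
commutative k-algebras with multiplicative A-coactions (G acting on the affine schemes X = Spec R, Y
= Spec S), and S → R an algebra map compatible with the coactions (a G-morphism φ : X → Y) which is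
quasi-finite. Then there exist a finitely generated commutative k-algebra B with a multiplicative
A-coaction (an affine G-scheme Z), an algebra map ψ : S → B compatible with the coactions and
finite, and an algebra map i : B → R compatible with the coactions such that Spec R → Spec B is an
open immersion, with i ∘ ψ the given map S → R (φ factors as an equivariant open immersion followed
by a finite G-morphism). -/
theorem result (k : Type u) [Field k] [IsAlgClosed k] [CharZero k]
    (A : Type u) [CommRing A] [HopfAlgebra k A] [Algebra.FiniteType k A] (hG : HopfRep.IsLinearlyReductive k A)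
    (S : Type u) [CommRing S] [Algebra k S] [Algebra.FiniteType k S] [HopfRep.Comod k A S] [GLin.IsCoactAlg k A S]
    (R : Type u) [CommRing R] [Algebra k R] [Algebra.FiniteType k R] [HopfRep.Comod k A R] [GLin.IsCoactAlg k A R]
    [Algebra S R] [IsScalarTower k S R] [Algebra.QuasiFinite S R]
    (hequiv : (∀ s : S, HopfRep.Comod.coact (k := k) (A := A) (algebraMap S R s) =
      Algebra.TensorProduct.map (IsScalarTower.toAlgHom k S R) (AlgHom.id k A) (HopfRep.Comod.coact (k := k) (A := A) s))) :
    ∃ (B : Type u) (_ : CommRing B) (_ : Algebra k B) (_ : HopfRep.Comod k A B) (_ : GLin.IsCoactAlg k A B),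
      Algebra.FiniteType k B ∧
      ∃ (ψ : S →ₐ[k] B) (i : B →ₐ[k] R),
        (∀ s : S, HopfRep.Comod.coact (k := k) (A := A) (ψ s) =
        Algebra.TensorProduct.map ψ (AlgHom.id k A) (HopfRep.Comod.coact (k := k) (A := A) s)) ∧
        (∀ s : B, HopfRep.Comod.coact (k := k) (A := A) (i s) =
        Algebra.TensorProduct.map i (AlgHom.id k A) (HopfRep.Comod.coact (k := k) (A := A) s)) ∧
        i.comp ψ = IsScalarTower.toAlgHom k S R ∧ ψ.toRingHom.Finite ∧
        AlgebraicGeometry.IsOpenImmersion (AlgebraicGeometry.Spec.map (CommRingCat.ofHom i.toRingHom)) := by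
  haveI : IsReduced A := K701.Orbit.isReduced_hopf k A
  obtain ⟨B, hBfin, hB, hZ⟩ := K765.ZMT.exists_stable_finite (A := A) (S := S) (R := R) hequiv
  let i : B →ₐ[k] R := B.val.restrictScalars k
  have hi : Function.Injective i := Subtype.val_injective
  have hr : HopfRep.IsSubcomod (k := k) (A := A) (LinearMap.range i.toLinearMap) := by
    have : LinearMap.range i.toLinearMap = (Subalgebra.toSubmodule B).restrictScalars k := by
      ext x
      exact ⟨fun ⟨b, hb⟩ => hb ▸ b.2, fun hx => ⟨⟨x, hx⟩, rfl⟩⟩
    rw [this]
    exact hB
  letI cB : HopfRep.Comod k A B := K765.SubAlg.comodInj i hi hr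
  haveI cA : GLin.IsCoactAlg k A B := K765.SubAlg.isCoactAlg_inj i hi hr
  have hi_equiv : K765.Basic.IsEquiv A i := K765.SubAlg.isEquiv_inj i hi hr
  have hBk : Algebra.FiniteType k B := by
    haveI : Algebra.FiniteType S B := inferInstance
    exact Algebra.FiniteType.trans (S := S) inferInstance inferInstance
  let ψ : S →ₐ[k] B := IsScalarTower.toAlgHom k S B
  refine ⟨B, inferInstance, inferInstance, cB, cA, hBk, ψ, i, fun s => ?_, hi_equiv, ?_, ?_, ?_⟩
  · apply K765.SubAlg.map_injective (A := A) hi
    rw [← hi_equiv (ψ s)]
    have h1 : i (ψ s) = algebraMap S R s := rfl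
    rw [h1, hequiv s]
    have h2 : IsScalarTower.toAlgHom k S R = i.comp ψ := rfl
    rw [h2, ← AlgHom.comp_apply, ← Algebra.TensorProduct.map_comp, AlgHom.id_comp]
  · rfl
  · exact (RingHom.finite_algebraMap (A := S) (B := B)).2 hBfin
  · refine Groth.Agent.Flat2G.FinModel.isOpenImmersion_SpecMap i.toRingHom
      {g : B | ∀ x : R, ∃ n : ℕ, (g : R) ^ n * x ∈ B} ?_ ?_
    · by_contra hne
      obtain ⟨M, hM, hle⟩ := Ideal.exists_le_maximal _ hne
      obtain ⟨g, hgB, hgM, hg⟩ := hZ M hM.isPrime
      exact hgM (hle (Ideal.subset_span ⟨⟨g, hgB⟩, hg, rfl⟩))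
    · intro g hg
      refine ⟨IsLocalization.map_injective_of_injective _ _ _ Subtype.val_injective, ?_⟩
      rw [Localization.awayMap_surjective_iff]
      intro x
      obtain ⟨n, hn⟩ := hg x
      exact ⟨⟨_, hn⟩, n, rfl⟩

end Groth.Agent.S19403
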