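import Groth.Statements.S19406
import Groth.Agent.GLin.K765.Coinv
import Mathlib.RingTheory.HopfAlgebra.GroupLike

set_option autoImplicit false
universe u
open TensorProduct
open GLin

namespace Groth.Agent.S19406

section aux

open HopfRep Groth.Agent.Books.ComodHom Groth.Agent.Books.ComodInv

variable {k : Type u} [Field k] [IsAlgClosed k]
    {A : Type u} [CommRing A] [IsDomain A] [HopfAlgebra k A] [Algebra.FiniteType k A]
    {R : Type u} [CommRing R] [Algebra k R] [HopfRep.Comod k A R] [GLin.IsCoactAlg k A R]

/-- A character trivial on the stabiliser of a closed orbit extends to a semi-invariant of the whole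
space which takes the value `1` at the point. -/
lemma exists_semiinvariant (hG : HopfRep.IsLinearlyReductive k A) {x : R →ₐ[k] k}
    (hx : GLin.IsClosedOrbit k A x) {χ : A} (hχ : IsGroupLikeElem k χ)
    (h : χ - 1 ∈ GLin.stabIdeal k A x) :
    ∃ F ∈ HopfRep.eigenspace k A R χ, x F = 1 := by
  obtain ⟨F₁, hF₁⟩ := K765.Coinv.mem_range_of_isGroupLike hx hχ h
  have hF₁' : (GLin.orbitHom k A x).toLinearMap F₁ = χ := hF₁
  have hw : χ ∈ HopfRep.eigenspace k A A χ := hχ.comul_eq_tmul_self
  obtain ⟨F, hF, hF'⟩ := exists_eigenspace_lift hG (K690.Orbits.isComodHom_orbitHom x) hw hF₁'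
  refine ⟨F, hF, ?_⟩
  rw [← K690.Orbits.counit_orbitHom (A := A) x F]
  have : GLin.orbitHom k A x F = χ := hF'
  rw [this]
  exact hχ.counit_eq_one

omit [IsAlgClosed k] [IsDomain A] [Algebra.FiniteType k A] in
/-- If a semi-invariant of weight `χ` does not vanish at `x` then `χ` is trivial on the
stabiliser. -/
lemma sub_one_mem {x : R →ₐ[k] k} {χ : A} {F : R} (hF : F ∈ HopfRep.eigenspace k A R χ)
    (hx : x F ≠ 0) : χ - 1 ∈ GLin.stabIdeal k A x := by
  have h1 : GLin.orbitHom k A x F = x F • χ := by
    rw [K690.Orbits.orbitHom_apply]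
    have hF' : HopfRep.Comod.coact (k := k) (A := A) F = F ⊗ₜ[k] χ := hF
    rw [hF']
    simp
  have h2 : F - algebraMap k R (x F) ∈ RingHom.ker x := by
    rw [RingHom.mem_ker, map_sub, AlgHom.commutes]
    simp
  have h3 : GLin.orbitHom k A x (F - algebraMap k R (x F)) ∈ GLin.stabIdeal k A x :=
    Ideal.mem_map_of_mem _ h2
  rw [map_sub, AlgHom.commutes, h1, Algebra.algebraMap_eq_smul_one, ← smul_sub] at h3
  have h4 := Submodule.smul_of_tower_mem (GLin.stabIdeal k A x) (x F)⁻¹ h3
  rwa [smul_smul, inv_mul_cancel₀ hx, one_smul] at h4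

end aux

/-- Let k be an algebraically closed field of characteristic zero, A a finitely generated commutative
Hopf algebra over k which is an integral domain and all of whose finite-dimensional comodules are
semisimple (a connected reductive group G), R a reduced finitely generated commutative k-algebra
with a multiplicative A-coaction (G acting on the affine variety X = Spec R), and χ a group-like
element of A (a character of G). Then there is a set E of G-invariant functions on X such that, for
every k-point x of X whose orbit is closed, χ − 1 lies in the stabilizer ideal of x (χ is trivial on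
the stabilizer of x) if and only if some member of E does not vanish at x: the set of points of X//G
over which the closed orbit has stabilizer on which χ is trivial is open. (The published statement
allows any reductive G; this row assumes G connected, the case the source's argument covers.) -/
theorem result (k : Type u) [Field k] [IsAlgClosed k] [CharZero k]
    (A : Type u) [CommRing A] [IsDomain A] [HopfAlgebra k A] [Algebra.FiniteType k A] (hG : HopfRep.IsLinearlyReductive k A)
    (R : Type u) [CommRing R] [IsReduced R] [Algebra k R] [Algebra.FiniteType k R] [HopfRep.Comod k A R] [GLin.IsCoactAlg k A R]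
    (χ : A) (hχ : IsGroupLikeElem k χ) :
    ∃ E : Set R, E ⊆ GLin.invariants k A R ∧
      ∀ x : R →ₐ[k] k, GLin.IsClosedOrbit k A x →
        (χ - 1 ∈ GLin.stabIdeal k A x ↔ ∃ f ∈ E, x f ≠ 0) := by
  have hχ' : IsGroupLikeElem k (HopfAlgebra.antipode k χ) := hχ.antipode
  refine ⟨{f | ∃ F ∈ HopfRep.eigenspace k A R χ,
    ∃ F' ∈ HopfRep.eigenspace k A R (HopfAlgebra.antipode k χ), f = F * F'}, ?_, ?_⟩
  · rintro _ ⟨F, hF, F', hF', rfl⟩
    have h1 : HopfRep.Comod.coact (k := k) (A := A) F = F ⊗ₜ[k] χ := hF
    have h2 : HopfRep.Comod.coact (k := k) (A := A) F' =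
      F' ⊗ₜ[k] (HopfAlgebra.antipode k χ) := hF'
    change HopfRep.Comod.coact (k := k) (A := A) (F * F') = (F * F') ⊗ₜ[k] (1 : A)
    rw [GLin.IsCoactAlg.coact_mul, h1, h2, Algebra.TensorProduct.tmul_mul_tmul,
      hχ.mul_antipode_cancel]
  · intro x hx
    constructor
    · intro h
      have h' : HopfAlgebra.antipode k χ - 1 ∈ GLin.stabIdeal k A x := by
        have : HopfAlgebra.antipode k χ - 1 = - HopfAlgebra.antipode k χ * (χ - 1) := by
          rw [mul_sub, neg_mul, hχ.antipode_mul_cancel]
          ring
        rw [this]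
        exact Ideal.mul_mem_left _ _ h
      obtain ⟨F, hF, hF1⟩ := exists_semiinvariant hG hx hχ h
      obtain ⟨F', hF', hF1'⟩ := exists_semiinvariant hG hx hχ' h'
      refine ⟨F * F', ⟨F, hF, F', hF', rfl⟩, ?_⟩
      rw [map_mul, hF1, hF1', one_mul]
      exact one_ne_zero
    · rintro ⟨_, ⟨F, hF, F', -, rfl⟩, hne⟩
      rw [map_mul] at hne
      exact sub_one_mem hF (left_ne_zero_of_mul hne)

end Groth.Agent.S19406
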