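import Groth.Statements.S19408
import Groth.Agent.GLin.K765.Rey

set_option autoImplicit false
universe u
open TensorProduct
open GLin

namespace Groth.Agent.S19408

lemma exists_ringHom {B C D : Type*} [CommRing B] [CommRing C] [CommRing D] (f : B →+* D)
    (i : C →+* D) (hi : Function.Injective i) (h : ∀ b, ∃ c, i c = f b) :
    ∃ g : B →+* C, ∀ b, i (g b) = f b := by
  choose g hg using h
  refine ⟨{ toFun := g, map_one' := ?_, map_mul' := ?_, map_zero' := ?_, map_add' := ?_ }, hg⟩
  · apply hi; rw [hg, map_one, map_one]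
  · intro a b; apply hi; rw [hg, map_mul, map_mul, hg, hg]
  · apply hi; rw [hg, map_zero, map_zero]
  · intro a b; apply hi; rw [hg, map_add, map_add, hg, hg]

/-- Let k be an algebraically closed field of characteristic zero, A a finitely generated commutative
Hopf algebra over k all of whose finite-dimensional comodules are semisimple (a reductive group G),
S and R finitely generated commutative k-algebras with multiplicative A-coactions (G acting on
affine Y = Spec S and X = Spec R), S → R an algebra map compatible with the coactions (a G-morphism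
θ : X → Y), S₀ → S and R₀ → R injective k-algebra maps whose images are the subrings of invariants,
and S₀ → R₀ an algebra map with S₀ → R₀ → R equal to S₀ → S → R (θ/G). Suppose R is étale over S, R₀
is étale over S₀, and the canonical map S ⊗_{S₀} R₀ → R is bijective (θ and θ/G étale and X ≅ Y
×_{Y//G} X//G). Let J be an ideal of S which is a subcomodule (Y' = V(J) a closed G-invariant
subscheme), let S/J and R/JR carry A-coactions for which the quotient maps are compatible with the
coactions (the induced actions on Y' and X' = Y' ×_Y X), and let S₁ → S/J and R₁ → R/JR be injective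
k-algebra maps whose images are the subrings of invariants, with S₁ → R₁ an algebra map such that S₁
→ R₁ → R/JR equals S₁ → S/J → R/JR. Then R/JR is étale over S/J, R₁ is étale over S₁, and the
canonical map (S/J) ⊗_{S₁} R₁ → R/JR is bijective (θ' : X' → Y' and θ'/G are étale and X' ≅ Y'
×_{Y'//G} X'//G). -/
theorem result (k : Type u) [Field k] [IsAlgClosed k] [CharZero k]
    (A : Type u) [CommRing A] [HopfAlgebra k A] [Algebra.FiniteType k A] (hG : HopfRep.IsLinearlyReductive k A)
    (S : Type u) [CommRing S] [Algebra k S] [Algebra.FiniteType k S] [HopfRep.Comod k A S] [GLin.IsCoactAlg k A S]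
    (R : Type u) [CommRing R] [Algebra k R] [Algebra.FiniteType k R] [HopfRep.Comod k A R] [GLin.IsCoactAlg k A R]
    [Algebra S R] [IsScalarTower k S R]
    (hequiv : (∀ s : S, HopfRep.Comod.coact (k := k) (A := A) (algebraMap S R s) =
      Algebra.TensorProduct.map (IsScalarTower.toAlgHom k S R) (AlgHom.id k A) (HopfRep.Comod.coact (k := k) (A := A) s)))
    (S₀ : Type u) [CommRing S₀] [Algebra k S₀] [Algebra S₀ S] [IsScalarTower k S₀ S]
    (hS₀i : Function.Injective (algebraMap S₀ S)) (hS₀ : (IsScalarTower.toAlgHom k S₀ S).range = GLin.invariants k A S)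
    (R₀ : Type u) [CommRing R₀] [Algebra k R₀] [Algebra R₀ R] [IsScalarTower k R₀ R]
    (hR₀i : Function.Injective (algebraMap R₀ R)) (hR₀ : (IsScalarTower.toAlgHom k R₀ R).range = GLin.invariants k A R)
    [Algebra S₀ R₀] [Algebra S₀ R] [IsScalarTower S₀ S R] [IsScalarTower S₀ R₀ R]
    (het : Algebra.Etale S R) (het₀ : Algebra.Etale S₀ R₀)
    (hcart : Function.Bijective (Algebra.TensorProduct.productMap (IsScalarTower.toAlgHom S₀ S R) (IsScalarTower.toAlgHom S₀ R₀ R)))
    (J : Ideal S) (hJ : HopfRep.IsSubcomod (k := k) (A := A) (J.restrictScalars k))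
    [HopfRep.Comod k A (S ⧸ J)] [GLin.IsCoactAlg k A (S ⧸ J)]
    (hqS : (∀ s : S, HopfRep.Comod.coact (k := k) (A := A) ((Ideal.Quotient.mkₐ k J) s) =
        Algebra.TensorProduct.map (Ideal.Quotient.mkₐ k J) (AlgHom.id k A) (HopfRep.Comod.coact (k := k) (A := A) s)))
    [HopfRep.Comod k A (R ⧸ J.map (algebraMap S R))] [GLin.IsCoactAlg k A (R ⧸ J.map (algebraMap S R))]
    (hqR : (∀ s : R, HopfRep.Comod.coact (k := k) (A := A) ((Ideal.Quotient.mkₐ k (J.map (algebraMap S R))) s) =
        Algebra.TensorProduct.map (Ideal.Quotient.mkₐ k (J.map (algebraMap S R))) (AlgHom.id k A) (HopfRep.Comod.coact (k := k) (A := A) s)))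
    (S₁ : Type u) [CommRing S₁] [Algebra k S₁] [Algebra S₁ (S ⧸ J)] [IsScalarTower k S₁ (S ⧸ J)]
    (hS₁i : Function.Injective (algebraMap S₁ (S ⧸ J)))
    (hS₁ : (IsScalarTower.toAlgHom k S₁ (S ⧸ J)).range = GLin.invariants k A (S ⧸ J))
    (R₁ : Type u) [CommRing R₁] [Algebra k R₁] [Algebra R₁ (R ⧸ J.map (algebraMap S R))] [IsScalarTower k R₁ (R ⧸ J.map (algebraMap S R))]
    (hR₁i : Function.Injective (algebraMap R₁ (R ⧸ J.map (algebraMap S R))))
    (hR₁ : (IsScalarTower.toAlgHom k R₁ (R ⧸ J.map (algebraMap S R))).range = GLin.invariants k A (R ⧸ J.map (algebraMap S R)))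
    [Algebra S₁ R₁] [Algebra S₁ (R ⧸ J.map (algebraMap S R))]
    [IsScalarTower S₁ (S ⧸ J) (R ⧸ J.map (algebraMap S R))] [IsScalarTower S₁ R₁ (R ⧸ J.map (algebraMap S R))] :
    Algebra.Etale (S ⧸ J) (R ⧸ J.map (algebraMap S R)) ∧ Algebra.Etale S₁ R₁ ∧
      Function.Bijective (Algebra.TensorProduct.productMap
        (IsScalarTower.toAlgHom S₁ (S ⧸ J) (R ⧸ J.map (algebraMap S R)))
        (IsScalarTower.toAlgHom S₁ R₁ (R ⧸ J.map (algebraMap S R)))) := by
  have hφ : K765.Basic.IsEquiv A (IsScalarTower.toAlgHom k S R) := hequiv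
  have hqS' : K765.Basic.IsEquiv A (Ideal.Quotient.mkₐ k J) := hqS
  have hqR' : K765.Basic.IsEquiv A (Ideal.Quotient.mkₐ k (J.map (algebraMap S R))) := hqR
  have hinvR : ∀ r : R₀, algebraMap R₀ R r ∈ GLin.invariants k A R := fun r => by
    rw [← hR₀]; exact ⟨r, rfl⟩
  have hinvS : ∀ r : S₀, algebraMap S₀ S r ∈ GLin.invariants k A S := fun r => by
    rw [← hS₀]; exact ⟨r, rfl⟩
  have hinvR₁ : ∀ r : R₁, algebraMap R₁ (R ⧸ J.map (algebraMap S R)) r ∈
      GLin.invariants k A (R ⧸ J.map (algebraMap S R)) := fun r => by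
    rw [← hR₁]; exact ⟨r, rfl⟩
  have hinvS₁ : ∀ r : S₁, algebraMap S₁ (S ⧸ J) r ∈ GLin.invariants k A (S ⧸ J) := fun r => by
    rw [← hS₁]; exact ⟨r, rfl⟩
  obtain ⟨f₁, hf₁⟩ := exists_ringHom ((Ideal.Quotient.mk J).comp (algebraMap S₀ S))
    (algebraMap S₁ (S ⧸ J)) hS₁i (fun s => by
      have h1 := hqS'.map_mem_invariants (hinvS s)
      rw [← hS₁] at h1
      exact h1)
  obtain ⟨g₁, hg₁⟩ := exists_ringHom
    ((Ideal.Quotient.mk (J.map (algebraMap S R))).comp (algebraMap R₀ R))
    (algebraMap R₁ (R ⧸ J.map (algebraMap S R))) hR₁i (fun s => by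
      have h1 := hqR'.map_mem_invariants (hinvR s)
      rw [← hR₁] at h1
      exact h1)
  have hf₁s : Function.Surjective f₁ := by
    intro c
    obtain ⟨s, hs⟩ := Ideal.Quotient.mk_surjective (algebraMap S₁ (S ⧸ J) c)
    obtain ⟨s', hs', hs''⟩ := K765.Rey.exists_invariant_lift hG hqS' (hinvS₁ c) (s := s) hs
    rw [← hS₀] at hs'
    obtain ⟨s₀, rfl⟩ := hs'
    refine ⟨s₀, hS₁i ?_⟩
    rw [hf₁]
    exact hs''
  have hg₁s : Function.Surjective g₁ := by
    intro c
    obtain ⟨s, hs⟩ := Ideal.Quotient.mk_surjective (algebraMap R₁ (R ⧸ J.map (algebraMap S R)) c)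
    obtain ⟨s', hs', hs''⟩ := K765.Rey.exists_invariant_lift hG hqR' (hinvR₁ c) (s := s) hs
    rw [← hR₀] at hs'
    obtain ⟨s₀, rfl⟩ := hs'
    refine ⟨s₀, hR₁i ?_⟩
    rw [hg₁]
    exact hs''
  have hmk : ∀ s : S, algebraMap (S ⧸ J) (R ⧸ J.map (algebraMap S R)) (Ideal.Quotient.mk J s) =
      Ideal.Quotient.mk _ (algebraMap S R s) := fun s => rfl
  have hcomp : ∀ s, algebraMap S₁ R₁ (f₁ s) = g₁ (algebraMap S₀ R₀ s) := by
    intro s
    apply hR₁i
    rw [← IsScalarTower.algebraMap_apply,
      IsScalarTower.algebraMap_apply S₁ (S ⧸ J) (R ⧸ J.map (algebraMap S R)), hf₁, hg₁,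
      RingHom.comp_apply, RingHom.comp_apply, hmk, ← IsScalarTower.algebraMap_apply,
      ← IsScalarTower.algebraMap_apply]
  -- the isomorphism over `S`
  let e : S ⊗[S₀] R₀ →ₐ[S] R :=
    Algebra.TensorProduct.lift (Algebra.ofId S R) (IsScalarTower.toAlgHom S₀ R₀ R)
      (fun _ _ => Commute.all _ _)
  have he : ∀ z, e z = Algebra.TensorProduct.productMap (IsScalarTower.toAlgHom S₀ S R)
      (IsScalarTower.toAlgHom S₀ R₀ R) z := by
    intro z
    induction z with
    | zero => simp
    | tmul s r => simp [e, Algebra.ofId_apply]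
    | add a b ha hb => rw [map_add, map_add, ha, hb]
  have hetmul : ∀ (s : S) (r : R₀), e (s ⊗ₜ r) = algebraMap S R s * algebraMap R₀ R r := by
    intro s r
    rw [he]
    simp
  have hebij : Function.Bijective e := by
    have : (e : S ⊗[S₀] R₀ → R) = Algebra.TensorProduct.productMap (IsScalarTower.toAlgHom S₀ S R)
      (IsScalarTower.toAlgHom S₀ R₀ R) := funext he
    rw [this]
    exact hcart
  let E : S ⊗[S₀] R₀ ≃ₐ[S] R := AlgEquiv.ofBijective e hebij
  have hspan : ∀ r : R, r ∈ Submodule.span S (Set.range (algebraMap R₀ R)) := by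
    intro r
    obtain ⟨z, rfl⟩ := hebij.2 r
    induction z with
    | zero => simp
    | tmul s r =>
      rw [hetmul, ← Algebra.smul_def]
      exact Submodule.smul_mem _ _ (Submodule.subset_span ⟨r, rfl⟩)
    | add a b ha hb => rw [map_add]; exact add_mem ha hb
  -- the kernel of `R₀ → R₁`
  have hker : ∀ r : R₀, algebraMap R₀ R r ∈ J.map (algebraMap S R) →
      r ∈ (J.comap (algebraMap S₀ S)).map (algebraMap S₀ R₀) := by
    have h1 : ∀ x ∈ J.map (algebraMap S R),
        x ∈ Submodule.span R₀ (algebraMap S R '' (J : Set S)) := by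
      intro x hx
      refine Submodule.span_induction (p := fun x _ => x ∈ Submodule.span R₀
        (algebraMap S R '' (J : Set S))) (fun y hy => Submodule.subset_span hy)
        (Submodule.zero_mem _) (fun _ _ _ _ => Submodule.add_mem _) ?_ hx
      intro r y _ hy
      -- multiplication by `r`
      refine Submodule.span_induction (p := fun r _ => ∀ y ∈ Submodule.span R₀
        (algebraMap S R '' (J : Set S)), r • y ∈ Submodule.span R₀
        (algebraMap S R '' (J : Set S))) ?_ ?_ ?_ ?_ (hspan r) y hy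
      · rintro _ ⟨r, rfl⟩ y hy
        rw [smul_eq_mul, ← Algebra.smul_def]
        exact Submodule.smul_mem _ _ hy
      · intro y _
        rw [zero_smul]
        exact Submodule.zero_mem _
      · intro a b _ _ ha hb y hy
        rw [add_smul]
        exact Submodule.add_mem _ (ha y hy) (hb y hy)
      · intro s a _ ha y hy
        have h2 := ha y hy
        have h3 : (s • a) • y = s • (a • y) := smul_assoc s a y
        rw [h3]
        refine Submodule.span_induction (p := fun z _ => s • z ∈ Submodule.span R₀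
          (algebraMap S R '' (J : Set S))) ?_ ?_ ?_ ?_ h2
        · rintro _ ⟨j, hj, rfl⟩
          rw [Algebra.smul_def, ← map_mul]
          exact Submodule.subset_span ⟨_, J.mul_mem_left _ hj, rfl⟩
        · rw [smul_zero]
          exact Submodule.zero_mem _
        · intro a b _ _ ha hb
          rw [smul_add]
          exact Submodule.add_mem _ ha hb
        · intro c z _ hz
          have h4 : s • (c • z) = c • (s • z) := by
            simp only [Algebra.smul_def]
            ring
          rw [h4]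
          exact Submodule.smul_mem _ _ hz
    have h2 : ∀ x ∈ Submodule.span R₀ (algebraMap S R '' (J : Set S)),
        ∃ r ∈ (J.comap (algebraMap S₀ S)).map (algebraMap S₀ R₀),
          algebraMap R₀ R r = K765.Rey.rey hG R x := by
      intro x hx
      refine Submodule.span_induction (p := fun x _ =>
        ∃ r ∈ (J.comap (algebraMap S₀ S)).map (algebraMap S₀ R₀),
          algebraMap R₀ R r = K765.Rey.rey hG R x) ?_ ⟨0, Ideal.zero_mem _, by simp⟩ ?_ ?_ hx
      · rintro _ ⟨j, hj, rfl⟩
        have h3 : K765.Rey.rey hG S j ∈ J :=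
          K765.Rey.rey_mem_of_isSubcomod hG hJ (show j ∈ J.restrictScalars k from hj)
        have h4 := K765.Rey.rey_mem_invariants hG j
        rw [← hS₀] at h4
        obtain ⟨s₀, hs₀⟩ := h4
        have hs₀' : algebraMap S₀ S s₀ = K765.Rey.rey hG S j := hs₀
        refine ⟨algebraMap S₀ R₀ s₀, Ideal.mem_map_of_mem _ ?_, ?_⟩
        · rw [Ideal.mem_comap, hs₀']
          exact h3
        · have h5 := K765.Rey.map_rey_alg hG hφ j
          rw [← hs₀'] at h5
          refine Eq.trans ?_ h5
          rw [← IsScalarTower.algebraMap_apply, IsScalarTower.algebraMap_apply S₀ S R]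
          rfl
      · rintro a b _ _ ⟨r, hr, hra⟩ ⟨r', hr', hrb⟩
        exact ⟨r + r', Ideal.add_mem _ hr hr', by rw [map_add, map_add, hra, hrb]⟩
      · rintro c a _ ⟨r, hr, hra⟩
        refine ⟨c * r, Ideal.mul_mem_left _ _ hr, ?_⟩
        rw [map_mul, hra, Algebra.smul_def, K765.Rey.rey_mul' hG _ (hinvR c)]
    intro r hr
    obtain ⟨r', hr', h3⟩ := h2 _ (h1 _ hr)
    rw [K765.Rey.rey_of_mem_invariants hG (hinvR r)] at h3
    rw [← hR₀i h3]
    exact hr'
  -- the algebra structures
  let _ : Algebra S₀ S₁ := f₁.toAlgebra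
  let _ : Algebra R₀ R₁ := g₁.toAlgebra
  let _ : Algebra S₀ R₁ := (g₁.comp (algebraMap S₀ R₀)).toAlgebra
  have _ : IsScalarTower S₀ R₀ R₁ := .of_algebraMap_eq (fun _ => rfl)
  have _ : IsScalarTower S₀ S₁ R₁ := .of_algebraMap_eq (fun s => (hcomp s).symm)
  have hsm : ∀ s : S₀, algebraMap S₀ S₁ s = f₁ s := fun _ => rfl
  let e₁ : S₁ ⊗[S₀] R₀ →ₐ[S₁] R₁ :=
    Algebra.TensorProduct.lift (Algebra.ofId S₁ R₁) (IsScalarTower.toAlgHom S₀ R₀ R₁)
      (fun _ _ => Commute.all _ _)
  have he₁ : ∀ r : R₀, e₁ (1 ⊗ₜ r) = g₁ r := by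
    intro r
    simp [e₁]
    rfl
  have he₁b : Function.Bijective e₁ := by
    constructor
    · rw [injective_iff_map_eq_zero]
      intro z hz
      have h1 : ∃ r : R₀, z = 1 ⊗ₜ r := by
        clear hz
        induction z with
        | zero => exact ⟨0, by simp⟩
        | tmul s r =>
          obtain ⟨s, rfl⟩ := hf₁s s
          refine ⟨s • r, ?_⟩
          rw [TensorProduct.tmul_smul, TensorProduct.smul_tmul', Algebra.smul_def, hsm, mul_one]
        | add a b ha hb =>
          obtain ⟨r, rfl⟩ := ha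
          obtain ⟨r', rfl⟩ := hb
          exact ⟨r + r', by rw [TensorProduct.tmul_add]⟩
      obtain ⟨r, rfl⟩ := h1
      rw [he₁] at hz
      have h2 : algebraMap R₀ R r ∈ J.map (algebraMap S R) := by
        rw [← Ideal.Quotient.eq_zero_iff_mem]
        have h3 := hg₁ r
        rw [hz, map_zero] at h3
        exact h3.symm
      have h3 := hker r h2
      refine Submodule.span_induction (p := fun r _ => (1 : S₁) ⊗ₜ[S₀] r = 0) ?_ (by simp) ?_ ?_ h3
      · rintro _ ⟨j, hj, rfl⟩
        have h4 : f₁ j = 0 := by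
          apply hS₁i
          rw [hf₁, map_zero, RingHom.comp_apply, Ideal.Quotient.eq_zero_iff_mem]
          exact hj
        rw [Algebra.algebraMap_eq_smul_one, TensorProduct.tmul_smul, TensorProduct.smul_tmul',
          Algebra.smul_def, hsm, h4, zero_mul, TensorProduct.zero_tmul]
      · intro a b _ _ ha hb
        rw [TensorProduct.tmul_add, ha, hb, add_zero]
      · intro c a _ ha
        have h5 : (1 : S₁) ⊗ₜ[S₀] (c • a) = ((1 : S₁) ⊗ₜ[S₀] c) * ((1 : S₁) ⊗ₜ[S₀] a) := by
          rw [Algebra.TensorProduct.tmul_mul_tmul, one_mul, smul_eq_mul]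
        rw [h5, ha, mul_zero]
    · intro r
      obtain ⟨r, rfl⟩ := hg₁s r
      exact ⟨1 ⊗ₜ r, he₁ r⟩
  have hetS : Algebra.Etale S (S ⊗[S₀] R₀) := inferInstance
  have hetR : Algebra.Etale S R := Algebra.Etale.of_equiv E
  refine ⟨?_, Algebra.Etale.of_equiv (AlgEquiv.ofBijective e₁ he₁b), ?_, ?_⟩
  · -- base change of `S → R` to `S / J`
    have h1 : Algebra.Etale (S ⧸ J) ((S ⧸ J) ⊗[S] R) := inferInstance
    let e₂ : (S ⧸ J) ⊗[S] R →ₐ[S ⧸ J] (R ⧸ J.map (algebraMap S R)) :=
      Algebra.TensorProduct.lift (Algebra.ofId _ _)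
        (IsScalarTower.toAlgHom S R (R ⧸ J.map (algebraMap S R))) (fun _ _ => Commute.all _ _)
    have he₂ : ∀ r : R, e₂ (1 ⊗ₜ r) = Ideal.Quotient.mk _ r := by
      intro r
      simp [e₂]
    have he₂b : Function.Bijective e₂ := by
      constructor
      · rw [injective_iff_map_eq_zero]
        intro z hz
        have h1 : ∃ r : R, z = 1 ⊗ₜ r := by
          clear hz
          induction z with
          | zero => exact ⟨0, by simp⟩
          | tmul s r =>
            obtain ⟨s, rfl⟩ := Ideal.Quotient.mk_surjective s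
            refine ⟨s • r, ?_⟩
            rw [TensorProduct.tmul_smul, TensorProduct.smul_tmul', Algebra.smul_def, mul_one]
            rfl
          | add a b ha hb =>
            obtain ⟨r, rfl⟩ := ha
            obtain ⟨r', rfl⟩ := hb
            exact ⟨r + r', by rw [TensorProduct.tmul_add]⟩
        obtain ⟨r, rfl⟩ := h1
        rw [he₂, Ideal.Quotient.eq_zero_iff_mem] at hz
        refine Submodule.span_induction (p := fun r _ => (1 : S ⧸ J) ⊗ₜ[S] r = 0) ?_ (by simp) ?_ ?_
          hz
        · rintro _ ⟨j, hj, rfl⟩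
          rw [Algebra.algebraMap_eq_smul_one, TensorProduct.tmul_smul, TensorProduct.smul_tmul',
            Algebra.smul_def, mul_one]
          have : algebraMap S (S ⧸ J) j = 0 := Ideal.Quotient.eq_zero_iff_mem.2 hj
          rw [this, TensorProduct.zero_tmul]
        · intro a b _ _ ha hb
          rw [TensorProduct.tmul_add, ha, hb, add_zero]
        · intro c a _ ha
          have h5 : (1 : S ⧸ J) ⊗ₜ[S] (c • a) = ((1 : S ⧸ J) ⊗ₜ[S] c) * ((1 : S ⧸ J) ⊗ₜ[S] a) := by
            rw [Algebra.TensorProduct.tmul_mul_tmul, one_mul, smul_eq_mul]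
          rw [h5, ha, mul_zero]
      · intro r
        obtain ⟨r, rfl⟩ := Ideal.Quotient.mk_surjective r
        exact ⟨1 ⊗ₜ r, he₂ r⟩
    exact Algebra.Etale.of_equiv (AlgEquiv.ofBijective e₂ he₂b)
  · -- injectivity of the second product map
    let π : S ⊗[S₀] R₀ →+ (S ⧸ J) ⊗[S₁] R₁ :=
      TensorProduct.liftAddHom
        (AddMonoidHom.mk' (fun s => AddMonoidHom.mk' (fun r => (Ideal.Quotient.mk J s) ⊗ₜ[S₁] g₁ r)
            (fun a b => by rw [map_add, TensorProduct.tmul_add]))
          (fun a b => by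
            ext r
            simp [TensorProduct.add_tmul]))
        (fun c s r => by
          simp only [AddMonoidHom.mk'_apply]
          have h1 : Ideal.Quotient.mk J (c • s) = f₁ c • Ideal.Quotient.mk J s := by
            rw [Algebra.smul_def, map_mul, Algebra.smul_def, hf₁]
            rfl
          have h2 : g₁ (c • r) = f₁ c • g₁ r := by
            rw [Algebra.smul_def, map_mul, Algebra.smul_def, hcomp]
          rw [h1, h2, TensorProduct.smul_tmul])
    have hπ : ∀ (s : S) (r : R₀), π (s ⊗ₜ r) = (Ideal.Quotient.mk J s) ⊗ₜ[S₁] g₁ r :=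
      fun s r => rfl
    have hπs : Function.Surjective π := by
      intro z
      induction z with
      | zero => exact ⟨0, map_zero _⟩
      | tmul s r =>
        obtain ⟨s, rfl⟩ := Ideal.Quotient.mk_surjective s
        obtain ⟨r, rfl⟩ := hg₁s r
        exact ⟨s ⊗ₜ r, hπ s r⟩
      | add a b ha hb =>
        obtain ⟨a, rfl⟩ := ha
        obtain ⟨b, rfl⟩ := hb
        exact ⟨a + b, map_add _ _ _⟩
    have hπe : ∀ w, Algebra.TensorProduct.productMap
        (IsScalarTower.toAlgHom S₁ (S ⧸ J) (R ⧸ J.map (algebraMap S R)))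
        (IsScalarTower.toAlgHom S₁ R₁ (R ⧸ J.map (algebraMap S R))) (π w) =
        Ideal.Quotient.mk _ (e w) := by
      intro w
      induction w with
      | zero => simp
      | tmul s r =>
        rw [hπ, hetmul, map_mul, Algebra.TensorProduct.productMap_apply_tmul,
          IsScalarTower.toAlgHom_apply, IsScalarTower.toAlgHom_apply, hg₁, hmk]
        rfl
      | add a b ha hb => rw [map_add, map_add, map_add, map_add, ha, hb]
    have hπJ : ∀ j ∈ J, ∀ w, π (j • w) = 0 := by
      intro j hj w
      induction w with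
      | zero => simp
      | tmul s r =>
        rw [TensorProduct.smul_tmul', hπ, smul_eq_mul]
        have : Ideal.Quotient.mk J (j * s) = 0 :=
          Ideal.Quotient.eq_zero_iff_mem.2 (J.mul_mem_right _ hj)
        rw [this, TensorProduct.zero_tmul]
      | add a b ha hb => rw [smul_add, map_add, ha, hb, add_zero]
    rw [injective_iff_map_eq_zero]
    intro z hz
    obtain ⟨w, rfl⟩ := hπs z
    rw [hπe, Ideal.Quotient.eq_zero_iff_mem] at hz
    have h3 : ∀ y ∈ J.map (algebraMap S R), π (E.symm y) = 0 := by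
      intro y hy
      refine Submodule.span_induction (p := fun y _ => ∀ r : R, π (E.symm (r * y)) = 0)
        ?_ (by simp) ?_ ?_ hy 1 |> fun h => by simpa using h
      · rintro _ ⟨j, hj, rfl⟩ r
        rw [mul_comm, ← Algebra.smul_def, map_smul]
        exact hπJ j hj _
      · intro a b _ _ ha hb r
        rw [mul_add, map_add, map_add, ha, hb, add_zero]
      · intro c a _ ha r
        rw [smul_eq_mul, ← mul_assoc]
        exact ha _
    have h4 := h3 _ hz
    have h5 : E.symm (e w) = w := E.symm_apply_apply w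
    rwa [h5] at h4
  · -- surjectivity
    intro q
    obtain ⟨r, rfl⟩ := Ideal.Quotient.mk_surjective q
    refine Submodule.span_induction (p := fun r _ => ∃ z, Algebra.TensorProduct.productMap
        (IsScalarTower.toAlgHom S₁ (S ⧸ J) (R ⧸ J.map (algebraMap S R)))
        (IsScalarTower.toAlgHom S₁ R₁ (R ⧸ J.map (algebraMap S R))) z =
        Ideal.Quotient.mk _ r) ?_ ⟨0, by simp⟩ ?_ ?_ (hspan r)
    · rintro _ ⟨r, rfl⟩
      refine ⟨1 ⊗ₜ g₁ r, ?_⟩
      rw [Algebra.TensorProduct.productMap_apply_tmul, map_one, one_mul,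
        IsScalarTower.toAlgHom_apply, hg₁]
      rfl
    · rintro a b _ _ ⟨z, hz⟩ ⟨z', hz'⟩
      exact ⟨z + z', by rw [map_add, hz, hz', map_add]⟩
    · rintro s a _ ⟨z, hz⟩
      refine ⟨(Ideal.Quotient.mk J s ⊗ₜ 1) * z, ?_⟩
      rw [map_mul, hz, Algebra.TensorProduct.productMap_apply_tmul, map_one, mul_one,
        IsScalarTower.toAlgHom_apply, hmk, Algebra.smul_def, map_mul]

end Groth.Agent.S19408
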