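import Groth.Statements.S19410
import Groth.Agent.GLin.K765.Embed

set_option autoImplicit false
universe u
open TensorProduct
open GLin

namespace Groth.Agent.S19410

/-- Work over a field k that is algebraically closed and of characteristic zero. Suppose A is a finitely
generated commutative Hopf algebra over k whose finite-dimensional comodules are all semisimple (a
reductive group G). Take finitely generated commutative k-algebras S and R, each carrying a
multiplicative A-coaction (G acting on the affine schemes Y = Spec S and X = Spec R), together with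
an injective, quasi-finite algebra map S → R that respects the coactions (a dominant quasi-finite
G-morphism φ : X → Y). Then one can find finitely generated commutative k-algebras R' and S', both
integral domains with R' integrally closed, each equipped with a multiplicative A-coaction, along
with coaction-compatible surjective algebra maps R' → R and S' → S (so X and Y sit as closed
G-stable subschemes inside the integral affine G-varieties X' = Spec R' and Y' = Spec S', where X'
is normal), and a coaction-compatible algebra map S' → R' that is injective and quasi-finite (a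
dominant quasi-finite G-morphism X' → Y'), such that following S' → R' by R' → R gives the same map
as following S' → S by S → R. -/
theorem result (k : Type u) [Field k] [IsAlgClosed k] [CharZero k]
    (A : Type u) [CommRing A] [HopfAlgebra k A] [Algebra.FiniteType k A] (hG : HopfRep.IsLinearlyReductive k A)
    (S : Type u) [CommRing S] [Algebra k S] [Algebra.FiniteType k S] [HopfRep.Comod k A S] [GLin.IsCoactAlg k A S]
    (R : Type u) [CommRing R] [Algebra k R] [Algebra.FiniteType k R] [HopfRep.Comod k A R] [GLin.IsCoactAlg k A R]
    [Algebra S R] [IsScalarTower k S R] [Algebra.QuasiFinite S R] (hinj : Function.Injective (algebraMap S R))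
    (hequiv : (∀ s : S, HopfRep.Comod.coact (k := k) (A := A) (algebraMap S R s) =
      Algebra.TensorProduct.map (IsScalarTower.toAlgHom k S R) (AlgHom.id k A) (HopfRep.Comod.coact (k := k) (A := A) s))) :
    ∃ (R' : Type u) (_ : CommRing R') (_ : IsDomain R') (_ : IsIntegrallyClosed R') (_ : Algebra k R')
      (_ : HopfRep.Comod k A R') (_ : GLin.IsCoactAlg k A R')
      (S' : Type u) (_ : CommRing S') (_ : IsDomain S') (_ : Algebra k S')
      (_ : HopfRep.Comod k A S') (_ : GLin.IsCoactAlg k A S'),
      Algebra.FiniteType k R' ∧ Algebra.FiniteType k S' ∧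
      ∃ (pR : R' →ₐ[k] R) (pS : S' →ₐ[k] S) (φ' : S' →ₐ[k] R'),
        Function.Surjective pR ∧ Function.Surjective pS ∧ Function.Injective φ' ∧ φ'.toRingHom.QuasiFinite ∧
        (∀ s : R', HopfRep.Comod.coact (k := k) (A := A) (pR s) =
        Algebra.TensorProduct.map pR (AlgHom.id k A) (HopfRep.Comod.coact (k := k) (A := A) s)) ∧
        (∀ s : S', HopfRep.Comod.coact (k := k) (A := A) (pS s) =
        Algebra.TensorProduct.map pS (AlgHom.id k A) (HopfRep.Comod.coact (k := k) (A := A) s)) ∧
        (∀ s : S', HopfRep.Comod.coact (k := k) (A := A) (φ' s) =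
        Algebra.TensorProduct.map φ' (AlgHom.id k A) (HopfRep.Comod.coact (k := k) (A := A) s)) ∧
        pR.comp φ' = (IsScalarTower.toAlgHom k S R).comp pS := by
  haveI : IsReduced A := K701.Orbit.isReduced_hopf k A
  rcases subsingleton_or_nontrivial R with hR | hR
  · -- the empty case
    haveI : Subsingleton S := hinj.subsingleton
    letI ck : HopfRep.Comod k A k := HopfRep.Comod.trivial k A k
    haveI ak : GLin.IsCoactAlg k A k := by
      refine ⟨rfl, fun f g => ?_⟩
      change (f * g) ⊗ₜ[k] (1 : A) = (f ⊗ₜ[k] (1 : A)) * (g ⊗ₜ[k] (1 : A))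
      rw [Algebra.TensorProduct.tmul_mul_tmul, one_mul]
    haveI hRA : Subsingleton (R ⊗[k] A) := ⟨fun a b => by
      have h1 : (1 : R ⊗[k] A) = 0 := by
        rw [Algebra.TensorProduct.one_def, Subsingleton.elim (1 : R) 0, TensorProduct.zero_tmul]
      rw [← one_mul a, ← one_mul b, h1, zero_mul, zero_mul]⟩
    haveI hSA : Subsingleton (S ⊗[k] A) := ⟨fun a b => by
      have h1 : (1 : S ⊗[k] A) = 0 := by
        rw [Algebra.TensorProduct.one_def, Subsingleton.elim (1 : S) 0, TensorProduct.zero_tmul]
      rw [← one_mul a, ← one_mul b, h1, zero_mul, zero_mul]⟩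
    refine ⟨k, inferInstance, inferInstance, inferInstance, inferInstance, ck, ak, k, inferInstance,
      inferInstance, inferInstance, ck, ak, inferInstance, inferInstance, Algebra.ofId k R,
      Algebra.ofId k S, AlgHom.id k k, fun r => ⟨0, Subsingleton.elim _ _⟩,
      fun r => ⟨0, Subsingleton.elim _ _⟩, Function.injective_id, ?_,
      fun s => Subsingleton.elim _ _, fun s => Subsingleton.elim _ _, K765.Gens.isEquiv_id,
      AlgHom.ext fun s => Subsingleton.elim _ _⟩
    exact RingHom.quasiFinite_algebraMap.2 (inferInstance : Algebra.QuasiFinite k k)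
  obtain ⟨P, iP, dP, nP, kP, cP, aP, B, cB, aB, π, ψ, hPft, hBft, hBval, hπ, hψ, hπs, hψs, hcomp,
    hqf⟩ := K765.Embed.exists_step (k := k) (A := A) (S := S) (R := R) hinj hequiv
  haveI : Algebra.FiniteType B P := Algebra.FiniteType.of_restrictScalars_finiteType k B P
  obtain ⟨f, hf, hf1, hfqf⟩ := K765.QF.exists_invariant_quasiFinite (k := k) (A := A) (B := B)
    (P := P) hG hBval (RingHom.ker π) (K765.Gens.isSubcomod_ker hπ) hqf
  have hπf : π f = 1 := by
    have h1 : π (1 - f) = 0 := hf1
    rw [map_sub, map_one, sub_eq_zero] at h1
    exact h1.symm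
  have hf0 : f ≠ 0 := by
    rintro rfl
    rw [map_zero] at hπf
    exact zero_ne_one hπf
  have hM : ∀ m ∈ Submonoid.powers f, m ∈ GLin.invariants k A P := by
    rintro _ ⟨n, rfl⟩
    exact pow_mem hf n
  let L := Localization.Away f
  have hle : Submonoid.powers f ≤ nonZeroDivisors P := powers_le_nonZeroDivisors_of_noZeroDivisors hf0
  haveI dL : IsDomain L := IsLocalization.isDomain_localization hle
  haveI nL : IsIntegrallyClosed L := isIntegrallyClosed_of_isLocalization L (Submonoid.powers f) hle
  letI cL : HopfRep.Comod k A L := K765.Build.locComod (Submonoid.powers f) hM L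
  haveI aL : GLin.IsCoactAlg k A L := K765.Build.isCoactAlg_loc (Submonoid.powers f) hM L
  have hL : K765.Basic.IsEquiv A (IsScalarTower.toAlgHom k P L) :=
    K765.Build.isEquiv_loc (Submonoid.powers f) hM L
  have hLft : Algebra.FiniteType k L := by
    haveI : Algebra.FiniteType P L := IsLocalization.finiteType_of_monoid_fg (.powers f) L
    exact Algebra.FiniteType.trans (S := P) inferInstance inferInstance
  have hLqf : Algebra.QuasiFinite B L := K765.QF.quasiFinite_away f L hfqf
  -- the map to `R`
  let pR : L →ₐ[k] R := IsLocalization.liftAlgHom (M := Submonoid.powers f) (f := π) (by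
    rintro ⟨_, n, rfl⟩
    change IsUnit (π (f ^ n))
    rw [map_pow, hπf, one_pow]
    exact isUnit_one)
  have hpR : ∀ x : P, pR (algebraMap P L x) = π x := fun x =>
    IsLocalization.lift_eq _ x
  have hpR' : pR.comp (IsScalarTower.toAlgHom k P L) = π := AlgHom.ext hpR
  have hinjPL : Function.Injective (algebraMap P L) := IsLocalization.injective L hle
  refine ⟨L, inferInstance, dL, nL, inferInstance, cL, aL, B, inferInstance, inferInstance,
    inferInstance, cB, aB, hLft, hBft, pR, ψ, (IsScalarTower.toAlgHom k P L).comp B.val, ?_, hψs,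
    ?_, ?_, ?_, hψ, ?_, ?_⟩
  · intro r
    obtain ⟨x, rfl⟩ := hπs r
    exact ⟨algebraMap P L x, hpR x⟩
  · exact hinjPL.comp Subtype.val_injective
  · exact RingHom.quasiFinite_algebraMap.2 hLqf
  · exact K765.Build.isEquiv_of_comp L hL pR (by rw [hpR']; exact hπ) (Submonoid.powers f)
  · exact hL.comp hBval
  · rw [hcomp, ← AlgHom.comp_assoc, hpR']

end Groth.Agent.S19410
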