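import Groth.Statements.S19411
import Groth.Agent.GLin.K765.Tr
import Mathlib.RingTheory.Coalgebra.GroupLike

set_option autoImplicit false
universe u
open TensorProduct
open GLin

namespace Groth.Agent.S19411

open Groth.Agent.Books Groth.Agent.Books.PointsAC K765.Tr HopfRep WithConv

section

variable {k : Type u} [Field k] {A : Type u} [CommRing A] [HopfAlgebra k A]
variable {R : Type u} [CommRing R] [Algebra k R] [Comod k A R] [IsCoactAlg k A R]

/-- Evaluation at a pair of points. -/
noncomputable def ev (x : R →ₐ[k] k) (g : A →ₐ[k] k) : R ⊗[k] A →ₐ[k] k :=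
  g.comp (evL k x)

@[simp] lemma ev_tmul (x : R →ₐ[k] k) (g : A →ₐ[k] k) (r : R) (a : A) :
    ev x g (r ⊗ₜ[k] a) = x r * g a := by
  simp [ev, evL_tmul]

lemma ev_coact (x : R →ₐ[k] k) (g : A →ₐ[k] k) (r : R) :
    ev x g (Comod.coact (k := k) (A := A) r) = actPt k g x r := by
  rw [← point_tr x g r]
  simp only [tr, AlgHom.comp_apply, coactAlgHom_apply]
  generalize Comod.coact (k := k) (A := A) r = z
  induction z with
  | zero => simp
  | tmul a b => simp [mul_comm]
  | add a b ha hb => simp only [map_add, ha, hb]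

/-- The twisted coaction. -/
noncomputable def tw (θ : R ⊗[k] A) : R →ₗ[k] R ⊗[k] A :=
  (LinearMap.mulRight k θ) ∘ₗ Comod.coact (k := k) (A := A) (V := R)

lemma tw_apply (θ : R ⊗[k] A) (r : R) : tw θ r = Comod.coact (k := k) (A := A) r * θ := rfl

lemma tw_one (θ : R ⊗[k] A) : tw θ (1 : R) = θ := by
  rw [tw_apply, IsCoactAlg.coact_one, one_mul]

/-- Evaluation at a triple of points. -/
noncomputable def ev3 (x : R →ₐ[k] k) (g h : A →ₐ[k] k) : R ⊗[k] (A ⊗[k] A) →ₐ[k] k :=
  (Algebra.TensorProduct.lift g h (fun _ _ => .all _ _)).comp (evL k x)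

lemma ev3_tmul (x : R →ₐ[k] k) (g h : A →ₐ[k] k) (r : R) (a b : A) :
    ev3 x g h (r ⊗ₜ[k] (a ⊗ₜ[k] b)) = x r * (g a * h b) := by
  simp [ev3, evL_tmul]

lemma cocycle (θ : R ⊗[k] A)
    (hassoc : (TensorProduct.assoc k R A A).toLinearMap ∘ₗ (tw θ).rTensor A ∘ₗ tw θ =
      (CoalgebraStruct.comul (R := k) (A := A)).lTensor R ∘ₗ tw θ)
    (x : R →ₐ[k] k) (g h : WithConv (A →ₐ[k] k)) :
    ev x g.ofConv θ * ev (actPt k g.ofConv x) h.ofConv θ = ev x (g * h).ofConv θ := by
  have h0 := LinearMap.congr_fun hassoc 1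
  simp only [LinearMap.comp_apply, LinearEquiv.coe_coe, tw_one] at h0
  have h1 := congrArg (ev3 x g.ofConv h.ofConv) h0
  have hL : ∀ z : R ⊗[k] A, ev3 x g.ofConv h.ofConv ((TensorProduct.assoc k R A A)
      ((tw θ).rTensor A z)) = ev x g.ofConv θ * ev (actPt k g.ofConv x) h.ofConv z := by
    intro z
    induction z with
    | zero => simp
    | add a b ha hb => rw [map_add, map_add, map_add, ha, hb, map_add, mul_add]
    | tmul r a =>
      rw [LinearMap.rTensor_tmul, ev_tmul, tw_apply]
      have h2 : ∀ w : R ⊗[k] A, ev3 x g.ofConv h.ofConv ((TensorProduct.assoc k R A A)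
          (w ⊗ₜ[k] a)) = ev x g.ofConv w * h.ofConv a := by
        intro w
        induction w with
        | zero => simp
        | add a b ha hb => rw [TensorProduct.add_tmul, map_add, map_add, ha, hb, map_add, add_mul]
        | tmul r b => rw [TensorProduct.assoc_tmul, ev3_tmul, ev_tmul, mul_assoc]
      rw [h2, map_mul, ev_coact]
      ring
  have hR : ∀ z : R ⊗[k] A, ev3 x g.ofConv h.ofConv
      ((CoalgebraStruct.comul (R := k) (A := A)).lTensor R z) = ev x (g * h).ofConv z := by
    intro z
    induction z with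
    | zero => simp
    | add a b ha hb => rw [map_add, map_add, ha, hb, map_add]
    | tmul r a =>
      rw [LinearMap.lTensor_tmul, ev_tmul, ev3, AlgHom.comp_apply, evL_tmul, map_smul, smul_eq_mul]
      congr 1
      exact (AlgHom.convMul_apply g h a).symm
  rw [hL, hR] at h1
  exact h1

lemma ev_counit (θ : R ⊗[k] A)
    (hcounit : (CoalgebraStruct.counit (R := k) (A := A)).lTensor R ∘ₗ tw θ =
      (TensorProduct.mk k R k).flip 1) (x : R →ₐ[k] k) :
    ev x (1 : WithConv (A →ₐ[k] k)).ofConv θ = 1 := by
  have h0 := LinearMap.congr_fun hcounit 1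
  simp only [LinearMap.comp_apply, tw_one, LinearMap.flip_apply, TensorProduct.mk_apply] at h0
  have h1 := congrArg (fun z => x (TensorProduct.rid k R z)) h0
  have h2 : ∀ z : R ⊗[k] A, x (TensorProduct.rid k R
      ((CoalgebraStruct.counit (R := k) (A := A)).lTensor R z)) =
      ev x (1 : WithConv (A →ₐ[k] k)).ofConv z := by
    intro z
    induction z with
    | zero => simp
    | add a b ha hb => rw [map_add, map_add, map_add, ha, hb, map_add]
    | tmul r a =>
      rw [LinearMap.lTensor_tmul, ev_tmul, TensorProduct.rid_tmul, map_smul, smul_eq_mul, mul_comm]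
      rfl
  simp only [h2] at h1
  rw [h1]
  simp

lemma ev_ne_zero (θ : R ⊗[k] A)
    (hassoc : (TensorProduct.assoc k R A A).toLinearMap ∘ₗ (tw θ).rTensor A ∘ₗ tw θ =
      (CoalgebraStruct.comul (R := k) (A := A)).lTensor R ∘ₗ tw θ)
    (hcounit : (CoalgebraStruct.counit (R := k) (A := A)).lTensor R ∘ₗ tw θ =
      (TensorProduct.mk k R k).flip 1) (x : R →ₐ[k] k) (g : A →ₐ[k] k) :
    ev x g θ ≠ 0 := by
  intro h
  have h1 := cocycle θ hassoc x (toConv g) (toConv g)⁻¹
  rw [mul_inv_cancel, ev_counit θ hcounit] at h1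
  have h2 : ev x (toConv g).ofConv θ = 0 := h
  rw [h2, zero_mul] at h1
  exact zero_ne_one h1

/-- A constant twist is given by a group-like element. -/
lemma isGroupLike_of_eq [Nontrivial R] (θ : R ⊗[k] A)
    (hassoc : (TensorProduct.assoc k R A A).toLinearMap ∘ₗ (tw θ).rTensor A ∘ₗ tw θ =
      (CoalgebraStruct.comul (R := k) (A := A)).lTensor R ∘ₗ tw θ)
    (hcounit : (CoalgebraStruct.counit (R := k) (A := A)).lTensor R ∘ₗ tw θ =
      (TensorProduct.mk k R k).flip 1) (x : R →ₐ[k] k) (χ : A)
    (h : θ = (1 : R) ⊗ₜ[k] χ) : IsGroupLikeElem k χ := by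
  have h0 := LinearMap.congr_fun hassoc 1
  simp only [LinearMap.comp_apply, LinearEquiv.coe_coe, tw_one] at h0
  rw [h, LinearMap.rTensor_tmul, tw_one, TensorProduct.assoc_tmul, LinearMap.lTensor_tmul] at h0
  have h1 := congrArg (evL k x) h0
  rw [evL_tmul, evL_tmul, map_one, one_smul, one_smul] at h1
  have h2 := LinearMap.congr_fun hcounit 1
  simp only [LinearMap.comp_apply, tw_one, LinearMap.flip_apply, TensorProduct.mk_apply] at h2
  rw [h, LinearMap.lTensor_tmul] at h2
  have h3 := congrArg (fun z => x (TensorProduct.rid k R z)) h2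
  simp only [TensorProduct.rid_tmul, map_smul, map_one, smul_eq_mul, mul_one] at h3
  exact ⟨h3, h1.symm⟩

end

section

variable {k : Type u} [Field k] [IsAlgClosed k] {A : Type u} [CommRing A] [HopfAlgebra k A]
  [Algebra.FiniteType k A] [IsReduced A]
variable {R : Type u} [CommRing R] [Algebra k R] [Algebra.FiniteType k R] [IsReduced R]

/-- The twist is determined by its values. -/
lemma eq_of_ev (z w : R ⊗[k] A) (h : ∀ (x : R →ₐ[k] k) (g : A →ₐ[k] k), ev x g z = ev x g w) :
    z = w := by
  rw [← sub_eq_zero]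
  refine eq_zero_of_forall_evR k A _ fun g => eq_zero_of_forall_point k R _ fun x => ?_
  have h1 : x (evR k g (z - w)) = ev x g (z - w) := by
    have := DFunLike.congr_fun (comp_evR_eq_comp_evL k R A x g) (z - w)
    exact this
  rw [h1, map_sub, h x g, sub_self]

/-- A function without zeros is invertible. -/
lemma isUnit_of_forall_ne (B : Type u) [CommRing B] [Algebra k B] [Algebra.FiniteType k B] (b : B)
    (h : ∀ x : B →ₐ[k] k, x b ≠ 0) : IsUnit b := by
  by_contra hb
  obtain ⟨M, hM, hbM⟩ := exists_max_ideal_of_mem_nonunits hb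
  obtain ⟨x, hx⟩ := exists_point_of_isMaximal k B M
  refine h x ?_
  have : b ∈ RingHom.ker x := by rw [hx]; exact hbM
  exact this

end


/-- Let k be an uncountable algebraically closed field of characteristic zero, A a finitely generated
commutative Hopf algebra over k all of whose finite-dimensional comodules are semisimple (a
reductive group G), and R a reduced finitely generated commutative k-algebra whose prime spectrum is
connected, with a multiplicative A-coaction ρ (G acting on the connected affine scheme X = Spec R).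
Let θ ∈ R ⊗ A be such that the map r ↦ ρ(r)·θ from R to R ⊗ A is coassociative and counital (a
structure of G-line bundle on the trivial line bundle of X, θ being the corresponding invertible
function on X × G). Suppose that either every unit of A is a scalar multiple of a group-like element
(every invertible function on G is a constant times a character), or every unit of R is a scalar
(every invertible function on X is constant). Then θ = 1 ⊗ χ for some group-like element χ of A: the
G-line bundle is the one attached to the character χ. (Stated for G-line bundle structures on the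
trivial bundle, the case to which the hypothesis of a trivial Picard group reduces the source's
statement; uncountability of k is what the argument uses in the first case.) -/
theorem result (k : Type u) [Field k] [IsAlgClosed k] [CharZero k] [Uncountable k]
    (A : Type u) [CommRing A] [HopfAlgebra k A] [Algebra.FiniteType k A] (hG : HopfRep.IsLinearlyReductive k A)
    (R : Type u) [CommRing R] [IsReduced R] [Algebra k R] [Algebra.FiniteType k R] [HopfRep.Comod k A R] [GLin.IsCoactAlg k A R]
    [ConnectedSpace (PrimeSpectrum R)]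
    (θ : R ⊗[k] A)
    (hassoc : (TensorProduct.assoc k R A A).toLinearMap ∘ₗ
        ((LinearMap.mulRight k θ) ∘ₗ HopfRep.Comod.coact (k := k) (A := A) (V := R)).rTensor A ∘ₗ
          ((LinearMap.mulRight k θ) ∘ₗ HopfRep.Comod.coact (k := k) (A := A) (V := R)) =
      (CoalgebraStruct.comul (R := k) (A := A)).lTensor R ∘ₗ
        ((LinearMap.mulRight k θ) ∘ₗ HopfRep.Comod.coact (k := k) (A := A) (V := R)))
    (hcounit : (CoalgebraStruct.counit (R := k) (A := A)).lTensor R ∘ₗ
        ((LinearMap.mulRight k θ) ∘ₗ HopfRep.Comod.coact (k := k) (A := A) (V := R)) =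
      (TensorProduct.mk k R k).flip 1)
    (h : (∀ u : Aˣ, ∃ (c : k) (χ : A), IsGroupLikeElem k χ ∧ (u : A) = c • χ) ∨
      (∀ u : Rˣ, (u : R) ∈ Set.range (algebraMap k R))) :
    ∃ χ : A, IsGroupLikeElem k χ ∧ θ = (1 : R) ⊗ₜ[k] χ := by
  classical
  haveI : IsReduced A := K701.Orbit.isReduced_hopf k A
  haveI : Nontrivial R := by
    rw [← PrimeSpectrum.nonempty_iff_nontrivial]
    infer_instance
  replace hassoc : (TensorProduct.assoc k R A A).toLinearMap ∘ₗ (tw θ).rTensor A ∘ₗ tw θ =
      (CoalgebraStruct.comul (R := k) (A := A)).lTensor R ∘ₗ tw θ := hassoc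
  replace hcounit : (CoalgebraStruct.counit (R := k) (A := A)).lTensor R ∘ₗ tw θ =
      (TensorProduct.mk k R k).flip 1 := hcounit
  obtain ⟨x₀⟩ : Nonempty (R →ₐ[k] k) := exists_point k R
  -- it is enough that the restriction to the orbits is constant
  suffices hconst : ∀ x : R →ₐ[k] k, evL k x θ = evL k x₀ θ by
    have hθ : θ = (1 : R) ⊗ₜ[k] (evL k x₀ θ) := by
      refine eq_of_ev _ _ fun x g => ?_
      rw [ev_tmul, map_one, one_mul, ← hconst x]
      rfl
    exact ⟨_, isGroupLike_of_eq θ hassoc hcounit x₀ _ hθ, hθ⟩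
  have hcounit1 : ∀ x : R →ₐ[k] k, CoalgebraStruct.counit (R := k) (evL k x θ) = 1 := fun x =>
    ev_counit θ hcounit x
  rcases h with h | h
  · -- the values are group-like
    have hgl : ∀ x : R →ₐ[k] k, IsGroupLikeElem k (evL k x θ) := by
      intro x
      have hu : IsUnit (evL k x θ) := isUnit_of_forall_ne A _ fun g =>
        ev_ne_zero θ hassoc hcounit x g
      obtain ⟨c, χ, hχ, hc⟩ := h hu.unit
      rw [IsUnit.unit_spec] at hc
      have h1 := hcounit1 x
      rw [hc, map_smul, hχ.counit_eq_one, smul_eq_mul, mul_one] at h1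
      rw [hc, h1, one_smul]
      exact hχ
    -- only finitely many values
    have hfin : (Set.range fun x : R →ₐ[k] k => evL k x θ).Finite := by
      obtain ⟨F, hF, hFθ⟩ : ∃ F : Submodule k A, Module.Finite k F ∧
          ∀ x : R →ₐ[k] k, evL k x θ ∈ F := by
        clear hassoc hcounit hcounit1 hgl h
        induction θ with
        | zero => exact ⟨⊥, inferInstance, fun x => by simp⟩
        | tmul r a =>
          refine ⟨Submodule.span k {a}, inferInstance, fun x => ?_⟩
          rw [evL_tmul]
          exact Submodule.smul_mem _ _ (Submodule.mem_span_singleton_self a)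
        | add a b ha hb =>
          obtain ⟨F, hF, h⟩ := ha
          obtain ⟨F', hF', h'⟩ := hb
          refine ⟨F ⊔ F', inferInstance, fun x => ?_⟩
          rw [map_add]
          exact Submodule.add_mem_sup (h x) (h' x)
      have hli : LinearIndepOn k id (Set.range fun x : R →ₐ[k] k => evL k x θ) :=
        linearIndepOn_isGroupLikeElem.mono (by rintro _ ⟨x, rfl⟩; exact hgl x)
      let f : (Set.range fun x : R →ₐ[k] k => evL k x θ) → F := fun a =>
        ⟨a.1, by obtain ⟨_, x, rfl⟩ := a; exact hFθ x⟩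
      have hf : LinearIndependent k f := by
        refine LinearIndependent.of_comp F.subtype ?_
        exact hli
      exact hf.finite
    -- the level sets
    let V : A → Set (PrimeSpectrum R) := fun χ =>
      PrimeSpectrum.zeroLocus (Set.range fun φ : A →ₗ[k] k =>
        ComodBasic.slice R φ (θ - 1 ⊗ₜ[k] χ))
    have hVc : ∀ χ, IsClosed (V χ) := fun χ => PrimeSpectrum.isClosed_zeroLocus _
    have hsl : ∀ (x : R →ₐ[k] k) (φ : A →ₗ[k] k) (z : R ⊗[k] A),
        x (ComodBasic.slice R φ z) = φ (evL k x z) := by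
      intro x φ z
      induction z with
      | zero => simp
      | add a b ha hb => simp only [map_add, ha, hb]
      | tmul r a => simp [evL_tmul, mul_comm]
    have hVmem : ∀ (x : R →ₐ[k] k) (χ : A),
        (⟨RingHom.ker x, RingHom.ker_isPrime x⟩ : PrimeSpectrum R) ∈ V χ ↔ evL k x θ = χ := by
      intro x χ
      rw [PrimeSpectrum.mem_zeroLocus]
      constructor
      · intro hx
        rw [← sub_eq_zero]
        by_contra hne
        obtain ⟨φ, hφ⟩ : ∃ φ : A →ₗ[k] k, φ (evL k x θ - χ) ≠ 0 := by
          by_contra! hcon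
          exact hne ((Module.forall_dual_apply_eq_zero_iff k _).1 hcon)
        refine hφ ?_
        have h1 : ComodBasic.slice R φ (θ - 1 ⊗ₜ[k] χ) ∈ RingHom.ker x := hx ⟨φ, rfl⟩
        have h2 : x (ComodBasic.slice R φ (θ - 1 ⊗ₜ[k] χ)) = 0 := h1
        rw [hsl, map_sub, evL_tmul, map_one, one_smul] at h2
        exact h2
      · rintro hx _ ⟨φ, rfl⟩
        change x (ComodBasic.slice R φ (θ - 1 ⊗ₜ[k] χ)) = 0
        rw [hsl, map_sub, evL_tmul, map_one, one_smul, hx, sub_self, map_zero]
    -- closed points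
    have hpt : ∀ Z : Set (PrimeSpectrum R), IsClosed Z → Z.Nonempty →
        ∃ x : R →ₐ[k] k, (⟨RingHom.ker x, RingHom.ker_isPrime x⟩ : PrimeSpectrum R) ∈ Z := by
      rintro Z hZ ⟨p, hp⟩
      obtain ⟨M, hM, hpM⟩ := Ideal.exists_le_maximal p.asIdeal p.2.ne_top
      obtain ⟨x, hx⟩ := exists_point_of_isMaximal k R M
      refine ⟨x, ?_⟩
      rw [PrimeSpectrum.isClosed_iff_zeroLocus] at hZ
      obtain ⟨s, rfl⟩ := hZ
      rw [PrimeSpectrum.mem_zeroLocus] at hp ⊢
      refine hp.trans fun a ha => ?_
      change a ∈ RingHom.ker x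
      rw [hx]
      exact hpM ha
    have hdisj : ∀ χ χ' : A, χ ≠ χ' → V χ ∩ V χ' = ∅ := by
      intro χ χ' hne
      by_contra hcon
      obtain ⟨x, hx⟩ := hpt _ ((hVc χ).inter (hVc χ')) (Set.nonempty_iff_ne_empty.2 hcon)
      exact hne (((hVmem x χ).1 hx.1).symm.trans ((hVmem x χ').1 hx.2))
    have hcov : ⋃ χ ∈ (Set.range fun x : R →ₐ[k] k => evL k x θ), V χ = Set.univ := by
      have hcl : IsClosed (⋃ χ ∈ (Set.range fun x : R →ₐ[k] k => evL k x θ), V χ) :=
        hfin.isClosed_biUnion fun χ _ => hVc χ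
      rw [PrimeSpectrum.isClosed_iff_zeroLocus] at hcl
      obtain ⟨s, hs⟩ := hcl
      rw [hs, PrimeSpectrum.zeroLocus_eq_univ_iff]
      intro f hf
      have hf0 : f = 0 := by
        refine eq_zero_of_forall_point k R f fun x => ?_
        have h1 : (⟨RingHom.ker x, RingHom.ker_isPrime x⟩ : PrimeSpectrum R) ∈
            PrimeSpectrum.zeroLocus s := by
          rw [← hs]
          exact Set.mem_biUnion ⟨x, rfl⟩ ((hVmem x _).2 rfl)
        exact h1 hf
      rw [hf0]
      exact zero_mem _
    have hclopen : IsClopen (V (evL k x₀ θ)) := by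
      refine ⟨hVc _, ?_⟩
      have h1 : V (evL k x₀ θ) = (⋃ χ ∈ ((Set.range fun x : R →ₐ[k] k => evL k x θ) \
          {evL k x₀ θ}), V χ)ᶜ := by
        ext p
        rw [Set.mem_compl_iff]
        constructor
        · intro hp hcon
          obtain ⟨χ, hχ, hpχ⟩ := Set.mem_iUnion₂.1 hcon
          have : p ∈ V χ ∩ V (evL k x₀ θ) := ⟨hpχ, hp⟩
          rw [hdisj _ _ hχ.2] at this
          exact this
        · intro hp
          have h2 : p ∈ ⋃ χ ∈ (Set.range fun x : R →ₐ[k] k => evL k x θ), V χ := by
            rw [hcov]; trivial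
          obtain ⟨χ, hχ, hpχ⟩ := Set.mem_iUnion₂.1 h2
          by_cases hne : χ = evL k x₀ θ
          · rw [← hne]; exact hpχ
          · exact absurd (Set.mem_iUnion₂.2 ⟨χ, ⟨hχ, hne⟩, hpχ⟩) hp
      rw [h1]
      exact ((hfin.subset Set.diff_subset).isClosed_biUnion fun χ _ => hVc χ).isOpen_compl
    have huniv : V (evL k x₀ θ) = Set.univ := hclopen.eq_univ ⟨_, (hVmem x₀ _).2 rfl⟩
    intro x
    rw [← hVmem x, huniv]
    trivial
  · -- the functions `θ(·, g)` are constant
    intro x
    rw [← sub_eq_zero]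
    refine eq_zero_of_forall_point k A _ fun g => ?_
    have hu : IsUnit (evR k g θ) := by
      refine isUnit_of_forall_ne (k := k) R _ fun y => ?_
      have h1 : y (evR k g θ) = ev y g θ := DFunLike.congr_fun (comp_evR_eq_comp_evL k R A y g) θ
      rw [h1]
      exact ev_ne_zero θ hassoc hcounit y g
    obtain ⟨c, hc⟩ := h hu.unit
    rw [IsUnit.unit_spec] at hc
    have h2 : ∀ y : R →ₐ[k] k, g (evL k y θ) = c := by
      intro y
      have h1 : y (evR k g θ) = g (evL k y θ) :=
        DFunLike.congr_fun (comp_evR_eq_comp_evL k R A y g) θ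
      rw [← h1, ← hc, AlgHom.commutes]
      rfl
    rw [map_sub, h2, h2, sub_self]

end Groth.Agent.S19411
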