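import Groth.Statements.S19412
import Groth.Agent.GLin.K765.Basic

set_option autoImplicit false
universe u
open TensorProduct
open GLin

namespace Groth.Agent.S19412

/-- Let k be an algebraically closed field of characteristic zero, A a finitely generated commutative
Hopf algebra over k (an algebraic group G), S and R finitely generated commutative k-algebras with
multiplicative A-coactions (G acting on affine Y = Spec S, X = Spec R), S → R an algebra map
compatible with the coactions (a G-morphism φ : X → Y), S₀ → S and R₀ → R injective k-algebra maps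
whose images are the subrings of invariants, and S₀ → R₀ an algebra map with S₀ → R₀ → R equal to S₀
→ S → R (φ/G). Suppose R₀ is étale over S₀ and the canonical map S ⊗_{S₀} R₀ → R is bijective (φ is
strongly étale: φ/G étale and X ≅ Y ×_{Y//G} X//G). Then R is étale over S (φ étale), and for every
k-point x of X: every k-point of G fixing the image point φ(x) fixes x (φ restricted to the orbit of
x is injective), and the orbit of x is closed if and only if the orbit of φ(x) is closed. (The
published item also asserts that φ is surjective; that fails when φ is the inclusion of a proper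
saturated open subset, which is strongly étale, so surjectivity is not asserted here.) -/
theorem result (k : Type u) [Field k] [IsAlgClosed k] [CharZero k]
    (A : Type u) [CommRing A] [HopfAlgebra k A] [Algebra.FiniteType k A]
    (S : Type u) [CommRing S] [Algebra k S] [Algebra.FiniteType k S] [HopfRep.Comod k A S] [GLin.IsCoactAlg k A S]
    (R : Type u) [CommRing R] [Algebra k R] [Algebra.FiniteType k R] [HopfRep.Comod k A R] [GLin.IsCoactAlg k A R]
    [Algebra S R] [IsScalarTower k S R]
    (hequiv : (∀ s : S, HopfRep.Comod.coact (k := k) (A := A) (algebraMap S R s) =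
      Algebra.TensorProduct.map (IsScalarTower.toAlgHom k S R) (AlgHom.id k A) (HopfRep.Comod.coact (k := k) (A := A) s)))
    (S₀ : Type u) [CommRing S₀] [Algebra k S₀] [Algebra S₀ S] [IsScalarTower k S₀ S]
    (hS₀i : Function.Injective (algebraMap S₀ S)) (hS₀ : (IsScalarTower.toAlgHom k S₀ S).range = GLin.invariants k A S)
    (R₀ : Type u) [CommRing R₀] [Algebra k R₀] [Algebra R₀ R] [IsScalarTower k R₀ R]
    (hR₀i : Function.Injective (algebraMap R₀ R)) (hR₀ : (IsScalarTower.toAlgHom k R₀ R).range = GLin.invariants k A R)
    [Algebra S₀ R₀] [Algebra S₀ R] [IsScalarTower S₀ S R] [IsScalarTower S₀ R₀ R]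
    (het₀ : Algebra.Etale S₀ R₀)
    (hcart : Function.Bijective (Algebra.TensorProduct.productMap (IsScalarTower.toAlgHom S₀ S R) (IsScalarTower.toAlgHom S₀ R₀ R))) :
    Algebra.Etale S R ∧
      ∀ x : R →ₐ[k] k,
        (∀ g : A →ₐ[k] k, GLin.actPt k g (x.comp (IsScalarTower.toAlgHom k S R)) = x.comp (IsScalarTower.toAlgHom k S R) →
          GLin.actPt k g x = x) ∧
        (GLin.IsClosedOrbit k A x ↔ GLin.IsClosedOrbit k A (x.comp (IsScalarTower.toAlgHom k S R))) := by
  have hφ : K765.Basic.IsEquiv A (IsScalarTower.toAlgHom k S R) := hequiv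
  have hinvR : ∀ r : R₀, algebraMap R₀ R r ∈ GLin.invariants k A R := by
    intro r
    rw [← hR₀]
    exact ⟨r, rfl⟩
  -- the isomorphism over `S`
  let e : S ⊗[S₀] R₀ →ₐ[S] R :=
    Algebra.TensorProduct.lift (Algebra.ofId S R) (IsScalarTower.toAlgHom S₀ R₀ R)
      (fun _ _ => Commute.all _ _)
  have he : ∀ z, e z = Algebra.TensorProduct.productMap (IsScalarTower.toAlgHom S₀ S R)
      (IsScalarTower.toAlgHom S₀ R₀ R) z := by
    intro z
    induction z with
    | zero => simp
    | tmul s r => simp [e, Algebra.ofId_apply]
    | add a b ha hb => rw [map_add, map_add, ha, hb]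
  have hebij : Function.Bijective e := by
    have : (e : S ⊗[S₀] R₀ → R) = Algebra.TensorProduct.productMap (IsScalarTower.toAlgHom S₀ S R)
      (IsScalarTower.toAlgHom S₀ R₀ R) := funext he
    rw [this]
    exact hcart
  have hspan : ∀ r : R, r ∈ Submodule.span S (Set.range (algebraMap R₀ R)) := by
    intro r
    obtain ⟨z, rfl⟩ := hebij.2 r
    induction z with
    | zero => simp
    | tmul s r =>
      have : e (s ⊗ₜ r) = s • algebraMap R₀ R r := by
        rw [he]
        simp [Algebra.smul_def]
      rw [this]
      exact Submodule.smul_mem _ _ (Submodule.subset_span ⟨r, rfl⟩)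
    | add a b ha hb => rw [map_add]; exact add_mem ha hb
  refine ⟨Algebra.Etale.of_equiv (AlgEquiv.ofBijective e hebij), fun x => ⟨fun g hg => ?_, ?_⟩⟩
  · -- the stabiliser of the image fixes the point
    rw [K765.Basic.actPt_comp hφ] at hg
    apply AlgHom.ext
    intro r
    refine Submodule.span_induction (p := fun r _ => (GLin.actPt k g x) r = x r) ?_ (by simp) ?_ ?_
      (hspan r)
    · rintro _ ⟨r, rfl⟩
      exact K765.Basic.actPt_of_mem_invariants (hinvR r) g x
    · intro a b _ _ ha hb
      rw [map_add, map_add, ha, hb]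
    · intro s a _ ha
      rw [Algebra.smul_def, map_mul, map_mul, ha]
      congr 1
      exact DFunLike.congr_fun hg s
  · -- closedness of orbits
    let J : Ideal R := (RingHom.ker (x.comp (IsScalarTower.toAlgHom k R₀ R))).map (algebraMap R₀ R)
    have hJ : J ≤ RingHom.ker (GLin.orbitHom k A x).toRingHom := by
      rw [Ideal.map_le_iff_le_comap]
      intro r hr
      rw [Ideal.mem_comap, RingHom.mem_ker]
      have h1 : x (algebraMap R₀ R r) = 0 := hr
      have h2 := K765.Basic.orbitHom_of_mem_invariants (hinvR r) x
      rw [h1, map_zero] at h2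
      exact h2
    let o : R ⧸ J →+* A := Ideal.Quotient.lift J (GLin.orbitHom k A x).toRingHom hJ
    have ho : (GLin.orbitHom k A x).toRingHom = o.comp (Ideal.Quotient.mk J) := by
      ext r
      rfl
    have hsurj : Function.Surjective ((Ideal.Quotient.mk J).comp (algebraMap S R)) := by
      intro q
      obtain ⟨r, rfl⟩ := Ideal.Quotient.mk_surjective q
      refine Submodule.span_induction (p := fun r _ => ∃ a, ((Ideal.Quotient.mk J).comp
        (algebraMap S R)) a = Ideal.Quotient.mk J r) ?_ ⟨0, by simp⟩ ?_ ?_ (hspan r)
      · rintro _ ⟨r, rfl⟩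
        refine ⟨algebraMap k S (x (algebraMap R₀ R r)), ?_⟩
        rw [RingHom.comp_apply, ← IsScalarTower.algebraMap_apply, Ideal.Quotient.mk_eq_mk_iff_sub_mem]
        have h3 : algebraMap k R (x (algebraMap R₀ R r)) - algebraMap R₀ R r =
            algebraMap R₀ R (algebraMap k R₀ (x (algebraMap R₀ R r)) - r) := by
          rw [map_sub, ← IsScalarTower.algebraMap_apply]
        rw [h3]
        apply Ideal.mem_map_of_mem
        rw [RingHom.mem_ker, map_sub, AlgHom.commutes]
        simp
      · rintro a b _ _ ⟨a', ha⟩ ⟨b', hb⟩
        exact ⟨a' + b', by rw [map_add, ha, hb, map_add]⟩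
      · rintro s a _ ⟨a', ha⟩
        exact ⟨s * a', by rw [map_mul, ha, Algebra.smul_def, map_mul]; rfl⟩
    have hy : (GLin.orbitHom k A (x.comp (IsScalarTower.toAlgHom k S R))).toRingHom =
        o.comp ((Ideal.Quotient.mk J).comp (algebraMap S R)) := by
      rw [K765.Basic.orbitHom_comp hφ]
      ext r
      rfl
    rw [GLin.IsClosedOrbit, GLin.IsClosedOrbit, hy, ho,
      K765.Basic.isClosed_range_comap_comp_iff _ Ideal.Quotient.mk_surjective,
      K765.Basic.isClosed_range_comap_comp_iff _ hsurj]

end Groth.Agent.S19412
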