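import Groth.Statements.S19413
import Groth.Agent.GLinSh.K676.ForwardMain
import Groth.Agent.GLinSh.K676.Backward

set_option autoImplicit false
universe u
open CategoryTheory MonoidalCategory CartesianMonoidalCategory MonObj AlgebraicGeometry Topology
open GLinSh

namespace Groth.Agent.S19413

/-- Let k be an algebraically closed field of characteristic zero, G a connected reductive group over k
(affine, smooth, connected, with trivial unipotent radical), Z a smooth integral k-scheme of finite
type with an action of G, and φ : Z → M a good quotient (affine, invariant, functions on opens of M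
are the invariant functions on their preimages, invariant closed subsets have closed images
compatibly with intersections). Let j : Z₀ → Z be a G-equivariant open immersion whose image is
saturated (equal to φ⁻¹ of its image) with complement of codimension at least 2 (every point of Z
outside it has local ring of Krull dimension ≥ 2), such that G acts freely on Z₀ ((σ, p₂) : G × Z₀ →
Z₀ × Z₀ a closed immersion) and Z₀ has a geometric quotient φ₀ : Z₀ → M₀ with M₀ → M an open
immersion onto φ(Z₀) compatible with φ. Then every local ring of M is a unique factorisation domain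
(local factoriality of M) exactly when the following holds: given any G-linearised line bundle B on
Z (in total-space form: a line bundle V → Z with a lifted fibrewise-linear action) and any k-point z
of Z whose orbit is closed, each point of G (with values in any k-scheme T) fixing z acts as the
identity on the points of V lying over z (the stabilizer of z acts trivially on the fibre of the
line bundle at z). (The published statement allows any reductive G; this row assumes G connected,
the case the source's argument covers.) -/
theorem result
    (k : Type u) [Field k] [IsAlgClosed k] [CharZero k]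
    (G Z M : Over (Spec (CommRingCat.of k))) [GrpObj G] (hG : Red.IsReductiveOver k G)
    [Smooth Z.hom] [LocallyOfFiniteType Z.hom] [QuasiCompact Z.hom] [IsSeparated Z.hom] [AlgebraicGeometry.IsIntegral Z.left]
    (a : AlgGrp.Action G Z) (φ : Z ⟶ M) (hq : NRQuot.IsGoodQuot a φ)
    (Z₀ M₀ : Over (Spec (CommRingCat.of k))) (j : Z₀ ⟶ Z) [IsOpenImmersion j.left] (i : M₀ ⟶ M) [IsOpenImmersion i.left]
    (a₀ : AlgGrp.Action G Z₀) (hj : a₀.act ≫ j = (G ◁ j) ≫ a.act)
    (hsat : Set.range j.left.base = φ.left.base ⁻¹' (φ.left.base '' Set.range j.left.base))
    (hcodim : ∀ z : Z.left, z ∉ Set.range j.left.base → 2 ≤ ringKrullDim (Z.left.presheaf.stalk z))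
    (hfree : IsClosedImmersion (GIT.psi a₀ (𝟙 Z₀)).left)
    (φ₀ : Z₀ ⟶ M₀) (hsq : φ₀ ≫ i = j ≫ φ) (hi : Set.range i.left.base = φ.left.base '' Set.range j.left.base)
    (hgq : GIT.IsGeomQuot a₀ φ₀) :
    (∀ y : M.left, ∃ (_ : IsDomain (M.left.presheaf.stalk y)), UniqueFactorizationMonoid (M.left.presheaf.stalk y)) ↔
      ∀ (B : GLinSh.LinBun G a) (z : 𝟙_ (Over (Spec (CommRingCat.of k))) ⟶ Z), IsClosed (Set.range (a.orbitMap z).left.base) →
        ∀ (T : Over (Spec (CommRingCat.of k))) (g : T ⟶ G) (v : T ⟶ B.V),
          lift g (toUnit T ≫ z) ≫ a.act = toUnit T ≫ z → v ≫ B.π = toUnit T ≫ z →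
            lift g v ≫ B.lift.act = v := by
  constructor
  · intro hM B z _ T g v h1 h2
    exact K676.ForwardMain.forward k G Z M hG a φ hq Z₀ j a₀ hj hsat hcodim hfree hM B z T g v h1 h2
  · intro H y
    have : IsAffine G.left := hG.1
    have : Smooth G.hom := hG.2.1
    have : ConnectedSpace G.left := hG.2.2.1
    have : AlgebraicGeometry.IsIntegral G.left := Groth.Agent.Sga3B.CellDim.isIntegral_of_connected_grp G
    have : AlgebraicGeometry.IsIntegral M.left := K676.Forward.isIntegral_quot hq
    obtain ⟨A, _, _, e, he, hft, hlr, hdA⟩ := K676.Setup.exists_hopf hG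
    exact ⟨inferInstance, K676.Backward.ufd_stalk_quot e hlr hq H y⟩

end Groth.Agent.S19413
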