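import Groth.Statements.S19415
import Groth.Agent.WeilCoh.K861.Graph
import Mathlib.Order.Interval.Finset.Basic
import Mathlib.Data.Int.Interval

set_option autoImplicit false
universe u v
open CategoryTheory AlgebraicGeometry
open WeilCoh

namespace Groth.Agent.S19415

/-- Let H be a Weil cohomology theory with coefficients in a field K of characteristic zero on
nonsingular connected projective varieties over an algebraically closed field k, X such a variety of
dimension n, P = X × X with its projections p, q, and F : X → X an endomorphism such that the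
characteristic polynomials of F^* on the cohomology groups H^i(X), i ∈ ℤ, are pairwise coprime in
K[T]. Then for every i the i-th Künneth projector of X is given by an algebraic correspondence with
coefficients in K: there is a class u in H^{2n}(P), lying in the K-linear span of the classes of
closed irreducible subsets of P, whose action β ↦ q_*(p^*(β) · u) is the identity on H^i(X) and zero
on H^j(X) for every j ≠ i (push-forward q_* taken on the homogeneous piece of degree j + 2n). The
published statement has rational coefficients, X defined over a finite field and F its Frobenius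
endomorphism, the coprimality of the characteristic polynomials being deduced there from the Riemann
hypothesis over finite fields and from the independence of these polynomials of the cohomology
theory; here that coprimality is the hypothesis and F is any endomorphism. -/
theorem result (k : Type u) [Field k]
    [IsAlgClosed k] (K : Type v) [Field K] [CharZero K] (T : WeilCoh.Theory k K)
    (X P : WeilCoh.Var k) (p q : P ⟶ X) (hP : WeilCoh.IsProd p q) (F : X ⟶ X)
    (hF : ∀ i j : ℤ, i ≠ j → IsCoprime (T.pullDeg F i).charpoly (T.pullDeg F j).charpoly)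
    (i : ℤ) :
    ∃ u : ↥(T.gr P (2 * (WeilCoh.dim X.obj.left : ℤ))),
      (u : T.H P) ∈ Submodule.span K (Set.range (T.cl P)) ∧
        ∀ (j : ℤ) (b : ↥(T.gr X j)),
          (T.push q (j + 2 * (WeilCoh.dim X.obj.left : ℤ))
              ⟨T.pull p (b : T.H X) * (u : T.H P),
                SetLike.mul_mem_graded (T.pull_mem p j b b.2) u.2⟩ : T.H X) =
            if j = i then (b : T.H X) else 0 := by
  classical
  -- the operator `Q(F^*)` and the corresponding algebraic class
  have key : ∀ R : Polynomial K, ∃ u : ↥(T.gr P (2 * (WeilCoh.dim X.obj.left : ℤ))),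
      (u : T.H P) ∈ Submodule.span K (Set.range (T.cl P)) ∧
        ∀ (j : ℤ) (b : ↥(T.gr X j)), K861.Total.corr T p q (u : T.H P) (b : T.H X) =
          ((Polynomial.aeval (T.pullDeg F j) R) b : T.H X) := by
    intro R
    -- powers of F
    let Fm : ℕ → (X ⟶ X) := fun m => Nat.rec (𝟙 X) (fun _ g => g ≫ F) m
    have hFm : ∀ (m : ℕ) (j : ℤ) (b : T.gr X j),
        T.pull (Fm m) (b : T.H X) = (((T.pullDeg F j) ^ m) b : T.H X) := by
      intro m j
      induction m with
      | zero => intro b; exact K861.Basic.pull_id_apply T _
      | succ m ih =>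
        intro b
        have h1 : T.pull (Fm (m + 1)) (b : T.H X) = T.pull (Fm m) (T.pull F (b : T.H X)) :=
          K861.Basic.pull_comp_apply T _ _ _
        rw [h1, pow_succ]
        exact ih (T.pullDeg F j b)
    let τ : ℕ → (X ⟶ P) := fun m => K861.Graph.lift hP (Fm m) (𝟙 X)
    have hτ : ∀ m, τ m ≫ q = 𝟙 X := fun m => K861.Graph.lift_snd hP _ _
    have hτ' : ∀ m, τ m ≫ p = Fm m := fun m => K861.Graph.lift_fst hP _ _
    let c : ℕ → T.H P := fun m => T.cl P (WeilCoh.sm (τ m) (genericPoint ↥X.obj.left))
    have hc : ∀ m, c m ∈ T.gr P (2 * (WeilCoh.dim X.obj.left : ℤ)) := fun m =>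
      K861.Graph.cl_section_mem T (K861.Graph.isProd_symm hP) (τ m) (hτ m)
    have hcorr : ∀ m (x : T.H X), K861.Total.corr T p q (c m) x = T.pull (Fm m) x := fun m x =>
      K861.Graph.corr_graph T (τ m) (hτ m) (Fm m) (hτ' m) x
    refine ⟨⟨R.sum fun m a => a • c m, Submodule.sum_mem _ fun m _ => Submodule.smul_mem _ _ (hc m)⟩,
      Submodule.sum_mem _ fun m _ => Submodule.smul_mem _ _ (Submodule.subset_span ⟨_, rfl⟩), ?_⟩
    intro j b
    have h1 : K861.Total.corr T p q (R.sum fun m a => a • c m) (b : T.H X) =
        R.sum fun m a => a • T.pull (Fm m) (b : T.H X) := by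
      simp only [K861.Total.corr_apply, Polynomial.sum, Finset.mul_sum, map_sum, mul_smul_comm, map_smul]
      refine Finset.sum_congr rfl fun m _ => ?_
      congr 1
      exact hcorr m _
    refine h1.trans ?_
    rw [Polynomial.aeval_eq_sum_range,
      Polynomial.sum_over_range (f := fun m a => a • T.pull (Fm m) (b : T.H X)) R (fun m => zero_smul K _),
      LinearMap.sum_apply, AddSubmonoidClass.coe_finsetSum]
    refine Finset.sum_congr rfl fun m _ => ?_
    rw [hFm]
    rfl
  by_cases hi : i < 0 ∨ (2 * (WeilCoh.dim X.obj.left : ℤ)) < i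
  · obtain ⟨u, hu, huc⟩ := key 0
    refine ⟨u, hu, fun j b => ?_⟩
    have h1 := huc j b
    rw [map_zero, LinearMap.zero_apply] at h1
    have h2 := K861.Total.pushT_of_mem T q (K861.Basic.mul_mem T (T.pull_mem p _ _ b.2) u.2)
    refine h2.symm.trans (h1.trans ?_)
    by_cases hj : j = i
    · subst hj
      rw [if_pos rfl, K861.Basic.eq_zero_of_lt T b.2 hi]
      rfl
    · rw [if_neg hj]; rfl
  · -- coprimality
    let s : Finset ℤ := (Finset.Icc 0 (2 * (WeilCoh.dim X.obj.left : ℤ))).erase i
    have hcop : IsCoprime (T.pullDeg F i).charpoly (∏ j ∈ s, (T.pullDeg F j).charpoly) :=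
      IsCoprime.prod_right fun j hj => hF i j (Finset.ne_of_mem_erase hj).symm
    obtain ⟨a, b', hab⟩ := hcop
    obtain ⟨u, hu, huc⟩ := key (b' * ∏ j ∈ s, (T.pullDeg F j).charpoly)
    refine ⟨u, hu, fun j b => ?_⟩
    have h1 := huc j b
    have h2 := K861.Total.pushT_of_mem T q (K861.Basic.mul_mem T (T.pull_mem p _ _ b.2) u.2)
    refine h2.symm.trans (h1.trans ?_)
    by_cases hj : j = i
    · subst hj
      rw [if_pos rfl]
      have h3 : b' * ∏ j ∈ s, (T.pullDeg F j).charpoly = 1 - a * (T.pullDeg F j).charpoly := by
        rw [← hab]; ring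
      rw [h3, map_sub, map_one, map_mul, LinearMap.aeval_self_charpoly, mul_zero, LinearMap.sub_apply,
        LinearMap.zero_apply, sub_zero]
      rfl
    · rw [if_neg hj]
      by_cases hj' : j < 0 ∨ (2 * (WeilCoh.dim X.obj.left : ℤ)) < j
      · exact K861.Basic.eq_zero_of_lt T (SetLike.coe_mem _) hj'
      · have hjs : j ∈ s := by
          rw [Finset.mem_erase, Finset.mem_Icc]
          omega
        rw [← Finset.mul_prod_erase s _ hjs]
        have h3 : Polynomial.aeval (T.pullDeg F j) (b' * ((T.pullDeg F j).charpoly *
            ∏ x ∈ s.erase j, (T.pullDeg F x).charpoly)) = 0 := by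
          rw [map_mul, map_mul, LinearMap.aeval_self_charpoly, zero_mul, mul_zero]
        rw [h3]
        rfl

end Groth.Agent.S19415
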