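import Groth.Statements.S19416
import Groth.Agent.IntMult.K304.DimIneq
import Groth.Agent.IntMult.K304.DimBasic

set_option autoImplicit false
universe u
open CategoryTheory AlgebraicGeometry
open IntMult

namespace Groth.Agent.S19416

/-- Let k be a field and X a smooth variety over k (the structure morphism X → Spec k smooth, separated
and quasi-compact, X integral) of dimension n, and let V, W ⊆ X be closed irreducible subsets of
dimensions r and s. Then every irreducible component Z of V ∩ W has dimension at least r + s − n,
stated as r + s ≤ dim Z + n with Krull dimensions of the subspaces; equivalently the codimension of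
Z is at most the sum of the codimensions of V and W. The base field is arbitrary here; the same
statement over an algebraically closed field is the classical dimension count for intersections on a
nonsingular variety. -/
theorem result (k : Type u) [Field k] (X : Scheme.{u})
    (f : X ⟶ Spec (CommRingCat.of k)) [Smooth f] [IsSeparated f] [QuasiCompact f] [IsIntegral X]
    (n r s : ℕ) (hn : topologicalKrullDim X = n) (V W : Set X) (hVc : IsClosed V)
    (hVi : IsIrreducible V) (hWc : IsClosed W) (hWi : IsIrreducible W)
    (hr : topologicalKrullDim ↥V = r) (hs : topologicalKrullDim ↥W = s) (Z : Set ↥(V ∩ W))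
    (hZ : Z ∈ irreducibleComponents ↥(V ∩ W)) :
    ((r + s : ℕ) : WithBot ℕ∞) ≤ topologicalKrullDim ↥Z + n := by
  obtain ⟨δ, hδ⟩ := Groth.Agent.CycA.SerreGeom.exists_deltaCompat f
  -- generic points
  have hv := hVi.isGenericPoint_genericPoint hVc
  have hw := hWi.isGenericPoint_genericPoint hWc
  set v := hVi.genericPoint
  set w := hWi.genericPoint
  have hVW : IsClosed (V ∩ W) := hVc.inter hWc
  have hZi : IsIrreducible (Subtype.val '' Z : Set X) :=
    hZ.1.image _ continuous_subtype_val.continuousOn
  have hZc : IsClosed (Subtype.val '' Z : Set X) :=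
    hVW.isClosedEmbedding_subtypeVal.isClosedMap _ (isClosed_of_mem_irreducibleComponents Z hZ)
  have hz := hZi.isGenericPoint_genericPoint hZc
  set z := hZi.genericPoint
  have hzmem : z ∈ (Subtype.val '' Z : Set X) := hz.mem
  have hzVW : z ∈ V ∩ W := by
    obtain ⟨a, -, ha⟩ := hzmem
    rw [← ha]
    exact a.2
  have hvz : v ⤳ z := hv.specializes hzVW.1
  have hwz : w ⤳ z := hw.specializes hzVW.2
  -- dimensions
  have hr' : δ v = r := by
    refine K304.DimBasic.eq_of_dim_closure f hδ ?_
    rw [hv.def, hr]
  have hs' : δ w = s := by
    refine K304.DimBasic.eq_of_dim_closure f hδ ?_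
    rw [hw.def, hs]
  have hn' : δ (genericPoint X) = n := by
    refine K304.DimBasic.eq_of_dim_closure f hδ ?_
    rw [(genericPoint_spec X).def, K304.DimBasic.topologicalKrullDim_univ, hn]
  obtain ⟨t, ht, ht'⟩ := K304.DimBasic.dim_closure f hδ z
  rw [hz.def, K304.DimBasic.topologicalKrullDim_image_val] at ht'
  have key := K304.DimIneq.delta_add_le f hδ hvz hwz (by
    intro y hvy hwy hyz
    have hyV : y ∈ V := by
      rw [← hv.def]; exact specializes_iff_mem_closure.1 hvy
    have hyW : y ∈ W := by
      rw [← hw.def]; exact specializes_iff_mem_closure.1 hwy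
    let y' : ↥(V ∩ W) := ⟨y, hyV, hyW⟩
    have h1 : Z ⊆ closure {y'} := by
      intro a ha
      rw [← specializes_iff_mem_closure, subtype_specializes_iff]
      exact hyz.trans (hz.specializes ⟨a, ha, rfl⟩)
    have h2 : closure {y'} ⊆ Z := hZ.2 isIrreducible_singleton.closure h1
    have h3 : y' ∈ Z := h2 (subset_closure rfl)
    have h4 : z ⤳ y := hz.specializes ⟨y', h3, rfl⟩
    exact (hyz.antisymm h4).eq)
  rw [hr', hs', hn', ht] at key
  rw [ht']
  have h5 : r + s ≤ n + t := by exact_mod_cast key
  have h6 : r + s ≤ t + n := by omega
  exact_mod_cast h6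

end Groth.Agent.S19416
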