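import Groth.Statements.S19417
import Groth.Agent.Jac.K914.Pencil
import Groth.Agent.Jac.K914.ZeroPush
import Groth.Agent.Jac.K914.Fine
import Groth.Agent.ZCorr.K952.RatCurve
import Groth.Agent.Cyc.K309.Base
import Groth.Agent.CycB.P1PtClosure

set_option autoImplicit false
universe u
open CategoryTheory CategoryTheory.Limits AlgebraicGeometry
open Jac

namespace Groth.Agent.S19417

open Groth.Agent.Grpsch.PicGrp Groth.Agent.Fga.JacSum Groth.Agent.Fga.JacSurj Groth.Agent.Picfga.P1Def
open K914.Curve K914.Cls K914.Points K914.HField K914.Sc K914.HUniq K914.AbelImm K914.SymUniv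

section aux

variable {k : Type u} [Field k] {X : Scheme.{u}} {f : X ⟶ Spec (CommRingCat.of k)}
  [IsProper f] [Smooth f] [GeometricallyConnected f] [SmoothOfRelativeDimension 1 f]

/-- A section of a class over a field gives a point of the symmetric power. -/
theorem exists_pt {n : ℕ} {H : Over (Spec (CommRingCat.of k))} {Z : HilbD.Obj f n H} (hZ : HilbD.IsUniversal f n H Z)
    {K : Type u} [Field K] (t : Spec (CommRingCat.of K) ⟶ Spec (CommRingCat.of k)) (c : Pic (PicF.XT f (Over.mk t)))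
    (hc : IsDeg f n c) (hpos : 0 < hK f t 0 c) :
    ∃ z : Over.mk t ⟶ H, pull (PicF.XTmap f z) (ucl Z) = c := by
  obtain ⟨L, hL, rfl⟩ := exists_mk c
  obtain ⟨s, hs⟩ := K914.PtDrop.exists_section_of_pos f t hL hpos
  have hs' : Fdesc.LocGen.sec s ⊤ ≠ 0 := by
    intro h
    apply hs
    apply Fdesc.LocGen.hom_ext_sec
    rw [h]
    rfl
  obtain ⟨z, -, hz⟩ := K914.DivObj.exists_map hZ hL (Fdesc.LocGen.sec s ⊤) (fun τ h0 => hs' (by
    have hiso : IsIso (PicF.XTmap f (ptHom (Over.mk t) τ)) := by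
      have h1 := Picfga.ZeroFin.isPullback_pt (f := f) (Over.mk t) τ
      have h2 : IsIso ((Over.mk t).left.fromSpecResidueField τ) := Fga.JacAlg.isIso_fromSpecResidueField K τ
      exact MorphismProperty.of_isPullback (P := MorphismProperty.isomorphisms _) h1.flip h2
    exact Fga.JacAlg.eq_zero_of_pullTop_eq_zero (PicF.XTmap f (ptHom (Over.mk t) τ)) hL _ h0)) hc
  exact ⟨z, hz⟩

end aux

/-- Let X be a smooth proper connected curve of genus g over an algebraically closed field k and n an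
integer with n ≥ g and n ≥ 1. Let Y be the n-th symmetric power of X (a quotient q : X^n → Y by the
symmetric group, over k), J_n the degree-n Picard scheme of X (a coarse moduli scheme for line
bundles of degree n on X, on all k-schemes) and j : Y → J_n the Abel map sending an effective
divisor of degree n to its line bundle. Give Y and J_n the dimension functions induced from weight 0
on Spec k. Then proper push-forward of zero-cycles along j induces a bijection of Chow groups of
zero-cycles CH_0(Y) → CH_0(J_n): every zero-cycle on J_n has the same class as the push-forward of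
some zero-cycle on Y, and a zero-cycle on Y whose push-forward has trivial class on J_n has trivial
class on Y. In the published statement Y maps to the Jacobian by [x_1, …, x_n] ↦ Σ (x_i − e) for a
base point e; that map is j followed by the translation isomorphism from J_n to the Jacobian, which
does not affect the statement. -/
theorem result (k : Type u) [Field k] [IsAlgClosed k]
    (X : Scheme.{u}) [X.Over (Spec (CommRingCat.of k))] [IsProper (X ↘ Spec (CommRingCat.of k))]
    [Smooth (X ↘ Spec (CommRingCat.of k))] [GeometricallyConnected (X ↘ Spec (CommRingCat.of k))]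
    (hdim : topologicalKrullDim ↥X = 1) (g : ℕ) (hg : Curv2.genus k X = g) (n : ℕ) (hn : 1 ≤ n)
    (hgn : g ≤ n) (Y : Scheme.{u}) (q : SymProd.fibPow (X ↘ Spec (CommRingCat.of k)) n ⟶ Y)
    (gY : Y ⟶ Spec (CommRingCat.of k)) (hY : SymProd.IsSymProd (X ↘ Spec (CommRingCat.of k)) n q gY)
    (Jn : Over (Spec (CommRingCat.of k)))
    (ψn : (ModFun.PicDeg (X ↘ Spec (CommRingCat.of k)) (n : ℤ)).Hom ⊤ Jn)
    (hJn : ModFun.IsCoarseModuli ⊤ (ModFun.PicDeg (X ↘ Spec (CommRingCat.of k)) (n : ℤ)) Jn ψn)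
    (jn : Over.mk gY ⟶ Jn) (hjn : Jac.IsAbelMapSym q gY hY.over ψn jn) [QuasiCompact jn.left]
    (δY : ↥Y → ℤ) (hδY : Cyc.DeltaCompat gY δY (fun _ => 0))
    (δJ : ↥Jn.left → ℤ) (hδJ : Cyc.DeltaCompat Jn.hom δJ (fun _ => 0)) :
    (∀ (β : AlgebraicCycle Jn.left ℤ) (hβ : β ∈ Cyc.Zk Jn.left δJ 0),
        ∃ (α : AlgebraicCycle Y ℤ) (hα : α ∈ Cyc.Zk Y δY 0)
          (hmα : AlgebraicCycle.map jn.left δY δJ α ∈ Cyc.Zk Jn.left δJ 0),
          ChowOps.clHom Jn.left δJ 0 ⟨AlgebraicCycle.map jn.left δY δJ α, hmα⟩ =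
            ChowOps.clHom Jn.left δJ 0 ⟨β, hβ⟩) ∧
      ∀ (α : AlgebraicCycle Y ℤ) (hα : α ∈ Cyc.Zk Y δY 0)
        (hmα : AlgebraicCycle.map jn.left δY δJ α ∈ Cyc.Zk Jn.left δJ 0),
        ChowOps.clHom Jn.left δJ 0 ⟨AlgebraicCycle.map jn.left δY δJ α, hmα⟩ = 0 →
          ChowOps.clHom Y δY 0 ⟨α, hα⟩ = 0 := by
  have hX := isSmoothProperCurve (X ↘ Spec (CommRingCat.of k)) hdim
  have hrd : SmoothOfRelativeDimension 1 (X ↘ Spec (CommRingCat.of k)) := Fga.JacAlg.smoothOfRelDim hX
  have hint := K914.Curve.isIntegral (X ↘ Spec (CommRingCat.of k))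
  obtain ⟨σ, hσ⟩ := K914.Semi.exists_section (X ↘ Spec (CommRingCat.of k))
  have hP := K914.Fine.isProper_of_coarse (X ↘ Spec (CommRingCat.of k)) σ hσ hJn
  obtain ⟨J₀, _, ξ₀, -, -, h₀⟩ := K914.Fine.exists_isJac (X ↘ Spec (CommRingCat.of k)) σ hσ
  obtain ⟨ξ, hξ, hξ1, -⟩ := K914.Fine.exists_univ h₀ hJn
  obtain ⟨Z, hZ, hpull, hepi, hsurj, hprop⟩ := exists_univ hY
  have hprop' : IsProper (Over.mk gY).hom := hprop
  -- the Abel map is the classifying map of the universal divisor
  have hjP : jn = psiCl ψn (ucl Z) (K914.Pencil.isDeg_ucl Z) := by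
    have h1 := abel_eq hX hjn (fun i => powPt (X ↘ Spec (CommRingCat.of k)) n i)
    have h2 : ptsHom (fun i => powPt (X ↘ Spec (CommRingCat.of k)) n i) = 𝟙 _ := by
      have h3 := ptsHom_powPt_comp (𝟙 (Jac.powOver (X ↘ Spec (CommRingCat.of k)) n))
      rw [← h3]
      congr 1
    rw [h2, Category.id_comp] at h1
    have h4 : (Over.homMk q hY.over : Jac.powOver (X ↘ Spec (CommRingCat.of k)) n ⟶ Over.mk gY) ≫ jn =
        (Over.homMk q hY.over : Jac.powOver (X ↘ Spec (CommRingCat.of k)) n ⟶ Over.mk gY) ≫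
          psiCl ψn (ucl Z) (K914.Pencil.isDeg_ucl Z) := by
      rw [h1, comp_psiCl]
      exact psiCl_congr ψn hpull.symm _
    have h5 : q ≫ jn.left = q ≫ (psiCl ψn (ucl Z) (K914.Pencil.isDeg_ucl Z)).left := congrArg CommaMorphism.left h4
    rw [cancel_epi] at h5
    exact Over.OverMorphism.ext h5
  have hjw : jn.left ≫ Jn.hom = gY := Over.w jn
  have hjp : IsProper jn.left := by
    have : IsProper (jn.left ≫ Jn.hom) := by rw [hjw]; exact hprop
    exact IsProper.of_comp jn.left Jn.hom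
  -- points lift with the same residue field
  have hl : ∀ x : Jn.left, ∃ a : Y, jn.left a = x ∧ Function.Surjective (jn.left.residueFieldMap a).hom := by
    intro x
    let t : Spec (CommRingCat.of (Jn.left.residueField x)) ⟶ Spec (CommRingCat.of k) := fsr Jn.left x ≫ Jn.hom
    let g' : Over.mk t ⟶ Jn := ofHom Jn (fsr Jn.left x)
    have hc := hξ.pull g'
    have hpos : 0 < hK (X ↘ Spec (CommRingCat.of k)) t 0 (pull (PicF.XTmap (X ↘ Spec (CommRingCat.of k)) g') ξ) := by
      have h1 := hK_sub (X ↘ Spec (CommRingCat.of k)) t (pull (PicF.XTmap (X ↘ Spec (CommRingCat.of k)) g') ξ)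
      rw [(isDeg_iff_chiK t _).1 hc, chiK_one k X, hg] at h1
      omega
    obtain ⟨z, hz⟩ := exists_pt hZ t _ hc hpos
    have h2 : z ≫ jn = g' := by
      rw [hjP, comp_psiCl, psiCl_congr ψn hz, ← comp_psiCl ψn g' ξ hξ, hξ1, Category.comp_id]
    have h3 : z.left ≫ jn.left = Jn.left.fromSpecResidueField x := congrArg CommaMorphism.left h2
    obtain ⟨h4, h5⟩ := CycB.P1PtClosure.residueFieldMap_surjective jn.left z.left h3
    exact ⟨_, h4, h5⟩
  -- the closed points of the fibres are rationally equivalent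
  have hE : ∀ a b : Y, jn.left a = jn.left b → IsClosed ({a} : Set Y) → IsClosed ({b} : Set Y) →
      K952.Pts.PtEq (jn.left ≫ Jn.hom) a b := by
    intro a b hab ha hb
    rw [hjw]
    let y₀ : Over.mk (𝟙 (Spec (CommRingCat.of k))) ⟶ Over.mk gY :=
      Over.homMk (pointOfClosedPoint gY a ha) (pointOfClosedPoint_comp gY a ha)
    let y₁ : Over.mk (𝟙 (Spec (CommRingCat.of k))) ⟶ Over.mk gY :=
      Over.homMk (pointOfClosedPoint gY b hb) (pointOfClosedPoint_comp gY b hb)
    let z : Spec (CommRingCat.of k) := IsLocalRing.closedPoint k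
    have e₀ : y₀.left z = a := pointOfClosedPoint_apply gY a ha z
    have e₁ : y₁.left z = b := pointOfClosedPoint_apply gY b hb z
    have h1 : y₀ ≫ jn = y₁ ≫ jn := by
      ext1
      refine K914.Dv.section_ext Jn.hom _ _ (Over.w (y₀ ≫ jn)) (Over.w (y₁ ≫ jn)) ?_
      change jn.left (y₀.left z) = jn.left (y₁.left z)
      rw [e₀, e₁, hab]
    by_cases hne : y₀ = y₁
    · rw [← e₀, ← e₁, hne]
      exact K952.Pts.PtEq.refl _ _
    · have h2 : pull (PicF.XTmap (X ↘ Spec (CommRingCat.of k)) y₀) (ucl Z) =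
          pull (PicF.XTmap (X ↘ Spec (CommRingCat.of k)) y₁) (ucl Z) := by
        rw [hjP, comp_psiCl, comp_psiCl] at h1
        exact psiCl_inj ψn hJn _ _ h1
      obtain ⟨g', hg1, hg2, hg3⟩ := K914.Pencil.exists_projLine hZ y₀ y₁ h2 hne
      exact K952.RatCurve.ptEq_of_range gY g' hg1 (e₀ ▸ hg2 z) (e₁ ▸ hg3 z) ha hb
  obtain ⟨H1, H2⟩ := K914.ZeroPush.main jn.left Jn.hom hl hE hδJ (hjw.symm ▸ hδY)
  refine ⟨fun β hβ => ?_, fun α hα hmα h => ?_⟩
  · obtain ⟨α, hα, rfl⟩ := H2 β hβ
    exact ⟨α, hα, hβ, rfl⟩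
  · exact (K309.Base.cl_eq_zero_iff α hα).2 (H1 α hα ((K309.Base.cl_eq_zero_iff _ hmα).1 h))

end Groth.Agent.S19417
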