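import Groth.Statements.S19418
import Groth.Agent.WeilCoh.K861.Graph

set_option autoImplicit false
universe u v
open CategoryTheory AlgebraicGeometry
open WeilCoh

namespace Groth.Agent.S19418

/-- Key step, cohomological form: let H be a Weil cohomology theory with coefficients in a field K of
characteristic zero on nonsingular connected projective varieties over an algebraically closed field
k, X such a variety of dimension n, P = X × X with projections p, q and the swap automorphism σ (σ p
= q, σ q = p); the identity dim P = 2n is carried as the arithmetic hypothesis hdim. A class u ∈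
H^{2n}(P) acts as a degree-0 correspondence on each H^j(X), 0 ≤ j ≤ 2n, by β ↦ q_*(p^*(β) · u); call
u algebraic when it lies in the K-linear span of the classes of closed irreducible subsets of P, and
let A be the K-subalgebra of ∏_j End_K(H^j(X)) generated by the actions of the algebraic classes in
H^{2n}(P). If u is algebraic and ψ ∘ (action of u) is nilpotent for every ψ ∈ A — that is, the
action of u lies in the Jacobson radical of the finite-dimensional algebra A — then u is numerically
trivial against algebraic classes: Tr_P(u · v) = 0 for every algebraic v ∈ H^{2n}(P). In the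
published argument this is the step showing that the algebra of degree-0 algebraic correspondences
modulo numerical equivalence has zero Jacobson radical, hence is semisimple; it is stated here on
the cohomological side, with the algebra generated by the correspondence actions in place of the
algebra of cycle classes. -/
theorem result (k : Type u) [Field k] [IsAlgClosed k]
    (K : Type v) [Field K] [CharZero K] (T : WeilCoh.Theory k K) (X P : WeilCoh.Var k)
    (p q : P ⟶ X) (hP : WeilCoh.IsProd p q) (σ : P ⟶ P) (hσp : σ ≫ p = q) (hσq : σ ≫ q = p)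
    (hdim : ∀ j : ℤ, j + 2 * (WeilCoh.dim X.obj.left : ℤ) + 2 * (WeilCoh.dim X.obj.left : ℤ) - 2 * (WeilCoh.dim P.obj.left : ℤ) = j)
    (u : ↥(T.gr P (2 * (WeilCoh.dim X.obj.left : ℤ)))) (hu : (u : T.H P) ∈ Submodule.span K (Set.range (T.cl P)))
    (hJ : ∀ ψ ∈ Algebra.adjoin K
          (Set.range (fun w : {w : ↥(T.gr P (2 * (WeilCoh.dim X.obj.left : ℤ))) // (w : T.H P) ∈ Submodule.span K (Set.range (T.cl P))} =>
            fun j : Fin (2 * WeilCoh.dim X.obj.left + 1) =>
              ((LinearEquiv.ofEq (T.gr X (((j : ℕ) : ℤ) + 2 * (WeilCoh.dim X.obj.left : ℤ) + 2 * (WeilCoh.dim X.obj.left : ℤ) - 2 * (WeilCoh.dim P.obj.left : ℤ))) (T.gr X ((j : ℕ) : ℤ)) (congrArg (T.gr X) (hdim ((j : ℕ) : ℤ)))).toLinearMap ∘ₗ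
              ((T.push q (((j : ℕ) : ℤ) + 2 * (WeilCoh.dim X.obj.left : ℤ))) ∘ₗ
                (((LinearMap.mulRight K (w.1 : T.H P)).restrict (p := T.gr P ((j : ℕ) : ℤ))
                    (q := T.gr P (((j : ℕ) : ℤ) + 2 * (WeilCoh.dim X.obj.left : ℤ))) (fun x hx => SetLike.mul_mem_graded hx w.1.2)) ∘ₗ
                  T.pullDeg p ((j : ℕ) : ℤ)))))),
        IsNilpotent (ψ * fun j : Fin (2 * WeilCoh.dim X.obj.left + 1) =>
          ((LinearEquiv.ofEq (T.gr X (((j : ℕ) : ℤ) + 2 * (WeilCoh.dim X.obj.left : ℤ) + 2 * (WeilCoh.dim X.obj.left : ℤ) - 2 * (WeilCoh.dim P.obj.left : ℤ))) (T.gr X ((j : ℕ) : ℤ)) (congrArg (T.gr X) (hdim ((j : ℕ) : ℤ)))).toLinearMap ∘ₗ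
              ((T.push q (((j : ℕ) : ℤ) + 2 * (WeilCoh.dim X.obj.left : ℤ))) ∘ₗ
                (((LinearMap.mulRight K (u : T.H P)).restrict (p := T.gr P ((j : ℕ) : ℤ))
                    (q := T.gr P (((j : ℕ) : ℤ) + 2 * (WeilCoh.dim X.obj.left : ℤ))) (fun x hx => SetLike.mul_mem_graded hx u.2)) ∘ₗ
                  T.pullDeg p ((j : ℕ) : ℤ))))))
    (v : ↥(T.gr P (2 * (WeilCoh.dim X.obj.left : ℤ)))) (hv : (v : T.H P) ∈ Submodule.span K (Set.range (T.cl P))) :
    T.tr P ((u : T.H P) * (v : T.H P)) = 0 := by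
  classical
  have hσσ : σ ≫ σ = 𝟙 P := by
    apply K861.Graph.hom_ext hP
    · rw [Category.assoc, hσp, hσq, Category.id_comp]
    · rw [Category.assoc, hσq, hσp, Category.id_comp]
  have hPs := K861.Graph.isProd_symm hP
  have htr : ∀ c, T.tr P (T.pull σ c) = T.tr P c := fun c =>
    K861.Lefschetz.tr_swap T hP hP σ hσp hσq c
  have hcl : ∀ c ∈ Submodule.span K (Set.range (T.cl P)),
      T.pull σ c ∈ Submodule.span K (Set.range (T.cl P)) := by
    intro c hc
    induction hc using Submodule.span_induction with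
    | mem x hx =>
      obtain ⟨ξ, rfl⟩ := hx
      rw [K861.Graph.pull_involution T σ hσσ htr]
      exact Submodule.subset_span ⟨_, rfl⟩
    | zero => rw [map_zero]; exact Submodule.zero_mem _
    | add x y _ _ hx hy => rw [map_add]; exact Submodule.add_mem _ hx hy
    | smul a x _ hx => rw [map_smul]; exact Submodule.smul_mem _ _ hx
  let w : {w : ↥(T.gr P (2 * (WeilCoh.dim X.obj.left : ℤ))) //
      (w : T.H P) ∈ Submodule.span K (Set.range (T.cl P))} :=
    ⟨⟨T.pull σ (v : T.H P), T.pull_mem σ _ _ v.2⟩, hcl _ hv⟩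
  have hnil := hJ _ (Algebra.subset_adjoin ⟨w, rfl⟩)
  have h1 : (v : T.H P) = T.pull σ (w.1 : T.H P) := by
    change (v : T.H P) = T.pull σ (T.pull σ (v : T.H P))
    rw [← K861.Basic.pull_comp_apply, hσσ, K861.Basic.pull_id_apply]
  rw [h1, K861.Lefschetz.trace_formula T hP hP σ hσp hσq 0 (u : T.H P) (by rw [add_zero]; exact u.2)
    (w.1 : T.H P) (by rw [sub_zero]; exact w.1.2), K861.Lefschetz.str_apply]
  refine Finset.sum_eq_zero fun i hi => ?_
  rw [Finset.mem_range] at hi
  obtain ⟨m, hm⟩ := hnil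
  have hm' := congrFun hm ⟨i, hi⟩
  -- the operators
  have hop : ∀ (z : ↥(T.gr P (2 * (WeilCoh.dim X.obj.left : ℤ)))) (x : T.gr X ((i : ℕ) : ℤ)),
      (((LinearEquiv.ofEq (T.gr X (((i : ℕ) : ℤ) + 2 * (WeilCoh.dim X.obj.left : ℤ) + 2 * (WeilCoh.dim X.obj.left : ℤ) - 2 * (WeilCoh.dim P.obj.left : ℤ))) (T.gr X ((i : ℕ) : ℤ)) (congrArg (T.gr X) (hdim ((i : ℕ) : ℤ)))).toLinearMap ∘ₗ
              ((T.push q (((i : ℕ) : ℤ) + 2 * (WeilCoh.dim X.obj.left : ℤ))) ∘ₗ
                (((LinearMap.mulRight K (z : T.H P)).restrict (p := T.gr P ((i : ℕ) : ℤ))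
                    (q := T.gr P (((i : ℕ) : ℤ) + 2 * (WeilCoh.dim X.obj.left : ℤ))) (fun x hx => SetLike.mul_mem_graded hx z.2)) ∘ₗ
                  T.pullDeg p ((i : ℕ) : ℤ)))) x : T.H X) = K861.Total.corr T p q (z : T.H P) (x : T.H X) := by
    intro z x
    exact (K861.Total.pushT_of_mem T q (K861.Basic.mul_mem T (T.pull_mem p _ _ x.2) z.2)).symm
  rw [← K861.Lefschetz.gtr_eq_of T _ (_ * _) (fun x => by
    rw [Module.End.mul_apply, hop w.1, hop u]; rfl)]
  have h2 : IsNilpotent (LinearMap.trace K (T.gr X ((i : ℕ) : ℤ)) (_ * _)) :=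
    LinearMap.isNilpotent_trace_of_isNilpotent ⟨m, hm'⟩
  rw [h2.eq_zero, mul_zero]

end Groth.Agent.S19418
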