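import Groth.Statements.S19419
import Groth.Agent.Cyc.K309.DimIrr
import Groth.Agent.CycA.SectGeom
import Groth.Agent.CycA.StalkIdeal

set_option autoImplicit false
universe u
open CategoryTheory CategoryTheory.Limits AlgebraicGeometry
open Cyc

namespace Groth.Agent.S19419

/-- Let X be a smooth proper integral curve over an algebraically closed field k, with generic point η,
and ψ : X → X a flat endomorphism over k. Let Y = X ×_k X with its two projections, m = ψ × id : Y →
Y (first projection intertwines ψ, second projection unchanged), d : X → Y the diagonal and g = (id,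
ψ) : X → Y the graph of ψ. For the dimension function δ on Y induced from weight 0 on Spec k, the
flat pull-back of cycles along m in relative dimension 0 takes the diagonal divisor [Δ], the cycle
equal to 1 at d(η) and 0 elsewhere, to the graph divisor [Γ_ψ], the cycle equal to 1 at g(η) and 0
elsewhere: (ψ × id)^*[Δ] = [Γ_ψ]. The published statement allows any endomorphism ψ and reads the
pull-back on divisors; flatness of ψ is what the flat pull-back of cycles requires (the intended
case is the Frobenius endomorphism), and iterating gives [Γ_{ψ^n}] = ((ψ × id)^*)^n [Δ]. -/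
theorem result (k : Type u) [Field k]
    [IsAlgClosed k] (X : Scheme.{u}) (f : X ⟶ Spec (CommRingCat.of k)) [Smooth f] [IsProper f]
    [IsIntegral X] (hdim : topologicalKrullDim ↥X = 1) (ψ : X ⟶ X) (hψ : ψ ≫ f = f) [Flat ψ]
    (m : pullback f f ⟶ pullback f f) (hm₁ : m ≫ pullback.fst f f = pullback.fst f f ≫ ψ)
    (hm₂ : m ≫ pullback.snd f f = pullback.snd f f) (g : X ⟶ pullback f f)
    (hg₁ : g ≫ pullback.fst f f = 𝟙 X) (hg₂ : g ≫ pullback.snd f f = ψ)
    (δ : ↥(pullback f f) → ℤ) (hδ : Cyc.DeltaCompat (pullback.fst f f ≫ f) δ (fun _ => 0)) :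
    Cyc.pullFun m δ δ 0
        (Set.indicator ({pullback.diagonal f (genericPoint ↥X)} : Set ↥(pullback f f)) (fun _ => (1 : ℤ))) =
      Set.indicator ({g (genericPoint ↥X)} : Set ↥(pullback f f)) (fun _ => (1 : ℤ)) := by
  have hηη : ψ (genericPoint X) = genericPoint X := K309.DimIrr.map_genericPoint_of_flat ψ
  -- the square `m` over `ψ`
  have hr : IsPullback (pullback.fst f f) m ψ (pullback.fst f f) := by
    have h1 : IsPullback (pullback.fst f f) (pullback.snd f f) (ψ ≫ f) f := by
      rw [hψ]; exact IsPullback.of_hasPullback f f
    refine IsPullback.of_bot ?_ hm₁.symm (IsPullback.of_hasPullback f f)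
    rw [hm₂]
    exact h1
  have hw : g ≫ m = ψ ≫ pullback.diagonal f := by
    apply pullback.hom_ext
    · rw [Category.assoc, hm₁, ← Category.assoc, hg₁, Category.id_comp, Category.assoc,
        pullback.diagonal_fst, Category.comp_id]
    · rw [Category.assoc, hm₂, hg₂, Category.assoc, pullback.diagonal_snd, Category.comp_id]
  have hsq : IsPullback g ψ m (pullback.diagonal f) := by
    refine IsPullback.of_right ?_ hw hr
    rw [hg₁, pullback.diagonal_fst]
    exact IsPullback.of_horiz_isIso ⟨by simp⟩
  have hcl : IsClosedImmersion (pullback.diagonal f) := inferInstance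
  have hgcl : IsClosedImmersion g := MorphismProperty.of_isPullback hsq.flip hcl
  -- points over the generic point
  have hgen : ∀ a : X, ψ a = genericPoint X → a = genericPoint X := by
    intro a ha
    by_contra hne
    have h1 : CycB.RelDim.rtd f a < CycB.RelDim.rtd f (genericPoint X) :=
      CycB.RelDim.rtd_lt_of_specializes f (genericPoint_specializes a) (fun h => hne h.symm)
        (Subsingleton.elim (α := PrimeSpectrum k) _ _)
    have h2 : CycB.RelDim.rtd (ψ ≫ f) a = CycB.RelDim.rtd f (ψ a) + CycB.RelDim.rtd ψ a :=
      CycB.RelDim.rtd_comp ψ f a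
    rw [hψ, ha] at h2
    rw [h2] at h1
    exact absurd h1 (not_lt.2 le_self_add)
  have hmg : m (g (genericPoint X)) = pullback.diagonal f (genericPoint X) := by
    have h1 : (g ≫ m) (genericPoint X) = (ψ ≫ pullback.diagonal f) (genericPoint X) := by rw [hw]
    rw [Scheme.Hom.comp_apply, Scheme.Hom.comp_apply, hηη] at h1
    exact h1
  -- the point of `Y` over the generic point of the diagonal is the generic point of the graph
  have hpt : ∀ x : ↥(pullback f f), m x = pullback.diagonal f (genericPoint X) →
      x = g (genericPoint X) := by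
    intro x hx
    obtain ⟨a, ha, ha'⟩ := Scheme.exists_preimage_of_isPullback hsq x (genericPoint X) hx
    rw [hgen a ha'] at ha
    exact ha.symm
  have hrt : ∀ (h : X ⟶ pullback f f) [IsClosedImmersion h], h ≫ pullback.fst f f = 𝟙 X →
      ∀ n : ℕ, CycB.RelDim.rtd f (genericPoint X) = n → δ (h (genericPoint X)) = n := by
    intro h _ hh n hn
    obtain ⟨j, hj, hj'⟩ := (CycB.RelDim.deltaCompat_iff.mp hδ) (h (genericPoint X))
    have h1 : CycB.RelDim.rtd (h ≫ pullback.fst f f ≫ f) (genericPoint X) =
        CycB.RelDim.rtd (pullback.fst f f ≫ f) (h (genericPoint X)) +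
          CycB.RelDim.rtd h (genericPoint X) := CycB.RelDim.rtd_comp _ _ _
    rw [← Category.assoc, hh, Category.id_comp, hn, hj,
      CycB.RelDim.rtd_eq_zero_of_isPreimmersion, add_zero] at h1
    have h2 : n = j := by exact_mod_cast h1
    rw [hj', h2]
    ring
  obtain ⟨n, hn⟩ := Cardinal.lt_aleph0.1 (CycB.RelDim.rtd_lt_aleph0 f (genericPoint X))
  have hlen : Module.length ((pullback f f).presheaf.stalk (g (genericPoint X)))
      ((pullback f f).presheaf.stalk (g (genericPoint X)) ⧸ Ideal.map
        (m.stalkMap (g (genericPoint X))).hom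
        (IsLocalRing.maximalIdeal ((pullback f f).presheaf.stalk (m (g (genericPoint X)))))) = 1 := by
    have h1 := CycA.SectGeom.ker_stalkMap_of_isPullback hsq (genericPoint X)
    have h2 : ∀ (y : ↥(pullback f f)), y = pullback.diagonal f (genericPoint X) →
        IntMult.stalkIdeal (pullback.diagonal f).ker y = IsLocalRing.maximalIdeal _ := by
      rintro _ rfl
      rw [CycA.StalkIdeal.stalkIdeal_ker]
      have hf : IsField (X.presheaf.stalk (genericPoint X)) :=
        Field.toIsField (X.functionField)
      have h3 : (RingHom.ker ((pullback.diagonal f).stalkMap (genericPoint X)).hom).IsMaximal := by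
        let := hf.toField
        exact RingHom.ker_isMaximal_of_surjective _
          ((pullback.diagonal f).stalkMap_surjective (genericPoint X))
      exact IsLocalRing.eq_maximalIdeal h3
    rw [h2 _ hmg] at h1
    rw [← h1]
    have h4 : (RingHom.ker (g.stalkMap (genericPoint X)).hom).IsMaximal := by
      let := (Field.toIsField (X.functionField) : IsField (X.presheaf.stalk (genericPoint X))).toField
      exact RingHom.ker_isMaximal_of_surjective _ (g.stalkMap_surjective (genericPoint X))
    rw [Module.length_eq_one_iff]
    exact isSimpleModule_iff_isCoatom.2 (Ideal.isMaximal_def.1 h4)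
  funext x
  unfold Cyc.pullFun
  by_cases hx : m x = pullback.diagonal f (genericPoint X)
  · have hx' := hpt x hx
    subst hx'
    rw [hlen, Set.indicator_of_mem (Set.mem_singleton_iff.2 hmg),
      Set.indicator_of_mem (Set.mem_singleton _), if_pos]
    · rfl
    · rw [hrt g hg₁ n hn, hmg, hrt _ (pullback.diagonal_fst f) n hn, add_zero]
  · have hx' : x ≠ g (genericPoint X) := by
      rintro rfl
      exact hx hmg
    rw [Set.indicator_of_notMem (fun h => hx (Set.mem_singleton_iff.1 h)),
      Set.indicator_of_notMem (fun h => hx' (Set.mem_singleton_iff.1 h)), zero_mul, ite_self]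

end Groth.Agent.S19419
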