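import Groth.Statements.S19420
import Groth.Agent.InvQ.K702.CubicSurf
import Groth.Agent.GIT.K687.SLForms

set_option autoImplicit false
universe u
open TensorProduct LaurentPolynomial
open GIT

namespace Groth.Agent.S19420

open K702.Forms K702.FormsStab K702.PointSets K702.PointStab K702.GradHess K702.CubicSurf CoordGrp
open MvPolynomial

section

attribute [local instance] coactF coactF_isCoactAlg

variable {k : Type u} [Field k] [IsAlgClosed k] [CharZero k]

omit [IsAlgClosed k] [CharZero k] in
lemma sum_three {G : MvPolynomial (Fin 3) k} (hG : G.IsHomogeneous 3) {m : Fin 3 →₀ ℕ}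
    (hm : coeff m G ≠ 0) : m 0 + m 1 + m 2 = 3 := by
  have h3 : m.degree = 3 := by
    rw [Finsupp.degree_eq_weight_one]
    exact hG hm
  rw [Finsupp.degree_eq_sum, Fin.sum_univ_three] at h3
  exact h3

/-- A singular point which is not a node makes the cubic unstable. -/
theorem rank_eq (a : FormIdx 3 3 → k) (hst : GLin.IsSemistableVec k (SLn 3 k) a)
    (v : Fin 3 → k) (hv : v ≠ 0) (hs : grad (formPoly a) v = 0) :
    (hess (formPoly a) v).rank = 2 := by
  classical
  by_contra hr
  have hF := formPoly_isHomogeneous a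
  have h1 : (hess (formPoly a) v).mulVec v = 0 := by
    rw [hess_mulVec_self hF, hs, smul_zero]
  obtain ⟨u, hu, hind⟩ := exists_second_ker _ v hv h1 (by omega)
  obtain ⟨M₀, hM₀, hM0, hM1⟩ := exists_matrix_cols v u hind
  -- normalise the determinant
  obtain ⟨c, hc⟩ := IsAlgClosed.exists_pow_nat_eq (M₀.det)⁻¹ (n := 3) (by norm_num)
  have hc0 : c ≠ 0 := by
    rintro rfl
    rw [zero_pow (by norm_num)] at hc
    exact inv_ne_zero hM₀ hc.symm
  have hdet : (c • M₀).det = 1 := by
    rw [Matrix.det_smul, Fintype.card_fin, hc, inv_mul_cancel₀ hM₀]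
  have hMe0 : M₀.mulVec (Pi.single 0 1) = v := by
    funext i
    rw [Matrix.mulVec_single_one]
    exact hM0 i
  set G := K702.Forms.sub M₀ (formPoly a) with hGdef
  have hG : G.IsHomogeneous 3 := sub_isHomogeneous M₀ hF
  have hc1 : ∀ i, coeff (Finsupp.single 0 2 + Finsupp.single i 1) G = 0 := by
    intro i
    have h2 : grad G (Pi.single 0 1) i = 0 := by
      rw [hGdef, grad_sub, hMe0, hs, Matrix.zero_vecMul]
      rfl
    rw [grad_single hG] at h2
    exact (mul_eq_zero.mp h2).resolve_right (cast_add_one_ne_zero _)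
  have hc2 : ∀ i, coeff (Finsupp.single 0 1 + Finsupp.single i 1 + Finsupp.single 1 1) G = 0 := by
    intro i
    have h2 : hess G (Pi.single 0 1) i 1 = 0 := by
      rw [hGdef, hess_sub, hMe0]
      have h3 : (M₀.transpose * hess (formPoly a) v * M₀) i 1 =
          (M₀.transpose * hess (formPoly a) v).mulVec u i := by
        rw [Matrix.mul_apply]
        simp only [Matrix.mulVec, dotProduct, hM1]
      rw [h3, ← Matrix.mulVec_mulVec, hu, Matrix.mulVec_zero]
      rfl
    rw [hess_single hG] at h2
    have h3 := (mul_eq_zero.mp h2).resolve_right (cast_add_one_ne_zero _)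
    exact (mul_eq_zero.mp h3).resolve_right (cast_add_one_ne_zero _)
  refine hst (isNullform_of_pos (Nat.cast_ne_zero.mpr (Nat.factorial_ne_zero 3)) a (c • M₀) hdet
    ![-3, 1, 2] (by rw [Fin.sum_univ_three]; simp) ?_)
  intro m hm
  rw [coeff_sub_smul] at hm
  have hm' : coeff m.1 G ≠ 0 := right_ne_zero_of_mul hm
  have hdeg := sum_three hG hm'
  obtain ⟨m, hmd⟩ := m
  simp only at hm' hdeg ⊢
  by_contra hlt
  rw [Fin.sum_univ_three] at hlt
  simp at hlt
  apply hm'
  by_cases h0 : 2 ≤ m 0
  · obtain ⟨i, hi⟩ : ∃ i, m = Finsupp.single 0 2 + Finsupp.single i 1 := by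
      have h4 : m 0 = 3 ∨ (m 0 = 2 ∧ m 1 = 1) ∨ (m 0 = 2 ∧ m 2 = 1) := by omega
      rcases h4 with h4 | h4 | h4
      · exact ⟨0, by ext j; fin_cases j <;> simp <;> omega⟩
      · exact ⟨1, by ext j; fin_cases j <;> simp <;> omega⟩
      · exact ⟨2, by ext j; fin_cases j <;> simp <;> omega⟩
    rw [hi]; exact hc1 i
  · obtain ⟨i, hi⟩ : ∃ i, m = Finsupp.single 0 1 + Finsupp.single i 1 + Finsupp.single 1 1 := by
      have h4 : (m 0 = 1 ∧ m 1 = 2) ∨ (m 0 = 1 ∧ m 1 = 1 ∧ m 2 = 1) := by omega
      rcases h4 with h4 | h4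
      · exact ⟨1, by ext j; fin_cases j <;> simp <;> omega⟩
      · exact ⟨2, by ext j; fin_cases j <;> simp <;> omega⟩
    rw [hi]; exact hc2 i

/-- An unstable cubic has a singular point which is not a node. -/
theorem exists_of_not_semistable (a : FormIdx 3 3 → k)
    (hst : ¬ GLin.IsSemistableVec k (SLn 3 k) a) :
    ∃ v : Fin 3 → k, v ≠ 0 ∧ grad (formPoly a) v = 0 ∧ (hess (formPoly a) v).rank ≠ 2 := by
  classical
  obtain ⟨M, hM, r, hr, hpos⟩ := K687.exists_pos_of_not_isSemistableVec a hst
  have hM0 : M.det ≠ 0 := by rw [hM]; exact one_ne_zero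
  have hF := formPoly_isHomogeneous a
  set G := K702.Forms.sub M (formPoly a) with hGdef
  have hG : G.IsHomogeneous 3 := sub_isHomogeneous M hF
  have hpos' : ∀ i j l : Fin 3, r i + r j + r l ≤ 0 →
      coeff (Finsupp.single i 1 + Finsupp.single j 1 + Finsupp.single l 1) G = 0 := by
    intro i j l h
    by_contra hne
    have hd : (Finsupp.single i 1 + Finsupp.single j 1 + Finsupp.single l 1 : Fin 3 →₀ ℕ).degree
        = 3 := by
      simp [Finsupp.degree_single]
    have h1 := hpos ⟨_, hd⟩ hne
    have h2 : ∑ x : Fin 3, (((Finsupp.single i 1 + Finsupp.single j 1 + Finsupp.single l 1 :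
        Fin 3 →₀ ℕ) x : ℕ) : ℤ) * r x = r i + r j + r l := by
      simp [Finsupp.single_apply, add_mul, Finset.sum_add_distrib]
    simp only at h1
    rw [h2] at h1
    omega
  obtain ⟨σ, hσ⟩ : ∃ σ : Equiv.Perm (Fin 3), Monotone (r ∘ σ) := ⟨_, Tuple.monotone_sort r⟩
  have h01 : r (σ 0) ≤ r (σ 1) := hσ (by decide)
  have h12 : r (σ 1) ≤ r (σ 2) := hσ (by decide)
  have hsum : r (σ 0) + r (σ 1) + r (σ 2) = 0 := by
    rw [← hr, ← Equiv.sum_comp σ r, Fin.sum_univ_three]
  have hidx : ∀ i : Fin 3, i = σ 0 ∨ i = σ 1 ∨ i = σ 2 := by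
    intro i
    obtain ⟨j, rfl⟩ := σ.surjective i
    fin_cases j
    · exact Or.inl rfl
    · exact Or.inr (Or.inl rfl)
    · exact Or.inr (Or.inr rfl)
  have hc1 : ∀ i, coeff (Finsupp.single (σ 0) 2 + Finsupp.single i 1) G = 0 := by
    intro i
    have h2 : (Finsupp.single (σ 0) 2 : Fin 3 →₀ ℕ) =
        Finsupp.single (σ 0) 1 + Finsupp.single (σ 0) 1 := by
      rw [← Finsupp.single_add]
    rw [h2]
    apply hpos'
    rcases hidx i with rfl | rfl | rfl <;> omega
  refine ⟨M.mulVec (Pi.single (σ 0) 1), mulVec_ne_zero' M hM0 (by simp), ?_, ?_⟩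
  · rw [← grad_sub_eq_zero_iff M hM0]
    funext i
    rw [← hGdef, grad_single hG, hc1 i, zero_mul]
    rfl
  · rw [← rank_hess_sub M hM0, ← hGdef]
    have h3 : hess G (Pi.single (σ 0) 1) = Matrix.vecMulVec
        (Pi.single (σ 2) (hess G (Pi.single (σ 0) 1) (σ 2) (σ 2))) (Pi.single (σ 2) 1) := by
      ext i j
      rw [Matrix.vecMulVec_apply]
      by_cases hi : i = σ 2 ∧ j = σ 2
      · obtain ⟨rfl, rfl⟩ := hi
        simp
      · have h4 : hess G (Pi.single (σ 0) 1) i j = 0 := by
          rw [hess_single hG]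
          have h5 : coeff (Finsupp.single (σ 0) (3 - 1 - 1) + Finsupp.single i 1 +
              Finsupp.single j 1) G = 0 := by
            apply hpos'
            rcases hidx i with rfl | rfl | rfl <;> rcases hidx j with rfl | rfl | rfl <;> omega
          rw [h5, zero_mul, zero_mul]
        rw [h4]
        symm
        rcases not_and_or.1 hi with hi | hi
        · rw [Pi.single_eq_of_ne hi, zero_mul]
        · rw [Pi.single_eq_of_ne hi, mul_zero]
    have h6 : (hess G (Pi.single (σ 0) 1)).rank ≤ 1 := by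
      rw [h3]
      exact Matrix.rank_vecMulVec_le _ _
    omega

end

/-- Let k be an algebraically closed field of characteristic zero and let SL_3 act by substitution on
ternary cubic forms, the point a having the form F = Σ_m (3; m) a_m x^m. Then a is semistable (some
invariant homogeneous polynomial of positive degree in the coefficients is non-zero at a) if and
only if at every non-zero vector w where all first partial derivatives of F vanish, the matrix of
second partial derivatives of F at w has rank 2: every singular point of the plane cubic F = 0 is a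
double point with two distinct tangent lines. (The published statement assumes only that the
characteristic of k is neither 2 nor 3; it is stated here in characteristic zero.) -/
theorem result (k : Type u) [Field k] [IsAlgClosed k] [CharZero k]
    (a : CoordGrp.FormIdx 3 3 → k) :
    @GLin.IsSemistableVec k _ (CoordGrp.SLn 3 k) _ _ (CoordGrp.FormIdx 3 3) (GLin.comodAlong ((CoordGrp.SLn.mkHom 3 k).comp (CoordGrp.Mat.toGLn 3 k)) (CoordGrp.formsCoact k 3 3))
      (GLin.isCoactAlg_comodAlong ((CoordGrp.SLn.mkHom 3 k).comp (CoordGrp.Mat.toGLn 3 k)) (CoordGrp.formsCoact k 3 3)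
        (CoordGrp.formsCoact_isCoactAlg k 3 3))
      a ↔
      ∀ w : Fin 3 → k, w ≠ 0 →
        (∀ i : Fin 3, MvPolynomial.eval w (MvPolynomial.pderiv i (CoordGrp.formPoly a)) = 0) →
          (Matrix.of fun i j : Fin 3 =>
            MvPolynomial.eval w (MvPolynomial.pderiv i (MvPolynomial.pderiv j (CoordGrp.formPoly a)))).rank = 2 := by
  constructor
  · intro h w hw hs
    exact rank_eq a h w hw (funext hs)
  · intro h
    by_contra hst
    obtain ⟨v, hv, hs, hr⟩ := exists_of_not_semistable a hst
    exact hr (h v hv fun i => congrFun hs i)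

end Groth.Agent.S19420
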