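import Groth.Statements.S19422
import Groth.Agent.GIT.K690.GmDiag

set_option autoImplicit false
universe u
open TensorProduct LaurentPolynomial
open GIT

namespace Groth.Agent.S19422

open K690.GmDiag

/-- Over an algebraically closed field k, let the multiplicative group, whose coordinate Hopf algebra is
the Laurent polynomial ring, act diagonally on affine ι-space, ι finite: the coaction on the
polynomial ring is multiplicative and sends the coordinate function X_i to X_i ⊗ T^(r_i) for
integers r_i. Then a vector v is semistable (some invariant homogeneous polynomial of positive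
degree does not vanish at v) if and only if there are indices i and j, possibly equal, with v_i ≠ 0,
v_j ≠ 0 and r_i ≤ 0 ≤ r_j, i.e. the origin lies in the convex hull of the weights of v. (Stated for
the ambient projective space on its affine cone; the published statement is for a point of a closed
invariant subvariety, whose semistability is that of the point in the ambient space.) -/
theorem result (k : Type u) [Field k] [IsAlgClosed k]
    (ι : Type u) [Fintype ι] [HopfRep.Comod k k[T;T⁻¹] (MvPolynomial ι k)] [GLin.IsCoactAlg k k[T;T⁻¹] (MvPolynomial ι k)]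
    (r : ι → ℤ)
    (hr : ∀ i : ι, HopfRep.Comod.coact (k := k) (A := k[T;T⁻¹]) (MvPolynomial.X i : MvPolynomial ι k) =
      (MvPolynomial.X i : MvPolynomial ι k) ⊗ₜ[k] (T (r i) : k[T;T⁻¹]))
    (v : ι → k) :
    GLin.IsSemistableVec k k[T;T⁻¹] v ↔ ∃ i j : ι, v i ≠ 0 ∧ v j ≠ 0 ∧ r i ≤ 0 ∧ 0 ≤ r j := by
  constructor
  · intro h
    rw [GLin.IsSemistableVec, GLin.IsNullform] at h
    push Not at h
    obtain ⟨F, hF, d, hd, hFd, hFv⟩ := h
    rw [MvPolynomial.eval_eq'] at hFv
    obtain ⟨m, hm, hmv⟩ := Finset.exists_ne_zero_of_sum_ne_zero hFv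
    have hcoef : MvPolynomial.coeff m F ≠ 0 := left_ne_zero_of_mul hmv
    have hprod : ∏ i, v i ^ m i ≠ 0 := right_ne_zero_of_mul hmv
    have hv : ∀ i, m i ≠ 0 → v i ≠ 0 := by
      intro i hi h0
      exact Finset.prod_ne_zero_iff.1 hprod i (Finset.mem_univ i) (by rw [h0, zero_pow hi])
    have hwt : ∑ i, (m i : ℤ) * r i = 0 := wt_eq_zero hr hF hcoef
    have hdeg : m ≠ 0 := by
      rintro rfl
      have := hFd hcoef
      simp at this
      omega
    obtain ⟨i, hi⟩ : ∃ i, m i ≠ 0 := by
      by_contra hcon
      push Not at hcon
      exact hdeg (Finsupp.ext hcon)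
    rcases le_or_gt (r i) 0 with hri | hri
    · by_contra hcon
      push Not at hcon
      have hneg : ∀ j, m j ≠ 0 → r j < 0 := fun j hj => hcon i j (hv i hi) (hv j hj) hri
      have : ∑ i, (m i : ℤ) * r i < 0 := by
        refine Finset.sum_neg' (fun j _ => ?_) ⟨i, Finset.mem_univ i,
          mul_neg_of_pos_of_neg (by positivity) (hneg i hi)⟩
        by_cases hj : m j = 0
        · simp [hj]
        · exact mul_nonpos_of_nonneg_of_nonpos (by positivity) (hneg j hj).le
      omega
    · by_contra hcon
      push Not at hcon
      have hpos : ∀ j, m j ≠ 0 → 0 < r j := by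
        intro j hj
        by_contra hj'
        push Not at hj'
        have := hcon j i (hv j hj) (hv i hi) hj'
        omega
      have : 0 < ∑ i, (m i : ℤ) * r i := by
        refine Finset.sum_pos' (fun j _ => ?_) ⟨i, Finset.mem_univ i,
          mul_pos (by positivity) (hpos i hi)⟩
        by_cases hj : m j = 0
        · simp [hj]
        · exact mul_nonneg (by positivity) (hpos j hj).le
      omega
  · rintro ⟨i, j, hi, hj, hri, hrj⟩
    rw [GLin.IsSemistableVec, GLin.IsNullform]
    push Not
    classical
    -- the monomial `X_i ^ a * X_j ^ b` of weight zero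
    have key : ∃ a b : ℕ, 0 < a + b ∧ (a : ℤ) * r i + (b : ℤ) * r j = 0 := by
      rcases hri.eq_or_lt with h0 | h0
      · exact ⟨1, 0, by norm_num, by simp [h0]⟩
      · refine ⟨(r j).toNat, (-r i).toNat, by omega, ?_⟩
        rw [Int.toNat_of_nonneg hrj, Int.toNat_of_nonneg (by omega)]
        ring
    obtain ⟨a, b, hab, hwt⟩ := key
    refine ⟨MvPolynomial.monomial (Finsupp.single i a + Finsupp.single j b) 1,
      monomial_mem_invariants hr _ ?_, a + b, hab, ?_, ?_⟩
    · rw [wt_add]
      simp only [wt]
      rw [Finset.sum_eq_single i, Finset.sum_eq_single j]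
      · simpa using hwt
      · intro l _ hl
        simp [Finsupp.single_eq_of_ne hl]
      · simp
      · intro l _ hl
        simp [Finsupp.single_eq_of_ne hl]
      · simp
    · apply MvPolynomial.isHomogeneous_monomial
      simp
    · rw [MvPolynomial.eval_monomial]
      rw [Finsupp.prod_add_index' (by simp) (fun _ _ _ => pow_add _ _ _)]
      simp [hi, hj]

end Groth.Agent.S19422
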