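import Groth.Statements.S19423
import Groth.Agent.GIT.K690.GmDiag

set_option autoImplicit false
universe u
open TensorProduct LaurentPolynomial
open GIT

namespace Groth.Agent.S19423

open K690.GmDiag K690.Orbits GLin

/-- Integrality over a ring mapping to a quotient of the Laurent polynomial ring. -/
lemma isIntegral_of {k : Type*} [Field k] {S B : Type*} [CommRing S] [CommRing B] [Algebra S B]
    (g : k[T;T⁻¹] →+* B) (hg : Function.Surjective g)
    (hC : ∀ a : k, IsIntegral S (g (LaurentPolynomial.C a))) {n m : ℕ} (hn : 0 < n) (hm : 0 < m)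
    (h1 : IsIntegral S (g (T (n : ℤ)))) (h2 : IsIntegral S (g (T (-(m : ℤ))))) :
    Algebra.IsIntegral S B := by
  constructor
  intro b
  obtain ⟨p, rfl⟩ := hg b
  have hT1 : IsIntegral S (g (T 1)) := by
    apply IsIntegral.of_pow hn
    rw [← map_pow, T_pow, mul_one]
    exact h1
  have hT2 : IsIntegral S (g (T (-1))) := by
    apply IsIntegral.of_pow hm
    rw [← map_pow, T_pow, mul_neg_one]
    exact h2
  have hT : ∀ l : ℤ, IsIntegral S (g (T l)) := by
    intro l
    obtain ⟨l, rfl | rfl⟩ := l.eq_nat_or_neg
    · have : (T (l : ℤ) : k[T;T⁻¹]) = T 1 ^ l := by rw [T_pow, mul_one]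
      rw [this, map_pow]
      exact hT1.pow l
    · have : (T (-(l : ℤ)) : k[T;T⁻¹]) = T (-1) ^ l := by rw [T_pow, mul_neg_one]
      rw [this, map_pow]
      exact hT2.pow l
  induction p using LaurentPolynomial.induction_on' with
  | add p q hp hq => rw [map_add]; exact hp.add hq
  | C_mul_T l a => rw [map_mul]; exact (hC a).mul (hT l)

section

variable {k : Type u} [Field k]
    {ι : Type u} [Fintype ι] [HopfRep.Comod k k[T;T⁻¹] (MvPolynomial ι k)]
    [GLin.IsCoactAlg k k[T;T⁻¹] (MvPolynomial ι k)]
    {r : ι → ℤ}

omit [Fintype ι] in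
lemma orbitHom_X (hr : ∀ i : ι, HopfRep.Comod.coact (k := k) (A := k[T;T⁻¹])
      (MvPolynomial.X i : MvPolynomial ι k) =
      (MvPolynomial.X i : MvPolynomial ι k) ⊗ₜ[k] (T (r i) : k[T;T⁻¹])) (v : ι → k) (i : ι) :
    orbitHom k k[T;T⁻¹] (vecPt k ι v) (MvPolynomial.X i) = LaurentPolynomial.C (v i) * T (r i) := by
  rw [orbitHom_apply, hr, LinearMap.rTensor_tmul, TensorProduct.lid_tmul]
  have : (vecPt k ι v).toLinearMap (MvPolynomial.X i) = v i := by simp [vecPt]
  rw [this, LaurentPolynomial.smul_eq_C_mul]

omit [Fintype ι] in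
/-- If all weights of `v` have the same sign (or vanish) then `v` is not stable. -/
lemma not_stable_of_sign (hr : ∀ i : ι, HopfRep.Comod.coact (k := k) (A := k[T;T⁻¹])
      (MvPolynomial.X i : MvPolynomial ι k) =
      (MvPolynomial.X i : MvPolynomial ι k) ⊗ₜ[k] (T (r i) : k[T;T⁻¹])) (v : ι → k)
    (ε : ℤ) (hε : ε * ε = 1) (h : ∀ i, v i ≠ 0 → 0 ≤ ε * r i) :
    ¬ GLin.IsStablePt k k[T;T⁻¹] (vecPt k ι v) := by
  classical
  rintro ⟨hcl, hfin⟩
  by_cases hall : ∀ i, v i ≠ 0 → r i = 0
  · -- the orbit map is constant
    have h1 : ∀ f : MvPolynomial ι k, orbitHom k k[T;T⁻¹] (vecPt k ι v) f =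
        LaurentPolynomial.C (vecPt k ι v f) := by
      intro f
      have : orbitHom k k[T;T⁻¹] (vecPt k ι v) =
          (Algebra.ofId k k[T;T⁻¹]).comp (vecPt k ι v) := by
        apply MvPolynomial.algHom_ext
        intro i
        rw [orbitHom_X hr]
        by_cases hi : v i = 0
        · simp [hi, vecPt]
        · simp [hall i hi, vecPt, Algebra.ofId_apply, ← C_eq_algebraMap]
      rw [this]
      simp [Algebra.ofId_apply, ← C_eq_algebraMap]
    have h2 : stabIdeal k k[T;T⁻¹] (vecPt k ι v) = ⊥ := by
      rw [stabIdeal, Ideal.map_eq_bot_iff_le_ker]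
      intro f hf
      rw [RingHom.mem_ker] at hf ⊢
      rw [h1, hf, map_zero]
    rw [HasFiniteStab, h2] at hfin
    have e : (k[T;T⁻¹] ⧸ (⊥ : Ideal k[T;T⁻¹])) ≃ₗ[k] k[T;T⁻¹] :=
      (AlgEquiv.quotientBot k k[T;T⁻¹]).toLinearEquiv
    have hfin' : Module.Finite k k[T;T⁻¹] := Module.Finite.equiv e
    have hfin2 : Module.Finite k (Polynomial k) :=
      Module.Finite.of_injective (Polynomial.toLaurentAlg (R := k)).toLinearMap
        Polynomial.toLaurent_injective
    exact Polynomial.not_finite (R := k) hfin2
  · push Not at hall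
    obtain ⟨j, hvj, hrj⟩ := hall
    have hrj' : 0 < ε * r j := by
      refine lt_of_le_of_ne (h j hvj) fun h0 => hrj ?_
      rcases mul_eq_zero.1 h0.symm with h0 | h0
      · rw [h0] at hε; simp at hε
      · exact h0
    -- the limit point
    let w : ι → k := fun i => if r i = 0 then v i else 0
    let hh : MvPolynomial ι k →ₐ[k] Polynomial k :=
      MvPolynomial.aeval fun i => Polynomial.C (v i) * Polynomial.X ^ (ε * r i).toNat
    have h1 : (Polynomial.aeval (R := k) (T ε : k[T;T⁻¹])).comp hh =
        orbitHom k k[T;T⁻¹] (vecPt k ι v) := by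
      apply MvPolynomial.algHom_ext
      intro i
      rw [orbitHom_X hr]
      by_cases hi : v i = 0
      · simp [hh, hi]
      · simp only [hh, AlgHom.comp_apply, MvPolynomial.aeval_X, map_mul, Polynomial.aeval_C,
          map_pow, Polynomial.aeval_X, T_pow, ← C_eq_algebraMap]
        rw [Int.toNat_of_nonneg (h i hi)]
        congr 2
        linear_combination (r i) * hε
    have h2 : (Polynomial.aeval (R := k) (0 : k)).comp hh = vecPt k ι w := by
      apply MvPolynomial.algHom_ext
      intro i
      simp only [hh, w, vecPt, AlgHom.comp_apply, MvPolynomial.aeval_X, map_mul, Polynomial.aeval_C,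
          map_pow, Polynomial.aeval_X]
      by_cases hi : v i = 0
      · simp [hi]
      · split_ifs with h0
        · simp [h0]
        · have : (ε * r i).toNat ≠ 0 := by
            have h3 := h i hi
            have h4 : ε * r i ≠ 0 := by
              intro h0'
              rcases mul_eq_zero.1 h0' with h0' | h0'
              · rw [h0'] at hε; simp at hε
              · exact h0 h0'
            omega
          simp [zero_pow this]
    have hinj : Function.Injective (Polynomial.aeval (R := k) (T ε : k[T;T⁻¹])) := by
      have hε' : ε = 1 ∨ ε = -1 := by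
        have : (ε - 1) * (ε + 1) = 0 := by linear_combination hε
        rcases mul_eq_zero.1 this with h | h
        · left; omega
        · right; omega
      rcases hε' with rfl | rfl
      · have : (Polynomial.aeval (R := k) (T 1 : k[T;T⁻¹])) = Polynomial.toLaurentAlg := by
          apply Polynomial.algHom_ext
          simp
        rw [this]
        exact Polynomial.toLaurent_injective
      · have : (Polynomial.aeval (R := k) (T (-1) : k[T;T⁻¹])) =
            (LaurentPolynomial.invert (R := k) : k[T;T⁻¹] →ₐ[k] k[T;T⁻¹]).comp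
              Polynomial.toLaurentAlg := by
          apply Polynomial.algHom_ext
          simp
        rw [this]
        exact (LaurentPolynomial.invert (R := k)).injective.comp Polynomial.toLaurent_injective
    have h3 : RingHom.ker (orbitHom k k[T;T⁻¹] (vecPt k ι v)) ≤ RingHom.ker (vecPt k ι w) := by
      intro f hf
      rw [RingHom.mem_ker, ← h1, AlgHom.comp_apply] at hf
      have hf' : hh f = 0 := hinj (by rw [hf, map_zero])
      rw [RingHom.mem_ker, ← h2, AlgHom.comp_apply, hf', map_zero]
    have h4 : (⟨RingHom.ker (vecPt k ι w), RingHom.ker_isPrime _⟩ :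
        PrimeSpectrum (MvPolynomial ι k)) ∈
        Set.range (PrimeSpectrum.comap (orbitHom k k[T;T⁻¹] (vecPt k ι v)).toRingHom) := by
      rw [← IsClosed.closure_eq hcl, PrimeSpectrum.closure_range_comap]
      exact h3
    obtain ⟨p, hp⟩ := h4
    have hp' : p.asIdeal.comap (orbitHom k k[T;T⁻¹] (vecPt k ι v)).toRingHom =
        RingHom.ker (vecPt k ι w) := congrArg PrimeSpectrum.asIdeal hp
    have hX : (MvPolynomial.X j : MvPolynomial ι k) ∈ RingHom.ker (vecPt k ι w) := by
      rw [RingHom.mem_ker]
      simp [vecPt, w, hrj]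
    rw [← hp', Ideal.mem_comap] at hX
    have hX' : LaurentPolynomial.C (v j) * T (r j) ∈ p.asIdeal := by
      rw [← orbitHom_X hr]; exact hX
    refine p.2.ne_top (Ideal.eq_top_of_isUnit_mem _ hX' ?_)
    exact ((isUnit_iff_ne_zero.2 hvj).map LaurentPolynomial.C).mul (isUnit_T _)

end

/-- Over an algebraically closed field k, let the multiplicative group, whose coordinate Hopf algebra is
the Laurent polynomial ring, act diagonally on affine ι-space, ι finite: the coaction on the
polynomial ring is multiplicative and sends the coordinate function X_i to X_i ⊗ T^(r_i) for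
integers r_i. Then a vector v is stable (the orbit of the point v of affine space is closed and its
stabiliser is a finite group scheme) if and only if there are indices i and j with v_i ≠ 0, v_j ≠ 0
and r_i < 0 < r_j, i.e. the origin is an interior point of the convex hull of the weights of v.
(Stated for the ambient projective space on its affine cone, where stability means a closed orbit
with finite stabiliser in the cone.) -/
theorem result (k : Type u) [Field k] [IsAlgClosed k]
    (ι : Type u) [Fintype ι] [HopfRep.Comod k k[T;T⁻¹] (MvPolynomial ι k)] [GLin.IsCoactAlg k k[T;T⁻¹] (MvPolynomial ι k)]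
    (r : ι → ℤ)
    (hr : ∀ i : ι, HopfRep.Comod.coact (k := k) (A := k[T;T⁻¹]) (MvPolynomial.X i : MvPolynomial ι k) =
      (MvPolynomial.X i : MvPolynomial ι k) ⊗ₜ[k] (T (r i) : k[T;T⁻¹]))
    (v : ι → k) :
    GLin.IsStableVec k k[T;T⁻¹] v ↔ ∃ i j : ι, v i ≠ 0 ∧ v j ≠ 0 ∧ r i < 0 ∧ 0 < r j := by
  constructor
  · intro h
    by_contra hcon
    push Not at hcon
    by_cases hneg : ∃ i, v i ≠ 0 ∧ r i < 0
    · obtain ⟨i, hi, hri⟩ := hneg
      refine not_stable_of_sign hr v (-1) (by norm_num) (fun j hj => ?_) h
      have := hcon i j hi hj hri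
      linarith
    · push Not at hneg
      refine not_stable_of_sign hr v 1 (by norm_num) (fun j hj => ?_) h
      have := hneg j hj
      linarith
  · rintro ⟨i, j, hvi, hvj, hri, hrj⟩
    have hn : ((r j).toNat : ℤ) = r j := Int.toNat_of_nonneg hrj.le
    have hm : ((-r i).toNat : ℤ) = - r i := Int.toNat_of_nonneg (by omega)
    constructor
    · -- closed orbit
      let φ := (orbitHom k k[T;T⁻¹] (vecPt k ι v)).toRingHom
      have hφ : φ.IsIntegral := by
        let : Algebra (MvPolynomial ι k) k[T;T⁻¹] := φ.toAlgebra
        have : Algebra.IsIntegral (MvPolynomial ι k) k[T;T⁻¹] := by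
          refine isIntegral_of (RingHom.id k[T;T⁻¹]) Function.surjective_id ?_
            (n := (r j).toNat) (m := (-r i).toNat) (by omega) (by omega) ?_ ?_
          · intro a
            have : (RingHom.id k[T;T⁻¹]) (LaurentPolynomial.C a) =
                algebraMap (MvPolynomial ι k) k[T;T⁻¹] (MvPolynomial.C a) := by
              change LaurentPolynomial.C a = orbitHom k k[T;T⁻¹] (vecPt k ι v) (MvPolynomial.C a)
              rw [MvPolynomial.algHom_C]
              rfl
            rw [this]
            exact isIntegral_algebraMap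
          · have : (RingHom.id k[T;T⁻¹]) (T (((r j).toNat : ℕ) : ℤ)) =
                algebraMap (MvPolynomial ι k) k[T;T⁻¹]
                  (MvPolynomial.C (v j)⁻¹ * MvPolynomial.X j) := by
              change T (((r j).toNat : ℕ) : ℤ) = orbitHom k k[T;T⁻¹] (vecPt k ι v)
                (MvPolynomial.C (v j)⁻¹ * MvPolynomial.X j)
              rw [map_mul, MvPolynomial.algHom_C, orbitHom_X hr, ← C_eq_algebraMap, ← mul_assoc,
                ← map_mul, inv_mul_cancel₀ hvj, map_one, one_mul, hn]
            rw [this]
            exact isIntegral_algebraMap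
          · have : (RingHom.id k[T;T⁻¹]) (T (-(((-r i).toNat : ℕ) : ℤ))) =
                algebraMap (MvPolynomial ι k) k[T;T⁻¹]
                  (MvPolynomial.C (v i)⁻¹ * MvPolynomial.X i) := by
              change T (-(((-r i).toNat : ℕ) : ℤ)) = orbitHom k k[T;T⁻¹] (vecPt k ι v)
                (MvPolynomial.C (v i)⁻¹ * MvPolynomial.X i)
              rw [map_mul, MvPolynomial.algHom_C, orbitHom_X hr, ← C_eq_algebraMap, ← mul_assoc,
                ← map_mul, inv_mul_cancel₀ hvi, map_one, one_mul, hm, neg_neg]
            rw [this]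
            exact isIntegral_algebraMap
        exact fun x => this.isIntegral x
      have := (PrimeSpectrum.isClosedMap_comap_of_isIntegral φ hφ).isClosed_range
      exact this
    · -- finite stabiliser
      let I := stabIdeal k k[T;T⁻¹] (vecPt k ι v)
      have hmem : ∀ l, v l ≠ 0 → (T (r l) - 1 : k[T;T⁻¹]) ∈ I := by
        intro l hl
        have h1 : (MvPolynomial.X l - MvPolynomial.C (v l) : MvPolynomial ι k) ∈
            RingHom.ker (vecPt k ι v) := by
          rw [RingHom.mem_ker]
          simp [vecPt]
        have h2 := Ideal.mem_map_of_mem (orbitHom k k[T;T⁻¹] (vecPt k ι v)) h1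
        rw [map_sub, orbitHom_X hr, MvPolynomial.algHom_C, ← C_eq_algebraMap] at h2
        have h3 := I.mul_mem_left (LaurentPolynomial.C (v l)⁻¹) h2
        have h4 : LaurentPolynomial.C (v l)⁻¹ * (LaurentPolynomial.C (v l) * T (r l) -
            LaurentPolynomial.C (v l)) = (T (r l) - 1 : k[T;T⁻¹]) := by
          rw [mul_sub, ← mul_assoc, ← map_mul, inv_mul_cancel₀ hl, map_one, one_mul]
        rwa [h4] at h3
      have hT : ∀ l, v l ≠ 0 → Ideal.Quotient.mk I (T (r l)) = 1 := by
        intro l hl
        rw [← map_one (Ideal.Quotient.mk I), Ideal.Quotient.eq]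
        exact hmem l hl
      have hint : Algebra.IsIntegral k (k[T;T⁻¹] ⧸ I) := by
        refine isIntegral_of (Ideal.Quotient.mk I) Ideal.Quotient.mk_surjective ?_
            (n := (r j).toNat) (m := (-r i).toNat) (by omega) (by omega) ?_ ?_
        · intro a
          have : Ideal.Quotient.mk I (LaurentPolynomial.C a) =
              algebraMap k (k[T;T⁻¹] ⧸ I) a := rfl
          rw [this]
          exact isIntegral_algebraMap
        · rw [hn, hT j hvj]
          exact isIntegral_one
        · rw [hm, neg_neg, hT i hvi]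
          exact isIntegral_one
      have hft : Algebra.FiniteType k k[T;T⁻¹] := inferInstance
      have : Module.Finite k (k[T;T⁻¹] ⧸ I) := Algebra.IsIntegral.finite
      exact this

end Groth.Agent.S19423
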