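import Groth.Statements.S19426
import Groth.Agent.GIT.K689.StabDim
import Groth.Agent.NRGIT.K850.StabFin

set_option autoImplicit false
universe u
open CategoryTheory MonoidalCategory CartesianMonoidalCategory MonObj AlgebraicGeometry Topology
open GIT

namespace Groth.Agent.S19426

/-- Let k be an algebraically closed field, G an affine group scheme of finite type over k acting on a
k-scheme X locally of finite type, and for a point x of X let G_x denote its stabiliser, the group
scheme over the residue field of x obtained as the fibre of (g, t) ↦ (g · x(t), t) over (x, id).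
Then for every n the set of points x of X with dim G_x ≥ n is closed: the stabiliser dimension is an
upper semicontinuous function on X. (Stated at all points of the scheme X; the published statement
is for the closed points of a variety, and also phrases it through the orbit dimension dim G − dim
G_x, which is not restated here.) -/
theorem result
    (k : Type u) [Field k] [IsAlgClosed k]
    (G X : Over (Spec (CommRingCat.of k))) [GrpObj G] [IsAffine G.left] [LocallyOfFiniteType G.hom]
    [LocallyOfFiniteType X.hom]
    (a : AlgGrp.Action G X) (n : WithBot ℕ∞) :
    IsClosed {x : X.left | n ≤ topologicalKrullDim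
      (GLinSh.stab a (Over.homMk (X.left.fromSpecResidueField x) rfl :
        Over.mk (X.left.fromSpecResidueField x ≫ X.hom) ⟶ X))} := by
  change IsClosed {x : X.left | n ≤ K689.StabDim.sd a x}
  have key : ∀ d : ℕ, IsClosed {x : X.left | ¬ K689.StabDim.sd a x ≤ d} := fun d =>
    (K689.StabDim.isOpen_sd_le a d).isClosed_compl
  have h0 : ∀ x : X.left, 0 ≤ K689.StabDim.sd a x := by
    intro x
    have h1 : lift (1 : Over.mk (X.left.fromSpecResidueField x ≫ X.hom) ⟶ G)
        (K689.StabDim.pt x) ≫ a.act = K689.StabDim.pt x :=
      Groth.Agent.Books.BorelOrb.one_sm a _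
    let σ := (K850.StabFin.sectionsEquiv a (K689.StabDim.pt x)).symm ⟨1, h1⟩
    have hne : Nonempty (GLinSh.stab a (K689.StabDim.pt x)) := by
      obtain ⟨z⟩ : Nonempty (Over.mk (X.left.fromSpecResidueField x ≫ X.hom)).left :=
        inferInstanceAs (Nonempty (Spec (X.left.residueField x)))
      exact ⟨σ.1 z⟩
    obtain ⟨z⟩ := hne
    have hne' : Nonempty (TopologicalSpace.IrreducibleCloseds
        ↥(GLinSh.stab a (K689.StabDim.pt x))) :=
      ⟨⟨closure {z}, isIrreducible_singleton.closure, isClosed_closure⟩⟩
    exact Order.krullDim_nonneg
  have hbot : (⊥ : WithBot ℕ∞) < 0 := WithBot.bot_lt_coe _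
  induction n with
  | bot => simp
  | coe n =>
    induction n with
    | top =>
      have h1 : {x : X.left | ((⊤ : ℕ∞) : WithBot ℕ∞) ≤ K689.StabDim.sd a x} =
          ⋂ d : ℕ, {x : X.left | ¬ K689.StabDim.sd a x ≤ d} := by
        ext x
        simp only [Set.mem_ofPred_eq, Set.mem_iInter, not_le]
        constructor
        · intro h d
          exact lt_of_lt_of_le (WithBot.coe_lt_coe.2 (ENat.natCast_lt_top d)) h
        · intro h
          generalize K689.StabDim.sd a x = y at h
          induction y with
          | bot => exact absurd (h 0) (by simp)
          | coe y =>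
            rw [WithBot.coe_le_coe, top_le_iff]
            rw [ENat.eq_top_iff_forall_gt]
            intro m
            exact WithBot.coe_lt_coe.1 (h m)
      rw [h1]
      exact isClosed_iInter key
    | coe d =>
      rcases d with _ | d
      · have h1 : {x : X.left | ((((0 : ℕ) : ℕ∞)) : WithBot ℕ∞) ≤ K689.StabDim.sd a x} =
            Set.univ := by
          ext x
          simpa using h0 x
        rw [h1]
        exact isClosed_univ
      · have h1 : {x : X.left | ((((d + 1 : ℕ) : ℕ∞)) : WithBot ℕ∞) ≤ K689.StabDim.sd a x} =
            {x : X.left | ¬ K689.StabDim.sd a x ≤ d} := by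
          ext x
          simp only [Set.mem_ofPred_eq, not_le]
          have h2 := h0 x
          generalize K689.StabDim.sd a x = y at h2
          induction y with
          | bot => exact absurd h2 (by simp)
          | coe y =>
            rw [WithBot.coe_le_coe]
            change _ ↔ (((d : ℕ∞)) : WithBot ℕ∞) < _
            rw [WithBot.coe_lt_coe]
            push_cast
            exact ENat.add_one_le_iff (ENat.natCast_ne_top d)
        rw [h1]
        exact key d

end Groth.Agent.S19426
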