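import Groth.Statements.S19436
import Mathlib.Tactic
import Mathlib.LinearAlgebra.FiniteDimensional.Basic

set_option autoImplicit false
universe u
open CAlg

namespace Groth.Agent.S19436

/-- For a Noetherian local commutative algebra R over a field k, with maximal ideal M, and an ideal I of
R whose quotient R/I is finite-dimensional over k of dimension n, the power M^n lies in I. -/
theorem result (k : Type u) [Field k] (R : Type u) [CommRing R]
    [Algebra k R] [IsNoetherianRing R] [IsLocalRing R] (I : Ideal R) [Module.Finite k (R ⧸ I)] (n : ℕ)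
    (hn : Module.finrank k (R ⧸ I) = n) : IsLocalRing.maximalIdeal R ^ n ≤ I := by
  classical
  set M := IsLocalRing.maximalIdeal R with hM
  let q : R →ₐ[k] R ⧸ I := Ideal.Quotient.mkₐ k I
  -- the images of the powers of `M` in `R / I`
  let V : ℕ → Submodule k (R ⧸ I) := fun i =>
    ((M ^ i).restrictScalars k).map q.toLinearMap
  have hV : ∀ i (x : R), q x ∈ V i ↔ x ∈ M ^ i ⊔ I := by
    intro i x
    constructor
    · rintro ⟨y, hy, hyx⟩
      have h1 : x - y ∈ I := Ideal.Quotient.eq.1 hyx.symm
      have : x = y + (x - y) := by ring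
      rw [this]
      exact Submodule.add_mem_sup hy h1
    · intro hx
      obtain ⟨y, hy, z, hz, rfl⟩ := Submodule.mem_sup.1 hx
      refine ⟨y, hy, ?_⟩
      change q y = q (y + z)
      rw [map_add]
      have : q z = 0 := Ideal.Quotient.eq_zero_iff_mem.2 hz
      rw [this, add_zero]
  have hanti : Antitone V := fun i j hij => Submodule.map_mono (Ideal.pow_le_pow_right hij)
  -- if `V i = V (i+1)` then `M ^ i ≤ I`
  have hstop : ∀ i, V i = V (i + 1) → M ^ i ≤ I := by
    intro i hi
    have h1 : M ^ i ≤ I ⊔ M • (M ^ i) := by
      intro x hx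
      have h2 : q x ∈ V i := ⟨x, hx, rfl⟩
      rw [hi, hV] at h2
      rw [smul_eq_mul, ← pow_succ', sup_comm]
      exact h2
    exact Submodule.le_of_le_smul_of_le_jacobson_bot (IsNoetherian.noetherian (M ^ i))
      (IsLocalRing.maximalIdeal_le_jacobson ⊥) h1
  have hdim : ∀ i, M ^ i ≤ I ∨ Module.finrank k (V i) + i ≤ n := by
    intro i
    induction i with
    | zero =>
      right
      rw [add_zero, ← hn]
      exact Submodule.finrank_le _
    | succ i ih =>
      rcases ih with h | h
      · left; exact (Ideal.pow_le_pow_right (Nat.le_succ i)).trans h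
      · by_cases he : V i = V (i + 1)
        · left; exact (Ideal.pow_le_pow_right (Nat.le_succ i)).trans (hstop i he)
        · right
          have h3 : V (i + 1) < V i := lt_of_le_of_ne (hanti (Nat.le_succ i)) (Ne.symm he)
          have h4 := Submodule.finrank_lt_finrank_of_lt h3
          omega
  rcases hdim n with h | h
  · exact h
  · have h0 : Module.finrank k (V n) = 0 := by omega
    rw [Submodule.finrank_eq_zero] at h0
    intro x hx
    have : q x ∈ V n := ⟨x, hx, rfl⟩
    rw [h0, Submodule.mem_bot] at this
    exact Ideal.Quotient.eq_zero_iff_mem.1 this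

end Groth.Agent.S19436
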