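import Groth.Statements.S19437
import Mathlib.Tactic
import Mathlib.RingTheory.MvPowerSeries.Inverse
import Mathlib.LinearAlgebra.FiniteDimensional.Lemmas

set_option autoImplicit false
universe u
open CAlg

namespace Groth.Agent.S19437

open MvPowerSeries Finsupp

section gen
variable {k : Type u} [Field k]

local notation "PS2" => MvPowerSeries (Fin 2) k

theorem eq_single_of (s t : Fin 2) (hst : s ≠ t) (m : Fin 2 →₀ ℕ) (h : m t = 0) :
    m = single s (m s) := by
  ext i
  by_cases hi : i = s
  · subst hi; simp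
  · have : i = t := by omega
    subst this
    rw [h, single_eq_of_ne (by tauto)]

/-- the part of a power series without the variable `t` -/
noncomputable def pure (t : Fin 2) (f : PS2) : PS2 := fun m => if m t = 0 then coeff m f else 0

theorem coeff_pure (t : Fin 2) (f : PS2) (m : Fin 2 →₀ ℕ) :
    coeff m (pure t f) = if m t = 0 then coeff m f else 0 := rfl

theorem dvd_sub_pure (t : Fin 2) (f : PS2) : X t ∣ f - pure t f := by
  rw [X_dvd_iff]
  intro m hm
  rw [map_sub, coeff_pure, if_pos hm, sub_self]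

theorem pow_dvd_pure (s t : Fin 2) (hst : s ≠ t) (f : PS2) (a : ℕ)
    (h : ∀ i < a, coeff (single s i) f = 0) : X s ^ a ∣ pure t f := by
  rw [X_pow_dvd_iff]
  intro m hm
  rw [coeff_pure]
  split_ifs with h0
  · rw [eq_single_of s t hst m h0]
    exact h _ hm
  · rfl

/-- key decomposition -/
theorem mem_span_of_coeff (f : PS2) (a b : ℕ) (ha : ∀ i < a, coeff (single 0 i) f = 0)
    (hb : ∀ j < b, coeff (single 1 j) f = 0) :
    f ∈ Ideal.span ({X 0 * X 1, X 0 ^ a, X 1 ^ b} : Set PS2) := by
  have h01 : (0 : Fin 2) ≠ 1 := by decide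
  obtain ⟨g, hg⟩ := pow_dvd_pure 0 1 h01 f a ha
  -- subtract the pure `x`-part
  obtain ⟨f₁, hf₁⟩ := dvd_sub_pure 1 f
  -- `f = pure + X 1 * f₁`
  obtain ⟨f₂, hf₂⟩ := dvd_sub_pure 0 f₁
  have hpure : X 1 ^ b ∣ X 1 * pure 0 f₁ := by
    rw [X_pow_dvd_iff]
    intro m hm
    have h2 : X 1 * pure 0 f₁ = monomial (single 1 1) 1 * pure 0 f₁ := rfl
    rw [h2, coeff_monomial_mul]
    split_ifs with h3
    · rw [one_mul, coeff_pure]
      split_ifs with h4
      · have h5 : m 0 = 0 := by simpa using h4
        have h6 : m 1 ≠ 0 := by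
          have := h3 1
          simp at this
          omega
        have h7 : coeff m f = 0 := by
          rw [eq_single_of 1 0 h01.symm m h5]
          exact hb _ hm
        have h8 : coeff m (f - pure 1 f) = 0 := by
          rw [map_sub, coeff_pure, if_neg h6, h7, sub_zero]
        rw [hf₁] at h8
        have h9 : (X 1 * f₁ : PS2) = monomial (single 1 1) 1 * f₁ := rfl
        rw [h9, coeff_monomial_mul, if_pos h3, one_mul] at h8
        exact h8
      · rfl
    · rfl
  obtain ⟨h, hh⟩ := hpure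
  have key : f = f₂ * (X 0 * X 1) + g * X 0 ^ a + h * X 1 ^ b := by
    have e1 : f = pure 1 f + X 1 * f₁ := by rw [← hf₁]; ring
    have e2 : f₁ = pure 0 f₁ + X 0 * f₂ := by rw [← hf₂]; ring
    rw [e1, hg]
    conv_lhs => rw [e2, mul_add, hh]
    ring
  rw [key]
  refine Ideal.add_mem _ (Ideal.add_mem _ ?_ ?_) ?_ <;> apply Ideal.mul_mem_left <;>
    apply Ideal.subset_span <;> simp

theorem coeff_of_mem_span (f : PS2) (a b : ℕ) (ha1 : 1 ≤ a) (hb1 : 1 ≤ b)
    (hf : f ∈ Ideal.span ({X 0 * X 1, X 0 ^ a, X 1 ^ b} : Set PS2)) :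
    (∀ i < a, coeff (single 0 i) f = 0) ∧ (∀ j < b, coeff (single 1 j) f = 0) := by
  rw [Ideal.mem_span_insert] at hf
  obtain ⟨u, z, hz, rfl⟩ := hf
  rw [Ideal.mem_span_pair] at hz
  obtain ⟨v, w, rfl⟩ := hz
  have h1 : ∀ (m : Fin 2 →₀ ℕ), (m 0 = 0 ∨ m 1 = 0) → coeff m (u * (X 0 * X 1)) = 0 := by
    rintro m (h | h)
    · exact X_dvd_iff.1 (Dvd.intro_left (u * X 1) (by ring)) m h
    · exact X_dvd_iff.1 (Dvd.intro_left (u * X 0) (by ring)) m h
  have h2 : ∀ (m : Fin 2 →₀ ℕ), m 0 < a → coeff m (v * X 0 ^ a) = 0 := fun m hm =>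
    X_pow_dvd_iff.1 (Dvd.intro_left v rfl) m hm
  have h3 : ∀ (m : Fin 2 →₀ ℕ), m 1 < b → coeff m (w * X 1 ^ b) = 0 := fun m hm =>
    X_pow_dvd_iff.1 (Dvd.intro_left w rfl) m hm
  constructor
  · intro i hi
    rw [map_add, map_add, h1 _ (Or.inr (by simp)), h2 _ (by simpa using hi),
      h3 _ (by simp; omega)]
    simp
  · intro j hj
    rw [map_add, map_add, h1 _ (Or.inl (by simp)), h2 _ (by simp; omega),
      h3 _ (by simpa using hj)]
    simp

theorem lowest (s t : Fin 2) (hst : s ≠ t) (f : PS2) (N : ℕ) (h0 : coeff (single s N) f ≠ 0)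
    (h : ∀ i < N, coeff (single s i) f = 0) :
    ∃ u G : PS2, IsUnit u ∧ X s * f = X s ^ (N + 1) * u + (X s * X t) * G := by
  obtain ⟨u, hu⟩ := pow_dvd_pure s t hst f N h
  obtain ⟨G, hG⟩ := dvd_sub_pure t f
  refine ⟨u, G, ?_, ?_⟩
  · rw [isUnit_iff_constantCoeff, isUnit_iff_ne_zero]
    intro hc
    apply h0
    have h1 : coeff (single s N) (pure t f) = coeff (single s N) f := by
      rw [coeff_pure, if_pos]
      rw [single_eq_of_ne (by tauto)]
    rw [← h1, hu]
    have h2 : (X s ^ N : PS2) = monomial (single s N) 1 := by rw [X_pow_eq]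
    rw [h2, coeff_monomial_mul, if_pos le_rfl, tsub_self, one_mul]
    exact hc
  · have e1 : f = pure t f + X t * G := by rw [← hG]; ring
    rw [e1, hu]; ring

theorem exists_pow_mem (s : Fin 2) (J : Ideal PS2) [Module.Finite k (PS2 ⧸ J)] : ∃ i, (X s : PS2) ^ i ∈ J := by
  let x : PS2 ⧸ J := Ideal.Quotient.mk J (X s)
  have hint : IsIntegral k x := Algebra.IsIntegral.isIntegral x
  obtain ⟨p, hp, hpx⟩ := hint
  obtain ⟨q, hq, hq0⟩ := Polynomial.exists_eq_pow_rootMultiplicity_mul_and_not_dvd p hp.ne_zero 0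
  rw [map_zero, sub_zero] at hq hq0
  refine ⟨p.rootMultiplicity 0, ?_⟩
  have h1 : Polynomial.aeval (X s : PS2) p ∈ J := by
    rw [← Ideal.Quotient.eq_zero_iff_mem]
    have : Ideal.Quotient.mk J (Polynomial.aeval (X s : PS2) p) = Polynomial.aeval x p := by
      change Ideal.Quotient.mkₐ k J (Polynomial.aeval (X s : PS2) p) = _
      rw [← Polynomial.aeval_algHom_apply]; rfl
    rw [this]; exact hpx
  rw [hq, map_mul, map_pow, Polynomial.aeval_X] at h1
  have h2 : IsUnit (Polynomial.aeval (X s : PS2) q) := by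
    rw [isUnit_iff_constantCoeff, isUnit_iff_ne_zero]
    have h3 : constantCoeff (Polynomial.aeval (X s : PS2) q) = q.coeff 0 := by
      rw [Polynomial.aeval_def, Polynomial.hom_eval₂, constantCoeff_X]
      have h4 : (constantCoeff (R := k) (σ := Fin 2)).comp (algebraMap k PS2) = RingHom.id k := by
        ext c
        simp [MvPowerSeries.algebraMap_apply]
      rw [h4, Polynomial.eval₂_id, Polynomial.coeff_zero_eq_eval_zero]
    rw [h3]
    rwa [Polynomial.X_dvd_iff] at hq0
  exact (Ideal.mul_unit_mem_iff_mem J h2).1 h1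

theorem finrank_of_ker (J : Ideal PS2) {E : Type*} [AddCommGroup E] [Module k E] (L : PS2 →ₗ[k] E)
    (hL : Function.Surjective L) (hker : ∀ f, L f = 0 ↔ f ∈ J) :
    Module.finrank k (PS2 ⧸ J) = Module.finrank k E := by
  have h1 : J.restrictScalars k = LinearMap.ker L := by
    ext f
    exact (hker f).symm
  have e1 := (Submodule.Quotient.restrictScalarsEquiv k J).symm
  have e2 := Submodule.quotEquivOfEq _ _ h1
  have e3 := L.quotKerEquivOfSurjective hL
  exact ((e1.trans e2).trans e3).finrank_eq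

/-- a power series with prescribed coefficients on the axes -/
noncomputable def axis (u v : ℕ → k) : PS2 := fun m => if m 1 = 0 then u (m 0) else
  if m 0 = 0 then v (m 1) else 0

theorem coeff_axis_zero (u v : ℕ → k) (i : ℕ) : coeff (single 0 i) (axis u v) = u i := by
  change axis u v (single 0 i) = _
  simp [axis]

theorem coeff_axis_one (u v : ℕ → k) (i : ℕ) (hi : i ≠ 0) : coeff (single 1 i) (axis u v) = v i := by
  change axis u v (single 1 i) = _
  simp [axis, hi]

theorem low_vanish (s t : Fin 2) (hst : s ≠ t) (J : Ideal PS2) (hJ : (X s * X t : PS2) ∈ J) (a' : ℕ)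
    (hmin : ∀ i, (X s : PS2) ^ i ∈ J → a' ≤ i) (f : PS2) (hf : f ∈ J) (i : ℕ) (hi : i + 1 < a') :
    coeff (single s i) f = 0 := by
  induction i using Nat.strong_induction_on with
  | _ i ih =>
    by_contra hne
    obtain ⟨u, G, hu, hG⟩ := lowest s t hst f i hne (fun j hj => ih j hj (by omega))
    have h1 : (X s ^ (i + 1) * u : PS2) ∈ J := by
      have : (X s ^ (i + 1) * u : PS2) = X s * f - (X s * X t) * G := by rw [hG]; ring
      rw [this]
      exact J.sub_mem (J.mul_mem_left _ hf) (J.mul_mem_right _ hJ)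
    have := hmin _ ((Ideal.mul_unit_mem_iff_mem J hu).1 h1)
    omega

theorem coeff_CX_same (s : Fin 2) (c : k) (a i : ℕ) :
    coeff (single s i) (C c * X s ^ a : PS2) = if i = a then c else 0 := by
  classical
  rw [coeff_C_mul, coeff_X_pow]
  by_cases h : i = a
  · subst h; simp
  · rw [if_neg, if_neg h, mul_zero]
    rw [Finsupp.single_eq_single_iff]
    rintro (⟨-, h1⟩ | ⟨h1, h2⟩)
    · exact h h1
    · exact h (h1.trans h2.symm)

theorem coeff_CX_diff (s t : Fin 2) (hst : s ≠ t) (c : k) (a i : ℕ) (h : a = 0 → c = 0) :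
    coeff (single s i) (C c * X t ^ a : PS2) = 0 := by
  classical
  rw [coeff_C_mul, coeff_X_pow]
  by_cases ha : a = 0
  · rw [h ha, zero_mul]
  · rw [if_neg, mul_zero]
    rw [Finsupp.single_eq_single_iff]
    rintro (⟨h1, -⟩ | ⟨-, h2⟩)
    · exact hst h1
    · exact ha h2

end gen

/-- Ideals of colength n of the complete local ring of a node. Let k be a field and J an ideal of the
power series ring k[[x,y]] in two variables x, y which contains xy and whose quotient is
finite-dimensional over k of dimension n ≥ 2. Then there are integers a, b ≥ 1 such that either a +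
b = n + 1 and J is generated by xy, x^a, y^b, or a + b = n and J is generated by xy and x^a + α y^b
for some nonzero scalar α. -/
theorem result (k : Type u) [Field k]
    (J : Ideal (MvPowerSeries (Fin 2) k))
    (hxy : (MvPowerSeries.X 0 * MvPowerSeries.X 1 : MvPowerSeries (Fin 2) k) ∈ J)
    [Module.Finite k (MvPowerSeries (Fin 2) k ⧸ J)] (n : ℕ) (hn : Module.finrank k (MvPowerSeries (Fin 2) k ⧸ J) = n)
    (h2 : 2 ≤ n) :
    ∃ a b : ℕ, 1 ≤ a ∧ 1 ≤ b ∧
      ((a + b = n + 1 ∧
        J = Ideal.span {MvPowerSeries.X 0 * MvPowerSeries.X 1, MvPowerSeries.X 0 ^ a, MvPowerSeries.X 1 ^ b}) ∨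
       (a + b = n ∧ ∃ α : k, α ≠ 0 ∧
        J = Ideal.span {MvPowerSeries.X 0 * MvPowerSeries.X 1,
          MvPowerSeries.X 0 ^ a + MvPowerSeries.C α * MvPowerSeries.X 1 ^ b})) := by
  classical
  set R := MvPowerSeries (Fin 2) k with hR
  have h01 : (0 : Fin 2) ≠ 1 := by decide
  have hJtop : J ≠ ⊤ := by
    rintro rfl
    have h0 : Module.finrank k (MvPowerSeries (Fin 2) k ⧸ (⊤ : Ideal (MvPowerSeries (Fin 2) k))) = 0 :=
      Module.finrank_zero_of_subsingleton
    rw [h0] at hn
    omega
  have hconst : ∀ f ∈ J, coeff 0 f = 0 := by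
    intro f hf
    by_contra hne
    apply hJtop
    refine Ideal.eq_top_of_isUnit_mem J hf ?_
    rw [isUnit_iff_constantCoeff, isUnit_iff_ne_zero]
    exact hne
  have hyx : (X 1 * X 0 : R) ∈ J := by rw [mul_comm]; exact hxy
  obtain ⟨a, haJ, hamin⟩ : ∃ a, (X 0 : R) ^ (a + 1) ∈ J ∧ ∀ i, (X 0 : R) ^ i ∈ J → a + 1 ≤ i := by
    have hex := exists_pow_mem (k := k) 0 J
    have h1 := Nat.find_spec hex
    have h2 : Nat.find hex ≠ 0 := by
      intro h0
      rw [h0, pow_zero] at h1
      exact hJtop ((Ideal.eq_top_iff_one J).2 h1)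
    obtain ⟨a, ha⟩ := Nat.exists_eq_succ_of_ne_zero h2
    exact ⟨a, by rw [ha] at h1; exact h1, fun i hi => by
      have := Nat.find_min' hex hi
      omega⟩
  obtain ⟨b, hbJ, hbmin⟩ : ∃ a, (X 1 : R) ^ (a + 1) ∈ J ∧ ∀ i, (X 1 : R) ^ i ∈ J → a + 1 ≤ i := by
    have hex := exists_pow_mem (k := k) 1 J
    have h1 := Nat.find_spec hex
    have h2 : Nat.find hex ≠ 0 := by
      intro h0
      rw [h0, pow_zero] at h1
      exact hJtop ((Ideal.eq_top_iff_one J).2 h1)
    obtain ⟨a, ha⟩ := Nat.exists_eq_succ_of_ne_zero h2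
    exact ⟨a, by rw [ha] at h1; exact h1, fun i hi => by
      have := Nat.find_min' hex hi
      omega⟩
  have hSJ : Ideal.span ({X 0 * X 1, X 0 ^ (a + 1), X 1 ^ (b + 1)} : Set R) ≤ J := by
    rw [Ideal.span_le]
    rintro z (rfl | rfl | rfl)
    · exact hxy
    · exact haJ
    · exact hbJ
  have hlow0 : ∀ f ∈ J, ∀ i < a, coeff (single 0 i) f = 0 := fun f hf i hi =>
    low_vanish 0 1 h01 J hxy (a + 1) hamin f hf i (by omega)
  have hlow1 : ∀ f ∈ J, ∀ i < b, coeff (single 1 i) f = 0 := fun f hf i hi =>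
    low_vanish 1 0 h01.symm J hyx (b + 1) hbmin f hf i (by omega)
  have hca : ∀ f ∈ J, a = 0 → coeff (single 0 a) f = 0 := by
    rintro f hf rfl
    simpa using hconst f hf
  have hdb : ∀ f ∈ J, b = 0 → coeff (single 1 b) f = 0 := by
    rintro f hf rfl
    simpa using hconst f hf
  -- reduction modulo the monomial ideal
  have hred : ∀ f : R, (∀ i < a, coeff (single 0 i) f = 0) → (∀ i < b, coeff (single 1 i) f = 0) →
      (a = 0 → coeff (single 0 a) f = 0) → (b = 0 → coeff (single 1 b) f = 0) →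
      f - (C (coeff (single 0 a) f) * X 0 ^ a + C (coeff (single 1 b) f) * X 1 ^ b) ∈
        Ideal.span ({X 0 * X 1, X 0 ^ (a + 1), X 1 ^ (b + 1)} : Set R) := by
    intro f h0 h1 h2 h3
    apply mem_span_of_coeff
    · intro i hi
      rw [map_sub, map_add, coeff_CX_same, coeff_CX_diff 0 1 h01 _ _ _ h3]
      by_cases h : i = a
      · subst h; simp
      · rw [if_neg h, h0 i (by omega)]; simp
    · intro i hi
      rw [map_sub, map_add, coeff_CX_same, coeff_CX_diff 1 0 h01.symm _ _ _ h2]
      by_cases h : i = b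
      · subst h; simp
      · rw [if_neg h, h1 i (by omega)]; simp
  by_cases hcase : ∀ f ∈ J, coeff (single 0 a) f = 0 ∧ coeff (single 1 b) f = 0
  · -- monomial case
    have hJS : J = Ideal.span ({X 0 * X 1, X 0 ^ (a + 1), X 1 ^ (b + 1)} : Set R) := by
      refine le_antisymm (fun f hf => ?_) hSJ
      have h1 := hred f (hlow0 f hf) (hlow1 f hf) (hca f hf) (hdb f hf)
      rw [(hcase f hf).1, (hcase f hf).2] at h1
      simpa using h1
    refine ⟨a + 1, b + 1, by omega, by omega, Or.inl ⟨?_, hJS⟩⟩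
    let L : R →ₗ[k] (Fin (a + 1) → k) × (Fin b → k) :=
      LinearMap.prod (LinearMap.pi fun i => coeff (single 0 (i : ℕ)))
        (LinearMap.pi fun j => coeff (single 1 ((j : ℕ) + 1)))
    have hL1 : ∀ f i, (L f).1 i = coeff (single 0 (i : ℕ)) f := fun _ _ => rfl
    have hL2 : ∀ f j, (L f).2 j = coeff (single 1 ((j : ℕ) + 1)) f := fun _ _ => rfl
    have hLs : Function.Surjective L := by
      rintro ⟨u, v⟩
      refine ⟨axis (fun i => if h : i < a + 1 then u ⟨i, h⟩ else 0)
        (fun j => if h : j - 1 < b then v ⟨j - 1, h⟩ else 0), Prod.ext ?_ ?_⟩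
      · ext i
        rw [hL1, coeff_axis_zero, dif_pos i.2]
      · ext j
        rw [hL2, coeff_axis_one _ _ _ (by omega)]
        have : (j : ℕ) + 1 - 1 < b := by simpa using j.2
        rw [dif_pos this]
        congr 1
    have hker : ∀ f, L f = 0 ↔ f ∈ J := by
      intro f
      constructor
      · intro h0
        have h1 : ∀ i < a + 1, coeff (single 0 i) f = 0 := fun i hi => by
          rw [← hL1 f ⟨i, hi⟩, h0]; rfl
        have h2 : ∀ j < b + 1, coeff (single 1 j) f = 0 := by
          intro j hj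
          rcases Nat.eq_zero_or_pos j with rfl | hj0
          · have := h1 0 (by omega)
            simpa using this
          · obtain ⟨j', rfl⟩ := Nat.exists_eq_succ_of_ne_zero hj0.ne'
            have := hL2 f ⟨j', by omega⟩
            rw [h0] at this
            exact this.symm
        exact hSJ (mem_span_of_coeff f _ _ h1 h2)
      · intro hf
        rw [hJS] at hf
        obtain ⟨h1, h2⟩ := coeff_of_mem_span f _ _ (by omega) (by omega) hf
        refine Prod.ext ?_ ?_
        · ext i
          rw [hL1]; exact h1 _ i.2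
        · ext j
          rw [hL2]; exact h2 _ (by omega)
    have := finrank_of_ker J L hLs hker
    rw [Module.finrank_prod, Module.finrank_fintype_fun_eq_card, Module.finrank_fintype_fun_eq_card,
      Fintype.card_fin, Fintype.card_fin, hn] at this
    omega
  · -- the curvilinear case
    push Not at hcase
    obtain ⟨f₀, hf₀, hf₀'⟩ := hcase
    have hmem : ∀ f ∈ J, (C (coeff (single 0 a) f) * X 0 ^ a + C (coeff (single 1 b) f) * X 1 ^ b : R) ∈ J := by
      intro f hf
      have h1 := hSJ (hred f (hlow0 f hf) (hlow1 f hf) (hca f hf) (hdb f hf))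
      have h2 := J.sub_mem hf h1
      simpa using h2
    have hCunit : ∀ c : k, c ≠ 0 → IsUnit (C c : R) := fun c hc => (IsUnit.mk0 c hc).map _
    have hX1 : ∀ d : k, (C d * X 1 ^ b : R) ∈ J → d = 0 := by
      intro d hd
      by_contra hd0
      have := hbmin _ ((Ideal.unit_mul_mem_iff_mem J (hCunit d hd0)).1 hd)
      omega
    have hX0 : ∀ d : k, (C d * X 0 ^ a : R) ∈ J → d = 0 := by
      intro d hd
      by_contra hd0
      have := hamin _ ((Ideal.unit_mul_mem_iff_mem J (hCunit d hd0)).1 hd)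
      omega
    have hc0 : coeff (single 0 a) f₀ ≠ 0 := by
      intro h0
      have h1 := hmem f₀ hf₀
      rw [h0, map_zero, zero_mul, zero_add] at h1
      exact hf₀' h0 (hX1 _ h1)
    have hd0 : coeff (single 1 b) f₀ ≠ 0 := by
      intro h0
      have h1 := hmem f₀ hf₀
      rw [h0, map_zero, zero_mul, add_zero] at h1
      exact hc0 (hX0 _ h1)
    have ha0 : a ≠ 0 := fun h => hc0 (hca f₀ hf₀ h)
    have hb0 : b ≠ 0 := fun h => hd0 (hdb f₀ hf₀ h)
    set c₀ := coeff (single 0 a) f₀ with hc₀
    set d₀ := coeff (single 1 b) f₀ with hd₀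
    let α : k := c₀⁻¹ * d₀
    have hα : α ≠ 0 := mul_ne_zero (inv_ne_zero hc0) hd0
    let h : R := X 0 ^ a + C α * X 1 ^ b
    have hhJ : h ∈ J := by
      have h1 := J.mul_mem_left (C c₀⁻¹ : R) (hmem f₀ hf₀)
      have h2 : (C c₀⁻¹ * (C c₀ * X 0 ^ a + C d₀ * X 1 ^ b) : R) = h := by
        have h3 : (C c₀⁻¹ * C c₀ : R) = 1 := by rw [← map_mul, inv_mul_cancel₀ hc0, map_one]
        simp only [h, α, map_mul]
        linear_combination X 0 ^ a * h3
      rwa [h2] at h1
    have hrel : ∀ f ∈ J, coeff (single 1 b) f = α * coeff (single 0 a) f := by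
      intro f hf
      have h1 := J.sub_mem (hmem f hf) (J.mul_mem_left (C (coeff (single 0 a) f) : R) hhJ)
      have h2 : (C (coeff (single 0 a) f) * X 0 ^ a + C (coeff (single 1 b) f) * X 1 ^ b : R) -
          C (coeff (single 0 a) f) * h = C (coeff (single 1 b) f - α * coeff (single 0 a) f) * X 1 ^ b := by
        simp only [h, map_sub, map_mul]; ring
      rw [h2] at h1
      exact sub_eq_zero.1 (hX1 _ h1)
    -- the monomial ideal is contained in `(xy, h)`
    have hS2 : Ideal.span ({X 0 * X 1, X 0 ^ (a + 1), X 1 ^ (b + 1)} : Set R) ≤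
        Ideal.span ({X 0 * X 1, h} : Set R) := by
      have m1 : (X 0 * X 1 : R) ∈ Ideal.span ({X 0 * X 1, h} : Set R) :=
        Ideal.subset_span (by simp)
      have m2 : h ∈ Ideal.span ({X 0 * X 1, h} : Set R) := Ideal.subset_span (by simp)
      obtain ⟨a', rfl⟩ := Nat.exists_eq_succ_of_ne_zero ha0
      obtain ⟨b', rfl⟩ := Nat.exists_eq_succ_of_ne_zero hb0
      rw [Ideal.span_le]
      rintro z (rfl | rfl | rfl)
      · exact m1
      · have : (X 0 ^ (a'.succ + 1) : R) = X 0 * h - (C α * X 1 ^ b') * (X 0 * X 1) := by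
          simp only [h, Nat.succ_eq_add_one]; ring
        rw [this]
        exact Ideal.sub_mem _ (Ideal.mul_mem_left _ _ m2) (Ideal.mul_mem_left _ _ m1)
      · have h3 : (C α⁻¹ * C α : R) = 1 := by rw [← map_mul, inv_mul_cancel₀ hα, map_one]
        have : (X 1 ^ (b'.succ + 1) : R) = (C α⁻¹ * X 1) * h - (C α⁻¹ * X 0 ^ a') * (X 0 * X 1) := by
          simp only [h, Nat.succ_eq_add_one]
          linear_combination (- X 1 ^ (b' + 1 + 1)) * h3
        rw [this]
        exact Ideal.sub_mem _ (Ideal.mul_mem_left _ _ m2) (Ideal.mul_mem_left _ _ m1)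
    have hchar : ∀ f : R, (∀ i < a, coeff (single 0 i) f = 0) → (∀ i < b, coeff (single 1 i) f = 0) →
        coeff (single 1 b) f = α * coeff (single 0 a) f → f ∈ Ideal.span ({X 0 * X 1, h} : Set R) := by
      intro f h0 h1 h2
      have h3 := hS2 (hred f h0 h1 (fun h => absurd h ha0) (fun h => absurd h hb0))
      have h4 : f = (f - (C (coeff (single 0 a) f) * X 0 ^ a + C (coeff (single 1 b) f) * X 1 ^ b)) +
          C (coeff (single 0 a) f) * h := by
        rw [h2]; simp only [h, map_mul]; ring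
      rw [h4]
      exact Ideal.add_mem _ h3 (Ideal.mul_mem_left _ _ (Ideal.subset_span (by simp)))
    have hJh : J = Ideal.span ({X 0 * X 1, h} : Set R) := by
      apply le_antisymm
      · intro f hf
        exact hchar f (hlow0 f hf) (hlow1 f hf) (hrel f hf)
      · rw [Ideal.span_le]
        rintro z (rfl | rfl)
        · exact hxy
        · exact hhJ
    refine ⟨a, b, by omega, by omega, Or.inr ⟨?_, α, hα, hJh⟩⟩
    let L : R →ₗ[k] (Fin a → k) × (Fin b → k) :=
      LinearMap.prod (LinearMap.pi fun i => coeff (single 0 (i : ℕ)))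
        (LinearMap.pi fun j => coeff (single 1 ((j : ℕ) + 1)) -
          (if (j : ℕ) + 1 = b then α else 0) • coeff (single 0 a))
    have hL1 : ∀ f i, (L f).1 i = coeff (single 0 (i : ℕ)) f := fun _ _ => rfl
    have hL2 : ∀ f j, (L f).2 j = coeff (single 1 ((j : ℕ) + 1)) f -
        (if (j : ℕ) + 1 = b then α else 0) * coeff (single 0 a) f := fun _ _ => rfl
    have hLs : Function.Surjective L := by
      rintro ⟨u, v⟩
      refine ⟨axis (fun i => if h : i < a then u ⟨i, h⟩ else 0)
        (fun j => if h : j - 1 < b then v ⟨j - 1, h⟩ else 0), Prod.ext ?_ ?_⟩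
      · ext i
        rw [hL1, coeff_axis_zero, dif_pos i.2]
      · ext j
        rw [hL2, coeff_axis_one _ _ _ (by omega), coeff_axis_zero]
        have : (j : ℕ) + 1 - 1 < b := by simpa using j.2
        rw [dif_pos this, dif_neg (lt_irrefl a), mul_zero, sub_zero]
        congr 1
    have hker : ∀ f, L f = 0 ↔ f ∈ J := by
      intro f
      constructor
      · intro h0
        have h1 : ∀ i < a, coeff (single 0 i) f = 0 := fun i hi => by
          rw [← hL1 f ⟨i, hi⟩, h0]; rfl
        have h2 : ∀ j < b, coeff (single 1 j) f = 0 := by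
          intro j hj
          rcases Nat.eq_zero_or_pos j with rfl | hj0
          · have := h1 0 (by omega)
            simpa using this
          · obtain ⟨j', rfl⟩ := Nat.exists_eq_succ_of_ne_zero hj0.ne'
            have := hL2 f ⟨j', by omega⟩
            rw [h0, if_neg (by simp only; omega), zero_mul, sub_zero] at this
            exact this.symm
        have h3 : coeff (single 1 b) f = α * coeff (single 0 a) f := by
          obtain ⟨b', hb'⟩ := Nat.exists_eq_succ_of_ne_zero hb0
          have := hL2 f ⟨b', by omega⟩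
          rw [h0, if_pos (by simp only; omega)] at this
          have h4 : b' + 1 = b := by omega
          simp only [h4] at this
          exact (sub_eq_zero.1 this.symm)
        rw [hJh]
        exact hchar f h1 h2 h3
      · intro hf
        refine Prod.ext ?_ ?_
        · ext i
          rw [hL1]; exact hlow0 f hf _ i.2
        · ext j
          rw [hL2]
          split_ifs with hj
          · rw [hj, hrel f hf, sub_self]; rfl
          · rw [hlow1 f hf _ (by omega), zero_mul, sub_zero]; rfl
    have := finrank_of_ker J L hLs hker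
    rw [Module.finrank_prod, Module.finrank_fintype_fun_eq_card, Module.finrank_fintype_fun_eq_card,
      Fintype.card_fin, Fintype.card_fin, hn] at this
    omega

end Groth.Agent.S19437
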