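import Groth.Statements.S19438
import Mathlib.Tactic

set_option autoImplicit false
universe u
open CAlg

namespace Groth.Agent.S19438

/-- First assertion: let A be a Noetherian local commutative algebra over a field k with maximal ideal
M, residue field k (the map from k to A/M is onto) and embedding dimension dim M/M^2 at least 2, and
let I be a proper ideal with A/I finite-dimensional over k. If A/I is generated as a k-algebra by
one element, then some element of I does not lie in M^2; that is, the finite closed subscheme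
defined by I lies on a smooth hypersurface germ (it is curvilinear). (The published statement is for
the local ring of a smooth surface at a closed point; only a Noetherian local algebra with residue
field k and embedding dimension at least 2 is assumed here, which is what the published argument
uses.) -/
theorem result (k : Type u) [Field k]
    (A : Type u) [CommRing A] [Algebra k A] [IsNoetherianRing A] [IsLocalRing A]
    (hres : Function.Surjective (algebraMap k (IsLocalRing.ResidueField A)))
    (hemb : 2 ≤ Module.finrank (IsLocalRing.ResidueField A) (IsLocalRing.CotangentSpace A))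
    (I : Ideal A) (hI : I ≠ ⊤) [Module.Finite k (A ⧸ I)]
    (f : A ⧸ I) (hf : Algebra.adjoin k {f} = ⊤) :
    ∃ g ∈ I, g ∉ IsLocalRing.maximalIdeal A ^ 2 := by
  classical
  set M := IsLocalRing.maximalIdeal A with hM
  by_contra hcon
  push Not at hcon
  have hIM : I ≤ M ^ 2 := fun g hg => by
    exact hcon g hg
  let q : A →ₐ[k] A ⧸ I := Ideal.Quotient.mkₐ k I
  have hq : Function.Surjective q := Ideal.Quotient.mk_surjective
  obtain ⟨F, hF⟩ := hq f
  obtain ⟨c, hc⟩ := hres (IsLocalRing.residue A F)
  set T : A := F - algebraMap k A c with hT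
  have hTM : T ∈ M := by
    rw [hM, ← IsLocalRing.residue_eq_zero_iff, hT, map_sub, ← hc, sub_eq_zero]
    rfl
  have hmul : ∀ x ∈ M ^ 2, ∀ y, y * x ∈ M ^ 2 := fun x hx y => Ideal.mul_mem_left _ _ hx
  have hTT : T * T ∈ M ^ 2 := by rw [pow_two]; exact Ideal.mul_mem_mul hTM hTM
  let S : Subalgebra k A :=
    { carrier := {a | ∃ r₀ r₁ : k, a - (algebraMap k A r₀ + algebraMap k A r₁ * T) ∈ M ^ 2}
      mul_mem' := by
        rintro a b ⟨r₀, r₁, ha⟩ ⟨s₀, s₁, hb⟩
        refine ⟨r₀ * s₀, r₀ * s₁ + r₁ * s₀, ?_⟩
        have : a * b - (algebraMap k A (r₀ * s₀) + algebraMap k A (r₀ * s₁ + r₁ * s₀) * T) =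
          b * (a - (algebraMap k A r₀ + algebraMap k A r₁ * T)) +
          (algebraMap k A r₀ + algebraMap k A r₁ * T) *
            (b - (algebraMap k A s₀ + algebraMap k A s₁ * T)) +
          (algebraMap k A r₁ * algebraMap k A s₁) * (T * T) := by
          simp only [map_mul, map_add]; ring
        rw [this]
        exact add_mem (add_mem (hmul _ ha _) (hmul _ hb _)) (hmul _ hTT _)
      add_mem' := by
        rintro a b ⟨r₀, r₁, ha⟩ ⟨s₀, s₁, hb⟩
        refine ⟨r₀ + s₀, r₁ + s₁, ?_⟩
        have : a + b - (algebraMap k A (r₀ + s₀) + algebraMap k A (r₁ + s₁) * T) =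
          (a - (algebraMap k A r₀ + algebraMap k A r₁ * T)) +
            (b - (algebraMap k A s₀ + algebraMap k A s₁ * T)) := by
          simp only [map_add]; ring
        rw [this]
        exact add_mem ha hb
      algebraMap_mem' := fun r => ⟨r, 0, by simp⟩ }
  have hFS : F ∈ S := ⟨c, 1, by simp [hT]⟩
  have hSall : ∀ a : A, a ∈ S := by
    intro a
    have h1 : Algebra.adjoin k {f} ≤ S.map q := by
      rw [Algebra.adjoin_le_iff, Set.singleton_subset_iff]
      exact ⟨F, hFS, hF⟩
    rw [hf] at h1
    obtain ⟨s, hs, hsa⟩ := h1 (Algebra.mem_top : q a ∈ ⊤)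
    have h2 : a - s ∈ M ^ 2 := hIM (Ideal.Quotient.eq.1 hsa.symm)
    obtain ⟨r₀, r₁, hr⟩ := hs
    refine ⟨r₀, r₁, ?_⟩
    have h3 := add_mem h2 hr
    have h4 : a - s + (s - (algebraMap k A r₀ + algebraMap k A r₁ * T)) =
      a - (algebraMap k A r₀ + algebraMap k A r₁ * T) := by ring
    rwa [h4] at h3
  have hle : Module.finrank (IsLocalRing.ResidueField A) (IsLocalRing.CotangentSpace A) ≤ 1 := by
    refine finrank_le_one (M.toCotangent ⟨T, hTM⟩) ?_
    intro w
    obtain ⟨⟨a, ha⟩, rfl⟩ := M.toCotangent_surjective w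
    obtain ⟨r₀, r₁, hr⟩ := hSall a
    have hr0 : r₀ = 0 := by
      by_contra h0
      have h1 : algebraMap k A r₀ ∈ M := by
        have h2 : a - (algebraMap k A r₀ + algebraMap k A r₁ * T) ∈ M :=
          Ideal.pow_le_self two_ne_zero hr
        have h3 : algebraMap k A r₀ = a - algebraMap k A r₁ * T -
          (a - (algebraMap k A r₀ + algebraMap k A r₁ * T)) := by ring
        rw [h3]
        exact sub_mem (sub_mem ha (Ideal.mul_mem_left _ _ hTM)) h2
      have h4 : IsUnit (algebraMap k A r₀) := (IsUnit.mk0 r₀ h0).map _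
      exact (IsLocalRing.mem_maximalIdeal _).1 h1 h4
    subst hr0
    refine ⟨IsLocalRing.residue A (algebraMap k A r₁), ?_⟩
    have h5 : (M.toCotangent ⟨a, ha⟩) = M.toCotangent ((algebraMap k A r₁) • ⟨T, hTM⟩) := by
      rw [Ideal.toCotangent_eq]
      simpa [Algebra.smul_def] using hr
    rw [h5, map_smul]
    rfl
  omega

end Groth.Agent.S19438
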