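import Groth.Statements.S19439

set_option autoImplicit false
universe u
open CAlg

namespace Groth.Agent.S19439


/-- If the image of the polynomials of degree `≤ d` is the image of those of degree `≤ d + 1`, it is everything. -/
theorem map_eq_top_of_eq {k : Type u} [Field k] {N : ℕ} (I : Ideal (MvPolynomial (Fin N) k)) (d : ℕ)
    (h : Submodule.map (Ideal.Quotient.mkₐ k I).toLinearMap (MvPolynomial.restrictTotalDegree (Fin N) k (d + 1)) ≤
      Submodule.map (Ideal.Quotient.mkₐ k I).toLinearMap (MvPolynomial.restrictTotalDegree (Fin N) k d)) :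
    Submodule.map (Ideal.Quotient.mkₐ k I).toLinearMap (MvPolynomial.restrictTotalDegree (Fin N) k d) = ⊤ := by
  set V := Submodule.map (Ideal.Quotient.mkₐ k I).toLinearMap (MvPolynomial.restrictTotalDegree (Fin N) k d) with hV
  have key : ∀ p : MvPolynomial (Fin N) k, Ideal.Quotient.mkₐ k I p ∈ V := by
    intro p
    induction p using MvPolynomial.induction_on with
    | C a =>
      refine ⟨MvPolynomial.C a, ?_, rfl⟩
      rw [SetLike.mem_coe, MvPolynomial.mem_restrictTotalDegree, MvPolynomial.totalDegree_C]
      exact Nat.zero_le _
    | add p q hp hq =>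
      rw [map_add]
      exact V.add_mem hp hq
    | mul_X p i hp =>
      obtain ⟨q, hq, hqp⟩ := hp
      apply h
      refine ⟨q * MvPolynomial.X i, ?_, ?_⟩
      · rw [SetLike.mem_coe, MvPolynomial.mem_restrictTotalDegree] at hq ⊢
        refine (MvPolynomial.totalDegree_mul _ _).trans ?_
        exact add_le_add hq (MvPolynomial.totalDegree_X i).le
      · show Ideal.Quotient.mkₐ k I (q * MvPolynomial.X i) = _
        rw [map_mul, map_mul]
        congr 1
  rw [eq_top_iff]
  intro x _
  obtain ⟨p, rfl⟩ := Ideal.Quotient.mkₐ_surjective k I x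
  exact key p

theorem map_mono {k : Type u} [Field k] {N : ℕ} (I : Ideal (MvPolynomial (Fin N) k)) {d e : ℕ} (h : d ≤ e) :
    Submodule.map (Ideal.Quotient.mkₐ k I).toLinearMap (MvPolynomial.restrictTotalDegree (Fin N) k d) ≤
      Submodule.map (Ideal.Quotient.mkₐ k I).toLinearMap (MvPolynomial.restrictTotalDegree (Fin N) k e) := by
  apply Submodule.map_mono
  intro p hp
  rw [MvPolynomial.mem_restrictTotalDegree] at hp ⊢
  exact hp.trans h

/-- Affine form: for all n and N there is an integer d, that depends only on n and N, such that for
every algebraically closed field k and every ideal I of the polynomial ring in N variables over k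
whose quotient has finite dimension n over k, the polynomials of total degree at most d map onto the
quotient. -/
theorem result (n N : ℕ) :
    ∃ d : ℕ, ∀ (k : Type u) [Field k] [IsAlgClosed k] (I : Ideal (MvPolynomial (Fin N) k))
      [Module.Finite k (MvPolynomial (Fin N) k ⧸ I)],
      Module.finrank k (MvPolynomial (Fin N) k ⧸ I) = n →
      Submodule.map (Ideal.Quotient.mkₐ k I).toLinearMap (MvPolynomial.restrictTotalDegree (Fin N) k d) = ⊤ := by
  refine ⟨n, ?_⟩
  intro k _ _ I _ hn
  let V : ℕ → Submodule k (MvPolynomial (Fin N) k ⧸ I) := fun d =>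
    Submodule.map (Ideal.Quotient.mkₐ k I).toLinearMap (MvPolynomial.restrictTotalDegree (Fin N) k d)
  have key : ∀ d : ℕ, V d = ⊤ ∨ d ≤ Module.finrank k (V d) := by
    intro d
    induction d with
    | zero => right; exact Nat.zero_le _
    | succ d ih =>
      rcases ih with h | h
      · left
        rw [eq_top_iff, ← h]
        exact map_mono I (Nat.le_succ d)
      · by_cases hle : V (d + 1) ≤ V d
        · left
          rw [eq_top_iff, ← map_eq_top_of_eq I d hle]
          exact map_mono I (Nat.le_succ d)
        · right
          have hlt : V d < V (d + 1) := lt_of_le_not_ge (map_mono I (Nat.le_succ d)) hle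
          have := Submodule.finrank_lt_finrank_of_lt hlt
          omega
  rcases key n with h | h
  · exact h
  · show V n = ⊤
    apply Submodule.eq_top_of_finrank_eq
    rw [hn]
    exact le_antisymm (hn ▸ Submodule.finrank_le _) h

end Groth.Agent.S19439
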