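import Groth.Statements.S19442
import Groth.Agent.HilbD.K759.Fogarty
import Groth.Agent.HilbD.K684.Conn
import Groth.Agent.S1535

set_option autoImplicit false
universe u
open CategoryTheory CategoryTheory.Limits AlgebraicGeometry
open HilbD

namespace Groth.Agent.S19442

/-- Let k be an algebraically closed field and X a smooth connected quasi-projective surface over k —
the structure morphism X → Spec k is smooth and factors as a quasi-compact immersion into a
projective space over k, and X is connected of dimension 2. Let n ≥ 0 and let (H, Z) represent the
Hilbert functor of n points of X over k: Z is a closed subscheme of X ×_k H finite locally free of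
degree n over H and every such family over a k-scheme T is the pullback of Z along a unique
k-morphism T → H. Then H is connected, every local ring of H is regular, and the dimension of H is
2n. -/
theorem result (k : Type u) [Field k]
    [IsAlgClosed k] (X : Over (Spec (CommRingCat.of k))) [Smooth X.hom]
    (hqp : RelProj.IsHQuasiProjective X.hom) [ConnectedSpace X.left] (hdim : topologicalKrullDim X.left = 2)
    (n : ℕ) (H : Over (Spec (CommRingCat.of k))) (Z : HilbD.Obj X.hom n H)
    (hH : HilbD.IsUniversal X.hom n H Z) :
    ConnectedSpace H.left ∧ (∀ h : H.left, IsRegularLocalRing (H.left.presheaf.stalk h)) ∧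
      topologicalKrullDim H.left = (2 * n : ℕ) := by
  have hFA : K684.NestPush.FA X.left := by
    obtain ⟨m, i, hi, hq, hi'⟩ := hqp
    exact K684.FAProj.fa i
  have hsep : IsSeparated X.hom := by
    obtain ⟨m, i, hi, hq, hi'⟩ := hqp
    rw [← hi']
    infer_instance
  have hpos : 0 < topologicalKrullDim X.left := by rw [hdim]; norm_num
  have hconn : ConnectedSpace H.left :=
    K684.Conn.connected_of_nv X.hom hFA n (fun m _ => K684.NVPos.nv_of_pos X.hom hpos m) H Z hH
  have hlft : LocallyOfFiniteType H.hom :=
    K684.HilbLFT.lft X.hom hH (K684.Conn.exists_affine X.hom hFA n)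
  have hreg : ∀ x : X.left, IsRegularLocalRing (X.left.presheaf.stalk x) := by
    let : X.left.Over (Spec (CommRingCat.of k)) := ⟨X.hom⟩
    have : Smooth (X.left ↘ (Spec (CommRingCat.of k))) := ‹Smooth X.hom›
    exact Groth.Agent.S1535.result k X.left
  exact ⟨hconn, Groth.Agent.HilbD.K759.Fogarty.regular_dim X hFA hreg hdim n H Z hH⟩

end Groth.Agent.S19442
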