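import Groth.Statements.S19443

set_option autoImplicit false
universe u
open LinAlg

namespace Groth.Agent.S19443

/-- Algebraic form: let G be a finite group with order invertible in the field k, ρ a linear
representation of G on a k-vector space V, and ω a nondegenerate bilinear form on V invariant under
G. Then ω restricted to the fixed subspace V^G is nondegenerate (for a finite group of symplectic
automorphisms, the fixed subspace is a symplectic subspace). -/
theorem result (k : Type u) [Field k]
    (G : Type u) [Group G] [Finite G] (hG : (Nat.card G : k) ≠ 0)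
    (V : Type u) [AddCommGroup V] [Module k V] (ρ : Representation k G V)
    (ω : LinearMap.BilinForm k V) (hω : ω.Nondegenerate)
    (hinv : ∀ (g : G) (v w : V), ω (ρ g v) (ρ g w) = ω v w) :
    (ω.restrict ρ.invariants).Nondegenerate := by
  classical
  have : Fintype G := Fintype.ofFinite G
  -- averaging
  let av : V → V := fun v => ∑ g : G, ρ g v
  have hav : ∀ v, av v ∈ ρ.invariants := by
    intro v h
    simp only [av, map_sum]
    rw [← Fintype.sum_equiv (Equiv.mulLeft h) (fun g => ρ (h * g) v) (fun g => ρ g v) (fun g => rfl)]
    simp [map_mul]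
  have hcard : (Fintype.card G : k) ≠ 0 := by rwa [← Nat.card_eq_fintype_card]
  have hfix : ∀ (x : V), x ∈ ρ.invariants → ∀ g, ρ g x = x := fun x hx g => hx g
  have hl : ∀ x ∈ ρ.invariants, ∀ v, ω x (av v) = (Fintype.card G : k) * ω x v := by
    intro x hx v
    simp only [av, map_sum]
    have : ∀ g ∈ (Finset.univ : Finset G), ω x (ρ g v) = ω x v := by
      intro g _
      conv_lhs => rw [← hfix x hx g]
      exact hinv g x v
    rw [Finset.sum_congr rfl this]
    simp
  have hr : ∀ x ∈ ρ.invariants, ∀ v, ω (av v) x = (Fintype.card G : k) * ω v x := by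
    intro x hx v
    simp only [av, map_sum, LinearMap.sum_apply]
    have : ∀ g ∈ (Finset.univ : Finset G), ω (ρ g v) x = ω v x := by
      intro g _
      conv_lhs => rw [← hfix x hx g]
      exact hinv g v x
    rw [Finset.sum_congr rfl this]
    simp
  constructor
  · rintro ⟨x, hx⟩ h
    apply Subtype.ext
    apply hω.1 x
    intro v
    have h1 := h ⟨av v, hav v⟩
    change ω x (av v) = 0 at h1
    rw [hl x hx v] at h1
    exact (mul_eq_zero.mp h1).resolve_left hcard
  · rintro ⟨x, hx⟩ h
    apply Subtype.ext
    apply hω.2 x
    intro v
    have h1 := h ⟨av v, hav v⟩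
    change ω (av v) x = 0 at h1
    rw [hr x hx v] at h1
    exact (mul_eq_zero.mp h1).resolve_left hcard

end Groth.Agent.S19443
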