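import Groth.Statements.S19444
import Groth.Agent.SymTen.K937.DetChar
import Groth.Agent.SymTen.K937.Polar
-- import your own Groth.Agent.* helpers here

set_option autoImplicit false
universe u
open SymTen

namespace Groth.Agent.S19444

/-- Linearised norm: let A be a commutative ring in which n! is invertible and R a commutative
A-algebra, free of rank n as an A-module. There is a unique A-algebra homomorphism from the
symmetric tensors TS^n_A(R) to A taking r ⊗ ⋯ ⊗ r to the norm of r for every r in R. (The published
corollary is stated for any free algebra of rank n; the construction printed for it divides by n!,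
and n! invertible is assumed here.) -/
theorem result (A : Type u) [CommRing A] (R : Type u) [CommRing R]
    [Algebra A R] [Module.Free A R] [Module.Finite A R] (n : ℕ) (hn : Module.finrank A R = n)
    (hfact : IsUnit ((Nat.factorial n : ℕ) : A)) :
    ∃! φ : SymTen.TS A R n →ₐ[A] A, ∀ r : R, φ (SymTen.tpow A R n r) = Algebra.norm A r := by
  have hexists : ∃ φ : SymTen.TS A R n →ₐ[A] A, ∀ r : R, φ (SymTen.tpow A R n r) = Algebra.norm A r := by
    rcases subsingleton_or_nontrivial A with hA | hA
    · have hz : ∀ a b : A, a = b := fun a b => Subsingleton.elim a b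
      refine ⟨AlgHom.ofLinearMap 0 (hz _ _) (fun _ _ => hz _ _), fun r => hz _ _⟩
    · let b : Module.Basis (Fin n) A R := Module.finBasisOfFinrankEq A R hn
      exact ⟨K937.DetChar.chiAlg R b, fun r => by
        rw [K937.DetChar.chiAlg_tpow, Algebra.norm_apply]
        rfl⟩
  obtain ⟨φ, hφ⟩ := hexists
  refine ⟨φ, hφ, fun ψ hψ => ?_⟩
  apply AlgHom.ext
  rintro ⟨t, ht⟩
  have hspan := K937.Polar.mem_span_tpow A R n hfact ht
  have hle : Submodule.span A (Set.range fun b : R => (SymTen.tpow A R n b : PiTensorProduct A fun _ : Fin n => R)) ≤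
      Submodule.map (SymTen.TS A R n).val.toLinearMap (LinearMap.eqLocus ψ.toLinearMap φ.toLinearMap) := by
    rw [Submodule.span_le]
    rintro _ ⟨b, rfl⟩
    refine ⟨SymTen.tpow A R n b, ?_, rfl⟩
    show ψ (SymTen.tpow A R n b) = φ (SymTen.tpow A R n b)
    rw [hψ, hφ]
  obtain ⟨s, hs, hst⟩ := hle hspan
  have : s = ⟨t, ht⟩ := Subtype.ext hst
  rw [← this]
  exact hs

end Groth.Agent.S19444
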