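import Groth.Statements.S19445
import Groth.Agent.CalgB.RegQuot
import Groth.Agent.CAlg.K95.Tame

set_option autoImplicit false
universe u
open CAlg

namespace Groth.Agent.S19445


open IsLocalRing in
/-- `x - g x ∈ 𝔪 J` for `x ∈ 𝔪²`, `J` the ideal generated by the `g a - a`. -/
theorem sub_smul_mem_mul {A : Type u} [CommRing A] [IsLocalRing A] {G : Type u} [Group G] [MulSemiringAction G A]
    (g : G) {x : A} (hx : x ∈ maximalIdeal A ^ 2) :
    x - g • x ∈ maximalIdeal A * Ideal.span {x : A | ∃ (g : G) (a : A), x = g • a - a} := by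
  set J := Ideal.span {x : A | ∃ (g : G) (a : A), x = g • a - a} with hJ
  have hJm : ∀ (g : G) (a : A), a - g • a ∈ J := by
    intro g a
    rw [← neg_mem_iff, neg_sub]
    exact Ideal.subset_span ⟨g, a, rfl⟩
  rw [pow_two] at hx
  refine Submodule.mul_induction_on hx ?_ ?_
  · intro p hp q hq
    have e : p * q - g • (p * q) = p * (q - g • q) + (g • q) * (p - g • p) := by
      rw [smul_mul']; ring
    rw [e]
    refine Ideal.add_mem _ (Ideal.mul_mem_mul hp (hJm g q)) (Ideal.mul_mem_mul ?_ (hJm g p))
    simpa using K95.Tame.smul_mem_pow g 1 (a := q) (by simpa using hq)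
  · intro x y hx hy
    rw [smul_add, add_sub_add_comm]
    exact Ideal.add_mem _ hx hy

/-- Local form: let k be a field and A a regular local k-algebra with maximal ideal M and residue field
k (k maps onto A/M); let a finite group G whose order is invertible in k act on A by k-algebra
automorphisms. Then A/J is a regular local ring, where J is the ideal generated by the elements g·a
− a (J defines the fixed-point subscheme, so the fixed locus of G is smooth at the point). The
accompanying identification of its tangent space with the G-invariants of the tangent space of A is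
not restated here. -/
theorem result (k : Type u) [Field k] (A : Type u) [CommRing A]
    [Algebra k A] [IsRegularLocalRing A]
    (hres : Function.Surjective (algebraMap k (IsLocalRing.ResidueField A)))
    (G : Type u) [Group G] [Finite G] [MulSemiringAction G A] [SMulCommClass G k A]
    (hG : (Nat.card G : k) ≠ 0) :
    IsRegularLocalRing (A ⧸ Ideal.span {x : A | ∃ (g : G) (a : A), x = g • a - a}) := by
  classical
  have := Fintype.ofFinite G
  set M := IsLocalRing.maximalIdeal A with hM
  set J := Ideal.span {x : A | ∃ (g : G) (a : A), x = g • a - a} with hJ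
  have hgM : ∀ (g : G) {a : A}, a ∈ M → g • a ∈ M := by
    intro g a ha
    have := K95.Tame.smul_mem_pow g 1 (a := a) (by rw [pow_one]; exact ha)
    rwa [pow_one] at this
  let n : k := (Nat.card G : k)
  have hn : n ≠ 0 := hG
  have hJm : ∀ (g : G) (a : A), g • a - a ∈ J := fun g a => Ideal.subset_span ⟨g, a, rfl⟩
  -- the trace
  let tr : A → A := fun a => ∑ g : G, g • a
  have htr_smul : ∀ (g : G) (a : A), tr (g • a) = tr a := by
    intro g a
    show ∑ h : G, h • (g • a) = ∑ h : G, h • a
    simp_rw [← mul_smul]
    exact Fintype.sum_equiv (Equiv.mulRight g) _ _ (fun h => rfl)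
  have hsmul_tr : ∀ (g : G) (a : A), g • tr a = tr a := by
    intro g a
    show g • ∑ h : G, h • a = ∑ h : G, h • a
    rw [Finset.smul_sum]
    simp_rw [← mul_smul]
    exact Fintype.sum_equiv (Equiv.mulLeft g) _ _ (fun h => rfl)
  have htr_inv : ∀ a : A, (∀ g : G, g • a = a) → tr a = n • a := by
    intro a ha
    show ∑ g : G, g • a = n • a
    rw [Finset.sum_congr rfl (fun g _ => ha g), Finset.sum_const, Finset.card_univ, ← Nat.card_eq_fintype_card]
    rw [← Nat.cast_smul_eq_nsmul k]
  have htr_sub : ∀ a b : A, tr (a - b) = tr a - tr b := by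
    intro a b
    show ∑ g : G, g • (a - b) = _
    rw [Finset.sum_congr rfl (fun g _ => smul_sub g a b), Finset.sum_sub_distrib]
  have htr_ksmul : ∀ (c : k) (a : A), tr (c • a) = c • tr a := by
    intro c a
    show ∑ g : G, g • (c • a) = c • ∑ g : G, g • a
    rw [Finset.smul_sum]
    exact Finset.sum_congr rfl (fun g _ => smul_comm g c a)
  have hksmul : ∀ (I : Ideal A) (c : k) {a : A}, a ∈ I → c • a ∈ I := by
    intro I c a ha
    rw [Algebra.smul_def]
    exact I.mul_mem_left _ ha
  -- `n h = Σ (h - g h) + tr h`
  have hnh : ∀ h : A, tr h = 0 → h = n⁻¹ • ∑ g : G, (h - g • h) := by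
    intro h hh
    have : ∑ g : G, (h - g • h) = n • h := by
      rw [Finset.sum_sub_distrib, Finset.sum_const, Finset.card_univ, ← Nat.card_eq_fintype_card,
        ← Nat.cast_smul_eq_nsmul k]
      show n • h - tr h = _
      rw [hh, sub_zero]
    rw [this, smul_smul, inv_mul_cancel₀ hn, one_smul]
  have F1 : ∀ h : A, tr h = 0 → h ∈ J := by
    intro h hh
    rw [hnh h hh]
    refine hksmul J _ (Ideal.sum_mem _ fun g _ => ?_)
    rw [← neg_mem_iff, neg_sub]
    exact hJm g h
  have F2 : ∀ h : A, tr h = 0 → h ∈ M ^ 2 → h ∈ M * J := by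
    intro h hh hh2
    rw [hnh h hh]
    exact hksmul (M * J) _ (Ideal.sum_mem _ fun g _ => sub_smul_mem_mul g hh2)
  -- choose a basis
  let S : Set (IsLocalRing.CotangentSpace A) := {v | ∃ h : M, tr (h : A) = 0 ∧ M.toCotangent h = v}
  obtain ⟨b, hbS, hbspan, hbli⟩ := exists_linearIndependent (IsLocalRing.ResidueField A) S
  have hfin : Finite b := hbli.finite
  have := Fintype.ofFinite b
  choose f hf0 hf using fun v : b => hbS v.2
  have hreg := Groth.Agent.CalgB.RegQuot.isRegularLocalRing_quotient (P := A) (ι := b) (fun v => (f v : A))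
    (fun v => (f v).2) (by
      intro c hc v
      rw [finsum_eq_sum_of_fintype] at hc
      have h1 : M.toCotangent (∑ i, c i • f i) = 0 := by
        rw [Ideal.toCotangent_eq_zero]
        convert hc using 1
        simp
      rw [map_sum] at h1
      have h2 : ∑ i : b, (IsLocalRing.residue A (c i)) • (i : IsLocalRing.CotangentSpace A) = 0 := by
        rw [← h1]
        refine Finset.sum_congr rfl fun i _ => ?_
        rw [map_smul, hf i]
        rfl
      have h3 := (Fintype.linearIndependent_iff.1 hbli) (fun i => IsLocalRing.residue A (c i)) h2 v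
      exact (IsLocalRing.residue_eq_zero_iff _).1 h3)
  set J' := Ideal.span (Set.range fun v : b => (f v : A)) with hJ'
  have hJJ' : J = J' := by
    apply le_antisymm
    · refine Submodule.le_of_le_smul_of_le_jacobson_bot (I := M) (IsNoetherian.noetherian _)
        (by rw [IsLocalRing.jacobson_eq_maximalIdeal]; exact bot_ne_top) ?_
      -- every `h` in `𝔪` of trace zero is in `J' + 𝔪 J`
      have F5 : ∀ h : A, h ∈ M → tr h = 0 → h ∈ J' ⊔ M • J := by
        intro h hh hh0
        have hv : M.toCotangent ⟨h, hh⟩ ∈ Submodule.span (IsLocalRing.ResidueField A) (Set.range ((↑) : b → IsLocalRing.CotangentSpace A)) := by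
          rw [Subtype.range_coe, hbspan]
          exact Submodule.subset_span ⟨⟨h, hh⟩, hh0, rfl⟩
        rw [Submodule.mem_span_range_iff_exists_fun] at hv
        obtain ⟨d, hd⟩ := hv
        choose c hc using fun i => hres (d i)
        have hq : h - ∑ i, c i • (f i : A) ∈ M ^ 2 := by
          have h1 : M.toCotangent (⟨h, hh⟩ - ∑ i, (algebraMap k A (c i)) • f i) = 0 := by
            rw [map_sub, sub_eq_zero, ← hd, map_sum]
            refine Finset.sum_congr rfl fun i _ => ?_
            rw [map_smul, hf i, ← hc i]
            rfl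
          rw [Ideal.toCotangent_eq_zero] at h1
          convert h1 using 1
          simp [Algebra.smul_def]
        have hq0 : tr (h - ∑ i, c i • (f i : A)) = 0 := by
          rw [htr_sub, hh0, zero_sub, neg_eq_zero]
          show ∑ g : G, g • ∑ i, c i • (f i : A) = 0
          have : ∀ g : G, g • ∑ i, c i • (f i : A) = ∑ i, c i • (g • (f i : A)) := by
            intro g
            rw [Finset.smul_sum]
            exact Finset.sum_congr rfl (fun i _ => smul_comm g (c i) _)
          rw [Finset.sum_congr rfl (fun g _ => this g), Finset.sum_comm]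
          refine Finset.sum_eq_zero fun i _ => ?_
          rw [← Finset.smul_sum]
          show c i • tr (f i : A) = 0
          rw [hf0 i, smul_zero]
        have h2 := F2 _ hq0 hq
        rw [← sub_add_cancel h (∑ i, c i • (f i : A)), add_comm]
        refine Submodule.add_mem_sup ?_ h2
        exact Ideal.sum_mem _ fun i _ => hksmul J' _ (Ideal.subset_span ⟨i, rfl⟩)
      rw [hJ, Ideal.span_le]
      rintro _ ⟨g, a, rfl⟩
      obtain ⟨c, hc⟩ := hres (IsLocalRing.residue A a)
      let m := a - algebraMap k A c
      have hm : m ∈ M := by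
        rw [hM, ← IsLocalRing.residue_eq_zero_iff, map_sub, ← hc]
        exact sub_self _
      let m0 := m - n⁻¹ • tr m
      have htrm : tr m ∈ M := Ideal.sum_mem _ fun g _ => hgM g hm
      have hm0 : m0 ∈ M := Ideal.sub_mem _ hm (hksmul M _ htrm)
      have hm00 : tr m0 = 0 := by
        show tr (m - n⁻¹ • tr m) = 0
        rw [htr_sub, htr_ksmul, htr_inv (tr m) (fun g => hsmul_tr g m), smul_smul, inv_mul_cancel₀ hn, one_smul, sub_self]
      have e : g • a - a = g • m0 - m0 := by
        show g • a - a = g • (a - algebraMap k A c - n⁻¹ • tr m) - (a - algebraMap k A c - n⁻¹ • tr m)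
        rw [smul_sub, smul_sub, smul_algebraMap, smul_comm g n⁻¹, hsmul_tr]
        ring
      rw [SetLike.mem_coe, e]
      refine Submodule.sub_mem _ (F5 _ ?_ ?_) (F5 _ hm0 hm00)
      · exact hgM g hm0
      · rw [htr_smul, hm00]
    · rw [hJ', Ideal.span_le]
      rintro _ ⟨v, rfl⟩
      exact F1 _ (hf0 v)
  rw [hJJ']
  exact hreg.1

end Groth.Agent.S19445
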