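import Groth.Statements.S19447
import Groth.Agent.ConstAct.K915.ReflFlat
import Groth.Agent.CalgB.PowField
import Groth.Agent.S0565
import Mathlib.RingTheory.MvPowerSeries.NoZeroDivisors

set_option autoImplicit false
universe u
open ConstAct

namespace Groth.Agent.S19447

/-- Let k be an algebraically closed field, A the power series ring in n variables over k with maximal
ideal M, and G a finite group of order invertible in k acting faithfully on A by k-algebra
automorphisms, A being finite over the ring of invariants A^G. Say g is a pseudo-reflection or acts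
trivially on the cotangent space when A modulo M^2 and the elements g·a − a has dimension at least n
over k. If G is generated by such elements, then A is flat over A^G and A^G is a regular local ring:
generation by pseudo-reflections implies the other two conditions of the published criterion (only
this sufficiency half is stated; the converse implication is not part of this statement). -/
theorem result (k : Type u) [Field k]
    [IsAlgClosed k] (n : ℕ) (G : Type u) [Group G] [Finite G] [MulSemiringAction G (MvPowerSeries (Fin n) k)]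
    [SMulCommClass G k (MvPowerSeries (Fin n) k)] [FaithfulSMul G (MvPowerSeries (Fin n) k)]
    (hG : (Nat.card G : k) ≠ 0)
    [Module.Finite (ConstAct.inv k (MvPowerSeries (Fin n) k) G) (MvPowerSeries (Fin n) k)]
    (hgen : Subgroup.closure {g : G | n ≤ Module.finrank k (MvPowerSeries (Fin n) k ⧸
        (Ideal.span {x : MvPowerSeries (Fin n) k | ∃ a, x = g • a - a} ⊔
          IsLocalRing.maximalIdeal (MvPowerSeries (Fin n) k) ^ 2))} = ⊤) :
    Module.Flat (ConstAct.inv k (MvPowerSeries (Fin n) k) G) (MvPowerSeries (Fin n) k) ∧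
      IsRegularLocalRing (ConstAct.inv k (MvPowerSeries (Fin n) k) G) := by
  classical
  let _ : Fintype G := Fintype.ofFinite G
  have hG' : (Fintype.card G : k) ≠ 0 := by rwa [← Nat.card_eq_fintype_card]
  -- the residue field is `k`
  have hres : ∀ a : MvPowerSeries (Fin n) k, ∃ c : k, a - algebraMap k (MvPowerSeries (Fin n) k) c ∈
      IsLocalRing.maximalIdeal (MvPowerSeries (Fin n) k) := by
    intro a
    refine ⟨MvPowerSeries.constantCoeff a, ?_⟩
    rw [IsLocalRing.mem_maximalIdeal, mem_nonunits_iff, MvPowerSeries.isUnit_iff_constantCoeff,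
      isUnit_iff_ne_zero, not_not, map_sub]
    have : algebraMap k (MvPowerSeries (Fin n) k) (MvPowerSeries.constantCoeff a) =
      MvPowerSeries.C (MvPowerSeries.constantCoeff a) := rfl
    rw [this, MvPowerSeries.constantCoeff_C, sub_self]
  set M := IsLocalRing.maximalIdeal (MvPowerSeries (Fin n) k) with hM
  -- the quotient by the square of the maximal ideal
  let v : Option (Fin n) → MvPowerSeries (Fin n) k ⧸ M ^ 2 := fun o =>
    Ideal.Quotient.mk (M ^ 2) (o.elim 1 fun i => MvPowerSeries.X i)
  have hspan : Submodule.span k (Set.range v) = ⊤ := by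
    rw [eq_top_iff]
    rintro q -
    obtain ⟨a, rfl⟩ := Ideal.Quotient.mk_surjective q
    -- first the elements of `M`
    have hMm : ∀ a ∈ M, Ideal.Quotient.mk (M ^ 2) a ∈ Submodule.span k (Set.range v) := by
      intro a ha
      rw [hM, Groth.Agent.CalgB.PowField.maximalIdeal_eq] at ha
      refine Submodule.span_induction (p := fun a _ => Ideal.Quotient.mk (M ^ 2) a ∈ Submodule.span k (Set.range v))
        ?_ ?_ ?_ ?_ ha
      · rintro _ ⟨i, rfl⟩
        exact Submodule.subset_span ⟨some i, rfl⟩
      · rw [map_zero]; exact Submodule.zero_mem _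
      · intro x y _ _ hx hy
        rw [map_add]; exact Submodule.add_mem _ hx hy
      · intro r x hx hx'
        have hxM : x ∈ M := by
          rw [hM, Groth.Agent.CalgB.PowField.maximalIdeal_eq]; exact hx
        obtain ⟨c, hc⟩ := hres r
        have h1 : Ideal.Quotient.mk (M ^ 2) (r • x) = c • Ideal.Quotient.mk (M ^ 2) x := by
          have h2 : c • Ideal.Quotient.mk (M ^ 2) x = Ideal.Quotient.mk (M ^ 2) (c • x) := rfl
          rw [h2, Ideal.Quotient.mk_eq_mk_iff_sub_mem, smul_eq_mul, Algebra.smul_def, ← sub_mul, pow_two]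
          exact Ideal.mul_mem_mul hc hxM
        rw [h1]
        exact Submodule.smul_mem _ _ hx'
    obtain ⟨c, hc⟩ := hres a
    have h1 : Ideal.Quotient.mk (M ^ 2) a = Ideal.Quotient.mk (M ^ 2) (a - algebraMap k _ c) +
        c • v none := by
      have h2 : c • v none = Ideal.Quotient.mk (M ^ 2) (c • 1) := rfl
      rw [h2, ← map_add]
      congr 1
      rw [Algebra.smul_def, mul_one]; ring
    rw [h1]
    exact Submodule.add_mem _ (hMm _ hc) (Submodule.smul_mem _ _ (Submodule.subset_span ⟨none, rfl⟩))
  have hfin : Module.Finite k (MvPowerSeries (Fin n) k ⧸ M ^ 2) :=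
    Module.Finite.of_fg_top ⟨(Set.finite_range v).toFinset, by rw [Set.Finite.coe_toFinset]; exact hspan⟩
  have hrank : Module.finrank k (MvPowerSeries (Fin n) k ⧸ M ^ 2) ≤ n + 1 := by
    have h1 : Module.finrank k (MvPowerSeries (Fin n) k ⧸ M ^ 2) =
        (Set.range v).finrank k := by
      rw [Set.finrank, hspan, finrank_top]
    rw [h1]
    refine (finrank_range_le_card v).trans ?_
    simp
  -- the pseudo-reflections
  have hrefl : ∀ g ∈ {g : G | n ≤ Module.finrank k (MvPowerSeries (Fin n) k ⧸
        (Ideal.span {x : MvPowerSeries (Fin n) k | ∃ a, x = g • a - a} ⊔ M ^ 2))},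
      ∃ x ∈ M, ∃ Δ : MvPowerSeries (Fin n) k →ₗ[ConstAct.inv k (MvPowerSeries (Fin n) k) G]
        MvPowerSeries (Fin n) k, ∀ a, g • a - a = x * Δ a := by
    intro g hg
    have hN : 0 < orderOf g := orderOf_pos g
    have hNk : (orderOf g : k) ≠ 0 := by
      intro h0
      obtain ⟨m, hm⟩ := orderOf_dvd_card (x := g)
      apply hG'
      rw [hm, Nat.cast_mul, h0, zero_mul]
    obtain ⟨x, hx, hxg⟩ := K915.Reflection.exists_span hres g hN hNk (pow_orderOf_eq_one g) (by
      intro a b hab
      exact K915.Reflection.exists_smul_sub_mem _ (M ^ 2) n hrank hg (g • a - a) (g • b - b)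
        (Ideal.subset_span ⟨a, rfl⟩) (Ideal.subset_span ⟨b, rfl⟩) hab)
    have hdom : IsDomain (MvPowerSeries (Fin n) k) := NoZeroDivisors.to_isDomain _
    obtain ⟨Δ, hΔ⟩ := K915.ReflFlat.exists_delta (k := k) g x hxg
    exact ⟨x, hx, Δ, hΔ⟩
  have hnoeth : IsNoetherianRing (ConstAct.inv k (MvPowerSeries (Fin n) k) G) :=
    K915.ReflFlat.isNoetherianRing_inv hG'
  have hloc : IsLocalRing (ConstAct.inv k (MvPowerSeries (Fin n) k) G) := K915.ReflFlat.isLocalRing_inv
  have hinj := K915.ReflFlat.rTensor_injective hG'
    (IsLocalRing.maximalIdeal (ConstAct.inv k (MvPowerSeries (Fin n) k) G)) (IsNoetherian.noetherian _) _ hgen hrefl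
  have hfp : Module.FinitePresentation (ConstAct.inv k (MvPowerSeries (Fin n) k) G) (MvPowerSeries (Fin n) k) :=
    Module.finitePresentation_of_finite _ _
  have hfree : Module.Free (ConstAct.inv k (MvPowerSeries (Fin n) k) G) (MvPowerSeries (Fin n) k) :=
    Module.free_of_maximalIdeal_rTensor_injective ((LinearMap.lTensor_inj_iff_rTensor_inj _ _).mp hinj)
  have hflat : Module.Flat (ConstAct.inv k (MvPowerSeries (Fin n) k) G) (MvPowerSeries (Fin n) k) := inferInstance
  refine ⟨hflat, ?_⟩
  exact Groth.Agent.S0565.result (ConstAct.inv k (MvPowerSeries (Fin n) k) G) (MvPowerSeries (Fin n) k)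

end Groth.Agent.S19447
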