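import Groth.Statements.S19448
import Groth.Agent.CAlg.K95.Tame

set_option autoImplicit false
universe u
open CAlg

namespace Groth.Agent.S19448


/-- Let k be a field, A a Noetherian local k-algebra with maximal ideal M and residue field k, and G a
finite group with |G| ≠ 0 in k acting on A by k-algebra automorphisms. An element of G which acts
trivially on M/M^2 acts trivially on A; in other words the stabilizer acts faithfully on the
cotangent space whenever it acts faithfully on the local ring. -/
theorem result (k : Type u) [Field k] (A : Type u) [CommRing A]
    [Algebra k A] [IsLocalRing A] [IsNoetherianRing A]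
    (hres : Function.Surjective (algebraMap k (IsLocalRing.ResidueField A)))
    (G : Type u) [Group G] [Finite G] [MulSemiringAction G A] [SMulCommClass G k A]
    (hG : (Nat.card G : k) ≠ 0) (g : G)
    (hg : ∀ a ∈ IsLocalRing.maximalIdeal A, g • a - a ∈ IsLocalRing.maximalIdeal A ^ 2) (a : A) :
    g • a = a := by
  have hcard : IsUnit ((Nat.card G : ℕ) : A) := by
    have := (isUnit_iff_ne_zero.2 hG).map (algebraMap k A)
    rwa [map_natCast] at this
  refine K95.Tame.eq_self_of_tame g hcard ?_ hg a
  intro b
  obtain ⟨c, hc⟩ := hres (IsLocalRing.residue A b)
  have hm : b - algebraMap k A c ∈ IsLocalRing.maximalIdeal A := by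
    rw [← IsLocalRing.residue_eq_zero_iff, map_sub, ← hc]
    exact sub_self _
  have h1 := hg _ hm
  rw [smul_sub, smul_algebraMap, sub_sub_sub_cancel_right] at h1
  exact Ideal.pow_le_self two_ne_zero h1

end Groth.Agent.S19448
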