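import Groth.Statements.S19451
import Groth.Agent.Resolve.K377.CrepGenus
import Groth.Agent.Resolve.K377.CanDeg
import Groth.Agent.VarietyA.CurveFin

set_option autoImplicit false
universe u
open CategoryTheory CategoryTheory.Limits AlgebraicGeometry
open Resolve

namespace Groth.Agent.S19451

/-- Its proof: let k be an algebraically closed field, Y → Spec k smooth and separated with Y of
dimension 2, W a canonical module of Y (a second exterior power of the sheaf of differentials), e :
E → Y a closed immersion with E integral of dimension one and proper over k, and L an O_Y-module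
with L ⊗ I_E ≅ O_Y (L = O_Y(E)). If the restriction of W to E is isomorphic to O_E and the
self-intersection deg_E(L|_E) is negative, then the arithmetic genus dim H^1(E, O_E) is 0 and
deg_E(L|_E) = -2. (So an exceptional curve of a crepant resolution is never a (-1)-curve: crepant
resolutions are minimal.) -/
theorem result (k : Type u) [Field k] [IsAlgClosed k]
    (Y : Scheme.{u}) (f : Y ⟶ Spec (CommRingCat.of k)) [Smooth f] [IsSeparated f] (hdim : topologicalKrullDim Y = 2)
    (W : Y.Modules) (hW : ExtPow.IsExtPow 2 (Omega.sheaf f) W)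
    (E : Scheme.{u}) (e : E ⟶ Y) [IsClosedImmersion e] [IsIntegral E] (hE : topologicalKrullDim E = 1)
    [IsProper (e ≫ f)]
    (L : Y.Modules) (hL : ClSub.IsInverseOf L (ClSub.idealMod e.ker))
    (hcrep : Nonempty ((Scheme.Modules.pullback e).obj W ≅ Coh.structureModule E))
    (hneg : @Curv2.deg k _ E ⟨e ≫ f⟩ ((Scheme.Modules.pullback e).obj L) 1 < 0) :
    @Curv2.genus k _ E ⟨e ≫ f⟩ = 0 ∧ @Curv2.deg k _ E ⟨e ≫ f⟩ ((Scheme.Modules.pullback e).obj L) 1 = -2 := by
  let _ : E.Over (Spec (CommRingCat.of k)) := ⟨e ≫ f⟩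
  have hp : IsProper (E ↘ (Spec (CommRingCat.of k))) := ‹IsProper (e ≫ f)›
  have hcan : Canon.IsCanonical (E ↘ (Spec (CommRingCat.of k))) ((Scheme.Modules.pullback e).obj L) :=
    K377.CrepGenus.isCanonical f hW e hL hcrep
  have h1 := K377.CanDeg.deg_canonical k E hE hcan
  have h2 := Groth.Agent.CurvesC.CurveCoh.euler_eq k E hE (Coh.structureModule E)
  have h3 : Module.finrank k (Coh.HH E (Coh.structureModule E) 0) = 1 :=
    Groth.Agent.VarietyA.CurveFin.finrank_h0_structure k E
  have h4 : (Curv2.genus k E : ℤ) = Module.finrank k (Coh.HH E (Coh.structureModule E) 1) := rfl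
  change Curv2.deg k E ((Scheme.Modules.pullback e).obj L) 1 < 0 at hneg
  change Curv2.genus k E = 0 ∧ Curv2.deg k E ((Scheme.Modules.pullback e).obj L) 1 = -2
  rw [h3] at h2
  rw [← h4] at h2
  rw [h2] at h1
  push_cast at h1
  have h5 : (0 : ℤ) ≤ (Curv2.genus k E : ℤ) := Int.natCast_nonneg _
  constructor
  · omega
  · omega

end Groth.Agent.S19451
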