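import Groth.Statements.S19452
import Groth.Agent.HilbD.K684.DualFlat

set_option autoImplicit false
universe u
attribute [local instance] W4c6puncthilbintro.dualAlgebra
open HilbD

namespace Groth.Agent.S19452

/-- Let A be a commutative ring, R a commutative A-algebra free as an A-module, I an ideal of R with R/I
flat over A, and view the dual numbers R[ε] as an algebra over A[ε] (ε ↦ ε). For φ : I → R/I linear
over R, let J_φ be the ideal of elements a + bε of R[ε] with a ∈ I and b ≡ φ(a) modulo I. Then each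
R[ε]/J_φ is flat over A[ε] and J_φ reduces to I modulo ε; the assignment φ ↦ J_φ is injective; and
every ideal J of R[ε] with R[ε]/J flat over A[ε] which reduces to I modulo ε equals some J_φ. Thus
the first-order liftings of I correspond one-to-one to Hom_R(I, R/I) (the tangent space of the
Hilbert scheme at I). -/
theorem result (A : Type u) [CommRing A] (R : Type u) [CommRing R]
    [Algebra A R] [Module.Free A R] (I : Ideal R) [Module.Flat A (R ⧸ I)] :
    (∀ φ : I →ₗ[R] R ⧸ I,
        Module.Flat (DualNumber A) (DualNumber R ⧸ W4c6puncthilbintro.liftIdeal I φ) ∧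
          Ideal.map (TrivSqZeroExt.fstHom A R R) (W4c6puncthilbintro.liftIdeal I φ) = I) ∧
      Function.Injective (W4c6puncthilbintro.liftIdeal I) ∧
      ∀ J : Ideal (DualNumber R), Module.Flat (DualNumber A) (DualNumber R ⧸ J) →
        Ideal.map (TrivSqZeroExt.fstHom A R R) J = I →
          ∃ φ : I →ₗ[R] R ⧸ I, J = W4c6puncthilbintro.liftIdeal I φ := by
  classical
  have hmap : ∀ φ : I →ₗ[R] R ⧸ I,
      Ideal.map (TrivSqZeroExt.fstHom A R R) (W4c6puncthilbintro.liftIdeal I φ) = I := by
    intro φ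
    ext a
    rw [K684.DualFlat.mem_map_fst_iff]
    constructor
    · rintro ⟨x, ⟨hx, _⟩, rfl⟩
      exact hx
    · intro ha
      obtain ⟨b, hb⟩ := Ideal.Quotient.mk_surjective (φ ⟨a, ha⟩)
      refine ⟨((a, b) : R × R), ⟨ha, ?_⟩, rfl⟩
      exact hb
  refine ⟨fun φ => ⟨?_, hmap φ⟩, ?_, ?_⟩
  · refine K684.DualFlat.flat_of_ideal I _ (hmap φ) ?_
    rintro x ⟨hx, hx'⟩
    have h0 : (⟨(DualNumber.eps * x : DualNumber R).fst, hx⟩ : I) = 0 := by
      apply Subtype.ext
      simp
    rw [h0, map_zero, Ideal.Quotient.eq_zero_iff_mem] at hx'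
    rw [DualNumber.snd_mul] at hx'
    simpa using hx'
  · intro φ ψ h
    apply LinearMap.ext
    rintro ⟨a, ha⟩
    obtain ⟨b, hb⟩ := Ideal.Quotient.mk_surjective (φ ⟨a, ha⟩)
    have h1 : ((a, b) : R × R) ∈ W4c6puncthilbintro.liftIdeal I φ := ⟨ha, hb⟩
    rw [h] at h1
    obtain ⟨_, h2⟩ := h1
    exact hb.symm.trans h2
  · intro J hJ hJI
    have hmem : ∀ a : R, a ∈ I ↔ ∃ x ∈ J, x.fst = a := by
      intro a
      rw [← hJI]
      exact K684.DualFlat.mem_map_fst_iff (A := A) J a
    have hkey : ∀ x : DualNumber R, DualNumber.eps * x ∈ J → x.fst ∈ I :=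
      fun x hx => K684.DualFlat.fst_mem_of_flat (A := A) I J hJI x hx
    have hsub : ∀ x ∈ J, x.fst = 0 → x.snd ∈ I := by
      intro x hx h0
      obtain ⟨c, hc⟩ := DualNumber.fst_eq_zero_iff_eps_dvd.mp h0
      have h1 := hkey c (hc ▸ hx)
      rw [hc, DualNumber.snd_mul]
      simpa using h1
    have hchoose : ∀ a : I, ∃ x ∈ J, x.fst = (a : R) := fun a => (hmem a).mp a.2
    choose x hxJ hx1 using hchoose
    have huniq : ∀ (a : I) (y : DualNumber R), y ∈ J → y.fst = (a : R) →
        Ideal.Quotient.mk I y.snd = Ideal.Quotient.mk I (x a).snd := by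
      intro a y hy hya
      rw [Ideal.Quotient.eq]
      have := hsub (y - x a) (J.sub_mem hy (hxJ a)) (by rw [TrivSqZeroExt.fst_sub, hya, hx1, sub_self])
      rwa [TrivSqZeroExt.snd_sub] at this
    let φ : I →ₗ[R] R ⧸ I :=
      { toFun := fun a => Ideal.Quotient.mk I (x a).snd
        map_add' := by
          intro a b
          have := huniq (a + b) (x a + x b) (J.add_mem (hxJ a) (hxJ b))
            (by rw [TrivSqZeroExt.fst_add, hx1, hx1]; rfl)
          rw [← this, TrivSqZeroExt.snd_add, map_add]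
        map_smul' := by
          intro r a
          have := huniq (r • a) (TrivSqZeroExt.inl r * x a) (J.mul_mem_left _ (hxJ a))
            (by rw [TrivSqZeroExt.fst_mul, hx1]; rfl)
          rw [← this, DualNumber.snd_mul]
          simp only [TrivSqZeroExt.fst_inl, TrivSqZeroExt.snd_inl, zero_mul, add_zero]
          rfl }
    refine ⟨φ, ?_⟩
    ext y
    constructor
    · intro hy
      exact ⟨(hmem _).mpr ⟨y, hy, rfl⟩, huniq ⟨y.fst, (hmem _).mpr ⟨y, hy, rfl⟩⟩ y hy rfl⟩
    · rintro ⟨h1, h2⟩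
      have h3 : Ideal.Quotient.mk I y.snd = Ideal.Quotient.mk I (x ⟨y.fst, h1⟩).snd := h2
      rw [Ideal.Quotient.eq] at h3
      obtain ⟨z, hz, hz1⟩ := (hmem _).mp h3
      have h4 : y = x ⟨y.fst, h1⟩ + DualNumber.eps * z := by
        apply TrivSqZeroExt.ext
        · rw [TrivSqZeroExt.fst_add, hx1]
          simp
        · rw [TrivSqZeroExt.snd_add, DualNumber.snd_mul, hz1]
          simp
      rw [h4]
      exact J.add_mem (hxJ _) (J.mul_mem_left _ hz)

end Groth.Agent.S19452
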