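import Groth.Statements.S19453
import Groth.Agent.Models.H62.ContrAlg
import Mathlib.RingTheory.HopkinsLevitzki
import Mathlib.RingTheory.AdjoinRoot
import Mathlib.RingTheory.LocalRing.RingHom.Basic

set_option autoImplicit false
universe u
open CAlg

namespace Groth.Agent.S19453


open IsLocalRing Polynomial in
/-- A finite local algebra with residue field `k` and principal maximal ideal is `k[x]/(xⁿ)`. -/
theorem nonempty_algEquiv_of_principal (k : Type u) [Field k] (B : Type u) [CommRing B] [Algebra k B] [IsLocalRing B]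
    [Module.Finite k B] (hres : Function.Surjective (algebraMap k (ResidueField B))) (y : B)
    (hy : maximalIdeal B = Ideal.span {y}) :
    Nonempty (B ≃ₐ[k] (Polynomial k ⧸ Ideal.span {(Polynomial.X : Polynomial k) ^ (Module.finrank k B)})) := by
  have hart : IsArtinianRing B := IsArtinianRing.of_finite k B
  have hnil : IsNilpotent (maximalIdeal B) := by
    rw [← IsLocalRing.jacobson_eq_maximalIdeal ⊥ bot_ne_top]
    exact IsArtinianRing.isNilpotent_jacobson_bot
  obtain ⟨m, hm⟩ := hnil
  have hym : y ^ m = 0 := by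
    have : y ^ m ∈ maximalIdeal B ^ m := Ideal.pow_mem_pow (by rw [hy]; exact Ideal.mem_span_singleton_self y) m
    rw [hm] at this
    simpa using this
  let φ : k[X] →ₐ[k] B := Polynomial.aeval y
  have hstep : ∀ b : B, ∃ (c : k) (b' : B), b = algebraMap k B c + y * b' := by
    intro b
    obtain ⟨c, hc⟩ := hres (residue B b)
    have h1 : b - algebraMap k B c ∈ maximalIdeal B := by
      rw [← residue_eq_zero_iff, map_sub, ← hc]
      exact sub_self _
    rw [hy] at h1
    obtain ⟨b', hb'⟩ := Ideal.mem_span_singleton'.1 h1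
    exact ⟨c, b', by rw [mul_comm y, hb']; ring⟩
  have hsurj : Function.Surjective φ := by
    have key : ∀ (j : ℕ) (b : B), ∃ (p : k[X]) (b' : B), b = φ p + y ^ j * b' := by
      intro j
      induction j with
      | zero => intro b; exact ⟨0, b, by simp⟩
      | succ j ih =>
        intro b
        obtain ⟨p, b', hb⟩ := ih b
        obtain ⟨c, b'', hb'⟩ := hstep b'
        refine ⟨p + C c * X ^ j, b'', ?_⟩
        rw [map_add, map_mul, map_pow]
        show b = φ p + aeval y (C c) * (aeval y X) ^ j + _
        rw [aeval_C, aeval_X]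
        conv_lhs => rw [hb, hb']
        ring
    intro b
    obtain ⟨p, b', hb⟩ := key m b
    exact ⟨p, by rw [hb, hym, zero_mul, add_zero]⟩
  have hXm : (X : k[X]) ^ m ∈ RingHom.ker φ := by
    rw [RingHom.mem_ker, map_pow]
    show (aeval y X) ^ m = 0
    rw [aeval_X, hym]
  obtain ⟨f, hf⟩ := (IsPrincipalIdealRing.principal (RingHom.ker φ)).principal
  have hf' : RingHom.ker φ = Ideal.span {f} := hf
  rw [hf', Ideal.mem_span_singleton] at hXm
  obtain ⟨i, -, hi⟩ := (dvd_prime_pow Polynomial.prime_X m).1 hXm
  have hker : RingHom.ker φ = Ideal.span {(X : k[X]) ^ i} := by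
    rw [hf']
    exact Ideal.span_singleton_eq_span_singleton.2 hi
  let e : (k[X] ⧸ RingHom.ker φ) ≃ₐ[k] B := Ideal.quotientKerAlgEquivOfSurjective hsurj
  let e' : (k[X] ⧸ Ideal.span {(X : k[X]) ^ i}) ≃ₐ[k] B := (Ideal.quotientEquivAlgOfEq k hker.symm).trans e
  have hrank : Module.finrank k B = i := by
    rw [← e'.toLinearEquiv.finrank_eq, finrank_quotient_span_eq_natDegree, natDegree_X_pow]
  rw [hrank]
  exact ⟨e'.symm⟩

/-- Converse direction: let k be a field, A a regular local k-algebra of Krull dimension 2 with maximal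
ideal M and residue field k, and I an ideal with A/I of finite dimension n ≥ 1 over k. If some
element of I does not lie in M^2, then A/I is isomorphic as a k-algebra to k[x]/(x^n): a cluster
lying on a smooth curve germ of a smooth surface is curvilinear, with coordinate ring generated by
one element. -/
theorem result (k : Type u) [Field k]
    (A : Type u) [CommRing A] [Algebra k A] [IsRegularLocalRing A] (hdim : ringKrullDim A = 2)
    (hres : Function.Surjective (algebraMap k (IsLocalRing.ResidueField A)))
    (I : Ideal A) [Module.Finite k (A ⧸ I)] (n : ℕ) (hn : Module.finrank k (A ⧸ I) = n) (h1 : 1 ≤ n)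
    (g : A) (hgI : g ∈ I) (hg : g ∉ IsLocalRing.maximalIdeal A ^ 2) :
    Nonempty ((A ⧸ I) ≃ₐ[k] (Polynomial k ⧸ Ideal.span {(Polynomial.X : Polynomial k) ^ n})) := by
  have hI : I ≠ ⊤ := by
    rintro rfl
    have : Subsingleton (A ⧸ (⊤ : Ideal A)) := Ideal.Quotient.subsingleton_iff.2 rfl
    rw [Module.finrank_zero_of_subsingleton] at hn
    omega
  have hgM : g ∈ IsLocalRing.maximalIdeal A := IsLocalRing.le_maximalIdeal hI hgI
  obtain ⟨h2, h3⟩ := Groth.Agent.Models.H62.ContrAlg.quotient_regular hdim g hgM hg
  have : Nontrivial (A ⧸ I) := Ideal.Quotient.nontrivial_iff.2 hI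
  have : IsLocalRing (A ⧸ I) := IsLocalRing.of_surjective' (Ideal.Quotient.mk I) Ideal.Quotient.mk_surjective
  have hspan : (IsLocalRing.maximalIdeal (A ⧸ Ideal.span {g})).spanFinrank = 1 := by
    have := (isRegularLocalRing_iff _).1 h2
    rw [h3] at this
    exact_mod_cast this
  obtain ⟨x, hx⟩ := ((Submodule.spanFinrank_eq_one_iff _).1 hspan).1.principal
  let π : A ⧸ Ideal.span {g} →+* A ⧸ I := Ideal.Quotient.factor ((Ideal.span_singleton_le_iff_mem _).2 hgI)
  have hπ : Function.Surjective π := Ideal.Quotient.factor_surjective _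
  have hmax : IsLocalRing.maximalIdeal (A ⧸ I) = Ideal.span {π x} := by
    rw [← IsLocalRing.map_maximalIdeal_of_surjective π hπ, hx]
    show Ideal.map π (Ideal.span {x}) = _
    rw [Ideal.map_span, Set.image_singleton]
  have hres' : Function.Surjective (algebraMap k (IsLocalRing.ResidueField (A ⧸ I))) := by
    intro z
    obtain ⟨b, rfl⟩ := IsLocalRing.residue_surjective z
    obtain ⟨a, rfl⟩ := Ideal.Quotient.mk_surjective b
    obtain ⟨c, hc⟩ := hres (IsLocalRing.residue A a)
    refine ⟨c, ?_⟩
    have h1 : a - algebraMap k A c ∈ IsLocalRing.maximalIdeal A := by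
      rw [← IsLocalRing.residue_eq_zero_iff, map_sub, ← hc]
      exact sub_self _
    have h4 := Ideal.mem_map_of_mem (Ideal.Quotient.mk I) h1
    rw [IsLocalRing.map_maximalIdeal_of_surjective _ Ideal.Quotient.mk_surjective, ← IsLocalRing.residue_eq_zero_iff,
      map_sub, map_sub, sub_eq_zero] at h4
    rw [h4]
    rfl
  have := nonempty_algEquiv_of_principal k (A ⧸ I) hres' (π x) hmax
  rwa [hn] at this

end Groth.Agent.S19453
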