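import Groth.Statements.S19454
import Groth.Agent.Resolve.K377.RatReflex
import Groth.Agent.S9829

set_option autoImplicit false
universe u
open CategoryTheory CategoryTheory.Limits AlgebraicGeometry
open Resolve

namespace Groth.Agent.S19454

/-- Let (A, m) be a complete normal Noetherian local domain of dimension two with a rational singularity
(every proper birational modification X → Spec A with X integral and normal has H^1(X, O_X) = 0), f
: X' → Spec A a resolution of singularities (proper, X' integral with regular local rings, an
isomorphism over a nonempty open subset), L a coherent reflexive module on Spec A, and M the strict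
transform of L: a coherent torsion-free module on X' with an epimorphism q : f^*L → M injective on
stalks at the generic point. Then M is finite locally free and generated by global sections, and
moreover H^1(X', M) = 0 (the vanishing of the first higher direct image of M, proved alongside).
(The published statement takes the resolution to be the minimal one; its proof does not use
minimality, and any resolution is allowed here.) -/
theorem result (A : Type u) [CommRing A]
    [IsDomain A] [IsLocalRing A] [IsNoetherianRing A] [IsIntegrallyClosed A]
    [IsAdicComplete (IsLocalRing.maximalIdeal A) A] (hdim : ringKrullDim A = 2) (hA : Curv2.IsRationalSing A)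
    (X' : Scheme.{u}) (f : X' ⟶ Spec (CommRingCat.of A)) [IsProper f] [IsIntegral X']
    (hreg : ∀ x : X', IsRegularLocalRing (X'.presheaf.stalk x))
    (hbir : ∃ U : (Spec (CommRingCat.of A)).Opens, (U : Set (Spec (CommRingCat.of A))).Nonempty ∧ IsIso (f ∣_ U))
    (L : (Spec (CommRingCat.of A)).Modules) (hLc : Coh.IsCoh L) (hLr : RefHull.IsReflexive L)
    (M : X'.Modules) (hMc : Coh.IsCoh M) (hMt : TorSh.IsTorsionFree M)
    (q : (Scheme.Modules.pullback f).obj L ⟶ M) [Epi q]
    (hq : Function.Injective (RefHull.stalkMapₗ q (genericPoint X'))) :
    FlatMod.IsFinLocFree M ∧ Curv2.IsGloballyGenerated M ∧ Subsingleton (Coh.HH X' M 1) := by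
  have hloc : IsLocallyNoetherian X' := LocallyOfFiniteType.isLocallyNoetherian f
  have hXn : Pi1.IsNormalScheme X' := fun x => by
    have := hreg x
    exact ⟨(Groth.Agent.S2821.result _).1, Groth.Agent.S9829.result _⟩
  obtain ⟨h1, h2, h3⟩ := K377.RatReflex.main A hdim X' f hXn (hA X' f inferInstance inferInstance hXn hbir) hbir
    L hLc hLr M hMc hMt q hq
  refine ⟨Groth.Agent.Divis.StalkMod.isFinLocFree_of_free_stalk hMc (fun x => ?_), h1, h2⟩
  have h4 := hreg x
  have h5 := Groth.Agent.Divis.StalkMod.finite_stalk hMc x
  have h6 : Module.IsReflexive (X'.presheaf.stalk x) (M.presheaf.stalk x) := h3 x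
  refine Groth.Agent.Divis.ReflexAlg.free_of_isReflexive ?_ _
  obtain ⟨U, hU, hUi⟩ := hbir
  obtain ⟨hgen, hiso⟩ := K415.Birat.generic_of_isIso_restrict f U hU hUi
  exact ((K377.RatReflex.ringKrullDim_le f (ConcreteCategory.bijective_of_isIso (f.stalkMap (genericPoint X'))) x).trans
    (K377.RatReflex.ringKrullDim_stalk_Spec_le A (f x))).trans hdim.le

end Groth.Agent.S19454
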