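import Groth.Statements.S19461
import Groth.Agent.Flat2F.FlatComp
import Mathlib.RingTheory.AdicCompletion.LocalRing
import Mathlib.RingTheory.AdicCompletion.AsTensorProduct

set_option autoImplicit false
universe u
open CAlg

namespace Groth.Agent.S19461


/-- The implication from isomorphic completions to flat and unramified. Let A → B be a local
homomorphism of Noetherian local rings and ψ a ring map from the completion of A at its maximal
ideal to that of B whose composite with A → A^ is A → B → B^. If ψ is bijective, then A → B is flat
and the maximal ideal of A generates the maximal ideal of B. (The published statement is the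
implication, for a morphism of algebraic varieties over an algebraically closed field, from
isomorphic induced maps of completed local rings at every point to flat and unramified; its proof is
this local-ring argument, valid for any Noetherian local rings. The converse implication is a
separate result.) -/
theorem result (A B : Type u) [CommRing A]
    [CommRing B] [IsLocalRing A] [IsLocalRing B] [IsNoetherianRing A] [IsNoetherianRing B]
    [Algebra A B] [IsLocalHom (algebraMap A B)]
    (ψ : AdicCompletion (IsLocalRing.maximalIdeal A) A →+* AdicCompletion (IsLocalRing.maximalIdeal B) B)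
    (hψ : ψ.comp (algebraMap A (AdicCompletion (IsLocalRing.maximalIdeal A) A)) =
      (algebraMap B (AdicCompletion (IsLocalRing.maximalIdeal B) B)).comp (algebraMap A B))
    (hbij : Function.Bijective ψ) :
    Module.Flat A B ∧
      Ideal.map (algebraMap A B) (IsLocalRing.maximalIdeal A) = IsLocalRing.maximalIdeal B := by
  let Ah := AdicCompletion (IsLocalRing.maximalIdeal A) A
  let Bh := AdicCompletion (IsLocalRing.maximalIdeal B) B
  let e : Ah ≃+* Bh := RingEquiv.ofBijective ψ hbij
  have : Module.FaithfullyFlat B Bh := Module.FaithfullyFlat.of_flat_of_isLocalHom
  have : IsScalarTower A B Bh := inferInstance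
  have hcomm : ∀ a : A, ψ (algebraMap A Ah a) = algebraMap A Bh a := fun a => by
    rw [IsScalarTower.algebraMap_apply A B Bh]
    exact DFunLike.congr_fun hψ a
  let eL : Ah ≃ₗ[A] Bh :=
    { e with
      map_smul' := by
        intro a x
        show ψ (a • x) = a • ψ x
        rw [Algebra.smul_def, Algebra.smul_def, map_mul]
        congr 1
        exact hcomm a }
  have : Module.Flat A Bh := Module.Flat.of_linearEquiv eL.symm
  refine ⟨Groth.Agent.Flat2F.FlatComp.flat_of_comp_faithfullyFlat A B Bh, ?_⟩
  have h1 : Ideal.map (algebraMap B Bh) (Ideal.map (algebraMap A B) (IsLocalRing.maximalIdeal A)) =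
      Ideal.map (algebraMap B Bh) (IsLocalRing.maximalIdeal B) := by
    rw [← AdicCompletion.maximalIdeal_eq_map, Ideal.map_map, ← hψ, ← Ideal.map_map,
      ← AdicCompletion.maximalIdeal_eq_map]
    exact IsLocalRing.map_ringEquiv_maximalIdeal e
  exact Ideal.map_injective_of_faithfullyFlat h1

end Groth.Agent.S19461
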