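import Groth.Statements.S19462
import Groth.Agent.GrNak.K990.Basic
import Mathlib.RingTheory.Nakayama
import Mathlib.Algebra.Module.Torsion.Basic
import Mathlib.LinearAlgebra.LinearIndependent.Lemmas
import Mathlib.LinearAlgebra.FiniteDimensional.Basic

set_option autoImplicit false
universe u
open GrNak

namespace Groth.Agent.S19462

open DirectSum in
/-- Let k be a field and R a commutative ℤ-graded k-algebra whose pieces of negative degree vanish and
whose degree-zero piece is the image of k, and let M be a finitely generated ℤ-graded R-module,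
graded compatibly with R. Then M is a projective R-module if and only if M has an R-basis consisting
of homogeneous elements, i.e. M is a free graded module. (The published statement takes R a graded
quotient of a polynomial ring k[x_0, …, x_n] with its standard grading; stated here for any
commutative graded k-algebra concentrated in non-negative degrees with degree-zero part k, to which
the same graded-Nakayama argument applies.) -/
theorem result {k : Type u} [Field k] {R : Type u} [CommRing R] [Algebra k R]
    {σ : Type u} [SetLike σ R] [AddSubmonoidClass σ R] (𝒜 : ℤ → σ) [GradedRing 𝒜]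
    (hneg : ∀ i : ℤ, i < 0 → ∀ x ∈ 𝒜 i, x = 0)
    (hk : ∀ c : k, algebraMap k R c ∈ 𝒜 0) (h0 : ∀ x ∈ 𝒜 0, ∃ c : k, algebraMap k R c = x)
    {M : Type u} [AddCommGroup M] [Module R M] [Module.Finite R M]
    {τ : Type u} [SetLike τ M] [AddSubmonoidClass τ M] (ℳ : ℤ → τ) [DirectSum.Decomposition ℳ]
    [SetLike.GradedSMul 𝒜 ℳ] :
    Module.Projective R M ↔
      ∃ (ι : Type u) (b : Module.Basis ι R M), ∀ i : ι, SetLike.IsHomogeneousElem ℳ (b i) := by
  classical
  constructor
  swap
  · rintro ⟨ι, b, -⟩
    exact Module.Projective.of_basis b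
  intro hproj
  rcases subsingleton_or_nontrivial R with hR | hR
  · haveI : Subsingleton M := Module.subsingleton R M
    exact ⟨PEmpty, Module.Basis.empty M, fun i => i.elim⟩
  -- the ideal of elements without degree zero component
  have hnegc : ∀ (r : R) (a : ℤ), a < 0 → (decompose 𝒜 r a : R) = 0 := fun r a ha =>
    hneg a ha _ (decompose 𝒜 r a).2
  have hsmul0 : ∀ {N : Type u} [AddCommGroup N] [Module R N] {τ' : Type u} [SetLike τ' N]
      [AddSubmonoidClass τ' N] (𝒩 : ℤ → τ') [DirectSum.Decomposition 𝒩]
      [SetLike.GradedSMul 𝒜 𝒩] (r : R) (x : N) (j : ℤ), (decompose 𝒜 r 0 : R) = 0 →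
      (∀ j' < j, (decompose 𝒩 x j' : N) = 0) → (decompose 𝒩 (r • x) j : N) = 0 := by
    intro N _ _ τ' _ _ 𝒩 _ _ r x j hr hx
    rw [K990.GrNak.coe_decompose_smul 𝒜 𝒩 r x j]
    refine Finset.sum_eq_zero fun a _ => Finset.sum_eq_zero fun b _ => ?_
    split_ifs with hab
    · rcases lt_trichotomy a 0 with h | h | h
      · rw [hnegc r a h, zero_smul]
      · rw [h, hr, zero_smul]
      · rw [hx b (by omega), smul_zero]
    · rfl
  let I : Ideal R :=
    { carrier := {r | (decompose 𝒜 r 0 : R) = 0}
      add_mem' := by
        intro a b ha hb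
        simp only [Set.mem_ofPred_eq] at ha hb ⊢
        rw [decompose_add, add_apply, AddMemClass.coe_add, ha, hb, add_zero]
      zero_mem' := by
        simp only [Set.mem_ofPred_eq]
        rw [decompose_zero, zero_apply, ZeroMemClass.coe_zero]
      smul_mem' := by
        intro c x hx
        simp only [Set.mem_ofPred_eq] at hx ⊢
        rw [K990.GrNak.coe_decompose_smul 𝒜 𝒜 c x 0]
        refine Finset.sum_eq_zero fun a _ => Finset.sum_eq_zero fun b _ => ?_
        split_ifs with hab
        · rcases lt_trichotomy b 0 with h | h | h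
          · rw [hnegc x b h, smul_zero]
          · rw [h, hx, smul_zero]
          · rw [hnegc c a (by omega), zero_smul]
        · rfl }
  have hImem : ∀ r : R, r ∈ I ↔ (decompose 𝒜 r 0 : R) = 0 := fun r => Iff.rfl
  have h1mem : (1 : R) ∈ 𝒜 0 := by simpa using hk 1
  have hsub : ∀ r : R, r - (decompose 𝒜 r 0 : R) ∈ I := by
    intro r
    rw [hImem]
    have e : r = (r - (decompose 𝒜 r 0 : R)) + (decompose 𝒜 r 0 : R) := by abel
    have h2 : (decompose 𝒜 r 0 : R) = (decompose 𝒜 (r - (decompose 𝒜 r 0 : R)) 0 : R) +
        (decompose 𝒜 (decompose 𝒜 r 0 : R) 0 : R) := by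
      conv_lhs => rw [e]
      rw [decompose_add, add_apply, AddMemClass.coe_add]
    rw [decompose_of_mem_same 𝒜 (decompose 𝒜 r 0).2] at h2
    simpa using h2
  haveI hImax : I.IsMaximal := by
    rw [Ideal.isMaximal_iff]
    constructor
    · rw [hImem, decompose_of_mem_same 𝒜 h1mem]
      exact one_ne_zero
    · intro J x hIJ hx hxJ
      rw [hImem] at hx
      obtain ⟨c, hc⟩ := h0 _ (decompose 𝒜 x 0).2
      have hc0 : c ≠ 0 := by
        rintro rfl
        exact hx (by rw [← hc, map_zero])
      have h3 : algebraMap k R c ∈ J := by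
        rw [hc]
        have := J.sub_mem hxJ (hIJ (hsub x))
        simpa using this
      have := J.mul_mem_left (algebraMap k R c⁻¹) h3
      rwa [← map_mul, inv_mul_cancel₀ hc0, map_one] at this
  letI : Field (R ⧸ I) := Ideal.Quotient.field I
  -- homogeneous elements generate `M / I M`
  let H : Type u := {m : M // SetLike.IsHomogeneousElem ℳ m}
  let v : H → M ⧸ (I • ⊤ : Submodule R M) := fun m => Submodule.Quotient.mk m.1
  obtain ⟨κ, a, ha, hspan, hli⟩ := exists_linearIndependent' (R ⧸ I) v
  have hvspan : Submodule.span (R ⧸ I) (Set.range v) = ⊤ := by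
    rw [eq_top_iff]
    rintro x -
    obtain ⟨m, rfl⟩ := Submodule.Quotient.mk_surjective _ x
    rw [← sum_support_decompose ℳ m]
    change Submodule.mkQ _ _ ∈ _
    rw [map_sum]
    refine Submodule.sum_mem _ fun i _ => Submodule.subset_span ⟨⟨(decompose ℳ m i : M), ⟨i, (decompose ℳ m i).2⟩⟩, rfl⟩
  have hspan' : Submodule.span (R ⧸ I) (Set.range (v ∘ a)) = ⊤ := by rw [hspan, hvspan]
  haveI hfin : Module.Finite (R ⧸ I) (M ⧸ (I • ⊤ : Submodule R M)) :=
    Module.Finite.of_restrictScalars_finite R (R ⧸ I) _
  haveI hκ : Finite κ := hli.finite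
  haveI : Fintype κ := Fintype.ofFinite κ
  let w : κ → M := fun i => (a i).1
  have hw : ∀ i, SetLike.IsHomogeneousElem ℳ (w i) := fun i => (a i).2
  -- the span of the lifts
  let N : Submodule R M := Submodule.span R (Set.range w)
  have hNhom : ∀ x ∈ N, ∀ j : ℤ, (decompose ℳ x j : M) ∈ N := by
    intro x hx
    refine Submodule.span_induction ?_ ?_ ?_ ?_ hx
    · rintro _ ⟨i, rfl⟩ j
      obtain ⟨d, hd⟩ := hw i
      by_cases h : d = j
      · subst h
        rw [decompose_of_mem_same ℳ hd]
        exact Submodule.subset_span ⟨i, rfl⟩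
      · rw [decompose_of_mem_ne ℳ hd h]
        exact N.zero_mem
    · intro j
      rw [decompose_zero, zero_apply, ZeroMemClass.coe_zero]
      exact N.zero_mem
    · intro x y _ _ hx hy j
      rw [decompose_add, add_apply, AddMemClass.coe_add]
      exact N.add_mem (hx j) (hy j)
    · intro r x _ hx j
      rw [K990.GrNak.coe_decompose_smul 𝒜 ℳ r x j]
      refine N.sum_mem fun a' _ => N.sum_mem fun b' _ => ?_
      split_ifs with hab
      · exact N.smul_mem _ (hx b')
      · exact N.zero_mem
  have hNsup : (⊤ : Submodule R M) ≤ N ⊔ I • ⊤ := by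
    intro m _
    have hm : (Submodule.Quotient.mk m : M ⧸ (I • ⊤ : Submodule R M)) ∈
        Submodule.span (R ⧸ I) (Set.range (v ∘ a)) := by rw [hspan']; trivial
    obtain ⟨c, hc⟩ := (Submodule.mem_span_range_iff_exists_fun (R ⧸ I)).mp hm
    choose c' hc' using fun i => Ideal.Quotient.mk_surjective (c i)
    have h4 : (Submodule.Quotient.mk (∑ i, c' i • w i) : M ⧸ (I • ⊤ : Submodule R M)) =
        Submodule.Quotient.mk m := by
      rw [← hc]
      change Submodule.mkQ _ _ = _
      rw [map_sum]
      refine Finset.sum_congr rfl fun i _ => ?_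
      rw [← hc' i]
      rfl
    rw [Submodule.Quotient.eq] at h4
    have h5 : m = ∑ i, c' i • w i - (∑ i, c' i • w i - m) := by abel
    rw [h5]
    refine Submodule.sub_mem _ (Submodule.mem_sup_left ?_) (Submodule.mem_sup_right h4)
    exact N.sum_mem fun i _ => N.smul_mem _ (Submodule.subset_span ⟨i, rfl⟩)
  have hunit : ∀ r : R, r - 1 ∈ I → (decompose 𝒜 r 0 : R) = 1 := by
    intro r hr
    rw [hImem] at hr
    have e : r = (r - 1) + 1 := by abel
    rw [e, decompose_add, add_apply, AddMemClass.coe_add, hr, zero_add,
      decompose_of_mem_same 𝒜 h1mem]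
  have hNtop : N = ⊤ := by
    obtain ⟨r, hr, hrN⟩ := Submodule.exists_sub_one_mem_and_smul_le_of_fg_of_le_sup
      (I := I) (N := N) (N' := ⊤) (P := ⊤) Module.Finite.fg_top le_rfl hNsup
    rw [eq_top_iff]
    intro m _
    rw [← sum_support_decompose ℳ m]
    refine N.sum_mem fun j _ => ?_
    set x : M := (decompose ℳ m j : M) with hx
    have hxj : x ∈ ℳ j := (decompose ℳ m j).2
    have hrx : r • x ∈ N := hrN (Submodule.smul_mem_pointwise_smul x r ⊤ trivial)
    have h6 := hNhom _ hrx j
    have h7 : r • x = (r - 1) • x + x := by rw [sub_smul, one_smul]; abel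
    rw [h7, decompose_add, add_apply, AddMemClass.coe_add, hsmul0 ℳ (r - 1) x j hr, zero_add,
      decompose_of_mem_same ℳ hxj] at h6
    · exact h6
    · intro j' hj'
      exact decompose_of_mem_ne ℳ hxj (by omega)
  -- the presentation
  let π : (κ → R) →ₗ[R] M := Fintype.linearCombination R w
  have hπ : Function.Surjective π := by
    rw [← LinearMap.range_eq_top, Fintype.range_linearCombination]
    exact hNtop
  obtain ⟨s, hs⟩ := Module.projective_lifting_property π LinearMap.id hπ
  have hs' : ∀ m, π (s m) = m := fun m => by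
    have := congrArg (fun f => f m) hs
    simpa using this
  have hKI : ∀ x : κ → R, π x = 0 → ∀ i, x i ∈ I := by
    intro x hx
    have h8 : ∑ i, (Ideal.Quotient.mk I (x i)) • (v ∘ a) i = 0 := by
      have h9 : (Submodule.mkQ (I • ⊤ : Submodule R M)) (π x) = 0 := by rw [hx, map_zero]
      rw [Fintype.linearCombination_apply, map_sum] at h9
      exact h9
    intro i
    have := (Fintype.linearIndependent_iff.mp hli) _ h8 i
    exact Ideal.Quotient.eq_zero_iff_mem.mp this
  have hker : LinearMap.ker π = ⊥ := by
    let q : (κ → R) →ₗ[R] (κ → R) := LinearMap.id - s ∘ₗ π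
    have hqK : ∀ x, q x ∈ LinearMap.ker π := by
      intro x
      rw [LinearMap.mem_ker]
      simp [q, hs']
    have hqfix : ∀ x ∈ LinearMap.ker π, q x = x := by
      intro x hx
      rw [LinearMap.mem_ker] at hx
      simp [q, hx]
    have hKrange : LinearMap.ker π = LinearMap.range q := by
      apply le_antisymm
      · intro x hx
        exact ⟨x, hqfix x hx⟩
      · rintro _ ⟨x, rfl⟩
        exact hqK x
    have hKfg : (LinearMap.ker π).FG := by
      rw [hKrange, LinearMap.range_eq_map]
      exact Module.Finite.fg_top.map q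
    have hKle : LinearMap.ker π ≤ I • LinearMap.ker π := by
      intro x hx
      have hx1 : x = ∑ i, x i • (Pi.single i (1 : R) : κ → R) := by
        ext j
        simp [Finset.sum_apply, Pi.single_apply]
      have hx2 : x = ∑ i, x i • q (Pi.single i (1 : R) : κ → R) := by
        conv_lhs => rw [← hqfix x hx, hx1, map_sum]
        simp_rw [map_smul]
      rw [hx2]
      refine Submodule.sum_mem _ fun i _ => Submodule.smul_mem_smul (hKI x hx i) (hqK _)
    obtain ⟨r, hr, hr0⟩ := Submodule.exists_sub_one_mem_and_smul_eq_zero_of_fg_of_le_smul I _ hKfg hKle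
    rw [eq_bot_iff]
    intro x hx
    have h10 := hr0 x hx
    rw [Submodule.mem_bot]
    -- `r` is a nonzerodivisor
    have hreg : ∀ y : R, r • y = 0 → y = 0 := by
      intro y hy
      have hz : ∀ n : ℕ, ∀ j : ℤ, j < (n : ℤ) → (decompose 𝒜 y j : R) = 0 := by
        intro n
        induction n with
        | zero => intro j hj; exact hnegc y j (by simpa using hj)
        | succ n ih =>
          intro j hj
          rcases lt_or_eq_of_le (Int.lt_add_one_iff.mp (by push_cast at hj; exact hj)) with h | h
          · exact ih j h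
          · have h7 : r • y = (r - 1) • y + y := by rw [sub_smul, one_smul]; abel
            have h11 : (decompose 𝒜 (r • y) j : R) = 0 := by
              rw [hy, decompose_zero, zero_apply, ZeroMemClass.coe_zero]
            rw [h7, decompose_add, add_apply, AddMemClass.coe_add,
              hsmul0 𝒜 (r - 1) y j hr (fun j' hj' => ih j' (by omega)), zero_add] at h11
            exact h11
      rw [← sum_support_decompose 𝒜 y]
      refine Finset.sum_eq_zero fun j _ => hz (j.toNat + 1) j (by push_cast; omega)
    ext i
    exact hreg (x i) (congrFun h10 i)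
  have hinj : Function.Injective π := LinearMap.ker_eq_bot.mp hker
  let e : (κ → R) ≃ₗ[R] M := LinearEquiv.ofBijective π ⟨hinj, hπ⟩
  refine ⟨κ, (Module.Basis.ofEquivFun e.symm), fun i => ?_⟩
  have h12 : (Module.Basis.ofEquivFun e.symm) i = w i := by
    rw [Module.Basis.coe_ofEquivFun]
    change π (Pi.single i 1) = w i
    rw [Fintype.linearCombination_apply_single, one_smul]
  rw [h12]
  exact hw i

end Groth.Agent.S19462
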