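import Groth.Statements.S19465
import Groth.Agent.Sga3C.UnramFiber
import Groth.Agent.Sga1.FreeQuotSch

set_option autoImplicit false
universe u
open CategoryTheory CategoryTheory.Limits MonoidalCategory CartesianMonoidalCategory MonObj GrpObj AlgebraicGeometry
open AlgGrp

namespace Groth.Agent.S19465

/-- Let S be a scheme and G an S-group scheme whose structure morphism G → S is locally of finite type.
Then G → S is an isomorphism (G is the trivial group scheme over S) if and only if every fibre G_s →
Spec κ(s), s ∈ S, is an isomorphism. -/
theorem result (S : Scheme.{u}) (G : Over S)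
    [GrpObj G] [LocallyOfFiniteType G.hom] :
    IsIso G.hom ↔ ∀ s : S, IsIso (G.hom.fiberToSpecResidueField s) := by
  constructor
  · intro h s
    exact inferInstanceAs (IsIso (pullback.snd G.hom (S.fromSpecResidueField s)))
  · intro h
    have h1 : FormallyUnramified G.hom :=
      Groth.Agent.Sga3C.UnramFiber.of_formallyUnramified_fiberToSpecResidueField G.hom
        (fun y => have := h y; inferInstance)
    let e : S ⟶ G.left := η[G].left
    have he : e ≫ G.hom = 𝟙 S := Over.w η[G]
    have h2 : IsOpenImmersion (e ≫ G.hom) := by rw [he]; infer_instance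
    have h3 : IsOpenImmersion e := Groth.Agent.Sga1.FreeQuotSch.isOpenImmersion_of_comp e G.hom
    have h4 : Surjective e := by
      constructor
      intro x
      refine ⟨G.hom x, ?_⟩
      have hinj : Function.Injective (G.hom.fiberToSpecResidueField (G.hom x)) := by
        have := h (G.hom x)
        exact (G.hom.fiberToSpecResidueField (G.hom x)).homeomorph.injective
      have hx : x ∈ Set.range (G.hom.fiberι (G.hom x)) := by
        rw [Scheme.Hom.range_fiberι]; rfl
      have hex : e (G.hom x) ∈ Set.range (G.hom.fiberι (G.hom x)) := by
        rw [Scheme.Hom.range_fiberι]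
        change G.hom (e (G.hom x)) = G.hom x
        rw [← Scheme.Hom.comp_apply, he]
        rfl
      obtain ⟨a, ha⟩ := hx
      obtain ⟨b, hb⟩ := hex
      have hab : a = b := by
        apply hinj
        rw [Scheme.Hom.fiberToSpecResidueField_apply, Scheme.Hom.fiberToSpecResidueField_apply]
      rw [← hb, ← hab, ha]
    have h5 : IsIso e := by
      rw [isIso_iff_isOpenImmersion_and_epi_base]
      refine ⟨h3, ?_⟩
      rw [TopCat.epi_iff_surjective]
      exact h4.surj
    have h6 : G.hom = inv e := by rw [IsIso.eq_inv_of_hom_inv_id he]
    rw [h6]
    infer_instance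

end Groth.Agent.S19465
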