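import Groth.Statements.S19468
import Groth.Agent.S4141
import Groth.Agent.AlgGrp.K414.FinAnti

set_option autoImplicit false
universe u
open CategoryTheory MonoidalCategory CartesianMonoidalCategory MonObj GrpObj AlgebraicGeometry CategoryTheory.Limits
open AlgGrp

namespace Groth.Agent.S19468

/-- Let k be a finite field and G a smooth connected k-group scheme of finite type. Then there are a
closed normal subgroup scheme l : L → G with L smooth, connected and affine, and a closed subgroup
scheme a : A → G with A an abelian variety (proper, smooth and connected over k), such that G = L ·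
A, in the sense that the multiplication L × A → G is surjective, and L ∩ A (the fibre product of l
and a) is finite over k. (The published statement also asserts that such a decomposition is unique;
that part is not included here.) -/
theorem result (k : Type u) [Field k] [Finite k]
    (G : Over (Spec (CommRingCat.of k))) [GrpObj G] [Smooth G.hom] [QuasiCompact G.hom]
    [ConnectedSpace ↥G.left] :
    ∃ (L : Over (Spec (CommRingCat.of k))) (_ : GrpObj L) (l : L ⟶ G) (A : Over (Spec (CommRingCat.of k)))
      (_ : GrpObj A) (a : A ⟶ G),
      IsMonHom l ∧ IsClosedImmersion l.left ∧ AlgGrp.IsNormalHom l ∧ Smooth L.hom ∧ ConnectedSpace ↥L.left ∧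
        IsAffine L.left ∧
      IsMonHom a ∧ IsClosedImmersion a.left ∧ IsProper A.hom ∧ Smooth A.hom ∧ ConnectedSpace ↥A.left ∧
      Surjective ((l ⊗ₘ a) ≫ μ[G]).left ∧ IsFinite (pullback.fst l.left a.left ≫ L.hom) := by
  obtain ⟨L, _, l, Q, _, q, hl, hlc, hLa, hLs, hLcon, hLn, hq, hqs, hqf, hK, hQp, hQs, hQc, -⟩ :=
    Groth.Agent.S4141.result k G
  obtain ⟨A, _, a, ha, hac, hAf, hAq, hAiso, hsurj⟩ := K414.RosQ.exists_antiAffine_surjective q
  have hbij := K398.AntiAff.bijective_of_isIso (G := A) hAiso
  obtain ⟨hcon, hcomm⟩ := Groth.Agent.S3293.result k A hbij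
  have hAs : Smooth A.hom := Groth.Agent.S3026.result k A hbij
  have hAp : IsProper A.hom := K414.FinAnti.isProper_of_finite A
  refine ⟨L, inferInstance, l, A, inferInstance, a, hl, hlc, hLn, hLs, hLcon, hLa, ha, hac, hAp, hAs, hcon,
    K414.RosQ.surjective_mul l q hK a hsurj, ?_⟩
  have h1 : pullback.fst l.left a.left ≫ L.hom = pullback.snd l.left a.left ≫ A.hom := by
    rw [← Over.w l, ← Over.w a, pullback.condition_assoc]
  have h2 : IsProper (pullback.fst l.left a.left ≫ L.hom) := by
    rw [h1]; infer_instance
  have h3 : IsAffineHom (pullback.fst l.left a.left ≫ L.hom) := inferInstance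
  exact IsFinite.iff_isProper_and_isAffineHom.mpr ⟨h2, h3⟩

end Groth.Agent.S19468
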