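import Groth.Statements.S19470
import Groth.Agent.AlgGrp.K916.LieChar0

set_option autoImplicit false
universe u
open CategoryTheory MonObj GrpObj AlgebraicGeometry
open AlgGrp

namespace Groth.Agent.S19470

/-- The implication (1) ⇒ (2). Let k be a field of characteristic zero and g a finite-dimensional Lie
algebra over k. If g is the Lie algebra of some k-group scheme of finite type G — here: a
Lie-algebra model of Lie(G)(k) (the k-points of the dual-number kernel with its rescaling action and
commutator bracket) on g is given — then g is the Lie algebra of some affine k-group scheme of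
finite type L, in the same sense. (In characteristic zero group schemes of finite type are smooth,
so L is a linear algebraic group; the converse implication is immediate.) -/
theorem result (k : Type u) [Field k] [CharZero k]
    (g : Type u) [LieRing g] [LieAlgebra k g] [Module.Finite k g]
    (G : Over (Spec (CommRingCat.of k))) [GrpObj G] [LocallyOfFiniteType G.hom] [QuasiCompact G.hom]
    (m : LieS.Model G k (𝟙 (Spec (CommRingCat.of k))) g) :
    ∃ (L : Over (Spec (CommRingCat.of k))) (_ : GrpObj L), IsAffine L.left ∧ LocallyOfFiniteType L.hom ∧
      Nonempty (LieS.Model L k (𝟙 (Spec (CommRingCat.of k))) g) := by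
  have hGs : Smooth G.hom := Groth.Agent.S0353.result k G
  obtain ⟨U, _, u, hu1, hu2, hu3, hu4, hu5, hu6, -⟩ :=
    Groth.Agent.Sga3.H219.NeutralK.exists_neutral G
  obtain ⟨m'⟩ := K916.LieChar0.nonempty_model m u (K916.LieChar0.bijective_map_of_open u)
  obtain ⟨L, _, h1, h2, h3⟩ := K916.LieChar0.conn g U m'
  exact ⟨L, _, isAffine_of_isAffineHom L.hom, h2, h3⟩

end Groth.Agent.S19470
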