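import Groth.Statements.S19473

set_option autoImplicit false
universe u
open CategoryTheory CategoryTheory.Limits MonoidalCategory CartesianMonoidalCategory MonObj GrpObj AlgebraicGeometry
open AlgGrp

namespace Groth.Agent.S19473

theorem isPullback_diag' {C : Type*} [Category C] [CartesianMonoidalCategory C] (G : C) [GrpObj G] :
    IsPullback (lift (𝟙 G) (𝟙 G)) (toUnit G) ((fst G G)⁻¹ * snd G G) η[G] := by
  have key : ∀ {T : C} (s : T ⟶ G ⊗ G), s ≫ ((fst G G)⁻¹ * snd G G) = toUnit T ≫ η[G] →
      s ≫ fst G G = s ≫ snd G G := by
    intro T s h
    rw [comp_mul, GrpObj.comp_inv, one_eq_one, comp_one, inv_mul_eq_one] at h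
    exact h
  refine ⟨⟨?_⟩, ⟨PullbackCone.IsLimit.mk _ (fun s => s.fst ≫ fst G G) ?_ ?_ ?_⟩⟩
  · rw [comp_mul, GrpObj.comp_inv, one_eq_one, comp_one]; simp
  · intro s
    have h := s.condition
    rw [toUnit_unique s.snd (toUnit _)] at h
    have := key _ h
    ext
    · simp
    · simp [this]
  · intro s; exact toUnit_unique _ _
  · intro s m h1 h2
    simp [← h1]

/-- the unit section is a base change of the diagonal -/
theorem isPullback_unit' {C : Type*} [Category C] [CartesianMonoidalCategory C] (G : C) [GrpObj G] :
    IsPullback η[G] η[G] (lift (𝟙 G) (toUnit G ≫ η[G])) (lift (𝟙 G) (𝟙 G)) := by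
  refine ⟨⟨?_⟩, ⟨PullbackCone.IsLimit.mk _ (fun s => toUnit _) ?_ ?_ ?_⟩⟩
  · ext
    · simp
    · simp
  · intro s
    have h1 := s.condition =≫ fst G G
    have h2 := s.condition =≫ snd G G
    simp only [Category.assoc, lift_fst, lift_snd, Category.comp_id] at h1 h2
    rw [h1, ← h2, ← Category.assoc, toUnit_unique (s.fst ≫ toUnit G) (toUnit _)]
  · intro s
    have h2 := s.condition =≫ snd G G
    simp only [Category.assoc, lift_fst, lift_snd, Category.comp_id] at h2
    rw [← h2, ← Category.assoc, toUnit_unique (s.fst ≫ toUnit G) (toUnit _)]
  · intro s m h1 h2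
    exact toUnit_unique _ _

set_option backward.isDefEq.respectTransparency false in
/-- Let S be a scheme and G an S-group scheme whose structure morphism G → S is locally of finite type.
Then G → S is unramified — formally unramified, since it is locally of finite type — if and only if
the identity section S → G is an open immersion. (The separated and quasi-separated clauses of the
published item are separate results.) -/
theorem result (S : Scheme.{u})
    (G : Over S) [GrpObj G] [LocallyOfFiniteType G.hom] :
    FormallyUnramified G.hom ↔ IsOpenImmersion η[G].left := by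
  have h3 : (Over.forget _).map (lift (𝟙 G) (𝟙 G)) = pullback.diagonal G.hom := by
    apply pullback.hom_ext <;> simp
  constructor
  · intro h
    have h1 := (isPullback_unit' G).map (Over.forget _)
    rw [h3] at h1
    exact MorphismProperty.of_isPullback (P := @IsOpenImmersion) h1.flip inferInstance
  · intro h
    have h1 := (isPullback_diag' G).map (Over.forget _)
    rw [h3] at h1
    have : IsOpenImmersion (pullback.diagonal G.hom) :=
      MorphismProperty.of_isPullback (P := @IsOpenImmersion) h1.flip (by dsimp; infer_instance)
    infer_instance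

end Groth.Agent.S19473
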