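import Groth.Statements.S19475
import Mathlib.RingTheory.AdicCompletion.LocalRing

set_option autoImplicit false
universe u
open CAlg

namespace Groth.Agent.S19475


open IsLocalRing in
/-- Let A be a Noetherian ring, B an A-algebra, q a prime ideal of B and p its preimage in A; let A_p
and B_q be the local rings at p and q and Â_p the completion of A_p at its maximal ideal pA_p. Then
the ideal generated by qB_q in B_q ⊗ Â_p is maximal. (The tensor product is formed over A; since A_p
is a localization of A it agrees with the tensor product over A_p used in the published statement.) -/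
theorem result (A B : Type u) [CommRing A] [CommRing B]
    [Algebra A B] [IsNoetherianRing A] (q : Ideal B) [q.IsPrime] :
    ((maximalIdeal (Localization.AtPrime q)).map
      (Algebra.TensorProduct.includeLeftRingHom :
        Localization.AtPrime q →+* TensorProduct A (Localization.AtPrime q)
          (AdicCompletion (maximalIdeal (Localization.AtPrime (q.under A)))
            (Localization.AtPrime (q.under A))))).IsMaximal := by
  classical
  let p : Ideal A := q.under A
  let Ap := Localization.AtPrime (q.under A)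
  let Bq := Localization.AtPrime q
  let Ah := AdicCompletion (maximalIdeal Ap) Ap
  let h : Ap →+* Bq := Localization.localRingHom (q.under A) q (algebraMap A B) rfl
  have hA : ∀ a : A, h (algebraMap A Ap a) = algebraMap A Bq a := by
    intro a
    show Localization.localRingHom (q.under A) q (algebraMap A B) rfl (algebraMap A _ a) = _
    rw [Localization.localRingHom_to_map, ← IsScalarTower.algebraMap_apply A B Bq]
  have hmh : ∀ a ∈ maximalIdeal Ap, h a ∈ maximalIdeal Bq := by
    have hl : IsLocalHom h := Localization.isLocalHom_localRingHom (q.under A) q (algebraMap A B) rfl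
    intro a ha
    exact map_nonunit h a ha
  have hpAp : ∀ a ∈ q.under A, algebraMap A Bq a ∈ maximalIdeal Bq := by
    intro a ha
    rw [IsScalarTower.algebraMap_apply A B Bq]
    exact (IsLocalization.AtPrime.to_map_mem_maximal_iff Bq q _).2 ha
  set I : Ideal (TensorProduct A Bq Ah) := (maximalIdeal Bq).map
      (Algebra.TensorProduct.includeLeftRingHom : Bq →+* TensorProduct A Bq Ah) with hI
  have hIl : ∀ b ∈ maximalIdeal Bq, (b ⊗ₜ[A] (1 : Ah)) ∈ I := fun b hb => Ideal.mem_map_of_mem _ hb
  -- the residue map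
  let g0 : Ap ⧸ maximalIdeal Ap →+* ResidueField Bq :=
    Ideal.Quotient.lift (maximalIdeal Ap) ((residue Bq).comp h) (by
      intro a ha
      show residue Bq (h a) = 0
      rw [residue_eq_zero_iff]
      exact hmh a ha)
  let g1 : Ah →+* ResidueField Bq := g0.comp (AdicCompletion.evalOneₐ (maximalIdeal Ap)).toRingHom
  have hg1 : ∀ a : A, g1 (algebraMap A Ah a) = algebraMap A (ResidueField Bq) a := by
    intro a
    show g0 (AdicCompletion.evalOneₐ (maximalIdeal Ap) (algebraMap A Ah a)) = _
    rw [IsScalarTower.algebraMap_apply A Ap Ah, AlgHom.commutes]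
    show residue Bq (h (algebraMap A Ap a)) = _
    rw [hA]
    rfl
  let g : Ah →ₐ[A] ResidueField Bq := { g1 with commutes' := hg1 }
  let φ : TensorProduct A Bq Ah →ₐ[A] ResidueField Bq :=
    Algebra.TensorProduct.lift (IsScalarTower.toAlgHom A Bq (ResidueField Bq)) g (fun _ _ => Commute.all _ _)
  have hφ : I ≤ RingHom.ker φ.toRingHom := by
    rw [hI, Ideal.map_le_iff_le_comap]
    intro b hb
    show φ (b ⊗ₜ[A] (1 : Ah)) = 0
    rw [Algebra.TensorProduct.lift_tmul, map_one, mul_one]
    exact (residue_eq_zero_iff b).2 hb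
  have h1 : (1 : TensorProduct A Bq Ah) ∉ I := by
    intro h1
    have : φ 1 = 0 := hφ h1
    rw [map_one] at this
    exact one_ne_zero this
  have hR : ∀ z : Ap, ((1 : Bq) ⊗ₜ[A] (algebraMap Ap Ah z)) = (h z) ⊗ₜ[A] (1 : Ah) := by
    have : ((Algebra.TensorProduct.includeRight : Ah →ₐ[A] TensorProduct A Bq Ah).toRingHom.comp (algebraMap Ap Ah)) =
        (Algebra.TensorProduct.includeLeftRingHom : Bq →+* TensorProduct A Bq Ah).comp h := by
      apply IsLocalization.ringHom_ext (q.under A).primeCompl
      ext a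
      show (1 : Bq) ⊗ₜ[A] (algebraMap Ap Ah (algebraMap A Ap a)) = (h (algebraMap A Ap a)) ⊗ₜ[A] (1 : Ah)
      rw [hA, ← IsScalarTower.algebraMap_apply A Ap Ah, Algebra.algebraMap_eq_smul_one,
        Algebra.algebraMap_eq_smul_one, TensorProduct.tmul_smul, TensorProduct.smul_tmul']
    intro z
    exact DFunLike.congr_fun this z
  have hmax : maximalIdeal Ah ≤ Ideal.comap (Algebra.TensorProduct.includeRight : Ah →ₐ[A] TensorProduct A Bq Ah) I := by
    rw [AdicCompletion.maximalIdeal_eq_map, Ideal.map_le_iff_le_comap]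
    intro z hz
    show (1 : Bq) ⊗ₜ[A] (algebraMap Ap Ah z) ∈ I
    rw [hR]
    apply hIl
    exact hmh z hz
  have key : ∀ x : TensorProduct A Bq Ah, ∃ b : Bq, x - b ⊗ₜ[A] (1 : Ah) ∈ I := by
    intro x
    induction x with
    | zero => exact ⟨0, by simp⟩
    | add x y hx hy =>
      obtain ⟨b, hb⟩ := hx
      obtain ⟨c, hc⟩ := hy
      refine ⟨b + c, ?_⟩
      rw [TensorProduct.add_tmul, add_sub_add_comm]
      exact I.add_mem hb hc
    | tmul b a =>
      obtain ⟨r, hr⟩ := Ideal.Quotient.mk_surjective (AdicCompletion.evalOneₐ (maximalIdeal Ap) a)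
      refine ⟨b * h r, ?_⟩
      have hm : a - algebraMap Ap Ah r ∈ maximalIdeal Ah := by
        rw [AdicCompletion.maximalIdeal_eq_map, ← AdicCompletion.ker_evalOneₐ_eq_map _ (maximalIdeal Ap).fg_of_isNoetherianRing]
        show AdicCompletion.evalOneₐ (maximalIdeal Ap) (a - algebraMap Ap Ah r) = 0
        rw [map_sub, AlgHom.commutes, ← hr]
        exact sub_self _
      have e1 : b ⊗ₜ[A] a - (b * h r) ⊗ₜ[A] (1 : Ah) = (b ⊗ₜ[A] (1 : Ah)) * ((1 : Bq) ⊗ₜ[A] (a - algebraMap Ap Ah r)) := by
        rw [TensorProduct.tmul_sub, mul_sub, hR, Algebra.TensorProduct.tmul_mul_tmul, Algebra.TensorProduct.tmul_mul_tmul,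
          mul_one, one_mul, one_mul]
      rw [e1]
      exact I.mul_mem_left _ (hmax hm)
  rw [Ideal.isMaximal_iff]
  refine ⟨h1, fun J x hIJ hxI hxJ => ?_⟩
  obtain ⟨b, hb⟩ := key x
  have hbu : IsUnit b := by
    by_contra hc
    apply hxI
    have := I.add_mem hb (hIl b ((mem_maximalIdeal b).2 hc))
    rwa [sub_add_cancel] at this
  have hbJ : b ⊗ₜ[A] (1 : Ah) ∈ J := by
    have := J.sub_mem hxJ (hIJ hb)
    rwa [sub_sub_cancel] at this
  have hu : IsUnit (b ⊗ₜ[A] (1 : Ah)) :=
    hbu.map (Algebra.TensorProduct.includeLeftRingHom : Bq →+* TensorProduct A Bq Ah)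
  exact (Ideal.eq_top_iff_one J).1 (Ideal.eq_top_of_isUnit_mem J hbJ hu)

end Groth.Agent.S19475
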