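import Groth.Statements.S19477
import Groth.Agent.VarietyB.BaseExt2
import Mathlib.RingTheory.EssentialFiniteness
import Mathlib.RingTheory.Localization.Submodule
import Mathlib.RingTheory.HopkinsLevitzki
import Mathlib.RingTheory.Artinian.Module
import Mathlib.RingTheory.Ideal.GoingUp

set_option autoImplicit false
universe u
open Variety

namespace Groth.Agent.S19477

open TensorProduct

theorem isIntegral_left (K F L : Type u) [Field K] [Field F] [Field L] [Algebra K F] [Algebra K L]
    [Algebra.IsIntegral K L] : Algebra.IsIntegral F (F ⊗[K] L) := inferInstance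

theorem krullDimLE_zero (K F L : Type u) [Field K] [Field F] [Field L] [Algebra K F] [Algebra K L]
    [Algebra.IsIntegral K L] : Ring.KrullDimLE 0 (F ⊗[K] L) := by
  rw [Ring.krullDimLE_zero_iff]
  intro P hP
  have : Algebra.IsIntegral F (F ⊗[K] L) := isIntegral_left K F L
  have h1 : (P.comap (algebraMap F (F ⊗[K] L))).IsMaximal := by
    have h2 : (P.comap (algebraMap F (F ⊗[K] L))).IsPrime := inferInstance
    exact inferInstance
  exact Ideal.isMaximal_of_isIntegral_of_isMaximal_comap P h1

theorem isNoetherianRing (K F L : Type u) [Field K] [Field F] [Field L] [Algebra K F] [Algebra K L]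
    [Algebra.EssFiniteType K F] : IsNoetherianRing (F ⊗[K] L) := by
  have h1 : Algebra.EssFiniteType L (L ⊗[K] F) := inferInstance
  have h2 : IsNoetherianRing (L ⊗[K] F) := Algebra.EssFiniteType.isNoetherianRing L _
  exact isNoetherianRing_of_ringEquiv (L ⊗[K] F) (Algebra.TensorProduct.comm K L F).toRingEquiv

/-- Let K be a field, B an integral K-algebra of finite type with fraction field F, and L a Galois
extension of K with group Γ = Aut_K(L). Then F ⊗_K L has only finitely many prime ideals and Γ,
acting through the second factor, permutes them transitively: for prime ideals P, Q there is γ ∈ Γ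
with Q the preimage of P under id ⊗ γ. (The published statement is the geometric one, that the
points of an algebraic K-scheme X correspond to the Γ-orbits of points of X_L and that these orbits
are finite; it reduces to this algebraic statement by passing to the fibre over a point, and the
algebraic statement is what is proved.) -/
theorem result (K B L : Type u) [Field K]
    [CommRing B] [IsDomain B] [Algebra K B] [Algebra.FiniteType K B] [Field L] [Algebra K L] [IsGalois K L] :
    Finite (PrimeSpectrum (TensorProduct K (FractionRing B) L)) ∧
      ∀ P Q : PrimeSpectrum (TensorProduct K (FractionRing B) L), ∃ γ : L ≃ₐ[K] L,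
        Q.asIdeal = P.asIdeal.comap
          (Algebra.TensorProduct.map (AlgHom.id K (FractionRing B)) (γ : L →ₐ[K] L)) := by
  constructor
  · have h1 : Algebra.EssFiniteType K (FractionRing B) := inferInstance
    have h2 := isNoetherianRing K (FractionRing B) L
    have h3 := krullDimLE_zero K (FractionRing B) L
    have h4 : IsArtinianRing (FractionRing B ⊗[K] L) := isArtinianRing_iff_krullDimLE_zero.2 h3
    infer_instance
  · intro P Q
    obtain ⟨σ, hσ⟩ := VarietyB.BaseExt2.exists_comap_eq K (FractionRing B) L P.asIdeal Q.asIdeal (by
      have h1 : P.asIdeal.comap (algebraMap (FractionRing B) (FractionRing B ⊗[K] L)) = ⊥ :=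
        Ideal.eq_bot_of_prime _
      have h2 : Q.asIdeal.comap (algebraMap (FractionRing B) (FractionRing B ⊗[K] L)) = ⊥ :=
        Ideal.eq_bot_of_prime _
      rw [h1, h2])
    refine ⟨σ, hσ.trans ?_⟩
    ext x
    rfl

end Groth.Agent.S19477
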