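import Groth.Statements.S19478
import Groth.Agent.AbVar.K528.ExtSec
import Groth.Agent.AbVar.K528.Irr
import Groth.Agent.S1535
import Groth.Agent.S0354

set_option autoImplicit false
universe u
open CategoryTheory CategoryTheory.Limits MonoidalCategory CartesianMonoidalCategory MonObj GrpObj AlgebraicGeometry
attribute [local instance] HasDerivedCategory.standard
open AbVar

namespace Groth.Agent.S19478

open Groth.Agent.PerfC.RHomD Groth.Agent.Htor.H255.PullExt

theorem ext_unit (k : Type u) [Field k] (A : Over (Spec (CommRingCat.of k))) [GrpObj A] [IsProper A.hom]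
    [Smooth A.hom] [IsIntegral A.left] (g : ℕ) (hg : topologicalKrullDim ↥A.left = g)
    (i : Spec (CommRingCat.of k) ⟶ A.left) (hi : i ≫ A.hom = 𝟙 _) :
    (∀ p : ℤ, p ≠ g → IsZero ((DerivedCategory.homologyFunctor A.left.Modules p).obj
        ((RH (DerivedCategory.Q.obj (sg ((Scheme.Modules.pushforward i).obj
          (Coh.structureModule (Spec (CommRingCat.of k))))))).obj
            (DCoh.inD A.left (Coh.structureModule A.left))))) ∧
      Nonempty ((DerivedCategory.homologyFunctor A.left.Modules g).obj
        ((RH (DerivedCategory.Q.obj (sg ((Scheme.Modules.pushforward i).obj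
          (Coh.structureModule (Spec (CommRingCat.of k))))))).obj
            (DCoh.inD A.left (Coh.structureModule A.left))) ≅
        (Scheme.Modules.pushforward i).obj (Coh.structureModule (Spec (CommRingCat.of k)))) := by
  have hci : IsClosedImmersion i := by
    have : IsClosedImmersion (i ≫ A.hom) := by rw [hi]; infer_instance
    exact IsClosedImmersion.of_comp i A.hom
  have hln : IsLocallyNoetherian A.left := LocallyOfFiniteType.isLocallyNoetherian A.hom
  let _ : A.left.Over (Spec (CommRingCat.of k)) := ⟨A.hom⟩
  have hsm : Smooth (A.left ↘ (Spec (CommRingCat.of k))) := inferInstanceAs (Smooth A.hom)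
  have hreg : ∀ x : A.left, IsRegularLocalRing (A.left.presheaf.stalk x) :=
    fun x => Groth.Agent.S1535.result k A.left x
  let z : Spec (CommRingCat.of k) := (⊥ : PrimeSpectrum k)
  have hss : Subsingleton (Spec (CommRingCat.of k)) := inferInstanceAs (Subsingleton (PrimeSpectrum k))
  have hcl : IsClosed ({i z} : Set A.left) := by
    have h1 := i.isClosedEmbedding.isClosed_range
    have h2 : Set.range i = {i z} := by
      ext x
      constructor
      · rintro ⟨w, rfl⟩
        rw [Subsingleton.elim w z]
        rfl
      · rintro rfl
        exact ⟨z, rfl⟩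
    rwa [h2] at h1
  refine K528.ExtPt.ext_of_regular A.left hreg ?_ i z g ?_
  · rw [hg]
    exact WithBot.coe_lt_coe.mpr (ENat.coe_lt_top g)
  · rw [← hg]
    exact Groth.Agent.S0354.result k A (i z) hcl

/-- Let k be an algebraically closed field of characteristic zero and A an abelian variety over k (a
proper smooth k-group scheme with geometrically connected fibres) of dimension g, with unit section
e : Spec k → A, and let k(0) = e_*O_{Spec k} be the skyscraper sheaf at the unit point. Regard k(0)
as a complex in degree 0 and form RHom(k(0), O_A) in the derived category of O_A-modules (the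
derived functors involved are assumed to exist); its cohomology sheaves are the sheaves Ext^p(k(0),
O_A). Then Ext^p(k(0), O_A) = 0 for every natural number p < g, and Ext^g(k(0), O_A) is isomorphic
to k(0) (existence of an isomorphism). -/
theorem result (k : Type u) [Field k] [IsAlgClosed k] [CharZero k]
    (A : Over (Spec (CommRingCat.of k))) [GrpObj A] [IsProper A.hom] [Smooth A.hom] [GeometricallyConnected A.hom]
    (g : ℕ) (hg : topologicalKrullDim ↥A.left = g)
    [DCoh.HasLTensorCx ((HomologicalComplex.single A.left.Modules (ComplexShape.up ℤ) 0).obj ((Scheme.Modules.pushforward η[A].left).obj (Coh.structureModule (Spec (CommRingCat.of k)))))] [DCoh.HasRSheafHom ((HomologicalComplex.single A.left.Modules (ComplexShape.up ℤ) 0).obj ((Scheme.Modules.pushforward η[A].left).obj (Coh.structureModule (Spec (CommRingCat.of k)))))] :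
    (∀ p : ℕ, p < g → IsZero (DCoh.HD ((DCoh.RSheafHom ((HomologicalComplex.single A.left.Modules (ComplexShape.up ℤ) 0).obj ((Scheme.Modules.pushforward η[A].left).obj (Coh.structureModule (Spec (CommRingCat.of k)))))).obj (DCoh.inD A.left (Coh.structureModule A.left))) (p : ℤ))) ∧
      Nonempty ((DCoh.HD ((DCoh.RSheafHom ((HomologicalComplex.single A.left.Modules (ComplexShape.up ℤ) 0).obj ((Scheme.Modules.pushforward η[A].left).obj (Coh.structureModule (Spec (CommRingCat.of k)))))).obj (DCoh.inD A.left (Coh.structureModule A.left))) (g : ℤ)) ≅ ((Scheme.Modules.pushforward η[A].left).obj (Coh.structureModule (Spec (CommRingCat.of k))))) := by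
  have hint : IsIntegral A.left := K528.Irr.isIntegral_of_av A
  obtain ⟨h1, ⟨h2⟩⟩ := ext_unit k A g hg η[A].left (Over.w η[A])
  refine ⟨fun p hp => ?_, ?_⟩
  · refine (h1 p (by exact_mod_cast hp.ne)).of_iso ?_
    exact (DerivedCategory.homologyFunctor _ (p : ℤ)).mapIso ((rsIso _).app _)
  · exact ⟨(DerivedCategory.homologyFunctor _ (g : ℤ)).mapIso ((rsIso _).app _) ≪≫ h2⟩

end Groth.Agent.S19478
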