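import Groth.Statements.S19482
import Groth.Agent.VBCurve.K706.EssFin

set_option autoImplicit false
universe u
open CategoryTheory CategoryTheory.Limits AlgebraicGeometry
open VBCurve

namespace Groth.Agent.S19482

/-- Let X be a smooth proper integral curve over an algebraically closed field k. Say that a finite
locally free O_X-module E of rank r is essentially finite if it is slope-semistable of degree 0
(degree = χ(E) − r·χ(O_X); semistable: every finite locally free submodule of positive rank has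
degree ≤ 0) and there exist a finite locally free module G which is finite in the sense of Weil —
P(G) ≅ Q(G) for two distinct polynomials P ≠ Q with natural-number coefficients, where P(G) is the
direct sum over i of P_i copies of G^{⊗ i} — and sub-bundles F₂ ⊆ F₁ ⊆ G (monomorphisms F₂ → F₁ → G
whose cokernels are finite locally free), with F₁ and F₂ slope-semistable of degree 0, such that E ≅
F₁/F₂. If E₁ of rank r₁ and E₂ of rank r₂ are essentially finite, then E₁ ⊗ E₂ is finite locally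
free of rank r₁ r₂ and essentially finite. (The predicate is written out in full three times; the
curve is smooth, proper and integral of dimension one over an algebraically closed field, so
slope-semistability has its usual meaning.) -/
theorem result (k : Type u) [Field k] [IsAlgClosed k] (X : Scheme.{u}) [X.Over (Spec (CommRingCat.of k))]
    [IsIntegral X] [IsProper (X ↘ Spec (CommRingCat.of k))] [Smooth (X ↘ Spec (CommRingCat.of k))]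
    (hdim : topologicalKrullDim X = 1)
    (r₁ r₂ : ℕ) (E₁ E₂ : X.Modules) (hE₁ : FlatMod.IsFinLocFreeOfRank r₁ E₁) (hE₂ : FlatMod.IsFinLocFreeOfRank r₂ E₂)
    (h₁ : (Curv2.deg k X E₁ r₁ = 0 ∧ ModFun.IsSlopeSemistable k X E₁ r₁ ∧
      ∃ (s : ℕ) (G : X.Modules) (s₁ : ℕ) (F₁ : X.Modules) (s₂ : ℕ) (F₂ : X.Modules) (i₁ : F₁ ⟶ G) (i₂ : F₂ ⟶ F₁),
        FlatMod.IsFinLocFreeOfRank s G ∧
        (∃ P Q : Polynomial ℕ, P ≠ Q ∧ Nonempty ((∐ fun i : Fin (P.natDegree + 1) => ∐ fun _ : Fin (P.coeff ↑i) => CohB1.tensorPow G ↑i) ≅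
          (∐ fun i : Fin (Q.natDegree + 1) => ∐ fun _ : Fin (Q.coeff ↑i) => CohB1.tensorPow G ↑i))) ∧
        FlatMod.IsFinLocFreeOfRank s₁ F₁ ∧ FlatMod.IsFinLocFreeOfRank s₂ F₂ ∧ Mono i₁ ∧ Mono i₂ ∧
        FlatMod.IsFinLocFree (cokernel i₁) ∧ FlatMod.IsFinLocFree (cokernel i₂) ∧
        Curv2.deg k X F₁ s₁ = 0 ∧ ModFun.IsSlopeSemistable k X F₁ s₁ ∧
        Curv2.deg k X F₂ s₂ = 0 ∧ ModFun.IsSlopeSemistable k X F₂ s₂ ∧
        Nonempty (E₁ ≅ cokernel i₂)))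
    (h₂ : (Curv2.deg k X E₂ r₂ = 0 ∧ ModFun.IsSlopeSemistable k X E₂ r₂ ∧
      ∃ (s : ℕ) (G : X.Modules) (s₁ : ℕ) (F₁ : X.Modules) (s₂ : ℕ) (F₂ : X.Modules) (i₁ : F₁ ⟶ G) (i₂ : F₂ ⟶ F₁),
        FlatMod.IsFinLocFreeOfRank s G ∧
        (∃ P Q : Polynomial ℕ, P ≠ Q ∧ Nonempty ((∐ fun i : Fin (P.natDegree + 1) => ∐ fun _ : Fin (P.coeff ↑i) => CohB1.tensorPow G ↑i) ≅
          (∐ fun i : Fin (Q.natDegree + 1) => ∐ fun _ : Fin (Q.coeff ↑i) => CohB1.tensorPow G ↑i))) ∧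
        FlatMod.IsFinLocFreeOfRank s₁ F₁ ∧ FlatMod.IsFinLocFreeOfRank s₂ F₂ ∧ Mono i₁ ∧ Mono i₂ ∧
        FlatMod.IsFinLocFree (cokernel i₁) ∧ FlatMod.IsFinLocFree (cokernel i₂) ∧
        Curv2.deg k X F₁ s₁ = 0 ∧ ModFun.IsSlopeSemistable k X F₁ s₁ ∧
        Curv2.deg k X F₂ s₂ = 0 ∧ ModFun.IsSlopeSemistable k X F₂ s₂ ∧
        Nonempty (E₂ ≅ cokernel i₂))) :
    FlatMod.IsFinLocFreeOfRank (r₁ * r₂) (CohB1.tensorMod E₁ E₂) ∧
    (Curv2.deg k X (CohB1.tensorMod E₁ E₂) (r₁ * r₂) = 0 ∧ ModFun.IsSlopeSemistable k X (CohB1.tensorMod E₁ E₂) (r₁ * r₂) ∧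
      ∃ (s : ℕ) (G : X.Modules) (s₁ : ℕ) (F₁ : X.Modules) (s₂ : ℕ) (F₂ : X.Modules) (i₁ : F₁ ⟶ G) (i₂ : F₂ ⟶ F₁),
        FlatMod.IsFinLocFreeOfRank s G ∧
        (∃ P Q : Polynomial ℕ, P ≠ Q ∧ Nonempty ((∐ fun i : Fin (P.natDegree + 1) => ∐ fun _ : Fin (P.coeff ↑i) => CohB1.tensorPow G ↑i) ≅
          (∐ fun i : Fin (Q.natDegree + 1) => ∐ fun _ : Fin (Q.coeff ↑i) => CohB1.tensorPow G ↑i))) ∧
        FlatMod.IsFinLocFreeOfRank s₁ F₁ ∧ FlatMod.IsFinLocFreeOfRank s₂ F₂ ∧ Mono i₁ ∧ Mono i₂ ∧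
        FlatMod.IsFinLocFree (cokernel i₁) ∧ FlatMod.IsFinLocFree (cokernel i₂) ∧
        Curv2.deg k X F₁ s₁ = 0 ∧ ModFun.IsSlopeSemistable k X F₁ s₁ ∧
        Curv2.deg k X F₂ s₂ = 0 ∧ ModFun.IsSlopeSemistable k X F₂ s₂ ∧
        Nonempty ((CohB1.tensorMod E₁ E₂) ≅ cokernel i₂)) := by
  have C : K707.Base.Crv k X := K707.Base.Crv.of_smooth hdim
  have key : ∀ (r s₁ s₂ : ℕ) (E G F₁ F₂ : X.Modules) (i₁ : F₁ ⟶ G) (i₂ : F₂ ⟶ F₁) (s : ℕ),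
      FlatMod.IsFinLocFreeOfRank s G → K706.WeilX.WeilFin G → FlatMod.IsFinLocFreeOfRank s₁ F₁ →
      FlatMod.IsFinLocFreeOfRank s₂ F₂ → Mono i₁ → Mono i₂ → FlatMod.IsFinLocFree (cokernel i₁) →
      FlatMod.IsFinLocFree (cokernel i₂) → Curv2.deg k X F₁ s₁ = 0 → ModFun.IsSlopeSemistable k X F₁ s₁ →
      Curv2.deg k X F₂ s₂ = 0 → ModFun.IsSlopeSemistable k X F₂ s₂ → Nonempty (E ≅ cokernel i₂) →
      K706.EssFin.EF k E := by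
    intro r s₁ s₂ E G F₁ F₂ i₁ i₂ s hG hw hF₁ hF₂ hi₁ hi₂ hc₁ hc₂ d₁ q₁ d₂ q₂ he
    exact ⟨G, F₁, F₂, i₁, i₂, K707.Base.isFinLocFree_of_rank hG, hw, K707.Base.isFinLocFree_of_rank hF₁,
      K707.Base.isFinLocFree_of_rank hF₂, hi₁, hi₂, hc₁, hc₂, (K707.Deg.dg_of_rank k hF₁).trans d₁,
      (K707.Semi.ss_iff C hF₁).2 q₁, (K707.Deg.dg_of_rank k hF₂).trans d₂, (K707.Semi.ss_iff C hF₂).2 q₂, he⟩
  obtain ⟨d1, -, s, G, s₁, F₁, s₂, F₂, i₁, i₂, hG, hw, hF₁, hF₂, hi₁, hi₂, hc₁, hc₂, e1, q1, e2, q2, he⟩ := h₁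
  obtain ⟨d1', -, s', G', s₁', F₁', s₂', F₂', i₁', i₂', hG', hw', hF₁', hF₂', hi₁', hi₂', hc₁', hc₂', e1', q1', e2', q2', he'⟩ := h₂
  have k1 := key r₁ s₁ s₂ E₁ G F₁ F₂ i₁ i₂ s hG hw hF₁ hF₂ hi₁ hi₂ hc₁ hc₂ e1 q1 e2 q2 he
  have k2 := key r₂ s₁' s₂' E₂ G' F₁' F₂' i₁' i₂' s' hG' hw' hF₁' hF₂' hi₁' hi₂' hc₁' hc₂' e1' q1' e2' q2' he'
  rw [← K707.Deg.dg_of_rank k hE₁] at d1
  rw [← K707.Deg.dg_of_rank k hE₂] at d1'
  obtain ⟨t1, t2, t3, t4, t5⟩ := k1.tensor C (K707.Base.isFinLocFree_of_rank hE₁) (K707.Base.isFinLocFree_of_rank hE₂) d1 d1' k2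
  have hr : FlatMod.IsFinLocFreeOfRank (r₁ * r₂) (CohB1.tensorMod E₁ E₂) := by
    have h := K707.Base.isFinLocFreeOfRank_rk t1
    rw [t2, K707.Base.rk_of_rank hE₁, K707.Base.rk_of_rank hE₂] at h
    exact h
  obtain ⟨G, F₁, F₂, i₁, i₂, hG, hw, hF₁, hF₂, hi₁, hi₂, hc₁, hc₂, d₁, q₁, d₂, q₂, he⟩ := t5
  have rG := K707.Base.isFinLocFreeOfRank_rk hG
  have rF₁ := K707.Base.isFinLocFreeOfRank_rk hF₁
  have rF₂ := K707.Base.isFinLocFreeOfRank_rk hF₂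
  exact ⟨hr, (K707.Deg.dg_of_rank k hr).symm.trans t3, (K707.Semi.ss_iff C hr).1 t4, _, G, _, F₁, _, F₂, i₁, i₂, rG, hw,
    rF₁, rF₂, hi₁, hi₂, hc₁, hc₂, (K707.Deg.dg_of_rank k rF₁).symm.trans d₁, (K707.Semi.ss_iff C rF₁).1 q₁,
    (K707.Deg.dg_of_rank k rF₂).symm.trans d₂, (K707.Semi.ss_iff C rF₂).1 q₂, he⟩


end Groth.Agent.S19482
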