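import Groth.Statements.S19484
import Groth.Agent.CurvesA.CurveCd
import Groth.Agent.S0171
import Groth.Agent.S19483
import Mathlib.Algebra.Homology.DerivedCategory.Ext.ExactSequences

set_option autoImplicit false
universe u
open CategoryTheory CategoryTheory.Limits AlgebraicGeometry
open Curves

namespace Groth.Agent.S19484

open Abelian in
lemma HF_injective {X : Scheme.{u}} (S : ShortComplex (EtCoh.Ab X)) (hS : S.ShortExact) (q : ℕ)
    (h : Subsingleton (EtCoh.H X S.X₁ q)) : Function.Injective ((EtCoh.HF X q).map S.g).hom := by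
  rw [← AddMonoidHom.ker_eq_bot_iff, AddSubgroup.eq_bot_iff_forall]
  intro x hx
  obtain ⟨y, hy⟩ := Ext.covariant_sequence_exact₂ (X := (constantSheaf X.smallEtaleTopology
    AddCommGrpCat.{u+1}).obj (AddCommGrpCat.of (ULift ℤ))) hS (x : Ext _ S.X₂ q) hx
  have hy0 : y = 0 := Subsingleton.elim (α := EtCoh.H X S.X₁ q) _ _
  rw [hy0] at hy
  exact hy.symm.trans (Ext.zero_comp (C := EtCoh.Ab X) _ _ _ _ _)

open Abelian in
lemma HF_surjective {X : Scheme.{u}} (S : ShortComplex (EtCoh.Ab X)) (hS : S.ShortExact) (q : ℕ)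
    (h : Subsingleton (EtCoh.H X S.X₁ (q+1))) : Function.Surjective ((EtCoh.HF X q).map S.g).hom := by
  intro x
  obtain ⟨y, hy⟩ := Ext.covariant_sequence_exact₃ (X := (constantSheaf X.smallEtaleTopology
    AddCommGrpCat.{u+1}).obj (AddCommGrpCat.of (ULift ℤ))) hS (x : Ext _ S.X₃ q) (n₁ := q + 1) rfl
    (Subsingleton.elim (α := EtCoh.H X S.X₁ (q+1)) _ _)
  exact ⟨y, hy⟩

open Abelian in
lemma HF_f_injective_succ {X : Scheme.{u}} (S : ShortComplex (EtCoh.Ab X)) (hS : S.ShortExact) (q : ℕ)
    (h : Subsingleton (EtCoh.H X S.X₃ q)) :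
    Function.Injective ((EtCoh.HF X (q + 1)).map S.f).hom := by
  rw [← AddMonoidHom.ker_eq_bot_iff, AddSubgroup.eq_bot_iff_forall]
  intro x hx
  obtain ⟨y, hy⟩ := Ext.covariant_sequence_exact₁ (X := (constantSheaf X.smallEtaleTopology
    AddCommGrpCat.{u+1}).obj (AddCommGrpCat.of (ULift ℤ))) hS (x : Ext _ S.X₁ (q + 1)) hx rfl
  have hy0 : y = 0 := Subsingleton.elim (α := EtCoh.H X S.X₃ q) _ _
  rw [hy0] at hy
  exact hy.symm.trans (Ext.zero_comp (C := EtCoh.Ab X) _ _ _ _ _)

open Abelian in
lemma HF_f_surjective {X : Scheme.{u}} (S : ShortComplex (EtCoh.Ab X)) (hS : S.ShortExact) (q : ℕ)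
    (h : Subsingleton (EtCoh.H X S.X₃ q)) :
    Function.Surjective ((EtCoh.HF X q).map S.f).hom := by
  intro x
  obtain ⟨y, hy⟩ := Ext.covariant_sequence_exact₂ (X := (constantSheaf X.smallEtaleTopology
    AddCommGrpCat.{u+1}).obj (AddCommGrpCat.of (ULift ℤ))) hS (x : Ext _ S.X₂ q)
    (Subsingleton.elim (α := EtCoh.H X S.X₃ q) _ _)
  exact ⟨y, hy⟩

/-- Let k be a separably closed field and C a curve over k, that is a scheme of finite type over k of
dimension at most one (no connectedness, smoothness, separatedness or properness assumed). Let φ : F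
→ G be a morphism of torsion abelian sheaves on the small étale site of C which induces an
isomorphism on stalks at every geometric point of C lying over a generic point of an irreducible
component (a point admitting no proper generalization). Then the induced map H^q(C_ét, F) →
H^q(C_ét, G) is an isomorphism for all q > 1; if moreover φ is an epimorphism, it is an isomorphism
for q = 1 as well. (The published statement fixes one geometric point over each generic point; the
dimension is taken at most one here.) -/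
theorem result
    (k : Type u) [Field k] [IsSepClosed k] (C : Scheme.{u})
    (f : C ⟶ Spec (CommRingCat.of k)) [LocallyOfFiniteType f] [QuasiCompact f]
    (hdim : topologicalKrullDim C ≤ 1) (F G : EtCoh.Ab C) (hF : EtCoh.IsTorsion F) (hG : EtCoh.IsTorsion G)
    (φ : F ⟶ G)
    (hgen : ∀ (Ω : Type u) [Field Ω] [IsSepClosed Ω] (ξ : Spec (CommRingCat.of Ω) ⟶ C),
      (∀ x ∈ Set.range ξ.base, ∀ y : C, y ⤳ x → y = x) → IsIso ((EtCoh.stalk ξ).map φ)) :
    (∀ q : ℕ, 1 < q → IsIso ((EtCoh.HF C q).map φ)) ∧ (Epi φ → IsIso ((EtCoh.HF C 1).map φ)) := by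
  -- vanishing of sheaves without generic stalks
  have hvan : ∀ H : EtCoh.Ab C,
      (∀ (Ω : Type u) [Field Ω] [IsSepClosed Ω] (ξ : Spec (CommRingCat.of Ω) ⟶ C),
        (∀ x ∈ Set.range ξ.base, ∀ y : C, y ⤳ x → y = x) → IsZero ((EtCoh.stalk ξ).obj H)) →
      ∀ q, 0 < q → Subsingleton (EtCoh.H C H q) := by
    intro H hH q hq
    refine Groth.Agent.S0171.result C f H (fun x hx => ?_) q hq
    obtain ⟨Ω, _, _, ξ, hr, hne⟩ := hx
    by_contra hcl
    apply hne
    refine hH Ω ξ (fun x' hx' y hy => ?_)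
    have hx'' : x' ∈ ({x} : Set C) := hr ▸ hx'
    rw [Set.mem_singleton_iff] at hx''
    subst hx''
    by_contra hne'
    exact hcl (Groth.Agent.CurvesA.CurveCd.isClosed_of_specializes hdim y x' hy (Ne.symm hne'))
  have hker : ∀ q, 0 < q → Subsingleton (EtCoh.H C (kernel φ) q) := by
    refine hvan _ fun Ω _ _ ξ hξ => ?_
    have h1 := hgen Ω ξ hξ
    have h0 : (EtCoh.stalk ξ).map (kernel.ι φ) = 0 := by
      rw [← cancel_mono ((EtCoh.stalk ξ).map φ), zero_comp, ← Functor.map_comp, kernel.condition]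
      exact (EtCoh.stalk ξ).map_zero _ _
    exact IsZero.of_mono_eq_zero _ h0
  have hcok : ∀ q, 0 < q → Subsingleton (EtCoh.H C (cokernel φ) q) := by
    refine hvan _ fun Ω _ _ ξ hξ => ?_
    have h1 := hgen Ω ξ hξ
    have h0 : (EtCoh.stalk ξ).map (cokernel.π φ) = 0 := by
      rw [← cancel_epi ((EtCoh.stalk ξ).map φ), comp_zero, ← Functor.map_comp, cokernel.condition]
      exact (EtCoh.stalk ξ).map_zero _ _
    exact IsZero.of_epi_eq_zero _ h0
  let S₁ : ShortComplex (EtCoh.Ab C) := ShortComplex.mk (Abelian.image.ι φ) (cokernel.π φ)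
    (kernel.condition _)
  have hS₁ : S₁.ShortExact := { exact := ShortComplex.exact_kernel (cokernel.π φ) }
  let S₂ : ShortComplex (EtCoh.Ab C) := ShortComplex.mk (kernel.ι φ) (Abelian.factorThruImage φ) (by
    rw [← cancel_mono (Abelian.image.ι φ), zero_comp, Category.assoc, Abelian.image.fac,
      kernel.condition])
  have hS₂ : S₂.ShortExact := by
    refine { exact := ?_, mono_f := inferInstanceAs (Mono (kernel.ι φ)),
             epi_g := inferInstanceAs (Epi (Abelian.factorThruImage φ)) }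
    let α : S₂ ⟶ ShortComplex.mk (kernel.ι φ) φ (kernel.condition φ) :=
      { τ₁ := 𝟙 _
        τ₂ := 𝟙 _
        τ₃ := Abelian.image.ι φ
        comm₁₂ := (Category.id_comp _).trans (Category.comp_id _).symm
        comm₂₃ := (Category.id_comp _).trans (Abelian.image.fac φ).symm }
    have a1 : Epi α.τ₁ := inferInstanceAs (Epi (𝟙 _))
    have a2 : IsIso α.τ₂ := inferInstanceAs (IsIso (𝟙 _))
    have a3 : Mono α.τ₃ := inferInstanceAs (Mono (Abelian.image.ι φ))
    exact (ShortComplex.exact_iff_of_epi_of_isIso_of_mono α).2 (ShortComplex.exact_kernel φ)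
  have hfac : ∀ q, (EtCoh.HF C q).map φ =
      (EtCoh.HF C q).map (Abelian.factorThruImage φ) ≫ (EtCoh.HF C q).map (Abelian.image.ι φ) := by
    intro q
    rw [← Functor.map_comp, Abelian.image.fac]
  have hF1 : ∀ q, 0 < q → IsIso ((EtCoh.HF C q).map (Abelian.factorThruImage φ)) := by
    intro q hq
    rw [ConcreteCategory.isIso_iff_bijective]
    exact ⟨HF_injective S₂ hS₂ q (hker q hq), HF_surjective S₂ hS₂ q (hker (q + 1) (by omega))⟩
  have hF2 : ∀ q, 1 < q → IsIso ((EtCoh.HF C q).map (Abelian.image.ι φ)) := by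
    intro q hq
    obtain ⟨m, rfl⟩ : ∃ m, q = m + 1 := ⟨q - 1, by omega⟩
    rw [ConcreteCategory.isIso_iff_bijective]
    exact ⟨HF_f_injective_succ S₁ hS₁ m (hcok m (by omega)), HF_f_surjective S₁ hS₁ (m + 1) (hcok (m + 1) (by omega))⟩
  refine ⟨fun q hq => ?_, fun hepi => ?_⟩
  · rw [hfac q]
    have := hF1 q (by omega)
    have := hF2 q hq
    infer_instance
  · rw [hfac 1]
    have := hF1 1 (by omega)
    have h3 : IsIso (Abelian.image.ι φ) := by
      have : Epi (Abelian.image.ι φ) := by
        have : Epi (Abelian.factorThruImage φ ≫ Abelian.image.ι φ) := by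
          rw [Abelian.image.fac]; exact hepi
        exact epi_of_epi (Abelian.factorThruImage φ) _
      exact isIso_of_mono_of_epi _
    infer_instance

end Groth.Agent.S19484
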