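import Groth.Statements.S19485
import Groth.Agent.Crimp.K804.Root
import Mathlib.LinearAlgebra.Basis.Prod

set_option autoImplicit false
universe u
open Crimp

namespace Groth.Agent.S19485

/-- The criterion for closedness under multiplication on which the description of the stratum rests.
Over R = k⟦t⟧ with k an algebraically closed field of characteristic zero, let S̃ = k⟦x⟧ regarded as
an R-algebra through t ↦ x ^ 3, that is S̃ = R[x] / (x ^ 3 - t). Let m, n be natural numbers with m
not divisible by 3, and let g be a power series with nonzero constant term. Then the R-submodule of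
S̃ spanned by 1 and x ^ m g together with the ideal x ^ n S̃ is closed under multiplication if and
only if n ≤ 2m. (The published proposition goes on to describe the stratum of crimps with these
invariants as irreducible of dimension ⌊(n - m)/3⌋ with a normal form for g; only the closedness
criterion is stated here.) -/
theorem result {k : Type u} [Field k] [IsAlgClosed k] [CharZero k]
    (m n : ℕ) (hm : ¬ 3 ∣ m) (x g : W4c1hurwitzcpt.RootDisk 3 k)
    (hx : W4c1hurwitzcpt.RootDisk.val x = PowerSeries.X) (hg : PowerSeries.order (W4c1hurwitzcpt.RootDisk.val g) = 0)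
    (M : Submodule (PowerSeries k) (W4c1hurwitzcpt.RootDisk 3 k))
    (hM : M = Submodule.span (PowerSeries k) {1, x ^ m * g} ⊔
      (Ideal.span {x ^ n} : Ideal (W4c1hurwitzcpt.RootDisk 3 k)).restrictScalars (PowerSeries k)) :
    (∀ a ∈ M, ∀ b ∈ M, a * b ∈ M) ↔ n ≤ 2 * m := by
  subst hM
  have hmem : ∀ y : (W4c1hurwitzcpt.RootDisk 3 k), y ∈ Submodule.span (PowerSeries k) {1, x ^ m * g} ⊔
      (Ideal.span {x ^ n} : Ideal (W4c1hurwitzcpt.RootDisk 3 k)).restrictScalars (PowerSeries k) ↔
      ∃ (a b : (PowerSeries k)) (s : (W4c1hurwitzcpt.RootDisk 3 k)), y = a • 1 + b • (x ^ m * g) + x ^ n * s := by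
    intro y
    rw [Submodule.mem_sup]
    constructor
    · rintro ⟨z, hz, w, hw, rfl⟩
      obtain ⟨a, b, rfl⟩ := Submodule.mem_span_pair.mp hz
      obtain ⟨s, rfl⟩ := Ideal.mem_span_singleton.mp (Submodule.restrictScalars_mem _ _ _ |>.mp hw)
      exact ⟨a, b, s, rfl⟩
    · rintro ⟨a, b, s, rfl⟩
      exact ⟨a • 1 + b • (x ^ m * g), Submodule.mem_span_pair.mpr ⟨a, b, rfl⟩, x ^ n * s,
        (Submodule.restrictScalars_mem _ _ _).mpr (Ideal.mem_span_singleton.mpr ⟨s, rfl⟩), rfl⟩
  constructor
  · intro H
    by_contra hlt
    rw [not_le] at hlt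
    have hh : x ^ m * g ∈ Submodule.span (PowerSeries k) {1, x ^ m * g} ⊔
      (Ideal.span {x ^ n} : Ideal (W4c1hurwitzcpt.RootDisk 3 k)).restrictScalars (PowerSeries k) :=
      (hmem _).mpr ⟨0, 1, 0, by simp⟩
    obtain ⟨a, b, s, hs⟩ := (hmem _).mp (H _ hh _ hh)
    have e1 : a • (1 : (W4c1hurwitzcpt.RootDisk 3 k)) + b • (x ^ m * g) = x ^ m * g * (x ^ m * g) + - (x ^ n * s) := by
      rw [hs]; abel
    have hval : (W4c1hurwitzcpt.RootDisk.val (x ^ m * g * (x ^ m * g))).order = ((2 * m : ℕ) : ℕ∞) := by
      rw [map_mul, map_mul, map_pow, hx, PowerSeries.order_mul, PowerSeries.order_mul, hg,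
        PowerSeries.order_X_pow]
      push_cast
      ring
    have hval2 : ((2 * m : ℕ) : ℕ∞) < (W4c1hurwitzcpt.RootDisk.val (-(x ^ n * s))).order := by
      rw [map_neg, PowerSeries.order_neg, map_mul, map_pow, hx, PowerSeries.order_mul,
        PowerSeries.order_X_pow]
      exact lt_of_lt_of_le (by exact_mod_cast hlt) le_self_add
    have hval3 : (W4c1hurwitzcpt.RootDisk.val (a • (1 : (W4c1hurwitzcpt.RootDisk 3 k)) + b • (x ^ m * g))).order =
        ((2 * m : ℕ) : ℕ∞) := by
      rw [e1, map_add, PowerSeries.order_add_of_order_ne _ _ (by rw [hval]; exact hval2.ne), hval]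
      exact min_eq_left hval2.le
    have ha := K804.Root.order_smul (p := 3) a (1 : (W4c1hurwitzcpt.RootDisk 3 k))
    have hb := K804.Root.order_smul (p := 3) b (x ^ m * g : (W4c1hurwitzcpt.RootDisk 3 k))
    rw [map_one, PowerSeries.order_one, add_zero] at ha
    have hgo : (W4c1hurwitzcpt.RootDisk.val (x ^ m * g)).order = (m : ℕ∞) := by
      rw [map_mul, map_pow, hx, PowerSeries.order_mul, hg, PowerSeries.order_X_pow, add_zero]
    rw [hgo] at hb
    rw [map_add] at hval3
    have key : (W4c1hurwitzcpt.RootDisk.val (a • (1 : (W4c1hurwitzcpt.RootDisk 3 k)))).order = ((2 * m : ℕ) : ℕ∞) ∨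
        (W4c1hurwitzcpt.RootDisk.val (b • (x ^ m * g))).order = ((2 * m : ℕ) : ℕ∞) := by
      by_cases hne : (W4c1hurwitzcpt.RootDisk.val (a • (1 : (W4c1hurwitzcpt.RootDisk 3 k)))).order =
          (W4c1hurwitzcpt.RootDisk.val (b • (x ^ m * g))).order
      · -- impossible unless both are infinite
        rw [ha, hb] at hne
        cases hao : a.order with
        | top =>
          cases hbo : b.order with
          | top =>
            rw [PowerSeries.order_eq_top] at hao hbo
            rw [hao, hbo] at hval3
            simp at hval3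
            exact absurd hval3.symm (by exact_mod_cast ENat.natCast_ne_top (2 * m))
          | coe j =>
            rw [hao, hbo] at hne
            simp at hne
            exact absurd hne.symm (by exact_mod_cast ENat.natCast_ne_top (3 * j + m))
        | coe i =>
          cases hbo : b.order with
          | top =>
            rw [hao, hbo] at hne
            simp at hne
            exact absurd hne (by exact_mod_cast ENat.natCast_ne_top (3 * i))
          | coe j =>
            rw [hao, hbo] at hne
            exfalso
            apply hm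
            simp only [nsmul_eq_mul] at hne
            have : 3 * i = 3 * j + m := by exact_mod_cast hne
            omega
      · rw [PowerSeries.order_add_of_order_ne _ _ hne] at hval3
        rcases min_choice (W4c1hurwitzcpt.RootDisk.val (a • (1 : (W4c1hurwitzcpt.RootDisk 3 k)))).order
          (W4c1hurwitzcpt.RootDisk.val (b • (x ^ m * g))).order with h | h
        · rw [h] at hval3; exact Or.inl hval3
        · rw [h] at hval3; exact Or.inr hval3
    rw [ha, hb] at key
    apply hm
    rcases key with h | h
    · cases hao : a.order with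
      | top =>
        rw [hao] at h
        simp at h
        exact absurd h.symm (by exact_mod_cast ENat.natCast_ne_top (2 * m))
      | coe i =>
        rw [hao] at h
        simp only [nsmul_eq_mul] at h
        have : 3 * i = 2 * m := by exact_mod_cast h
        omega
    · cases hbo : b.order with
      | top =>
        rw [hbo] at h
        simp at h
        exact absurd h.symm (by exact_mod_cast ENat.natCast_ne_top (2 * m))
      | coe i =>
        rw [hbo] at h
        simp only [nsmul_eq_mul] at h
        have : 3 * i + m = 2 * m := by exact_mod_cast h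
        omega
  · intro hle y hy z hz
    obtain ⟨a, b, s, rfl⟩ := (hmem _).mp hy
    obtain ⟨a', b', s', rfl⟩ := (hmem _).mp hz
    rw [hmem]
    refine ⟨a * a', a * b' + b * a', ?_⟩
    obtain ⟨e, he⟩ := Nat.exists_eq_add_of_le hle
    refine ⟨a • s' + a' • s + b • (x ^ m * g * s') + b' • (x ^ m * g * s) + x ^ n * (s * s') +
      (b * b') • (x ^ e * (g * g)), ?_⟩
    simp only [Algebra.smul_def, map_mul, map_add, mul_one]
    have h2 : x ^ m * x ^ m = x ^ n * x ^ e := by rw [← pow_add, ← pow_add, ← two_mul, he]
    linear_combination (algebraMap (PowerSeries k) (W4c1hurwitzcpt.RootDisk 3 k) b * algebraMap (PowerSeries k) (W4c1hurwitzcpt.RootDisk 3 k) b' * (g * g)) * h2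

end Groth.Agent.S19485
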