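import Groth.Statements.S19486
import Groth.Agent.Crimp.K804.Root
import Mathlib.LinearAlgebra.Basis.Prod

set_option autoImplicit false
universe u
open Crimp

namespace Groth.Agent.S19486

/-- The emptiness of the stratum rests on the following computation. Over R = k⟦t⟧ with k an
algebraically closed field of characteristic zero, let S̃ = S̃₁ × R where S̃₁ = k⟦x⟧ is regarded as
an R-algebra through t ↦ x ^ 2, that is S̃₁ = R[x] / (x ^ 2 - t), with R embedded diagonally in the
product. Let m be odd, n > 2m, and let g be a power series with nonzero constant term. Then the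
R-submodule of S̃ spanned by 1 = (1, 1) and (x ^ m g, 0) together with the ideal x ^ n S̃₁ × 0 is
not closed under multiplication. (The published item concludes that the corresponding stratum of
crimps is empty; only this computation is stated here, with the ideal read as x ^ n S̃₁ × 0.) -/
theorem result {k : Type u} [Field k] [IsAlgClosed k] [CharZero k]
    (m n : ℕ) (hm : Odd m) (hmn : 2 * m < n) (x g : W4c1hurwitzcpt.RootDisk 2 k)
    (hx : W4c1hurwitzcpt.RootDisk.val x = PowerSeries.X) (hg : PowerSeries.order (W4c1hurwitzcpt.RootDisk.val g) = 0)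
    (M : Submodule (PowerSeries k) (W4c1hurwitzcpt.RootDisk 2 k × PowerSeries k))
    (hM : M = Submodule.span (PowerSeries k) {(1 : W4c1hurwitzcpt.RootDisk 2 k × PowerSeries k), (x ^ m * g, 0)} ⊔
      ((Ideal.span {x ^ n} : Ideal (W4c1hurwitzcpt.RootDisk 2 k)).restrictScalars (PowerSeries k)).prod ⊥) :
    ∃ a ∈ M, ∃ b ∈ M, a * b ∉ M := by
  subst hM
  have hh : ((x ^ m * g, 0) : (W4c1hurwitzcpt.RootDisk 2 k) × (PowerSeries k)) ∈ Submodule.span (PowerSeries k) {(1 : (W4c1hurwitzcpt.RootDisk 2 k) × (PowerSeries k)), (x ^ m * g, 0)} ⊔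
      ((Ideal.span {x ^ n} : Ideal (W4c1hurwitzcpt.RootDisk 2 k)).restrictScalars (PowerSeries k)).prod ⊥ :=
    Submodule.mem_sup_left (Submodule.subset_span (by simp))
  refine ⟨_, hh, _, hh, ?_⟩
  intro H
  rw [Submodule.mem_sup] at H
  obtain ⟨z, hz, w, hw, hzw⟩ := H
  obtain ⟨a, b, rfl⟩ := Submodule.mem_span_pair.mp hz
  obtain ⟨hw1, hw2⟩ := Submodule.mem_prod.mp hw
  obtain ⟨s, hs⟩ := Ideal.mem_span_singleton.mp (Submodule.restrictScalars_mem _ _ _ |>.mp hw1)
  rw [Submodule.mem_bot] at hw2
  have h2 := congrArg Prod.snd hzw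
  have h1 := congrArg Prod.fst hzw
  simp only [Prod.snd_add, Prod.smul_snd, Prod.snd_one, smul_eq_mul, mul_one, mul_zero, add_zero,
    hw2, Prod.mk_mul_mk] at h2
  simp only [Prod.fst_add, Prod.smul_fst, Prod.fst_one, Prod.mk_mul_mk, hs, h2, zero_smul,
    zero_add] at h1
  have e1 : b • (x ^ m * g) = x ^ m * g * (x ^ m * g) + - (x ^ n * s) := by
    rw [← h1]; abel
  have hval : (W4c1hurwitzcpt.RootDisk.val (x ^ m * g * (x ^ m * g))).order = ((2 * m : ℕ) : ℕ∞) := by
    rw [map_mul, map_mul, map_pow, hx, PowerSeries.order_mul, PowerSeries.order_mul, hg,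
      PowerSeries.order_X_pow]
    push_cast
    ring
  have hval2 : ((2 * m : ℕ) : ℕ∞) < (W4c1hurwitzcpt.RootDisk.val (-(x ^ n * s))).order := by
    rw [map_neg, PowerSeries.order_neg, map_mul, map_pow, hx, PowerSeries.order_mul,
      PowerSeries.order_X_pow]
    exact lt_of_lt_of_le (by exact_mod_cast hmn) le_self_add
  have hval3 : (W4c1hurwitzcpt.RootDisk.val (b • (x ^ m * g))).order =
      ((2 * m : ℕ) : ℕ∞) := by
    rw [e1, map_add, PowerSeries.order_add_of_order_ne _ _ (by rw [hval]; exact hval2.ne), hval]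
    exact min_eq_left hval2.le
  have hb := K804.Root.order_smul (p := 2) b (x ^ m * g : (W4c1hurwitzcpt.RootDisk 2 k))
  have hgo : (W4c1hurwitzcpt.RootDisk.val (x ^ m * g)).order = (m : ℕ∞) := by
    rw [map_mul, map_pow, hx, PowerSeries.order_mul, hg, PowerSeries.order_X_pow, add_zero]
  rw [hgo, hval3] at hb
  cases hbo : b.order with
  | top =>
    rw [hbo] at hb
    simp at hb
    exact absurd hb (by exact_mod_cast ENat.natCast_ne_top (2 * m))
  | coe i =>
    rw [hbo] at hb
    simp only [nsmul_eq_mul] at hb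
    have : 2 * m = 2 * i + m := by exact_mod_cast hb
    obtain ⟨q, hq⟩ := hm
    omega

end Groth.Agent.S19486
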