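import Groth.Statements.S19491
import Groth.Agent.AbVar.K528.DualInd
import Groth.Agent.AbVar.K528.PushSes
import Groth.Agent.AbVar.K528.PushITD
import Groth.Agent.AbVar.K528.MateSum
import Groth.Agent.Divis.NormAmple

set_option autoImplicit false
universe u
open CategoryTheory CategoryTheory.Limits MonoidalCategory CartesianMonoidalCategory MonObj GrpObj AlgebraicGeometry Opposite
attribute [local instance] HasDerivedCategory.standard
open AbVar

namespace Groth.Agent.S19491

open Groth.Agent K528.PushIT K528.PushITD K528.PushSes K528.DualInd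
open scoped Groth.Agent.Dcoh.MonCat

/-- A map on cohomology which is zero is zero for the functor `Hf`. -/
theorem Hf_map_eq_zero {Y : Scheme.{u}} {M N : Y.Modules} (φ : M ⟶ N) (i : ℕ)
    (h : Sheaf.H.map ((SheafOfModules.toSheaf Y.ringCatSheaf).map φ) i = 0) :
    (Hf Y i).map φ = 0 := by
  ext x
  exact DFunLike.congr_fun h x

/-- Let k be an algebraically closed field of characteristic p > 0, A an abelian variety over k (a
proper smooth k-group scheme with geometrically connected fibres) of dimension g, (A^t, φ) a dual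
abelian variety of A for the fppf topology with A^t an abelian variety, and P an invertible module
on A ×_k A^t whose class is a Poincaré class; let P^t be its pullback to A^t ×_k A along the swap
and Φ_{P^t} = Rpr_{2,*}(Lpr_1^*(−) ⊗^L P^t) : D(O_{A^t}) → D(O_A) the Fourier–Mukai functor (the
derived functors involved, in both directions, are assumed to exist). For an O_{A^t}-module L write
L̂ for (any O_A-module isomorphic to) H^0(Φ_{P^t}(L)) and L̂^∨ = Hom_{O_A}(L̂, O_A) (the sheaf Hom
as right adjoint of L̂ ⊗ −, assumed to exist). Let (Ω_e)_{e ∈ ℕ} be an inverse system of coherent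
O_A-modules satisfying the Mittag-Leffler condition and Ω = lim_e Ω_e. Suppose that for every e and
every ample invertible O_{A^t}-module L there is m₀ such that for all m ≥ m₀, every choice of
\widehat{L^{⊗m}} and every i > 0 the map H^i(A, Ω ⊗ \widehat{L^{⊗m}}^∨) → H^i(A, Ω_e ⊗
\widehat{L^{⊗m}}^∨) induced by the projection Ω → Ω_e is zero. Then for every ample invertible
O_{A^t}-module L and every i > 0 the cohomology H^i(A, Ω ⊗ L̂^∨) vanishes. (In the published
condition (2) the source of the map is printed with the transform of L instead of L^{⊗m}; the form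
here, with the transform of L^{⊗m} on both sides, is the one the printed argument uses and the one
appearing in the equivalent characterisation of GV-inverse systems.) -/
theorem result (k : Type u) [Field k] [IsAlgClosed k]
    (p : ℕ) [Fact p.Prime] [CharP k p]
    (A At : Over (Spec (CommRingCat.of k))) [GrpObj A] [IsProper A.hom] [Smooth A.hom] [GeometricallyConnected A.hom]
    [GrpObj At] [IsProper At.hom] [Smooth At.hom] [GeometricallyConnected At.hom]
    (φ : ∀ T : Over (Spec (CommRingCat.of k)), PicF.Cl (PicF.XT A.hom T) → (T ⟶ At))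
    (hφ : AbDual.IsDualAV Scheme.fppfPrecoverage A At φ)
    (P : (pullback A.hom At.hom).Modules) (hP : PicF.IsInvertible P)
    (hPξ : AbDual.IsPoincareCl A At φ (PicF.cl P))
    (g : ℕ) (hg : topologicalKrullDim ↥A.left = g)
    [DCoh.HasLpull (pullback.fst A.hom At.hom)] [DCoh.HasLTensorMod P] [DCoh.HasRpush (pullback.snd A.hom At.hom)]
    [DCoh.HasLpull (pullback.fst At.hom A.hom)]
    [DCoh.HasLTensorMod ((Scheme.Modules.pullback (pullbackSymmetry At.hom A.hom).hom).obj P)]
    [DCoh.HasRpush (pullback.snd At.hom A.hom)]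
    (Ω : ℕᵒᵖ ⥤ A.left.Modules) (hΩ : ∀ n : ℕᵒᵖ, Coh.IsCoh (Ω.obj n))
    (hML : ∀ e : ℕ, ∃ (d : ℕ) (hd : e ≤ d), ∀ (d' : ℕ) (hd' : d ≤ d'),
      imageSubobject (Ω.map (homOfLE (hd.trans hd')).op) = imageSubobject (Ω.map (homOfLE hd).op))
    (h2 : ∀ (e : ℕ) (L : At.left.Modules), PicF.IsInvertible L → CohB1.IsAmple L →
      ∃ m₀ : ℕ, ∀ (m : ℕ), m₀ ≤ m → ∀ (Lhat : A.left.Modules)
        (eLhat : Lhat ≅ DCoh.HD ((DCoh.Lpull (pullback.fst At.hom A.hom) ⋙ DCoh.LTensorMod ((Scheme.Modules.pullback (pullbackSymmetry At.hom A.hom).hom).obj P) ⋙ DCoh.Rpush (pullback.snd At.hom A.hom)).obj (DCoh.inD At.left (CohB1.tensorPow L m))) 0)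
        [DCoh.HasSheafHom Lhat] (i : ℕ), 0 < i →
        Sheaf.H.map ((SheafOfModules.toSheaf A.left.ringCatSheaf).map
          ((DCoh.tensorBi.map (limit.π Ω (op e))).app ((DCoh.sheafHom Lhat).obj (Coh.structureModule A.left)))) i = 0)
    (L : At.left.Modules) (hL : PicF.IsInvertible L) (hLa : CohB1.IsAmple L)
    (Lhat : A.left.Modules) (eLhat : Lhat ≅ DCoh.HD ((DCoh.Lpull (pullback.fst At.hom A.hom) ⋙ DCoh.LTensorMod ((Scheme.Modules.pullback (pullbackSymmetry At.hom A.hom).hom).obj P) ⋙ DCoh.Rpush (pullback.snd At.hom A.hom)).obj (DCoh.inD At.left L)) 0)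
    [DCoh.HasSheafHom Lhat]
    (i : ℕ) (hi : 0 < i) :
    Subsingleton (Coh.HH A.left ((DCoh.tensorBi.obj (limit Ω)).obj ((DCoh.sheafHom Lhat).obj (Coh.structureModule A.left))) i) := by
  have hconn : ConnectedSpace A.left :=
    have : Subsingleton (Spec (CommRingCat.of k)) := inferInstanceAs (Subsingleton (PrimeSpectrum k))
    GeometricallyConnected.connectedSpace_of_subsingleton A.hom
  have hconnt : ConnectedSpace At.left :=
    have : Subsingleton (Spec (CommRingCat.of k)) := inferInstanceAs (Subsingleton (PrimeSpectrum k))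
    GeometricallyConnected.connectedSpace_of_subsingleton At.hom
  have hgi : GeometricallyIntegral A.hom := K510.TorsGen.geometricallyIntegral_of_smooth_connected A
  have hgit : GeometricallyIntegral At.hom := K510.TorsGen.geometricallyIntegral_of_smooth_connected At
  let _ : A.left.Over (Spec (CommRingCat.of k)) := ⟨A.hom⟩
  have hprop : IsProper (A.left ↘ Spec (CommRingCat.of k)) := inferInstanceAs (IsProper A.hom)
  have hN : IsNoetherian A.left := VarietyA.TwistExist.isNoetherian k A.left
  have hNs : TopologicalSpace.NoetherianSpace A.left := inferInstance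
  have hinj : HasInjectiveResolutions (pullback At.hom A.hom).Modules :=
    Dcoh.DerSch.hasInjectiveResolutions _
  have hPt : PicF.IsInvertible (Pt P) := Fdesc.LocGen.isInvertible_pullback _ hP
  have hKf : FlatMod.IsFlatOver (pullback.fst At.hom A.hom) (Pt P) :=
    K456.FlatInv.isFlatOver_of_isInvertible _ hPt
  let p := pullback.fst At.hom A.hom
  let q := pullback.snd At.hom A.hom
  have hgood : ∀ M : At.left.Modules, CohB1.IsAmple M → Good p q (Pt P) M := fun M hM =>
    { flf := K456.FlatInv.isFinLocFree_of_isInvertible hM.1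
      van := fun i hi => (K528.PushIT.main hφ hP hPξ M hM).1 i hi }
  have hflf : ∀ {Q : At.left.Modules}, Good p q (Pt P) Q → FlatMod.IsFinLocFree ((N p q (Pt P)).obj Q) :=
    fun hQ => hQ.isFinLocFree hPt
  let 𝒢 : A.left.Modules → Prop := fun V => ∃ Q : At.left.Modules, Good p q (Pt P) Q ∧
    Nonempty (ExactPairing ((N p q (Pt P)).obj Q) V)
  have key := K528.DualInd.main k g hg.le Ω hΩ hML 𝒢 ?_ ?_
  · obtain ⟨j, rfl⟩ : ∃ j, i = j + 1 := ⟨i - 1, by omega⟩
    refine key j _ ⟨L, hgood L hLa, ?_⟩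
    obtain ⟨e⟩ := nonempty_HD hP L hL
    exact K528.MateSum.nonempty_pairing (hflf (hgood L hLa)) (eLhat ≪≫ e)
  · rintro V ⟨Q, hQ, ⟨hV⟩⟩
    exact ⟨Dcoh.DualFLF.isFinLocFree_dual (hflf hQ) V, _, ⟨hV⟩⟩
  · rintro V ⟨Q, hQ, ⟨hV⟩⟩ e
    obtain ⟨m₀, h2'⟩ := h2 e L hL hLa
    obtain ⟨n, hn, S, hS1, hS, hE, hQ1, hSN, hLn, κ, hκ, a, b, hab⟩ :=
      exists_step (L := L) hKf hLa
        (fun n hn => hgood _ (Divis.NormAmple.isAmple_tensorPow hLa hn)) m₀ hQ
    subst hS1
    obtain ⟨W, ⟨hW⟩⟩ := Dcoh.DualFLF.exists_exactPairing (hflf hE)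
    obtain ⟨V₁, ⟨hV₁⟩⟩ := Dcoh.DualFLF.exists_exactPairing (hflf hQ1)
    have hsh : DCoh.HasSheafHom ((N p q (Pt P)).obj (CohB1.tensorPow L n)) :=
      inferInstanceAs ((tensorLeft ((N p q (Pt P)).obj (CohB1.tensorPow L n))).IsLeftAdjoint)
    obtain ⟨hVn⟩ := K528.MateSum.nonempty_pairing (hflf hLn) (Iso.refl _)
    let i1 : HasRightDual (S.map (N p q (Pt P))).X₁ := { rightDual := V, exact := hV }
    let i2 : HasRightDual (S.map (N p q (Pt P))).X₂ := { rightDual := W, exact := hW }
    let i3 : HasRightDual (S.map (N p q (Pt P))).X₃ := { rightDual := V₁, exact := hV₁ }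
    let i4 : HasRightDual ((N p q (Pt P)).obj (CohB1.tensorPow L n)) := { rightDual := _, exact := hVn }
    have key := K685.DualSes.shortExact_mate (S.map (N p q (Pt P))) (K685.DualEmb.epi_whiskerLeft hSN)
      (K685.DualEmb.exact_whiskerLeft hSN (hflf hQ1)) (K685.DualEmb.mono_whiskerRight hSN (hflf hQ1))
    refine ⟨V₁, W, _, _, _, ⟨_, hQ1, ⟨hV₁⟩⟩, key, fun j => ?_⟩
    have hadd : (N p q (Pt P)).Additive := inferInstance
    have hab' : ∑ i, (N p q (Pt P)).map (a i) ≫ (N p q (Pt P)).map (b i) =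
        𝟙 ((N p q (Pt P)).obj S.X₂) := by
      rw [← (N p q (Pt P)).map_id, ← hab, (N p q (Pt P)).map_sum]
      exact Finset.sum_congr rfl fun i _ => ((N p q (Pt P)).map_comp _ _).symm
    have hmate := K528.MateSum.sum_mate_comp (A := (S.map (N p q (Pt P))).X₂)
      (fun i => (N p q (Pt P)).map (a i)) (fun i => (N p q (Pt P)).map (b i)) hab'
    refine K528.DualGen.zero_of_retract DCoh.tensorBi (Hf A.left) (limit.π Ω (op e)) (j + 1) ?_ _ _ hmate
    refine Hf_map_eq_zero _ _ ?_
    obtain ⟨t⟩ := nonempty_HD hP (CohB1.tensorPow L n) (Fdesc.LocGen.isInvertible_tensorPow hL n)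
    exact h2' n hn _ t.symm (j + 1) (Nat.succ_pos j)

end Groth.Agent.S19491
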