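import Groth.Statements.S19492
import Groth.Agent.S1626
import Groth.Agent.CalgB.ProjField
import Groth.Agent.Sga7.H756.NormStalk
import Groth.Agent.Sga5.AmpleFib
import Groth.Agent.VarietyA.AmpleField

set_option autoImplicit false
universe u
open CategoryTheory AlgebraicGeometry
open Variety

namespace Groth.Agent.S19492

/-- Over an algebraically closed field k, let X be an irreducible affine variety (an integral affine
k-scheme of finite type). Then X is an open subvariety of an irreducible projective variety: there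
are an integral k-scheme Y admitting a closed immersion over k into a projective space Pⁿ_k and an
open immersion j : X → Y over k. If X is normal (every local ring an integrally closed domain), then
Y can be chosen normal as well. -/
theorem result (k : Type u) [Field k]
    [IsAlgClosed k] (X : Scheme.{u}) (f : X ⟶ Spec (CommRingCat.of k)) [IsAffine X]
    [AlgebraicGeometry.IsIntegral X] [LocallyOfFiniteType f] :
    ∃ (Y : Scheme.{u}) (g : Y ⟶ Spec (CommRingCat.of k)) (n : ℕ) (c : Y ⟶ CohB1.ProjSpace n k)
      (j : X ⟶ Y), AlgebraicGeometry.IsIntegral Y ∧ IsClosedImmersion c ∧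
      c ≫ CohB1.ProjSpace.toSpec n k = g ∧ IsOpenImmersion j ∧ j ≫ g = f ∧
      (Pi1.IsNormalScheme X → Pi1.IsNormalScheme Y) := by
  have hqf : QuasiCompact f := inferInstance
  obtain ⟨d, i, hi, hqc, hik⟩ := CalgB.ProjField.exists_immersion_projSpace f
    (CalgB.ProjField.exists_isAmple_of_isAffine X)
  have hprop : IsProper (CohB1.ProjSpace.toSpec d k) := VarietyB.ProjSpaceProper.isProper_toSpec d k
  let Y₀ := i.image
  let j : X ⟶ Y₀ := i.toImage
  let c₀ : Y₀ ⟶ CohB1.ProjSpace d k := i.imageι
  have hj : IsOpenImmersion j := inferInstance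
  have hsep : IsSeparated (c₀ ≫ CohB1.ProjSpace.toSpec d k) := inferInstance
  have hjc : j ≫ c₀ = i := i.toImage_imageι
  have hja : IsAffineHom j := by
    have h1 : IsAffineHom (j ≫ c₀ ≫ CohB1.ProjSpace.toSpec d k) := inferInstance
    exact IsAffineHom.of_comp j (c₀ ≫ CohB1.ProjSpace.toSpec d k)
  have hY₀ : IsLocallyNoetherian Y₀ :=
    LocallyOfFiniteType.isLocallyNoetherian (c₀ ≫ CohB1.ProjSpace.toSpec d k)
  have hnag : ∀ (U : Y₀.Opens), IsAffineOpen U → CAlg.IsNagata Γ(Y₀, U) := by
    intro U hU
    let φ : k →+* Γ(Y₀, U) := ((c₀ ≫ CohB1.ProjSpace.toSpec d k).appLE ⊤ U le_top).hom.comp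
      (Scheme.ΓSpecIso (CommRingCat.of k)).inv.hom
    have hφ : φ.FiniteType := by
      refine RingHom.FiniteType.comp ?_ ?_
      · exact (c₀ ≫ CohB1.ProjSpace.toSpec d k).finiteType_appLE (isAffineOpen_top _) hU _
      · exact RingHom.FiniteType.of_surjective _
          (Scheme.ΓSpecIso (CommRingCat.of k)).symm.commRingCatIsoToRingEquiv.surjective
    let := φ.toAlgebra
    have : Algebra.FiniteType k Γ(Y₀, U) := hφ
    exact Groth.Agent.S0566.result k (Groth.Agent.S1626.isNagata_field k) Γ(Y₀, U)
  have hfin : IsFinite j.fromNormalization :=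
    Groth.Agent.CurvesA.NormFinite.isFinite_fromNormalization j (fun U hU S _ _ _ _ =>
      Groth.Agent.S0573.result Γ(Y₀, U) (hnag U hU) S)
  let g := j.fromNormalization ≫ c₀ ≫ CohB1.ProjSpace.toSpec d k
  have hg : IsProper g := inferInstance
  have hL : ∃ L : j.normalization.Modules, CohB1.IsAmple L := by
    have h1 := VarietyA.AmpleField.isAmple_twistProjSpace d k
    have h2 := Sga5.AmpleFib.isAmple_pullback c₀ h1
    exact ⟨_, Sga5.AmpleFib.isAmple_pullback j.fromNormalization h2⟩
  obtain ⟨n, c, hc, hcg⟩ := CalgB.ProjField.exists_closedImmersion_projSpace g hL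
  refine ⟨j.normalization, g, n, c, j.toNormalization, inferInstance, hc, hcg, inferInstance, ?_, ?_⟩
  · have h1 : j.toNormalization ≫ j.fromNormalization = j := j.toNormalization_fromNormalization
    calc j.toNormalization ≫ g
        = (j.toNormalization ≫ j.fromNormalization) ≫ c₀ ≫ CohB1.ProjSpace.toSpec d k := by
          rw [Category.assoc]
      _ = (j ≫ c₀) ≫ CohB1.ProjSpace.toSpec d k := by rw [h1, Category.assoc]
      _ = f := by rw [hjc, hik]
  · intro hX z
    exact ⟨inferInstance, Sga7.H756.NormStalk.isIntegrallyClosed_stalk j (fun x => (hX x).2) z⟩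

end Groth.Agent.S19492
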