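import Groth.Statements.S19493
import Groth.Agent.EtHull.K991.MaxPt

set_option autoImplicit false
universe u
open CategoryTheory AlgebraicGeometry
open EtHull

namespace Groth.Agent.S19493

/-- Let f : S' → S be a morphism of locally Noetherian schemes which is integral, radicial (universally
injective) and surjective, and which matches embedded points: a point s' of S' is an embedded
associated point of O_{S'} (an associated point that is a proper specialization of another
associated point) if and only if f(s') is an embedded associated point of O_S. Let a : X → S be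
faithfully flat, g : E → S étale and u : X → E a morphism with u ≫ g = a, so that X → E → S is a
factorization of a through an étale S-scheme. Let E' → S' be the base change of g along f, with
projection φ : E' → E, and u' : X' → E' the base change of u along φ (so X' = X ×_S S'). Then u is
scheme-theoretically dominant if and only if u' is. (The source allows algebraic spaces; schemes
here.) -/
theorem result {X E S S' E' X' : Scheme.{u}}
    [IsLocallyNoetherian S] [IsLocallyNoetherian S'] (f : S' ⟶ S) [IsIntegralHom f]
    [UniversallyInjective f] [Surjective f]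
    (hemb : ∀ s' : S', (s' ∈ AssSch.Ass (Coh.structureModule S') ∧ ∃ t ∈ AssSch.Ass (Coh.structureModule S'), t ⤳ s' ∧ t ≠ s') ↔
      (f.base s' ∈ AssSch.Ass (Coh.structureModule S) ∧ ∃ t ∈ AssSch.Ass (Coh.structureModule S), t ⤳ f.base s' ∧ t ≠ f.base s'))
    (a : X ⟶ S) [Flat a] [Surjective a] (g : E ⟶ S) [Etale g] (u : X ⟶ E) (hu : u ≫ g = a)
    (g' : E' ⟶ S') (φ : E' ⟶ E) (hE : IsPullback φ g' g f)
    (u' : X' ⟶ E') (ψ : X' ⟶ X) (hX : IsPullback ψ u' u φ) :
    IsSchemeTheoreticallyDominant u ↔ IsSchemeTheoreticallyDominant u' := by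
  have hEN : IsLocallyNoetherian E := LocallyOfFiniteType.isLocallyNoetherian g
  have hg' : Etale g' := MorphismProperty.of_isPullback hE ‹Etale g›
  have hEN' : IsLocallyNoetherian E' := LocallyOfFiniteType.isLocallyNoetherian g'
  have hu1 : Flat u := K991.MaxPt.flat_of_comp_etale u g (hu ▸ ‹Flat a›)
  have hu2 : Flat u' := MorphismProperty.of_isPullback hX hu1
  rw [K991.DomCrit.dominant_iff u, K991.DomCrit.dominant_iff u']
  have hφs : Function.Surjective φ := by
    have : Surjective φ := MorphismProperty.of_isPullback hE.flip ‹Surjective f›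
    exact φ.surjective
  have hcomm : ∀ e' : E', f (g' e') = g (φ e') := by
    intro e'
    rw [← Scheme.Hom.comp_apply, ← Scheme.Hom.comp_apply, hE.w]
  -- `f` is a homeomorphism, so it preserves and reflects specializations
  have hcl : Topology.IsClosedEmbedding f :=
    .of_continuous_injective_isClosedMap f.continuous
      f.injective f.isClosedMap
  have hmax : ∀ s' : S', K991.MaxPt.IsMaxPt s' ↔ K991.MaxPt.IsMaxPt (f s') := by
    intro s'
    constructor
    · intro h y hy
      obtain ⟨y', rfl⟩ := f.surjective y
      rw [h y' (hcl.isInducing.specializes_iff.mp hy)]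
    · intro h y hy
      exact hcl.injective (h _ (hy.map f.continuous))
  have hass : ∀ s' : S', s' ∈ K991.DomCrit.AssPt S' ↔ f s' ∈ K991.DomCrit.AssPt S := by
    intro s'
    have h1 := hemb s'
    simp only [K991.DomCrit.mem_Ass_iff] at h1
    rw [K991.MaxPt.mem_assPt_iff s', K991.MaxPt.mem_assPt_iff (f s'), hmax]
    exact or_congr Iff.rfl h1
  have hrange : ∀ e' : E', e' ∈ Set.range u' ↔ φ e' ∈ Set.range u := by
    intro e'
    constructor
    · rintro ⟨x', rfl⟩
      exact ⟨ψ x', by rw [← Scheme.Hom.comp_apply, ← Scheme.Hom.comp_apply, hX.w]⟩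
    · rintro ⟨x, hx⟩
      obtain ⟨x', -, hx'⟩ := Scheme.exists_preimage_of_isPullback hX x e' hx
      exact ⟨x', hx'⟩
  constructor
  · intro h e' he'
    rw [hrange]
    apply h
    rw [K991.DomCrit.mem_assPt_iff_of_etale g, ← hcomm, ← hass,
      ← K991.DomCrit.mem_assPt_iff_of_etale g']
    exact he'
  · intro h e he
    obtain ⟨e', rfl⟩ := hφs e
    rw [← hrange]
    apply h
    rw [K991.DomCrit.mem_assPt_iff_of_etale g', hass, hcomm,
      ← K991.DomCrit.mem_assPt_iff_of_etale g]
    exact he

end Groth.Agent.S19493
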