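import Groth.Statements.S19494
import Groth.Agent.EtHull.K991.MaxLemma

set_option autoImplicit false
open CategoryTheory AlgebraicGeometry
universe u
open EtHull

namespace Groth.Agent.S19494

/-- Let S be a Noetherian scheme all of whose local rings are geometrically unibranch and whose
structure sheaf has no embedded associated points, and let f : X → S be flat, surjective and of
finite presentation. Call an admissible factorization a factorization X → E → S of f with E → S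
étale and affine and X → E scheme-theoretically dominant. Then any two admissible factorizations X →
E₁ → S and X → E₂ → S have an infimum: an admissible factorization X → E → S together with
compatible S-morphisms E₁ → E and E₂ → E, such that every admissible factorization X → E' → S
receiving compatible S-morphisms E₁ → E' and E₂ → E' admits a compatible morphism E → E'. (The
source allows X to be an algebraic space; X is a scheme here.) -/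
theorem result {X S : Scheme.{u}} [IsNoetherian S]
    (hS : ∀ s : S, CAlg2.IsGeomUnibranch (S.presheaf.stalk s))
    (hemb : AssSch.NoEmbedded (Coh.structureModule S))
    (f : X ⟶ S) [Flat f] [Surjective f] [LocallyOfFinitePresentation f] [QuasiCompact f]
    [QuasiSeparated f]
    (E₁ E₂ : Scheme.{u}) (g₁ : E₁ ⟶ S) (g₂ : E₂ ⟶ S) (u₁ : X ⟶ E₁) (u₂ : X ⟶ E₂)
    [Etale g₁] [Etale g₂] [IsAffineHom g₁] [IsAffineHom g₂]
    [IsSchemeTheoreticallyDominant u₁] [IsSchemeTheoreticallyDominant u₂]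
    (h₁ : u₁ ≫ g₁ = f) (h₂ : u₂ ≫ g₂ = f) :
    ∃ (E : Scheme.{u}) (g : E ⟶ S) (u : X ⟶ E) (v₁ : E₁ ⟶ E) (v₂ : E₂ ⟶ E),
      Etale g ∧ IsAffineHom g ∧ IsSchemeTheoreticallyDominant u ∧ u ≫ g = f ∧
      u₁ ≫ v₁ = u ∧ u₂ ≫ v₂ = u ∧ v₁ ≫ g = g₁ ∧ v₂ ≫ g = g₂ ∧
      ∀ (E' : Scheme.{u}) (g' : E' ⟶ S) (u' : X ⟶ E') (w₁ : E₁ ⟶ E') (w₂ : E₂ ⟶ E'),
        Etale g' → IsAffineHom g' → IsSchemeTheoreticallyDominant u' → u' ≫ g' = f →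
        u₁ ≫ w₁ = u' → u₂ ≫ w₂ = u' → w₁ ≫ g' = g₁ → w₂ ≫ g' = g₂ →
        ∃ w : E ⟶ E', u ≫ w = u' ∧ v₁ ≫ w = w₁ ∧ v₂ ≫ w = w₂ := by

  have hbase : K991.Fact.Adm f S (𝟙 S) f :=
    ⟨inferInstance, inferInstance,
      K991.DomCrit.dominant_of_assPt_subset f (fun e _ => f.surjective e), by simp⟩
  obtain ⟨F₀, hF₀P, hF₀⟩ := K991.MaxLemma.exists_max (f := f)
    {F | (∃ v₁ : E₁ ⟶ F.E, u₁ ≫ v₁ = F.u ∧ v₁ ≫ F.g = g₁) ∧
      ∃ v₂ : E₂ ⟶ F.E, u₂ ≫ v₂ = F.u ∧ v₂ ≫ F.g = g₂}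
    ⟨⟨S, 𝟙 S, f, hbase⟩, ⟨g₁, h₁, by simp⟩, ⟨g₂, h₂, by simp⟩⟩ (by
    rintro F ⟨⟨a₁, ha₁, hb₁⟩, ⟨a₂, ha₂, hb₂⟩⟩ G ⟨⟨c₁, hc₁, hd₁⟩, ⟨c₂, hc₂, hd₂⟩⟩
    obtain ⟨E, g, u, v₁, v₂, ha, e₁, e₂, k₁, k₂, huniv⟩ :=
      K991.Fact.exists_sup hS hemb f F.adm G.adm
    refine ⟨⟨E, g, u, ha⟩, ⟨?_, ?_⟩, ⟨v₁, e₁, k₁⟩, ⟨v₂, e₂, k₂⟩⟩
    · obtain ⟨w, hw1, hw2, hw3⟩ := huniv E₁ g₁ u₁ a₁ c₁
        ⟨inferInstance, inferInstance, inferInstance, h₁⟩ ha₁ hc₁ hb₁ hd₁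
      refine ⟨w, hw1, ?_⟩
      change w ≫ g = g₁
      rw [← k₁, ← Category.assoc, hw2, hb₁]
    · obtain ⟨w, hw1, hw2, hw3⟩ := huniv E₂ g₂ u₂ a₂ c₂
        ⟨inferInstance, inferInstance, inferInstance, h₂⟩ ha₂ hc₂ hb₂ hd₂
      refine ⟨w, hw1, ?_⟩
      change w ≫ g = g₂
      rw [← k₁, ← Category.assoc, hw2, hb₂])
  obtain ⟨⟨v₁, hv₁, hv₁'⟩, ⟨v₂, hv₂, hv₂'⟩⟩ := hF₀P
  refine ⟨F₀.E, F₀.g, F₀.u, v₁, v₂, F₀.adm.etale, F₀.adm.affine, F₀.adm.dom, F₀.adm.w,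
    hv₁, hv₂, hv₁', hv₂', ?_⟩
  intro E' g' u' w₁ w₂ he ha hd hw e₁ e₂ k₁ k₂
  obtain ⟨w, hw1, hw2⟩ := hF₀ ⟨E', g', u', ⟨he, ha, hd, hw⟩⟩ ⟨⟨w₁, e₁, k₁⟩, ⟨w₂, e₂, k₂⟩⟩
  have hw1' : F₀.u ≫ w = u' := hw1
  have hw2' : w ≫ g' = F₀.g := hw2
  refine ⟨w, hw1', ?_, ?_⟩
  · refine Groth.Agent.Ega4dB.SchDense.ext_of_isSchemeTheoreticallyDominant g' ?_ u₁ ?_
    · rw [k₁, Category.assoc, hw2', hv₁']
    · rw [e₁, ← Category.assoc, hv₁, hw1']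
  · refine Groth.Agent.Ega4dB.SchDense.ext_of_isSchemeTheoreticallyDominant g' ?_ u₂ ?_
    · rw [k₂, Category.assoc, hw2', hv₂']
    · rw [e₂, ← Category.assoc, hv₂, hw1']

end Groth.Agent.S19494
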