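import Groth.Statements.S19496
import Groth.Agent.S16295
import Groth.Agent.Curves.K335.NefA
import Groth.Agent.CurvesA.HHMap
import Groth.Agent.Curves.K335.FibVanish
import Groth.Agent.Curves.K335.VeryAmpleA

set_option autoImplicit false
universe u
open CategoryTheory CategoryTheory.Limits AlgebraicGeometry
open Curves

namespace Groth.Agent.S19496

open Groth.Agent in
theorem fibre_dim {A : Type u} [CommRing A] {X : Scheme.{u}} (f : X ⟶ Spec (CommRingCat.of A))
    (hfib : ∀ y : ↥(Spec (CommRingCat.of A)), topologicalKrullDim ↥(f.fiber y) ≤ 1) (m : Ideal A) (hm : m.IsMaximal)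
    {Z : Scheme.{u}} {j : Z ⟶ X} {q : Z ⟶ Spec (CommRingCat.of (A ⧸ m))} [IsClosedImmersion j]
    (hpb : IsPullback j q f (Spec.map (CommRingCat.ofHom (Ideal.Quotient.mk m)))) :
    topologicalKrullDim Z ≤ 1 := by
  let y : ↥(Spec (CommRingCat.of A)) := ⟨m, hm.isPrime⟩
  refine le_trans ?_ (hfib y)
  have h1 : ∀ z : Z, f (j z) = y := by
    intro z
    have h2 : f (j z) = Spec.map (CommRingCat.ofHom (Ideal.Quotient.mk m)) (q z) := by
      rw [← Scheme.Hom.comp_apply, hpb.w, Scheme.Hom.comp_apply]
    have h3 : f (j z) ∈ Set.range (PrimeSpectrum.comap (Ideal.Quotient.mk m)) := ⟨q z, h2.symm⟩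
    rw [_root_.range_comap_of_surjective _ _ Ideal.Quotient.mk_surjective, Ideal.mk_ker] at h3
    have h4 : m ≤ (f (j z)).asIdeal := h3
    exact (PrimeSpectrum.ext (hm.eq_of_le (f (j z)).isPrime.ne_top h4)).symm
  have h5 : Set.range j ⊆ f ⁻¹' {y} := by
    rintro _ ⟨z, rfl⟩
    exact h1 z
  let φ : Z → f.fiber y := fun z => (f.fiberHomeo y).symm ⟨j z, h1 z⟩
  have hφ : Topology.IsEmbedding φ := by
    refine (f.fiberHomeo y).symm.isEmbedding.comp ?_
    exact j.isClosedEmbedding.toIsEmbedding.codRestrict (⇑f ⁻¹' {y}) h1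
  exact hφ.isInducing.topologicalKrullDim_le

open Groth.Agent in
theorem fibre_h1 {A : Type u} [CommRing A] [IsNoetherianRing A] {X : Scheme.{u}} (f : X ⟶ Spec (CommRingCat.of A))
    [IsProper f] (h1 : Subsingleton (Coh.HH X (Coh.structureModule X) 1))
    (hvan : ∀ M : X.Modules, Coh.IsCoh M → Subsingleton (Coh.HH X M 2)) (m : Ideal A)
    {Z : Scheme.{u}} {j : Z ⟶ X} {q : Z ⟶ Spec (CommRingCat.of (A ⧸ m))} [IsClosedImmersion j]
    (hpb : IsPullback j q f (Spec.map (CommRingCat.ofHom (Ideal.Quotient.mk m)))) :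
    Subsingleton (Coh.HH Z (Coh.structureModule Z) 1) := by
  let o : X.Over (Spec (CommRingCat.of A)) := ⟨f⟩
  have hX : IsLocallyNoetherian X := LocallyOfFiniteType.isLocallyNoetherian f
  have hO : PicF.IsInvertible (Coh.structureModule X) := Groth.Agent.Fdesc.LocGen.isInvertible_structureModule
  have hq : Coh.IsQCoh ((Scheme.Modules.pullback j).obj (Coh.structureModule X)) :=
    Ega2.QCohLocal.isQCoh_of_isInvertible (Fdesc.LocGen.isInvertible_pullback j hO)
  have hp : FormalB.ModPow.IsModPow m ((Scheme.Modules.pullbackPushforwardAdjunction j).unit.app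
      (Coh.structureModule X)) := Pic13.H126.D2Unit.isModPow_unit hpb hO
  have := hp.epi
  have h2 : Subsingleton (Coh.HH X ((Scheme.Modules.pushforward j).obj ((Scheme.Modules.pullback j).obj
      (Coh.structureModule X))) 1) :=
    CurvesC.GGVanish.subsingleton_of_epi 1 hvan ((Scheme.Modules.pullbackPushforwardAdjunction j).unit.app
      (Coh.structureModule X)) (CurvesB.UnitCoh.isCoh_structureModule X) (CohqA.AffPush.isQCoh_push _ _ hq) h1
  obtain ⟨e⟩ := S0012.result j ((Scheme.Modules.pullback j).obj (Coh.structureModule X)) 1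
  have h3 : Subsingleton (Coh.HH Z ((Scheme.Modules.pullback j).obj (Coh.structureModule X)) 1) :=
    e.toEquiv.subsingleton
  exact K335.VeryAmpleA.subsingleton_of_iso (CurvesA.HHMap.pullbackUnit j).symm 1 h3


/-- Let A be a Noetherian ring and f : X → Spec A a proper morphism such that H^1(X, O_X) = 0 and every
fibre of f has dimension at most one. Let L be an invertible O_X-module which is f-nef: for every
one-dimensional integral closed subscheme C of X which f maps to a point — expressed here as: C lies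
over Spec K → Spec A for some field K — the degree of L restricted to C, computed over K as χ(L|_C)
− χ(O_C), is nonnegative. Then L is globally generated (a quotient of a free O_X-module) and H^1(X,
L) = 0. -/
theorem result (A : Type u) [CommRing A]
    [IsNoetherianRing A] (X : Scheme.{u}) (f : X ⟶ Spec (CommRingCat.of A)) [IsProper f]
    (h1 : Subsingleton (Coh.HH X (Coh.structureModule X) 1))
    (hfib : ∀ y : ↥(Spec (CommRingCat.of A)), topologicalKrullDim ↥(f.fiber y) ≤ 1)
    (L : X.Modules) (hL : PicF.IsInvertible L)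
    (hnef : ∀ (K : Type u) [Field K] (i : A →+* K) (J : X.IdealSheafData)
      (t : J.subscheme ⟶ Spec (CommRingCat.of K)),
      AlgebraicGeometry.IsIntegral J.subscheme → topologicalKrullDim ↥J.subscheme = 1 →
      t ≫ Spec.map (CommRingCat.ofHom i) = J.subschemeι ≫ f →
      0 ≤ @Curv2.deg K _ J.subscheme ⟨t⟩ ((Scheme.Modules.pullback J.subschemeι).obj L) 1) :
    Curv2.IsGloballyGenerated L ∧ Subsingleton (Coh.HH X L 1) := by
  have hvan : ∀ M : X.Modules, Coh.IsCoh M → Subsingleton (Coh.HH X M 2) := fun M hM =>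
    K335.FibVanish.subsingleton_HH_coh f 1 hfib M hM 2 (by norm_num)
  refine K335.NefA.main A X f hvan L hL fun m hm Z j q hpb => ?_
  letI := Ideal.Quotient.field m
  have hci : IsClosedImmersion (Spec.map (CommRingCat.ofHom (Ideal.Quotient.mk m))) :=
    IsClosedImmersion.spec_of_surjective _ Ideal.Quotient.mk_surjective
  have hj : IsClosedImmersion j := MorphismProperty.of_isPullback hpb.flip hci
  have hq : IsProper q := MorphismProperty.of_isPullback hpb ‹IsProper f›
  let o : Z.Over (Spec (CommRingCat.of (A ⧸ m))) := ⟨q⟩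
  have hq' : IsProper (Z ↘ Spec (CommRingCat.of (A ⧸ m))) := hq
  have hdim := fibre_dim f hfib m hm hpb
  have hH1 := fibre_h1 f h1 hvan m hpb
  have hI : PicF.IsInvertible ((Scheme.Modules.pullback j).obj L) :=
    Groth.Agent.Fdesc.LocGen.isInvertible_pullback j hL
  refine Groth.Agent.Curves.K327.NefBC.main (A ⧸ m) Z hdim hH1 _ hI fun J hJ hJd => ?_
  let oJ : J.subscheme.Over (Spec (CommRingCat.of (A ⧸ m))) :=
    ⟨J.subschemeι ≫ (Z ↘ Spec (CommRingCat.of (A ⧸ m)))⟩
  have h2 := K335.NefA.deg_nonneg f L hnef (A ⧸ m) (Ideal.Quotient.mk m) (J.subschemeι ≫ j) (by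
    change (J.subschemeι ≫ q) ≫ _ = _
    rw [Category.assoc, Category.assoc]
    exact congrArg (J.subschemeι ≫ ·) hpb.w.symm) hJ hJd
  rw [← Groth.Agent.CurvesC.DegIso.deg_restrict_restrict (A ⧸ m) j J.subschemeι L 1] at h2
  exact h2

end Groth.Agent.S19496
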