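import Groth.Statements.S19499
-- import your own Groth.Agent.* helpers here
import Groth.Agent.IntTh.K712.DefoBase

set_option autoImplicit false
universe u
open CategoryTheory CategoryTheory.Limits AlgebraicGeometry
open IntTh

namespace Groth.Agent.S19499

open Groth.Agent Groth.Agent.Krr.H458.SecP1

/-- Formation of M commutes with base change: let f : X ⟶ S be locally projective, flat, surjective and
locally of finite presentation, with every fibre of local dimension n at each of its points, and let
i : Y ⟶ X be a closed immersion that is regular of constant codimension c ≤ n (locally cut out by a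
regular sequence of length c) such that Y ⟶ S is again locally projective, flat, surjective and
locally of finite presentation with fibres of local dimension n − c everywhere. Let b : M ⟶ P¹_X be
a blowing-up of P¹_X in the closed subscheme Y × {∞} (the image of Y under the section at infinity),
given through its universal property. Let S' ⟶ S be any morphism, X' = X ×_S S' and Y' = Y ×_S S'
the base changes with the induced closed immersion i' : Y' ⟶ X', and M' = M ×_{P¹_X} P¹_{X'} with
projection b' : M' ⟶ P¹_{X'} (so M' = M ×_S S'). Then b' is a blowing-up of P¹_{X'} in Y' × {∞}: the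
formation of the deformation to the normal cone commutes with arbitrary base change on S. -/
theorem result
    {S S' X X' Y Y' M M' : Scheme.{u}} (f : X ⟶ S) (n c : ℕ) (hc : c ≤ n)
    (hfproj : RedSub.IsLocallyProjective (Over.mk f))
    [Flat f] [Surjective f] [LocallyOfFinitePresentation f]
    (hfdim : ∀ x : ↥X, FlatMor.fibreDimAt f x = n)
    (i : Y ⟶ X) [IsClosedImmersion i]
    (hi : RegImm.IsRegularImmersionOfCodim RegImm.Kind.regular c i)
    (hgproj : RedSub.IsLocallyProjective (Over.mk (i ≫ f)))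
    [Flat (i ≫ f)] [Surjective (i ≫ f)] [LocallyOfFinitePresentation (i ≫ f)]
    (hgdim : ∀ y : ↥Y, FlatMor.fibreDimAt (i ≫ f) y = ((n - c : ℕ) : WithBot ℕ∞))
    (b : M ⟶ CohB1.ProjSpaceOver 1 X)
    (hb : BlowUp.IsBlowUp b (i ≫ P1.sect X 1).ker)
    (h : S' ⟶ S) (f' : X' ⟶ S') (g : X' ⟶ X) (hX : IsPullback g f' f h)
    (i' : Y' ⟶ X') (gY : Y' ⟶ Y) (hY : IsPullback gY i' i g)
    (b' : M' ⟶ CohB1.ProjSpaceOver 1 X') (μ : M' ⟶ M) (hM : IsPullback μ b' b (P1.toP1 g)) :
    BlowUp.IsBlowUp b' (i' ≫ P1.sect X' 1).ker := by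
  rw [K712.SectSec.sect_eq] at hb ⊢
  have hreg := K712.DefoBase.isRegular_of_regAtLen (i ≫ sec 1 X)
    (K712.DefoBase.regAtLen_center i (K712.DefoBase.regAtLen_of_regImm hi) 1)
  have hz : (i ≫ sec 1 X) ≫ CohB1.ProjSpaceOver.toBase 1 X ≫ f = i ≫ f := by
    rw [Category.assoc, sec_pr_assoc]
  have h1 : Flat ((i ≫ sec 1 X) ≫ CohB1.ProjSpaceOver.toBase 1 X ≫ f) := by
    rw [hz]; infer_instance
  have h2 := K712.DefoBase.flat_exceptional (CohB1.ProjSpaceOver.toBase 1 X ≫ f) (i ≫ sec 1 X) hreg b hb
  have hP : IsPullback (P1.toP1 g) (CohB1.ProjSpaceOver.toBase 1 X' ≫ f')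
      (CohB1.ProjSpaceOver.toBase 1 X ≫ f) h :=
    (isPullback_projSpaceMap g 1).paste_vert hX
  have h3 := K712.DefoBase.isBlowUp_baseChange b (CohB1.ProjSpaceOver.toBase 1 X ≫ f) _ hb h2 h
    (P1.toP1 g) (CohB1.ProjSpaceOver.toBase 1 X' ≫ f') hP μ b' hM
  have hYX : IsPullback gY (i' ≫ sec 1 X') (i ≫ sec 1 X) (P1.toP1 g) :=
    hY.paste_vert (isPullback_sec g 1)
  have h4 : (i' ≫ sec 1 X').ker = (i ≫ sec 1 X).ker.comap (P1.toP1 g) :=
    Fga.HilbClosed.ker_of_isPullback hYX
  rw [h4]
  exact h3

end Groth.Agent.S19499
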