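import Groth.Statements.S19500
import Groth.Agent.Cubic.K656.TPointMain

set_option autoImplicit false
universe u
open Cubic

namespace Groth.Agent.S19500

/-- Let K be an algebraically closed field of characteristic zero and S = V(F) ⊂ P^3_K a cubic surface
(F homogeneous of degree 3) which is irreducible and not a cone (no nonzero vector v has Σ_i v_i
∂F/∂x_i = 0). For a nonzero vector b with F(b) = 0 write ℓ_b = Σ_i ∂F/∂x_i(b) · x_i for the linear
form of the tangent plane at b; call b a T-point when b is a smooth point of S (some ∂F/∂x_i(b) ≠ 0)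
and F is congruent modulo ℓ_b to a product of three linear forms (the plane cubic T_b S ∩ S is
set-theoretically a union of lines). Let a be a smooth point of S which is not a T-point and H ⊂ K^4
the hyperplane ℓ_a = 0 (the tangent plane T_a S). Then T_a S contains only finitely many T-points of
S: the set of one-dimensional subspaces U ≤ H all of whose nonzero vectors are T-points is finite. -/
theorem result (K : Type u) [Field K] [IsAlgClosed K]
    [CharZero K] (F : MvPolynomial (Fin 4) K) (hF : F.IsHomogeneous 3) (hirr : Irreducible F)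
    (hcone : ¬ ∃ v : Fin 4 → K, v ≠ 0 ∧ ∑ i : Fin 4, v i • MvPolynomial.pderiv i F = 0)
    (tp : (Fin 4 → K) → Prop)
    (htp : ∀ b : Fin 4 → K, tp b ↔ (b ≠ 0 ∧ MvPolynomial.eval b F = 0 ∧
      (∃ i : Fin 4, MvPolynomial.eval b (MvPolynomial.pderiv i F) ≠ 0) ∧
      ∃ L₁ L₂ L₃ : MvPolynomial (Fin 4) K, L₁.IsHomogeneous 1 ∧ L₂.IsHomogeneous 1 ∧ L₃.IsHomogeneous 1 ∧
        F - L₁ * L₂ * L₃ ∈ Ideal.span {∑ i : Fin 4,
          MvPolynomial.C (MvPolynomial.eval b (MvPolynomial.pderiv i F)) * MvPolynomial.X i}))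
    (a : Fin 4 → K) (haF : MvPolynomial.eval a F = 0)
    (hsm : ∃ i : Fin 4, MvPolynomial.eval a (MvPolynomial.pderiv i F) ≠ 0) (ha : ¬ tp a)
    (H : Submodule K (Fin 4 → K))
    (hH : ∀ x : Fin 4 → K, x ∈ H ↔ MvPolynomial.eval x (∑ i : Fin 4,
      MvPolynomial.C (MvPolynomial.eval a (MvPolynomial.pderiv i F)) * MvPolynomial.X i) = 0) :
    Set.Finite {U : Submodule K (Fin 4 → K) | Module.finrank K ↥U = 1 ∧ U ≤ H ∧
      ∀ b ∈ U, b ≠ 0 → tp b} := by
  have htp' : ∀ b, tp b ↔ K656.TPoint.TP (K656.Trilin.tri F) b := fun b =>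
    (htp b).trans (K656.TPointMain.tpPoly_iff hF b)
  have ha0 : a ≠ 0 := by
    rintro rfl
    obtain ⟨w, hw⟩ := (K656.Trilin.exists_pderiv_ne_zero_iff hF 0).mp hsm
    exact hw (by simp)
  have hfin := K656.TPointMain.finite_TPset (T := K656.Trilin.tri F) (by simp)
    (K656.Trilin.tri_sym F)
    (K656.TPointMain.noPlane_of_irreducible hF hirr) (K656.TPointMain.noCone_tri hF hcone) ha0
    (by rw [K656.Trilin.tri_diag hF]; exact haF)
    ((K656.Trilin.exists_pderiv_ne_zero_iff hF a).mp hsm) (fun h => ha ((htp' a).mpr h))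
  refine hfin.subset ?_
  rintro U ⟨h1, h2, h3⟩
  refine ⟨h1, fun x hx => ?_, fun b hb hb0 => (htp' b).mp (h3 b hb hb0)⟩
  have h4 := (hH x).mp (h2 hx)
  rw [LinearMap.mem_ker]
  have h5 := K656.Trilin.tri_pderiv hF a x
  have h6 : ∑ l, x l * MvPolynomial.eval a (MvPolynomial.pderiv l F) = 0 := by
    rw [← h4]
    simp only [map_sum, map_mul, MvPolynomial.eval_C, MvPolynomial.eval_X]
    exact Finset.sum_congr rfl fun i _ => mul_comm _ _
  rw [h6] at h5
  exact (mul_eq_zero.mp h5).resolve_left (by norm_num)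

end Groth.Agent.S19500
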