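import Groth.Statements.S19502
import Groth.Agent.W4c3ghconstell.K991.Sums

set_option autoImplicit false
universe u
open W4c3ghconstell

namespace Groth.Agent.S19502

/-- Let ι index the irreducible representations, θ : ι → ℚ a weight which is negative exactly on the
finite set D₋, h h' : ι → ℕ with h' ≤ h pointwise (the isotypic dimensions of an object and of a
sub-object) and Σ_i θ_i h_i summable. For a finite set D of indices put S_D = Σ_{i ∉ D} θ_i h_i, d =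
#(D ∖ D₋) and θ̃_D = Σ_{i ∈ D} θ_i h'_i + (S_D / d) · Σ_{i ∈ D ∖ D₋} h'_i / h_i, the modified weight
attached to the parameters chosen for D (a quotient by zero is read as zero). Then for finite sets
D₋ ⊆ D ⊆ D̃ contained in the locus θ ≠ 0: (first error term) θ̃_{D̃} − θ̃_D = Σ_{τ ∈ D̃ ∖ D} (θ_τ
h_τ + S_{D̃}/d̃) · (h'_τ/h_τ − (1/d) Σ_{σ ∈ D ∖ D₋} h'_σ/h_σ); (second error term) Σ_i θ_i h'_i −
θ̃_D = Σ_{τ ∉ D} θ_τ h_τ · (h'_τ/h_τ − (1/d) Σ_{σ ∈ D ∖ D₋} h'_σ/h_σ). -/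
theorem result {ι : Type u} [DecidableEq ι]
    (θ : ι → ℚ) (h h' : ι → ℕ) (hle : ∀ i, h' i ≤ h i) (hfin : {i | θ i < 0}.Finite)
    (hsum : Summable (fun i => (θ i : ℝ) * (h i : ℝ))) (D D' : Finset ι)
    (hDm : hfin.toFinset ⊆ D) (hDD' : D ⊆ D') (hsupp : ∀ i ∈ D', θ i ≠ 0) :
    (((∑ i ∈ D', (θ i : ℝ) * (h' i : ℝ)) + ((∑' i, if i ∈ D' then (0 : ℝ) else (θ i : ℝ) * (h i : ℝ)) / ((D' \ hfin.toFinset).card : ℝ)) * (∑ σ ∈ D' \ hfin.toFinset, ((h' σ : ℝ) / (h σ : ℝ)))) - ((∑ i ∈ D, (θ i : ℝ) * (h' i : ℝ)) + ((∑' i, if i ∈ D then (0 : ℝ) else (θ i : ℝ) * (h i : ℝ)) / ((D \ hfin.toFinset).card : ℝ)) * (∑ σ ∈ D \ hfin.toFinset, ((h' σ : ℝ) / (h σ : ℝ)))) =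
      ∑ τ ∈ D' \ D, ((θ τ : ℝ) * (h τ : ℝ) + (∑' i, if i ∈ D' then (0 : ℝ) else (θ i : ℝ) * (h i : ℝ)) / ((D' \ hfin.toFinset).card : ℝ)) *
        (((h' τ : ℝ) / (h τ : ℝ)) - (1 / ((D \ hfin.toFinset).card : ℝ)) * (∑ σ ∈ D \ hfin.toFinset, ((h' σ : ℝ) / (h σ : ℝ))))) ∧
    ((∑' i, (θ i : ℝ) * (h' i : ℝ)) - ((∑ i ∈ D, (θ i : ℝ) * (h' i : ℝ)) + ((∑' i, if i ∈ D then (0 : ℝ) else (θ i : ℝ) * (h i : ℝ)) / ((D \ hfin.toFinset).card : ℝ)) * (∑ σ ∈ D \ hfin.toFinset, ((h' σ : ℝ) / (h σ : ℝ)))) =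
      ∑' τ, if τ ∈ D then (0 : ℝ) else (θ τ : ℝ) * (h τ : ℝ) *
        (((h' τ : ℝ) / (h τ : ℝ)) - (1 / ((D \ hfin.toFinset).card : ℝ)) * (∑ σ ∈ D \ hfin.toFinset, ((h' σ : ℝ) / (h σ : ℝ))))) := by
  set f : ι → ℝ := fun i => (θ i : ℝ) * (h i : ℝ) with hf
  set r : ι → ℝ := fun i => (h' i : ℝ) / (h i : ℝ) with hr
  have hfr : ∀ i, (θ i : ℝ) * (h' i : ℝ) = f i * r i := K991.Sums.mul_eq_mul_div θ h h' hle
  have hsfr : Summable (fun i => f i * r i) := by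
    have := K991.Sums.summable_mul_le θ h h' hle hsum
    simpa only [hfr] using this
  have hS : ∀ E : Finset ι, (∑' i, if i ∈ E then (0 : ℝ) else f i) = (∑' i, f i) - ∑ i ∈ E, f i :=
    fun E => K991.Sums.tsum_compl f hsum E
  constructor
  · simp only [hfr]
    change (∑ i ∈ D', f i * r i + (∑' i, if i ∈ D' then (0 : ℝ) else f i) / ((D' \ hfin.toFinset).card : ℝ) *
      (∑ σ ∈ D' \ hfin.toFinset, r σ)) - (∑ i ∈ D, f i * r i +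
      (∑' i, if i ∈ D then (0 : ℝ) else f i) / ((D \ hfin.toFinset).card : ℝ) *
      (∑ σ ∈ D \ hfin.toFinset, r σ)) = ∑ τ ∈ D' \ D, (f τ +
      (∑' i, if i ∈ D' then (0 : ℝ) else f i) / ((D' \ hfin.toFinset).card : ℝ)) *
      (r τ - 1 / ((D \ hfin.toFinset).card : ℝ) * ∑ σ ∈ D \ hfin.toFinset, r σ)
    exact K991.Sums.first_error f r _ D D' hfin.toFinset hDm hDD' hS
  · simp only [hfr]
    change (∑' i, f i * r i) - (∑ i ∈ D, f i * r i +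
      (∑' i, if i ∈ D then (0 : ℝ) else f i) / ((D \ hfin.toFinset).card : ℝ) *
      (∑ σ ∈ D \ hfin.toFinset, r σ)) = ∑' τ, if τ ∈ D then (0 : ℝ) else f τ *
      (r τ - 1 / ((D \ hfin.toFinset).card : ℝ) * ∑ σ ∈ D \ hfin.toFinset, r σ)
    exact K991.Sums.second_error f r D _ _ hsum hsfr

end Groth.Agent.S19502
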