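import Groth.Statements.S19503
import Groth.Agent.S19496
import Groth.Agent.Curves.K335.VeryAmpleA
import Groth.Agent.Curves.K335.FibVanish
import Groth.Agent.Ega3A.PChart
import Groth.Agent.Ega2.RelAmp
import Groth.Agent.S1530

set_option autoImplicit false
universe u
open CategoryTheory CategoryTheory.Limits AlgebraicGeometry
open Curves

namespace Groth.Agent.S19503

/-- Let A be a Noetherian ring and f : X → Spec A a proper morphism such that H^1(X, O_X) = 0 and every
fibre of f has dimension at most one. If an O_X-module L is f-ample (f quasi-compact and L an ample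
invertible module on the preimage of every affine open of Spec A), then L is f-very ample: for some
n there is an immersion i : X → Pⁿ over Spec A, compatible with f, such that L is isomorphic to the
pullback of O(1) along i. -/
theorem result (A : Type u) [CommRing A]
    [IsNoetherianRing A] (X : Scheme.{u}) (f : X ⟶ Spec (CommRingCat.of A)) [IsProper f]
    (h1 : Subsingleton (Coh.HH X (Coh.structureModule X) 1))
    (hfib : ∀ y : ↥(Spec (CommRingCat.of A)), topologicalKrullDim ↥(f.fiber y) ≤ 1)
    (L : X.Modules) (hL : RelAmple.IsRelAmple f L) :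
    RelAmple.IsRelVeryAmplePn f L := by
  have hA : CohB1.IsAmple L := Groth.Agent.Ega2.RelAmp.isRelAmple_iff_isAmple.1 hL
  have hnef : ∀ (K : Type u) [Field K] (i : A →+* K) (J : X.IdealSheafData)
      (t : J.subscheme ⟶ Spec (CommRingCat.of K)),
      AlgebraicGeometry.IsIntegral J.subscheme → topologicalKrullDim ↥J.subscheme = 1 →
      t ≫ Spec.map (CommRingCat.ofHom i) = J.subschemeι ≫ f →
      0 ≤ @Curv2.deg K _ J.subscheme ⟨t⟩ ((Scheme.Modules.pullback J.subschemeι).obj L) 1 := by
    intro K _ i J t hJ hJd ht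
    have ht' : IsProper t := by
      have : IsProper (t ≫ Spec.map (CommRingCat.ofHom i)) := by
        rw [ht]
        infer_instance
      exact IsProper.of_comp t (Spec.map (CommRingCat.ofHom i))
    let o : J.subscheme.Over (Spec (CommRingCat.of K)) := ⟨t⟩
    have ht'' : IsProper (J.subscheme ↘ Spec (CommRingCat.of K)) := ht'
    have hamp : CohB1.IsAmple ((Scheme.Modules.pullback J.subschemeι).obj L) :=
      Groth.Agent.Sga5.AmpleFib.isAmple_pullback J.subschemeι hA
    exact ((Groth.Agent.S1530.result K J.subscheme hJd _ hamp.1).1 hamp).le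
  obtain ⟨hgg, -⟩ := Groth.Agent.S19496.result A X f h1 hfib L hA.1 hnef
  obtain ⟨n, i, hi, hif, ⟨e⟩⟩ := K335.VeryAmpleA.exists_closedImmersion A f
    (fun M hM q hq => K335.FibVanish.subsingleton_HH_coh f 1 hfib M hM q hq) h1 hA hgg
  have hc : IsIso (Groth.Agent.Ega3A.PChart.chart n (𝟙 (Spec (CommRingCat.of A)))) :=
    (Groth.Agent.Ega3A.PChart.isPullback_chart n (𝟙 (Spec (CommRingCat.of A)))).isIso_fst_of_isIso
  refine ⟨n, i ≫ Groth.Agent.Ega3A.PChart.chart n (𝟙 (Spec (CommRingCat.of A))), inferInstance, ?_, ⟨?_⟩⟩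
  · have h2 := Groth.Agent.Ega3A.PChart.chart_toBase n (𝟙 (Spec (CommRingCat.of A)))
    rw [Category.comp_id] at h2
    rw [Category.assoc]
    exact (congrArg (i ≫ ·) h2).trans hif
  · exact e.symm ≪≫ (Scheme.Modules.pullback i).mapIso
      (Groth.Agent.Ega3A.PChart.chartTwistIso n (𝟙 (Spec (CommRingCat.of A))) 1).symm ≪≫
      (Scheme.Modules.pullbackComp i (Groth.Agent.Ega3A.PChart.chart n (𝟙 (Spec (CommRingCat.of A))))).app _

end Groth.Agent.S19503
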