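import Groth.Statements.S19506
import Groth.Agent.CAlg.K95.LiftArt
import Groth.Agent.CalgB.AdicRegField
import Groth.Agent.CalgB.CohenPres
import Groth.Agent.CalgB.MinGen

set_option autoImplicit false
universe u
open CAlg

namespace Groth.Agent.S19506


/-- (i) ⇔ (iii): let k be a field and A a complete local Noetherian k-algebra with residue field k (a
k-algebra map π : A → k with kernel the maximal ideal; A complete for the adic topology of its
maximal ideal). Then A is regular if and only if A satisfies the infinitesimal lifting criterion: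
for every Artinian local k-algebra R and every ideal J of R of square zero, every local k-algebra
homomorphism A → R/J (one carrying non-units to non-units) lifts to a k-algebra homomorphism A → R.
(The test algebras R range over one universe, that of A. The published criterion is worded for
arbitrary k-algebra homomorphisms A → R/J; it is stated here for local ones, the case the argument
establishes and the form in which the text itself restates the criterion afterwards. The published
statement lists a third equivalent condition, A ≅ k[[x_1, …, x_d]].) -/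
theorem result (k A : Type u) [Field k]
    [CommRing A] [Algebra k A] [IsLocalRing A] [IsNoetherianRing A]
    [IsAdicComplete (IsLocalRing.maximalIdeal A) A]
    (π : A →ₐ[k] k) (hπ : RingHom.ker π = IsLocalRing.maximalIdeal A) :
    IsRegularLocalRing A ↔
      ∀ (R : Type u) [CommRing R] [Algebra k R] [IsArtinianRing R] [IsLocalRing R] (J : Ideal R),
        J ^ 2 = ⊥ → ∀ f : A →ₐ[k] R ⧸ J, IsLocalHom (f : A →+* R ⧸ J) →
          ∃ g : A →ₐ[k] R, (Ideal.Quotient.mkₐ k J).comp g = f := by
  have hres : ∀ a : A, ∃ c : k, a - algebraMap k A c ∈ IsLocalRing.maximalIdeal A := by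
    intro a
    refine ⟨π a, ?_⟩
    rw [← hπ]
    show π (a - algebraMap k A (π a)) = 0
    rw [map_sub, π.commutes]
    exact sub_self _
  have hsurj : Function.Surjective (algebraMap k (IsLocalRing.ResidueField A)) := by
    intro z
    obtain ⟨a, rfl⟩ := IsLocalRing.residue_surjective z
    obtain ⟨c, hc⟩ := hres a
    refine ⟨c, ?_⟩
    rw [← IsLocalRing.residue_eq_zero_iff, map_sub, sub_eq_zero] at hc
    rw [hc]
    rfl
  let e : k ≃ₐ[k] IsLocalRing.ResidueField A :=
    AlgEquiv.ofBijective (Algebra.ofId k (IsLocalRing.ResidueField A))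
      ⟨(algebraMap k (IsLocalRing.ResidueField A)).injective, hsurj⟩
  have hfs : Algebra.FormallySmooth k (IsLocalRing.ResidueField A) := Algebra.FormallySmooth.of_equiv e
  constructor
  · intro hreg R _ _ _ _ J hJ f hf
    have hJt : J ≠ ⊤ := by
      rintro rfl
      rw [Ideal.top_pow] at hJ
      exact bot_ne_top hJ.symm
    have : Nontrivial (R ⧸ J) := Ideal.Quotient.nontrivial_iff.2 hJt
    have hloc : IsLocalRing (R ⧸ J) := IsLocalRing.of_surjective' (Ideal.Quotient.mk _) Ideal.Quotient.mk_surjective
    have hart : IsArtinianRing (R ⧸ J) := inferInstance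
    obtain ⟨N, hN⟩ := (isArtinianRing_iff_isNilpotent_maximalIdeal (R ⧸ J)).1 hart
    refine Groth.Agent.CalgB.AdicRegField.isAdicFormallySmooth_of_isRegularLocalRing (k := k) (A := A) R J hJ f ⟨N, ?_⟩
    intro x hx
    have h1 : Ideal.map (f : A →+* R ⧸ J) (IsLocalRing.maximalIdeal A) ≤ IsLocalRing.maximalIdeal (R ⧸ J) :=
      ((IsLocalRing.local_hom_TFAE (f : A →+* R ⧸ J)).out 0 2).1 hf
    have h2 := Ideal.mem_map_of_mem (f : A →+* R ⧸ J) hx
    rw [Ideal.map_pow] at h2
    have h3 := Ideal.pow_right_mono h1 N h2
    rw [hN] at h3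
    exact h3
  · intro hlift
    obtain ⟨x, hx, hmin⟩ := Groth.Agent.CalgB.MinGen.exists_min_generators A
    obtain ⟨Φ, hΦ, hker, hcc, -⟩ := Groth.Agent.CalgB.CohenPres.exists_presentation_of_generators (k₀ := k)
      (B := A) _ x hx hmin
    have hP : ∀ f : MvPowerSeries (Fin (Module.finrank (IsLocalRing.ResidueField A) (IsLocalRing.CotangentSpace A)))
        (IsLocalRing.ResidueField A), ∃ c : k, f - algebraMap k _ c ∈ IsLocalRing.maximalIdeal _ := by
      intro f
      obtain ⟨c, hc⟩ := hsurj (MvPowerSeries.constantCoeff f)
      refine ⟨c, ?_⟩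
      rw [IsLocalRing.mem_maximalIdeal, mem_nonunits_iff, MvPowerSeries.isUnit_iff_constantCoeff, map_sub,
        MvPowerSeries.algebraMap_apply, MvPowerSeries.constantCoeff_C, hc, sub_self]
      exact not_isUnit_zero
    have hbij := K95.LiftArt.bijective Φ hΦ hker hP hlift
    exact IsRegularLocalRing.of_ringEquiv (RingEquiv.ofBijective Φ hbij)

end Groth.Agent.S19506
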