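import Groth.Statements.S19507
import Groth.Agent.AlgGrp.K414.SmoothHom
import Groth.Agent.VarietyA.RegToSmooth

set_option autoImplicit false
universe u
open CategoryTheory MonoidalCategory CartesianMonoidalCategory MonObj GrpObj AlgebraicGeometry
open AlgGrp

namespace Groth.Agent.S19507

/-- (iv) ⇒ (i): let k be a field, G a k-group scheme of finite type and e ∈ G the identity point (the
image of the unit section Spec k → G). If the local ring of G at e is regular, then G is smooth over
k. (The corollary lists six equivalent conditions; (i) ⇒ (iv) is the standard fact that smooth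
schemes over a field have regular local rings, and the remaining conditions concern the base change
to an algebraic closure and the completed local ring.) -/
theorem result (k : Type u) [Field k]
    (G : Over (Spec (CommRingCat.of k))) [GrpObj G] [LocallyOfFiniteType G.hom] [QuasiCompact G.hom]
    (e : G.left) (he : e ∈ Set.range (η[G]).left.base)
    (hreg : IsRegularLocalRing (G.left.presheaf.stalk e)) : Smooth G.hom := by
  obtain ⟨x, rfl⟩ := he
  have hx : x = IsLocalRing.closedPoint k :=
    Subsingleton.elim (α := ↥(Spec (CommRingCat.of k))) _ _
  subst hx
  have h1 : η[G].left (IsLocalRing.closedPoint k) ∈ G.hom.smoothLocus :=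
    VarietyA.RegToSmooth.mem_smoothLocus_of_section G.hom η[G].left (Over.w η[G]) hreg
  have : GrpObj (Over.mk G.hom) := inferInstanceAs (GrpObj G)
  have h2 : Smooth (G.hom.smoothLocus.ι ≫ G.hom) := by
    rw [← Scheme.Hom.smoothLocus_eq_top_iff, ← Scheme.Hom.preimage_smoothLocus_eq]
    simp
  exact K414.SmoothHom.smooth_of_nonempty_open G.hom G.hom.smoothLocus ⟨_, h1⟩

end Groth.Agent.S19507
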