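import Groth.Statements.S19508
import Groth.Agent.S3904
import Groth.Agent.S0086
import Groth.Agent.Agf.H585.QuotBc
import Groth.Agent.Agf.H614.FieldGlue

set_option autoImplicit false
universe u
open CategoryTheory MonoidalCategory CartesianMonoidalCategory MonObj GrpObj AlgebraicGeometry
open AGF

namespace Groth.Agent.S19508

/-- Let k be a field, G an affine, smooth, connected k-group scheme, P a smooth connected closed
k-subgroup scheme of G and X = G/P the quotient. Then X is proper over k if and only if, after base
change to an algebraic closure of k (the geometric fibre over the point of Spec k), P contains a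
Borel subgroup of G. (Over an algebraically closed field this is the usual characterisation of
parabolic subgroups; the point here is an arbitrary ground field.) -/
theorem result (k : Type u) [Field k]
    (G : Over (Spec (CommRingCat.of k))) [GrpObj G] [IsAffine G.left] [Smooth G.hom] [ConnectedSpace G.left]
    (P : Over (Spec (CommRingCat.of k))) [GrpObj P] (iP : P ⟶ G) [IsMonHom iP] (hcl : IsClosedImmersion iP.left)
    [Smooth P.hom] [ConnectedSpace P.left]
    (X : Over (Spec (CommRingCat.of k))) (a : AlgGrp.Action G X) (o : 𝟙_ (Over (Spec (CommRingCat.of k))) ⟶ X)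
    (hX : AGF.IsQuotient iP X a o) :
    IsProper X.hom ↔ Red.IsParabolic iP := by
  have key : ∀ s : ↥(Spec (CommRingCat.of k)), IsProper (Red.geomFibre s X).hom ↔
      Red.IsParabolicOver (AlgebraicClosure ((Spec (CommRingCat.of k)).residueField s))
        ((Over.pullback (Red.geomPt s)).map iP) := by
    intro s
    have h1 : ConnectedSpace (Red.geomFibre s G).left :=
      Groth.Agent.Agf.H614.FieldGlue.connectedSpace_bc G (Red.geomPt s)
    have h2 : IsAffine (Red.geomFibre s G).left := Groth.Agent.Agf.H614.FieldGlue.isAffine_bc _ G
    have h3 : Smooth (Red.geomFibre s G).hom := Groth.Agent.Agf.H614.FieldGlue.smooth_bc _ G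
    have h4 : Smooth (Red.geomFibre s P).hom := Groth.Agent.Agf.H614.FieldGlue.smooth_bc _ P
    have h5 : IsClosedImmersion ((Over.pullback (Red.geomPt s)).map iP).left :=
      MorphismProperty.of_isPullback (P := @IsClosedImmersion)
        (Groth.Agent.Sga3C.ActBase.isPullback_map_left (Red.geomPt s) iP).flip hcl
    have h6 : IsMonHom ((Over.pullback (Red.geomPt s)).map iP) := inferInstance
    exact Groth.Agent.S3904.result _ (Red.geomFibre s G) (Red.geomFibre s P) _ h5 _ _ _
      (Groth.Agent.Agf.H585.QuotBc.isQuotient_bc (Red.geomPt s) hX)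
  constructor
  · intro hp
    refine ⟨inferInstance, hcl, inferInstance, fun s => (key s).1 ?_⟩
    exact inferInstanceAs (IsProper (Limits.pullback.snd X.hom (Red.geomPt s)))
  · intro hP
    let s : ↥(Spec (CommRingCat.of k)) := IsLocalRing.closedPoint k
    have h1 : IsProper (Red.geomFibre s X).hom := (key s).2 (hP.2.2.2 s)
    have h2 : Surjective (Red.geomPt s) := Groth.Agent.Agf.H614.FieldGlue.surjective_geomPt s
    have h3 : Flat (Red.geomPt s) := Groth.Agent.Agf.H614.FieldGlue.flat_geomPt s
    have h4 : QuasiCompact (Red.geomPt s) := Groth.Agent.Agf.H614.FieldGlue.quasiCompact_geomPt s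
    have := Groth.Agent.S0086.result
    exact MorphismProperty.of_pullback_snd_of_descendsAlong (P := @IsProper)
      (Q := (@Surjective ⊓ @Flat ⊓ @QuasiCompact : MorphismProperty Scheme.{u}))
      (f := X.hom) (g := Red.geomPt s) ⟨⟨h2, h3⟩, h4⟩ h1

end Groth.Agent.S19508
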