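import Groth.Statements.S19510
import Groth.Agent.Neron.K491.PTors
import Groth.Agent.Neron.K491.Tors

set_option autoImplicit false
universe u
open CategoryTheory MonoidalCategory CartesianMonoidalCategory MonObj GrpObj AlgebraicGeometry
open Neron

namespace Groth.Agent.S19510

/-- Let R be a complete discrete valuation ring whose fraction field K has characteristic zero and whose
residue field has characteristic p > 0, with absolute ramification small in the sense that v(p) < p
− 1 for the normalised valuation, i.e. p does not lie in the (p − 1)-st power of the maximal ideal.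
Let N be a commutative R-group scheme which is a Néron model of its generic fibre, an abelian
variety over K. Then all torsion of N(R) = A(K) injects into the special fibre under reduction: a
section x with x^n = 1 for some n ≥ 1 whose value at the closed point is the identity point is the
unit section. -/
theorem result (R : Type u) [CommRing R] [IsDomain R]
    [IsDiscreteValuationRing R] [IsAdicComplete (IsLocalRing.maximalIdeal R) R] (K : Type u) [Field K] [Algebra R K]
    [IsFractionRing R K] [CharZero K] (p : ℕ) [Fact p.Prime] [CharP (IsLocalRing.ResidueField R) p]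
    (N : Over (Spec (CommRingCat.of R))) [GrpObj N] [IsCommMonObj N] (hN : SGA7.IsNeron R K N)
    [IsProper ((SGA7.genFib R K).obj N).hom] [GeometricallyIntegral ((SGA7.genFib R K).obj N).hom]
    (x : 𝟙_ (Over (Spec (CommRingCat.of R))) ⟶ N) (n : ℕ) (hn : 0 < n) (hx : x ^ n = 1)
    (hred : x.left.base (IsLocalRing.closedPoint R) = (η[N]).left.base (IsLocalRing.closedPoint R))
    (hv : (p : R) ∉ IsLocalRing.maximalIdeal R ^ (p - 1)) : x = 1 := by
  have hp : p.Prime := Fact.out
  have hsm : Smooth N.hom := hN.1
  -- the sections with value the identity point at the closed point are stable under powers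
  have hcent : ∀ m : ℕ, (x ^ m).left (IsLocalRing.closedPoint R) =
      (η[N] : 𝟙_ (Over (Spec (CommRingCat.of R))) ⟶ N).left (IsLocalRing.closedPoint R) := by
    intro m
    have h1 := (K491.PTors.cent_of_closedPoint x hred).pow m
    rw [← MonObj.comp_pow] at h1
    have h2 := congrArg (fun w => w.left (IsLocalRing.closedPoint (IsLocalRing.ResidueField R))) h1
    have h3 : ∀ y : 𝟙_ (Over (Spec (CommRingCat.of R))) ⟶ N,
        (K491.NewtonPt.sp (K491.NewtonPt.res R R) ≫ toUnit (K491.NewtonPt.tb R R) ≫ y).left
          (IsLocalRing.closedPoint (IsLocalRing.ResidueField R)) =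
        y.left (IsLocalRing.closedPoint R) := by
      intro y
      rw [← Category.assoc, Over.comp_left, Over.comp_left, K491.PTors.toUnit_left]
      change y.left (Spec.map (CommRingCat.ofHom (IsLocalRing.residue R)) _) = _
      congr 1
      exact IsLocalRing.comap_closedPoint (IsLocalRing.residue R)
    have h4 : (1 : K491.NewtonPt.tb R (IsLocalRing.ResidueField R) ⟶ N) =
        K491.NewtonPt.sp (K491.NewtonPt.res R R) ≫ toUnit (K491.NewtonPt.tb R R) ≫
          (η[N] : 𝟙_ (Over (Spec (CommRingCat.of R))) ⟶ N) := by
      rw [MonObj.one_eq_one, MonObj.comp_one, MonObj.comp_one]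
    rw [← h3 (x ^ m), ← h3]
    rw [← h4]
    exact h2
  -- prime to `p` torsion
  obtain ⟨k, m, hm, rfl⟩ := Nat.exists_eq_pow_mul_and_not_dvd hn.ne' p hp.ne_one
  have hunit : IsUnit (m : R) := by
    by_contra h
    apply hm
    have h1 : (m : R) ∈ IsLocalRing.maximalIdeal R := h
    rw [← IsLocalRing.residue_eq_zero_iff, map_natCast] at h1
    exact (CharP.cast_eq_zero_iff (IsLocalRing.ResidueField R) p m).1 h1
  have h1 : x ^ p ^ k = 1 := by
    refine K491.Tors.eq_one_of_pow_eq_one N (x ^ p ^ k) m hunit ?_ (hcent _)
    rw [← pow_mul]
    exact hx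
  clear hx hn
  induction k with
  | zero => simpa using h1
  | succ k ih =>
    apply ih
    refine K491.PTors.eq_one_of_pow_prime p hp hv N (x ^ p ^ k) (hcent _) ?_
    rw [← pow_mul, ← pow_succ]
    exact h1

end Groth.Agent.S19510
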