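import Groth.Statements.S19511

set_option autoImplicit false
universe u
open CategoryTheory CategoryTheory.Limits AlgebraicGeometry
open Variety

namespace Groth.Agent.S19511

/-- If `f : X ⟶ Y` has closed image and `Γ(V, O_Y) → Γ(f⁻¹V, O_X)` is an isomorphism for all `V`,
then `f` is surjective. -/
theorem surj_of_isClosed_range {X Y : Scheme.{u}} (f : X ⟶ Y) (hc : IsClosed (Set.range f.base))
    (hfib : ∀ V : Y.Opens, IsIso (f.app V)) : Surjective f := by
  constructor
  intro y
  by_contra hy
  let V : Y.Opens := ⟨(Set.range f.base)ᶜ, hc.isOpen_compl⟩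
  have hyV : y ∈ V := hy
  have hpre : (f ⁻¹ᵁ V) = ⊥ := by
    ext x
    simp only [TopologicalSpace.Opens.coe_bot, Set.mem_empty_iff_false, iff_false]
    intro hx
    exact hx ⟨x, rfl⟩
  have h1 : Subsingleton Γ(X, f ⁻¹ᵁ V) := by
    rw [hpre]
    infer_instance
  have h2 : Subsingleton Γ(Y, V) := by
    have := hfib V
    have := (ConcreteCategory.bijective_of_isIso (f.app V)).1
    exact this.subsingleton
  have : Nonempty V := ⟨⟨y, hyV⟩⟩
  exact not_subsingleton Γ(Y, V) h2

/-- Let k be a field and f : X → Y a k-morphism between proper k-schemes which is a fibration, i.e. O_Y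
→ f_*O_X is an isomorphism (Γ(V, O_Y) → Γ(f⁻¹V, O_X) bijective for every open V ⊆ Y). Then f is
surjective. (The connectedness of the fibres asserted in (i) is quoted from the literature and not
stated.) -/
theorem result (k : Type u) [Field k] (X Y : Scheme.{u})
    [X.Over (Spec (CommRingCat.of k))] [Y.Over (Spec (CommRingCat.of k))] [IsProper (X ↘ Spec (CommRingCat.of k))] [IsProper (Y ↘ Spec (CommRingCat.of k))]
    (f : X ⟶ Y) (hf : f ≫ (Y ↘ Spec (CommRingCat.of k)) = X ↘ Spec (CommRingCat.of k)) (hfib : ∀ V : Y.Opens, IsIso (f.app V)) :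
    Surjective f := by
  have hp : IsProper (f ≫ (Y ↘ Spec (CommRingCat.of k))) := by rw [hf]; infer_instance
  have : IsProper f := IsProper.of_comp f (Y ↘ Spec (CommRingCat.of k))
  exact surj_of_isClosed_range f (f.isClosedMap.isClosed_range) hfib

end Groth.Agent.S19511
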