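import Groth.Statements.S19514
import Groth.Agent.Variety.K436.FibBC

set_option autoImplicit false
universe u
open CategoryTheory CategoryTheory.Limits AlgebraicGeometry
open Variety

namespace Groth.Agent.S19514

/-- Let k be a field and f : X → Y a k-morphism between proper k-schemes which is a fibration, i.e. O_Y
→ f_*O_X is an isomorphism (Γ(V, O_Y) → Γ(f⁻¹V, O_X) bijective for every open V ⊆ Y). If X is
geometrically integral over k, then so is Y. (The assertion of (iii) for geometric normality is not
stated here.) -/
theorem result (k : Type u) [Field k] (X Y : Scheme.{u})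
    [X.Over (Spec (CommRingCat.of k))] [Y.Over (Spec (CommRingCat.of k))] [IsProper (X ↘ Spec (CommRingCat.of k))] [IsProper (Y ↘ Spec (CommRingCat.of k))]
    (f : X ⟶ Y) (hf : f ≫ (Y ↘ Spec (CommRingCat.of k)) = X ↘ Spec (CommRingCat.of k)) (hfib : ∀ V : Y.Opens, IsIso (f.app V))
    [GeometricallyIntegral (X ↘ Spec (CommRingCat.of k))] : GeometricallyIntegral (Y ↘ Spec (CommRingCat.of k)) := by
  have : QuasiCompact f := by
    have : QuasiCompact (f ≫ (Y ↘ Spec (CommRingCat.of k))) := by rw [hf]; infer_instance
    exact QuasiCompact.of_comp f (Y ↘ Spec (CommRingCat.of k))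
  have : QuasiSeparated f := by
    have : QuasiSeparated (f ≫ (Y ↘ Spec (CommRingCat.of k))) := by rw [hf]; infer_instance
    exact QuasiSeparated.of_comp f (Y ↘ Spec (CommRingCat.of k))
  constructor
  intro K _ y Z fst snd h
  have : Flat y := inferInstance
  have hint : IsIntegral (pullback (X ↘ Spec (CommRingCat.of k)) y) :=
    pullback_of_geometrically GeometricallyIntegral.geometrically_isIntegral K y
  obtain ⟨g, -, -, hg⟩ := K436.FibBC.exists_fib f _ _ hf y h hfib (IsPullback.of_hasPullback (X ↘ Spec (CommRingCat.of k)) y)
  exact K436.FibBC.isIntegral_of_isIso_app g hg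

end Groth.Agent.S19514
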