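import Groth.Statements.S19516
import Groth.Agent.Pic13.K244.TorsMain
import Groth.Agent.Pic13.K244.TauKb
import Groth.Agent.Models.H130.PicBc

set_option autoImplicit false
universe u
open CategoryTheory CategoryTheory.Limits AlgebraicGeometry
open Pic13

namespace Groth.Agent.S19516

/-- Let k be a field of characteristic p > 0 which is algebraic over its prime field, i.e. every element
x of k satisfies x^(p^n) = x for some n ≥ 1, and let X be a geometrically normal proper k-scheme
(the base change of X to an algebraic closure of k has all local rings integrally closed domains).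
Then every numerically trivial invertible O_X-module L (degree 0 on every closed subscheme of X
integral of dimension one) has finite order: L^{⊗d} ≅ O_X for some d ≥ 1. -/
theorem result
    (p : ℕ) [Fact (Nat.Prime p)] (k : Type u) [Field k] [CharP k p]
    (halg : ∀ x : k, ∃ n : ℕ, 0 < n ∧ x ^ (p ^ n) = x)
    (X : Scheme.{u}) [X.Over (Spec (CommRingCat.of k))] [IsProper (X ↘ Spec (CommRingCat.of k))]
    (hgn : ∀ (K : Type u) [Field K] [Algebra k K] [IsAlgClosure k K],
      Pi1.IsNormalScheme (pullback (X ↘ Spec (CommRingCat.of k)) (Spec.map (CommRingCat.ofHom (algebraMap k K)))))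
    (L : X.Modules) (hL : PicF.IsInvertible L) (hnum : Pic13.IsNumEquivZero k X L) :
    ∃ d : ℕ, 0 < d ∧ Nonempty (CohB1.tensorPow L d ≅ Coh.structureModule X) := by
  let s : Spec (CommRingCat.of (AlgebraicClosure k)) ⟶ Spec (CommRingCat.of k) :=
    Spec.map (CommRingCat.ofHom (algebraMap k (AlgebraicClosure k)))
  let X₁ : Scheme.{u} := pullback (X ↘ Spec (CommRingCat.of k)) s
  let _ : X₁.Over (Spec (CommRingCat.of (AlgebraicClosure k))) := ⟨pullback.snd (X ↘ Spec (CommRingCat.of k)) s⟩
  let g : X₁ ⟶ X := pullback.fst (X ↘ Spec (CommRingCat.of k)) s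
  have hpb : IsPullback g (X₁ ↘ Spec (CommRingCat.of (AlgebraicClosure k))) (X ↘ Spec (CommRingCat.of k)) s :=
    IsPullback.of_hasPullback _ _
  have hX₁ : IsProper (X₁ ↘ Spec (CommRingCat.of (AlgebraicClosure k))) :=
    MorphismProperty.of_isPullback hpb inferInstance
  have hs := K244.NumBC.isIntegralHom_spec_algebraicClosure k
  have hnum₁ := K244.NumBC.isNumEquivZero_pullback_of_integral hpb hL hnum
  have hchar : CharP (AlgebraicClosure k) p := charP_of_injective_algebraMap (algebraMap k (AlgebraicClosure k)).injective p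
  obtain ⟨n, hn, ⟨e₂⟩⟩ := K244.TorsMain.exists_tensorPow_iso p (AlgebraicClosure k)
    (K244.TorsMain.halg_algebraicClosure p k halg) X₁ (hgn (AlgebraicClosure k)) _
    (Groth.Agent.Fdesc.LocGen.isInvertible_pullback g hL) hnum₁
  refine ⟨n, hn, ?_⟩
  rw [← Groth.Agent.Grpsch.PicGrp.mk_eq_one_iff (Groth.Agent.Fdesc.LocGen.isInvertible_tensorPow hL n)]
  refine Groth.Agent.Models.H130.PicBc.eq_one_of_pull_field k X (X ↘ Spec (CommRingCat.of k)) (AlgebraicClosure k) _ ?_
  change Groth.Agent.Grpsch.PicGrp.pull g _ = 1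
  rw [Groth.Agent.Grpsch.PicGrp.mk_tensorPow hL, map_pow, Groth.Agent.Grpsch.PicGrp.pull_mk,
    ← Groth.Agent.Grpsch.PicGrp.mk_tensorPow, Groth.Agent.Grpsch.PicGrp.mk_eq_one_iff]
  exact ⟨e₂⟩

end Groth.Agent.S19516
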