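import Groth.Statements.S19517
import Groth.Agent.AlgGrp.K414.RedNorm
import Groth.Agent.Books.AffBridge2
import Groth.Agent.Sga3B.NormBc

set_option autoImplicit false
universe u
open CategoryTheory CategoryTheory.Limits MonoidalCategory CartesianMonoidalCategory MonObj GrpObj AlgebraicGeometry
open AlgGrp

namespace Groth.Agent.S19517

/-- Linear part, the assertion on the kernel: over an algebraically closed field k let G be a smooth
k-group scheme of finite type, j : K → G a closed normal subgroup scheme of finite type, i : G_lin →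
G the largest smooth connected affine normal closed subgroup scheme of G and i_K : K_lin → K the
largest smooth connected affine normal closed subgroup scheme of K. Then K_lin is contained in
G_lin, and K_lin has finite index in K ∩ G_lin in the sense that K_lin and the fibre product K ×_G
G_lin have the same dimension (K_lin is the reduced identity component of K ∩ G_lin). (The published
proposition is stated for an exact sequence e → K → G → Q → e of arbitrary algebraic groups and also
for unipotent and solvable parts; G is assumed smooth here, and only the linear part is stated.) -/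
theorem result (k : Type u) [Field k] [IsAlgClosed k]
    (G : Over (Spec (CommRingCat.of k))) [GrpObj G] [Smooth G.hom] [QuasiCompact G.hom]
    (K : Over (Spec (CommRingCat.of k))) [GrpObj K] [QuasiCompact K.hom] [LocallyOfFiniteType K.hom]
    (j : K ⟶ G) [IsMonHom j] [IsClosedImmersion j.left] (hK : AlgGrp.IsNormalHom j)
    (N : Over (Spec (CommRingCat.of k))) [GrpObj N] (i : N ⟶ G) [IsMonHom i] [IsClosedImmersion i.left]
    [Smooth N.hom] [ConnectedSpace ↥N.left] [IsAffine N.left] (hN : AlgGrp.IsNormalHom i)
    (hNmax : (∀ (N' : Over (Spec (CommRingCat.of k))) [GrpObj N'] (i' : N' ⟶ G) [IsMonHom i'] [IsClosedImmersion i'.left]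
      [Smooth N'.hom] [ConnectedSpace ↥N'.left] [IsAffine N'.left], AlgGrp.IsNormalHom i' → ∃ f : N' ⟶ N, f ≫ i = i'))
    (NK : Over (Spec (CommRingCat.of k))) [GrpObj NK] (iK : NK ⟶ K) [IsMonHom iK] [IsClosedImmersion iK.left]
    [Smooth NK.hom] [ConnectedSpace ↥NK.left] [IsAffine NK.left] (hNK : AlgGrp.IsNormalHom iK)
    (hNKmax : (∀ (N' : Over (Spec (CommRingCat.of k))) [GrpObj N'] (i' : N' ⟶ K) [IsMonHom i'] [IsClosedImmersion i'.left]
      [Smooth N'.hom] [ConnectedSpace ↥N'.left] [IsAffine N'.left], AlgGrp.IsNormalHom i' → ∃ f : N' ⟶ NK, f ≫ iK = i')) :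
    (∃ g : NK ⟶ N, g ≫ i = iK ≫ j) ∧
      topologicalKrullDim ↥NK.left = topologicalKrullDim ↥(pullback j.left i.left) := by
  open Groth.Agent K414.RedNorm in
  have mj : Mono j := Books.AlgPtsGrp.mono_of_isClosedImmersion j
  have mi : Mono i := Books.AlgPtsGrp.mono_of_isClosedImmersion i
  have miK : Mono iK := Books.AlgPtsGrp.mono_of_isClosedImmersion iK
  -- the largest subgroup of `K` is normal in `G`
  have hn1 : AlgGrp.IsNormalHom (iK ≫ j) := by
    refine isNormalHom_comp j hK iK fun κ h1 h2 => ?_
    have h4 : IsIso κ.left := inferInstanceAs (IsIso ((Over.forget _).map κ))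
    have h3 : IsClosedImmersion (iK ≫ κ).left := by rw [Over.comp_left]; infer_instance
    exact hNKmax NK (iK ≫ κ) (Sga3B.NormBc.isNormalHom_comp_iso iK κ hNK)
  have hcl1 : IsClosedImmersion (iK ≫ j).left := by rw [Over.comp_left]; infer_instance
  obtain ⟨g, hg⟩ := hNmax NK (iK ≫ j) hn1
  refine ⟨⟨g, hg⟩, ?_⟩
  obtain ⟨P, _, a, b, ha, hb, hp⟩ := Sga3B.Parab.Inter.exists_inter j i
  have hpl := Books.AffBridge2.left_of_isPullback hp
  have e : P.left ≅ pullback j.left i.left := hpl.isoPullback
  have hdim : topologicalKrullDim ↥(pullback j.left i.left) = topologicalKrullDim ↥P.left :=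
    (IsHomeomorph.topologicalKrullDim_eq _ e.hom.homeomorph.isHomeomorph).symm
  rw [hdim]
  have hacl : IsClosedImmersion a.left := MorphismProperty.of_isPullback hpl.flip (inferInstanceAs (IsClosedImmersion i.left))
  have hbcl : IsClosedImmersion b.left := MorphismProperty.of_isPullback hpl (inferInstanceAs (IsClosedImmersion j.left))
  have hPaff : IsAffine P.left := isAffine_of_isAffineHom b.left
  have hPlft : LocallyOfFiniteType P.hom := by rw [← Over.w b]; infer_instance
  obtain ⟨U, _, u, hu, hucl, hus, huc, hr⟩ := Sga3B.RedIdComp.exists_redIdComp P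
  have haj : IsClosedImmersion (a ≫ j).left := by rw [Over.comp_left]; infer_instance
  have hUn : AlgGrp.IsNormalHom (u ≫ a ≫ j) := isNormalHom_redIdComp (a ≫ j) (isNormalHom_inter hK hN hp) u hr
  have hUn2 : AlgGrp.IsNormalHom (u ≫ a) := isNormalHom_of_comp j (u ≫ a) (by rw [Category.assoc]; exact hUn)
  have hUaff : IsAffine U.left := isAffine_of_isAffineHom u.left
  have hua : IsClosedImmersion (u ≫ a).left := by rw [Over.comp_left]; infer_instance
  obtain ⟨f, hf⟩ := hNKmax U (u ≫ a) hUn2
  rw [← dim_eq_of_connectedComponent u hr]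
  -- the other direction
  obtain ⟨f1, hf1⟩ : ∃ f1 : NK ⟶ P, f1 ≫ a = iK := ⟨hp.lift iK g (by rw [hg]), hp.lift_fst _ _ _⟩
  have ma : Mono a := Books.AlgPtsGrp.mono_of_isClosedImmersion a
  have mu : Mono u := Books.AlgPtsGrp.mono_of_isClosedImmersion u
  have hf1m : IsMonHom f1 := by
    have : IsMonHom (f1 ≫ a) := by rw [hf1]; infer_instance
    exact Sga3C.SubGrp.isMonHom_of_comp_mono f1 a
  have hred : IsReduced NK.left := Books.AlgPtsSmooth.isReduced_of_smooth NK
  obtain ⟨f2, hf2⟩ : ∃ f2 : NK ⟶ U, f2 ≫ u = f1 := by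
    refine Books.AlgPtsGrp.exists_lift u f1 ?_
    rw [hr]
    refine (isPreconnected_range f1.left.continuous).subset_connectedComponent ?_
    rw [← IsMonHom.one_hom f1, Books.AlgPts.pt_comp]
    exact ⟨_, rfl⟩
  have e1 : f2 ≫ f = 𝟙 _ := by
    rw [← cancel_mono iK, Category.assoc, hf, reassoc_of% hf2, hf1, Category.id_comp]
  have e2 : f ≫ f2 = 𝟙 _ := by
    rw [← cancel_mono u, ← cancel_mono a, Category.assoc, Category.assoc, Category.assoc, reassoc_of% hf2, hf1, hf,
      Category.id_comp]
  let E : NK.left ≅ U.left := (Over.forget _).mapIso ⟨f2, f, e1, e2⟩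
  exact IsHomeomorph.topologicalKrullDim_eq _ E.hom.homeomorph.isHomeomorph

end Groth.Agent.S19517
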