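import Groth.Statements.S19518
import Groth.Agent.AlgGrp.K916.RadMap
import Groth.Agent.AGF.K494.HomDict
import Groth.Agent.AGF.K494.RadRed
import Groth.Agent.AGF.K501.HomPts
import Groth.Agent.AlgGrp.K411.HomKit

set_option autoImplicit false
universe u
open CategoryTheory CategoryTheory.Limits MonoidalCategory CartesianMonoidalCategory MonObj GrpObj AlgebraicGeometry
open AlgGrp

namespace Groth.Agent.S19518

/-- Over an algebraically closed field k let e → K → G → Q → e be an exact sequence of k-group schemes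
of finite type with G smooth and affine (i : K → G a closed subgroup scheme which is the kernel of
the flat surjective homomorphism π : G → Q), and let G_solv ⊆ G and Q_solv ⊆ Q be the largest smooth
connected solvable normal closed subgroup schemes. Then π maps G_solv into Q_solv and the induced
homomorphism G_solv → Q_solv is surjective. (The published proposition is stated for arbitrary
algebraic groups; G is taken smooth, as the argument requires, and affine, the setting in which the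
solvable part is considered.) -/
theorem result (k : Type u) [Field k] [IsAlgClosed k]
    (K G Q : Over (Spec (CommRingCat.of k))) [GrpObj K] [GrpObj G] [GrpObj Q]
    [QuasiCompact K.hom] [LocallyOfFiniteType K.hom] [Smooth G.hom] [QuasiCompact G.hom] [IsAffine G.left]
    [QuasiCompact Q.hom] [LocallyOfFiniteType Q.hom]
    (i : K ⟶ G) [IsMonHom i] [IsClosedImmersion i.left]
    (π : G ⟶ Q) [IsMonHom π] [Flat π.left] [Surjective π.left] (hker : AlgGrp.IsKernel i π)
    (NG : Over (Spec (CommRingCat.of k))) [GrpObj NG] (iG : NG ⟶ G) [IsMonHom iG] [IsClosedImmersion iG.left]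
    [Smooth NG.hom] [ConnectedSpace ↥NG.left] (hNGs : Red.IsSolvableGrp NG) (hNG : AlgGrp.IsNormalHom iG)
    (hNGmax : (∀ (N' : Over (Spec (CommRingCat.of k))) [GrpObj N'] (i' : N' ⟶ G) [IsMonHom i'] [IsClosedImmersion i'.left]
      [Smooth N'.hom] [ConnectedSpace ↥N'.left], Red.IsSolvableGrp N' → AlgGrp.IsNormalHom i' → ∃ f : N' ⟶ NG, f ≫ iG = i'))
    (NQ : Over (Spec (CommRingCat.of k))) [GrpObj NQ] (iQ : NQ ⟶ Q) [IsMonHom iQ] [IsClosedImmersion iQ.left]
    [Smooth NQ.hom] [ConnectedSpace ↥NQ.left] (hNQs : Red.IsSolvableGrp NQ) (hNQ : AlgGrp.IsNormalHom iQ)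
    (hNQmax : (∀ (N' : Over (Spec (CommRingCat.of k))) [GrpObj N'] (i' : N' ⟶ Q) [IsMonHom i'] [IsClosedImmersion i'.left]
      [Smooth N'.hom] [ConnectedSpace ↥N'.left], Red.IsSolvableGrp N' → AlgGrp.IsNormalHom i' → ∃ f : N' ⟶ NQ, f ≫ iQ = i')) :
    ∃ f : NG ⟶ NQ, f ≫ iQ = iG ≫ π ∧ Surjective f.left := by
  have hA0 : LocallyOfFiniteType G.hom := inferInstance
  have hQs : Smooth Q.hom := AlgGrp.K411.HomKit.smooth_of_flat_surjective π
  have hQa : IsAffine Q.left := K494.HomDict.isAffine_of_surjective π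
  obtain ⟨A, _, _, e, he, hAft⟩ := K494.RadRed.exists_hopf_ft k G
  obtain ⟨C, _, _, e', he', hCft⟩ := K494.RadRed.exists_hopf_ft k Q
  have hAsm : Smooth (Books.AffBridge.SpecOver k A).hom := by
    rw [Books.AffBridge2.hom_eq_of_iso e.symm]
    have : IsIso e.symm.hom.left := (Over.forget _).map_isIso e.symm.hom
    infer_instance
  have hCsm : Smooth (Books.AffBridge.SpecOver k C).hom := by
    rw [Books.AffBridge2.hom_eq_of_iso e'.symm]
    have : IsIso e'.symm.hom.left := (Over.forget _).map_isIso e'.symm.hom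
    infer_instance
  have hAr : _root_.IsReduced A := (Sga3B.RG.BrPts.smooth_iff A).1 hAsm
  have hCr : _root_.IsReduced C := (Sga3B.RG.BrPts.smooth_iff C).1 hCsm
  obtain ⟨φ, hφ⟩ := K494.HomDict.exists_hom e e' π
  have hφ' : e.inv ≫ π ≫ e'.hom = Books.AffBridge.specMap k (φ : C →ₐ[k] A) := by
    rw [hφ, Iso.inv_hom_id_assoc]
  have hs := K501.HomPts.ptMap_surjective e e' hφ'
  have hR := K495.RadSch.isRadPt_psub e iG hNG hNGs
    (fun R' _ r' _ h1 h2 h3 h4 h5 => hNGmax R' r' h5 h4)
  have hR' := K495.RadSch.isRadPt_psub e' iQ hNQ hNQs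
    (fun R' _ r' _ h1 h2 h3 h4 h5 => hNQmax R' r' h5 h4)
  have hmap := K916.RadMap.map_rad φ hs ⟨hR.normal, hR.isCCS, hR.max⟩
    ⟨hR'.normal, hR'.isCCS, hR'.max⟩
  rw [K495.RadSch.psub_eq_ptsSub, K495.RadSch.psub_eq_ptsSub] at hmap
  have hcomp := K501.HomPts.ptsSub_comp e e' hφ' iG
  have hred : IsReduced NG.left := Books.AlgPtsSmooth.isReduced_of_smooth NG
  obtain ⟨f, hf⟩ : ∃ f : NG ⟶ NQ, f ≫ iQ = iG ≫ π := by
    refine Sga3B.RG.BrPts.exists_factor iQ (iG ≫ π) fun x => ?_
    have h1 : (Sga3B.RG.BrPts.ptEquiv k C).symm (x ≫ (iG ≫ π) ≫ e'.hom) ∈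
        Sga3B.RG.BrPts.ptsSub (iQ ≫ e'.hom) := by
      rw [← hmap, ← hcomp]
      exact ⟨x, by simp⟩
    obtain ⟨n, hn⟩ := h1
    refine ⟨n, ?_⟩
    rw [MulEquiv.apply_symm_apply] at hn
    rw [← cancel_mono e'.hom, Category.assoc, Category.assoc, hn]
  exact ⟨f, hf, K501.HomPts.surjective_of_le e e' hφ' iG iQ f hf hmap.ge⟩

end Groth.Agent.S19518
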