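import Groth.Statements.S19522

set_option autoImplicit false
universe u
open TensorProduct
open GLin

namespace Groth.Agent.S19522

section aux

variable {k : Type u} [Field k] {A : Type u} [CommRing A] [Algebra k A]
  {R : Type u} [CommRing R] [Algebra k R]

/-- the `n`-th coefficient as a `k`-linear map -/
noncomputable def cf (k : Type u) [Field k] (R : Type u) [CommRing R] [Algebra k R] (n : ℕ) :
    Polynomial R →ₗ[k] R := (Polynomial.lcoeff R n).restrictScalars k

/-- the `n`-th monomial as a `k`-linear map -/
noncomputable def mo (k : Type u) [Field k] (R : Type u) [CommRing R] [Algebra k R] (n : ℕ) :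
    R →ₗ[k] Polynomial R := (Polynomial.monomial n).restrictScalars k

@[simp] lemma cf_apply (n : ℕ) (g : Polynomial R) : cf k R n g = g.coeff n := rfl
@[simp] lemma mo_apply (n : ℕ) (r : R) : mo k R n r = Polynomial.monomial n r := rfl

lemma exists_sum (z : Polynomial R ⊗[k] A) :
    ∃ N : ℕ, ∀ M, N ≤ M → z = ∑ n ∈ Finset.range M, (mo k R n).rTensor A ((cf k R n).rTensor A z) := by
  induction z with
  | zero => exact ⟨0, fun M _ => by simp⟩
  | tmul g a =>
    refine ⟨g.natDegree + 1, fun M hM => ?_⟩
    simp only [LinearMap.rTensor_tmul, cf_apply, mo_apply]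
    rw [← TensorProduct.sum_tmul, ← g.as_sum_range' M (by omega)]
  | add x y hx hy =>
    obtain ⟨N, hN⟩ := hx
    obtain ⟨N', hN'⟩ := hy
    refine ⟨max N N', fun M hM => ?_⟩
    conv_lhs => rw [hN M (le_trans (le_max_left _ _) hM), hN' M (le_trans (le_max_right _ _) hM)]
    simp only [map_add, Finset.sum_add_distrib]

lemma ext_cf {z z' : Polynomial R ⊗[k] A}
    (h : ∀ n, (cf k R n).rTensor A z = (cf k R n).rTensor A z') : z = z' := by
  obtain ⟨N, hN⟩ := exists_sum z
  obtain ⟨N', hN'⟩ := exists_sum z'
  rw [hN (max N N') (le_max_left _ _), hN' (max N N') (le_max_right _ _)]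
  simp only [h]

lemma cf_mul (n m : ℕ) (z : R ⊗[k] A) (a : A) :
    (cf k R n).rTensor A (Algebra.TensorProduct.map (Polynomial.CAlgHom : R →ₐ[k] Polynomial R)
      (AlgHom.id k A) z * ((Polynomial.X : Polynomial R) ^ m) ⊗ₜ[k] a) =
      if n = m then z * (1 : R) ⊗ₜ[k] a else 0 := by
  induction z with
  | zero => simp
  | tmul r b =>
    simp only [Algebra.TensorProduct.map_tmul, AlgHom.coe_id, id_eq,
      Algebra.TensorProduct.tmul_mul_tmul, LinearMap.rTensor_tmul, cf_apply]
    rw [show (Polynomial.CAlgHom : R →ₐ[k] Polynomial R) r = Polynomial.C r from rfl,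
      Polynomial.coeff_C_mul, Polynomial.coeff_X_pow]
    split_ifs <;> simp
  | add x y hx hy =>
    rw [map_add, add_mul, map_add, hx, hy]
    split_ifs
    · rw [add_mul]
    · simp

end aux

/-- Let k be a field, A a commutative k-bialgebra coacting multiplicatively on a commutative k-algebra
R, and χ ∈ A a group-like element with an inverse χ' (χχ' = 1). Suppose the polynomial ring R[t]
carries a multiplicative coaction which restricts to the given one on constants and sends t to t ⊗
χ'. Then g ∈ R[t] is coinvariant if and only if, for every r, its r-th coefficient has coaction g_r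
↦ g_r ⊗ χ^r; that is, the ring of invariants of R[t] is the sum over r ≥ 0 of the weight-χ^r
semi-invariants of R times t^r. (The published statement is phrased for an affine variety with an
action of a linear algebraic group over an algebraically closed field of characteristic zero and
identifies the invariants of X × A¹ with the graded ring of invariant sections of the powers of the
linearised trivial bundle; this is its coordinate-ring content, valid over any field.) -/
theorem result (k : Type u) [Field k]
    (A : Type u) [CommRing A] [Bialgebra k A]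
    (R : Type u) [CommRing R] [Algebra k R] [HopfRep.Comod k A R] [GLin.IsCoactAlg k A R]
    [HopfRep.Comod k A (Polynomial R)] [GLin.IsCoactAlg k A (Polynomial R)]
    (χ χ' : A) (hχ : CoalgebraStruct.comul (R := k) (A := A) χ = χ ⊗ₜ[k] χ)
    (hχε : CoalgebraStruct.counit (R := k) (A := A) χ = 1) (hχχ' : χ * χ' = 1)
    (hC : ∀ r : R, HopfRep.Comod.coact (k := k) (A := A) (Polynomial.C r) =
      Algebra.TensorProduct.map (Polynomial.CAlgHom : R →ₐ[k] Polynomial R) (AlgHom.id k A)
        (HopfRep.Comod.coact (k := k) (A := A) r))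
    (hX : HopfRep.Comod.coact (k := k) (A := A) (Polynomial.X : Polynomial R) = Polynomial.X ⊗ₜ[k] χ')
    (g : Polynomial R) :
    g ∈ GLin.invariants k A (Polynomial R) ↔
      ∀ r : ℕ, g.coeff r ∈ HopfRep.eigenspace k A R (χ ^ r) := by
  have hXpow : ∀ n : ℕ, HopfRep.Comod.coact (k := k) (A := A) ((Polynomial.X : Polynomial R) ^ n) =
      ((Polynomial.X : Polynomial R) ^ n) ⊗ₜ[k] (χ' ^ n) := by
    intro n
    rw [← GLin.coactAlgHom_apply, map_pow, GLin.coactAlgHom_apply, hX,
      Algebra.TensorProduct.tmul_pow]
  have key : ∀ n, (cf k R n).rTensor A (HopfRep.Comod.coact (k := k) (A := A) g) =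
      HopfRep.Comod.coact (k := k) (A := A) (g.coeff n) * (1 : R) ⊗ₜ[k] (χ' ^ n) := by
    intro n
    conv_lhs => rw [g.as_sum_range_C_mul_X_pow' (n := max (g.natDegree + 1) (n + 1)) (by omega)]
    simp only [map_sum, GLin.IsCoactAlg.coact_mul, hC, hXpow]
    simp only [cf_mul]
    rw [Finset.sum_ite_eq]
    rw [if_pos (by simp)]
  have hinv : ∀ (n : ℕ) (z : R ⊗[k] A) (r : R),
      z * (1 : R) ⊗ₜ[k] (χ' ^ n) = r ⊗ₜ[k] (1 : A) ↔ z = r ⊗ₜ[k] (χ ^ n) := by
    intro n z r
    have h1 : ((1 : R) ⊗ₜ[k] (χ' ^ n)) * ((1 : R) ⊗ₜ[k] (χ ^ n)) = 1 := by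
      rw [Algebra.TensorProduct.tmul_mul_tmul, one_mul, ← mul_pow, mul_comm χ' χ, hχχ', one_pow,
        Algebra.TensorProduct.one_def]
    constructor
    · intro h
      have := congrArg (· * ((1 : R) ⊗ₜ[k] (χ ^ n))) h
      simpa [mul_assoc, h1] using this
    · rintro rfl
      rw [Algebra.TensorProduct.tmul_mul_tmul, mul_one, ← mul_pow, hχχ', one_pow]
  rw [GLin.mem_invariants_iff]
  constructor
  · intro h n
    have h2 := key n
    rw [h, LinearMap.rTensor_tmul, cf_apply] at h2
    exact (hinv n _ _).1 h2.symm
  · intro h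
    apply ext_cf
    intro n
    rw [key n, LinearMap.rTensor_tmul, cf_apply]
    exact (hinv n _ _).2 (h n)

end Groth.Agent.S19522
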