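import Groth.Statements.S19524
import Groth.Agent.OmegaSh.K584.GenExt
import Groth.Agent.S1549
import Groth.Agent.S2535
-- import your own Groth.Agent.* helpers here

set_option autoImplicit false
universe u
open CategoryTheory CategoryTheory.Limits AlgebraicGeometry
open OmegaSh

namespace Groth.Agent.S19524

/-- Let k be a field and f : X → Z a k-morphism between integral proper k-schemes, where X is
geometrically normal (its base change to an algebraic closure of k has integrally closed local
domains) and Z is smooth over k; let Y ⊆ Z be the closure of the image of f, m its dimension, and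
assume the fibre of f over the generic point of Y is geometrically reduced over the residue field
there (the function field extension K(Y) ⊆ K(X) is separable). Let d_Z : O_Z → Ω_Z and d_X : O_X →
Ω_X be universal k-derivations and c : f^*Ω_Z → Ω_X the O_X-linear map compatible with them, and let
U ⊆ X be the largest open subscheme smooth over k. If f^*Ω_Z is a free O_X-module of finite rank and
Ω^m_X is an m-th exterior power of Ω_X (affine-locally the exterior power of the sections), then
Ω^m_X has a nonzero section over U: h⁰(U, Ω^m) ≥ 1. -/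
theorem result (k : Type u) [Field k]
    (X Z : Scheme.{u}) [X.Over (Spec (CommRingCat.of k))] [Z.Over (Spec (CommRingCat.of k))]
    [IsProper (X ↘ Spec (CommRingCat.of k))] [IsProper (Z ↘ Spec (CommRingCat.of k))] [IsIntegral X] [IsIntegral Z]
    [Smooth (Z ↘ Spec (CommRingCat.of k))]
    (hgn : ∀ (K : Type u) [Field K] [Algebra k K] [IsAlgClosure k K],
      Pi1.IsNormalScheme (pullback (X ↘ Spec (CommRingCat.of k)) (Spec.map (CommRingCat.ofHom (algebraMap k K)))))
    (f : X ⟶ Z) (hf : f ≫ (Z ↘ Spec (CommRingCat.of k)) = X ↘ Spec (CommRingCat.of k))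
    (η : Z) (hη : closure {η} = closure (Set.range f.base)) (m : ℕ)
    (hm : topologicalKrullDim (closure (Set.range f.base)) = m)
    (hsep : GeometricallyReduced (pullback.snd f (Z.fromSpecResidueField η)))
    (ΩZ : Z.Modules) (dZ : OmegaSh.Der (Z ↘ Spec (CommRingCat.of k)) ΩZ) (hdZ : OmegaSh.IsUniversal dZ)
    (ΩX : X.Modules) (dX : OmegaSh.Der (X ↘ Spec (CommRingCat.of k)) ΩX) (hdX : OmegaSh.IsUniversal dX)
    (c : (Scheme.Modules.pullback f).obj ΩZ ⟶ ΩX) (hc : OmegaSh.IsDiffCompat f dZ dX c)
    (hfree : ∃ d : ℕ, Nonempty ((Scheme.Modules.pullback f).obj ΩZ ≅ FlatMod.freeMod X d))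
    (U : X.Opens) (hU : Smooth (U.ι ≫ (X ↘ Spec (CommRingCat.of k))))
    (hUmax : ∀ V : X.Opens, Smooth (V.ι ≫ (X ↘ Spec (CommRingCat.of k))) → V ≤ U)
    (Ωm : X.Modules) (hΩm : ExtPow.IsExtPow m ΩX Ωm) :
    ∃ s : Ωm.val.obj (Opposite.op U), s ≠ 0 := by
  have hη' : f (genericPoint X) = η := by
    have h1 : closure {f (genericPoint X)} = closure (Set.range f.base) := by
      have h1 := (genericPoint_spec X).image f.continuous
      rw [Set.image_univ] at h1
      exact h1
    exact ((specializes_iff_closure_subset.2 (h1.trans hη.symm).ge).antisymm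
      (specializes_iff_closure_subset.2 (h1.trans hη.symm).le)).eq
  subst hη'
  obtain ⟨s, hs⟩ := K584.GenSec.exists_sections hf hdX hc hsep m (by rw [hη, hm]) hfree
  -- the smooth locus is nonempty
  have hred : GeometricallyReduced (X ↘ Spec (CommRingCat.of k)) := by
    have h1 := hgn (AlgebraicClosure k)
    have h2 : AlgebraicGeometry.IsReduced (FBase.bc (X ↘ Spec (CommRingCat.of k)) (AlgebraicClosure k)) := by
      have h3 : ∀ x, _root_.IsReduced ((FBase.bc (X ↘ Spec (CommRingCat.of k)) (AlgebraicClosure k)).presheaf.stalk x) :=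
        fun x => by
          have h4 : IsDomain ((FBase.bc (X ↘ Spec (CommRingCat.of k)) (AlgebraicClosure k)).presheaf.stalk x) :=
            (h1 x).1
          infer_instance
      exact isReduced_of_isReduced_stalk _
    exact Groth.Agent.S2535.result (k := k) (Ω := AlgebraicClosure k) (X ↘ Spec (CommRingCat.of k))
  obtain ⟨U', hU'd, hU's⟩ := (Groth.Agent.S1549.result k X).1 hred
  have hξU : genericPoint X ∈ U := by
    obtain ⟨x, hx⟩ := hU'd.nonempty
    exact hUmax U' hU's (((genericPoint_spec X).mem_open_set_iff U'.isOpen).2 ⟨x, trivial, hx⟩)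
  obtain ⟨_, ⟨V, hV, rfl⟩, hξV, hVU⟩ := X.isBasis_affineOpens.exists_subset_of_mem_open
    (show genericPoint X ∈ (U : Set X) from hξU) U.isOpen
  obtain ⟨φ, hφ⟩ := hΩm
  obtain ⟨σ, hσ⟩ := K584.GenExt.exists_wedge (U := ⊤) φ hφ s
  refine ⟨Ωm.presheaf.map (homOfLE (le_top (a := U))).op σ, fun h0 => ?_⟩
  have h1 := hσ ⟨V, hV⟩ le_top
  have h2 : Ωm.presheaf.map (homOfLE (le_top (a := V))).op σ = 0 := by
    have h3 : Ωm.presheaf.map (homOfLE (le_top (a := U))).op ≫ Ωm.presheaf.map (homOfLE hVU).op =
        Ωm.presheaf.map (homOfLE (le_top (a := V))).op := by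
      rw [← Functor.map_comp]
      rfl
    have h4 := ConcreteCategory.congr_hom h3 σ
    rw [← h4, CategoryTheory.comp_apply]
    exact (congrArg (Ωm.presheaf.map (homOfLE hVU).op) h0).trans (map_zero _)
  rw [h2] at h1
  have h5 := (LinearEquiv.map_eq_zero_iff (φ ⟨V, hV⟩).symm).1 h1.symm
  refine K584.GenExt.wedge_ne_zero (E := ΩX) (V := V) _ hξV ?_ h5
  have e : ∀ i, ΩX.presheaf.germ V (genericPoint X) hξV (ΩX.presheaf.map (homOfLE (le_top (a := V))).op (s i)) =
      ΩX.presheaf.germ ⊤ (genericPoint X) trivial (s i) := fun i =>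
    TopCat.Presheaf.germ_res_apply ΩX.presheaf (homOfLE (le_top (a := V))) (genericPoint X) hξV (s i)
  simp only [e]
  exact hs

end Groth.Agent.S19524
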