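import Groth.Statements.S19526
import Groth.Agent.Vanish.K660.Rows3
import Groth.Agent.Vanish.K660.AltThm

set_option autoImplicit false
universe u
open CategoryTheory CategoryTheory.Limits AlgebraicGeometry
open Vanish

namespace Groth.Agent.S19526

/-- Let k be an algebraically closed field of characteristic zero, X an irreducible proper smooth
k-scheme of dimension n with an ample invertible O_X-module and Z an integral proper k-scheme with
an ample invertible O_Z-module and of the same dimension n (so X and Z are projective varieties, X
non-singular); let f : X → Z be a proper surjective k-morphism (generically finite, for instance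
birational), ω an n-th exterior power of the sheaf of differentials Ω_{X/k} (a canonical sheaf of X)
and L an invertible O_X-module which is numerically effective: it has non-negative degree on every
integral one-dimensional closed subscheme of X. Then the higher direct images R^b f_*(ω ⊗ L) vanish
for all b > 0. (The published statement allows any proper surjective f from a non-singular variety,
a normal crossing divisor D and an exponent N, asks only that L^N(−D) be numerically effective on
the curves contracted by f, concerns L(−[D/N]) ⊗ ω and bounds b below by dim X − dim Z minus the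
Iitaka dimension of L on a general fibre; this row takes D = 0, L numerically effective on all of X,
X and Z projective and dim X = dim Z.) -/
theorem result (k : Type u) [Field k] [IsAlgClosed k] [CharZero k]
    (X : Scheme.{u}) [X.Over (Spec (CommRingCat.of k))] [IsProper (X ↘ Spec (CommRingCat.of k))]
    [Smooth (X ↘ Spec (CommRingCat.of k))] [IrreducibleSpace X] (n : ℕ) (hn : topologicalKrullDim X = n)
    (HX : X.Modules) (hHX : CohB1.IsAmple HX)
    (Z : Scheme.{u}) [Z.Over (Spec (CommRingCat.of k))] [IsIntegral Z] [IsProper (Z ↘ Spec (CommRingCat.of k))]
    (HZ : Z.Modules) (hHZ : CohB1.IsAmple HZ)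
    (f : X ⟶ Z) (hf : f ≫ (Z ↘ Spec (CommRingCat.of k)) = X ↘ Spec (CommRingCat.of k)) [IsProper f] [Surjective f]
    (ω : X.Modules) (hω : ExtPow.IsExtPow n (Omega.sheaf (X ↘ Spec (CommRingCat.of k))) ω)
    (hZ : topologicalKrullDim Z = n)
    (L : X.Modules) (hL : PicF.IsInvertible L)
    (hnef : (∀ (Y : Scheme.{u}) (i : Y ⟶ X) [IsClosedImmersion i], IsIntegral Y → topologicalKrullDim Y = 1 →
      0 ≤ Pic13.curveDeg k (i ≫ (X ↘ Spec (CommRingCat.of k))) ((Scheme.Modules.pullback i).obj L)))
    [HasInjectiveResolutions X.Modules] (b : ℕ) (hb : 0 < b) :
    IsZero ((Coh.Rpush f b).obj (CohB1.tensorMod ω L)) := by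
  exact K660.Rows.row19526 k (K660.AltThm.alt k) (K660.AltThm.desc k) (K660.AltThm.ev k) X n hn HX hHX Z HZ hHZ f hf ω hω hZ L hL hnef b hb

end Groth.Agent.S19526
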