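import Groth.Statements.S19527
import Groth.Agent.Vanish.K660.Rows3
import Groth.Agent.Vanish.K660.AltThm

set_option autoImplicit false
universe u
open CategoryTheory CategoryTheory.Limits AlgebraicGeometry
open Vanish

namespace Groth.Agent.S19527

/-- Let k be an algebraically closed field of characteristic zero, X an irreducible proper smooth
k-scheme of dimension n with an ample invertible O_X-module and Z an integral proper k-scheme with
an ample invertible O_Z-module (so f below is a surjective morphism of projective varieties with
non-singular source); let f : X → Z be a proper surjective k-morphism, ω an n-th exterior power of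
Ω_{X/k} (a canonical sheaf of X) and L a semi-ample invertible O_X-module: some tensor power L^⊗μ
with μ > 0 is generated by its global sections. Then for every b ≥ 0 the higher direct image R^b
f_*(ω ⊗ L) has no torsion: all its stalks are torsion-free modules over the (integral) local rings
of Z. (The published statement allows any proper surjective f from a non-singular variety, a normal
crossing divisor D and an exponent N, asks only that L^N(−D) be semi-ample relative to f, and
concerns L(−[D/N]) ⊗ ω; this row takes D = 0, X and Z projective and L semi-ample on X.) -/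
theorem result (k : Type u) [Field k] [IsAlgClosed k] [CharZero k]
    (X : Scheme.{u}) [X.Over (Spec (CommRingCat.of k))] [IsProper (X ↘ Spec (CommRingCat.of k))]
    [Smooth (X ↘ Spec (CommRingCat.of k))] [IrreducibleSpace X] (n : ℕ) (hn : topologicalKrullDim X = n)
    (HX : X.Modules) (hHX : CohB1.IsAmple HX)
    (Z : Scheme.{u}) [Z.Over (Spec (CommRingCat.of k))] [IsIntegral Z] [IsProper (Z ↘ Spec (CommRingCat.of k))]
    (HZ : Z.Modules) (hHZ : CohB1.IsAmple HZ)
    (f : X ⟶ Z) (hf : f ≫ (Z ↘ Spec (CommRingCat.of k)) = X ↘ Spec (CommRingCat.of k)) [IsProper f] [Surjective f]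
    (ω : X.Modules) (hω : ExtPow.IsExtPow n (Omega.sheaf (X ↘ Spec (CommRingCat.of k))) ω)
    (L : X.Modules) (hL : PicF.IsInvertible L)
    (hsa : ∃ μ : ℕ, 0 < μ ∧ Curv2.IsGloballyGenerated (CohB1.tensorPow L μ))
    [HasInjectiveResolutions X.Modules] (b : ℕ) :
    TorSh.IsTorsionFree ((Coh.Rpush f b).obj (CohB1.tensorMod ω L)) := by
  exact K660.Rows.row19527 k (K660.AltThm.alt k) (K660.AltThm.desc k) (K660.AltThm.ev k) X n hn HX hHX Z HZ hHZ f hf ω hω L hL hsa b

end Groth.Agent.S19527
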