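import Groth.Statements.S19529
import Groth.Agent.AbVar.K528.TateAny
import Groth.Agent.AbVar.K528.IntMin

set_option autoImplicit false
universe u
open CategoryTheory MonoidalCategory CartesianMonoidalCategory MonObj GrpObj AlgebraicGeometry
open AbVar

namespace Groth.Agent.S19529

theorem aeval_map_int {E F : Type*} [Ring E] [Ring F] (f : E →+* F) (a : E) (P : Polynomial ℤ)
    (h : Polynomial.aeval a P = 0) : Polynomial.aeval (f a) P = 0 := by
  have h1 := congrArg f h
  rw [map_zero, Polynomial.aeval_def, Polynomial.hom_eval₂] at h1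
  rw [← h1, Polynomial.aeval_def]
  congr 1
  exact Subsingleton.elim _ _

/-- Let k be a field with an algebraic closure Ω, l a prime invertible in k, A an abelian variety over k
(a proper, geometrically integral commutative group scheme over k) and α an endomorphism of A (a
homomorphism of group schemes). Let T_l(α) be the induced ℤ_l-linear endomorphism of the l-adic Tate
module of Ω-points of A, which is assumed, as is always the case, to be free of finite rank over
ℤ_l. Then the minimal polynomial of T_l(α) over ℤ_l is defined over ℤ: there is a monic polynomial P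
with integer coefficients whose image in ℤ_l[X] is that minimal polynomial. (The companion clause on
the characteristic polynomial is stated separately for finite and for algebraically closed ground
fields.) -/
theorem result (k Ω : Type u) [Field k] [Field Ω] [Algebra k Ω] [IsAlgClosure k Ω]
    (l : ℕ) [Fact l.Prime] (hl : (l : k) ≠ 0) (A : Over (Spec (CommRingCat.of k)))
    [GrpObj A] [IsCommMonObj A] [IsProper A.hom] [GeometricallyIntegral A.hom]
    (α : A ⟶ A) [IsMonHom α]
    [Module.Free ℤ_[l] (AbDual.TateMod A l (SGA7.pt Ω))] [Module.Finite ℤ_[l] (AbDual.TateMod A l (SGA7.pt Ω))] :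
    ∃ P : Polynomial ℤ, P.Monic ∧
      (minpoly ℤ_[l] (AbDual.tateMapₗ (l := l) (T := SGA7.pt Ω) α)) = P.map (Int.castRingHom ℤ_[l]) := by
  have hΩ : IsAlgClosed Ω := IsAlgClosure.isAlgClosed k
  have hfin : Module.Finite ℤ (EndAV.End A) := K528.TateAny.finite_hom A A
  have htf : IsAddTorsionFree (EndAV.End A) := K510.TateHom.isAddTorsionFree (A := A) (B := A)
  let a : EndAV.End A := EndAV.End.of α
  obtain ⟨P, hP, hPa, hli⟩ := K528.IntMin.exists_monic a
  refine ⟨P, hP, ?_⟩
  have e : AbDual.tateMapₗ (l := l) (T := SGA7.pt Ω) α = EndAV.End.tateRep l (SGA7.pt Ω) a := rfl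
  rw [e]
  refine K528.IntMin.minpoly_eq P hP _ ?_ ?_
  · exact aeval_map_int (EndAV.End.tateRep l (SGA7.pt (K := k) Ω)) a P hPa
  · have h1 := K528.TateAny.linearIndependent (l := l) Ω hl (fun i : Fin P.natDegree => (a ^ (i : ℕ) : EndAV.End A)) hli
    have h2 : (fun i : Fin P.natDegree => EndAV.End.tateRep l (SGA7.pt (K := k) Ω) a ^ (i : ℕ)) =
        fun i : Fin P.natDegree => EndAV.Hom.tateMap (A := A) (B := A) l (SGA7.pt (K := k) Ω) (a ^ (i : ℕ)) := by
      funext i
      exact (map_pow (EndAV.End.tateRep l (SGA7.pt (K := k) Ω)) a i).symm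
    rw [h2]
    exact h1

end Groth.Agent.S19529
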