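import Groth.Statements.S19531
import Groth.Agent.DelIll.K776.RMain
import Groth.Agent.DelIll.K762.CRMain
import Groth.Agent.DelIll.K977.DuMain
import Groth.Agent.DelIll.K347.GC
import Groth.Agent.DelIll.K295.FA
import Groth.Agent.DelIll.K859.Fam
import Groth.Agent.DelIll.K761.Len

set_option autoImplicit false
universe u
open CategoryTheory CategoryTheory.Limits AlgebraicGeometry
open DelIll

namespace Groth.Agent.S19531

/-- Let p be a prime, S~ a scheme flat over Z/p^2 with reduction S = S~ ×_{Z/p^2} F_p (i : S → S~ the
cartesian closed immersion), where S is noetherian (and of characteristic p). Let f : X → S be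
smooth and proper of relative dimension at most p, i.e. the (p+1)-st exterior power of the sheaf of
relative differentials Ω_{X/S} vanishes, and suppose that the Frobenius twist X' = X ×_{S,F_S} S
admits a lifting to S~: a flat g' : X~' → S~ together with j' : X' → X~' making a cartesian square
over i. Then for all a and b the higher direct image R^b f_* Ω^a_{X/S}, for Ω^a any a-th exterior
power of Ω_{X/S}, is a finite locally free O_S-module. (The published statement also fixes a lifting
of the Frobenius of S to S~, not used here, allows a relative normal crossing divisor, and adds that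
these sheaves are compatible with arbitrary base change and that the Hodge-to-de Rham spectral
sequence degenerates; only the local freeness, with no boundary divisor, is stated here.) -/
theorem result (p : ℕ) [Fact p.Prime]
    (Sl : Scheme.{u}) (gS : Sl ⟶ Spec (CommRingCat.of (ULift.{u} (ZMod (p ^ 2))))) [Flat gS]
    (S : Scheme.{u}) (iS : S ⟶ Sl) (fS : S ⟶ Spec (CommRingCat.of (ULift.{u} (ZMod p))))
    (hS : IsPullback iS fS gS (Spec.map (CommRingCat.ofHom
      ((ZMod.castHom (dvd_pow_self p two_ne_zero) (ULift.{u} (ZMod p))).comp
        (ULift.ringEquiv : ULift.{u} (ZMod (p ^ 2)) ≃+* ZMod (p ^ 2)).toRingHom))))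
    [IsNoetherian S] [FrobSch.IsCharP S p]
    (X : Scheme.{u}) (f : X ⟶ S) [Smooth f] [IsProper f]
    (Om : ℕ → X.Modules) (hOm : ∀ a, ExtPow.IsExtPow a (Omega.sheaf f) (Om a))
    (hdim : IsZero (Om (p + 1)))
    (Xl' : Scheme.{u}) (g' : Xl' ⟶ Sl) [Flat g'] (j' : FrobSch.frobTwist f p ⟶ Xl')
    (hlift : IsPullback j' (pullback.snd f (FrobSch.frob S p)) g' iS)
    [HasInjectiveResolutions X.Modules] (a b : ℕ) :
    FlatMod.IsFinLocFree ((Coh.Rpush f b).obj (Om a)) :=
  K295.FA.main (K776.RMain.affMain K347.GC.main K977.DuMain.main K762.CRMain.main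
    (K776.RI2.i2 K859.Fam.main K761.Len.main)) p Sl gS S iS fS hS X f Om hOm hdim Xl' g' j' hlift a b

end Groth.Agent.S19531
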