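import Groth.Statements.S19533
import Groth.Agent.AbVar.K528.RedClosed
import Groth.Agent.AbVar.K528.Rigid

set_option autoImplicit false
universe u
open CategoryTheory CategoryTheory.Limits MonoidalCategory CartesianMonoidalCategory MonObj GrpObj AlgebraicGeometry
open AbVar

namespace Groth.Agent.S19533

open Groth.Agent.Books.AlgPts Groth.Agent.Books.AlgPtsGen

section aux

variable {k : Type u} [Field k] [IsAlgClosed k]

lemma isClosed_connectedComponentIn {α : Type*} [TopologicalSpace α] {F : Set α} (hF : IsClosed F) (x : α) :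
    IsClosed (connectedComponentIn F x) := by
  by_cases hx : x ∈ F
  · rw [connectedComponentIn_eq_image hx]
    exact hF.isClosedEmbedding_subtypeVal.isClosedMap _ isClosed_connectedComponent
  · rw [connectedComponentIn_eq_empty hx]; exact isClosed_empty

/-- Translation by a rational point of the neutral component of the fibre of the unit does not change `f`. -/
theorem lmul_comp_eq (A Y : Over (Spec (CommRingCat.of k))) [GrpObj A] [IsProper A.hom] [IsReduced A.left]
    [IrreducibleSpace A.left] [IsSeparated Y.hom] (f : A ⟶ Y)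
    (x : 𝟙_ (Over (Spec (CommRingCat.of k))) ⟶ A)
    (hx : pt x ∈ connectedComponentIn (f.left ⁻¹' {f.left (pt η[A])}) (pt η[A])) :
    lmul x ≫ f = f := by
  have hsub : Subsingleton (Spec (CommRingCat.of k)) := inferInstanceAs (Subsingleton (PrimeSpectrum k))
  have hcl : IsClosed {f.left (pt η[A])} := by
    rw [← pt_comp]; exact K528.RedClosed.isClosed_pt_of_isSeparated Y _
  have hF : IsClosed (f.left ⁻¹' {f.left (pt η[A])}) := hcl.preimage f.left.continuous
  obtain ⟨P, j, hj, hred, hr⟩ := K528.RedClosed.exists_redSub A _ (isClosed_connectedComponentIn hF (pt η[A]))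
  have hPp : IsProper P.hom := by
    rw [← Over.w j]; infer_instance
  have he : pt η[A] ∈ connectedComponentIn (f.left ⁻¹' {f.left (pt η[A])}) (pt η[A]) :=
    mem_connectedComponentIn rfl
  have hconn : ConnectedSpace P.left := by
    have h1 : _root_.IsConnected (Set.range j.left) := by
      rw [hr]
      exact isConnected_connectedComponentIn_iff.2 rfl
    have h2 := j.left.isClosedEmbedding.isEmbedding.toHomeomorph
    have h3 : ConnectedSpace (Set.range j.left) := isConnected_iff_connectedSpace.mp h1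
    exact h2.symm.surjective.connectedSpace h2.symm.continuous
  have hiso := K528.RedClosed.isIso_appTop P
  have hne : Nonempty P.left := inferInstance
  have hsurj : Surjective P.hom := ⟨fun s => ⟨Classical.arbitrary P.left, hsub.elim _ _⟩⟩
  have hPA : IsReduced (P ⊗ A).left := K528.RedClosed.isReduced_tensor P A
  have hPPA : IsReduced (P ⊗ (P ⊗ A)).left := K528.RedClosed.isReduced_tensor P (P ⊗ A)
  obtain ⟨g, hg⟩ := K528.Rigid.exists_fac_of_isIso P A Y ((j ▷ A) ≫ μ[A] ≫ f) (pt η[A]) (f.left (pt η[A])) (by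
    intro z hz
    have hpb : IsPullback (lift (𝟙 P) (toUnit P ≫ η[A])).left P.hom (snd P A).left η[A].left := by
      have h1 : IsPullback (lift (𝟙 P) (toUnit P ≫ η[A])) (toUnit P) (snd P A) η[A] := by
        refine ⟨⟨by simp⟩, ⟨PullbackCone.IsLimit.mk _ (fun s => s.fst ≫ fst P A) ?_ ?_ ?_⟩⟩
        · intro s
          have h2 := s.condition
          apply CartesianMonoidalCategory.hom_ext
          · simp
          · rw [Category.assoc, lift_snd, h2, ← Category.assoc]
            congr 1
            exact toUnit_unique _ _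
        · intro s; exact toUnit_unique _ _
        · intro s m h1 h2
          simp [← h1]
      exact h1.map (Over.forget _)
    obtain ⟨w, hw, -⟩ := Scheme.exists_preimage_of_isPullback hpb z (IsLocalRing.closedPoint k) hz
    rw [← hw, ← Scheme.Hom.comp_apply, ← Over.comp_left]
    have h1 : lift (𝟙 P) (toUnit P ≫ η[A]) ≫ j ▷ A ≫ μ[A] ≫ f = j ≫ f := by
      have : lift (𝟙 P) (toUnit P ≫ η[A]) ≫ j ▷ A ≫ μ[A] = j := by
        rw [← Category.assoc, lift_whiskerRight, Category.id_comp]
        have : lift j (toUnit P ≫ η[A]) ≫ μ[A] = j * 1 := rfl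
        rw [this, _root_.mul_one]
      calc _ = (lift (𝟙 P) (toUnit P ≫ η[A]) ≫ j ▷ A ≫ μ[A]) ≫ f := by simp only [Category.assoc]
        _ = j ≫ f := by rw [this]
    rw [h1, Over.comp_left, Scheme.Hom.comp_apply]
    have h2 : j.left w ∈ connectedComponentIn (f.left ⁻¹' {f.left (pt η[A])}) (pt η[A]) := by
      rw [← hr]; exact ⟨w, rfl⟩
    have h3 : j.left w ∈ f.left ⁻¹' {f.left (pt η[A])} := connectedComponentIn_subset _ _ h2
    exact h3)
  have hkey : ∀ x : 𝟙_ (Over (Spec (CommRingCat.of k))) ⟶ A,
      pt x ∈ connectedComponentIn (f.left ⁻¹' {f.left (pt η[A])}) (pt η[A]) → lmul x ≫ f = g := by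
    intro x hx
    obtain ⟨x', hx'⟩ := exists_comp_eq_of_pt_mem_range j x (by rw [hr]; exact hx)
    have h1 := congr(lift (toUnit A ≫ x') (𝟙 A) ≫ $hg)
    rw [lift_snd_assoc, Category.id_comp] at h1
    rw [← h1, ← Category.assoc, lift_whiskerRight, Category.assoc, hx']
    rfl
  have h1 := hkey x hx
  have h2 := hkey η[A] he
  have h3 : lmul (η[A] : 𝟙_ (Over (Spec (CommRingCat.of k))) ⟶ A) = 𝟙 A := by
    rw [lmul, ← Hom.one_def, _root_.one_mul]
  rw [h3, Category.id_comp] at h2
  rw [h1, h2]

end aux

theorem result (k : Type u) [Field k] [IsAlgClosed k]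
    (A : Over (Spec (CommRingCat.of k))) [GrpObj A] [IsProper A.hom] [Smooth A.hom] [GeometricallyConnected A.hom]
    {Y : Scheme.{u}} (q : Y ⟶ Spec (CommRingCat.of k)) [IsSeparated q] (f : A.left ⟶ Y) (hf : f ≫ q = A.hom)
    (x y : 𝟙_ (Over (Spec (CommRingCat.of k))) ⟶ A)
    (hx : x.left (IsLocalRing.closedPoint k) ∈
      connectedComponentIn (f ⁻¹' {f (η[A].left (IsLocalRing.closedPoint k))}) (η[A].left (IsLocalRing.closedPoint k)))
    (hy : y.left (IsLocalRing.closedPoint k) ∈
      connectedComponentIn (f ⁻¹' {f (η[A].left (IsLocalRing.closedPoint k))}) (η[A].left (IsLocalRing.closedPoint k))) :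
    (lift x y ≫ μ[A]).left (IsLocalRing.closedPoint k) ∈
        connectedComponentIn (f ⁻¹' {f (η[A].left (IsLocalRing.closedPoint k))}) (η[A].left (IsLocalRing.closedPoint k)) ∧
      (x ≫ ι[A]).left (IsLocalRing.closedPoint k) ∈
        connectedComponentIn (f ⁻¹' {f (η[A].left (IsLocalRing.closedPoint k))}) (η[A].left (IsLocalRing.closedPoint k)) := by
  let Y' : Over (Spec (CommRingCat.of k)) := Over.mk q
  let f' : A ⟶ Y' := Over.homMk f hf
  have hsep : IsSeparated Y'.hom := ‹_›
  have hred : IsReduced A.left := Groth.Agent.Books.AlgPtsSmooth.isReduced_of_smooth A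
  have hconn : ConnectedSpace A.left :=
    have : Subsingleton (Spec (CommRingCat.of k)) := inferInstanceAs (Subsingleton (PrimeSpectrum k))
    GeometricallyConnected.connectedSpace_of_subsingleton A.hom
  have hirr : IrreducibleSpace A.left := Groth.Agent.Books.AlgPtsIrred.irreducibleSpace_of_connectedSpace A
  set F : Set A.left := f ⁻¹' {f (η[A].left (IsLocalRing.closedPoint k))} with hFdef
  change pt x ∈ connectedComponentIn F (pt η[A]) at hx
  change pt y ∈ connectedComponentIn F (pt η[A]) at hy
  change pt (x * y) ∈ connectedComponentIn F (pt η[A]) ∧ pt (x ≫ ι[A]) ∈ connectedComponentIn F (pt η[A])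
  have hFx : lmul x ≫ f' = f' := lmul_comp_eq A Y' f' x hx
  have he : pt η[A] ∈ connectedComponentIn F (pt η[A]) := mem_connectedComponentIn rfl
  -- translates of the component lie in the fibre
  have htr : ∀ z : 𝟙_ (Over (Spec (CommRingCat.of k))) ⟶ A, lmul z ≫ f' = f' →
      (∃ w : 𝟙_ (Over (Spec (CommRingCat.of k))) ⟶ A, pt w ∈ connectedComponentIn F (pt η[A]) ∧
        pt (z * w) ∈ connectedComponentIn F (pt η[A])) →
      ∀ w : 𝟙_ (Over (Spec (CommRingCat.of k))) ⟶ A, pt w ∈ connectedComponentIn F (pt η[A]) →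
        pt (z * w) ∈ connectedComponentIn F (pt η[A]) := by
    rintro z hz ⟨w, hw, hw'⟩ v hv
    have h1 : _root_.IsPreconnected ((lmul z).left '' connectedComponentIn F (pt η[A])) :=
      isPreconnected_connectedComponentIn.image _ (lmul z).left.continuous.continuousOn
    have h2 : (lmul z).left '' connectedComponentIn F (pt η[A]) ⊆ F := by
      rintro _ ⟨a, ha, rfl⟩
      have h3 : a ∈ F := connectedComponentIn_subset _ _ ha
      change f'.left ((lmul z).left a) = _
      rw [← Scheme.Hom.comp_apply, ← Over.comp_left, hz]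
      exact h3
    have h3 : pt (z * w) ∈ (lmul z).left '' connectedComponentIn F (pt η[A]) :=
      ⟨pt w, hw, by rw [← pt_comp, comp_lmul]⟩
    have h4 := h1.subset_connectedComponentIn h3 h2
    rw [← connectedComponentIn_eq hw'] at h4
    refine h4 ⟨pt v, hv, ?_⟩
    rw [← pt_comp, comp_lmul]
  refine ⟨htr x hFx ⟨η[A], he, ?_⟩ y hy, ?_⟩
  · have : x * η[A] = x := by
      have : (η[A] : 𝟙_ (Over (Spec (CommRingCat.of k))) ⟶ A) = 1 := by
        rw [Hom.one_def, toUnit_unique (toUnit (𝟙_ _)) (𝟙 _), Category.id_comp]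
      rw [this, _root_.mul_one]
    rw [this]; exact hx
  · have hone : (η[A] : 𝟙_ (Over (Spec (CommRingCat.of k))) ⟶ A) = 1 := by
      rw [Hom.one_def, toUnit_unique (toUnit (𝟙_ _)) (𝟙 _), Category.id_comp]
    have hinv : lmul x⁻¹ ≫ f' = f' := by
      have h1 : lmul x⁻¹ ≫ lmul x = 𝟙 A := by
        rw [lmul, lmul, MonObj.comp_mul, Category.comp_id, ← Category.assoc,
          toUnit_unique (((toUnit A ≫ x⁻¹) * 𝟙 A) ≫ toUnit A) (toUnit A), GrpObj.comp_inv,
          mul_inv_cancel_left]
      rw [← hFx, ← Category.assoc, h1, Category.id_comp, hFx]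
    have h1 := htr x⁻¹ hinv ⟨x, hx, ?_⟩ η[A] he
    · rw [hone, _root_.mul_one] at h1
      exact h1
    · rw [inv_mul_cancel, ← hone]; exact he

end Groth.Agent.S19533
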