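-- Statement S19535
import Groth.Statements.S19535
import Groth.Agent.Curves.K583.CurveOm

set_option autoImplicit false
universe u
open CategoryTheory CategoryTheory.Limits AlgebraicGeometry TopologicalSpace
open Curves

namespace Groth.Agent.S19535

/-- Dichotomy for the differential of a map of smooth curves: let k be a field, X and Y integral schemes
each smooth, separated and quasi-compact over Spec k and of dimension one, and φ : X → Y a morphism
over k. Let Ω_Y and Ω_X be sheaves of differentials of Y and of X over k, given as universal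
derivations, and c : φ^*Ω_Y → Ω_X the compatible map dφ (sending the pullback of d_Y s to d_X(φ^♯
s)). Then exactly one of two things happens, stated here as a disjunction: either c is the zero map,
or c is a monomorphism of O_X-modules and its cokernel (the sheaf of relative differentials Ω_{X/Y})
restricts to zero on some nonempty open subset of X, so that it is supported at finitely many closed
points. (The published statement is for smooth curves, which are in addition geometrically
connected; integrality of X and Y is what the argument uses.) -/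
theorem result (k : Type u) [Field k] {X Y : Scheme.{u}}
    (pX : X ⟶ Spec (CommRingCat.of k)) (pY : Y ⟶ Spec (CommRingCat.of k)) (φ : X ⟶ Y) (w : φ ≫ pY = pX)
    [IsIntegral X] [Smooth pX] [IsSeparated pX] [QuasiCompact pX] (hdX : topologicalKrullDim X = 1)
    [IsIntegral Y] [Smooth pY] [IsSeparated pY] [QuasiCompact pY] (hdY : topologicalKrullDim Y = 1)
    (ΩY : Y.Modules) (dY : OmegaSh.Der pY ΩY) (hY : OmegaSh.IsUniversal dY)
    (ΩX : X.Modules) (dX : OmegaSh.Der pX ΩX) (hX : OmegaSh.IsUniversal dX)
    (c : (Scheme.Modules.pullback φ).obj ΩY ⟶ ΩX) (hc : OmegaSh.IsDiffCompat φ dY dX c) :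
    c = 0 ∨ (Mono c ∧ ∃ U : X.Opens, (U : Set X).Nonempty ∧ IsZero ((Scheme.Modules.pullback U.ι).obj (cokernel c))) := by
  open Groth.Agent.Sga67.Sec Groth.Agent.Sga67.LocBasis Groth.Agent.Krr.H496.GenLocus
    K583.RankOne K583.CurveOm in
  rcases eq_zero_or_forall (isInv_pullback φ (isInv_omega pY hdY hY)) (isInv_omega pX hdX hX) c with h | h
  · exact Or.inl h
  · refine Or.inr ⟨mono_of_isGen c h, ?_⟩
    obtain ⟨W, k, m, a, hx, hk, hm, e, ha⟩ := h (genericPoint X)
    refine ⟨X.basicOpen a, ?_, isZero_pullback_ι _ _ fun V hV s => ?_⟩
    · rw [Set.nonempty_iff_ne_empty]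
      intro h0
      have : X.basicOpen a = ⊥ := Opens.ext h0
      exact ha ((AlgebraicGeometry.basicOpen_eq_bot_iff a).mp this)
    · have hVW : V ≤ W := hV.trans (X.basicOpen_le a)
      apply eq_of_locally
      intro x hxV
      obtain ⟨V', hV', hx', t, ht⟩ := locally_surjective_of_epi (cokernel.π c) s x hxV
      refine ⟨V', hV', hx', ?_⟩
      have hu : IsUnit (resO X (hV'.trans hVW) a) := by
        have h1 : IsUnit (resO X (X.basicOpen_le a) a) := RingedSpace.isUnit_res_basicOpen _ a
        have h2 := h1.map (resO X (hV'.trans hV))
        rwa [resO_resO] at h2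
      obtain ⟨b, hb⟩ := (hm.res (hV'.trans hVW)).exists_smul t
      obtain ⟨u, hu⟩ := hu
      have e1 : res _ (hV'.trans hVW) m = (↑u⁻¹ : Γ(X, V')) • appS c V' (res _ (hV'.trans hVW) k) := by
        rw [appS_res, e, res_smul, ← hu, smul_smul, Units.inv_mul, one_smul]
      rw [← ht, ← hb, e1, map_smul, map_smul, ← appS_comp, cokernel.condition, appS_zero, smul_zero,
        smul_zero, map_zero]

end Groth.Agent.S19535
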