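import Groth.Statements.S19539
import Groth.Agent.AdjLin.K800.Inputs

set_option autoImplicit false
open CategoryTheory CategoryTheory.Limits AlgebraicGeometry
open AdjLin

namespace Groth.Agent.S19539

/-- Let n ≥ 3 and let X be a smooth projective n-dimensional variety over the complex numbers (an
integral scheme, proper and smooth of relative dimension n over ℂ) whose canonical module K (an n-th
exterior power of the sheaf of differentials of X over ℂ) is ample, and assume that K^{⊗ l} is
generated by its global sections for every l ≥ n + 2. Then for every m ≥ 2, every module L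
isomorphic to K^{⊗ (n(n+2)+m)} is very ample (isomorphic to the pullback of O(1) along a closed
immersion of X over ℂ into some projective space P^N over ℂ) and normally generated: for every k ≥ 1
the multiplication map H^0(L^{⊗ k}) ⊗ H^0(L) → H^0(L^{⊗ (k+1)}) is surjective (such a multiplication
map is written as the map from the global sections of the sectionwise tensor product presheaf to the
global sections of its sheafification). -/
theorem result (n : ℕ) (hn : 3 ≤ n)
    (X : Scheme.{0}) [X.Over (Spec (CommRingCat.of ℂ))] [IsIntegral X]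
    [IsProper (X ↘ Spec (CommRingCat.of ℂ))] [SmoothOfRelativeDimension n (X ↘ Spec (CommRingCat.of ℂ))]
    (K : X.Modules) (hK : Canon.IsTopDiff (X ↘ Spec (CommRingCat.of ℂ)) n K) (hKa : CohB1.IsAmple K)
    (hKg : ∀ l : ℕ, n + 2 ≤ l → Curv2.IsGloballyGenerated (CohB1.tensorPow K l))
    (m : ℕ) (hm : 2 ≤ m) (L : X.Modules) (hL : Nonempty (L ≅ CohB1.tensorPow K (n * (n + 2) + m))) :
    (∃ (N : ℕ) (i : X ⟶ CohB1.ProjSpace N ℂ), IsClosedImmersion i ∧
        i ≫ CohB1.ProjSpace.toSpec N ℂ = (X ↘ Spec (CommRingCat.of ℂ)) ∧
        Nonempty ((Scheme.Modules.pullback i).obj (Twist.twistProjSpace N ℂ 1) ≅ L)) ∧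
      (∀ k : ℕ, 1 ≤ k → Function.Surjective
      ((toSheafify (Opens.grothendieckTopology X) (CohB1.tensorPre (CohB1.tensorPow L k) L).presheaf).app (Opposite.op ⊤))) := by
  exact K800.Stat.s39 ℂ n (K800.Inputs.kod ℂ X n) (K800.Inputs.nefAmple ℂ X n) K hK hn hKa hKg m hm L hL

end Groth.Agent.S19539
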