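import Groth.Statements.S19540
import Mathlib.CategoryTheory.Sites.EpiMono
import Mathlib.CategoryTheory.Sites.ConcreteSheafification
import Mathlib.CategoryTheory.Abelian.Exact
import Mathlib.Algebra.Category.Grp.Limits
import Mathlib.Algebra.Category.Grp.EpiMono
import Mathlib.Algebra.Category.Grp.Abelian
import Mathlib.CategoryTheory.Sites.Abelian
import Mathlib.Algebra.Category.Grp.FilteredColimits

set_option autoImplicit false
open CategoryTheory CategoryTheory.Limits Opposite
universe w v u
open CohSite

namespace Groth.Agent.S19540

/-- Let (C, J) be a site and B a class of objects of C, each weakly contractible (every epimorphism of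
sheaves of sets, valued in a fixed universe, is surjective on sections over it), such that every
object V of C has a covering sieve all of whose arrows factor through some object of B. Then a
three-term complex F ⟶ G ⟶ H of abelian sheaves on (C, J) is exact if and only if for every U in B
the sequence of section groups F(U) ⟶ G(U) ⟶ H(U) is exact. (The published statement is for sheaves
of modules over a sheaf of rings O; this row is the case of the constant sheaf of rings ℤ, i.e.
abelian sheaves, to which exactness questions for O-modules reduce. The universe set-up assumes that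
abelian sheafification exists and inverts exactly the locally bijective maps, as on any small site.) -/
theorem result
    {C : Type u} [Category.{v} C] (J : GrothendieckTopology C) [HasSheafify J AddCommGrpCat.{w}]
    [J.WEqualsLocallyBijective AddCommGrpCat.{w}]
    (B : C → Prop)
    (hB : ∀ U : C, B U → ∀ (P Q : Sheaf J (Type w)) (ψ : P ⟶ Q), Epi ψ → Function.Surjective (ψ.hom.app (op U)))
    (hcov : ∀ V : C, ∃ S : Sieve V, S ∈ J V ∧ ∀ ⦃W : C⦄ (f : W ⟶ V), S.arrows f →
      ∃ (U : C) (g : W ⟶ U) (h : U ⟶ V), B U ∧ g ≫ h = f)
    (S : ShortComplex (Sheaf J AddCommGrpCat.{w})) :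
    S.Exact ↔ ∀ U : C, B U →
      (S.map (sheafToPresheaf J AddCommGrpCat.{w} ⋙ (evaluation Cᵒᵖ AddCommGrpCat.{w}).obj (op U))).Exact := by
  let Γ (U : C) := sheafToPresheaf J AddCommGrpCat.{w} ⋙ (evaluation Cᵒᵖ AddCommGrpCat.{w}).obj (op U)
  let p : S.X₁ ⟶ kernel S.g := kernel.lift S.g S.f S.zero
  have key (U : C) : (S.map (Γ U)).Exact ↔ Function.Surjective (p.hom.app (op U)) := by
    rw [ShortComplex.exact_iff_epi_kernel_lift]
    have h1 := map_lift_kernelComparison S.g (Γ U) (h := S.f) S.zero
    have h2 : Epi ((Γ U).map p) ↔ Function.Surjective (p.hom.app (op U)) :=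
      AddCommGrpCat.epi_iff_surjective _
    rw [← h2]
    constructor
    · intro h
      have h3 : Epi ((Γ U).map p ≫ kernelComparison S.g (Γ U)) := by
        rw [h1]; exact h
      exact (epi_comp_iff_of_isIso _ _).1 h3
    · intro h
      have h3 : Epi ((Γ U).map p ≫ kernelComparison S.g (Γ U)) := inferInstance
      rw [h1] at h3
      exact h3
  rw [ShortComplex.exact_iff_epi_kernel_lift]
  constructor
  · intro h U hU
    rw [key U]
    have h1 : Sheaf.IsLocallySurjective p := (Sheaf.isLocallySurjective_iff_epi' AddCommGrpCat.{w} p).2 h
    have h2 : Epi ((sheafCompose J (forget AddCommGrpCat.{w})).map p) := inferInstance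
    exact hB U hU _ _ _ h2
  · intro h
    have : Sheaf.IsLocallySurjective p := ⟨by
      intro V s
      obtain ⟨T, hT, hT'⟩ := hcov V
      refine J.superset_covering ?_ hT
      intro W f hf
      obtain ⟨U, g, k, hU, rfl⟩ := hT' f hf
      obtain ⟨t, ht⟩ := (key U).1 (h U hU) ((kernel S.g).obj.map k.op s)
      refine ⟨S.X₁.obj.map g.op t, ?_⟩
      refine (ConcreteCategory.congr_hom (p.hom.naturality g.op) t).trans ?_
      refine (congrArg ((kernel S.g).obj.map g.op) ht).trans ?_
      exact (ConcreteCategory.congr_hom ((kernel S.g).obj.map_comp k.op g.op) s).symm⟩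
    infer_instance

end Groth.Agent.S19540
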