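import Groth.Statements.S19541
import Groth.Agent.UnramA.FlatUnramAt
import Groth.Agent.CurvesB.SmoothCurveFacts
import Mathlib.RingTheory.Unramified.LocalRing
import Mathlib.RingTheory.Flat.TorsionFree

set_option autoImplicit false
universe u
open CategoryTheory CategoryTheory.Limits AlgebraicGeometry TopologicalSpace
open Curves

namespace Groth.Agent.S19541

open Groth.Agent.CurvesB.OmegaStalkDict Groth.Agent.CurvesB.SmoothCurveFacts

theorem stalkMap_stHom {A : Type u} [CommRing A] {X S : Scheme.{u}} (f : X ⟶ S) (p : S ⟶ Spec (CommRingCat.of A))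
    (x : X) (c : A) : (f.stalkMap x).hom (stHom p (f x) c) = stHom (f ≫ p) x c := by
  have h1 : stHom p (f x) c = S.presheaf.germ ⊤ (f x) trivial (Coh.toGlobal p c) := rfl
  have h2 : stHom (f ≫ p) x c = X.presheaf.germ ⊤ x trivial (Coh.toGlobal (f ≫ p) c) := rfl
  rw [h1, h2]
  exact congr($(Scheme.Hom.germ_stalkMap f ⊤ x trivial) (Coh.toGlobal p c))

/-- Morphisms of schemes locally of finite type over a field are locally of finite presentation. -/
theorem lfp {k : Type u} [Field k] {X Y : Scheme.{u}} (φ : X ⟶ Y) (pY : Y ⟶ Spec (CommRingCat.of k))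
    [LocallyOfFiniteType pY] [LocallyOfFiniteType (φ ≫ pY)] : LocallyOfFinitePresentation φ := by
  have h1 : IsLocallyNoetherian Y := LocallyOfFiniteType.isLocallyNoetherian pY
  have h2 : LocallyOfFiniteType φ := locallyOfFiniteType_of_comp φ pY
  exact LocallyOfFinitePresentation.iff_locallyOfFiniteType.2 h2

/-- The residue field extension is surjective at a closed point over an algebraically closed field. -/
theorem surjective_residue (k : Type u) [Field k] [IsAlgClosed k] {A B : Type u} [CommRing A] [CommRing B]
    [IsLocalRing A] [IsLocalRing B] [Algebra A B] [IsLocalHom (algebraMap A B)] [Algebra k A] [Algebra k B]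
    [IsScalarTower k A B] (hfin : Module.Finite k (B ⧸ IsLocalRing.maximalIdeal B)) :
    Function.Surjective (algebraMap (IsLocalRing.ResidueField A) (IsLocalRing.ResidueField B)) := by
  intro b
  have h0 : Module.Finite k (IsLocalRing.ResidueField B) := hfin
  have h1 : Algebra.IsIntegral k (IsLocalRing.ResidueField B) := inferInstance
  obtain ⟨c, rfl⟩ := (IsAlgClosed.algebraMap_bijective_of_isIntegral (k := k) (K := IsLocalRing.ResidueField B)).2 b
  refine ⟨algebraMap A _ (algebraMap k A c), ?_⟩
  rw [← IsScalarTower.algebraMap_apply A (IsLocalRing.ResidueField A) (IsLocalRing.ResidueField B),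
    IsScalarTower.algebraMap_apply A B (IsLocalRing.ResidueField B), ← IsScalarTower.algebraMap_apply k A B,
    ← IsScalarTower.algebraMap_apply k B (IsLocalRing.ResidueField B)]

/-- Flatness of a local homomorphism of DVRs generating the maximal ideal. -/
theorem flat_of_map {A B : Type u} [CommRing A] [CommRing B] [IsDomain A] [IsDomain B]
    [IsDiscreteValuationRing A] [IsDiscreteValuationRing B] [Algebra A B]
    (h : (IsLocalRing.maximalIdeal A).map (algebraMap A B) = IsLocalRing.maximalIdeal B) : Module.Flat A B := by
  have hinj : Function.Injective (algebraMap A B) := by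
    rw [RingHom.injective_iff_ker_eq_bot]
    by_contra hne
    have hp : (RingHom.ker (algebraMap A B)).IsPrime := RingHom.ker_isPrime _
    have hm : (RingHom.ker (algebraMap A B)).IsMaximal := Ring.DimensionLEOne.maximalOfPrime hne hp
    have h1 := IsLocalRing.eq_maximalIdeal hm
    have h2 : (IsLocalRing.maximalIdeal A).map (algebraMap A B) = ⊥ := by
      rw [← h1, eq_bot_iff]
      exact Ideal.map_le_iff_le_comap.2 le_rfl
    exact IsDiscreteValuationRing.not_a_field B (h ▸ h2)
  rw [Module.Flat.flat_iff_torsion_eq_bot_of_isBezout, eq_bot_iff]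
  rintro b ⟨⟨a, ha⟩, hab⟩
  have h3 : algebraMap A B a * b = 0 := by
    rw [← Algebra.smul_def]
    exact hab
  rcases mul_eq_zero.1 h3 with h4 | h4
  · exact absurd ((map_eq_zero_iff _ hinj).1 h4) (nonZeroDivisors.ne_zero ha)
  · exact h4


/-- Pointwise criterion for a map of smooth curves to be étale: let k be an algebraically closed field,
X and Y integral schemes each smooth, separated and quasi-compact over Spec k and of dimension one,
φ : X → Y a morphism over k and x a closed point of X. Then φ is étale at x (the restriction of φ to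
some open neighbourhood of x is étale) if and only if the induced homomorphism of stalks O_{Y,φ(x)}
→ O_{X,x} carries the maximal ideal of the discrete valuation ring O_{Y,φ(x)} to an ideal generating
the maximal ideal of O_{X,x}; equivalently a uniformiser at φ(x) pulls back to a uniformiser at x.
(The published statement is for smooth curves, which are in addition geometrically connected;
integrality is what is used. For a constant φ both sides fail.) -/
theorem result (k : Type u) [Field k] [IsAlgClosed k] {X Y : Scheme.{u}}
    (pX : X ⟶ Spec (CommRingCat.of k)) (pY : Y ⟶ Spec (CommRingCat.of k)) (φ : X ⟶ Y) (w : φ ≫ pY = pX)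
    [IsIntegral X] [Smooth pX] [IsSeparated pX] [QuasiCompact pX] (hdX : topologicalKrullDim X = 1)
    [IsIntegral Y] [Smooth pY] [IsSeparated pY] [QuasiCompact pY] (hdY : topologicalKrullDim Y = 1)
    (x : X) (hx : IsClosed ({x} : Set X)) :
    (∃ U : X.Opens, x ∈ U ∧ Etale (U.ι ≫ φ)) ↔
      Ideal.map (φ.stalkMap x).hom (IsLocalRing.maximalIdeal (Y.presheaf.stalk (φ.base x))) =
        IsLocalRing.maximalIdeal (X.presheaf.stalk x) := by
  have hxg : x ≠ genericPoint X := by
    rintro rfl
    have h1 : (Set.univ : Set X) = {genericPoint X} := by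
      rw [← genericPoint_closure, hx.closure_eq]
    have h2 : Subsingleton X := ⟨fun a b => by
      have ha : a ∈ (Set.univ : Set X) := trivial
      have hb : b ∈ (Set.univ : Set X) := trivial
      rw [h1] at ha hb
      exact ha.trans hb.symm⟩
    have h3 : topologicalKrullDim X ≤ 0 := topologicalKrullDim_zero_of_discreteTopology X
    rw [hdX] at h3
    exact absurd h3 (by norm_num)
  subst w
  let : Algebra (Y.presheaf.stalk (φ.base x)) (X.presheaf.stalk x) := (φ.stalkMap x).hom.toAlgebra
  have hloc : IsLocalHom (algebraMap (Y.presheaf.stalk (φ.base x)) (X.presheaf.stalk x)) :=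
    inferInstanceAs (IsLocalHom (φ.stalkMap x).hom)
  let aX := stAlg (φ ≫ pY) x
  let aY := stAlg pY (φ.base x)
  have htow : IsScalarTower k (Y.presheaf.stalk (φ.base x)) (X.presheaf.stalk x) :=
    IsScalarTower.of_algebraMap_eq fun c => (stalkMap_stHom φ pY x c).symm
  have hess : Algebra.EssFiniteType k (X.presheaf.stalk x) := essFiniteType_stalk (φ ≫ pY) x
  have hess' : Algebra.EssFiniteType (Y.presheaf.stalk (φ.base x)) (X.presheaf.stalk x) :=
    Algebra.EssFiniteType.of_comp k _ _
  have hfin := finite_residue_stalk (φ ≫ pY) hx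
  have hsurj := surjective_residue k (A := Y.presheaf.stalk (φ.base x)) (B := X.presheaf.stalk x) hfin
  have hsep : Algebra.IsSeparable (IsLocalRing.ResidueField (Y.presheaf.stalk (φ.base x)))
      (IsLocalRing.ResidueField (X.presheaf.stalk x)) := ⟨fun b => by
    obtain ⟨a, rfl⟩ := hsurj b
    exact isSeparable_algebraMap a⟩
  have hX : IsDiscreteValuationRing (X.presheaf.stalk x) := isDiscreteValuationRing_stalk (φ ≫ pY) hdX.le hxg
  have hlfp : LocallyOfFinitePresentation φ :=
    Groth.Agent.S19541.lfp φ pY
  have key := Algebra.FormallyUnramified.iff_map_maximalIdeal_eq (R := Y.presheaf.stalk (φ.base x))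
    (S := X.presheaf.stalk x)
  rw [Groth.Agent.UnramA.FlatUnramAt.etale_nhd_iff_flat_and_formallyUnramified]
  constructor
  · rintro ⟨-, h2⟩
    exact (key.1 h2).2
  · intro h
    refine ⟨?_, key.2 ⟨hsep, h⟩⟩
    by_cases hy : φ.base x = genericPoint Y
    · exfalso
      have h1 : IsField (Y.presheaf.stalk (φ.base x)) := by
        rw [hy]
        exact Field.toIsField Y.functionField
      have h2 := IsLocalRing.isField_iff_maximalIdeal_eq.1 h1
      rw [h2, Ideal.map_bot] at h
      exact IsDiscreteValuationRing.not_a_field (X.presheaf.stalk x) h.symm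
    · have hY : IsDiscreteValuationRing (Y.presheaf.stalk (φ.base x)) :=
        isDiscreteValuationRing_stalk pY hdY.le hy
      exact flat_of_map h

end Groth.Agent.S19541
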