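import Groth.Statements.S19544
import Groth.Agent.CAlg.K95.SerreBass

set_option autoImplicit false
universe u
open CAlg

namespace Groth.Agent.S19544


/-- Let R be a Noetherian ring of Krull dimension d and P a finitely generated projective R-module of
constant rank n at every prime of R, with n > d. Then P is isomorphic to P₀ ⊕ R^(n-d) for some
module P₀; concretely, P has complementary submodules P₀ and Q with Q free of rank n - d. -/
theorem result (R : Type u) [CommRing R]
    [IsNoetherianRing R] (d n : ℕ) (hdim : ringKrullDim R = d)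
    (P : Type u) [AddCommGroup P] [Module R P] [Module.Finite R P] [Module.Projective R P]
    (hrk : ∀ p : PrimeSpectrum R, Module.rankAtStalk (R := R) P p = n) (hnd : d < n) :
    ∃ (P₀ Q : Submodule R P), IsCompl P₀ Q ∧ Nonempty (Q ≃ₗ[R] (Fin (n - d) → R)) := by
  obtain ⟨P₀, _, _, -, -, ⟨e⟩⟩ := K95.SerreBass.exists_prod_free d hdim.le (n - d) P
    (fun p => by rw [hrk p]; omega)
  refine ⟨(LinearMap.range (LinearMap.inl R P₀ (Fin (n - d) → R))).map (e.symm : _ →ₗ[R] P),
    (LinearMap.range (LinearMap.inr R P₀ (Fin (n - d) → R))).map (e.symm : _ →ₗ[R] P), ?_, ⟨?_⟩⟩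
  · exact (LinearMap.isCompl_range_inl_inr).map (Submodule.orderIsoMapComap e.symm)
  · have h1 : Function.Injective (LinearMap.inr R P₀ (Fin (n - d) → R)) := LinearMap.inr_injective
    exact (e.symm.submoduleMap _).symm.trans (LinearEquiv.ofInjective _ h1).symm

end Groth.Agent.S19544
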