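import Groth.Statements.S19547
import Groth.Agent.Desc.CoactDescent
-- import your own Groth.Agent.* helpers here

set_option autoImplicit false
universe u
open TensorProduct
open Desc

namespace Groth.Agent.S19547

/-- Let A → A' be a faithfully flat homomorphism of commutative rings, M' an A'-module and φ : M' ⊗_A A'
→ A' ⊗_A M' an isomorphism of (A' ⊗_A A')-modules for the diagonal actions (x ⊗ y)(u ⊗ z) = xu ⊗ yz
and (x ⊗ y)(z ⊗ u) = xz ⊗ yu, satisfying the cocycle condition φ_13 = φ_23 ∘ φ_12 between the three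
pullbacks to A' ⊗_A A' ⊗_A A'. Here linearity over A' ⊗_A A' is stated on the generators x ⊗ 1 and 1
⊗ y, and the cocycle condition on pure tensors u ⊗ a ⊗ b: writing φ(u ⊗ a) = Σ a_i ⊗ u_i, it says Σ
a_i ⊗ φ(u_i ⊗ b) = Σ b_j ⊗ a ⊗ u'_j where φ(u ⊗ b) = Σ b_j ⊗ u'_j. Let M = {u ∈ M' : φ(u ⊗ 1) = 1 ⊗
u}, an A-submodule of M'. Then the canonical map λ : A' ⊗_A M → M', x ⊗ u ↦ xu, is an isomorphism. -/
theorem result (A A' : Type u) [CommRing A] [CommRing A']
    [Algebra A A'] [Module.FaithfullyFlat A A'] (M' : Type u) [AddCommGroup M'] [Module A M']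
    [Module A' M'] [IsScalarTower A A' M']
    (φ : M' ⊗[A] A' →ₗ[A] A' ⊗[A] M') (hφ : Function.Bijective φ)
    (h1 : ∀ (x : A') (u : M') (z : A'),
      φ ((x • u) ⊗ₜ[A] z) = LinearMap.rTensor M' (LinearMap.mulLeft A x) (φ (u ⊗ₜ[A] z)))
    (h2 : ∀ (y : A') (u : M') (z : A'),
      φ (u ⊗ₜ[A] (y * z)) = LinearMap.lTensor A' (Algebra.lsmul A A M' y) (φ (u ⊗ₜ[A] z)))
    (hcoc : ∀ (u : M') (a b : A'),
      LinearMap.lTensor A' φ (TensorProduct.assoc A A' M' A' (LinearMap.rTensor A' φ ((u ⊗ₜ[A] a) ⊗ₜ[A] b))) =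
        LinearMap.lTensor A' (TensorProduct.mk A A' M' a) (φ (u ⊗ₜ[A] b)))
    (M : Submodule A M') (hM : ∀ u : M', u ∈ M ↔ φ (u ⊗ₜ[A] (1 : A')) = (1 : A') ⊗ₜ[A] u) :
    Function.Bijective
      ((TensorProduct.lift (Algebra.lsmul A A M').toLinearMap) ∘ₗ (LinearMap.lTensor A' M.subtype)) := by
  have hsmul : ∀ (x : A') (t : A' ⊗[A] M'),
      LinearMap.rTensor M' (LinearMap.mulLeft A x) t = x • t := by
    intro x t
    induction t with
    | zero => simp
    | add a b ha hb => rw [map_add, ha, hb, smul_add]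
    | tmul a m => simp [TensorProduct.smul_tmul']
  -- the coaction
  let a : M' →ₗ[A'] A' ⊗[A] M' :=
    { toFun := fun u => φ (u ⊗ₜ[A] 1)
      map_add' := fun u v => by rw [TensorProduct.add_tmul, map_add]
      map_smul' := fun x u => by
        rw [h1, hsmul]; rfl }
  have ha : ∀ u, a u = φ (u ⊗ₜ[A] 1) := fun u => rfl
  have hcoassoc : ∀ m, LinearMap.lTensor A' (a.restrictScalars A) (a m) =
      LinearMap.lTensor A' (TensorProduct.mk A A' M' 1) (a m) := by
    intro m
    rw [ha, ← hcoc m 1 1, LinearMap.rTensor_tmul]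
    generalize φ (m ⊗ₜ[A] 1) = t
    induction t with
    | zero => simp
    | add x y hx hy => rw [map_add, hx, hy, TensorProduct.add_tmul, map_add, map_add]
    | tmul x u => simp [ha]
  -- multiplication of the first two factors
  let mu : A' ⊗[A] (A' ⊗[A] M') →ₗ[A'] A' ⊗[A] M' :=
    Groth.Agent.Desc.CoactDescent.mulMap A A' (A' ⊗[A] M')
  have hcounit : ∀ m, Groth.Agent.Desc.CoactDescent.mulMap A A' M' (a m) = m := by
    intro m
    have key := congrArg mu (hcoassoc m)
    have e1 : ∀ t : A' ⊗[A] M', mu (LinearMap.lTensor A' (a.restrictScalars A) t) =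
        a (Groth.Agent.Desc.CoactDescent.mulMap A A' M' t) := by
      intro t
      induction t with
      | zero => simp
      | add x y hx hy => simp only [map_add, hx, hy]
      | tmul x u =>
        simp only [LinearMap.lTensor_tmul, LinearMap.coe_restrictScalars]
        change mu (x ⊗ₜ[A] a u) = a (x • u)
        rw [map_smul]
        rfl
    have e2 : ∀ t : A' ⊗[A] M', mu (LinearMap.lTensor A' (TensorProduct.mk A A' M' 1) t) = t := by
      intro t
      induction t with
      | zero => simp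
      | add x y hx hy => simp only [map_add, hx, hy]
      | tmul x u =>
        simp only [LinearMap.lTensor_tmul, TensorProduct.mk_apply]
        change x • ((1 : A') ⊗ₜ[A] u) = _
        rw [TensorProduct.smul_tmul', smul_eq_mul, mul_one]
    rw [e1, e2] at key
    rw [ha, ha] at key
    have key2 := hφ.1 key
    have := congrArg (TensorProduct.lift ((Algebra.lsmul A A M').toLinearMap.flip)) key2
    rw [ha]
    simpa using this
  have hbij := Groth.Agent.Desc.CoactDescent.ofCoinv_bijective a hcounit hcoassoc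
  have hMc : M = Groth.Agent.Desc.CoactDescent.coinv a := by
    ext u
    rw [hM, Groth.Agent.Desc.CoactDescent.mem_coinv, ha]
  subst hMc
  convert hbij using 1
  ext t
  induction t with
  | zero => simp
  | add x y hx hy => rw [map_add, map_add, hx, hy]
  | tmul x u => simp

end Groth.Agent.S19547
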