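import Groth.Statements.S19552
import Groth.Agent.CAlg.K95.SerreBass

set_option autoImplicit false
universe u
open CAlg

namespace Groth.Agent.S19552


/-- Let R be a Noetherian ring of Krull dimension d and P, Q finitely generated projective R-modules of
constant rank at every prime which have the same class in the Grothendieck group, i.e. are stably
isomorphic: P ⊕ R^m ≅ Q ⊕ R^m for some m. Then there is a positive integer N with P^N ≅ Q^N. (The
two exponents in the published display are read as the same integer N; for modules of positive rank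
an isomorphism between direct powers forces equal exponents.) -/
theorem result (R : Type u) [CommRing R] [IsNoetherianRing R]
    (d n : ℕ) (hdim : ringKrullDim R = d)
    (P Q : Type u) [AddCommGroup P] [Module R P] [Module.Finite R P] [Module.Projective R P]
    [AddCommGroup Q] [Module R Q] [Module.Finite R Q] [Module.Projective R Q]
    (hrk : ∀ p : PrimeSpectrum R, Module.rankAtStalk (R := R) P p = n)
    (hrk' : ∀ p : PrimeSpectrum R, Module.rankAtStalk (R := R) Q p = n)
    (m : ℕ) (e : (P × (Fin m → R)) ≃ₗ[R] (Q × (Fin m → R))) :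
    ∃ N : ℕ, 1 ≤ N ∧ Nonempty ((Fin N → P) ≃ₗ[R] (Fin N → Q)) := by
  classical
  rcases Nat.eq_zero_or_pos n with hn | hn
  · subst hn
    have h1 : Subsingleton P := Module.rankAtStalk_eq_zero_iff_subsingleton.1 (funext hrk)
    have h2 : Subsingleton Q := Module.rankAtStalk_eq_zero_iff_subsingleton.1 (funext hrk')
    refine ⟨1, le_rfl, ⟨?_⟩⟩
    exact { (0 : (Fin 1 → P) →ₗ[R] (Fin 1 → Q)) with
            invFun := 0
            left_inv := fun x => Subsingleton.elim _ _
            right_inv := fun x => Subsingleton.elim _ _ }
  · let N := d + 1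
    refine ⟨N, Nat.le_add_left 1 d, ?_⟩
    -- `(P × R^m)^N ≃ P^N × R^(m N)`
    let c : ∀ (M : Type u) [AddCommGroup M] [Module R M], (Fin N → (M × (Fin m → R))) ≃ₗ[R] ((Fin N → M) × (Fin N → Fin m → R)) :=
      fun M _ _ =>
        { toFun := fun f => (fun i => (f i).1, fun i => (f i).2)
          invFun := fun g i => (g.1 i, g.2 i)
          map_add' := fun _ _ => rfl
          map_smul' := fun _ _ => rfl
          left_inv := fun _ => rfl
          right_inv := fun _ => rfl }
    let e1 : (Fin N → Fin m → R) ≃ₗ[R] (Fin (N * m) → R) :=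
      (LinearEquiv.curry R R (Fin N) (Fin m)).symm.trans (LinearEquiv.funCongrLeft R R finProdFinEquiv.symm)
    let e2 : ((Fin N → P) × (Fin (N * m) → R)) ≃ₗ[R] ((Fin N → Q) × (Fin (N * m) → R)) :=
      ((LinearEquiv.refl R (Fin N → P)).prodCongr e1.symm).trans ((c P).symm.trans
        ((LinearEquiv.piCongrRight (fun _ : Fin N => e)).trans ((c Q).trans
          ((LinearEquiv.refl R (Fin N → Q)).prodCongr e1))))
    have hPp : Module.Projective R (Fin N → P) :=
      Module.Projective.of_equiv' (R := R) (M := Π₀ _ : Fin N, P) DFinsupp.linearEquivFunOnFintype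
    have hPq : Module.Projective R (Fin N → Q) :=
      Module.Projective.of_equiv' (R := R) (M := Π₀ _ : Fin N, Q) DFinsupp.linearEquivFunOnFintype
    refine K95.SerreBass.cancel d hdim.le (Fin N → P) (Fin N → Q) (fun p => ?_) (N * m) e2
    rw [Module.rankAtStalk_pi]
    simp only [Finset.sum_apply, hrk p, finsum_eq_sum_of_fintype, Finset.sum_const, Finset.card_univ, Fintype.card_fin, smul_eq_mul]
    show d < (d + 1) * n
    nlinarith

end Groth.Agent.S19552
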