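import Groth.Statements.S19560
import Groth.Agent.W4c1limliniiii.K808.Ram

set_option autoImplicit false
universe u
open W4c1limliniiii

namespace Groth.Agent.S19560

open Polynomial in
/-- Let k be an algebraically closed field of characteristic p (a prime or zero) and let F, G be
polynomials spanning a base-point-free pencil V of degree d (a two-dimensional space of polynomials
of degree at most d containing one of degree d and with no common zero in k), so that V encodes a
degree-d self-map F/G of the projective line up to automorphisms of the target. Suppose the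
Wronskian W = F′G − FG′ is non-zero and vanishes at the point a to order exactly e − 1 with e ≥ 1,
and that p = 0 or e − 1 < p. Then the map is tamely ramified at a with index e: the largest order of
vanishing at a of a non-zero member of V is e, and p does not divide e. (The hypothesis W ≠ 0 makes
the order of vanishing meaningful; for W = 0 the map is inseparable.) -/
theorem result
    (k : Type u) [Field k] [IsAlgClosed k] (p : ℕ) [CharP k p]
    (d : ℕ) (F G : k[X]) (hV : W4c1limliniiii.IsPencil d (Submodule.span k {F, G}))
    (hW : Polynomial.wronskian F G ≠ 0) (a : k) (e : ℕ)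
    (he : (Polynomial.wronskian F G).rootMultiplicity a + 1 = e) (hp : p = 0 ∨ e - 1 < p) :
    W4c1limliniiii.HasRamIdx (Submodule.span k {F, G}) a e ∧ ¬ p ∣ e := by
  obtain ⟨-, hfr, -, hbp⟩ := hV
  obtain ⟨s, hsV, hs⟩ := hbp a
  obtain ⟨t, htV, ht0, hta⟩ := K808.Ram.exists_member_vanishing hfr a
  have hli := K808.Ram.linearIndependent_of_eval hs ht0 hta
  have hspan := K808.Ram.span_pair_eq hfr hsV htV hli
  have hFm : F ∈ Submodule.span k {s, t} := by rw [hspan]; exact Submodule.subset_span (by simp)
  have hGm : G ∈ Submodule.span k {s, t} := by rw [hspan]; exact Submodule.subset_span (by simp)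
  obtain ⟨c, hc⟩ := K808.Ram.exists_wronskian_eq_smul hFm hGm
  have hc0 : c ≠ 0 := by
    rintro rfl
    rw [zero_smul] at hc
    exact hW hc
  have hWst : wronskian s t ≠ 0 := by
    intro h
    rw [h, smul_zero] at hc
    exact hW hc
  have hmult : (wronskian F G).rootMultiplicity a = (wronskian s t).rootMultiplicity a := by
    rw [hc, smul_eq_C_mul, rootMultiplicity_mul (mul_ne_zero (C_ne_zero.2 hc0) hWst),
      rootMultiplicity_C, zero_add]
  obtain ⟨m, hm⟩ : ∃ m, t.rootMultiplicity a = m + 1 := by
    have : 0 < t.rootMultiplicity a := (rootMultiplicity_pos ht0).2 hta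
    exact ⟨t.rootMultiplicity a - 1, by omega⟩
  have hmax : ∀ x ∈ Submodule.span k {F, G}, x ≠ 0 → rootMultiplicity a x ≤ m + 1 := by
    intro x hx hx0
    rw [← hspan] at hx
    rw [← hm]
    exact K808.Ram.rootMultiplicity_of_mem hs hta hx hx0
  by_cases hmk : ((m + 1 : ℕ) : k) = 0
  · exfalso
    have hdvd : (X - C a) ^ (m + 1) ∣ t := by
      rw [← hm]; exact pow_rootMultiplicity_dvd t a
    have h1 := K808.Ram.pow_dvd_wronskian_of_dvd s hdvd hmk
    have h2 : m + 1 ≤ (wronskian s t).rootMultiplicity a := (le_rootMultiplicity_iff hWst).2 h1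
    have h3 := (CharP.cast_eq_zero_iff k p (m + 1)).1 hmk
    rcases hp with rfl | hp
    · have := Nat.eq_zero_of_zero_dvd h3
      omega
    · have := Nat.le_of_dvd (Nat.succ_pos m) h3
      omega
  · obtain ⟨h1, -⟩ := K808.Ram.rootMultiplicity_wronskian hs ht0 hm hmk
    have hem : e = m + 1 := by omega
    subst hem
    refine ⟨⟨⟨t, htV, ht0, hm.ge⟩, hmax⟩, ?_⟩
    intro h
    exact hmk ((CharP.cast_eq_zero_iff k p (m + 1)).2 h)

end Groth.Agent.S19560
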