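import Groth.Statements.S19562
-- import your own Groth.Agent.* helpers here

set_option autoImplicit false
universe u
open W4c1limliniiii

namespace Groth.Agent.S19562

/-- Rank–nullity for the restriction of a linear map to a subspace. -/
theorem finrank_map_add_finrank_ker_inf {k E E' : Type*} [Field k] [AddCommGroup E] [Module k E]
    [AddCommGroup E'] [Module k E'] [FiniteDimensional k E] (φ : E →ₗ[k] E') (V : Submodule k E) :
    Module.finrank k ↥(V.map φ) + Module.finrank k ↥(LinearMap.ker φ ⊓ V) = Module.finrank k V := by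
  have h := LinearMap.finrank_range_add_finrank_ker (φ.domRestrict V)
  rw [LinearMap.range_domRestrict] at h
  rw [← h]
  congr 1
  have e : LinearMap.ker (φ.domRestrict V) = (LinearMap.ker φ ⊓ V).comap V.subtype := by
    ext x
    simp
  rw [e]
  exact (Submodule.comapSubtypeEquivOfLe inf_le_right).finrank_eq.symm

theorem finrank_grassmannian {k : Type u} [Field k] {E : Type u} [AddCommGroup E] [Module k E]
    [FiniteDimensional k E] (m : ℕ) (V : Module.Grassmannian k E m) :
    Module.finrank k V.toSubmodule + m = Module.finrank k E := by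
  have h := Submodule.finrank_quotient_add_finrank V.toSubmodule
  have h2 : Module.finrank k (E ⧸ V.toSubmodule) = m := by
    have := V.rankAtStalk_eq ⟨⊥, Ideal.isPrime_bot⟩
    rw [Module.rankAtStalk_eq_finrank_of_free] at this
    exact this
  omega

open TensorProduct in
/-- Let k be a field, 0 < r < d, and f_i, g_i (i < n) linear maps forward and backward between
consecutive ones of n + 1 copies of k^d, forming a linked Grassmannian over Spec k whose scalar s is
zero: every composite f_i ∘ g_i and g_i ∘ f_i vanishes, rank f_i + rank g_i ≥ d, and for consecutive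
indices im f_i ∩ ker f_{i+1} = 0 and im g_{i+1} ∩ ker g_i = 0. Let (V_i) be a k-valued point of the
linked Grassmannian of rank-r sub-bundles (subspaces V_i of k ⊗ k^d with quotient of rank d − r,
with f_i(V_i) ⊆ V_{i+1} and g_i(V_{i+1}) ⊆ V_i). Then (V_i) is exact, meaning ker g_i ∩ V_{i+1} ⊆
f_i(V_i) and ker f_i ∩ V_i ⊆ g_i(V_{i+1}) for all i, if and only if dim f_i(V_i) + dim g_i(V_{i+1})
= r for all i. (The published assertion is for points with values in an arbitrary scheme and also
says that f_i(V_i) and g_i(V_{i+1}) are then sub-bundles; this row is the case of a field, where the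
last clause is empty.) -/
theorem result (k : Type u) [Field k]
    (d r n : ℕ) (hr : 0 < r) (hrd : r < d) (f g : Fin n → ((Fin d → k) →ₗ[k] (Fin d → k)))
    (hI : ∀ i, (f i).comp (g i) = 0 ∧ (g i).comp (f i) = 0)
    (hII : ∀ i, d ≤ Module.finrank k (LinearMap.range (f i)) + Module.finrank k (LinearMap.range (g i)))
    (hIII : ∀ i j : Fin n, i.val + 1 = j.val →
      LinearMap.range (f i) ⊓ LinearMap.ker (f j) = ⊥ ∧
        LinearMap.range (g j) ⊓ LinearMap.ker (g i) = ⊥)
    (V : Fin (n + 1) → Module.Grassmannian k (k ⊗[k] (Fin d → k)) (d - r))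
    (hV : V ∈ W4c1limliniiii.LGPoints k d r n f g k) :
    W4c1limliniiii.IsExact k d r n f g k V ↔
      ∀ i : Fin n,
        Module.finrank k ↥(Submodule.map ((f i).baseChange k) (V i.castSucc).toSubmodule) +
          Module.finrank k ↥(Submodule.map ((g i).baseChange k) (V i.succ).toSubmodule) = r := by
  have hfr : Module.finrank k (k ⊗[k] (Fin d → k)) = d := by
    rw [(TensorProduct.lid k (Fin d → k)).finrank_eq]; simp
  have hVr : ∀ j, Module.finrank k (V j).toSubmodule = r := by
    intro j
    have := finrank_grassmannian (d - r) (V j)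
    omega
  -- reduce each of the two conditions
  refine forall_congr' fun i => ?_
  obtain ⟨hV1, hV2⟩ := hV i
  set φ := (f i).baseChange k with hφ
  set ψ := (g i).baseChange k with hψ
  have hφψ : φ.comp ψ = 0 := by
    rw [hφ, hψ, ← LinearMap.baseChange_comp, (hI i).1, LinearMap.baseChange_zero]
  have hψφ : ψ.comp φ = 0 := by
    rw [hφ, hψ, ← LinearMap.baseChange_comp, (hI i).2, LinearMap.baseChange_zero]
  have h1 := finrank_map_add_finrank_ker_inf φ (V i.castSucc).toSubmodule
  have h2 := finrank_map_add_finrank_ker_inf ψ (V i.succ).toSubmodule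
  rw [hVr] at h1 h2
  have l1 : Submodule.map φ (V i.castSucc).toSubmodule ≤ LinearMap.ker ψ ⊓ (V i.succ).toSubmodule := by
    refine le_inf ?_ hV1
    rintro _ ⟨x, -, rfl⟩
    exact LinearMap.congr_fun hψφ x
  have l2 : Submodule.map ψ (V i.succ).toSubmodule ≤ LinearMap.ker φ ⊓ (V i.castSucc).toSubmodule := by
    refine le_inf ?_ hV2
    rintro _ ⟨x, -, rfl⟩
    exact LinearMap.congr_fun hφψ x
  have m1 := Submodule.finrank_mono l1
  have m2 := Submodule.finrank_mono l2
  constructor
  · rintro ⟨a, b⟩
    have a' := Submodule.finrank_mono a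
    omega
  · intro h
    refine ⟨?_, ?_⟩
    · exact (Submodule.eq_of_le_of_finrank_eq l1 (by omega)).ge
    · exact (Submodule.eq_of_le_of_finrank_eq l2 (by omega)).ge

end Groth.Agent.S19562
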