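import Groth.Statements.S19563
import Groth.Agent.Neron.K491.AsQuot
import Groth.Agent.Neron.K491.AsBuild

set_option autoImplicit false
universe u
open CategoryTheory CategoryTheory.Limits AlgebraicGeometry
open Neron

namespace Groth.Agent.S19563

/-- Let S be a locally Noetherian scheme, U ⊆ S a schematically dense open subscheme and A → U an
abelian scheme (a proper smooth U-group scheme with geometrically connected fibres). Let g : S′ → S
be smooth and surjective, U′ = g⁻¹(U), and let N′ be a smooth, separated, quasi-compact S′-scheme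
together with a U′-isomorphism N′ ×_{S′} U′ ≅ A ×_U U′ such that N′ has the Néron mapping property
for U′ ⊆ S′: for every smooth S′-scheme Y′, restriction to U′ is a bijection from S′-morphisms Y′ →
N′ onto U′-morphisms; so N′ is a Néron model of A ×_U U′ over S′. Then A has a Néron model over S as
an algebraic space: there is an algebraic space N over S (an fppf sheaf on S-schemes with
representable diagonal and an étale surjective chart from a scheme), smooth and separated over S,
with an isomorphism over h_U between N × h_U and h_A, such that for every smooth S-scheme T, sending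
a morphism h_T → N to the induced morphism h_T × h_U → h_A is a bijection onto the morphisms over
h_U. (The published statement has S and U arbitrary and N′ an algebraic space; this row takes S
locally Noetherian with U schematically dense, the setting in which schematic closures of sections
behave as the argument needs, and N′ a scheme; quasi-compactness of N over S is not asserted.) -/
theorem result
    {S S' : Scheme.{u}} [IsLocallyNoetherian S] (g : S' ⟶ S) [Smooth g] [Surjective g]
    (U : S.Opens) (hU : CInt.IsSchematicallyDense U)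
    (A : Scheme.{u}) (a : A ⟶ (U : Scheme.{u})) [IsProper a] [Smooth a] [GeometricallyConnected a]
    [GrpObj (Over.mk a : Over (U : Scheme.{u}))]
    (N' : Over S') [Smooth N'.hom] [IsSeparated N'.hom] [QuasiCompact N'.hom]
    (e' : pullback N'.hom (g ⁻¹ᵁ U).ι ≅ pullback a (g ∣_ U))
    (he' : e'.hom ≫ pullback.snd a (g ∣_ U) = pullback.snd N'.hom (g ⁻¹ᵁ U).ι)
    (hN' : ∀ Y' : Over S', Smooth Y'.hom →
      Function.Bijective (fun f : Y' ⟶ N' => (Over.pullback (g ⁻¹ᵁ U).ι).map f)) :
    ∃ (N : AlgSp.Sp S) (_ : AlgSp.IsAlgSpace N) (π : N ⟶ (AlgSp.yon S).obj (Over.mk (𝟙 S)))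
      (e : N ⨯ (AlgSp.yon S).obj (Over.mk U.ι : Over S) ≅ (AlgSp.yon S).obj (Over.mk (a ≫ U.ι) : Over S)),
      AlgSp.LocP @Smooth π ∧ AlgSp.IsSeparatedMor π ∧
      e.hom ≫ (AlgSp.yon S).map (Over.homMk (U := (Over.mk (a ≫ U.ι) : Over S)) (V := (Over.mk U.ι : Over S)) a rfl) = Limits.prod.snd ∧
      ∀ (T : Over S), Smooth T.hom →
        (∀ φ₁ φ₂ : (AlgSp.yon S).obj T ⟶ N,
          Limits.prod.map φ₁ (𝟙 ((AlgSp.yon S).obj (Over.mk U.ι : Over S))) ≫ e.hom =
            Limits.prod.map φ₂ (𝟙 ((AlgSp.yon S).obj (Over.mk U.ι : Over S))) ≫ e.hom → φ₁ = φ₂) ∧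
        (∀ γ : (AlgSp.yon S).obj T ⨯ (AlgSp.yon S).obj (Over.mk U.ι : Over S) ⟶ (AlgSp.yon S).obj (Over.mk (a ≫ U.ι) : Over S),
          γ ≫ (AlgSp.yon S).map (Over.homMk (U := (Over.mk (a ≫ U.ι) : Over S)) (V := (Over.mk U.ι : Over S)) a rfl) = Limits.prod.snd →
          ∃ φ : (AlgSp.yon S).obj T ⟶ N,
            Limits.prod.map φ (𝟙 ((AlgSp.yon S).obj (Over.mk U.ι : Over S))) ≫ e.hom = γ) := by
  let D := K491.AsBuild.data g U a N' e' he' hU hN'
  refine ⟨D.N, D.isAlgSpace, D.π, D.e, D.locP_smooth_π, D.isSeparatedMor_π, ?_, fun T hT => ⟨?_, ?_⟩⟩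
  · exact D.yon_sub _ _
  · intro φ₁ φ₂ h
    exact D.uniq_of_smooth hT φ₁ φ₂ h
  · intro γ _
    exact D.exists_of_smooth hT γ

end Groth.Agent.S19563
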