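import Groth.Statements.S19564
import Groth.Agent.FrobAlg.K675.QuotLift
import Groth.Agent.FrobAlg.K674.Quadric

set_option autoImplicit false
universe u
open scoped BigOperators
open FrobAlg

namespace Groth.Agent.S19564

theorem map_aeval_int {S T : Type*} [CommRing S] [CommRing T] (i1 : Algebra ℤ S) (i2 : Algebra ℤ T)
    {τ : Type*} (φ : S →+* T) (t : τ → S) (F : MvPolynomial τ ℤ) :
    φ (MvPolynomial.aeval t F) = MvPolynomial.aeval (fun i => φ (t i)) F := by
  have h2 : (φ.comp (MvPolynomial.aeval t : MvPolynomial τ ℤ →ₐ[ℤ] S).toRingHom) =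
      (MvPolynomial.aeval (fun i => φ (t i)) : MvPolynomial τ ℤ →ₐ[ℤ] T).toRingHom := by
    apply MvPolynomial.ringHom_ext
    · intro r; simp
    · intro i; simp
  exact congr($h2 F)

open K673.W2Basic K673.Lift K673.PolyFrob MvPolynomial in
/-- The core of the argument: the criterion for lifts of the single equation fails. -/
theorem core
    (p : ℕ) [Fact p.Prime] (k : Type u) [Field k] [CharP k p] [PerfectRing k p] (m : ℕ)
    (f' : MvPolynomial (Fin (m + 3) × Fin 2) (FrobAlg.W2 p k))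
    (h : Fin (m + 3) × Fin 2 → MvPolynomial (Fin (m + 3) × Fin 2) (FrobAlg.W2 p k))
    (hf' : MvPolynomial.map (FrobAlg.res p k) f' =
      ∑ i : Fin (m + 3), X (i, (0 : Fin 2)) * X (i, (1 : Fin 2)))
    (hh : FrobAlg.polyFrob p k (Fin (m + 3) × Fin 2) f' - f' ^ p
        - (p : MvPolynomial (Fin (m + 3) × Fin 2) (FrobAlg.W2 p k)) *
          ∑ j, MvPolynomial.pderiv j f' ^ p * h j
        ∈ Ideal.span {(p : MvPolynomial (Fin (m + 3) × Fin 2) (FrobAlg.W2 p k))} *
          Ideal.span {f'}) : False := by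
  classical
  have hpp : (p : MvPolynomial (Fin (m + 3) × Fin 2) (W2 p k)) *
      (p : MvPolynomial (Fin (m + 3) × Fin 2) (W2 p k)) = 0 :=
    IsLift.natCast_mul_natCast (A := MvPolynomial (Fin (m + 3) × Fin 2) k) isLift_mvPolynomial
  have hp2 : 2 ≤ p := (Fact.out : p.Prime).two_le
  set F : MvPolynomial (Fin (m + 3) × Fin 2) (W2 p k) :=
    ∑ i : Fin (m + 3), X (i, (0 : Fin 2)) * X (i, (1 : Fin 2)) with hF
  have hFred : MvPolynomial.map (res p k) F =
      ∑ i : Fin (m + 3), X (i, (0 : Fin 2)) * X (i, (1 : Fin 2)) := by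
    rw [hF, map_sum]
    simp only [map_mul, map_X]
  have h0 : MvPolynomial.map (res p k) (f' - F) = 0 := by rw [map_sub, hf', hFred, sub_self]
  obtain ⟨g0, hg0⟩ := (IsLift.pi_eq_zero_iff isLift_mvPolynomial _).1 h0
  have hf'F : f' = F + (p : MvPolynomial (Fin (m + 3) × Fin 2) (W2 p k)) * g0 := by
    rw [← hg0]; ring
  -- the `p`-th power
  have hpow : f' ^ p = F ^ p := by
    rw [hf'F, ← sub_eq_zero]
    obtain ⟨c, hc⟩ := (Commute.all F ((p : MvPolynomial (Fin (m + 3) × Fin 2) (W2 p k)) * g0)).exists_add_pow_prime_eq (Fact.out : p.Prime)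
    rw [hc, mul_pow]
    obtain ⟨q, rfl⟩ : ∃ q, p = q + 2 := ⟨p - 2, by omega⟩
    rw [pow_succ (((q + 2 : ℕ) : MvPolynomial (Fin (m + 3) × Fin 2) (W2 (q + 2) k))) (q + 1),
      pow_succ (((q + 2 : ℕ) : MvPolynomial (Fin (m + 3) × Fin 2) (W2 (q + 2) k))) q]
    linear_combination (((q + 2 : ℕ) : MvPolynomial (Fin (m + 3) × Fin 2) (W2 (q + 2) k)) ^ q * g0 ^ (q + 2) + F * g0 * c) * hpp
  obtain ⟨Δ, hFp, hΔred⟩ : ∃ Δ : MvPolynomial (Fin (m + 3) × Fin 2) (W2 p k),
      F ^ p - ∑ i : Fin (m + 3), (X (i, (0 : Fin 2)) * X (i, (1 : Fin 2))) ^ p = (p : MvPolynomial (Fin (m + 3) × Fin 2) (W2 p k)) * Δ ∧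
      MvPolynomial.map (res p k) Δ =
        aeval (fun i => (X (i, (0 : Fin 2)) * X (i, (1 : Fin 2)) : MvPolynomial (Fin (m + 3) × Fin 2) k)) (K674.Quadric.delta p (Fin (m + 3))) := by
    refine ⟨_, K674.Quadric.delta_eval p (Fin (m + 3))
      (fun i => (X (i, (0 : Fin 2)) * X (i, (1 : Fin 2)) : MvPolynomial (Fin (m + 3) × Fin 2) (W2 p k))), ?_⟩
    rw [map_aeval_int _ inferInstance]
    simp only [map_mul, map_X]
  have hPF : polyFrob p k (Fin (m + 3) × Fin 2) f' =
      ∑ i : Fin (m + 3), (X (i, (0 : Fin 2)) * X (i, (1 : Fin 2))) ^ p +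
        (p : MvPolynomial (Fin (m + 3) × Fin 2) (W2 p k)) * polyFrob p k (Fin (m + 3) × Fin 2) g0 := by
    rw [hf'F, map_add, map_mul, map_natCast, hF, map_sum]
    simp only [map_mul, polyFrob_X, mul_pow]
  rw [Ideal.span_singleton_mul_span_singleton, Ideal.mem_span_singleton'] at hh
  obtain ⟨a, ha⟩ := hh
  rw [hpow, hPF] at ha
  have h1 : (p : MvPolynomial (Fin (m + 3) × Fin 2) (W2 p k)) *
      (polyFrob p k (Fin (m + 3) × Fin 2) g0 - Δ - ∑ j, MvPolynomial.pderiv j f' ^ p * h j - a * f') = 0 := by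
    linear_combination (-1 : MvPolynomial (Fin (m + 3) × Fin 2) (W2 p k)) * ha + hFp
  rw [IsLift.natCast_mul_eq_zero_iff isLift_mvPolynomial] at h1
  rw [map_sub, map_sub, map_sub, red_polyFrob, hΔred, map_sum, map_mul, hf'] at h1
  obtain ⟨c, hc⟩ := K675.QuotLift.pow_mem (MvPolynomial.map (res p k) g0)
  have hL := congrArg (K674.Quadric.L p k m) h1
  rw [map_zero, map_sub, map_sub, map_sub] at hL
  have e1 : K674.Quadric.L p k m ((MvPolynomial.map (res p k) g0) ^ p) = 0 := by
    have h3 : (MvPolynomial.map (res p k) g0) ^ p = ((MvPolynomial.map (res p k) g0) ^ p - C c) + c • (1 : MvPolynomial (Fin (m + 3) × Fin 2) k) := by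
      rw [MvPolynomial.smul_eq_C_mul]; ring
    rw [h3, map_add, K674.Quadric.L_mem p k m _ (Ideal.span_mono (Set.subset_insert _ _) hc), map_smul]
    have h4 : K674.Quadric.L p k m 1 = 0 := by
      rw [K674.Quadric.L_apply]
      have h3 : (1 : MvPolynomial (Fin (m + 3) × Fin 2) k) = monomial 0 1 := rfl
      rw [h3, K674.Quadric.E_monomial, if_pos (by simp), one_smul]
      have h4 : (Finsupp.equivFunOnFinite.symm fun l : Fin (m + 3) => (0 : Fin (m + 3) × Fin 2 →₀ ℕ) (l, 0)) = 0 := by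
        ext l; simp
      rw [h4]
      change coeff (K674.Quadric.expo p) (aeval (K674.Quadric.vec m k) (1 : MvPolynomial (Fin (m + 3)) k)) = 0
      rw [map_one, coeff_one, if_neg]
      intro h5
      have h6 := DFunLike.congr_fun h5 1
      rw [K674.Quadric.expo_one] at h6
      simp at h6
    rw [h4, smul_zero, add_zero]
  have e2 : K674.Quadric.L p k m (∑ j, MvPolynomial.map (res p k) (MvPolynomial.pderiv j f' ^ p * h j)) = 0 := by
    rw [map_sum]
    refine Finset.sum_eq_zero fun j _ => ?_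
    rw [map_mul, map_pow, ← MvPolynomial.pderiv_map, hf', map_sum]
    have h5 : ∃ v : Fin (m + 3) × Fin 2, (∑ i : Fin (m + 3), pderiv j (X (i, (0 : Fin 2)) * X (i, (1 : Fin 2)) : MvPolynomial (Fin (m + 3) × Fin 2) k)) = X v := by
      obtain ⟨i, l⟩ := j
      have h6 : l = 0 ∨ l = 1 := by fin_cases l <;> simp
      rcases h6 with rfl | rfl
      · refine ⟨(i, 1), ?_⟩
        rw [Finset.sum_eq_single i]
        · rw [pderiv_mul, pderiv_X_self, pderiv_X_of_ne (by simp)]; ring
        · intro b _ hb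
          rw [pderiv_mul, pderiv_X_of_ne (by simpa using hb), pderiv_X_of_ne (by simp)]; ring
        · intro h; exact absurd (Finset.mem_univ _) h
      · refine ⟨(i, 0), ?_⟩
        rw [Finset.sum_eq_single i]
        · rw [pderiv_mul, pderiv_X_self, pderiv_X_of_ne (by simp)]; ring
        · intro b _ hb
          rw [pderiv_mul, pderiv_X_of_ne (by simp), pderiv_X_of_ne (by simpa using hb)]; ring
        · intro h; exact absurd (Finset.mem_univ _) h
    obtain ⟨v, hv⟩ := h5
    rw [hv, K674.Quadric.L_pow_mul]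
  rw [e1, e2, mul_comm (MvPolynomial.map (res p k) a), K674.Quadric.L_sum_mul, sub_zero, sub_zero, zero_sub, neg_eq_zero] at hL
  exact K674.Quadric.L_delta p k m hL

/-- Let k be a perfect field of characteristic p ≥ 3 and n ≥ 3. Then the ordinary double point k[x_1,
y_1, …, x_n, y_n]/(x_1y_1 + ⋯ + x_ny_n), the affine cone over the split quadric in 2n ≥ 6 variables,
admits no flat lifting over W₂(k) compatible with Frobenius (no flat W₂(k)-algebra reducing to it
that carries a ring endomorphism which is σ₂-semilinear and reduces to the p-th power map). (The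
published statement is for any number N ≥ 5 of variables and allows arbitrary terms of degree ≥ 3 to
be added to a non-degenerate quadratic form; this row is the case of the split form in an even
number of variables with nothing added, the case in which the argument is a pure comparison of
homogeneous components.) -/
theorem result
    (p : ℕ) [Fact p.Prime] (hp : 3 ≤ p) (k : Type u) [Field k] [CharP k p] [PerfectRing k p]
    (n : ℕ) (hn : 3 ≤ n) :
    ¬ FrobAlg.IsFLiftable p k
      (MvPolynomial (Fin n × Fin 2) k ⧸ Ideal.span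
        {(∑ i : Fin n, MvPolynomial.X (i, (0 : Fin 2)) * MvPolynomial.X (i, (1 : Fin 2)) : MvPolynomial (Fin n × Fin 2) k)}) := by
  intro hF
  obtain ⟨m, rfl⟩ : ∃ m, n = m + 3 := ⟨n - 3, by omega⟩
  rw [← Set.range_const (ι := Unit)] at hF
  obtain ⟨f', h, h1, h2⟩ := K675.QuotLift.exists_of_isFLiftable (p := p) (k := k)
    (fun _ : Unit => (∑ i : Fin (m + 3), MvPolynomial.X (i, (0 : Fin 2)) * MvPolynomial.X (i, (1 : Fin 2)) : MvPolynomial (Fin (m + 3) × Fin 2) k)) hF
  refine core p k m (f' ()) h (h1 ()) ?_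
  have h3 := h2 ()
  have h4 : Set.range f' = {f' ()} := by
    ext x
    constructor
    · rintro ⟨⟨⟩, rfl⟩
      rfl
    · rintro rfl
      exact ⟨(), rfl⟩
  rwa [h4] at h3

end Groth.Agent.S19564
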