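import Groth.Statements.S19565
import Mathlib.LinearAlgebra.RootSystem.CartanMatrix
import Mathlib.Tactic.Ring

set_option autoImplicit false
universe u v w
open RootComb

namespace Groth.Agent.S19565

open RootPairing



/-- Let Φ be a finite reduced crystallographic irreducible root system over a field of characteristic
zero, Δ a base of simple roots, I ⊆ Δ, and suppose the simple roots outside I are split into two
disjoint non-empty sets A and B. Then there are a simple root β ∈ A and a root δ such that δ is a
non-negative integer combination of the simple roots of I ∪ B (a positive root whose support avoids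
A), δ is not in the linear span of I (so δ is not a root of the Levi subsystem of I), and ⟨δ, β^∨⟩ <
0. (The published statement is made for the root system of a semisimple group; for a reducible
system such as A₁ × A₁ with I empty and A, B the two simple roots there is no such δ, and the
argument measures distances in a connected Dynkin diagram, so the root system is taken irreducible
here.) -/
theorem result
    {ι : Type u} [Finite ι] [DecidableEq ι] {k : Type v} [Field k] [CharZero k]
    {M : Type w} [AddCommGroup M] [Module k M] {N : Type w} [AddCommGroup N] [Module k N]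
    (P : RootPairing ι k M N) [P.IsCrystallographic] [P.IsReduced] [P.IsIrreducible] (b : P.Base)
    (I A B : Finset ι) (hcover : I ∪ A ∪ B = b.support) (hIA : Disjoint I A) (hIB : Disjoint I B)
    (hAB : Disjoint A B) (hA : A.Nonempty) (hB : B.Nonempty) :
    ∃ l ∈ A, ∃ j : ι, P.root j ∈ AddSubmonoid.closure (P.root '' ↑(I ∪ B)) ∧
      P.root j ∉ Submodule.span k (P.root '' ↑I) ∧ P.pairingIn ℤ j l < 0 := by
  classical
  have hsub : I ∪ A ∪ B = b.support := hcover
  have hIB_sub : I ∪ B ⊆ b.support := by
    rw [← hcover]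
    intro x hx
    simp only [Finset.mem_union] at hx ⊢
    tauto
  obtain ⟨a₀, ha₀⟩ := hA
  obtain ⟨b₀, hb₀⟩ := hB
  have : Nonempty ι := ⟨a₀⟩
  -- coordinates
  let w := b.toWeightBasis
  -- a positive combination of `I ∪ B`
  have hcoord : ∀ (f : ι → ℕ) (γ : b.support), w.repr (∑ i ∈ b.support, f i • P.root i) γ = (f γ : k) := by
    intro f γ
    have h1 : ∑ i ∈ b.support, f i • P.root i = ∑ i : b.support, (f i : k) • w i := by
      rw [← Finset.sum_coe_sort b.support (fun i => f i • P.root i)]
      refine Finset.sum_congr rfl fun i _ => ?_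
      rw [b.toWeightBasis_apply, Nat.cast_smul_eq_nsmul]
    rw [h1, Module.Basis.repr_sum_self]
  by_contra hcon
  push Not at hcon
  -- the statement propagated
  let good : ι → (ι → ℕ) → Prop := fun j f =>
    P.root j = ∑ i ∈ b.support, f i • P.root i ∧ (∀ i ∈ A, f i = 0) ∧ ∃ i ∈ B, f i ≠ 0
  have hgood_pair : ∀ j f, good j f → ∀ l ∈ b.support, P.pairingIn ℤ j l =
      ∑ i ∈ b.support, f i * P.pairingIn ℤ i l := by
    intro j f hj l hl
    have h1 := congrArg (P.coroot' l) hj.1
    rw [map_sum] at h1
    simp only [map_nsmul, P.root_coroot'_eq_pairing] at h1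
    apply (algebraMap ℤ k).injective_int
    rw [P.algebraMap_pairingIn ℤ, h1, map_sum]
    refine Finset.sum_congr rfl fun i _ => ?_
    rw [map_mul, P.algebraMap_pairingIn ℤ, nsmul_eq_mul]
    simp
  have hgood_neg : ∀ j f, good j f → ∀ l ∈ b.support, f l = 0 → ∀ i₀ ∈ b.support, f i₀ ≠ 0 →
      P.pairingIn ℤ i₀ l ≠ 0 → P.pairingIn ℤ j l < 0 := by
    intro j f hj l hl hfl i₀ hi₀ hfi₀ hne
    rw [hgood_pair j f hj l hl]
    refine Finset.sum_neg' ?_ ⟨i₀, hi₀, ?_⟩
    · intro i hi
      by_cases hil : i = l
      · rw [hil, hfl]; simp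
      · exact mul_nonpos_of_nonneg_of_nonpos (by positivity) (b.pairingIn_le_zero_of_ne hil hi hl)
    · have hil : i₀ ≠ l := fun h => hfi₀ (h ▸ hfl)
      refine mul_neg_of_pos_of_neg (by positivity) (lt_of_le_of_ne (b.pairingIn_le_zero_of_ne hil hi₀ hl) hne)
  have hgood_span : ∀ j f, good j f → P.root j ∉ Submodule.span k (P.root '' (I : Set ι)) := by
    rintro j f ⟨hj, -, i, hi, hfi⟩ hmem
    have hiS : i ∈ b.support := by rw [← hcover]; simp [hi]
    have h1 : w.repr (P.root j) ⟨i, hiS⟩ = (f i : k) := by rw [hj]; exact hcoord f ⟨i, hiS⟩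
    have h2 : w.repr (P.root j) ⟨i, hiS⟩ = 0 := by
      have h3 : Submodule.span k (P.root '' (I : Set ι)) ≤ LinearMap.ker (w.coord ⟨i, hiS⟩) := by
        refine Submodule.span_le.2 ?_
        rintro _ ⟨x, hx, rfl⟩
        have hxS : x ∈ b.support := by rw [← hcover]; simp [Finset.mem_coe.1 hx]
        have hxi : x ≠ i := fun h => Finset.disjoint_left.1 hIB (Finset.mem_coe.1 hx) (h ▸ hi)
        have h4 : P.root x = w ⟨x, hxS⟩ := (b.toWeightBasis_apply ⟨x, hxS⟩).symm
        simp only [SetLike.mem_coe, LinearMap.mem_ker, h4, Module.Basis.coord_apply, Module.Basis.repr_self]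
        rw [Finsupp.single_apply, if_neg]
        intro h
        exact hxi (congrArg Subtype.val h)
      exact h3 hmem
    rw [h2] at h1
    exact hfi (by exact_mod_cast h1.symm)
  have hgood_mem : ∀ j f, good j f → P.root j ∈ AddSubmonoid.closure (P.root '' ((I ∪ B : Finset ι) : Set ι)) := by
    rintro j f ⟨hj, hfA, -⟩
    rw [hj]
    refine AddSubmonoid.sum_mem _ fun i hi => ?_
    by_cases hiA : i ∈ A
    · rw [hfA i hiA, zero_smul]; exact zero_mem _
    · have hi' : i ∈ ((I ∪ B : Finset ι) : Set ι) := by
        rw [← hcover] at hi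
        simp only [Finset.mem_union] at hi
        simp only [Finset.coe_union, Set.mem_union, Finset.mem_coe]
        tauto
      have hi'' : P.root i ∈ AddSubmonoid.closure (P.root '' ((I ∪ B : Finset ι) : Set ι)) :=
        AddSubmonoid.subset_closure ⟨i, hi', rfl⟩
      exact AddSubmonoid.nsmul_mem _ hi'' _
  -- the induction
  let p : b.support → Prop := fun γ => ∃ j f, good j f ∧ f γ ≠ 0
  have hb₀S : b₀ ∈ b.support := by rw [← hcover]; simp [hb₀]
  have ha₀S : a₀ ∈ b.support := by rw [← hcover]; simp [ha₀]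
  have hp0 : p ⟨b₀, hb₀S⟩ := by
    refine ⟨b₀, Pi.single (M := fun _ => ℕ) b₀ 1, ⟨?_, ?_, ⟨b₀, hb₀, by simp⟩⟩, by simp⟩
    · rw [Finset.sum_eq_single b₀]
      · simp
      · intro i _ hi
        rw [Pi.single_eq_of_ne hi, zero_smul]
      · intro h; exact (h hb₀S).elim
    · intro i hi
      rw [Pi.single_eq_of_ne]
      rintro rfl
      exact Finset.disjoint_left.1 hAB hi hb₀
  have hpa : p ⟨a₀, ha₀S⟩ := by
    refine b.induction_on_cartanMatrix p hp0 ?_
    rintro ⟨i, hi⟩ ⟨l, hl⟩ ⟨j, f, hj, hfi⟩ hcm
    by_cases hfl : f l = 0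
    swap
    · exact ⟨j, f, hj, hfl⟩
    have hne : P.pairingIn ℤ i l ≠ 0 := by
      intro h0
      apply hcm
      rw [b.cartanMatrix_apply_eq_zero_iff_symm]
      exact h0
    have hneg := hgood_neg j f hj l hl hfl i hi hfi hne
    by_cases hlA : l ∈ A
    · exact absurd (hcon l hlA j (hgood_mem j f hj) (hgood_span j f hj)) (not_le.2 hneg)
    · obtain ⟨hj1, hfA, i₁, hi₁, hfi₁⟩ := id hj
      have hi₁S : i₁ ∈ b.support := by rw [← hcover]; simp [hi₁]
      have hsum : P.root j + P.root l = ∑ i ∈ b.support, (f i + Pi.single (M := fun _ => ℕ) l 1 i) • P.root i := by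
        simp only [add_smul, Finset.sum_add_distrib]
        rw [← hj1, Finset.sum_eq_single (a := l) (f := fun i => Pi.single (M := fun _ => ℕ) l 1 i • P.root i)]
        · simp
        · intro i _ hi
          rw [Pi.single_eq_of_ne hi, zero_smul]
        · intro h; exact (h hl).elim
      have hne' : P.root j ≠ - P.root l := by
        intro h
        have h1 : P.root j + P.root l = 0 := by rw [h, neg_add_cancel]
        rw [hsum] at h1
        have h2 := hcoord (fun i => f i + Pi.single (M := fun _ => ℕ) l 1 i) ⟨i₁, hi₁S⟩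
        rw [h1] at h2
        simp only [map_zero, Finsupp.coe_zero, Pi.zero_apply] at h2
        have h3 : f i₁ + Pi.single (M := fun _ => ℕ) l 1 i₁ = 0 := by exact_mod_cast h2.symm
        omega
      obtain ⟨j', hj'⟩ := P.root_add_root_mem_of_pairingIn_neg hneg hne'
      refine ⟨j', fun i => f i + Pi.single (M := fun _ => ℕ) l 1 i, ⟨by rw [hj', hsum], ?_, i₁, hi₁, ?_⟩, ?_⟩
      · intro i hi
        have hil : i ≠ l := fun h => hlA (h ▸ hi)
        simp only
        rw [hfA i hi, Pi.single_eq_of_ne hil, add_zero]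
      · simp only; omega
      · simp
  obtain ⟨j, f, ⟨-, hfA, -⟩, hfa⟩ := hpa
  exact hfa (hfA a₀ ha₀)

end Groth.Agent.S19565
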