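import Groth.Statements.S19566
-- import your own Groth.Agent.* helpers here
import Groth.Agent.AlgSt.K750.FibGrpd
import Groth.Agent.AlgSt.K750.LangPt
import Groth.Agent.MiscA.PointCount

set_option autoImplicit false
universe u
open CategoryTheory CategoryTheory.Limits AlgebraicGeometry
open AlgSt

namespace Groth.Agent.S19566

open MonoidalCategory CartesianMonoidalCategory K750.FibGrpd in
/-- Every torsor over `Spec F` has a section, by Lang's theorem. -/
lemma exists_sec {F : Type u} [Field F] [Finite F]
    (X G : Over (Spec (CommRingCat.of F))) [GrpObj G] (aX : AlgGrp.Action G X)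
    [Smooth G.hom] [IsAffineHom G.hom] [ConnectedSpace ↥G.left]
    (A : Fib Scheme.fppfPrecoverage G aX) : Nonempty (T0 (Spec (CommRingCat.of F)) ⟶ A.1.P) := by
  have hbase : A.1.base = T0 _ := A.2
  -- the base is nonempty
  have hne : Nonempty ↥A.1.base.left := by
    rw [hbase]
    exact inferInstanceAs (Nonempty ↥(Spec (CommRingCat.of F)))
  obtain ⟨b0⟩ := hne
  have hPne : Nonempty ↥A.1.P.left := by
    obtain ⟨R, hR, hs⟩ := A.1.loc
    have hR' : R ∈ Scheme.precoverage (@Flat ⊓ @LocallyOfFinitePresentation) A.1.base.left := hR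
    obtain ⟨ι, Y, f, rfl⟩ : ∃ (ι : Type (u + 1)) (Y : ι → Scheme.{u}) (f : ∀ i, Y i ⟶ A.1.base.left),
        R = Presieve.ofArrows Y f := R.exists_eq_ofArrows
    rw [Scheme.ofArrows_mem_precoverage_iff] at hR'
    obtain ⟨i, y, -⟩ := hR'.1 b0
    obtain ⟨s, -⟩ := hs (f i) (Presieve.ofArrows.mk i)
    exact ⟨s y⟩
  have haff : IsAffine G.left := isAffine_of_isAffineHom G.hom
  have hiso : IsIso (lift A.1.act.act (snd G A.1.P)) := by
    refine ⟨⟨A.1.cart.lift (fst _ _) (snd _ _) (eq_of_base A _ _), ?_, ?_⟩⟩
    · apply A.1.cart.hom_ext <;> simp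
    · apply CartesianMonoidalCategory.hom_ext <;> simp
  exact K750.LangPt.torsor_trivial F G A.1.P A.1.act hiso

open K750.FibGrpd in
/-- Finiteness of the set of rational points. -/
lemma finite_pts {F : Type u} [Field F] [Finite F] (X : Over (Spec (CommRingCat.of F)))
    [LocallyOfFiniteType X.hom] [QuasiCompact X.hom] : Finite (T0 (Spec (CommRingCat.of F)) ⟶ X) := by
  have h := Groth.Agent.MiscA.PointCount.finite_points X.hom F
  refine Finite.of_injective (β := { g : Spec (CommRingCat.of F) ⟶ X.left //
      g ≫ X.hom = Spec.map (CommRingCat.ofHom (algebraMap F F)) }) (fun g => ⟨g.left, ?_⟩) ?_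
  · have := Over.w g
    simpa using this
  · intro g g' hg
    exact Over.OverMorphism.ext (congrArg Subtype.val hg)

/-- Let F be a finite field, X a smooth F-scheme of finite type, and G a smooth affine connected F-group
scheme acting on X. Form the quotient stack [X/G] as the category over F-schemes whose objects over
T are fppf G-torsors P → T (as schemes) with a G-equivariant map P → X, and take its fibre category
over Spec F itself. Then the isomorphism classes of this fibre are finite in number, each of its
objects has a finite automorphism group, and the mass Σ_{[ξ]} 1/#Aut(ξ) over the isomorphism classes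
equals #X(F) / #G(F), the number of F-points of X divided by the order of the finite group G(F).
(The published statement allows X to be a smooth Deligne–Mumford stack, with 1/#Aut(x) weights on
the right as well, and G any connected algebraic group; this row is the case of a scheme X and a
smooth affine G, where F-points of X have no automorphisms.) -/
theorem result
    {F : Type u} [Field F] [Finite F]
    (X G : Over (Spec (CommRingCat.of F))) [GrpObj G] (aX : AlgGrp.Action G X)
    [Smooth X.hom] [QuasiCompact X.hom] [Smooth G.hom] [IsAffineHom G.hom] [ConnectedSpace ↥G.left] :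
    Finite (Quotient (isIsomorphicSetoid ((AlgSt.QuotSt Scheme.fppfPrecoverage G aX).p.Fiber (Over.mk (𝟙 (Spec (CommRingCat.of F))))))) ∧
      (∀ ξ : ((AlgSt.QuotSt Scheme.fppfPrecoverage G aX).p.Fiber (Over.mk (𝟙 (Spec (CommRingCat.of F))))), Finite (Aut ξ)) ∧
      ∑ᶠ c : Quotient (isIsomorphicSetoid ((AlgSt.QuotSt Scheme.fppfPrecoverage G aX).p.Fiber (Over.mk (𝟙 (Spec (CommRingCat.of F)))))), ((Nat.card (Aut c.out) : ℚ))⁻¹ =
        (Nat.card (Over.mk (𝟙 (Spec (CommRingCat.of F))) ⟶ X) : ℚ) /
          (Nat.card (Over.mk (𝟙 (Spec (CommRingCat.of F))) ⟶ G) : ℚ) := by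
  have : QuasiCompact G.hom := inferInstance
  have := finite_pts X
  have := finite_pts G
  exact K750.FibGrpd.mass (fun A => exists_sec X G aX A)

end Groth.Agent.S19566
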