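import Groth.Statements.S19572
import Groth.Agent.S3016
import Groth.Agent.S1529
import Groth.Agent.Sga7.H758.FieldHom
import Groth.Agent.VarietyB.DimSch

set_option autoImplicit false
universe u
open CategoryTheory CategoryTheory.Limits MonoidalCategory CartesianMonoidalCategory MonObj GrpObj AlgebraicGeometry
open AbVar

namespace Groth.Agent.S19572

/-- Let X and Y be abelian varieties over a field k (proper, geometrically integral k-group schemes) and
f : X → Y a homomorphism. If f is surjective and dim X = dim Y (Krull dimensions of the underlying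
topological spaces), then f is finite and flat; together with surjectivity, f is an isogeny. -/
theorem result (k : Type u) [Field k]
    (X Y : Over (Spec (CommRingCat.of k)))
    [GrpObj X] [IsProper X.hom] [GeometricallyIntegral X.hom]
    [GrpObj Y] [IsProper Y.hom] [GeometricallyIntegral Y.hom]
    (f : X ⟶ Y) [IsMonHom f] [Surjective f.left]
    (hdim : topologicalKrullDim X.left = topologicalKrullDim Y.left) :
    IsFinite f.left ∧ Flat f.left := by
  have hlX : LocallyOfFiniteType X.hom := inferInstance
  have hlY : LocallyOfFiniteType Y.hom := inferInstance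
  have hsq : IsProper f.left := by
    have : IsProper (f.left ≫ Y.hom) := by rw [Over.w]; infer_instance
    exact IsProper.of_comp f.left Y.hom
  obtain ⟨-, hd⟩ := Groth.Agent.S3016.result k X Y f
  have hr : Set.range f.left.base = Set.univ := Set.range_eq_univ.mpr f.left.surjective
  have hdu : topologicalKrullDim (Set.range f.left.base) = topologicalKrullDim Y.left := by
    rw [hr]
    exact IsHomeomorph.topologicalKrullDim_eq _ (Homeomorph.Set.univ Y.left).isHomeomorph
  rw [hdu, ← hdim] at hd
  have hintX : IsIntegral X.left := GeometricallyIntegral.isIntegral_of_subsingleton X.hom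
  have hintY : IsIntegral Y.left := GeometricallyIntegral.isIntegral_of_subsingleton Y.hom
  have hnY : IsLocallyNoetherian Y.left := LocallyOfFiniteType.isLocallyNoetherian Y.hom
  have hfin : ∃ n : ℕ, topologicalKrullDim X.left = n := by
    let _ : X.left.Over (Spec (CommRingCat.of k)) := ⟨X.hom⟩
    have : LocallyOfFiniteType (X.left ↘ Spec (CommRingCat.of k)) := hlX
    exact ⟨_, Groth.Agent.VarietyB.DimSch.topologicalKrullDim_eq_trd k⟩
  obtain ⟨n, hn⟩ := hfin
  let F : Over (Spec (CommRingCat.of k)) := pullback f (η[Y] : 𝟙_ _ ⟶ Y)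
  have hsqF : IsPullback (pullback.fst f (η[Y] : 𝟙_ _ ⟶ Y)) (toUnit F) f η[Y] := by
    have := IsPullback.of_hasPullback f (η[Y] : 𝟙_ _ ⟶ Y)
    rwa [show pullback.snd f (η[Y] : 𝟙_ _ ⟶ Y) = toUnit F from toUnit_unique _ _] at this
  have hpb := Groth.Agent.Sga7.H758.FieldHom.isPullback_left f (pullback.fst f (η[Y] : 𝟙_ _ ⟶ Y)) hsqF
  have hFd : topologicalKrullDim F.left ≤ 0 := by
    have he : topologicalKrullDim F.left = topologicalKrullDim
        ↥(Limits.pullback f.left (η[Y] : 𝟙_ (Over (Spec (CommRingCat.of k))) ⟶ Y).left) :=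
      IsHomeomorph.topologicalKrullDim_eq _ (Scheme.homeoOfIso hpb.isoPullback).isHomeomorph
    rw [he]
    rw [hn] at hd
    generalize topologicalKrullDim
        ↥(Limits.pullback f.left (η[Y] : 𝟙_ (Over (Spec (CommRingCat.of k))) ⟶ Y).left) = m at hd
    induction m with
    | bot => exact bot_le
    | coe m =>
      induction m with
      | top => 
        exfalso
        have h1 : ((n : ℕ∞) : WithBot ℕ∞) = ((n + ⊤ : ℕ∞) : WithBot ℕ∞) := hd
        rw [WithBot.coe_inj] at h1
        simp at h1
      | coe m =>
        have h1 : ((n : ℕ∞) : WithBot ℕ∞) = ((n + m : ℕ∞) : WithBot ℕ∞) := hd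
        rw [WithBot.coe_inj] at h1
        have h2 : n = n + m := by exact_mod_cast h1
        have h3 : m = 0 := by omega
        rw [h3]
        exact le_of_eq rfl
  have hFfin : IsFinite F.hom := by
    let _ : F.left.Over (Spec (CommRingCat.of k)) := ⟨F.hom⟩
    have h1 : IsProper F.hom := by
      have := hpb
      exact MorphismProperty.of_isPullback this hsq
    have : LocallyOfFiniteType (F.left ↘ Spec (CommRingCat.of k)) := inferInstanceAs (LocallyOfFiniteType F.hom)
    have : QuasiCompact (F.left ↘ Spec (CommRingCat.of k)) := inferInstanceAs (QuasiCompact F.hom)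
    exact (Groth.Agent.S1529.result k F.left hFd).2
  exact ⟨Groth.Agent.Sga7.H758.FieldHom.isFinite_of_isFinite_ker f _ hsqF,
    Groth.Agent.Sga7.H758.FieldHom.flat_of_surjective k f⟩

end Groth.Agent.S19572
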