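import Groth.Statements.S19573
import Groth.Agent.LocInt.K822.HypFree

set_option autoImplicit false
universe u
open LocInt

namespace Groth.Agent.S19573

/-- The first sentence of the lemma together with the description of the closed subscheme Z given in its
proof, in the local model. Let R be a commutative ring, n ≥ 1, a ∈ R^n, and F = R^n / R·a the
cokernel of R → R^n, 1 ↦ a (the zeroth homology of the two-term complex R → R^n). Then the
annihilator ideal of the top exterior power ⋀^n F is the ideal generated by the coordinates a_1, …,
a_n of a, and at every prime p of R off the closed set V(a_1, …, a_n) the module F is free of rank n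
− 1 after localization at p. (The published statement is for a complex on a scheme which is locally
quasi-isomorphic to such a two-term complex L → E with L invertible and E locally free of rank n,
and says that H^0 restricted to the complement of the closed subscheme cut out by the annihilator of
its n-th exterior power is locally free of rank n − 1; this row is the local model.) -/
theorem result (R : Type u) [CommRing R]
    (n : ℕ) (hn : 1 ≤ n) (a : Fin n → R) :
    (⋀[R]^n ((Fin n → R) ⧸ Submodule.span R {a})).annihilator = Ideal.span (Set.range a) ∧
    ∀ p : PrimeSpectrum R, ¬ Ideal.span (Set.range a) ≤ p.asIdeal →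
      p ∈ Module.freeLocus R ((Fin n → R) ⧸ Submodule.span R {a}) ∧
      Module.rankAtStalk ((Fin n → R) ⧸ Submodule.span R {a}) p = n - 1 := by
  have hrank : ∀ p : PrimeSpectrum R, Module.rankAtStalk (Fin n → R) p = n := by
    intro p
    have := p.nontrivial
    rw [Module.rankAtStalk_eq_finrank_of_free]
    simp
  have hq : Function.Surjective (Submodule.span R {a}).mkQ := Submodule.mkQ_surjective _
  have hker : LinearMap.ker (Submodule.span R {a}).mkQ = Submodule.span R {a} := Submodule.ker_mkQ _
  refine ⟨?_, ?_⟩
  · have h1 := K822.HypAnn.annihilator_eq_span hrank _ hq a hker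
    refine h1.trans ?_
    apply le_antisymm
    · rw [Ideal.span_le]
      rintro _ ⟨φ, rfl⟩
      have h2 : φ a = ∑ i, a i * φ (Pi.single i 1) := by
        conv_lhs => rw [← Finset.univ_sum_single a, map_sum]
        refine Finset.sum_congr rfl fun i _ => ?_
        have : (Pi.single i (a i) : Fin n → R) = a i • Pi.single i 1 := by
          rw [← Pi.single_smul, smul_eq_mul, mul_one]
        rw [this, map_smul, smul_eq_mul]
      simp only [SetLike.mem_coe, h2]
      exact Ideal.sum_mem _ fun i _ => Ideal.mul_mem_right _ _ (Ideal.subset_span ⟨i, rfl⟩)
    · rw [Ideal.span_le]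
      rintro _ ⟨i, rfl⟩
      exact Ideal.subset_span ⟨LinearMap.proj i, rfl⟩
  · intro p hp
    have hi : ∃ i, a i ∉ p.asIdeal := by
      by_contra hcon
      push_neg at hcon
      exact hp (Ideal.span_le.mpr (by rintro _ ⟨i, rfl⟩; exact hcon i))
    obtain ⟨i, hi⟩ := hi
    obtain ⟨h1, h2⟩ := K822.HypFree.freeLocus_and_rank _ hq a hker (LinearMap.proj i) p hi
    refine ⟨h1, ?_⟩
    rw [hrank] at h2
    omega

end Groth.Agent.S19573
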