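import Groth.Statements.S19574
import Groth.Agent.Lie3Mod.K752.FlatRes
import Mathlib.Algebra.Homology.ShortComplex.ModuleCat
import Mathlib.Algebra.Homology.ShortComplex.HomologicalComplex

set_option autoImplicit false
universe u
open CategoryTheory MonoidalCategory
open Lie3Mod

namespace Groth.Agent.S19574

/-- Let R be a commutative ring and d ≥ 1. Let K be a chain complex of R-modules concentrated in degrees
0, …, d + 1, written … → 0 → P_{d+1} → P_d → … → P_1 → M with M = K_0, which is exact (so 0 →
P_{d+1} → … → P_1 → M → 0 is an exact sequence), such that P_1, …, P_d are flat R-modules and such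
that for every ideal I of R the complex obtained by applying (R/I) ⊗_R − termwise is again exact.
Then M is a flat R-module. (No flatness is assumed for P_{d+1}. The published lemma adds that for R
Noetherian it suffices to test prime ideals I; that refinement is not part of this statement.) -/
theorem result (R : Type u) [CommRing R]
    (d : ℕ) (hd : 1 ≤ d) (K : ChainComplex (ModuleCat.{u} R) ℕ)
    (hzero : ∀ i : ℕ, d + 1 < i → Limits.IsZero (K.X i))
    (hflat : ∀ i : ℕ, 1 ≤ i → i ≤ d → Module.Flat R (K.X i))
    (hK : K.Acyclic)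
    (hbc : ∀ I : Ideal R,
      (((tensorLeft (ModuleCat.of R (R ⧸ I))).mapHomologicalComplex (ComplexShape.down ℕ)).obj K).Acyclic) :
    Module.Flat R (K.X 0) := by
  have hcomp : ∀ i j k : ℕ, ∀ x : K.X i, (K.d j k).hom ((K.d i j).hom x) = 0 := by
    intro i j k x
    have h := K.d_comp_d i j k
    have h1 : (K.d i j ≫ K.d j k).hom x = 0 := by rw [h]; rfl
    exact h1
  have hex : ∀ n : ℕ, ∀ x : K.X (n + 1), (K.d (n + 1) n).hom x = 0 →
      ∃ y : K.X (n + 2), (K.d (n + 2) (n + 1)).hom y = x := by
    intro n x hx
    have h := hK (n + 1)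
    rw [K.exactAt_iff' (n + 2) (n + 1) n (by simp) (by simp)] at h
    exact (ShortComplex.moduleCat_exact_iff _).1 h x hx
  have hsurj : Function.Surjective (K.d 1 0).hom := by
    intro x
    have h := hK 0
    rw [K.exactAt_iff' 1 0 0 (by simp) (by simp)] at h
    refine (ShortComplex.moduleCat_exact_iff _).1 h x ?_
    have : K.d 0 0 = 0 := K.shape _ _ (by simp)
    change (K.d 0 0).hom x = 0
    rw [this]
    rfl
  have := hflat 1 le_rfl hd
  refine K752.FlatRes.flat_of_exact (K.d 1 0).hom (K.d 2 1).hom (K.d 3 2).hom hsurj (hex 0)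
    (hcomp 2 1 0) (hcomp 3 2 1) ?_
  intro I x hx
  have h := hbc I 2
  rw [HomologicalComplex.exactAt_iff' _ 3 2 1 (by simp) (by simp)] at h
  exact (ShortComplex.moduleCat_exact_iff _).1 h x hx

end Groth.Agent.S19574
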