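import Groth.Statements.S19579
import Groth.Agent.AbVar.K529.RelCube

set_option autoImplicit false
universe u
open CategoryTheory CategoryTheory.Limits MonoidalCategory CartesianMonoidalCategory MonObj AlgebraicGeometry
open AbVar

namespace Groth.Agent.S19579

/-- The implication from triviality of the Mumford bundle on one fibre to its triviality relative to the
base, with the identification of the descended bundle. Let X be an abelian variety over a field k
(proper, geometrically integral k-group scheme with multiplication m and unit e), T a connected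
locally Noetherian k-scheme and L an invertible module on X ×_k T. On X ×_k X ×_k T let m_T, p_13,
p_23 be the maps to X ×_k T induced by m and by the two projections X × X → X, π the projection to
T, and e_T : T → X ×_k T the unit section. If there is a point t of T over whose fibre X × X × Spec
k(t) the modules m_T^*L and p_13^*L ⊗ p_23^*L become isomorphic (equivalently the Mumford bundle
Λ(L) = m_T^*L ⊗ p_13^*L⁻¹ ⊗ p_23^*L⁻¹ is trivial on one fibre), then m_T^*L ⊗ π^*(e_T^*L) and
p_13^*L ⊗ p_23^*L are isomorphic on all of X × X × T, i.e. Λ(L) ≅ π^*N with N = e_T^*L⁻¹ (existence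
of an isomorphism). -/
theorem result (k : Type u) [Field k]
    (X T : Over (Spec (CommRingCat.of k)))
    [GrpObj X] [IsProper X.hom] [GeometricallyIntegral X.hom]
    [IsLocallyNoetherian T.left] [ConnectedSpace ↥T.left]
    (L : (X ⊗ T).left.Modules) (hL : PicF.IsInvertible L)
    (t : ↥T.left)
    (ht : Nonempty
      ((Scheme.Modules.pullback (pullback.fst (snd (X ⊗ X) T).left
          (T.left.fromSpecResidueField t))).obj
          ((Scheme.Modules.pullback (μ[X] ▷ T).left).obj L) ≅
       (Scheme.Modules.pullback (pullback.fst (snd (X ⊗ X) T).left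
          (T.left.fromSpecResidueField t))).obj
          (CohB1.tensorMod ((Scheme.Modules.pullback (fst X X ▷ T).left).obj L)
            ((Scheme.Modules.pullback (snd X X ▷ T).left).obj L)))) :
    Nonempty
      (CohB1.tensorMod ((Scheme.Modules.pullback (μ[X] ▷ T).left).obj L)
          ((Scheme.Modules.pullback (snd (X ⊗ X) T).left).obj
            ((Scheme.Modules.pullback (CartesianMonoidalCategory.lift (toUnit T ≫ η[X]) (𝟙 T)).left).obj L)) ≅
        CohB1.tensorMod ((Scheme.Modules.pullback (fst X X ▷ T).left).obj L)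
          ((Scheme.Modules.pullback (snd X X ▷ T).left).obj L)) := by
  set ℓ := Groth.Agent.Grpsch.PicGrp.mk L hL with hℓ
  -- the four points of `X × T` with values in `(X × X) × T`
  have hm1 := Groth.Agent.Fdesc.LocGen.isInvertible_pullback (μ[X] ▷ T).left hL
  have hm2 := Groth.Agent.Fdesc.LocGen.isInvertible_pullback (fst X X ▷ T).left hL
  have hm3 := Groth.Agent.Fdesc.LocGen.isInvertible_pullback (snd X X ▷ T).left hL
  have hm4 := Groth.Agent.Fdesc.LocGen.isInvertible_pullback (snd (X ⊗ X) T).left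
    (Groth.Agent.Fdesc.LocGen.isInvertible_pullback
      (CartesianMonoidalCategory.lift (toUnit T ≫ η[X]) (𝟙 T)).left hL)
  have ht' := (Groth.Agent.Grpsch.PicGrp.mk_eq_iff
    (Groth.Agent.Fdesc.LocGen.isInvertible_pullback _ hm1)
    (Groth.Agent.Fdesc.LocGen.isInvertible_pullback _
      (Groth.Agent.Fdesc.LocGen.isInvertible_tensorMod hm2 hm3))).mpr ht
  rw [← Groth.Agent.Grpsch.PicGrp.mk_eq_iff
    (Groth.Agent.Fdesc.LocGen.isInvertible_tensorMod hm1 hm4)
    (Groth.Agent.Fdesc.LocGen.isInvertible_tensorMod hm2 hm3)]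
  change K529.KL.pl (μ[X] ▷ T) ℓ *
    K529.KL.pl (snd (X ⊗ X) T) (K529.KL.pl (lift (toUnit T ≫ η[X]) (𝟙 T)) ℓ) =
    K529.KL.pl (fst X X ▷ T) ℓ * K529.KL.pl (snd X X ▷ T) ℓ
  change Groth.Agent.Grpsch.PicGrp.pull _ (K529.KL.pl (μ[X] ▷ T) ℓ) =
    Groth.Agent.Grpsch.PicGrp.pull _ (K529.KL.pl (fst X X ▷ T) ℓ * K529.KL.pl (snd X X ▷ T) ℓ) at ht'
  rw [← mul_inv_eq_one]
  have e1 : (lift (toUnit T ≫ η[X]) (𝟙 T) : T ⟶ X ⊗ T) = K529.KL.es X T := rfl
  rw [e1]
  -- components of a morphism to `(X × X) × T`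
  have hmul : ∀ {W : Over (Spec (CommRingCat.of k))} (f : W ⟶ (X ⊗ X) ⊗ T),
      f ≫ (μ[X] ▷ T) = lift ((f ≫ fst _ _ ≫ fst _ _) * (f ≫ fst _ _ ≫ snd _ _)) (f ≫ snd _ _) := by
    intro W f
    apply CartesianMonoidalCategory.hom_ext
    · rw [Category.assoc, whiskerRight_fst, lift_fst, ← MonObj.comp_mul, ← MonObj.comp_mul]
      congr 2
      rw [Hom.mul_def, lift_fst_snd, Category.id_comp]
    · rw [Category.assoc, whiskerRight_snd, lift_snd]
  have hfst : ∀ {W : Over (Spec (CommRingCat.of k))} (f : W ⟶ (X ⊗ X) ⊗ T),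
      f ≫ (fst X X ▷ T) = lift (f ≫ fst _ _ ≫ fst _ _) (f ≫ snd _ _) := by
    intro W f
    apply CartesianMonoidalCategory.hom_ext
    · rw [Category.assoc, whiskerRight_fst, lift_fst]
    · rw [Category.assoc, whiskerRight_snd, lift_snd]
  have hsnd : ∀ {W : Over (Spec (CommRingCat.of k))} (f : W ⟶ (X ⊗ X) ⊗ T),
      f ≫ (snd X X ▷ T) = lift (f ≫ fst _ _ ≫ snd _ _) (f ≫ snd _ _) := by
    intro W f
    apply CartesianMonoidalCategory.hom_ext
    · rw [Category.assoc, whiskerRight_fst, lift_fst]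
    · rw [Category.assoc, whiskerRight_snd, lift_snd]
  have hes : ∀ {W : Over (Spec (CommRingCat.of k))} (f : W ⟶ (X ⊗ X) ⊗ T),
      (f ≫ snd (X ⊗ X) T) ≫ K529.KL.es X T = lift 1 (f ≫ snd _ _) := by
    intro W f
    apply CartesianMonoidalCategory.hom_ext
    · rw [Category.assoc, K529.KL.es_fst, lift_fst, MonObj.comp_one]
    · rw [Category.assoc, K529.KL.es_snd, lift_snd, Category.comp_id]
  refine K529.RelCube.eq_one _ (fun {W} f h => ?_) (fun {W} f h => ?_) t ?_
  · rw [map_mul, map_mul, map_inv, map_mul, ← K529.KL.pl_comp, ← K529.KL.pl_comp, ← K529.KL.pl_comp,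
      ← K529.KL.pl_comp, ← K529.KL.pl_comp, hmul, hfst, hsnd, hes, h, _root_.one_mul, mul_inv_eq_one]
    exact _root_.mul_comm _ _
  · rw [map_mul, map_mul, map_inv, map_mul, ← K529.KL.pl_comp, ← K529.KL.pl_comp, ← K529.KL.pl_comp,
      ← K529.KL.pl_comp, ← K529.KL.pl_comp, hmul, hfst, hsnd, hes, h, _root_.mul_one, mul_inv_eq_one]
  · rw [map_mul, map_mul, map_inv, ht', mul_inv_eq_one, mul_eq_left]
    have hp := @Groth.Agent.Grpsch.PicGrp.pic_spec_local (T.left.residueField t) _
      (Field.instIsLocalRing (T.left.residueField t))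
      (Groth.Agent.Grpsch.PicGrp.pull (T.left.fromSpecResidueField t)
        (K529.KL.pl (K529.KL.es X T) ℓ))
    rw [← Groth.Agent.Grpsch.PicGrp.pull_comp, pullback.condition,
      Groth.Agent.Grpsch.PicGrp.pull_comp]
    exact (congrArg _ hp).trans (map_one _)

end Groth.Agent.S19579
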