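import Groth.Statements.S19582
import Groth.Agent.SDiv.K474.StrictDVR
import Groth.Agent.SDiv.K474.EquiFlat
import Groth.Agent.FlatMor.K265.Colon
import Groth.Agent.AlgSp.K651.FieldLift

set_option autoImplicit false
universe u
open Cyc

namespace Groth.Agent.S19582

open CategoryTheory CategoryTheory.Limits AlgebraicGeometry
open Groth.Agent.SDiv.K474.StrictDVR Groth.Agent.SDiv.K474.EquiFlat


open CategoryTheory CategoryTheory.Limits AlgebraicGeometry in
/-- Let S be a separated Noetherian scheme, p : X → S separated of finite type, z a point of X lying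
over a generic point of an irreducible component of S whose closure in its fibre p⁻¹(p z) has
dimension r, and ι : Z → X a closed immersion from a reduced scheme with image the closure of z. Let
R be a discrete valuation ring with fraction field K and x : Spec R → S a morphism sending the
generic point of Spec R to a generic point of an irreducible component of S, and let q : φ → Spec R
be the flat closure φ = φ_x(Z) of Z along x, i.e. the scheme-theoretic image of Z ×_S Spec K in Z
×_S Spec R, with its projection to Spec R. Then q is universally equidimensional of dimension r: for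
every scheme S' and every S' → Spec R, the base change φ ×_R S' → S' has local fibre dimension r at
every point (the dimension at w of the fibre through w is r) and every irreducible component of φ
×_R S' dominates an irreducible component of S'. -/
theorem result {X S Z : Scheme.{u}} [IsNoetherian S] [S.IsSeparated] [X.IsSeparated]
    (p : X ⟶ S) [LocallyOfFiniteType p] [QuasiCompact p] (z : X) (hz : closure {p.base z} ∈ irreducibleComponents ↥S)
    (r : ℕ) (hr : topologicalKrullDim ↥(closure ({p.asFiber z} : Set ↥(p.fiber (p.base z)))) = r)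
    (ι : Z ⟶ X) [IsClosedImmersion ι] [IsReduced Z] (hZ : Set.range ι.base = closure {z})
    (R : Type u) [CommRing R] [IsDomain R] [IsDiscreteValuationRing R] (x : Spec (CommRingCat.of R) ⟶ S)
    (hx : closure {x.base ⟨⊥, Ideal.isPrime_bot⟩} ∈ irreducibleComponents ↥S)
    (q : (pullback.map (ι ≫ p) (Spec.map (CommRingCat.ofHom (algebraMap R (FractionRing R))) ≫ x) (ι ≫ p) x (𝟙 Z) (Spec.map (CommRingCat.ofHom (algebraMap R (FractionRing R)))) (𝟙 S) ((Category.comp_id _).trans (Category.id_comp _).symm) (Category.comp_id _)).ker.subscheme ⟶ Spec (CommRingCat.of R))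
    (hq : q = (pullback.map (ι ≫ p) (Spec.map (CommRingCat.ofHom (algebraMap R (FractionRing R))) ≫ x) (ι ≫ p) x (𝟙 Z) (Spec.map (CommRingCat.ofHom (algebraMap R (FractionRing R)))) (𝟙 S) ((Category.comp_id _).trans (Category.id_comp _).symm) (Category.comp_id _)).ker.subschemeι ≫ pullback.snd (ι ≫ p) x)
    (S' : Scheme.{u}) (g : S' ⟶ Spec (CommRingCat.of R)) :
    (∀ w : ↥(pullback q g), FlatMor.fibreDimAt (pullback.snd q g) w = r) ∧
      ∀ C ∈ irreducibleComponents ↥(pullback q g),
        closure ((pullback.snd q g).base '' C) ∈ irreducibleComponents ↥S' := by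
  subst hq
  set κ := (pullback.map (ι ≫ p) (Spec.map (CommRingCat.ofHom (algebraMap R (FractionRing R))) ≫ x) (ι ≫ p) x (𝟙 Z) (Spec.map (CommRingCat.ofHom (algebraMap R (FractionRing R)))) (𝟙 S) ((Category.comp_id _).trans (Category.id_comp _).symm) (Category.comp_id _)) with hκdef
  have hκ : IsPullback κ (pullback.snd _ _) (pullback.snd (ι ≫ p) x)
    (Spec.map (CommRingCat.ofHom (algebraMap R (FractionRing R)))) := isPullback_map _ _ _ _ _ _
  have hdom : IsDominant (Spec.map (CommRingCat.ofHom (algebraMap R (FractionRing R)))) :=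
    K387.Points.isDominant_specMap_fractionRing _
  have hκqc : QuasiCompact κ := MorphismProperty.of_isPullback (P := @QuasiCompact) hκ.flip inferInstance
  have hfl1 : Flat (pullback.snd (ι ≫ p) (Spec.map (CommRingCat.ofHom (algebraMap R (FractionRing R))) ≫ x)) :=
    K651.FieldLift.flat_to_field _
  have hfl2 : Flat (Spec.map (CommRingCat.ofHom (algebraMap R (FractionRing R)))) := by
    rw [Flat.SpecMap_iff]
    exact RingHom.flat_algebraMap_iff.mpr (IsLocalization.flat (FractionRing R) (nonZeroDivisors R))
  have hfl : Flat (κ ≫ pullback.snd (ι ≫ p) x) := by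
    rw [hκ.w]
    infer_instance
  have hfl3 : Flat (κ.ker.subschemeι ≫ pullback.snd (ι ≫ p) x) := K265.Colon.flat_imageι _ _
  refine univ_of_closed p (rtd_eq_of_dim p z r hr) ι hZ x κ.ker.subschemeι (fun ζ hζ => ?_) g
  have hgen : ∀ y : ↥(Spec (CommRingCat.of R)), (⟨⊥, Ideal.isPrime_bot⟩ : ↥(Spec (CommRingCat.of R))) ⤳ y := by
    intro y
    exact (PrimeSpectrum.le_iff_specializes (⟨⊥, Ideal.isPrime_bot⟩ : PrimeSpectrum R) y).mp
      (show (⊥ : Ideal R) ≤ _ from bot_le)
  have hbot : pullback.snd (ι ≫ p) x (κ.ker.subschemeι ζ) = (⟨⊥, Ideal.isPrime_bot⟩ : ↥(Spec (CommRingCat.of R))) :=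
    (max_of_flat (κ.ker.subschemeι ≫ pullback.snd (ι ≫ p) x) hζ _ (hgen _)).symm
  rw [hbot]
  refine ⟨max_of_mem hx, fun t ht => ?_⟩
  rw [Scheme.IdealSheafData.range_subschemeι, Scheme.Hom.support_ker]
  apply subset_closure
  obtain ⟨t', ht', -⟩ := Scheme.exists_preimage_of_isPullback hκ t
    (⟨⊥, Ideal.isPrime_bot⟩ : ↥(Spec (CommRingCat.of (FractionRing R)))) (by
      rw [ht]; exact (specMap_fractionRing R _).symm)
  exact ⟨t', ht'⟩

end Groth.Agent.S19582
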