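import Groth.Statements.S19584
import Groth.Agent.SDiv.K474.BlowMax
import Groth.Agent.SDiv.K474.EquiFlat

set_option autoImplicit false
universe u
open Cyc

namespace Groth.Agent.S19584

open CategoryTheory CategoryTheory.Limits AlgebraicGeometry
open Groth.Agent.Flat2C.StrictTr Groth.Agent.SDiv.K474.EquiFlat Groth.Agent.SDiv.K474.BlowMax


open CategoryTheory CategoryTheory.Limits AlgebraicGeometry in
/-- Let S be a separated Noetherian scheme, p : X → S separated of finite type, z a point of X lying
over a generic point of an irreducible component of S whose closure in its fibre p⁻¹(p z) has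
dimension r, and ι : Z → X a closed immersion from a reduced scheme with image the closure of z. Let
b : S′ → S be a blowing up (S′ Noetherian) such that the strict transform Z~ of Z — the closed
subscheme of Z ×_S S′ whose ideal consists, on each affine open, of the functions annihilated by a
power of the pulled-back centre — is flat over S′. Then Z~ → S′ is universally equidimensional of
dimension r: after any base change S″ → S′ every point of Z~ ×_{S′} S″ has local fibre dimension r
and every irreducible component of Z~ ×_{S′} S″ dominates an irreducible component of S″. (The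
published lemma takes a blow-up of the reduced scheme S_red; this statement takes a blow-up of S
itself, to which the printed argument applies unchanged.) -/
theorem result {X S Z S' : Scheme.{u}} [IsNoetherian S] [S.IsSeparated] [X.IsSeparated]
    (p : X ⟶ S) [LocallyOfFiniteType p] [QuasiCompact p] (z : X) (hz : closure {p.base z} ∈ irreducibleComponents ↥S)
    (r : ℕ) (hr : topologicalKrullDim ↥(closure ({p.asFiber z} : Set ↥(p.fiber (p.base z)))) = r)
    (ι : Z ⟶ X) [IsClosedImmersion ι] [IsReduced Z] (hZ : Set.range ι.base = closure {z})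
    [IsNoetherian S'] (𝓘 : S.IdealSheafData) (b : S' ⟶ S) (hb : BlowUp.IsBlowUp b 𝓘)
    (𝒥 : (pullback (ι ≫ p) b).IdealSheafData)
    (h𝒥 : ∀ (V : (pullback (ι ≫ p) b).affineOpens) (a : Γ(pullback (ι ≫ p) b, V.1)), a ∈ 𝒥.ideal V ↔
      BlowUp.KilledByPowerNear ((𝓘.comap (ι ≫ p)).comap (pullback.fst (ι ≫ p) b)) (Coh.structureModule (pullback (ι ≫ p) b)) V a)
    [Flat (𝒥.subschemeι ≫ pullback.snd (ι ≫ p) b)]
    (S'' : Scheme.{u}) (g : S'' ⟶ S') :
    (∀ w : ↥(pullback (𝒥.subschemeι ≫ pullback.snd (ι ≫ p) b) g),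
        FlatMor.fibreDimAt (pullback.snd (𝒥.subschemeι ≫ pullback.snd (ι ≫ p) b) g) w = r) ∧
      ∀ C ∈ irreducibleComponents ↥(pullback (𝒥.subschemeι ≫ pullback.snd (ι ≫ p) b) g),
        closure ((pullback.snd (𝒥.subschemeι ≫ pullback.snd (ι ≫ p) b) g).base '' C) ∈ irreducibleComponents ↥S'' := by
  refine univ_of_closed p (rtd_eq_of_dim p z r hr) ι hZ b 𝒥.subschemeι (fun ζ hζ => ?_) g
  have hmax := max_of_flat (𝒥.subschemeι ≫ pullback.snd (ι ≫ p) b) hζ
  have hη : ∀ y : S', y ⤳ pullback.snd (ι ≫ p) b (𝒥.subschemeι ζ) → y = pullback.snd (ι ≫ p) b (𝒥.subschemeι ζ) :=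
    hmax
  refine ⟨max_of_blowUp hb hη, fun t ht => ?_⟩
  have hE : (𝓘.comap (ι ≫ p)).comap (pullback.fst (ι ≫ p) b) = (𝓘.comap b).comap (pullback.snd (ι ≫ p) b) := by
    rw [← Scheme.IdealSheafData.comap_comp, ← Scheme.IdealSheafData.comap_comp, pullback.condition]
  have hft : BlowUp.IsFiniteTypeIdeal ((𝓘.comap (ι ≫ p)).comap (pullback.fst (ι ≫ p) b)) := by
    rw [hE]
    exact isFiniteTypeIdeal_comap (isFiniteTypeIdeal_of_isEff hb.1) _
  have hJ : IsKilledIdeal ((𝓘.comap (ι ≫ p)).comap (pullback.fst (ι ≫ p) b)) 𝒥 := h𝒥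
  rw [Scheme.IdealSheafData.range_subschemeι, hJ.eq_killedIdeal hft]
  apply compl_subset_support_killedIdeal hft
  rw [hE, coe_compl, Set.mem_compl_iff, Scheme.IdealSheafData.support_comap]
  intro hc
  apply not_mem_support_of_max hb.1 hη
  rw [← ht]
  exact hc

end Groth.Agent.S19584
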