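import Groth.Statements.S19585
import Groth.Agent.AbVar.K512.IsogIdx
import Groth.Agent.AbVar.K524.Bc
import Groth.Agent.Grpsch.AbBC

set_option autoImplicit false
universe u
open CategoryTheory CategoryTheory.Limits MonoidalCategory CartesianMonoidalCategory MonObj GrpObj AlgebraicGeometry
open AbVar
open Groth.Agent.Grpsch.PicGrp Groth.Agent.Grpsch.Cube K524.Index

attribute [local instance] Functor.grpObjObj

namespace Groth.Agent.S19585

/-- Let k be a field and f : X → Y an isogeny between abelian varieties over k (X, Y proper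
geometrically integral k-group schemes; f a finite, flat, surjective homomorphism) and L an
invertible O_Y-module which is non-degenerate of index i, expressed by the equivalent condition that
H^j(Y, L) = 0 for j ≠ i and H^i(Y, L) ≠ 0. Then f^*L is non-degenerate of the same index: H^j(X,
f^*L) = 0 for j ≠ i and H^i(X, f^*L) ≠ 0. (No assumption on the degree of f or on the field.) -/
theorem result
    (k : Type u) [Field k] (X Y : Over (Spec (CommRingCat.of k)))
    [GrpObj X] [IsProper X.hom] [GeometricallyIntegral X.hom]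
    [GrpObj Y] [IsProper Y.hom] [GeometricallyIntegral Y.hom]
    (f : X ⟶ Y) [IsMonHom f] [IsFinite f.left] [Flat f.left] [Surjective f.left]
    (L : Y.left.Modules) (hL : PicF.IsInvertible L) (i : ℕ)
    (hvan : ∀ j : ℕ, j ≠ i → Subsingleton (Coh.HH Y.left L j)) (hne : Nontrivial (Coh.HH Y.left L i)) :
    (∀ j : ℕ, j ≠ i → Subsingleton (Coh.HH X.left ((Scheme.Modules.pullback f.left).obj L) j)) ∧
      Nontrivial (Coh.HH X.left ((Scheme.Modules.pullback f.left).obj L) i) := by
  have hc : HasIdx (pull (K524.Bc.pr (AlgebraicClosure k) Y) (mk L hL)) i :=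
    (K524.Bc.hasIdx_bc_iff (AlgebraicClosure k) _ i).mpr ((hasIdx_mk hL i).mpr ⟨hvan, hne⟩)
  have hpb := Grpsch.AbBC.isPullback_pullback_map (K524.Bc.t k (AlgebraicClosure k)) f
  have h1 : IsFinite ((Over.pullback (K524.Bc.t k (AlgebraicClosure k))).map f).left :=
    MorphismProperty.of_isPullback hpb.flip ‹IsFinite f.left›
  have h2 : Surjective ((Over.pullback (K524.Bc.t k (AlgebraicClosure k))).map f).left :=
    MorphismProperty.of_isPullback hpb.flip ‹Surjective f.left›
  have hnd : ND (pull (K524.Bc.pr (AlgebraicClosure k) Y) (mk L hL)) := K524.Bc.nd_of_hasIdx hc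
  have h3 := (K512.IsogIdx.van_pull_iff ((Over.pullback (K524.Bc.t k (AlgebraicClosure k))).map f) hnd).2
  have h4 : ∀ j, K524.Kun.Van (mk L hL) j ↔ K524.Kun.Van (mk _ (Groth.Agent.Fdesc.LocGen.isInvertible_pullback f.left hL)) j := by
    intro j
    rw [← K524.Bc.van_bc_iff (AlgebraicClosure k) (mk L hL) j, h3 j, K524.Bc.pl_map]
    exact K524.Bc.van_bc_iff (AlgebraicClosure k) (pl f (mk L hL)) j
  refine ⟨fun j hj => (K524.Kun.van_mk _ j).mp ((h4 j).mp ((K524.Kun.van_mk hL j).mpr (hvan j hj))), ?_⟩
  rw [← not_subsingleton_iff_nontrivial]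
  intro h5
  exact not_subsingleton_iff_nontrivial.mpr hne ((K524.Kun.van_mk hL i).mp ((h4 i).mpr ((K524.Kun.van_mk _ i).mpr h5)))

end Groth.Agent.S19585
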