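import Groth.Statements.S19590
import Mathlib.LinearAlgebra.Matrix.GeneralLinearGroup.Defs
import Mathlib.Tactic

set_option autoImplicit false
open BddFin

namespace Groth.Agent.S19590

/-- `3 ∣ q * B` entrywise and `3 ∤ q` give `3 ∣ B`. -/
theorem exists_three_smul {n : ℕ} (B D : Matrix (Fin n) (Fin n) ℤ) (q : ℕ) (hq : ¬ 3 ∣ q)
    (h : (q : ℤ) • B = (3 : ℤ) • D) : ∃ B' : Matrix (Fin n) (Fin n) ℤ, B = (3 : ℤ) • B' := by
  refine ⟨Matrix.of fun i j => B i j / 3, ?_⟩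
  ext i j
  have h1 : (q : ℤ) * B i j = 3 * D i j := by
    have := congrFun (congrFun h i) j
    simpa using this
  have h2 : (3 : ℤ) ∣ B i j := by
    have hp : Prime (3 : ℤ) := Int.prime_three
    rcases hp.dvd_or_dvd (⟨D i j, h1⟩ : (3 : ℤ) ∣ (q : ℤ) * B i j) with h3 | h3
    · exact absurd (by exact_mod_cast h3) hq
    · exact h3
  obtain ⟨c, hc⟩ := h2
  simp [hc]

theorem descent {n : ℕ} (B : Matrix (Fin n) (Fin n) ℤ) (q : ℕ) (hq : q.Prime) (e : ℕ) (he : 1 ≤ e)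
    (h : (1 + (3 : ℤ) ^ e • B) ^ q = 1) : ∃ B' : Matrix (Fin n) (Fin n) ℤ, B = (3 : ℤ) • B' := by
  have h30 : (3 : ℤ) ^ e ≠ 0 := pow_ne_zero _ (by norm_num)
  by_cases hq3 : q = 3
  · subst hq3
    obtain ⟨f, rfl⟩ : ∃ f, e = f + 1 := ⟨e - 1, by omega⟩
    have ht0 : (3 : ℤ) ^ f ≠ 0 := pow_ne_zero _ (by norm_num)
    rw [pow_succ (3 : ℤ) f] at h
    generalize (3 : ℤ) ^ f = t at h ht0
    refine ⟨-(t • (B * B) + (t * t) • (B * B * B)), ?_⟩
    have h1 : (t * 9) • (B + (3 : ℤ) • (t • (B * B) + (t * t) • (B * B * B))) = 0 := by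
      have h2 : (1 + (t * 3) • B) ^ 3 = 1 + (t * 9) • (B + (3 : ℤ) • (t • (B * B) + (t * t) • (B * B * B))) := by
        simp only [pow_succ, pow_zero, one_mul, add_mul, mul_add, mul_one, Matrix.smul_mul, Matrix.mul_smul,
          smul_smul, smul_add]
        match_scalars <;> ring
      rw [h2] at h
      simpa using h
    have h3 := (smul_eq_zero.mp h1).resolve_left (mul_ne_zero ht0 (by norm_num))
    rw [smul_neg]
    exact eq_neg_of_add_eq_zero_left h3
  · have h3q : ¬ 3 ∣ q := fun h' => hq3 ((Nat.prime_dvd_prime_iff_eq Nat.prime_three hq).mp h').symm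
    -- expand
    obtain ⟨D, hD⟩ : ∃ D : Matrix (Fin n) (Fin n) ℤ,
        (1 + (3 : ℤ) ^ e • B) ^ q = 1 + (q : ℤ) • ((3 : ℤ) ^ e • B) + ((3 : ℤ) ^ e • B) * ((3 : ℤ) ^ e • B) * D := by
      generalize (3 : ℤ) ^ e • B = C
      clear h h3q hq3 hq
      induction q with
      | zero => exact ⟨0, by simp⟩
      | succ q ih =>
        obtain ⟨D, hD⟩ := ih
        refine ⟨(q : ℤ) • 1 + D * (1 + C), ?_⟩
        rw [pow_succ, hD]
        simp only [mul_add, add_mul, one_mul, mul_one, Nat.cast_add, Nat.cast_one, add_smul, one_smul,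
          Matrix.smul_mul, Matrix.mul_smul, mul_assoc]
        abel
    rw [hD] at h
    have h1 : (3 : ℤ) ^ e • ((q : ℤ) • B + (3 : ℤ) ^ e • (B * B * D)) = 0 := by
      have h2 : (q : ℤ) • ((3 : ℤ) ^ e • B) + ((3 : ℤ) ^ e • B) * ((3 : ℤ) ^ e • B) * D = 0 := by
        rw [add_assoc] at h
        simpa using h
      rw [← h2]
      simp only [smul_add, smul_smul, Matrix.smul_mul, Matrix.mul_smul, mul_comm]
    have h3 := (smul_eq_zero.mp h1).resolve_left h30
    obtain ⟨f, rfl⟩ : ∃ f, e = f + 1 := ⟨e - 1, by omega⟩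
    refine exists_three_smul B (-((3 : ℤ) ^ f • (B * B * D))) q h3q ?_
    rw [eq_neg_of_add_eq_zero_left h3, smul_neg, smul_smul, ← pow_succ']

theorem eq_one_of_pow_prime {n : ℕ} (g : Matrix (Fin n) (Fin n) ℤ) (q : ℕ) (hq : q.Prime)
    (h : g ^ q = 1) (B₀ : Matrix (Fin n) (Fin n) ℤ) (h₀ : g = 1 + (3 : ℤ) • B₀) : g = 1 := by
  have key : ∀ e : ℕ, ∃ B : Matrix (Fin n) (Fin n) ℤ, g = 1 + (3 : ℤ) ^ (e + 1) • B := by
    intro e
    induction e with
    | zero => exact ⟨B₀, by simpa using h₀⟩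
    | succ e ih =>
      obtain ⟨B, hB⟩ := ih
      obtain ⟨B', hB'⟩ := descent B q hq (e + 1) (by omega) (by rw [← hB]; exact h)
      refine ⟨B', ?_⟩
      rw [hB, hB', smul_smul, ← pow_succ]
  ext i j
  rw [← sub_eq_zero]
  set z : ℤ := g i j - (1 : Matrix (Fin n) (Fin n) ℤ) i j with hz
  by_contra hne
  have hdiv : ∀ e : ℕ, (3 : ℤ) ^ (e + 1) ∣ z := by
    intro e
    obtain ⟨B, hB⟩ := key e
    refine ⟨B i j, ?_⟩
    rw [hz, hB, Matrix.add_apply, Matrix.smul_apply, smul_eq_mul]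
    ring
  have h1 := Int.le_of_dvd (by positivity : (0 : ℤ) < |z|) ((dvd_abs _ _).mpr (hdiv z.natAbs))
  have h2 : (z.natAbs : ℤ) < (3 : ℤ) ^ (z.natAbs + 1) := by
    have : z.natAbs < 3 ^ (z.natAbs + 1) := (Nat.lt_pow_self (by norm_num)).trans (Nat.pow_lt_pow_right (by norm_num) (by omega))
    exact_mod_cast this
  rw [Int.abs_eq_natAbs] at h1
  omega

/-- For every n, the orders of the finite subgroups of GL_n(ℤ) are bounded: there is B such that every
finite subgroup of GL_n(ℤ) has at most B elements. -/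
theorem result (n : ℕ) :
    ∃ B : ℕ, ∀ H : Subgroup (Matrix.GeneralLinearGroup (Fin n) ℤ), Finite H → Nat.card H ≤ B := by
  classical
  have : Fact (Nat.Prime 3) := ⟨Nat.prime_three⟩
  refine ⟨Nat.card (Matrix.GeneralLinearGroup (Fin n) (ZMod 3)), fun H hH => ?_⟩
  have := hH
  let φ : Matrix.GeneralLinearGroup (Fin n) ℤ →* Matrix.GeneralLinearGroup (Fin n) (ZMod 3) :=
    Matrix.GeneralLinearGroup.map (Int.castRingHom (ZMod 3))
  have key : ∀ g ∈ H, φ g = 1 → g = 1 := by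
    intro g hg hφ
    by_contra hne
    have hfin : IsOfFinOrder g := by
      have : IsOfFinOrder (⟨g, hg⟩ : H) := isOfFinOrder_of_finite _
      exact (Submonoid.isOfFinOrder_coe (x := (⟨g, hg⟩ : H))).mpr this
    have ho1 : orderOf g ≠ 1 := fun h => hne (orderOf_eq_one_iff.mp h)
    obtain ⟨q, hq, hqd⟩ := Nat.exists_prime_and_dvd ho1
    obtain ⟨m, hm⟩ := hqd
    have hg' : g ^ m ≠ 1 := by
      intro h1
      have h2 := orderOf_dvd_of_pow_eq_one h1
      have hpos := hfin.orderOf_pos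
      have hm0 : 0 < m := Nat.pos_of_ne_zero (by rintro rfl; rw [mul_zero] at hm; omega)
      have h3 := Nat.le_of_dvd hm0 h2
      rw [hm] at h3
      nlinarith [hq.two_le]
    have hpow : (g ^ m) ^ q = 1 := by rw [← pow_mul, mul_comm, ← hm, pow_orderOf_eq_one]
    have hker : φ (g ^ m) = 1 := by rw [map_pow, hφ, one_pow]
    apply hg'
    ext1
    -- matrices
    have h4 : ((g ^ m : Matrix.GeneralLinearGroup (Fin n) ℤ) : Matrix (Fin n) (Fin n) ℤ) ^ q = 1 := by
      rw [← Units.val_pow_eq_pow_val, hpow, Units.val_one]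
    have h5 : ∀ i j, (3 : ℤ) ∣ ((g ^ m : Matrix.GeneralLinearGroup (Fin n) ℤ) : Matrix (Fin n) (Fin n) ℤ) i j - (1 : Matrix (Fin n) (Fin n) ℤ) i j := by
      intro i j
      have h6 := congrFun (congrFun (congrArg (fun u : Matrix.GeneralLinearGroup (Fin n) (ZMod 3) => (u : Matrix (Fin n) (Fin n) (ZMod 3))) hker) i) j
      have h7 : (((g ^ m : Matrix.GeneralLinearGroup (Fin n) ℤ) : Matrix (Fin n) (Fin n) ℤ) i j : ZMod 3) = (1 : Matrix (Fin n) (Fin n) (ZMod 3)) i j :=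
        h6
      have h8 : ((((g ^ m : Matrix.GeneralLinearGroup (Fin n) ℤ) : Matrix (Fin n) (Fin n) ℤ) i j - (1 : Matrix (Fin n) (Fin n) ℤ) i j : ℤ) : ZMod 3) = 0 := by
        rw [Int.cast_sub, h7, sub_eq_zero, Matrix.one_apply, Matrix.one_apply]
        split_ifs <;> simp
      exact_mod_cast (ZMod.intCast_zmod_eq_zero_iff_dvd _ 3).mp h8
    have h9 : ((g ^ m : Matrix.GeneralLinearGroup (Fin n) ℤ) : Matrix (Fin n) (Fin n) ℤ) = 1 := by
      refine eq_one_of_pow_prime _ q hq h4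
        (Matrix.of fun i j => (((g ^ m : Matrix.GeneralLinearGroup (Fin n) ℤ) : Matrix (Fin n) (Fin n) ℤ) i j - (1 : Matrix (Fin n) (Fin n) ℤ) i j) / 3) ?_
      ext i j
      obtain ⟨c, hc⟩ := h5 i j
      rw [Matrix.add_apply, Matrix.smul_apply, Matrix.of_apply, hc, Int.mul_ediv_cancel_left _ (by norm_num), smul_eq_mul]
      linarith
    rw [h9]; rfl
  have hinj : Function.Injective (φ.comp H.subtype) := by
    rw [injective_iff_map_eq_one]
    intro g hg
    exact Subtype.ext (key g.1 g.2 hg)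
  exact Nat.card_le_card_of_injective _ hinj

end Groth.Agent.S19590
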