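import Groth.Statements.S19591
import Mathlib.FieldTheory.Perfect
import Mathlib.LinearAlgebra.Dimension.RankNullity
import Mathlib.Tactic

set_option autoImplicit false
universe u v
open BddFin

namespace Groth.Agent.S19591

/-- Let K be a perfect field of characteristic 2, V a finite-dimensional K-vector space with dim V > 2
and q a quadratic form on V whose polar bilinear form is non-degenerate. Then q represents zero
non-trivially. (Non-degeneracy of the polar form, which is alternating in characteristic 2, forces
dim V to be even, as the published lemma notes.) -/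
theorem result
    (K : Type u) [Field K] [CharP K 2] [PerfectField K]
    (V : Type v) [AddCommGroup V] [Module K V] [FiniteDimensional K V]
    (hV : 2 < Module.finrank K V) (q : QuadraticForm K V)
    (hq : (QuadraticMap.polarBilin q).Nondegenerate) :
    ∃ v : V, v ≠ 0 ∧ q v = 0 := by
  have : Fact (Nat.Prime 2) := ⟨Nat.prime_two⟩
  have : ExpChar K 2 := ExpChar.prime Nat.prime_two
  have hperf : PerfectRing K 2 := PerfectField.toPerfectRing 2
  have : Nontrivial V := Module.nontrivial_of_finrank_pos (R := K) (by omega)
  obtain ⟨v, hv⟩ := exists_ne (0 : V)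
  -- the orthogonal of `v`
  let L : V →ₗ[K] K := QuadraticMap.polarBilin q v
  have h1 : Module.finrank K V = Module.finrank K (LinearMap.range L) + Module.finrank K (LinearMap.ker L) :=
    (LinearMap.finrank_range_add_finrank_ker L).symm
  have h2 : Module.finrank K (LinearMap.range L) ≤ 1 := by
    have := Submodule.finrank_le (LinearMap.range L)
    simpa using this
  have h3 : ¬ (LinearMap.ker L ≤ Submodule.span K {v}) := by
    intro hle
    have h4 := Submodule.finrank_mono hle
    have h5 := finrank_span_singleton (K := K) hv
    omega
  obtain ⟨w, hwL, hwv⟩ := Set.not_subset.mp h3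
  have hB : QuadraticMap.polar q v w = 0 := hwL
  obtain ⟨α, hα⟩ := surjective_frobenius K 2 (q v)
  obtain ⟨β, hβ⟩ := surjective_frobenius K 2 (q w)
  rw [frobenius_def] at hα hβ
  by_cases hα0 : α = 0
  · exact ⟨v, hv, by rw [← hα, hα0]; simp⟩
  refine ⟨β • v + α • w, ?_, ?_⟩
  · intro h
    apply hwv
    have h6 : α • w = -(β • v) := (eq_neg_of_add_eq_zero_right h)
    have h7 : w = (-(α⁻¹ * β)) • v := by
      rw [neg_smul, mul_smul, ← smul_neg, ← h6, smul_smul, inv_mul_cancel₀ hα0, one_smul]
    rw [h7]
    exact Submodule.smul_mem _ _ (Submodule.mem_span_singleton_self v)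
  · have h2' : (2 : K) = 0 := CharTwo.two_eq_zero
    rw [QuadraticMap.map_add q, QuadraticMap.map_smul, QuadraticMap.map_smul, QuadraticMap.polar_smul_left,
      QuadraticMap.polar_smul_right, hB, ← hα, ← hβ]
    simp only [smul_eq_mul]
    linear_combination (α * α * (β * β)) * h2'

end Groth.Agent.S19591
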