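import Groth.Statements.S19592
import Groth.Agent.Biell.K655.Nonneg
import Groth.Agent.Biell.K856.Final

set_option autoImplicit false
universe u
open CategoryTheory CategoryTheory.Limits AlgebraicGeometry
open Biell

namespace Groth.Agent.S19592

/-- Let k be an algebraically closed field and X a (quasi-)bielliptic surface over k, meaning here: X is
an integral k-scheme, proper and smooth of relative dimension 2 over k and carrying an ample
invertible sheaf, whose canonical sheaf ω (a second exterior power of Ω_{X/k}) is numerically
trivial (degree 0 on every integral closed curve in X) and whose second ℓ-adic Betti number (the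
rank of lim_ν H²(X_et, Z/ℓ^ν)) equals 2 for every prime ℓ invertible in k. Let L be an invertible
O_X-module with tensor inverse L′ and positive self-intersection (L·L) = χ(O_X) − 2χ(L) + χ(L ⊗ L) >
0. Then L or L′ is ample. (The published statement is for divisors with real coefficients on a
bielliptic surface and also treats nef classes; this row keeps the ampleness assertion for integral
divisor classes, and states it for (quasi-)bielliptic surfaces with no assumption on the
characteristic, the class for which the absence of curves of negative self-intersection on which it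
rests is established.) -/
theorem result (k : Type u) [Field k] [IsAlgClosed k] (X : Scheme.{u}) [X.Over (Spec (CommRingCat.of k))]
    [IsIntegral X] [IsProper (X ↘ Spec (CommRingCat.of k))] [SmoothOfRelativeDimension 2 (X ↘ Spec (CommRingCat.of k))]
    (hproj : ∃ H : X.Modules, CohB1.IsAmple H)
    (ω : X.Modules) (hω : Canon.IsTopDiff (X ↘ Spec (CommRingCat.of k)) 2 ω) (hnum : Pic13.IsNumEquivZero k X ω)
    (hb2 : ∀ ℓ : ℕ, ℓ.Prime → (ℓ : k) ≠ 0 → EtAdic.betti X ℓ 2 = 2)
    (L L' : X.Modules) (hL : PicF.IsInvertible L) (hLL' : ClSub.IsInverseOf L L')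
    (hpos : 0 < FGA.intNum k X 2 ![L, L] (Coh.structureModule X)) :
    CohB1.IsAmple L ∨ CohB1.IsAmple L' := by
  have hs := K856.Basic.isSmooth k X
  have hd := K856.Basic.dim_eq k X
  have hL' := K856.RR.isInvertible_right hL hLL'
  have hpos' := hpos
  rw [K464.Base.intNum_eq_dot k X hd.le hL hL] at hpos
  have hinv : Groth.Agent.Grpsch.PicGrp.mk L' hL' = (Groth.Agent.Grpsch.PicGrp.mk L hL)⁻¹ := by
    obtain ⟨e⟩ := hLL'
    apply eq_inv_of_mul_eq_one_right
    rw [Groth.Agent.Grpsch.PicGrp.mk_mul_mk, Groth.Agent.Grpsch.PicGrp.mk_eq_one_iff]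
    exact ⟨e⟩
  obtain ⟨H, hH⟩ := hproj
  rcases K856.Final.sections_or k X ⟨H, hH⟩ hω hnum hb2 L L' hL hLL' hpos' with h | h
  · exact Or.inl (K655.Nonneg.isAmple_of_section k hd
      (fun C hC hCe => K856.Final.curve_nonneg k X ⟨H, hH⟩ hω hnum hb2 hC hCe) hH hL h hpos)
  · refine Or.inr (K655.Nonneg.isAmple_of_section k hd
      (fun C hC hCe => K856.Final.curve_nonneg k X ⟨H, hH⟩ hω hnum hb2 hC hCe) hH hL' h ?_)
    rw [hinv, K464.Base.dot_inv_inv k X hd.le]
    exact hpos

end Groth.Agent.S19592
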