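import Groth.Statements.S19593
import Groth.Agent.EGA2.K43.RelTw
import Groth.Agent.EGA2.K36.SymAlg
import Groth.Agent.Fdesc.LocGenPullback
import Mathlib.GroupTheory.CosetCover

set_option autoImplicit false
universe u
open CategoryTheory AlgebraicGeometry
open PicF

namespace Groth.Agent.S19593

open Groth.Agent.Fdesc.LocGen TopologicalSpace Opposite RelProj

/-- The element of degree one of `Sym(E)(U)` attached to a section of `E` can be chosen off finitely many relevant
homogeneous primes, the base being an infinite field. -/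
theorem exists_section {k : Type u} [Field k] [Infinite k] {S : Scheme.{u}} (φ : k →+* Γ(S, ⊤))
    {E : S.Modules} (hE : Coh.IsQCoh E) {𝒮 : QCGrAlg S} {j : E ⟶ 𝒮.toModule} (hj : IsGrSymAlg E 𝒮 j)
    (hU : IsAffineOpen (⊤ : S.Opens)) {ι : Type} [Finite ι] (z : ι → ProjectiveSpectrum (𝒮.deg ⊤ hU)) :
    ∃ e : Γ(E, ⊤), ∀ i, K36.SymAlg.jApp E 𝒮.toQCAlg j ⊤ e ∉ (z i).asHomogeneousIdeal := by
  let _ : Module k Γ(E, ⊤) := Module.compHom _ φ
  let J := K36.SymAlg.jApp E 𝒮.toQCAlg j ⊤
  let p : ι → Submodule k Γ(E, ⊤) := fun i =>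
    { carrier := {e | J e ∈ (z i).asHomogeneousIdeal.toIdeal}
      zero_mem' := by
        change J 0 ∈ (z i).asHomogeneousIdeal.toIdeal
        rw [map_zero]
        exact zero_mem _
      add_mem' := by
        intro a b ha hb
        change J (a + b) ∈ (z i).asHomogeneousIdeal.toIdeal
        rw [map_add]
        exact add_mem ha hb
      smul_mem' := by
        intro c a ha
        change J (φ c • a) ∈ (z i).asHomogeneousIdeal.toIdeal
        rw [K36.SymAlg.jApp_smul]
        exact Ideal.mul_mem_left _ _ ha }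
  by_contra hcon
  push Not at hcon
  have hcov : ⋃ i, (p i : Set Γ(E, ⊤)) = Set.univ := by
    rw [Set.eq_univ_iff_forall]
    intro e
    obtain ⟨i, hi⟩ := hcon e
    exact Set.mem_iUnion.mpr ⟨i, hi⟩
  obtain ⟨i, hi⟩ := Subspace.exists_eq_top_of_iUnion_eq_univ hcov
  have hall : ∀ e, J e ∈ (z i).asHomogeneousIdeal.toIdeal := by
    intro e
    have : e ∈ p i := by rw [hi]; trivial
    exact this
  -- every element is congruent to a function of the base
  have hmod : ∀ a : 𝒮.presheaf.obj (op ⊤), ∃ r : Γ(S, ⊤),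
      a - (𝒮.str.app (op ⊤)).hom r ∈ (z i).asHomogeneousIdeal.toIdeal := by
    intro a
    obtain ⟨w, rfl⟩ := (K36.SymAlg.bijective_symHom hE hj.1 ⊤ hU).2 a
    induction w using SymmetricAlgebra.induction with
    | algebraMap r =>
      refine ⟨r, ?_⟩
      rw [K36.SymAlg.symHom_algebraMap, sub_self]
      exact zero_mem _
    | ι m =>
      refine ⟨0, ?_⟩
      rw [K36.SymAlg.symHom_ι, map_zero, sub_zero]
      exact hall m
    | mul a b ha hb =>
      obtain ⟨r, hr⟩ := ha
      obtain ⟨s, hs⟩ := hb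
      refine ⟨r * s, ?_⟩
      rw [map_mul, map_mul]
      have h1 := (z i).asHomogeneousIdeal.toIdeal.mul_mem_left
        (K36.SymAlg.symHom E 𝒮.toQCAlg j ⊤ a) hs
      have h2 := (z i).asHomogeneousIdeal.toIdeal.mul_mem_right
        ((𝒮.str.app (op ⊤)).hom s) hr
      have h3 := add_mem h1 h2
      convert h3 using 1
      ring
    | add a b ha hb =>
      obtain ⟨r, hr⟩ := ha
      obtain ⟨s, hs⟩ := hb
      refine ⟨r + s, ?_⟩
      rw [map_add, map_add]
      have h3 := add_mem hr hs
      convert h3 using 1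
      ring
  obtain ⟨m, hm, g, hg⟩ := K43.RelTw.exists_homogeneous_notMem (z i)
  apply hg
  obtain ⟨r, hr⟩ := hmod g.1
  have h1 := (z i).asHomogeneousIdeal.isHomogeneous m hr
  rw [DirectSum.decompose_sub, DirectSum.sub_apply, AddSubgroupClass.coe_sub,
    DirectSum.decompose_of_mem_same _ g.2,
    DirectSum.decompose_of_mem_ne _ (𝒮.str_mem ⊤ hU r) (Nat.ne_of_lt hm), sub_zero] at h1
  exact h1

/-- Let k be an infinite field, Y a scheme proper over k with a relatively very ample O_Y-module A (the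
pullback of O(1) along an immersion of Y into the Proj of a symmetric algebra over k), and y_1, …,
y_m finitely many points of Y. Then some global section of A generates A at every y_i. (The
published statement takes Y projective over k and A a very ample line bundle; here Y is proper over
k and A very ample relative to Y → Spec k, which makes Y projective.) -/
theorem result
    (k : Type u) [Field k] [Infinite k] (Y : Scheme.{u}) (f : Y ⟶ Spec (CommRingCat.of k)) [IsProper f]
    (A : Y.Modules) (hA : RelProj.IsRelVeryAmple f A)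
    (ι : Type) [Finite ι] (y : ι → ↥Y) :
    ∃ s : Coh.structureModule Y ⟶ A, ∀ i : ι, y i ∈ CohB1.genLocus A s := by
  obtain ⟨E, hE, 𝒮, j, hj, P, p, chart, hP, O1, lam, hL, i, hi, hip, ⟨eA⟩⟩ := hA
  have hU : IsAffineOpen (⊤ : (Spec (CommRingCat.of k)).Opens) := isAffineOpen_top _
  have hz : ∀ a : ι, ∃ z : Proj (𝒮.deg ⊤ hU), emb p chart ⊤ hU z = i (y a) := by
    intro a
    have h1 : i (y a) ∈ (emb p chart ⊤ hU).opensRange := by
      rw [K35.RelProjBasic.opensRange_emb]
      trivial
    exact h1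
  choose z hz using hz
  obtain ⟨e, he⟩ := exists_section (Scheme.ΓSpecIso (CommRingCat.of k)).inv.hom hE hj hU z
  let a : 𝒮.deg ⊤ hU 1 := ⟨K36.SymAlg.jApp E 𝒮.toQCAlg j ⊤ e, hj.2 ⊤ hU e⟩
  let c : Γ(O1, ⊤) := K43.RelTw.can hL hU (i := 1) (by rfl) a
  have hc := K43.RelTw.isGen_can hL hU (i := 1) (by rfl) a le_rfl
  have hc' := (hc.pullSec i).app eA.inv
  refine ⟨homOf (eA.inv.app ⊤ (pullSec i c)), fun b => (mem_genLocus_iff _ _).mpr
    ⟨i ⁻¹ᵁ (K43.RelTw.Dp chart hU a.1), ?_, ?_⟩⟩
  · change i (y b) ∈ K43.RelTw.Dp chart hU a.1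
    rw [← hz b, K43.RelTw.emb_mem_Dp]
    exact he b
  · rw [sec_homOf, ← app_res]
    convert hc' using 1
    rw [← res_pullSec]
    rfl

end Groth.Agent.S19593
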