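import Groth.Statements.S19594
import Groth.Agent.BddFin.K845.TorMain

set_option autoImplicit false
universe u
open CategoryTheory MonoidalCategory CartesianMonoidalCategory MonObj GrpObj AlgebraicGeometry
open BddFin

namespace Groth.Agent.S19594

/-- Let K be a field, Γ a connected linear algebraic group over K (affine and smooth over K with
connected underlying space) and x an element of the group Γ(K) of sections Spec K → Γ, of finite
order non-zero in K. Then x lies in a K-subtorus of Γ: there are a K-group scheme T which is a torus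
(fpqc-locally on Spec K isomorphic to a split torus), a homomorphism i : T → Γ which is a
monomorphism, and y ∈ T(K) with y ≫ i = x. -/
theorem result
    (K : Type u) [Field K] (Γ : Over (Spec (CommRingCat.of K))) [GrpObj Γ]
    [IsAffine Γ.left] [Smooth Γ.hom] [ConnectedSpace Γ.left]
    (x : 𝟙_ (Over (Spec (CommRingCat.of K))) ⟶ Γ) (hx : IsOfFinOrder x) (hcop : ((orderOf x : ℕ) : K) ≠ 0) :
    ∃ (T : Over (Spec (CommRingCat.of K))) (_ : GrpObj T) (i : T ⟶ Γ) (y : 𝟙_ (Over (Spec (CommRingCat.of K))) ⟶ T),
      IsMonHom i ∧ Mono i ∧ Red.IsTorus T ∧ y ≫ i = x := by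
  obtain ⟨T, i1, i, y, h1, h2, h3, h4⟩ :=
    K845.TorMain.exists_torus_pt K Γ x (orderOf x) hcop (pow_orderOf_eq_one x)
  exact ⟨T, i1, i, y, h1, h2, h3, h4⟩

end Groth.Agent.S19594
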