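import Groth.Statements.S19596
import Groth.Agent.ArLef.K855.Stab

set_option autoImplicit false
universe u
open ArLef ArLef.NodeAlg

namespace Groth.Agent.S19596

/-- In the cases where σ fixes the two branches through the point, these lie on different components,
and the second branch lies in the divisorial part of the fixed locus with multiplicity i₂ strictly
between 0 and j while the first has multiplicity i₁ ≤ i₂, let B be a discrete valuation ring with
uniformizer π, N = B[[t, e]]/(te - π) the complete local ring of a semi-stable arithmetic surface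
over B at a singular point x of the closed fibre, and σ a ring automorphism of N with σ(π) = π + γ
π^j (γ a unit of B, j ≥ 1) and σ(c) - c ∈ π^j N for all c ∈ B. Suppose σ(t) = α t and σ(e) = β e
with units α, β, and α - 1 = t^{i₁} e^{i₂} a, β - 1 = t^{i₁} e^{i₂} b with i₁ ≤ i₂, 0 < i₂ < j, e
not dividing a and t not dividing b. Then, I being the fixed-point ideal of σ, whose divisorial part
near x is t^{i₁} e^{i₂}, the residual fixed-point scheme with ideal (I : t^{i₁} e^{i₂}) has length 1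
+ (j - i₁)·Leng N/(t, b) + (j - i₂)·Leng N/(e, a) at x; here Leng N/(t, b) + i₂ + 1 and Leng N/(e,
a) + i₁ + 1 are the orders at x of the derivations σ induces on the two components (the fixed-point
multiplicities when the component is outside the divisorial part). -/
theorem result (B : Type u) [CommRing B] [IsDomain B] [IsDiscreteValuationRing B] (π : B) (hπ : Irreducible π)
    (j i₁ i₂ : ℕ) (h12 : i₁ ≤ i₂) (h2 : 0 < i₂) (h2j : i₂ < j) (γ : B) (hγ : IsUnit γ)
    (σ : ArLef.NodeAlg B π ≃+* ArLef.NodeAlg B π)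
    (hσB : ∀ c : B, σ (algebraMap B (ArLef.NodeAlg B π) c) - algebraMap B (ArLef.NodeAlg B π) c ∈
      Ideal.span ({algebraMap B (ArLef.NodeAlg B π) (π ^ j)} : Set (ArLef.NodeAlg B π)))
    (hσπ : σ (algebraMap B (ArLef.NodeAlg B π) π) = algebraMap B (ArLef.NodeAlg B π) (π + γ * π ^ j))
    (α β : (ArLef.NodeAlg B π)ˣ) (ht : σ (ArLef.NodeAlg.t π) = (α : ArLef.NodeAlg B π) * ArLef.NodeAlg.t π) (he : σ (ArLef.NodeAlg.e π) = (β : ArLef.NodeAlg B π) * ArLef.NodeAlg.e π)
    (a b : ArLef.NodeAlg B π) (ha : (α : ArLef.NodeAlg B π) - 1 = ArLef.NodeAlg.t π ^ i₁ * ArLef.NodeAlg.e π ^ i₂ * a) (hb : (β : ArLef.NodeAlg B π) - 1 = ArLef.NodeAlg.t π ^ i₁ * ArLef.NodeAlg.e π ^ i₂ * b)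
    (hea : ¬ (ArLef.NodeAlg.e π ∣ a)) (htb : ¬ (ArLef.NodeAlg.t π ∣ b)) :
    Module.length (ArLef.NodeAlg B π) (ArLef.NodeAlg B π ⧸ (ArLef.fixIdeal σ).colon ({ArLef.NodeAlg.t π ^ i₁ * ArLef.NodeAlg.e π ^ i₂} : Set (ArLef.NodeAlg B π))) =
      1 + ((j - i₁ : ℕ) : ℕ∞) * Module.length (ArLef.NodeAlg B π) (ArLef.NodeAlg B π ⧸ Ideal.span ({ArLef.NodeAlg.t π, b} : Set (ArLef.NodeAlg B π))) +
        ((j - i₂ : ℕ) : ℕ∞) * Module.length (ArLef.NodeAlg B π) (ArLef.NodeAlg B π ⧸ Ideal.span ({ArLef.NodeAlg.e π, a} : Set (ArLef.NodeAlg B π))) := by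
  have hN := K855.DVR.isNode B π hπ
  have := hN.dom
  have hfix := K855.Stab.fixIdeal_eq_gens B π hπ j γ hγ σ hσB hσπ
  have hprod := K855.Stab.prod_stab B π hπ j (by omega) γ σ hσπ α β ht he
  obtain ⟨q, rfl⟩ : ∃ q, j = i₂ + q + 1 := ⟨j - i₂ - 1, by omega⟩
  obtain ⟨d, rfl⟩ : ∃ d, i₂ = i₁ + d := ⟨i₂ - i₁, by omega⟩
  have e1 : i₁ + d + q + 1 - 1 = i₁ + d + q := by omega
  rw [e1, mul_pow] at hprod
  set T := ArLef.NodeAlg.t π with hT
  set E := ArLef.NodeAlg.e π with hE
  have hs : T ^ i₁ * E ^ (i₁ + d) ≠ 0 :=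
    mul_ne_zero (pow_ne_zero _ hN.prime_t.ne_zero) (pow_ne_zero _ hN.prime_e.ne_zero)
  have hab : a + α * b = algebraMap B _ γ * (T ^ (d + q) * E ^ q) := by
    apply mul_left_cancel₀ hs
    have hα1 : (α : ArLef.NodeAlg B π) = 1 + T ^ i₁ * E ^ (i₁ + d) * a := by linear_combination ha
    linear_combination hprod - ha - α * hb
  have hcolon : (ArLef.fixIdeal σ).colon ({T ^ i₁ * E ^ (i₁ + d)} : Set (ArLef.NodeAlg B π)) =
      Ideal.span {T ^ (d + q + 1) * E ^ (q + 1), T * a, E * b} := by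
    rw [hfix, ht, he]
    ext x
    rw [Submodule.mem_colon_singleton, smul_eq_mul, Ideal.mem_span_insert, Ideal.mem_span_insert]
    constructor
    · rintro ⟨u, w, hw, hx⟩
      obtain ⟨v, z, rfl⟩ := Ideal.mem_span_pair.1 hw
      refine ⟨u, v * (T * a) + z * (E * b), Ideal.mem_span_pair.2 ⟨v, z, rfl⟩, ?_⟩
      apply mul_left_cancel₀ hs
      rw [mul_pow] at hx
      linear_combination hx + v * T * ha + z * E * hb
    · rintro ⟨u, w, hw, rfl⟩
      obtain ⟨v, z, rfl⟩ := Ideal.mem_span_pair.1 hw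
      refine ⟨u, _, Ideal.mem_span_pair.2 ⟨v, z, rfl⟩, ?_⟩
      rw [mul_pow]
      linear_combination -v * T * ha - z * E * hb
  rw [K855.Len.length_congr hcolon,
    K855.Calc.length_main hN (d + q) q a b α (algebraMap B _ γ) (Units.isUnit α) hab hea htb]
  have e2 : i₁ + d + q + 1 - i₁ = d + q + 1 := by omega
  have e3 : i₁ + d + q + 1 - (i₁ + d) = q + 1 := by omega
  rw [e2, e3]

end Groth.Agent.S19596
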