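import Groth.Statements.S19601
import Groth.Agent.Red.K217.IdComp2
import Groth.Agent.Sga3B.AlgBc2
import Groth.Agent.S4126

set_option autoImplicit false
open CategoryTheory MonoidalCategory CartesianMonoidalCategory MonObj GrpObj AlgebraicGeometry
universe u
open Red

namespace Groth.Agent.S19601

/-- Let G be a smooth affine group scheme over a scheme S, with possibly disconnected fibres. Then the
locus of points s of S at which the identity component of the geometric fibre of G is semisimple
(the geometric fibre has an open subgroup scheme which is affine, smooth, connected and semisimple)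
is open in S. -/
theorem result {S : Scheme.{u}} (G : Over S) [GrpObj G]
    (hG : Smooth G.hom) (hGa : IsAffineHom G.hom) :
    IsOpen {s : S | ∃ (U : Over (Spec (CommRingCat.of (AlgebraicClosure (S.residueField s))))) (_ : GrpObj U)
        (j : U ⟶ Red.geomFibre s G) (_ : IsMonHom j), IsOpenImmersion j.left ∧
          Red.IsSemisimpleOver (AlgebraicClosure (S.residueField s)) U} := by
  obtain ⟨G0, _, u, hu1, hu2, hu3, hsm, hqc, hsep, hgi, hconn, haff⟩ := K217.IdComp2.exists_neutral G
  have key : ∀ s : S, (∃ (U : Over (Spec (CommRingCat.of (AlgebraicClosure (S.residueField s))))) (_ : GrpObj U)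
        (j : U ⟶ Red.geomFibre s G) (_ : IsMonHom j), IsOpenImmersion j.left ∧
          Red.IsSemisimpleOver (AlgebraicClosure (S.residueField s)) U) ↔
      Red.IsSemisimpleOver (AlgebraicClosure (S.residueField s)) (Red.geomFibre s G0) := fun s =>
    K217.IdComp.exists_open_iff u (Red.geomPt s) (fun X _ => Red.IsSemisimpleOver _ X)
      (fun X _ h => h.1.2.2.1)
      (fun X Y _ _ e h => (Groth.Agent.Sga3B.RadOpen.isSemisimpleOver_iff_of_grpIso e).1 h)
  rw [isOpen_iff_forall_mem_open]
  intro s hs
  obtain ⟨V, hsV, hV⟩ := Groth.Agent.S4126.result S G0 hconn s ((key s).1 hs)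
  refine ⟨V, fun t ht => (key t).2 ?_, V.2, hsV⟩
  exact (Groth.Agent.Sga3B.AlgBc.isSemisimpleOver_geomFibre_bc_iff V.ι ⟨t, ht⟩).1 (hV.2.2 ⟨t, ht⟩)

end Groth.Agent.S19601
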