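import Groth.Statements.S19604
import Groth.Agent.PrincBund.K206.LeviQuot
import Groth.Agent.AGF.K494.UnivCov
import Groth.Agent.S14545

set_option autoImplicit false
attribute [-instance] CategoryTheory.catToReflQuiver
universe u
open CategoryTheory MonoidalCategory CartesianMonoidalCategory MonObj GrpObj AlgebraicGeometry
open PrincBund
open Groth.Agent.Books.AffBridge Groth.Agent.Books.AffBridge2

namespace Groth.Agent.S19604

/-- In the case of a base point and a group of finite type, let k be a field of characteristic 0, G an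
affine group scheme of finite type over k and G' ⊆ G a closed subgroup scheme whose unipotent
radical is contained in the unipotent radical of G. Then the quotient G/G' (any scheme representing
the fppf quotient sheaf) is affine. The published statement is for transitive affine groupoids over
a k-scheme; this row is the case of a point. -/
theorem result (k : Type u) [Field k] [CharZero k]
    (G : Over (Spec (CommRingCat.of k))) [GrpObj G] [IsAffine G.left] [LocallyOfFiniteType G.hom]
    (G' : Over (Spec (CommRingCat.of k))) [GrpObj G'] (i' : G' ⟶ G) [IsMonHom i'] (hi' : IsClosedImmersion i'.left)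
    (U : Over (Spec (CommRingCat.of k))) [GrpObj U] (u : U ⟶ G) (hU : Par.IsUnipotentRadical u)
    (U' : Over (Spec (CommRingCat.of k))) [GrpObj U'] (u' : U' ⟶ G') (hU' : Par.IsUnipotentRadical u')
    (f : U' ⟶ U) (hf : f ≫ u = u' ≫ i')
    (Q : Over (Spec (CommRingCat.of k))) (q : G ⟶ Q) (hq : RedSub.IsQuotient i' q) :
    IsAffine Q.left := by
  have hclU : IsClosedImmersion u.left := hU.2.1
  have hnU := hU.2.2.1
  have hu := hU.1
  have hu' := hU'.1
  have haG' : IsAffine G'.left := isAffine_of_isAffineHom i'.left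
  have hlG' : LocallyOfFiniteType G'.hom := by
    rw [← Over.w i']
    infer_instance
  have haU : IsAffine U.left := isAffine_of_isAffineHom u.left
  -- the quotients by the unipotent radicals
  obtain ⟨B, _, _, q₁, hq₁m, hq₁, hf₁, hftB, hB⟩ := K206.LeviQuot.exists_rad_quotient G U u hU
  obtain ⟨B', _, _, q₁', hq₁'m, hq₁', hf₁', hftB', hB'⟩ :=
    K206.LeviQuot.exists_rad_quotient G' U' u' hU'
  -- `G' / U' → G / U`
  have hkill : u' ≫ i' ≫ q₁ = 1 := by
    have hu1 : u ≫ q₁ = 1 :=
      (K197.QuotPts.comp_eq_one_iff_of_isMonHom hq₁ u).2 ⟨𝟙 U, Category.id_comp _⟩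
    rw [← Category.assoc, ← hf, Category.assoc, hu1, MonObj.comp_one]
  obtain ⟨h₁, hh₁⟩ := K206.LeviQuot.exists_factor hq₁' (i' ≫ q₁) hkill
  have hh₁m : IsMonHom h₁ := K206.LeviQuot.isMonHom_of_fppf q₁' hf₁' h₁ (i' ≫ q₁) hh₁
  obtain ⟨χ, hχ⟩ := exists_bialgHom_of_isMonHom k h₁
  -- the image
  let I : Ideal B := RingHom.ker χ
  have hI : I.IsHopfIdeal k := isHopfIdeal_ker χ
  let mkI : B →ₐc[k] B ⧸ I := Bialgebra.Quotient.mkBialgHom (R := k) I
  have hmkI : (mkI : B →ₐ[k] B ⧸ I) = Ideal.Quotient.mkₐ k I := rfl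
  let χ' : (B ⧸ I) →ₐc[k] B' := Groth.Agent.Books.NormalKer.liftBialg I χ (fun a ha => ha)
  have hχ' : (χ' : (B ⧸ I) →ₐ[k] B').comp (mkI : B →ₐ[k] B ⧸ I) = (χ : B →ₐ[k] B') := by
    ext b
    rfl
  have hχinj : Function.Injective χ' := by
    rw [injective_iff_map_eq_zero]
    intro b hb
    obtain ⟨b, rfl⟩ := Ideal.Quotient.mk_surjective b
    exact Ideal.Quotient.eq_zero_iff_mem.2 hb
  have hlin : HopfRep.IsLinearlyReductive k (B ⧸ I) :=
    K206.LeviQuot.isLinearlyReductive_of_injective χ' hχinj hB'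
  have hm1 : IsMonHom (specMap k (mkI : B →ₐ[k] B ⧸ I)) := isMonHom_specMap k mkI
  have hm2 : IsMonHom (specMap k (χ' : (B ⧸ I) →ₐ[k] B')) := isMonHom_specMap k χ'
  have hcl1 : IsClosedImmersion (specMap k (mkI : B →ₐ[k] B ⧸ I)).left :=
    (isClosedImmersion_specMap_iff k _).2 Ideal.Quotient.mk_surjective
  have hsχ := (K206.LeviQuot.fppf_specMap χ' hχinj).surj
  have hsq := hf₁'.surj
  have hp : (q₁' ≫ specMap k (χ' : (B ⧸ I) →ₐ[k] B')) ≫ specMap k (mkI : B →ₐ[k] B ⧸ I) =
      i' ≫ q₁ := by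
    rw [Category.assoc, ← specMap_comp, hχ', hχ, hh₁]
  have hps : Surjective (q₁' ≫ specMap k (χ' : (B ⧸ I) →ₐ[k] B')).left := by
    rw [Over.comp_left]
    infer_instance
  -- the quotient of `G / U`
  obtain ⟨Qb, qb, hqb, hb⟩ := K206.GalQuot.exists_quotient_red mkI Ideal.Quotient.mk_surjective hlin
  -- the quotient of `U`
  obtain ⟨G₀', _, j, j', hjm, hj'm, hpb⟩ := K494.UnivCov.exists_grpObj_pullback u i'
  have hjcl : IsClosedImmersion j.left :=
    MorphismProperty.of_isPullback (P := @IsClosedImmersion) (hpb.map (Over.forget _)).flip hi'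
  obtain ⟨Qa, qa, hqa, ha⟩ := K206.LeviQuot.exists_quotient_unip u hU j hjcl
  exact Groth.Agent.S14545.result k G G' i' hi' U u hclU hnU (SpecOver k B) q₁ hq₁ G₀' j j' hpb
    (SpecOver k (B ⧸ I)) (specMap k (mkI : B →ₐ[k] B ⧸ I)) hcl1
    (q₁' ≫ specMap k (χ' : (B ⧸ I) →ₐ[k] B')) hp hps Qa qa hqa ha Qb qb hqb hb Q q hq

end Groth.Agent.S19604
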