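import Groth.Statements.S19605
import Groth.Agent.AdjLin.K800.MulMap
import Groth.Agent.S11739
import Groth.Agent.S1642

set_option autoImplicit false
universe u
open CategoryTheory CategoryTheory.Limits AlgebraicGeometry
open Variety

namespace Groth.Agent.S19605

/-- Let F be an m-regular coherent module on projective n-space over a field k. Then for all integers d
≥ m and e ≥ 0 the multiplication map H^0(F(d)) ⊗_k H^0(O(e)) → H^0(F(d+e)) is surjective. The target
is written as the global sections of F(d) ⊗ O(e) and the map as the canonical map from the global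
sections of the sectionwise tensor product presheaf (these are H^0(F(d)) ⊗ H^0(O(e)), the tensor
being over the global functions, a field) to the global sections of its sheafification. -/
theorem result (k : Type u) [Field k] (n : ℕ)
    (F : (CohB1.ProjSpace n k).Modules) (hF : Coh.IsCoh F) (m d : ℤ) (hd : m ≤ d) (h : Curv2.IsMRegular k n F m)
    (e : ℕ) :
    Function.Surjective
      ((toSheafify (Opens.grothendieckTopology (CohB1.ProjSpace n k))
        (CohB1.tensorPre (CohB1.tensorMod F (Twist.twistProjSpace n k d))
          (Twist.twistProjSpace n k (e : ℤ))).presheaf).app (Opposite.op ⊤)) := by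
  have hreg : ∀ j : ℕ, Curv2.IsMRegular k n F (m + j) := by
    intro j
    induction j with
    | zero => simpa using h
    | succ j ih =>
      have := Groth.Agent.S1642.result k n F hF (m + j) ih
      rwa [add_assoc, ← Nat.cast_succ] at this
  have hreg' : ∀ d' : ℤ, m ≤ d' → Curv2.IsMRegular k n F d' := by
    intro d' hd'
    obtain ⟨j, hj⟩ := Int.eq_ofNat_of_zero_le (sub_nonneg.2 hd')
    have h1 := hreg j
    rwa [show m + (j : ℤ) = d' by omega] at h1
  have key : ∀ e : ℕ, K800.MulMap.MulSurj (CohB1.tensorMod F (Twist.twistProjSpace n k d))
      (Twist.twistProjSpace n k (e : ℤ)) := by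
    intro e
    induction e with
    | zero =>
      obtain ⟨i⟩ := Groth.Agent.Gaga.H883.Serre.O_zero n k
      exact (K800.MulMap.mulSurj_unit _).congr (Iso.refl _) i.symm
    | succ e ih =>
      have h1 : K800.MulMap.MulSurj (CohB1.tensorMod F (Twist.twistProjSpace n k (d + e)))
          (Twist.twistProjSpace n k 1) :=
        K800.MulMap.mulSurj_iff.2 (Groth.Agent.S11739.result k n F hF (d + e) (hreg' _ (by omega)))
      obtain ⟨i⟩ := Groth.Agent.Gaga.H883.Serre.tw_tw n k d e F
      have h2 := h1.congr i.symm (Iso.refl _)
      obtain ⟨i'⟩ := Groth.Agent.Gaga.H883.Serre.O_mul n k e 1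
      have h3 := (ih.trans h2).congr (Iso.refl _) i'
      exact_mod_cast h3
  exact K800.MulMap.mulSurj_iff.1 (key e)

end Groth.Agent.S19605
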