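import Groth.Statements.S19606
import Groth.Agent.FormalB.SysSect
import Groth.Agent.Sga67.IdealTorsion

set_option autoImplicit false
universe u
open CategoryTheory CategoryTheory.Limits AlgebraicGeometry
open ClSub

namespace Groth.Agent.S19606

open Opposite Groth.Agent.FormalB.SysSect Groth.Agent.Sga67.IdealTorsion

variable {X : Scheme.{u}}

theorem toSub_eq_zero_iff (I : X.IdealSheafData) (U : X.affineOpens) (s : Γ(X, U.1)) :
    (ClSub.toSubscheme I).app U.1 s = 0 ↔ s ∈ I.ideal U := by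
  rw [← I.ker_subschemeι_app U, RingHom.mem_ker]
  rfl

theorem toSub_surj (I : X.IdealSheafData) (U : X.affineOpens) :
    Function.Surjective ((ClSub.toSubscheme I).app U.1) :=
  I.subschemeι_app_surjective U

theorem toSub_sub (I : X.IdealSheafData) (U : X.Opens) (a b : Γ(X, U)) :
    (ClSub.toSubscheme I).app U (a - b : Γ(X, U)) = (ClSub.toSubscheme I).app U a - (ClSub.toSubscheme I).app U b :=
  map_sub ((ClSub.toSubscheme I).app U).hom _ _

theorem toSub_add (I : X.IdealSheafData) (U : X.Opens) (a b : Γ(X, U)) :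
    (ClSub.toSubscheme I).app U (a + b : Γ(X, U)) = (ClSub.toSubscheme I).app U a + (ClSub.toSubscheme I).app U b :=
  map_add ((ClSub.toSubscheme I).app U).hom _ _

theorem comp_app' {A B C : X.Modules} (f : A ⟶ B) (g : B ⟶ C) (U : X.Opens) (a : Γ(A, U)) :
    (f ≫ g).app U a = g.app U (f.app U a) := rfl

theorem mono_of_affine {M N : X.Modules} (f : M ⟶ N)
    (h : ∀ U : X.Opens, IsAffineOpen U → ∀ x : Γ(M, U), f.app U x = 0 → x = 0) : Mono f := by
  apply Preadditive.mono_of_kernel_zero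
  apply hom_eq_zero_of_affine
  intro U hU m
  exact h U hU _ (app_kernel_ι f U m)

theorem exact_of_affine {M N P : X.Modules} (f : M ⟶ N) (g : N ⟶ P) (w : f ≫ g = 0)
    (h : ∀ U : X.Opens, IsAffineOpen U → ∀ y : Γ(N, U), g.app U y = 0 →
      ∃ x : Γ(M, U), f.app U x = y) : (ShortComplex.mk f g w).Exact := by
  rw [ShortComplex.exact_iff_epi_kernel_lift]
  apply epi_of_affine
  intro U hU t
  obtain ⟨x, hx⟩ := h U hU ((kernel.ι g).app U t) (app_kernel_ι g U t)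
  refine ⟨x, ?_⟩
  have hinj : ∀ s : Γ(kernel g, U), (kernel.ι g).app U s = 0 → s = 0 := by
    intro s hs
    have := app_injective_of_mono (kernel.ι g) U
    exact this (hs.trans (map_zero _).symm)
  rw [← sub_eq_zero]
  apply hinj
  rw [map_sub, sub_eq_zero]
  exact (congr((Scheme.Modules.Hom.app $(kernel.lift_ι g f w) U) x)).trans hx


/-- Let X be a scheme and I₁, I₂ quasi-coherent ideal sheaves with I₁ ⊓ I₂ = 0, cutting out closed
subschemes X₁, X₂ and X₁ ∩ X₂ (ideal I₁ + I₂). Then 0 → O_X → O_X/I₁ ⊕ O_X/I₂ → O_X/(I₁ + I₂) → 0 is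
an exact sequence of O_X-modules, the maps being the two restrictions and the difference of the
restrictions q₁, q₂ (the module maps compatible with the quotient maps from O_X). The published
statement is for a locally free sheaf E on a reduced scheme with two irreducible components X₁, X₂
(whose ideals meet in zero); this row is the case E = O_X for any two ideals with zero intersection,
which is what the local argument uses. -/
theorem result (X : Scheme.{u}) (I₁ I₂ : X.IdealSheafData)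
    (h : I₁ ⊓ I₂ = ⊥)
    (q₁ : ClSub.quotMod I₁ ⟶ ClSub.quotMod (I₁ ⊔ I₂)) (q₂ : ClSub.quotMod I₂ ⟶ ClSub.quotMod (I₁ ⊔ I₂))
    (hq₁ : ClSub.toSubscheme I₁ ≫ q₁ = ClSub.toSubscheme (I₁ ⊔ I₂))
    (hq₂ : ClSub.toSubscheme I₂ ≫ q₂ = ClSub.toSubscheme (I₁ ⊔ I₂)) :
    Epi (biprod.desc q₁ (-q₂)) ∧
      ∃ w : biprod.lift (ClSub.toSubscheme I₁) (ClSub.toSubscheme I₂) ≫ biprod.desc q₁ (-q₂) = 0,
        Nonempty (IsLimit (KernelFork.ofι (biprod.lift (ClSub.toSubscheme I₁) (ClSub.toSubscheme I₂)) w)) := by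
  have hd : ∀ (U : X.Opens) (y : Γ((ClSub.quotMod I₁ ⊞ ClSub.quotMod I₂ : X.Modules), U)),
      (biprod.desc q₁ (-q₂)).app U y = q₁.app U ((biprod.fst : ClSub.quotMod I₁ ⊞ ClSub.quotMod I₂ ⟶ _).app U y) -
        q₂.app U ((biprod.snd : ClSub.quotMod I₁ ⊞ ClSub.quotMod I₂ ⟶ _).app U y) := by
    intro U y
    have : biprod.desc q₁ (-q₂) = biprod.fst ≫ q₁ - biprod.snd ≫ q₂ := by
      apply biprod.hom_ext' <;> simp
    rw [this, Scheme.Modules.Hom.sub_app]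
    rfl
  have hext : ∀ (U : X.Opens) (y y' : Γ((ClSub.quotMod I₁ ⊞ ClSub.quotMod I₂ : X.Modules), U)),
      (biprod.fst : ClSub.quotMod I₁ ⊞ ClSub.quotMod I₂ ⟶ _).app U y = (biprod.fst : ClSub.quotMod I₁ ⊞ ClSub.quotMod I₂ ⟶ _).app U y' →
      (biprod.snd : ClSub.quotMod I₁ ⊞ ClSub.quotMod I₂ ⟶ _).app U y = (biprod.snd : ClSub.quotMod I₁ ⊞ ClSub.quotMod I₂ ⟶ _).app U y' → y = y' := by
    intro U y y' h1 h2
    have h3 : ∀ z : Γ((ClSub.quotMod I₁ ⊞ ClSub.quotMod I₂ : X.Modules), U),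
        z = (biprod.inl : _ ⟶ ClSub.quotMod I₁ ⊞ ClSub.quotMod I₂).app U ((biprod.fst : ClSub.quotMod I₁ ⊞ ClSub.quotMod I₂ ⟶ _).app U z) +
          (biprod.inr : _ ⟶ ClSub.quotMod I₁ ⊞ ClSub.quotMod I₂).app U ((biprod.snd : ClSub.quotMod I₁ ⊞ ClSub.quotMod I₂ ⟶ _).app U z) := by
      intro z
      have := congr((Scheme.Modules.Hom.app $(biprod.total (X := ClSub.quotMod I₁) (Y := ClSub.quotMod I₂)) U) z)
      rw [Scheme.Modules.Hom.add_app] at this
      exact this.symm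
    rw [h3 y, h3 y', h1, h2]
  have hl1 : ∀ (U : X.Opens) (a : Γ(X, U)), (biprod.fst : ClSub.quotMod I₁ ⊞ ClSub.quotMod I₂ ⟶ _).app U
      ((biprod.lift (ClSub.toSubscheme I₁) (ClSub.toSubscheme I₂)).app U a) = (ClSub.toSubscheme I₁).app U a :=
    fun U a => congr((Scheme.Modules.Hom.app $(biprod.lift_fst (ClSub.toSubscheme I₁) (ClSub.toSubscheme I₂)) U) a)
  have hl2 : ∀ (U : X.Opens) (a : Γ(X, U)), (biprod.snd : ClSub.quotMod I₁ ⊞ ClSub.quotMod I₂ ⟶ _).app U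
      ((biprod.lift (ClSub.toSubscheme I₁) (ClSub.toSubscheme I₂)).app U a) = (ClSub.toSubscheme I₂).app U a :=
    fun U a => congr((Scheme.Modules.Hom.app $(biprod.lift_snd (ClSub.toSubscheme I₁) (ClSub.toSubscheme I₂)) U) a)
  have hq1 : ∀ (U : X.Opens) (a : Γ(X, U)), q₁.app U ((ClSub.toSubscheme I₁).app U a) =
      (ClSub.toSubscheme (I₁ ⊔ I₂)).app U a := fun U a => congr((Scheme.Modules.Hom.app $hq₁ U) a)
  have hq2 : ∀ (U : X.Opens) (a : Γ(X, U)), q₂.app U ((ClSub.toSubscheme I₂).app U a) =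
      (ClSub.toSubscheme (I₁ ⊔ I₂)).app U a := fun U a => congr((Scheme.Modules.Hom.app $hq₂ U) a)
  have hepi : Epi (biprod.desc q₁ (-q₂)) := by
    apply epi_of_affine
    intro U hU z
    obtain ⟨a, rfl⟩ := toSub_surj (I₁ ⊔ I₂) ⟨U, hU⟩ z
    refine ⟨(biprod.inl : _ ⟶ ClSub.quotMod I₁ ⊞ ClSub.quotMod I₂).app U ((ClSub.toSubscheme I₁).app U a), ?_⟩
    rw [← comp_app', biprod.inl_desc]
    exact hq1 U a
  have w : biprod.lift (ClSub.toSubscheme I₁) (ClSub.toSubscheme I₂) ≫ biprod.desc q₁ (-q₂) = 0 := by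
    rw [biprod.lift_desc, Preadditive.comp_neg, hq₁, hq₂, add_neg_cancel]
  refine ⟨hepi, w, ?_⟩
  have hmono : Mono (biprod.lift (ClSub.toSubscheme I₁) (ClSub.toSubscheme I₂)) := by
    apply mono_of_affine
    intro U hU a ha
    have h1 : (ClSub.toSubscheme I₁).app U a = 0 := by
      rw [← hl1]; erw [ha]; exact map_zero _
    have h2 : (ClSub.toSubscheme I₂).app U a = 0 := by
      rw [← hl2]; erw [ha]; exact map_zero _
    have h3 := (toSub_eq_zero_iff I₁ ⟨U, hU⟩ a).1 h1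
    have h4 := (toSub_eq_zero_iff I₂ ⟨U, hU⟩ a).1 h2
    have h5 : (I₁ ⊓ I₂).ideal ⟨U, hU⟩ = I₁.ideal ⟨U, hU⟩ ⊓ I₂.ideal ⟨U, hU⟩ := by
      rw [Scheme.IdealSheafData.ideal_inf]; rfl
    have h6 : a ∈ (I₁ ⊓ I₂).ideal ⟨U, hU⟩ := by
      rw [h5]; exact ⟨h3, h4⟩
    rw [h] at h6
    exact h6
  have hex : (ShortComplex.mk _ _ w).Exact := by
    apply exact_of_affine
    intro U hU y hy
    rw [hd] at hy
    have hs1 : ∃ a : Γ(X, U), (ClSub.toSubscheme I₁).app U a =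
        (biprod.fst : ClSub.quotMod I₁ ⊞ ClSub.quotMod I₂ ⟶ _).app U y := toSub_surj I₁ ⟨U, hU⟩ _
    have hs2 : ∃ a : Γ(X, U), (ClSub.toSubscheme I₂).app U a =
        (biprod.snd : ClSub.quotMod I₁ ⊞ ClSub.quotMod I₂ ⟶ _).app U y := toSub_surj I₂ ⟨U, hU⟩ _
    obtain ⟨a₁, ha₁⟩ := hs1
    obtain ⟨a₂, ha₂⟩ := hs2
    have h1 : (ClSub.toSubscheme (I₁ ⊔ I₂)).app U (a₁ - a₂) = 0 := by
      rw [toSub_sub, ← hq1, ← hq2, ha₁, ha₂]
      exact hy
    have h2 := (toSub_eq_zero_iff (I₁ ⊔ I₂) ⟨U, hU⟩ _).1 h1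
    have h5 : (I₁ ⊔ I₂).ideal ⟨U, hU⟩ = I₁.ideal ⟨U, hU⟩ ⊔ I₂.ideal ⟨U, hU⟩ := rfl
    rw [h5] at h2
    obtain ⟨i₁, hi₁, i₂, hi₂, hi⟩ := Submodule.mem_sup.1 h2
    refine ⟨a₁ - i₁, hext U _ _ ?_ ?_⟩
    · rw [hl1, ← ha₁, toSub_sub]
      exact (congrArg _ ((toSub_eq_zero_iff I₁ ⟨U, hU⟩ i₁).2 hi₁)).trans (sub_zero _)
    · have h6 : a₁ - i₁ = a₂ + i₂ := by
        rw [sub_eq_iff_eq_add, add_assoc, add_comm i₂, hi]; ring
      rw [hl2, ← ha₂, h6, toSub_add]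
      exact (congrArg _ ((toSub_eq_zero_iff I₂ ⟨U, hU⟩ i₂).2 hi₂)).trans (add_zero _)
  exact ⟨hex.fIsKernel⟩

end Groth.Agent.S19606
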