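import Groth.Statements.S19609
import Groth.Agent.CartMod.K982.Padic
import Mathlib.Tactic.Ring

set_option autoImplicit false
universe u
open CartMod

namespace Groth.Agent.S19609

open K982.Padic in
/-- Let p be a prime and u : A → B a ring homomorphism between commutative rings which are complete and
separated for the p-adic topology and have no p-torsion (flat over the p-adic base). If u induces a
bijection A/pA → B/pB (injectivity: u a ∈ pB forces a ∈ pA; surjectivity: every b ∈ B is congruent
to some u a modulo pB), then u is bijective. (The published statement is for a morphism of flat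
p-adic formal schemes over the Witt vectors of a perfect field: if its special fibre is an
isomorphism, so is the morphism; this row is its affine, ring-level case.) -/
theorem result (p : ℕ) [Fact p.Prime]
    {A B : Type u} [CommRing A] [CommRing B]
    [IsAdicComplete (Ideal.span {(p : A)}) A] [IsAdicComplete (Ideal.span {(p : B)}) B]
    (hA : IsSMulRegular A (p : A)) (hB : IsSMulRegular B (p : B)) (u : A →+* B)
    (hinj : ∀ a : A, u a ∈ Ideal.span {(p : B)} → a ∈ Ideal.span {(p : A)})
    (hsurj : ∀ b : B, ∃ a : A, b - u a ∈ Ideal.span {(p : B)}) :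
    Function.Bijective u := by
  constructor
  · rw [injective_iff_map_eq_zero]
    intro a ha
    refine eq_zero_of_forall_dvd (p : A) a fun n => ?_
    suffices H : ∃ y : A, a = (p : A) ^ n * y ∧ u y = 0 from ⟨H.choose, H.choose_spec.1⟩
    induction n with
    | zero => exact ⟨a, by simp, ha⟩
    | succ n ih =>
      obtain ⟨y, hy, hy0⟩ := ih
      obtain ⟨z, hz⟩ := Ideal.mem_span_singleton.1 (hinj y (by rw [hy0]; exact Ideal.zero_mem _))
      refine ⟨z, by rw [hy, hz]; ring, ?_⟩
      apply hB
      change (p : B) * u z = (p : B) * 0
      rw [mul_zero, ← hy0, hz, map_mul, map_natCast]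
  · intro b
    have hs : ∀ b : B, ∃ a : A, ∃ b' : B, b = u a + (p : B) * b' := by
      intro b
      obtain ⟨a, ha⟩ := hsurj b
      obtain ⟨c, hc⟩ := Ideal.mem_span_singleton.1 ha
      exact ⟨a, c, by rw [← hc]; ring⟩
    choose s t hst using hs
    let r : ℕ → B := fun n => t^[n] b
    let f : ℕ → A := fun n => ∑ i ∈ Finset.range n, (p : A) ^ i * s (r i)
    have hf : ∀ n, b = u (f n) + (p : B) ^ n * r n := by
      intro n
      induction n with
      | zero => simp [f, r]
      | succ n ih =>
        have h1 : f (n + 1) = f n + (p : A) ^ n * s (r n) := Finset.sum_range_succ _ _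
        have h2 : r (n + 1) = t (r n) := Function.iterate_succ_apply' t n b
        rw [h1, h2, map_add, map_mul, map_pow, map_natCast, pow_succ]
        nth_rewrite 1 [ih]
        nth_rewrite 1 [hst (r n)]
        ring
    obtain ⟨L, hL⟩ := exists_limit (p : A) f (fun n => by
      have h1 : f (n + 1) = f n + (p : A) ^ n * s (r n) := Finset.sum_range_succ _ _
      rw [h1, add_sub_cancel_left]
      exact dvd_mul_right _ _)
    refine ⟨L, sub_eq_zero.1 (eq_zero_of_forall_dvd (p : B) _ fun n => ?_)⟩
    obtain ⟨c, hc⟩ := hL n
    have : u L - b = (p : B) ^ n * (u c - r n) := by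
      have h1 : u L = u (f n) + (p : B) ^ n * u c := by
        have := congrArg u hc
        rw [map_sub, map_mul, map_pow, map_natCast] at this
        rw [← this]; ring
      rw [h1]
      nth_rewrite 1 [hf n]
      ring
    rw [this]
    exact dvd_mul_right _ _

end Groth.Agent.S19609
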