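import Groth.Statements.S19610
import Groth.Agent.FlatA.LocalCriterion

set_option autoImplicit false
universe u
open scoped TensorProduct
open CartMod

namespace Groth.Agent.S19610

open Function TensorProduct Groth.Agent.FlatA.LocalCriterion Groth.Agent.FlatA.TorOne

theorem flat_of_forall_rTensor {R : Type u} [CommRing R] (R' : Type u) [CommRing R'] [Algebra R R']
    (M : Type u) [AddCommGroup M] [Module R M]
    (h : ∀ J : Ideal R', Injective ((J.subtype.restrictScalars R).rTensor M)) :
    Module.Flat R' (R' ⊗[R] M) := by
  rw [Module.Flat.iff_rTensor_injective']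
  intro J
  let e₁ := TensorProduct.AlgebraTensorModule.cancelBaseChange R R' R' J M
  let e₂ := TensorProduct.AlgebraTensorModule.cancelBaseChange R R' R' R' M
  have key : ∀ x, J.subtype.rTensor (R' ⊗[R] M) x =
      e₂.symm ((J.subtype.restrictScalars R).rTensor M (e₁ x)) := by
    intro x
    apply e₂.injective
    rw [LinearEquiv.apply_symm_apply]
    induction x using TensorProduct.induction_on with
    | zero => simp
    | tmul k m =>
      induction m using TensorProduct.induction_on with
      | zero => simp
      | tmul r m => simp [e₁, e₂]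
      | add x y hx hy => rw [TensorProduct.tmul_add]; simp only [map_add, hx, hy]
    | add x y hx hy => simp only [map_add, hx, hy]
  have h2 : (J.subtype.rTensor (R' ⊗[R] M) : _ → _) =
      e₂.symm ∘ ((J.subtype.restrictScalars R).rTensor M) ∘ e₁ := funext key
  rw [h2]
  exact e₂.symm.injective.comp ((h J).comp e₁.injective)

theorem rTensor_span_injective {A : Type u} [CommRing A] (f : A) (M : Type u) [AddCommGroup M] [Module A M]
    (hM : IsSMulRegular M f) :
    Injective ((Ideal.span {f} : Ideal A).subtype.rTensor M) := by
  rw [injective_iff_map_eq_zero]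
  intro x hx
  -- every element of (f) ⊗ M is f ⊗ m
  have hs : ∀ x : (Ideal.span {f} : Ideal A) ⊗[A] M,
      ∃ m : M, x = (⟨f, Ideal.mem_span_singleton_self f⟩ : (Ideal.span {f} : Ideal A)) ⊗ₜ m := by
    intro x
    induction x using TensorProduct.induction_on with
    | zero => exact ⟨0, by simp⟩
    | tmul k m =>
      obtain ⟨k, hk⟩ := k
      obtain ⟨a, rfl⟩ := Ideal.mem_span_singleton'.1 hk
      refine ⟨a • m, ?_⟩
      rw [← TensorProduct.smul_tmul]
      rfl
    | add x y hx hy =>
      obtain ⟨a, rfl⟩ := hx
      obtain ⟨b, rfl⟩ := hy
      exact ⟨a + b, by rw [TensorProduct.tmul_add]⟩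
  obtain ⟨m, rfl⟩ := hs x
  have h1 : f • m = 0 := by
    have := congrArg (TensorProduct.lid A M) hx
    simpa using this
  have h2 : m = 0 := hM (by simpa using h1)
  rw [h2, TensorProduct.tmul_zero]

/-- Let p be a prime and B a commutative algebra over the commutative ring A, both complete and
separated for the p-adic topology and both without p-torsion (flat over the p-adic base). If B/pB is
flat over A/pA, then B/p^nB is flat over A/p^nA for every n ≥ 1 (the quotients are written as base
changes (A/p^n) ⊗_A B). (The published statement is for a morphism of flat p-adic formal schemes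
over the Witt vectors of a perfect field: if its special fibre is flat, so are the induced morphisms
of schemes modulo every power of p; this row is its affine, ring-level case.) -/
theorem result (p : ℕ) [Fact p.Prime]
    {A B : Type u} [CommRing A] [CommRing B] [Algebra A B]
    [IsAdicComplete (Ideal.span {(p : A)}) A] [IsAdicComplete (Ideal.span {(p : B)}) B]
    (hA : IsSMulRegular A (p : A)) (hB : IsSMulRegular B (p : B))
    (h : Module.Flat (A ⧸ Ideal.span {(p : A)}) ((A ⧸ Ideal.span {(p : A)}) ⊗[A] B))
    (n : ℕ) (hn : 1 ≤ n) :
    Module.Flat (A ⧸ (Ideal.span {(p : A)} ^ n)) ((A ⧸ (Ideal.span {(p : A)} ^ n)) ⊗[A] B) := by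
  have hreg : IsSMulRegular B (p : A) := by
    intro x y hxy
    apply hB
    change (p : A) • x = (p : A) • y at hxy
    rw [Algebra.smul_def, Algebra.smul_def, map_natCast] at hxy
    exact hxy
  have hT : TorVan A (A ⧸ Ideal.span {(p : A)}) B :=
    TorVan.of_submodule (rTensor_span_injective (p : A) B hreg)
  apply flat_of_forall_rTensor
  intro J
  exact injective_of_torVan (Ideal.span {(p : A)}) hT n (J.restrictScalars A)

end Groth.Agent.S19610
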