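import Groth.Statements.S19611
import Groth.Agent.S2913

set_option autoImplicit false
universe u
open CategoryTheory AlgebraicGeometry
open CartMod

namespace Groth.Agent.S19611

theorem quasiCompact_frob (p : ℕ) [Fact p.Prime] (Y : Scheme.{u}) [FrobSch.IsCharP Y p] :
    QuasiCompact (FrobSch.frob Y p) :=
  ⟨fun U _ hU => by
    rw [FrobSch.frob_base]
    exact hU⟩

/-- For a prime p and a scheme Y of characteristic p, write Y♭ for the scheme-theoretic image of the
absolute Frobenius F_Y : Y → Y, i.e. the closed subscheme of Y defined by the sections of O_Y whose
p-th power vanishes, and Y → Y♭ for the canonical morphism through which F_Y factors. Then Y → Y♭ is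
an epimorphism of schemes: two morphisms g₁, g₂ from Y♭ to a scheme Z with equal composites Y → Y♭ →
Z are equal. (The published statement is for k-morphisms g₁, g₂ from Y♭ to a k-scheme Z over a
perfect field k of characteristic p, compared after Frobenius twist through Y → (Y♭)'; this row asks
right-cancellation against morphisms to every scheme Z, which is equivalent to it for k-morphisms.) -/
theorem result (p : ℕ) [Fact p.Prime] (Y : Scheme.{u}) [FrobSch.IsCharP Y p] :
    Epi (FrobSch.frob Y p).toImage := by
  have := quasiCompact_frob p Y
  set f := FrobSch.frob Y p with hf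
  have : Surjective f.toImage := by
    refine ⟨fun y => ⟨f.imageι y, ?_⟩⟩
    apply f.imageι.isEmbedding.injective
    change f.imageι (f.toImage (f.imageι y)) = f.imageι y
    rw [← Scheme.Hom.comp_apply, f.toImage_imageι]
    rfl
  refine Groth.Agent.S2913.result _ fun U => ?_
  have h := (TopCat.Presheaf.app_injective_iff_stalkFunctor_map_injective (F := f.image.sheaf)
    f.toImage.c).1 (fun x => f.stalkFunctor_toImage_injective x) U
  exact h

end Groth.Agent.S19611
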