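import Groth.Statements.S19612
import Groth.Agent.FlatA.LocalCriterion
import Mathlib.RingTheory.WittVector.DiscreteValuationRing

set_option autoImplicit false
universe u
open scoped TensorProduct
open CartMod

namespace Groth.Agent.S19612

open Function TensorProduct Groth.Agent.FlatA.LocalCriterion Groth.Agent.FlatA.TorOne

/-- Let k be a perfect field of characteristic p, W = W(k) the ring of Witt vectors of k, and A a
commutative W-algebra which is complete and separated for the p-adic topology (an adic W-algebra).
Then flatness of A over W is equivalent to flatness of A/p^nA = (W/p^nW) ⊗_W A over W/p^nW for every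
n ≥ 1. -/
theorem result (p : ℕ) [Fact p.Prime] (k : Type u) [Field k]
    [CharP k p] [PerfectRing k p] (A : Type u) [CommRing A] [Algebra (WittVector p k) A]
    [IsAdicComplete (Ideal.span {(p : WittVector p k)}) A] :
    Module.Flat (WittVector p k) A ↔
      ∀ n : ℕ, 1 ≤ n →
        Module.Flat (WittVector p k ⧸ (Ideal.span {(p : WittVector p k)} ^ n))
          ((WittVector p k ⧸ (Ideal.span {(p : WittVector p k)} ^ n)) ⊗[WittVector p k] A) := by
  constructor
  · intro h n _
    infer_instance
  · intro h
    rw [Module.Flat.iff_rTensor_injective']
    intro J
    rw [injective_iff_map_eq_zero]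
    intro x hx
    have key := mem_pow_smul_of_rTensor_eq_zero (R := WittVector p k) (M := A)
      (Ideal.span {(p : WittVector p k)})
      (injective_of_forall_flat_quotient_pow (Ideal.span {(p : WittVector p k)}) h) J x hx
    obtain ⟨a, ha⟩ := (IsPrincipalIdealRing.principal J).principal
    by_cases ha0 : a = 0
    · have hJ : J = ⊥ := by rw [ha, ha0]; simp
      subst hJ
      have : Subsingleton ((⊥ : Ideal (WittVector p k)) ⊗[WittVector p k] A) := inferInstance
      exact Subsingleton.elim _ _
    · let e : WittVector p k ≃ₗ[WittVector p k] J :=
        (LinearEquiv.toSpanNonzeroSingleton (WittVector p k) (WittVector p k) a ha0).trans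
          (LinearEquiv.ofEq _ _ ha.symm)
      let e' : J ⊗[WittVector p k] A ≃ₗ[WittVector p k] A :=
        (e.symm.rTensor A).trans (TensorProduct.lid _ A)
      have h0 : e' x = 0 := by
        refine IsHausdorff.haus (I := Ideal.span {(p : WittVector p k)}) inferInstance (e' x)
          fun n => ?_
        rw [SModEq.zero]
        have h1 := Submodule.mem_map_of_mem (f := e'.toLinearMap) (key n)
        rw [Submodule.map_smul''] at h1
        exact Submodule.smul_mono le_rfl le_top h1
      exact e'.injective (h0.trans (map_zero _).symm)

end Groth.Agent.S19612
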