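import Groth.Statements.S19615
import Groth.Agent.CartMod.K991.Equiv
set_option autoImplicit false
universe u
open CategoryTheory AlgebraicGeometry TopologicalSpace
open CartMod

namespace Groth.Agent.S19615

/-- Let u : T → U be an affine morphism of schemes and i : T → T♮ a nilpotent closed immersion (its
ideal has a vanishing power), so that |T♮| = |T|; let g : |T♮| → |U| be the continuous map
underlying u, and v : (T♮, O_{T♮}) → (U, g_*O_{T♮}) the induced morphism of ringed spaces (identity
on structure rings), with direct image v_* (sections over g⁻¹ of an open) and inverse image v^* its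
left adjoint. Then for every quasi-coherent sheaf N of g_*O_{T♮}-modules on U (locally on U a
cokernel of a map of free modules), the O_{T♮}-module v^*N is quasi-coherent and the unit of the
adjunction N → v_*v^*N is an isomorphism. -/
theorem result
    {T Tc U : Scheme.{u}} (i : T ⟶ Tc) [IsClosedImmersion i]
    (hnil : ∃ n : ℕ, ∀ V : Tc.affineOpens, i.ker.ideal V ^ n = ⊥)
    (u : T ⟶ U) [IsAffineHom u] (g : Tc.carrier ⟶ U.carrier) (hg : i.base ≫ g = u.base)
    (N : SheafOfModules.{u} (((Opens.map g).sheafPushforwardContinuous RingCat.{u} (Opens.grothendieckTopology U)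
        (Opens.grothendieckTopology Tc)).obj Tc.ringCatSheaf))
    [N.IsQuasicoherent] :
    ((SheafOfModules.pullback (F := Opens.map g) (R := Tc.ringCatSheaf)
        (𝟙 (((Opens.map g).sheafPushforwardContinuous RingCat.{u} (Opens.grothendieckTopology U)
        (Opens.grothendieckTopology Tc)).obj Tc.ringCatSheaf))).obj N).IsQuasicoherent ∧
      IsIso ((SheafOfModules.pullbackPushforwardAdjunction (F := Opens.map g) (R := Tc.ringCatSheaf)
        (𝟙 (((Opens.map g).sheafPushforwardContinuous RingCat.{u} (Opens.grothendieckTopology U)
        (Opens.grothendieckTopology Tc)).obj Tc.ringCatSheaf))).unit.app N) := by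
  exact K991.CartMod.of_model i hnil u g hg (fun C g => ∀ (N : SheafOfModules.{u}
      (((Opens.map g).sheafPushforwardContinuous RingCat.{u} (Opens.grothendieckTopology C)
        (Opens.grothendieckTopology Tc)).obj Tc.ringCatSheaf)) (_ : N.IsQuasicoherent),
    ((SheafOfModules.pullback (F := Opens.map g) (R := Tc.ringCatSheaf)
        (𝟙 (((Opens.map g).sheafPushforwardContinuous RingCat.{u} (Opens.grothendieckTopology C)
        (Opens.grothendieckTopology Tc)).obj Tc.ringCatSheaf))).obj N).IsQuasicoherent ∧
      IsIso ((SheafOfModules.pullbackPushforwardAdjunction (F := Opens.map g) (R := Tc.ringCatSheaf)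
        (𝟙 (((Opens.map g).sheafPushforwardContinuous RingCat.{u} (Opens.grothendieckTopology C)
        (Opens.grothendieckTopology Tc)).obj Tc.ringCatSheaf))).unit.app N))
    (fun Y h _ N _ => ⟨K991.CartMod.isQCoh_vI h N (K991.CartMod.isQCoh_rs h N),
      K991.CartMod.isIso_unit h N (K991.CartMod.isQCoh_rs h N)⟩) N inferInstance

end Groth.Agent.S19615
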