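import Groth.Statements.S19616
import Groth.Agent.CartMod.K982.Padic
import Mathlib.RingTheory.AdicCompletion.Completeness
import Mathlib.RingTheory.AdicCompletion.RingHom
import Mathlib.Algebra.MvPolynomial.Eval
import Mathlib.Tactic.Ring

set_option autoImplicit false
universe u
open CartMod

namespace Groth.Agent.S19616

open K982.Padic

section Completion

variable (p : ℕ) (R : Type u) [CommRing R]

local notation "𝔭" => (Ideal.span {(p : R)} : Ideal R)

theorem isAdicComplete_completion :
    IsAdicComplete (Ideal.span {(p : AdicCompletion 𝔭 R)}) (AdicCompletion 𝔭 R) := by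
  have h0 : IsAdicComplete 𝔭 (AdicCompletion 𝔭 R) :=
    AdicCompletion.isAdicComplete (M := R) ⟨{(p : R)}, by simp⟩
  have h1 := (IsAdicComplete.map_algebraMap_iff (I := 𝔭) (M := AdicCompletion 𝔭 R)
    (S := AdicCompletion 𝔭 R)).2 h0
  rwa [Ideal.map_span, Set.image_singleton, map_natCast] at h1

/-- an element with vanishing `n`-th component is a multiple of `p ^ n`. -/
theorem exists_of_evalₐ_eq_zero (n : ℕ) (x : AdicCompletion 𝔭 R)
    (hx : AdicCompletion.evalₐ 𝔭 n x = 0) : (p : AdicCompletion 𝔭 R) ^ n ∣ x := by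
  have h1 : x ∈ (AdicCompletion.eval 𝔭 R n).ker := by
    rw [LinearMap.mem_ker, ← AdicCompletion.factor_evalₐ_eq_eval (I := 𝔭) x (by simp), hx, map_zero]
  rw [← AdicCompletion.pow_smul_top_eq_ker_eval ⟨{(p : R)}, by simp⟩, Ideal.span_singleton_pow,
    Submodule.ideal_span_singleton_smul, Submodule.mem_smul_pointwise_iff_exists] at h1
  obtain ⟨y, _, hy⟩ := h1
  refine ⟨y, ?_⟩
  rw [← hy, Algebra.smul_def, map_pow, map_natCast]

theorem evalₐ_pow_mul (n : ℕ) (x : AdicCompletion 𝔭 R) :
    AdicCompletion.evalₐ 𝔭 n ((p : AdicCompletion 𝔭 R) ^ n * x) = 0 := by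
  rw [map_mul, map_pow, map_natCast]
  have : ((p : R ⧸ 𝔭 ^ n)) ^ n = 0 := by
    have h1 : Ideal.Quotient.mk (𝔭 ^ n) ((p : R) ^ n) = 0 := by
      rw [Ideal.Quotient.eq_zero_iff_mem]
      exact Ideal.pow_mem_pow (Ideal.mem_span_singleton_self _) n
    rwa [map_pow, map_natCast] at h1
  rw [this, zero_mul]

theorem exists_decomp (n : ℕ) (x : AdicCompletion 𝔭 R) :
    ∃ (d : R) (y : AdicCompletion 𝔭 R),
      x = algebraMap R (AdicCompletion 𝔭 R) d + (p : AdicCompletion 𝔭 R) ^ n * y := by
  obtain ⟨d, hd⟩ := Ideal.Quotient.mk_surjective (AdicCompletion.evalₐ 𝔭 n x)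
  obtain ⟨y, hy⟩ := exists_of_evalₐ_eq_zero p R n (x - algebraMap R (AdicCompletion 𝔭 R) d) (by
    rw [map_sub, AlgHom.commutes, ← hd, sub_eq_zero]
    rfl)
  exact ⟨d, y, by rw [← hy]; ring⟩

theorem isSMulRegular_completion (hR : IsSMulRegular R (p : R)) :
    IsSMulRegular (AdicCompletion 𝔭 R) (p : AdicCompletion 𝔭 R) := by
  refine isSMulRegular_iff_right_eq_zero_of_smul.2 fun x hx => ?_
  rw [smul_eq_mul] at hx
  refine AdicCompletion.ext_evalₐ fun n => ?_
  rw [map_zero]
  obtain ⟨d, y, hxy⟩ := exists_decomp p R (n + 1) x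
  have h1 : Ideal.Quotient.mk (𝔭 ^ (n + 1)) ((p : R) * d) = 0 := by
    have h2 : AdicCompletion.evalₐ 𝔭 (n + 1) ((p : AdicCompletion 𝔭 R) * x) = 0 := by
      rw [hx, map_zero]
    rw [hxy, mul_add, map_add, mul_left_comm, evalₐ_pow_mul, add_zero, map_mul, map_natCast,
      AlgHom.commutes] at h2
    rw [map_mul, map_natCast]
    exact h2
  rw [Ideal.Quotient.eq_zero_iff_mem, Ideal.span_singleton_pow, Ideal.mem_span_singleton] at h1
  obtain ⟨c, hc⟩ := h1
  have h3 : d = (p : R) ^ n * c := by
    apply hR
    change (p : R) * d = (p : R) * ((p : R) ^ n * c)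
    rw [hc]; ring
  have h4 : x = (p : AdicCompletion 𝔭 R) ^ n *
      (algebraMap R (AdicCompletion 𝔭 R) c + (p : AdicCompletion 𝔭 R) * y) := by
    rw [hxy, h3, map_mul, map_pow, map_natCast]; ring
  rw [h4, evalₐ_pow_mul]

end Completion

section Poly

variable (p : ℕ) (A : Type u) [CommRing A] {n : ℕ} (a : Fin n → A)

/-- the ideal generated by the `p T_i - a_i`. -/
noncomputable def K0 : Ideal (MvPolynomial (Fin n) A) :=
  Ideal.span (Set.range fun i => (p : MvPolynomial (Fin n) A) * MvPolynomial.X i - MvPolynomial.C (a i))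

/-- its saturation with respect to `p`. -/
noncomputable def K1 : Ideal (MvPolynomial (Fin n) A) where
  carrier := {f | ∃ m : ℕ, (p : MvPolynomial (Fin n) A) ^ m * f ∈ K0 p A a}
  zero_mem' := ⟨0, by simp⟩
  add_mem' := by
    rintro f g ⟨m, hm⟩ ⟨k, hk⟩
    refine ⟨m + k, ?_⟩
    have : (p : MvPolynomial (Fin n) A) ^ (m + k) * (f + g) =
      (p : MvPolynomial (Fin n) A) ^ k * ((p : MvPolynomial (Fin n) A) ^ m * f) +
      (p : MvPolynomial (Fin n) A) ^ m * ((p : MvPolynomial (Fin n) A) ^ k * g) := by ring
    rw [this]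
    exact Ideal.add_mem _ (Ideal.mul_mem_left _ _ hm) (Ideal.mul_mem_left _ _ hk)
  smul_mem' := by
    rintro c f ⟨m, hm⟩
    refine ⟨m, ?_⟩
    rw [smul_eq_mul, mul_left_comm]
    exact Ideal.mul_mem_left _ _ hm

theorem mem_K1 (f : MvPolynomial (Fin n) A) :
    f ∈ K1 p A a ↔ ∃ m : ℕ, (p : MvPolynomial (Fin n) A) ^ m * f ∈ K0 p A a := Iff.rfl

/-- The uncompleted dilatation algebra. -/
abbrev D1 : Type u := MvPolynomial (Fin n) A ⧸ K1 p A a

theorem isSMulRegular_D1 : IsSMulRegular (D1 p A a) (p : D1 p A a) := by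
  refine isSMulRegular_iff_right_eq_zero_of_smul.2 fun x hx => ?_
  obtain ⟨f, rfl⟩ := Ideal.Quotient.mk_surjective x
  rw [smul_eq_mul, ← map_natCast (Ideal.Quotient.mk (K1 p A a)), ← map_mul,
    Ideal.Quotient.eq_zero_iff_mem, mem_K1] at hx
  obtain ⟨m, hm⟩ := hx
  rw [Ideal.Quotient.eq_zero_iff_mem, mem_K1]
  exact ⟨m + 1, by rw [pow_succ, mul_assoc]; exact hm⟩

theorem mk_K1_rel (i : Fin n) :
    algebraMap A (D1 p A a) (a i) = (p : D1 p A a) * Ideal.Quotient.mk (K1 p A a) (MvPolynomial.X i) := by
  have h1 : (p : MvPolynomial (Fin n) A) * MvPolynomial.X i - MvPolynomial.C (a i) ∈ K1 p A a :=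
    ⟨0, by rw [pow_zero, one_mul]; exact Ideal.subset_span ⟨i, rfl⟩⟩
  rw [← Ideal.Quotient.eq_zero_iff_mem, map_sub, map_mul, map_natCast, sub_eq_zero] at h1
  rw [h1]
  rfl

variable {B : Type u} [CommRing B] [Algebra A B]

theorem aeval_eq_zero_of_mem_K1 (hB : IsSMulRegular B (p : B)) (b : Fin n → B)
    (hb : ∀ i, algebraMap A B (a i) = (p : B) * b i) (f : MvPolynomial (Fin n) A)
    (hf : f ∈ K1 p A a) : MvPolynomial.aeval b f = 0 := by
  obtain ⟨m, hm⟩ := hf
  have h0 : ∀ g ∈ K0 p A a, MvPolynomial.aeval b g = 0 := by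
    intro g hg
    have : K0 p A a ≤ RingHom.ker (MvPolynomial.aeval b : MvPolynomial (Fin n) A →ₐ[A] B) := by
      refine Ideal.span_le.2 ?_
      rintro _ ⟨i, rfl⟩
      simp only [SetLike.mem_coe, RingHom.mem_ker]
      rw [map_sub, map_mul, map_natCast, MvPolynomial.aeval_X, MvPolynomial.aeval_C, hb i, sub_self]
    exact this hg
  have h1 := h0 _ hm
  rw [map_mul, map_pow, map_natCast] at h1
  exact pow_regular hB m (by rw [h1, mul_zero])

end Poly

/-- Let p be a prime, A a commutative ring which is complete and separated for the p-adic topology and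
has no p-torsion, and a_1, …, a_n elements of A (so that (p, a_1, …, a_n) is an open ideal
containing p). Then there is a commutative A-algebra D, complete and separated for the p-adic
topology and without p-torsion, in which each a_i is divisible by p, with the following universal
property: for every A-algebra B which is p-adically complete and separated, has no p-torsion, and in
which each a_i is divisible by p, there is exactly one A-algebra homomorphism D → B; moreover this
homomorphism is surjective whenever A → B is. (D is the coordinate ring of the dilatation of Spf A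
with respect to p along the closed subscheme defined by (p, a_1, …, a_n). The published statement is
for flat p-adic formal schemes locally of finite type over the Witt vectors of a perfect field; this
row is its affine, ring-level case without a finiteness hypothesis.) -/
theorem result (p : ℕ) [Fact p.Prime]
    (A : Type u) [CommRing A] [IsAdicComplete (Ideal.span {(p : A)}) A]
    (hA : IsSMulRegular A (p : A)) {n : ℕ} (a : Fin n → A) :
    ∃ (D : Type u) (_ : CommRing D) (_ : Algebra A D),
      IsAdicComplete (Ideal.span {(p : D)}) D ∧ IsSMulRegular D (p : D) ∧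
      (∀ i, algebraMap A D (a i) ∈ Ideal.span {(p : D)}) ∧
      ∀ (B : Type u) [CommRing B] [Algebra A B] [IsAdicComplete (Ideal.span {(p : B)}) B],
        IsSMulRegular B (p : B) → (∀ i, algebraMap A B (a i) ∈ Ideal.span {(p : B)}) →
          Nonempty (D →ₐ[A] B) ∧ Subsingleton (D →ₐ[A] B) ∧
            (Function.Surjective (algebraMap A B) → ∀ f : D →ₐ[A] B, Function.Surjective f) := by
  let R := D1 p A a
  let I : Ideal R := Ideal.span {(p : R)}
  refine ⟨AdicCompletion I R, inferInstance, inferInstance, isAdicComplete_completion p R,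
    isSMulRegular_completion p R (isSMulRegular_D1 p A a), ?_, ?_⟩
  · intro i
    rw [Ideal.mem_span_singleton]
    refine ⟨algebraMap R _ (Ideal.Quotient.mk (K1 p A a) (MvPolynomial.X i)), ?_⟩
    rw [IsScalarTower.algebraMap_apply A R (AdicCompletion I R), mk_K1_rel, map_mul, map_natCast]
  · intro B _ _ _ hB hb
    have hb' : ∀ i, ∃ b : B, algebraMap A B (a i) = (p : B) * b := fun i =>
      Ideal.mem_span_singleton.1 (hb i)
    choose b hb' using hb'
    let g1 : R →ₐ[A] B := Ideal.Quotient.liftₐ (K1 p A a) (MvPolynomial.aeval b)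
      (aeval_eq_zero_of_mem_K1 p A a hB b hb')
    let J : Ideal B := Ideal.span {(p : B)}
    have hIJ : ∀ m : ℕ, I ^ m ≤ (J ^ m).comap g1 := by
      intro m
      rw [← Ideal.map_le_iff_le_comap, Ideal.map_pow]
      refine Ideal.pow_right_mono ?_ m
      rw [Ideal.map_span, Set.image_singleton, map_natCast]
    refine ⟨⟨IsAdicComplete.liftAlgHom J (fun m => (Ideal.quotientMapₐ (J ^ m) g1 (hIJ m)).comp
      ((AdicCompletion.evalₐ I m).restrictScalars A)) ?_⟩, ⟨fun f g => ?_⟩, ?_⟩
    · intro m k hle
      ext x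
      obtain ⟨d, y, rfl⟩ := exists_decomp p R k x
      have e1 : AdicCompletion.evalₐ I k ((p : AdicCompletion I R) ^ k * y) = 0 := evalₐ_pow_mul p R k y
      have e2 : AdicCompletion.evalₐ I m ((p : AdicCompletion I R) ^ k * y) = 0 := by
        obtain ⟨l, rfl⟩ := Nat.exists_eq_add_of_le hle
        rw [pow_add, mul_assoc]
        exact evalₐ_pow_mul p R m _
      simp only [AlgHom.comp_apply, AlgHom.restrictScalars_apply, map_add, e1, e2, AlgHom.commutes,
        map_zero, add_zero]
      rfl
    · have h1 : ∀ d : R, f (algebraMap R (AdicCompletion I R) d) =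
          g (algebraMap R (AdicCompletion I R) d) := by
        have h2 : (f.comp (IsScalarTower.toAlgHom A R (AdicCompletion I R))).comp
            (Ideal.Quotient.mkₐ A (K1 p A a)) =
            (g.comp (IsScalarTower.toAlgHom A R (AdicCompletion I R))).comp
            (Ideal.Quotient.mkₐ A (K1 p A a)) := by
          refine MvPolynomial.algHom_ext fun i => ?_
          apply hB
          change (p : B) * f (algebraMap R (AdicCompletion I R)
            (Ideal.Quotient.mk (K1 p A a) (MvPolynomial.X i))) = (p : B) * g (algebraMap R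
            (AdicCompletion I R) (Ideal.Quotient.mk (K1 p A a) (MvPolynomial.X i)))
          have h3 : ∀ h : AdicCompletion I R →ₐ[A] B, (p : B) * h (algebraMap R (AdicCompletion I R)
            (Ideal.Quotient.mk (K1 p A a) (MvPolynomial.X i))) = algebraMap A B (a i) := by
            intro h
            rw [← map_natCast h, ← map_mul, ← map_natCast (algebraMap R (AdicCompletion I R)),
              ← map_mul]
            erw [← mk_K1_rel]
            rw [← IsScalarTower.algebraMap_apply A R (AdicCompletion I R), AlgHom.commutes]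
          rw [h3, h3]
        intro d
        obtain ⟨d, rfl⟩ := Ideal.Quotient.mk_surjective d
        exact DFunLike.congr_fun h2 d
      ext x
      refine sub_eq_zero.1 (eq_zero_of_forall_dvd (p : B) _ fun m => ?_)
      obtain ⟨d, y, rfl⟩ := exists_decomp p R m x
      rw [map_add, map_add, h1, map_mul, map_mul, map_pow, map_pow, map_natCast, map_natCast]
      exact ⟨f y - g y, by ring⟩
    · intro hs f x
      obtain ⟨y, hy⟩ := hs x
      exact ⟨algebraMap A _ y, by rw [AlgHom.commutes, hy]⟩

end Groth.Agent.S19616
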