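import Groth.Statements.S19618
import Groth.Agent.BlowUp.K484.StalkAux
import Groth.Agent.BlowUp.K484.DimAux
import Groth.Agent.Divis.CartierDim

set_option autoImplicit false
universe u
open CategoryTheory CategoryTheory.Limits AlgebraicGeometry Opposite TopologicalSpace
open BlowUp

namespace Groth.Agent.S19618

/-- Let X be a locally Noetherian scheme, Y an effective Cartier divisor on X (a quasi-coherent ideal
sheaf which, near every point, is generated on some affine open by one nonzerodivisor; Y is its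
support) and Z a closed integral subscheme (a closed immersion i from an integral scheme with
generic point ξ). If Y and Z intersect properly — every point ζ of Y ∩ Z which is maximal under
generization inside Y ∩ Z satisfies dim O_{X,ζ} = codim(Y,X) + codim(Z,X), where codim(Y,X) is the
infimum over y ∈ Y of dim O_{X,y} and codim(Z,X) = dim O_{X,i(ξ)} — then Z is not contained in Y. -/
theorem result {X Z : Scheme.{u}}
    [IsLocallyNoetherian X] (𝓘 : X.IdealSheafData) (hY : BlowUp.IsEffCartierIdeal 𝓘)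
    (i : Z ⟶ X) [IsClosedImmersion i] [IsIntegral Z]
    (hprop : ∀ ζ : ↥X, ζ ∈ (𝓘.support : Set ↥X) ∩ Set.range i.base →
        (∀ ζ' : ↥X, ζ' ∈ (𝓘.support : Set ↥X) ∩ Set.range i.base → ζ' ⤳ ζ → ζ' = ζ) →
        ringKrullDim ↑(X.presheaf.stalk ζ) =
          (⨅ y : (𝓘.support : Set ↥X), ringKrullDim ↑(X.presheaf.stalk y.1)) +
            ringKrullDim ↑(X.presheaf.stalk (i (genericPoint ↥Z)))) :
    ¬ Set.range i.base ⊆ (𝓘.support : Set ↥X) := by
  open Groth.Agent.Divis.CartierBasic in
  intro hsub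
  have hmem : i (genericPoint ↥Z) ∈ (𝓘.support : Set ↥X) ∩ Set.range i.base :=
    ⟨hsub ⟨_, rfl⟩, ⟨_, rfl⟩⟩
  have h1 := hprop (i (genericPoint ↥Z)) hmem (by
    rintro _ ⟨-, ⟨z, rfl⟩⟩ hz
    have h2 : i (genericPoint ↥Z) ⤳ i z :=
      (genericPoint_specializes z).map i.continuous
    exact (hz.antisymm h2).eq)
  have hN : IsNoetherianRing (X.presheaf.stalk (i (genericPoint ↥Z))) := inferInstance
  have hlt : ringKrullDim (X.presheaf.stalk (i (genericPoint ↥Z))) < ⊤ := ringKrullDim_lt_top
  have h0 : 0 ≤ ringKrullDim (X.presheaf.stalk (i (genericPoint ↥Z))) :=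
    ringKrullDim_nonneg_of_nontrivial
  have hinf : (1 : WithBot ℕ∞) ≤ ⨅ y : (𝓘.support : Set ↥X), ringKrullDim ↑(X.presheaf.stalk y.1) := by
    refine le_iInf fun y => ?_
    obtain ⟨g, hg, hgE⟩ := exists_stalkIdeal_eq_span hY y.1
    refine Groth.Agent.Divis.CartierDim.one_le_ringKrullDim_of_nzd g hg ?_
    apply (mem_support_iff_stalkIdeal_le 𝓘 y.1).1 y.2
    rw [hgE]; exact Ideal.mem_span_singleton_self g
  generalize ringKrullDim (X.presheaf.stalk (i (genericPoint ↥Z))) = d at h1 hlt h0
  generalize (⨅ y : (𝓘.support : Set ↥X), ringKrullDim ↑(X.presheaf.stalk y.1)) = e at h1 hinf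
  obtain ⟨n, rfl⟩ : ∃ n : ℕ, d = n := K484.StalkAux.exists_nat_of_lt_top h0 hlt
  have h3 : (1 : WithBot ℕ∞) + n ≤ n := by
    calc (1 : WithBot ℕ∞) + n ≤ e + n := by gcongr
      _ = n := h1.symm
  have h4 : 1 + n ≤ n := by exact_mod_cast h3
  omega

end Groth.Agent.S19618
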