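import Groth.Statements.S19621
import Groth.Agent.IndCof.K992.IndDiv
import Groth.Agent.S14497
import Mathlib.NumberTheory.Divisors
import Mathlib.Data.Nat.Factorization.Induction
import Mathlib.Algebra.Order.BigOperators.Ring.Finset

set_option autoImplicit false
universe v
open IndCof

namespace Groth.Agent.S19621

open K992.Refine K992.IndB K992.IndC K992.IndM K992.IndS K992.IndP K992.IndD K992.IndE

open CategoryTheory CategoryTheory.Limits in
/-- Let C be a small abelian category all of whose objects are Artinian and killed by some positive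
integer, and A an ind-object of C of cofinite type (A[n] is isomorphic to an object of C for every n
≥ 1). Then the following are equivalent: (i) the inverse system of copies of A indexed by the
positive integers ordered by divisibility, with transition map from the m-th to the n-th copy
multiplication by m/n, is Mittag-Leffler (for every n the images of these maps in the n-th copy are
eventually constant): A is divisibly ML; (ii) A has a divisible sub-object B' (multiplication by
every positive integer is an epimorphism of B') such that A/B' is isomorphic to an object of C;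
(iii) multiplication by p on A is an epimorphism for all but finitely many primes p. (The published
statement phrases (ii) as: A modulo its divisible part lies in C, and (iii) as: the p-primary part
of A is divisible for almost all p; the divisible part is the largest divisible sub-object, and
multiplication by p on A is an epimorphism exactly when it is one on the p-primary part, the other
primary parts being uniquely p-divisible.) -/
theorem result {C : Type v} [SmallCategory C] [Abelian C]
    (hart : ∀ X : C, IsArtinianObject X)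
    (htor : ∀ X : C, ∃ n : ℕ, 0 < n ∧ n • 𝟙 X = 0)
    (A : Ind C) (hA : ∀ n : ℕ, 0 < n → (Ind.yoneda (C := C)).essImage (kernel (n • 𝟙 A))) :
    ((∀ n : ℕ, 0 < n → ∃ m : ℕ, 0 < m ∧ n ∣ m ∧ ∀ m' : ℕ, 0 < m' → m ∣ m' →
        imageSubobject ((m' / n) • 𝟙 A) = imageSubobject ((m / n) • 𝟙 A)) ↔
      ∃ B' : Subobject A, (∀ k : ℕ, 0 < k → Epi (k • 𝟙 (B' : Ind C))) ∧
        (Ind.yoneda (C := C)).essImage (cokernel B'.arrow)) ∧
    ((∃ B' : Subobject A, (∀ k : ℕ, 0 < k → Epi (k • 𝟙 (B' : Ind C))) ∧
        (Ind.yoneda (C := C)).essImage (cokernel B'.arrow)) ↔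
      {p : ℕ | p.Prime ∧ ¬ Epi (p • 𝟙 A)}.Finite) := by
  have hA' : Cof A := hA
  -- a bounded quotient by a divisible subobject lies in `C`
  have key : ∀ B' : Subobject A, (∀ k : ℕ, 0 < k → Epi (k • 𝟙 (B' : Ind C))) →
      (∃ M : ℕ, 0 < M ∧ M • 𝟙 (cokernel B'.arrow) = 0) →
      (Ind.yoneda (C := C)).essImage (cokernel B'.arrow) := by
    rintro B' hB' ⟨M, hM, hM'⟩
    have h1 : divPart A ≤ B' :=
      (Groth.Agent.S14497.result A).2 B' hB' ⟨M, hM, hM'⟩ _ (divPart_divisible hart htor hA')
    have h2 : B' = divPart A := le_antisymm (le_divPart B' hB') h1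
    subst h2
    have h3 : Cof (cokernel (divPart A).arrow) :=
      cof_cokernel hart htor (cof_divPart hart htor hA') hA' _
    have h4 := h3 M hM
    exact IsC.of_iso (kernelIsoOfEq hM' ≪≫ kernelZeroIsoSource) h4
  have key' : ∀ B' : Subobject A, (Ind.yoneda (C := C)).essImage (cokernel B'.arrow) →
      ∃ M : ℕ, 0 < M ∧ M • 𝟙 (cokernel B'.arrow) = 0 := by
    rintro B' ⟨X, ⟨e⟩⟩
    obtain ⟨M, hM, h⟩ := exists_smul_eq_zero htor e.hom
    refine ⟨M, hM, ?_⟩
    rw [← e.inv_hom_id, ← Preadditive.comp_nsmul, h, comp_zero]
  refine ⟨?_, ?_⟩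
  · rw [(Groth.Agent.S14497.result A).1]
    constructor
    · rintro ⟨B', hB', hM⟩
      exact ⟨B', hB', key B' hB' hM⟩
    · rintro ⟨B', hB', hM⟩
      exact ⟨B', hB', key' B' hM⟩
  · constructor
    · rintro ⟨B', hB', hM⟩
      obtain ⟨M, hM, hM'⟩ := key' B' hM
      refine Set.Finite.subset (Finset.finite_toSet (Nat.divisors M)) ?_
      rintro p ⟨hp, hpe⟩
      rw [Finset.mem_coe, Nat.mem_divisors]
      refine ⟨?_, hM.ne'⟩
      by_contra hdvd
      apply hpe
      have hcop : Nat.Coprime p M := (Nat.Prime.coprime_iff_not_dvd hp).2 hdvd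
      rw [epi_iff_surjective_up_to_refinements]
      intro T x
      have h1 : B'.Factors (M • x) := by
        rw [factors_iff_comp_cokernel, Preadditive.nsmul_comp, ← comp_nsmul_id, Category.assoc, hM',
          comp_zero, comp_zero]
      obtain ⟨T', π, hπ, y, hy, e⟩ := (epi_nsmul_iff B' p).1 (hB' p hp.pos) _ _ h1
      have h := Nat.gcd_eq_gcd_ab p M
      rw [Nat.Coprime] at hcop
      rw [hcop] at h
      refine ⟨T', π, hπ, Nat.gcdA p M • (π ≫ x) + Nat.gcdB p M • y, ?_⟩
      have h2 : ((1 : ℤ)) • (π ≫ x) =
          ((p : ℤ) * Nat.gcdA p M + (M : ℤ) * Nat.gcdB p M) • (π ≫ x) := by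
        rw [← h]; rfl
      rw [one_smul, add_smul, mul_smul, natCast_zsmul, mul_comm (M : ℤ), mul_smul, natCast_zsmul,
        ← Preadditive.comp_nsmul, e] at h2
      rw [comp_nsmul_id, smul_add, smul_comm p (Nat.gcdB p M) y]
      exact h2
    · intro hfin
      classical
      let n : ℕ := ∏ p ∈ hfin.toFinset, p
      have hn : 0 < n := Finset.prod_pos (fun p hp => by
        rw [Set.Finite.mem_toFinset] at hp
        exact hp.1.pos)
      obtain ⟨N, hN⟩ := exists_image_stable hart htor hA' hn
      have hnD : Epi (n • 𝟙 ((imageSubobject ((n ^ N) • 𝟙 A) : Subobject A) : Ind C)) := by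
        rw [epi_nsmul_iff]
        intro T x hx
        rw [← hN (N + 1) (Nat.le_succ N), factors_image_nsmul] at hx
        obtain ⟨T', π, hπ, y, hy⟩ := hx
        refine ⟨T', π, hπ, (n ^ N) • y, factors_image_nsmul_self _ y, ?_⟩
        rw [hy, pow_succ, mul_comm, mul_smul]
      have hprime : ∀ p : ℕ, p.Prime →
          Epi (p • 𝟙 ((imageSubobject ((n ^ N) • 𝟙 A) : Subobject A) : Ind C)) := by
        intro p hp
        by_cases hpe : Epi (p • 𝟙 A)
        · have h1 : factorThruImageSubobject ((n ^ N) • 𝟙 A) ≫
              (p • 𝟙 ((imageSubobject ((n ^ N) • 𝟙 A) : Subobject A) : Ind C)) =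
              (p • 𝟙 A) ≫ factorThruImageSubobject ((n ^ N) • 𝟙 A) := by
            rw [comp_nsmul_id, Preadditive.nsmul_comp, Category.id_comp]
          have h2 : Epi (factorThruImageSubobject ((n ^ N) • 𝟙 A) ≫
              (p • 𝟙 ((imageSubobject ((n ^ N) • 𝟙 A) : Subobject A) : Ind C))) := by
            rw [h1]
            exact epi_comp _ _
          exact epi_of_epi (factorThruImageSubobject ((n ^ N) • 𝟙 A)) _
        · have hmem : p ∈ hfin.toFinset := by
            rw [Set.Finite.mem_toFinset]
            exact ⟨hp, hpe⟩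
          obtain ⟨c, hc⟩ := Finset.dvd_prod_of_mem (fun p : ℕ => p) hmem
          have hc' : n = p * c := hc
          apply epi_nsmul_left p c
          rw [← hc']
          exact hnD
      refine ⟨imageSubobject ((n ^ N) • 𝟙 A), ?_, ?_⟩
      · intro k
        induction k using Nat.recOnMul with
        | zero => intro h; exact absurd h (lt_irrefl 0)
        | one => intro _; rw [one_smul]; infer_instance
        | prime p hp => intro _; exact hprime p hp
        | mul a b ha hb =>
          intro hab
          exact epi_nsmul_mul a b (ha (Nat.pos_of_mul_pos_right hab)) (hb (Nat.pos_of_mul_pos_left hab))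
      · have h1 : IsC (cokernel ((n ^ N) • 𝟙 A)) :=
          isC_cokernel_nsmul hart htor hA' (Nat.pow_pos hn)
        have e1 : cokernel ((n ^ N) • 𝟙 A) ≅ cokernel (factorThruImageSubobject ((n ^ N) • 𝟙 A) ≫
            (imageSubobject ((n ^ N) • 𝟙 A)).arrow) :=
          cokernelIsoOfEq (imageSubobject_arrow_comp _).symm
        exact h1.of_iso (e1 ≪≫ cokernelEpiComp _ _)

end Groth.Agent.S19621
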