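import Groth.Statements.S19623
import Groth.Agent.AbSch.K999.FibIn

set_option autoImplicit false
universe u
open CategoryTheory CategoryTheory.Limits MonoidalCategory CartesianMonoidalCategory MonObj GrpObj AlgebraicGeometry
open AbSch

namespace Groth.Agent.S19623

/-- Let S be a locally Noetherian scheme, f : A → S an abelian scheme of relative dimension g (a
commutative S-group scheme, smooth and proper with geometrically connected fibres of dimension g),
given with a commutative S-group scheme A^t and dual data φ presenting the dual of A for the fppf
topology, L an invertible O_A-module which is ample relative to S, and λ : A → A^t the homomorphism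
attached to L through φ. Let m be a positive integer such that either m ≥ 2, or m = 1 and L is
generated by its sections relative to S (the counit f^*f_*L → L is an epimorphism). Let K be the
kernel of λ ∘ [m] (the fibre of [m] followed by λ over the unit section of A^t: the subgroup
K(L^{⊗m})), and let X ⊂ A be a closed subscheme, finite, flat and surjective over S, which is stable
under translation by K: the composite K ×_S X → A ×_S A → A, product followed by the group law,
factors through X. Then the map f_*L → f_*(L|_X) induced by restricting sections to X is a
monomorphism whose cokernel is a finite locally free O_S-module, so that f_*L is locally a direct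
summand of f_*(L|_X). (The published statement is over an arbitrary base; this row takes the base
locally Noetherian, where finite flat modules are locally free and a locally split injection is a
monomorphism with locally free cokernel.) -/
theorem result {S : Scheme.{u}}
    [IsLocallyNoetherian S]
    (A At : Over S) [GrpObj A] [IsCommMonObj A] [GrpObj At] [IsCommMonObj At]
    (φ : AgPol.DualMap A At) (hdual : AbDual.IsDualAV Scheme.fppfPrecoverage A At φ)
    (g : ℕ) (hA : AgPol.IsAbSch A g)
    (L : A.left.Modules) (hL : PicF.IsInvertible L) (hamp : RelAmple.IsRelAmple A.hom L)
    (lam : A ⟶ At) (hlam : AgPol.IsLambda A At φ L lam)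
    (m : ℕ) (hm : 2 ≤ m ∨ (m = 1 ∧ Epi ((Scheme.Modules.pullbackPushforwardAdjunction A.hom).counit.app L)))
    (K : Over S) (kι : K ⟶ A)
    (hK : IsPullback kι (CartesianMonoidalCategory.toUnit K) ((𝟙 A ^ m) ≫ lam) η[At])
    (X : Over S) (xι : X ⟶ A) [IsClosedImmersion xι.left]
    [IsFinite X.hom] [Flat X.hom] [Surjective X.hom]
    (t : K ⊗ X ⟶ X) (ht : t ≫ xι = MonoidalCategoryStruct.tensorHom kι xι ≫ μ[A]) :
    Mono ((Coh.push A.hom).map ((Scheme.Modules.pullbackPushforwardAdjunction xι.left).unit.app L)) ∧
      FlatMod.IsFinLocFree (cokernel ((Coh.push A.hom).map
        ((Scheme.Modules.pullbackPushforwardAdjunction xι.left).unit.app L))) := by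
  obtain ⟨h1, h2, h3, -⟩ := hA
  obtain rfl := (K814.MumHom.isLambda_iff φ hL lam).1 hlam
  exact K999.FibIn.main hdual hL hamp m hm kι hK xι t ht

end Groth.Agent.S19623
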