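import Groth.Statements.S19625
import Groth.Agent.Surf.K465.ProjH
import Groth.Agent.Surf.K455.Pos
import Groth.Agent.Surf.K464.Curves
import Groth.Agent.ProjDual.K273.InvHom

set_option autoImplicit false
universe u
open CategoryTheory CategoryTheory.Limits AlgebraicGeometry
open Surf

namespace Groth.Agent.S19625

/-- Let k be a field and S an integral surface (dimension two) which is smooth over k and projective (a
closed immersion into some P^n_k over k). Let i : C → S be the closed immersion of an integral curve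
(dimension one) all of whose local rings are regular, with ideal sheaf I ⊆ O_S, and let N =
Hom(i^*I, O_C) be the normal sheaf of C in S, the dual of the conormal sheaf i^*I (the sheaf Hom,
assumed to exist as the right adjoint of tensoring with i^*I). Then the self-intersection number
C·C, namely the intersection number of O_S(C) with itself computed as the alternating sum χ(O_S) −
2χ(I) + χ(I ⊗ I) with the inverse I = O_S(−C) of O_S(C) (packaged as FGA.intNum), equals the degree
of N on C, the degree of a module M on C being χ(M) − χ(O_C). -/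
theorem result (k : Type u) [Field k] (S : Scheme.{u}) [S.Over (Spec (CommRingCat.of k))]
    [IsIntegral S] (hdim : topologicalKrullDim S = 2) [Smooth (S ↘ (Spec (CommRingCat.of k)))]
    (hproj : ∃ (n : ℕ) (ι : S ⟶ CohB1.ProjSpace n k), IsClosedImmersion ι ∧ ι ≫ CohB1.ProjSpace.toSpec n k = (S ↘ (Spec (CommRingCat.of k))))
    (C : Scheme.{u}) (i : C ⟶ S) [IsClosedImmersion i] [IsIntegral C] (hC : topologicalKrullDim C = 1)
    (hCreg : ∀ c : C, IsRegularLocalRing (C.presheaf.stalk c))
    [DCoh.HasSheafHom (Omega.conormal i)] :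
    letI : C.Over (Spec (CommRingCat.of k)) := ⟨i ≫ (S ↘ (Spec (CommRingCat.of k)))⟩
    FGA.intNum k S 2 ![ClSub.idealMod i.ker, ClSub.idealMod i.ker] (Coh.structureModule S) =
      Curv2.deg k C ((DCoh.sheafHom (Omega.conormal i)).obj (Coh.structureModule C)) 1 := by
  letI : C.Over (Spec (CommRingCat.of k)) := ⟨i ≫ (S ↘ (Spec (CommRingCat.of k)))⟩
  change FGA.intNum k S 2 ![ClSub.idealMod i.ker, ClSub.idealMod i.ker] (Coh.structureModule S) =
    Curv2.deg k C ((DCoh.sheafHom (Omega.conormal i)).obj (Coh.structureModule C)) 1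
  obtain ⟨n, ι, hcl, hι⟩ := hproj
  obtain ⟨hprop, -⟩ := K465.ProjH.facts k S ι hι
  have hpC : IsProper (C ↘ Spec (CommRingCat.of k)) :=
    inferInstanceAs (IsProper (i ≫ (S ↘ (Spec (CommRingCat.of k)))))
  have hd : topologicalKrullDim S ≤ (2 : ℕ) := by rw [hdim]; rfl
  -- the ideal is invertible
  have e : C ≅ i.ker.subscheme := asIso i.toImage
  have : Nonempty i.ker.subscheme := ⟨e.hom (genericPoint C)⟩
  have hCi : IsIntegral i.ker.subscheme := isIntegral_of_isOpenImmersion e.inv
  have hCd : topologicalKrullDim (i.ker.support : Set S) = 1 := by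
    rw [← K464.Curves.dim_sub S i.ker, ← hC]
    exact (IsHomeomorph.topologicalKrullDim_eq _ e.hom.homeomorph.isHomeomorph).symm
  have hE : BlowUp.IsEffCartierIdeal i.ker := K464.Curves.isEff_of_smooth k hdim ⟨hCi, hCd⟩
  have hI : PicF.IsInvertible (ClSub.idealMod i.ker) := Groth.Agent.Dix.IdealModCartier.isInvertible_idealMod hE
  have hA : PicF.IsInvertible (Omega.conormal i) := Groth.Agent.Fdesc.LocGen.isInvertible_pullback i hI
  -- the dual
  obtain ⟨A', hA', ⟨e1⟩⟩ := Groth.Agent.Grpsch.PicGrp.exists_inverse hA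
  have e2 : (DCoh.sheafHom (Omega.conormal i)).obj (Coh.structureModule C) ≅ A' :=
    (Groth.Agent.Sga2.PnHomAdj.sheafHomIso (Omega.conormal i)).app (Coh.structureModule C) ≪≫
      K273.InvHom.homIso e1 (Coh.structureModule C) ≪≫ Groth.Agent.Ega2.Tens.lunit A'
  rw [Groth.Agent.Dix.InterNum.deg_congr k C hC e2]
  have h1 := Groth.Agent.Dix.InterNum.deg_tensor k C hC hA hA'
  rw [Groth.Agent.Dix.InterNum.deg_congr k C hC e1] at h1
  have h2 : Curv2.deg k C (Coh.structureModule C) 1 = 0 := by
    unfold Curv2.deg
    push_cast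
    ring
  rw [h2] at h1
  have h3 := K455.Pos.intNum_eq_on k hd i rfl hI
  rw [h3, K455.Pos.intNum_one_eq, Groth.Agent.Fga.IntAdd.eulerCharLE_eq k C 2 (by rw [hC]; exact_mod_cast one_le_two),
    Groth.Agent.Fga.IntAdd.eulerCharLE_eq k C 2 (by rw [hC]; exact_mod_cast one_le_two),
    K464.Base.euler_congr k C (Groth.Agent.Ega2.Tens.runit _)]
  have h4 : Curv2.deg k C (Omega.conormal i) 1 = Curv2.euler k C (Omega.conormal i) -
      Curv2.euler k C (Coh.structureModule C) := by
    unfold Curv2.deg
    push_cast
    ring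
  change Curv2.euler k C (Coh.structureModule C) - Curv2.euler k C (Omega.conormal i) = _
  linarith

end Groth.Agent.S19625
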