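import Groth.Statements.S19626
import Groth.Agent.S14451
import Groth.Agent.S0101
import Groth.Agent.Etcore.RpushLoc
import Groth.Agent.EtpbcB.BCFlat
import Mathlib.AlgebraicGeometry.Geometrically.Connected

set_option autoImplicit false
universe u
open CategoryTheory CategoryTheory.Limits AlgebraicGeometry Opposite
open EtCore

namespace Groth.Agent.S19626

theorem geometricallyConnected_id (X : Scheme.{u}) : GeometricallyConnected (𝟙 X) := by
  refine ⟨fun K _ y Z fst snd h => ?_⟩
  have h1 : IsIso snd := h.isIso_snd_of_isIso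
  have h2 : ConnectedSpace ↥(Spec (CommRingCat.of K)) :=
    inferInstanceAs (ConnectedSpace (PrimeSpectrum K))
  have h3 := (TopCat.homeoOfIso (asIso snd.base)).symm
  exact h3.surjective.connectedSpace h3.continuous

/-- étale base change in degree zero. -/
theorem isIso_baseChange0_of_etale {X Y X' Y' : Scheme.{u}} {f : X ⟶ Y} {g : Y' ⟶ Y} {f' : X' ⟶ Y'}
    {g' : X' ⟶ X} (H : IsPullback g' f' f g) [Etale g] (F : EtCoh.Ab X) :
    IsIso (EtCoh.baseChange0 f g f' g' H.w F) := by
  refine EtpbcB.BCFlat.isIso_baseChange0_of_factor H F fun U y =>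
    ⟨U.left, U.left, 𝟙 _, 𝟙 _, U.hom ≫ g, inferInstance, ⟨y, rfl⟩, inferInstance, ?_, inferInstance,
      inferInstance, geometricallyConnected_id _⟩
  rfl

theorem subsingleton_of_iso {X : Scheme.{u}} {F G : EtCoh.Ab X} (e : F ≅ G) (n : ℕ)
    (h : Subsingleton (EtCoh.H X F n)) : Subsingleton (EtCoh.H X G n) := by
  have e1 : AddCommGrpCat.of (EtCoh.H X F n) ≅ AddCommGrpCat.of (EtCoh.H X G n) :=
    (EtCoh.HF X n).mapIso e
  exact e1.addCommGroupIsoToAddEquiv.toEquiv.symm.subsingleton

/-- Let f : X → Y be a morphism of schemes and F an abelian sheaf on the small étale site of X which is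
flasque in the sense of étale cohomology: H^q(W, F|_W) = 0 for every étale X-scheme W and every q >
0, where F|_W is the pullback of F along the structure morphism of W. Then the direct image f_*F is
flasque on Y in the same sense: H^q(W', (f_*F)|_{W'}) = 0 for every étale Y-scheme W' and every q >
0. -/
theorem result {X Y : Scheme.{u}} (f : X ⟶ Y)
    (F : EtCoh.Ab X)
    (hF : ∀ (W : X.Etale) (q : ℕ), 0 < q → Subsingleton (EtCoh.H W.left ((EtCoh.pull W.hom).obj F) q))
    (W' : Y.Etale) (q : ℕ) (hq : 0 < q) :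
    Subsingleton (EtCoh.H W'.left ((EtCoh.pull W'.hom).obj ((EtCoh.push f).obj F)) q) := by
  have hW : Etale W'.hom := W'.prop
  have H : IsPullback (pullback.snd W'.hom f) (pullback.fst W'.hom f) f W'.hom :=
    (IsPullback.of_hasPullback W'.hom f).flip
  have hs : Etale (pullback.snd W'.hom f) := inferInstance
  have hi := isIso_baseChange0_of_etale H F
  refine subsingleton_of_iso (asIso (EtCoh.baseChange0 f W'.hom (pullback.fst W'.hom f)
    (pullback.snd W'.hom f) H.w F)).symm q ?_
  have := S0101.result (pullback.fst W'.hom f)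
  have hR : ∀ q : ℕ, 0 < q → IsZero ((EtCoh.Rpush (pullback.fst W'.hom f) q).obj
      ((EtCoh.pull (pullback.snd W'.hom f)).obj F)) := by
    intro n hn
    obtain ⟨n, rfl⟩ := Nat.exists_eq_succ_of_ne_zero hn.ne'
    rw [Etcore.RpushLoc.isZero_Rpush_iff]
    intro V ξ v
    refine ⟨V, 𝟙 _, v, rfl, ?_⟩
    have h0 : ξ = 0 := by
      have hV : Etale (Etcore.RpushLoc.pr (pullback.fst W'.hom f) V) := inferInstance
      have h1 := hF (Scheme.Etale.mk (Etcore.RpushLoc.pr (pullback.fst W'.hom f) V ≫
        pullback.snd W'.hom f)) (n + 1) (Nat.succ_pos _)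
      have h2 := subsingleton_of_iso ((EtCore.pullComp (Etcore.RpushLoc.pr (pullback.fst W'.hom f) V)
        (pullback.snd W'.hom f)).app F) (n + 1) h1
      exact Subsingleton.elim (h := h2) _ _
    rw [h0, map_zero]
  have h3 := S14451.result (pullback.fst W'.hom f) ((EtCoh.pull (pullback.snd W'.hom f)).obj F) hR q
  have h4 : Subsingleton (EtCoh.H (pullback W'.hom f) ((EtCoh.pull (pullback.snd W'.hom f)).obj F) q) :=
    hF (Scheme.Etale.mk (pullback.snd W'.hom f)) q hq
  exact h3.1.subsingleton

end Groth.Agent.S19626
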