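import Groth.Statements.S19628
import Groth.Agent.DeRham.K852.Maps
import Groth.Agent.S15295
import Mathlib.RingTheory.Flat.Basic

set_option autoImplicit false
universe u
open DeRham

namespace Groth.Agent.S19628

open scoped TensorProduct in
theorem exists_lTensor_eq {k K : Type*} [Field k] [Field K] [Algebra k K] {V W : Type*}
    [AddCommGroup V] [Module k V] [AddCommGroup W] [Module k W] (d : V →ₗ[k] W)
    (z : K ⊗[k] V) (h0 : d.lTensor K z = 0) : ∃ w, (LinearMap.ker d).subtype.lTensor K w = z :=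
  (Module.Flat.lTensor_exact K d.exact_subtype_ker_map z).mp h0

open exteriorPower in
open scoped TensorProduct in
theorem main
    (k K : Type u) [Field k] [Field K] [CharZero k] [Algebra k K]
    (A A' : Type u) [CommRing A] [CommRing A'] [Algebra k A] [Algebra.Smooth k A]
    [Algebra A A'] [Algebra k A'] [IsScalarTower k A A'] [Algebra K A'] [IsScalarTower k K A']
    [Algebra.IsPushout k K A A']
    (d : ∀ p : ℕ, ↥(⋀[A]^p (Ω[A⁄k])) →ₗ[k] ↥(⋀[A]^(p + 1) (Ω[A⁄k])))
    (hd : DeRham.IsDiff (KaehlerDifferential.D k A) d)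
    (d' : ∀ p : ℕ, ↥(⋀[A']^p (Ω[A'⁄K])) →ₗ[K] ↥(⋀[A']^(p + 1) (Ω[A'⁄K])))
    (hd' : DeRham.IsDiff (KaehlerDifferential.D K A') d')
    (ψ : ∀ p : ℕ, ↥(⋀[A]^p (Ω[A⁄k])) →+ ↥(⋀[A']^p (Ω[A'⁄K])))
    (hψ : DeRham.IsCxMap (KaehlerDifferential.D k A) (KaehlerDifferential.D K A') (algebraMap A A') ψ)
    (hcomm : ∀ (p : ℕ) (x : ↥(⋀[A]^p (Ω[A⁄k]))), ψ (p + 1) (d p x) = d' p (ψ p x))
    (p : ℕ) :
    Submodule.span K (ψ p '' (DeRham.cocycles d p : Set ↥(⋀[A]^p (Ω[A⁄k])))) = DeRham.cocycles d' p ∧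
      Submodule.span K (ψ p '' (DeRham.coboundaries d p : Set ↥(⋀[A]^p (Ω[A⁄k])))) =
        DeRham.coboundaries d' p := by
  have hgen := K852.DR.kaehler_span k A
  -- `ψ` is `k`-linear
  have hψk : ∀ (p : ℕ) (c : k) (x : ↥(⋀[A]^p (Ω[A⁄k]))), ψ p (c • x) = algebraMap k K c • ψ p x := by
    intro p c x
    rw [← algebraMap_smul A c x, K852.DR.isCxMap_smul hgen hψ, ← IsScalarTower.algebraMap_apply,
      IsScalarTower.algebraMap_apply k K A', algebraMap_smul]
  -- the comparison map
  let Φ : ∀ p : ℕ, K ⊗[k] ↥(⋀[A]^p (Ω[A⁄k])) →+ ↥(⋀[A']^p (Ω[A'⁄K])) := fun p =>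
    TensorProduct.liftAddHom
      { toFun := fun s => (AddMonoidHom.mk' (fun y : ↥(⋀[A']^p (Ω[A'⁄K])) => s • y)
            (fun a b => smul_add _ _ _)).comp (ψ p)
        map_zero' := by ext x : 1; exact zero_smul K _
        map_add' := fun a b => by ext x : 1; exact add_smul a b _ }
      (fun c s x => by
        change (c • s) • ψ p x = s • ψ p (c • x)
        rw [hψk, smul_smul, Algebra.smul_def, mul_comm])
  have hΦ : ∀ (p : ℕ) (s : K) (x : ↥(⋀[A]^p (Ω[A⁄k]))), Φ p (s ⊗ₜ[k] x) = s • ψ p x :=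
    fun p s x => rfl
  have hbij : ∀ p, Function.Bijective (Φ p) := fun p =>
    Groth.Agent.S15295.result k K A A' ψ hψ p (Φ p) (hΦ p)
  have hdΦ : ∀ (p : ℕ) (z : K ⊗[k] ↥(⋀[A]^p (Ω[A⁄k]))),
      d' p (Φ p z) = Φ (p + 1) ((d p).lTensor K z) := by
    intro p z
    induction z with
    | zero => simp
    | add x y hx hy => rw [map_add, map_add, hx, hy, map_add, map_add]
    | tmul s x => rw [hΦ, map_smul, ← hcomm, LinearMap.lTensor_tmul, hΦ]
  have hmem : ∀ (p : ℕ) (V : Submodule k ↥(⋀[A]^p (Ω[A⁄k]))) (z : K ⊗[k] V),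
      Φ p (V.subtype.lTensor K z) ∈ Submodule.span K (ψ p '' (V : Set ↥(⋀[A]^p (Ω[A⁄k])))) := by
    intro p V z
    induction z with
    | zero => rw [map_zero, map_zero]; exact zero_mem _
    | add x y hx hy => rw [map_add, map_add]; exact add_mem hx hy
    | tmul s x =>
      rw [LinearMap.lTensor_tmul, hΦ]
      exact Submodule.smul_mem _ _ (Submodule.subset_span ⟨_, x.2, rfl⟩)
  constructor
  · apply le_antisymm
    · rw [Submodule.span_le]
      rintro _ ⟨x, hx, rfl⟩
      change d' p (ψ p x) = 0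
      have hx' : d p x = 0 := hx
      rw [← hcomm, hx', map_zero]
    · intro y hy
      obtain ⟨z, rfl⟩ := (hbij p).2 y
      have hy' : d' p (Φ p z) = 0 := hy
      rw [hdΦ] at hy'
      have h0 : (d p).lTensor K z = 0 := (hbij (p + 1)).1 (by rw [hy', map_zero])
      obtain ⟨w, rfl⟩ := exists_lTensor_eq (d p) z h0
      exact hmem p _ w
  · cases p with
    | zero =>
      change Submodule.span K (ψ 0 '' {0}) = ⊥
      rw [Set.image_singleton, map_zero, Submodule.span_zero_singleton]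
    | succ p =>
      apply le_antisymm
      · rw [Submodule.span_le]
        rintro _ ⟨_, ⟨x, rfl⟩, rfl⟩
        exact ⟨ψ p x, (hcomm p x).symm⟩
      · rintro _ ⟨w, rfl⟩
        obtain ⟨z, rfl⟩ := (hbij p).2 w
        rw [hdΦ]
        have h1 : (d p).lTensor K z = (LinearMap.range (d p)).subtype.lTensor K
            ((d p).rangeRestrict.lTensor K z) := by
          rw [← LinearMap.comp_apply, ← LinearMap.lTensor_comp]
          rfl
        rw [h1]
        exact hmem (p + 1) _ _


open exteriorPower in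
/-- In the affine case, at ring level, let k ⊆ K be an extension of fields of characteristic zero, A a
smooth k-algebra and A' = K ⊗_k A (a pushout square of commutative rings with the scalar-tower
conventions). Let d be the de Rham differential of A over k, d' that of A' over K, and ψ the map of
de Rham complexes induced by A → A', assumed compatible with d and d'. Then for every p the K-span
of ψ(closed p-forms of A/k) is the module of closed p-forms of A'/K, and the K-span of ψ(exact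
p-forms of A/k) is the module of exact p-forms of A'/K. Together with the degreewise base-change
bijection for exterior powers of differentials, this says that the natural map H^p_dR(A/k) ⊗_k K →
H^p_dR(A'/K) is an isomorphism. (The source states the isomorphism H^i_dR(X) ⊗_k K ≅ H^i_dR(X_K) for
a smooth variety X, induced by a quasi-isomorphism of complexes; this row is the case of an affine
X, phrased through closed and exact forms.) -/
theorem result
    (k K : Type u) [Field k] [Field K] [CharZero k] [Algebra k K]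
    (A A' : Type u) [CommRing A] [CommRing A'] [Algebra k A] [Algebra.Smooth k A]
    [Algebra A A'] [Algebra k A'] [IsScalarTower k A A'] [Algebra K A'] [IsScalarTower k K A']
    [Algebra.IsPushout k K A A']
    (d : ∀ p : ℕ, ↥(⋀[A]^p (Ω[A⁄k])) →ₗ[k] ↥(⋀[A]^(p + 1) (Ω[A⁄k])))
    (hd : DeRham.IsDiff (KaehlerDifferential.D k A) d)
    (d' : ∀ p : ℕ, ↥(⋀[A']^p (Ω[A'⁄K])) →ₗ[K] ↥(⋀[A']^(p + 1) (Ω[A'⁄K])))
    (hd' : DeRham.IsDiff (KaehlerDifferential.D K A') d')
    (ψ : ∀ p : ℕ, ↥(⋀[A]^p (Ω[A⁄k])) →+ ↥(⋀[A']^p (Ω[A'⁄K])))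
    (hψ : DeRham.IsCxMap (KaehlerDifferential.D k A) (KaehlerDifferential.D K A') (algebraMap A A') ψ)
    (hcomm : ∀ (p : ℕ) (x : ↥(⋀[A]^p (Ω[A⁄k]))), ψ (p + 1) (d p x) = d' p (ψ p x))
    (p : ℕ) :
    Submodule.span K (ψ p '' (DeRham.cocycles d p : Set ↥(⋀[A]^p (Ω[A⁄k])))) = DeRham.cocycles d' p ∧
      Submodule.span K (ψ p '' (DeRham.coboundaries d p : Set ↥(⋀[A]^p (Ω[A⁄k])))) =
        DeRham.coboundaries d' p := by
  exact main k K A A' d hd d' hd' ψ hψ hcomm p

end Groth.Agent.S19628
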