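import Groth.Statements.S19632
import Groth.Agent.DeRham.K852.Laurent

set_option autoImplicit false
universe u
open DeRham

namespace Groth.Agent.S19632

/-- Let k be a field of characteristic zero and G_m = Spec k[t, t⁻¹] the multiplicative group. The
kernel of the differential d : k[t, t⁻¹] → Ω¹ of the de Rham complex of G_m consists of the
constants: for a Laurent polynomial f, df = 0 if and only if f lies in the image of k. Equivalently
H^0_dR(G_m/k) = k. (Characteristic zero is used: in characteristic p the element t^p is closed.) -/
theorem result (k : Type u) [Field k] [CharZero k]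
    (f : LaurentPolynomial k) :
    KaehlerDifferential.D k (LaurentPolynomial k) f = 0 ↔ f ∈ Set.range (algebraMap k (LaurentPolynomial k)) := by
  rw [K852.DR.D_eq_zero_iff]
  constructor
  · intro h
    refine ⟨f.coeff 0, ?_⟩
    rw [← LaurentPolynomial.C_eq_algebraMap]
    apply LaurentPolynomial.ext
    intro n
    rw [LaurentPolynomial.C_apply]
    split_ifs with hn
    · rw [hn]
    · have h1 := K852.DR.coeff_lder k f (n - 1)
      rw [h] at h1
      simp only [AddMonoidAlgebra.coeff_zero, Finsupp.coe_zero, Pi.zero_apply, sub_add_cancel,
        Int.cast_sub, Int.cast_one] at h1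
      rcases mul_eq_zero.mp h1.symm with h2 | h2
      · exact absurd (Int.cast_eq_zero.mp h2) hn
      · exact h2.symm
  · rintro ⟨a, rfl⟩
    rw [← K852.DR.D_eq_zero_iff, Derivation.map_algebraMap]

end Groth.Agent.S19632
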