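import Groth.Statements.S19633
import Groth.Agent.DeRham.K852.Laurent

set_option autoImplicit false
universe u
open DeRham

namespace Groth.Agent.S19633

open exteriorPower in
/-- Let k be a field of characteristic zero, G_m = Spec k[t, t⁻¹], and d the de Rham differential of
k[t, t⁻¹] over k. Then: every 1-form is closed; the exact 1-forms and the k-line spanned by t⁻¹ dt
are complementary subspaces of the 1-forms, and t⁻¹ dt is not exact — so H^1_dR(G_m/k) is
one-dimensional, generated by the class of dt/t (the isomorphism with k being the residue); and for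
every i ≥ 2 the closed i-forms are exact, so H^i_dR(G_m/k) = 0 for i > 1. (Characteristic zero is
used in the computation of the exact forms.) -/
theorem result (k : Type u) [Field k] [CharZero k]
    (d : ∀ p : ℕ, ↥(⋀[LaurentPolynomial k]^p (Ω[LaurentPolynomial k⁄k])) →ₗ[k] ↥(⋀[LaurentPolynomial k]^(p + 1) (Ω[LaurentPolynomial k⁄k])))
    (hd : DeRham.IsDiff (KaehlerDifferential.D k (LaurentPolynomial k)) d) :
    DeRham.cocycles d 1 = ⊤ ∧
    IsCompl (DeRham.coboundaries d 1)
      (Submodule.span k {DeRham.gen (KaehlerDifferential.D k (LaurentPolynomial k)) 1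
        (LaurentPolynomial.T (-1)) (fun _ => LaurentPolynomial.T 1)}) ∧
    DeRham.gen (KaehlerDifferential.D k (LaurentPolynomial k)) 1
        (LaurentPolynomial.T (-1)) (fun _ => LaurentPolynomial.T 1) ∉ DeRham.coboundaries d 1 ∧
    ∀ i : ℕ, DeRham.cocycles d (i + 2) ≤ DeRham.coboundaries d (i + 2) := by
  have hgen := K852.DR.kaehler_span k (LaurentPolynomial k)
  set ω₀ : Ω[LaurentPolynomial k⁄k] := KaehlerDifferential.D k (LaurentPolynomial k)
    (LaurentPolynomial.T 1) with hω₀
  have hspan : Submodule.span (LaurentPolynomial k) (Set.range (fun _ : Fin 1 => ω₀)) = ⊤ := by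
    rw [eq_top_iff]
    rintro x -
    obtain ⟨g, rfl⟩ := (K852.DR.laurentEquiv k).surjective x
    rw [K852.DR.laurentEquiv_apply]
    exact Submodule.smul_mem _ _ (Submodule.subset_span ⟨0, rfl⟩)
  have hsub : ∀ i : ℕ, Subsingleton ↥(⋀[LaurentPolynomial k]^(i + 2) (Ω[LaurentPolynomial k⁄k])) :=
    fun i => K852.DR.subsingleton_of_span _ hspan _ (by simp)
  -- identification of one-forms with Laurent polynomials
  let e : LaurentPolynomial k ≃ₗ[LaurentPolynomial k]
      ↥(⋀[LaurentPolynomial k]^1 (Ω[LaurentPolynomial k⁄k])) :=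
    (K852.DR.laurentEquiv k).trans (oneEquiv (LaurentPolynomial k) _).symm
  have he : ∀ g, e g = DeRham.gen (KaehlerDifferential.D k (LaurentPolynomial k)) 1 g
      (fun _ => LaurentPolynomial.T 1) := by
    intro g
    change (oneEquiv (LaurentPolynomial k) _).symm (K852.DR.laurentEquiv k g) = _
    rw [K852.DR.laurentEquiv_apply, map_smul, oneEquiv_symm_apply, DeRham.gen]
  have hd0 : ∀ f : LaurentPolynomial k, d 0 (DeRham.gen (KaehlerDifferential.D k _) 0 f Fin.elim0) =
      e (K852.DR.lder k f) := by
    intro f
    rw [K852.DR.d_gen hd.1, he, DeRham.gen]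
    apply Subtype.ext
    rw [K852.DR.wedge1_coe, Submodule.coe_smul, ιMulti_apply_coe, ιMulti_apply_coe,
      ExteriorAlgebra.ιMulti_apply, ExteriorAlgebra.ιMulti_apply, K852.DR.D_eq_lder]
    simp
  have hcob : ∀ x, x ∈ DeRham.coboundaries d 1 ↔ ∃ f, x = e (K852.DR.lder k f) := by
    intro x
    constructor
    · rintro ⟨y, rfl⟩
      refine ⟨exteriorPower.zeroEquiv (LaurentPolynomial k) _ y, ?_⟩
      rw [← hd0]
      congr 1
      apply (exteriorPower.zeroEquiv (LaurentPolynomial k) (Ω[LaurentPolynomial k⁄k])).injective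
      rw [DeRham.gen, map_smul, zeroEquiv_ιMulti, smul_eq_mul, mul_one]
    · rintro ⟨f, rfl⟩
      exact ⟨_, hd0 f⟩
  have hT : DeRham.gen (KaehlerDifferential.D k (LaurentPolynomial k)) 1
        (LaurentPolynomial.T (-1)) (fun _ => LaurentPolynomial.T 1) = e (LaurentPolynomial.T (-1)) :=
    (he _).symm
  have hres : ∀ f : LaurentPolynomial k, (K852.DR.lder k f).coeff (-1) = 0 := by
    intro f
    rw [K852.DR.coeff_lder]
    simp
  have hnot : ∀ c : k, c • (LaurentPolynomial.T (-1) : LaurentPolynomial k) ∈
      Set.range (K852.DR.lder k) → c = 0 := by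
    rintro c ⟨f, hf⟩
    have := hres f
    rw [hf] at this
    simpa using this
  refine ⟨?_, ?_, ?_, ?_⟩
  · rw [eq_top_iff]
    rintro x -
    exact @Subsingleton.elim _ (hsub 0) _ _
  · rw [hT]
    constructor
    · rw [Submodule.disjoint_def]
      intro x hx hx'
      obtain ⟨f, rfl⟩ := (hcob x).mp hx
      rw [Submodule.mem_span_singleton] at hx'
      obtain ⟨c, hc⟩ := hx'
      have h1 : c • (LaurentPolynomial.T (-1) : LaurentPolynomial k) = K852.DR.lder k f := by
        apply e.injective
        rw [← hc, ← algebraMap_smul (LaurentPolynomial k) c, map_smul, algebraMap_smul]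
      have h2 := hnot c ⟨f, h1.symm⟩
      rw [← hc, h2, zero_smul]
    · rw [codisjoint_iff, eq_top_iff]
      rintro x -
      obtain ⟨g, rfl⟩ := e.surjective x
      induction g using LaurentPolynomial.induction_on' with
      | add p q hp hq => rw [map_add]; exact Submodule.add_mem _ hp hq
      | C_mul_T n a =>
        by_cases hn : n = -1
        · subst hn
          apply Submodule.mem_sup_right
          rw [Submodule.mem_span_singleton]
          refine ⟨a, ?_⟩
          rw [← LaurentPolynomial.smul_eq_C_mul, ← algebraMap_smul (LaurentPolynomial k) a, ← map_smul,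
            algebraMap_smul]
        · apply Submodule.mem_sup_left
          rw [hcob]
          refine ⟨LaurentPolynomial.C (a / (n + 1)) * LaurentPolynomial.T (n + 1), ?_⟩
          rw [K852.DR.lder_C_mul_T, add_sub_cancel_right]
          congr 3
          have h1 : ((n : k) + 1) ≠ 0 := by
            intro h
            apply hn
            have : ((n + 1 : ℤ) : k) = 0 := by push_cast; exact h
            have := Int.cast_eq_zero.mp this
            omega
          push_cast
          field_simp
  · rw [hT, hcob]
    rintro ⟨f, hf⟩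
    have h1 := hnot 1 ⟨f, by rw [one_smul]; exact e.injective hf.symm⟩
    exact one_ne_zero h1
  · intro i x _
    rw [@Subsingleton.elim _ (hsub i) x 0]
    exact Submodule.zero_mem _

end Groth.Agent.S19633
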