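import Groth.Statements.S19635
import Groth.Agent.DeRham.K852.Node

set_option autoImplicit false
universe u
open DeRham

namespace Groth.Agent.S19635

/-- Let k be a field of characteristic zero and A = k[X, Y]/(XY), the coordinate ring of two affine
lines crossing in a point. The differential d : A → Ω¹_{A/k} of the naive de Rham complex is not
surjective, so the naive H^1 of this singular curve does not vanish although one expects trivial
cohomology; this is the example motivating the h-topology definition. -/
theorem result (k : Type u) [Field k] [CharZero k] :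
    ¬ Function.Surjective (KaehlerDifferential.D k (MvPolynomial (Fin 2) k ⧸ Ideal.span {(MvPolynomial.X 0 * MvPolynomial.X 1 : MvPolynomial (Fin 2) k)})) := by
  intro hsurj
  obtain ⟨P, hP⟩ := hsurj ((Ideal.Quotient.mk _ (MvPolynomial.X 0) : K852.Node.NodeRing k) •
      KaehlerDifferential.D k (K852.Node.NodeRing k) (Ideal.Quotient.mk _ (MvPolynomial.X 1)))
  apply K852.Node.X_dY_ne_zero k
  rw [← hP]
  have hc : P ∈ Set.range (algebraMap k (K852.Node.NodeRing k)) := by
    refine K852.Node.eq_const k P fun i => ?_
    obtain ⟨F, hFs, hF⟩ := K852.Node.D_algHom k (K852.Node.nsub k i)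
    rw [← hF, hP, hFs, hF, K852.Node.nsub_mk, K852.Node.nsub_mk]
    fin_cases i
    · simp [K852.Node.sub]
    · simp [K852.Node.sub]
  obtain ⟨a, rfl⟩ := hc
  rw [Derivation.map_algebraMap]

end Groth.Agent.S19635
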