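import Groth.Statements.S19637
import Groth.Agent.StMod.K862.FinRow
import Groth.Agent.StMod.K949.FinRep
import Groth.Agent.StMod.K563.FinCl
import Groth.Agent.StMod.K943.DiagClosed
import Groth.Agent.StMod.K748.GoodFp
import Groth.Agent.StMod.K906.DiagPi

set_option autoImplicit false
universe u
open CategoryTheory AlgebraicGeometry
open StMod

namespace Groth.Agent.S19637

/-- Let `S` be a quasi-separated scheme, `𝒳` a Noetherian algebraic stack over `(Sch/S)` for the fppf
topology (quasi-compact, every smooth scheme chart locally Noetherian) whose diagonal over `S` is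
representable by algebraic spaces and affine, `M` an algebraic space over `S` quasi-separated over
`S`, and `π : 𝒳 ⟶ M` a quasi-compact quasi-separated good moduli space. If the diagonal of `𝒳` over
`S` is moreover quasi-finite (locally quasi-finite, locally of finite type and quasi-compact), then
the diagonal `𝒳 ⟶ 𝒳 ×_M 𝒳` of `π` is representable by algebraic spaces and finite, and `π` is
separated (its diagonal is proper). Here a good moduli space is a morphism to an algebraic space
along which pushforward takes surjections of quasi-coherent modules to maps surjective on sections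
over every affine scheme etale over the target, and for which the canonical map from the functions
on any scheme etale over the target to the sections of the pushforward of the structure sheaf is
bijective. (The published statement concludes that the diagonal of `𝒳` itself is finite; for the
affine line with a doubled origin over a field, mapping identically to itself as its own good moduli
space, that diagonal is affine and quasi-finite but not a closed immersion. The published argument
establishes that the diagonal of `π` is finite, equivalently that `π` is separated, which is the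
statement here; the two agree when `M` is separated. Diagonals are taken over the base scheme `S`.) -/
theorem result
    (S : Scheme.{u}) [QuasiSeparatedSpace S]
    (𝒳 : AlgSt.Cat S) (h𝒳 : AlgSt.IsAlgStack Scheme.fppfPrecoverage 𝒳)
    (hN : AlgSt.SmoothLocally (fun T => IsLocallyNoetherian T) 𝒳) (hq : AlgSt.IsQuasiCompact 𝒳)
    (hd : AlgSt.RepByAlgSpWith AlgSp.IsAffineMor (FibCat.diag (FibCat.toSelf 𝒳)))
    (M : AlgSp.Space S) (hM : AlgSp.IsQuasiSeparatedSp M.obj)
    (π : 𝒳 ⥤ᵇ AlgSt.ofSp M.obj)
    (hqc : AlgSt.IsQuasiCompactMor Scheme.fppfPrecoverage π) (hqs : AlgSt.IsQuasiSeparatedMor π)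
    (hπ : StMod.IsGoodModuli π)
    (hΔ : AlgSt.RepByAlgSpWith
      (AlgSp.LocP (@LocallyQuasiFinite ⊓ @LocallyOfFiniteType) ⊓ AlgSp.IsQuasiCompactMor)
      (FibCat.diag (FibCat.toSelf 𝒳))) :
    AlgSt.RepByAlgSpWith AlgSp.IsFiniteMor (FibCat.diag π) ∧ AlgSt.IsSeparatedMor π := by
  have hfp : AlgSt.IsAlgStack Scheme.fppfPrecoverage (FibCat.fp π π) := K907.GoodFp.isAlgStack_fp h𝒳 M π h𝒳 π
  obtain ⟨h1, h2, h3⟩ := K748.GoodFp.isGoodModuli_fp h𝒳 M hM π hqc hqs hπ
  have hqfp : AlgSt.IsQuasiCompact (FibCat.fp π π) := hqc 𝒳 h𝒳 hq π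
  have hdfp : AlgSt.RepByAlgSpWith AlgSp.IsQuasiCompactMor (FibCat.diag (FibCat.toSelf (FibCat.fp π π))) :=
    K563.QsDiag.diag_isQuasiCompactMor hfp M.property hM _ h2
  have hdX : AlgSt.RepByAlgSpWith AlgSp.IsQuasiCompactMor (FibCat.diag (FibCat.toSelf 𝒳)) :=
    K563.QsDiag.diag_isQuasiCompactMor h𝒳 M.property hM _ hqs
  have hclfp : ∀ W : Set (AlgSt.Points (FibCat.fp π π)), IsClosed W → W.Nonempty →
      ∃ x ∈ W, IsClosed ({x} : Set (AlgSt.Points (FibCat.fp π π))) :=
    fun W hW hne => K563.FinCl.exists_closed_qc hfp hqfp hdfp W hW hne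
  have hdiag := K906.DiagPi.repByAlgSpWith_diag h𝒳 M π hd hΔ
  have hid : AlgSp.IsFiniteMor (𝟙 M.obj) := fun Z hZ g =>
    ⟨Z, 𝟙 Z, g, by
      rw [CategoryTheory.Functor.map_id]
      exact IsPullback.of_vert_isIso ⟨by simp⟩, hZ, by
      change IsFinite (𝟙 Z.left)
      infer_instance⟩
  have hfin : AlgSt.RepByAlgSpWith AlgSp.IsFiniteMor (FibCat.diag π) := by
    refine K949.FinRep.repByAlgSpWith_finite hfp.isStack.1 h𝒳.isStack.1 (FibCat.diag π) hdiag ?_
    exact K862.FinRow.isRep_finite S 𝒳 (FibCat.fp π π) h𝒳 hfp M M hM hM π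
      (BasedFunctor.comp (FibCat.fpFst π π) π) hqc hqs hπ h1 h2 h3 (FibCat.diag π) (𝟙 M.obj)
      (Iso.refl π) (K949.QfRep.isRep_qfSep hfp.isStack.1 (FibCat.diag π) hdiag) hid
      (fun W hW hne => K563.FinCl.exists_closed_qc h𝒳 hq hdX W hW hne) hclfp
      (fun x hx => K943.DiagClosed.isClosed_map_diag h𝒳 M hM π hqc hqs hπ hclfp x hx)
  exact ⟨hfin, K906.DiagPi.isSeparatedMor_of_finite h𝒳 M π hfin⟩

end Groth.Agent.S19637
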