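import Groth.Statements.S19639
import Groth.Agent.AlgSt.K737.InvU
import Groth.Agent.AlgSt.K737.TermAff

set_option autoImplicit false
universe u
open CategoryTheory AlgebraicGeometry
open AlgSt

namespace Groth.Agent.S19639

/-- Let `k` be an algebraically closed field, `𝒳` an algebraic stack over `(Sch/Spec k)` for the fppf
topology which is of finite type over `k` (locally of finite type and quasi-compact) with diagonal
over `k` representable by algebraic spaces and affine, `H` a commutative Hopf algebra of finite type
over `k` which is linearly reductive (every finite-dimensional comodule semisimple), so that `G =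
Spec H` is a linearly reductive affine algebraic group, and `A` a finitely generated commutative
`k`-algebra with a coaction of `H` that is an algebra map (an action of `G` on `Spec A`). Let `f :
[Spec A/G] ⟶ 𝒳` be a functor over `(Sch/Spec k)`, where `[Spec A/G]` is the fppf quotient stack of
`G`-torsors that are schemes with an equivariant map to `Spec A` (the action used on torsors is `g ·
a = a · g⁻¹` for the right action `a · g` the coaction defines; orbits and invariant opens are the
same for both). Let `w` be a `k`-point of `Spec A` whose `G`-orbit is closed, and suppose that `f`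
induces an isomorphism of stabilizer groups at the `k`-point of `[Spec A/G]` defined by `w`: for
every scheme `T` over `Spec k` the map on automorphism groups over `T` from the trivial torsor with
its equivariant map through `w` to its image under `f` is bijective. Then there is an affine open `U
⊆ Spec A` containing `w` and stable under `G` (its preimages under the action map and the projection
`Spec A × G ⟶ Spec A` agree) such that the restriction of `f` to the full substack `[U/G]` of `[Spec
A/G]` on the objects whose equivariant map to `Spec A` lands in `U` is representable by algebraic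
spaces and affine. (The published statement asks `f` to be of finite type rather than `A` to be
finitely generated; since `𝒳` is of finite type over `k` with affine diagonal the two are
equivalent.) -/
theorem result
    (k : Type u) [Field k] [IsAlgClosed k]
    (𝒳 : AlgSt.Cat (Spec (CommRingCat.of k))) (h𝒳 : AlgSt.IsAlgStack Scheme.fppfPrecoverage 𝒳)
    (hft : AlgSt.LocQ (AlgSp.LocP @LocallyOfFiniteType) (FibCat.toSelf 𝒳)) (hq : AlgSt.IsQuasiCompact 𝒳)
    (hd : AlgSt.RepByAlgSpWith AlgSp.IsAffineMor (FibCat.diag (FibCat.toSelf 𝒳)))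
    (H : Type u) [CommRing H] [HopfAlgebra k H] [Algebra.FiniteType k H] (hlr : HopfRep.IsLinearlyReductive k H)
    (A : Type u) [CommRing A] [Algebra k A] [Algebra.FiniteType k A] [HopfRep.Comod k H A] [GLin.IsCoactAlg k H A]
    (f : AlgSt.QuotSt Scheme.fppfPrecoverage (CoactBr.sp k H) (CoactBr.action k H A) ⥤ᵇ 𝒳)
    (w : A →ₐ[k] k) (hw : GLin.IsClosedOrbit k H w)
    (hst : ∀ T : Over (CoactBr.sp k k), Function.Bijective
      (Gerb.autMap f ((BasedFunctor.comp (AlgSt.overMap (CoactBr.pt w))
        (BasedFunctor.comp (AlgSt.ofOverCat (CoactBr.sp k A))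
          (AlgSt.quotMap Scheme.fppfPrecoverage (CoactBr.sp k H) (CoactBr.action k H A)))).obj T))) :
    ∃ U : (CoactBr.sp k A).left.Opens,
      IsAffineOpen U ∧ (CoactBr.pt w).left ⁻¹ᵁ U = ⊤ ∧
      (CoactBr.ract k H A).left ⁻¹ᵁ U =
        (CartesianMonoidalCategory.fst (CoactBr.sp k A) (CoactBr.sp k H)).left ⁻¹ᵁ U ∧
      AlgSt.RepByAlgSpWith AlgSp.IsAffineMor
        (BasedFunctor.comp (AlgSt.subIncl (AlgSt.QuotSt Scheme.fppfPrecoverage (CoactBr.sp k H) (CoactBr.action k H A)) (fun o => o.φ.left ⁻¹ᵁ U = ⊤)) f) := by
  obtain ⟨V, v, hV, hv, hv'⟩ := hq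
  have hcov : (QuotSh.J Scheme.fppfPrecoverage (Spec (CommRingCat.of k))).Subcanonical := inferInstance
  have hG : IsAffineHom (CoactBr.sp k H).hom := by
    have h1 : IsAffine (CoactBr.sp k H).left := inferInstanceAs (IsAffine (Spec (CommRingCat.of H)))
    exact isAffineHom_of_isAffine _
  have hQ : Stk.IsStack (QuotSh.J Scheme.fppfPrecoverage (Spec (CommRingCat.of k)))
      (QuotSt Scheme.fppfPrecoverage (CoactBr.sp k H) (CoactBr.action k H A)) :=
    K750.QuotEff.isStack_quotSt Scheme.fppfPrecoverage_le_fpqcPrecoverage _
  have hst' : ∀ (R : Type u) [CommRing R] [Algebra k R],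
      K737.FrPt.Fr f (CoactBr.pt (Algebra.ofId k R) ≫ CoactBr.pt w) := by
    intro R _ _
    exact K737.FrPt.fr_of_autMap f hQ.1 _ (hst (Over.mk (CoactBr.pt (Algebra.ofId k R)))).1
  obtain ⟨U, hU1, hU2, hU3, o, κ₀, ho, hoφ, huniv⟩ := K737.InvU.exists_U hlr h𝒳.isStack.1 hd v hV hv hv' f w hw hst'
    (K751.Test.isPrestack_of_isStack h𝒳.isStack)
  refine ⟨U, hU1, hU2, hU3, ?_⟩
  refine K737.TermAff.repByAlgSpWith_affine h𝒳 (K737.SubQ.isStack_fullSub hQ U) _ v hv hv' hV
    (w := ⟨o, hoφ⟩) (T₀ := o.base) rfl ho κ₀ ?_
  intro θ β
  obtain ⟨χ, h1, h2⟩ := huniv θ.obj θ.property β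
  exact ⟨ObjectProperty.homMk χ, h1, fun χ' h3 => ObjectProperty.hom_ext _ (h2 χ'.hom h3)⟩

end Groth.Agent.S19639
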