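import Groth.Statements.S19640
import Groth.Agent.StMod.K894.DimStab
import Groth.Agent.StMod.K907.FibreRed
import Groth.Agent.StMod.K394.AutCh

set_option autoImplicit false
universe u
open CategoryTheory AlgebraicGeometry
open StMod

namespace Groth.Agent.S19640

/-- Let `S` be a quasi-separated scheme, `𝒳` a locally Noetherian algebraic stack over `(Sch/S)` for the
fppf topology (every scheme smooth over `𝒳` is locally Noetherian) which is locally of finite type
over `S` and whose diagonal over `S` is representable by algebraic spaces and separated, `M` an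
algebraic space over `S` quasi-separated over `S`, and `π : 𝒳 ⟶ M` a quasi-compact quasi-separated
good moduli space. Let `ξ₁ : (Sch/Spec K₁) ⟶ 𝒳` and `ξ₂ : (Sch/Spec K₂) ⟶ 𝒳` be field-valued points
over `S`, defining points `x₁`, `x₂` of `|𝒳|`, and let `G₁`, `G₂` be group schemes over `Spec K₁`,
`Spec K₂` representing the automorphism presheaves of `ξ₁`, `ξ₂` (their stabilizer group schemes).
If `x₁` is closed in `|𝒳|`, `x₂ ≠ x₁` and `π(x₁) = π(x₂)`, then `dim G₂ < dim G₁` (Krull dimensions
of the underlying topological spaces): in the fibre of `π` over a point, the unique closed point has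
stabilizer of strictly larger dimension than every other point. Here a good moduli space is a
quasi-compact quasi-separated morphism to an algebraic space along which pushforward takes
surjections of quasi-coherent modules to maps surjective on sections over every affine scheme etale
over the target, and for which the canonical map from the functions on any scheme etale over the
target to the sections of the pushforward of the structure sheaf is bijective. (The published
statement assumes only that `𝒳` is locally Noetherian, under the standing conventions that all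
schemes and algebraic spaces are quasi-separated and all stacks have quasi-compact separated
diagonal. This row keeps the separatedness of the diagonal, carries the quasi-separatedness of `M`
over a quasi-separated base scheme and of `π` in place of the other conventions, and assumes
moreover that `𝒳` is locally of finite type over `S`, so that every fibre of `π` is of finite type
over the residue field of its base point: the published argument, which compares the dimension of
the residual gerbe at the closed point with the dimension of the closure of the residual gerbe at a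
point closed in the complement, uses that such a point has residue field algebraic over that of the
base point, which holds for fibres of finite type and is not available for fibres that are merely
locally Noetherian. The published statement concerns the fibre over a closed point of `M`; the image
of a closed point of `|𝒳|` under `|π|` is closed, so this is the same. The stabilizers are a priori
group algebraic spaces; they are taken here as given group schemes.) -/
theorem result
    (S : Scheme.{u}) [QuasiSeparatedSpace S]
    (𝒳 : AlgSt.Cat S) (h𝒳 : AlgSt.IsAlgStack Scheme.fppfPrecoverage 𝒳)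
    (hN : AlgSt.SmoothLocally (fun T => IsLocallyNoetherian T) 𝒳)
    (hft : AlgSt.LocQ (AlgSp.LocP @LocallyOfFiniteType) (FibCat.toSelf 𝒳))
    (hsepΔ : AlgSt.RepByAlgSpWith AlgSp.IsSeparatedMor (FibCat.diag (FibCat.toSelf 𝒳)))
    (M : AlgSp.Space S) (hM : AlgSp.IsQuasiSeparatedSp M.obj) (π : 𝒳 ⥤ᵇ AlgSt.ofSp M.obj)
    (hqc : AlgSt.IsQuasiCompactMor Scheme.fppfPrecoverage π) (hqs : AlgSt.IsQuasiSeparatedMor π)
    (h : StMod.IsGoodModuli π)
    (K₁ : Type u) [Field K₁] (p₁ : Spec (CommRingCat.of K₁) ⟶ S) (ξ₁ : FibCat.overCat (Over.mk p₁) ⥤ᵇ 𝒳)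
    (G₁ : Over (Spec (CommRingCat.of K₁))) [GrpObj G₁] (r₁ : Gerb.AutRep ξ₁ (Gerb.ptsGrp (Over.mk p₁) G₁))
    (K₂ : Type u) [Field K₂] (p₂ : Spec (CommRingCat.of K₂) ⟶ S) (ξ₂ : FibCat.overCat (Over.mk p₂) ⥤ᵇ 𝒳)
    (G₂ : Over (Spec (CommRingCat.of K₂))) [GrpObj G₂] (r₂ : Gerb.AutRep ξ₂ (Gerb.ptsGrp (Over.mk p₂) G₂))
    (h₁ : IsClosed ({AlgSt.Points.ofChart ξ₁ (IsLocalRing.closedPoint K₁)} : Set (AlgSt.Points 𝒳)))
    (hne : AlgSt.Points.ofChart ξ₂ (IsLocalRing.closedPoint K₂) ≠
      AlgSt.Points.ofChart ξ₁ (IsLocalRing.closedPoint K₁))
    (heq : AlgSt.Points.map π (AlgSt.Points.ofChart ξ₂ (IsLocalRing.closedPoint K₂)) =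
      AlgSt.Points.map π (AlgSt.Points.ofChart ξ₁ (IsLocalRing.closedPoint K₁))) :
    topologicalKrullDim ↥G₂.left < topologicalKrullDim ↥G₁.left := by
  obtain ⟨𝒴, κ, _, σ, p, ζ₁, ζ₂, h𝒴, hlft, hqcp, hqsp, ⟨r₁'⟩, ⟨r₂'⟩, hne', hcl', hsp⟩ :=
    K907.FibreRed.exists_fibre S 𝒳 h𝒳 hft M hM π hqc hqs h K₁ p₁ ξ₁ G₁ r₁ K₂ p₂ ξ₂ G₂ r₂ h₁ hne heq
  exact K894.DimStab.stab_lt h𝒴 K394.AutCh.exists_aut σ p hlft hqcp hqsp K₁ p₁ ζ₁ G₁ r₁' K₂ p₂ ζ₂ G₂
    r₂' hne' hcl' hsp

end Groth.Agent.S19640
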