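import Groth.Statements.S19641
import Groth.Agent.AlgSt.K750.QOpen
import Groth.Agent.AlgSt.K750.InvOpen
import Groth.Agent.S12762

set_option autoImplicit false
universe u
open CategoryTheory AlgebraicGeometry MonoidalCategory
open AlgSt

namespace Groth.Agent.S19641

/-- Let `S` be a Noetherian scheme, `𝒳` a locally Noetherian algebraic stack over `(Sch/S)` for the fppf
topology whose diagonal over `S` is representable by algebraic spaces and separated, `H` an affine
group scheme over `S` which is of multiplicative type and of finite type (fpqc-locally on `S`,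
Zariski-locally a diagonalisable group of a finitely generated abelian group), `W` a scheme affine
over `S` with an action of `H`, and `[W/H]` the fppf quotient stack (`H`-torsors that are schemes
with an equivariant map to `W`), assumed to be a locally Noetherian algebraic stack. Let `f : [W/H]
⟶ 𝒳` be a functor over `(Sch/S)`, and let `w : Spec K ⟶ W` be a point over `S` with values in a
field `K` which is fixed by `H` (the action composed with `H × w` is the projection to `Spec K`
followed by `w`) and at which `f` induces an injection of stabilizer groups: for every scheme `T`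
over `Spec K` the map on automorphism groups over `T` from the point of `[W/H]` defined by `w` (the
trivial torsor with its equivariant map through `w`) to its image under `f` is injective. Then there
is an affine open `U ⊆ W` containing the image of `w` and stable under `H` (its preimages under the
action and under the projection `H × W ⟶ W` agree) such that the restriction of `f` to the full
substack `[U/H]` of `[W/H]` on the objects whose equivariant map lands in `U` is representable by
algebraic spaces. (The source says only that `H` is of multiplicative type; it is taken of finite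
type here, and algebraicity and local Noetherianity of `[W/H]` are carried as hypotheses, as in the
source's standing assumptions.) -/
theorem result
    (S : Scheme.{u}) [IsNoetherian S]
    (𝒳 : AlgSt.Cat S) (h𝒳 : AlgSt.IsAlgStack Scheme.fppfPrecoverage 𝒳)
    (hN : AlgSt.SmoothLocally (fun T => IsLocallyNoetherian T) 𝒳)
    (hsep : AlgSt.RepByAlgSpWith AlgSp.IsSeparatedMor (FibCat.diag (FibCat.toSelf 𝒳)))
    (H : Over S) [GrpObj H] [IsAffineHom H.hom] (hH : SGA3x.IsMultTypeFT H)
    (W : Over S) [IsAffineHom W.hom] (aW : AlgGrp.Action H W)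
    (h𝒲 : AlgSt.IsAlgStack Scheme.fppfPrecoverage (AlgSt.QuotSt Scheme.fppfPrecoverage H aW))
    (hN𝒲 : AlgSt.SmoothLocally (fun T => IsLocallyNoetherian T) (AlgSt.QuotSt Scheme.fppfPrecoverage H aW))
    (f : AlgSt.QuotSt Scheme.fppfPrecoverage H aW ⥤ᵇ 𝒳)
    (K : Type u) [Field K] (p : Spec (CommRingCat.of K) ⟶ S) (w : Over.mk p ⟶ W)
    (hfix : (H ◁ w) ≫ aW.act = CartesianMonoidalCategory.snd H (Over.mk p) ≫ w)
    (hst : ∀ T : Over (Over.mk p), Function.Injective
      (Gerb.autMap f ((BasedFunctor.comp (AlgSt.overMap w)
        (BasedFunctor.comp (AlgSt.ofOverCat W) (AlgSt.quotMap Scheme.fppfPrecoverage H aW))).obj T))) :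
    ∃ U : W.left.Opens,
      IsAffineOpen U ∧ w.left ⁻¹ᵁ U = ⊤ ∧
      aW.act.left ⁻¹ᵁ U = (CartesianMonoidalCategory.snd H W).left ⁻¹ᵁ U ∧
      AlgSt.RepByAlgSp1
        (BasedFunctor.comp (AlgSt.subIncl (AlgSt.QuotSt Scheme.fppfPrecoverage H aW) (fun o => o.φ.left ⁻¹ᵁ U = ⊤)) f) := by
  have hG := h𝒳.isStack.1
  have hG' := h𝒲.isStack.1
  have hw : K750.QTriv.TrivW f w.left := K750.QTriv.trivW_of_autMap hG f w hG' hst
  obtain ⟨U, hU, hU₁, hwU, hUs⟩ := K750.InvOpen.exists_affine_stable hH aW (K750.QTriv.T₁ hG f hsep hH)
    (K750.QTriv.T₁_stable hG f hsep hH) K p w hfix (K750.QTriv.T₁_preimage hG f hsep hH w hw)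
  refine ⟨U, hU, hwU, hUs, ?_⟩
  have hop := K899.OpenCrit.isOpenSubstack h𝒲 (K750.QOpen.hasOpenLocus U hUs)
  have hT := K750.QTriv.trivW_of_le hG f hsep hH U hU₁
  exact (Groth.Agent.S12762.result hop.2.1 h𝒳 _).1 (K750.QOpen.faithful hG f U hG' hT)

end Groth.Agent.S19641
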