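import Groth.Statements.S19643
import Groth.Agent.StMod.K894.AffMono
import Groth.Agent.S13574

set_option autoImplicit false
universe u
open CategoryTheory AlgebraicGeometry MonoidalCategory
open StMod

namespace Groth.Agent.S19643

/-- In the case of a point over the base itself with affine fppf stabilizer, let `S` be a
quasi-separated, locally Noetherian scheme, `𝒳` an algebraic stack over `(Sch/S)` for the fppf
topology whose diagonal over `S` is representable by algebraic spaces and affine, `x : (Sch/S) ⟶ 𝒳`
a functor over `(Sch/S)` (an `S`-point), `G` an affine, flat, locally finitely presented group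
scheme over `S` representing the automorphism presheaf of `x` (the stabilizer of `x`), and `ι : BG ⟶
𝒳` a monomorphism over `(Sch/S)` (representable by algebraic spaces and a monomorphism) from the
classifying stack of fppf `G`-torsors that are schemes, whose composite with the canonical `S ⟶ BG`
is isomorphic to `x`. Suppose `G` is linearly reductive over `S`: the structure functor `BG ⟶ S` is
quasi-compact, quasi-separated and cohomologically affine (pushforward along it takes surjections of
quasi-coherent modules to maps surjective on sections over every affine scheme etale over `S`). Then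
`ι` is affine (representable by algebraic spaces and affine). (The source states this for a point
with values in a locally Noetherian scheme `T` over `S`, with target `𝒳 ×_S T` and the stabilizer
any fppf group scheme; this is its case `T = S` with affine stabilizer, the case in which the
classifying stack of scheme torsors is the whole classifying stack. The source's first assertion,
that `ι` is cohomologically affine as a morphism to the stack `𝒳`, is not stated here.) -/
theorem result
    (S : Scheme.{u}) [QuasiSeparatedSpace S] [IsLocallyNoetherian S]
    (𝒳 : AlgSt.Cat S) (h𝒳 : AlgSt.IsAlgStack Scheme.fppfPrecoverage 𝒳)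
    (hΔ : AlgSt.RepByAlgSpWith AlgSp.IsAffineMor (FibCat.diag (FibCat.toSelf 𝒳)))
    (x : FibCat.overCat (Over.mk (𝟙 S)) ⥤ᵇ 𝒳)
    (G : Over S) [GrpObj G] [IsAffineHom G.hom] [Flat G.hom] [LocallyOfFinitePresentation G.hom]
    (r : Gerb.AutRep x (Gerb.ptsGrp (Over.mk (𝟙 S)) G))
    (ι : AlgSt.BG Scheme.fppfPrecoverage G ⥤ᵇ 𝒳) (hι : AlgSt.IsMono ι)
    (eι : BasedFunctor.comp (AlgSt.quotMap Scheme.fppfPrecoverage G (AlgSt.trivAction G)) ι ≅
      BasedFunctor.comp (AlgSt.toOverCat (Over.mk (𝟙 S))) x)
    (σ : AlgSt.BG Scheme.fppfPrecoverage G ⥤ᵇ AlgSt.ofSch (Over.mk (𝟙 S)))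
    (hqc : AlgSt.IsQuasiCompactMor Scheme.fppfPrecoverage σ) (hqs : AlgSt.IsQuasiSeparatedMor σ)
    (hlr : StMod.IsCohAffine σ) :
    AlgSt.RepByAlgSpWith AlgSp.IsAffineMor ι := by
  refine K894.AffMono.repByAlgSpWith_isAffineMor ((Groth.Agent.S13574.result G).2 ⟨inferInstance, inferInstance⟩) h𝒳 hΔ ι hι hqc hlr

end Groth.Agent.S19643
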