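import Groth.Statements.S19648
import Groth.Agent.CycCov.K945.LefStep

set_option autoImplicit false
open CycCov

namespace Groth.Agent.S19648

open CategoryTheory AlgebraicGeometry in
/-- Let n ≥ 4, r ≥ 1, d ≥ 1, let D be a smooth hypersurface in P^n over ℂ given as the divisor of zeros
of a section s of the r-th tensor power of O(d) (so D has degree rd), and let π : Y → P^n together
with its root datum be the simple cyclic cover of degree r branched over D (the relative spectrum of
the sum of the O(−id), 0 ≤ i < r; it is smooth). Then the Picard group of Y is infinite cyclic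
generated by π^*O(1): every invertible O_Y-module is isomorphic to the pull-back of O(m) for exactly
one integer m. (The published statement is made under the section's standing assumptions only —
schemes over ℂ, n ≥ 2, the cover smooth — and asserts this for every such n; it fails for n = 2,
where a double plane branched over a smooth sextic with a tritangent line has a larger Picard group;
this row assumes n ≥ 4. The second assertion of the source, that the pull-back of the branch divisor
is r times the reduced ramification divisor, is not restated here.) -/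
theorem result (n : ℕ) (hn : 4 ≤ n) {Y : Scheme.{0}}
    (r d : ℕ) (hr : 0 < r) (hd : 0 < d) (hL : PicF.IsInvertible (Twist.twistProjSpace n ℂ d))
    (D : Fin 1 → (CohB1.ProjSpace n ℂ).IdealSheafData) (hD : LogNCD.IsNCD D (CohB1.ProjSpace.toSpec n ℂ))
    (s : Coh.structureModule (CohB1.ProjSpace n ℂ) ⟶ CohB1.tensorPow (Twist.twistProjSpace n ℂ d) r)
    (hs : CycCov.IsZeroDiv (CohB1.tensorPow (Twist.twistProjSpace n ℂ d) r) s (CycCov.divIdeal D (fun _ => 1)))
    (π : Y ⟶ CohB1.ProjSpace n ℂ) (R : CycCov.Root (Twist.twistProjSpace n ℂ d) r s π) (hR : CycCov.IsSimple R)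
    (M : Y.Modules) (hM : PicF.IsInvertible M) :
    ∃! m : ℤ, Nonempty (M ≅ (Scheme.Modules.pullback π).obj (Twist.twistProjSpace n ℂ m)) := by
  obtain ⟨g, f, E⟩ := K945.SimpleProj.exists_eqs s
  have hfin := K945.SimpleProj.isFinite R E hR hr
  have haff := hR.1
  have hp : IsProper (CohB1.ProjSpace.toSpec n ℂ) := Groth.Agent.Ega3B.ProjProper.isProper_toSpec n ℂ
  let : Y.Over (Spec (CommRingCat.of ℂ)) := ⟨π ≫ CohB1.ProjSpace.toSpec n ℂ⟩
  have hprop : IsProper (Y ↘ Spec (CommRingCat.of ℂ)) :=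
    inferInstanceAs (IsProper (π ≫ CohB1.ProjSpace.toSpec n ℂ))
  -- stalks of `Y`
  have hstalk : ∀ y : Y, SGA2.IsAbsCompleteIntersection (Y.presheaf.stalk y) ∧
      (IsClosed ({y} : Set Y) → ringKrullDim (Y.presheaf.stalk y) = (n : WithBot ℕ∞)) := by
    intro y
    have hy : y ∈ ⨆ i : Fin (n + 1), π ⁻¹ᵁ LefPen.chart n ℂ i := by
      rw [K945.TwistIdeal.iSup_chart π]
      trivial
    obtain ⟨i, hi⟩ := TopologicalSpace.Opens.mem_iSup.1 hy
    exact K945.StalkCI.stalk_root
      ((Groth.Agent.Lefpen.H705.HypIdeal.isAffineOpen_chart (r := n) (k := ℂ) i).preimage π) hi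
      (RingEquiv.ofBijective _ (Groth.Agent.Lefpen.H705.ChartPoly.polyToChart_bijective (r := n) (k := ℂ) i)) _ _ (f i) r hr
      (K945.SimpleProj.ker_eval₂_tt R E hR i) (K945.SimpleProj.surj_eval₂_tt R E hR i)
  -- the branch divisor and the ramification divisor
  obtain ⟨hgoodD, hgenD⟩ := K945.LefStep.gen_divisor hn (D 0) (b := r * d) (Nat.mul_pos hr hd)
    (K945.SimpleProj.nonempty_branch E hD hs)
  obtain ⟨e, he⟩ := K945.SimpleProj.exists_iso R E hR hr hD hs
  have he' : e.hom ≫ (D 0).subschemeι ≫ 𝟙 (CohB1.ProjSpace n ℂ) =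
      (K945.SimpleProj.ram D π).subschemeι ≫ π := by
    rw [Category.comp_id, he]
  have hgoodR : Groth.Agent.Coherent.K51.CIGood.Good ((K945.SimpleProj.ram D π).subschemeι ≫ π) (n - 1) := by
    rw [← he']
    exact hgoodD.iso_comp e
  have key := K945.LefStep.inj_step π (K945.SimpleProj.ram D π) (b := d) hd
    (K945.SimpleProj.nonempty_ram R E hR hr hD hs) (d := n - 1) (by omega) hgoodR (fun y hy => by
      refine ⟨(hstalk y).1, ?_⟩
      rw [(hstalk y).2 hy]
      exact_mod_cast hn)
  -- existence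
  have hex : ∃ m : ℤ, Nonempty (M ≅ (Scheme.Modules.pullback π).obj (Twist.twistProjSpace n ℂ m)) := by
    obtain ⟨m, ⟨e'⟩⟩ := Groth.Agent.LefX.K947.CIPic.gen_iso e _ hgenD
      ((Scheme.Modules.pullback (K945.SimpleProj.ram D π).subschemeι).obj M)
      (Groth.Agent.Fdesc.LocGen.isInvertible_pullback _ hM)
    refine ⟨m, key M _ hM (Groth.Agent.Fdesc.LocGen.isInvertible_pullback π
      (Groth.Agent.Ega3B.ProjFrame.isInvertible_twistProjSpace n ℂ m)) ?_⟩
    exact ⟨e' ≪≫ (Scheme.Modules.pullbackCongr he').app _ ≪≫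
      ((Scheme.Modules.pullbackComp (K945.SimpleProj.ram D π).subschemeι π).app _).symm⟩
  -- uniqueness
  have huniq : ∀ m : ℤ, m ≠ 0 → ¬ Nonempty ((Scheme.Modules.pullback π).obj (Twist.twistProjSpace n ℂ m) ≅
      Coh.structureModule Y) := by
    intro m hm h
    have h1 := K945.LefStep.isFinite_of_twist_trivial π m hm h
    have hne : Nonempty Y := by
      by_contra hempty
      rw [not_nonempty_iff] at hempty
      have hs0 := K945.SimpleProj.ker_eval₂_tt R E hR 0
      have hsub : Subsingleton Γ(Y, π ⁻¹ᵁ LefPen.chart n ℂ 0) := by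
        have : π ⁻¹ᵁ LefPen.chart n ℂ 0 = ⊥ := TopologicalSpace.Opens.ext (Set.eq_empty_of_isEmpty _)
        rw [this]
        infer_instance
      have h2 : (1 : Polynomial Γ(CohB1.ProjSpace n ℂ, LefPen.chart n ℂ 0)) ∈
          RingHom.ker (Polynomial.eval₂RingHom (π.app (LefPen.chart n ℂ 0)).hom
            (K945.SimpleProj.tt R E 0)) := by
        rw [RingHom.mem_ker]
        exact Subsingleton.elim _ _
      have : IsDomain Γ(CohB1.ProjSpace n ℂ, LefPen.chart n ℂ 0) :=
        MulEquiv.isDomain _ (RingEquiv.ofBijective _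
          (Groth.Agent.Lefpen.H705.ChartPoly.polyToChart_bijective (r := n) (k := ℂ) 0)).symm.toMulEquiv
      rw [hs0, Ideal.mem_span_singleton] at h2
      have h4 := Polynomial.natDegree_eq_zero_of_isUnit (isUnit_of_dvd_one h2)
      rw [Polynomial.natDegree_X_pow_sub_C] at h4
      omega
    have : CompactSpace Y := QuasiCompact.compactSpace_of_compactSpace (π ≫ CohB1.ProjSpace.toSpec n ℂ)
    obtain ⟨y, -, hy⟩ := IsClosed.exists_closed_singleton (isClosed_univ (X := Y)) Set.univ_nonempty
    have h5 := K945.LefStep.ringKrullDim_stalk_le_zero (π ≫ CohB1.ProjSpace.toSpec n ℂ) y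
    rw [(hstalk y).2 hy] at h5
    have h6 : n ≤ 0 := by exact_mod_cast h5
    omega
  obtain ⟨m, hm⟩ := hex
  refine ⟨m, hm, fun m' hm' => ?_⟩
  by_contra hne
  obtain ⟨a⟩ := hm
  obtain ⟨a'⟩ := hm'
  apply huniq (m' - m) (by omega)
  obtain ⟨ψ⟩ := Groth.Agent.Lefpen.H608.TwistTriv.nonempty_tw_mul π m' (-m)
  obtain ⟨ψ'⟩ := Groth.Agent.Lefpen.H608.TwistTriv.nonempty_tw_mul π m (-m)
  obtain ⟨χ⟩ := Groth.Agent.Lefpen.H608.TwistTriv.nonempty_tw_zero π
  rw [add_neg_cancel] at ψ'
  rw [← sub_eq_add_neg] at ψ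
  exact ⟨ψ.symm ≪≫ Groth.Agent.Ega2.Tens.mapTIso (a'.symm ≪≫ a) (Iso.refl _) ≪≫ ψ' ≪≫ χ⟩

end Groth.Agent.S19648
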