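import Groth.Statements.S19649
import Groth.Agent.Instab.K979.GrFree

set_option autoImplicit false
universe u v
open Instab

namespace Groth.Agent.S19649

open MvPolynomial DirectSum in
/-- The case of a point, in graded-module form over an affine base. Let R be a commutative ring, n a
natural number, A = R[x_1, …, x_n] the polynomial ring graded by ℤ^n with x_i of degree the i-th
basis vector (the weight grading of the standard action of the n-dimensional split torus on affine
n-space), and P a finitely generated projective A-module carrying a compatible ℤ^n-grading (an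
equivariant vector bundle on affine n-space over Spec R). Then P is graded-free Zariski-locally on
Spec R: for every prime p of R there are r ∉ p and finitely many homogeneous elements f_1, …, f_m of
P such that, after inverting r, the f_i form an A-basis of P — every element of P multiplied by a
power of r is an A-linear combination of the f_i, and the coefficients of every A-linear relation
among the f_i are killed by a power of r. (This is the case of a point of the source's description
of filtered points of quotient stacks by the general linear group, whose argument the source gives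
in full: an equivariant vector bundle on affine n-space over a base is, locally on the base, the
standard one attached to a cocharacter; the general case, an identification of mapping stacks, is
not stated here.) -/
theorem result
    {R : Type u} [CommRing R] (n : ℕ)
    {P : Type v} [AddCommGroup P] [Module (MvPolynomial (Fin n) R) P] [Module R P]
    [IsScalarTower R (MvPolynomial (Fin n) R) P]
    (ℳ : (Fin n → ℤ) → Submodule R P) [DirectSum.Decomposition ℳ]
    [SetLike.GradedSMul (MvPolynomial.weightedHomogeneousSubmodule R (fun i : Fin n => (Pi.single i 1 : Fin n → ℤ))) ℳ]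
    [Module.Finite (MvPolynomial (Fin n) R) P] [Module.Projective (MvPolynomial (Fin n) R) P]
    (p : PrimeSpectrum R) :
    ∃ r : R, r ∉ p.asIdeal ∧ ∃ (m : ℕ) (d : Fin m → (Fin n → ℤ)) (f : Fin m → P), (∀ i, f i ∈ ℳ (d i)) ∧
      (∀ q : P, ∃ (N : ℕ) (c : Fin m → MvPolynomial (Fin n) R), (MvPolynomial.C r : MvPolynomial (Fin n) R) ^ N • q = ∑ i, c i • f i) ∧
      (∀ c : Fin m → MvPolynomial (Fin n) R, ∑ i, c i • f i = 0 →
        ∃ N : ℕ, ∀ i, (MvPolynomial.C r : MvPolynomial (Fin n) R) ^ N * c i = 0) := by
  classical
  let 𝔮 : Ideal (MvPolynomial (Fin n) R) := p.asIdeal.comap (constantCoeff (σ := Fin n) (R := R))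
  have h𝔮 : 𝔮.IsPrime := inferInstance
  have hgs : SetLike.GradedSMul (MvPolynomial.weightedHomogeneousSubmodule R (K979.GrFree.wt n)) ℳ := ‹_›
  let ι := {q : P // ∃ d, q ∈ ℳ d}
  let v : ι → P := Subtype.val
  have hv : Submodule.span (MvPolynomial (Fin n) R) (Set.range v) = ⊤ := by
    rw [eq_top_iff]
    rintro q -
    rw [← DirectSum.sum_support_decompose ℳ q]
    exact Submodule.sum_mem _ fun D _ => Submodule.subset_span
      ⟨⟨_, D, (DirectSum.decompose ℳ q D).2⟩, rfl⟩
  obtain ⟨s, hs, m, a, hgen, hrel⟩ := K979.GrFree.exists_basis_away 𝔮 v hv
  let f : Fin m → P := fun i => v (a i)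
  choose d hd using fun i => (a i).2
  let r : R := constantCoeff s
  refine ⟨r, hs, m, d, f, hd, fun q => ?_, fun c hc => ?_⟩
  · -- generation
    let l : (Fin m → MvPolynomial (Fin n) R) →ₗ[MvPolynomial (Fin n) R] P :=
      Fintype.linearCombination _ f
    have hl : ∀ c, l c = ∑ i, c i • f i := fun c => Fintype.linearCombination_apply ..
    have hmem : (MvPolynomial.C r : MvPolynomial (Fin n) R) • q ∈ LinearMap.range l := by
      rw [← DirectSum.sum_support_decompose ℳ q, Finset.smul_sum]
      refine Submodule.sum_mem _ fun D _ => ?_
      obtain ⟨c, hc⟩ := hgen (DirectSum.decompose ℳ q D : P)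
      have h1 := congrArg (fun x => (DirectSum.decompose ℳ x D : P)) hc
      simp only at h1
      rw [K979.GrFree.decompose_smul ℳ s (DirectSum.decompose ℳ q D).2, sub_self,
        K979.GrFree.weightedHomogeneousComponent_zero_eq,
        K979.GrFree.decompose_sum_smul ℳ c f d hd] at h1
      exact ⟨_, (hl _).trans h1.symm⟩
    obtain ⟨c, hc⟩ := hmem
    exact ⟨1, c, by rw [pow_one, ← hc, hl]⟩
  · -- relations
    refine ⟨1, fun i => ?_⟩
    rw [pow_one]
    ext k
    rw [coeff_C_mul, coeff_zero]
    -- the homogeneous relation through the coefficient
    let D : Fin n → ℤ := Finsupp.weight (K979.GrFree.wt n) k + d i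
    have h1 : ∑ j, weightedHomogeneousComponent (K979.GrFree.wt n) (D - d j) (c j) • f j = 0 := by
      rw [← K979.GrFree.decompose_sum_smul ℳ c f d hd, hc, DirectSum.decompose_zero]
      rfl
    have h2 := hrel _ h1 i
    simp only [D, add_sub_cancel_right] at h2
    have h3 := congrArg (coeff k) h2
    rw [coeff_mul, coeff_zero] at h3
    rw [Finset.sum_eq_single (0, k)] at h3
    · rw [coeff_weightedHomogeneousComponent, if_pos rfl] at h3
      exact h3
    · rintro ⟨x, y⟩ hxy hne
      rw [coeff_weightedHomogeneousComponent, if_neg, mul_zero]
      intro h
      have hy : y = k := K979.GrFree.weight_wt_injective h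
      apply hne
      rw [Finset.mem_antidiagonal] at hxy
      simp only at hxy hy
      subst hy
      have hx : x = 0 := by
        simpa using hxy
      rw [hx]
    · intro h
      exact absurd (Finset.mem_antidiagonal.mpr (zero_add k)) h

end Groth.Agent.S19649
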