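import Groth.Statements.S19650
import Groth.Agent.CycCov.K892.DblCov

set_option autoImplicit false
universe u
open CycCov

namespace Groth.Agent.S19650

open CategoryTheory AlgebraicGeometry Opposite in
/-- Flat double covers in characteristic ≠ 2 are presented here as simple cyclic covers of degree 2. Let
K be an algebraically closed field in which 2 ≠ 0, let Y and Ȳ be reduced schemes, separated and
locally of finite type over K, L an invertible O_Y-module and s a global section of the tensor
square of L, and let g : Ȳ → Y together with its root datum be the simple cyclic cover of degree 2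
defined by s — the flat double cover with g_*O_Ȳ = O_Y ⊕ L⁻¹ branched along the zeros of s. Let σ :
Ȳ → Ȳ be the covering involution: σ commutes with g and sends each local root coordinate t to −t.
Then for every invertible O_Ȳ-module M, writing E = g_*M (locally free of rank 2) and Δ for a second
exterior power det E, the O_Ȳ-modules g^*Δ ⊗ g^*L and M ⊗ σ^*M are isomorphic; equivalently g^*(det
g_*M) = M ⊗ σ^*M ⊗ g^*L⁻¹ in Pic Ȳ (existence of an isomorphism only). (The source works with
quasi-projective varieties over K — reduced, equidimensional, quasi-projective; equidimensionality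
and quasi-projectivity are not assumed here.) -/
theorem result
    {K : Type u} [Field K] [IsAlgClosed K] (h2 : (2 : K) ≠ 0) {Y Yb : Scheme.{u}}
    (f : Y ⟶ Spec (CommRingCat.of K)) [LocallyOfFiniteType f] [IsSeparated f]
    [AlgebraicGeometry.IsReduced Y] [AlgebraicGeometry.IsReduced Yb]
    (L : Y.Modules) (hL : PicF.IsInvertible L)
    (s : Coh.structureModule Y ⟶ CohB1.tensorPow L 2)
    (g : Yb ⟶ Y) [LocallyOfFiniteType (g ≫ f)] [IsSeparated (g ≫ f)]
    (R : CycCov.Root L 2 s g) (hR : CycCov.IsSimple R)
    (σ : Yb ⟶ Yb) (hσg : σ ≫ g = g)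
    (hσt : ∀ (U : Y.affineOpens) (e : L.val.obj (op U.1)) (he : CycCov.IsGen L U.1 e)
      (hle : g ⁻¹ᵁ U.1 ≤ σ ⁻¹ᵁ (g ⁻¹ᵁ U.1)),
      (σ.appLE (g ⁻¹ᵁ U.1) (g ⁻¹ᵁ U.1) hle).hom (R.t U e he) = -R.t U e he)
    (M : Yb.Modules) (hM : PicF.IsInvertible M)
    (Δ : Y.Modules) (hΔ : ExtPow.IsExtPow 2 ((Scheme.Modules.pushforward g).obj M) Δ) :
    Nonempty (CohB1.tensorMod ((Scheme.Modules.pullback g).obj Δ) ((Scheme.Modules.pullback g).obj L) ≅
      CohB1.tensorMod M ((Scheme.Modules.pullback σ).obj M)) := by
  exact K892.DblCov.main R hR hL hM hσg hσt hΔ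

end Groth.Agent.S19650
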