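import Groth.Statements.S19653
import Groth.Agent.EGA43.K132.DvrProper
import Groth.Agent.EGA43.K132.DvrSpec

set_option autoImplicit false
universe u
open AlgebraicGeometry CategoryTheory CategoryTheory.Limits
open EGA43

namespace Groth.Agent.S19653

/-- Let R be a discrete valuation ring and f : X → Spec R a flat, separated morphism of finite type
whose closed fibre is nonempty and proper over the residue field and whose generic fibre is
geometrically connected. Then f is proper, and its closed fibre is geometrically connected too. (The
published statement does not require the closed fibre to be nonempty; the affine line over the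
fraction field, viewed over R, has empty closed fibre and satisfies the other hypotheses without
being proper, and the published proof uses a point of the closed fibre, so nonemptiness is assumed
here.) -/
theorem result
    (R : Type u) [CommRing R] [IsDomain R] [IsDiscreteValuationRing R]
    (X : Scheme.{u}) (f : X ⟶ Spec (CommRingCat.of R))
    [Flat f] [IsSeparated f] [LocallyOfFiniteType f] [QuasiCompact f]
    [IsProper (f.fiberToSpecResidueField (IsLocalRing.closedPoint R))]
    [Nonempty ↥(f.fiber (IsLocalRing.closedPoint R))]
    [GeometricallyConnected (f.fiberToSpecResidueField (genericPoint ↥(Spec (CommRingCat.of R))))] :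
    IsProper f ∧ GeometricallyConnected (f.fiberToSpecResidueField (IsLocalRing.closedPoint R)) := by
  have hp : IsProper f := K132.DvrProper.isProper_of_dvr R f (IsLocalRing.closedPoint R)
    (genericPoint ↥(Spec (CommRingCat.of R))) (K132.DvrSpec.closedPoint_mem R)
    (K132.DvrSpec.isOpen_genericPoint R) (K132.DvrSpec.genericPoint_specializes' R _)
  have hfp : LocallyOfFinitePresentation f :=
    LocallyOfFinitePresentation.iff_locallyOfFiniteType.mpr inferInstance
  exact ⟨hp, K132.DvrProper.geometricallyConnected_of_specializes f
    (K132.DvrSpec.genericPoint_specializes' R _) inferInstance⟩

end Groth.Agent.S19653
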