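import Groth.Statements.S19660
import Groth.Agent.AbVar.K529.Bilin

set_option autoImplicit false
universe u v
open AbVar

namespace Groth.Agent.S19660

/-- The text applies this to the Frobenius acting on the points of prime order of a principally
polarised abelian variety over a finite field with q elements and to their Weil pairing. Let k be a
field, V a finite-dimensional k-vector space with a nondegenerate bilinear form B, q a nonzero
element of k and M a linear automorphism of V with B(Mx, My) = q·B(x, y) for all x, y. Write V₁ and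
V_q for the generalized eigenspaces of M at 1 and at q. Then every vector of V₁ that is B-orthogonal
to all of V_q is zero, every vector of V_q that is B-orthogonal (on the right) to all of V₁ is zero,
and when q ≠ 1 the form B vanishes identically on V₁ × V₁ and on V_q × V_q. (The text asserts this
as the evident adaptation, to a form scaled by q, of the orthogonality and nondegeneracy facts for
generalized kernels of an automorphism preserving a form; the abstract statement is recorded here,
the application to the Weil pairing needing that pairing's formalism.) -/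
theorem result
    {k : Type u} [Field k] {V : Type v} [AddCommGroup V] [Module k V] [FiniteDimensional k V]
    (B : LinearMap.BilinForm k V) (hB : B.Nondegenerate) (q : k) (hq : q ≠ 0)
    (M : V ≃ₗ[k] V) (hM : ∀ x y : V, B (M x) (M y) = q * B x y) :
    (∀ x ∈ Module.End.maxGenEigenspace (M : Module.End k V) 1,
        (∀ y ∈ Module.End.maxGenEigenspace (M : Module.End k V) q, B x y = 0) → x = 0) ∧
      (∀ y ∈ Module.End.maxGenEigenspace (M : Module.End k V) q,
        (∀ x ∈ Module.End.maxGenEigenspace (M : Module.End k V) 1, B x y = 0) → y = 0) ∧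
      (q ≠ 1 → ∀ x ∈ Module.End.maxGenEigenspace (M : Module.End k V) 1,
        ∀ x' ∈ Module.End.maxGenEigenspace (M : Module.End k V) 1, B x x' = 0) ∧
      (q ≠ 1 → ∀ y ∈ Module.End.maxGenEigenspace (M : Module.End k V) q,
        ∀ y' ∈ Module.End.maxGenEigenspace (M : Module.End k V) q, B y y' = 0) := by
  refine ⟨?_, ?_, ?_, ?_⟩
  · intro x hx h
    obtain ⟨n₀, hn₀⟩ := (Module.End.mem_maxGenEigenspace _ _ _).mp hx
    obtain ⟨N, hN⟩ := K529.Bilin.exists_isCompl ((M : V →ₗ[k] V) - q • 1)
    refine hB.1 x fun y => ?_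
    obtain ⟨a, b, rfl, ha⟩ := hN (max N n₀) (le_max_left _ _) y
    rw [map_add, h a ((Module.End.mem_maxGenEigenspace _ _ _).mpr ⟨_, ha⟩), zero_add]
    exact K529.Bilin.scaled_left B M hM _ _ _ (K529.Bilin.ker_mono _ (le_max_right _ _) _ hn₀)
  · intro y hy h
    obtain ⟨n₀, hn₀⟩ := (Module.End.mem_maxGenEigenspace _ _ _).mp hy
    obtain ⟨N, hN⟩ := K529.Bilin.exists_isCompl ((M : V →ₗ[k] V) - (1 : k) • 1)
    refine hB.2 y fun x => ?_
    obtain ⟨a, b, rfl, ha⟩ := hN (max N n₀) (le_max_left _ _) x
    rw [map_add, LinearMap.add_apply, h a ((Module.End.mem_maxGenEigenspace _ _ _).mpr ⟨_, ha⟩),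
      zero_add]
    exact K529.Bilin.scaled_right B M hM _ _ _ (K529.Bilin.ker_mono _ (le_max_right _ _) _ hn₀)
  · intro hq1 x hx x' hx'
    obtain ⟨n, hn⟩ := (Module.End.mem_maxGenEigenspace _ _ _).mp hx
    obtain ⟨m, hm⟩ := (Module.End.mem_maxGenEigenspace _ _ _).mp hx'
    have hc : IsCoprime (Polynomial.X - Polynomial.C q) (Polynomial.X - Polynomial.C (1 : k)) :=
      K529.Bilin.coprime_sub hq1
    rw [K529.Bilin.sub_smul_eq_aeval] at hm
    obtain ⟨z, rfl⟩ := K529.Bilin.mem_range_of_coprime (M : V →ₗ[k] V) _ _ hc n m x' hm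
    rw [← K529.Bilin.sub_smul_eq_aeval]
    exact K529.Bilin.scaled_left B M hM _ _ _ hn
  · intro hq1 y hy y' hy'
    obtain ⟨n, hn⟩ := (Module.End.mem_maxGenEigenspace _ _ _).mp hy
    obtain ⟨m, hm⟩ := (Module.End.mem_maxGenEigenspace _ _ _).mp hy'
    have hc : IsCoprime (Polynomial.X - Polynomial.C (1 : k)) (Polynomial.X - Polynomial.C q) :=
      K529.Bilin.coprime_sub (Ne.symm hq1)
    rw [K529.Bilin.sub_smul_eq_aeval] at hn
    obtain ⟨z, rfl⟩ := K529.Bilin.mem_range_of_coprime (M : V →ₗ[k] V) _ _ hc m n y hn
    rw [← K529.Bilin.sub_smul_eq_aeval]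
    exact K529.Bilin.scaled_right B M hM _ _ _ hm

end Groth.Agent.S19660
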