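import Groth.Statements.S19664
import Groth.Agent.StMod.K862.Main64

set_option autoImplicit false
universe u
open CategoryTheory CategoryTheory.Limits AlgebraicGeometry
open StMod

namespace Groth.Agent.S19664

/-- Let `S` be a quasi-separated scheme, `𝒳'` and `𝒳` Noetherian algebraic stacks over `(Sch/S)` for the
fppf topology (quasi-compact, every smooth scheme chart locally Noetherian) whose diagonals over `S`
are representable by algebraic spaces and affine, `X'` and `X` algebraic spaces quasi-separated over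
`S`, `π' : 𝒳' ⟶ X'` and `π : 𝒳 ⟶ X` good moduli spaces, `f : 𝒳' ⟶ 𝒳` a functor over `(Sch/S)` that
is representable by algebraic spaces and separated, and `g : X' ⟶ X` a morphism with a 2-isomorphism
`e : f ≫ π ≅ π' ≫ g` making the square commute. Suppose moreover that `f` is etale, and that for
every field-valued point `x'` of `𝒳'` that defines a closed point of `|𝒳'|`, the point `f(x')`
defines a closed point of `|𝒳|` and `f` is stabilizer-preserving at `x'` (the map on automorphism
groups over the identity is bijective at every object admitting a morphism to the object of `x'`).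
Then `g` is etale and the square is 2-cartesian: the functor `𝒳' ⟶ X' ×_X 𝒳` over `(Sch/S)`
determined by `(f, π', e)` is an equivalence. Here a good moduli space is a quasi-compact
quasi-separated morphism to an algebraic space along which pushforward takes surjections of
quasi-coherent modules to maps surjective on sections over every affine scheme etale over the
target, and for which the canonical map from the functions on any scheme etale over the target to
the sections of the pushforward of the structure sheaf is bijective. (Diagonals are taken over the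
base scheme `S`.) -/
theorem result
    (S : Scheme.{u}) [QuasiSeparatedSpace S]
    (𝒳' 𝒳 : AlgSt.Cat S) (h𝒳' : AlgSt.IsAlgStack Scheme.fppfPrecoverage 𝒳') (h𝒳 : AlgSt.IsAlgStack Scheme.fppfPrecoverage 𝒳)
    (hN' : AlgSt.SmoothLocally (fun T => IsLocallyNoetherian T) 𝒳') (hq' : AlgSt.IsQuasiCompact 𝒳')
    (hN : AlgSt.SmoothLocally (fun T => IsLocallyNoetherian T) 𝒳) (hq : AlgSt.IsQuasiCompact 𝒳)
    (hd' : StPt.HasAffineDiag 𝒳') (hd : StPt.HasAffineDiag 𝒳)
    (X' X : AlgSp.Space S) (hX' : AlgSp.IsQuasiSeparatedSp X'.obj) (hX : AlgSp.IsQuasiSeparatedSp X.obj)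
    (π' : 𝒳' ⥤ᵇ AlgSt.ofSp X'.obj) (π : 𝒳 ⥤ᵇ AlgSt.ofSp X.obj)
    (hπ'c : AlgSt.IsQuasiCompactMor Scheme.fppfPrecoverage π') (hπ's : AlgSt.IsQuasiSeparatedMor π') (hπ' : StMod.IsGoodModuli π')
    (hπc : AlgSt.IsQuasiCompactMor Scheme.fppfPrecoverage π) (hπs : AlgSt.IsQuasiSeparatedMor π) (hπ : StMod.IsGoodModuli π)
    (f : 𝒳' ⥤ᵇ 𝒳) (hf : AlgSt.RepByAlgSpWith AlgSp.IsSeparatedMor f) (g : X'.obj ⟶ X.obj)
    (e : BasedFunctor.comp f π ≅ BasedFunctor.comp π' (AlgSt.ofSpMap g))
    (hfe : StPt.IsEtaleRep f)
    (ha : ∀ p : AlgSt.FPt 𝒳', IsClosed ({AlgSt.Points.mk p} : Set (AlgSt.Points 𝒳')) →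
      IsClosed ({AlgSt.Points.mk (p.map f)} : Set (AlgSt.Points 𝒳)) ∧ StPt.IsStabIsoAt f p.obj) :
    AlgSp.IsEtaleMor g ∧ FibCat.IsTwoCartOver f π' e := by
  exact K862.Main64.result S 𝒳' 𝒳 h𝒳' h𝒳 hq' hq hd' hd X' X hX' hX π' π hπ'c hπ's hπ' hπc hπs hπ f hf g e hfe
    (fun W hW hne => K563.ClosedLN.exists_closed_locNoeth h𝒳' X' hX' π' hπ'c hπ's hN' hπ' W hW hne) ha

end Groth.Agent.S19664
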