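import Groth.Statements.S19665
import Groth.Agent.StMod.K862.Main65

set_option autoImplicit false
universe u
open CategoryTheory CategoryTheory.Limits AlgebraicGeometry
open StMod

namespace Groth.Agent.S19665

/-- Let `S` be a quasi-separated scheme, `𝒳'` and `𝒳` Noetherian algebraic stacks over `(Sch/S)` for the
fppf topology (quasi-compact, every smooth scheme chart locally Noetherian) whose diagonals over `S`
are representable by algebraic spaces and affine, `X'` and `X` algebraic spaces quasi-separated over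
`S`, `π' : 𝒳' ⟶ X'` and `π : 𝒳 ⟶ X` good moduli spaces, `f : 𝒳' ⟶ 𝒳` a functor over `(Sch/S)` that
is representable by algebraic spaces and separated, and `g : X' ⟶ X` a morphism with a 2-isomorphism
`e : f ≫ π ≅ π' ≫ g` making the square commute. Let `x'` be a field-valued point of `𝒳'` such that
(a) `f` is etale at `x'`: on some open substack of `𝒳'` through the class of `x'` the restriction of
`f` is representable and etale; (b) `f` induces an isomorphism of stabilizer groups at `x'`: the map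
on automorphism groups over the identity is bijective at every object admitting a morphism to the
object of `x'`; (c) the classes of `x'` in `|𝒳'|` and of `f(x')` in `|𝒳|` are closed. Then there is
an open subspace `U' ⊆ X'` whose points contain `π'(x')` such that `U' ⟶ X` is etale and the square
over `U'` is 2-cartesian: for every functor `ρ` over `(Sch/S)` from the preimage `π'⁻¹(U')` (the
full subcategory of `𝒳'` on the objects whose image under `π'` comes from `U'`) to `U'` lifting
`π'`, and every 2-isomorphism `e'` making the square `(π'⁻¹(U') ⟶ 𝒳, ρ, U' ⟶ X, π)` commute, the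
induced functor `π'⁻¹(U') ⟶ U' ×_X 𝒳` is an equivalence (such `ρ` and `e'` exist and are unique, the
targets being fibred in sets). Here a good moduli space is a quasi-compact quasi-separated morphism
to an algebraic space along which pushforward takes surjections of quasi-coherent modules to maps
surjective on sections over every affine scheme etale over the target, and for which the canonical
map from the functions on any scheme etale over the target to the sections of the pushforward of the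
structure sheaf is bijective. (Diagonals are taken over the base scheme `S`.) -/
theorem result
    (S : Scheme.{u}) [QuasiSeparatedSpace S]
    (𝒳' 𝒳 : AlgSt.Cat S) (h𝒳' : AlgSt.IsAlgStack Scheme.fppfPrecoverage 𝒳') (h𝒳 : AlgSt.IsAlgStack Scheme.fppfPrecoverage 𝒳)
    (hN' : AlgSt.SmoothLocally (fun T => IsLocallyNoetherian T) 𝒳') (hq' : AlgSt.IsQuasiCompact 𝒳')
    (hN : AlgSt.SmoothLocally (fun T => IsLocallyNoetherian T) 𝒳) (hq : AlgSt.IsQuasiCompact 𝒳)
    (hd' : StPt.HasAffineDiag 𝒳') (hd : StPt.HasAffineDiag 𝒳)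
    (X' X : AlgSp.Space S) (hX' : AlgSp.IsQuasiSeparatedSp X'.obj) (hX : AlgSp.IsQuasiSeparatedSp X.obj)
    (π' : 𝒳' ⥤ᵇ AlgSt.ofSp X'.obj) (π : 𝒳 ⥤ᵇ AlgSt.ofSp X.obj)
    (hπ'c : AlgSt.IsQuasiCompactMor Scheme.fppfPrecoverage π') (hπ's : AlgSt.IsQuasiSeparatedMor π') (hπ' : StMod.IsGoodModuli π')
    (hπc : AlgSt.IsQuasiCompactMor Scheme.fppfPrecoverage π) (hπs : AlgSt.IsQuasiSeparatedMor π) (hπ : StMod.IsGoodModuli π)
    (f : 𝒳' ⥤ᵇ 𝒳) (hf : AlgSt.RepByAlgSpWith AlgSp.IsSeparatedMor f) (g : X'.obj ⟶ X.obj)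
    (e : BasedFunctor.comp f π ≅ BasedFunctor.comp π' (AlgSt.ofSpMap g))
    (p : AlgSt.FPt 𝒳') (ha : StPt.IsEtaleAt Scheme.fppfPrecoverage f (AlgSt.Points.mk p))
    (hb : StPt.IsStabIsoAt f p.obj)
    (hc : IsClosed ({AlgSt.Points.mk p} : Set (AlgSt.Points 𝒳')))
    (hc' : IsClosed ({AlgSt.Points.mk (p.map f)} : Set (AlgSt.Points 𝒳))) :
    ∃ (U' : AlgSp.Sp S) (ι : U' ⟶ X'.obj), AlgSp.RepWith @IsOpenImmersion ι ∧
      AlgSt.Points.map π' (AlgSt.Points.mk p) ∈ Set.range (AlgSt.Points.map (AlgSt.ofSpMap ι)) ∧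
      AlgSp.IsEtaleMor (ι ≫ g) ∧
      ∀ (ρ : AlgSt.fullSub 𝒳' (fun ξ => ∃ η : (AlgSt.ofSp U').obj, (AlgSt.ofSpMap ι).obj η = π'.obj ξ) ⥤ᵇ AlgSt.ofSp U')
        (hρ : BasedFunctor.comp ρ (AlgSt.ofSpMap ι) = BasedFunctor.comp (AlgSt.subIncl 𝒳' (fun ξ => ∃ η : (AlgSt.ofSp U').obj, (AlgSt.ofSpMap ι).obj η = π'.obj ξ)) π')
        (e' : BasedFunctor.comp (BasedFunctor.comp (AlgSt.subIncl 𝒳' (fun ξ => ∃ η : (AlgSt.ofSp U').obj, (AlgSt.ofSpMap ι).obj η = π'.obj ξ)) f) π ≅
          BasedFunctor.comp ρ (AlgSt.ofSpMap (ι ≫ g))),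
        FibCat.IsTwoCartOver (BasedFunctor.comp (AlgSt.subIncl 𝒳' (fun ξ => ∃ η : (AlgSt.ofSp U').obj, (AlgSt.ofSpMap ι).obj η = π'.obj ξ)) f) ρ e' := by
  exact K862.Main65.result S 𝒳' 𝒳 h𝒳' h𝒳 hq' hq hd' hd X' X hX' hX π' π hπ'c hπ's hπ' hπc hπs hπ f hf g e p ha hb hc hc'

end Groth.Agent.S19665
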