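import Groth.Statements.S19668
import Groth.Agent.S11483
import Groth.Agent.CurvesB.SmoothCurveFacts
import Groth.Agent.CycB.StalkExact
import Groth.Agent.Krr.H478.EpiIso
import Groth.Agent.PerfC.FlatExact
import Mathlib.LinearAlgebra.Eigenspace.Triangularizable

set_option autoImplicit false
universe u
open CategoryTheory CategoryTheory.Limits AlgebraicGeometry
open Curves

namespace Groth.Agent.S19668

open Groth.Agent.CycB.StalkExact Groth.Agent.CurvesB.OmegaStalkDict Groth.Agent.CurvesB.SmoothCurveFacts
open scoped TensorProduct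

/-- Stalks of `φ - a`. -/
theorem stalk_sub (k : Type u) [Field k] {X : Scheme.{u}} [X.Over (Spec (CommRingCat.of k))] {E : X.Modules}
    (φ : E ⟶ E) (a : k) (x : X) (v : E.presheaf.stalk x) :
    stalkLin (φ - a • 𝟙 E) x v = stalkLin φ x v - stHom (X ↘ Spec (CommRingCat.of k)) x a • v := by
  obtain ⟨U, hx, s, rfl⟩ := TopCat.Presheaf.exists_germ_eq E.presheaf v
  rw [stalkLin_germ, stalkLin_germ]
  have h1 : (φ - a • 𝟙 E).app U s = φ.app U s - X.presheaf.map (homOfLE (le_top : U ≤ ⊤)).op
      (Coh.toGlobal (X ↘ Spec (CommRingCat.of k)) a) • s := by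
    have h2 : (φ - a • 𝟙 E).app U s = φ.app U s - (a • 𝟙 E : E ⟶ E).app U s := rfl
    rw [h2, KLin.smul_app_apply]
    rfl
  rw [h1, map_sub, germ_smul]
  congr 2
  exact germ_secHom (X ↘ Spec (CommRingCat.of k)) U x hx a

/-- A linear endomorphism of a nonzero finite module over a local `k`-algebra with residue field `k` algebraically closed
becomes non bijective after subtraction of a scalar. -/
theorem exists_scalar (k : Type u) [Field k] [IsAlgClosed k] {B M : Type u} [CommRing B] [IsLocalRing B] [Algebra k B]
    [AddCommGroup M] [Module B M] [Module.Finite B M] [Nontrivial M]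
    (hfin : Module.Finite k (B ⧸ IsLocalRing.maximalIdeal B)) (f : M →ₗ[B] M) :
    ∃ a : k, ∀ g : M →ₗ[B] M, (∀ v, g v = f v - algebraMap k B a • v) → ¬ Function.Bijective g := by
  have h0 : Module.Finite k (IsLocalRing.ResidueField B) := hfin
  have h1 : Algebra.IsIntegral k (IsLocalRing.ResidueField B) := inferInstance
  have hb := IsAlgClosed.algebraMap_bijective_of_isIntegral (k := k) (K := IsLocalRing.ResidueField B)
  have hac : IsAlgClosed (IsLocalRing.ResidueField B) :=
    IsAlgClosed.of_ringEquiv k _ (RingEquiv.ofBijective (algebraMap k (IsLocalRing.ResidueField B)) hb)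
  have hnt : Nontrivial (IsLocalRing.ResidueField B ⊗[B] M) := by
    by_contra hn
    rw [not_nontrivial_iff_subsingleton] at hn
    have := IsLocalRing.subsingleton_tensorProduct.1 hn
    exact not_subsingleton M this
  obtain ⟨c, hc⟩ := Module.End.exists_eigenvalue (f.baseChange (IsLocalRing.ResidueField B) :
    Module.End (IsLocalRing.ResidueField B) (IsLocalRing.ResidueField B ⊗[B] M))
  obtain ⟨w, hw⟩ := hc.exists_hasEigenvector
  obtain ⟨a, rfl⟩ := hb.2 c
  refine ⟨a, fun g hg hbij => hw.2 ?_⟩
  have h2 : ∀ z : IsLocalRing.ResidueField B ⊗[B] M, g.baseChange (IsLocalRing.ResidueField B) z =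
      f.baseChange (IsLocalRing.ResidueField B) z - algebraMap k (IsLocalRing.ResidueField B) a • z := by
    intro z
    induction z using TensorProduct.induction_on with
    | zero => simp
    | tmul r m =>
      rw [LinearMap.baseChange_tmul, LinearMap.baseChange_tmul, hg, TensorProduct.tmul_sub,
        TensorProduct.tmul_smul, IsScalarTower.algebraMap_apply k B (IsLocalRing.ResidueField B)]
      congr 1
    | add x y hx hy => rw [map_add, map_add, hx, hy, smul_add]; abel
  have h3 : g.baseChange (IsLocalRing.ResidueField B) w = 0 := by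
    rw [h2, hw.apply_eq_smul, sub_self]
  let e := LinearEquiv.ofBijective g hbij
  have h4 : e.baseChange B (IsLocalRing.ResidueField B) M M w = 0 := h3
  exact (LinearEquiv.map_eq_zero_iff _).1 h4


/-- Stable bundles are simple. Let X be a nonsingular projective curve over an algebraically closed
field k (smooth, proper, integral, of dimension one) and E a locally free sheaf of rank r on X which
is stable: every locally free subsheaf G of rank s with 0 < s < r has deg G · r < deg E · s (degrees
computed as χ − rank·χ(O_X)). Then every endomorphism φ of E is a scalar multiple of the identity, φ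
= a · 𝟙_E for some a ∈ k, where k acts on Hom_{O_X}(E, E) through the structure morphism X → Spec k
(a acts as composition with multiplication by a on E). -/
theorem result (k : Type u) [Field k] [IsAlgClosed k] (X : Scheme.{u})
    [X.Over (Spec (CommRingCat.of k))] (hX : Curve.IsSmoothProperCurve k X (X ↘ Spec (CommRingCat.of k))) (r : ℕ)
    (E : X.Modules) (hE : FlatMod.IsFinLocFreeOfRank r E)
    (hst : ∀ (G : X.Modules) (s : ℕ) (ι : G ⟶ E), Mono ι → FlatMod.IsFinLocFreeOfRank s G → 0 < s → s < r →
      Curv2.deg k X G s * (r : ℤ) < Curv2.deg k X E r * (s : ℤ))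
    (φ : E ⟶ E) : ∃ a : k, φ = a • 𝟙 E := by
  obtain ⟨hprop, hsm, hint, hdim⟩ := id hX
  have hcpt : CompactSpace X := QuasiCompact.compactSpace_of_compactSpace (X ↘ Spec (CommRingCat.of k))
  obtain ⟨x, -, hx⟩ := IsClosed.exists_closed_singleton (isClosed_univ (X := X)) Set.univ_nonempty
  obtain ⟨b⟩ := Groth.Agent.Krr.H478.EpiIso.exists_basis hE x
  rcases Nat.eq_zero_or_pos r with hr | hr
  · subst hr
    refine ⟨0, ?_⟩
    rw [zero_smul]
    have hz : IsZero E := (Groth.Agent.PerfC.FlatExact.isZero_iff_subsingleton_stalk E).2 fun y => by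
      obtain ⟨b⟩ := Groth.Agent.Krr.H478.EpiIso.exists_basis hE y
      exact b.repr.toEquiv.subsingleton
    exact hz.eq_of_src _ _
  · let := stAlg (X ↘ Spec (CommRingCat.of k)) x
    have hfin := finite_residue_stalk (X ↘ Spec (CommRingCat.of k)) hx
    have h1 : Module.Finite (X.presheaf.stalk x) (E.presheaf.stalk x) := Module.Finite.of_basis b
    have : Nonempty (Fin r) := ⟨⟨0, hr⟩⟩
    have h2 : Nontrivial (E.presheaf.stalk x) := b.repr.toEquiv.nontrivial
    obtain ⟨a, ha⟩ := exists_scalar k (B := X.presheaf.stalk x) hfin (stalkLin φ x)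
    refine ⟨a, ?_⟩
    by_contra hne
    have h3 : IsIso (φ - a • 𝟙 E) :=
      Groth.Agent.S11483.result k X hX r E hE hst (φ - a • 𝟙 E) (sub_ne_zero.2 hne)
    refine ha (stalkLin (φ - a • 𝟙 E) x) (fun v => stalk_sub k φ a x v) ?_
    exact (stalkLinEquiv (asIso (φ - a • 𝟙 E)) x).bijective

end Groth.Agent.S19668
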