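import Groth.Statements.S19673
import Groth.Agent.AdjLin.K802.BundleCrit
import Groth.Agent.AdjLin.K802.SurfBase
import Groth.Agent.AdjLin.K802.ExtPull
import Groth.Agent.AdjLin.K802.Incl
import Groth.Agent.AdjLin.K802.ReducedZ
import Groth.Agent.Sga7.H745.ExtReal
import Groth.Agent.FormalB.ModPow

set_option autoImplicit false
universe u
open CategoryTheory CategoryTheory.Limits AlgebraicGeometry
open AdjLin

namespace Groth.Agent.S19673

open CategoryTheory.Abelian

/-- Multiplication by a nonzero integer is invertible in characteristic zero. -/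
theorem exists_inv_nsmul (k : Type u) [Field k] [CharZero k] (X : Scheme.{u})
    [X.Over (Spec (CommRingCat.of k))] (M : X.Modules) (n : ℕ) (hn : n ≠ 0) :
    ∃ r : M ⟶ M, r ≫ (n • 𝟙 M) = 𝟙 M := by
  let f : k →+ (M ⟶ M) :=
    AddMonoidHom.mk' (fun c => Formal.smulMod k M c) (fun a b => FormalB.ModPow.smulMod_add M a b)
  have h1 : Formal.smulMod k M ((n : k)) = n • 𝟙 M := by
    have h2 : f (n • (1 : k)) = n • f 1 := map_nsmul f n 1
    have h3 : f 1 = 𝟙 M := FormalB.ModPow.smulMod_one M
    rw [h3, nsmul_eq_mul, mul_one] at h2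
    exact h2
  refine ⟨Formal.smulMod k M ((n : k)⁻¹), ?_⟩
  rw [← h1, ← FormalB.ModPow.smulMod_mul, mul_inv_cancel₀ (Nat.cast_ne_zero.2 hn),
    FormalB.ModPow.smulMod_one]

/-- Let k be an algebraically closed field of characteristic zero and X a smooth projective surface over
k (irreducible, proper, smooth of dimension 2, with an ample invertible module); let M be an
invertible O_X-module and Z ⊆ X a finite set of closed points, viewed as a reduced finite subscheme
with ideal sheaf I_Z (the vanishing ideal of the closed set Z), regarded as an O_X-module. Then the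
following are equivalent: (a) there is a short exact sequence 0 → M → F → I_Z → 0 of O_X-modules
with F finite locally free (an extension class of I_Z by M whose middle term is a vector bundle; in
the source the extensions are of L ⊗ I_Z by O_X, here tensored with M = L⁻¹); (b) for every proper
subset Z' of Z, the empty one included, with vanishing ideal I_{Z'} ⊇ I_Z and φ : I_Z → I_{Z'} the
inclusion (the map commuting with the two inclusions into O_X), the map Ext¹(I_{Z'}, M) → Ext¹(I_Z,
M) given by precomposition with φ is not surjective. Ext groups are taken in the category of all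
O_X-modules (the Ext instance is the stated hypothesis; it holds). -/
theorem result (k : Type u) [Field k]
    [IsAlgClosed k] [CharZero k]
    (X : Scheme.{u}) [X.Over (Spec (CommRingCat.of k))] [IsProper (X ↘ (Spec (CommRingCat.of k)))]
    [Smooth (X ↘ (Spec (CommRingCat.of k)))] [IrreducibleSpace X] (hdim : topologicalKrullDim X = 2)
    (H : X.Modules) (hH : CohB1.IsAmple H)
    (M : X.Modules) (hM : PicF.IsInvertible M)
    (Z : Finset X) (hZc : IsClosed ((Z : Set X))) (hZ : ∀ z ∈ Z, IsClosed ({z} : Set X))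
    [HasExt.{u} X.Modules] :
    (∃ (F : X.Modules) (a : M ⟶ F)
        (b : F ⟶ ClSub.idealMod (Scheme.IdealSheafData.vanishingIdeal ⟨(Z : Set X), hZc⟩)) (w : a ≫ b = 0),
        (ShortComplex.mk a b w).ShortExact ∧ FlatMod.IsFinLocFree F) ↔
      ∀ (Z' : Finset X) (hZ'c : IsClosed ((Z' : Set X))), Z' ⊂ Z →
        ∀ φ : ClSub.idealMod (Scheme.IdealSheafData.vanishingIdeal ⟨(Z : Set X), hZc⟩) ⟶
            ClSub.idealMod (Scheme.IdealSheafData.vanishingIdeal ⟨(Z' : Set X), hZ'c⟩),
          φ ≫ ClSub.idealModι (Scheme.IdealSheafData.vanishingIdeal ⟨(Z' : Set X), hZ'c⟩) =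
              ClSub.idealModι (Scheme.IdealSheafData.vanishingIdeal ⟨(Z : Set X), hZc⟩) →
            ¬ Function.Surjective ((Abelian.Ext.mk₀ φ).precomp M (zero_add 1)) := by
  classical
  have := K802.SurfBase.isNoetherian (X ↘ (Spec (CommRingCat.of k)))
  have := K802.GoodPoint.isIntegral_of_smooth (X ↘ (Spec (CommRingCat.of k)))
  set I := Scheme.IdealSheafData.vanishingIdeal ⟨(Z : Set X), hZc⟩ with hI
  have hsupp : (I.support : Set X) = (Z : Set X) := by
    rw [hI, Scheme.IdealSheafData.coe_support_vanishingIdeal]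
    rfl
  let U : X.Opens := ⟨(I.support : Set X)ᶜ, I.support.isClosed.isOpen_compl⟩
  have crit : ∀ {F : X.Modules} {a : M ⟶ F} {b : F ⟶ ClSub.idealMod I} {w : a ≫ b = 0}
      (_ : (ShortComplex.mk a b w).ShortExact), ¬ FlatMod.IsFinLocFree F ↔
      ∃ (I' : X.IdealSheafData) (F' : X.Modules) (a' : M ⟶ F') (b' : F' ⟶ ClSub.idealMod I')
        (w' : a' ≫ b' = 0) (φ : ClSub.idealMod I ⟶ ClSub.idealMod I') (g : F ⟶ F'),
        I < I' ∧ (ShortComplex.mk a' b' w').ShortExact ∧
          φ ≫ ClSub.idealModι I' = ClSub.idealModι I ∧ a ≫ g = a' ∧ g ≫ b' = b ≫ φ := by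
    intro F a b w hex
    refine K802.BundleCrit.criterion I hex U (K802.SurfBase.regular (X ↘ (Spec (CommRingCat.of k))))
      hdim.le ?_ (fun x hx => hx) hM
    intro x hx
    exact K802.SurfBase.two_le (X ↘ (Spec (CommRingCat.of k))) hdim I.support.isClosed
      (by rw [hsupp]; exact Z.finite_toSet) x (not_not.1 hx)
  constructor
  · rintro ⟨F, a, b, w, hex, hl⟩ Z' hZ'c hlt φ hφ hsurj
    obtain ⟨ξ', hξ'⟩ := hsurj hex.extClass
    obtain ⟨F', a', b', w', hex', rfl⟩ := Sga7.H745.ExtReal.exists_extClass ξ'
    obtain ⟨g, hg1, hg2⟩ := K802.ExtPull.exists_hom hex hex' φ hξ'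
    refine (crit hex).2 ⟨_, F', a', b', w', φ, g, ?_, hex', hφ, hg1, hg2⟩ hl
    refine lt_of_le_of_ne (K802.BundleCrit.le_of_hom φ hφ) fun he => hlt.ne ?_
    have h1 := congrArg (fun J : X.IdealSheafData => (J.support : Set X)) he
    simp only [hI, Scheme.IdealSheafData.coe_support_vanishingIdeal] at h1
    exact (Finset.coe_injective h1).symm
  · intro h
    by_contra hcon
    push Not at hcon
    -- the proper subsets
    let ι := {Z' : Finset X // Z' ⊂ Z}
    have hcl : ∀ Z' : ι, IsClosed ((Z'.1 : Set X)) := fun Z' => by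
      rw [← Set.biUnion_of_singleton ((Z'.1 : Set X))]
      exact Z'.1.finite_toSet.isClosed_biUnion fun z hz => hZ z (Z'.2.1 hz)
    have hle : ∀ Z' : ι, I ≤ Scheme.IdealSheafData.vanishingIdeal ⟨(Z'.1 : Set X), hcl Z'⟩ :=
      fun Z' => Scheme.IdealSheafData.vanishingIdeal_antimono (Finset.coe_subset.2 Z'.2.1)
    have hφ : ∀ Z' : ι, ∃ φ : ClSub.idealMod I ⟶
        ClSub.idealMod (Scheme.IdealSheafData.vanishingIdeal ⟨(Z'.1 : Set X), hcl Z'⟩),
          φ ≫ ClSub.idealModι (Scheme.IdealSheafData.vanishingIdeal ⟨(Z'.1 : Set X), hcl Z'⟩) =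
            ClSub.idealModι I := fun Z' => K802.Incl.exists_incl (hle Z')
    choose φ hφ using hφ
    have : Finite ι := by
      have h1 : {Z' : Finset X | Z' ⊂ Z}.Finite := Z.powerset.finite_toSet.subset fun Z' hZ' =>
        Finset.mem_coe.2 (Finset.mem_powerset.2 hZ'.1)
      exact h1
    have := Fintype.ofFinite ι
    obtain ⟨Z', -, hZ'⟩ := K802.ExtPull.exists_eq_top (G := Ext.{u} (ClSub.idealMod I) M 1)
      (fun n hn x => by
        obtain ⟨r, hr⟩ := exists_inv_nsmul k X M n hn
        exact K802.ExtPull.nsmul_surjective n r hr x)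
      Finset.univ (fun Z' : ι => ((Ext.mk₀ (φ Z')).precomp M (zero_add 1)).range) (by
        rw [Set.eq_univ_iff_forall]
        intro ξ
        obtain ⟨F, a, b, w, hex, rfl⟩ := Sga7.H745.ExtReal.exists_extClass ξ
        obtain ⟨I', F', a', b', w', φ', g, hlt, hex', hφ', hg1, hg2⟩ := (crit hex).1 (hcon F a b w hex)
        have hI' := K802.ReducedZ.eq_vanishingIdeal ⟨(Z : Set X), hZc⟩ Z.finite_toSet hZ I' hlt.le
        have hsub : (I'.support : Set X) ⊆ (Z : Set X) := by
          rw [← hsupp]
          exact Scheme.IdealSheafData.support_antitone hlt.le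
        have hfin : (I'.support : Set X).Finite := Z.finite_toSet.subset hsub
        have hlt' : hfin.toFinset ⊂ Z := by
          rw [Finset.ssubset_iff_subset_ne]
          refine ⟨fun z hz => hsub (hfin.mem_toFinset.1 hz), fun he => hlt.ne ?_⟩
          refine (hI.trans (congrArg _ ?_)).trans hI'.symm
          apply TopologicalSpace.Closeds.ext
          change (Z : Set X) = (I'.support : Set X)
          rw [← he, hfin.coe_toFinset]
        have key : ∀ Z' : ι, I' = Scheme.IdealSheafData.vanishingIdeal ⟨(Z'.1 : Set X), hcl Z'⟩ →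
            hex.extClass ∈ ((Ext.mk₀ (φ Z')).precomp M (zero_add 1)).range := by
          intro Z' he
          subst he
          have hφe : φ' = φ Z' := by
            have := PerfA.IdealModule.mono_idealModι
              (Scheme.IdealSheafData.vanishingIdeal ⟨(Z'.1 : Set X), hcl Z'⟩)
            rw [← cancel_mono (ClSub.idealModι
              (Scheme.IdealSheafData.vanishingIdeal ⟨(Z'.1 : Set X), hcl Z'⟩)), hφ', hφ]
          refine ⟨hex'.extClass, ?_⟩
          have h3 := ShortComplex.ShortExact.extClass_naturality hex hex'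
            { τ₁ := 𝟙 M
              τ₂ := g
              τ₃ := φ'
              comm₁₂ := by
                change 𝟙 M ≫ a' = a ≫ g
                rw [Category.id_comp, hg1]
              comm₂₃ := hg2 }
          rw [← hφe]
          exact h3.symm.trans (Ext.comp_mk₀_id _)
        simp only [Set.mem_iUnion]
        refine ⟨⟨hfin.toFinset, hlt'⟩, Finset.mem_univ _, key _ ?_⟩
        refine hI'.trans (congrArg _ ?_)
        apply TopologicalSpace.Closeds.ext
        exact hfin.coe_toFinset.symm)
    exact h Z'.1 (hcl Z') Z'.2 (φ Z') (hφ Z') (AddMonoidHom.range_eq_top.1 hZ')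

end Groth.Agent.S19673
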