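import Groth.Statements.S19674
import Groth.Agent.CurvSt.K903.ExtOmega
import Groth.Agent.CurvSt.K903.ExtTwist
import Groth.Agent.CurvSt.K903.TwistNum
import Groth.Agent.CurvSt.K903.MarkedDeg
import Groth.Agent.CurvSt.K903.Facts
import Groth.Agent.CurvSt.K903.Embed
import Groth.Agent.CurvSt.K903.RankOne
import Groth.Agent.CurvSt.K903.ConormalFree
import Groth.Agent.CurvSt.K903.HrrCurve
import Groth.Agent.CurvSt.K903.TangentNum
import Groth.Agent.S1677
import Groth.Agent.CurvesC.CurveCoh

set_option autoImplicit false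
universe u
open CategoryTheory CategoryTheory.Limits AlgebraicGeometry
open CurvSt

namespace Groth.Agent.S19674

/-- Let k be an algebraically closed field and (X, x_1, …, x_n) an n-pointed prestable curve of genus g
over k — X proper over k, connected, of dimension one, with at-worst-nodal singularities and dim
H^1(X, O_X) = g, the x_i pairwise distinct closed points each having an open neighbourhood smooth
over k. Let I be the vanishing ideal sheaf of the closed set {x_1, …, x_n} (a reduced effective
divisor in the smooth locus), L an O_X-module with L ⊗ I ≅ O_X (so L = O_X(x_1 + ⋯ + x_n)), and Ω(Σ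
x_i) = Ω_{X/k} ⊗ L the twisted sheaf of differentials. Then, with Ext groups computed in the
category of all O_X-modules (the Ext instance is the stated hypothesis; it holds) and dimensions
over k, dim Ext¹(Ω(Σ x_i), O_X) − dim Ext⁰(Ω(Σ x_i), O_X) = 3g − 3 + n as integers, and Ext²(Ω(Σ
x_i), O_X) vanishes. (The published statement also interprets these groups as first-order
deformations and infinitesimal automorphisms of the pointed curve; only the dimension count and the
vanishing are stated here.) -/
theorem result (k : Type u) [Field k] [IsAlgClosed k]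
    (X : Scheme.{u}) [X.Over (Spec (CommRingCat.of k))] [IsProper (X ↘ Spec (CommRingCat.of k))] [ConnectedSpace X]
    (hdim : topologicalKrullDim X = 1) (g n : ℕ) (hX : Curv2.AtWorstNodal k X ∧ Curv2.genus k X = g)
    (x : Fin n → X) (hx : Function.Injective x)
    (hxs : ∀ i, IsClosed ({x i} : Set X) ∧ ∃ U : X.Opens, x i ∈ U ∧ Smooth (U.ι ≫ (X ↘ Spec (CommRingCat.of k))))
    (hD : IsClosed (Set.range x)) (L : X.Modules)
    (hL : ClSub.IsInverseOf L (ClSub.idealMod (Scheme.IdealSheafData.vanishingIdeal ⟨Set.range x, hD⟩)))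
    [HasExt.{u} X.Modules] :
    (Module.finrank k (Abelian.Ext (CohB1.tensorMod (Omega.sheaf (X ↘ Spec (CommRingCat.of k))) L)
        (Coh.structureModule X) 1) : ℤ) -
      Module.finrank k (Abelian.Ext (CohB1.tensorMod (Omega.sheaf (X ↘ Spec (CommRingCat.of k))) L)
        (Coh.structureModule X) 0) = 3 * (g : ℤ) - 3 + n ∧
    Subsingleton (Abelian.Ext (CohB1.tensorMod (Omega.sheaf (X ↘ Spec (CommRingCat.of k))) L)
        (Coh.structureModule X) 2) := by
  obtain ⟨hnod, hgenus⟩ := hX
  have hred : IsReduced X := K903.Facts.isReduced k X hnod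
  have h0 := K903.Facts.finrank_h0 k X hnod
  have hequi := K903.Facts.equi k X hdim hnod
  obtain ⟨N, i, hi, hfac⟩ := K903.Embed.exists_closedImmersion k X hdim.le
  let w := KRR.pr N (Spec (CommRingCat.of k))
  have hsm : SmoothOfRelativeDimension N w := Krr.H453.PnDim.smoothOfRelativeDimension_toBase N _
  have hsm' : Smooth w := Krr.H453.PnDim.smooth_toBase N _
  have hprop : IsProper w := Krr.H463.ChiPn.isProper_pr N _
  have hΩ : FlatMod.IsFinLocFreeOfRank N (Omega.sheaf w) :=
    Dual.H339.OmegaRank.isFinLocFreeOfRank_omega N w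
  have hCI : CInt.IsCIMorphism (i ≫ w) := by
    rw [hfac]
    exact K903.CINodal.isCIMorphism k X hdim.le hnod
  have hreg : Mor2.IsRegularClosedImmersion i := S1677.result w i hCI
  obtain ⟨c, hC⟩ := Krr.H495.Rank.exists_rank_of_connected (K903.ConormalFree.isFinLocFree_conormal i hreg)
  have hgen := K903.CINodal.exists_gen k X
  have hcl := K903.CINodal.isClosed_of_nonsmooth k X hdim.le
  -- the rank of the conormal module
  have hcN : N = c + 1 := by
    obtain ⟨z, hz, hzreg⟩ := K903.Facts.exists_smooth_closed k X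
    obtain ⟨V, hzV, hV⟩ := K903.RankOne.exists_nhd (X ↘ Spec (CommRingCat.of k)) 1 z hz hzreg
      (K903.Facts.ringKrullDim_stalk hdim.le hequi z hz)
    have hV' : SmoothOfRelativeDimension 1 (V.ι ≫ i ≫ w) := by rwa [hfac]
    have hlfp : LocallyOfFinitePresentation (i ≫ w) := by rw [hfac]; infer_instance
    have hqd : QuasiCompact (pullback.diagonal (i ≫ w)) := by rw [hfac]; infer_instance
    exact K903.RankOne.rank_eq i w hC hΩ
      (fun y hy => hgen y (by rwa [← K903.ExtOmega.mem_smoothLocus_congr _ _ hfac y])) hzV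
  -- the twist
  obtain ⟨eL⟩ := hL
  obtain ⟨eG⟩ := K903.ExtTwist.nonempty_iso_inverse eL
  have hLinv : PicF.IsInvertible L := S2122.result L _ eL
  have hLf : FlatMod.IsFinLocFree L := Krr.H492.DualK.isFinLocFree_of_isInvertible hLinv
  have hIinv := Fga.IntAdd.isInvertible_of_tensor eL
  have hDC := Dix.IdealModCartier.isEffCartierIdeal_of_isInvertible hIinv
  have hdeg := K903.MarkedDeg.finrank_eq k X hdim.le x hx (fun i => (hxs i).1) hD hDC
  let G := CohqB.HomSheaf.homSheaf L (Coh.structureModule X)
  have hG : Coh.IsCoh G := PerfA.CohSerre.isCoh_of_isFinLocFree (Krr.H492.DualK.isFinLocFree_dl hLf)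
  have hT := K903.TangentNum.main k N X i
  have hmain := K903.ExtOmega.main k X hdim i w hfac hC hΩ hgen hcl hT.1 G hG
  have hPrank : FlatMod.IsFinLocFreeOfRank N ((Scheme.Modules.pullback i).obj (Omega.sheaf w)) :=
    Krr.H482.PullLambda.isFinLocFreeOfRank_pullback i hΩ
  have t1 := K903.TwistNum.euler_homSheaf_ideal k X hdim.le _ L ⟨eL⟩ eG c _ hC
  have t2 := K903.TwistNum.euler_homSheaf_ideal k X hdim.le _ L ⟨eL⟩ eG N _ hPrank
  have hRR := K903.HrrCurve.main k N X hdim.le i hreg hfac c hC hcN
  have hχ := CurvesC.CurveCoh.euler_eq k X hdim (Coh.structureModule X)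
  have hg : Module.finrank k (Coh.HH X (Coh.structureModule X) 1) = g := hgenus
  rw [h0, hg] at hχ
  rw [(K903.ExtTwist.extTwist k hLf _ _ 1).finrank_eq, (K903.ExtTwist.extTwist k hLf _ _ 0).finrank_eq]
  refine ⟨?_, ?_⟩
  · refine hmain.1.trans ?_
    rw [t1, t2, hdeg, hT.2]
    have hcN' : (N : ℤ) = c + 1 := by exact_mod_cast hcN
    push_cast at hχ
    linear_combination hRR + ((n : ℤ) - Curv2.euler k X (Coh.structureModule X)) * hcN' - 3 * hχ
  · have := hmain.2
    exact (K903.ExtTwist.extTwist k hLf (Omega.sheaf (X ↘ Spec (CommRingCat.of k)))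
      (Coh.structureModule X) 2).toEquiv.subsingleton

end Groth.Agent.S19674
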