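import Groth.Statements.S19676
import Groth.Agent.MultCurve.K953.ExtTens
import Groth.Agent.Grpsch.PicGrp
import Groth.Agent.Sga2.LefPow644
import Groth.Agent.Ega3B.TensorAUnit

set_option autoImplicit false
universe u
open CategoryTheory CategoryTheory.Limits AlgebraicGeometry
open MultCurve

namespace Groth.Agent.S19676

/-- Let k be a field and X a projective primitive multiple curve of multiplicity n ≥ 2 over k: a proper
k-scheme with a closed immersion i : C ⟶ X of a smooth integral curve C whose ideal I satisfies Iⁿ =
0 and is locally generated by one section z with the annihilator of z^(n-1) contained in (z). Let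
C_(n-1) ⟶ X be the member of the canonical filtration cut out by I^(n-1), D an invertible O_X-module
whose pullback to C_(n-1) is isomorphic to the structure sheaf, and E, F coherent O_X-modules. Then
for every j ≥ 3 the group Ext^j_{O_X}(E, F ⊗ D) is k-linearly isomorphic to Ext^j_{O_X}(E, F), Ext
being computed in the category of all O_X-modules (the Ext instance is the stated hypothesis; it
holds) with the k-linear structure from X → Spec k. (Existence of a k-linear isomorphism only. The
published statement, over the complex numbers, asserts a canonical functorial isomorphism for every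
j ≥ 2; this row asserts only the degrees j ≥ 3.) -/
theorem result (k : Type u) [Field k] (C X : Scheme.{u})
    [X.Over (Spec (CommRingCat.of k))] [IsProper (X ↘ (Spec (CommRingCat.of k)))] (i : C ⟶ X)
    (n : ℕ) (hn : 2 ≤ n) (h : MultCurve.IsPrimitive k i (X ↘ (Spec (CommRingCat.of k))) n)
    (D : X.Modules) (hD : PicF.IsInvertible D)
    (hDtriv : Nonempty ((Scheme.Modules.pullback (MultCurve.memberι i (n - 1))).obj D ≅
      Coh.structureModule (MultCurve.member i (n - 1))))
    (E F : X.Modules) (hE : Coh.IsCoh E) (hF : Coh.IsCoh F) [HasExt.{u} X.Modules] (j : ℕ) (hj : 3 ≤ j) :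
    Nonempty (Abelian.Ext E (CohB1.tensorMod F D) j ≃ₗ[k] Abelian.Ext E F j) := by
  obtain ⟨D', hD', ⟨e⟩⟩ := Groth.Agent.Grpsch.PicGrp.exists_inverse hD
  have hT := Groth.Agent.Sga2.LefPow644.isEquivalence_of_inv e
  let e' : CohB1.tensorMod D' D ≅ Coh.structureModule X := Groth.Agent.Ega2.Tens.swap D' D ≪≫ e
  let E₁ : X.Modules := CohB1.tensorMod E D'
  let eT : (DCoh.tensorRightMod D).obj E₁ ≅ E := (Groth.Agent.PerfB.TensInv.tensorInvIso e').app E
  have hEI : EnoughInjectives X.Modules := Groth.Agent.PerfA.AffVan.enoughInjectives X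
  have hadd : (DCoh.tensorRightMod D).Additive := inferInstance
  have hlin : (DCoh.tensorRightMod D).Linear k := ⟨fun {M N} f a => by
    rw [KLin.smul_def, Functor.map_comp, Groth.Agent.Ega3B.TensorAUnit.tensorRightMod_map_smul]
    rfl⟩
  have hE₁ : Coh.IsCoh E₁ := Groth.Agent.Fga.TwistCoh.isCoh_tensor hE hD'
  obtain ⟨a⟩ := K953.ExtKill.nonempty_ext_equiv (k := k) (DCoh.tensorRightMod D) E₁ F j
  obtain ⟨b⟩ := K953.ExtTens.nonempty_twist k C X i n hn h D hD hDtriv E₁ F hE₁ hF.1 j hj
  exact ⟨(K953.ExtTwist.preIso (k := k) eT (CohB1.tensorMod F D) j).trans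
    (a.symm.trans (b.trans (K953.ExtTwist.preIso (k := k) eT F j).symm))⟩

end Groth.Agent.S19676
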