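import Groth.Statements.S19679
import Groth.Agent.ChGrp.K982.Descent

set_option autoImplicit false
universe u
open CategoryTheory MonoidalCategory CartesianMonoidalCategory MonObj AlgebraicGeometry
open ChGrp

namespace Groth.Agent.S19679


open K982.Act K982.Pts K982.Descent GrpObj in
/-- Let k be an algebraically closed field of characteristic zero, G and H affine group schemes of
finite type over k (algebraic groups) with i : H → G a homomorphism which is a closed immersion, and
Z a reduced affine k-scheme of finite type (an affine variety) with an action of H. Let Y, with its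
G-action and j : G × Z → Y, be the balanced product G ×^H Z for the fppf topology: j is
G-equivariant for left translation on the first factor, it is a torsor for the twisted H-action
h·(g, z) = (g i(h)⁻¹, h·z), and it has sections fppf-locally on Y. If π_Z : Z → P is a categorical
quotient of Z by H and π_Y : Y → Q a categorical quotient of Y by G, then the projection G × Z → Z
induces an isomorphism Q ≅ P, inverse to the morphism induced by the H-invariant map z ↦ π_Y(j(e,
z)): there are mutually inverse φ : P → Q and χ : Q → P with π_Z followed by φ equal to z ↦ π_Y(j(e,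
z)) and j followed by π_Y and χ equal to the projection followed by π_Z (so Y//G ≅ Z//H). (The
source assumes G and H reductive and defines G ×^H Z as the quotient (G × Z)//H, a principal
H-bundle; here the quotients are part of the data, the balanced product is taken in its torsor form,
and reductivity is not needed.) -/
theorem result
    (k : Type u) [Field k] [IsAlgClosed k] [CharZero k]
    (G H Z Y P Q : Over (Spec (CommRingCat.of k))) [GrpObj G] [GrpObj H]
    [IsAffine G.left] [LocallyOfFiniteType G.hom] [IsAffine H.left] [LocallyOfFiniteType H.hom]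
    (i : H ⟶ G) [IsMonHom i] [IsClosedImmersion i.left]
    [IsAffine Z.left] [LocallyOfFiniteType Z.hom] [IsReduced Z.left]
    (aZ : AlgGrp.Action H Z) (aY : AlgGrp.Action G Y) (j : G ⊗ Z ⟶ Y)
    (hY : ChGrp.IsBalProd Scheme.fppfPrecoverage i aZ aY j)
    (πZ : Z ⟶ P) (hP : GIT.IsCatQuot aZ πZ) (πY : Y ⟶ Q) (hQ : GIT.IsCatQuot aY πY) :
    ∃ (φ : P ⟶ Q) (χ : Q ⟶ P), φ ≫ χ = 𝟙 P ∧ χ ≫ φ = 𝟙 Q ∧
      πZ ≫ φ = lift (toUnit Z ≫ η[G]) (𝟙 Z) ≫ j ≫ πY ∧ j ≫ πY ≫ χ = snd G Z ≫ πZ := by
  have hK := Scheme.fppfPrecoverage_le_fpqcPrecoverage.{u}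
  let S := Spec (CommRingCat.of k)
  have he : ∀ (T : Over S) (z : T ⟶ Z), z ≫ lift (toUnit Z ≫ η[G]) (𝟙 Z) = lift 1 z := by
    intro T z
    rw [comp_lift, Category.comp_id, ← Category.assoc, toUnit_unique (z ≫ toUnit Z) (toUnit T),
      ← Hom.one_def]
  have hinvY : ∀ (T : Over S) (g : T ⟶ G) (y : T ⟶ Y), sm aY g y ≫ πY = y ≫ πY := by
    intro T g y
    have := congrArg (lift g y ≫ ·) hQ.1
    simp only [lift_snd_assoc] at this
    rw [← this, sm, Category.assoc]
  have hinvZ : ∀ (T : Over S) (g : T ⟶ H) (y : T ⟶ Z), sm aZ g y ≫ πZ = y ≫ πZ := by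
    intro T g y
    have := congrArg (lift g y ≫ ·) hP.1
    simp only [lift_snd_assoc] at this
    rw [← this, sm, Category.assoc]
  obtain ⟨φ, hφ, -⟩ := hP.2 Q (lift (toUnit Z ≫ η[G]) (𝟙 Z) ≫ j ≫ πY) (by
    refine AlgGrp.Action.hom_ext_lift₂ fun T h z => ?_
    have h1 : sm aZ h z ≫ lift (toUnit Z ≫ η[G]) (𝟙 Z) ≫ j ≫ πY = (lift 1 (sm aZ h z) ≫ j) ≫ πY := by
      rw [← he, Category.assoc, Category.assoc]
    have h2 : z ≫ lift (toUnit Z ≫ η[G]) (𝟙 Z) ≫ j ≫ πY = (lift 1 z ≫ j) ≫ πY := by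
      rw [← he, Category.assoc, Category.assoc]
    rw [← Category.assoc, lift_act, lift_snd_assoc, h1, h2, ← balProd_mul_inner hY, _root_.one_mul,
      balProd_eq_sm hY, hinvY])
  obtain ⟨c, hc, -⟩ := existsUnique_descend hK hY.2.2 (snd G Z ≫ πZ) (by
    intro T p p' e
    obtain ⟨g, z, rfl⟩ := exists_eq_lift p
    obtain ⟨g', z', rfl⟩ := exists_eq_lift p'
    obtain ⟨h, -, hz⟩ := exists_of_balProd hY _ _ _ _ e
    rw [lift_snd_assoc, lift_snd_assoc, hz, hinvZ])
  have hc' : ∀ (T : Over S) (g : T ⟶ G) (z : T ⟶ Z), (lift g z ≫ j) ≫ c = z ≫ πZ := by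
    intro T g z
    rw [Category.assoc, hc, lift_snd_assoc]
  obtain ⟨χ, hχ, -⟩ := hQ.2 P c (by
    refine hom_ext_lift hK hY.2.2 (snd G Y) fun T t p hp => ?_
    obtain ⟨g, y, rfl⟩ := exists_eq_lift t
    obtain ⟨g', z, rfl⟩ := exists_eq_lift p
    rw [lift_snd] at hp
    rw [← Category.assoc, lift_act, lift_snd_assoc, ← hp, ← balProd_mul hY, hc', hc'])
  have hχ' : j ≫ πY ≫ χ = snd G Z ≫ πZ := by rw [hχ, hc]
  have hl : lift (toUnit Z ≫ η[G]) (𝟙 Z) ≫ snd G Z ≫ πZ = πZ := by
    rw [← Category.assoc, lift_snd, Category.id_comp]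
  refine ⟨φ, χ, ?_, ?_, hφ, hχ'⟩
  · refine (hP.2 P πZ hP.1).unique (y₁ := φ ≫ χ) (y₂ := 𝟙 P) ?_ (Category.comp_id _)
    rw [← Category.assoc, hφ, Category.assoc, Category.assoc, hχ', hl]
  · refine (hQ.2 Q πY hQ.1).unique (y₁ := χ ≫ φ) (y₂ := 𝟙 Q) ?_ (Category.comp_id _)
    rw [← Category.assoc, hχ]
    refine cancel_left hK hY.2.2 ?_
    rw [← Category.assoc, hc, Category.assoc, hφ]
    refine AlgGrp.Action.hom_ext_lift₂ fun T g z => ?_
    rw [lift_snd_assoc, ← Category.assoc, he, ← Category.assoc, ← Category.assoc, balProd_eq_sm hY g z,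
      hinvY]

end Groth.Agent.S19679
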