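import Groth.Statements.S19680
import Groth.Agent.ChGrp.K676.Assemble
import Groth.Agent.ChGrp.K676.SliceAlg
import Groth.Agent.GLinSh.K676.Setup

set_option autoImplicit false
universe u
open CategoryTheory MonoidalCategory CartesianMonoidalCategory MonObj AlgebraicGeometry
open ChGrp

namespace Groth.Agent.S19680

attribute [local instance] K951.Pts.algΓ

/-- Let k be an algebraically closed field of characteristic zero, G a connected reductive group over k
(affine, smooth, connected, trivial unipotent radical) acting on a reduced affine k-scheme X of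
finite type (an affine variety), π : X → Y a good quotient of X by G, and x a k-point of X whose
orbit is closed. Let i : H → G be the stabilizer of x: a homomorphism making H the fibre product of
the orbit map G → X of x with the point x. Then there are a locally closed subscheme incl : V → X
which is affine and contains x, an action of H on V for which incl is equivariant (V is stable under
the stabilizer), a G-scheme W with a morphism j : G × V → W which is at once the categorical
quotient of G × V by the twisted H-action h·(g, v) = (g i(h)⁻¹, h·v) and the balanced product G ×^H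
V for the fppf topology (G-equivariant for left translation, an H-torsor with fppf-local sections),
a G-equivariant morphism ψ : W → X with ψ(j(g, v)) = g·incl(v) (the morphism induced by the action),
a good quotient π_W : W → Q of W by G and a morphism ψq : Q → Y with π_W followed by ψq equal to ψ
followed by π, such that: the image U of ψ is open in X and saturated (π⁻¹(π(U)) = U), ψq is étale,
and W is the fibre product of X and Q over Y through ψ and π_W; that is, ψ : G ×^H V → U is strongly
étale onto the saturated open U. (The published statement allows any reductive G; this row assumes G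
connected, the case the source's argument covers.) -/
theorem result
    (k : Type u) [Field k] [IsAlgClosed k] [CharZero k]
    (G X Y : Over (Spec (CommRingCat.of k))) [GrpObj G] (hG : Red.IsReductiveOver k G)
    [IsAffine X.left] [LocallyOfFiniteType X.hom] [IsReduced X.left]
    (a : AlgGrp.Action G X) (π : X ⟶ Y) (hπ : NRQuot.IsGoodQuot a π)
    (x : 𝟙_ (Over (Spec (CommRingCat.of k))) ⟶ X) (hx : IsClosed (Set.range (a.orbitMap x).left.base))
    (H : Over (Spec (CommRingCat.of k))) [GrpObj H] (i : H ⟶ G) [IsMonHom i]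
    (hH : IsPullback i (toUnit H) (a.orbitMap x) x) :
    ∃ (V W Q : Over (Spec (CommRingCat.of k))) (incl : V ⟶ X) (v : 𝟙_ (Over (Spec (CommRingCat.of k))) ⟶ V) (aV : AlgGrp.Action H V)
      (aW : AlgGrp.Action G W) (j : G ⊗ V ⟶ W) (ψ : W ⟶ X) (πW : W ⟶ Q) (ψq : Q ⟶ Y),
      IsImmersion incl.left ∧ IsAffine V.left ∧ v ≫ incl = x ∧
      aV.act ≫ incl = (H ◁ incl) ≫ (a.restrict i).act ∧
      GIT.IsCatQuot (ChGrp.twist i aV) j ∧ ChGrp.IsBalProd Scheme.fppfPrecoverage i aV aW j ∧
      j ≫ ψ = (G ◁ incl) ≫ a.act ∧ AlgGrp.Action.IsEquivariant aW a ψ ∧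
      NRQuot.IsGoodQuot aW πW ∧ πW ≫ ψq = ψ ≫ π ∧
      IsOpen (Set.range ψ.left.base) ∧
      π.left.base ⁻¹' (π.left.base '' Set.range ψ.left.base) = Set.range ψ.left.base ∧
      AlgebraicGeometry.Etale ψq.left ∧ IsPullback ψ πW π ψq := by
  obtain ⟨A, _, _, e, _, _, hlr, _⟩ := K676.Setup.exists_hopf hG
  obtain ⟨Hr⟩ := K686.HaarRed.haar_of_lr e hlr
  letI := K676.OrbBridge.cm a e
  haveI := K676.OrbBridge.isCoactAlg a e
  haveI hft : Algebra.FiniteType k Γ(X.left, ⊤) := by
    have h2 : RingHom.FiniteType X.hom.appTop.hom :=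
      (HasRingHomProperty.iff_of_isAffine (P := @LocallyOfFiniteType) (f := X.hom)).mp inferInstance
    have h3 : RingHom.FiniteType (X.hom.appTop.hom.comp (Scheme.ΓSpecIso (CommRingCat.of k)).inv.hom) :=
      h2.comp (RingHom.FiniteType.of_surjective _
        (ConcreteCategory.bijective_of_isIso (Scheme.ΓSpecIso (CommRingCat.of k)).inv).2)
    exact h3
  have hcl := (K676.OrbBridge.isClosedOrbit_iff a e x).2 hx
  obtain ⟨S, _, _, _, _, C, _, _, _, _, _, _, R, _, _, _, _, κ, πS, θ, p, y₀, z₀, hθ, F, ⟨hκ, hκs⟩, ⟨hπS, hπs⟩, hp,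
    h1, h2, h3, h4, h5, h6, h7, h8⟩ :=
    K676.SliceAlg.exists_slice k A hlr Γ(X.left, ⊤) (K676.OrbBridge.evp x) hcl
  have hiso : IsIso (K951.Pts.aff X) := K686.CoactOf.isIso_aff X
  have hiso' : IsIso (K951.Pts.aff X).left :=
    inferInstanceAs (IsIso ((Over.forget (Spec (CommRingCat.of k))).map (K951.Pts.aff X)))
  have hc : IsClosedImmersion (CoactBr.pt κ).left := K676.SpSquares.isClosedImmersion_pt κ hκs
  haveI : IsClosedImmersion (K951.Pts.aff X ≫ CoactBr.pt κ).left :=
    inferInstanceAs (IsClosedImmersion ((K951.Pts.aff X).left ≫ (CoactBr.pt κ).left))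
  refine K676.Assemble.assemble e Hr a π hπ x H i hH (K951.Pts.aff X ≫ CoactBr.pt κ) ?_ πS hπS hπs θ hθ p hp y₀ z₀
    F ?_ (h2.trans h1.symm) h3 h4 h5 h6 h7 h8
  · have e1 := (K982.Act.isEquivariant_iff _ _ _).1 (K676.SpAct.isEquivariant_aff e a)
    have e2 := (K982.Act.isEquivariant_iff _ _ _).1 (K676.SpAct.isEquivariant_pt e κ hκ)
    rw [K982.Act.isEquivariant_iff]
    intro T g w
    rw [← Category.assoc, e1, e2, Category.assoc]
  · rw [← Category.assoc, K676.SpAct.comp_aff, K676.SpAct.kpt_pt, h1]

end Groth.Agent.S19680
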