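import Groth.Statements.S19681
import Groth.Agent.ChGrp.K982.Descent

set_option autoImplicit false
universe u
open CategoryTheory MonoidalCategory CartesianMonoidalCategory MonObj AlgebraicGeometry
open ChGrp

namespace Groth.Agent.S19681


open K982.Act K982.Pts K982.Descent GrpObj in
/-- Let k be an algebraically closed field of characteristic zero, G and H affine group schemes of
finite type over k with i : H → G a homomorphism which is a closed immersion, and Z a reduced affine
k-scheme of finite type with an action of H. Let Y, with its G-action and j : G × Z → Y, be the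
balanced product G ×^H Z for the fppf topology (j is G-equivariant for left translation on the first
factor, a torsor for the twisted H-action h·(g, z) = (g i(h)⁻¹, h·z), with sections fppf-locally on
Y). Let c : Y' → Y be a closed immersion from a reduced scheme Y' with a G-action making c
equivariant (a closed G-invariant subvariety of Y). Then Y' is again a balanced product: there are a
closed immersion c' : Z' → Z, an H-action on Z' for which c' is equivariant (a closed H-invariant
subscheme of Z), and a morphism j' : G × Z' → Y' with j' followed by c equal to G × c' followed by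
j, such that j' makes Y' the balanced product G ×^H Z' for the fppf topology. (The source assumes G
and H reductive and defines G ×^H Z as the quotient (G × Z)//H, a principal H-bundle; here the
balanced product is taken in its torsor form and reductivity is not needed.) -/
theorem result
    (k : Type u) [Field k] [IsAlgClosed k] [CharZero k]
    (G H Z Y Y' : Over (Spec (CommRingCat.of k))) [GrpObj G] [GrpObj H]
    [IsAffine G.left] [LocallyOfFiniteType G.hom] [IsAffine H.left] [LocallyOfFiniteType H.hom]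
    (i : H ⟶ G) [IsMonHom i] [IsClosedImmersion i.left]
    [IsAffine Z.left] [LocallyOfFiniteType Z.hom] [IsReduced Z.left]
    (aZ : AlgGrp.Action H Z) (aY : AlgGrp.Action G Y) (j : G ⊗ Z ⟶ Y)
    (hY : ChGrp.IsBalProd Scheme.fppfPrecoverage i aZ aY j)
    (c : Y' ⟶ Y) [IsClosedImmersion c.left] [IsReduced Y'.left]
    (aY' : AlgGrp.Action G Y') (hc : AlgGrp.Action.IsEquivariant aY' aY c) :
    ∃ (Z' : Over (Spec (CommRingCat.of k))) (c' : Z' ⟶ Z) (aZ' : AlgGrp.Action H Z') (j' : G ⊗ Z' ⟶ Y'),
      IsClosedImmersion c'.left ∧ AlgGrp.Action.IsEquivariant aZ' aZ c' ∧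
      j' ≫ c = (G ◁ c') ≫ j ∧ ChGrp.IsBalProd Scheme.fppfPrecoverage i aZ' aY' j' := by
  have hK := Scheme.fppfPrecoverage_le_fpqcPrecoverage.{u}
  let S := Spec (CommRingCat.of k)
  have hmc : Mono c := (Over.forget S).mono_of_mono_map (inferInstanceAs (Mono c.left))
  let e : Z ⟶ G ⊗ Z := lift (toUnit Z ≫ η[G]) (𝟙 Z)
  have he : ∀ (T : Over S) (z : T ⟶ Z), z ≫ e = lift 1 z := by
    intro T z
    rw [comp_lift, Category.comp_id, ← Category.assoc, toUnit_unique (z ≫ toUnit Z) (toUnit T),
      ← Hom.one_def]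
  have hce : ∀ (T : Over S) (g : T ⟶ G) (y : T ⟶ Y'), sm aY' g y ≫ c = sm aY g (y ≫ c) :=
    fun T g y => (isEquivariant_iff _ _ _).1 hc T g y
  let Z' : Over S := Limits.pullback c (e ≫ j)
  let f : Z' ⟶ Y' := Limits.pullback.fst c (e ≫ j)
  let c' : Z' ⟶ Z := Limits.pullback.snd c (e ≫ j)
  have hpb : IsPullback f c' c (e ≫ j) := IsPullback.of_hasPullback _ _
  have hcl : IsClosedImmersion c'.left :=
    MorphismProperty.of_isPullback (P := @IsClosedImmersion) (hpb.map (Over.forget S)) ‹_›
  have hmc' : Mono c' := (Over.forget S).mono_of_mono_map (inferInstanceAs (Mono c'.left))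
  have hf : ∀ (T : Over S) (z : T ⟶ Z'), (z ≫ f) ≫ c = lift 1 (z ≫ c') ≫ j := by
    intro T z
    rw [Category.assoc, hpb.w, ← he]
    simp only [Category.assoc]
  have hex : ∀ (T : Over S) (z : T ⟶ Z) (y : T ⟶ Y'), y ≫ c = lift 1 z ≫ j → ∃ z' : T ⟶ Z', z' ≫ c' = z := by
    intro T z y hy
    obtain ⟨p, -, hp⟩ := exists_of_isPullback hpb y z (by rw [hy, ← he, Category.assoc])
    exact ⟨p, hp⟩
  -- the action on `Z'`
  have hact : ∀ (T : Over S) (h : T ⟶ H) (z : T ⟶ Z'), ∃ z' : T ⟶ Z', z' ≫ c' = sm aZ h (z ≫ c') := by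
    intro T h z
    refine hex T _ (sm aY' (h ≫ i) (z ≫ f)) ?_
    rw [hce, hf, ← balProd_mul hY, ← balProd_mul_inner hY, _root_.mul_one, _root_.one_mul]
  obtain ⟨m, hm⟩ := hact (H ⊗ Z') (fst H Z') (snd H Z')
  have hm' : ∀ (T : Over S) (h : T ⟶ H) (z : T ⟶ Z'), (lift h z ≫ m) ≫ c' = sm aZ h (z ≫ c') := by
    intro T h z
    rw [Category.assoc, hm, comp_sm, lift_fst, lift_snd_assoc]
  let aZ' : AlgGrp.Action H Z' :=
    { act := m
      one_act := by
        rw [← cancel_mono c']
        refine AlgGrp.Action.hom_ext_lift₂ fun T u z => ?_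
        have hu : u ≫ η[H] = 1 := by rw [Hom.one_def, toUnit_unique (toUnit T) u]
        rw [← Category.assoc, ← Category.assoc, lift_whiskerRight, hm', hu, one_sm, ← Category.assoc,
          leftUnitor_hom, lift_snd]
      mul_act := by
        rw [← cancel_mono c']
        refine AlgGrp.Action.hom_ext_lift₃ fun T h h' z => ?_
        rw [← Category.assoc, ← Category.assoc, lift_whiskerRight, ← Hom.mul_def, hm', mul_sm,
          ← Category.assoc, lift_lift_associator_hom_assoc, lift_whiskerLeft_assoc, hm', hm'] }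
  have hsm : ∀ (T : Over S) (h : T ⟶ H) (z : T ⟶ Z'), sm aZ' h z ≫ c' = sm aZ h (z ≫ c') := hm'
  let j' : G ⊗ Z' ⟶ Y' := (G ◁ f) ≫ aY'.act
  have hj' : ∀ (T : Over S) (g : T ⟶ G) (z : T ⟶ Z'), lift g z ≫ j' = sm aY' g (z ≫ f) := by
    intro T g z
    rw [← Category.assoc, lift_whiskerLeft]
    rfl
  have hj'c : ∀ (T : Over S) (g : T ⟶ G) (z : T ⟶ Z'), (lift g z ≫ j') ≫ c = lift g (z ≫ c') ≫ j := by
    intro T g z
    rw [hj', hce, hf, ← balProd_eq_sm hY]
  refine ⟨Z', c', aZ', j', hcl, ?_, ?_, isBalProd_of_points ?_ ?_ ?_ ?_ ?_⟩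
  · exact (isEquivariant_iff _ _ _).2 hsm
  · refine AlgGrp.Action.hom_ext_lift₂ fun T g z => ?_
    rw [← Category.assoc, hj'c, ← Category.assoc, lift_whiskerLeft]
  · intro T g' g z
    rw [hj', hj', mul_sm]
  · intro T h g z
    rw [← cancel_mono c, hj'c, hj'c, hsm, balProd_twist hY]
  · intro T g g' z z' hzz
    have h1 := congrArg (· ≫ c) hzz
    simp only [hj'c] at h1
    obtain ⟨h, hg, hz⟩ := exists_of_balProd hY _ _ _ _ h1
    rw [← hsm, cancel_mono] at hz
    exact ⟨h, hg, hz⟩
  · intro T h h' z e1 e2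
    refine unique_of_balProd hY h h' (z ≫ c') e1 ?_
    rw [← hsm, ← hsm, e2]
  · refine isLocallyTrivialFor_of_lift hY.2.2 j' c fun T t p hp => ?_
    obtain ⟨g, z, rfl⟩ := exists_eq_lift p
    obtain ⟨z', hz'⟩ := hex T z (sm aY' g⁻¹ t) (by
      rw [hce, ← hp, ← balProd_mul hY, inv_mul_cancel])
    refine ⟨lift g z', ?_⟩
    rw [← cancel_mono c, hj'c, hz', hp]

end Groth.Agent.S19681
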