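import Groth.Statements.S19682
import Groth.Agent.AbSch.K454.TorAb
import Groth.Agent.S19296

set_option autoImplicit false
universe u
open CategoryTheory CategoryTheory.Limits MonoidalCategory CartesianMonoidalCategory MonObj AlgebraicGeometry
open AbSch

namespace Groth.Agent.S19682

/-- Let S be a scheme, A an abelian S-scheme (smooth, proper, connected fibres), T an S-torus and P a
commutative S-group scheme of finite presentation over S with connected fibres which is divisible
(multiplication by every non-zero integer is an epimorphism of its sheaf of points on the big fppf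
site). Then the category of biextensions of (P, T) by A is trivial (punctual): every biextension of
(P, T) by A, formed with the sheaves of points on the big fppf site of all S-schemes (the source
works on the fppf site of S-schemes locally of finite presentation), admits a splitting, and its
only endomorphism inducing the identity on P, T and A is the identity. (The same holds with the
roles of P and T exchanged, by the symmetry of biextensions.) -/
theorem result {S : Scheme.{u}} (P T A : Over S)
    [GrpObj P] [IsCommMonObj P] [QuasiCompact P.hom] [QuasiSeparated P.hom] [LocallyOfFinitePresentation P.hom]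
    (hP : ∀ s : S, ConnectedSpace ↥(P.hom.fiber s))
    (hPdiv : ∀ n : ℤ, n ≠ 0 → Epi (n • 𝟙 (CGrpSh.pts Scheme.fppfPrecoverage P)))
    [GrpObj T] [IsCommMonObj T] (hT : Red.IsTorus T)
    [GrpObj A] [IsCommMonObj A] [Smooth A.hom] [IsProper A.hom]
    (hA : ∀ s : S, ConnectedSpace ↥(A.hom.fiber s))
    (B : Biext (QuotSh.J Scheme.fppfPrecoverage S) (CGrpSh.pts Scheme.fppfPrecoverage P) (CGrpSh.pts Scheme.fppfPrecoverage T) (CGrpSh.pts Scheme.fppfPrecoverage A)) :
    Biext.IsTrivial (QuotSh.J Scheme.fppfPrecoverage S) B ∧
      ∀ f : Biext.Hom (QuotSh.J Scheme.fppfPrecoverage S) B B, f = Biext.HomOver.id (QuotSh.J Scheme.fppfPrecoverage S) B := by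
  exact ⟨K454.TorAb.isTrivial_of_hom hT hA
      (K454.TorAb.hom_extSh_eq_zero (Groth.Agent.S19296.result T A hT hA) hP) B,
    K454.BX.rigid (K454.BX.hom_zero_of_isZero (Groth.Agent.S19290.result T A hT hA)) B⟩

end Groth.Agent.S19682
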