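import Groth.Statements.S19684
import Groth.Agent.AbSch.K454.TorTriv
-- import your own Groth.Agent.* helpers here

set_option autoImplicit false
universe u
open CategoryTheory CategoryTheory.Limits MonoidalCategory CartesianMonoidalCategory MonObj AlgebraicGeometry
open AbSch

namespace Groth.Agent.S19684

/-- Let S be a scheme, T₁ and T₂ S-tori and P a smooth commutative S-group scheme of finite presentation
over S with connected fibres. Then the category of biextensions of (P, T₁) by T₂ is trivial
(punctual): every biextension of (P, T₁) by T₂, formed with the sheaves of points on the big fppf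
site of all S-schemes (the source works on the fppf site of S-schemes locally of finite
presentation), admits a splitting, and its only endomorphism inducing the identity on P, T₁ and T₂
is the identity. (The same holds with the roles of P and T₁ exchanged, by the symmetry of
biextensions; for P an abelian S-scheme or an S-torus these are the cases of biextensions of abelian
schemes and tori, or of pairs of tori, by tori.) -/
theorem result {S : Scheme.{u}} (P T₁ T₂ : Over S)
    [GrpObj P] [IsCommMonObj P] [Smooth P.hom] [QuasiCompact P.hom] [QuasiSeparated P.hom]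
    (hP : ∀ s : S, ConnectedSpace ↥(P.hom.fiber s))
    [GrpObj T₁] [IsCommMonObj T₁] (hT₁ : Red.IsTorus T₁)
    [GrpObj T₂] [IsCommMonObj T₂] (hT₂ : Red.IsTorus T₂)
    (B : Biext (QuotSh.J Scheme.fppfPrecoverage S) (CGrpSh.pts Scheme.fppfPrecoverage P) (CGrpSh.pts Scheme.fppfPrecoverage T₁) (CGrpSh.pts Scheme.fppfPrecoverage T₂)) :
    Biext.IsTrivial (QuotSh.J Scheme.fppfPrecoverage S) B ∧
      ∀ f : Biext.Hom (QuotSh.J Scheme.fppfPrecoverage S) B B, f = Biext.HomOver.id (QuotSh.J Scheme.fppfPrecoverage S) B := by
  refine ⟨K454.BX.isTrivial_of_vanish B ?_ ?_, K454.BX.rigid (K454.TorTriv.hom_eq_zero P T₁ T₂ hP hT₁ hT₂) B⟩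
  · have := K453.OverEx.enoughInjectives (QuotSh.J Scheme.fppfPrecoverage S)
    exact (K454.ToriExt.allSplit_iff _ _).mp (K454.TorTriv.allSplit P T₁ T₂ hP hT₁ hT₂)
  · intro φ
    exact (K454.ToriVan.isZero_extSh_torus T₁ T₂ hT₁ hT₂).eq_of_tgt _ _

end Groth.Agent.S19684
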