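import Groth.Statements.S19685
import Groth.Agent.AbSch.K454.TorAb
import Groth.Agent.S19296

set_option autoImplicit false
universe u
open CategoryTheory CategoryTheory.Limits MonoidalCategory CartesianMonoidalCategory MonObj AlgebraicGeometry
open AbSch

namespace Groth.Agent.S19685

/-- Let S be a scheme, A an abelian S-scheme (smooth, proper, connected fibres), T an S-torus and P a
commutative S-group scheme which is quasi-compact over S and divisible (multiplication by every
non-zero integer is an epimorphism of its sheaf of points on the big fppf site). Then there is no
non-trivial biextension of (P, T) by A: every biextension of (P, T) by A, formed with the sheaves of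
points on the big fppf site of all S-schemes, admits a splitting. (The published statement asks only
that P be divisible; this row assumes P quasi-compact over S, without which the statement fails:
take P the constant group scheme ℚ/ℤ over an algebraically closed field of characteristic zero, T
the multiplicative group and A an elliptic curve.) -/
theorem result {S : Scheme.{u}} (P T A : Over S)
    [GrpObj P] [IsCommMonObj P] [QuasiCompact P.hom]
    (hPdiv : ∀ n : ℤ, n ≠ 0 → Epi (n • 𝟙 (CGrpSh.pts Scheme.fppfPrecoverage P)))
    [GrpObj T] [IsCommMonObj T] (hT : Red.IsTorus T)
    [GrpObj A] [IsCommMonObj A] [Smooth A.hom] [IsProper A.hom]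
    (hA : ∀ s : S, ConnectedSpace ↥(A.hom.fiber s))
    (B : Biext (QuotSh.J Scheme.fppfPrecoverage S) (CGrpSh.pts Scheme.fppfPrecoverage P) (CGrpSh.pts Scheme.fppfPrecoverage T) (CGrpSh.pts Scheme.fppfPrecoverage A)) :
    Biext.IsTrivial (QuotSh.J Scheme.fppfPrecoverage S) B := by
  exact K454.TorAb.isTrivial_of_hom hT hA
    (K454.TorAb.hom_extSh_eq_zero_of_div (Groth.Agent.S19296.result T A hT hA) hPdiv) B

end Groth.Agent.S19685
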