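import Groth.Statements.S19688
import Groth.Agent.AbSch.K454.TorAb
import Groth.Agent.S19296

set_option autoImplicit false
universe u
open CategoryTheory CategoryTheory.Limits MonoidalCategory CartesianMonoidalCategory MonObj AlgebraicGeometry
open AbSch

namespace Groth.Agent.S19688

/-- Under an assumption on the abelian parts stated below, let S be a scheme, A an abelian S-scheme and,
for i = 1, 2, G_i a commutative S-group scheme which is an extension of an abelian S-scheme A_i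
(smooth, proper, connected fibres) by an S-torus T_i: homomorphisms T_i → G_i → A_i composing to the
trivial map whose sequence of sheaves of points on the big fppf site of all S-schemes is short
exact. Assume that every biextension of (A₁, A₂) by A on that site admits a splitting (the source
derives this beforehand; here it is an assumption). Then the category of biextensions of (G₁, G₂) by
A is trivial (punctual): every such biextension admits a splitting, and its only endomorphism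
inducing the identity on G₁, G₂ and A is the identity. -/
theorem result {S : Scheme.{u}}
    (T₁ G₁ A₁ T₂ G₂ A₂ A : Over S)
    [GrpObj T₁] [IsCommMonObj T₁] (hT₁ : Red.IsTorus T₁) [GrpObj G₁] [IsCommMonObj G₁]
    [GrpObj A₁] [IsCommMonObj A₁] [Smooth A₁.hom] [IsProper A₁.hom]
    (hA₁ : ∀ s : S, ConnectedSpace ↥(A₁.hom.fiber s))
    (ι₁ : T₁ ⟶ G₁) (π₁ : G₁ ⟶ A₁) [IsMonHom ι₁] [IsMonHom π₁] (w₁ : ι₁ ≫ π₁ = 1)
    (hex₁ : (CGrpSh.seq Scheme.fppfPrecoverage ι₁ π₁ w₁).ShortExact)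
    [GrpObj T₂] [IsCommMonObj T₂] (hT₂ : Red.IsTorus T₂) [GrpObj G₂] [IsCommMonObj G₂]
    [GrpObj A₂] [IsCommMonObj A₂] [Smooth A₂.hom] [IsProper A₂.hom]
    (hA₂ : ∀ s : S, ConnectedSpace ↥(A₂.hom.fiber s))
    (ι₂ : T₂ ⟶ G₂) (π₂ : G₂ ⟶ A₂) [IsMonHom ι₂] [IsMonHom π₂] (w₂ : ι₂ ≫ π₂ = 1)
    (hex₂ : (CGrpSh.seq Scheme.fppfPrecoverage ι₂ π₂ w₂).ShortExact)
    [GrpObj A] [IsCommMonObj A] [Smooth A.hom] [IsProper A.hom]
    (hA : ∀ s : S, ConnectedSpace ↥(A.hom.fiber s))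
    (hA₁₂ : ∀ B₀ : Biext (QuotSh.J Scheme.fppfPrecoverage S) (CGrpSh.pts Scheme.fppfPrecoverage A₁) (CGrpSh.pts Scheme.fppfPrecoverage A₂) (CGrpSh.pts Scheme.fppfPrecoverage A), Biext.IsTrivial (QuotSh.J Scheme.fppfPrecoverage S) B₀)
    (B : Biext (QuotSh.J Scheme.fppfPrecoverage S) (CGrpSh.pts Scheme.fppfPrecoverage G₁) (CGrpSh.pts Scheme.fppfPrecoverage G₂) (CGrpSh.pts Scheme.fppfPrecoverage A)) :
    Biext.IsTrivial (QuotSh.J Scheme.fppfPrecoverage S) B ∧
      ∀ f : Biext.Hom (QuotSh.J Scheme.fppfPrecoverage S) B B, f = Biext.HomOver.id (QuotSh.J Scheme.fppfPrecoverage S) B := by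
  exact ⟨K454.TorAb.isTrivial_semi (Groth.Agent.S19296.result T₁ A hT₁ hA) (Groth.Agent.S19296.result T₂ A hT₂ hA)
      hT₁ hT₂ hA₁ hA₂ hA ι₁ π₁ w₁ hex₁ ι₂ π₂ w₂ hex₂ hA₁₂ B,
    K454.BX.rigid (K454.TorAb.hom_homSh_eq_zero hT₁ hT₂ hA₁ hA₂ hA ι₁ π₁ w₁ hex₁ ι₂ π₂ w₂ hex₂) B⟩

end Groth.Agent.S19688
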