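import Groth.Statements.S19689
import Groth.Agent.AbSch.K454.TorAb
import Groth.Agent.S19296

set_option autoImplicit false
universe u
open CategoryTheory CategoryTheory.Limits MonoidalCategory CartesianMonoidalCategory MonObj AlgebraicGeometry
open AbSch

namespace Groth.Agent.S19689

/-- Under an assumption on the abelian parts stated below, let S be a scheme and, for i = 1, 2, 3, G_i a
commutative S-group scheme which is an extension of an abelian S-scheme A_i (smooth, proper,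
connected fibres) by an S-torus T_i: homomorphisms ι_i : T_i → G_i and π_i : G_i → A_i composing to
the trivial map whose sequence of sheaves of points on the big fppf site of all S-schemes is short
exact (the source works on the fppf site of S-schemes locally of finite presentation). Assume that
every biextension of (A₁, A₂) by A₃ on that site admits a splitting (derived beforehand in the
source; an assumption here). Then the functor from biextensions of (A₁, A₂) by T₃ to biextensions of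
(G₁, G₂) by G₃, inverse image by (π₁, π₂) followed by image by ι₃, is essentially surjective: for
every biextension B of (G₁, G₂) by G₃ there are a biextension B₀ of (A₁, A₂) by T₃, a biextension B₁
of (G₁, G₂) by T₃ with a morphism B₁ → B₀ lying over π₁, π₂ and the identity of T₃, and a morphism
B₁ → B lying over the identities of G₁, G₂ and over ι₃. (The source states an equivalence of
categories; only this half is stated.) -/
theorem result {S : Scheme.{u}}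
    (T₁ G₁ A₁ T₂ G₂ A₂ T₃ G₃ A₃ : Over S)
    [GrpObj T₁] [IsCommMonObj T₁] (hT₁ : Red.IsTorus T₁) [GrpObj G₁] [IsCommMonObj G₁]
    [GrpObj A₁] [IsCommMonObj A₁] [Smooth A₁.hom] [IsProper A₁.hom]
    (hA₁ : ∀ s : S, ConnectedSpace ↥(A₁.hom.fiber s))
    (ι₁ : T₁ ⟶ G₁) (π₁ : G₁ ⟶ A₁) [IsMonHom ι₁] [IsMonHom π₁] (w₁ : ι₁ ≫ π₁ = 1)
    (hex₁ : (CGrpSh.seq Scheme.fppfPrecoverage ι₁ π₁ w₁).ShortExact)
    [GrpObj T₂] [IsCommMonObj T₂] (hT₂ : Red.IsTorus T₂) [GrpObj G₂] [IsCommMonObj G₂]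
    [GrpObj A₂] [IsCommMonObj A₂] [Smooth A₂.hom] [IsProper A₂.hom]
    (hA₂ : ∀ s : S, ConnectedSpace ↥(A₂.hom.fiber s))
    (ι₂ : T₂ ⟶ G₂) (π₂ : G₂ ⟶ A₂) [IsMonHom ι₂] [IsMonHom π₂] (w₂ : ι₂ ≫ π₂ = 1)
    (hex₂ : (CGrpSh.seq Scheme.fppfPrecoverage ι₂ π₂ w₂).ShortExact)
    [GrpObj T₃] [IsCommMonObj T₃] (hT₃ : Red.IsTorus T₃) [GrpObj G₃] [IsCommMonObj G₃]
    [GrpObj A₃] [IsCommMonObj A₃] [Smooth A₃.hom] [IsProper A₃.hom]
    (hA₃ : ∀ s : S, ConnectedSpace ↥(A₃.hom.fiber s))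
    (ι₃ : T₃ ⟶ G₃) (π₃ : G₃ ⟶ A₃) [IsMonHom ι₃] [IsMonHom π₃] (w₃ : ι₃ ≫ π₃ = 1)
    (hex₃ : (CGrpSh.seq Scheme.fppfPrecoverage ι₃ π₃ w₃).ShortExact)
    (hA₁₂ : ∀ B₀ : Biext (QuotSh.J Scheme.fppfPrecoverage S) (CGrpSh.pts Scheme.fppfPrecoverage A₁) (CGrpSh.pts Scheme.fppfPrecoverage A₂) (CGrpSh.pts Scheme.fppfPrecoverage A₃), Biext.IsTrivial (QuotSh.J Scheme.fppfPrecoverage S) B₀)
    (B : Biext (QuotSh.J Scheme.fppfPrecoverage S) (CGrpSh.pts Scheme.fppfPrecoverage G₁) (CGrpSh.pts Scheme.fppfPrecoverage G₂) (CGrpSh.pts Scheme.fppfPrecoverage G₃)) :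
    ∃ (B₀ : Biext (QuotSh.J Scheme.fppfPrecoverage S) (CGrpSh.pts Scheme.fppfPrecoverage A₁) (CGrpSh.pts Scheme.fppfPrecoverage A₂) (CGrpSh.pts Scheme.fppfPrecoverage T₃))
      (B₁ : Biext (QuotSh.J Scheme.fppfPrecoverage S) (CGrpSh.pts Scheme.fppfPrecoverage G₁) (CGrpSh.pts Scheme.fppfPrecoverage G₂) (CGrpSh.pts Scheme.fppfPrecoverage T₃)),
      Nonempty (Biext.HomOver (QuotSh.J Scheme.fppfPrecoverage S) (CGrpSh.ptsMap Scheme.fppfPrecoverage π₁) (CGrpSh.ptsMap Scheme.fppfPrecoverage π₂) (𝟙 (CGrpSh.pts Scheme.fppfPrecoverage T₃)) B₁ B₀) ∧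
      Nonempty (Biext.HomOver (QuotSh.J Scheme.fppfPrecoverage S) (𝟙 (CGrpSh.pts Scheme.fppfPrecoverage G₁)) (𝟙 (CGrpSh.pts Scheme.fppfPrecoverage G₂)) (CGrpSh.ptsMap Scheme.fppfPrecoverage ι₃) B₁ B) := by
  obtain ⟨hπ, hι, h0, hex⟩ := K454.BX.sections_of_shortExact hex₃
  obtain ⟨B', ⟨ψ⟩⟩ := K454.BX.exists_push B (CGrpSh.ptsMap Scheme.fppfPrecoverage π₃) hπ
  obtain ⟨s⟩ := K454.TorAb.isTrivial_semi (Groth.Agent.S19296.result T₁ A₃ hT₁ hA₃)
    (Groth.Agent.S19296.result T₂ A₃ hT₂ hA₃) hT₁ hT₂ hA₁ hA₂ hA₃ ι₁ π₁ w₁ hex₁ ι₂ π₂ w₂ hex₂ hA₁₂ B'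
  obtain ⟨B₁, hB₁⟩ := K454.BX.exists_reduce ψ s hπ hι h0 hex
  obtain ⟨B₀, hB₀⟩ := K454.TorAb.exists_desc_torus hT₁ hT₂ hT₃ hA₁ hA₂ ι₁ π₁ w₁ hex₁ ι₂ π₂ w₂ hex₂ B₁
  exact ⟨B₀, B₁, hB₀, hB₁⟩

end Groth.Agent.S19689
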