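import Groth.Statements.S19701
import Groth.Agent.Curves.K335.TraceSurj
import Groth.Agent.VarietyB.HHPush
import Groth.Agent.VarietyA.CurveFin
import Groth.Agent.CurvesB.CurveRR
import Groth.Agent.CohqA.ProjDim
import Groth.Agent.Ega3B.ProjProper
import Groth.Agent.Ega1.GenPts
import Groth.Agent.Sga4B.SmoothNormal
import Groth.Agent.S1524
import Groth.Agent.S0019
import Groth.Agent.S0023
import Groth.Agent.Ega3B.DevQC

set_option autoImplicit false
universe u
open CategoryTheory CategoryTheory.Limits AlgebraicGeometry Opposite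
open Curves

namespace Groth.Agent.S19701

/-- Let k be an algebraically closed field of characteristic different from 2 and X a hyperelliptic
curve of genus g over k: X → Spec k is smooth and proper, X is connected of dimension one with g =
dim_k H¹(X, O_X) ≥ 2, and h : X → P¹_k is a k-morphism which is a double cover (finite, flat,
locally of finite presentation, of rank 2 at every point). Let τ : h_*O_X → O_{P¹} be the trace of h
(the O-linear map which over every affine open of P¹_k where h_*O_X is finite free is the trace of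
the regular representation). Then the kernel of τ — an invertible sheaf on P¹_k — has degree −g − 1,
the degree of a rank-one sheaf E on P¹_k being χ(E) − χ(O). (On P¹_k this says that ker τ is
isomorphic to O(−g − 1); only the degree is asserted here.) -/
theorem result (k : Type u) [Field k] [IsAlgClosed k]
    (h2 : (2 : k) ≠ 0) {X : Scheme.{u}} (p : X ⟶ Spec (CommRingCat.of k)) [IsProper p] [Smooth p]
    [ConnectedSpace ↥X] (hX : topologicalKrullDim ↥X = 1) (hg : 2 ≤ @Curv2.genus k _ X ⟨p⟩)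
    (h : X ⟶ CohB1.ProjSpace 1 k) (hh : h ≫ CohB1.ProjSpace.toSpec 1 k = p)
    [IsFinite h] [Flat h] [LocallyOfFinitePresentation h]
    (hr : ∀ y : ↥(CohB1.ProjSpace 1 k), h.finrank y = 2)
    (τ : (Scheme.Modules.pushforward h).obj (Coh.structureModule X) ⟶ Coh.structureModule (CohB1.ProjSpace 1 k))
    (hτ : FinCov.IsTraceHom h τ) :
    @Curv2.deg k _ (CohB1.ProjSpace 1 k) ⟨CohB1.ProjSpace.toSpec 1 k⟩ (kernel τ) 1 =
      -((@Curv2.genus k _ X ⟨p⟩ : ℤ) + 1) := by
  let _ : X.Over (Spec (CommRingCat.of k)) := ⟨p⟩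
  let _ : (CohB1.ProjSpace 1 k).Over (Spec (CommRingCat.of k)) := ⟨CohB1.ProjSpace.toSpec 1 k⟩
  have hpX : IsProper (X ↘ Spec (CommRingCat.of k)) := inferInstanceAs (IsProper p)
  have hpP : IsProper ((CohB1.ProjSpace 1 k) ↘ Spec (CommRingCat.of k)) :=
    Ega3B.ProjProper.isProper_toSpec 1 k
  have hh' : h ≫ ((CohB1.ProjSpace 1 k) ↘ Spec (CommRingCat.of k)) = X ↘ Spec (CommRingCat.of k) := hh
  have hNX : IsNoetherian X := CurvesB.CurveRR.isNoetherian_of_proper k X
  have hNP : IsNoetherian (CohB1.ProjSpace 1 k) := CurvesB.CurveRR.isNoetherian_of_proper k _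
  have hiX : IsIntegral X := by
    rw [Ega1.GenPts.isIntegral_iff]
    exact ⟨inferInstance, fun x => (Sga4B.SmoothNormal.isNormalScheme_of_smooth p x).1⟩
  have hdP : topologicalKrullDim (CohB1.ProjSpace 1 k) ≤ 1 := by
    exact_mod_cast CohqA.ProjDim.topologicalKrullDim_le (k := k) (n := 1)
  -- the trace is surjective
  have hu : ∀ U : (CohB1.ProjSpace 1 k).Opens, IsUnit ((2 : ℕ) : Γ(CohB1.ProjSpace 1 k, U)) := by
    intro U
    have h1 : IsUnit (2 : k) := h2.isUnit
    have h3 := h1.map ((((CohB1.ProjSpace 1 k).presheaf.map (homOfLE (le_top : U ≤ ⊤)).op).hom).comp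
      (Coh.toGlobal (CohB1.ProjSpace.toSpec 1 k)))
    rw [map_ofNat] at h3
    exact_mod_cast h3
  have hepi : Epi τ := K335.TraceSurj.epi_of_isTraceHom h 2 hr hu τ hτ
  -- Euler characteristics
  have hcX : Coh.IsCoh (Coh.structureModule X) := CurvesC.UnitCoh.isCoh_unit X
  have hcP : Coh.IsCoh (Coh.structureModule (CohB1.ProjSpace 1 k)) := CurvesC.UnitCoh.isCoh_unit _
  have hcpush : Coh.IsCoh ((Scheme.Modules.pushforward h).obj (Coh.structureModule X)) :=
    Groth.Agent.S0019.result h _ hcX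
  let S : ShortComplex (CohB1.ProjSpace 1 k).Modules := ShortComplex.mk (kernel.ι τ) τ (kernel.condition τ)
  have hS : S.ShortExact :=
    { exact := ShortComplex.exact_kernel τ
      mono_f := inferInstanceAs (Mono (kernel.ι τ))
      epi_g := hepi }
  have hck : Coh.IsCoh (kernel τ) := by
    exact Ega3B.DevQC.isCoh_kernel τ hcpush hcP.1
  have e1 := Groth.Agent.S1524.result k (CohB1.ProjSpace 1 k) S hS hck hcpush hcP
  have e2 : Curv2.euler k (CohB1.ProjSpace 1 k) S.X₂ = Curv2.euler k X (Coh.structureModule X) :=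
    VarietyB.HHPush.euler_push h k hh' _ (CurvesC.UnitCoh.isQCoh_unit X)
  have e3 : Curv2.euler k X (Coh.structureModule X) = 1 - (Curv2.genus k X : ℤ) := by
    rw [CurvesB.CurveRR.euler_eq k X hX.le, VarietyA.CurveFin.finrank_h0_structure k X]
    rfl
  have e4 : Curv2.euler k (CohB1.ProjSpace 1 k) (Coh.structureModule (CohB1.ProjSpace 1 k)) = 1 := by
    rw [CurvesB.CurveRR.euler_eq k _ hdP, VarietyA.CurveFin.finrank_h0_structure k (CohB1.ProjSpace 1 k)]
    have h5 : Subsingleton (Coh.HH (CohB1.ProjSpace 1 k) (Coh.structureModule (CohB1.ProjSpace 1 k)) 1) :=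
      Groth.Agent.S0023.result 1 k 1 one_pos
    rw [Module.finrank_zero_of_subsingleton]
    rfl
  have e5 : Curv2.euler k (CohB1.ProjSpace 1 k) S.X₁ = - (Curv2.genus k X : ℤ) := by
    have e6 : Curv2.euler k (CohB1.ProjSpace 1 k) S.X₃ = 1 := e4
    rw [e6, e2, e3] at e1
    omega
  have e7 : @Curv2.deg k _ (CohB1.ProjSpace 1 k) ⟨CohB1.ProjSpace.toSpec 1 k⟩ (kernel τ) 1 =
      Curv2.euler k (CohB1.ProjSpace 1 k) S.X₁ -
        ((1 : ℕ) : ℤ) * Curv2.euler k (CohB1.ProjSpace 1 k) (Coh.structureModule (CohB1.ProjSpace 1 k)) := rfl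
  rw [e7, e5, e4]
  push_cast
  ring

end Groth.Agent.S19701
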