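import Groth.Statements.S19706
import Groth.Agent.AlgGrp.K414.IsogComm
import Groth.Agent.AlgGrp.K398.AntiAff

set_option autoImplicit false
universe u
open CategoryTheory MonoidalCategory CartesianMonoidalCategory MonObj GrpObj AlgebraicGeometry CategoryTheory.Limits
open AlgGrp

namespace Groth.Agent.S19706

attribute [-instance] CategoryTheory.catToReflQuiver

/-- Let k be a perfect field and G a connected commutative algebraic group over k with largest
anti-affine closed subgroup scheme G_ant = M (j : M → G; O(M) = k and every anti-affine closed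
subgroup scheme of G factors through M). Then there are a subtorus T ⊆ G and a smooth connected
unipotent closed subgroup U ⊆ G (affine, containing no non-trivial subtorus) such that the
multiplication G_ant × T × U → G is an isogeny, i.e. surjective and finite. The uniqueness
assertions (T up to isogeny, U up to isomorphism) and the case of a non-smooth G are not restated. -/
theorem result (k : Type u) [Field k] [PerfectField k]
    (G : Over (Spec (CommRingCat.of k))) [GrpObj G] [Smooth G.hom] [QuasiCompact G.hom] [ConnectedSpace ↥G.left] [IsCommMonObj G]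
    (M : Over (Spec (CommRingCat.of k))) [GrpObj M] [LocallyOfFiniteType M.hom] [QuasiCompact M.hom] (j : M ⟶ G) [IsMonHom j] [IsClosedImmersion j.left]
    (hM : Function.Bijective ((Scheme.ΓSpecIso (CommRingCat.of k)).inv ≫ M.hom.appTop).hom)
    (hMmax : ∀ (M₁ : Over (Spec (CommRingCat.of k))) [GrpObj M₁] [LocallyOfFiniteType M₁.hom] [QuasiCompact M₁.hom] (j₁ : M₁ ⟶ G) [IsMonHom j₁] [IsClosedImmersion j₁.left],
      Function.Bijective ((Scheme.ΓSpecIso (CommRingCat.of k)).inv ≫ M₁.hom.appTop).hom → ∃ g : M₁ ⟶ M, g ≫ j = j₁) :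
    ∃ (T : Over (Spec (CommRingCat.of k))) (_ : GrpObj T) (t : T ⟶ G) (U : Over (Spec (CommRingCat.of k))) (_ : GrpObj U) (u : U ⟶ G),
      IsMonHom t ∧ IsClosedImmersion t.left ∧ Red.IsTorus T ∧ IsMonHom u ∧ IsClosedImmersion u.left ∧
      Smooth U.hom ∧ IsAffine U.left ∧ ConnectedSpace ↥U.left ∧ Red.HasNoSubtorus k U ∧
      Surjective ((((j ⊗ₘ t) ≫ μ[G]) ⊗ₘ u) ≫ μ[G]).left ∧ IsFinite ((((j ⊗ₘ t) ≫ μ[G]) ⊗ₘ u) ≫ μ[G]).left := by
  have : IsIso M.hom.appTop := K398.AntiAff.isIso_appTop hM
  exact K414.IsogComm.main G M j hMmax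

end Groth.Agent.S19706
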