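import Groth.Statements.S19707
import Groth.Agent.S18090
import Groth.Agent.AlgGrp.K414.SemiAb
import Groth.Agent.AlgGrp.K414.RosQ
import Groth.Agent.AlgGrp.K412.TorProd
import Groth.Agent.AlgGrp.K412.FinKer

set_option autoImplicit false
universe u
open CategoryTheory MonoidalCategory CartesianMonoidalCategory MonObj GrpObj AlgebraicGeometry CategoryTheory.Limits
open AlgGrp

namespace Groth.Agent.S19707

attribute [-instance] CategoryTheory.catToReflQuiver

/-- Let k be a perfect field of characteristic p > 0, G a connected algebraic group over k, N = G_aff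
its largest connected affine algebraic subgroup (normal, with abelian variety quotient), R the
radical of N, T a maximal torus of R, H = G_gug the smallest normal connected algebraic subgroup of
G with semi-abelian quotient (contained in N), and M = G_ant the largest anti-affine closed subgroup
scheme of G. Let S = T · G_ant, the smooth closed subgroup of G onto which T × G_ant maps by
multiplication. Then G is the product H · S with H ∩ S finite (S is a quasi-complement to H), and S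
is semi-abelian with maximal torus T: S is connected and the quotient S/T is an abelian variety. -/
theorem result (k : Type u) [Field k] [PerfectField k]
    (p : ℕ) [Fact p.Prime] [CharP k p]
    (G : Over (Spec (CommRingCat.of k))) [GrpObj G] [Smooth G.hom] [QuasiCompact G.hom] [ConnectedSpace ↥G.left]
    (N : Over (Spec (CommRingCat.of k))) [GrpObj N] (i : N ⟶ G) [IsMonHom i] [IsClosedImmersion i.left]
    [Smooth N.hom] [IsAffine N.left] [ConnectedSpace ↥N.left] (hN : AlgGrp.IsNormalHom i)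
    (A : Over (Spec (CommRingCat.of k))) [GrpObj A] (q : G ⟶ A) [IsMonHom q] [Surjective q.left] [Flat q.left]
    [IsProper A.hom] [Smooth A.hom] [ConnectedSpace ↥A.left] (hq : AlgGrp.IsKernel i q)
    (hNmax : ∀ (N₁ : Over (Spec (CommRingCat.of k))) [GrpObj N₁] (i₁ : N₁ ⟶ G) [IsMonHom i₁] [IsClosedImmersion i₁.left],
      Smooth N₁.hom → IsAffine N₁.left → ConnectedSpace ↥N₁.left → ∃ f : N₁ ⟶ N, f ≫ i = i₁)
    (R : Over (Spec (CommRingCat.of k))) [GrpObj R] (r : R ⟶ N) [IsMonHom r] [IsClosedImmersion r.left]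
    [Smooth R.hom] [ConnectedSpace ↥R.left] (hRs : Red.IsSolvableGrp R) (hRn : AlgGrp.IsNormalHom r)
    (hRmax : ∀ (R₁ : Over (Spec (CommRingCat.of k))) [GrpObj R₁] (r₁ : R₁ ⟶ N) [IsMonHom r₁] [IsClosedImmersion r₁.left],
      Smooth R₁.hom → ConnectedSpace ↥R₁.left → Red.IsSolvableGrp R₁ → AlgGrp.IsNormalHom r₁ → ∃ f : R₁ ⟶ R, f ≫ r = r₁)
    (T : Over (Spec (CommRingCat.of k))) [GrpObj T] (t : T ⟶ R) (hT : Red.IsMaximalTorus t)
    (H : Over (Spec (CommRingCat.of k))) [GrpObj H] (h : H ⟶ G) [IsMonHom h] [IsClosedImmersion h.left]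
    [Smooth H.hom] [ConnectedSpace ↥H.left] (hHn : AlgGrp.IsNormalHom h)
    (Q : Over (Spec (CommRingCat.of k))) [GrpObj Q] (qH : G ⟶ Q) [IsMonHom qH] [Surjective qH.left] [Flat qH.left]
    (hHker : AlgGrp.IsKernel h qH) (hQ : (∃ (T : Over (Spec (CommRingCat.of k))) (_ : GrpObj T) (t : T ⟶ Q) (A : Over (Spec (CommRingCat.of k))) (_ : GrpObj A) (p : Q ⟶ A),
        IsMonHom t ∧ IsClosedImmersion t.left ∧ Red.IsTorus T ∧ IsMonHom p ∧ Surjective p.left ∧ Flat p.left ∧
        AlgGrp.IsKernel t p ∧ IsProper A.hom ∧ Smooth A.hom ∧ ConnectedSpace ↥A.left))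
    (hHmin : ∀ (H' : Over (Spec (CommRingCat.of k))) [GrpObj H'] (h' : H' ⟶ G) [IsMonHom h'] [IsClosedImmersion h'.left]
        (Q' : Over (Spec (CommRingCat.of k))) [GrpObj Q'] (q' : G ⟶ Q') [IsMonHom q'] [Surjective q'.left] [Flat q'.left],
        AlgGrp.IsNormalHom h' → Smooth H'.hom → ConnectedSpace ↥H'.left → AlgGrp.IsKernel h' q' → (∃ (T : Over (Spec (CommRingCat.of k))) (_ : GrpObj T) (t : T ⟶ Q') (A : Over (Spec (CommRingCat.of k))) (_ : GrpObj A) (p : Q' ⟶ A),
        IsMonHom t ∧ IsClosedImmersion t.left ∧ Red.IsTorus T ∧ IsMonHom p ∧ Surjective p.left ∧ Flat p.left ∧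
        AlgGrp.IsKernel t p ∧ IsProper A.hom ∧ Smooth A.hom ∧ ConnectedSpace ↥A.left) →
        ∃ f : H ⟶ H', f ≫ h' = h)
    (g : H ⟶ N) (hg : g ≫ i = h)
    (M : Over (Spec (CommRingCat.of k))) [GrpObj M] [LocallyOfFiniteType M.hom] [QuasiCompact M.hom] (j : M ⟶ G) [IsMonHom j] [IsClosedImmersion j.left]
    (hM : Function.Bijective ((Scheme.ΓSpecIso (CommRingCat.of k)).inv ≫ M.hom.appTop).hom)
    (hMmax : ∀ (M₁ : Over (Spec (CommRingCat.of k))) [GrpObj M₁] [LocallyOfFiniteType M₁.hom] [QuasiCompact M₁.hom] (j₁ : M₁ ⟶ G) [IsMonHom j₁] [IsClosedImmersion j₁.left],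
      Function.Bijective ((Scheme.ΓSpecIso (CommRingCat.of k)).inv ≫ M₁.hom.appTop).hom → ∃ g₁ : M₁ ⟶ M, g₁ ≫ j = j₁)
    (S : Over (Spec (CommRingCat.of k))) [GrpObj S] (s : S ⟶ G) [IsMonHom s] [IsClosedImmersion s.left] [Smooth S.hom]
    (tS : T ⟶ S) (mS : M ⟶ S) [IsMonHom tS] [IsMonHom mS] (htS : tS ≫ s = t ≫ r ≫ i) (hmS : mS ≫ s = j)
    (hS : Surjective ((tS ⊗ₘ mS) ≫ μ[S]).left) :
    Surjective ((h ⊗ₘ s) ≫ μ[G]).left ∧
    (∀ (P : Over (Spec (CommRingCat.of k))) (p₁ : P ⟶ H) (p₂ : P ⟶ S), IsPullback p₁ p₂ h s → IsFinite P.hom) ∧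
    ConnectedSpace ↥S.left ∧
    ∃ (B : Over (Spec (CommRingCat.of k))) (_ : GrpObj B) (qB : S ⟶ B), IsMonHom qB ∧ Surjective qB.left ∧ Flat qB.left ∧
      AlgGrp.IsKernel tS qB ∧ IsProper B.hom ∧ Smooth B.hom ∧ ConnectedSpace ↥B.left := by
  have hMi : IsIso M.hom.appTop := K398.AntiAff.isIso_appTop hM
  obtain ⟨hMcon, hMcomm⟩ := Groth.Agent.S3293.result k M hM
  have hMs : Smooth M.hom := Groth.Agent.S3026.result k M hM
  have hTm := hT.1
  have hTmo := hT.2.1
  have hTt := hT.2.2.1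
  have hTs := K402.Tori.smooth hTt
  have hTq := K402.Tori.quasiCompact hTt
  have hTcon := K402.Tori.connectedSpace hTt
  have hTcomm : IsCommMonObj T := K402.Comm.isCommMonObj (K402.SemiAb.of_torus hTt)
  have mi : Mono i := K414.Kit.mono_of_closed i
  have mr : Mono r := K414.Kit.mono_of_closed r
  have mj : Mono j := K414.Kit.mono_of_closed j
  have ms : Mono s := K414.Kit.mono_of_closed s
  have mh : Mono h := K414.Kit.mono_of_closed h
  have hRa : IsAffine R.left := K414.Kit.isAffine_of_closed r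
  have hSq : QuasiCompact S.hom := K414.Kit.quasiCompact_of_closed s
  have htq : QuasiCompact t.left := K398.Pts.quasiCompact_left t
  have htcl : IsClosedImmersion t.left := Groth.Agent.S3036.result k T R t
  have hcen : ∀ {X : Over (Spec (CommRingCat.of k))} (x : X ⟶ M) (y : X ⟶ G), (x ≫ j) * y = y * (x ≫ j) :=
    fun x y => K404.QuoKit.commute_of_antiAffine k G M hM j x y
  obtain ⟨hTH, hfin⟩ := Groth.Agent.S18090.result k p G N i hN A q hq hNmax R r hRs hRn hRmax T t hT H h hHn Q qH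
    hHker hQ hHmin g hg
  -- `N · M = G`
  have hMA : Surjective (j ≫ q).left := by
    obtain ⟨M', _, j', hj', hjc', hM'f, hM'q, hM'i, hs'⟩ := K414.RosQ.exists_antiAffine_surjective q
    obtain ⟨g₁, hg₁⟩ := hMmax M' j' (K398.AntiAff.bijective_of_isIso hM'i)
    rw [← hg₁, Category.assoc, Over.comp_left] at hs'
    exact Surjective.of_comp g₁.left _
  have hNM : Surjective ((i ⊗ₘ j) ≫ μ[G]).left := K414.RosQ.surjective_mul i q hq j hMA
  -- the homomorphism `T × M ⟶ S`
  have hcenS : ∀ {X : Over (Spec (CommRingCat.of k))} (x : X ⟶ M) (y : X ⟶ S), (x ≫ mS) * y = y * (x ≫ mS) := by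
    intro X x y
    rw [← cancel_mono s, MonObj.mul_comp, MonObj.mul_comp, Category.assoc, hmS, hcen]
  obtain ⟨Θ, hΘ⟩ : ∃ Θ : T ⊗ M ⟶ S, Θ = (tS ⊗ₘ mS) ≫ μ[S] := ⟨_, rfl⟩
  rw [← hΘ] at hS
  have hΘ' : Θ = (fst T M ≫ tS) * (snd T M ≫ mS) := by
    rw [hΘ, Hom.mul_def]
    congr 1
  have hΘm : IsMonHom Θ := by
    refine K395.Pts.isMonHom_of_pts Θ fun X x y => ?_
    simp only [hΘ', MonObj.comp_mul, MonObj.mul_comp, ← Category.assoc]
    have e3 := hcenS (x ≫ snd T M) ((y ≫ fst T M) ≫ tS)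
    rw [_root_.mul_assoc, _root_.mul_assoc, ← _root_.mul_assoc ((x ≫ snd T M) ≫ mS), e3]
    simp only [_root_.mul_assoc]
  have hTMq : QuasiCompact (T ⊗ M).hom := by
    have : QuasiCompact (snd T M).left := inferInstanceAs (QuasiCompact (pullback.snd T.hom M.hom))
    rw [← Over.w (snd T M)]; infer_instance
  have hTMf : LocallyOfFiniteType (T ⊗ M).hom := by
    have : LocallyOfFiniteType (snd T M).left := inferInstanceAs (LocallyOfFiniteType (pullback.snd T.hom M.hom))
    rw [← Over.w (snd T M)]; infer_instance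
  have hTMc : ConnectedSpace (T ⊗ M).left := by
    have := Sga3.H821.ChevDesc.geometricallyConnected M
    change ConnectedSpace ↥(pullback T.hom M.hom)
    infer_instance
  have hSred : IsReduced S.left := Etcore.SmoothRed.isReduced_of_smooth S.hom
  have hΘf : Flat Θ.left := K398.Pts.flat_of_surjective Θ
  have hScomm : IsCommMonObj S := K399.Quot.isCommMonObj_of_quotient Θ
  have hScon : ConnectedSpace S.left := K414.Kit.connectedSpace_of_surjective Θ
  have htScl : IsClosedImmersion tS.left := by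
    have h2 : IsClosedImmersion (tS.left ≫ s.left) := by
      rw [← Over.comp_left, htS, Over.comp_left, Over.comp_left]
      infer_instance
    exact IsClosedImmersion.of_comp tS.left s.left
  obtain ⟨B, _, qB, b1, b2, b3, b4, b5, b6, b7, b8, b9, b10, b11, -⟩ :=
    K404.QuoKit.exists_quotient k S T tS (K399.Quot.isNormalHom_of_comm _)
  have hBs := b9 inferInstance
  have hBc := b11 inferInstance
  -- the torus of `M` lies in `T`
  obtain ⟨NM, _, ν, AM, _, π, hν, hνc, hNMt, hNMs, hNMc, hπ, hπf, hπs, hπk, hAMp, hAMs, hAMc⟩ :=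
    K414.SemiAb.exists_torus p M
  have hπq : QuasiCompact π.left := K398.Pts.quasiCompact_left π
  have mν : Mono ν := K414.Kit.mono_of_closed ν
  have hNMa := K402.Tori.isAffine hNMt
  have hNMcomm : IsCommMonObj NM := K402.Comm.isCommMonObj (K402.SemiAb.of_torus hNMt)
  have hνjc : IsClosedImmersion (ν ≫ j).left := by rw [Over.comp_left]; infer_instance
  obtain ⟨f, hf⟩ := hNmax NM (ν ≫ j) hNMs hNMa hNMc
  have hfm : IsMonHom f := by
    have : IsMonHom (f ≫ i) := by rw [hf]; infer_instance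
    exact K402.Comm.isMonHom_of_comp_mono f i
  have hfc : IsClosedImmersion f.left := by
    have h2 : IsClosedImmersion (f.left ≫ i.left) := by rw [← Over.comp_left, hf]; infer_instance
    exact IsClosedImmersion.of_comp f.left i.left
  have hfcen : ∀ {X : Over (Spec (CommRingCat.of k))} (x : X ⟶ NM) (y : X ⟶ N), (x ≫ f) * y = y * (x ≫ f) := by
    intro X x y
    rw [← cancel_mono i, MonObj.mul_comp, MonObj.mul_comp, Category.assoc, hf, ← Category.assoc, hcen]
  obtain ⟨f', hf'⟩ := hRmax NM f hNMs hNMc (K414.TorConn.isSolvableGrp_of_comm NM) (by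
    intro X x y
    exact ⟨y, by rw [← hfcen, mul_inv_cancel_right]⟩)
  have hf'm : IsMonHom f' := by
    have : IsMonHom (f' ≫ r) := by rw [hf']; infer_instance
    exact K402.Comm.isMonHom_of_comp_mono f' r
  obtain ⟨φ, hφ⟩ := K412.TorProd.exists_factor t hT hNMt f' (by
    intro X x y
    rw [← cancel_mono r, MonObj.mul_comp, MonObj.mul_comp, Category.assoc, hf', hfcen])
  have hφS : φ ≫ tS = ν ≫ mS := by
    rw [← cancel_mono s, Category.assoc, Category.assoc, htS, hmS, ← hf, ← hf', ← hφ]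
    simp only [Category.assoc]
  have hBp : IsProper B.hom := by
    obtain ⟨ψ, hψ, hπψ⟩ := K404.Desc.exists_desc_hom ν π hπk (mS ≫ qB) (by
      rw [← Category.assoc, ← hφS, Category.assoc, K404.Desc.ker_eq_one b5, MonObj.comp_one])
    have h1 : Θ ≫ qB = snd T M ≫ π ≫ ψ := by
      rw [hπψ, hΘ', MonObj.mul_comp, Category.assoc, K404.Desc.ker_eq_one b5, MonObj.comp_one, _root_.one_mul,
        Category.assoc]
    have h2 : Surjective ((snd T M ≫ π).left ≫ ψ.left) := by
      rw [← Over.comp_left, Category.assoc, ← h1, Over.comp_left]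
      infer_instance
    have h3 : Surjective ψ.left := Surjective.of_comp (snd T M ≫ π).left ψ.left
    exact K398.Pts.isProper_of_surjective ψ
  refine ⟨?_, ?_, hScon, B, inferInstance, qB, b1, b3, b2, b5, hBp, hBs, hBc⟩
  · -- `H · S = G`
    let X : Over (Spec (CommRingCat.of k)) := (T ⊗ H) ⊗ M
    let x : X ⟶ T := fst (T ⊗ H) M ≫ fst T H
    let y : X ⟶ H := fst (T ⊗ H) M ≫ snd T H
    let z : X ⟶ M := snd (T ⊗ H) M
    have e1 : (((((t ≫ r) ⊗ₘ g) ≫ μ[N]) ⊗ₘ 𝟙 M) ≫ (i ⊗ₘ j) ≫ μ[G]) =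
        (x ≫ t ≫ r ≫ i) * (y ≫ h) * (z ≫ j) := by
      have e2 : ((t ≫ r) ⊗ₘ g) ≫ μ[N] = (fst T H ≫ t ≫ r) * (snd T H ≫ g) := by
        rw [Hom.mul_def]
        congr 1
      have e3 : ((((fst T H ≫ t ≫ r) * (snd T H ≫ g)) ⊗ₘ 𝟙 M) ≫ (i ⊗ₘ j) ≫ μ[G]) =
          (fst (T ⊗ H) M ≫ ((fst T H ≫ t ≫ r) * (snd T H ≫ g)) ≫ i) * (z ≫ j) := by
        rw [Hom.mul_def, ← Category.assoc]
        congr 1
        ext1 <;> simp [z]
      rw [e2, e3, MonObj.mul_comp, MonObj.comp_mul]
      simp only [Category.assoc, hg, x, y]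
    obtain ⟨y', hy'⟩ := hHn X (x ≫ t ≫ r ≫ i) y
    have e4 : lift y' ((x ≫ tS) * (z ≫ mS)) ≫ (h ⊗ₘ s) ≫ μ[G] = (x ≫ t ≫ r ≫ i) * (y ≫ h) * (z ≫ j) := by
      have e5 : lift y' ((x ≫ tS) * (z ≫ mS)) ≫ (h ⊗ₘ s) ≫ μ[G] = (y' ≫ h) * (((x ≫ tS) * (z ≫ mS)) ≫ s) := by
        rw [Hom.mul_def, ← Category.assoc]
        congr 1
        ext1 <;> simp
      rw [e5, MonObj.mul_comp, Category.assoc x, Category.assoc z, htS, hmS, ← hy', ← _root_.mul_assoc,
        inv_mul_cancel_right]
    have hs1 : Surjective ((((t ≫ r) ⊗ₘ g) ≫ μ[N]) ⊗ₘ 𝟙 M).left :=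
      K404.Desc.tensorHom_left_of @Surjective _ _ hTH (by rw [Over.id_left]; infer_instance)
    have hs2 : Surjective ((lift y' ((x ≫ tS) * (z ≫ mS))).left ≫ ((h ⊗ₘ s) ≫ μ[G]).left) := by
      rw [← Over.comp_left, e4, ← e1, Over.comp_left]
      infer_instance
    exact Surjective.of_comp (lift y' ((x ≫ tS) * (z ≫ mS))).left ((h ⊗ₘ s) ≫ μ[G]).left
  · -- finiteness of `H ∩ S`
    intro P p₁ p₂ hP
    obtain ⟨D, _, d, e, hd, he, hD⟩ := Sga3B.Parab.Inter.exists_inter h s
    have hdc : IsClosedImmersion d.left :=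
      MorphismProperty.of_isPullback (P := @IsClosedImmersion) (hD.map (Over.forget _)).flip ‹_›
    have hec : IsClosedImmersion e.left :=
      MorphismProperty.of_isPullback (P := @IsClosedImmersion) (hD.map (Over.forget _)) ‹_›
    have hgc : IsClosedImmersion g.left := by
      have h2 : IsClosedImmersion (g.left ≫ i.left) := by rw [← Over.comp_left, hg]; infer_instance
      exact IsClosedImmersion.of_comp g.left i.left
    have hHa : IsAffine H.left := K414.Kit.isAffine_of_closed g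
    have hDa : IsAffine D.left := K414.Kit.isAffine_of_closed d
    have hDf : LocallyOfFiniteType D.hom := K414.Kit.locallyOfFiniteType_of_closed d
    obtain ⟨K0, _, κ, hκ, hκc, hκk, -⟩ := K414.Kit.exists_ker (e ≫ qB)
    obtain ⟨τ, hτ⟩ := K404.Desc.exists_lift_ker b5 (κ ≫ e) (by
      rw [Category.assoc, K404.Desc.ker_eq_one hκk])
    have hcond : τ ≫ t ≫ r = (κ ≫ d) ≫ g := by
      rw [← cancel_mono i]
      have e6 : τ ≫ tS ≫ s = κ ≫ e ≫ s := by rw [← Category.assoc, hτ, Category.assoc]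
      rw [htS, ← hD.w, ← hg] at e6
      simpa only [Category.assoc] using e6
    have hPt := hfin _ _ _ (IsPullback.of_hasPullback (t ≫ r) g)
    let θ : K0 ⟶ pullback (t ≫ r) g := pullback.lift τ (κ ≫ d) hcond
    have hθ : θ ≫ pullback.snd (t ≫ r) g = κ ≫ d := pullback.lift_snd _ _ _
    have hθc : IsClosedImmersion θ.left := by
      have h2 : IsClosedImmersion (θ.left ≫ (pullback.snd (t ≫ r) g).left) := by
        rw [← Over.comp_left, hθ, Over.comp_left]; infer_instance
      have h3 : IsClosedImmersion (t ≫ r).left := by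
        rw [Over.comp_left]; infer_instance
      have h4 : IsClosedImmersion (pullback.snd (t ≫ r) g).left :=
        MorphismProperty.of_isPullback (P := @IsClosedImmersion)
          ((IsPullback.of_hasPullback (t ≫ r) g).map (Over.forget _)) h3
      exact IsClosedImmersion.of_comp θ.left (pullback.snd (t ≫ r) g).left
    have hK0 : IsFinite K0.hom := by
      rw [← Over.w θ]; infer_instance
    have hDfin : IsFinite D.hom := K412.FinKer.isFinite_of_hom (e ≫ qB) κ hκk hK0
    rw [← Over.w (hP.isoIsPullback _ _ hD).hom]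
    infer_instance

end Groth.Agent.S19707
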