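import Groth.Statements.S19708

set_option autoImplicit false
universe u v w
open W4c5adicflatcompl
open CAlg

namespace Groth.Agent.S19708


/-- Let A be a commutative ring, I an ideal of A, M an I-adically complete A-module, Z a set and f : Z →
M a function. Then f is I-adically decaying (for every n, all but finitely many values f(z) lie in
I^n M) if and only if the family (f(z))_{z ∈ Z} has an I-adic sum in M, i.e. there is an element m
of M such that for every n some finite subset S of Z has f(z) ∈ I^n M for all z outside S and m −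
Σ_{z ∈ S} f(z) ∈ I^n M. -/
theorem result {A : Type u} [CommRing A] (I : Ideal A) (Z : Type v)
    (M : Type w) [AddCommGroup M] [Module A M] [IsAdicComplete I M] (f : Z → M) :
    f ∈ decaying I Z M ↔ ∃ m : M, ∀ n : ℕ, ∃ S : Finset Z,
      (∀ z, z ∉ S → f z ∈ (I ^ n • ⊤ : Submodule A M)) ∧ m - (∑ z ∈ S, f z) ∈ (I ^ n • ⊤ : Submodule A M) := by
  classical
  rw [mem_decaying_iff]
  constructor
  · intro h
    let S : ℕ → Finset Z := fun n => (h n).toFinset
    have hS : ∀ n z, z ∉ S n → f z ∈ (I ^ n • ⊤ : Submodule A M) := by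
      intro n z hz
      by_contra hc
      exact hz (by simpa [S] using hc)
    have hmono : ∀ m n, m ≤ n → S m ⊆ S n := by
      intro m n hmn z hz
      simp only [S, Set.Finite.mem_toFinset, Set.mem_setOf_eq] at hz ⊢
      exact fun hc => hz ((Submodule.smul_mono_left (Ideal.pow_le_pow_right hmn)) hc)
    obtain ⟨m, hm⟩ := IsPrecomplete.prec' (I := I) (fun n => ∑ z ∈ S n, f z) (by
      intro m n hmn
      rw [SModEq.sub_mem, ← neg_mem_iff, neg_sub, ← Finset.sum_sdiff (hmono m n hmn), add_sub_cancel_right]
      refine Submodule.sum_mem _ fun z hz => hS m z ?_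
      exact (Finset.mem_sdiff.mp hz).2)
    refine ⟨m, fun n => ⟨S n, hS n, ?_⟩⟩
    have := hm n
    rw [SModEq.sub_mem, ← neg_mem_iff, neg_sub] at this
    exact this
  · rintro ⟨m, hm⟩ n
    obtain ⟨S, hS, -⟩ := hm n
    refine S.finite_toSet.subset ?_
    intro z hz
    by_contra hc
    exact hz (hS z hc)

end Groth.Agent.S19708
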