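import Groth.Statements.S19709
import Groth.Agent.AbVar.K530.MinOrdRow
import Groth.Agent.S17991
import Groth.Agent.S16586
import Groth.Agent.Sga7.H742.P1Dim

set_option autoImplicit false
universe u
open CategoryTheory MonoidalCategory CartesianMonoidalCategory MonObj GrpObj AlgebraicGeometry MvPolynomial
open AbVar

namespace Groth.Agent.S19709

/-- The case S = M_w = Hom(−, A_w): let p be a prime and k a field with p elements; (π_j) a finite
family of pairwise nonconjugate nonreal Weil p-numbers (π_j in a field K_j of characteristic zero,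
integral over ℤ, all complex roots of its minimal polynomial P_j of absolute value √p and none real,
P_i ≠ P_j for i ≠ j), P_w = ∏ P_j and R_w ⊆ ∏ K_j the minimal central order, the image of ℤ[F, V] →
∏ K_j, F ↦ (π_j), V ↦ (p/π_j). An abelian variety over k means a proper, geometrically integral
commutative group scheme over k taken with its p-Frobenius endomorphism (identity on points, p-th
power on sections; a homomorphism); A lies in AV_w when P_w(π_A) = 0 in End(A). Let A_w be an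
abelian variety over k with a ring isomorphism ρ_w : R_w ≅ End(A_w) sending F to the Frobenius, and
let R_w act on Hom(A, A_w) through ρ_w and postcomposition. Then for A in AV_w the following are
equivalent: (a) there is a ring isomorphism R_w ≅ End(A) sending F to the Frobenius of A (the
natural map R_w → End(A) is an isomorphism); (b) the R_w-module M_w(A) = Hom(A, A_w) is locally free
of rank one: its localization at every prime ideal of R_w is free of rank one. (The source assumes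
the Weil support of A is exactly w; for A in AV_w with smaller support both (a) and (b) fail.) -/
theorem result (p : ℕ) [Fact p.Prime] (k : Type u) [Field k] [Finite k] (hk : Nat.card k = p)
    (J : Type) [Fintype J] (K : J → Type) [∀ j, Field (K j)] [∀ j, CharZero (K j)] (ϖ : ∀ j, K j)
    (hint : ∀ j, IsIntegral ℤ (ϖ j))
    (hweil : ∀ j, ∀ z ∈ (minpoly ℤ (ϖ j)).aroots ℂ, ‖z‖ = Real.sqrt p)
    (hnr : ∀ j, ∀ z ∈ (minpoly ℤ (ϖ j)).aroots ℂ, z.im ≠ 0)
    (hinj : ∀ i j, minpoly ℤ (ϖ i) = minpoly ℤ (ϖ j) → i = j)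
    (Aw : Over (Spec (CommRingCat.of k))) [GrpObj Aw] [IsCommMonObj Aw] [IsProper Aw.hom] [GeometricallyIntegral Aw.hom]
    (πw : Aw ⟶ Aw) [IsMonHom πw] (hπwb : πw.left.base = 𝟙 _) (hπwle : ∀ U : Aw.left.Opens, U ≤ πw.left ⁻¹ᵁ U)
    (hπwapp : ∀ (U : Aw.left.Opens) (s : Γ(Aw.left, U)), (πw.left.appLE U U (hπwle U)).hom s = s ^ p)
    (ρw : (MvPolynomial.aeval ![fun j => ϖ j, fun j => (p : K j) / ϖ j] : MvPolynomial (Fin 2) ℤ →ₐ[ℤ] ((j : J) → K j)).range ≃+* EndAV.End Aw)
    (hρw : ρw ⟨(MvPolynomial.aeval ![fun j => ϖ j, fun j => (p : K j) / ϖ j] : MvPolynomial (Fin 2) ℤ →ₐ[ℤ] ((j : J) → K j)) (X 0), AlgHom.mem_range_self _ _⟩ = EndAV.End.of πw)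
    (A : Over (Spec (CommRingCat.of k))) [GrpObj A] [IsCommMonObj A] [IsProper A.hom] [GeometricallyIntegral A.hom]
    (πA : A ⟶ A) [IsMonHom πA] (hπAb : πA.left.base = 𝟙 _) (hπAle : ∀ U : A.left.Opens, U ≤ πA.left ⁻¹ᵁ U)
    (hπAapp : ∀ (U : A.left.Opens) (s : Γ(A.left, U)), (πA.left.appLE U U (hπAle U)).hom s = s ^ p)
    (hPA : Polynomial.aeval (EndAV.End.of πA) (∏ j, minpoly ℤ (ϖ j)) = 0)
    [Module ↥(MvPolynomial.aeval ![fun j => ϖ j, fun j => (p : K j) / ϖ j] : MvPolynomial (Fin 2) ℤ →ₐ[ℤ] ((j : J) → K j)).range (EndAV.Hom A Aw)]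
    (hmod : ∀ (r : ↥(MvPolynomial.aeval ![fun j => ϖ j, fun j => (p : K j) / ϖ j] : MvPolynomial (Fin 2) ℤ →ₐ[ℤ] ((j : J) → K j)).range) (φ : EndAV.Hom A Aw), r • φ = (ρw r) • φ) :
    (∃ ρ : ↥(MvPolynomial.aeval ![fun j => ϖ j, fun j => (p : K j) / ϖ j] : MvPolynomial (Fin 2) ℤ →ₐ[ℤ] ((j : J) → K j)).range ≃+* EndAV.End A, ρ ⟨(MvPolynomial.aeval ![fun j => ϖ j, fun j => (p : K j) / ϖ j] : MvPolynomial (Fin 2) ℤ →ₐ[ℤ] ((j : J) → K j)) (X 0), AlgHom.mem_range_self _ _⟩ = EndAV.End.of πA) ↔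
      ∀ (P : Ideal ↥(MvPolynomial.aeval ![fun j => ϖ j, fun j => (p : K j) / ϖ j] : MvPolynomial (Fin 2) ℤ →ₐ[ℤ] ((j : J) → K j)).range) (_ : P.IsPrime),
        Nonempty (LocalizedModule P.primeCompl (EndAV.Hom A Aw) ≃ₗ[Localization.AtPrime P] Localization.AtPrime P) := by
  have hff := Groth.Agent.S17991.result p k hk J K ϖ hint hweil hnr hinj Aw πw hπwb hπwle hπwapp ρw hρw A πA hπAb hπAle
    hπAapp hPA A πA hπAb hπAle hπAapp hPA
  obtain ⟨g, hg⟩ := Groth.Agent.Sga7.H742.P1Dim.exists_dim A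
  obtain ⟨h, hh⟩ := Groth.Agent.Sga7.H742.P1Dim.exists_dim Aw
  obtain ⟨hfree, hfin, -⟩ := Groth.Agent.S16586.result k A Aw g h hg hh
  exact K530.MinOrd.row p k hk J K ϖ hint hweil hnr hinj Aw πw hπwb hπwle hπwapp ρw hρw A πA hπAb hπAle hπAapp hmod hff
    hfin hfree

end Groth.Agent.S19709
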