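import Groth.Statements.S19710
import Groth.Agent.FunFld.K671.Pencil
import Groth.Agent.S18175

set_option autoImplicit false
open FunFld

namespace Groth.Agent.S19710

/-- Let `k` be an algebraically closed field of characteristic zero. A `g^r_d` on a function field `K/k`
of one variable is a divisor `D` of degree `d` with a subspace `V ⊆ L(D)` of dimension `r + 1`;
`V(-nP) = V ∩ L(D - nP)`, and the `i`-th vanishing order `m_i(V, P)` (`m_0 < ⋯ < m_r`) equals `m`
exactly when `dim V(-mP) = r + 1 - i` and `dim V(-(m+1)P) = r - i`. Let `K_Y` have genus `0` and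
carry a `g^r_d` `(D_Y, V_Y)` with at least a cusp at a place `Q_Y` (`dim V_Y(-2Q_Y) ≥ r`); let
`(D_Z, V_Z)` be a `g^r_d` on a second function field `K_Z`, compatible with `(D_Y, V_Y)` at a node
formed by a place `P ≠ Q_Y` of `K_Y` and a place `Q` of `K_Z` (`dim V_Y(-nP) + dim V_Z(-(d+1-n)Q) =
r + 1` for `0 ≤ n ≤ d + 1`), and let `P'` be a place of `K_Y` different from `P` and from `Q_Y`.
Then `m_i(V_Y, P') < m_i(V_Z, Q)` for all but at most one index: the set of `i ≤ r` for which the
`i`-th vanishing order of `V_Y` at `P'` equals the `i`-th vanishing order of `V_Z` at `Q` has at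
most one element. (In the source `Q_Y` is the point where the rational component `Y` meets a chain
of curves ending in a curve of positive genus, which forces the cusp condition assumed here; the
source works over the complex numbers.) -/
theorem result
    (k : Type*) [Field k] [IsAlgClosed k] [CharZero k]
    (KY : Type*) [Field KY] [Algebra k KY] (hKY : FunFld.IsFunctionField k KY) (hg0 : FunFld.genus k KY = 0)
    (KZ : Type*) [Field KZ] [Algebra k KZ] (hKZ : FunFld.IsFunctionField k KZ)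
    (d r : ℕ) (DY : FunFld.Divisor k KY) (hDY : DY.deg = d) (DZ : FunFld.Divisor k KZ) (hDZ : DZ.deg = d)
    (VY : Submodule k KY) (hVY : VY ≤ FunFld.L DY) (hVYr : Module.finrank k ↥VY = r + 1)
    (VZ : Submodule k KZ) (hVZ : VZ ≤ FunFld.L DZ) (hVZr : Module.finrank k ↥VZ = r + 1)
    (QY : FunFld.Place k KY) (hcusp : r ≤ Module.finrank k ↥(VY ⊓ FunFld.L (DY - Finsupp.single QY ((2 : ℤ)))))
    (P : FunFld.Place k KY) (hP : P ≠ QY) (Q : FunFld.Place k KZ)
    (hcomp : ∀ n : ℕ, n ≤ d + 1 →
      Module.finrank k ↥(VY ⊓ FunFld.L (DY - Finsupp.single P ((n : ℤ)))) + Module.finrank k ↥(VZ ⊓ FunFld.L (DZ - Finsupp.single Q ((d : ℤ) + 1 - n))) = r + 1)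
    (P' : FunFld.Place k KY) (hP'P : P' ≠ P) (hP'Q : P' ≠ QY) :
    {i : ℕ | i ≤ r ∧ ∃ m : ℕ,
        Module.finrank k ↥(VY ⊓ FunFld.L (DY - Finsupp.single P' ((m : ℤ)))) = r + 1 - i ∧
        Module.finrank k ↥(VY ⊓ FunFld.L (DY - Finsupp.single P' ((m : ℤ) + 1))) = r - i ∧
        Module.finrank k ↥(VZ ⊓ FunFld.L (DZ - Finsupp.single Q ((m : ℤ)))) = r + 1 - i ∧
        Module.finrank k ↥(VZ ⊓ FunFld.L (DZ - Finsupp.single Q ((m : ℤ) + 1))) = r - i}.Subsingleton := by
  classical
  have hfin := K671.Limit.finite_of_finrank hVYr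
  -- a member for every index
  have key : ∀ i m : ℕ, i ≤ r →
      Module.finrank k ↥(VY ⊓ FunFld.L (DY - Finsupp.single P' ((m : ℤ)))) = r + 1 - i →
      Module.finrank k ↥(VZ ⊓ FunFld.L (DZ - Finsupp.single Q ((m : ℤ) + 1))) = r - i →
      ∃ f ∈ VY, f ≠ 0 ∧
        FunFld.div k f + DY = Finsupp.single P ((d : ℤ) - m) + Finsupp.single P' (m : ℤ) := by
    intro i m hi h1 h4
    have hmd : m ≤ d := by
      by_contra hlt
      push Not at hlt
      have := K671.Limit.vd_eq_zero (V := VY) hKY P' (D := DY) (n := (m : ℤ)) (by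
        rw [hDY, K671.Basic.place_deg_eq_one hKY P']; push_cast; omega)
      change K671.Limit.vd DY VY P' (m : ℤ) = _ at h1
      omega
    have h5 := hcomp (d - m) (by omega)
    have h6 : ((d : ℤ) + 1 - ((d - m : ℕ) : ℤ)) = (m : ℤ) + 1 := by omega
    rw [h6, h4] at h5
    have h7 : ((d - m : ℕ) : ℤ) = (d : ℤ) - m := by omega
    rw [h7] at h5
    refine K671.Pencil.exists_member hKY hDY hVYr hP'P.symm (by omega) ?_
    change _ < Module.finrank k ↥(VY ⊓ FunFld.L (DY - Finsupp.single P ((d : ℤ) - m))) +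
      Module.finrank k ↥(VY ⊓ FunFld.L (DY - Finsupp.single P' ((m : ℤ))))
    omega
  rintro i ⟨hi, m, hm1, -, -, hm4⟩ j ⟨hj, n, hn1, -, -, hn4⟩
  obtain ⟨f, hfV, hf0, hf⟩ := key i m hi hm1 hm4
  obtain ⟨g, hgV, hg0', hg⟩ := key j n hj hn1 hn4
  obtain ⟨c, hc⟩ := Groth.Agent.S18175.result k KY hKY hg0 d r DY hDY VY hVY hVYr QY hcusp P P' hP hP'Q
    f g hfV hgV hf0 hg0'
    (fun R hR hR' => by
      rw [hf, Finsupp.add_apply, Finsupp.single_apply, Finsupp.single_apply, if_neg (Ne.symm hR),
        if_neg (Ne.symm hR'), add_zero])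
    (fun R hR hR' => by
      rw [hg, Finsupp.add_apply, Finsupp.single_apply, Finsupp.single_apply, if_neg (Ne.symm hR),
        if_neg (Ne.symm hR'), add_zero])
  have hc0 : c ≠ 0 := by
    rintro rfl
    rw [zero_smul] at hc
    exact hg0' hc
  have hdiv : FunFld.div k g = FunFld.div k f := by
    ext R
    rw [K671.Basic.div_apply hKY, K671.Basic.div_apply hKY, hc, K671.Basic.ord_smul R hc0]
  rw [hdiv, hf] at hg
  have hP'' := congrArg (fun E : FunFld.Divisor k KY => E P') hg
  simp only [Finsupp.add_apply, Finsupp.single_apply, if_neg hP'P.symm, if_true, zero_add] at hP''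
  have hmn : m = n := by exact_mod_cast hP''
  subst hmn
  omega

end Groth.Agent.S19710
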