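import Groth.Statements.S19711
import Mathlib.Algebra.Module.FinitePresentation
import Mathlib.LinearAlgebra.Basis.VectorSpace
import Mathlib.RingTheory.Spectrum.Prime.Topology

set_option autoImplicit false
universe u
open CategoryTheory
open Coh

namespace Groth.Agent.S19711

/-- Over a Noetherian domain an injective map into a finite module splits after multiplication by a
nonzero element. -/
theorem exists_retraction_smul {A : Type u} [CommRing A] [IsNoetherianRing A] [IsDomain A]
    {M N : Type u} [AddCommGroup M] [Module A M] [AddCommGroup N] [Module A N]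
    [Module.Finite A N] (ι : M →ₗ[A] N) (hι : Function.Injective ι) :
    ∃ (f : A) (_ : f ≠ 0) (h : N →ₗ[A] M), ∀ m, h (ι m) = f • m := by
  have hM : Module.Finite A M := Module.Finite.of_injective ι hι
  have hfp : Module.FinitePresentation A N := Module.finitePresentation_of_finite A N
  let S := nonZeroDivisors A
  let KK := FractionRing A
  let MS := LocalizedModule S M
  let NS := LocalizedModule S N
  let fM : M →ₗ[A] MS := LocalizedModule.mkLinearMap S M
  let fN : N →ₗ[A] NS := LocalizedModule.mkLinearMap S N
  let ιS : MS →ₗ[KK] NS := LocalizedModule.map S ι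
  have hιS : Function.Injective ιS := LocalizedModule.map_injective S ι hι
  obtain ⟨ρ, hρ⟩ := ιS.exists_leftInverse_of_injective (LinearMap.ker_eq_bot.2 hιS)
  let g : N →ₗ[A] MS := (ρ.restrictScalars A) ∘ₗ fN
  obtain ⟨h, s, hh⟩ := Module.FinitePresentation.exists_lift_of_isLocalizedModule S fM g
  have h1 : fM ∘ₗ (h ∘ₗ ι) = fM ∘ₗ (s • (LinearMap.id : M →ₗ[A] M)) := by
    ext m
    have e1 : fM (h (ι m)) = s • g (ι m) := LinearMap.congr_fun hh (ι m)
    have e2 : g (ι m) = fM m := by
      change ρ (fN (ι m)) = fM m
      have : fN (ι m) = ιS (fM m) := (LocalizedModule.map_mk S ι m 1).symm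
      rw [this]
      exact LinearMap.congr_fun hρ (fM m)
    change fM (h (ι m)) = fM (s • m)
    rw [e1, e2, Submonoid.smul_def, Submonoid.smul_def, map_smul]
  obtain ⟨t, ht⟩ := Module.Finite.exists_smul_of_comp_eq_of_isLocalizedModule S fM _ _ h1
  refine ⟨t * s, ?_, (t : A) • h, fun m => ?_⟩
  · exact mul_ne_zero (nonZeroDivisors.ne_zero t.2) (nonZeroDivisors.ne_zero s.2)
  · have := LinearMap.congr_fun ht m
    simpa [Submonoid.smul_def, mul_smul] using this

/-- Let A be a Noetherian integral domain and F an A-linear additive functor from A-modules to A-modules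
with F(A) a finitely generated A-module. Call such a functor generically injective when there is a
dense open subset U of Spec A such that for every point u of U whose residue field κ(u) is a
finitely generated A-algebra the comparison map F(A) ⊗_A κ(u) → F(κ(u)) is injective; since F is
A-linear this injectivity says: every m in F(A) whose image under F(A → κ(u)) vanishes satisfies s·m
∈ u·F(A) for some s outside u. If F is generically injective then so is every A-linear additive
subfunctor K ⊆ F (a natural transformation K → F with injective components). (The published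
statement is over a reduced Noetherian affine scheme, for additive functors on quasi-coherent
sheaves with values in abelian groups and the induced A-action, assumes F weakly bounded (F(A/p)
finitely generated for every prime ideal p) and also records that K is again weakly bounded; only
the finite generation of F(A), which its argument uses, is assumed here, and the integral case with
A-linear functors stated here is the one its argument by generic flatness treats.) -/
theorem result {A : Type u} [CommRing A] [IsNoetherianRing A] [IsDomain A]
    (F K : ModuleCat.{u} A ⥤ ModuleCat.{u} A) [F.Additive] [F.Linear A] [K.Additive] [K.Linear A]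
    (ι : K ⟶ F) (hι : ∀ X : ModuleCat.{u} A, Function.Injective (ι.app X).hom)
    (hfin : Module.Finite A (F.obj (ModuleCat.of A A)))
    (hGI : ∃ U : Set (PrimeSpectrum A), IsOpen U ∧ Dense U ∧ ∀ u ∈ U, Algebra.FiniteType A u.asIdeal.ResidueField →
        ∀ m : F.obj (ModuleCat.of A A),
          (F.map (ModuleCat.ofHom (Algebra.linearMap A u.asIdeal.ResidueField))).hom m = 0 →
            ∃ s ∉ u.asIdeal, s • m ∈ u.asIdeal • (⊤ : Submodule A (F.obj (ModuleCat.of A A)))) :
    ∃ U : Set (PrimeSpectrum A), IsOpen U ∧ Dense U ∧ ∀ u ∈ U, Algebra.FiniteType A u.asIdeal.ResidueField →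
        ∀ m : K.obj (ModuleCat.of A A),
          (K.map (ModuleCat.ofHom (Algebra.linearMap A u.asIdeal.ResidueField))).hom m = 0 →
            ∃ s ∉ u.asIdeal, s • m ∈ u.asIdeal • (⊤ : Submodule A (K.obj (ModuleCat.of A A))) := by
  obtain ⟨U, hU, hUd, h⟩ := hGI
  obtain ⟨f, hf, ρ, hρ⟩ := exists_retraction_smul (ι.app (ModuleCat.of A A)).hom (hι _)
  refine ⟨U ∩ (PrimeSpectrum.basicOpen f : Set (PrimeSpectrum A)),
    hU.inter (PrimeSpectrum.basicOpen f).2, ?_, ?_⟩
  · refine hUd.inter_of_isOpen_right ?_ (PrimeSpectrum.basicOpen f).2
    refine (PrimeSpectrum.basicOpen f).2.dense ?_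
    refine ⟨⟨⊥, Ideal.isPrime_bot⟩, ?_⟩
    change f ∉ (⊥ : Ideal A)
    simpa using hf
  · rintro u ⟨huU, huf⟩ hft m hm
    have hm' : (F.map (ModuleCat.ofHom (Algebra.linearMap A u.asIdeal.ResidueField))).hom
        ((ι.app (ModuleCat.of A A)).hom m) = 0 := by
      have := ι.naturality (ModuleCat.ofHom (Algebra.linearMap A u.asIdeal.ResidueField))
      have h2 := congrArg (fun φ => φ.hom m) this
      simp only [ModuleCat.hom_comp, LinearMap.comp_apply] at h2
      rw [← h2, hm, map_zero]
    obtain ⟨s, hs, hsm⟩ := h u huU hft _ hm'
    refine ⟨f * s, fun hmem => ?_, ?_⟩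
    · rcases u.isPrime.mem_or_mem hmem with h1 | h1
      · exact huf h1
      · exact hs h1
    · have h3 := Submodule.mem_map_of_mem (f := ρ) hsm
      rw [Submodule.map_smul''] at h3
      have h4 : ρ (s • (ι.app (ModuleCat.of A A)).hom m) = (f * s) • m := by
        rw [map_smul, hρ, smul_smul, mul_comm]
      rw [h4] at h3
      exact Submodule.smul_mono le_rfl le_top h3

end Groth.Agent.S19711
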