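import Groth.Statements.S19712
import Groth.Agent.Variety.K424.UnifFinal

set_option autoImplicit false
universe u
open CategoryTheory AlgebraicGeometry
open Variety

namespace Groth.Agent.S19712

open Groth.Agent Groth.Agent.Grpsch.PicGrp K433.Hq

open AlgebraicGeometry.Scheme.Modules in
/-- Uniform cohomology bound on intersections of divisors: let X be an integral scheme, proper over an
algebraically closed field k of characteristic zero and admitting an ample invertible module, of
dimension n (the source works over the complex numbers); let A be an invertible O_X-module which is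
very ample (A ≅ i^*O(1) for an immersion into some P^N_k) and such that A ⊗ P' is very ample for
every invertible P' numerically equivalent to zero, D any invertible O_X-module and 1 ≤ k ≤ n. Then
there is a constant C > 0, determined by X, A and D, such that: for every invertible P numerically
equivalent to zero, every k global sections s_1, …, s_k of A ⊗ P, and every closed subscheme Z of X
whose ideal is generated by the zero-scheme ideals of the s_j (Z = E_1 ∩ ⋯ ∩ E_k with E_j the
divisor of s_j), if Z is reduced and all its irreducible components have dimension n − k, then dim_k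
H^i(Z, (D^{⊗m})|_Z) ≤ C · m^{n−k} for every m ≥ 1 and every i. -/
theorem result
    (k : Type u) [Field k] [IsAlgClosed k] [CharZero k] (X : Scheme.{u})
    [X.Over (Spec (CommRingCat.of k))] [AlgebraicGeometry.IsIntegral X]
    [IsProper (X ↘ Spec (CommRingCat.of k))] (hproj : ∃ A : X.Modules, CohB1.IsAmple A)
    (n : ℕ) (hn : topologicalKrullDim ↥X = n)
    (A : X.Modules) (hA : PicF.IsInvertible A) (hAva : RelAmple.IsRelVeryAmplePn (X ↘ Spec (CommRingCat.of k)) A)
    (hAP : ∀ P' : X.Modules, PicF.IsInvertible P' → Pic13.IsNumEquivZero k X P' →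
      RelAmple.IsRelVeryAmplePn (X ↘ Spec (CommRingCat.of k)) (CohB1.tensorMod A P'))
    (D : X.Modules) (hD : PicF.IsInvertible D) (kk : ℕ) (hk1 : 1 ≤ kk) (hkn : kk ≤ n) :
    ∃ C : ℝ, 0 < C ∧ ∀ (P : X.Modules), PicF.IsInvertible P → Pic13.IsNumEquivZero k X P →
      ∀ (s : Fin kk → (Coh.structureModule X ⟶ CohB1.tensorMod A P))
        (Z : Scheme.{u}) [Z.Over (Spec (CommRingCat.of k))] (ι : Z ⟶ X) [IsClosedImmersion ι],
        ι ≫ (X ↘ Spec (CommRingCat.of k)) = Z ↘ Spec (CommRingCat.of k) →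
        (∀ U : X.affineOpens, ι.ker.ideal U = ⨆ j, (PicF2.zeroScheme (CohB1.tensorMod A P) (s j)).ideal U) →
        AlgebraicGeometry.IsReduced Z →
        (∀ W ∈ irreducibleComponents ↥Z, topologicalKrullDim ↥W = ((n - kk : ℕ) : WithBot ℕ∞)) →
        ∀ (m : ℕ), 1 ≤ m → ∀ i : ℕ,
          (Module.finrank k (Coh.HH Z ((pullback ι).obj (CohB1.tensorPow D m)) i) : ℝ) ≤ C * (m : ℝ) ^ (n - kk) := by
  have hinf : Infinite k := inferInstance
  obtain ⟨A₀, hA₀⟩ := hproj
  obtain ⟨n₁, hgg⟩ := K424.UnifFinal.exists_gg k hA hAva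
  have hu := fun q => K424.UnifFinal.exists_uniform k hA₀
    (rep_inv (mk A hA ^ (n₁ + 1))) (Module.finrank k (Coh.HH X (rep (mk A hA ^ (n₁ + 1))) 0)) (n - kk + 1) (mk D hD) q
  choose C hC using hu
  refine ⟨((∑ q ∈ Finset.range (n + 1), C q + 1 : ℕ) : ℝ) * 2 ^ (n - kk), by positivity, ?_⟩
  intro P hP hPn s Z _ ι _ hι hI hZred hcomp m hm i
  rw [K424.UnifFinal.finrank_pull_eq k ι hι hD m i]
  -- the ideal
  have hker : ι.ker = ⨆ j, PicF2.zeroScheme (CohB1.tensorMod A P) (s j) := by
    refine Scheme.IdealSheafData.ext (funext fun U => ?_)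
    rw [Scheme.IdealSheafData.ideal_iSup, iSup_apply]
    exact hI U
  have hQn := K424.UnifFinal.numEquivZero_inv k hP (rep_inv (mk P hP)⁻¹) (mk_rep _) hPn
  have hL : PicF.IsInvertible (CohB1.tensorMod A P) := Fdesc.LocGen.isInvertible_tensorMod hA hP
  have hM : PicF.IsInvertible (rep ((mk P hP)⁻¹ * mk A hA ^ n₁)) := rep_inv _
  have hMg := hgg _ (rep_inv (mk P hP)⁻¹) hQn _ hM (by rw [mk_rep, mk_rep])
  have hc : mk _ (Fdesc.LocGen.isInvertible_tensorMod hL hM) = mk _ (rep_inv (mk A hA ^ (n₁ + 1))) := by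
    rw [← mk_mul_mk hL hM, ← mk_mul_mk hA hP, mk_rep, mk_rep]
    rw [mul_assoc, mul_inv_cancel_left, pow_succ']
  obtain ⟨e⟩ := (mk_eq_iff _ _).mp hc
  obtain ⟨s', hs'⟩ := K424.UnifFinal.exists_iSup_eq k hL hM (rep_inv (mk A hA ^ (n₁ + 1))) e hMg s
  have hbound : hq k i (ClSub.quotMod ι.ker) (mk D hD ^ m) ≤ (∑ q ∈ Finset.range (n + 1), C q + 1) * (m + 1) ^ (n - kk) := by
    by_cases hi : i ≤ n
    · have h1 := hC i ι.ker ⟨s', hker.trans hs'⟩ (K424.UnifFinal.dimLT_quotMod_ker ι (n - kk) hcomp) m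
      rw [K433.Growth.phi_succ] at h1
      refine h1.trans (Nat.mul_le_mul_right _ ?_)
      exact (Finset.single_le_sum (f := C) (fun _ _ => Nat.zero_le _)
        (Finset.mem_range.mpr (Nat.lt_succ_of_le hi))).trans (Nat.le_succ _)
    · have hN := Fga.HypSec.isNoetherian k X
      have h1 : hq k i (ClSub.quotMod ι.ker) (mk D hD ^ m) = 0 :=
        hh_of_subsingleton k (Fga.EulerLEAdd.subsingleton_HH X n hn.le _ i (not_le.mp hi))
      rw [h1]
      exact Nat.zero_le _
  calc ((hq k i (ClSub.quotMod ι.ker) (mk D hD ^ m) : ℕ) : ℝ)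
      ≤ (((∑ q ∈ Finset.range (n + 1), C q + 1) * (m + 1) ^ (n - kk) : ℕ) : ℝ) := by exact_mod_cast hbound
    _ = ((∑ q ∈ Finset.range (n + 1), C q + 1 : ℕ) : ℝ) * ((m : ℝ) + 1) ^ (n - kk) := by push_cast; ring
    _ ≤ ((∑ q ∈ Finset.range (n + 1), C q + 1 : ℕ) : ℝ) * (2 * (m : ℝ)) ^ (n - kk) := by
        have hm' : (1 : ℝ) ≤ m := by exact_mod_cast hm
        gcongr
        linarith
    _ = _ := by rw [mul_pow]; ring

end Groth.Agent.S19712
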