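import Groth.Statements.S19717
import Groth.Agent.TwSh.K799.BasePull
import Groth.Agent.TwSh.K799.DescProp

set_option autoImplicit false
universe u
open TwSh

namespace Groth.Agent.S19717

open CategoryTheory AlgebraicGeometry K799.StM K799.Cover K799.Arr StMod

theorem prop_castMod (P : ∀ {X : Scheme.{u}}, X.Modules → Prop) {X T : Scheme.{u}} (h : X = T) {M : X.Modules}
    (hM : P M) : P (castMod h M) := by
  subst h; exact hM

theorem prop_of_comap (P : ∀ {X : Scheme.{u}}, X.Modules → Prop)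
    (hiso : ∀ {X : Scheme.{u}} {M N : X.Modules} (_ : M ≅ N), P M → P N)
    (hdesc : ∀ {T : Scheme.{u}} {F : T → Scheme.{u}} {f : ∀ i, F i ⟶ T} (_ : IsCov f) {M : T.Modules}
      (_ : Coh.IsQCoh M) (_ : ∀ i, P ((Scheme.Modules.pullback (f i)).obj M)), P M)
    {S : Scheme.{u}} {𝒳 𝒴 : AlgSt.Cat S} {π : 𝒳 ⥤ᵇ 𝒴} (hL : ∀ y, Loc π y) (G : QCoh 𝒴)
    (h : ∀ x, P ((Mod.comap π G.obj).obj x)) (y : 𝒴.obj) : P (G.obj.obj y) := by
  obtain ⟨x, α, hα⟩ := (hL y).cov
  refine hdesc hα (G.property.2 y) fun i => ?_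
  have hc : IsIso (adjS (trA π G.obj (α i) (bs π (α i)) rfl)) := isCart_trA π G.property.1 (α i) _ rfl
  exact hiso (asIso (adjS (trA π G.obj (α i) (bs π (α i)) rfl))).symm (h (x i))

theorem iff_comap (P : ∀ {X : Scheme.{u}}, X.Modules → Prop)
    (hiso : ∀ {X : Scheme.{u}} {M N : X.Modules} (_ : M ≅ N), P M → P N)
    (hdesc : ∀ {T : Scheme.{u}} {F : T → Scheme.{u}} {f : ∀ i, F i ⟶ T} (_ : IsCov f) {M : T.Modules}
      (_ : Coh.IsQCoh M) (_ : ∀ i, P ((Scheme.Modules.pullback (f i)).obj M)), P M)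
    {S : Scheme.{u}} {𝒳 𝒴 : AlgSt.Cat S} {π : 𝒳 ⥤ᵇ 𝒴} (hL : ∀ y, Loc π y) (G : QCoh 𝒴) :
    (∀ y, P (G.obj.obj y)) ↔ ∀ x, P ((Mod.comap π G.obj).obj x) :=
  ⟨fun h x => prop_castMod P _ (h (π.obj x)), fun h y => prop_of_comap P hiso hdesc hL G h y⟩

theorem isFinLocFree_of_iso {X : Scheme.{u}} {M N : X.Modules} (e : M ≅ N) (h : FlatMod.IsFinLocFree M) :
    FlatMod.IsFinLocFree N := by
  intro x
  obtain ⟨U, n, hx, ⟨e'⟩⟩ := h x
  exact ⟨U, n, hx, ⟨(Scheme.Modules.restrictFunctor U.ι).mapIso e.symm ≪≫ e'⟩⟩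

open CategoryTheory AlgebraicGeometry in
/-- Second assertion: let π : 𝒳 → 𝒴 be an fppf A-gerbe of algebraic stacks, for a presheaf of groups A
on schemes over S acting through the inertia of 𝒳, and let G be a quasi-coherent module on 𝒴. Then G
is of finite type if and only if its inverse image along π is; likewise for finite presentation, and
for being locally free of finite type. (The published statement is for all modules on a gerbe over a
locally ringed site and for any property preserved by pullback along morphisms of sites, naming also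
quasi-coherence, flatness and local freeness; this row is its quasi-coherent form for the three
properties named, local freeness being taken together with finite type.) -/
theorem result (S : Scheme.{u}) (𝒳 𝒴 : AlgSt.Cat S) (h𝒳 : AlgSt.IsAlgStack Scheme.fppfPrecoverage 𝒳) (h𝒴 : AlgSt.IsAlgStack Scheme.fppfPrecoverage 𝒴) (A : (Over S)ᵒᵖ ⥤ GrpCat.{u}) (π : 𝒳 ⥤ᵇ 𝒴) (ι : TwSh.BandHom 𝒳 A) (hπ : TwSh.IsBandedGerbe (QuotSh.J Scheme.fppfPrecoverage S) π ι) (G : StMod.QCoh 𝒴) : (G.obj.IsFinType ↔ ((StMod.comapQ π).obj G).obj.IsFinType) ∧ (G.obj.IsFinPres ↔ ((StMod.comapQ π).obj G).obj.IsFinPres) ∧ ((G.obj.IsLocFree ∧ G.obj.IsFinType) ↔ (((StMod.comapQ π).obj G).obj.IsLocFree ∧ ((StMod.comapQ π).obj G).obj.IsFinType)) := by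
  have hL : ∀ y, Loc π y := fun y => loc_of_gerbe h𝒳.isStack.1 h𝒴.isStack.1 hπ.1 y
  refine ⟨?_, ?_, ?_⟩
  · exact iff_comap (fun {X} M => CohB1.IsFT M) (fun e h => Groth.Agent.Dcoh.FTFP.isFT_of_iso e h)
      (fun hc _ hM h => K799.DescProp.isFT_desc hc hM h) hL G
  · exact iff_comap (fun {X} M => CohB1.IsFP M) (fun e h => Groth.Agent.Dcoh.FTFP.isFP_of_iso e h)
      (fun hc _ hM h => K799.DescProp.isFP_desc hc hM h) hL G
  · have key := iff_comap (fun {X} M => FlatMod.IsFinLocFree M) (fun e h => isFinLocFree_of_iso e h)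
      (fun hc _ hM h => K799.DescProp.isFinLocFree_desc hc hM h) hL G
    constructor
    · rintro ⟨h1, h2⟩
      have h3 := key.1 (fun y => (K799.LFree.locFree_finType_iff _).1 ⟨h1 y, h2 y⟩)
      exact ⟨fun x => ((K799.LFree.locFree_finType_iff _).2 (h3 x)).1,
        fun x => ((K799.LFree.locFree_finType_iff _).2 (h3 x)).2⟩
    · rintro ⟨h1, h2⟩
      have h3 := key.2 (fun x => (K799.LFree.locFree_finType_iff _).1 ⟨h1 x, h2 x⟩)
      exact ⟨fun y => ((K799.LFree.locFree_finType_iff _).2 (h3 y)).1,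
        fun y => ((K799.LFree.locFree_finType_iff _).2 (h3 y)).2⟩

end Groth.Agent.S19717
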