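import Groth.Statements.S19718
import Groth.Agent.TautSh.K994.EpiEv
import Groth.Agent.TautSh.K994.Hlft

set_option autoImplicit false
universe u
open CategoryTheory CategoryTheory.Limits AlgebraicGeometry
open TautSh

namespace Groth.Agent.S19718

/-- Let `k` be an algebraically closed field of characteristic zero, `X` an integral scheme smooth and
proper over `k`, `L` an invertible O_X-module which is `m`-very ample (restriction of global
sections of `L` to every closed subscheme finite locally free of degree `m + 1` over `k` is
surjective), and `(H, Z)` a universal pair for the Hilbert functor of `m + 1` points of `X` over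
`k`. Then the evaluation map `H^0(X, L) ⊗ O_H ⟶ L^[m+1]` to the tautological sheaf of `L` is an
epimorphism. (The published statement is an equivalence and is made under the standing assumption
that `X` is projective of dimension at most two or that at most three points are taken; only the
implication from very ampleness to surjectivity is stated here, and the fibrewise argument uses
neither restriction.) -/
theorem result (k : Type u) [Field k] [IsAlgClosed k] [CharZero k] (X : Scheme.{u}) [X.Over (Spec (CommRingCat.of k))] [AlgebraicGeometry.IsIntegral X] [Smooth (X ↘ Spec (CommRingCat.of k))] [IsProper (X ↘ Spec (CommRingCat.of k))] (L : X.Modules) (hL : PicF.IsInvertible L) (m : ℕ) (hva : TautSh.IsKVeryAmple k X L m) (H : Over (Spec (CommRingCat.of k))) (Z : HilbD.Obj (X ↘ Spec (CommRingCat.of k)) (m + 1) H) (hU : HilbD.IsUniversal (X ↘ Spec (CommRingCat.of k)) (m + 1) H Z) : Epi (TautSh.evalMap (X ↘ Spec (CommRingCat.of k)) H Z.1 L) := by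
  have h1 : LocallyOfFinitePresentation (X ↘ Spec (CommRingCat.of k)) := inferInstance
  have h2 : LocallyOfFiniteType H.hom :=
    K994.Hlft.locallyOfFiniteType_hom k (X ↘ Spec (CommRingCat.of k)) hU
  have h3 : FlatMod.IsFinLocFreeOfRank 1 L :=
    Groth.Agent.Ega2.QCohLocal.isFinLocFreeOfRank_one_iff.2 hL
  have h4 : FlatMod.IsFinLocFree L := fun x => by
    obtain ⟨U, hx, e⟩ := h3 x
    exact ⟨U, 1, hx, e⟩
  have h5 : Coh.IsQCoh L := Groth.Agent.Ega2.QCohLocal.isQCoh_of_isFinLocFree h4
  exact K994.EpiEv.epi_evalMap (X ↘ Spec (CommRingCat.of k)) h4 h5 Z hva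

end Groth.Agent.S19718
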