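import Groth.Statements.S19721
import Groth.Agent.TautSh.K994.DblDual

set_option autoImplicit false
universe u
open CategoryTheory CategoryTheory.Limits AlgebraicGeometry
open TautSh

namespace Groth.Agent.S19721

/-- Let `k` be an algebraically closed field of characteristic zero, `X` an integral scheme smooth and
proper over `k` of dimension two, `F` a finite locally free O_X-module, `(H, Z)` a universal pair
for the Hilbert functor of two points of `X` over `k`, and `D` an invertible module on `H` of class
`δ`, that is, a tensor inverse of the determinant of `O_X^[2]`. Then the dual `Hom(F^[2], O_H)` of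
the tautological sheaf of `F` is isomorphic to `(F^∨)^[2] ⊗ D`, where `F^∨ = Hom(F, O_X)` (existence
of an isomorphism only). (The published statement is made for every number of points; for three or
more points the two sides have different first Chern classes, so only the case of two points is
stated. The published statement is over the complex numbers; this row is stated over any
algebraically closed field of characteristic zero.) -/
theorem result (k : Type u) [Field k] [IsAlgClosed k] [CharZero k] (X : Scheme.{u}) [X.Over (Spec (CommRingCat.of k))] [AlgebraicGeometry.IsIntegral X] [Smooth (X ↘ Spec (CommRingCat.of k))] [IsProper (X ↘ Spec (CommRingCat.of k))] (hdim : topologicalKrullDim X = 2) (F : X.Modules) (hF : FlatMod.IsFinLocFree F) (H : Over (Spec (CommRingCat.of k))) (Z : HilbD.Obj (X ↘ Spec (CommRingCat.of k)) 2 H) (hU : HilbD.IsUniversal (X ↘ Spec (CommRingCat.of k)) 2 H Z) (D : H.left.Modules) (hD : TautSh.IsDeltaLB (X ↘ Spec (CommRingCat.of k)) 2 H Z.1 D) : Nonempty (RefHull.dual (TautSh.taut (X ↘ Spec (CommRingCat.of k)) H Z.1 F) ≅ CohB1.tensorMod (TautSh.taut (X ↘ Spec (CommRingCat.of k)) H Z.1 (RefHull.dual F))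 D) := by
  obtain ⟨-, Λ, hΛ, hinv⟩ := hD
  exact K994.DblDual.nonempty_dual_iso
    (TautSh.famToH (X ↘ Spec (CommRingCat.of k)) H Z.1)
    (TautSh.famToX (X ↘ Spec (CommRingCat.of k)) H Z.1) Z.2 hF hΛ hinv

end Groth.Agent.S19721
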