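import Groth.Statements.S19722
import Groth.Agent.TautSh.K994.Core2

set_option autoImplicit false
universe u
open CategoryTheory CategoryTheory.Limits AlgebraicGeometry
open TautSh

namespace Groth.Agent.S19722

/-- Let `k` be an algebraically closed field of characteristic zero, `X` an integral scheme smooth and
proper over `k`, `L` an O_X-module locally free of rank one which is `3`-very ample, `(H, Z)` a
universal pair for the Hilbert functor of two points of `X` over `k`, `(PE, πE, OE, qE)` a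
projective bundle of the rank-two tautological bundle `E_L = L^[2]` over `H`, `(P, π, O1, qP)` a
projective bundle of `H^0(X, L)` over `k`, `h : PE ⟶ P` the morphism over `k` classifying the secant
quotient (the secant map, whose image is the secant variety of `X ⊆ P`), and `φ : X ⟶ P` the
morphism classifying the evaluation quotient `H^0(X, L) ⊗ O_X ⟶ L`. If two `k`-points `a, b` of `PE`
have the same image under `h`, and this image is not the image under `φ` of a `k`-point of `X`, then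
`a = b`. (The published statement asserts that `h` is an isomorphism onto its image away from the
preimage of `X`; the source argues bijectivity on points and takes the immersion property from the
literature, so only injectivity on `k`-points off `X` is stated.) -/
theorem result (k : Type u) [Field k] [IsAlgClosed k] [CharZero k] (X : Scheme.{u}) [X.Over (Spec (CommRingCat.of k))] [AlgebraicGeometry.IsIntegral X] [Smooth (X ↘ Spec (CommRingCat.of k))] [IsProper (X ↘ Spec (CommRingCat.of k))] (L : X.Modules) (hL : FlatMod.IsFinLocFreeOfRank 1 L) (hva : TautSh.IsKVeryAmple k X L 3) (H : Over (Spec (CommRingCat.of k))) (Z : HilbD.Obj (X ↘ Spec (CommRingCat.of k)) 2 H) (hU : HilbD.IsUniversal (X ↘ Spec (CommRingCat.of k)) 2 H Z) {PE : Scheme.{u}} (πE : PE ⟶ H.left) (OE : PE.Modules) (qE : (Scheme.Modules.pullback πE).obj (TautSh.taut (X ↘ Spec (CommRingCat.of k)) H Z.1 L) ⟶ OE) (hPE : KRR.IsProjBundle πE (TautSh.taut (X ↘ Spec (CommRingCat.of k)) H Z.1 L) OE qE) {P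 : Scheme.{u}} (π : P ⟶ Spec (CommRingCat.of k)) (O1 : P.Modules) (qP : (Scheme.Modules.pullback π).obj ((Scheme.Modules.pushforward (X ↘ Spec (CommRingCat.of k))).obj L) ⟶ O1) (hP : KRR.IsProjBundle π ((Scheme.Modules.pushforward (X ↘ Spec (CommRingCat.of k))).obj L) O1 qP) (h : PE ⟶ P) (hh : TautSh.IsMapOfQuot π ((Scheme.Modules.pushforward (X ↘ Spec (CommRingCat.of k))).obj L) O1 qP (πE ≫ H.hom) OE (TautSh.secantQuot (X ↘ Spec (CommRingCat.of k)) H Z.1 L πE OE qE) h) (φ : X ⟶ P) (hφ : TautSh.IsMapOfQuot π ((Scheme.Modules.pushforward (X ↘ Spec (CommRingCat.of k))).obj L) O1 qP (X ↘ Spec (CommRingCat.of k)) L (TautSh.linSysQuot (X ↘ Spec (CommRingCat.of k)) L) φ) (a b : Spec (CommRingCat.of k) ⟶ PE) (ha : a ≫ πE ≫ H.hom = 𝟙 _) (hb : b ≫ πE ≫ H.hom = 𝟙 _) (hab : a ≫ h = b ≫ h) (hX : ∀ x : Spec (CommRingCat.of k) ⟶ X, x ≫ (X ↘ Spec (CommRingCat.of k)) = 𝟙 _ → x ≫ φ ≠ a ≫ h) : a = b := by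
  have hSf : LocallyOfFiniteType (X ↘ Spec (CommRingCat.of k)) := inferInstance
  have hnt : Nontrivial X := by
    let ga : K994.Kpt.T₀ (Spec (CommRingCat.of k)) ⟶ H := Over.homMk (a ≫ πE) (by simpa using ha)
    obtain ⟨fa, da⟩ := K994.Core.isFinite_idl (X ↘ Spec (CommRingCat.of k)) Z ga
    exact K994.Core2.nontrivial_of_le_dm (X ↘ Spec (CommRingCat.of k)) _ da.ge
  have hLq : Coh.IsQCoh L :=
    Groth.Agent.Ega2.QCohLocal.isQCoh_of_isFinLocFree
      (Groth.Agent.Ega2.QCohLocal.isFinLocFree_of_rank hL)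
  have hV : Coh.IsQCoh ((Scheme.Modules.pushforward (X ↘ Spec (CommRingCat.of k))).obj L) :=
    Groth.Agent.Ega1.QcqsPush.isQCoh_pushforward _ _ hLq
  by_contra hne
  have hc : (a ≫ h) ≫ π = 𝟙 _ := by
    obtain ⟨hg, -⟩ := hh
    rw [Category.assoc, hg, ha]
  have hKa := K994.Sct.K_eq (X ↘ Spec (CommRingCat.of k)) Z.1 L πE OE qE hh a
  have hKb := K994.Sct.K_eq (X ↘ Spec (CommRingCat.of k)) Z.1 L πE OE qE hh b
  have hK : K994.Sct.K (X ↘ Spec (CommRingCat.of k)) Z.1 L πE OE qE a =
      K994.Sct.K (X ↘ Spec (CommRingCat.of k)) Z.1 L πE OE qE b := by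
    rw [← hKa, ← hKb, hab]
  obtain ⟨I₃, h1, h2, h3, h4⟩ := K994.Core.core (n := 1) (X ↘ Spec (CommRingCat.of k)) hLq hva hU
    hPE ha hb hK hne
  rw [← hKa] at h4
  have hiso := K994.Core2.isIso_of_dm_eq_one (I₃.subschemeι ≫ (X ↘ Spec (CommRingCat.of k))) h2
  let x : Spec (CommRingCat.of k) ⟶ X :=
    inv (I₃.subschemeι ≫ (X ↘ Spec (CommRingCat.of k))) ≫ I₃.subschemeι
  have hx : x ≫ (X ↘ Spec (CommRingCat.of k)) = 𝟙 _ := by
    rw [Category.assoc, IsIso.inv_hom_id]
  refine hX x hx ?_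
  have hle : K994.Sct.K' π O1 qP (x ≫ φ) ≤ K994.Sct.K' π O1 qP (a ≫ h) := by
    intro s hs
    have hs' := (K994.Core2.K'_linSys (X ↘ Spec (CommRingCat.of k)) L hφ x s).1 hs
    apply h4
    rwa [K994.Kpt.kr_pbUnit_eq L (i := I₃.subschemeι) (i' := x)
      (asIso (I₃.subschemeι ≫ (X ↘ Spec (CommRingCat.of k)))).symm rfl]
  refine K994.Sct.eq_of_K'_le K994.Core.isField_Γ hP hV ?_ hc hle
  obtain ⟨hg, -⟩ := hφ
  rw [Category.assoc, hg, hx]

end Groth.Agent.S19722
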