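import Groth.Statements.S19723
import Groth.Agent.TautSh.K805.Main

set_option autoImplicit false
universe u
open CategoryTheory CategoryTheory.Limits AlgebraicGeometry
open TautSh

namespace Groth.Agent.S19723

/-- Let `k` be an algebraically closed field of characteristic zero, `X` an integral scheme smooth and
proper over `k` of dimension two and `Hl` an ample invertible module on `X`. Let `Hs` be a proper
`k`-scheme with a universal pair `(Hs, Z)` for the Hilbert functor of two points of `X` over `k` (so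
`Hs` is the Hilbert scheme `X^[2]`), `(Y, q, gY)` a symmetric square of `X` over `k` with
Hilbert–Chow morphism `ρ : Hs ⟶ Y`, `M` the invertible module on `Y` whose pull-back to `X × X` is
`Hl ⊠ Hl`, `D` an invertible module on `Hs` of class `δ` (a tensor inverse of the determinant of
`O_X^[2]`) and `D'` a tensor inverse of `D`; write `H_N = (ρ^* M)^{⊗N} ⊗ D'`. Then there is `N0`
such that `H_N` is ample for every `N ≥ N0`. (The published lemma is stated for any number of
points; only the case of two points is stated here. The published statement is over the complex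
numbers; this row is stated over any algebraically closed field of characteristic zero.) -/
theorem result (k : Type u) [Field k] [IsAlgClosed k] [CharZero k] (X : Scheme.{u}) [X.Over (Spec (CommRingCat.of k))] [AlgebraicGeometry.IsIntegral X] [Smooth (X ↘ Spec (CommRingCat.of k))] [IsProper (X ↘ Spec (CommRingCat.of k))] (hdim : topologicalKrullDim X = 2) (Hl : X.Modules) (hHl : CohB1.IsAmple Hl) (Hs : Scheme.{u}) [Hs.Over (Spec (CommRingCat.of k))] [IsProper (Hs ↘ Spec (CommRingCat.of k))] (Z : HilbD.Obj (X ↘ Spec (CommRingCat.of k)) 2 (CategoryTheory.Over.mk (Hs ↘ Spec (CommRingCat.of k)))) (hU : HilbD.IsUniversal (X ↘ Spec (CommRingCat.of k)) 2 (CategoryTheory.Over.mk (Hs ↘ Spec (CommRingCat.of k))) Z) {Y : Scheme.{u}} (q : SymProd.fibPow (X ↘ Spec (CommRingCat.of k)) 2 ⟶ Y) (gY : Y ⟶ Spec (CommRingCat.of k)) (hY : SymProd.IsSymProd (X ↘ Spec (CommRingCat.of k)) 2 q gY) (ρ : Hs ⟶ Y) (hρ : TautSh.IsHilbChow (X ↘ Spec (CommRingCat.of k)) 2 (CategoryTheory.Over.mk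 (Hs ↘ Spec (CommRingCat.of k))) Z.1 q gY ρ) (M : Y.Modules) (hM : TautSh.IsSymPowLB (X ↘ Spec (CommRingCat.of k)) 2 q Hl M) (D D' : Hs.Modules) (hD : TautSh.IsDeltaLB (X ↘ Spec (CommRingCat.of k)) 2 (CategoryTheory.Over.mk (Hs ↘ Spec (CommRingCat.of k))) Z.1 D) (hD' : ClSub.IsInverseOf D' D) : ∃ N0 : ℕ, ∀ N : ℕ, N0 ≤ N → CohB1.IsAmple (CohB1.tensorMod (CohB1.tensorPow ((Scheme.Modules.pullback ρ).obj M) N) D') := by
  obtain ⟨hprY, hfinq, hsurjq, -⟩ := K639.SymFacts.quot_facts_gen (X ↘ Spec (CommRingCat.of k)) 1 q gY hY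
  have hMample := K639.SymFacts.ample_gen k (X ↘ Spec (CommRingCat.of k)) q gY hY Hl hHl M hM
  have hint : IsIntegral Hs := K805.Taut.isIntegral_hs k X hdim Hl hHl Hs 2 Z hU
  have hnt : Nontrivial X := by
    by_contra hcon
    rw [not_nontrivial_iff_subsingleton] at hcon
    have h2 := topologicalKrullDim_zero_of_discreteTopology X
    rw [hdim] at h2
    exact absurd h2 (by norm_num)
  have hcX : CompactSpace X := QuasiCompact.compactSpace_of_compactSpace (X ↘ Spec (CommRingCat.of k))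
  have hsX : X.IsSeparated := by
    rw [Scheme.isSeparated_iff, ← terminal.comp_from (X ↘ Spec (CommRingCat.of k)), IsSeparated.comp_iff]
    infer_instance
  obtain ⟨hDinv, Λ, hΛ, ⟨eΛ⟩⟩ := hD
  obtain ⟨eD⟩ := hD'
  have h1 : IsProper (CategoryTheory.Over.mk (Hs ↘ Spec (CommRingCat.of k))).hom :=
    inferInstanceAs (IsProper (Hs ↘ Spec (CommRingCat.of k)))
  have h2 : IsIntegral (CategoryTheory.Over.mk (Hs ↘ Spec (CommRingCat.of k))).left := hint
  obtain ⟨hΛinv, hrel⟩ := K805.Taut.isRelAmple hU q gY ρ hρ hY.over hHl hΛ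
  have e : Λ ≅ D' := (Groth.Agent.Ega2.Tens.lunit _).symm ≪≫
    Groth.Agent.Ega2.Tens.mapTIso eD.symm (Iso.refl _) ≪≫ Groth.Agent.Ega2.Tens.assoc _ _ _ ≪≫
    Groth.Agent.Ega2.Tens.mapTIso (Iso.refl _) eΛ ≪≫ Groth.Agent.Ega2.Tens.runit _
  have hρp : IsProper ρ := by
    have : IsProper (ρ ≫ gY) := by
      rw [hρ.1]
      infer_instance
    exact IsProper.of_comp ρ gY
  obtain ⟨n₀, -, hn⟩ := Groth.Agent.S2331.result ρ gY Λ M hrel ((Groth.Agent.S4381.result gY M).2 hMample)
  refine ⟨n₀, fun N hN => ?_⟩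
  have h3 := (Groth.Agent.S4381.result (ρ ≫ gY) _).1 (hn N hN)
  obtain ⟨eN⟩ : Nonempty ((Scheme.Modules.pullback ρ).obj (CohB1.tensorPow M N) ≅
      CohB1.tensorPow ((Scheme.Modules.pullback ρ).obj M) N) := by
    rw [← Groth.Agent.Grpsch.PicGrp.mk_eq_iff
      (Groth.Agent.Fdesc.LocGen.isInvertible_pullback ρ (Groth.Agent.Fdesc.LocGen.isInvertible_tensorPow hM.1 N))
      (Groth.Agent.Fdesc.LocGen.isInvertible_tensorPow (Groth.Agent.Fdesc.LocGen.isInvertible_pullback ρ hM.1) N),
      ← Groth.Agent.Grpsch.PicGrp.pull_mk (hL := Groth.Agent.Fdesc.LocGen.isInvertible_tensorPow hM.1 N),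
      Groth.Agent.Grpsch.PicGrp.mk_tensorPow hM.1, Groth.Agent.Grpsch.PicGrp.mk_tensorPow, map_pow,
      Groth.Agent.Grpsch.PicGrp.pull_mk]
  exact Groth.Agent.Models2.AmplePull.isAmple_of_iso (Groth.Agent.Ega2.Tens.mapTIso e eN ≪≫
    Groth.Agent.Ega2.Tens.swap _ _) h3

end Groth.Agent.S19723
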