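import Groth.Statements.S19724
import Groth.Agent.TautSh.K994.Core

set_option autoImplicit false
universe u
open CategoryTheory CategoryTheory.Limits AlgebraicGeometry
open TautSh

namespace Groth.Agent.S19724

/-- Let `k` be an algebraically closed field of characteristic zero, `X` an integral scheme smooth and
proper over `k` of dimension one, `n` a natural number, `L` an O_X-module locally free of rank one
which is `(2n+1)`-very ample, `(H, Z)` and `(H', Z')` universal pairs for the Hilbert functors of `n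
+ 1` and of `n` points of `X` over `k`, `(PE, πE, OE, qE)` and `(PE', πE', OE', qE')` projective
bundles of the tautological bundles `L^[n+1]` over `H` and `L^[n]` over `H'`, `(P, π, O1, qP)` a
projective bundle of `H^0(X, L)` over `k`, and `h : PE ⟶ P`, `h' : PE' ⟶ P` the morphisms over `k`
classifying the secant quotients (the image of `h` is the variety of `(n+1)`-secant `n`-planes, that
of `h'` the variety of `n`-secant `(n-1)`-planes). If two `k`-points `a, b` of `PE` have the same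
image under `h`, and this image is not the image under `h'` of a `k`-point of `PE'`, then `a = b`.
(The published statement asserts that `h` is an isomorphism onto its image away from the preimage of
the lower secant variety; the source argues bijectivity on points and takes the immersion property
from the literature, so only injectivity on `k`-points off the lower secant variety is stated.) -/
theorem result (k : Type u) [Field k] [IsAlgClosed k] [CharZero k] (X : Scheme.{u}) [X.Over (Spec (CommRingCat.of k))] [AlgebraicGeometry.IsIntegral X] [Smooth (X ↘ Spec (CommRingCat.of k))] [IsProper (X ↘ Spec (CommRingCat.of k))] (hdim : topologicalKrullDim X = 1) (n : ℕ) (L : X.Modules) (hL : FlatMod.IsFinLocFreeOfRank 1 L) (hva : TautSh.IsKVeryAmple k X L (2 * n + 1)) (H : Over (Spec (CommRingCat.of k))) (Z : HilbD.Obj (X ↘ Spec (CommRingCat.of k)) (n + 1) H) (hU : HilbD.IsUniversal (X ↘ Spec (CommRingCat.of k)) (n + 1) H Z) (H' : Over (Spec (CommRingCat.of k))) (Z' : HilbD.Obj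 (X ↘ Spec (CommRingCat.of k)) n H') (hU' : HilbD.IsUniversal (X ↘ Spec (CommRingCat.of k)) n H' Z') {PE : Scheme.{u}} (πE : PE ⟶ H.left) (OE : PE.Modules) (qE : (Scheme.Modules.pullback πE).obj (TautSh.taut (X ↘ Spec (CommRingCat.of k)) H Z.1 L) ⟶ OE) (hPE : KRR.IsProjBundle πE (TautSh.taut (X ↘ Spec (CommRingCat.of k)) H Z.1 L) OE qE) {PE' : Scheme.{u}} (πE' : PE' ⟶ H'.left) (OE' : PE'.Modules) (qE' : (Scheme.Modules.pullback πE').obj (TautSh.taut (X ↘ Spec (CommRingCat.of k)) H' Z'.1 L) ⟶ OE') (hPE' : KRR.IsProjBundle πE' (TautSh.taut (X ↘ Spec (CommRingCat.of k)) H' Z'.1 L) OE' qE') {P : Scheme.{u}} (π : P ⟶ Spec (CommRingCat.of k)) (O1 : P.Modules) (qP : (Scheme.Modules.pullback π).obj ((Scheme.Modules.pushforward (X ↘ Spec (CommRingCat.of k))).obj L) ⟶ O1) (hP : KRR.IsProjBundle π ((Scheme.Modules.pushforward (X ↘ Spec (CommRingCat.of k))).obj L) O1 qP) (h : PE ⟶ P) (hh : TautSh.IsMapOfQuot π ((Scheme.Modules.pushforward (X ↘ Spec (CommRingCat.of k))).obj L)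 O1 qP (πE ≫ H.hom) OE (TautSh.secantQuot (X ↘ Spec (CommRingCat.of k)) H Z.1 L πE OE qE) h) (h' : PE' ⟶ P) (hh' : TautSh.IsMapOfQuot π ((Scheme.Modules.pushforward (X ↘ Spec (CommRingCat.of k))).obj L) O1 qP (πE' ≫ H'.hom) OE' (TautSh.secantQuot (X ↘ Spec (CommRingCat.of k)) H' Z'.1 L πE' OE' qE') h') (a b : Spec (CommRingCat.of k) ⟶ PE) (ha : a ≫ πE ≫ H.hom = 𝟙 _) (hb : b ≫ πE ≫ H.hom = 𝟙 _) (hab : a ≫ h = b ≫ h) (hlow : ∀ c : Spec (CommRingCat.of k) ⟶ PE', c ≫ πE' ≫ H'.hom = 𝟙 _ → c ≫ h' ≠ a ≫ h) : a = b := by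
  have hSf : LocallyOfFiniteType (X ↘ Spec (CommRingCat.of k)) := inferInstance
  have hnt : Nontrivial X := by
    by_contra hcon
    rw [not_nontrivial_iff_subsingleton] at hcon
    have h1 : topologicalKrullDim X ≤ 0 := by
      have : DiscreteTopology X := inferInstance
      exact topologicalKrullDim_zero_of_discreteTopology X
    rw [hdim] at h1
    exact absurd h1 (by decide)
  have hLq : Coh.IsQCoh L :=
    Groth.Agent.Ega2.QCohLocal.isQCoh_of_isFinLocFree
      (Groth.Agent.Ega2.QCohLocal.isFinLocFree_of_rank hL)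
  have hV : Coh.IsQCoh ((Scheme.Modules.pushforward (X ↘ Spec (CommRingCat.of k))).obj L) :=
    Groth.Agent.Ega1.QcqsPush.isQCoh_pushforward _ _ hLq
  by_contra hne
  have hc : (a ≫ h) ≫ π = 𝟙 _ := by
    obtain ⟨hg, -⟩ := hh
    rw [Category.assoc, hg, ha]
  have hKa := K994.Sct.K_eq (X ↘ Spec (CommRingCat.of k)) Z.1 L πE OE qE hh a
  have hKb := K994.Sct.K_eq (X ↘ Spec (CommRingCat.of k)) Z.1 L πE OE qE hh b
  have hK : K994.Sct.K (X ↘ Spec (CommRingCat.of k)) Z.1 L πE OE qE a =
      K994.Sct.K (X ↘ Spec (CommRingCat.of k)) Z.1 L πE OE qE b := by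
    rw [← hKa, ← hKb, hab]
  obtain ⟨I₃, h1, h2, h3, h4⟩ := K994.Core.core (X ↘ Spec (CommRingCat.of k)) hLq hva hU hPE ha hb
    hK hne
  rw [← hKa] at h4
  have hd3 : Mor2.IsFinLocFreeOfDeg n (I₃.subschemeι ≫ (X ↘ Spec (CommRingCat.of k))) :=
    (K994.Fin.isFinLocFreeOfDeg_iff _ n).2 ⟨h1, h2⟩
  obtain ⟨g', hg', -⟩ := hU' _ (K994.Kpt.ofIdl (X ↘ Spec (CommRingCat.of k)) I₃ hd3)
  have hidl : K994.Kpt.idl (X ↘ Spec (CommRingCat.of k))
      (HilbD.pull (X ↘ Spec (CommRingCat.of k)) g' Z'.1) = I₃ := by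
    rw [hg']
    exact K994.Kpt.idl_comap _ I₃
  have hsurj : Function.Surjective (K994.Sec.rs (TautSh.famToX (X ↘ Spec (CommRingCat.of k))
      (K994.Kpt.T₀ _) (HilbD.pull (X ↘ Spec (CommRingCat.of k)) g' Z'.1)) L) := by
    have : IsFinite ((K994.Kpt.idl (X ↘ Spec (CommRingCat.of k))
      (HilbD.pull (X ↘ Spec (CommRingCat.of k)) g' Z'.1)).subschemeι ≫
        (X ↘ Spec (CommRingCat.of k))) := by rw [hidl]; exact h1
    apply K994.Core.rs_famToX_surjective hLq
    rw [hidl]
    exact h3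
  obtain ⟨c, hc1, hc2⟩ := K994.Sct.exists_point_of_K' (X ↘ Spec (CommRingCat.of k)) hPE'
    (K994.Core.isAffineHom_famToH _ Z') hLq hV g' hsurj hP hc (fun x hx => h4 (by
      have := (K994.Kpt.kr_pushEval (X ↘ Spec (CommRingCat.of k)) L
        (HilbD.pull (X ↘ Spec (CommRingCat.of k)) g' Z'.1) x).1 hx
      rwa [hidl] at this))
  have hc3 : c ≫ πE' ≫ H'.hom = 𝟙 _ := by
    rw [← Category.assoc, hc1]
    exact Over.w g'
  refine hlow c hc3 ?_
  have hKc := K994.Sct.K_eq (X ↘ Spec (CommRingCat.of k)) Z'.1 L πE' OE' qE' hh' c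
  refine K994.Sct.eq_of_K'_le K994.Core.isField_Γ hP hV ?_ hc (le_of_eq (hKc.trans hc2))
  obtain ⟨hg, -⟩ := hh'
  rw [Category.assoc, hg, hc3]

end Groth.Agent.S19724
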