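import Groth.Statements.S19725
import Groth.Agent.TautSh.K994.Fin25
import Groth.Agent.TautSh.K67.Cls

set_option autoImplicit false
universe u
open CategoryTheory CategoryTheory.Limits AlgebraicGeometry
open TautSh

namespace Groth.Agent.S19725

/-- Let `k` be an algebraically closed field of characteristic zero, `X` an integral scheme smooth and
proper over `k`, of dimension two, with `H^1(X, O_X) = 0`, `Hl` an ample invertible module on `X`,
and `F` a finite locally free O_X-module, not isomorphic to `O_X`, which is slope-stable of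
dimension two with respect to `Hl`. Let `Hs` be a proper `k`-scheme with a universal pair `(Hs, Z)`
for the Hilbert functor of two points of `X` over `k` (so `Hs` is the Hilbert scheme `X^[2]`), `(Y,
q, gY)` a symmetric square of `X` over `k` with Hilbert–Chow morphism `ρ : Hs ⟶ Y`, `M` the
invertible module on `Y` whose pull-back to `X × X` is `Hl ⊠ Hl`, `D` an invertible module on `Hs`
of class `δ` (a tensor inverse of the determinant of `O_X^[2]`) and `D'` a tensor inverse of `D`;
write `H_N = (ρ^* M)^{⊗N} ⊗ D'`. Then there is `N0` such that for every `N ≥ N0` for which `H_N` is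
ample, every invertible submodule of the tautological bundle `F^[2]` has ratio of top
Hilbert-polynomial coefficients (the slope comparison in dimension four with respect to `H_N`)
strictly smaller than that of `F^[2]`: `F^[2]` contains no destabilising line subbundle. (Ampleness
of `H_N` for large `N` is a separate result of the source and is taken here as a premise. The
published statement is over the complex numbers; this row is stated over any algebraically closed
field of characteristic zero.) -/
theorem result (k : Type u) [Field k] [IsAlgClosed k] [CharZero k] (X : Scheme.{u}) [X.Over (Spec (CommRingCat.of k))] [AlgebraicGeometry.IsIntegral X] [Smooth (X ↘ Spec (CommRingCat.of k))] [IsProper (X ↘ Spec (CommRingCat.of k))] (hdim : topologicalKrullDim X = 2) (hreg : Subsingleton (Coh.HH X (Coh.structureModule X) 1)) (Hl : X.Modules) (hHl : CohB1.IsAmple Hl) (F : X.Modules) (hF : FlatMod.IsFinLocFree F) (hFO : IsEmpty (F ≅ Coh.structureModule X)) (hFst : ShStab.IsMuStable k X Hl F 2) (Hs : Scheme.{u}) [Hs.Over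 (Spec (CommRingCat.of k))] [IsProper (Hs ↘ Spec (CommRingCat.of k))] (Z : HilbD.Obj (X ↘ Spec (CommRingCat.of k)) 2 (CategoryTheory.Over.mk (Hs ↘ Spec (CommRingCat.of k)))) (hU : HilbD.IsUniversal (X ↘ Spec (CommRingCat.of k)) 2 (CategoryTheory.Over.mk (Hs ↘ Spec (CommRingCat.of k))) Z) {Y : Scheme.{u}} (q : SymProd.fibPow (X ↘ Spec (CommRingCat.of k)) 2 ⟶ Y) (gY : Y ⟶ Spec (CommRingCat.of k)) (hY : SymProd.IsSymProd (X ↘ Spec (CommRingCat.of k)) 2 q gY) (ρ : Hs ⟶ Y) (hρ : TautSh.IsHilbChow (X ↘ Spec (CommRingCat.of k)) 2 (CategoryTheory.Over.mk (Hs ↘ Spec (CommRingCat.of k))) Z.1 q gY ρ) (M : Y.Modules) (hM : TautSh.IsSymPowLB (X ↘ Spec (CommRingCat.of k)) 2 q Hl M) (D D' : Hs.Modules) (hD : TautSh.IsDeltaLB (X ↘ Spec (CommRingCat.of k)) 2 (CategoryTheory.Over.mk (Hs ↘ Spec (CommRingCat.of k))) Z.1 D) (hD' : ClSub.IsInverseOf D' D) : ∃ N0 : ℕ, ∀ N : ℕ, N0 ≤ N → CohB1.IsAmple (CohB1.tensorMod (CohB1.tensorPow ((Scheme.Modules.pullback ρ).obj M) N) D') → StabCat.IsMuSt (fun G : Hs.Modules => PicF.IsInvertible G)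 (ShStab.IsHilbPoly k Hs (CohB1.tensorMod (CohB1.tensorPow ((Scheme.Modules.pullback ρ).obj M) N) D')) 4 (TautSh.taut (X ↘ Spec (CommRingCat.of k)) (CategoryTheory.Over.mk (Hs ↘ Spec (CommRingCat.of k))) Z.1 F) := by
  have hrank : FlatMod.IsFinLocFreeOfRank (K848.Hull.rk F) F := by
    intro x
    obtain ⟨U, m, hx, ⟨e⟩⟩ := hF x
    have h1 := K848.Hull.eq_rk_of_triv e hx
    exact ⟨U, hx, ⟨h1 ▸ e⟩⟩
  exact K994.Fin25.main k X hdim Hl hHl F _ hrank hFO hFst Hs Z hU q gY hY ρ hρ M hM D D' hD.1 hD'
    (fun W hW => K67.Cls.main k X q gY hY W hW hdim Hl hHl Hs Z hU ρ hρ)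

end Groth.Agent.S19725
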