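import Groth.Statements.S19741
import Groth.Agent.EssDim.K995.FieldTr

set_option autoImplicit false
universe w u
open EssDim

namespace Groth.Agent.S19741

open CategoryTheory AlgebraicGeometry Opposite

section
variable {k : Type u} [Field k] {K : Type u} [Field K] [Algebra k K]

/-- `Spec L` over `Spec K`, viewed over `Spec k`, is `Spec L` over `Spec k`. -/
noncomputable def ptIso (L : Type u) [Field L] [Algebra K L] [Algebra k L] [IsScalarTower k K L] :
    (Over.map (Spec.map (CommRingCat.ofHom (algebraMap k K)))).obj (SGA7.pt (K := K) L) ≅ SGA7.pt (K := k) L :=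
  Over.isoMk (Iso.refl _) (by
    change 𝟙 _ ≫ Spec.map _ = Spec.map _ ≫ Spec.map _
    rw [Category.id_comp, ← Spec.map_comp, ← CommRingCat.ofHom_comp, IsScalarTower.algebraMap_eq k K L])

theorem resPt_ptIso {L₁ L₂ : Type u} [Field L₁] [Algebra K L₁] [Algebra k L₁] [IsScalarTower k K L₁]
    [Field L₂] [Algebra K L₂] [Algebra k L₂] [IsScalarTower k K L₂] (f : L₁ →ₐ[K] L₂) :
    (Over.map (Spec.map (CommRingCat.ofHom (algebraMap k K)))).map (resPt f) ≫ (ptIso (k := k) L₁).hom =
      (ptIso (k := k) L₂).hom ≫ resPt (f.restrictScalars k) := by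
  ext : 1
  change Spec.map _ ≫ 𝟙 _ = 𝟙 _ ≫ Spec.map _
  rw [Category.comp_id, Category.id_comp]
  rfl

theorem edAt_le (P : (Over (Spec (CommRingCat.of k)))ᵒᵖ ⥤ Type w) (L : Type u) [Field L] [Algebra K L]
    [Algebra k L] [IsScalarTower k K L]
    (ξ : FPt ((Over.map (Spec.map (CommRingCat.ofHom (algebraMap k K)))).op ⋙ P) L) :
    edAt _ ξ ≤ edAt P (P.map (ptIso (k := k) (K := K) L).inv.op ξ) := by
  unfold edAt
  refine le_iInf fun ⟨M, hM⟩ => ?_
  have hM' : Descends ((Over.map (Spec.map (CommRingCat.ofHom (algebraMap k K)))).op ⋙ P) ξ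
      (IntermediateField.adjoin K (M : Set L)) := by
    obtain ⟨ξ₀, h₀⟩ := hM
    let j : M →ₐ[k] IntermediateField.adjoin K (M : Set L) :=
      { toRingHom := (algebraMap M L).codRestrict (IntermediateField.adjoin K (M : Set L)).toSubalgebra.toSubring
          (fun x => IntermediateField.subset_adjoin K _ x.2)
        commutes' := fun x => Subtype.ext (by rfl) }
    have : IsScalarTower k K (IntermediateField.adjoin K (M : Set L)) := inferInstance
    refine ⟨P.map ((ptIso (k := k) (IntermediateField.adjoin K (M : Set L))).hom ≫ resPt j).op ξ₀, ?_⟩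
    change (P.map _ ≫ P.map _) ξ₀ = ξ
    have e1 : (((IntermediateField.adjoin K (M : Set L)).val).restrictScalars k).comp j = M.val := by
      ext x; rfl
    have e : (Over.map (Spec.map (CommRingCat.ofHom (algebraMap k K)))).map
          (resPt (IntermediateField.adjoin K (M : Set L)).val) ≫
        ((ptIso (k := k) (IntermediateField.adjoin K (M : Set L))).hom ≫ resPt j) =
        (ptIso (k := k) L).hom ≫ resPt M.val := by
      rw [← Category.assoc, resPt_ptIso, Category.assoc, ← resPt_comp, e1]
    rw [← P.map_comp]
    change P.map ((Over.map (Spec.map (CommRingCat.ofHom (algebraMap k K)))).map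
          (resPt (IntermediateField.adjoin K (M : Set L)).val) ≫
        ((ptIso (k := k) (IntermediateField.adjoin K (M : Set L))).hom ≫ resPt j)).op ξ₀ = ξ
    rw [e, op_comp, P.map_comp]
    change P.map (ptIso L).hom.op (P.map (resPt M.val).op ξ₀) = ξ
    rw [show P.map (resPt M.val).op ξ₀ = _ from h₀]
    change (P.map _ ≫ P.map _) ξ = ξ
    rw [← P.map_comp, ← op_comp, Iso.hom_inv_id]
    exact congrFun (congrArg DFunLike.coe (congrArg ConcreteCategory.hom (P.map_id _))) ξ
  exact (edAt_le_of_descends hM').trans
    ((Cardinal.toENat.monotone') (K995.FieldTr.trdeg_adjoin_le M))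

end

open CategoryTheory AlgebraicGeometry in
/-- For a field extension `K` of `k` and a presheaf of sets `P` on schemes over `k`, restrict `P` to
schemes over `K` by viewing a scheme over `Spec K` as a scheme over `Spec k`; then the essential
dimension over `K` of the restricted presheaf is at most the essential dimension of `P` over `k`.
(The source states this for an algebraic stack over `k` and its base change to `K`, through the
presheaf of isomorphism classes of objects, whose restriction to schemes over `K` is the presheaf of
classes of the base-changed stack; the inequality is stated here for an arbitrary presheaf, which is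
what the argument with composita of fields of definition gives.) -/
theorem result (k : Type u) [Field k] (K : Type u) [Field K] [Algebra k K]
    (P : (Over (Spec (CommRingCat.of k)))ᵒᵖ ⥤ Type w) :
    EssDim.ed (k := K) ((Over.map (Spec.map (CommRingCat.ofHom (algebraMap k K)))).op ⋙ P) ≤ EssDim.ed P := by
  unfold EssDim.ed
  refine iSup_le fun L => iSup_le fun hL => iSup_le fun hKL => iSup_le fun ξ => ?_
  let _ : Algebra k L := ((algebraMap K L).comp (algebraMap k K)).toAlgebra
  have : IsScalarTower k K L := IsScalarTower.of_algebraMap_eq fun _ => rfl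
  exact (WithBot.coe_le_coe.2 (edAt_le P L ξ)).trans (edAt_le_ed _)

end Groth.Agent.S19741
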