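import Groth.Statements.S19745
import Groth.Agent.EssDim.K995.GenusZeroDesc
import Groth.Agent.EssDim.K995.GenusZeroPt
import Mathlib.Algebra.CharZero.Infinite

set_option autoImplicit false
universe u
open EssDim

namespace Groth.Agent.S19745

open CategoryTheory AlgebraicGeometry K995 K995.P1Pts in
theorem edSt_eq {n : ℕ} (hn : n ≤ 2) (k : Type u) [Field k]
    [FibCat.IsFibGrpd (CurvSt.Mgn (Spec (CommRingCat.of k)) 0 n).p]
    (H : ∀ (L : Type u) [Field L] [Algebra k L] (s : Fin n → (Spec (CommRingCat.of L) ⟶ CohB1.ProjSpace 1 L)),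
      (∀ i, s i ≫ CohB1.ProjSpace.toSpec 1 L = 𝟙 _) → (∀ i j, i ≠ j → s i ≠ s j) →
        ∃ e : CohB1.ProjSpace 1 L ≅ CohB1.ProjSpace 1 L,
          e.hom ≫ CohB1.ProjSpace.toSpec 1 L = CohB1.ProjSpace.toSpec 1 L ∧
            ∀ i, s i ≫ e.hom = std L (Fin.castLE hn i)) (i₀ : Fin n) :
    EssDim.edSt (CurvSt.Mgn (Spec (CommRingCat.of k)) 0 n) = 0 := by
  refine le_antisymm (MgnDesc.edSt_le (d := 0) fun L _ _ C f s hs h => ?_)
    (MgnDesc.edSt_nonneg _ _ (fun i => std_toSpec _) (GenusZeroDesc.isSmoothPtdFam_std hn k))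
  obtain ⟨e, he⟩ := GenusZeroPt.exists_iso_P1 h.1 (s i₀) (hs i₀)
  obtain ⟨e', he', hs'⟩ := H L (fun i => s i ≫ e.hom) (fun i => by rw [Category.assoc, he, hs])
    (fun i j hij heq => by
      have h1 : s i = s j := (cancel_mono e.hom).1 heq
      exact h.2 i j hij (IsLocalRing.closedPoint L) (by rw [h1]))
  refine GenusZeroDesc.descLE hn k (e ≪≫ e') ?_ fun i => ?_
  · rw [Iso.trans_hom, Category.assoc, he', he]
  · rw [Iso.trans_hom, ← Category.assoc, hs']

open CategoryTheory AlgebraicGeometry in
/-- Over a field `k` of characteristic zero, the stack of smooth genus-`0` curves with one marked point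
and the stack of smooth genus-`0` curves with two (distinct) marked points both have essential
dimension `0`: they have objects over some field, and every smooth proper geometrically irreducible
curve of genus `0` over a field `L ⊇ k` with one or two rational points descends, with its points,
to a subfield of `L` algebraic over `k`. -/
theorem result (k : Type u) [Field k] [CharZero k]
    [FibCat.IsFibGrpd (CurvSt.Mgn (Spec (CommRingCat.of k)) 0 1).p]
    [FibCat.IsFibGrpd (CurvSt.Mgn (Spec (CommRingCat.of k)) 0 2).p] :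
    EssDim.edSt (CurvSt.Mgn (Spec (CommRingCat.of k)) 0 1) = 0 ∧
      EssDim.edSt (CurvSt.Mgn (Spec (CommRingCat.of k)) 0 2) = 0 := by
  constructor
  · refine edSt_eq (n := 1) (by norm_num) k (fun L _ _ s hs _ => ?_) 0
    have : CharZero L := charZero_of_injective_algebraMap (algebraMap k L).injective
    have : Infinite L := CharZero.infinite L
    obtain ⟨e, h1, h2⟩ := K995.P1Pts.exists_move_one (s 0) (hs 0)
    exact ⟨e, h1, fun i => by rw [Subsingleton.elim i 0]; exact h2⟩
  · refine edSt_eq (n := 2) le_rfl k (fun L _ _ s hs hne => ?_) 0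
    have : CharZero L := charZero_of_injective_algebraMap (algebraMap k L).injective
    have : Infinite L := CharZero.infinite L
    obtain ⟨e, h1, h2, h3⟩ := K995.P1Pts.exists_move_two (s 0) (s 1) (hs 0) (hs 1)
      (hne 0 1 (by simp))
    refine ⟨e, h1, fun i => ?_⟩
    fin_cases i
    · exact h2
    · exact h3

end Groth.Agent.S19745
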