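import Groth.Statements.S19746
import Groth.Agent.EssDim.K995.ConicModel
import Groth.Agent.EssDim.K995.GenusZeroDesc

set_option autoImplicit false
universe u
open EssDim

namespace Groth.Agent.S19746

open CategoryTheory AlgebraicGeometry in
/-- Over a field `k` of characteristic zero the stack of smooth curves of genus `0` (no marked points)
has an object over some field, and its essential dimension over `k` is at most `2`: every smooth
proper geometrically irreducible curve of genus `0` over a field `L ⊇ k` is obtained by base change
from a curve over a subfield of `L` of transcendence degree at most `2` over `k`. (The source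
asserts that this essential dimension equals `2`; the reverse inequality is only indicated there,
and this row states non-emptiness and the upper bound.) -/
theorem result (k : Type u) [Field k] [CharZero k]
    [FibCat.IsFibGrpd (CurvSt.Mgn (Spec (CommRingCat.of k)) 0 0).p] :
    EssDim.edSt (CurvSt.Mgn (Spec (CommRingCat.of k)) 0 0) ≠ ⊥ ∧
      EssDim.edSt (CurvSt.Mgn (Spec (CommRingCat.of k)) 0 0) ≤ ((2 : ℕ) : WithBot ℕ∞) := by
  refine ⟨fun hbot => ?_, K995.MgnDesc.edSt_le (d := 2) fun L _ _ C f s _ h => ?_⟩
  · have h1 := K995.MgnDesc.edSt_nonneg (CohB1.ProjSpace.toSpec 1 k) _ (fun i : Fin 0 => i.elim0)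
      (K995.GenusZeroDesc.isSmoothPtdFam_std (n := 0) (Nat.zero_le _) k)
    rw [hbot] at h1
    exact absurd h1 (by decide)
  · have : CharZero L := charZero_of_injective_algebraMap (algebraMap k L).injective
    exact K995.ConicModel.descLE k (two_ne_zero) h.1 s

end Groth.Agent.S19746
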