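import Groth.Statements.S19753
import Groth.Agent.GrSegre.K961.SegStd

set_option autoImplicit false
universe u
open scoped TensorProduct
open GrSegre

namespace Groth.Agent.S19753

/-- Let R and S be graded rings defined over a field k, both generated over k by their degree-one parts
and of positive Krull dimension, T = R # S, and let M and N be finitely generated graded modules
over R and S respectively, neither of them Artinian. Then dim (M # N) = dim M + dim N − 1,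
dimensions being Krull dimensions of supports. Here a graded ring defined over k is a commutative
k-algebra of finite type, graded in nonnegative degrees by k-subspaces with degree-zero part k·1;
the Segre product T = R # S = ⊕_n R_n ⊗_k S_n is presented abstractly as a graded k-algebra T with
an injective k-algebra homomorphism ψ : T → R ⊗_k S carrying T_n onto the k-span of the elementary
tensors a ⊗ b with a ∈ R_n, b ∈ S_n; the Segre product M # N = ⊕_n M_n ⊗_k N_n of a graded R-module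
M and a graded S-module N is presented abstractly as a graded T-module P with an injective k-linear
map φ : P → M ⊗_k N carrying P_n onto the k-span of the tensors x ⊗ y with x ∈ M_n, y ∈ N_n and
turning the action of t ∈ T into that of ψ(t) (acting factorwise on M ⊗_k N). -/
theorem result (k : Type u) [Field k] (R : Type u) [CommRing R] [Algebra k R] (𝒜 : ℤ → Submodule k R) [GradedAlgebra 𝒜] (hposR : ∀ n : ℤ, n < 0 → 𝒜 n = ⊥) (h0R : 𝒜 0 = Submodule.span k {(1 : R)}) [Algebra.FiniteType k R] (S : Type u) [CommRing S] [Algebra k S] (ℬ : ℤ → Submodule k S) [GradedAlgebra ℬ] (hposS : ∀ n : ℤ, n < 0 → ℬ n = ⊥) (h0S : ℬ 0 = Submodule.span k {(1 : S)}) [Algebra.FiniteType k S] (T : Type u) [CommRing T] [Algebra k T] (𝒯 : ℤ → Submodule k T) [GradedAlgebra 𝒯] (ψ : T →ₐ[k] TensorProduct k R S) (hT : GrSeg.IsSegreRing 𝒜 ℬ 𝒯 ψ) (hstdR : Ideal.span (⋃ n ∈ Set.Ioi (0 : ℤ), (𝒜 n : Set R)) = Ideal.span ((𝒜 1 : Submodule k R) : Set R)) (hstdS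 : Ideal.span (⋃ n ∈ Set.Ioi (0 : ℤ), (ℬ n : Set S)) = Ideal.span ((ℬ 1 : Submodule k S) : Set S)) (hr1 : 1 ≤ ringKrullDim R) (hs1 : 1 ≤ ringKrullDim S) (M : Type u) [AddCommGroup M] [Module R M] [Module k M] [IsScalarTower k R M] (ℳ : ℤ → AddSubgroup M) [DirectSum.Decomposition ℳ] [SetLike.GradedSMul 𝒜 ℳ] [Module.Finite R M] (N : Type u) [AddCommGroup N] [Module S N] [Module k N] [IsScalarTower k S N] (𝒩 : ℤ → AddSubgroup N) [DirectSum.Decomposition 𝒩] [SetLike.GradedSMul ℬ 𝒩] [Module.Finite S N] (P : Type u) [AddCommGroup P] [Module T P] [Module k P] [IsScalarTower k T P] (𝒬 : ℤ → AddSubgroup P) [DirectSum.Decomposition 𝒬] (φ : P →ₗ[k] TensorProduct k M N) (hP : GrSeg.IsSegreMod ψ ℳ 𝒩 𝒬 φ) (dM dN : ℕ) (hdM : Module.supportDim R M = dM) (hdN : Module.supportDim S N = dN) (hMA : ¬ IsArtinian R M) (hNA : ¬ IsArtinian S N) : Module.supportDim T P = ((dM + dN - 1 : ℕ) : WithBot ℕ∞) := by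
  have : IsNoetherianRing R := Algebra.FiniteType.isNoetherianRing k R
  have : IsNoetherianRing S := Algebra.FiniteType.isNoetherianRing k S
  have hdM1 : dM ≠ 0 := by
    rintro rfl
    exact hMA (K961.SegStd.isArtinian_of_supportDim_le_zero hposR h0R (K962.Pieces.kp 𝒜 ℳ) (by simp [hdM]))
  have hdN1 : dN ≠ 0 := by
    rintro rfl
    exact hNA (K961.SegStd.isArtinian_of_supportDim_le_zero hposS h0S (K962.Pieces.kp ℬ 𝒩) (by simp [hdN]))
  obtain ⟨r, rfl⟩ : ∃ r', dM = r' + 1 := ⟨dM - 1, by omega⟩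
  obtain ⟨s, rfl⟩ : ∃ s', dN = s' + 1 := ⟨dN - 1, by omega⟩
  obtain ⟨D₁, hD₁, hx⟩ := K961.SegDim2.exists_params 𝒜 (K962.Pieces.kp 𝒜 ℳ) hposR h0R (r + 1) hdM.le
  obtain ⟨D₂, hD₂, hy⟩ := K961.SegDim2.exists_params ℬ (K962.Pieces.kp ℬ 𝒩) hposS h0S (s + 1) hdN.le
  obtain ⟨x, hx, hxr⟩ := hx D₂ hD₂
  obtain ⟨y, hy, hyr⟩ := hy D₁ hD₁
  rw [mul_comm] at hy
  have hD : (0 : ℤ) < ((D₂ * D₁ : ℕ) : ℤ) := by exact_mod_cast Nat.mul_pos hD₂ hD₁
  have := K961.FinDim.finite_adjoin 𝒜 (K962.Pieces.kp 𝒜 ℳ) hposR h0R hD x hx hxr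
  have := K961.FinDim.finite_adjoin ℬ (K962.Pieces.kp ℬ 𝒩) hposS h0S hD y hy hyr
  obtain ⟨a, m, hm, hmf⟩ := K961.Dim.exists_homogeneous_free (R := R) (K962.Pieces.kp 𝒜 ℳ) x (by simpa using hdM.ge)
  obtain ⟨b, n, hn, hnf⟩ := K961.Dim.exists_homogeneous_free (R := S) (K962.Pieces.kp ℬ 𝒩) y (by simpa using hdN.ge)
  obtain ⟨m', hm', hmf'⟩ := K961.SegStd.exists_free_le hstdR hD x hx hm hmf (max a b) (le_max_left _ _)
  obtain ⟨n', hn', hnf'⟩ := K961.SegStd.exists_free_le hstdS hD y hy hn hnf (max a b) (le_max_right _ _)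
  have := K962.Pieces.gradedSMul hT (K962.Pieces.isSegreMod_kp (𝒜 := 𝒜) (ℬ := ℬ) hP)
  have hP' : GrSeg.IsSegreMod ψ (K962.Pieces.kp 𝒜 ℳ) (K962.Pieces.kp ℬ 𝒩) (K962.Pieces.kp 𝒯 𝒬) φ :=
    ⟨hP.injective, hP.image_piece, hP.map_smul⟩
  have h := K961.SegDim2.supportDim_eq hT hP' hposR h0R hposS h0S hD x hx hxr
    y hy hyr hm' hmf' hn' hnf'
  rw [h, show r + 1 + (s + 1) - 1 = r + s + 1 by omega]

end Groth.Agent.S19753
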