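import Groth.Statements.S19754
import Groth.Agent.GrSegre.K961.CM

set_option autoImplicit false
universe u
open scoped TensorProduct
open GrSegre

namespace Groth.Agent.S19754

/-- Let R and S be graded rings defined over a field k, T = R # S, M a finitely generated graded
Cohen–Macaulay R-module of dimension r ≥ 1 and N a finitely generated graded Cohen–Macaulay S-module
of dimension s ≥ 1. Then either M # N = 0 or dim (M # N) = r + s − 1. The letters r and s stand here
for the dimensions of the modules M and N themselves and are not assumed to equal dim R and dim S;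
the proof by homogeneous parameter systems of M and N establishes this general form. Here a graded
ring defined over k is a commutative k-algebra of finite type, graded in nonnegative degrees by
k-subspaces with degree-zero part k·1; the Segre product T = R # S = ⊕_n R_n ⊗_k S_n is presented
abstractly as a graded k-algebra T with an injective k-algebra homomorphism ψ : T → R ⊗_k S carrying
T_n onto the k-span of the elementary tensors a ⊗ b with a ∈ R_n, b ∈ S_n; the Segre product M # N =
⊕_n M_n ⊗_k N_n of a graded R-module M and a graded S-module N is presented abstractly as a graded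
T-module P with an injective k-linear map φ : P → M ⊗_k N carrying P_n onto the k-span of the
tensors x ⊗ y with x ∈ M_n, y ∈ N_n and turning the action of t ∈ T into that of ψ(t) (acting
factorwise on M ⊗_k N); a module over a ring is called Cohen–Macaulay when each of its localizations
at a prime ideal is zero or a Cohen–Macaulay module over the local ring (dimension of the support
equal to the depth), and the dimension of a module is the Krull dimension of its support. -/
theorem result (k : Type u) [Field k] (R : Type u) [CommRing R] [Algebra k R] (𝒜 : ℤ → Submodule k R) [GradedAlgebra 𝒜] (hposR : ∀ n : ℤ, n < 0 → 𝒜 n = ⊥) (h0R : 𝒜 0 = Submodule.span k {(1 : R)}) [Algebra.FiniteType k R] (S : Type u) [CommRing S] [Algebra k S] (ℬ : ℤ → Submodule k S) [GradedAlgebra ℬ] (hposS : ∀ n : ℤ, n < 0 → ℬ n = ⊥) (h0S : ℬ 0 = Submodule.span k {(1 : S)}) [Algebra.FiniteType k S] (T : Type u) [CommRing T] [Algebra k T] (𝒯 : ℤ → Submodule k T) [GradedAlgebra 𝒯] (ψ : T →ₐ[k] TensorProduct k R S) (hT :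 GrSeg.IsSegreRing 𝒜 ℬ 𝒯 ψ) (M : Type u) [AddCommGroup M] [Module R M] [Module k M] [IsScalarTower k R M] (ℳ : ℤ → AddSubgroup M) [DirectSum.Decomposition ℳ] [SetLike.GradedSMul 𝒜 ℳ] [Module.Finite R M] (N : Type u) [AddCommGroup N] [Module S N] [Module k N] [IsScalarTower k S N] (𝒩 : ℤ → AddSubgroup N) [DirectSum.Decomposition 𝒩] [SetLike.GradedSMul ℬ 𝒩] [Module.Finite S N] (P : Type u) [AddCommGroup P] [Module T P] [Module k P] [IsScalarTower k T P] (𝒬 : ℤ → AddSubgroup P) [DirectSum.Decomposition 𝒬] (φ : P →ₗ[k] TensorProduct k M N) (hP : GrSeg.IsSegreMod ψ ℳ 𝒩 𝒬 φ) (r s : ℕ) (h1r : 1 ≤ r) (h1s : 1 ≤ s) (hdM : Module.supportDim R M = r) (hdN : Module.supportDim S N = s) (hMcm : (∀ (q : Ideal R) [q.IsPrime], Subsingleton (LocalizedModule q.primeCompl M) ∨ LocCoh.IsCohenMacaulayModule (Localization.AtPrime q) (LocalizedModule q.primeCompl M))) (hNcm : (∀ (q : Ideal S) [q.IsPrime], Subsingleton (LocalizedModule q.primeCompl N) ∨ LocCoh.IsCohenMacaulayModule (Localization.AtPrime q) (LocalizedModule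 q.primeCompl N))) : Module.supportDim T P = ((r + s - 1 : ℕ) : WithBot ℕ∞) ∨ Subsingleton P := by
  rcases subsingleton_or_nontrivial P with hPs | hPn
  · exact Or.inr hPs
  left
  have : IsNoetherianRing R := Algebra.FiniteType.isNoetherianRing k R
  have : IsNoetherianRing S := Algebra.FiniteType.isNoetherianRing k S
  obtain ⟨r, rfl⟩ : ∃ r', r = r' + 1 := ⟨r - 1, by omega⟩
  obtain ⟨s, rfl⟩ : ∃ s', s = s' + 1 := ⟨s - 1, by omega⟩
  have := K962.Pieces.gradedSMul hT (K962.Pieces.isSegreMod_kp (𝒜 := 𝒜) (ℬ := ℬ) hP)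
  have hP' : GrSeg.IsSegreMod ψ (K962.Pieces.kp 𝒜 ℳ) (K962.Pieces.kp ℬ 𝒩) (K962.Pieces.kp 𝒯 𝒬) φ :=
    ⟨hP.injective, hP.image_piece, hP.map_smul⟩
  -- a common degree
  obtain ⟨d, m, hm, n, hn, hm0, hn0⟩ : ∃ (d : ℤ) (m : M) (_ : m ∈ ℳ d) (n : N) (_ : n ∈ 𝒩 d), m ≠ 0 ∧ n ≠ 0 := by
    by_contra hcon
    push Not at hcon
    obtain ⟨p, hp⟩ := exists_ne (0 : P)
    refine hp ?_
    clear hp
    induction p using DirectSum.Decomposition.inductionOn 𝒬 with
    | zero => rfl
    | homogeneous p =>
      rename_i i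
      have h1 := K962.Pieces.phi_mem (n := i) hP' p.2
      apply hP.injective
      rw [map_zero]
      refine Submodule.span_induction (p := fun w _ => w = 0) ?_ rfl ?_ ?_ h1
      · rintro _ ⟨a, ha, b, hb, rfl⟩
        by_cases ha0 : a = 0
        · rw [ha0, TensorProduct.zero_tmul]
        · rw [hcon i a ha b hb ha0, TensorProduct.tmul_zero]
      · rintro _ _ - - rfl rfl
        exact add_zero _
      · rintro c _ - rfl
        exact smul_zero c
    | add a b ha hb => rw [ha, hb, add_zero]
  obtain ⟨D₁, hD₁, hx⟩ := K961.SegDim2.exists_params 𝒜 (K962.Pieces.kp 𝒜 ℳ) hposR h0R (r + 1) hdM.le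
  obtain ⟨D₂, hD₂, hy⟩ := K961.SegDim2.exists_params ℬ (K962.Pieces.kp ℬ 𝒩) hposS h0S (s + 1) hdN.le
  obtain ⟨x, hx, hxr⟩ := hx D₂ hD₂
  obtain ⟨y, hy, hyr⟩ := hy D₁ hD₁
  rw [mul_comm] at hy
  have hD : (0 : ℤ) < ((D₂ * D₁ : ℕ) : ℤ) := by exact_mod_cast Nat.mul_pos hD₂ hD₁
  have h := K961.SegDim2.supportDim_eq hT hP' hposR h0R hposS h0S hD x hx hxr y hy hyr (d := d)
    (m := m) hm (K961.CM.eq_zero_of_smul_eq_zero x hposR h0R (K962.Pieces.kp 𝒜 ℳ) hdM hMcm hD hx hxr hm0)
    (n := n) hn (K961.CM.eq_zero_of_smul_eq_zero y hposS h0S (K962.Pieces.kp ℬ 𝒩) hdN hNcm hD hy hyr hn0)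
  rw [h, show r + 1 + (s + 1) - 1 = r + s + 1 by omega]

end Groth.Agent.S19754
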