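import Groth.Statements.S19755
import Groth.Agent.GrSegre.K963.Crit
import Groth.Agent.S19754

set_option autoImplicit false
universe u
open scoped TensorProduct
open GrSegre

namespace Groth.Agent.S19755

/-- Let R and S be graded rings defined over a field k with m = R_+, n = S_+ and T = R # S, let M be a
finitely generated graded Cohen–Macaulay R-module of dimension r ≥ 2 and N a finitely generated
graded Cohen–Macaulay S-module of dimension s ≥ 2, and assume M # N ≠ 0. Then M # N is a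
Cohen–Macaulay T-module if and only if M # H^s_n(N) = 0 and H^r_m(M) # N = 0, that is, for every
degree d, M_d = 0 or H^s_n(N)_d = 0, and H^r_m(M)_d = 0 or N_d = 0. The letters r and s stand here
for the dimensions of the modules M and N themselves and are not assumed to equal dim R and dim S.
Here a graded ring defined over k is a commutative k-algebra of finite type, graded in nonnegative
degrees by k-subspaces with degree-zero part k·1; the Segre product T = R # S = ⊕_n R_n ⊗_k S_n is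
presented abstractly as a graded k-algebra T with an injective k-algebra homomorphism ψ : T → R ⊗_k
S carrying T_n onto the k-span of the elementary tensors a ⊗ b with a ∈ R_n, b ∈ S_n; the Segre
product M # N = ⊕_n M_n ⊗_k N_n of a graded R-module M and a graded S-module N is presented
abstractly as a graded T-module P with an injective k-linear map φ : P → M ⊗_k N carrying P_n onto
the k-span of the tensors x ⊗ y with x ∈ M_n, y ∈ N_n and turning the action of t ∈ T into that of
ψ(t) (acting factorwise on M ⊗_k N); a module over a ring is called Cohen–Macaulay when each of its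
localizations at a prime ideal is zero or a Cohen–Macaulay module over the local ring (dimension of
the support equal to the depth), and the dimension of a module is the Krull dimension of its
support; the graded local cohomology pieces are computed from *injective resolutions of M and N in
the graded categories. -/
theorem result (k : Type u) [Field k] (R : Type u) [CommRing R] [Algebra k R] (𝒜 : ℤ → Submodule k R) [GradedAlgebra 𝒜] (hposR : ∀ n : ℤ, n < 0 → 𝒜 n = ⊥) (h0R : 𝒜 0 = Submodule.span k {(1 : R)}) [Algebra.FiniteType k R] (S : Type u) [CommRing S] [Algebra k S] (ℬ : ℤ → Submodule k S) [GradedAlgebra ℬ] (hposS : ∀ n : ℤ, n < 0 → ℬ n = ⊥) (h0S : ℬ 0 = Submodule.span k {(1 : S)}) [Algebra.FiniteType k S] (T : Type u) [CommRing T] [Algebra k T] (𝒯 : ℤ → Submodule k T) [GradedAlgebra 𝒯] (ψ : T →ₐ[k] TensorProduct k R S) (hT : GrSeg.IsSegreRing 𝒜 ℬ 𝒯 ψ) (mR : HomogeneousIdeal 𝒜) (hmR : mR.toIdeal = Ideal.span (⋃ n ∈ Set.Ioi (0 : ℤ), (𝒜 n : Set R))) (mS : HomogeneousIdeal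 ℬ) (hmS : mS.toIdeal = Ideal.span (⋃ n ∈ Set.Ioi (0 : ℤ), (ℬ n : Set S))) (M : Type u) [AddCommGroup M] [Module R M] [Module k M] [IsScalarTower k R M] (ℳ : ℤ → AddSubgroup M) [DirectSum.Decomposition ℳ] [SetLike.GradedSMul 𝒜 ℳ] [Module.Finite R M] (EM : GrLC.StarInjRes 𝒜 ℳ) (N : Type u) [AddCommGroup N] [Module S N] [Module k N] [IsScalarTower k S N] (𝒩 : ℤ → AddSubgroup N) [DirectSum.Decomposition 𝒩] [SetLike.GradedSMul ℬ 𝒩] [Module.Finite S N] (EN : GrLC.StarInjRes ℬ 𝒩) (P : Type u) [AddCommGroup P] [Module T P] [Module k P] [IsScalarTower k T P] (𝒬 : ℤ → AddSubgroup P) [DirectSum.Decomposition 𝒬] (φ : P →ₗ[k] TensorProduct k M N) (hP : GrSeg.IsSegreMod ψ ℳ 𝒩 𝒬 φ) [Nontrivial P] (r s : ℕ) (h2r : 2 ≤ r) (h2s : 2 ≤ s) (hdM : Module.supportDim R M = r) (hdN : Module.supportDim S N = s) (hMcm : (∀ (q : Ideal R) [q.IsPrime], Subsingleton (LocalizedModule q.primeCompl M) ∨ LocCoh.IsCohenMacaulayModule (Localization.AtPrime q) (LocalizedModule q.primeCompl M))) (hNcm :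 (∀ (q : Ideal S) [q.IsPrime], Subsingleton (LocalizedModule q.primeCompl N) ∨ LocCoh.IsCohenMacaulayModule (Localization.AtPrime q) (LocalizedModule q.primeCompl N))) : (∀ (q : Ideal T) [q.IsPrime], Subsingleton (LocalizedModule q.primeCompl P) ∨ LocCoh.IsCohenMacaulayModule (Localization.AtPrime q) (LocalizedModule q.primeCompl P)) ↔ (∀ d : ℤ, ℳ d = ⊥ ∨ EN.Hcomp mS s d = ⊥) ∧ (∀ d : ℤ, EM.Hcomp mR r d = ⊥ ∨ 𝒩 d = ⊥) := by
  have hNR : IsNoetherianRing R := Algebra.FiniteType.isNoetherianRing k R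
  have hNS : IsNoetherianRing S := Algebra.FiniteType.isNoetherianRing k S
  have hP' : GrSeg.IsSegreMod ψ (K962.Pieces.kp 𝒜 ℳ) (K962.Pieces.kp ℬ 𝒩) 𝒬 φ :=
    K962.Pieces.isSegreMod_kp (𝒜 := 𝒜) (ℬ := ℬ) hP
  have : SetLike.GradedSMul 𝒯 𝒬 := K962.Pieces.gradedSMul hT hP'
  have : IsNoetherian T P := K962.Pieces.isNoetherian_segreMod hT hP'
  have : IsNoetherianRing T := K962.Pieces.isNoetherianRing_segreRing hT
  have : Algebra.FiniteType k T := K961.SegDim2.finiteType_segreRing hT hposR h0R hposS h0S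
  obtain ⟨EP⟩ := K963.Iface.nonempty_res 𝒯 𝒬
  let mT : HomogeneousIdeal 𝒯 := ⟨K961.Irr.irr 𝒯, K961.Irr.isHomogeneous_irr 𝒯⟩
  have hmT : mT.toIdeal = Ideal.span (⋃ n ∈ Set.Ioi (0 : ℤ), (𝒯 n : Set T)) := rfl
  have hdP : Module.supportDim T P = ((r + s - 1 : ℕ) : WithBot ℕ∞) :=
    (Groth.Agent.S19754.result k R 𝒜 hposR h0R S ℬ hposS h0S T 𝒯 ψ hT M ℳ N 𝒩 P 𝒬 φ hP r s (by omega) (by omega)
      hdM hdN hMcm hNcm).resolve_right (not_subsingleton P)
  obtain ⟨A, B, ε, η, hA, hB, z0, z1, zk⟩ := K963.Low.kunneth0 hT hmR hmS hmT hP EM EN EP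
  -- vanishing on the sides
  have hMl : ∀ i < r, Subsingleton (EM.H mR i) := fun i hi =>
    K963.Iface.subsingleton_of_Hcomp_eq_bot EM mR i
      ((K961.CMH.cm_iff_Hcomp hposR h0R hdM mR hmR EM).1 hMcm i hi)
  have hNl : ∀ i < s, Subsingleton (EN.H mS i) := fun i hi =>
    K963.Iface.subsingleton_of_Hcomp_eq_bot EN mS i
      ((K961.CMH.cm_iff_Hcomp hposS h0S hdN mS hmS EN).1 hNcm i hi)
  have hM : ∀ i, i ≠ r → Subsingleton (EM.H mR i) := fun i hi => by
    rcases Nat.lt_or_ge i r with h | h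
    · exact hMl i h
    · exact K963.Crit.subsingleton_of_supportDim_lt hposR h0R hdM.le mR hmR EM (lt_of_le_of_ne h (Ne.symm hi))
  have hN : ∀ i, i ≠ s → Subsingleton (EN.H mS i) := fun i hi => by
    rcases Nat.lt_or_ge i s with h | h
    · exact hNl i h
    · exact K963.Crit.subsingleton_of_supportDim_lt hposS h0S hdN.le mS hmS EN (lt_of_le_of_ne h (Ne.symm hi))
  have hA0 := K963.Crit.kg_zero_eq_bot_iff hA (hM 0 (by omega)) (hM 1 (by omega))
  have hB0 := K963.Crit.kg_zero_eq_bot_iff hB (hN 0 (by omega)) (hN 1 (by omega))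
  have hbM : ∀ d, ℳ d = ⊥ ↔ ∀ m ∈ ℳ d, m = 0 := fun d => AddSubgroup.eq_bot_iff_forall _
  have hbN : ∀ d, 𝒩 d = ⊥ ↔ ∀ m ∈ 𝒩 d, m = 0 := fun d => AddSubgroup.eq_bot_iff_forall _
  rw [K961.CMH.cm_iff_Hcomp (K961.SegDim.hposT hT hposR) (K961.SegDim.h0T hT h0R h0S) hdP mT hmT EP]
  have hkey := fun n g => K963.Crit.Hcomp_eq_bot_iff (g := g) (zk n)
  constructor
  · intro h
    constructor
    · intro d
      obtain ⟨s', rfl⟩ : ∃ s', s = s' + 2 := ⟨s - 2, by omega⟩
      have h1 := (hkey s' d).1 (h (s' + 2) (by omega) d) 0 (s' + 1) (by omega)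
      rw [hA0, ← hbM, K963.Crit.kg_succ_eq_bot_iff hB] at h1
      exact h1
    · intro d
      obtain ⟨r', rfl⟩ : ∃ r', r = r' + 2 := ⟨r - 2, by omega⟩
      have h1 := (hkey r' d).1 (h (r' + 2) (by omega) d) (r' + 1) 0 (by omega)
      rw [hB0, ← hbN, K963.Crit.kg_succ_eq_bot_iff hA] at h1
      exact h1
  · rintro ⟨h1, h2⟩ i hi d
    match i, hi with
    | 0, _ =>
      exact K963.Iface.Hcomp_eq_bot_of_subsingleton EP mT 0
        (K963.Crit.subsingleton_zero hP.injective z0 (K963.Crit.ε_injective hA (hM 0 (by omega)))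
          (K963.Crit.ε_injective hB (hN 0 (by omega)))) d
    | 1, _ =>
      refine K963.Crit.Hcomp_one_of hP z1 fun x hx y hy _ _ => ?_
      obtain ⟨m, hm, hmx⟩ := (K963.Crit.Hcomp_one_eq_bot_iff hA d).1
        (K963.Iface.Hcomp_eq_bot_of_subsingleton EM mR 1 (hM 1 (by omega)) d) x hx
      obtain ⟨n, hn, hny⟩ := (K963.Crit.Hcomp_one_eq_bot_iff hB d).1
        (K963.Iface.Hcomp_eq_bot_of_subsingleton EN mS 1 (hN 1 (by omega)) d) y hy
      exact ⟨m, hm, n, hn, hmx, hny⟩
    | n + 2, hi =>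
      rw [hkey]
      intro p q hpq
      match p, q, hpq with
      | 0, 0, hpq => omega
      | 0, q + 1, hpq =>
        by_cases hq : q + 2 = s
        · subst hq
          rw [hA0, ← hbM, K963.Crit.kg_succ_eq_bot_iff hB]
          exact h1 d
        · exact Or.inr (K963.Crit.kg_succ_eq_bot hB q d (hN _ hq))
      | p + 1, 0, hpq =>
        by_cases hp : p + 2 = r
        · subst hp
          rw [hB0, ← hbN, K963.Crit.kg_succ_eq_bot_iff hA]
          exact h2 d
        · exact Or.inl (K963.Crit.kg_succ_eq_bot hA p d (hM _ hp))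
      | p + 1, q + 1, hpq =>
        by_cases hq : q + 2 = s
        · exact Or.inl (K963.Crit.kg_succ_eq_bot hA p d (hM _ (by omega)))
        · exact Or.inr (K963.Crit.kg_succ_eq_bot hB q d (hN _ hq))

end Groth.Agent.S19755
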