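import Groth.Statements.S19756
import Groth.Agent.GrSegre.K963.Crit
import Groth.Agent.S19754

set_option autoImplicit false
universe u
open scoped TensorProduct
open GrSegre

namespace Groth.Agent.S19756

/-- Let R and S be graded rings defined over a field k with m = R_+ and T = R # S, let M be a finitely
generated graded Cohen–Macaulay R-module of dimension 1 and N a finitely generated graded
Cohen–Macaulay S-module of dimension s ≥ 1, and assume M # N ≠ 0. (ii) If s ≥ 2, then M # N is a
Cohen–Macaulay T-module if and only if H^1_m(M) # N = 0, that is, for every degree d, H^1_m(M)_d = 0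
or N_d = 0. (iii) If s = 1, then M # N is a Cohen–Macaulay T-module. The numbers 1 and s are here
the dimensions of the modules M and N themselves and are not assumed to equal dim R and dim S. Here
a graded ring defined over k is a commutative k-algebra of finite type, graded in nonnegative
degrees by k-subspaces with degree-zero part k·1; the Segre product T = R # S = ⊕_n R_n ⊗_k S_n is
presented abstractly as a graded k-algebra T with an injective k-algebra homomorphism ψ : T → R ⊗_k
S carrying T_n onto the k-span of the elementary tensors a ⊗ b with a ∈ R_n, b ∈ S_n; the Segre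
product M # N = ⊕_n M_n ⊗_k N_n of a graded R-module M and a graded S-module N is presented
abstractly as a graded T-module P with an injective k-linear map φ : P → M ⊗_k N carrying P_n onto
the k-span of the tensors x ⊗ y with x ∈ M_n, y ∈ N_n and turning the action of t ∈ T into that of
ψ(t) (acting factorwise on M ⊗_k N); a module over a ring is called Cohen–Macaulay when each of its
localizations at a prime ideal is zero or a Cohen–Macaulay module over the local ring (dimension of
the support equal to the depth), and the dimension of a module is the Krull dimension of its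
support; the graded local cohomology pieces are computed from a *injective resolution of M in the
graded category. -/
theorem result (k : Type u) [Field k] (R : Type u) [CommRing R] [Algebra k R] (𝒜 : ℤ → Submodule k R) [GradedAlgebra 𝒜] (hposR : ∀ n : ℤ, n < 0 → 𝒜 n = ⊥) (h0R : 𝒜 0 = Submodule.span k {(1 : R)}) [Algebra.FiniteType k R] (S : Type u) [CommRing S] [Algebra k S] (ℬ : ℤ → Submodule k S) [GradedAlgebra ℬ] (hposS : ∀ n : ℤ, n < 0 → ℬ n = ⊥) (h0S : ℬ 0 = Submodule.span k {(1 : S)}) [Algebra.FiniteType k S] (T : Type u) [CommRing T] [Algebra k T] (𝒯 : ℤ → Submodule k T) [GradedAlgebra 𝒯] (ψ : T →ₐ[k] TensorProduct k R S) (hT : GrSeg.IsSegreRing 𝒜 ℬ 𝒯 ψ) (mR : HomogeneousIdeal 𝒜) (hmR : mR.toIdeal = Ideal.span (⋃ n ∈ Set.Ioi (0 : ℤ), (𝒜 n : Set R))) (M : Type u) [AddCommGroup M] [Module R M] [Module k M] [IsScalarTower k R M] (ℳ : ℤ → AddSubgroup M) [DirectSum.Decomposition ℳ] [SetLike.GradedSMul 𝒜 ℳ] [Module.Finite R M] (EM : GrLC.StarInjRes 𝒜 ℳ) (N : Type u) [AddCommGroup N] [Module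 S N] [Module k N] [IsScalarTower k S N] (𝒩 : ℤ → AddSubgroup N) [DirectSum.Decomposition 𝒩] [SetLike.GradedSMul ℬ 𝒩] [Module.Finite S N] (P : Type u) [AddCommGroup P] [Module T P] [Module k P] [IsScalarTower k T P] (𝒬 : ℤ → AddSubgroup P) [DirectSum.Decomposition 𝒬] (φ : P →ₗ[k] TensorProduct k M N) (hP : GrSeg.IsSegreMod ψ ℳ 𝒩 𝒬 φ) [Nontrivial P] (s : ℕ) (h1s : 1 ≤ s) (hdM : Module.supportDim R M = 1) (hdN : Module.supportDim S N = s) (hMcm : (∀ (q : Ideal R) [q.IsPrime], Subsingleton (LocalizedModule q.primeCompl M) ∨ LocCoh.IsCohenMacaulayModule (Localization.AtPrime q) (LocalizedModule q.primeCompl M))) (hNcm : (∀ (q : Ideal S) [q.IsPrime], Subsingleton (LocalizedModule q.primeCompl N) ∨ LocCoh.IsCohenMacaulayModule (Localization.AtPrime q) (LocalizedModule q.primeCompl N))) : (2 ≤ s → ((∀ (q : Ideal T) [q.IsPrime], Subsingleton (LocalizedModule q.primeCompl P) ∨ LocCoh.IsCohenMacaulayModule (Localization.AtPrime q) (LocalizedModule q.primeCompl P)) ↔ ∀ d : ℤ, EM.Hcomp mR 1 d = ⊥ ∨ 𝒩 d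 = ⊥)) ∧ (s = 1 → (∀ (q : Ideal T) [q.IsPrime], Subsingleton (LocalizedModule q.primeCompl P) ∨ LocCoh.IsCohenMacaulayModule (Localization.AtPrime q) (LocalizedModule q.primeCompl P))) := by
  have hNR : IsNoetherianRing R := Algebra.FiniteType.isNoetherianRing k R
  have hNS : IsNoetherianRing S := Algebra.FiniteType.isNoetherianRing k S
  have hP' : GrSeg.IsSegreMod ψ (K962.Pieces.kp 𝒜 ℳ) (K962.Pieces.kp ℬ 𝒩) 𝒬 φ :=
    K962.Pieces.isSegreMod_kp (𝒜 := 𝒜) (ℬ := ℬ) hP
  have : SetLike.GradedSMul 𝒯 𝒬 := K962.Pieces.gradedSMul hT hP'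
  have : IsNoetherian T P := K962.Pieces.isNoetherian_segreMod hT hP'
  have : IsNoetherianRing T := K962.Pieces.isNoetherianRing_segreRing hT
  have : Algebra.FiniteType k T := K961.SegDim2.finiteType_segreRing hT hposR h0R hposS h0S
  obtain ⟨EP⟩ := K963.Iface.nonempty_res 𝒯 𝒬
  obtain ⟨EN⟩ := K963.Iface.nonempty_res ℬ 𝒩
  let mS : HomogeneousIdeal ℬ := ⟨K961.Irr.irr ℬ, K961.Irr.isHomogeneous_irr ℬ⟩
  have hmS : mS.toIdeal = Ideal.span (⋃ n ∈ Set.Ioi (0 : ℤ), (ℬ n : Set S)) := rfl
  let mT : HomogeneousIdeal 𝒯 := ⟨K961.Irr.irr 𝒯, K961.Irr.isHomogeneous_irr 𝒯⟩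
  have hmT : mT.toIdeal = Ideal.span (⋃ n ∈ Set.Ioi (0 : ℤ), (𝒯 n : Set T)) := rfl
  have hdP : Module.supportDim T P = ((s : ℕ) : WithBot ℕ∞) := by
    have := (Groth.Agent.S19754.result k R 𝒜 hposR h0R S ℬ hposS h0S T 𝒯 ψ hT M ℳ N 𝒩 P 𝒬 φ hP 1 s le_rfl h1s
      (by exact_mod_cast hdM) hdN hMcm hNcm).resolve_right (not_subsingleton P)
    rwa [Nat.add_sub_cancel_left] at this
  obtain ⟨A, B, ε, η, hA, hB, z0, z1, zk⟩ := K963.Low.kunneth0 hT hmR hmS hmT hP EM EN EP
  -- vanishing on the sides
  have hdM' : Module.supportDim R M = ((1 : ℕ) : WithBot ℕ∞) := by exact_mod_cast hdM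
  have hMl : ∀ i < 1, Subsingleton (EM.H mR i) := fun i hi =>
    K963.Iface.subsingleton_of_Hcomp_eq_bot EM mR i
      ((K961.CMH.cm_iff_Hcomp hposR h0R hdM' mR hmR EM).1 hMcm i hi)
  have hNl : ∀ i < s, Subsingleton (EN.H mS i) := fun i hi =>
    K963.Iface.subsingleton_of_Hcomp_eq_bot EN mS i
      ((K961.CMH.cm_iff_Hcomp hposS h0S hdN mS hmS EN).1 hNcm i hi)
  have hM : ∀ i, i ≠ 1 → Subsingleton (EM.H mR i) := fun i hi => by
    rcases Nat.lt_or_ge i 1 with h | h
    · exact hMl i h
    · exact K963.Crit.subsingleton_of_supportDim_lt hposR h0R hdM'.le mR hmR EM (lt_of_le_of_ne h (Ne.symm hi))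
  have hN : ∀ i, i ≠ s → Subsingleton (EN.H mS i) := fun i hi => by
    rcases Nat.lt_or_ge i s with h | h
    · exact hNl i h
    · exact K963.Crit.subsingleton_of_supportDim_lt hposS h0S hdN.le mS hmS EN (lt_of_le_of_ne h (Ne.symm hi))
  have hbN : ∀ d, 𝒩 d = ⊥ ↔ ∀ m ∈ 𝒩 d, m = 0 := fun d => AddSubgroup.eq_bot_iff_forall _
  rw [K961.CMH.cm_iff_Hcomp (K961.SegDim.hposT hT hposR) (K961.SegDim.h0T hT h0R h0S) hdP mT hmT EP]
  have hkey := fun n g => K963.Crit.Hcomp_eq_bot_iff (g := g) (zk n)
  have hH0 : Subsingleton (EP.H mT 0) := K963.Crit.subsingleton_zero hP.injective z0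
    (K963.Crit.ε_injective hA (hM 0 (by omega))) (K963.Crit.ε_injective hB (hN 0 (by omega)))
  constructor
  · intro h2s
    have hB0 := K963.Crit.kg_zero_eq_bot_iff hB (hN 0 (by omega)) (hN 1 (by omega))
    have hηi := K963.Crit.ε_injective hB (hN 0 (by omega))
    constructor
    · intro h d
      have h1 := (z1 d).1 (h 1 (by omega) d)
      by_contra hcon
      push Not at hcon
      obtain ⟨hc1, hc2⟩ := hcon
      rw [Ne, hbN] at hc2
      push Not at hc2
      obtain ⟨n, hn, hn0⟩ := hc2
      refine hc1 ((K963.Crit.Hcomp_one_eq_bot_iff hA d).2 fun x hx => ?_)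
      obtain ⟨w, hw⟩ := h1 (x ⊗ₜ η n) (Submodule.subset_span ⟨x, hx, η n, hB.gr d n hn, rfl⟩)
      have h3 : (LinearMap.range (ε.restrictScalars k)).mkQ x ⊗ₜ[k] η n = 0 := by
        have h4 : ∀ u : M ⊗[k] N, TensorProduct.map (LinearMap.range (ε.restrictScalars k)).mkQ LinearMap.id
            (TensorProduct.map (ε.restrictScalars k) (η.restrictScalars k) u) = 0 := by
          intro u
          induction u using TensorProduct.induction_on with
          | zero => simp
          | add x y hx hy => rw [map_add, map_add, hx, hy, add_zero]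
          | tmul x y =>
            rw [TensorProduct.map_tmul, TensorProduct.map_tmul, Submodule.mkQ_apply,
              (Submodule.Quotient.mk_eq_zero (LinearMap.range (ε.restrictScalars k))).2 ⟨x, rfl⟩,
              TensorProduct.zero_tmul]
        have h5 := h4 (φ w)
        rw [hw] at h5
        exact h5
      have h6 : (LinearMap.range (ε.restrictScalars k)).mkQ x = 0 := by
        by_contra hx0
        exact K962.Dims.tmul_ne_zero hx0 (fun h0 => hn0 (hηi (h0.trans (map_zero η).symm))) h3
      obtain ⟨m, hm⟩ := (Submodule.Quotient.mk_eq_zero (LinearMap.range (ε.restrictScalars k))).1 h6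
      refine ⟨K963.Dec.proj ℳ d m, K963.Dec.proj_mem ℳ d m, ?_⟩
      rw [K963.Dec.map_proj ℳ (A 0).gr ε hA.gr d m]
      have h7 : ε m = x := hm
      rw [h7]
      exact K963.Dec.proj_of_mem (A 0).gr hx
    · intro h i hi d
      match i, hi with
      | 0, _ => exact K963.Iface.Hcomp_eq_bot_of_subsingleton EP mT 0 hH0 d
      | 1, _ =>
        refine K963.Crit.Hcomp_one_of hP z1 fun x hx y hy _ hy0 => ?_
        obtain ⟨n, hn, hny⟩ := (K963.Crit.Hcomp_one_eq_bot_iff hB d).1
          (K963.Iface.Hcomp_eq_bot_of_subsingleton EN mS 1 (hN 1 (by omega)) d) y hy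
        rcases h d with h | h
        · obtain ⟨m, hm, hmx⟩ := (K963.Crit.Hcomp_one_eq_bot_iff hA d).1 h x hx
          exact ⟨m, hm, n, hn, hmx, hny⟩
        · exfalso
          rw [hbN] at h
          rw [h n hn, map_zero] at hny
          exact hy0 hny.symm
      | n + 2, hi =>
        rw [hkey]
        intro p q hpq
        match p, q, hpq with
        | 0, 0, hpq => omega
        | 0, q + 1, hpq => exact Or.inr (K963.Crit.kg_succ_eq_bot hB q d (hN _ (by omega)))
        | p + 1, q, hpq => exact Or.inl (K963.Crit.kg_succ_eq_bot hA p d (hM _ (by omega)))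
  · rintro rfl i hi d
    obtain rfl : i = 0 := by omega
    exact K963.Iface.Hcomp_eq_bot_of_subsingleton EP mT 0 hH0 d

end Groth.Agent.S19756
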