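import Groth.Statements.S19763
import Groth.Agent.GrSegre.K963.PolySeg

set_option autoImplicit false
universe u
open scoped TensorProduct
attribute [local instance] MvPolynomial.weightedGradedAlgebra
open GrSegre

namespace Groth.Agent.S19763

/-- Let R = k[X_1, …, X_r] and S = k[Y_1, …, Y_s] be polynomial rings over a field k with every variable
of degree 1, r ≥ 2 and s ≥ 2, T = R # S, and M = R(a), N = S(b) for integers a, b. Then (a) M # N is
a Cohen–Macaulay T-module if and only if s > a − b > −r; (b) if a − b ≥ s then depth (M # N) = s;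
(c) if a − b ≤ −r then depth (M # N) = r. Here the polynomial rings carry the standard grading by
k-subspaces of homogeneous polynomials (indexed by ℤ, all variables of weight 1); the Segre product
T = R # S = ⊕_n R_n ⊗_k S_n is presented abstractly as a graded k-algebra T with an injective
k-algebra homomorphism ψ : T → R ⊗_k S carrying T_n onto the k-span of the elementary tensors of
bidegree (n, n), T_+ is the ideal spanned by the T_n with n > 0, and R(a) # S(b) = ⊕_n R_{n+a} ⊗_k
S_{n+b} is presented abstractly as a graded T-module P with an injective k-linear map φ : P → R ⊗_k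
S carrying P_n onto the k-span of the tensors x ⊗ y with x ∈ R_{n+a}, y ∈ S_{n+b} and turning the
action of t ∈ T into that of ψ(t); a module over a ring is called Cohen–Macaulay when each of its
localizations at a prime ideal is zero or a Cohen–Macaulay module over the local ring (dimension of
the support equal to the depth), and the dimension of a module is the Krull dimension of its
support; the depth of P is its grade with respect to T_+ (the common length of the maximal P-regular
sequences in T_+). -/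
theorem result (k : Type u) [Field k] (r s : ℕ) (h2r : 2 ≤ r) (h2s : 2 ≤ s) (T : Type u) [CommRing T] [Algebra k T] (𝒯 : ℤ → Submodule k T) [GradedAlgebra 𝒯] (ψ : T →ₐ[k] TensorProduct k (MvPolynomial (Fin r) k) (MvPolynomial (Fin s) k)) (hT : GrSeg.IsSegreRing (MvPolynomial.weightedHomogeneousSubmodule k (fun _ : Fin r => (1 : ℤ))) (MvPolynomial.weightedHomogeneousSubmodule k (fun _ : Fin s => (1 : ℤ))) 𝒯 ψ) (mT : HomogeneousIdeal 𝒯) (hmT : mT.toIdeal = Ideal.span (⋃ n ∈ Set.Ioi (0 : ℤ), (𝒯 n : Set T))) (a b : ℤ) (P : Type u) [AddCommGroup P] [Module T P] [Module k P] [IsScalarTower k T P] (𝒬 : ℤ → AddSubgroup P) [DirectSum.Decomposition 𝒬] (φ : P →ₗ[k] TensorProduct k (MvPolynomial (Fin r) k) (MvPolynomial (Fin s) k)) (hP : GrSeg.IsSegreMod ψ (fun n : ℤ => (MvPolynomial.weightedHomogeneousSubmodule k (fun _ : Fin r => (1 : ℤ))) (n + a)) (fun n : ℤ => (MvPolynomial.weightedHomogeneousSubmodule k (fun _ : Fin s => (1 : ℤ))) (n + b)) 𝒬 φ) : ((∀ (q : Ideal T) [q.IsPrime], Subsingleton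 (LocalizedModule q.primeCompl P) ∨ LocCoh.IsCohenMacaulayModule (Localization.AtPrime q) (LocalizedModule q.primeCompl P)) ↔ (a - b < (s : ℤ) ∧ -(r : ℤ) < a - b)) ∧ ((s : ℤ) ≤ a - b → LocCoh.idealDepth mT.toIdeal P = (s : ℕ∞)) ∧ (a - b ≤ -(r : ℤ) → LocCoh.idealDepth mT.toIdeal P = (r : ℕ∞)) := by
  have hP : GrSeg.IsSegreMod ψ (K962.Dims.sh (K963.PolyLC.std k r) a) (K962.Dims.sh (K963.PolyLC.std k s) b) 𝒬 φ := hP
  have hr0 : 0 < r := by omega
  have hs0 : 0 < s := by omega
  have : SetLike.GradedSMul 𝒯 𝒬 := K962.Pieces.gradedSMul hT hP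
  have : IsNoetherian T P := K962.Pieces.isNoetherian_segreMod hT hP
  have : IsNoetherianRing T := K962.Pieces.isNoetherianRing_segreRing hT
  have hposR : ∀ n : ℤ, n < 0 → K963.PolyLC.std k r n = ⊥ := fun _ hn => K963.PolyLC.std_neg hn
  have hposS : ∀ n : ℤ, n < 0 → K963.PolyLC.std k s n = ⊥ := fun _ hn => K963.PolyLC.std_neg hn
  have h0R := K963.PolyLC.std_zero (k := k) (n := r)
  have h0S := K963.PolyLC.std_zero (k := k) (n := s)
  have : Algebra.FiniteType k T := K961.SegDim2.finiteType_segreRing hT hposR h0R hposS h0S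
  have : Nontrivial T := K963.PolySeg.nontrivial_T ψ
  have : Nontrivial P := K963.PolySeg.nontrivial_P hr0 hs0 hP
  have hdP := K963.PolySeg.supportDim hr0 hs0 hT hP
  obtain ⟨EM⟩ := K963.Iface.nonempty_res (K963.PolyLC.std k r) (K962.Dims.sh (K963.PolyLC.std k r) a)
  obtain ⟨EN⟩ := K963.Iface.nonempty_res (K963.PolyLC.std k s) (K962.Dims.sh (K963.PolyLC.std k s) b)
  obtain ⟨EP⟩ := K963.Iface.nonempty_res 𝒯 𝒬
  let mR : HomogeneousIdeal (K963.PolyLC.std k r) := ⟨K961.Irr.irr _, K961.Irr.isHomogeneous_irr _⟩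
  have hmR : mR.toIdeal = Ideal.span (⋃ n ∈ Set.Ioi (0 : ℤ), (K963.PolyLC.std k r n : Set _)) := rfl
  let mS : HomogeneousIdeal (K963.PolyLC.std k s) := ⟨K961.Irr.irr _, K961.Irr.isHomogeneous_irr _⟩
  have hmS : mS.toIdeal = Ideal.span (⋃ n ∈ Set.Ioi (0 : ℤ), (K963.PolyLC.std k s n : Set _)) := rfl
  obtain ⟨hM, hMr⟩ := K963.PolyLC.main a mR hmR EM
  obtain ⟨hN, hNs⟩ := K963.PolyLC.main b mS hmS EN
  have hposT := K961.SegDim.hposT hT hposR
  have h0T := K961.SegDim.h0T hT h0R h0S
  have key : ∀ (i : ℕ) (d : ℤ), EP.Hcomp mT i d = ⊥ ↔ (i = s → d + a < 0 ∨ -(s : ℤ) < d + b) ∧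
      (i = r → -(r : ℤ) < d + a ∨ d + b < 0) ∧ (i + 1 = r + s → -(r : ℤ) < d + a ∨ -(s : ℤ) < d + b) := by
    intro i d
    rw [K963.Crit2.Hcomp_iff_two hT hmR hmS hmT hP EM EN EP h2r h2s hM hN i d, hMr hr0, hNs hs0,
      K963.PolySeg.sh_iff hr0, K963.PolySeg.sh_iff hs0]
  refine ⟨?_, fun hab => ?_, fun hab => ?_⟩
  · rw [K961.CMH.cm_iff_Hcomp hposT h0T hdP mT hmT EP]
    constructor
    · intro h
      have h1 := ((key s (-a)).1 (h s (by omega) (-a))).1 rfl
      have h2 := ((key r (-b)).1 (h r (by omega) (-b))).2.1 rfl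
      omega
    · rintro ⟨h1, h2⟩ i hi d
      rw [key]
      refine ⟨fun _ => ?_, fun _ => ?_, fun _ => ?_⟩ <;> omega
  · refine K963.Crit2.idealDepth_eq hposT h0T mT hmT EP s (fun i hi => ?_) (fun h => ?_)
    · refine K963.Iface.subsingleton_of_Hcomp_eq_bot EP mT i fun d => ?_
      rw [key]
      refine ⟨fun _ => ?_, fun _ => ?_, fun _ => ?_⟩ <;> omega
    · have h1 := ((key s (-a)).1 (K963.Iface.Hcomp_eq_bot_of_subsingleton EP mT s h (-a))).1 rfl
      omega
  · refine K963.Crit2.idealDepth_eq hposT h0T mT hmT EP r (fun i hi => ?_) (fun h => ?_)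
    · refine K963.Iface.subsingleton_of_Hcomp_eq_bot EP mT i fun d => ?_
      rw [key]
      refine ⟨fun _ => ?_, fun _ => ?_, fun _ => ?_⟩ <;> omega
    · have h1 := ((key r (-b)).1 (K963.Iface.Hcomp_eq_bot_of_subsingleton EP mT r h (-b))).2.1 rfl
      omega

end Groth.Agent.S19763
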