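import Groth.Statements.S19766
import Groth.Agent.AbVar.K529.KL

set_option autoImplicit false
universe u
open CategoryTheory MonoidalCategory CartesianMonoidalCategory MonObj GrpObj AlgebraicGeometry
open AbVar

namespace Groth.Agent.S19766

/-- Let X be an abelian variety over a field k (a proper, geometrically integral k-group scheme), L an
invertible O_X-module, and i : K → X a closed immersion exhibiting K as K(L): the maximal closed
subscheme of X over which the Mumford bundle m^*L ⊗ p_1^*L⁻¹ ⊗ p_2^*L⁻¹ on X ×_k X, restricted to X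
×_k K, is the inverse image of an invertible module on K, with its universal property for morphisms
T → X. Let T be a k-scheme and x : T → X a T-valued point, t_x : X_T → X_T the translation by x and
L_T the inverse image of L on X_T = X ×_k T. Then x factors through i if and only if t_x^*L_T ⊗
L_T⁻¹ is the inverse image of a line bundle on T, stated without inverses: there is an invertible
O_T-module M with L_T ⊗ pr_T^*M ≅ t_x^*L_T. -/
theorem result (k : Type u) [Field k] (X : Over (Spec (CommRingCat.of k)))
    [GrpObj X] [IsProper X.hom] [GeometricallyIntegral X.hom] (L : X.left.Modules) (hL : PicF.IsInvertible L)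
    (K : Over (Spec (CommRingCat.of k))) (i : K ⟶ X) (hK : ThetaGrp.IsKL X L i)
    (T : Over (Spec (CommRingCat.of k))) (x : T ⟶ X) :
    (∃ y : T ⟶ K, y ≫ i = x) ↔ ∃ M : T.left.Modules, PicF.IsInvertible M ∧
      Nonempty (CohB1.tensorMod ((Scheme.Modules.pullback (fst X T).left).obj L)
          ((Scheme.Modules.pullback (snd X T).left).obj M) ≅
        (Scheme.Modules.pullback (ThetaGrp.transl X x ≫ fst X T).left).obj L) := by
  rw [K529.KL.exists_factor_iff hL hK]
  have htr : ThetaGrp.transl X x ≫ fst X T = fst X T * (snd X T ≫ x) := ThetaGrp.transl_fst _ _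
  have hLT := Groth.Agent.Fdesc.LocGen.isInvertible_pullback (fst X T).left hL
  constructor
  · intro h
    refine ⟨(Scheme.Modules.pullback x.left).obj L,
      Groth.Agent.Fdesc.LocGen.isInvertible_pullback x.left hL, ?_⟩
    rw [← Groth.Agent.Grpsch.PicGrp.mk_eq_iff
      (Groth.Agent.Fdesc.LocGen.isInvertible_tensorMod hLT
        (Groth.Agent.Fdesc.LocGen.isInvertible_pullback _
          (Groth.Agent.Fdesc.LocGen.isInvertible_pullback x.left hL)))
      (Groth.Agent.Fdesc.LocGen.isInvertible_pullback _ hL), htr]
    rw [K529.KL.pl_comp] at h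
    exact h.symm
  · rintro ⟨M, hM, h⟩
    have hMT := Groth.Agent.Fdesc.LocGen.isInvertible_pullback (snd X T).left hM
    rw [← Groth.Agent.Grpsch.PicGrp.mk_eq_iff
      (Groth.Agent.Fdesc.LocGen.isInvertible_tensorMod hLT hMT)
      (Groth.Agent.Fdesc.LocGen.isInvertible_pullback _ hL), htr] at h
    change K529.KL.pl (fst X T) (Groth.Agent.Grpsch.PicGrp.mk L hL) *
      K529.KL.pl (snd X T) (Groth.Agent.Grpsch.PicGrp.mk M hM) =
      K529.KL.pl (fst X T * (snd X T ≫ x)) (Groth.Agent.Grpsch.PicGrp.mk L hL) at h
    have h1 := congrArg (K529.KL.pl (K529.KL.es X T)) h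
    rw [map_mul, K529.KL.pl_es_fst, K529.KL.pl_es_snd, _root_.one_mul, K529.KL.pl_es_mul] at h1
    rw [← h, h1, ← K529.KL.pl_comp]

end Groth.Agent.S19766
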