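import Groth.Statements.S19767
import Groth.Agent.AbVar.K529.KL

set_option autoImplicit false
universe u
open CategoryTheory MonoidalCategory CartesianMonoidalCategory MonObj GrpObj AlgebraicGeometry
open AbVar

namespace Groth.Agent.S19767

/-- Let X be an abelian variety over a field k (a proper, geometrically integral k-group scheme), L an
invertible O_X-module, T a k-scheme, x : T → X a T-valued point with translation t_x : X_T → X_T,
and L_T the inverse image of L on X_T = X ×_k T. If an O_T-module M satisfies L_T ⊗ pr_T^*M ≅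
t_x^*L_T (that is, t_x^*L_T ⊗ L_T⁻¹ ≅ pr_T^*M), then M ≅ x^*L (existence of an isomorphism). (The
published statement takes M invertible; invertibility is not needed.) -/
theorem result (k : Type u) [Field k] (X : Over (Spec (CommRingCat.of k)))
    [GrpObj X] [IsProper X.hom] [GeometricallyIntegral X.hom] (L : X.left.Modules) (hL : PicF.IsInvertible L)
    (T : Over (Spec (CommRingCat.of k))) (x : T ⟶ X) (M : T.left.Modules)
    (h : Nonempty (CohB1.tensorMod ((Scheme.Modules.pullback (fst X T).left).obj L)
          ((Scheme.Modules.pullback (snd X T).left).obj M) ≅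
        (Scheme.Modules.pullback (ThetaGrp.transl X x ≫ fst X T).left).obj L)) :
    Nonempty (M ≅ (Scheme.Modules.pullback x.left).obj L) := by
  obtain ⟨e⟩ := h
  have hN := Groth.Agent.Fdesc.LocGen.isInvertible_pullback (ThetaGrp.transl X x ≫ fst X T).left hL
  have hM : PicF.IsInvertible M := K529.KL.isInvertible_of_tensor hL M hN e
  have htr : ThetaGrp.transl X x ≫ fst X T = fst X T * (snd X T ≫ x) := ThetaGrp.transl_fst _ _
  have hLT := Groth.Agent.Fdesc.LocGen.isInvertible_pullback (fst X T).left hL
  have hMT := Groth.Agent.Fdesc.LocGen.isInvertible_pullback (snd X T).left hM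
  have h : K529.KL.pl (fst X T) (Groth.Agent.Grpsch.PicGrp.mk L hL) *
      K529.KL.pl (snd X T) (Groth.Agent.Grpsch.PicGrp.mk M hM) =
      K529.KL.pl (fst X T * (snd X T ≫ x)) (Groth.Agent.Grpsch.PicGrp.mk L hL) := by
    rw [← htr]
    exact Groth.Agent.Grpsch.PicGrp.mk_congr e
  have h1 := congrArg (K529.KL.pl (K529.KL.es X T)) h
  rw [map_mul, K529.KL.pl_es_fst, K529.KL.pl_es_snd, _root_.one_mul, K529.KL.pl_es_mul] at h1
  exact (Groth.Agent.Grpsch.PicGrp.mk_eq_iff hM
    (Groth.Agent.Fdesc.LocGen.isInvertible_pullback x.left hL)).mp h1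

end Groth.Agent.S19767
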