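import Groth.Statements.S19769
import Groth.Agent.AbVar.K529.KL

set_option autoImplicit false
universe u
open CategoryTheory MonoidalCategory CartesianMonoidalCategory MonObj GrpObj AlgebraicGeometry
open AbVar

namespace Groth.Agent.S19769

/-- Let X be an abelian variety over a field k (a proper, geometrically integral k-group scheme), L an
invertible O_X-module, and i : K → X a closed immersion exhibiting K as K(L) (the maximal closed
subscheme over which the Mumford bundle m^*L ⊗ p_1^*L⁻¹ ⊗ p_2^*L⁻¹, restricted to X ×_k K, is the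
inverse image of an invertible module on K, with its universal property). Then K is a subgroup
scheme of X: for every k-scheme T, the set of T-valued points of X that factor through i is closed
under the group law of X(T), contains the unit, and is closed under inversion. -/
theorem result (k : Type u) [Field k] (X : Over (Spec (CommRingCat.of k)))
    [GrpObj X] [IsProper X.hom] [GeometricallyIntegral X.hom] (L : X.left.Modules) (hL : PicF.IsInvertible L)
    (K : Over (Spec (CommRingCat.of k))) (i : K ⟶ X) (hK : ThetaGrp.IsKL X L i)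
    (T : Over (Spec (CommRingCat.of k))) :
    (∀ y₁ y₂ : T ⟶ K, ∃ y : T ⟶ K, y ≫ i = (y₁ ≫ i) * (y₂ ≫ i)) ∧
      (∃ y : T ⟶ K, y ≫ i = 1) ∧
      (∀ y₁ : T ⟶ K, ∃ y : T ⟶ K, y ≫ i = (y₁ ≫ i)⁻¹) := by
  refine ⟨fun y₁ y₂ => ?_, ?_, fun y₁ => ?_⟩
  · rw [K529.KL.exists_factor_iff hL hK, MonObj.comp_mul, ← _root_.mul_assoc]
    have h1 := K529.KL.pl_mul_of_mem hL hK (snd X T ≫ y₂) (fst X T * (snd X T ≫ y₁ ≫ i))
    have h2 := K529.KL.pl_mul_of_mem hL hK (snd X T ≫ y₁) (fst X T)
    have h3 := K529.KL.pl_mul_of_mem hL hK (snd X T ≫ y₂) (snd X T ≫ y₁ ≫ i)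
    simp only [Category.assoc] at h1 h2 h3
    rw [h1, h2, h3, _root_.mul_assoc]
  · rw [K529.KL.exists_factor_iff hL hK, MonObj.comp_one, K529.KL.pl_one, _root_.mul_one,
      _root_.mul_one]
  · rw [K529.KL.exists_factor_iff hL hK]
    have h0 : snd X T ≫ (y₁ ≫ i)⁻¹ = (snd X T ≫ y₁ ≫ i)⁻¹ := GrpObj.comp_inv _ _
    have h1 := K529.KL.pl_mul_of_mem hL hK (snd X T ≫ y₁) (fst X T * (snd X T ≫ y₁ ≫ i)⁻¹)
    have h2 := K529.KL.pl_mul_of_mem hL hK (snd X T ≫ y₁) ((snd X T ≫ y₁ ≫ i)⁻¹)
    simp only [Category.assoc] at h1 h2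
    rw [_root_.mul_assoc, inv_mul_cancel, _root_.mul_one] at h1
    rw [inv_mul_cancel, K529.KL.pl_one] at h2
    rw [h0]
    generalize K529.KL.pl (fst X T) (Groth.Agent.Grpsch.PicGrp.mk L hL) = p at *
    generalize K529.KL.pl (snd X T ≫ y₁ ≫ i) (Groth.Agent.Grpsch.PicGrp.mk L hL) = q at *
    rw [eq_comm, mul_eq_one_iff_eq_inv] at h2
    rw [h2, h1, mul_inv_cancel_right]

end Groth.Agent.S19769
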