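import Groth.Statements.S19771
import Groth.Agent.S12002
import Groth.Agent.AbSch.K135.FinGeom
import Groth.Agent.AbVar.K529.KL
import Groth.Agent.AbVar.K512.AV
import Groth.Agent.Sga3B.BcPts
import Groth.Agent.Ega2.RelAmpRows
import Groth.Agent.CalgB.AmpleRel

set_option autoImplicit false
universe u
open CategoryTheory MonoidalCategory CartesianMonoidalCategory MonObj GrpObj AlgebraicGeometry
open AbSch

namespace Groth.Agent.S19771

open Groth.Agent.Grpsch.PicGrp Groth.Agent.Sga3B.BcPts K529.KL

theorem bcEquiv_symm_left {S S' : Scheme.{u}} (t : S' ⟶ S) (T : Over S') (X : Over S) (g : T ⟶ Red.bc t X) :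
    ((bcEquiv t T X).symm g).left = g.left ≫ Limits.pullback.fst X.hom t := by
  simp [bcEquiv, Adjunction.homEquiv_counit]

/-- Translation by a geometric point of `K(L)` fixes the class of `L` on the geometric fibre. -/
theorem pull_tr {S : Scheme.{u}} (A : Over S) [GrpObj A] (L : A.left.Modules) (hL : PicF.IsInvertible L)
    {Ω : Type u} [Field Ω] (t : Spec (CommRingCat.of Ω) ⟶ S) (z : Over.mk t ⟶ A)
    (hz : ThetaGrp.IsMumfordTriv A L z) (x : (Over.map t).obj (𝟙_ (Over (Spec (CommRingCat.of Ω)))) ⟶ A)
    (hx : x.left = z.left) :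
    pull ((𝟙 (Red.bc t A) * (toUnit (Red.bc t A) ≫ bcEquiv t _ A x)).left)
      (pull (Limits.pullback.fst A.hom t) (mk L hL)) = pull (Limits.pullback.fst A.hom t) (mk L hL) := by
  obtain ⟨M, hM, hΛ⟩ := hz
  rw [isLambdaSheaf_iff _ _ _ hL (Groth.Agent.Fdesc.LocGen.isInvertible_pullback _ hM)] at hΛ
  have h1 : mk ((Scheme.Modules.pullback (snd A (Over.mk t)).left).obj M)
      (Groth.Agent.Fdesc.LocGen.isInvertible_pullback _ hM) = 1 := by
    rw [← pull_mk _ hM, pic_spec_local Ω (mk M hM), map_one]
  have h2 : pull (snd A (Over.mk t) ≫ z).left (mk L hL) = 1 := by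
    rw [Over.comp_left, pull_comp, pic_spec_local Ω (pull z.left (mk L hL)), map_one]
  rw [h1, h2, _root_.one_mul, _root_.mul_one] at hΛ
  let B := Red.bc t A
  let P : (Over.map t).obj B ⟶ A := (bcEquiv t B A).symm (𝟙 B)
  let Q : (Over.map t).obj B ⟶ A := (bcEquiv t B A).symm (toUnit B ≫ bcEquiv t _ A x)
  have hP : P.left = Limits.pullback.fst A.hom t := by
    rw [bcEquiv_symm_left]
    exact Category.id_comp _
  let str : (Over.map t).obj B ⟶ Over.mk t := Over.homMk B.hom rfl
  have hQ : Q = str ≫ z := by
    have h3 : Q = (Over.map t).map (toUnit B) ≫ x := by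
      change (bcEquiv t B A).symm (toUnit B ≫ bcEquiv t _ A x) = _
      rw [comp_bcEquiv_symm, Equiv.symm_apply_apply]
    rw [h3]
    ext1
    rw [Over.comp_left, Over.comp_left, hx]
    rfl
  let w : (Over.map t).obj B ⟶ A ⊗ Over.mk t := lift P str
  have hw : w ≫ (A ◁ z) ≫ μ[A] = P * Q := by
    rw [hQ, ← Category.assoc]
    congr 1
    apply CartesianMonoidalCategory.hom_ext
    · simp [w]
    · simp [w]
  have hmul : ((𝟙 B * (toUnit B ≫ bcEquiv t _ A x)) : B ⟶ B).left ≫ Limits.pullback.fst A.hom t = (P * Q).left := by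
    rw [← bcEquiv_symm_left]
    exact congrArg CommaMorphism.left ((bcMulEquiv t B A).symm.map_mul _ _)
  have h4 := congrArg (pull w.left) hΛ
  rw [← pull_comp, ← pull_comp, ← Over.comp_left, ← Over.comp_left, hw, lift_fst, hP] at h4
  rw [← pull_comp]
  exact (congrArg (fun r => pull r (mk L hL)) hmul).trans h4.symm

/-- Let S be a scheme, A an abelian scheme over S (an S-group scheme whose structure morphism is proper
and smooth with geometrically connected fibres), L an O_A-module that is ample relative to A → S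
(the structure morphism is quasi-compact and L restricted to the preimage of every affine open of S
is ample; in particular L is invertible), and i : K → A a closed immersion of S-schemes exhibiting K
as K(L): the maximal closed subscheme over which the Mumford bundle m^*L ⊗ p_1^*L⁻¹ ⊗ p_2^*L⁻¹ on A
×_S A, restricted to A ×_S K, is the inverse image of an invertible module on K, with its universal
property for S-morphisms T → A. Then K is finite over S. -/
theorem result {S : Scheme.{u}} (A : Over S)
    [GrpObj A] [IsProper A.hom] [Smooth A.hom] [GeometricallyConnected A.hom] (L : A.left.Modules)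
    (hL : RelAmple.IsRelAmple A.hom L)
    (K : Over S) (i : K ⟶ A) (hK : ThetaGrp.IsKL A L i) :
    IsFinite K.hom := by
  have hLi : PicF.IsInvertible L := Groth.Agent.CalgB.AmpleRel.isInvertible_of_isRelAmple hL
  have hi : IsClosedImmersion i.left := hK.closed
  have hKp : IsProper K.hom := by
    rw [← Over.w i]
    infer_instance
  refine K135.FinGeom.isFinite K.hom fun Ω _ _ t => ?_
  have h0 : GeometricallyIntegral A.hom := K512.AV.geometricallyIntegral A
  have h1 : IsProper (Red.bc t A).hom := inferInstanceAs (IsProper (Limits.pullback.snd A.hom t))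
  have h2 : GeometricallyIntegral (Red.bc t A).hom :=
    inferInstanceAs (GeometricallyIntegral (Limits.pullback.snd A.hom t))
  have hA : CohB1.IsAmple ((Scheme.Modules.pullback (Limits.pullback.fst A.hom t)).obj L) :=
    Groth.Agent.Ega2.RelAmp.isRelAmple_iff_isAmple.1 (Groth.Agent.Ega2.RelAmp.relAmple_baseChange A.hom t L hL)
  have hfin := Groth.Agent.S12002.result Ω (Red.bc t A)
    ((Scheme.Modules.pullback (Limits.pullback.fst A.hom t)).obj L) hA
  have hfin' := hfin.to_subtype
  let x : ∀ y : {y : Spec (CommRingCat.of Ω) ⟶ K.left // y ≫ K.hom = t},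
      ((Over.map t).obj (𝟙_ (Over (Spec (CommRingCat.of Ω)))) ⟶ A) := fun y =>
    Over.homMk (y.1 ≫ i.left) (by
      rw [Category.assoc, Over.w i, y.2]
      exact (Category.id_comp t).symm)
  refine Finite.of_injective (β := {a : 𝟙_ (Over (Spec (CommRingCat.of Ω))) ⟶ Red.bc t A |
    Nonempty ((Scheme.Modules.pullback ((𝟙 (Red.bc t A) * (toUnit (Red.bc t A) ≫ a))).left).obj
      ((Scheme.Modules.pullback (Limits.pullback.fst A.hom t)).obj L) ≅
        (Scheme.Modules.pullback (Limits.pullback.fst A.hom t)).obj L)})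
    (fun y => ⟨bcEquiv t _ A (x y), ?_⟩) ?_
  · have hz : ThetaGrp.IsMumfordTriv A L ((Over.homMk y.1 y.2 : Over.mk t ⟶ K) ≫ i) :=
      (hK.univ _ _).2 ⟨_, rfl⟩
    have h3 := pull_tr A L hLi t _ hz (x y) rfl
    rw [pull_mk, pull_mk, mk_eq_iff] at h3
    exact h3
  · intro y y' h
    have h3 := (bcEquiv t _ A).injective (congrArg Subtype.val h)
    have h4 : y.1 ≫ i.left = y'.1 ≫ i.left := congrArg CommaMorphism.left h3
    exact Subtype.ext ((cancel_mono i.left).1 h4)

end Groth.Agent.S19771
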