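import Groth.Statements.S19773
import Groth.Agent.AbVar.K529.ChiSq
import Groth.Agent.AbVar.K529.KLFin
import Groth.Agent.AbVar.K512.IsogIdx
import Groth.Agent.S7859

set_option autoImplicit false
universe u
open CategoryTheory MonoidalCategory CartesianMonoidalCategory MonObj GrpObj AlgebraicGeometry
open AbVar
open Groth.Agent.Grpsch.PicGrp

namespace Groth.Agent.S19773

/-- Let k be a field and f : X → Y an isogeny between abelian varieties over k (X, Y proper,
geometrically integral k-group schemes; f a finite flat surjective homomorphism) of degree d (the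
rank of f at every point of Y), and let M be a non-degenerate invertible O_Y-module: for a closed
immersion i_M : K_M → Y exhibiting K_M as K(M) (the maximal closed subscheme over which the Mumford
bundle m^*M ⊗ p_1^*M⁻¹ ⊗ p_2^*M⁻¹, restricted to Y ×_k K_M, is the inverse image of an invertible
module on K_M, with its universal property), K_M is finite over k, of rank r (the rank of K_M → Spec
k). Let L = f^*M and let i_L : K_L → X exhibit K_L as K(L). Then L is non-degenerate as well and
rank K(L) = d² · rank K(M): K_L is finite over k and K_L → Spec k has rank d² · r. -/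
theorem result (k : Type u) [Field k]
    (X Y : Over (Spec (CommRingCat.of k)))
    [GrpObj X] [IsProper X.hom] [GeometricallyIntegral X.hom]
    [GrpObj Y] [IsProper Y.hom] [GeometricallyIntegral Y.hom]
    (f : X ⟶ Y) [IsMonHom f] [IsFinite f.left] [Flat f.left] (hf : Surjective f.left)
    (d : ℕ) (hd : ∀ y : ↥Y.left, Scheme.Hom.finrank f.left y = d)
    (M : Y.left.Modules) (hM : PicF.IsInvertible M)
    (KM : Over (Spec (CommRingCat.of k))) (iM : KM ⟶ Y) (hKM : ThetaGrp.IsKL Y M iM)
    [IsFinite KM.hom] (r : ℕ) (hr : ∀ s : ↥(Spec (CommRingCat.of k)), Scheme.Hom.finrank KM.hom s = r)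
    (KL : Over (Spec (CommRingCat.of k))) (iL : KL ⟶ X)
    (hKL : ThetaGrp.IsKL X ((Scheme.Modules.pullback f.left).obj M) iL) :
    IsFinite KL.hom ∧ ∀ s : ↥(Spec (CommRingCat.of k)), Scheme.Hom.finrank KL.hom s = d ^ 2 * r := by
  obtain ⟨gX, hgX⟩ := K512.IsogIdx.exists_dim X
  obtain ⟨gY, hgY⟩ := K512.IsogIdx.exists_dim Y
  have hL := Groth.Agent.Fdesc.LocGen.isInvertible_pullback f.left hM
  have h1 : K524.Chi.chi (mk M hM) ^ 2 = (r : ℤ) := K529.ChiSq.chi_sq hM hKM gY hgY r hr
  have h2 : K524.Chi.chi (mk _ hL) = (d : ℤ) * K524.Chi.chi (mk M hM) := by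
    rw [K524.Chi.chi_mk, K524.Chi.chi_mk]
    exact Groth.Agent.S7859.result k X Y f d hd M (K529.TopMain.isCoh_of_isInvertible hM)
  -- `r ≥ 1`
  have hr1 : 1 ≤ r := by
    obtain ⟨z, -⟩ := (K529.KL.exists_factor_iff hM hKM (T := 𝟙_ _) 1).mpr (by
      rw [MonObj.comp_one, _root_.mul_one, K529.KL.pl_one, _root_.mul_one])
    obtain ⟨x⟩ : Nonempty (Spec (CommRingCat.of k)) := inferInstance
    rw [← hr (KM.hom (z.left x))]
    exact Scheme.Hom.one_le_finrank_map KM.hom (z.left x)
  have hd1 : 1 ≤ d := by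
    have hX : IsIntegral X.left := GeometricallyIntegral.isIntegral_of_subsingleton X.hom
    obtain ⟨x⟩ : Nonempty X.left := inferInstance
    rw [← hd (f.left x)]
    exact Scheme.Hom.one_le_finrank_map f.left x
  have h3 : K524.Chi.chi (mk M hM) ≠ 0 := by
    intro h0
    rw [h0] at h1
    have : (r : ℤ) = 0 := by rw [← h1]; simp
    omega
  have h4 : K524.Chi.chi (mk _ hL) ≠ 0 := by
    rw [h2]
    exact mul_ne_zero (by exact_mod_cast (by omega : d ≠ 0)) h3
  have h5 : IsFinite KL.hom := K529.KLFin.isFinite_of_chi hL hKL h4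
  refine ⟨h5, fun s => ?_⟩
  have h6 : K524.Chi.chi (mk _ hL) ^ 2 = ((Scheme.Hom.finrank KL.hom s : ℕ) : ℤ) :=
    K529.ChiSq.chi_sq hL hKL gX hgX _ (fun s' => by rw [Subsingleton.elim s' s])
  rw [h2, mul_pow, h1] at h6
  exact_mod_cast h6.symm

end Groth.Agent.S19773
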