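import Groth.Statements.S19774
import Groth.Agent.AbVar.K529.ConvD
import Groth.Agent.AbSch.K449.Basic
import Groth.Agent.Flat2B.SmoothGeom

set_option autoImplicit false
universe u
open CategoryTheory CategoryTheory.Limits MonoidalCategory CartesianMonoidalCategory MonObj GrpObj AlgebraicGeometry
attribute [local instance] HasDerivedCategory.standard
open AbVar

namespace Groth.Agent.S19774

/-- Let k be an algebraically closed field, A an abelian variety over k (a proper smooth k-group scheme
with geometrically connected fibres) of dimension g, with group law m : A × A → A, projections p_1,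
p_2 and inversion [-1]; let L be an invertible O_A-module with an inverse L' (L ⊗ L' ≅ O_A), and i :
K → A a closed immersion exhibiting K as K(L) (the maximal closed subscheme over which the Mumford
bundle m^*L ⊗ p_1^*L⁻¹ ⊗ p_2^*L⁻¹, restricted to A ×_k K, is the inverse image of an invertible
module on K, with its universal property). Assume L non-degenerate: K is finite over k. Then the
convolution L ∗ [-1]^*L⁻¹ = Rm_*(p_1^*L ⊗ p_2^*[-1]^*L') is isomorphic, in D(O_A), to
Ri_*(L|_K)[-g], the direct image of the restriction of L to K placed in degree g (existence of an
isomorphism; the derived direct images along m and i are assumed to exist). (The published lemma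
allows any line bundle L; for L the structure sheaf and g ≥ 1 the left side is O_A ⊗ RΓ(A, O_A),
with non-zero cohomology in degree 0, while the right side is O_A[-g], so the two are not
isomorphic; the printed argument identifies an inverse image of the skyscraper at the origin of the
dual with the structure sheaf of the kernel of φ_L, which is correct when φ_L is flat, that is for L
non-degenerate — the case stated here and the one used afterwards.) -/
theorem result (k : Type u) [Field k] [IsAlgClosed k]
    (A : Over (Spec (CommRingCat.of k))) [GrpObj A] [IsProper A.hom] [Smooth A.hom] [GeometricallyConnected A.hom]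
    (g : ℕ) (hg : topologicalKrullDim ↥A.left = g)
    (L : A.left.Modules) (hL : PicF.IsInvertible L) (L' : A.left.Modules)
    (hL' : Nonempty (CohB1.tensorMod L L' ≅ Coh.structureModule A.left))
    (K : Over (Spec (CommRingCat.of k))) (i : K ⟶ A) (hK : ThetaGrp.IsKL A L i) [IsFinite K.hom]
    [DCoh.HasRpush μ[A].left] [DCoh.HasRpush i.left] :
    Nonempty ((DCoh.Rpush μ[A].left).obj
        (DCoh.inD (A ⊗ A).left (CohB1.tensorMod ((Scheme.Modules.pullback (fst A A).left).obj L)
          ((Scheme.Modules.pullback (snd A A ≫ (𝟙 A)⁻¹).left).obj L'))) ≅
      (shiftFunctor (DCoh.D A.left) (-(g : ℤ))).obj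
        ((DCoh.Rpush i.left).obj (DCoh.inD K.left ((Scheme.Modules.pullback i.left).obj L)))) := by
  have h00 : GeometricallyReduced A.hom := Flat2B.SmoothGeom.geometricallyReduced_of_smooth A.hom
  have h0 : GeometricallyIntegral A.hom := K449.Basic.geometricallyIntegral A
  obtain ⟨hE, hEc⟩ := K529.ConvD.isInvertible_and_mk hL hL'
  exact K529.ConvD.nonempty_iso hL hK hE hEc g hg (Groth.Agent.Fdesc.LocGen.isInvertible_pullback i.left hL)

end Groth.Agent.S19774
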