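import Groth.Statements.S9769
import Groth.Agent.FlatMor.K259.FlatId
import Groth.Agent.S1441
import Groth.Agent.FormalA.PullbackQC
-- import your own Groth.Agent.* helpers here

set_option autoImplicit false
universe u
open FlatMor

namespace Groth.Agent.S9769

open AlgebraicGeometry CategoryTheory Limits in
/-- Let f : X ⟶ S be locally of finite presentation and F a finitely presented O_X-module which is flat
over S. Then the formation of the locus of points of X near which F is free (equivalently, for
finitely presented F, where the stalk of F is a free module) commutes with arbitrary base change: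
for a cartesian square with g' : X' ⟶ X over S' ⟶ S, the free locus of (g')^*F is the preimage of
that of F. The published statement also asserts that this locus is open; this row states only that
its formation commutes with base change. -/
theorem result {X S X' S' : Scheme.{u}} (f : X ⟶ S) [LocallyOfFinitePresentation f]
    (F : X.Modules) (hF : CohB1.IsFP F) (hfl : FlatMod.IsFlatOver f F)
    (g : S' ⟶ S) (f' : X' ⟶ S') (g' : X' ⟶ X) (hc : IsPullback g' f' f g) :
    {x' : ↑X' | Module.Free ↑(X'.presheaf.stalk x') ↑(((Scheme.Modules.pullback g').obj F).presheaf.stalk x')} =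
      g' ⁻¹' {x : ↑X | Module.Free ↑(X.presheaf.stalk x) ↑(F.presheaf.stalk x)} := by
  have hF' : CohB1.IsFP ((Scheme.Modules.pullback g').obj F) :=
    Groth.Agent.FormalA.PullbackQC.isFP_pullback g' F hF
  have hq : Coh.IsQCoh F := Groth.Agent.PerfC.FPSections.isQCoh_of_isFP hF
  have hfp1 : LocallyOfFinitePresentation (𝟙 X ≫ f) := by rw [Category.id_comp]; infer_instance
  have hfl1 : FlatMod.IsFlatOver (𝟙 X ≫ f) F := by rw [Category.id_comp]; exact hfl
  have hX : IsPullback g' (𝟙 X' ≫ f') (𝟙 X ≫ f) g := by
    rw [Category.id_comp, Category.id_comp]; exact hc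
  have key := (Groth.Agent.S1441.result (𝟙 X) f F hq hF hfl1).2 g g' f' hc g' (𝟙 X') hX
    (by rw [Category.comp_id, Category.id_comp])
  ext x'
  have k := Set.ext_iff.mp key x'
  simp only [Set.mem_setOf_eq, Set.mem_preimage] at k ⊢
  rw [K259.FlatId.free_stalk_iff _ hF', K259.FlatId.free_stalk_iff _ hF]
  exact k

end Groth.Agent.S9769
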