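import Groth.Statements.S19776
import Groth.Agent.VecBal.K996.Diag
import Groth.Agent.VecBal.K812.Pol
import Groth.Agent.VecBal.K812.Lfp
import Groth.Agent.VecBal.K247.NonemptyObj
-- import your own Groth.Agent.* helpers here

set_option autoImplicit false
universe u
open CategoryTheory AlgebraicGeometry
open VecBal

namespace Groth.Agent.S19776

/-- Let k be an algebraically closed field of characteristic zero and g ≥ 2, r ≥ 1, d integers; write
Vec for the category over k-schemes whose objects over T are pairs consisting of a family of
semistable genus-g curves over T and a properly balanced vector bundle of rank r and degree d on its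
total space. Then the diagonal morphism from Vec to its self-product over k-schemes is representable
by schemes and is quasi-compact and separated; equivalently, for two objects over the same base U
the functor of isomorphisms between their base changes is represented by a scheme quasi-compact and
separated over U. (Stated in the form: every base change of the diagonal to a scheme U is an
algebraic space whose morphism to U is representable by schemes with quasi-compact separated
representatives. The last conjunct records that Vec is non-empty: it has an object over every
algebraically closed field over k, e.g. a smooth curve of genus g with the direct sum of a line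
bundle of degree d and a trivial bundle of rank r − 1.) -/
theorem result (k : Type u) [Field k] [IsAlgClosed k] [CharZero k]
    (g r : ℕ) (d : ℤ) (hg : 2 ≤ g) (hr : 1 ≤ r) :
    AlgSt.RepByAlgSpWith
      (AlgSp.RepWith (fun (X Y : Scheme.{u}) (f : X ⟶ Y) => QuasiCompact f ∧ IsSeparated f))
      (FibCat.diag (FibCat.toSelf (VecBal.Vecrdg (Spec (CommRingCat.of k)) g r d))) ∧
      ∀ (Ω : Type u) [Field Ω] [IsAlgClosed Ω] (t : Spec (CommRingCat.of Ω) ⟶ Spec (CommRingCat.of k)),
        Nonempty ((VecBal.Vecrdg (Spec (CommRingCat.of k)) g r d).p.Fiber (Over.mk t)) := by
  exact ⟨K996.Diag.diagStmt (Groth.Agent.VecBal.K812.Pol.main Groth.Agent.VecBal.K812.Lfp.main)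
      Groth.Agent.VecBal.K812.Lfp.main k g r d hg hr,
    fun Ω _ _ t => Groth.Agent.VecBal.K247.NonemptyObj.main k g r d hg hr Ω t⟩

end Groth.Agent.S19776
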