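import Groth.Statements.S19777
import Groth.Agent.VecBal.K812.Asm
import Groth.Agent.VecBal.K812.Lfp
import Groth.Agent.VecBal.K675.PolAff
-- import your own Groth.Agent.* helpers here

set_option autoImplicit false
universe u
open CategoryTheory AlgebraicGeometry
open VecBal

namespace Groth.Agent.S19777

/-- Let k be an algebraically closed field of characteristic zero and g ≥ 2, r ≥ 1, d integers. The
category over k-schemes whose objects over T are pairs consisting of a family of semistable genus-g
curves over T and a properly balanced vector bundle of rank r and degree d on its total space, and
whose morphisms are cartesian squares of families with an isomorphism between the bundle and the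
pulled-back bundle, is a stack in groupoids for the fpqc topology: it is fibred in groupoids,
morphisms glue uniquely and every descent datum for an fpqc covering is effective. The last conjunct
records that the category is non-empty: it has an object over every algebraically closed field over
k (e.g. a smooth curve of genus g with the direct sum of a line bundle of degree d and a trivial
bundle of rank r − 1). -/
theorem result (k : Type u) [Field k] [IsAlgClosed k] [CharZero k] (g r : ℕ) (d : ℤ)
    (hg : 2 ≤ g) (hr : 1 ≤ r) :
    Stk.IsStack (QuotSh.J Scheme.fpqcPrecoverage (Spec (CommRingCat.of k)))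
      (VecBal.Vecrdg (Spec (CommRingCat.of k)) g r d) ∧
      ∀ (Ω : Type u) [Field Ω] [IsAlgClosed Ω] (t : Spec (CommRingCat.of Ω) ⟶ Spec (CommRingCat.of k)),
        Nonempty ((VecBal.Vecrdg (Spec (CommRingCat.of k)) g r d).p.Fiber (Over.mk t)) := by
  exact ⟨Groth.Agent.VecBal.K812.Asm.stack Groth.Agent.VecBal.K675.PolAff.main Groth.Agent.VecBal.K812.Lfp.main _ g r d hg hr,
    fun Ω _ _ t => Groth.Agent.VecBal.K247.NonemptyObj.main k g r d hg hr Ω t⟩

end Groth.Agent.S19777
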