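import Groth.Statements.S19782
import Groth.Agent.Coherent.K98.ZarSheaf
import Groth.Agent.Coherent.K98.ZarFlat
import Groth.Agent.Coherent.K98.CplFactor
import Groth.Agent.Coherent.K98.RankOpen
import Groth.Agent.PerfA.CohSerre
import Groth.Agent.ParaF.K589.PicExt
import Groth.Agent.ParaF.K589.ElkikModule
import Groth.Agent.S0543
import Groth.Agent.S2269

set_option autoImplicit false
universe u
open CategoryTheory AlgebraicGeometry
open Coherent

namespace Groth.Agent.S19782

open TensorProduct Coherent.K98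

theorem isFinLocFreeOfRank_of_iso {X : Scheme.{u}} {M N : X.Modules} {n : ℕ} (e : M ≅ N)
    (h : FlatMod.IsFinLocFreeOfRank n M) : FlatMod.IsFinLocFreeOfRank n N := by
  intro x
  obtain ⟨U, hx, ⟨f⟩⟩ := h x
  exact ⟨U, hx, ⟨((Scheme.Modules.restrictFunctor U.ι).mapIso e).symm ≪≫ f⟩⟩

theorem main (A A' : Type u) [CommRing A] [CommRing A'] [Algebra A A']
    [IsNoetherianRing A] [IsNoetherianRing A'] (J : Ideal A)
    [HenselianRing A J] [HenselianRing A' (J.map (algebraMap A A'))]
    (hq : ∀ n : ℕ, Function.Bijective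
      (Ideal.quotientMap (Ideal.map (algebraMap A A') (J ^ n)) (algebraMap A A') Ideal.le_comap_map))
    (U : (Spec (CommRingCat.of A)).Opens)
    (hU : ∀ p : PrimeSpectrum A, ¬ J ≤ p.asIdeal → p ∈ U)
    (n : ℕ) (E' : (↑((Spec.map (CommRingCat.ofHom (algebraMap A A'))) ⁻¹ᵁ U) : Scheme.{u}).Modules)
    (hE' : FlatMod.IsFinLocFreeOfRank n E') :
    ∃ E : (U : Scheme.{u}).Modules, FlatMod.IsFinLocFreeOfRank n E ∧
      Nonempty ((Scheme.Modules.pullback
        ((Spec.map (CommRingCat.ofHom (algebraMap A A'))) ∣_ U)).obj E ≅ E') := by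
  have hJfg : J.FG := IsNoetherian.noetherian J
  obtain ⟨ψ, hψ, hψq⟩ := CplFactor.exists_factor (algebraMap A A') J hJfg hq
  let _ : Algebra A' (AdicCompletion J A) := ψ.toAlgebra
  have : IsScalarTower A A' (AdicCompletion J A) := IsScalarTower.of_algebraMap_eq' hψ.symm
  have : IsNoetherianRing (AdicCompletion J A) := Groth.Agent.S0543.result A J
  have hJB := CplFactor.map_le_jacobson J hJfg
  have hJA : J ≤ (⊥ : Ideal A).jacobson := HenselianRing.jac
  have hJA' : J.map (algebraMap A A') ≤ (⊥ : Ideal A').jacobson := HenselianRing.jac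
  have ff1 : Module.FaithfullyFlat A A' := ZarFlat.faithfullyFlat J hJA hJA' hq
  have ff2 : Module.FaithfullyFlat A' (AdicCompletion J A) :=
    ZarFlat.faithfullyFlat (J.map (algebraMap A A')) hJA' (by
      rw [Ideal.map_map, ← IsScalarTower.algebraMap_eq]; exact hJB) hψq
  -- a model for `E'`
  let U' := (Spec.map (CommRingCat.ofHom (algebraMap A A'))) ⁻¹ᵁ U
  have hE'coh : Coh.IsCoh E' := PerfA.CohSerre.isCoh_of_isFinLocFree (fun x => by
      obtain ⟨V, hx, h⟩ := hE' x
      exact ⟨V, n, hx, h⟩)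
  obtain ⟨M', _, _, hM'fin, ⟨eM'⟩⟩ := (Groth.Agent.S2269.result A' U' E').1 hE'coh
  have hM'free : ∀ q : PrimeSpectrum A', (show Spec (CommRingCat.of A') from q) ∈ U' →
      q ∈ Module.freeLocus A' M' :=
    RankOpen.mem_freeLocus A' M' U' n (isFinLocFreeOfRank_of_iso eM' hE')
  -- the ideal of the complement of `U`
  let 𝔞 : Ideal A := PrimeSpectrum.vanishingIdeal ((U : Set (Spec (CommRingCat.of A)))ᶜ)
  have h𝔞 : ∀ p : PrimeSpectrum A, (show Spec (CommRingCat.of A) from p) ∈ U ↔ ¬ 𝔞 ≤ p.asIdeal := by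
    intro p
    have hcl : IsClosed ((U : Set (Spec (CommRingCat.of A)))ᶜ) := U.isOpen.isClosed_compl
    have h1 : PrimeSpectrum.zeroLocus (𝔞 : Set A) = ((U : Set (Spec (CommRingCat.of A)))ᶜ) :=
      (PrimeSpectrum.zeroLocus_vanishingIdeal_eq_closure _).trans (IsClosed.closure_eq hcl)
    have h2 : p ∈ PrimeSpectrum.zeroLocus (𝔞 : Set A) ↔ p ∈ ((U : Set (Spec (CommRingCat.of A)))ᶜ) :=
      Set.ext_iff.1 h1 p
    rw [PrimeSpectrum.mem_zeroLocus] at h2
    constructor
    · intro h h3
      exact h2.1 h3 h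
    · intro h
      by_contra h3
      exact h (h2.2 h3)
  have hJ𝔞 : J ≤ 𝔞 := by
    intro x hx
    rw [PrimeSpectrum.mem_vanishingIdeal]
    intro p hp
    by_contra hxp
    exact hp (hU p fun h => hxp (h hx))
  obtain ⟨M, _, _, hMfin, hMfp, hMfree, ⟨eM⟩⟩ := K589.ElkikModule.exists_module A A J J
    (Ideal.map_id J).symm 𝔞 hJ𝔞 (AdicCompletion J A ⊗[A'] M') (by
      intro p hp hle
      have h1 : (⟨p, hp⟩ : PrimeSpectrum (AdicCompletion J A)) ∈
          PrimeSpectrum.comap (algebraMap A' (AdicCompletion J A)) ⁻¹' Module.freeLocus A' M' := by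
        refine hM'free _ ?_
        change PrimeSpectrum.comap (algebraMap A A')
          (PrimeSpectrum.comap (algebraMap A' (AdicCompletion J A)) ⟨p, hp⟩) ∈ U
        refine (h𝔞 _).2 fun h2 => hle ?_
        rw [IsScalarTower.algebraMap_eq A A' (AdicCompletion J A), Ideal.map_le_iff_le_comap]
        exact h2
      exact Module.comap_freeLocus_le h1)
  let E : (U : Scheme.{u}).Modules :=
    (tilde (R := CommRingCat.of A) (ModuleCat.of A M)).restrict U.ι
  let F₁ : (U' : Scheme.{u}).Modules :=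
    (tilde (R := CommRingCat.of A') (ModuleCat.of A' (A' ⊗[A] M))).restrict U'.ι
  let F₂ : (U' : Scheme.{u}).Modules :=
    (tilde (R := CommRingCat.of A') (ModuleCat.of A' M')).restrict U'.ι
  have e₁ : (Scheme.Modules.pullback
      ((Spec.map (CommRingCat.ofHom (algebraMap A A'))) ∣_ U)).obj E ≅ F₁ :=
    K589.PicExt.pullbackIso A A' M U
  have hF₁ : Coh.IsCoh F₁ := (Groth.Agent.S2269.result A' U' F₁).2
    ⟨A' ⊗[A] M, inferInstance, inferInstance, inferInstance, ⟨Iso.refl _⟩⟩
  have hF₂ : Coh.IsCoh F₂ := (Groth.Agent.S2269.result A' U' F₂).2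
    ⟨M', inferInstance, inferInstance, hM'fin, ⟨Iso.refl _⟩⟩
  have eB : AdicCompletion J A ⊗[A'] (A' ⊗[A] M) ≃ₗ[AdicCompletion J A] AdicCompletion J A ⊗[A'] M' :=
    (AlgebraTensorModule.cancelBaseChange A A' (AdicCompletion J A) (AdicCompletion J A) M).trans eM
  obtain ⟨e⟩ := ZarSheaf.nonempty_iso A' (AdicCompletion J A) (J.map (algebraMap A A')) hJA'
    (fun m => ZarFlat.exists_sub_mem ψ (hψq m).2) U' (by
      intro p hp
      exact hU _ fun h => hp (Ideal.map_le_iff_le_comap.2 h)) F₁ F₂ hF₁ hF₂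
    ⟨K589.PicExt.pullbackIso A' (AdicCompletion J A) (A' ⊗[A] M) U' ≪≫
      K589.PicExt.tildeIso (AdicCompletion J A) _ eB ≪≫
      (K589.PicExt.pullbackIso A' (AdicCompletion J A) M' U').symm⟩
  have eE : (Scheme.Modules.pullback
      ((Spec.map (CommRingCat.ofHom (algebraMap A A'))) ∣_ U)).obj E ≅ E' := e₁ ≪≫ e ≪≫ eM'.symm
  have hflat : Flat (Spec.map (CommRingCat.ofHom (algebraMap A A'))) := by
    rw [HasRingHomProperty.Spec_iff (P := @Flat)]
    exact RingHom.flat_algebraMap_iff.2 inferInstance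
  have hsurj : Surjective (Spec.map (CommRingCat.ofHom (algebraMap A A'))) :=
    ⟨PrimeSpectrum.comap_surjective_of_faithfullyFlat⟩
  have hsurjU : Surjective ((Spec.map (CommRingCat.ofHom (algebraMap A A'))) ∣_ U) :=
    IsZariskiLocalAtTarget.restrict hsurj U
  have hEq : Coh.IsQCoh E :=
    (inferInstance : Coh.IsQCoh ((tilde (R := CommRingCat.of A) (ModuleCat.of A M)).restrict U.ι))
  refine ⟨E, ?_, ⟨eE⟩⟩
  exact RankOpen.isFinLocFreeOfRank_of_pullback
    ((Spec.map (CommRingCat.ofHom (algebraMap A A'))) ∣_ U) E hEq n (isFinLocFreeOfRank_of_iso eE.symm hE')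

/-- Let A → A' be a homomorphism of Noetherian rings and J ⊂ A an ideal with (A, J) and (A', JA')
Henselian pairs such that A/J^n → A'/J^nA' is bijective for all n, and let U ⊂ Spec A be an open
containing Spec A ∖ V(J), with g : U_{A'} → U the base change of Spec A' → Spec A. Then every finite
locally free module of rank n on U_{A'} is isomorphic to g^*E for some finite locally free
O_U-module E of rank n: H¹(U, GL_n) → H¹(U_{A'}, GL_n) is surjective. (The published statement is
the bijection H¹(U, G) ≅ H¹(U_{A'}, G) for every quasi-affine smooth U-group G; this row is its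
surjectivity half for the general linear groups.) -/
theorem result (A A' : Type u) [CommRing A] [CommRing A']
    [IsNoetherianRing A] [IsNoetherianRing A'] (φ : A →+* A') (J : Ideal A)
    [HenselianRing A J] [HenselianRing A' (J.map φ)]
    (hq : ∀ n : ℕ, Function.Bijective (Ideal.quotientMap (Ideal.map φ (J ^ n)) φ Ideal.le_comap_map))
    (U : (Spec (CommRingCat.of A)).Opens)
    (hU : ∀ p : PrimeSpectrum A, ¬ J ≤ p.asIdeal → p ∈ U)
    (n : ℕ) (E' : (↑((Spec.map (CommRingCat.ofHom φ)) ⁻¹ᵁ U) : Scheme.{u}).Modules)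
    (hE' : FlatMod.IsFinLocFreeOfRank n E') :
    ∃ E : (U : Scheme.{u}).Modules, FlatMod.IsFinLocFreeOfRank n E ∧
      Nonempty ((Scheme.Modules.pullback ((Spec.map (CommRingCat.ofHom φ)) ∣_ U)).obj E ≅ E') := by
  let _ : Algebra A A' := φ.toAlgebra
  have h : HenselianRing A' (J.map (algebraMap A A')) := ‹HenselianRing A' (J.map φ)›
  exact main A A' J hq U hU n E' hE'

end Groth.Agent.S19782
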