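import Groth.Statements.S19784
import Groth.Agent.GIT.K691.PsMain
import Groth.Agent.GIT.K686.HaarRed
import Groth.Agent.InvQ.K701.Orbit
import Groth.Agent.S8082

set_option autoImplicit false
universe u
open CategoryTheory MonoidalCategory CartesianMonoidalCategory MonObj AlgebraicGeometry Opposite
open GIT

namespace Groth.Agent.S19784

/-- Let k be an algebraically closed field of characteristic zero, G a connected reductive algebraic
group over k acting by σ on a scheme X proper over k, and L an ample G-linearised line bundle on X,
taken in total-space form (a line bundle V(L) → X with a linear atlas and a fibrewise-linear lifting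
of σ, whose weight-one functions are the sections of L; ample meaning that X is covered by affine
opens X_f with f a section of some positive power of L). For a k-point x of X and a one-parameter
subgroup λ : 𝔾_m → G, say that μ^L(x, λ) takes the value m when the limit y of λ(u)·x as u → 0
exists and 𝔾_m, acting through λ, acts on the fibre of L over the fixed point y with exponent m (on
the fibre of V(L) with exponent −m). Then x is properly stable for L (there is an invariant section
s of a positive power of L with s(x) ≠ 0, X_s affine and the action on X_s closed, and the
stabiliser of x is finite) if and only if μ^L(x, λ) > 0 for every non-trivial one-parameter subgroup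
λ of G, in the sense that every value m taken by μ^L(x, λ) is positive. (The published statement
quantifies over all one-parameter subgroups including the trivial one, at which the numerical
function vanishes at every point, so that as published no point would satisfy the criterion; the
printed proof produces a non-trivial λ, and the row excludes the trivial one. The published
statement is for any reductive G over an algebraically closed field of any characteristic; this row
is the characteristic-zero case with G connected, the case the main text proves.) -/
theorem result (k : Type u) [Field k] [IsAlgClosed k] [CharZero k]
    (G X : Over (Spec (CommRingCat.of k))) [GrpObj G] (hG : Red.IsReductive G) [IsProper X.hom]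
    (a : AlgGrp.Action G X) (B : GLinSh.LinBun G a) (hB : HMNum.AmpleCover B)
    (x : 𝟙_ (Over (Spec (CommRingCat.of k))) ⟶ X) (p : (𝟙_ (Over (Spec (CommRingCat.of k)))).left) :
    B.IsProperlyStablePt (x.left.base p) ↔
      ∀ (l : Red.Gm (Spec (CommRingCat.of k)) ⟶ G) [IsMonHom l], l ≠ 1 → ∀ m : ℤ, HMNum.IsMu B l x m → 0 < m := by
  have hLR : K686.RedQuot.RedLR k := fun A _ _ _ _ h => (Groth.Agent.S8082.result k A).1 h
  obtain ⟨C, _, _, e, he, hft, hlr⟩ := K686.HaarRed.exists_hopf_lr (k := k) hLR hG
  have hred : _root_.IsReduced C := K701.Orbit.isReduced_hopf k C
  have hpt : x.left.base p = K691.MuKey.pt0 x := congrArg _ (K691.MuKey.eq_bot_pt p)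
  rw [hpt]
  constructor
  · intro hx l _ hl m hm
    have hGaff : IsAffine G.left := K686.HaarRed.isAffine_of_isReductive hG
    have hGft : LocallyOfFiniteType G.hom := by
      have : Smooth G.hom := hG.2.1
      infer_instance
    have hGqc : QuasiCompact G.hom := inferInstance
    exact K691.PsNec.pos_of_isProperlyStablePt B e hx l hl m hm
  · intro H
    exact K691.PsMain.isProperlyStablePt_of_forall B e hB hLR hG hlr x H

end Groth.Agent.S19784
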