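import Groth.Statements.S19788
import Groth.Agent.GIT.K691.MuTorus
import Groth.Agent.Sga3B.TorusAlgClosed

set_option autoImplicit false
universe u
open CategoryTheory MonoidalCategory CartesianMonoidalCategory MonObj AlgebraicGeometry Opposite
open GIT

namespace Groth.Agent.S19788

/-- Let k be an algebraically closed field, G a connected reductive algebraic group over k, i : T → G a
maximal torus of G, X a scheme proper over k on which G acts by σ, and L an ample G-linearised line
bundle on X in total-space form (a line bundle V(L) → X with a linear atlas and a fibrewise-linear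
lifting of σ; ample meaning that X is covered by affine opens X_f with f a section of a positive
power of L). Then there are finitely many maps ℓ_1, …, ℓ_n from the one-parameter subgroups of T to
ℚ, additive for the pointwise product of one-parameter subgroups (so: linear functionals on Hom(𝔾_m,
T) ⊗ ℝ that are rational on Hom(𝔾_m, T) ⊗ ℚ), with the following property: for every k-point x of X
there is a subset I of the indices (non-empty, since μ^L(x, ·) takes a value at every one-parameter
subgroup when X is proper) such that, for every one-parameter subgroup λ of T, μ^L(x, i∘λ) =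
max{ℓ_j(λ) : j ∈ I} — the numerical function of x at the one-parameter subgroup i∘λ of G (the limit
of λ(u)·x as u → 0 exists and 𝔾_m acts on the fibre of L over it with exponent m) takes the value m
exactly when m is the largest of the numbers ℓ_j(λ), j ∈ I. (The published statement is for any
reductive G; this row takes G connected.) -/
theorem result (k : Type u) [Field k] [IsAlgClosed k]
    (G X T : Over (Spec (CommRingCat.of k))) [GrpObj G] [GrpObj T] (hG : Red.IsReductive G)
    (i : T ⟶ G) [IsMonHom i] (hi : Red.IsMaximalTorus i) [IsProper X.hom]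
    (a : AlgGrp.Action G X) (B : GLinSh.LinBun G a) (hB : HMNum.AmpleCover B) :
    ∃ (n : ℕ) (ℓ : Fin n → (Red.Gm (Spec (CommRingCat.of k)) ⟶ T) → ℚ),
      (∀ (j : Fin n) (l₁ l₂ : Red.Gm (Spec (CommRingCat.of k)) ⟶ T) [IsMonHom l₁] [IsMonHom l₂],
          ℓ j (l₁ * l₂) = ℓ j l₁ + ℓ j l₂) ∧
      ∀ (x : 𝟙_ (Over (Spec (CommRingCat.of k))) ⟶ X), ∃ I : Finset (Fin n),
        ∀ (l : Red.Gm (Spec (CommRingCat.of k)) ⟶ T) [IsMonHom l] (m : ℤ),
          HMNum.IsMu B (l ≫ i) x m ↔ ∃ j ∈ I, (m : ℚ) = ℓ j l ∧ ∀ j' ∈ I, ℓ j' l ≤ ℓ j l := by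
  classical
  obtain ⟨r, ⟨e⟩⟩ := Groth.Agent.Sga3B.TorusAlgClosed.exists_isSplitTorusWith hi.2.2.1
  let f : T ⟶ Magnet.AMonS (Spec (CommRingCat.of k)) (Fin r → ℤ) := e.hom.hom.hom
  let f' : Magnet.AMonS (Spec (CommRingCat.of k)) (Fin r → ℤ) ⟶ T := e.inv.hom.hom
  have hf : IsMonHom f := inferInstanceAs (IsMonHom e.hom.hom.hom)
  have hf' : IsMonHom f' := inferInstanceAs (IsMonHom e.inv.hom.hom)
  have hff' : f ≫ f' = 𝟙 T := congrArg (fun u => u.hom.hom) e.hom_inv_id
  have hsep : K691.Fps.Sep k (Fin r → ℤ) := K691.Fps.sep_pi r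
  obtain ⟨J, -, hJ⟩ := K691.MuTorus.exists_linear B hsep hB (f' ≫ i)
  refine ⟨J.card, fun q l => -(K691.MuTorus.pairing (l ≫ f) (J.equivFin.symm q).1.2 : ℚ) /
    (J.equivFin.symm q).1.1, ?_, ?_⟩
  · intro q l₁ l₂ _ _
    have h1 : (l₁ * l₂) ≫ f = (l₁ ≫ f) * (l₂ ≫ f) := MonObj.mul_comp _ _ _
    dsimp only
    rw [h1, K691.MuTorus.pairing_mul]
    push_cast
    ring
  · intro x
    obtain ⟨I, hIJ, hI⟩ := hJ x
    refine ⟨Finset.univ.filter fun q => (J.equivFin.symm q).1 ∈ I, ?_⟩
    intro l _ m
    have h1 : (l ≫ f) ≫ f' ≫ i = l ≫ i := by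
      rw [Category.assoc, ← Category.assoc f, hff', Category.id_comp]
    have h2 := hI (l ≫ f) m
    have h3 : HMNum.IsMu B (l ≫ i) x m ↔ HMNum.IsMu B ((l ≫ f) ≫ f' ≫ i) x m := by
      simp only [h1]
    rw [h3, h2]
    constructor
    · rintro ⟨p, hp, hmp, hmax⟩
      refine ⟨J.equivFin ⟨p, hIJ hp⟩, ?_, ?_, ?_⟩
      · rw [Finset.mem_filter]
        exact ⟨Finset.mem_univ _, by rw [Equiv.symm_apply_apply]; exact hp⟩
      · dsimp only
        rw [Equiv.symm_apply_apply]; exact hmp
      · intro q hq
        dsimp only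
        rw [Equiv.symm_apply_apply]
        exact hmax _ (Finset.mem_filter.1 hq).2
    · rintro ⟨q, hq, hmq, hmax⟩
      refine ⟨(J.equivFin.symm q).1, (Finset.mem_filter.1 hq).2, hmq, fun p hp => ?_⟩
      have h4 := hmax (J.equivFin ⟨p, hIJ hp⟩) (by
        rw [Finset.mem_filter]
        exact ⟨Finset.mem_univ _, by rw [Equiv.symm_apply_apply]; exact hp⟩)
      dsimp only at h4
      rw [Equiv.symm_apply_apply] at h4
      exact h4

end Groth.Agent.S19788
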