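import Groth.Statements.S19789
import Groth.Agent.GIT.K691.MuSub

set_option autoImplicit false
universe u
open CategoryTheory MonoidalCategory CartesianMonoidalCategory MonObj AlgebraicGeometry Opposite
open GIT

namespace Groth.Agent.S19789

/-- Let k be an algebraically closed field, G a connected reductive algebraic group over k, i : T → G a
maximal torus of G, X a scheme proper over k on which G acts, L an ample G-linearised line bundle on
X in total-space form, x a k-point of X, and λ₁, λ₂ one-parameter subgroups of T with pointwise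
product λ₁λ₂ (a one-parameter subgroup of T, which is commutative). Then μ^L(x, i∘(λ₁λ₂)) ≤ μ^L(x,
i∘λ₁) + μ^L(x, i∘λ₂): whenever the numerical function (the limit of the orbit as u → 0 exists and
𝔾_m acts on the fibre of L over it with the stated exponent) takes the values m₁ at i∘λ₁, m₂ at i∘λ₂
and m at i∘(λ₁λ₂), one has m ≤ m₁ + m₂. (The published statement is for any reductive G; this row
takes G connected.) -/
theorem result (k : Type u) [Field k] [IsAlgClosed k]
    (G X T : Over (Spec (CommRingCat.of k))) [GrpObj G] [GrpObj T] (hG : Red.IsReductive G)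
    (i : T ⟶ G) [IsMonHom i] (hi : Red.IsMaximalTorus i) [IsProper X.hom]
    (a : AlgGrp.Action G X) (B : GLinSh.LinBun G a) (hB : HMNum.AmpleCover B)
    (x : 𝟙_ (Over (Spec (CommRingCat.of k))) ⟶ X)
    (l₁ l₂ : Red.Gm (Spec (CommRingCat.of k)) ⟶ T) [IsMonHom l₁] [IsMonHom l₂] [IsMonHom ((l₁ * l₂) ≫ i)]
    (m₁ m₂ m : ℤ) (h₁ : HMNum.IsMu B (l₁ ≫ i) x m₁) (h₂ : HMNum.IsMu B (l₂ ≫ i) x m₂)
    (h : HMNum.IsMu B ((l₁ * l₂) ≫ i) x m) : m ≤ m₁ + m₂ := by
  obtain ⟨r, f, f', hf, hf', hff', -⟩ := K691.MuTorus.exists_split hi.2.2.1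
  have e : ∀ l : Red.Gm (Spec (CommRingCat.of k)) ⟶ T, (l ≫ f) ≫ (f' ≫ i) = l ≫ i := by
    intro l
    rw [Category.assoc, ← Category.assoc f f' i, hff', Category.id_comp]
  have e3 : ((l₁ ≫ f) * (l₂ ≫ f)) ≫ (f' ≫ i) = (l₁ * l₂) ≫ i := by
    rw [← MonObj.mul_comp, e]
  have hm : IsMonHom ((l₁ ≫ f) * (l₂ ≫ f)) := K691.MuTorus.isMonHom_mul
  have key : ∀ (l l' : Red.Gm (Spec (CommRingCat.of k)) ⟶ G) [IsMonHom l] [IsMonHom l']
      (_ : l = l') (n : ℤ), HMNum.IsMu B l x n → HMNum.IsMu B l' x n := by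
    intro l l' _ _ hl n hn
    subst hl
    exact hn
  exact K691.MuTorus.mu_mul_le B (K691.Fps.sep_pi r) hB (f' ≫ i) x (l₁ ≫ f) (l₂ ≫ f)
    (key _ _ (e l₁).symm _ h₁) (key _ _ (e l₂).symm _ h₂) (key _ _ e3.symm _ h)

end Groth.Agent.S19789
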