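import Groth.Statements.S19792
import Groth.Agent.SGA3x.K21.ImageLoc
import Groth.Agent.S19147
import Groth.Agent.Sga3B.CentSmooth
import Groth.Agent.SGA3x.K10.MTLoc

set_option autoImplicit false
open CategoryTheory MonoidalCategory CartesianMonoidalCategory MonObj GrpObj AlgebraicGeometry
universe u
open SGA3x

namespace Groth.Agent.S19792

open Groth.Agent Groth.Agent.Sga3B

lemma split_of_le {S : Scheme.{u}} {E : Over S} [GrpObj E] {M : Type} [AddCommGroup M] {U V : S.Opens} (h : V ≤ U)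
    (e : Red.IsSplitTorusWith M (Red.bc U.ι E)) : Red.IsSplitTorusWith M (Red.bc V.ι E) := by
  obtain ⟨i⟩ := CentSmooth.isSplit_bc U.ι (S.homOfLE h) e
  exact ⟨BcIso.bcCongrIso (S.homOfLE_ι h).symm E ≪≫ i⟩

/-- Let S be an arbitrary scheme and G an S-group of finite multiplicative type. The locally split
subtori of G (subgroup monomorphisms T ⟶ G with T Zariski-locally on S isomorphic to split tori
D(ℤ^r)) form a directed family: any two of them, E₁ ⟶ G and E₂ ⟶ G, both factor through a third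
locally split subtorus E₃ ⟶ G. -/
theorem result {S : Scheme.{u}} {G : Over S} [GrpObj G]
    (hG : SGA3x.IsMultTypeFT G) {E₁ E₂ : Over S} [GrpObj E₁] [GrpObj E₂]
    (j₁ : E₁ ⟶ G) [IsMonHom j₁] [Mono j₁] (j₂ : E₂ ⟶ G) [IsMonHom j₂] [Mono j₂]
    (h₁ : ∀ s : ↥S, ∃ U : S.Opens, s ∈ U ∧ ∃ r : ℕ, Red.IsSplitTorusWith (Fin r → ℤ) (Red.bc U.ι E₁))
    (h₂ : ∀ s : ↥S, ∃ U : S.Opens, s ∈ U ∧ ∃ r : ℕ, Red.IsSplitTorusWith (Fin r → ℤ) (Red.bc U.ι E₂)) :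
    ∃ (E₃ : Over S) (_ : GrpObj E₃) (j₃ : E₃ ⟶ G) (g₁ : E₁ ⟶ E₃) (g₂ : E₂ ⟶ E₃), IsMonHom j₃ ∧ Mono j₃ ∧
      (∀ s : ↥S, ∃ U : S.Opens, s ∈ U ∧ ∃ r : ℕ, Red.IsSplitTorusWith (Fin r → ℤ) (Red.bc U.ι E₃)) ∧
      g₁ ≫ j₃ = j₁ ∧ g₂ ≫ j₃ = j₂ := by
  have hcomm := K21.ImageLoc.mul_comm (K21.MultLoc.isMult_of_isMultTypeFT hG)
  have hGa : IsAffineHom G.hom := K10.MTLoc.isAffineHom hG
  have hGf : LocallyOfFinitePresentation G.hom := K10.MTLoc.locallyOfFinitePresentation hG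
  have hloc : ∀ s : S, ∃ U : S.Opens, s ∈ U ∧ ∃ r₁ r₂ : ℕ,
      Nonempty (Grp.mk (Red.bc U.ι (E₁ ⊗ E₂)) ≅ Grp.mk (Red.DS (U : Scheme.{u}) ((Fin r₁ → ℤ) × (Fin r₂ → ℤ)))) := by
    intro s
    obtain ⟨U₁, hU₁, r₁, e₁⟩ := h₁ s
    obtain ⟨U₂, hU₂, r₂, e₂⟩ := h₂ s
    exact ⟨U₁ ⊓ U₂, ⟨hU₁, hU₂⟩, r₁, r₂, K21.ImageLoc.nonempty_tensor (U₁ ⊓ U₂).ι (split_of_le inf_le_left e₁)
      (split_of_le inf_le_right e₂)⟩
  have hE : K21.MultLoc.IsMult (E₁ ⊗ E₂) := K21.MultLoc.isMult_of_zariski fun s => by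
    obtain ⟨U, hU, r₁, r₂, h⟩ := hloc s
    exact ⟨U, hU, _, inferInstance, h⟩
  let f : E₁ ⊗ E₂ ⟶ G := (fst E₁ E₂ ≫ j₁) * (snd E₁ E₂ ≫ j₂)
  have hf : IsMonHom f := InfConjFam.isMonHom_of_mul f fun X x y => by
    simp only [f, MonObj.comp_mul, ← Category.assoc, MonObj.mul_comp]
    rw [_root_.mul_assoc, ← _root_.mul_assoc (((y ≫ fst E₁ E₂) ≫ j₁)) ((x ≫ snd E₁ E₂) ≫ j₂),
      hcomm _ ((y ≫ fst E₁ E₂) ≫ j₁) ((x ≫ snd E₁ E₂) ≫ j₂), _root_.mul_assoc, ← _root_.mul_assoc, ← _root_.mul_assoc]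
  obtain ⟨Q, hQ, j, f', g1, g2, g3, g4, g5, g6, g7⟩ := K21.Image.exists_image hE f
  have hQa := K10.MTLoc.isAffineHom g4
  have hqc : QuasiCompact f'.left := by
    have hEa : IsAffineHom (E₁ ⊗ E₂).hom := K21.MultLoc.isAffineHom hE
    have : QuasiCompact (f'.left ≫ Q.hom) := by rw [Over.w f']; infer_instance
    exact QuasiCompact.of_comp _ Q.hom
  refine ⟨Q, hQ, j, lift (𝟙 E₁) 1 ≫ f', lift 1 (𝟙 E₂) ≫ f', g1, Sga3C.ClosedSub.mono_of_left j, fun s => ?_, ?_, ?_⟩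
  · obtain ⟨U, hU, r₁, r₂, h⟩ := hloc s
    obtain ⟨W, hsW, -, N, hfg, ⟨e⟩⟩ := K21.ImageLoc.exists_split_nhd f' j g7 U s hU h
    obtain ⟨r, ⟨b⟩⟩ := S19147.exists_addEquiv N hfg
    obtain ⟨i, -⟩ := K21.DSIso.exists_iso (S := (W : Scheme.{u})) b
    exact ⟨W, hsW, r, ⟨e ≪≫ i.symm⟩⟩
  · rw [Category.assoc, g7]
    simp only [f, MonObj.comp_mul, lift_fst_assoc, lift_snd_assoc, Category.id_comp, MonObj.one_comp, _root_.mul_one]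
  · rw [Category.assoc, g7]
    simp only [f, MonObj.comp_mul, lift_fst_assoc, lift_snd_assoc, Category.id_comp, MonObj.one_comp, _root_.one_mul]

end Groth.Agent.S19792
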