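import Groth.Statements.S19794
import Groth.Agent.SGA3x.K983.HomNormal
import Groth.Agent.SGA3x.K21.MultLoc
import Groth.Agent.SGA3x.K19.SplitTor
import Groth.Agent.S2280
import Groth.Agent.UnramA.NormalUnibranch

set_option autoImplicit false
open CategoryTheory MonoidalCategory CartesianMonoidalCategory MonObj GrpObj AlgebraicGeometry
universe u
open SGA3x

namespace Groth.Agent.S19794

open K983.HomNormal

/-- Let S be a connected, normal, locally Noetherian scheme, T an S-torus and T₀ ⟶ T its unique maximal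
split subtorus, i.e. a split subtorus through which every split subtorus of T factors. Then the
formation of T₀ commutes with Zariski localisation: for every open U ⊆ S, the restriction T₀|_U ⟶
T|_U is the greatest split subtorus of T|_U, that is, every split subtorus T' ⟶ T|_U with T' ≅
D_U(ℤ^{r'}) factors through T₀|_U. -/
theorem result {S : Scheme.{u}} [ConnectedSpace ↥S]
    [IsLocallyNoetherian S] (hnorm : ∀ x : ↥S, IsDomain (S.presheaf.stalk x) ∧ IsIntegrallyClosed (S.presheaf.stalk x))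
    {T T₀ : Over S} [GrpObj T] [GrpObj T₀] (hT : Red.IsTorus T) (j₀ : T₀ ⟶ T) [IsMonHom j₀] [Mono j₀] (r₀ : ℕ)
    (hT₀ : Red.IsSplitTorusWith (Fin r₀ → ℤ) T₀)
    (hmax : ∀ (T' : Over S) [GrpObj T'] (j' : T' ⟶ T) [IsMonHom j'] [Mono j'] (r' : ℕ),
      Red.IsSplitTorusWith (Fin r' → ℤ) T' → ∃ g : T' ⟶ T₀, g ≫ j₀ = j')
    (U : S.Opens) (T' : Over (U : Scheme.{u})) [GrpObj T'] (j' : T' ⟶ Red.bc U.ι T) [IsMonHom j'] [Mono j']
    (r' : ℕ) (hT' : Red.IsSplitTorusWith (Fin r' → ℤ) T') :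
    ∃ g : T' ⟶ Red.bc U.ι T₀, g ≫ (Over.pullback U.ι).map j₀ = j' := by
  rcases isEmpty_or_nonempty U with hU | hU
  · have h1 : IsEmpty T'.left := ⟨fun x => hU.false (T'.hom x)⟩
    let g : T'.left ⟶ (Red.bc U.ι T₀).left := (isInitialOfIsEmpty (X := T'.left)).to _
    refine ⟨Over.homMk g ((isInitialOfIsEmpty (X := T'.left)).hom_ext _ _), ?_⟩
    apply Over.OverMorphism.ext
    exact (isInitialOfIsEmpty (X := T'.left)).hom_ext _ _
  · have hint : IsIntegral S := (Groth.Agent.S2280.result S).2.mpr ⟨inferInstance, fun x => (hnorm x).1⟩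
    have hu : ∀ s : S, CAlg2.IsGeomUnibranch (S.presheaf.stalk s) := fun s => by
      have h1 := (hnorm s).1
      have h2 := (hnorm s).2
      exact Groth.Agent.UnramA.NormalUnibranch.isGeomUnibranch_of_isIntegrallyClosed _
    obtain ⟨r, j, hj, hjm, hgr⟩ := K19.SplitTor.exists_greatest hT
    obtain ⟨g₀, hg₀⟩ := hmax (Red.DS S (Fin r → ℤ)) j r (K19.SplitTor.isSplit_DS S _)
    obtain ⟨e⟩ := hT'
    let e' : Grp.mk T' ≅ Grp.mk (Red.bc U.ι (Red.DS S (Fin r' → ℤ))) :=
      e ≪≫ (Sga3B.TorusAlgClosed.dsBcIso U.ι (Fin r' → ℤ)).symm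
    let a : T' ≅ Red.bc U.ι (Red.DS S (Fin r' → ℤ)) := (Grp.forget _).mapIso e'
    have ha : IsMonHom a.hom := e'.hom.hom.isMonHom_hom
    have ha' : IsMonHom a.inv := inferInstance
    obtain ⟨φ, hφ, hφ'⟩ := exists_hom_of_hasExt (hasExt_opens hu U)
      (K21.MultLoc.isMultTypeFT_DS (S := S) (Fin r' → ℤ) (AddGroup.fg_iff_addMonoid_fg.2 inferInstance))
      (K21.MultLoc.isMultTypeFT_of_isTorus hT) (a.inv ≫ j')
    obtain ⟨g₁, hg₁⟩ := hgr (Red.DS S (Fin r' → ℤ)) φ r' (K19.SplitTor.isSplit_DS S _)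
    refine ⟨a.hom ≫ (Over.pullback U.ι).map (g₁ ≫ g₀), ?_⟩
    rw [Category.assoc, ← Functor.map_comp, Category.assoc, hg₀, hg₁, hφ', Iso.hom_inv_id_assoc]

end Groth.Agent.S19794
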