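import Groth.Statements.S19795
import Groth.Agent.SGA3x.K983.HomNormal
import Groth.Agent.SGA3x.K21.MultLoc
import Groth.Agent.UnramA.NormalUnibranch

set_option autoImplicit false
open CategoryTheory MonoidalCategory CartesianMonoidalCategory MonObj GrpObj AlgebraicGeometry
universe u
open SGA3x

namespace Groth.Agent.S19795

open K983.HomNormal

theorem hasExt_stalk {S : Scheme.{u}} [IsIntegral S]
    (hnorm : ∀ x : ↥S, IsDomain (S.presheaf.stalk x) ∧ IsIntegrallyClosed (S.presheaf.stalk x)) :
    HasExt (S.fromSpecStalk (genericPoint S)) := by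
  intro X hX b hb
  have hu : ∀ s : S, CAlg2.IsGeomUnibranch (S.presheaf.stalk s) := fun s => by
    have h1 := (hnorm s).1
    have h2 := (hnorm s).2
    exact Groth.Agent.UnramA.NormalUnibranch.isGeomUnibranch_of_isIntegrallyClosed _
  let ρ : Spec (S.residueField (genericPoint S)) ⟶ Spec (S.presheaf.stalk (genericPoint S)) :=
    Spec.map (S.residue (genericPoint S))
  have hρ : IsIso ρ := by
    have hf : IsField (S.presheaf.stalk (genericPoint S)) := Field.toIsField (S.functionField)
    have h1 : Function.Bijective (S.residue (genericPoint S)).hom := by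
      refine ⟨?_, IsLocalRing.residue_surjective⟩
      let _ := hf.toField
      exact RingHom.injective _
    have h2 : IsIso (S.residue (genericPoint S)) := by
      rw [ConcreteCategory.isIso_iff_bijective]
      exact h1
    infer_instance
  obtain ⟨σ, h1, h2⟩ := hasExt_generic hu X hX (ρ ≫ b) (by rw [Category.assoc, hb]; rfl)
  refine ⟨σ, h1, ?_⟩
  rw [← cancel_epi ρ, ← h2]
  rfl

/-- Let S be an integral, normal, locally Noetherian scheme with function field K, f : Spec K ⟶ S the
inclusion of the generic point, and T an S-torus. Then X_*(T)(S) = X_*(T)(K): every homomorphism of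
K-groups (𝔾_{m,S}) ×_S Spec K ⟶ T ×_S Spec K is the base change along f of exactly one homomorphism
of S-groups 𝔾_{m,S} ⟶ T. (The published statement assumes S connected, normal and locally
Noetherian, which makes S integral.) -/
theorem result {S : Scheme.{u}} [IsIntegral S]
    [IsLocallyNoetherian S] (hnorm : ∀ x : ↥S, IsDomain (S.presheaf.stalk x) ∧ IsIntegrallyClosed (S.presheaf.stalk x))
    {T : Over S} [GrpObj T] (hT : Red.IsTorus T)
    (lamK : Red.bc (S.fromSpecStalk (genericPoint S)) (Red.Gm S) ⟶ Red.bc (S.fromSpecStalk (genericPoint S)) T)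
    [IsMonHom lamK] :
    ∃! lam : Red.Gm S ⟶ T, IsMonHom lam ∧ (Over.pullback (S.fromSpecStalk (genericPoint S))).map lam = lamK := by
  have h1 : SGA3x.IsMultTypeFT (Red.Gm S) := K21.MultLoc.isMultTypeFT_DS ℤ inferInstance
  have h2 := K21.MultLoc.isMultTypeFT_of_isTorus hT
  obtain ⟨u, hu, huK⟩ := exists_hom_of_hasExt (hasExt_stalk hnorm) h1 h2 lamK
  refine ⟨u, ⟨hu, huK⟩, ?_⟩
  rintro u' ⟨hu', huK'⟩
  have hne : Nonempty (Spec (S.presheaf.stalk (genericPoint S))) := inferInstance
  exact hom_ext _ h1 h2 u' u (huK'.trans huK.symm)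

end Groth.Agent.S19795
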