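import Groth.Statements.S19796
import Groth.Agent.Curves.K334.Clifford
import Groth.Agent.Curves.K335.FinFlatDeg
import Groth.Agent.Curves.K323.Nondeg
import Groth.Agent.VarietyB.TwistQCoh

set_option autoImplicit false
universe u
open CategoryTheory CategoryTheory.Limits AlgebraicGeometry Opposite
open Curves

namespace Groth.Agent.S19796

section Pull

open OmegaSh

variable {X Y Z : Scheme.{u}} (f : X ⟶ Y) (g : Y ⟶ Z) (M : Z.Modules)

theorem inv_pullSect (U : Z.Opens) (s : Γ(M, U)) :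
    ((Scheme.Modules.pullbackComp f g).inv.app M).app ((f ≫ g) ⁻¹ᵁ U) (pullSect (f ≫ g) M U s) =
      pullSect f ((Scheme.Modules.pullback g).obj M) (g ⁻¹ᵁ U) (pullSect g M U s) := by
  have h := unit_conjugateEquiv ((Scheme.Modules.pullbackPushforwardAdjunction g).comp
    (Scheme.Modules.pullbackPushforwardAdjunction f)) (Scheme.Modules.pullbackPushforwardAdjunction (f ≫ g))
    (Scheme.Modules.pullbackComp f g).inv M
  rw [Scheme.Modules.conjugateEquiv_pullbackComp_inv] at h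
  exact congr(($(h).app U) s).symm

theorem hom_pullSect (U : Z.Opens) (s : Γ(M, U)) :
    ((Scheme.Modules.pullbackComp f g).hom.app M).app ((f ≫ g) ⁻¹ᵁ U)
      (pullSect f ((Scheme.Modules.pullback g).obj M) (g ⁻¹ᵁ U) (pullSect g M U s)) =
      pullSect (f ≫ g) M U s := by
  rw [← inv_pullSect]
  have h : (Scheme.Modules.pullbackComp f g).inv.app M ≫ (Scheme.Modules.pullbackComp f g).hom.app M = 𝟙 _ :=
    Iso.inv_hom_id_app _ _
  exact congr(($(h).app ((f ≫ g) ⁻¹ᵁ U)) (pullSect (f ≫ g) M U s))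

/-- Sections which vanish on `Y` vanish on `X`. -/
theorem pullSect_ne_zero (s : Γ(M, ⊤)) (h : pullSect (f ≫ g) M ⊤ s ≠ 0) : pullSect g M ⊤ s ≠ 0 := by
  intro h0
  apply h
  have h1 : pullSect f ((Scheme.Modules.pullback g).obj M) (g ⁻¹ᵁ ⊤) (pullSect g M ⊤ s) = 0 := by
    rw [h0]
    exact map_zero _
  exact (hom_pullSect f g M ⊤ s).symm.trans ((congrArg _ h1).trans (map_zero _))

end Pull

theorem numerics (a r c : ℕ) (hc : c + 2 ≤ r) (ha : 2 ≤ a) (D h0 h1 γ : ℤ) (hγ : 0 ≤ γ) (h1n : 0 ≤ h1)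
    (hdeg : (a : ℤ) * D = 2 * r + c) (hh0 : (r : ℤ) + 1 ≤ h0) (hRR : D = h0 - h1 - 1 + γ)
    (hcl : 0 < h1 → 2 * (h0 - 1) ≤ D) : a = 2 ∧ 2 * γ ≤ c := by
  have hc' : (c : ℤ) + 2 ≤ r := by exact_mod_cast hc
  have ha' : (2 : ℤ) ≤ a := by exact_mod_cast ha
  rcases h1n.lt_or_eq with h | h
  · exfalso
    have h2 := hcl h
    have h3 : 0 ≤ D := by omega
    have h4 : 2 * D ≤ a * D := mul_le_mul_of_nonneg_right ha' h3
    omega
  · subst h
    have h2 : (r : ℤ) + γ ≤ D := by omega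
    have h3 : 0 ≤ D := by omega
    have h5 : a = 2 := by
      by_contra hne
      have h6 : (3 : ℤ) ≤ a := by
        have : 3 ≤ a := by omega
        exact_mod_cast this
      have h4 : 3 * D ≤ a * D := mul_le_mul_of_nonneg_right h6 h3
      omega
    subst h5
    refine ⟨rfl, ?_⟩
    push_cast at hdeg
    omega

/-- Let X be a smooth projective curve over an algebraically closed field k of characteristic 0
(integral, proper over k, of dimension one, all local rings regular) and ψ : X ⟶ P^r_k a k-morphism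
which is non-degenerate (every nonzero global section of O(1) pulls back to a nonzero section of
ψ^*O(1)), with deg ψ^*O(1) = 2r + c for some 0 ≤ c ≤ r - 2; equivalently ψ is the map of a
base-point-free linear system of dimension r and degree 2r + c. Suppose ψ is not birational onto its
image, in the following form: ψ = π ≫ η ≫ j where π : X ⟶ Γ is a k-morphism, finite and flat of
constant rank a ≥ 2, onto a smooth projective curve Γ over k, j : Y ⟶ P^r_k is an integral closed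
subscheme and η : Γ ⟶ Y restricts to an isomorphism over a nonempty open subset of Y. Then a = 2 and
the genus γ of Γ satisfies 2γ ≤ c. Degrees are χ(·) - χ(O_X). -/
theorem result (k : Type u) [Field k] [IsAlgClosed k] [CharZero k] (X : Scheme.{u}) [X.Over (Spec (CommRingCat.of k))]
    [IsIntegral X] [IsProper (X ↘ (Spec (CommRingCat.of k)))] (hdim : topologicalKrullDim X = 1)
    (hreg : ∀ x : X, IsRegularLocalRing (X.presheaf.stalk x))
    (r c : ℕ) (hc : c + 2 ≤ r)
    (Γ : Scheme.{u}) [Γ.Over (Spec (CommRingCat.of k))] [IsIntegral Γ] [IsProper (Γ ↘ (Spec (CommRingCat.of k)))]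
    (hdimΓ : topologicalKrullDim Γ = 1) (hregΓ : ∀ y : Γ, IsRegularLocalRing (Γ.presheaf.stalk y))
    (π : X ⟶ Γ) (hπ : π ≫ (Γ ↘ Spec (CommRingCat.of k)) = X ↘ Spec (CommRingCat.of k))
    [IsFinite π] [Flat π] (a : ℕ) (ha2 : 2 ≤ a) (ha : ∀ y : Γ, Scheme.Hom.finrank π y = a)
    (Y : Scheme.{u}) [IsIntegral Y] (j : Y ⟶ CohB1.ProjSpace r k) [IsClosedImmersion j] (η : Γ ⟶ Y)
    (hη : η ≫ j ≫ CohB1.ProjSpace.toSpec r k = Γ ↘ Spec (CommRingCat.of k))
    (hbir : ∃ U : Y.Opens, (U : Set Y).Nonempty ∧ IsIso (η ∣_ U))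
    (hnd : ∀ s : LinSer.Sect (CohB1.ProjSpace r k) (Twist.twistProjSpace r k 1), s ≠ 0 → OmegaSh.pullSect (π ≫ η ≫ j) (Twist.twistProjSpace r k 1) ⊤ s ≠ 0)
    (hdeg : Curv2.deg k X ((Scheme.Modules.pullback (π ≫ η ≫ j)).obj (Twist.twistProjSpace r k 1)) 1 = 2 * r + c) :
    a = 2 ∧ 2 * Curv2.genus k Γ ≤ (c : ℤ) := by
  let O1 := Twist.twistProjSpace r k 1
  let L := (Scheme.Modules.pullback (η ≫ j)).obj O1
  have hL : PicF.IsInvertible L :=
    Groth.Agent.Fdesc.LocGen.isInvertible_pullback _ (Groth.Agent.VarietyB.TwistQCoh.isInvertible_twistProjSpace r k 1)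
  have h1 : Curv2.deg k X ((Scheme.Modules.pullback (π ≫ η ≫ j)).obj O1) 1 =
      Curv2.deg k X ((Scheme.Modules.pullback π).obj L) 1 :=
    K432.CurveDeg.dg_congr (X ↘ Spec (CommRingCat.of k)) ((Scheme.Modules.pullbackComp π (η ≫ j)).symm.app O1)
  have h2 := K335.FinFlatDeg.deg_pullback k hdimΓ π hπ a ha L hL
  have h3 : (a : ℤ) * Curv2.deg k Γ L 1 = 2 * r + c := by
    rw [← h2, ← h1]
    exact hdeg
  have hf0 := Groth.Agent.VarietyA.CurveFin.finite_HH k Γ hL 0
  have h4 := Groth.Agent.Curves.K323.Nondeg.succ_le_finrank k r Γ (η ≫ j)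
    (by rw [Category.assoc]; exact hη) (fun s hs => pullSect_ne_zero π (η ≫ j) O1 s (hnd s hs))
  have h5 := K334.Clifford.deg_eq' k hdimΓ.le L
  have h0pos : 0 < Module.finrank k (Coh.HH Γ L 0) := by
    have : r + 1 ≤ Module.finrank k (Coh.HH Γ L 0) := h4
    omega
  refine numerics a r c hc ha2 (Curv2.deg k Γ L 1) (Module.finrank k (Coh.HH Γ L 0))
    (Module.finrank k (Coh.HH Γ L 1)) (Curv2.genus k Γ) (Int.natCast_nonneg _) (Int.natCast_nonneg _) h3
    (by exact_mod_cast h4) h5 (fun h => ?_)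
  exact K334.Clifford.clifford k hdimΓ.le hL h0pos (by exact_mod_cast h)

end Groth.Agent.S19796
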