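import Groth.Statements.S19797
import Groth.Agent.Curves.K331.ProjSer
-- import your own Groth.Agent.* helpers here

set_option autoImplicit false
universe u
open CategoryTheory CategoryTheory.Limits AlgebraicGeometry Opposite
open Curves

open Groth.Agent.Grpsch.PicGrp K532.CurvePic K319.PicCD K331.Series K331.ProjSer

namespace Groth.Agent.S19797

/-- Let X be a smooth projective curve of genus g over an algebraically closed field k of characteristic
0 (integral, proper over k, of dimension one, all local rings regular) and ψ : X ⟶ P^r_k a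
k-morphism which is non-degenerate (every nonzero global section of O(1) pulls back to a nonzero
section of ψ^*O(1)), with deg ψ^*O(1) = 2r + c for some 0 ≤ c ≤ r - 2; equivalently ψ is the map of
a base-point-free linear system of dimension r and degree 2r + c. Suppose ψ is birational onto its
image: ψ = φ ≫ j with j : Y ⟶ P^r_k an integral closed subscheme and φ : X ⟶ Y restricting to an
isomorphism over a nonempty open subset of Y. Then g ≤ r + 2c + 1. (The published statement adds
that in the case g = r + 2c + 1 the curve is trigonal when c is positive and the system is canonical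
when c = 0; that refinement is not stated here.) -/
theorem result (k : Type u) [Field k] [IsAlgClosed k] [CharZero k] (X : Scheme.{u}) [X.Over (Spec (CommRingCat.of k))]
    [IsIntegral X] [IsProper (X ↘ (Spec (CommRingCat.of k)))] (hdim : topologicalKrullDim X = 1)
    (hreg : ∀ x : X, IsRegularLocalRing (X.presheaf.stalk x))
    (r c : ℕ) (hc : c + 2 ≤ r)
    (Y : Scheme.{u}) [IsIntegral Y] (j : Y ⟶ CohB1.ProjSpace r k) [IsClosedImmersion j] (φ : X ⟶ Y)
    (hφ : φ ≫ j ≫ CohB1.ProjSpace.toSpec r k = X ↘ Spec (CommRingCat.of k))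
    (hbir : ∃ U : Y.Opens, (U : Set Y).Nonempty ∧ IsIso (φ ∣_ U))
    (hnd : ∀ s : LinSer.Sect (CohB1.ProjSpace r k) (Twist.twistProjSpace r k 1), s ≠ 0 → OmegaSh.pullSect (φ ≫ j) (Twist.twistProjSpace r k 1) ⊤ s ≠ 0)
    (hdeg : Curv2.deg k X ((Scheme.Modules.pullback (φ ≫ j)).obj (Twist.twistProjSpace r k 1)) 1 = 2 * r + c) :
    Curv2.genus k X ≤ (r : ℤ) + 2 * c + 1 := by
  have hX : Reg X := ⟨hdim, hreg⟩
  have hC := hX.isCurve (k := k)
  let F : X ⟶ CohB1.ProjSpace r k := φ ≫ j
  have hF : F ≫ CohB1.ProjSpace.toSpec r k = X ↘ Spec (CommRingCat.of k) := (Category.assoc _ _ _).trans hφ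
  have hnd' := nondeg F hF hnd
  have hN : PicF.IsInvertible ((Scheme.Modules.pullback (φ ≫ j)).obj (Twist.twistProjSpace r k 1)) :=
    Groth.Agent.Ega2.H296.PnGen.isInvertible_pullback_twist F
  set a := mk _ hN with ha
  have hfin := finite_HH hC hN 0
  have hj : IsClosedImmersion (Y := Proj (MvPolynomial.homogeneousSubmodule (Fin (r + 1)) k)) j := ‹_›
  have hli := linearIndependent_co (n := r) (k := k) F hnd'
  have f1 : r + 1 ≤ h k X 0 a := le_finrank F hX hnd'
  obtain ⟨m, rfl⟩ : ∃ m, r = m + 1 := ⟨r - 1, by omega⟩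
  have hser : Ser k (Submodule.span k (Set.range (co (n := m + 1) (k := k) F))) (m + 2) :=
    { inv := hN
      dim := by
        rw [finrank_span_eq_card hli, Fintype.card_fin]
      bpf := fun x => by
        obtain ⟨i, hi⟩ := exists_genAt (n := m + 1) (k := k) F x
        exact ⟨_, Submodule.subset_span ⟨i, rfl⟩, hi⟩
      fld := fun _ => adjoin_ratios (n := m + 1) (k := k) F hF φ hbir j rfl _ fun i =>
        Submodule.subset_span ⟨i, rfl⟩ }
  by_cases hg : m ≤ gen k X
  · have key : 2 * h k X 0 a + m ≤ h k X 0 (a * a) + 1 := K331.Cast.three_mul_le hC hser hg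
    have hda : deg k X a = 2 * ((m + 1 : ℕ) : ℤ) + c := by
      rw [ha, deg_mk k X hdim hN]
      exact hdeg
    have hdaa : deg k X (a * a) = 4 * ((m + 1 : ℕ) : ℤ) + 2 * c := by
      rw [deg_mul hC, hda]
      ring
    have hrr := rr hC (a * a)
    by_cases hs : 0 < h k X 1 (a * a)
    · exfalso
      have hLL := Groth.Agent.Fdesc.LocGen.isInvertible_tensorMod hN hN
      have e2 : mk _ hLL = a * a := (mk_mul_mk hN hN).symm
      have g1 := K334.Clifford.clifford k hdim.le hLL (by rw [← h_mk k X 0 hLL, e2]; omega)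
        (by rw [← h_mk k X 1 hLL, e2]; exact hs)
      rw [← h_mk k X 0 hLL, ← deg_mk k X hdim hLL, e2, hdaa] at g1
      push_cast at g1
      omega
    · change _ = _ + 1 - (Curv2.genus k X : ℤ) at hrr
      push_cast at hrr hdaa ⊢
      omega
  · change ¬ m ≤ Curv2.genus k X at hg
    push_cast
    omega

end Groth.Agent.S19797
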