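import Groth.Statements.S19798
import Groth.Agent.S4049
import Groth.Agent.S4050
import Groth.Agent.SGA7.K567.SSField

set_option autoImplicit false
universe u
open CategoryTheory CategoryTheory.Limits AlgebraicGeometry MonObj Finset
open SGA7

namespace Groth.Agent.S19798

/-- Let R be a strictly henselian discrete valuation ring (henselian, with separably closed residue
field) with fraction field K, let Ω be a separable closure of K and A an abelian variety over K (a
proper, geometrically integral K-group scheme) of dimension g ≥ 1. Then A acquires semistable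
reduction over the integral closure of R in some subfield K' ⊆ Ω which is finite Galois over K of
degree dividing N(g) = 2^{3g + v₂(g!)} · ∏_{3 ≤ p ≤ 2g+1, p prime} p^{[2g/(p-1)] + Σ_{1 ≤ i ≤
[2g/(p-1)]} v_p(i)}; so the degree of the field of semistable reduction of A divides N(g), whose
prime factors are the primes p ≤ 2g + 1. -/
theorem result (R K Ω : Type u)
    [CommRing R] [IsDomain R] [IsDiscreteValuationRing R] [HenselianLocalRing R]
    [IsSepClosed (IsLocalRing.ResidueField R)]
    [Field K] [Algebra R K] [IsFractionRing R K] [Field Ω] [Algebra K Ω] [Algebra R Ω] [IsScalarTower R K Ω]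
    [IsSepClosure K Ω]
    (A : Over (Spec (CommRingCat.of K))) [GrpObj A] [IsProper A.hom] [GeometricallyIntegral A.hom]
    (g : ℕ) (hg1 : 1 ≤ g) (hg : topologicalKrullDim ↥A.left = g) :
    ∃ (K' : IntermediateField K Ω) (_ : FiniteDimensional K ↥K'), IsGalois K ↥K' ∧
      Module.finrank K ↥K' ∣ 2 ^ (3 * g + padicValNat 2 g.factorial) *
        ∏ p ∈ (Icc 3 (2 * g + 1)).filter Nat.Prime,
          p ^ ((2 * g) / (p - 1) + ∑ i ∈ Icc 1 ((2 * g) / (p - 1)), padicValNat p i) ∧
      SGA7.HasSemistableReduction ↥(integralClosure R ↥K') ↥K'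
        (Red.bc (Spec.map (CommRingCat.ofHom (algebraMap K ↥K'))) A) := by
  have _ := hg1
  exact K567.SSField.main (R := R) (K := K) (Ω := Ω) ⟨‹_›, ‹_›⟩ A
    (fun R K Ω _ _ _ _ _ _ _ _ _ W hW ℓ hℓ hℓp A _ _ _ => Groth.Agent.S4049.result R K Ω W hW ℓ hℓ hℓp A)
    (fun R K Ω _ _ _ _ _ _ _ _ _ W hW ℓ hℓ hℓp A _ _ _ => Groth.Agent.S4050.result R K Ω W hW ℓ hℓ hℓp A) g hg

end Groth.Agent.S19798
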