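import Groth.Statements.S19799
import Groth.Agent.Fdesc.GeomRed

set_option autoImplicit false
universe u v w
open scoped TensorProduct
open CAlg

namespace Groth.Agent.S19799


/-- Let k be an algebraically closed field and A, B commutative k-algebras, each finite-dimensional as a
k-vector space. Then reduction commutes with tensor products: the kernel of the canonical surjection
A ⊗_k B ⟶ (A/nilradical A) ⊗_k (B/nilradical B) equals the nilradical of A ⊗_k B, so that this
surjection induces an isomorphism (A ⊗_k B)_red ≅ A_red ⊗_k B_red and in particular A_red ⊗_k B_red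
is reduced. -/
theorem result (k : Type u) [Field k]
    [IsAlgClosed k] (A : Type v) [CommRing A] [Algebra k A] [Module.Finite k A]
    (B : Type w) [CommRing B] [Algebra k B] [Module.Finite k B] :
    RingHom.ker (Algebra.TensorProduct.map (Ideal.Quotient.mkₐ k (nilradical A))
      (Ideal.Quotient.mkₐ k (nilradical B))).toRingHom = nilradical (A ⊗[k] B) := by
  have hA : IsReduced (A ⧸ nilradical A) := (Ideal.isRadical_iff_quotient_reduced _).1 (Ideal.radical_isRadical _)
  have hB : IsReduced (B ⧸ nilradical B) := (Ideal.isRadical_iff_quotient_reduced _).1 (Ideal.radical_isRadical _)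
  have hred : IsReduced ((A ⧸ nilradical A) ⊗[k] (B ⧸ nilradical B)) :=
    Groth.Agent.Fdesc.GeomRed.isReduced_tensor_of_perfectField (k := k) (B ⧸ nilradical B) (A ⧸ nilradical A)
  apply le_antisymm
  · have h := Algebra.TensorProduct.map_ker (Ideal.Quotient.mkₐ k (nilradical A))
      (Ideal.Quotient.mkₐ k (nilradical B)) (Ideal.Quotient.mkₐ_surjective _ _) (Ideal.Quotient.mkₐ_surjective _ _)
    show RingHom.ker (Algebra.TensorProduct.map (Ideal.Quotient.mkₐ k (nilradical A))
      (Ideal.Quotient.mkₐ k (nilradical B))) ≤ _
    rw [h]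
    refine sup_le ?_ ?_
    · rw [Ideal.map_le_iff_le_comap]
      intro x hx
      have hx' : x ∈ nilradical A := Ideal.Quotient.eq_zero_iff_mem.1 hx
      exact mem_nilradical.2 ((mem_nilradical.1 hx').map _)
    · rw [Ideal.map_le_iff_le_comap]
      intro x hx
      have hx' : x ∈ nilradical B := Ideal.Quotient.eq_zero_iff_mem.1 hx
      exact mem_nilradical.2 ((mem_nilradical.1 hx').map _)
  · intro x hx
    have h1 : IsNilpotent ((Algebra.TensorProduct.map (Ideal.Quotient.mkₐ k (nilradical A))
      (Ideal.Quotient.mkₐ k (nilradical B))).toRingHom x) := (mem_nilradical.1 hx).map _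
    exact h1.eq_zero

end Groth.Agent.S19799
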