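import Groth.Statements.S19800
import Groth.Agent.Variety.K418.HypInt

set_option autoImplicit false
universe u
open CategoryTheory CategoryTheory.Limits AlgebraicGeometry
open Variety

namespace Groth.Agent.S19800

/-- Let k be an algebraically closed field and X a normal projective variety over k of dimension d ≥ 2,
given as an integral scheme whose local rings are integrally closed domains, with a closed immersion
ι : X ⟶ P^n_k. Then X has an integral hyperplane section: there is a global section s of O(1) on
P^n_k, with zero scheme the hyperplane H, such that X is not contained in H and the scheme-theoretic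
intersection X ∩ H = X ×_{P^n_k} H is integral. (The published statement is over an arbitrary field
k and asserts that the scheme of geometrically integral divisors in the class of a very ample
divisor is nonempty; this row states its content over an algebraically closed field, for the
hyperplane sections of a given closed embedding.) -/
theorem result (k : Type u) [Field k] [IsAlgClosed k] (n : ℕ)
    (X : Scheme.{u}) [IsIntegral X] (hXn : Pi1.IsNormalScheme X) (d : ℕ) (hd : topologicalKrullDim ↥X = d) (h2 : 2 ≤ d)
    (ι : X ⟶ CohB1.ProjSpace n k) [IsClosedImmersion ι] :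
    ∃ s : Coh.structureModule (CohB1.ProjSpace n k) ⟶ Twist.twistProjSpace n k 1,
      (∃ x : ↥X, ι.base x ∉ (PicF2.zeroScheme (Twist.twistProjSpace n k 1) s).support) ∧
      IsIntegral (pullback ι (PicF2.zeroScheme (Twist.twistProjSpace n k 1) s).subschemeι) := by
  have hinf : Infinite k := inferInstance
  obtain ⟨G, hG, hG'⟩ := K418.HypInt.exists_poly_isIntegral ι hXn d hd h2
  obtain ⟨a, ha⟩ : ∃ a : Fin (n + 1) → k, MvPolynomial.eval a G ≠ 0 := by
    by_contra hcon
    push Not at hcon
    exact hG (MvPolynomial.funext fun x => by rw [hcon x, map_zero])
  have ha' : MvPolynomial.eval (K418.HypInt.cf (K658.ProjSec.lin a)) G ≠ 0 := by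
    have h1 : K418.HypInt.cf (K658.ProjSec.lin a) = a := funext fun i => K658.ProjSec.coeff_lin a i
    rw [h1]
    exact ha
  obtain ⟨h3, h4⟩ := hG' (K658.ProjSec.lin a) ha'
  refine ⟨K658.SecSmooth.secOf (K658.ProjSec.lin a), ⟨genericPoint X, ?_⟩, h4⟩
  intro h5
  exact h3 ((K658.SecSmooth.mem_support_iff (K658.ProjSec.lin a) (ι (genericPoint X))).mp h5)


end Groth.Agent.S19800
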