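import Groth.Statements.S7649
import Groth.Agent.Variety.K420.IntCoeff
import Groth.Agent.Variety.K420.DiagPoly
import Groth.Agent.Grpsch.PicGrp
import Groth.Agent.Fga.PosMain
import Groth.Agent.S0051
import Groth.Agent.VarietyA.EulerFinite

set_option autoImplicit false
universe u
open CategoryTheory CategoryTheory.Limits AlgebraicGeometry
open Variety

namespace Groth.Agent.S7649

open Groth.Agent.Fga.PicMon K420.IntCoeff Groth.Agent.Fdesc.LocGen

theorem mem_support_unit {X : Scheme.{u}} (x : X) : x ∈ CohB1.support (Coh.structureModule X) := by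
  intro hsub
  have h1 : (Coh.structureModule X).presheaf.germ ⊤ x (TopologicalSpace.Opens.mem_top _) (one ⊤) = 0 :=
    Subsingleton.elim _ _
  obtain ⟨V, hVU, hxV, hV⟩ := VarietyB.ExactLoc.exists_res_eq_zero (Coh.structureModule X)
    (TopologicalSpace.Opens.mem_top _) _ h1
  have h2 : one (X := X) V = 0 := by
    rw [← res_one hVU]
    exact hV
  have h5 : (1 : Γ(X, V)) = 0 := by
    apply (isGen_one V).ext
    rw [h2, smul_zero, smul_zero]
  have : Nonempty V := ⟨⟨x, hxV⟩⟩
  exact one_ne_zero h5

/-- Let X be proper over a field k of dimension d and L an ample invertible module. With deg_L(X) the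
coefficient of n_1⋯n_d in the polynomial computing χ(X, L^{⊗n_1} ⊗ ⋯ ⊗ L^{⊗n_d}) and c =
deg_L(X)/d!, the constant c is positive and dim_k Γ(X, L^{⊗n}) = c·n^d + lower order terms; here the
lower-order bound is written as |dim_k H^0(X, L^{⊗n}) − c·n^d| ≤ C·(n+1)^{d−1} for a constant C and
all n ≥ 0. -/
theorem result (k : Type u) [Field k] (X : Scheme.{u}) [X.Over (Spec (CommRingCat.of k))] [IsProper (X ↘ (Spec (CommRingCat.of k)))]
    (d : ℕ) (hX : topologicalKrullDim X = d) (L : X.Modules) (hL : CohB1.IsAmple L)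
    (P : MvPolynomial (Fin d) ℚ)
    (hP : ∀ n : Fin d → ℕ, (Curv2.euler k X (Curv2.tensorPows (Coh.structureModule X) d (fun _ => L) n) : ℚ) = MvPolynomial.eval (fun i => (n i : ℚ)) P) :
    0 < MvPolynomial.coeff (Finsupp.equivFunOnFinite.symm fun _ : Fin d => 1) P ∧
      ∃ C : ℚ, ∀ n : ℕ,
        |(Module.finrank k (Coh.HH X (CohB1.tensorPow L n) 0) : ℚ) -
            MvPolynomial.coeff (Finsupp.equivFunOnFinite.symm fun _ : Fin d => 1) P / (d.factorial : ℚ) * (n : ℚ) ^ d| ≤
          C * ((n : ℚ) + 1) ^ (d - 1) := by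
  have hN : IsNoetherian X := Fga.SnapperTwist.isNoetherian_of_proper k X
  have hinv : PicF.IsInvertible L := hL.1
  obtain ⟨N, hN1, hN2⟩ := Grpsch.PicGrp.exists_inverse hinv
  have hcO : Coh.IsCoh (Coh.structureModule X) := CurvesB.UnitCoh.isCoh_structureModule X
  have hdim : topologicalKrullDim (CohB1.support (Coh.structureModule X)) = d := by
    rw [Set.eq_univ_of_forall (mem_support_unit (X := X)), ← hX]
    exact IsHomeomorph.topologicalKrullDim_eq _ (Homeomorph.Set.univ X).isHomeomorph
  have hLN : ∀ _ : Fin d, mc L * mc N = 1 := fun _ => by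
    rw [← mc_tensor, ← mc_one]
    exact (mc_eq_iff _ _).2 hN2
  have h1 := coeff_eq_intNum' k d hX.le hcO hdim.le (fun _ => hinv) (fun _ => hN1) hLN hP
  have h2 := Fga.PosMain.intNum_pos k X d hX.le (fun _ : Fin d => L) (fun _ => N) (fun _ => hL)
    (fun _ => hN2) (Coh.structureModule X) hcO hdim
  have hpos : 0 < MvPolynomial.coeff (Finsupp.equivFunOnFinite.symm fun _ : Fin d => 1) P := by
    rw [h1]; exact_mod_cast h2
  refine ⟨hpos, ?_⟩
  -- the Hilbert polynomial
  obtain ⟨Q, hQd, hQ⟩ := S1528.result k X (Coh.structureModule X) hcO d hdim.le 1 (fun _ => L)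
    (fun _ => hinv)
  let p : Polynomial ℚ := MvPolynomial.aeval (fun _ => Polynomial.X) Q
  have hpd : p.natDegree ≤ d := by
    have := MvPolynomial.aeval_natDegree_le Q hQd (fun _ : Fin 1 => (Polynomial.X : Polynomial ℚ))
      (n := 1) (fun _ => Polynomial.natDegree_X_le)
    simpa using this
  have hp : ∀ t : ℚ, p.eval t = MvPolynomial.eval (fun _ => t) Q := by
    intro t
    have h5 : (Polynomial.evalRingHom t) (MvPolynomial.aeval (fun _ => Polynomial.X) Q) =
        MvPolynomial.eval (fun _ => t) Q := by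
      rw [MvPolynomial.aeval_def, MvPolynomial.hom_eval₂]
      simp only [Polynomial.coe_evalRingHom, Polynomial.eval_X]
      have h6 : (Polynomial.evalRingHom t).comp (algebraMap ℚ (Polynomial ℚ)) = RingHom.id ℚ :=
        RingHom.ext fun x => by simp
      rw [h6]
      rfl
    exact h5
  have hval : ∀ n : ℕ, ((eulerCl k (Coh.structureModule X) (mc L ^ n) : ℤ) : ℚ) = p.eval (n : ℚ) := by
    intro n
    have := hQ (fun _ => n)
    rw [euler_tensorPows] at this
    rw [hp, ← this]
    simp
  have hc := K420.DiagPoly.coeff_ones hpd (totalDegree_le k hcO hdim.le (fun _ => hinv) hP)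
    (fun n => by
      rw [← hP n, euler_tensorPows, Finset.prod_pow_eq_pow_sum, hval]
      push_cast
      rfl)
  have hc' : MvPolynomial.coeff (Finsupp.equivFunOnFinite.symm fun _ : Fin d => 1) P /
      (d.factorial : ℚ) = p.coeff d := by
    rw [div_eq_iff (by exact_mod_cast d.factorial_ne_zero)]
    exact hc
  rw [hc']
  obtain ⟨n₀, hn₀⟩ := (S0051.result k X (X ↘ (Spec (CommRingCat.of k))) L hinv).1 hL
    (Coh.structureModule X) hcO
  refine K420.DiagPoly.exists_bound hpd _ n₀ fun n hn => ?_
  rw [← hval]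
  have e : CohB1.tensorMod (Coh.structureModule X) (CohB1.tensorPow L n) ≅ CohB1.tensorPow L n :=
    Ega2.Tens.lunit _
  have e' : CohB1.tensorMod (CohB1.tensorPow L n) (Coh.structureModule X) ≅
      CohB1.tensorMod (Coh.structureModule X) (CohB1.tensorPow L n) := Ega2.Tens.swap _ _
  have h3 : eulerCl k (Coh.structureModule X) (mc L ^ n) =
      Curv2.euler k X (CohB1.tensorMod (Coh.structureModule X) (CohB1.tensorPow L n)) := by
    rw [← mc_tensorPow, eulerCl_mc]
    exact euler_congr k e'
  rw [h3, VarietyA.EulerFinite.euler_eq_of_vanish k X _ (fun i hi => hn₀ n hn i hi),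
    (hmapEquiv k X e 0).finrank_eq]
  simp

end Groth.Agent.S7649
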