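import Groth.Statements.S19801
import Groth.Agent.Variety.K433.VolBig

set_option autoImplicit false
universe u
open CategoryTheory CategoryTheory.Limits AlgebraicGeometry Asymptotics
open Variety

namespace Groth.Agent.S19801

/-- Let X be a projective variety of dimension d over a field k, i.e. a geometrically integral scheme
proper over k admitting an ample invertible module, with dim X = d; let L be an invertible
O_X-module and F a coherent O_X-module. Then dim_k H^0(X, F ⊗ L^m) = O(m^d) as m → ∞. -/
theorem result (k : Type u) [Field k] (X : Scheme.{u})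
    [X.Over (Spec (CommRingCat.of k))] [IsIntegral X] [GeometricallyIntegral (X ↘ Spec (CommRingCat.of k))]
    [IsProper (X ↘ Spec (CommRingCat.of k))] (hproj : ∃ A : X.Modules, CohB1.IsAmple A)
    (d : ℕ) (hd : topologicalKrullDim X = d) (L : X.Modules) (hL : PicF.IsInvertible L)
    (F : X.Modules) (hF : Coh.IsCoh F) :
    (fun m : ℕ => (Module.finrank k (Coh.HH X (CohB1.tensorMod F (CohB1.tensorPow L m)) 0) : ℝ)) =O[Filter.atTop]
      (fun m : ℕ => (m : ℝ) ^ d) := by
  obtain ⟨H, hH⟩ := hproj
  have hdim : topologicalKrullDim (CohB1.support F) ≤ d :=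
    (Topology.IsInducing.subtypeVal.topologicalKrullDim_le).trans hd.le
  obtain ⟨C, hC⟩ := K433.Growth.growth_pow k hH (Groth.Agent.Grpsch.PicGrp.mk L hL) hF hdim 0
  refine Asymptotics.IsBigO.of_bound (C * 2 ^ d) ?_
  filter_upwards [Filter.eventually_ge_atTop 1] with m hm
  have h1 := hC m
  rw [← K433.Growth.hq_tensorPow k 0 F hL m, K433.Hq.hh_def, K433.Growth.phi_succ] at h1
  have hm1 : (1 : ℝ) ≤ m := by exact_mod_cast hm
  rw [Real.norm_of_nonneg (Nat.cast_nonneg _), Real.norm_of_nonneg (by positivity)]
  calc (Module.finrank k (Coh.HH X (CohB1.tensorMod F (CohB1.tensorPow L m)) 0) : ℝ)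
      ≤ C * ((m : ℝ) + 1) ^ d := by exact_mod_cast h1
    _ ≤ C * (2 * m) ^ d := by gcongr; linarith
    _ = C * 2 ^ d * (m : ℝ) ^ d := by rw [mul_pow]; ring

end Groth.Agent.S19801
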