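import Groth.Statements.S19808
import Groth.Agent.CohProp.K990.SetCP

set_option autoImplicit false
universe u
open CategoryTheory CategoryTheory.Limits AlgebraicGeometry Opposite
open CohProp

namespace Groth.Agent.S19808

/-- Sheaves of sets: let S be a Noetherian scheme, b : Y → S and f : X → Y morphisms of finite type, and
F a constructible sheaf of sets on the small etale site of X. Then there is a dense open U of S,
depending on F, such that, writing f_U : X_U → Y_U for the restriction of f over U and F_U for the
inverse image of F on X_U, the pair (f_U, F_U) is cohomologically proper relative to U in dimension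
≤ 0: for every scheme S' over U and all cartesian squares Y' = Y_U ×_U S', X' = X_U ×_{Y_U} Y', the
base change morphism g^* f_{U*} F_U → f'_* h^* F_U is an isomorphism of sheaves of sets on the small
etale site of Y'. (The published statement is for constructible ind-finite stacks and also asserts
that the direct image f_{U*} F_U is constructible; this row is its case of sheaves of sets, without
the constructibility conclusion.) -/
theorem result {X Y S : Scheme.{u}} [IsNoetherian S]
    (f : X ⟶ Y) (b : Y ⟶ S) [LocallyOfFiniteType f] [QuasiCompact f] [LocallyOfFiniteType b] [QuasiCompact b]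
    (F : EtDesc.Sh X) (hF : CohProp.IsConstructibleSet F) :
    ∃ U : S.Opens, Dense (U : Set S) ∧
      CohProp.IsCohPropSet (b ∣_ U) (f ∣_ b ⁻¹ᵁ U) ((EtDesc.pullSh (f ⁻¹ᵁ b ⁻¹ᵁ U).ι).obj F) := by
  exact K990.CohProp.exists_dense_open_isCohPropSet f b F hF

end Groth.Agent.S19808
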