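import Groth.Statements.S19810
import Groth.Agent.CohProp.K990.LCF4

set_option autoImplicit false
universe u
open CategoryTheory CategoryTheory.Limits AlgebraicGeometry Opposite
open CohProp

namespace Groth.Agent.S19810

/-- Sheaves of sets: let S be a Noetherian scheme, f : X → S a morphism of finite type and F a
constructible sheaf of sets on the small etale site of X. Then there is a dense open U of S such
that, writing f_U : X_U → U for the restriction of f over U and F_U for the inverse image of F on
X_U, the direct image f_{U*} F_U is locally constant on U and its formation commutes with every base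
change: the pair (f_U, F_U) is cohomologically proper relative to U in dimension ≤ 0. (The published
statement is for constructible ind-finite stacks and also asserts that f_{U*} F_U is constructible;
this row is its case of sheaves of sets, without the constructibility conclusion.) -/
theorem result {X S : Scheme.{u}}
    [IsNoetherian S] (f : X ⟶ S) [LocallyOfFiniteType f] [QuasiCompact f]
    (F : EtDesc.Sh X) (hF : CohProp.IsConstructibleSet F) :
    ∃ U : S.Opens, Dense (U : Set S) ∧
      CohProp.IsLocConstSet ((EtDesc.pushSh (f ∣_ U)).obj ((EtDesc.pullSh (f ⁻¹ᵁ U).ι).obj F)) ∧
      CohProp.IsCohPropSet (𝟙 (U : Scheme.{u})) (f ∣_ U) ((EtDesc.pullSh (f ⁻¹ᵁ U).ι).obj F) := by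
  exact K990.CohProp.exists_dense_open_push_isLocConstSet_and_isCohPropSet f F hF

end Groth.Agent.S19810
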