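import Groth.Statements.S19812
import Groth.Agent.Variety.K436.DivVol

set_option autoImplicit false
universe u
open CategoryTheory CategoryTheory.Limits AlgebraicGeometry
open scoped ENNReal
open Variety

namespace Groth.Agent.S19812

/-- Let k be an algebraically closed field of characteristic zero, X and Y integral normal schemes of
dimension d ≥ 1 which are proper over k and admit ample invertible modules (normal projective
varieties), and f : Y → X a finite dominant k-morphism of degree n (the residue degree at the
generic point). Let E be a Weil divisor on Y and D a Weil divisor on X, both locally principal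
(Cartier), such that D is the push-forward of E along f as a cycle, every point being counted with
its residue degree. Writing v_Y(E) for the upper limit of dim_k H^0(Y, O_Y(mE))/m^d and v_X(D)
likewise (volumes without the factor d!, in the extended non-negative reals), one has n^(d−1) ·
v_Y(E) ≤ v_X(D). (The published statement is over an arbitrary field of any characteristic and
defines the push-forward through norms of local equations; this row assumes the base field
algebraically closed of characteristic zero and uses the cycle-theoretic push-forward, which agrees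
with the norm construction for a finite dominant morphism of normal varieties.) -/
theorem result (k : Type u) [Field k] [IsAlgClosed k] [CharZero k]
    (X Y : Scheme.{u}) [X.Over (Spec (CommRingCat.of k))] [Y.Over (Spec (CommRingCat.of k))]
    [IsIntegral X] [IsIntegral Y] [IsLocallyNoetherian X] [IsLocallyNoetherian Y]
    [IsProper (X ↘ Spec (CommRingCat.of k))] [IsProper (Y ↘ Spec (CommRingCat.of k))]
    (hXproj : ∃ A : X.Modules, CohB1.IsAmple A) (hYproj : ∃ B : Y.Modules, CohB1.IsAmple B)
    (hXn : Pi1.IsNormalScheme X) (hYn : Pi1.IsNormalScheme Y)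
    (d : ℕ) (hd1 : 1 ≤ d) (hdX : topologicalKrullDim X = d) (hdY : topologicalKrullDim Y = d)
    (f : Y ⟶ X) (hf : f ≫ (X ↘ Spec (CommRingCat.of k)) = Y ↘ Spec (CommRingCat.of k)) [IsFinite f]
    (hdom : f.base (genericPoint Y) = genericPoint X)
    (n : ℕ) (hn : f.residueDegree (genericPoint Y) = n) (hn0 : 0 < n)
    (E : WDiv.Divisor Y ℤ) (D : WDiv.Divisor X ℤ)
    (hE : ∀ x : Y, ∃ U : Y.Opens, x ∈ U ∧ ∃ φ : Y.functionField, φ ≠ 0 ∧ ∀ x' : Y, x' ∈ U → E.1 x' = WDiv.divFun Y φ x')
    (hD : ∀ x : X, ∃ U : X.Opens, x ∈ U ∧ ∃ φ : X.functionField, φ ≠ 0 ∧ ∀ x' : X, x' ∈ U → D.1 x' = WDiv.divFun X φ x')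
    (hpush : AlgebraicCycle.map f (fun _ : ↥Y => PUnit.unit.{1}) (fun _ : ↥X => PUnit.unit.{1}) E.1 = D.1) :
    (n : ℝ≥0∞) ^ (d - 1) *
        Filter.limsup (fun m : ℕ => (Module.finrank k
          (Coh.HH Y (WDiv.divSh (fun y : ↥Y => (m : ℤ) * E.1 y)) 0) : ℝ≥0∞) / (m : ℝ≥0∞) ^ d) Filter.atTop ≤
      Filter.limsup (fun m : ℕ => (Module.finrank k
          (Coh.HH X (WDiv.divSh (fun x : ↥X => (m : ℤ) * D.1 x)) 0) : ℝ≥0∞) / (m : ℝ≥0∞) ^ d) Filter.atTop := by
  exact K436.DivVol.main hXproj hXn hYn d hd1 hdX f hf hdom n hn E D hE hD hpush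

end Groth.Agent.S19812
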