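import Groth.Statements.S19813
import Groth.Agent.Variety.K436.DivVolB

set_option autoImplicit false
universe u
open CategoryTheory CategoryTheory.Limits AlgebraicGeometry
open scoped ENNReal
open Variety

namespace Groth.Agent.S19813

/-- Let k be an algebraically closed field of characteristic zero, X and Y integral normal schemes of
dimension d ≥ 1 which are proper over k and admit ample invertible modules, f : Y → X a finite
dominant k-morphism of degree n (the residue degree at the generic point), D a locally principal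
(Cartier) Weil divisor on X which is big (the lower limit of dim_k H^0(X, O_X(jD))/j^d is positive)
and D′ an effective locally principal Weil divisor on X. Let v be the upper limit of dim_k H^0(X,
O_X(jD))/j^d. Then for every ε > 0 there is m₀ such that for every m ≥ m₀ and every locally
principal Weil divisor E on Y whose cycle push-forward f_*E along f (points counted with their
residue degrees) is locally principal and numerically equivalent to mD + D′, in the sense that
O_X(f_*E − mD − D′) has degree zero on every integral closed curve, one has dim_k H^0(Y, O_Y(E)) ≤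
(v / n^(d−1) + ε) · m^d: adding a fixed effective divisor to the classes mD does not raise the
asymptotic bound. (The published statement is over an arbitrary field of any characteristic with the
push-forward defined through norms; here the base field is algebraically closed of characteristic
zero and the push-forward is the cycle-theoretic one.) -/
theorem result (k : Type u) [Field k] [IsAlgClosed k] [CharZero k]
    (X Y : Scheme.{u}) [X.Over (Spec (CommRingCat.of k))] [Y.Over (Spec (CommRingCat.of k))]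
    [IsIntegral X] [IsIntegral Y] [IsLocallyNoetherian X] [IsLocallyNoetherian Y]
    [IsProper (X ↘ Spec (CommRingCat.of k))] [IsProper (Y ↘ Spec (CommRingCat.of k))]
    (hXproj : ∃ A : X.Modules, CohB1.IsAmple A) (hYproj : ∃ B : Y.Modules, CohB1.IsAmple B)
    (hXn : Pi1.IsNormalScheme X) (hYn : Pi1.IsNormalScheme Y)
    (d : ℕ) (hd1 : 1 ≤ d) (hdX : topologicalKrullDim X = d) (hdY : topologicalKrullDim Y = d)
    (f : Y ⟶ X) (hf : f ≫ (X ↘ Spec (CommRingCat.of k)) = Y ↘ Spec (CommRingCat.of k)) [IsFinite f]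
    (hdom : f.base (genericPoint Y) = genericPoint X)
    (n : ℕ) (hn : f.residueDegree (genericPoint Y) = n) (hn0 : 0 < n)
    (D D' : WDiv.Divisor X ℤ)
    (hD : ∀ x : X, ∃ U : X.Opens, x ∈ U ∧ ∃ φ : X.functionField, φ ≠ 0 ∧ ∀ x' : X, x' ∈ U → D.1 x' = WDiv.divFun X φ x')
    (hD' : ∀ x : X, ∃ U : X.Opens, x ∈ U ∧ ∃ φ : X.functionField, φ ≠ 0 ∧ ∀ x' : X, x' ∈ U → D'.1 x' = WDiv.divFun X φ x') (hD'eff : WDiv.IsEffective D')
    (hbig : 0 < Filter.liminf (fun j : ℕ => (Module.finrank k
      (Coh.HH X (WDiv.divSh (fun x : ↥X => (j : ℤ) * D.1 x)) 0) : ℝ≥0∞) / (j : ℝ≥0∞) ^ d) Filter.atTop) :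
    ∀ ε : ℝ≥0∞, 0 < ε → ∃ m₀ : ℕ, ∀ m : ℕ, m₀ ≤ m → ∀ E : WDiv.Divisor Y ℤ,
      (∀ x : Y, ∃ U : Y.Opens, x ∈ U ∧ ∃ φ : Y.functionField, φ ≠ 0 ∧ ∀ x' : Y, x' ∈ U → E.1 x' = WDiv.divFun Y φ x') →
      (∀ x : X, ∃ U : X.Opens, x ∈ U ∧ ∃ φ : X.functionField, φ ≠ 0 ∧ ∀ x' : X, x' ∈ U → AlgebraicCycle.map f (fun _ : ↥Y => PUnit.unit.{1}) (fun _ : ↥X => PUnit.unit.{1}) E.1 x' = WDiv.divFun X φ x') →
      Pic13.IsNumEquivZero k X
          (WDiv.divSh (fun x : ↥X => AlgebraicCycle.map f (fun _ : ↥Y => PUnit.unit.{1}) (fun _ : ↥X => PUnit.unit.{1}) E.1 x - (m : ℤ) * D.1 x - D'.1 x)) →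
        (Module.finrank k (Coh.HH Y (WDiv.divSh (fun y : ↥Y => E.1 y)) 0) : ℝ≥0∞) ≤
          (Filter.limsup (fun j : ℕ => (Module.finrank k
            (Coh.HH X (WDiv.divSh (fun x : ↥X => (j : ℤ) * D.1 x)) 0) : ℝ≥0∞) / (j : ℝ≥0∞) ^ d) Filter.atTop /
              (n : ℝ≥0∞) ^ (d - 1) + ε) * (m : ℝ≥0∞) ^ d := by
  exact K436.DivVol.main2 hXproj hXn hYn d hd1 hdX f hf hdom n hn hn0 D D' hD hD'

end Groth.Agent.S19813
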