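import Groth.Statements.S19814
import Groth.Agent.NoriFGS.K996.Ptd

set_option autoImplicit false
universe u
open CategoryTheory CategoryTheory.Limits MonoidalCategory CartesianMonoidalCategory MonObj GrpObj AlgebraicGeometry
open NoriFGS
open AlgGrp AlgGrp.Action K996 K996.Pts K996.KAct K996.Sub K996.LocSplit K996.Conj K996.Induced K996.NR K996.Ptd

namespace Groth.Agent.S19814

/-- Let X and Y be schemes over a field k with rational points x and y, each possessing a fundamental
group scheme with its universal pointed torsor, let f : X → Y be a k-morphism sending x to y, and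
let φ be the homomorphism of fundamental group schemes induced by f. Then φ is trivial if and only
if, for every finite group scheme H over k and every H-torsor U over Y (locally trivial for the fpqc
topology) pointed over y which is Nori-reduced, the pull-back of U to X is a trivial torsor, i.e. U
acquires a section over f. (The published statement quantifies over all Nori-reduced finite torsors
over Y; this row quantifies over those pointed over y, as the printed proof does: for unpointed
torsors the forward implication fails over a field that is not algebraically closed. The source's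
standing convention for that chapter assumes the base field has characteristic p > 0; the printed
proof uses no characteristic hypothesis, so the row states it for any field.) -/
theorem result
    (k : Type u) [Field k] (X Y : Scheme.{u})
    [X.Over (Spec (CommRingCat.of k))] [Y.Over (Spec (CommRingCat.of k))]
    (x : Spec (CommRingCat.of k) ⟶ X) (y : Spec (CommRingCat.of k) ⟶ Y)
    (hx : x ≫ (X ↘ Spec (CommRingCat.of k)) = 𝟙 _) (hy : y ≫ (Y ↘ Spec (CommRingCat.of k)) = 𝟙 _)
    (f : X ⟶ Y) (hf : f ≫ (Y ↘ Spec (CommRingCat.of k)) = X ↘ Spec (CommRingCat.of k)) (hfx : x ≫ f = y)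
    (πX πY : Over (Spec (CommRingCat.of k))) [GrpObj πX] [GrpObj πY] (PX : Over X) (PY : Over Y)
    (aX : AlgGrp.Action (Red.bc (X ↘ Spec (CommRingCat.of k)) πX) PX)
    (aY : AlgGrp.Action (Red.bc (Y ↘ Spec (CommRingCat.of k)) πY) PY)
    (pX : Spec (CommRingCat.of k) ⟶ PX.left) (pY : Spec (CommRingCat.of k) ⟶ PY.left)
    (hX : NoriFGS.IsFGS x πX aX pX) (hY : NoriFGS.IsFGS y πY aY pY)
    (φ : πX ⟶ πY) (hφ : NoriFGS.IsInducedHom f hf aX pX aY pY φ) :
    φ = toUnit πX ≫ η[πY] ↔
      ∀ (H : Over (Spec (CommRingCat.of k))) [GrpObj H] [IsFinite H.hom] (U : Over Y)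
        (c : AlgGrp.Action (Red.bc (Y ↘ Spec (CommRingCat.of k)) H) U) (u : Spec (CommRingCat.of k) ⟶ U.left),
        NonAbH1.IsTorsorFor Scheme.fpqcPrecoverage c → u ≫ U.hom = y →
        NoriFGS.IsNoriReduced Scheme.fpqcPrecoverage c → NonAbH1.HasSectionOver U f := by
  obtain ⟨hφm, g, hg, hgp⟩ := hφ
  constructor
  · rintro hφ1 H _ _ U c u hc hu _
    obtain ⟨ψ, _, r, hr, -⟩ := hY.2.2.2 H U c u hc hu
    rw [isInducedHom_iff] at hg
    have hgk := (isEquivariant_iff_kact _).mp hg
    have hLS : LS PX.hom := hX.2.1.2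
    obtain ⟨z, hz⟩ := hLS.desc (g.left ≫ pullback.fst PY.hom f) (fun T p p' hp => by
      let T' : Over (Spec (CommRingCat.of k)) := Over.mk (p ≫ PX.hom ≫ (X ↘ Spec (CommRingCat.of k)))
      let w : T' ⟶ (Over.map (X ↘ Spec (CommRingCat.of k))).obj PX := Over.homMk p rfl
      let w' : T' ⟶ (Over.map (X ↘ Spec (CommRingCat.of k))).obj PX := Over.homMk p' (by
        change p' ≫ PX.hom ≫ (X ↘ Spec (CommRingCat.of k)) = p ≫ PX.hom ≫ (X ↘ Spec (CommRingCat.of k))
        rw [← Category.assoc, ← hp, Category.assoc])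
      obtain ⟨h, hh⟩ := trans_of_isPseudoTorsorSch hX.2.1.1 w w' (by
        apply Over.OverMorphism.ext
        exact hp)
      have h1 : h ≫ φ = 1 := by
        rw [hφ1, ← Category.assoc, Hom.one_def, toUnit_unique (h ≫ toUnit πX) (toUnit T')]
      have h2 : w ≫ (Over.map (X ↘ Spec (CommRingCat.of k))).map g =
          w' ≫ (Over.map (X ↘ Spec (CommRingCat.of k))).map g := by
        rw [← hh, hgk, h1, sm_one]
      have h3 : p ≫ g.left = p' ≫ g.left := congrArg (fun x => x.left) h2
      rw [← Category.assoc, h3, Category.assoc])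
    have := hLS.epi
    refine ⟨z ≫ r.left, ?_⟩
    rw [← cancel_epi PX.hom, Category.assoc, Over.w, ← Category.assoc, hz, Category.assoc, pullback.condition,
      ← Category.assoc]
    congr 1
    exact Over.w g
  · intro h
    have hAY : IsAffine πY.left := Group.isAffine_of_isProFinite hY.1
    apply Group.hom_ext_profinite hY.1
    intro D _ _ ψ _
    have hAD : IsAffine D.left := isAffine_of_isAffineHom D.hom
    obtain ⟨H, _, i, _, _, ψ', _, hψ, hinj, -, -, hAH⟩ := Group.exists_image ψ
    have hHf : IsFinite H.hom := isFinite_of_isClosedImmersion i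
    obtain ⟨U, c, r, hc, hr⟩ := exists_push hY.2.1 ψ'
    have hu : (pY ≫ r.left) ≫ U.hom = y := by rw [Category.assoc, Over.w, hY.2.2.1]
    have hPT : IsPtTorsorHom aY pY c (pY ≫ r.left) ψ' r := ⟨hr, rfl⟩
    have hNR := isNoriReduced_of_inj hy hY hc hu hPT hinj
    obtain ⟨s, hs⟩ := h H U c _ hc hu hNR
    -- translate the section
    let sX : Over.mk (X ↘ Spec (CommRingCat.of k)) ⟶ (Over.map (Y ↘ Spec (CommRingCat.of k))).obj U :=
      Over.homMk s (by
        change s ≫ U.hom ≫ (Y ↘ Spec (CommRingCat.of k)) = (X ↘ Spec (CommRingCat.of k))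
        rw [← Category.assoc, hs, hf])
    let xh : 𝟙_ (Over (Spec (CommRingCat.of k))) ⟶ Over.mk (X ↘ Spec (CommRingCat.of k)) := Over.homMk x hx
    obtain ⟨h₀, hh₀⟩ := trans_of_isPseudoTorsorSch hc.1 (xh ≫ sX) (Conj.mk hy (pY ≫ r.left) hu _) (by
      apply Over.OverMorphism.ext
      rw [mk_pr]
      change (x ≫ s) ≫ U.hom = 𝟙 _ ≫ y
      rw [Category.assoc, hs, hfx, Category.id_comp])
    let s' : Over.mk (X ↘ Spec (CommRingCat.of k)) ⟶ (Over.map (Y ↘ Spec (CommRingCat.of k))).obj U :=
      sm (kact _ c) (toUnit _ ≫ h₀) sX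
    have hs'f : s'.left ≫ U.hom = f :=
      (congrArg (fun t => t.left) (sm_kact_pr _ c (toUnit _ ≫ h₀) sX)).trans hs
    have hs'x : x ≫ s'.left = pY ≫ r.left := by
      have h1 : xh ≫ s' = Conj.mk hy (pY ≫ r.left) hu _ := by
        rw [comp_sm, ← hh₀, ← Category.assoc, toUnit_unique (xh ≫ toUnit _) (𝟙 _), Category.id_comp]
      exact (congrArg (fun t => t.left) h1).trans (Category.id_comp _)
    let t : PX ⟶ Red.bc f U := Over.homMk (pullback.lift (PX.hom ≫ s'.left) PX.hom
      (by rw [Category.assoc, hs'f])) (pullback.lift_snd _ _ _)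
    have ht1 : t.left ≫ pullback.fst U.hom f = PX.hom ≫ s'.left := pullback.lift_fst _ _ _
    have ht2 : t.left ≫ pullback.snd U.hom f = PX.hom := pullback.lift_snd _ _ _
    have htriv : IsMonHom (toUnit πX ≫ η[H]) := inferInstance
    have hteq : IsEquivariant aX ((pb f hf c).restrict
        ((Over.pullback (X ↘ Spec (CommRingCat.of k))).map (toUnit πX ≫ η[H]))) t := by
      rw [isEquivariant_iff_kact]
      intro T w p
      have h1 : w ≫ toUnit πX ≫ η[H] = 1 := by
        rw [← Category.assoc, Hom.one_def, toUnit_unique (w ≫ toUnit πX) (toUnit T)]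
      rw [h1, sm_one]
      apply Over.OverMorphism.ext
      have h2 : (sm (kact _ aX) w p).left ≫ PX.hom = p.left ≫ PX.hom :=
        congrArg (fun t => t.left) (sm_kact_pr _ aX w p)
      change (sm (kact _ aX) w p).left ≫ t.left = p.left ≫ t.left
      apply pullback.hom_ext
      · rw [Category.assoc, Category.assoc, ht1, ← Category.assoc, h2, Category.assoc]
      · rw [Category.assoc, Category.assoc, ht2, h2]
    have h1 := fgs_unique hX (pb_isTorsorFor f hf _ hc) (ptp_hom hfx hu)
      (isPtTorsorHom_induced hf hfx hu hX.2.2.1 hg hgp hPT) ⟨hteq, by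
        apply ptp_unique
        · rw [Category.assoc, ht1, ← Category.assoc, hX.2.2.1, hs'x]
        · rw [Category.assoc]
          exact (congrArg (fun z => pX ≫ z) ht2).trans hX.2.2.1⟩
    rw [← hψ, ← Category.assoc, h1.1, Category.assoc, Category.assoc, IsMonHom.one_hom_assoc]

end Groth.Agent.S19814
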