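import Groth.Statements.S19815
import Groth.Agent.NoriFGS.K996.Ptd

set_option autoImplicit false
universe u
open CategoryTheory CategoryTheory.Limits MonoidalCategory CartesianMonoidalCategory MonObj GrpObj AlgebraicGeometry
open NoriFGS
open AlgGrp AlgGrp.Action K996 K996.Pts K996.KAct K996.Sub K996.LocSplit K996.Conj K996.Induced K996.NR K996.Ptd

namespace Groth.Agent.S19815

/-- Let X and Y be schemes over a field k with rational points x and y, each possessing a fundamental
group scheme with its universal pointed torsor, let f : X → Y be a k-morphism sending x to y, and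
let φ be the homomorphism of fundamental group schemes induced by f. Then φ is faithfully flat (flat
and surjective) if and only if, for every finite group scheme H over k and every H-torsor U over Y
(locally trivial for the fpqc topology) pointed over y which is Nori-reduced, the pull-back U ×_Y X,
with the base-changed action read as an action of the base change of H to X, is a Nori-reduced
torsor over X. (The published statement quantifies over all Nori-reduced finite torsors over Y; this
row quantifies over those pointed over y, as the printed proof does. The source's standing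
convention for that chapter assumes the base field has characteristic p > 0; the printed proof uses
no characteristic hypothesis, so the row states it for any field.) -/
theorem result
    (k : Type u) [Field k] (X Y : Scheme.{u})
    [X.Over (Spec (CommRingCat.of k))] [Y.Over (Spec (CommRingCat.of k))]
    (x : Spec (CommRingCat.of k) ⟶ X) (y : Spec (CommRingCat.of k) ⟶ Y)
    (hx : x ≫ (X ↘ Spec (CommRingCat.of k)) = 𝟙 _) (hy : y ≫ (Y ↘ Spec (CommRingCat.of k)) = 𝟙 _)
    (f : X ⟶ Y) (hf : f ≫ (Y ↘ Spec (CommRingCat.of k)) = X ↘ Spec (CommRingCat.of k)) (hfx : x ≫ f = y)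
    (πX πY : Over (Spec (CommRingCat.of k))) [GrpObj πX] [GrpObj πY] (PX : Over X) (PY : Over Y)
    (aX : AlgGrp.Action (Red.bc (X ↘ Spec (CommRingCat.of k)) πX) PX)
    (aY : AlgGrp.Action (Red.bc (Y ↘ Spec (CommRingCat.of k)) πY) PY)
    (pX : Spec (CommRingCat.of k) ⟶ PX.left) (pY : Spec (CommRingCat.of k) ⟶ PY.left)
    (hX : NoriFGS.IsFGS x πX aX pX) (hY : NoriFGS.IsFGS y πY aY pY)
    (φ : πX ⟶ πY) (hφ : NoriFGS.IsInducedHom f hf aX pX aY pY φ) :
    (Flat φ.left ∧ Surjective φ.left) ↔
      ∀ (H : Over (Spec (CommRingCat.of k))) [GrpObj H] [IsFinite H.hom] (U : Over Y)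
        (c : AlgGrp.Action (Red.bc (Y ↘ Spec (CommRingCat.of k)) H) U) (u : Spec (CommRingCat.of k) ⟶ U.left),
        NonAbH1.IsTorsorFor Scheme.fpqcPrecoverage c → u ≫ U.hom = y →
        NoriFGS.IsNoriReduced Scheme.fpqcPrecoverage c →
        NoriFGS.IsNoriReduced Scheme.fpqcPrecoverage
          ((c.bc f).restrict (ActBC.bcCompIso f (Y ↘ Spec (CommRingCat.of k)) H hf).inv) := by
  obtain ⟨hφm, g, hg, hgp⟩ := hφ
  have hAX : IsAffine πX.left := Group.isAffine_of_isProFinite hX.1
  have hAY : IsAffine πY.left := Group.isAffine_of_isProFinite hY.1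
  constructor
  · rintro hfs H _ _ U c u hc hu hred
    obtain ⟨ψ, _, r, hr, -⟩ := hY.2.2.2 H U c u hc hu
    have h1 := inj_of_isNoriReduced hy hY hc hu hr hred
    refine isNoriReduced_of_inj hx hX (pb_isTorsorFor f hf _ hc) (ptp_hom hfx hu)
      (isPtTorsorHom_induced hf hfx hu hX.2.2.1 hg hgp hr) ?_
    have h2 : (φ.left.appTop.hom).FaithfullyFlat := (AlgebraicGeometry.Flat.flat_and_surjective_iff_faithfullyFlat_of_isAffine φ.left).mp hfs
    unfold Group.Inj at h1 ⊢
    rw [Over.comp_left, Scheme.Hom.comp_appTop]
    exact h2.injective.comp h1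
  · intro h
    apply Group.flat_surjective_of_inj
    unfold Group.Inj
    rw [injective_iff_map_eq_zero]
    intro s hs
    obtain ⟨D, _, _, ψ, _, t, ht⟩ := Group.exists_finite_quotient hY.1 (J := Unit) (fun _ => s)
    have hAD : IsAffine D.left := isAffine_of_isAffineHom D.hom
    obtain ⟨H, _, i, _, _, ψ', _, hψ, hinj, -, -, hAH⟩ := Group.exists_image ψ
    have hHf : IsFinite H.hom := isFinite_of_isClosedImmersion i
    obtain ⟨U, c, r, hc, hr⟩ := exists_push hY.2.1 ψ'
    have hu : (pY ≫ r.left) ≫ U.hom = y := by rw [Category.assoc, Over.w, hY.2.2.1]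
    have hPT : IsPtTorsorHom aY pY c (pY ≫ r.left) ψ' r := ⟨hr, rfl⟩
    have hNR := isNoriReduced_of_inj hy hY hc hu hPT hinj
    have hNR' := h H U c _ hc hu hNR
    have hinj' := inj_of_isNoriReduced hx hX (pb_isTorsorFor f hf _ hc) (ptp_hom hfx hu)
      (isPtTorsorHom_induced hf hfx hu hX.2.2.1 hg hgp hPT) hNR'
    have e1 : ψ'.left.appTop (i.left.appTop (t ())) = s := by
      have : i.left.appTop ≫ ψ'.left.appTop = ψ.left.appTop := by
        rw [← hψ, Over.comp_left, Scheme.Hom.comp_appTop]
      rw [← ht (), ← this]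
      rfl
    have e2 : (φ ≫ ψ').left.appTop (i.left.appTop (t ())) = 0 := by
      have : (φ ≫ ψ').left.appTop = ψ'.left.appTop ≫ φ.left.appTop := by
        rw [Over.comp_left, Scheme.Hom.comp_appTop]
      rw [this]
      change φ.left.appTop (ψ'.left.appTop _) = 0
      rw [e1, hs]
    have e3 : i.left.appTop (t ()) = 0 := hinj' (by rw [e2, map_zero])
    rw [← e1, e3, map_zero]

end Groth.Agent.S19815
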