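import Groth.Statements.S19816
import Groth.Agent.NoriFGS.K996.KAct

set_option autoImplicit false
universe u
open CategoryTheory CategoryTheory.Limits MonoidalCategory CartesianMonoidalCategory MonObj GrpObj AlgebraicGeometry
open NoriFGS

namespace Groth.Agent.S19816

open K996.Pts in
/-- Let X be a quasi-compact scheme over a field k with a rational point x which possesses a fundamental
group scheme with its universal pointed torsor. Let G, G₁, G₂ be finite group schemes over k with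
homomorphisms φ₁ : G₁ → G and φ₂ : G₂ → G, and let T, T₁, T₂ be torsors over X (locally trivial for
the fpqc topology) under the base changes to X of G, G₁, G₂, each pointed by a k-point lying over x;
let f₁ : T₁ → T and f₂ : T₂ → T be morphisms of pointed torsors along φ₁ and φ₂. Let Q be the fibre
product group scheme G₁ ×_G G₂ with its projections π₁, π₂. Then the fibre product T₁ ×_T T₂ carries
an action of the base change of Q for which both projections to T₁ and T₂ are equivariant (along π₁,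
π₂) and which makes it a torsor over X, locally trivial for the fpqc topology: the category of
pointed finite torsors over X is closed under fibre products. (The published statement is an
equivalence; this row is the implication from possessing a fundamental group scheme. The source's
standing convention for that chapter assumes the base field has characteristic p > 0; the printed
proof uses no characteristic hypothesis, so the row states it for any field.) -/
theorem result
    (k : Type u) [Field k] (X : Scheme.{u}) [X.Over (Spec (CommRingCat.of k))]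
    (x : Spec (CommRingCat.of k) ⟶ X) (hx : x ≫ (X ↘ Spec (CommRingCat.of k)) = 𝟙 _)
    (πN : Over (Spec (CommRingCat.of k))) [GrpObj πN] (P : Over X)
    (a : AlgGrp.Action (Red.bc (X ↘ Spec (CommRingCat.of k)) πN) P) (p : Spec (CommRingCat.of k) ⟶ P.left)
    (hP : NoriFGS.IsFGS x πN a p) [CompactSpace X]
    (G G₁ G₂ : Over (Spec (CommRingCat.of k))) [GrpObj G] [GrpObj G₁] [GrpObj G₂]
    [IsFinite G.hom] [IsFinite G₁.hom] [IsFinite G₂.hom]
    (φ₁ : G₁ ⟶ G) (φ₂ : G₂ ⟶ G) [IsMonHom φ₁] [IsMonHom φ₂]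
    (T T₁ T₂ : Over X)
    (b : AlgGrp.Action (Red.bc (X ↘ Spec (CommRingCat.of k)) G) T)
    (b₁ : AlgGrp.Action (Red.bc (X ↘ Spec (CommRingCat.of k)) G₁) T₁)
    (b₂ : AlgGrp.Action (Red.bc (X ↘ Spec (CommRingCat.of k)) G₂) T₂)
    (hT : NonAbH1.IsTorsorFor Scheme.fpqcPrecoverage b)
    (hT₁ : NonAbH1.IsTorsorFor Scheme.fpqcPrecoverage b₁)
    (hT₂ : NonAbH1.IsTorsorFor Scheme.fpqcPrecoverage b₂)
    (t : Spec (CommRingCat.of k) ⟶ T.left) (t₁ : Spec (CommRingCat.of k) ⟶ T₁.left) (t₂ : Spec (CommRingCat.of k) ⟶ T₂.left)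
    (ht : t ≫ T.hom = x) (ht₁ : t₁ ≫ T₁.hom = x) (ht₂ : t₂ ≫ T₂.hom = x)
    (f₁ : T₁ ⟶ T) (f₂ : T₂ ⟶ T)
    (hf₁ : NoriFGS.IsPtTorsorHom b₁ t₁ b t φ₁ f₁) (hf₂ : NoriFGS.IsPtTorsorHom b₂ t₂ b t φ₂ f₂)
    (Q : Over (Spec (CommRingCat.of k))) [GrpObj Q] (π₁ : Q ⟶ G₁) (π₂ : Q ⟶ G₂) [IsMonHom π₁] [IsMonHom π₂]
    (hQ : IsPullback π₁ π₂ φ₁ φ₂) :
    ∃ c : AlgGrp.Action (Red.bc (X ↘ Spec (CommRingCat.of k)) Q) (pullback f₁ f₂),
      AlgGrp.Action.IsEquivariant c (b₁.restrict ((Over.pullback (X ↘ Spec (CommRingCat.of k))).map π₁)) (pullback.fst f₁ f₂) ∧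
      AlgGrp.Action.IsEquivariant c (b₂.restrict ((Over.pullback (X ↘ Spec (CommRingCat.of k))).map π₂)) (pullback.snd f₁ f₂) ∧
      NonAbH1.IsTorsorFor Scheme.fpqcPrecoverage c := by
  have e₁ := isEquivariant_restrict_iff.mp hf₁.1
  have e₂ := isEquivariant_restrict_iff.mp hf₂.1
  have hQ' := hQ.map (Over.pullback (X ↘ Spec (CommRingCat.of k)))
  have hcond : ∀ (W : Over X) (g : W ⟶ Red.bc (X ↘ Spec (CommRingCat.of k)) Q) (w : W ⟶ pullback f₁ f₂),
      sm b₁ (g ≫ (Over.pullback (X ↘ Spec (CommRingCat.of k))).map π₁) (w ≫ pullback.fst f₁ f₂) ≫ f₁ =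
      sm b₂ (g ≫ (Over.pullback (X ↘ Spec (CommRingCat.of k))).map π₂) (w ≫ pullback.snd f₁ f₂) ≫ f₂ := by
    intro W g w
    rw [e₁, e₂, Category.assoc, Category.assoc, Category.assoc, Category.assoc, hQ'.w, pullback.condition]
  let c : AlgGrp.Action (Red.bc (X ↘ Spec (CommRingCat.of k)) Q) (pullback f₁ f₂) :=
    mkAct (pullback f₁ f₂) (fun W g w => pullback.lift _ _ (hcond W g w))
      (by
        intro W W' s g w
        apply pullback.hom_ext
        · rw [Category.assoc, pullback.lift_fst, pullback.lift_fst, comp_sm, Category.assoc, Category.assoc]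
        · rw [Category.assoc, pullback.lift_snd, pullback.lift_snd, comp_sm, Category.assoc, Category.assoc])
      (by
        intro W w
        apply pullback.hom_ext
        · rw [pullback.lift_fst, MonObj.one_comp, sm_one]
        · rw [pullback.lift_snd, MonObj.one_comp, sm_one])
      (by
        intro W g h w
        apply pullback.hom_ext
        · rw [pullback.lift_fst, pullback.lift_fst, pullback.lift_fst, MonObj.mul_comp, sm_mul]
        · rw [pullback.lift_snd, pullback.lift_snd, pullback.lift_snd, MonObj.mul_comp, sm_mul])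
  have hc : ∀ (W : Over X) (g : W ⟶ Red.bc (X ↘ Spec (CommRingCat.of k)) Q) (w : W ⟶ pullback f₁ f₂),
      sm c g w = pullback.lift _ _ (hcond W g w) := fun W g w => sm_mkAct _ _ _ _ _ g w
  refine ⟨c, ?_, ?_, ?_, ?_⟩
  · rw [isEquivariant_restrict_iff]
    intro W g w
    rw [hc, pullback.lift_fst]
  · rw [isEquivariant_restrict_iff]
    intro W g w
    rw [hc, pullback.lift_snd]
  · rw [isPseudoTorsorSch_iff]
    intro W w w'
    obtain ⟨g₁, hg₁, hu₁⟩ := isPseudoTorsorSch_iff.mp hT₁.1 W (w ≫ pullback.fst f₁ f₂) (w' ≫ pullback.fst f₁ f₂)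
    obtain ⟨g₂, hg₂, hu₂⟩ := isPseudoTorsorSch_iff.mp hT₂.1 W (w ≫ pullback.snd f₁ f₂) (w' ≫ pullback.snd f₁ f₂)
    dsimp only at hg₁ hg₂ hu₁ hu₂
    have h1 : g₁ ≫ (Over.pullback (X ↘ Spec (CommRingCat.of k))).map φ₁ =
        g₂ ≫ (Over.pullback (X ↘ Spec (CommRingCat.of k))).map φ₂ := by
      refine (isPseudoTorsorSch_iff.mp hT.1 W (w ≫ pullback.fst f₁ f₂ ≫ f₁) (w' ≫ pullback.fst f₁ f₂ ≫ f₁)).unique ?_ ?_
      · have := e₁ W g₁ (w ≫ pullback.fst f₁ f₂)
        rw [hg₁, Category.assoc, Category.assoc] at this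
        exact this.symm
      · have := e₂ W g₂ (w ≫ pullback.snd f₁ f₂)
        rw [hg₂, Category.assoc, Category.assoc, ← pullback.condition] at this
        exact this.symm
    refine ⟨hQ'.lift g₁ g₂ h1, ?_, ?_⟩
    · dsimp only
      rw [hc]
      apply pullback.hom_ext
      · rw [pullback.lift_fst, hQ'.lift_fst, hg₁]
      · rw [pullback.lift_snd, hQ'.lift_snd, hg₂]
    · intro g hg
      rw [hc] at hg
      apply hQ'.hom_ext
      · rw [hQ'.lift_fst]
        apply hu₁
        rw [← hg, pullback.lift_fst]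
      · rw [hQ'.lift_snd]
        apply hu₂
        rw [← hg, pullback.lift_snd]
  · -- local triviality: the universal torsor maps to the fibre product
    obtain ⟨ψ₁, i₁, h₁, hh₁, -⟩ := hP.2.2.2 G₁ T₁ b₁ t₁ hT₁ ht₁
    obtain ⟨ψ₂, i₂, h₂, hh₂, -⟩ := hP.2.2.2 G₂ T₂ b₂ t₂ hT₂ ht₂
    obtain ⟨ψ, i, h, hh, hu⟩ := hP.2.2.2 G T b t hT ht
    have k₁ := hu (ψ₁ ≫ φ₁) (h₁ ≫ f₁) ⟨by
      rw [isEquivariant_restrict_iff, Functor.map_comp]
      intro W g w
      rw [← Category.assoc, isEquivariant_restrict_iff.mp hh₁.1, e₁, Category.assoc, Category.assoc], by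
      rw [Over.comp_left, ← Category.assoc, hh₁.2, hf₁.2]⟩
    have k₂ := hu (ψ₂ ≫ φ₂) (h₂ ≫ f₂) ⟨by
      rw [isEquivariant_restrict_iff, Functor.map_comp]
      intro W g w
      rw [← Category.assoc, isEquivariant_restrict_iff.mp hh₂.1, e₂, Category.assoc, Category.assoc], by
      rw [Over.comp_left, ← Category.assoc, hh₂.2, hf₂.2]⟩
    obtain ⟨R, hR, hs⟩ := hP.2.1.2
    refine ⟨R, hR, fun S' s hs' => ?_⟩
    obtain ⟨z, hz⟩ := hs s hs'
    refine ⟨z ≫ (pullback.lift h₁ h₂ (k₁.2.trans k₂.2.symm)).left, ?_⟩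
    rw [Category.assoc, Over.w, hz]

end Groth.Agent.S19816
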