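import Groth.Statements.S19817
import Groth.Agent.NoriFGS.K996.NR
import Groth.Agent.NoriFGS.K996.Dim

set_option autoImplicit false
universe u
open CategoryTheory CategoryTheory.Limits MonoidalCategory CartesianMonoidalCategory MonObj GrpObj AlgebraicGeometry
open NoriFGS
open AlgGrp AlgGrp.Action K996 K996.NR

namespace Groth.Agent.S19817

/-- Let k be a field and X a scheme over k with a rational point x which possesses a fundamental group
scheme π with its universal pointed torsor. Suppose that there is a natural number M such that, for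
every finite group scheme G over k and every G-torsor over X (locally trivial for the fpqc topology)
pointed over x which is Nori-reduced, the order of G, namely the dimension over k of the coordinate
ring Γ(G, O_G) (a k-algebra through the structure morphism G → Spec k), is at most M. Then π is
finite over k. -/
theorem result
    (k : Type u) [Field k] (X : Scheme.{u}) [X.Over (Spec (CommRingCat.of k))]
    (x : Spec (CommRingCat.of k) ⟶ X) (hx : x ≫ (X ↘ Spec (CommRingCat.of k)) = 𝟙 _)
    (πN : Over (Spec (CommRingCat.of k))) [GrpObj πN] (P : Over X)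
    (a : AlgGrp.Action (Red.bc (X ↘ Spec (CommRingCat.of k)) πN) P) (p : Spec (CommRingCat.of k) ⟶ P.left)
    (hP : NoriFGS.IsFGS x πN a p) (M : ℕ)
    (hM : ∀ (G : Over (Spec (CommRingCat.of k))) [GrpObj G] [IsFinite G.hom] (T : Over X)
      (b : AlgGrp.Action (Red.bc (X ↘ Spec (CommRingCat.of k)) G) T) (t : Spec (CommRingCat.of k) ⟶ T.left),
      NonAbH1.IsTorsorFor Scheme.fpqcPrecoverage b → t ≫ T.hom = x →
      NoriFGS.IsNoriReduced Scheme.fpqcPrecoverage b →
      @Module.finrank k (Coh.Γtop G.left) _ _ (Module.compHom (Coh.Γtop G.left) (Coh.toGlobal G.hom)) ≤ M) :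
    IsFinite πN.hom := by
  refine Dim.isFinite_of_bound hP.1 M fun H _ _ ψ _ hψ => ?_
  have hA : IsAffine πN.left := Group.isAffine_of_isProFinite hP.1
  have hH : IsAffine H.left := isAffine_of_isAffineHom H.hom
  obtain ⟨T, b, r, hb, hr⟩ := exists_push hP.2.1 ψ
  have ht : (p ≫ r.left) ≫ T.hom = x := by rw [Category.assoc, Over.w, hP.2.2.1]
  exact hM H T b _ hb ht (isNoriReduced_of_inj hx hP hb ht ⟨hr, rfl⟩ hψ)

end Groth.Agent.S19817
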