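import Groth.Statements.S19818
import Groth.Agent.NoriFGS.K996.Fppf

set_option autoImplicit false
universe u
open CategoryTheory CategoryTheory.Limits MonoidalCategory CartesianMonoidalCategory MonObj GrpObj AlgebraicGeometry
open NoriFGS
open AlgGrp AlgGrp.Action K996 K996.Pts K996.KAct K996.NR K996.Fppf K996.Induced

namespace Groth.Agent.S19818

/-- Let k be an algebraically closed field, X a smooth, proper and integral curve over k (of dimension
one) with a rational point x, and let π be a fundamental group scheme of (X, x) with its universal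
pointed torsor P. Let G be a connected reductive group over k and F a G-torsor over X (for the base
change of G to X, locally trivial for the fppf topology). Then F is essentially finite, meaning that
it admits a reduction of structure group to a finite group scheme: there are a finite group scheme Γ
over k, a homomorphism ι : Γ → G and a Γ-torsor Q over X together with an ι-equivariant X-morphism Q
→ F (so that F is obtained from Q by extension of the structure group along ι), if and only if there
is a homomorphism ρ : π → G together with a ρ-equivariant X-morphism P → F (F is obtained from the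
universal torsor by extension of the structure group along ρ). -/
theorem result
    (k : Type u) [Field k] [IsAlgClosed k] (X : Scheme.{u}) [X.Over (Spec (CommRingCat.of k))]
    [AlgebraicGeometry.IsIntegral X] [IsProper (X ↘ Spec (CommRingCat.of k))] [Smooth (X ↘ Spec (CommRingCat.of k))]
    (hdim : topologicalKrullDim X = 1)
    (x : Spec (CommRingCat.of k) ⟶ X) (hx : x ≫ (X ↘ Spec (CommRingCat.of k)) = 𝟙 _)
    (πN : Over (Spec (CommRingCat.of k))) [GrpObj πN] (P : Over X)
    (a : AlgGrp.Action (Red.bc (X ↘ Spec (CommRingCat.of k)) πN) P) (p : Spec (CommRingCat.of k) ⟶ P.left)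
    (hP : NoriFGS.IsFGS x πN a p)
    (G : Over (Spec (CommRingCat.of k))) [GrpObj G] (hG : Red.IsReductiveOver k G)
    (F : Over X) (aF : AlgGrp.Action (Red.bc (X ↘ Spec (CommRingCat.of k)) G) F)
    (hF : NonAbH1.IsTorsorFor Scheme.fppfPrecoverage aF) :
    (∃ (Gf : Over (Spec (CommRingCat.of k))) (_ : GrpObj Gf) (_ : IsFinite Gf.hom) (i : Gf ⟶ G) (_ : IsMonHom i)
        (Q : Over X) (c : AlgGrp.Action (Red.bc (X ↘ Spec (CommRingCat.of k)) Gf) Q),
        NonAbH1.IsTorsorFor Scheme.fppfPrecoverage c ∧
          NonAbH1.IsPushforwardAlongSch ((Over.pullback (X ↘ Spec (CommRingCat.of k))).map i) c aF) ↔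
      ∃ (ρ : πN ⟶ G) (_ : IsMonHom ρ),
        NonAbH1.IsPushforwardAlongSch ((Over.pullback (X ↘ Spec (CommRingCat.of k))).map ρ) a aF := by
  have hAπ : IsAffine πN.left := Group.isAffine_of_isProFinite hP.1
  have hAG : IsAffine G.left := hG.1
  constructor
  · rintro ⟨Gf, _, _, i, _, Q, c, hc, j, hj⟩
    obtain ⟨t, ht⟩ := exists_lift Q hc.2 x
    obtain ⟨ψ, _, r, hr, -⟩ := hP.2.2.2 Gf Q c t (isTorsorFor_fpqc hc) ht
    refine ⟨ψ ≫ i, inferInstance, r ≫ j, ?_⟩
    rw [isPush_iff] at hj ⊢
    exact (isPtTorsorHom_comp (v := t ≫ j.left) hr hj rfl).1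
  · rintro ⟨ρ, _, j, hj⟩
    rw [isPush_iff] at hj
    obtain ⟨Gf, _, i, _, _, ρ', _, hρ, hinj, -, -, hAf⟩ := Group.exists_image ρ
    have hsm : Smooth G.hom := hG.2.1
    have hft : LocallyOfFiniteType Gf.hom := by rw [← Over.w i]; infer_instance
    have hfin : IsFinite Gf.hom := isFinite_of_inj hP.1 ρ' hinj
    obtain ⟨Q, c, r, hc, hr⟩ := exists_push hP.2.1 ρ'
    obtain ⟨j', ⟨hj', -⟩, -⟩ := exists_push_hom hP.2.1 hρ hc (isTorsorFor_fpqc hF) hr hj
    exact ⟨Gf, inferInstance, hfin, i, inferInstance, Q, c, isTorsorFor_fppf hc, j', isPush_iff.mpr hj'⟩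

end Groth.Agent.S19818
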