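import Groth.Statements.S19820
import Groth.Agent.NoriFGS.K996.Descend
import Groth.Agent.NoriFGS.K996.ClosedImm

set_option autoImplicit false
universe u
open CategoryTheory CategoryTheory.Limits MonoidalCategory CartesianMonoidalCategory MonObj GrpObj AlgebraicGeometry
open NoriFGS

namespace Groth.Agent.S19820

/-- Let k be a field of characteristic p > 0 and let X and Y be proper, reduced and connected schemes
over k with rational points x and y, each possessing a fundamental group scheme with its universal
pointed torsor, with Y moreover irreducible (integral), and let f : X → Y be a flat k-morphism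
sending x to y whose geometric fibres are all reduced and connected (f is proper, X and Y being
proper). Let φ be the homomorphism of fundamental group schemes induced by f. Assume the following
bound on the geometric fibres of f: for every algebraically closed field Ω, every Ω-point ȳ of Y,
every finite group scheme G' over Ω and every torsor T' over the fibre X_ȳ = X ×_Y Spec Ω under the
base change of G' (locally trivial for the fpqc topology), the dimension over Ω of Γ(T', O_{T'}) is
at most the order of G', the dimension over Ω of Γ(G', O_{G'}), and when the two are equal T' → X_ȳ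
has a section. Suppose that for every finite group scheme G over k, every G-torsor T over X (locally
trivial for the fpqc topology) which is pointed over x and Nori-reduced becomes a trivial torsor on
the geometric generic fibre: T acquires a section over X ×_Y Spec Ω → X for every algebraically
closed field Ω and every morphism Spec Ω → Y hitting the generic point of Y. Then φ is a closed
immersion. (The published statement takes Y only reduced and connected, where the generic point used
in its condition (b) presupposes irreducibility, and concludes that φ is an isomorphism; this row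
states the closed-immersion half, the faithful flatness of φ resting on an input the text only
quotes. The bound on the global functions of finite torsors over the geometric fibres, with its
equality case, is what the printed proof takes from the literature for the vector bundles defined by
such torsors; it is carried here as a hypothesis on f. The positive characteristic is the standing
assumption of the source's chapter.) -/
theorem result
    (k : Type u) [Field k] (p : ℕ) [Fact p.Prime] [CharP k p] (X Y : Scheme.{u})
    [X.Over (Spec (CommRingCat.of k))] [Y.Over (Spec (CommRingCat.of k))]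
    (x : Spec (CommRingCat.of k) ⟶ X) (y : Spec (CommRingCat.of k) ⟶ Y)
    (hx : x ≫ (X ↘ Spec (CommRingCat.of k)) = 𝟙 _) (hy : y ≫ (Y ↘ Spec (CommRingCat.of k)) = 𝟙 _)
    (f : X ⟶ Y) (hf : f ≫ (Y ↘ Spec (CommRingCat.of k)) = X ↘ Spec (CommRingCat.of k)) (hfx : x ≫ f = y)
    (πX πY : Over (Spec (CommRingCat.of k))) [GrpObj πX] [GrpObj πY] (PX : Over X) (PY : Over Y)
    (aX : AlgGrp.Action (Red.bc (X ↘ Spec (CommRingCat.of k)) πX) PX)
    (aY : AlgGrp.Action (Red.bc (Y ↘ Spec (CommRingCat.of k)) πY) PY)
    (pX : Spec (CommRingCat.of k) ⟶ PX.left) (pY : Spec (CommRingCat.of k) ⟶ PY.left)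
    (hX : NoriFGS.IsFGS x πX aX pX) (hY : NoriFGS.IsFGS y πY aY pY)
    (φ : πX ⟶ πY) (hφ : NoriFGS.IsInducedHom f hf aX pX aY pY φ)
    [IsProper (X ↘ Spec (CommRingCat.of k))] [IsProper (Y ↘ Spec (CommRingCat.of k))]
    [AlgebraicGeometry.IsReduced X] [ConnectedSpace X] [AlgebraicGeometry.IsIntegral Y]
    [Flat f]
    (hfib : ∀ (Ω : Type u) [Field Ω] (yb : Spec (CommRingCat.of Ω) ⟶ Y),
      AlgebraicGeometry.IsReduced (pullback f yb) ∧ ConnectedSpace ↥(pullback f yb : Scheme.{u}))
    (hbound : ∀ (Ω : Type u) [Field Ω] [IsAlgClosed Ω] (yb : Spec (CommRingCat.of Ω) ⟶ Y)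
      (G' : Over (Spec (CommRingCat.of Ω))) [GrpObj G'] [IsFinite G'.hom] (T' : Over (pullback f yb))
      (b' : AlgGrp.Action (Red.bc (pullback.snd f yb) G') T'),
      NonAbH1.IsTorsorFor Scheme.fpqcPrecoverage b' →
      @Module.finrank Ω (Coh.Γtop T'.left) _ _
          (Module.compHom (Coh.Γtop T'.left) (Coh.toGlobal (T'.hom ≫ pullback.snd f yb))) ≤
        @Module.finrank Ω (Coh.Γtop G'.left) _ _ (Module.compHom (Coh.Γtop G'.left) (Coh.toGlobal G'.hom)) ∧
      (@Module.finrank Ω (Coh.Γtop T'.left) _ _
          (Module.compHom (Coh.Γtop T'.left) (Coh.toGlobal (T'.hom ≫ pullback.snd f yb))) =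
        @Module.finrank Ω (Coh.Γtop G'.left) _ _ (Module.compHom (Coh.Γtop G'.left) (Coh.toGlobal G'.hom)) →
        NonAbH1.HasSectionOver T' (𝟙 (pullback f yb))))
    (htriv : ∀ (Ω : Type u) [Field Ω] [IsAlgClosed Ω] (ξ : Spec (CommRingCat.of Ω) ⟶ Y),
      (∀ q, ξ.base q = genericPoint Y) →
      ∀ (G : Over (Spec (CommRingCat.of k))) [GrpObj G] [IsFinite G.hom] (T : Over X)
        (b : AlgGrp.Action (Red.bc (X ↘ Spec (CommRingCat.of k)) G) T) (t : Spec (CommRingCat.of k) ⟶ T.left),
        NonAbH1.IsTorsorFor Scheme.fpqcPrecoverage b → t ≫ T.hom = x →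
        NoriFGS.IsNoriReduced Scheme.fpqcPrecoverage b →
        NonAbH1.HasSectionOver T (pullback.fst f ξ)) :
    IsClosedImmersion φ.left := by
  have hqY : IsLocallyNoetherian Y := LocallyOfFiniteType.isLocallyNoetherian (Y ↘ Spec (CommRingCat.of k))
  have hfp : IsProper f := by
    have h1 : IsProper (f ≫ (Y ↘ Spec (CommRingCat.of k))) := by rw [hf]; infer_instance
    exact IsProper.of_comp f (Y ↘ Spec (CommRingCat.of k))
  refine K996.ClosedImm.isClosedImmersion_of_sub k X Y x y hx f hf hfx πX πY PX PY aX aY pX pY hX hY φ hφ ?_
  intro G _ _ T b t hb ht hnr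
  obtain ⟨U, c, j, hc, hj⟩ := K996.Descend.exists_descent hf b hb hfib
    (fun Ω _ _ yb => by
      haveI : IsFinite (Red.bc (yb ≫ (Y ↘ Spec (CommRingCat.of k))) G).hom :=
        inferInstanceAs (IsFinite (pullback.snd G.hom (yb ≫ (Y ↘ Spec (CommRingCat.of k)))))
      exact hbound Ω yb _ _ _ (K996.Descend.fib_isTorsorFor hf b yb hb))
    (fun Ω _ _ ξ hξ => htriv Ω ξ hξ G T b t hb ht hnr)
  refine ⟨G, inferInstance, inferInstance, U, c, t ≫ j.hom.left ≫ pullback.fst U.hom f, 𝟙 G, inferInstance, ?_, j.hom,
    hc, ?_, ?_, rfl⟩
  · exact inferInstanceAs (IsClosedImmersion (𝟙 G.left))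
  · have h1 : j.hom.left ≫ pullback.snd U.hom f = T.hom := Over.w j.hom
    rw [Category.assoc, Category.assoc, pullback.condition, ← Category.assoc (j.hom.left), h1, ← Category.assoc, ht,
      hfx]
  · rw [K996.Pts.isEquivariant_iff] at hj ⊢
    intro V g p
    rw [hj, K996.Pts.sm_restrict, CategoryTheory.Functor.map_id, Category.comp_id]
    rfl

end Groth.Agent.S19820
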