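import Groth.Statements.S19830
import Groth.Agent.QGor.K967.FibIndex

set_option autoImplicit false
universe u
open QGor

namespace Groth.Agent.S19830

open CategoryTheory AlgebraicGeometry in
/-- Let Y → Spec A be a proper S₂-morphism to a Noetherian affine base, of pure relative dimension d,
with relative canonical sheaf ω (characterised by the d-dualizing property over A), which is naively
ℚ-Gorenstein: every fibre is Gorenstein in codimension one and ℚ-Gorenstein (for every t and every
d-dualizing module ω_t on the fibre Y_t over κ(t) — its canonical sheaf — some reflexive power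
ω_t^{[r]}, r > 0, is invertible at each point), and some ω^{[r]}, r > 0, is invertible at each point
of Y. For a point y over t, with ω_t the canonical sheaf of Y_t as above, let m be the relative
Gorenstein index at y (least r > 0 with ω^{[r]} invertible at y) and r the Gorenstein index of Y_t
at y (least r > 0 with ω_t^{[r]} invertible at y). Assume the fibre Y_t is Gorenstein in codimension
two (at every point of Y_t outside the relative Gorenstein locus the local ring of Y_t has dimension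
≥ 3) and satisfies S₃ at y. Then m = r. -/
theorem result
    (A : Type u) [CommRing A] [IsNoetherianRing A] (Y : Scheme.{u}) [Y.Over (Spec (CommRingCat.of A))]
    [IsProper (Y ↘ Spec (CommRingCat.of A))] (d : ℕ)
    (hS : RelCanon.IsSkMor (Y ↘ Spec (CommRingCat.of A)) 2) (hd : Cyc.HasRelDim (Y ↘ Spec (CommRingCat.of A)) d)
    (ω : Y.Modules) (hω : RelCanon.IsDualizingSheaf A Y d ω)
    (hG : ∀ y : Y, y ∉ RelCanon.gorLocus (Y ↘ Spec (CommRingCat.of A)) →
      (2 : WithBot ℕ∞) ≤ ringKrullDim (((Y ↘ Spec (CommRingCat.of A)).fiber ((Y ↘ Spec (CommRingCat.of A)) y)).presheaf.stalk ((Y ↘ Spec (CommRingCat.of A)).asFiber y)))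
    (hQf : ∀ (t : (Spec (CommRingCat.of A))) (ωt : ((Y ↘ Spec (CommRingCat.of A)).fiber t).Modules), @RelCanon.IsDualizingSheaf ((Spec (CommRingCat.of A)).residueField t) _ ((Y ↘ Spec (CommRingCat.of A)).fiber t) ⟨(Y ↘ Spec (CommRingCat.of A)).fiberToSpecResidueField t⟩ d ωt → RelCanon.IsQGorWith ωt)
    (hN : RelCanon.IsQGorWith ω)
    (y : Y) (ωy : ((Y ↘ Spec (CommRingCat.of A)).fiber ((Y ↘ Spec (CommRingCat.of A)) y)).Modules) (hωy : @RelCanon.IsDualizingSheaf ((Spec (CommRingCat.of A)).residueField ((Y ↘ Spec (CommRingCat.of A)) y)) _ ((Y ↘ Spec (CommRingCat.of A)).fiber ((Y ↘ Spec (CommRingCat.of A)) y)) ⟨(Y ↘ Spec (CommRingCat.of A)).fiberToSpecResidueField ((Y ↘ Spec (CommRingCat.of A)) y)⟩ d ωy)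
    (hG2 : ∀ y' : Y, (Y ↘ Spec (CommRingCat.of A)) y' = (Y ↘ Spec (CommRingCat.of A)) y → y' ∉ RelCanon.gorLocus (Y ↘ Spec (CommRingCat.of A)) →
      (3 : WithBot ℕ∞) ≤ ringKrullDim (((Y ↘ Spec (CommRingCat.of A)).fiber ((Y ↘ Spec (CommRingCat.of A)) y')).presheaf.stalk ((Y ↘ Spec (CommRingCat.of A)).asFiber y')))
    (hS3 : RelCanon.SkAt 3 (Coh.structureModule ((Y ↘ Spec (CommRingCat.of A)).fiber ((Y ↘ Spec (CommRingCat.of A)) y))) ((Y ↘ Spec (CommRingCat.of A)).asFiber y)) :
    RelCanon.gorIndexWithAt ω y = RelCanon.gorIndexWithAt ωy ((Y ↘ Spec (CommRingCat.of A)).asFiber y) := by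
  have : IsNoetherianRing (CommRingCat.of A) := inferInstanceAs (IsNoetherianRing A)
  have : IsLocallyNoetherian Y :=
    LocallyOfFiniteType.isLocallyNoetherian (Y ↘ Spec (CommRingCat.of A))
  have hc := K967.OmegaBasic.isCoh A Y d ω hω (K967.ReflUnit.dim_fiber_le hd)
  have hct := K967.FibIndex.isCoh_of_isDualizingSheaf_fibre A Y d _ ωy hd hωy
  obtain ⟨e⟩ := K967.FibIndex.nonempty_fibre_iso A Y d hS hd ω hω _ ωy hωy
  have hU := K967.FibIndex.invertibleAt_of_mem A Y d hS hd ω hω
  have hx := (Y ↘ Spec (CommRingCat.of A)).fiberι_asFiber y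
  have h1 := K967.FibIndex.invertibleAt_fibre (Y ↘ Spec (CommRingCat.of A)) hS
    (K967.FibIndex.gorOpens A Y hS) hG ω hc hU _ ωy hct e
  have h2 := K967.FibIndex.invertibleAt_of_fibre (Y ↘ Spec (CommRingCat.of A)) hS
    (K967.FibIndex.gorOpens A Y hS) hG ω hc hU _ ωy hct e
  have h3 := K967.FibIndex.relSkAt_of_three (Y ↘ Spec (CommRingCat.of A)) hS
    (K967.FibIndex.gorOpens A Y hS) hG ω hc hU _ ωy hct e
  unfold RelCanon.gorIndexWithAt
  congr 1
  ext r
  refine and_congr_right fun _ => ⟨fun h => h1 r _ ?_, fun h => ?_⟩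
  · rw [hx]; exact h
  · have h4 := h2 r _ (h3 r _ h ((K969.FibDimSch.skAt_structureModule_iff 3 _).mp hS3)
      (fun w _ hw => by
        rw [← K66.Fibre.ringKrullDim_fiber]
        exact hG2 _ (Groth.Agent.Flat2D.FiberStalk.apply_fiberι _ _ w) hw)) h
    rwa [hx] at h4


end Groth.Agent.S19830
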