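import Groth.Statements.S19834
import Groth.Agent.QGor.K969.RelVan
import Groth.Agent.QGor.K969.ChartFib
import Groth.Agent.QGor.K969.LocChart
import Groth.Agent.QGor.K969.SplitSch

set_option autoImplicit false
universe u
open QGor

namespace Groth.Agent.S19834

open CategoryTheory AlgebraicGeometry in
/-- For a proper S₂-morphism Y → Spec A to a Noetherian affine base, of pure relative dimension d, all
of whose fibres satisfy Serre's condition S₃ at every point, with relative canonical sheaf ω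
(characterised by the d-dualizing property over A), the sheaf 𝓔xt¹_{O_Y}(ω, ω) vanishes; stated as:
every extension of ω|_V by ω|_V over an open V ⊆ Y is locally split, i.e. for every short exact
sequence 0 → S₁ → S₂ → S₃ → 0 of O_V-modules with S₁ ≅ ω|_V and S₃ ≅ ω|_V and every point y ∈ V
there are an open W ⊆ V containing y and a morphism S₃|_W → S₂|_W that is a section of S₂|_W →
S₃|_W. -/
theorem result
    (A : Type u) [CommRing A] [IsNoetherianRing A] (Y : Scheme.{u}) [Y.Over (Spec (CommRingCat.of A))]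
    [IsProper (Y ↘ Spec (CommRingCat.of A))] (d : ℕ)
    (hS : RelCanon.IsSkMor (Y ↘ Spec (CommRingCat.of A)) 2) (hd : Cyc.HasRelDim (Y ↘ Spec (CommRingCat.of A)) d)
    (ω : Y.Modules) (hω : RelCanon.IsDualizingSheaf A Y d ω)
    (hS3 : ∀ y : Y, RelCanon.SkAt 3 (Coh.structureModule ((Y ↘ Spec (CommRingCat.of A)).fiber ((Y ↘ Spec (CommRingCat.of A)) y))) ((Y ↘ Spec (CommRingCat.of A)).asFiber y))
    (V : Y.Opens) (S : ShortComplex (V : Scheme.{u}).Modules) (hSe : S.ShortExact)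
    (e₁ : S.X₁ ≅ ω.restrict V.ι) (e₃ : S.X₃ ≅ ω.restrict V.ι) (y : Y) (hy : y ∈ V) :
    ∃ (W : Y.Opens) (i : W ≤ V), y ∈ W ∧
      ∃ σ : S.X₃.restrict (Y.homOfLE i) ⟶ S.X₂.restrict (Y.homOfLE i),
        σ ≫ (Scheme.Modules.restrictFunctor (Y.homOfLE i)).map S.g = 𝟙 _ := by
  obtain ⟨U, hU, hyU, i⟩ := exists_isAffineOpen_mem_and_subset (x := y) (U := V) hy
  have i : U ≤ V := i
  have : Flat (Y ↘ Spec (CommRingCat.of A)) := hS.1
  obtain ⟨alg, hj, hft, hfl, hN⟩ := K969.ChartFib.exists_algebra (Y ↘ Spec (CommRingCat.of A)) U hU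
  obtain ⟨n, ψ, hψ⟩ := Algebra.FiniteType.iff_quotient_mvPolynomial''.mp hft
  have hL := Groth.Agent.LoccohB.LBC.hasLBaseChange (algebraMap A (MvPolynomial (Fin n) A))
  have hvan := K969.RelVan.ext_one_eq_zero n ψ hψ _ (Groth.Agent.LoccohB.RAdj.coextAdj ψ.toRingHom) d
    (K969.ChartFib.fibreDimAt_chart _ hU.fromSpec hj d hd)
    (K969.ChartFib.hasSk_fiber _ hU.fromSpec hj 3 fun x => hS3 _)
  obtain ⟨eω⟩ := K969.LocChart.nonempty_restrict_iso d
    (K969.LocChart.topologicalKrullDim_fiber_le _ d hd) hω hU.fromSpec hj n ψ hψ _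
    (Groth.Agent.LoccohB.RAdj.coextAdj ψ.toRingHom)
  let j' : Spec Γ(Y, U) ⟶ V := hU.isoSpec.inv ≫ Y.homOfLE i
  have hj' : j' ≫ V.ι = hU.fromSpec := by
    rw [Category.assoc, Scheme.homOfLE_ι]
    rfl
  have hoi : IsOpenImmersion j' := inferInstance
  have := Groth.Agent.Dcoh.LocalD.preservesFiniteLimits_restrict j'
  have hS' : (S.map (Scheme.Modules.restrictFunctor j')).ShortExact := hSe.map_of_exact _
  let eω' : (ω.restrict V.ι).restrict j' ≅ ω.restrict hU.fromSpec :=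
    ((Scheme.Modules.restrictFunctorComp j' V.ι).app ω).symm ≪≫
      (Scheme.Modules.restrictFunctorCongr hj').app ω
  obtain ⟨s, hs⟩ := K969.SplitSch.exists_section_tilde _ _ hvan hS'
    ((Scheme.Modules.restrictFunctor j').mapIso e₁ ≪≫ eω' ≪≫ eω)
    ((Scheme.Modules.restrictFunctor j').mapIso e₃ ≪≫ eω' ≪≫ eω)
  have hiso : hU.isoSpec.hom ≫ j' = Y.homOfLE i := by
    rw [Iso.hom_inv_id_assoc]
  obtain ⟨σ, hσ⟩ := K969.SplitSch.exists_section_of_iso
    ((Scheme.Modules.restrictFunctorCongr hiso.symm) ≪≫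
      (Scheme.Modules.restrictFunctorComp hU.isoSpec.hom j')) S.g
    (K969.SplitSch.exists_section_comp (Scheme.Modules.restrictFunctor hU.isoSpec.hom) S.g ⟨s, hs⟩)
  exact ⟨U, i, hyU, σ, hσ⟩

end Groth.Agent.S19834
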