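import Groth.Statements.S19835
import Groth.Agent.QGor.K967.QGorInv

set_option autoImplicit false
universe u
open QGor

namespace Groth.Agent.S19835

open CategoryTheory AlgebraicGeometry in
/-- For a proper S₂-morphism Y → Spec A to a Noetherian affine base, of pure relative dimension d, whose
fibres are Gorenstein in codimension one, with relative canonical sheaf ω (characterised by the
d-dualizing property over A): if ω is invertible, then the morphism is ℚ-Gorenstein with respect to
ω (every reflexive power ω^{[m]}, m ∈ ℤ, satisfies relative S₂ over the base at every point: flat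
over the base with S₂ restriction to the fibre), and every fibre is ℚ-Gorenstein of Gorenstein index
one, i.e. for every t every d-dualizing module on the fibre Y_t over κ(t) (the canonical sheaf of
the fibre) is invertible. -/
theorem result
    (A : Type u) [CommRing A] [IsNoetherianRing A] (Y : Scheme.{u}) [Y.Over (Spec (CommRingCat.of A))]
    [IsProper (Y ↘ Spec (CommRingCat.of A))] (d : ℕ)
    (hS : RelCanon.IsSkMor (Y ↘ Spec (CommRingCat.of A)) 2) (hd : Cyc.HasRelDim (Y ↘ Spec (CommRingCat.of A)) d)
    (ω : Y.Modules) (hω : RelCanon.IsDualizingSheaf A Y d ω)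
    (hG : ∀ y : Y, y ∉ RelCanon.gorLocus (Y ↘ Spec (CommRingCat.of A)) →
      (2 : WithBot ℕ∞) ≤ ringKrullDim (((Y ↘ Spec (CommRingCat.of A)).fiber ((Y ↘ Spec (CommRingCat.of A)) y)).presheaf.stalk ((Y ↘ Spec (CommRingCat.of A)).asFiber y)))
    (hinv : PicF.IsInvertible ω) :
    RelCanon.IsQGorMorWith (Y ↘ Spec (CommRingCat.of A)) ω ∧
    ∀ (t : (Spec (CommRingCat.of A))) (ωt : ((Y ↘ Spec (CommRingCat.of A)).fiber t).Modules), @RelCanon.IsDualizingSheaf ((Spec (CommRingCat.of A)).residueField t) _ ((Y ↘ Spec (CommRingCat.of A)).fiber t) ⟨(Y ↘ Spec (CommRingCat.of A)).fiberToSpecResidueField t⟩ d ωt → PicF.IsInvertible ωt := by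
  have h2 : RelCanon.RelSk (Y ↘ Spec (CommRingCat.of A)) 2 ω := fun y =>
    K967.QGorInv.relSkAt_of_invertibleAt _ 2 hS y (hinv y)
  refine ⟨fun m y => K967.QGorInv.relSkAt_of_invertibleAt _ 2 hS y
    (K970.RefPow.invertibleAt_refPowZ y (hinv y) m), fun t ωt hωt => ?_⟩
  have h3 := K967.QGorInv.isDualizingSheaf_fibre A Y d hS hd ω hω h2 t
  let _ : ((Y ↘ Spec (CommRingCat.of A)).fiber t).Over
      (Spec (CommRingCat.of ((Spec (CommRingCat.of A)).residueField t))) :=
    ⟨(Y ↘ Spec (CommRingCat.of A)).fiberToSpecResidueField t⟩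
  obtain ⟨e⟩ := K968.Compare1.iso_of_isDualizingSheaf h3 hωt
  exact fun y => K970.InvAt.invertibleAt_of_iso e y
    (K970.InvAt.invertibleAt_pullback _ ω y (hinv _))


end Groth.Agent.S19835
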