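import Groth.Statements.S19838
import Groth.Agent.QGor.K682.QuasiGor

set_option autoImplicit false
universe u
open QGor

namespace Groth.Agent.S19838

section Aux

open AlgebraicGeometry CategoryTheory Limits

/-- In a base change of a proper scheme to a local ring every point specializes to the closed fibre. -/
theorem exists_specializes {B : Type u} [CommRing B] [IsLocalRing B] {Y' : Scheme.{u}}
    (f' : Y' ⟶ Spec (CommRingCat.of B)) [IsProper f'] (y' : Y') :
    ∃ y'' : Y', y' ⤳ y'' ∧ f' y'' = IsLocalRing.closedPoint B := by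
  have h1 : IsClosed (f' '' closure {y'}) := f'.isClosedMap _ isClosed_closure
  have h2 : f' y' ⤳ (IsLocalRing.closedPoint B : PrimeSpectrum B) :=
    IsLocalRing.specializes_closedPoint (R := B) _
  have h3 : (IsLocalRing.closedPoint B : PrimeSpectrum B) ∈ f' '' closure {y'} :=
    h2.mem_closed h1 ⟨y', subset_closure rfl, rfl⟩
  obtain ⟨y'', hy'', h4⟩ := h3
  exact ⟨y'', specializes_iff_mem_closure.mpr hy'', h4⟩

end Aux

open CategoryTheory AlgebraicGeometry in
/-- Let Y → Spec A be a proper S₂-morphism to a Noetherian affine base, of pure relative dimension d,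
with relative canonical sheaf ω (characterised by the d-dualizing property over A), and t a point of
Spec A whose fibre Y_t is Gorenstein in codimension one and quasi-Gorenstein (every d-dualizing
module on Y_t over κ(t), i.e. its canonical sheaf, is invertible). If ω^{[r]} is invertible for some
r > 0 whose image in κ(t) is non-zero, then for every m ∈ ℤ the reflexive power ω^{[m]} satisfies
relative S₂ over the base at every point of Y_t (the morphism is ℚ-Gorenstein along Y_t). -/
theorem result
    (A : Type u) [CommRing A] [IsNoetherianRing A] (Y : Scheme.{u}) [Y.Over (Spec (CommRingCat.of A))]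
    [IsProper (Y ↘ Spec (CommRingCat.of A))] (d : ℕ)
    (hS : RelCanon.IsSkMor (Y ↘ Spec (CommRingCat.of A)) 2) (hd : Cyc.HasRelDim (Y ↘ Spec (CommRingCat.of A)) d)
    (ω : Y.Modules) (hω : RelCanon.IsDualizingSheaf A Y d ω)
    (t : (Spec (CommRingCat.of A)))
    (hG1 : ∀ y : Y, (Y ↘ Spec (CommRingCat.of A)) y = t → y ∉ RelCanon.gorLocus (Y ↘ Spec (CommRingCat.of A)) → (2 : WithBot ℕ∞) ≤ ringKrullDim (((Y ↘ Spec (CommRingCat.of A)).fiber ((Y ↘ Spec (CommRingCat.of A)) y)).presheaf.stalk ((Y ↘ Spec (CommRingCat.of A)).asFiber y)))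
    (hqg : ∀ ωt : ((Y ↘ Spec (CommRingCat.of A)).fiber t).Modules, @RelCanon.IsDualizingSheaf ((Spec (CommRingCat.of A)).residueField t) _ ((Y ↘ Spec (CommRingCat.of A)).fiber t) ⟨(Y ↘ Spec (CommRingCat.of A)).fiberToSpecResidueField t⟩ d ωt → PicF.IsInvertible ωt)
    (r : ℕ) (hr : 0 < r) (hrk : (r : (Spec (CommRingCat.of A)).residueField t) ≠ 0)
    (hinv : PicF.IsInvertible (RelCanon.refPowZ ω r)) :
    ∀ m : ℤ, ∀ y : Y, (Y ↘ Spec (CommRingCat.of A)) y = t → RelCanon.RelSkAt (Y ↘ Spec (CommRingCat.of A)) 2 (RelCanon.refPowZ ω m) y := by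
  have hNA : IsNoetherianRing (CommRingCat.of A) := inferInstanceAs (IsNoetherianRing A)
  have hlN : IsLocallyNoetherian Y :=
    LocallyOfFiniteType.isLocallyNoetherian (Y ↘ Spec (CommRingCat.of A))
  have hfl : Flat (Y ↘ Spec (CommRingCat.of A)) := hS.1
  have hc := K967.OmegaBasic.isCoh A Y d ω hω (K967.ReflUnit.dim_fiber_le hd)
  intro m y hy
  refine K682.QuasiGor.relSkAt_of_invertibleAt _ 2 hS y
    (K970.RefPow.invertibleAt_refPowZ y ?_ m)
  -- base change to the localization at `t`
  let B : Type u := Localization.AtPrime t.asIdeal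
  let φ : A →+* B := algebraMap A B
  let f := Y ↘ Spec (CommRingCat.of A)
  let g : Spec (CommRingCat.of B) ⟶ Spec (CommRingCat.of A) := Spec.map (CommRingCat.ofHom φ)
  let Y' : Scheme.{u} := Limits.pullback f g
  let _ : Y'.Over (Spec (CommRingCat.of B)) := ⟨Limits.pullback.snd f g⟩
  let p : Y' ⟶ Y := Limits.pullback.fst f g
  have hp : IsPullback p (Y' ↘ Spec (CommRingCat.of B)) f g := IsPullback.of_hasPullback f g
  have hNB : IsNoetherianRing (CommRingCat.of B) :=
    inferInstanceAs (IsNoetherianRing (Localization.AtPrime t.asIdeal))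
  have hNB' : IsNoetherianRing B := inferInstanceAs (IsNoetherianRing (Localization.AtPrime t.asIdeal))
  have hpr : IsProper (Y' ↘ Spec (CommRingCat.of B)) := MorphismProperty.of_isPullback hp inferInstance
  have hlN' : IsLocallyNoetherian Y' :=
    LocallyOfFiniteType.isLocallyNoetherian (Y' ↘ Spec (CommRingCat.of B))
  have hφ : φ.Flat :=
    RingHom.flat_algebraMap_iff.mpr (inferInstance : Module.Flat A (Localization.AtPrime t.asIdeal))
  have hg : Flat g := by
    rw [HasRingHomProperty.Spec_iff (P := @Flat)]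
    exact hφ
  have hpf : Flat p := MorphismProperty.of_isPullback hp.flip inferInstance
  have hS' := K970.BCHyp.isSkMor_cat _ hp 2 hS
  have hd' := K970.BCHyp.hasRelDim_of_isPullback hp hd
  have hω' := K968.Compare2.isDualizingSheaf_pullback A d hd B φ p hp hφ hω
  let t' : Spec (CommRingCat.of B) := IsLocalRing.closedPoint (Localization.AtPrime t.asIdeal)
  have ht' : g t' = t := by
    apply PrimeSpectrum.ext
    exact IsLocalization.AtPrime.under_maximalIdeal (Localization.AtPrime t.asIdeal) t.asIdeal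
  let U : Y.Opens := ⟨RelCanon.gorLocus f, Groth.Agent.S3617.result Y _ f⟩
  have hfp : ∀ y' : Y', f (p y') = g ((Y' ↘ Spec (CommRingCat.of B)) y') := fun y' => by
    have := congrArg (fun h => h y') hp.w
    simpa using this
  have hG' : ∀ y' : Y', y' ∉ RelCanon.gorLocus (Y' ↘ Spec (CommRingCat.of B)) →
      (2 : WithBot ℕ∞) ≤ ringKrullDim (((Y' ↘ Spec (CommRingCat.of B)).fiber
        ((Y' ↘ Spec (CommRingCat.of B)) y')).presheaf.stalk
          ((Y' ↘ Spec (CommRingCat.of B)).asFiber y')) := by
    intro y' hy'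
    obtain ⟨y'', hsp, hy''⟩ := exists_specializes (B := Localization.AtPrime t.asIdeal)
      (Y' ↘ Spec (CommRingCat.of B)) y'
    have h0 : f (p y'') = t := by
      rw [hfp, hy'']
      exact ht'
    obtain ⟨V, hV, hVU⟩ := K66.Fibre.exists_open_codim f hd U (p y'') 2
      (fun z hz hzU => hG1 z (hz.trans h0) hzU)
    refine (hVU (p y') ?_ ?_).trans (K970.BCHyp.ringKrullDim_fibre_le_cat _ hp y')
    · exact (hsp.map p.continuous).mem_open V.isOpen hV
    · intro h
      exact hy' ((Groth.Agent.S3626.result Y _ Y' _ f g _ p hp y').mpr h)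
  obtain ⟨y', hy'1, hy'2⟩ := Scheme.Pullback.exists_preimage_pullback (f := f) (g := g) y t'
    (hy.trans ht'.symm)
  have hrk' : ((r : ℕ) : (Spec (CommRingCat.of B)).residueField t') ≠ 0 := by
    have h1 : ∀ t2, t2 = t → ((r : ℕ) : (Spec (CommRingCat.of A)).residueField t2) ≠ 0 := by
      rintro _ rfl
      exact hrk
    have h2 := h1 _ ht'
    intro h
    apply h2
    apply (g.residueFieldMap t').hom.injective
    rw [map_natCast, map_zero]
    exact h
  have hqg' : ∀ t2, t2 = t → ∀ ωt : ((Y ↘ Spec (CommRingCat.of A)).fiber t2).Modules, @RelCanon.IsDualizingSheaf ((Spec (CommRingCat.of A)).residueField t2) _ ((Y ↘ Spec (CommRingCat.of A)).fiber t2) ⟨(Y ↘ Spec (CommRingCat.of A)).fiberToSpecResidueField t2⟩ d ωt → PicF.IsInvertible ωt := by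
    rintro _ rfl
    exact hqg
  obtain ⟨e⟩ := K970.RefPow.nonempty_pullback_refPowZ p hc r
  have key := K682.QuasiGor.invertibleAt B Y' d hd' _ hω' hS' hG' t'
    (K682.QuasiGor.isInvertible_bc f d hd (CommRingCat.ofHom φ) hp t' (hqg' _ ht')) r hrk' y' hy'2
    (K970.InvAt.invertibleAt_of_iso e y' (K970.InvAt.invertibleAt_pullback p _ y' (hinv _)))
  have h9 := (K970.InvAt.invertibleAt_pullback_iff_of_flat p hc y').mp key
  rwa [hy'1] at h9

end Groth.Agent.S19838
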