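import Groth.Statements.S19845
import Groth.Agent.QGor.K966.QRef

set_option autoImplicit false
universe u
open QGor

namespace Groth.Agent.S19845

open CategoryTheory AlgebraicGeometry in
/-- Let A be a Henselian Noetherian local ring and Y → Spec A a proper S₂-morphism of pure relative
dimension d with fibres Gorenstein in codimension one and relative canonical sheaf ω (characterised
by the d-dualizing property over A); let y be a point of the closed fibre at which the closed fibre
is ℚ-Gorenstein (w.r.t. its canonical sheaf). Then there is an ideal 𝔞 of A such that for every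
Noetherian local ring R, every local homomorphism φ : A → R, every cartesian square Y' → Y over Spec
R → Spec A with projection p and every module ω' with the d-dualizing property for Y' over R: the
morphism Y' → Spec R is ℚ-Gorenstein with respect to ω' at every point of Y' lying over y and over
the closed point of Spec R (some neighbourhood of the point on which all ω'^{[m]} satisfy relative
S₂) if and only if φ maps 𝔞 to zero (Spec R → Spec A factors through Spec A/𝔞). -/
theorem result
    (A : Type u) [CommRing A] [IsNoetherianRing A] [HenselianLocalRing A]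
    (Y : Scheme.{u}) [Y.Over (Spec (CommRingCat.of A))]
    [IsProper (Y ↘ Spec (CommRingCat.of A))] (d : ℕ)
    (hS : RelCanon.IsSkMor (Y ↘ Spec (CommRingCat.of A)) 2) (hd : Cyc.HasRelDim (Y ↘ Spec (CommRingCat.of A)) d)
    (ω : Y.Modules) (hω : RelCanon.IsDualizingSheaf A Y d ω)
    (hG : ∀ y : Y, y ∉ RelCanon.gorLocus (Y ↘ Spec (CommRingCat.of A)) →
      (2 : WithBot ℕ∞) ≤ ringKrullDim (((Y ↘ Spec (CommRingCat.of A)).fiber ((Y ↘ Spec (CommRingCat.of A)) y)).presheaf.stalk ((Y ↘ Spec (CommRingCat.of A)).asFiber y)))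
    (y : Y) (hy : (Y ↘ Spec (CommRingCat.of A)) y = IsLocalRing.closedPoint A)
    (hQy : ∀ ωt : ((Y ↘ Spec (CommRingCat.of A)).fiber ((Y ↘ Spec (CommRingCat.of A)) y)).Modules, @RelCanon.IsDualizingSheaf ((Spec (CommRingCat.of A)).residueField ((Y ↘ Spec (CommRingCat.of A)) y)) _ ((Y ↘ Spec (CommRingCat.of A)).fiber ((Y ↘ Spec (CommRingCat.of A)) y)) ⟨(Y ↘ Spec (CommRingCat.of A)).fiberToSpecResidueField ((Y ↘ Spec (CommRingCat.of A)) y)⟩ d ωt → RelCanon.IsQGorWithAt ωt ((Y ↘ Spec (CommRingCat.of A)).asFiber y)) :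
    ∃ 𝔞 : Ideal A, ∀ (B : Type u) [CommRing B] [IsNoetherianRing B] [IsLocalRing B] (φ : A →+* B) [IsLocalHom φ]
      (Y' : Scheme.{u}) [Y'.Over (Spec (CommRingCat.of B))] (p : Y' ⟶ Y)
      (hp : IsPullback p (Y' ↘ Spec (CommRingCat.of B)) (Y ↘ Spec (CommRingCat.of A)) (Spec.map (CommRingCat.ofHom φ)))
      (ω' : Y'.Modules) (hω' : RelCanon.IsDualizingSheaf B Y' d ω'),
      ((∀ y' : Y', p y' = y → (Y' ↘ Spec (CommRingCat.of B)) y' = IsLocalRing.closedPoint B → RelCanon.IsQGorMorWithAt (Y' ↘ Spec (CommRingCat.of B)) ω' y') ↔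
        Ideal.map φ 𝔞 = ⊥) := by
  exact K966.QRef.exists_ideal A Y d hS hd ω hω hG y hQy hy

end Groth.Agent.S19845
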