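import Groth.Statements.S19847
import Groth.Agent.AbVar.K504.DimAV
import Groth.Agent.AbVar.K311.InvDataAV
import Groth.Agent.AbVar.K853.CeIso

set_option autoImplicit false
universe u
open CategoryTheory CategoryTheory.Limits MonoidalCategory CartesianMonoidalCategory MonObj GrpObj AlgebraicGeometry TopologicalSpace
open AbVar

namespace Groth.Agent.S19847

/-- Let X be an abelian variety over an arbitrary field k, that is, a proper and geometrically integral
k-group scheme, and let D be a de Rham complex of the sheaf of differentials of X over k (the
algebraic de Rham complex of X over k, given by its characterising data). Then the Hodge to de Rham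
spectral sequence E_1^{p,q} = H^q(X, Ω^p_{X/k}) ⇒ H^{p+q}_dR(X/k), the spectral sequence of the
stupid filtration of D on hypercohomology over X, degenerates at the first page, in the form: for
all integers a and i the map H^a(X, σ_{≥ i+1} D) → H^a(X, σ_{≥ i} D) on hypercohomology is injective
and the map H^a(X, σ_{≥ i} D) → H^a(X, D^i placed in degree i) is surjective. No restriction on the
characteristic of k or on perfectness is made. -/
theorem result (k : Type u) [Field k]
    (X : Scheme.{u}) [X.Over (Spec (CommRingCat.of k))] [GrpObj (Over.mk (X ↘ Spec (CommRingCat.of k)))]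
    [IsProper (X ↘ Spec (CommRingCat.of k))] [GeometricallyIntegral (X ↘ Spec (CommRingCat.of k))]
    (D : DeRhamSh.OmegaCx (X ↘ Spec (CommRingCat.of k)))
    [HasDerivedCategory.{u} (Sheaf (Opens.grothendieckTopology X) AddCommGrpCat.{u})] :
    E1Deg.HyperDegenerates D.KZ (⊤ : X.Opens) := by
  have h1 := K504.AnyField.smooth_str k X
  have h2 := K504.AnyField.isIntegral k X
  obtain ⟨g, hd⟩ := K504.Hodge.exists_relDim k X (X ↘ Spec (CommRingCat.of k))
  have hg : topologicalKrullDim X = g := K504.Hodge.topologicalKrullDim_eq (X ↘ Spec (CommRingCat.of k)) g
  exact fun a i => K504.DimAV.degeneratesAt k X g hg (K311.InvDataAV.exists_invData k X g hg)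
    (fun F => K853.CeIso.t5 F) D a i

end Groth.Agent.S19847
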