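import Groth.Statements.S19848
import Groth.Agent.AbVar.K504.DimAV
import Groth.Agent.AbVar.K311.InvDataAV
import Groth.Agent.AbVar.K853.CeIso

set_option autoImplicit false
universe u
open CategoryTheory CategoryTheory.Limits MonoidalCategory CartesianMonoidalCategory MonObj GrpObj AlgebraicGeometry TopologicalSpace
open AbVar

namespace Groth.Agent.S19848

/-- Let X be an abelian variety over an arbitrary field k (a proper and geometrically integral k-group
scheme) of dimension g, and let D be a de Rham complex of the sheaf of differentials of X over k
whose differentials are k-linear, k acting through the structure map. Then for every natural number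
n the algebraic de Rham cohomology H^n_dR(X/k) = H^n(X, D), with its k-vector space structure, is
finite-dimensional of dimension the binomial coefficient (2g choose n). (This is the numerical form
of the degeneration of the Hodge to de Rham spectral sequence at the first page combined with the
Hodge numbers h^{p,q} = (g choose p)(g choose q) of an abelian variety: the sum of (g choose p)(g
choose n − p) over p is (2g choose n). The k-linearity of the differentials holds for the de Rham
complex and is carried as a hypothesis because the complex is given by its characterising data.) -/
theorem result (k : Type u) [Field k]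
    (X : Scheme.{u}) [X.Over (Spec (CommRingCat.of k))] [GrpObj (Over.mk (X ↘ Spec (CommRingCat.of k)))]
    [IsProper (X ↘ Spec (CommRingCat.of k))] [GeometricallyIntegral (X ↘ Spec (CommRingCat.of k))]
    (g : ℕ) (hg : topologicalKrullDim ↥X = g)
    (D : DeRhamSh.OmegaCx (X ↘ Spec (CommRingCat.of k)))
    (h : KLinDR.TermwiseLinear (Coh.toGlobal (X ↘ Spec (CommRingCat.of k))) D.K D.term D.iso)
    [HasDerivedCategory.{u} (Sheaf (Opens.grothendieckTopology X) AddCommGrpCat.{u})] (n : ℕ) :
    Module.Finite k (KLinDR.HdR (Coh.toGlobal (X ↘ Spec (CommRingCat.of k))) D h n) ∧
      Module.finrank k (KLinDR.HdR (Coh.toGlobal (X ↘ Spec (CommRingCat.of k))) D h n) = Nat.choose (2 * g) n := by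
  exact K504.DimAV.result48 k X g hg (K311.InvDataAV.exists_invData k X g hg) (fun F => K853.CeIso.t5 F) D h n

end Groth.Agent.S19848
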