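import Groth.Statements.S19850
import Groth.Agent.DeRhamSh.K854.Duality
import Groth.Agent.S15534

set_option autoImplicit false
universe u
open DeRhamSh

attribute [-instance] CategoryTheory.catToReflQuiver Groth.Agent.Ega3B.LeraySheaf.hasSheafifySh

namespace Groth.Agent.S19850

open CategoryTheory AlgebraicGeometry TopologicalSpace in
/-- Let k be a field and f : X → Spec k a proper morphism which is smooth of relative dimension d, so
that X is smooth over k and equidimensional of dimension d; let D be a de Rham complex of the sheaf
of differentials of f with k-linear differentials, k acting through f. Then for all natural numbers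
i, j with i + j = 2d the de Rham cohomology groups H^i_dR(X/k) and H^j_dR(X/k) are
finite-dimensional k-vector spaces of equal dimension. (The published statement gives more: a
k-linear map t : H^{2d}_dR(X/k) → k, for X nonempty, such that the cup-product pairings H^i ×
H^{2d−i} → k are perfect; the cup product and the trace are not expressed here, only the resulting
equality of dimensions, which also holds for X empty. The k-linearity of the differentials holds for
the de Rham complex and is carried as a hypothesis.) -/
theorem result (k : Type u) [Field k] (X : Scheme.{u})
    (f : X ⟶ Spec (CommRingCat.of k)) [IsProper f] (d : ℕ) [SmoothOfRelativeDimension d f]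
    (D : DeRhamSh.OmegaCx f)
    (h : KLinDR.TermwiseLinear (Coh.toGlobal f) D.K D.term D.iso)
    [HasDerivedCategory.{u} (Sheaf (Opens.grothendieckTopology X) AddCommGrpCat.{u})] (i j : ℕ) (hij : i + j = 2 * d) :
    Module.Finite k (KLinDR.HdR (Coh.toGlobal f) D h i) ∧
      Module.finrank k (KLinDR.HdR (Coh.toGlobal f) D h i) =
        Module.finrank k (KLinDR.HdR (Coh.toGlobal f) D h j) := by
  refine K854.Duality.finrank_eq k X f d D h ?_ i j hij
  intro e he z
  subst he
  exact Groth.Agent.S15534.result k X f e D z

end Groth.Agent.S19850
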