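import Groth.Statements.S19851
import Groth.Agent.DeRhamSh.K576.Finite

set_option autoImplicit false
universe u
open DeRhamSh

namespace Groth.Agent.S19851

open CategoryTheory AlgebraicGeometry TopologicalSpace in
/-- The case of a smooth scheme. Let k be a field of characteristic zero and f : Y → Spec k a
quasi-compact and quasi-separated smooth morphism (hence of finite type; quasi-separatedness is an
additional hypothesis, needed here to form the sheaf of differentials of f); let D be a de Rham
complex of the sheaf of differentials of f with k-linear differentials, k acting through f. Then for
every integer q the algebraic de Rham cohomology H^q_dR(Y/k) = H^q(Y, D), the hypercohomology of the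
de Rham complex with its k-vector space structure, is finite-dimensional. (The published statement
covers every embeddable scheme of finite type over k, with the cohomology of a singular scheme
defined through a formal completion, and also de Rham homology; this row is the smooth case. The
k-linearity of the differentials holds for the de Rham complex and is carried as a hypothesis.) -/
theorem result (k : Type u) [Field k] [CharZero k] (Y : Scheme.{u})
    (f : Y ⟶ Spec (CommRingCat.of k)) [QuasiCompact f] [QuasiSeparated f] [Smooth f]
    (D : DeRhamSh.OmegaCx f)
    (h : KLinDR.TermwiseLinear (Coh.toGlobal f) D.K D.term D.iso)
    [HasDerivedCategory.{u} (Sheaf (Opens.grothendieckTopology Y) AddCommGrpCat.{u})] (q : ℤ) :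
    Module.Finite k (KLinDR.HdR (Coh.toGlobal f) D h q) := by
  exact K576.DRFinite.fin_top f D h ⊤ q

end Groth.Agent.S19851
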