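import Groth.Statements.S19852
import Groth.Agent.DeRhamSh.K853.Lef.Final

set_option autoImplicit false
universe u
open DeRhamSh

attribute [-instance] CategoryTheory.catToReflQuiver

namespace Groth.Agent.S19852

open CategoryTheory AlgebraicGeometry TopologicalSpace in
/-- The case of a smooth closed subscheme, in numerical form. Let k be a field of characteristic zero, g
: X → Spec k proper and smooth of relative dimension n, ι : Y → X a closed immersion such that Y is
smooth over k, and U the open complement of Y in X; assume that H^q(U, F) vanishes for every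
quasi-coherent O_U-module F and every q ≥ r. Let D_X and D_Y be de Rham complexes of the sheaves of
differentials of X and of Y over k, with k-linear differentials. Then the k-vector spaces
H^i_dR(X/k) and H^i_dR(Y/k) have the same dimension for every integer i < n − r, and dim_k
H^{n−r}_dR(X/k) ≤ dim_k H^{n−r}_dR(Y/k). (The published statement is that the restriction map H^i(X)
→ H^i(Y) is bijective for i ≤ n − r and injective for i = n − r, for X proper of dimension n with X
− Y smooth and Y arbitrary, the cohomology of a singular Y being defined through a completion; the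
range i ≤ n − r for bijectivity fails for a smooth curve of bidegree (2, 2) in the product of two
projective lines, where n = 2, r = 1, H^1 of the surface vanishes and H^1 of the curve does not, and
the printed proof yields bijectivity exactly for i < n − r, which is the range used here. The
restriction map is not expressed: only the resulting relations between dimensions are stated, all
spaces being finite-dimensional since X and Y are smooth and proper. Here both X and Y are taken
smooth over k, and the vanishing on U is required for all quasi-coherent modules, which on the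
Noetherian scheme U amounts to the vanishing for coherent ones.) -/
theorem result (k : Type u) [Field k] [CharZero k] (X Y : Scheme.{u})
    (g : X ⟶ Spec (CommRingCat.of k)) [IsProper g] (n : ℕ) [SmoothOfRelativeDimension n g]
    (ι : Y ⟶ X) [IsClosedImmersion ι] [Smooth (ι ≫ g)]
    (U : X.Opens) (hU : (U : Set ↥X) = (Set.range ι.base)ᶜ) (r : ℕ)
    (hcd : ∀ (F : (↑U : Scheme.{u}).Modules), Coh.IsQCoh F → ∀ q : ℕ, r ≤ q → Subsingleton (Coh.HH ↑U F q))
    (DX : DeRhamSh.OmegaCx g) (DY : DeRhamSh.OmegaCx (ι ≫ g))
    (hX : KLinDR.TermwiseLinear (Coh.toGlobal g) DX.K DX.term DX.iso)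
    (hY : KLinDR.TermwiseLinear (Coh.toGlobal (ι ≫ g)) DY.K DY.term DY.iso)
    [HasDerivedCategory.{u} (Sheaf (Opens.grothendieckTopology X) AddCommGrpCat.{u})]
    [HasDerivedCategory.{u} (Sheaf (Opens.grothendieckTopology Y) AddCommGrpCat.{u})] :
    (∀ i : ℤ, i + r < n →
        Module.finrank k (KLinDR.HdR (Coh.toGlobal g) DX hX i) =
          Module.finrank k (KLinDR.HdR (Coh.toGlobal (ι ≫ g)) DY hY i)) ∧
      Module.finrank k (KLinDR.HdR (Coh.toGlobal g) DX hX ((n : ℤ) - r)) ≤
        Module.finrank k (KLinDR.HdR (Coh.toGlobal (ι ≫ g)) DY hY ((n : ℤ) - r)) := by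
  refine ⟨fun i hi => ?_, ?_⟩
  · obtain ⟨φ, hφ, hφ'⟩ := K853.Lef.Final.exists_restr_int k X Y g n ι U hU r hcd DX DY hX hY i hi.le
    exact (LinearEquiv.ofBijective φ ⟨hφ, hφ' hi⟩).finrank_eq
  · obtain ⟨φ, hφ, -⟩ := K853.Lef.Final.exists_restr_int k X Y g n ι U hU r hcd DX DY hX hY ((n : ℤ) - r)
      (by omega)
    have := Groth.Agent.S19849.result k Y (ι ≫ g) DY hY ((n : ℤ) - r)
    exact LinearMap.finrank_le_finrank_of_injective hφ

end Groth.Agent.S19852
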