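import Groth.Statements.S19856
import Groth.Agent.CAlg.K95.Tame
import Mathlib.RingTheory.IntegralDomain
import Mathlib.RingTheory.LocalRing.ResidueField.Basic

set_option autoImplicit false
universe u v
open CAlg

namespace Groth.Agent.S19856


/-- Ring-level form: let O be a discrete valuation ring and G a finite group acting faithfully on O by
ring automorphisms, such that every element of G acts trivially on the residue field of O (that is,
g • a - a lies in the maximal ideal for all a) and such that the order of G is nonzero in the
residue field of O. Then G is cyclic. (The source states this for a finite group of order invertible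
in an algebraically closed field k acting faithfully on a smooth connected k-variety and the
subgroup of elements fixing pointwise a codimension-one irreducible component of the ramification
locus, applied to the local ring at the generic point of that component; it is stated here for an
arbitrary discrete valuation ring with a faithful action. The source also shows that this subgroup
is nontrivial; that geometric part is not stated.) -/
theorem result
    (O : Type u) [CommRing O] [IsDomain O] [IsDiscreteValuationRing O]
    (G : Type v) [Group G] [Finite G] [MulSemiringAction G O] [FaithfulSMul G O]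
    (htriv : ∀ (g : G) (a : O), g • a - a ∈ IsLocalRing.maximalIdeal O)
    (hcard : ((Nat.card G : ℕ) : IsLocalRing.ResidueField O) ≠ 0) :
    IsCyclic G := by
  classical
  obtain ⟨π, hπ⟩ := IsDiscreteValuationRing.exists_irreducible O
  have hπ0 : π ≠ 0 := hπ.ne_zero
  have hassoc : ∀ g : G, ∃ u : Oˣ, g • π = u * π := by
    intro g
    have h1 : Irreducible (g • π) := (MulEquiv.irreducible_iff (MulSemiringAction.toRingEquiv G O g)).2 hπ
    obtain ⟨u, hu⟩ := IsDiscreteValuationRing.associated_of_irreducible O hπ h1
    exact ⟨u, by rw [← hu, mul_comm]⟩
  choose u hu using hassoc
  have hres : ∀ (g : G) (a : O), IsLocalRing.residue O (g • a) = IsLocalRing.residue O a := by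
    intro g a
    rw [← sub_eq_zero, ← map_sub, IsLocalRing.residue_eq_zero_iff]
    exact htriv g a
  have hmul : ∀ g h : G, (u (g * h) : O) = (g • (u h : O)) * u g := by
    intro g h
    apply mul_right_cancel₀ hπ0
    rw [← hu, mul_smul, hu h, smul_mul', hu g, mul_assoc]
  let θ : G →* IsLocalRing.ResidueField O :=
    { toFun := fun g => IsLocalRing.residue O (u g)
      map_one' := by
        have h1 : (u 1 : O) = 1 := by
          apply mul_right_cancel₀ hπ0
          rw [← hu, one_smul, one_mul]
        rw [h1, map_one]
      map_mul' := by
        intro g h
        rw [hmul, map_mul, hres, mul_comm] }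
  have hunit : IsUnit ((Nat.card G : ℕ) : O) := by
    by_contra hc
    apply hcard
    rw [← map_natCast (IsLocalRing.residue O), IsLocalRing.residue_eq_zero_iff]
    exact (IsLocalRing.mem_maximalIdeal _).2 hc
  have hinj : Function.Injective θ := by
    rw [injective_iff_map_eq_one]
    intro g hg
    have hg' : IsLocalRing.residue O (u g) = 1 := hg
    apply FaithfulSMul.eq_of_smul_eq_smul (α := O)
    intro a
    rw [one_smul]
    refine K95.Tame.eq_self_of_tame g hunit (htriv g) ?_ a
    intro b hb
    rw [hπ.maximalIdeal_eq] at hb ⊢
    obtain ⟨c, rfl⟩ := Ideal.mem_span_singleton'.1 hb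
    have e : g • (c * π) - c * π = ((g • c) * u g - c) * π := by
      rw [smul_mul', hu]; ring
    rw [e, pow_two]
    refine Ideal.mul_mem_mul ?_ (Ideal.mem_span_singleton_self π)
    rw [← hπ.maximalIdeal_eq, ← IsLocalRing.residue_eq_zero_iff, map_sub, map_mul, hg', hres, mul_one, sub_self]
  exact isCyclic_of_injective_ringHom θ hinj

end Groth.Agent.S19856
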