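import Groth.Statements.S19859
import Groth.Agent.S1722
import Groth.Agent.LoccohA.DExtDepth
import Groth.Agent.LoccohA.DExtFin
import Groth.Agent.Localalg.DDual
import Groth.Agent.Ega4A.LengthGrowth

set_option autoImplicit false
universe u
open CategoryTheory
attribute [local instance] HasDerivedCategory.standard
open Dual

namespace Groth.Agent.S19859

/-- Let A be a Noetherian local ring with a normalized dualizing complex ω (so the codimension function
of ω vanishes at the closed point) and M a nonzero finite A-module with support of dimension d. Then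
Ext^{-d}(M, ω), the A-module of morphisms M → ω[-d] in D(A), is nonzero. (The source states this at
every point x of a locally Noetherian scheme with a dualizing complex, in the degree given by the
codimension function at x minus the dimension of the stalk; localizing and shifting reduces to the
closed point of a local ring with a normalized complex, which is the form stated here.) -/
theorem result (A : Type u) [CommRing A] [IsLocalRing A]
    [IsNoetherianRing A] (ω : Dual.D A) (hω : Dual.IsDualizing A ω) (hn : Dual.IsNormalized A ω)
    (M : Type u) [AddCommGroup M] [Module A M] [Module.Finite A M] [Nontrivial M]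
    (d : ℕ) (hd : Module.supportDim A M = d) :
    Nontrivial (Dual.inD A M ⟶ ω⟦(-(d : ℤ))⟧) := by
  obtain ⟨δ, hδ, hcov⟩ := Groth.Agent.S1722.result A ω hω
  have hδ' : ∀ (p : PrimeSpectrum A) (i : ℤ),
      p ∈ Module.support A (LoccohA.DExt.E ω i (A ⧸ p.asIdeal)) ↔ i = -δ p := hδ
  have hfin : ∀ (i : ℤ) (M : Type u) [AddCommGroup M] [Module A M] [Module.Finite A M],
      Module.Finite A (LoccohA.DExt.E ω i M) := fun i M _ _ _ =>
    LoccohA.DExtFin.finite_E hω i M
  -- the closed point
  have hm : δ (IsLocalRing.closedPoint A) = 0 := by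
    by_contra hne
    have h1 : IsLocalRing.closedPoint A ∈ Module.support A (LoccohA.DExt.E ω
      (-δ (IsLocalRing.closedPoint A)) (A ⧸ (IsLocalRing.closedPoint A).asIdeal)) :=
      (hδ' _ _).mpr rfl
    have h2 : Subsingleton (LoccohA.DExt.E ω
      (-δ (IsLocalRing.closedPoint A)) (A ⧸ (IsLocalRing.closedPoint A).asIdeal)) :=
      hn _ (by omega)
    rw [Module.support_eq_empty] at h1
    exact h1
  obtain ⟨p, hp, hdp⟩ := Groth.Agent.Ega4A.LengthGrowth.exists_assPrime_of_le_supportDim d hd.ge
  let P : PrimeSpectrum A := ⟨p, hp.isPrime⟩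
  obtain ⟨e, he⟩ : ∃ e : ℕ, δ P = e := by
    have := LoccohA.DimFun.le_of_le hcov
      (show P ≤ IsLocalRing.closedPoint A from IsLocalRing.le_maximalIdeal P.2.ne_top)
    exact ⟨(δ P).toNat, by omega⟩
  have hdim : ringKrullDim (A ⧸ P.asIdeal) = e := by
    rw [LoccohA.DimFun.dim_quotient hcov, hm, he, zero_add]
  have hde : d ≤ e := by
    have h : (d : WithBot ℕ∞) ≤ ringKrullDim (A ⧸ P.asIdeal) := hdp
    rw [hdim] at h
    exact_mod_cast h
  have hmem := LoccohA.DExtDim.mem_of_mem_associatedPrimes ω hfin hδ' P M hp
  have hnt : Nontrivial (LoccohA.DExt.E ω (-δ P) M) := by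
    by_contra hs
    rw [not_nontrivial_iff_subsingleton] at hs
    rw [Module.support_eq_empty] at hmem
    exact hmem
  have hed : e ≤ d := by
    by_contra hlt
    have := Groth.Agent.Localalg.DDual.subsingleton_of_lt hω hn M d hd.le (-δ P) (by omega)
    exact not_subsingleton _ this
  have : -δ P = -(d : ℤ) := by omega
  rw [this] at hnt
  exact hnt

end Groth.Agent.S19859
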