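import Groth.Statements.S19860
import Groth.Agent.S7750
import Groth.Agent.S7764
import Groth.Agent.Variety.K425.HilbFn

set_option autoImplicit false
universe u
open CategoryTheory CategoryTheory.Limits AlgebraicGeometry
open Variety

namespace Groth.Agent.S19860

open K425.HilbFn Polynomial in
/-- If the Hilbert functions of the generic and of the closed fibre agree, all fibres have the same
Hilbert function. -/
theorem chi_const (A : Type u) [CommRing A] [IsDomain A] [IsLocalRing A]
    (X : Scheme.{u}) (f : X ⟶ Spec (CommRingCat.of A)) [IsProper f] [LocallyOfFinitePresentation f]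
    (L : X.Modules) (hL : RelAmple.IsRelAmple f L) (F : X.Modules) (hF : CohB1.IsFP F)
    (h : ∀ n : ℕ, chi f F L (⊥ : PrimeSpectrum A) n = chi f F L (IsLocalRing.closedPoint A) n)
    (s : Spec (CommRingCat.of A)) (n : ℕ) :
    chi f F L s n = chi f F L (IsLocalRing.closedPoint A) n := by
  have hLi := CalgB.AmpleRel.isInvertible_of_isRelAmple hL
  obtain ⟨P, hP⟩ := exists_poly1 f hF hLi (IsLocalRing.closedPoint A)
  obtain ⟨Q, hQ⟩ := exists_poly1 f hF hLi s
  have h1 : s ∈ {s : Spec (CommRingCat.of A) | ∃ N : ℕ, ∀ n : ℕ, N ≤ n → P.eval (n : ℚ) ≤ (chi f F L s n : ℚ)} := by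
    have hc := Groth.Agent.S7764.result X (Spec (CommRingCat.of A)) f L hL F hF P
    refine Specializes.mem_closed (x := ((⊥ : PrimeSpectrum A) : Spec (CommRingCat.of A)))
      ((PrimeSpectrum.le_iff_specializes (⊥ : PrimeSpectrum A) s).1 bot_le) hc ?_
    exact ⟨0, fun n _ => by rw [h n, hP n]⟩
  have h2 : (IsLocalRing.closedPoint A : PrimeSpectrum A) ∈
      {s : Spec (CommRingCat.of A) | ∃ N : ℕ, ∀ n : ℕ, N ≤ n → Q.eval (n : ℚ) ≤ (chi f F L s n : ℚ)} := by
    have hc := Groth.Agent.S7764.result X (Spec (CommRingCat.of A)) f L hL F hF Q
    exact Specializes.mem_closed (IsLocalRing.specializes_closedPoint (R := A) s) hc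
      ⟨0, fun n _ => (hQ n).ge⟩
  obtain ⟨N₁, h₁⟩ := h1
  obtain ⟨N₂, h₂⟩ := h2
  have h3 := eq_of_eventually f hF hLi s P (max N₁ N₂) (fun n hn => by
    refine le_antisymm ?_ (h₁ n ((le_max_left _ _).trans hn))
    rw [hQ n, ← hP n]
    exact h₂ n ((le_max_right _ _).trans hn)) n
  have h4 := h3.trans (hP n).symm
  exact_mod_cast h4

/-- Let A be a Noetherian local integral domain, f : X ⟶ Spec A a proper morphism, L an invertible
O_X-module ample relative to f and F a coherent O_X-module. Then F is flat over Spec A if and only
if the Hilbert polynomials of F on the generic fibre and on the closed fibre coincide: for every n ≥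
0 the Euler characteristic, over the fraction field, of the pullback of F ⊗ L^{⊗n} to the fibre over
the generic point equals the Euler characteristic, over the residue field, of its pullback to the
fibre over the closed point. (The source works with k-schemes of finite type over an algebraically
closed field of characteristic zero, A a local integral k-algebra and f projective with a relatively
very ample O(1); the argument uses only that A is a Noetherian local domain and that some power of L
is relatively very ample, so it is stated here for proper f with an f-ample L and no base field.) -/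
theorem result
    (A : Type u) [CommRing A] [IsDomain A] [IsNoetherianRing A] [IsLocalRing A]
    (X : Scheme.{u}) (f : X ⟶ Spec (CommRingCat.of A)) [IsProper f]
    (L : X.Modules) (hL : RelAmple.IsRelAmple f L) (F : X.Modules) (hF : Coh.IsCoh F) :
    FlatMod.IsFlatOver f F ↔
      ∀ n : ℕ,
        @Curv2.euler ((Spec (CommRingCat.of A)).residueField (⊥ : PrimeSpectrum A)) _ (f.fiber (⊥ : PrimeSpectrum A))
          ⟨f.fiberToSpecResidueField (⊥ : PrimeSpectrum A)⟩
          ((Scheme.Modules.pullback (f.fiberι (⊥ : PrimeSpectrum A))).obj (CohB1.tensorMod F (CohB1.tensorPow L n))) =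
        @Curv2.euler ((Spec (CommRingCat.of A)).residueField (IsLocalRing.closedPoint A)) _ (f.fiber (IsLocalRing.closedPoint A))
          ⟨f.fiberToSpecResidueField (IsLocalRing.closedPoint A)⟩
          ((Scheme.Modules.pullback (f.fiberι (IsLocalRing.closedPoint A))).obj (CohB1.tensorMod F (CohB1.tensorPow L n))) := by
  have : LocallyOfFinitePresentation f := K425.Uniform.lofp_of_noetherian f
  have : IsLocallyNoetherian X := LocallyOfFiniteType.isLocallyNoetherian f
  have hFP : CohB1.IsFP F := (Groth.Agent.S0018.result X F).1 hF
  have : IsReduced (Spec (CommRingCat.of A)) := inferInstance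
  have key := Groth.Agent.S7750.result X (Spec (CommRingCat.of A)) f L hL F hF
  constructor
  · intro hfl n
    obtain ⟨U, hU, h⟩ := key.1 hfl (IsLocalRing.closedPoint A)
    refine h _ ?_ n
    exact (IsLocalRing.specializes_closedPoint (R := A) (⊥ : PrimeSpectrum A)).mem_open U.2 hU
  · intro h
    refine key.2 fun s => ⟨⊤, trivial, fun s' _ n => ?_⟩
    have h1 := chi_const A X f L hL F hFP h
    exact (h1 s' n).trans (h1 s n).symm

end Groth.Agent.S19860
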