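import Groth.Statements.S19861
import Groth.Agent.Coh.K229.BlowEuler

set_option autoImplicit false
universe u
open CategoryTheory AlgebraicGeometry
open Coh

namespace Groth.Agent.S19861

/-- Let X be a scheme proper over a field k with dim X = r, L an invertible O_X-module generated by its
global sections and I a quasi-coherent ideal sheaf such that I ⊗ L is generated by its global
sections. Then h^0(X, L^{⊗n} ⊗ O_X/I^n) differs from the Euler characteristic χ(X, L^{⊗n} ⊗ O_X/I^n)
by O(n^{r-1}): there is a real constant C with |dim_k H^0 - χ| ≤ C·n^{r-1} for every n ≥ 1; here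
O_X/I^n is the direct image on X of the structure sheaf of the closed subscheme cut out by I^n, and
for r = 0 the exponent is read as 0. (Combined with the polynomiality of χ this computes the
normalized leading coefficient e_L(I) from dimensions of spaces of sections, which is how the source
phrases (a); the source allows a non-complete variety with the support of O_X/I proper and reduces
to the complete case, which is the case stated here, for any proper scheme over any field (X need
not be integral).) -/
theorem result (k : Type u) [Field k]
    (X : Scheme.{u}) [X.Over (Spec (CommRingCat.of k))] [IsProper (X ↘ (Spec (CommRingCat.of k)))]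
    (r : ℕ) (hdim : topologicalKrullDim X = r)
    (L : X.Modules) (hL : PicF.IsInvertible L) (hLgen : Curv2.IsGloballyGenerated L)
    (I : X.IdealSheafData) (hIgen : Curv2.IsGloballyGenerated (CohB1.tensorMod (ClSub.idealMod I) L)) :
    ∃ C : ℝ, ∀ n : ℕ, 1 ≤ n →
      |(Module.finrank k (Coh.HH X (CohB1.tensorMod (CohB1.tensorPow L n)
            ((Scheme.Modules.pushforward (I ^ n).subschemeι).obj (Coh.structureModule (I ^ n).subscheme))) 0) : ℝ) -
        (Curv2.euler k X (CohB1.tensorMod (CohB1.tensorPow L n)
            ((Scheme.Modules.pushforward (I ^ n).subschemeι).obj (Coh.structureModule (I ^ n).subscheme))) : ℝ)| ≤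
      C * (n : ℝ) ^ (r - 1) := by
  obtain ⟨C, hC⟩ := K229.BlowEuler.exists_bound k hdim.le hL hLgen I hIgen
  refine ⟨(C : ℝ), fun n hn => ?_⟩
  have h := hC n hn
  change |(Module.finrank k (Coh.HH X (CohB1.tensorMod (CohB1.tensorPow L n) (ClSub.quotMod (I ^ n))) 0) : ℝ) -
    (Curv2.euler k X (CohB1.tensorMod (CohB1.tensorPow L n) (ClSub.quotMod (I ^ n))) : ℝ)| ≤ _
  exact_mod_cast h

end Groth.Agent.S19861
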