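import Groth.Statements.S19863
import Groth.Agent.EGA4.K114.NormHom
import Groth.Agent.EGA4.K114.OnePlus
import Groth.Agent.S0543

set_option autoImplicit false
universe u
open EGA4

namespace Groth.Agent.S19863

/-- Let A be a Noetherian ring, J a proper ideal of A, Â the J-adic completion and A_T the localization
of A at T = 1 + J. If the canonical map A → Â is a regular homomorphism (flat, with Noetherian
geometrically regular fibres), then A_T is a regular ring if and only if Â is a regular ring
(Noetherian, with regular local rings at all primes). (The cases of the henselization of the pair
and of the weak completion are not stated here.) -/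
theorem result
    (A : Type u) [CommRing A] [IsNoetherianRing A] (J : Ideal A) (hJ : J ≠ ⊤)
    (hf : CAlg.IsRegularHom A (AdicCompletion J A))
    (T : Submonoid A) (hT : T = MonoidHom.mker (Ideal.Quotient.mk J)) :
    IsRegularRing (Localization T) ↔ IsRegularRing (AdicCompletion J A) := by
  have hJfg : J.FG := IsNoetherian.noetherian J
  let _ : Algebra (Localization T) (AdicCompletion J A) :=
    (K114.OnePlus.lift J hJfg T hT (Localization T)).toRingHom.toAlgebra
  have : IsScalarTower A (Localization T) (AdicCompletion J A) :=
    IsScalarTower.of_algebraMap_eq (fun x =>
      ((K114.OnePlus.lift J hJfg T hT (Localization T)).commutes x).symm)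
  have hff : Module.FaithfullyFlat (Localization T) (AdicCompletion J A) :=
    K114.OnePlus.faithfullyFlat J T hT (Localization T)
  have hnT : IsNoetherianRing (Localization T) := IsLocalization.isNoetherianRing T _ inferInstance
  have hnA : IsNoetherianRing (AdicCompletion J A) := Groth.Agent.S0543.result A J
  have hn : CAlg.IsRegularHom (Localization T) (AdicCompletion J A) :=
    CalgB.RegHom7.isRegularHom_localization_left (Localization T) T hf
  constructor
  · intro h
    have hflat : Module.Flat (Localization T) (AdicCompletion J A) := hn.1
    refine CalgB.RegHom1.isRegularRing_of_flat_of_fiber (A := Localization T) ?_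
    intro p hp
    exact CalgB.RegHom6.FieldFib.of_isRegularHom hn p.ResidueField inferInstance
  · intro h
    exact CalgB.RegHom4.isRegularRing_of_faithfullyFlat (Localization T) (AdicCompletion J A)

end Groth.Agent.S19863
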