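import Groth.Statements.S19864
import Groth.Agent.CAlg.K95.RegHomLocal
import Groth.Agent.S2038
import Groth.Agent.S9259

set_option autoImplicit false
universe u
open CAlg

namespace Groth.Agent.S19864


/-- Let A and B be Noetherian rings and B an A-algebra. Then A → B is a regular homomorphism (flat with
Noetherian, geometrically regular fibres) if and only if for every prime q of B lying over the prime
p of A the induced local homomorphism A_p → B_q is formally smooth for the adic topologies of the
maximal ideals (equivalently, for the adic topology of the maximal ideal of B_q). -/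
theorem result (A B : Type u)
    [CommRing A] [CommRing B] [Algebra A B] [IsNoetherianRing A] [IsNoetherianRing B] :
    CAlg.IsRegularHom A B ↔
      ∀ (q : Ideal B) [q.IsPrime],
        letI := (Localization.localRingHom (Ideal.comap (algebraMap A B) q) q (algebraMap A B) rfl).toAlgebra
        CAlgX.IsAdicFormallySmooth (Localization.AtPrime (Ideal.comap (algebraMap A B) q))
          (Localization.AtPrime q) (IsLocalRing.maximalIdeal (Localization.AtPrime q)) := by
  have hlocal : ∀ (q : Ideal B) [q.IsPrime],
      letI := (Localization.localRingHom (Ideal.comap (algebraMap A B) q) q (algebraMap A B) rfl).toAlgebra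
      (Module.Flat (Localization.AtPrime (Ideal.comap (algebraMap A B) q)) (Localization.AtPrime q) ∧
        CAlg.IsGeometricallyRegular (IsLocalRing.maximalIdeal (Localization.AtPrime (Ideal.comap (algebraMap A B) q))).ResidueField
        ((IsLocalRing.maximalIdeal (Localization.AtPrime (Ideal.comap (algebraMap A B) q))).Fiber (Localization.AtPrime q))) ↔
      CAlgX.IsAdicFormallySmooth (Localization.AtPrime (Ideal.comap (algebraMap A B) q))
          (Localization.AtPrime q) (IsLocalRing.maximalIdeal (Localization.AtPrime q)) := by
    intro q _
    let _ := (Localization.localRingHom (Ideal.comap (algebraMap A B) q) q (algebraMap A B) rfl).toAlgebra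
    have hl : IsLocalHom (algebraMap (Localization.AtPrime (Ideal.comap (algebraMap A B) q)) (Localization.AtPrime q)) :=
      Localization.isLocalHom_localRingHom _ _ _ rfl
    have h1 : IsNoetherianRing (Localization.AtPrime (Ideal.comap (algebraMap A B) q)) :=
      IsLocalization.isNoetherianRing (Ideal.comap (algebraMap A B) q).primeCompl _ inferInstance
    have h2 : IsNoetherianRing (Localization.AtPrime q) :=
      IsLocalization.isNoetherianRing q.primeCompl _ inferInstance
    exact Groth.Agent.S2038.result
  constructor
  · intro h q _
    exact (hlocal q).1 ⟨((Groth.Agent.S9259.result A B).1.1 h q).1,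
      (((Groth.Agent.S9259.result A B).1.1 h q).2 _).2⟩
  · intro h
    rw [Groth.Agent.CalgB.RegHom6.isRegularHom_iff]
    exact ⟨K95.RegHomLocal.flat_of_localRingHom (fun q _ => ((hlocal q).2 (h q)).1),
      K95.RegHomLocal.fieldFib_of_closedFibres (fun q _ => ((hlocal q).2 (h q)).2)⟩

end Groth.Agent.S19864
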