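import Groth.Statements.S19871
import Groth.Agent.WeilCoh.K861.Graph

set_option autoImplicit false
universe u v
open CategoryTheory AlgebraicGeometry
open WeilCoh

namespace Groth.Agent.S19871

/-- Let `H` be a Weil cohomology theory with coefficients in a field `K` of characteristic zero on
nonsingular connected projective varieties over an algebraically closed field `k`; let `X`, `Y` be
such varieties and `P` a product `X × Y` with projections `p`, `q`, of dimension `dim X + dim Y`.
For an integer `r`, sending a class `φ ∈ H^{2 dim X + r}(P)` to the family, indexed by all integers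
`i`, of the `K`-linear maps `H^i(X) → H^{i+r}(Y)`, `x ↦ q_*(p^* x ∪ φ)`, is a bijection from `H^{2
dim X + r}(P)` onto the families of linear maps `(H^i(X) → H^{i+r}(Y))_i`, i.e. onto the degree-`r`
homomorphisms of graded vector spaces from `H•(X)` to `H•(Y)` (the factors with `i` outside `[0, 2
dim X]` are zero). The target degree is written `i + (2 dim X + r) + 2 dim Y − 2 dim P`, the
indexing of the push-forward; it equals `i + r` by the dimension hypothesis. (The published lemma
states a canonical isomorphism `Hom^r(H•X, H•Y) ≅ H^{2 dim X + r}(X × Y)(dim X)` obtained from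
Poincaré duality on `X` and the Künneth formula, for smooth projective varieties over an arbitrary
field with Tate twists; this row is its case of connected varieties over an algebraically closed
field, without twists, with the isomorphism written as the action of a class by pull-back, cup
product and push-forward.) -/
theorem result (k : Type u) [Field k] [IsAlgClosed k] (K : Type v) [Field K] [CharZero K]
    (T : WeilCoh.Theory k K) (X Y P : WeilCoh.Var k) (p : P ⟶ X) (q : P ⟶ Y) (hP : WeilCoh.IsProd p q)
    (hdim : WeilCoh.dim P.obj.left = WeilCoh.dim X.obj.left + WeilCoh.dim Y.obj.left) (r : ℤ) :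
    Function.Bijective (fun φ : ↥(T.gr P (2 * (WeilCoh.dim X.obj.left : ℤ) + r)) => fun i : ℤ =>
      (T.push q (i + (2 * (WeilCoh.dim X.obj.left : ℤ) + r))) ∘ₗ
        ((LinearMap.mulRight K (φ : T.H P)).restrict (p := T.gr P i) (q := T.gr P (i + (2 * (WeilCoh.dim X.obj.left : ℤ) + r)))
          (fun x hx => SetLike.mul_mem_graded hx φ.2)) ∘ₗ
        (T.pullDeg p i)) := by
  have hcoe : ∀ (φ : ↥(T.gr P (2 * (WeilCoh.dim X.obj.left : ℤ) + r))) (i : ℤ) (x : T.gr X i),
      (((T.push q (i + (2 * (WeilCoh.dim X.obj.left : ℤ) + r))) ∘ₗ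
        ((LinearMap.mulRight K (φ : T.H P)).restrict (p := T.gr P i) (q := T.gr P (i + (2 * (WeilCoh.dim X.obj.left : ℤ) + r)))
          (fun x hx => SetLike.mul_mem_graded hx φ.2)) ∘ₗ
        (T.pullDeg p i)) x : T.H Y) = K861.Total.corr T p q (φ : T.H P) (x : T.H X) := fun φ i x =>
    (K861.Total.pushT_of_mem T q
      (K861.Basic.mul_mem T (T.pull_mem p _ _ x.2) φ.2)).symm
  constructor
  · intro φ ψ h
    have h1 : ∀ (i : ℤ) (x : T.gr X i), K861.Total.corr T p q (φ : T.H P) (x : T.H X) =
        K861.Total.corr T p q (ψ : T.H P) (x : T.H X) := by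
      intro i x
      rw [← hcoe, ← hcoe]
      exact congrArg Subtype.val (LinearMap.congr_fun (congrFun h i) x)
    apply Subtype.ext
    apply K861.Basic.eq_of_tr_prod T hP
    intro i j a b ha hb
    have h2 := h1 i ⟨a, ha⟩
    have h3 := congrArg (fun c => T.tr Y (c * b)) h2
    simp only [K861.Total.tr_corr_mul] at h3
    -- move `p^* a` to the left
    have h4 : ∀ c : T.H P, c ∈ T.gr P (2 * (WeilCoh.dim X.obj.left : ℤ) + r) →
        T.tr P (c * (T.pull p a * T.pull q b)) =
          (-1 : K) ^ ((2 * (WeilCoh.dim X.obj.left : ℤ) + r).natAbs * i.natAbs) *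
            T.tr P (T.pull p a * c * T.pull q b) := by
      intro c hc
      rw [← mul_assoc, T.gradedComm P _ _ _ _ hc (T.pull_mem p _ _ ha), smul_mul_assoc, map_smul,
        smul_eq_mul]
    rw [h4 _ φ.2, h4 _ ψ.2, h3]
  · intro g
    -- dual bases
    have hdual : ∀ i : ℤ, ∃ (n : ℕ) (e : Module.Basis (Fin n) K (T.gr X i))
        (f : Fin n → T.gr X (2 * (WeilCoh.dim X.obj.left : ℤ) - i)),
        ∀ (l : Fin n) (x : T.gr X i), T.tr X ((x : T.H X) * (f l : T.H X)) = e.coord l x := by
      intro i
      let e := Module.finBasis K (T.gr X i)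
      have hp := (T.duality X i (2 * (WeilCoh.dim X.obj.left : ℤ) - i) (by ring)).bijective_right.2
      choose f hf using fun l => hp (e.coord l)
      exact ⟨_, e, f, fun l x => LinearMap.congr_fun (hf l) x⟩
    choose n e f hef using hdual
    have hdeg : ∀ i : ℤ, (2 * (WeilCoh.dim X.obj.left : ℤ) - i) +
        (i + (2 * (WeilCoh.dim X.obj.left : ℤ) + r) + 2 * (WeilCoh.dim Y.obj.left : ℤ) -
          2 * (WeilCoh.dim P.obj.left : ℤ)) = 2 * (WeilCoh.dim X.obj.left : ℤ) + r := by
      intro i; omega
    let c : ℤ → T.H P := fun i => ∑ l, T.pull p (f i l : T.H X) * T.pull q (g i (e i l) : T.H Y)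
    have hc : ∀ i, c i ∈ T.gr P (2 * (WeilCoh.dim X.obj.left : ℤ) + r) := by
      intro i
      refine Submodule.sum_mem _ fun l _ => ?_
      have := K861.Basic.mul_mem T (T.pull_mem p _ _ (f i l).2) (T.pull_mem q _ _ (g i (e i l)).2)
      rwa [hdeg i] at this
    have hcorr : ∀ (i : ℤ) (x : T.H X), K861.Total.corr T p q (c i) x =
        ∑ l, T.tr X (x * (f i l : T.H X)) • (g i (e i l) : T.H Y) := by
      intro i x
      have : K861.Total.corr T p q (c i) x = ∑ l, K861.Total.corr T p q
          (T.pull p (f i l : T.H X) * T.pull q (g i (e i l) : T.H Y)) x := by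
        simp only [K861.Total.corr_apply, c, Finset.mul_sum, map_sum]
      rw [this]
      exact Finset.sum_congr rfl fun l _ => K861.Total.corr_pull_mul_pull T p q hP _ _ _
    let φ : T.H P := ∑ i ∈ Finset.range (2 * WeilCoh.dim X.obj.left + 1), c (i : ℤ)
    have hφ : φ ∈ T.gr P (2 * (WeilCoh.dim X.obj.left : ℤ) + r) :=
      Submodule.sum_mem _ fun i _ => hc i
    refine ⟨⟨φ, hφ⟩, ?_⟩
    funext i
    ext x
    rw [hcoe]
    have h1 : K861.Total.corr T p q φ (x : T.H X) =
        ∑ i ∈ Finset.range (2 * WeilCoh.dim X.obj.left + 1), K861.Total.corr T p q (c (i : ℤ)) (x : T.H X) := by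
      simp only [K861.Total.corr_apply, φ, Finset.mul_sum, map_sum]
    refine h1.trans ?_
    by_cases hi : i < 0 ∨ (2 * (WeilCoh.dim X.obj.left : ℤ)) < i
    · have hx : x = 0 := Subtype.ext (K861.Basic.eq_zero_of_lt T x.2 hi)
      rw [hx]
      simp
    · obtain ⟨m, rfl⟩ : ∃ m : ℕ, i = m := ⟨i.toNat, by omega⟩
      rw [Finset.sum_eq_single m]
      · rw [hcorr]
        have h2 : x = ∑ l, T.tr X ((x : T.H X) * (f m l : T.H X)) • e m l := by
          conv_lhs => rw [← (e m).sum_repr x]
          exact Finset.sum_congr rfl fun l _ => by rw [hef]; rfl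
        conv_rhs => rw [h2, map_sum]
        rw [AddSubmonoidClass.coe_finsetSum]
        refine Finset.sum_congr rfl fun l _ => ?_
        rw [map_smul]
        rfl
      · intro j _ hj
        rw [hcorr]
        refine Finset.sum_eq_zero fun l _ => ?_
        rw [K861.Basic.tr_of_ne T (K861.Basic.mul_mem T x.2 (f j l).2) (by omega), zero_smul]
      · intro hm
        exfalso
        apply hm
        rw [Finset.mem_range]
        omega

end Groth.Agent.S19871
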