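import Groth.Statements.S19872
import Groth.Agent.BunMod.K28.Rows
import Groth.Agent.BunMod.K596.F1
import Groth.Agent.BunMod.K596.JB
import Groth.Agent.BunMod.K479.ModSSOne
import Groth.Agent.BunMod.K527.SymTheta
import Groth.Agent.BunMod.K808.NotGG

set_option autoImplicit false
attribute [-instance] CategoryTheory.catToReflQuiver Groth.Agent.Dcoh.MonCx.TensorGood.zero
universe u
open CategoryTheory CategoryTheory.Limits AlgebraicGeometry
open BunMod

namespace Groth.Agent.S19872

/-- Let k be an algebraically closed field of characteristic zero and X a smooth proper geometrically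
connected curve over k (topological dimension one) of genus g ≥ 2 (the text works over the complex
numbers). Fix r ≥ 2 and a theta characteristic N: an invertible O_X-module of degree g − 1 with N ⊗
N isomorphic to Ω_{X/k}. Let M, with φ, be the moduli space U_X(r,0): a k-scheme corepresenting on
all k-schemes the functor of families of rank-r, degree-0, slope-semistable vector bundles on X
modulo twisting by a line bundle from the base, whose geometric points are the S-equivalence
classes, and having a point over every algebraically closed field over k; let Θ be an invertible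
O_M-module inverse to the ideal of the theta locus Θ_N; let J, with ψ₁, be the Jacobian presented as
the moduli space U_X(1,0), Θ_J an invertible O_J-module inverse to the ideal of the theta locus of N
on J, and det : M → J the determinant morphism (every admissible family has an admissible top
exterior power, and ψ₁ at a top exterior power of E is φ at E followed by det). Then the Verlinde
bundle E_{r,r} := det_*(Θ^{⊗ r}) is not globally generated: it is not a quotient of a free
O_J-module. (The published proof reads E_{r,r} as a direct sum of copies of O_J(Θ_N); the correct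
decomposition is into twists O_J(Θ_N) ⊗ P_i by r-torsion line bundles P_i, each a translate of
O_J(Θ_N) with a one-dimensional space of sections vanishing along a divisor, and E_{r,r} is
non-zero, so the conclusion stands. The published statement also asserts that E_{r,k} is not
globally generated for every k ≤ r; only the case k = r is argued and stated here.) -/
theorem result (k : Type u) [Field k] [IsAlgClosed k] [CharZero k]
    (X : Scheme.{u}) [X.Over (Spec (CommRingCat.of k))]
    [IsProper (X ↘ Spec (CommRingCat.of k))] [Smooth (X ↘ Spec (CommRingCat.of k))]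
    [GeometricallyConnected (X ↘ Spec (CommRingCat.of k))] (hdim : topologicalKrullDim ↥X = 1)
    (g : ℕ) (hg : Curv2.genus k X = g) (hg2 : 2 ≤ g)
    (r : ℕ) (hr : 2 ≤ r) (N : X.Modules) (hN : PicF.IsInvertible N) (hNdeg : Curv2.deg k X N 1 = (g : ℤ) - 1)
    (hNth : Nonempty (CohB1.tensorMod N N ≅ Omega.sheaf (X ↘ Spec (CommRingCat.of k))))
    (M : Over (Spec (CommRingCat.of k))) (φ : (BunMod.USS (X ↘ Spec (CommRingCat.of k)) r 0).Hom ⊤ M)
    (hM : BunMod.IsModSS (X ↘ Spec (CommRingCat.of k)) ⊤ r 0 M φ)
    (hne : ∀ (Ω : Type u) [Field Ω] [IsAlgClosed Ω] (t : Spec (CommRingCat.of Ω) ⟶ Spec (CommRingCat.of k)),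
      Nonempty (Over.mk t ⟶ M))
    (Θ : M.left.Modules) (hΘ : BunMod.IsThetaLB (X ↘ Spec (CommRingCat.of k))
      (BunMod.ussOK (X ↘ Spec (CommRingCat.of k)) r 0) φ N Θ)
    (J : Over (Spec (CommRingCat.of k))) (ψ₁ : (BunMod.USS (X ↘ Spec (CommRingCat.of k)) 1 0).Hom ⊤ J)
    (hJ : BunMod.IsModSS (X ↘ Spec (CommRingCat.of k)) ⊤ 1 0 J ψ₁)
    (ΘJ : J.left.Modules) (hΘJ : BunMod.IsThetaLB (X ↘ Spec (CommRingCat.of k))
      (BunMod.ussOK (X ↘ Spec (CommRingCat.of k)) 1 0) ψ₁ N ΘJ)
    (dm : M ⟶ J)
    (hdet : ∀ (T : Over (Spec (CommRingCat.of k))) (E : (ModFun.modProb (X ↘ Spec (CommRingCat.of k))).Fam T),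
      (BunMod.USS (X ↘ Spec (CommRingCat.of k)) r 0).ok T E →
        ∃ D : (ModFun.modProb (X ↘ Spec (CommRingCat.of k))).Fam T, (∃ n : ℕ, FlatMod.IsFinLocFreeOfRank n E ∧ ExtPow.IsExtPow n E D) ∧
          (BunMod.USS (X ↘ Spec (CommRingCat.of k)) 1 0).ok T D)
    (hdm : ModFun.Induces φ ψ₁
      (fun T (E D : (ModFun.modProb (X ↘ Spec (CommRingCat.of k))).Fam T) => ∃ n : ℕ, FlatMod.IsFinLocFreeOfRank n E ∧ ExtPow.IsExtPow n E D) dm) :
    ¬ Curv2.IsGloballyGenerated ((Scheme.Modules.pushforward dm.left).obj (CohB1.tensorPow Θ r)) := by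
  obtain ⟨ψ, hψ, hΘ', hdm'⟩ := K479.ModSSOne.of_modSS_one k X hdim J ψ₁ hJ
  obtain ⟨hgrp, hcomm, hJac⟩ := Groth.Agent.BunMod.K596.JB.exists_isJacobian k X hdim J ψ hψ
  have hΘJ' := hΘ' N ΘJ hN hΘJ
  have hP := Groth.Agent.BunMod.K596.JB.ppav k X hdim g hg (by omega) N hN hNdeg J ψ hJac ΘJ hΘJ'
  obtain ⟨S⟩ := K28.Rows.exists_str k X hdim g hg hg2 r hr N hN hNdeg M φ hM hne Θ hΘ J ψ hJac ΘJ
    hΘJ' dm (hdm' r M φ dm hdet hdm)
  exact K808.NotGG.not_gg_of_verD hP (by omega)
    (K527.SymTheta.sym k X hdim g hg (by omega) N hN hNdeg hNth J ψ hJac ΘJ hΘJ') (by omega)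
    (Groth.Agent.BunMod.K596.F1.verD_of_str hP hΘ.1 (by omega) S r)

end Groth.Agent.S19872
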