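import Groth.Statements.S19874
import Groth.Agent.DelIll.K516.Pow

set_option autoImplicit false
universe u
open CategoryTheory CategoryTheory.Limits AlgebraicGeometry
open DelIll

namespace Groth.Agent.S19874

/-- With boundary divisor: let k be a perfect field of characteristic p > 0, X a proper smooth k-scheme
and D_1, …, D_r quasi-coherent ideal sheaves forming a strict normal crossing divisor D, such that
(X, D) admits a lifting to the Witt vectors of length two: a flat g : X~ → Spec W_2(k) with a
morphism i : X → X~ cartesian over Spec k → Spec W_2(k), and closed subschemes D~_j of X~ flat over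
W_2(k) whose ideals pull back along i to those of the D_j. Let M be an invertible O_X-module and
(Ω', d) a universal receptacle for the differentials of X over k, Ω¹(log D) the pinned sheaf of
differentials with logarithmic poles along D, and Ω^a(log D) a chosen a-th exterior power of it for
each a. Then for every l < p, Σ_{a+b=l} dim_k H^b(X, Ω^a(log D) ⊗ M) ≤ Σ_{a+b=l} dim_k H^b(X,
Ω^a(log D) ⊗ M^{⊗p}). -/
theorem result (p : ℕ) [Fact p.Prime] (k : Type u) [Field k] [CharP k p] [PerfectRing k p]
    (X : Scheme.{u}) [X.Over (Spec (CommRingCat.of k))] [IsProper (X ↘ Spec (CommRingCat.of k))]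
    [Smooth (X ↘ Spec (CommRingCat.of k))]
    (Xl : Scheme.{u}) (g : Xl ⟶ Spec (CommRingCat.of (FrobAlg.W2 p k))) [Flat g] (i : X ⟶ Xl)
    (hlift : IsPullback i (X ↘ Spec (CommRingCat.of k)) g
      (Spec.map (CommRingCat.ofHom (FrobAlg.res p k))))
    {r : ℕ} (D : Fin r → X.IdealSheafData) (hD : LogNCD.IsNCD D (X ↘ Spec (CommRingCat.of k)))
    (Dl : Fin r → Xl.IdealSheafData) (hDl : ∀ j, (Dl j).comap i = D j) (hDlf : ∀ j, Flat ((Dl j).subschemeι ≫ g))
    {Ω' : X.Modules} (d : OmegaSh.Der (X ↘ Spec (CommRingCat.of k)) Ω') (hd : OmegaSh.IsUniversal d) (Λ : LogNCD.LogMod d D)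
    (M : X.Modules) (hM : PicF.IsInvertible M)
    (La : ℕ → X.Modules) (hLa : ∀ a, ExtPow.IsExtPow a Λ.L (La a))
    (l : ℕ) (hl : l < p) :
    ∑ a ∈ Finset.range (l + 1), Module.finrank k (Coh.HH X (CohB1.tensorMod (La a) M) (l - a)) ≤
      ∑ a ∈ Finset.range (l + 1), Module.finrank k
        (Coh.HH X (CohB1.tensorMod (La a) (CohB1.tensorPow M p)) (l - a)) := by
  exact K516.Pow.main hlift (K922.Univ.affUniv hd) hD hDl hDlf Λ M hM La hLa l hl

end Groth.Agent.S19874
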