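import Groth.Statements.S19875
import Groth.Agent.DelIll.K516.Kod

set_option autoImplicit false
universe u
open CategoryTheory CategoryTheory.Limits AlgebraicGeometry
open DelIll

namespace Groth.Agent.S19875

/-- Deligne–Illusie–Raynaud vanishing, with boundary divisor: let k be a perfect field of characteristic
p > 0, X an irreducible proper smooth k-scheme of dimension n and D_1, …, D_r quasi-coherent ideal
sheaves forming a strict normal crossing divisor D, such that (X, D) admits a lifting to the Witt
vectors of length two: a flat g : X~ → Spec W_2(k) with a morphism i : X → X~ cartesian over Spec k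
→ Spec W_2(k), and closed subschemes D~_j of X~ flat over W_2(k) whose ideals pull back along i to
those of the D_j. For an ample invertible module L with tensor inverse L⁻¹, (Ω', d) a universal
receptacle for the differentials of X over k, Ω¹(log D) the pinned sheaf of differentials with
logarithmic poles along D and Ω^a(log D) an a-th exterior power of it, the cohomology group H^b(X,
Ω^a(log D) ⊗ L⁻¹) vanishes whenever a + b < min(p, n). (The published statement is for a proper
smooth k-scheme; X is taken irreducible here so that n is the dimension of every component, which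
the Serre-duality step of the argument uses.) -/
theorem result (p : ℕ) [Fact p.Prime] (k : Type u) [Field k] [CharP k p] [PerfectRing k p]
    (X : Scheme.{u}) [X.Over (Spec (CommRingCat.of k))] [IsProper (X ↘ Spec (CommRingCat.of k))]
    [Smooth (X ↘ Spec (CommRingCat.of k))]
    (Xl : Scheme.{u}) (g : Xl ⟶ Spec (CommRingCat.of (FrobAlg.W2 p k))) [Flat g] (i : X ⟶ Xl)
    (hlift : IsPullback i (X ↘ Spec (CommRingCat.of k)) g
      (Spec.map (CommRingCat.ofHom (FrobAlg.res p k))))
    [IrreducibleSpace X] (n : ℕ) (hn : topologicalKrullDim X = n)
    {r : ℕ} (D : Fin r → X.IdealSheafData) (hD : LogNCD.IsNCD D (X ↘ Spec (CommRingCat.of k)))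
    (Dl : Fin r → Xl.IdealSheafData) (hDl : ∀ j, (Dl j).comap i = D j) (hDlf : ∀ j, Flat ((Dl j).subschemeι ≫ g))
    {Ω' : X.Modules} (d : OmegaSh.Der (X ↘ Spec (CommRingCat.of k)) Ω') (hd : OmegaSh.IsUniversal d) (Λ : LogNCD.LogMod d D)
    (L Linv : X.Modules) (hL : CohB1.IsAmple L) (hLinv : ClSub.IsInverseOf Linv L)
    (a b : ℕ) (La : X.Modules) (hLa : ExtPow.IsExtPow a Λ.L La)
    (habn : a + b < n) (habp : a + b < p) :
    Subsingleton (Coh.HH X (CohB1.tensorMod La Linv) b) := by
  exact K516.Kod.main hlift (K922.Univ.affUniv hd) hD hDl hDlf Λ n hn L Linv hL hLinv a b La hLa habn habp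

end Groth.Agent.S19875
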