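import Groth.Statements.S19877
import Groth.Agent.JacVar.K533.TwoIso
import Groth.Agent.JacVar.K533.AbelAt
import Groth.Agent.JacVar.K533.JacSep
-- import your own Groth.Agent.* helpers here

set_option autoImplicit false
universe u
open CategoryTheory CategoryTheory.Limits AlgebraicGeometry MonoidalCategory CartesianMonoidalCategory MonObj
open JacVar

namespace Groth.Agent.S19877

/-- Let k be an algebraically closed field, C and C' smooth proper connected curves of the same genus g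
≥ 2 over k with k-points P and P', (J, ψ) and (J', ψ') their Jacobians (commutative group schemes
over k, coarse moduli schemes on all k-schemes for degree-0 line bundles modulo twisting from the
base, group law induced by tensor product), j and j' the Abel maps with base points P and P', and β
: J ≅ J' an isomorphism of group schemes over k. Fix a sign s ∈ {1, −1}. If isomorphisms α₁, α₂ : C
≅ C' over k and k-points c₁, c₂ of J' satisfy j' ∘ α_i = (β ∘ j)^s · c_i for i = 1, 2 (group of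
morphisms C ⟶ J'), then α₁ = α₂ and c₁ = c₂. This holds whether or not C is hyperelliptic; for C not
hyperelliptic the sign is determined as well, which is a separate statement. (The published
statement takes β an isomorphism of the canonically polarized Jacobians; this row allows any
isomorphism of group schemes β.) -/
theorem result (k : Type u) [Field k] [IsAlgClosed k]
    (C : Scheme.{u}) [C.Over (Spec (CommRingCat.of k))]
    [IsProper (C ↘ Spec (CommRingCat.of k))] [Smooth (C ↘ Spec (CommRingCat.of k))] [GeometricallyConnected (C ↘ Spec (CommRingCat.of k))]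
    (hdim : topologicalKrullDim ↥C = 1)
    (C' : Scheme.{u}) [C'.Over (Spec (CommRingCat.of k))]
    [IsProper (C' ↘ Spec (CommRingCat.of k))] [Smooth (C' ↘ Spec (CommRingCat.of k))] [GeometricallyConnected (C' ↘ Spec (CommRingCat.of k))]
    (hdim' : topologicalKrullDim ↥C' = 1)
    (g : ℕ) (hg : Curv2.genus k C = g) (hg' : Curv2.genus k C' = g) (hg2 : 2 ≤ g)
    (σ : Spec (CommRingCat.of k) ⟶ C) (hσ : σ ≫ (C ↘ Spec (CommRingCat.of k)) = 𝟙 _) (σ' : Spec (CommRingCat.of k) ⟶ C') (hσ' : σ' ≫ (C' ↘ Spec (CommRingCat.of k)) = 𝟙 _)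
    (J : Over (Spec (CommRingCat.of k))) [GrpObj J] [IsCommMonObj J]
    (ψ : (ModFun.PicDeg (C ↘ Spec (CommRingCat.of k)) 0).Hom ⊤ J) (hJ : Jac.IsJacobian (C ↘ Spec (CommRingCat.of k)) ⊤ J ψ)
    (J' : Over (Spec (CommRingCat.of k))) [GrpObj J'] [IsCommMonObj J']
    (ψ' : (ModFun.PicDeg (C' ↘ Spec (CommRingCat.of k)) 0).Hom ⊤ J') (hJ' : Jac.IsJacobian (C' ↘ Spec (CommRingCat.of k)) ⊤ J' ψ')
    (j : Over.mk (C ↘ Spec (CommRingCat.of k)) ⟶ J) (hj : Jac.IsAbelJacobiAt (C ↘ Spec (CommRingCat.of k)) σ ψ j)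
    (j' : Over.mk (C' ↘ Spec (CommRingCat.of k)) ⟶ J') (hj' : Jac.IsAbelJacobiAt (C' ↘ Spec (CommRingCat.of k)) σ' ψ' j')
    (β : J ≅ J') [IsMonHom β.hom]
    (α₁ α₂ : C ≅ C') (hα₁ : α₁.hom ≫ (C' ↘ Spec (CommRingCat.of k)) = (C ↘ Spec (CommRingCat.of k))) (hα₂ : α₂.hom ≫ (C' ↘ Spec (CommRingCat.of k)) = (C ↘ Spec (CommRingCat.of k)))
    (c₁ c₂ : 𝟙_ (Over (Spec (CommRingCat.of k))) ⟶ J') (s : ℤ) (hs : s = 1 ∨ s = -1)
    (h₁ : Over.homMk α₁.hom hα₁ ≫ j' = (j ≫ β.hom) ^ s * (toUnit (Over.mk (C ↘ Spec (CommRingCat.of k))) ≫ c₁))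
    (h₂ : Over.homMk α₂.hom hα₂ ≫ j' = (j ≫ β.hom) ^ s * (toUnit (Over.mk (C ↘ Spec (CommRingCat.of k))) ≫ c₂)) :
    α₁ = α₂ ∧ c₁ = c₂ := by
  have hsrd : SmoothOfRelativeDimension 1 (C' ↘ Spec (CommRingCat.of k)) :=
    K532.Base.smoothOfRelDim _ hdim'
  have hX : K532.CurvePic.IsCurve k C' := K532.CurvePic.isCurve_of_isAlgClosed k C'
    (K532.Base.isSmoothProperCurve (C' ↘ Spec (CommRingCat.of k)) hdim')
  have hC := K532.Base.isSmoothProperCurve (C ↘ Spec (CommRingCat.of k)) hdim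
  have hint : IsIntegral C := hC.2.2.1
  obtain ⟨J₀, G₀, ξ₀, -, -, -, h₀⟩ := K533.JacSep.exists_jac (C' ↘ Spec (CommRingCat.of k)) hdim' σ' hσ'
  obtain ⟨e, hemon, he⟩ := K532.Fine.exists_iso hdim' h₀ hJ'
  have hrig := K532.Fine.isJac_of_iso h₀ e
  have hab := K533.AbelAt.cls_abel hdim' h₀ e he hj'
  -- evaluation of the two relations at a rational point
  have hev : ∀ (u : Spec (CommRingCat.of k) ⟶ C) (hu : u ≫ (C ↘ Spec (CommRingCat.of k)) = 𝟙 _)
      (α : C ≅ C') (hα : α.hom ≫ (C' ↘ Spec (CommRingCat.of k)) = (C ↘ Spec (CommRingCat.of k)))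
      (c : 𝟙_ (Over (Spec (CommRingCat.of k))) ⟶ J')
      (h : Over.homMk α.hom hα ≫ j' =
        (j ≫ β.hom) ^ s * (toUnit (Over.mk (C ↘ Spec (CommRingCat.of k))) ≫ c))
      (hu' : (u ≫ α.hom) ≫ (C' ↘ Spec (CommRingCat.of k)) = 𝟙 _),
      Groth.Agent.Sga7.H732.Abel.ptHom (K532.UnitBase.pt (C' ↘ Spec (CommRingCat.of k)) (u ≫ α.hom) hu') ≫ j' =
        (Groth.Agent.Sga7.H732.Abel.ptHom (K532.UnitBase.pt (C ↘ Spec (CommRingCat.of k)) u hu) ≫
          j ≫ β.hom) ^ s * c := by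
    intro u hu α hα c h hu'
    have h1 : Groth.Agent.Sga7.H732.Abel.ptHom
          (K532.UnitBase.pt (C' ↘ Spec (CommRingCat.of k)) (u ≫ α.hom) hu') =
        Groth.Agent.Sga7.H732.Abel.ptHom (K532.UnitBase.pt (C ↘ Spec (CommRingCat.of k)) u hu) ≫
          (Over.homMk α.hom hα : Over.mk (C ↘ Spec (CommRingCat.of k)) ⟶
            Over.mk (C' ↘ Spec (CommRingCat.of k))) := by
      ext
      rfl
    rw [h1, Category.assoc, h, MonObj.comp_mul, GrpObj.comp_zpow]
    have h2 : Groth.Agent.Sga7.H732.Abel.ptHom (K532.UnitBase.pt (C ↘ Spec (CommRingCat.of k)) u hu) ≫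
        toUnit (Over.mk (C ↘ Spec (CommRingCat.of k))) = 𝟙 _ := toUnit_unique _ _
    rw [reassoc_of% h2]
  have hα : α₁ = α₂ := by
    apply Iso.ext
    refine K533.TwoIso.hom_eq hX hrig hab (by rw [K532.CurvePic.gen, hg']; exact hg2) α₁.hom α₂.hom hα₁ hα₂ ?_
    intro u v hu hv
    rw [hev u hu α₁ hα₁ c₁ h₁, hev v hv α₁ hα₁ c₁ h₁, hev u hu α₂ hα₂ c₂ h₂, hev v hv α₂ hα₂ c₂ h₂,
      _root_.mul_inv_rev, _root_.mul_inv_rev]
    group
  refine ⟨hα, ?_⟩
  subst hα
  have h3 := hev σ hσ α₁ hα₁ c₁ h₁ (by rw [Category.assoc, hα₁, hσ])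
  have h4 := hev σ hσ α₁ hα₂ c₂ h₂ (by rw [Category.assoc, hα₁, hσ])
  exact mul_left_cancel (h3.symm.trans h4)

end Groth.Agent.S19877
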