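import Groth.Statements.S19878
import Groth.Agent.LVCorr.K954.IdemIdeal
import Groth.Agent.Divis.IdealComap
import Mathlib.AlgebraicGeometry.Morphisms.Immersion

set_option autoImplicit false
universe u
open LVCorr

namespace Groth.Agent.S19878

open AlgebraicGeometry CategoryTheory CategoryTheory.Limits in
/-- Let k be a field, C a k-scheme of finite type, X a k-scheme and c = (c₁, c₂) : C → X ×_k X a
correspondence; let Fix(c) = C ×_{X ×_k X} X be its scheme of fixed points (pullback along the
diagonal), with projections i : Fix(c) → C and δ : Fix(c) → X. Let Z ⊂ X be the closed subscheme of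
a quasi-coherent ideal I and suppose c is contracting near Z in a neighbourhood of the fixed points:
there is an open W ⊆ C containing the image of Fix(c) such that on W the inverse image ideal of I
under c₁ is contained in the inverse image ideal of I under c₂ (c stabilizes Z on W) and some power
(I·O_W via c₁)^k₀ is contained in (I·O_W via c₂)^(k₀+1). Then every connected open subset β of
Fix(c) whose image under δ meets Z is contained, as a set, in δ⁻¹(Z). (The source works with
separated schemes of finite type over an algebraically closed field; this row assumes only that C is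
of finite type over a field k.) -/
theorem result {C X Fx : Scheme.{u}} (k : Type u) [Field k]
    (pC : C ⟶ Spec (CommRingCat.of k)) [LocallyOfFiniteType pC] [QuasiCompact pC]
    (pX : X ⟶ Spec (CommRingCat.of k)) (c₁ c₂ : C ⟶ X) (hc : c₁ ≫ pX = c₂ ≫ pX)
    (i : Fx ⟶ C) (δ : Fx ⟶ X) (hF : IsPullback i δ (pullback.lift c₁ c₂ hc) (pullback.diagonal pX))
    (I : X.IdealSheafData) (W : C.Opens) (hW : Set.range i.base ⊆ (W : Set C))
    (hle : I.comap (W.ι ≫ c₁) ≤ I.comap (W.ι ≫ c₂))
    (k₀ : ℕ) (hpow : I.comap (W.ι ≫ c₁) ^ k₀ ≤ I.comap (W.ι ≫ c₂) ^ (k₀ + 1))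
    (β : Fx.Opens) (hβ : _root_.IsConnected (β : Set Fx))
    (hβZ : (δ.base '' (β : Set Fx) ∩ (I.support : Set X)).Nonempty) :
    (β : Set Fx) ⊆ δ.base ⁻¹' (I.support : Set X) := by
  have e₁ : i ≫ c₁ = δ := by
    have := congrArg (fun t => t ≫ pullback.fst pX pX) hF.w
    simpa only [Category.assoc, pullback.lift_fst, pullback.diagonal_fst, Category.comp_id]
      using this
  have e₂ : i ≫ c₂ = δ := by
    have := congrArg (fun t => t ≫ pullback.snd pX pX) hF.w
    simpa only [Category.assoc, pullback.lift_snd, pullback.diagonal_snd, Category.comp_id]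
      using this
  have himm : IsImmersion i := MorphismProperty.of_isPullback hF.flip inferInstance
  have hloc : IsLocallyNoetherian (Spec (CommRingCat.of k)) := by
    have : IsNoetherianRing (CommRingCat.of k) := inferInstanceAs (IsNoetherianRing k)
    infer_instance
  have hFx : IsLocallyNoetherian Fx := LocallyOfFiniteType.isLocallyNoetherian (i ≫ pC)
  have hr : Set.range i ⊆ Set.range W.ι := by
    rw [Scheme.Opens.range_ι]
    exact hW
  let iW : Fx ⟶ W := IsOpenImmersion.lift W.ι i hr
  have hiW : iW ≫ W.ι = i := IsOpenImmersion.lift_fac _ _ _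
  have h₁ : (I.comap (W.ι ≫ c₁)).comap iW = I.comap δ := by
    rw [← Scheme.IdealSheafData.comap_comp, ← Category.assoc, hiW, e₁]
  have h₂ : (I.comap (W.ι ≫ c₂)).comap iW = I.comap δ := by
    rw [← Scheme.IdealSheafData.comap_comp, ← Category.assoc, hiW, e₂]
  have hle' : I.comap δ ^ k₀ ≤ I.comap δ ^ (k₀ + 1) := by
    have := Scheme.IdealSheafData.comap_mono iW hpow
    simp only [Groth.Agent.Divis.IdealComap.comap_pow, h₁, h₂] at this
    exact this
  have heq : I.comap δ ^ k₀ = I.comap δ ^ (k₀ + 1) := by
    refine le_antisymm hle' ?_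
    intro U
    exact Ideal.pow_le_pow_right (Nat.le_succ k₀)
  have hopen := K954.IdemIdeal.isOpen_support (I.comap δ) k₀ heq
  have hclopen : IsClopen ((I.comap δ).support : Set Fx) :=
    ⟨(I.comap δ).support.isClosed, hopen⟩
  have hs : ((I.comap δ).support : Set Fx) = δ ⁻¹' (I.support : Set X) := by
    rw [Scheme.IdealSheafData.support_comap]
    rfl
  have := hβ.isPreconnected.subset_isClopen hclopen (by
    obtain ⟨_, ⟨y, hy, rfl⟩, hyZ⟩ := hβZ
    refine ⟨y, hy, ?_⟩
    rw [hs]
    exact hyZ)
  rw [hs] at this
  exact this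

end Groth.Agent.S19878
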