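import Groth.Statements.S19879
import Groth.Agent.S18397
import Groth.Agent.S19878
import Groth.Agent.Fga.ConnExt
import Mathlib.AlgebraicGeometry.Morphisms.Finite

set_option autoImplicit false
universe u
open LVCorr

namespace Groth.Agent.S19879

open AlgebraicGeometry CategoryTheory CategoryTheory.Limits in
/-- Let k₀ be a finite field with p^e elements, K an algebraic closure of k₀, C₀ a scheme of finite type
over k₀, C = C₀ ×_{k₀} Spec K with its projections, and Fr : C → C the n-th power of the geometric
Frobenius (over K, compatible with the (e·n)-th power of the absolute p-Frobenius of C₀). Let X be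
locally of finite type over K and c₁, c₂ : C → X morphisms over K with c₂ locally quasi-finite, and
let d < p^(e n) be such that for every closed point x of X, with J_x the inverse image under c₂ of
the ideal sheaf of the reduced point x, one has (√J_x)^d ⊂ J_x (so p^(e n) exceeds the ramification
degree of c₂). Then the scheme of fixed points of the twisted correspondence (c₁ ∘ Fr, c₂), namely
the pullback of (c₁ ∘ Fr, c₂) : C → X ×_K X along the diagonal of X, has finite and discrete
underlying topological space. (In the source X, c₁ and c₂ are also defined over k₀ and all schemes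
are separated; neither is needed here.) -/
theorem result {C C₀ X Fx : Scheme.{u}}
    (p : ℕ) [Fact p.Prime] (k₀ : Type u) [Field k₀] [Fintype k₀] [CharP k₀ p] (e : ℕ)
    (hq : Fintype.card k₀ = p ^ e) (K : Type u) [Field K] [Algebra k₀ K] [IsAlgClosure k₀ K]
    (f₀ : C₀ ⟶ Spec (CommRingCat.of k₀)) [LocallyOfFiniteType f₀] [QuasiCompact f₀] [FrobSch.IsCharP C₀ p]
    (πC₀ : C ⟶ C₀) (πK : C ⟶ Spec (CommRingCat.of K))
    (hC : IsPullback πC₀ πK f₀ (Spec.map (CommRingCat.ofHom (algebraMap k₀ K))))
    (n : ℕ) (Fr : C ⟶ C)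
    (hFr₀ : Fr ≫ πC₀ = πC₀ ≫ End.asHom (End.of (FrobSch.frob C₀ p) ^ (e * n)))
    (hFrK : Fr ≫ πK = πK)
    (pX : X ⟶ Spec (CommRingCat.of K)) [LocallyOfFiniteType pX]
    (c₁ c₂ : C ⟶ X) (hc₁ : c₁ ≫ pX = πK) (hc₂ : c₂ ≫ pX = πK)
    [LocallyQuasiFinite c₂] [LocallyOfFiniteType c₂]
    (hcomm : (Fr ≫ c₁) ≫ pX = c₂ ≫ pX) (d : ℕ) (hn : d < p ^ (e * n))
    (hd : ∀ (x : X) (hx : IsClosed ({x} : Set X)),
      ((Scheme.IdealSheafData.vanishingIdeal ⟨{x}, hx⟩).comap c₂).radical ^ d ≤
        (Scheme.IdealSheafData.vanishingIdeal ⟨{x}, hx⟩).comap c₂)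
    (i : Fx ⟶ C) (δ : Fx ⟶ X) (hF : IsPullback i δ (pullback.lift (Fr ≫ c₁) c₂ hcomm) (pullback.diagonal pX)) :
    Finite Fx ∧ DiscreteTopology Fx := by
  have hft : LocallyOfFiniteType πK := MorphismProperty.of_isPullback hC ‹_›
  have hqc : QuasiCompact πK := MorphismProperty.of_isPullback hC ‹_›
  have hK : IsNoetherianRing (CommRingCat.of K) := inferInstanceAs (IsNoetherianRing K)
  have hJK : IsJacobsonRing (CommRingCat.of K) := inferInstanceAs (IsJacobsonRing K)
  have hJX : JacobsonSpace X := LocallyOfFiniteType.jacobsonSpace pX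
  have hCl : IsLocallyNoetherian C := LocallyOfFiniteType.isLocallyNoetherian πK
  have hCc : CompactSpace C := QuasiCompact.compactSpace_of_compactSpace πK
  have hCn : AlgebraicGeometry.IsNoetherian C := {}
  have himm : IsImmersion i := MorphismProperty.of_isPullback hF.flip inferInstance
  have hnoeth : TopologicalSpace.NoetherianSpace Fx :=
    i.isEmbedding.isInducing.noetherianSpace
  have hcompF : CompactSpace Fx := inferInstance
  have e₂ : i ≫ c₂ = δ := by
    have := congrArg (fun t => t ≫ pullback.snd pX pX) hF.w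
    simpa only [Category.assoc, pullback.lift_snd, pullback.diagonal_snd, Category.comp_id]
      using this
  have hδ : LocallyOfFiniteType δ := by
    have : δ ≫ pX = i ≫ πK := by rw [← e₂, Category.assoc, hc₂]
    have h2 : LocallyOfFiniteType (δ ≫ pX) := by rw [this]; infer_instance
    exact locallyOfFiniteType_of_comp δ pX
  have key : ∀ y : Fx, connectedComponent y = {y} := by
    intro y
    obtain ⟨y₀, hy₀, hy₀c⟩ := IsClosed.exists_closed_singleton
      (isClosed_connectedComponent (x := y)) ⟨y, mem_connectedComponent⟩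
    have hx : IsClosed ({δ y₀} : Set X) :=
      Scheme.Hom.closePoints_subset_preimage_closedPoints δ hy₀c
    obtain ⟨W, hW, hle, k, hpow⟩ := Groth.Agent.S18397.result p k₀ e hq K f₀ πC₀ πK hC n Fr hFr₀
      hFrK pX c₁ c₂ hc₁ hc₂ hcomm d hn hd (δ y₀) hx
    have hopen : IsOpen (connectedComponent y) :=
      Groth.Agent.Fga.ConnExt.isOpen_connectedComponent
        TopologicalSpace.NoetherianSpace.finite_irreducibleComponents y
    have hir : Set.range i.base ⊆ (W : Set C) := by
      rintro _ ⟨z, rfl⟩
      refine hW ⟨δ z, ?_⟩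
      have := congrArg (fun t => t.base z) hF.w
      exact this.symm
    have hs : ((Scheme.IdealSheafData.vanishingIdeal
        ⟨{δ y₀}, hx⟩).support : Set X) = {δ y₀} := by
      rw [Scheme.IdealSheafData.coe_support_vanishingIdeal]
      rfl
    have h := Groth.Agent.S19878.result K πK pX (Fr ≫ c₁) c₂ hcomm i δ hF
      (Scheme.IdealSheafData.vanishingIdeal ⟨{δ y₀}, hx⟩) W hir hle k hpow
      ⟨connectedComponent y, hopen⟩ isConnected_connectedComponent
      ⟨δ y₀, ⟨y₀, hy₀, rfl⟩, by rw [hs]; rfl⟩
    rw [hs] at h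
    have hsub : i '' connectedComponent y ⊆ c₂ ⁻¹' {δ y₀} := by
      rintro _ ⟨z, hz, rfl⟩
      have h1 : δ z = δ y₀ := h hz
      change c₂ (i z) = δ y₀
      rw [← h1, ← e₂]
      rfl
    have hdisc : _root_.IsDiscrete (i '' connectedComponent y) :=
      (c₂.isDiscrete_preimage_singleton (δ y₀)).mono hsub
    have hsubs : (i '' connectedComponent y).Subsingleton := by
      have hpre : _root_.IsPreconnected (i '' connectedComponent y) :=
        isPreconnected_connectedComponent.image _ i.continuous.continuousOn
      exact hpre.isDiscrete_iff_subsingleton.1 hdisc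
    ext z
    constructor
    · intro hz
      exact i.isEmbedding.injective
        (hsubs ⟨z, hz, rfl⟩ ⟨y, mem_connectedComponent, rfl⟩)
    · rintro rfl
      exact mem_connectedComponent
  have hdisc : DiscreteTopology Fx := by
    rw [discreteTopology_iff_isOpen_singleton]
    intro y
    rw [← key y]
    exact Groth.Agent.Fga.ConnExt.isOpen_connectedComponent
      TopologicalSpace.NoetherianSpace.finite_irreducibleComponents y
  exact ⟨finite_of_compact_of_discrete, hdisc⟩

end Groth.Agent.S19879
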