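import Groth.Statements.S19883
import Groth.Agent.MultTori.K965.Translate

set_option autoImplicit false
open CategoryTheory MonoidalCategory CartesianMonoidalCategory MonObj GrpObj AlgebraicGeometry
universe u
attribute [local instance] Ideal.Quotient.field
open MultTori

namespace Groth.Agent.S19883

/-- Let A be a semilocal ring (finitely many maximal ideals m, residue fields κ_m = A/m) and T an
isotrivial A-torus (split of some rank after one finite étale surjective base change). Let U be an
open subscheme of T whose fibre over every closed point of Spec A is non-empty and which has a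
κ_m-rational point over every closed point m whose residue field κ_m is finite, and suppose that
U(A) → ∏_m U(κ_m) is surjective: every family (u_m) of κ_m-points of T over the closed points with
values in U is the family of restrictions of one A-point of T with values in U. Then T(A) → ∏_m
T(κ_m) is surjective: every family of κ_m-points of T over the closed points is the family of
restrictions of one A-point of T. (The source states this for an A-torus admitting an exact sequence
1 → F → P → T → 1 of A-tori with P quasitrivial; isotrivial tori admit such flasque resolutions, and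
the row is stated for them. The published statement asks of U only that every fibre U_{κ_m} be
non-empty. When κ_m is infinite a non-empty fibre already contains a κ_m-rational point, as the
published proof shows; but when some residue field κ_m is finite and U has no κ_m-rational point
over m, no family (u_m) exists, the surjectivity hypothesis on U holds vacuously, and the
implication fails: over the product of a finite field with a discrete valuation ring carrying a
torus one of whose points over the residue field does not lift, remove from U the finitely many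
rational points of the fibre over the finite field. So this row also assumes a κ_m-rational point of
U over each closed point with finite residue field, which is what the published proof uses in that
case.) -/
theorem result
    (A : Type u) [CommRing A] [Finite (MaximalSpectrum A)]
    (T : Over (Spec (CommRingCat.of A))) [GrpObj T]
    (hT : ∃ r : ℕ, TwC.Locally (Spec (CommRingCat.of A)) .finiteEtale
        (fun S' g => Red.IsSplitTorusWith (Fin r → ℤ) (Red.bc g T)))
    (U : T.left.Opens)
    (hU : ∀ m : MaximalSpectrum A, ∃ t : T.left, t ∈ U ∧ ∃ y, T.hom.base t = (Spec.map (CommRingCat.ofHom (Ideal.Quotient.mk m.asIdeal))).base y)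
    (hUfin : ∀ m : MaximalSpectrum A, Finite (A ⧸ m.asIdeal) →
      ∃ v : Spec (CommRingCat.of (A ⧸ m.asIdeal)) ⟶ T.left,
        v ≫ T.hom = Spec.map (CommRingCat.ofHom (Ideal.Quotient.mk m.asIdeal)) ∧ ∀ y, v.base y ∈ U)
    (hlift : ∀ (u : ∀ m : MaximalSpectrum A, Spec (CommRingCat.of (A ⧸ m.asIdeal)) ⟶ T.left),
      (∀ m : MaximalSpectrum A, u m ≫ T.hom = (Spec.map (CommRingCat.ofHom (Ideal.Quotient.mk m.asIdeal)))) →
      (∀ (m : MaximalSpectrum A) (y : Spec (CommRingCat.of (A ⧸ m.asIdeal))), (u m).base y ∈ U) →
      ∃ s : Spec (CommRingCat.of A) ⟶ T.left, s ≫ T.hom = 𝟙 (Spec (CommRingCat.of A)) ∧ (∀ z, s.base z ∈ U) ∧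
        ∀ m : MaximalSpectrum A, (Spec.map (CommRingCat.ofHom (Ideal.Quotient.mk m.asIdeal))) ≫ s = u m)
    (u : ∀ m : MaximalSpectrum A, Spec (CommRingCat.of (A ⧸ m.asIdeal)) ⟶ T.left)
    (hu : ∀ m : MaximalSpectrum A, u m ≫ T.hom = (Spec.map (CommRingCat.ofHom (Ideal.Quotient.mk m.asIdeal)))) :
    ∃ s : Spec (CommRingCat.of A) ⟶ T.left, s ≫ T.hom = 𝟙 (Spec (CommRingCat.of A)) ∧
      ∀ m : MaximalSpectrum A, (Spec.map (CommRingCat.ofHom (Ideal.Quotient.mk m.asIdeal))) ≫ s = u m := by
  classical
  obtain ⟨r, hT⟩ := hT
  let κ : MaximalSpectrum A → Type u := fun m => A ⧸ m.asIdeal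
  let _ : ∀ m, Field (κ m) := fun m => Ideal.Quotient.field m.asIdeal
  let W : ∀ m, Set (K965.Pts.sp (algebraMap A (κ m)) ⟶ T) := fun m => {x | ∀ y, x.left.base y ∈ U}
  have hW : ∀ m, K965.Thick.Thick T (W m) := by
    intro m
    rcases finite_or_infinite (κ m) with hfin | hinf
    · obtain ⟨v, hv, hv'⟩ := hUfin m hfin
      exact Or.inl ⟨hfin, Over.homMk v hv, hv'⟩
    · exact Or.inr ⟨hinf, U, hU m, fun x hx => hx⟩
  have hker : ∀ m : MaximalSpectrum A, RingHom.ker (algebraMap A (κ m)) = m.asIdeal := fun m => Ideal.mk_ker
  obtain ⟨t, ht⟩ := K965.Translate.good (Nat.card (MaximalSpectrum A)) A T r hT (MaximalSpectrum A) le_rfl κ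
    (fun m => Ideal.Quotient.mk_surjective)
    (fun m m' h => by
      rw [hker, hker] at h
      exact MaximalSpectrum.ext h)
    (fun m hm => ⟨⟨m, hm⟩, hker _⟩) W hW (fun m => Over.homMk (u m) (hu m))
  choose x hx hxt using ht
  have hx' : ∀ m : MaximalSpectrum A, (x m).left ≫ T.hom = Spec.map (CommRingCat.ofHom (Ideal.Quotient.mk m.asIdeal)) :=
    fun m => Over.w (x m)
  obtain ⟨s₀, hs₀, -, hs₁⟩ := hlift (fun m => (x m).left) hx' hx
  have hid : Spec.map (CommRingCat.ofHom (algebraMap A A)) = 𝟙 _ := Spec.map_id _
  let σ : K965.Pts.sp (algebraMap A A) ⟶ T := Over.homMk s₀ (hs₀.trans hid.symm)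
  refine ⟨(σ * t).left, (Over.w (σ * t)).trans hid, fun m => ?_⟩
  have h1 : K964.AffPt.ap (Algebra.ofId A (κ m)) ≫ (σ * t) = Over.homMk (u m) (hu m) := by
    rw [MonObj.comp_mul, ← hxt m]
    congr 1
    ext1
    exact hs₁ m
  exact congrArg (fun z => z.left) h1

end Groth.Agent.S19883
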