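import Groth.Statements.S19886
import Groth.Agent.S18414
import Groth.Agent.S0110
import Groth.Agent.S0469
import Groth.Agent.CurvesA.ArtinSchreier

set_option autoImplicit false
universe u
open CategoryTheory CategoryTheory.Limits AlgebraicGeometry
open EtCoh

namespace Groth.Agent.S19886

/-- Let k be a separably closed field of characteristic p > 0 and X a scheme proper over k of dimension
d. Then the étale cohomology groups H^q(X_et, Z/p) with constant coefficients vanish for all q > d.
(The same vanishing for X separated of finite type over an algebraically closed field is a separate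
statement; here the field is only separably closed and X is proper.) -/
theorem result (k : Type u) [Field k] [IsSepClosed k]
    (p : ℕ) [Fact p.Prime] [CharP k p]
    (X : Scheme.{u}) (f : X ⟶ Spec (CommRingCat.of k)) [IsProper f]
    (d : ℕ) (hd : topologicalKrullDim X = d) (q : ℕ) (hq : d + 1 ≤ q) :
    Subsingleton (EtCoh.H X (EtCoh.const X (ZMod p)) q) := by
  have hc : CompactSpace X := QuasiCompact.compactSpace_of_compactSpace f
  have hqs : QuasiSeparatedSpace X :=
    (quasiSeparated_iff_quasiSeparatedSpace f).1 inferInstance
  have hsp : SpectralSpace X := {}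
  have h0 : (p : Γ(X, ⊤)) = 0 := Groth.Agent.Cohder.ASFinite.cast_eq_zero p f
  have key : ∀ n : ℕ, d < n → Subsingleton (EtCoh.H X (EtCoh.Ga X) n) := by
    intro n hn
    obtain ⟨e⟩ := Groth.Agent.S0110.result X n
    have : Subsingleton (Coh.HH X (Coh.structureModule X) n) :=
      Groth.Agent.S0469.result (X := X.carrier) d hd.le (Coh.toAb (Coh.structureModule X)) n hn
    exact e.toEquiv.subsingleton
  obtain ⟨n, rfl⟩ : ∃ n, q = n + 1 := ⟨q - 1, by omega⟩
  refine Groth.Agent.CurvesA.ArtinSchreier.subsingleton_H_of_surjective X p h0 n
    (key _ (by omega)) ?_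
  have h1 := Groth.Agent.S18414.result p f h0 n
  exact h1

end Groth.Agent.S19886
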