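import Groth.Statements.S19889
import Groth.Agent.Books.AlgPts
import Groth.Agent.Sga3C.ArtinHom
import Groth.Agent.Sga3.H830.CommAux
import Groth.Agent.Grpsch.KerMul
import Groth.Agent.S0355

set_option autoImplicit false
universe u
open CategoryTheory CategoryTheory.Limits MonoidalCategory CartesianMonoidalCategory MonObj GrpObj AlgebraicGeometry
open GrpSch

namespace Groth.Agent.S19889

/-- Let k be an algebraically closed field, G a commutative group scheme locally of finite type over k,
and i : G⁰ → G its identity component (a homomorphism that is an open immersion onto the connected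
component of the unit point). Then the natural map from the torsion subgroup of G(k) to the torsion
subgroup of G(k)/G⁰(k) is surjective: if g is a k-point of G and gⁿ lies in G⁰(k) for some n ≥ 1,
then there is a k-point t of G of finite order such that t⁻¹ g lies in G⁰(k). -/
theorem result (k : Type u) [Field k] [IsAlgClosed k]
    {G G0 : Over (Spec (CommRingCat.of k))} [GrpObj G] [IsCommMonObj G] [GrpObj G0]
    [LocallyOfFiniteType G.hom] (i : G0 ⟶ G) [IsMonHom i] (hi : AutSch.IsIdComp i)
    (g : 𝟙_ (Over (Spec (CommRingCat.of k))) ⟶ G) (n : ℕ) (hn : 0 < n)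
    (hg : g ^ n ∈ AutSch.ptsRange i) :
    ∃ t : 𝟙_ (Over (Spec (CommRingCat.of k))) ⟶ G, IsOfFinOrder t ∧ t⁻¹ * g ∈ AutSch.ptsRange i := by
  classical
  obtain ⟨_, hoi, hr⟩ := (AutSch.isIdComp_iff_of_field i).mp hi
  have : Mono i := (Over.forget _).mono_of_mono_map (inferInstanceAs (Mono i.left))
  have : IsCommMonObj G0 := Groth.Agent.Sga3.H830.CommAux.isCommMonObj_of_mono i
  have : LocallyOfFiniteType G0.hom := by rw [← Over.w i]; infer_instance
  have : CompactSpace G0.left := by
    have h1 := (Groth.Agent.S0355.result k G).2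
    have h2 : IsCompact (Set.range i.left) := by
      rw [show Set.range i.left = _ from hr]; exact h1
    rw [← isCompact_univ_iff]
    have h3 := i.left.isOpenEmbedding.isEmbedding.isCompact_iff (s := (Set.univ : Set G0.left))
    rw [h3, Set.image_univ]
    exact h2
  have : IsLocallyNoetherian G0.left := LocallyOfFiniteType.isLocallyNoetherian G0.hom
  have : IsNoetherian G0.left := {}
  have : TopologicalSpace.NoetherianSpace G0.left := inferInstance
  let v : ℕ → (G0 ⟶ G0) := fun r => (𝟙 G0) ^ (n ^ r)
  have hv : ∀ r, IsMonHom (v r) := fun r => inferInstance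
  have hqc : ∀ r, QuasiCompact (v r).left := fun r => inferInstance
  have hcl : ∀ r, IsClosed (Set.range (v r).left) := fun r =>
    Groth.Agent.Sga3C.ArtinHom.isClosed_range (v r)
  have hcomp : ∀ r, v (r + 1) = v 1 ≫ v r := by
    intro r
    simp only [v]
    rw [pow_one, MonObj.comp_pow, Category.comp_id, ← pow_mul, pow_succ, mul_comm]
  have hanti : ∀ r, Set.range (v (r + 1)).left ⊆ Set.range (v r).left := by
    intro r
    rw [hcomp r, Over.comp_left]
    rintro _ ⟨x, rfl⟩
    exact ⟨(v 1).left x, by simp⟩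
  let U : ℕ →o TopologicalSpace.Opens G0.left :=
    ⟨fun r => ⟨(Set.range (v r).left)ᶜ, (hcl r).isOpen_compl⟩,
      monotone_nat_of_le_succ fun r => Set.compl_subset_compl.mpr (hanti r)⟩
  obtain ⟨N, hN⟩ := WellFoundedGT.monotone_chain_condition U
  have hN' : Set.range (v (N + 1)).left = Set.range (v N).left := by
    have := congrArg (fun W : TopologicalSpace.Opens G0.left => (W : Set G0.left)) (hN (N + 1) (by omega))
    exact (compl_injective this).symm
  obtain ⟨g0, hg0⟩ := (AutSch.mem_ptsRange_iff i _).mp hg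
  obtain ⟨b, hb⟩ := Groth.Agent.Books.AlgPts.exists_comp_eq_of_pt_mem_range (v (N + 1)) (g0 ≫ v N) (by
    rw [hN', Groth.Agent.Books.AlgPts.pt_comp]
    exact ⟨_, rfl⟩)
  have hb' : b ^ (n ^ (N + 1)) = g0 ^ (n ^ N) := by
    simpa [v, MonObj.comp_pow] using hb
  have hb'' : (b ≫ i) ^ (n ^ (N + 1)) = g ^ (n ^ (N + 1)) := by
    rw [← MonObj.pow_comp, hb', MonObj.pow_comp, hg0, ← pow_mul, pow_succ, mul_comm]
  refine ⟨(b ≫ i)⁻¹ * g, ?_, ?_⟩
  · rw [isOfFinOrder_iff_pow_eq_one]
    refine ⟨n ^ (N + 1), by positivity, ?_⟩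
    rw [mul_pow, inv_pow, hb'', inv_mul_cancel]
  · rw [_root_.mul_inv_rev, _root_.inv_inv, mul_comm, _root_.mul_inv_cancel_left]
    exact ⟨b, rfl⟩

end Groth.Agent.S19889
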