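import Groth.Statements.S19890
import Mathlib.RingTheory.Flat.EquationalCriterion
import Mathlib.RingTheory.Flat.FaithfullyFlat.Algebra
import Mathlib.RingTheory.UniqueFactorizationDomain.Kaplansky
import Mathlib.RingTheory.Ideal.MinimalPrime.Colon

set_option autoImplicit false
universe u
open CAlg

namespace Groth.Agent.S19890


/-- In a flat extension, colon ideals `(a : b)` extend to colon ideals. -/
theorem mem_map_colon_of_dvd {R S : Type u} [CommRing R] [CommRing S] [Algebra R S] [Module.Flat R S]
    (a b : R) (s : S) (h : algebraMap R S a ∣ s * algebraMap R S b) :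
    s ∈ Ideal.map (algebraMap R S) (Submodule.colon (Ideal.span {a}) {b}) := by
  obtain ⟨t, ht⟩ := h
  have h0 : ∑ i : Fin 2, (![b, -a] : Fin 2 → R) i • (![s, t] : Fin 2 → S) i = 0 := by
    rw [Fin.sum_univ_two]
    simp only [Matrix.cons_val_zero, Matrix.cons_val_one, Algebra.smul_def, map_neg]
    rw [mul_comm, ht]
    ring
  obtain ⟨k, c, y, h1, h2⟩ := Module.Flat.isTrivialRelation_of_sum_smul_eq_zero h0
  have hs : s = ∑ j, c 0 j • y j := h1 0
  rw [hs]
  refine sum_mem fun j _ => ?_
  rw [Algebra.smul_def]
  refine Ideal.mul_mem_right _ _ (Ideal.mem_map_of_mem _ ?_)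
  rw [Submodule.mem_colon_singleton]
  have h3 := h2 j
  rw [Fin.sum_univ_two] at h3
  simp only [Matrix.cons_val_zero, Matrix.cons_val_one] at h3
  rw [smul_eq_mul, Ideal.mem_span_singleton]
  exact ⟨c 1 j, by linear_combination h3⟩

/-- In a UFD, a colon ideal `(a : b)` with `a ≠ 0` is principal. -/
theorem exists_colon_iff_dvd {S : Type u} [CommRing S] [IsDomain S] [UniqueFactorizationMonoid S]
    (a b : S) (ha : a ≠ 0) : ∃ d : S, ∀ s : S, a ∣ s * b ↔ d ∣ s := by
  obtain ⟨a', b', c', hrel, h1, h2⟩ := UniqueFactorizationMonoid.exists_reduced_factors a ha b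
  have hc : c' ≠ 0 := by
    rintro rfl
    exact ha (by rw [← h1, zero_mul])
  refine ⟨a', fun s => ?_⟩
  rw [← h1, ← h2, show s * (c' * b') = c' * (s * b') by ring, mul_dvd_mul_iff_left hc]
  exact ⟨fun h => hrel.dvd_of_dvd_mul_right h, fun h => h.mul_right _⟩

/-- Descent of principality along a faithfully flat map to a local domain. -/
theorem exists_span_singleton_of_map {R S : Type u} [CommRing R] [CommRing S] [IsDomain S] [IsLocalRing S]
    [Algebra R S] [Module.FaithfullyFlat R S] (I : Ideal R) (d : S) (hd : Ideal.map (algebraMap R S) I = Ideal.span {d}) :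
    ∃ c ∈ I, I = Ideal.span {c} := by
  by_cases hd0 : d = 0
  · subst hd0
    refine ⟨0, I.zero_mem, ?_⟩
    have : Ideal.map (algebraMap R S) I = Ideal.map (algebraMap R S) (Ideal.span {0}) := by
      rw [hd, Ideal.map_span]; simp
    exact Ideal.map_injective_of_faithfullyFlat this
  have hdm : d ∈ Ideal.map (algebraMap R S) I := by rw [hd]; exact Ideal.mem_span_singleton_self d
  -- some element of `I` generates
  by_contra hcon
  push Not at hcon
  have hle : Ideal.map (algebraMap R S) I ≤ Ideal.map (RingHom.id S) (Ideal.span {d} * IsLocalRing.maximalIdeal S) := by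
    rw [Ideal.map_id, Ideal.map_le_iff_le_comap]
    intro c hc
    have hc' : algebraMap R S c ∈ Ideal.span {d} := by
      rw [← hd]; exact Ideal.mem_map_of_mem _ hc
    obtain ⟨e, he⟩ := Ideal.mem_span_singleton'.1 hc'
    rw [Ideal.mem_comap, ← he, mul_comm e d]
    refine Ideal.mul_mem_mul (Ideal.mem_span_singleton_self d) ?_
    rw [IsLocalRing.mem_maximalIdeal]
    intro hu
    apply hcon c hc
    apply Ideal.map_injective_of_faithfullyFlat (A := R) (B := S)
    rw [hd, Ideal.map_span, Set.image_singleton, ← he, Ideal.span_singleton_mul_left_unit hu]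
  have h1 := hle hdm
  rw [Ideal.map_id, Ideal.mem_span_singleton_mul] at h1
  obtain ⟨z, hz, hz'⟩ := h1
  have : z = 1 := mul_left_cancel₀ hd0 (by rw [hz', mul_one])
  rw [this] at hz
  exact (IsLocalRing.mem_maximalIdeal _).1 hz isUnit_one

/-- Let R → R' be a faithfully flat ring map between Noetherian integrally closed local domains. Then
unique factorization descends along this map: when R' is a UFD, so is R. (The first assertion of the
lemma, descent of principality for an ideal whose extension to R' is principal, is a separate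
statement.) -/
theorem result
    (R R' : Type u) [CommRing R] [CommRing R'] [IsDomain R] [IsDomain R']
    [IsNoetherianRing R] [IsNoetherianRing R'] [IsLocalRing R] [IsLocalRing R']
    [IsIntegrallyClosed R] [IsIntegrallyClosed R']
    [Algebra R R'] [Module.FaithfullyFlat R R'] [UniqueFactorizationMonoid R'] :
    UniqueFactorizationMonoid R := by
  have hinj : Function.Injective (algebraMap R R') := FaithfulSMul.algebraMap_injective R R'
  rw [UniqueFactorizationMonoid.iff_exists_prime_mem_of_isPrime]
  intro Q hQ0 hQ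
  obtain ⟨a, haQ, ha0⟩ := Submodule.exists_mem_ne_zero_of_ne_bot hQ0
  obtain ⟨P, hP, hPQ⟩ := Ideal.exists_minimalPrimes_le (I := Ideal.span {a}) (J := Q)
    ((Ideal.span_singleton_le_iff_mem _).2 haQ)
  have hPp : P.IsPrime := hP.1.1
  have haP : a ∈ P := hP.1.2 (Ideal.mem_span_singleton_self a)
  have hcol : Submodule.colon (Ideal.span {a}) {(1 : R)} = Ideal.span {a} := by
    ext x
    rw [Submodule.mem_colon_singleton, smul_eq_mul, mul_one]
  obtain ⟨b, hb⟩ := Submodule.exists_eq_colon_of_mem_minimalPrimes (N := Ideal.span {a}) (x := (1 : R)) (I := P)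
    (by rw [hcol]; exact hP)
  have ha' : algebraMap R R' a ≠ 0 := by
    rw [Ne, map_eq_zero_iff _ hinj]; exact ha0
  obtain ⟨d, hd⟩ := exists_colon_iff_dvd (algebraMap R R' a) (algebraMap R R' b) ha'
  have hmap : Ideal.map (algebraMap R R') P = Ideal.span {d} := by
    apply le_antisymm
    · rw [Ideal.map_le_iff_le_comap]
      intro x hx
      rw [Ideal.mem_comap, Ideal.mem_span_singleton, ← hd, ← map_mul]
      rw [hb, Submodule.mem_colon_singleton, smul_eq_mul, Ideal.mem_span_singleton] at hx
      exact map_dvd _ hx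
    · rw [Ideal.span_singleton_le_iff_mem, hb]
      exact mem_map_colon_of_dvd a b d ((hd d).2 dvd_rfl)
  obtain ⟨c, hc, hPc⟩ := exists_span_singleton_of_map P d hmap
  have hc0 : c ≠ 0 := by
    rintro rfl
    rw [hPc] at haP
    simp only [Ideal.mem_span_singleton, zero_dvd_iff] at haP
    exact ha0 haP
  refine ⟨c, hPQ hc, ?_⟩
  rw [← Ideal.span_singleton_prime hc0, ← hPc]
  exact hPp

end Groth.Agent.S19890
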