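import Groth.Statements.S19891
import Groth.Agent.ValCrit.K937.Refined
-- import your own Groth.Agent.* helpers here

set_option autoImplicit false
universe u
open CategoryTheory AlgebraicGeometry
open ValCrit

namespace Groth.Agent.S19891

/-- Let h : Z → Y and f : Y → X be morphisms of quasi-compact quasi-separated schemes, with h dominant.
Then f is separated if and only if the following refined uniqueness criterion holds: for every point
z of Z, every valuation ring R of the residue field κ(z) and every morphism φ : Spec R → X whose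
restriction to Spec κ(z) is the canonical morphism Spec κ(z) → Z → Y → X, any two morphisms Spec R →
Y lying over φ and restricting to Spec κ(z) → Z → Y on the generic point coincide. (The published
statement does not require h to be dominant; its proof uses that every point of Y generalises to a
point of h(Z), and for Z empty the criterion holds whatever f is, so dominance of h is assumed
here.) -/
theorem result {X Y Z : Scheme.{u}} (h : Z ⟶ Y) (f : Y ⟶ X)
    [CompactSpace ↥Z] [QuasiSeparatedSpace ↥Z] [CompactSpace ↥Y] [QuasiSeparatedSpace ↥Y]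
    [CompactSpace ↥X] [QuasiSeparatedSpace ↥X] (hd : DenseRange h.base) :
    IsSeparated f ↔
      ∀ (z : ↥Z) (R : ValuationSubring ↑(Z.residueField z)) (φ : Spec (CommRingCat.of ↥R) ⟶ X),
        Spec.map (CommRingCat.ofHom R.subtype) ≫ φ = Z.fromSpecResidueField z ≫ h ≫ f →
        ∀ φ₁ φ₂ : Spec (CommRingCat.of ↥R) ⟶ Y,
          Spec.map (CommRingCat.ofHom R.subtype) ≫ φ₁ = Z.fromSpecResidueField z ≫ h → φ₁ ≫ f = φ →
          Spec.map (CommRingCat.ofHom R.subtype) ≫ φ₂ = Z.fromSpecResidueField z ≫ h → φ₂ ≫ f = φ →
          φ₁ = φ₂ := by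
  constructor
  · intro hsep z R φ hφ φ₁ φ₂ h₁ h₁' h₂ h₂'
    let S : ValuativeCommSq f :=
      { R := ↥R, K := ↑(Z.residueField z), i₁ := Z.fromSpecResidueField z ≫ h, i₂ := φ
        commSq := ⟨by rw [Category.assoc]; exact hφ.symm⟩ }
    have hS : Subsingleton S.commSq.LiftStruct := IsSeparated.valuativeCriterion f S
    have := congrArg CommSq.LiftStruct.l
      (hS.elim ⟨φ₁, h₁, h₁'⟩ ⟨φ₂, h₂, h₂'⟩)
    exact this
  · intro H
    apply K937.VC.isSeparated_of_refined h f hd
    intro z R φ₁ φ₂ h₁ h₂ h₁₂
    exact H z R (φ₁ ≫ f) (by rw [← Category.assoc, h₁, Category.assoc]) φ₁ φ₂ h₁ rfl h₂ h₁₂.symm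

end Groth.Agent.S19891
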