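import Groth.Statements.S19896
import Groth.Agent.Neron.K491.PAMain

set_option autoImplicit false
universe u
open CategoryTheory CategoryTheory.Limits MonoidalCategory CartesianMonoidalCategory AlgebraicGeometry MonObj
open Neron

namespace Groth.Agent.S19896

/-- (ii) ⇔ (iii): let R be an excellent discrete valuation ring of characteristic p > 0 with fraction
field K, and P a pseudo-abelian variety over K (a smooth connected commutative K-group scheme of
finite type whose smooth connected affine closed subgroup schemes are trivial), given as an
extension 0 → E → P → V → 0 with E → P a closed immersion that is the kernel of the surjective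
homomorphism P → V, E an abelian variety over K and V a smooth connected affine K-group with no
non-trivial subtorus over an algebraic closure of K. Suppose L is a finite, purely inseparable field
extension of K such that P_L is likewise an extension 0 → U → P_L → A → 0 of an abelian variety A
over L by a smooth connected affine L-group U with no non-trivial subtorus over an algebraic closure
of L, and let O_L be the integral closure of R in L. Then E has semistable reduction over R if and
only if A has semistable reduction over O_L; here semistable reduction of a group over a field with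
a given subring means the existence of a smooth separated group scheme of finite type over that
subring, all of whose geometric fibres have unipotent rank zero, with generic fibre the given group.
(Both extensions are taken as data: their existence is a result of the literature that the source
quotes. The equivalence of these two conditions with pseudo-semiabelian reduction of P itself,
condition (i) of the corollary, is not part of this statement.) -/
theorem result
    (R K : Type u) [CommRing R] [IsDomain R] [IsDiscreteValuationRing R] (hR : EGA4.IsExcellent R)
    (p : ℕ) (hp : p.Prime) [CharP R p] [Field K] [Algebra R K] [IsFractionRing R K]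
    (P : Over (Spec (CommRingCat.of K))) [GrpObj P] [IsCommMonObj P]
    [Smooth P.hom] [LocallyOfFiniteType P.hom] [QuasiCompact P.hom] [ConnectedSpace ↥P.left]
    (hP : ∀ (H : Over (Spec (CommRingCat.of K))) [GrpObj H] (j : H ⟶ P) [IsMonHom j],
      IsClosedImmersion j.left → Smooth H.hom → ConnectedSpace ↥H.left → IsAffine H.left → IsIso η[H])
    (E V : Over (Spec (CommRingCat.of K))) [GrpObj E] [GrpObj V]
    (jE : E ⟶ P) [IsMonHom jE] (πV : P ⟶ V) [IsMonHom πV]
    (hjE : IsClosedImmersion jE.left) (hkerE : AlgGrp.IsKernel jE πV) (hπV : Surjective πV.left)
    [IsProper E.hom] [Smooth E.hom] [GeometricallyIntegral E.hom]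
    [Smooth V.hom] [ConnectedSpace ↥V.left] [IsAffine V.left]
    (hV : Red.HasNoSubtorus (AlgebraicClosure K)
      (Red.bc (Spec.map (CommRingCat.ofHom (algebraMap K (AlgebraicClosure K)))) V))
    (L : Type u) [Field L] [Algebra K L] [FiniteDimensional K L] [IsPurelyInseparable K L]
    [Algebra R L] [IsScalarTower R K L]
    (U A : Over (Spec (CommRingCat.of L))) [GrpObj U] [GrpObj A]
    (i : U ⟶ Red.bc (Spec.map (CommRingCat.ofHom (algebraMap K L))) P) [IsMonHom i] (π : Red.bc (Spec.map (CommRingCat.ofHom (algebraMap K L))) P ⟶ A) [IsMonHom π]
    (hi : IsClosedImmersion i.left) (hker : AlgGrp.IsKernel i π) (hπ : Surjective π.left)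
    [Smooth U.hom] [ConnectedSpace ↥U.left] [IsAffine U.left]
    (hU : Red.HasNoSubtorus (AlgebraicClosure L)
      (Red.bc (Spec.map (CommRingCat.ofHom (algebraMap L (AlgebraicClosure L)))) U))
    [IsProper A.hom] [Smooth A.hom] [GeometricallyIntegral A.hom] :
    SGA7.HasSemistableReduction R K E ↔ SGA7.HasSemistableReduction ↥(integralClosure R L) L A := by
  have : Fact p.Prime := ⟨hp⟩
  have hcK : CharP K p := charP_of_injective_algebraMap (IsFractionRing.injective R K) p
  rw [K491.FrobIsog.semistable_iff_of_isPurelyInseparable R K p L E]
  have hA : AlgebraicGeometry.IsIntegral A.left :=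
    GeometricallyIntegral.isIntegral_of_subsingleton A.hom
  obtain ⟨φ, ψ, n, hφ, hψ, hn, h1, h2⟩ := K491.PAMain.exists_isog_bc K p P E V jE πV hjE hkerE hV L
    U A i π hker hπ hU
  have h3 : IsProper (Red.bc (Spec.map (CommRingCat.ofHom (algebraMap K L))) E).hom :=
    inferInstanceAs (IsProper (pullback.snd E.hom _))
  have h4 : GeometricallyIntegral (Red.bc (Spec.map (CommRingCat.ofHom (algebraMap K L))) E).hom :=
    inferInstanceAs (GeometricallyIntegral (pullback.snd E.hom _))
  have h5 : IsDiscreteValuationRing ↥(integralClosure R L) := (Groth.Agent.S17690.result R K L hR).1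
  have h6 : IsFractionRing ↥(integralClosure R L) L :=
    integralClosure.isFractionRing_of_finite_extension K L
  exact ⟨Groth.Agent.Sga7.H756.Assembly.semistable _ L φ ψ n hn h1 h2,
    Groth.Agent.Sga7.H756.Assembly.semistable _ L ψ φ n hn h2 h1⟩

end Groth.Agent.S19896
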