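import Groth.Statements.S19897
import Groth.Agent.S18045
import Groth.Agent.AdjLin.K149.HypCB

set_option autoImplicit false
universe u
open CategoryTheory CategoryTheory.Limits AlgebraicGeometry
open AdjLin

namespace Groth.Agent.S19897

/-- Let k be an algebraically closed field of characteristic zero and X ⊂ P³_k a smooth surface of
degree d, that is, a closed immersion ι : X → P³_k over k of an irreducible smooth k-scheme of
dimension 2 whose hyperplane class H = ι*O(1) has (H·H) = d (computed as an alternating sum of Euler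
characteristics from two copies of ι*O(−1)); write O_X(j) = ι*O_{P³}(j). Assume that for every
effective Cartier divisor D on X (a quasi-coherent ideal I_D locally generated by one
nonzerodivisor, with a tensor inverse O_X(D) of I_D) the module O_X(D) is isomorphic to O_X(j) for
some integer j. Let P ⊂ X be a zero-dimensional local complete intersection subscheme (a
quasi-coherent ideal I_P with finite support, generated by two sections on an affine neighbourhood
of every point) having the Cayley–Bacharach property for O_X(m): for every quasi-coherent ideal I'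
covering I_P in the order of ideal sheaves, every global section of O_X(m) whose zero scheme has
ideal ≤ I' has zero scheme with ideal ≤ I_P. Suppose O_X(n) ⊗ I_P has no nonzero global section, d ≤
m + 4 and 2n ≥ m + 2 − d. Then d (m + 4 − d)² ≤ 4 χ(O_X/I_P); that is, the length of P is at least d
(m + 4 − d)²/4. (The published corollary is stated for P ⊂ P³ with the Cayley–Bacharach property for
forms of degree m on P³, equivalent to the property for O_X(m) on X since forms restrict
surjectively to X, and without the assumption that every effective divisor of X is a multiple of the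
hyperplane class; its argument needs the vanishing of the global sections of O_X(D) ⊗ I_P for every
effective divisor D with 2(D·H) < d(m + 4 − d) and obtains it from the hypothesis on O_X(n) ⊗ I_P
only for multiples of the hyperplane class, so that assumption on the divisors of X, satisfied for
instance when the Picard group of X is generated by O_X(1), is made explicit here.) -/
theorem result
    (k : Type u) [Field k] [IsAlgClosed k] [CharZero k]
    (X : Scheme.{u}) [X.Over (Spec (CommRingCat.of k))] [Smooth (X ↘ (Spec (CommRingCat.of k)))]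
    [IrreducibleSpace X] (hdim : topologicalKrullDim X = 2)
    (ι : X ⟶ CohB1.ProjSpace 3 k) [IsClosedImmersion ι]
    (hι : ι ≫ CohB1.ProjSpace.toSpec 3 k = X ↘ (Spec (CommRingCat.of k)))
    (d : ℤ) (hd : FGA.intNum k X 2 ![((Scheme.Modules.pullback ι).obj (Twist.twistProjSpace 3 k (-1))), ((Scheme.Modules.pullback ι).obj (Twist.twistProjSpace 3 k (-1)))] (Coh.structureModule X) = d)
    (hpic : ∀ (ID : X.IdealSheafData) (OD : X.Modules), FGA.IsEffCartier ID →
      ClSub.IsInverseOf OD (ClSub.idealMod ID) → ∃ j : ℤ, Nonempty (OD ≅ ((Scheme.Modules.pullback ι).obj (Twist.twistProjSpace 3 k (j)))))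
    (IP : X.IdealSheafData) (hfin : (IP.support : Set X).Finite)
    (hlci : ∀ x : X, ∃ V : X.affineOpens, x ∈ (V : X.Opens) ∧
      ∃ a b : Γ(X, V), IP.ideal V = Ideal.span {a, b})
    (m n : ℤ)
    (hCB : ∀ I' : X.IdealSheafData, IP ⋖ I' →
      ∀ σ : Coh.structureModule X ⟶ ((Scheme.Modules.pullback ι).obj (Twist.twistProjSpace 3 k (m))),
        PicF2.zeroScheme ((Scheme.Modules.pullback ι).obj (Twist.twistProjSpace 3 k (m))) σ ≤ I' → PicF2.zeroScheme ((Scheme.Modules.pullback ι).obj (Twist.twistProjSpace 3 k (m))) σ ≤ IP)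
    (hvan : ∀ σ : Coh.structureModule X ⟶ CohB1.tensorMod ((Scheme.Modules.pullback ι).obj (Twist.twistProjSpace 3 k (n))) (ClSub.idealMod IP), σ = 0)
    (hdm : d ≤ m + 4) (hn : m + 2 - d ≤ 2 * n) :
    d * (m + 4 - d) ^ 2 ≤ 4 * FGA.eulerCharLE k X (ClSub.quotMod IP) 2 := by
  have hint := K802.GoodPoint.isIntegral_of_smooth (X ↘ (Spec (CommRingCat.of k)))
  have hprop := K802.HypCanon.isProper_X ι hι
  have hsm : SmoothOfRelativeDimension 2 (X ↘ (Spec (CommRingCat.of k))) :=
    Picfga.CurveRelDim.smoothOfRelativeDimension_of_topologicalKrullDim_eq k X _ 2 hdim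
  obtain ⟨ω, hω, hωi⟩ := K455.Canon.exists_canonical (X ↘ (Spec (CommRingCat.of k))) 2
  obtain ⟨e⟩ := K802.HypCanon.nonempty_iso ι hι hdim d hd hω
  have hpos := K149.HypCB.deg_pos k ι hι hdim d hd
  have hnum := K149.HypCB.intNum_O k ι hι hdim d hd
  have hiO := K802.HypCanon.isInvertible_O (k := k) ι
  have hdot : ∀ a b : ℤ, FGA.intNum k X 2 ![K802.HypCanon.O ι (-a), K802.HypCanon.O ι (-b)]
      (Coh.structureModule X) = a * b * d := fun a b => by
    rw [K464.Base.intNum_eq_dot k X hdim.le (hiO _) (hiO _)]
    exact hnum a b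
  rcases hdm.eq_or_lt with h0 | h0
  · rw [← h0, sub_self]
    have h1 : 0 ≤ FGA.eulerCharLE k X (ClSub.quotMod IP) 2 := by
      rw [K455.CMInt.euler_quotMod_of_finite k IP hfin]
      exact Int.natCast_nonneg _
    linarith
  have hinv : ∀ a : ℤ, ClSub.IsInverseOf (K802.HypCanon.O (k := k) ι (-a)) (K802.HypCanon.O ι a) := fun a =>
    (Fga.PicMon.mc_eq_iff _ _).1 (by
      rw [Fga.PicMon.mc_tensor, K802.HypCanon.mc_O, neg_add_cancel, K802.HypCanon.mc_O_zero, Fga.PicMon.mc_one])
  have hu : Fga.PicMon.mc (CohB1.tensorMod (K802.HypCanon.O ι (m + 4 - d)) ω) =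
      Fga.PicMon.mc (K802.HypCanon.O ι m) := by
    rw [Fga.PicMon.mc_tensor, Fga.PicMon.mc_eq e, K802.HypCanon.mc_O, show (m + 4 - d + (d - 4) : ℤ) = m by ring]
  obtain ⟨κ⟩ := (Fga.PicMon.mc_eq_iff _ _).1 hu
  have key := S18045.result k X hdim (K802.HypCanon.O ι 1) (K802.HypCanon.O ι (-1))
    (K802.TwistP.isAmple_one ι) (hiO 1) (hinv 1) ω hω (K802.HypCanon.O ι (m + 4 - d))
    (K802.HypCanon.O ι (-(m + 4 - d))) (hiO _) (hinv _) (by
      rw [hdot (m + 4 - d) 1]
      have : 0 < m + 4 - d := by omega
      positivity) IP hfin hlci (fun I' hI' σ hσ => by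
      have hN : PicF.IsInvertible (CohB1.tensorMod (K802.HypCanon.O ι (m + 4 - d)) ω) :=
        K802.TwistSES.isInvertible_of_iso κ.symm (hiO m)
      have h1 := K802.ZeroIso.zeroScheme_comp_iso hN (hiO m) σ κ
      rw [← h1] at hσ ⊢
      exact hCB I' hI' _ hσ) (fun ID OD hID hOD hlt σ => by
      obtain ⟨j, ⟨ψ⟩⟩ := hpic ID OD hID hOD
      have hODi : PicF.IsInvertible OD := K802.TwistSES.isInvertible_of_iso ψ.symm (hiO j)
      have hmk : Grpsch.PicGrp.mk OD hODi = K463.PnTw.tw k 3 ι j := (Grpsch.PicGrp.mk_eq_iff _ _).mpr ⟨ψ⟩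
      have hj : j ≤ n := by
        have h2 : FGA.intNum k X 2 ![ClSub.idealMod ID, K802.HypCanon.O ι (-1)] (Coh.structureModule X) = j * d := by
          have h3 := K464.Base.mk_eq_ic_inv hOD hODi hID
          have h4 : K464.Base.ic ID hID = K463.PnTw.tw k 3 ι (-j) := by
            rw [K463.PnTw.tw_neg, ← hmk, h3, inv_inv]
          rw [K464.Base.intNum_eq_dot k X hdim.le (Dix.IdealModCartier.isInvertible_idealMod hID) (hiO _)]
          change K464.Base.dot k X (K464.Base.ic ID hID) (K463.PnTw.tw k 3 ι (-1)) = _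
          rw [h4, hnum j 1, mul_one]
        rw [h2, hdot (m + 4 - d) 1, mul_one, ← mul_assoc] at hlt
        have h5 := lt_of_mul_lt_mul_right hlt hpos.le
        omega
      obtain ⟨μ, hμ⟩ := K149.HypCB.exists_mono k ι hι hODi hmk hj (K149.HypCB.hc_one_pos k ι hι hdim d hd)
      exact K149.HypCB.section_eq_zero hODi μ IP hvan σ)
  rw [hdot] at key
  linarith [key]

end Groth.Agent.S19897
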