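import Groth.Statements.S19900
import Groth.Agent.AlgSt.K741.DiagEq
import Groth.Agent.AlgSt.K738.RespIso
import Groth.Agent.AlgSt.K742.SmComp
import Groth.Agent.AlgSp.K636.Basic
import Groth.Agent.S10536
import Groth.Agent.S10521
import Groth.Agent.S9925
import Groth.Agent.S9926
import Groth.Agent.S10275
import Groth.Agent.S10279
import Groth.Agent.S12763
import Groth.Agent.S12819
import Groth.Agent.S12831
import Groth.Agent.S12939

set_option autoImplicit false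
set_option backward.isDefEq.respectTransparency false
set_option backward.isDefEq.respectTransparency.types false
universe u
open CategoryTheory AlgebraicGeometry
open AlgSt

namespace Groth.Agent.S19900

open K741 in
/-- properness of the target of a surjective universally closed morphism -/
theorem isProperMor_of_cover {S : Scheme.{u}} {A P T : AlgSp.Sp S} (hA : AlgSp.IsAlgSpace A) (hP : AlgSp.IsAlgSpace P)
    (hT : AlgSp.IsAlgSpace T) (r : A ⟶ P) (k : P ⟶ T) (hr : AlgSp.IsSurjectiveMor r) (hc : AlgSp.IsUnivClosedMor r)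
    (hk : AlgSp.LocP @LocallyOfFiniteType k) (hl : AlgSp.IsProperMor (r ≫ k)) : AlgSp.IsProperMor k := by
  let A' : AlgSp.Space S := ⟨A, hA⟩
  let P' : AlgSp.Space S := ⟨P, hP⟩
  let T' : AlgSp.Space S := ⟨T, hT⟩
  have h1 : AlgSp.IsSeparatedMor k := (Groth.Agent.S9926.result (X := A') (Y := P') (B := T') (ObjectProperty.homMk r)
    (ObjectProperty.homMk (r ≫ k)) (ObjectProperty.homMk k) rfl hr hc).2 hl.1
  have h2 : AlgSp.IsUnivClosedMor k := Groth.Agent.S10279.result (X := A') (Y := P') (B := T') (ObjectProperty.homMk r)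
    (ObjectProperty.homMk (r ≫ k)) (ObjectProperty.homMk k) rfl hl.2.2 hr
  exact ⟨h1, ⟨hk, Groth.Agent.S9925.result (X := P') (Y := T') (ObjectProperty.homMk k) h2⟩, h2⟩

theorem stableBC_proper {S : Scheme.{u}} : K734.Rep.StableBC (AlgSp.IsProperMor (S := S)) :=
  fun _ _ _ _ h₁ h₂ h₃ h₄ a b a' b' sq h => Groth.Agent.S10275.result (X := ⟨_, h₁⟩) (Y := ⟨_, h₂⟩) (Y' := ⟨_, h₄⟩)
    (X' := ⟨_, h₃⟩) (ObjectProperty.homMk a) (ObjectProperty.homMk b) (ObjectProperty.homMk b')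
    (ObjectProperty.homMk a') sq h

theorem stableBC_univClosed {S : Scheme.{u}} : K734.Rep.StableBC (AlgSp.IsUnivClosedMor (S := S)) :=
  fun _ _ _ _ _ _ _ _ _ _ _ _ sq h => K636.Basic.univSp_of_isPullback sq h

open K741 in
theorem isSeparatedMor_aux {S : Scheme.{u}} {𝒳 𝒴 𝒵 : AlgSt.Cat S}
    (h𝒳 : AlgSt.IsAlgStack Scheme.fppfPrecoverage 𝒳)
    (h𝒴 : AlgSt.IsAlgStack Scheme.fppfPrecoverage 𝒴)
    (h𝒵 : AlgSt.IsAlgStack Scheme.fppfPrecoverage 𝒵)
    (f : 𝒳 ⥤ᵇ 𝒴) (g : 𝒴 ⥤ᵇ 𝒵)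
    (hf₁ : AlgSt.IsSurjective f) (hf₂ : AlgSt.LocQ (AlgSp.LocP @Flat) f)
    (hf₃ : AlgSt.LocQ (AlgSp.LocP @LocallyOfFinitePresentation) f)
    (hf₄ : AlgSt.RepByAlgSpWith AlgSp.IsSurjectiveMor (FibCat.diag f))
    (hf₅ : AlgSt.RepByAlgSpWith AlgSp.IsUnivClosedMor (FibCat.diag f))
    (hg : AlgSt.RepByAlgSpWith (AlgSp.LocP @LocallyOfFiniteType) (FibCat.diag g))
    (hh : AlgSt.IsSeparatedMor (BasedFunctor.comp f g)) :
    AlgSt.IsSeparatedMor g := by
  have g𝒳 := h𝒳.isStack.1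
  have g𝒴 := h𝒴.isStack.1
  have g𝒵 := h𝒵.isStack.1
  have hbl : K734.Rep.StableBC (AlgSp.LocP (S := S) @LocallyOfFiniteType) := K742.SmComp.stableBC_locP K597.etLoc_lft
  refine repByAlgSpWith_of_isBC g𝒴 (K735.Fp.isFibGrpd_fp g𝒴 g𝒴 g𝒵 g g) fun U t => ?_
  obtain ⟨c, h, hca, hbc, -⟩ := exists_isBC_sp' hbl isLocalOnBase_lft g𝒴 (K735.Fp.isFibGrpd_fp g𝒴 g𝒴 g𝒵 g g) hg
    (d := ⟨(AlgSp.yon S).obj U, t⟩) (AlgSp.IsAlgSpace.yon_obj U)
  refine ⟨c, h, hca, hbc, ?_⟩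
  have heq := isEq_of_isBC hbc
  let d : Ch (FibCat.fp g g) := ⟨(AlgSp.yon S).obj U, t⟩
  let t₁ : Ch 𝒴 := (Ch.push (FibCat.fpFst g g)).obj d
  let t₂ : Ch 𝒴 := (Ch.push (FibCat.fpSnd g g)).obj d
  obtain ⟨e₁, m₁, he₁, hms₁, hmP₁⟩ := exists_lift_of_flat h𝒴 h𝒳 f hf₁ t₁ (AlgSp.IsAlgSpace.yon_obj U)
  obtain ⟨e₂, m₂, he₂, hms₂, hmP₂⟩ := exists_lift_of_flat h𝒴 h𝒳 f hf₁ (t₂.res m₁.a) he₁
  let v : e₂.F ⟶ e₁.F := m₂.a
  let x₁ : Ch 𝒳 := e₁.res v
  let n₁ : (Ch.push f).obj x₁ ⟶ t₁ := (Ch.push f).map (e₁.resHom v) ≫ m₁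
  let n₂ : (Ch.push f).obj e₂ ⟶ t₂ := m₂ ≫ t₂.resHom m₁.a
  obtain ⟨γ, hγa, hγ⟩ := Ch.exists_lift g𝒵 ((Ch.push g).map n₂) ((Ch.push g).map n₁ ≫ Ch.fpγ d) (𝟙 e₂.F)
    ((Category.id_comp _).trans (Category.comp_id _).symm)
  obtain ⟨p, k₁, k₂, hp, hpa, hpl⟩ := exists_isEq hbl isLocalOnBase_lft g𝒴 g𝒵 hg γ he₂
  obtain ⟨q, l₁, l₂, hq, hqa, hqP⟩ := exists_isEq stableBC_proper
    (isLocalOnBase_fppf_of_fpqc (Groth.Agent.S10536.result S)) g𝒳 g𝒵 hh (d₁ := x₁) (d₂ := e₂) γ he₂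
  obtain ⟨r, γ', l₁', hr₁, hr₂, heq', hl₁'⟩ := hp.comp g𝒳 g𝒴 hq
  have hrs : AlgSp.IsSurjectiveMor r.a := by
    have : (AlgSp.IsSurjectiveMor (S := S)).RespectsIso :=
      MorphismProperty.RespectsIso.mk _ (fun e f hf => surj_comp (surj_of_isIso _) hf)
        (fun e f hf => surj_comp hf (surj_of_isIso _))
    have h1 := (heq'.prop stableBC_surj isLocalOnBase_surj g𝒳 g𝒴 hf₄ hpa).2
    rwa [hl₁'] at h1
  have hrc : AlgSp.IsUnivClosedMor r.a := by
    have h1 := (heq'.prop stableBC_univClosed (isLocalOnBase_fppf_of_fpqc (Groth.Agent.S10521.result S)) g𝒳 g𝒴 hf₅ hpa).2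
    rwa [hl₁'] at h1
  have hrl : r.a ≫ k₁.a = l₁.a := congrArg Ch.Hom.a hr₁
  have hkP : AlgSp.IsProperMor k₁.a := isProperMor_of_cover hqa hpa he₂ r.a k₁.a hrs hrc hpl (by
    rw [hrl]
    exact hqP)
  have hp' := hp.post g𝒴 g𝒵 n₂
  rw [hγ] at hp'
  obtain ⟨u, -, -, sq⟩ := heq.isPullback g𝒴 n₁ hp'
  exact (isLocalOnBase_fppf_of_fpqc (Groth.Agent.S10536.result S) (fun _ : PUnit.{u + 1} => e₂.F) (fun _ => v ≫ m₁.a)
    (AlgSp.IsAlgSpace.yon_obj U) (fun _ => he₂) (isFppfCover_single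
      ((K894.GoodP.good_flat S).comp he₂ he₁ (AlgSp.IsAlgSpace.yon_obj U) _ _
        (hmP₂ K894.SmST.isSmoothLocalST_flat (K894.GoodP.good_flat S).bc (K894.GoodP.good_flat S).comp
          (K894.GoodP.good_flat S).smooth hf₂)
        (hmP₁ K894.SmST.isSmoothLocalST_flat (K894.GoodP.good_flat S).bc (K894.GoodP.good_flat S).comp
          (K894.GoodP.good_flat S).smooth hf₂))
      ((K894.GoodP.good_lfp S).comp he₂ he₁ (AlgSp.IsAlgSpace.yon_obj U) _ _
        (hmP₂ K894.SmST.isSmoothLocalST_lfp (K894.GoodP.good_lfp S).bc (K894.GoodP.good_lfp S).comp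
          (K894.GoodP.good_lfp S).smooth hf₃)
        (hmP₁ K894.SmST.isSmoothLocalST_lfp (K894.GoodP.good_lfp S).bc (K894.GoodP.good_lfp S).comp
          (K894.GoodP.good_lfp S).smooth hf₃))
      (surj_comp hms₂ hms₁)) h.a hca
    (fun _ => p.F) (fun _ => k₁.a) (fun _ => u.a) (fun _ => hpa) (fun _ => sq)).2 fun _ => hkP

/-- Let f : 𝒳 → 𝒴 and g : 𝒴 → 𝒵 be morphisms of algebraic stacks with composite h : 𝒳 → 𝒵. If f is flat,
surjective, universally injective and locally of finite presentation, the diagonal of f is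
universally closed and h is separated, then g is separated. (The published statement does not ask
the diagonal of f to be universally closed, and without it the statement fails: over the affine line
T over a field let G be the constant group scheme with two elements, H the etale group scheme
obtained from G by gluing its two sections over the complement of the origin, and f the morphism
from the classifying stack of G to that of H induced by the quotient map; then f is flat,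
surjective, universally injective and locally of finite presentation, the classifying stack of G is
separated over T since G is finite, and that of H is not since H is not separated. The published
argument uses that the diagonal of f is universally closed.) -/
theorem result
    (S : Scheme.{u}) (𝒳 : AlgSt.Cat S) (𝒴 : AlgSt.Cat S) (𝒵 : AlgSt.Cat S)
    (h𝒳 : AlgSt.IsAlgStack Scheme.fppfPrecoverage 𝒳)
    (h𝒴 : AlgSt.IsAlgStack Scheme.fppfPrecoverage 𝒴)
    (h𝒵 : AlgSt.IsAlgStack Scheme.fppfPrecoverage 𝒵)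
    (f : 𝒳 ⥤ᵇ 𝒴) (g : 𝒴 ⥤ᵇ 𝒵)
    (hf₁ : AlgSt.IsSurjective f) (hf₂ : AlgSt.LocQ (AlgSp.LocP @Flat) f)
    (hf₃ : AlgSt.LocQ (AlgSp.LocP @LocallyOfFinitePresentation) f)
    (hf₄ : AlgSt.IsUnivInjective Scheme.fppfPrecoverage f)
    (hf₅ : AlgSt.RepByAlgSpWith AlgSp.IsUnivClosedMor (FibCat.diag f))
    (hh : AlgSt.IsSeparatedMor (BasedFunctor.comp f g)) :
    AlgSt.IsSeparatedMor g := by
  refine isSeparatedMor_aux h𝒳 h𝒴 h𝒵 f g hf₁ hf₂ hf₃ ?_ hf₅ (Groth.Agent.S12939.result S 𝒴 𝒵 h𝒴 h𝒵 g) hh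
  have h1 := (Groth.Agent.S12831.result h𝒳 h𝒴 f).1 hf₄
  exact (Groth.Agent.S12819.result h𝒳 (Groth.Agent.S12763.result h𝒴.isStack h𝒴.diag h𝒳 h𝒳 f f) (FibCat.diag f)
    (K735.Rep.repByAlgSp1_of_with hf₅)).1 h1

end Groth.Agent.S19900
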