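import Groth.Statements.S19901
import Groth.Agent.AlgSt.K750.LciSq

set_option autoImplicit false
universe u
open CategoryTheory AlgebraicGeometry
open AlgSt

namespace Groth.Agent.S19901

/-- Let f : 𝒳 → 𝒴, q : 𝒴 → 𝒵 and p : 𝒳 → 𝒵 be morphisms of algebraic stacks forming a 2-commutative
triangle (a 2-isomorphism between q ∘ f and p is given). If q is smooth and p is a local complete
intersection morphism (Koszul), then f is a local complete intersection morphism. Smooth and local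
complete intersection morphisms of algebraic stacks are read on one square of smooth scheme charts. -/
theorem result
    (S : Scheme.{u}) (𝒳 : AlgSt.Cat S) (𝒴 : AlgSt.Cat S) (𝒵 : AlgSt.Cat S)
    (h𝒳 : AlgSt.IsAlgStack Scheme.fppfPrecoverage 𝒳)
    (h𝒴 : AlgSt.IsAlgStack Scheme.fppfPrecoverage 𝒴)
    (h𝒵 : AlgSt.IsAlgStack Scheme.fppfPrecoverage 𝒵)
    (f : 𝒳 ⥤ᵇ 𝒴) (q : 𝒴 ⥤ᵇ 𝒵) (p : 𝒳 ⥤ᵇ 𝒵) (e : BasedFunctor.comp f q ≅ p)
    (hq : AlgSt.LocQ (AlgSp.LocP @Smooth) q) (hp : AlgSt.LocQ AlgSp.IsLCIMor p) :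
    AlgSt.LocQ AlgSp.IsLCIMor f := by
  have hX : FibCat.IsFibGrpd 𝒳.p := h𝒳.isStack.1
  have hY : FibCat.IsFibGrpd 𝒴.p := h𝒴.isStack.1
  have hZ : FibCat.IsFibGrpd 𝒵.p := h𝒵.isStack.1
  obtain ⟨U₀, V₀, x₀, y₀, h₀, α₀, hx₀, hx₀s, hy₀, hh₀⟩ := hp
  obtain ⟨W, U, V, x, y, z, a, b, hx, hy, hz, hxs, -, hga, hgb, hgc, -⟩ :=
    K742.EvQ.exists_chain hX hY hZ h𝒳.atlas h𝒴.atlas h𝒵.atlas f q
  have hb : Smooth b.left :=
    K742.EvQ.goodSq_of_locQ K742.nice_smooth hY hZ q hq y z (K735.Rep.repByAlgSp1_of_with hz) b hgb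
  obtain ⟨α, -⟩ := hgc
  have hab : AlgSp.lci (a ≫ b).left :=
    K750.SqCmp.prop_of_sq K750.LciSq.sqP_lci hX hZ (BasedFunctor.comp f q) x₀ y₀ h₀
      (K735.Fib.whiskerLeftIso x₀ e ≪≫ α₀) hx₀ (K735.Top.surjective_of_repByAlgSpWith hX (K735.Fp.isFibGrpd_overCat U₀) hx₀s)
      hy₀ ((K750.LciSq.lci_yon_iff h₀).1 hh₀) x z (a ≫ b) α hx hz
  have ha : AlgSp.lci a.left := K750.LciSq.sqP_lci.cancel a.left b.left hb (by
    rw [← Over.comp_left]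
    exact hab)
  obtain ⟨β, -⟩ := hga
  exact ⟨W, U, x, y, a, β, hx, K742.EvQ.surj_of_points hX (K735.Rep.repByAlgSp1_of_with hx) hxs, hy,
    (K750.LciSq.lci_yon_iff a).2 ha⟩

end Groth.Agent.S19901
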