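import Groth.Statements.S19905
import Groth.Agent.ModSt.K599.IsoGlue
import Groth.Agent.ModSt.K927.PrChart
import Groth.Agent.AlgSt.K737.Pts
import Groth.Agent.S12765

set_option autoImplicit false
open CategoryTheory CategoryTheory.Limits AlgebraicGeometry
universe u
open ModSt

namespace Groth.Agent.S19905

open K599.LMod K599.Rep K599.IsoRep K599.Prod K599.Good K599.RepSupp K599.IsoGlue

/-- Let f : X → S be a morphism of schemes of finite presentation (quasi-compact, quasi-separated and
locally of finite presentation), and consider the stack of coherent sheaves of X over S: the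
category over (Sch/S) whose objects over T are the finitely presented modules on a base change X_T,
flat over T, with support proper over T (contained in a closed subscheme of X_T proper over T),
isomorphisms with pull-backs as morphisms. Its diagonal over (Sch/S) is representable by algebraic
spaces. (The source allows X → B to be a morphism of finite presentation of algebraic spaces over a
base scheme; this row is the case of schemes with base S = B.) -/
theorem result {X S : Scheme.{u}} (f : X ⟶ S)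
    [QuasiCompact f] [QuasiSeparated f] [LocallyOfFinitePresentation f] :
    AlgSt.RepByAlgSp1 (FibCat.diag (FibCat.toSelf (AlgSt.fullSub (ModSt.Coh f) fun A ↦
      ∃ (Z : Scheme.{u}) (i : Z ⟶ A.obj.XT), IsClosedImmersion i ∧ IsProper (i ≫ A.obj.q) ∧
        CohB1.support A.obj.E ⊆ Set.range i.base))) := by
  have hgd : ∀ x : (AlgSt.fullSub (ModSt.Coh f) fun A ↦
      ∃ (Z : Scheme.{u}) (i : Z ⟶ A.obj.XT), IsClosedImmersion i ∧ IsProper (i ≫ A.obj.q) ∧
        CohB1.support A.obj.E ⊆ Set.range i.base).obj, Gd x.obj.obj.q x.obj.obj.E := fun x =>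
    ⟨x.obj.property.2, x.obj.property.1, x.property⟩
  have hfib : FibCat.IsFibGrpd (AlgSt.fullSub (ModSt.Coh f) fun A ↦
      ∃ (Z : Scheme.{u}) (i : Z ⟶ A.obj.XT), IsClosedImmersion i ∧ IsProper (i ≫ A.obj.q) ∧
        CohB1.support A.obj.E ⊆ Set.range i.base).p := by
    refine K737.Pts.isFibGrpd_fullSub (K927.ModSt.isFibGrpd_coh f) ?_
    intro x z φ hx
    exact (gd_of_hom φ.hom ⟨x.property.2, x.property.1, hx⟩).supp
  refine (Groth.Agent.S12765.result hfib).2 ?_
  intro U x
  have key : AlgSt.RepByAlgSpWith (AlgSp.LocP (⊤ : MorphismProperty Scheme.{u})) x := by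
    refine K927.PrChart.repWith_of_prod hfib (fun _ _ _ _ _ _ _ => trivial) x fun τ => ?_
    let y := x.obj (Over.mk (𝟙 U))
    obtain ⟨R, hR1, hR2⟩ := exists_isoG (gd₁ τ.obj.obj y.obj.obj (hgd τ)) (gd₂ τ.obj.obj y.obj.obj (hgd y))
    have hW : Gd (W R).q (W R).E := gd_of_hom (pr₁ R) (hgd τ)
    let w : (AlgSt.fullSub (ModSt.Coh f) fun A ↦
      ∃ (Z : Scheme.{u}) (i : Z ⟶ A.obj.XT), IsClosedImmersion i ∧ IsProper (i ≫ A.obj.q) ∧
        CohB1.support A.obj.E ⊆ Set.range i.base).obj := ⟨⟨W R, ⟨hW.flat, hW.fp⟩⟩, hW.supp⟩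
    let p : w ⟶ τ := ⟨⟨pr₁ R⟩⟩
    let q : w ⟶ y := ⟨⟨pr₂ R⟩⟩
    refine ⟨w, p, q, ?_, trivial⟩
    intro z a b
    obtain ⟨c, ⟨h1, h2⟩, h3⟩ := existsUnique R z.obj.obj a.hom.hom b.hom.hom
    refine ⟨⟨⟨c⟩⟩, ⟨?_, ?_⟩, ?_⟩
    · exact InducedCategory.hom_ext (InducedCategory.hom_ext h1)
    · exact InducedCategory.hom_ext (InducedCategory.hom_ext h2)
    · rintro ⟨⟨c'⟩⟩ ⟨h4, h5⟩
      have := h3 c' ⟨congrArg (fun φ : z ⟶ τ => φ.hom.hom) h4, congrArg (fun φ : z ⟶ y => φ.hom.hom) h5⟩
      exact InducedCategory.hom_ext (InducedCategory.hom_ext this)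
  intro V y
  obtain ⟨F, e, he, -⟩ := key V y
  exact ⟨F, e, he⟩

end Groth.Agent.S19905
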