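import Groth.Statements.S19906
import Groth.Agent.IntMult.K304.NPVBridge
import Groth.Agent.IntMult.K304.NPVTriple

set_option autoImplicit false
universe u
open CategoryTheory CategoryTheory.Limits AlgebraicGeometry
attribute [local instance] HasDerivedCategory.standard
open IntMult

namespace Groth.Agent.S19906

/-- Let f : X → Y and g : Y → Z be morphisms of nonsingular projective varieties over an algebraically
closed field and define the pullback on Chow groups through graphs, f^*β = pr_{X,*}(Γ_f · pr_Y^*β)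
with Γ_f ⊂ X × Y and · the intersection product of X × Y, and likewise g^* through Γ_g ⊂ Y × Z and
(g ∘ f)^* through Γ_{g∘f} ⊂ X × Z. Then (g ∘ f)^*α = f^*(g^*α) for α ∈ CH_k(Z). Here X, Y, Z and the
three products are nonsingular varieties over the algebraically closed field K (smooth, separated,
quasi-compact, integral) embedded as closed subschemes of projective spaces over K, with dimension
functions the transcendence degree (Cyc.IsSetup, Cyc.DeltaCompat to Spec K with value 0) and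
dimensions dX, dY, dZ and their sums pinned at the generic points; the products on the Chow groups
of X × Y, Y × Z, X × Z are any mulXY, mulYZ, mulXZ with ChowOps.IsChowMul; each graph cycle is the
prime cycle of the image of the generic point under the graph morphism; pr^* is the coefficientwise
flat pullback, pr_* the proper pushforward of a representing cycle, and the two sides are compared
up to rational equivalence on X as (k + dX - dZ)-cycles. -/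
theorem result (K : Type u) [Field K] [IsAlgClosed K] (X : Scheme.{u}) (fX : X ⟶ Spec (CommRingCat.of K)) [Smooth fX] [IsSeparated fX] [QuasiCompact fX] [IsIntegral X] (δX : X → ℤ) (hX : Cyc.IsSetup X δX) (hδX : Cyc.DeltaCompat fX δX (fun _ ↦ 0)) (dX : ℕ) (hdX : δX (genericPoint X) = dX) (NX : ℕ) (ιX : X ⟶ CohB1.ProjSpace NX K) [IsClosedImmersion ιX] (hιX : ιX ≫ CohB1.ProjSpace.toSpec NX K = fX) (Y : Scheme.{u}) (fY : Y ⟶ Spec (CommRingCat.of K)) [Smooth fY] [IsSeparated fY] [QuasiCompact fY] [IsIntegral Y] (δY : Y → ℤ) (hY : Cyc.IsSetup Y δY) (hδY : Cyc.DeltaCompat fY δY (fun _ ↦ 0)) (dY : ℕ) (hdY : δY (genericPoint Y) = dY) (NY : ℕ) (ιY : Y ⟶ CohB1.ProjSpace NY K) [IsClosedImmersion ιY] (hιY : ιY ≫ CohB1.ProjSpace.toSpec NY K = fY) (Z : Scheme.{u}) (fZ : Z ⟶ Spec (CommRingCat.of K)) [Smooth fZ] [IsSeparated fZ] [QuasiCompact fZ] [IsIntegral Z] (δZ : Z → ℤ) (hZ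 : Cyc.IsSetup Z δZ) (hδZ : Cyc.DeltaCompat fZ δZ (fun _ ↦ 0)) (dZ : ℕ) (hdZ : δZ (genericPoint Z) = dZ) (NZ : ℕ) (ιZ : Z ⟶ CohB1.ProjSpace NZ K) [IsClosedImmersion ιZ] (hιZ : ιZ ≫ CohB1.ProjSpace.toSpec NZ K = fZ) (f : X ⟶ Y) (hf : f ≫ fY = fX) (g : Y ⟶ Z) (hg : g ≫ fZ = fY) [IsIntegral (pullback fX fY)] (δXY : ↥(pullback fX fY) → ℤ) (hXY : Cyc.IsSetup (pullback fX fY) δXY) (hδXY : Cyc.DeltaCompat (pullback.fst fX fY ≫ fX) δXY (fun _ ↦ 0)) (hdXY : δXY (genericPoint ↥(pullback fX fY)) = (dX : ℤ) + (dY : ℤ)) (NXY : ℕ) (ιXY : (pullback fX fY) ⟶ CohB1.ProjSpace NXY K) [IsClosedImmersion ιXY] (hιXY : ιXY ≫ CohB1.ProjSpace.toSpec NXY K = pullback.fst fX fY ≫ fX) (mulXY : (r s : ℤ) → ChowOps.CH (pullback fX fY) δXY r → ChowOps.CH (pullback fX fY) δXY s → ChowOps.CH (pullback fX fY) δXY (r + s - ((dX : ℤ) + (dY : ℤ)))) (hmulXY : ChowOps.IsChowMul (pullback fX fY) δXY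 ((dX : ℤ) + (dY : ℤ)) mulXY) [IsIntegral (pullback fY fZ)] (δYZ : ↥(pullback fY fZ) → ℤ) (hYZ : Cyc.IsSetup (pullback fY fZ) δYZ) (hδYZ : Cyc.DeltaCompat (pullback.fst fY fZ ≫ fY) δYZ (fun _ ↦ 0)) (hdYZ : δYZ (genericPoint ↥(pullback fY fZ)) = (dY : ℤ) + (dZ : ℤ)) (NYZ : ℕ) (ιYZ : (pullback fY fZ) ⟶ CohB1.ProjSpace NYZ K) [IsClosedImmersion ιYZ] (hιYZ : ιYZ ≫ CohB1.ProjSpace.toSpec NYZ K = pullback.fst fY fZ ≫ fY) (mulYZ : (r s : ℤ) → ChowOps.CH (pullback fY fZ) δYZ r → ChowOps.CH (pullback fY fZ) δYZ s → ChowOps.CH (pullback fY fZ) δYZ (r + s - ((dY : ℤ) + (dZ : ℤ)))) (hmulYZ : ChowOps.IsChowMul (pullback fY fZ) δYZ ((dY : ℤ) + (dZ : ℤ)) mulYZ) [IsIntegral (pullback fX fZ)] (δXZ : ↥(pullback fX fZ) → ℤ) (hXZ : Cyc.IsSetup (pullback fX fZ) δXZ) (hδXZ : Cyc.DeltaCompat (pullback.fst fX fZ ≫ fX) δXZ (fun _ ↦ 0)) (hdXZ : δXZ (genericPoint ↥(pullback fX fZ)) = (dX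 : ℤ) + (dZ : ℤ)) (NXZ : ℕ) (ιXZ : (pullback fX fZ) ⟶ CohB1.ProjSpace NXZ K) [IsClosedImmersion ιXZ] (hιXZ : ιXZ ≫ CohB1.ProjSpace.toSpec NXZ K = pullback.fst fX fZ ≫ fX) (mulXZ : (r s : ℤ) → ChowOps.CH (pullback fX fZ) δXZ r → ChowOps.CH (pullback fX fZ) δXZ s → ChowOps.CH (pullback fX fZ) δXZ (r + s - ((dX : ℤ) + (dZ : ℤ)))) (hmulXZ : ChowOps.IsChowMul (pullback fX fZ) δXZ ((dX : ℤ) + (dZ : ℤ)) mulXZ) (γXY : AlgebraicCycle (pullback fX fY) ℤ) (hγXY : ⇑γXY = Set.indicator {(pullback.lift (𝟙 X) f (Eq.trans (Category.id_comp fX) hf.symm)) (genericPoint X)} 1) (hγXYk : γXY ∈ Cyc.Zk (pullback fX fY) δXY (dX : ℤ)) (γYZ : AlgebraicCycle (pullback fY fZ) ℤ) (hγYZ : ⇑γYZ = Set.indicator {(pullback.lift (𝟙 Y) g (Eq.trans (Category.id_comp fY) hg.symm)) (genericPoint Y)} 1) (hγYZk : γYZ ∈ Cyc.Zk (pullback fY fZ) δYZ (dY : ℤ)) (γXZ : AlgebraicCycle (pullback fX fZ) ℤ) (hγXZ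 : ⇑γXZ = Set.indicator {(pullback.lift (𝟙 X) (f ≫ g) (Eq.trans (Category.id_comp fX) (Eq.symm (Eq.trans (Category.assoc f g fZ) (Eq.trans (congrArg (CategoryStruct.comp f) hg) hf))))) (genericPoint X)} 1) (hγXZk : γXZ ∈ Cyc.Zk (pullback fX fZ) δXZ (dX : ℤ)) (k : ℤ) (α : AlgebraicCycle Z ℤ) (hα : α ∈ Cyc.Zk Z δZ k) (αYZ : AlgebraicCycle (pullback fY fZ) ℤ) (hαYZ : ⇑αYZ = Cyc.pullFun (pullback.snd fY fZ) δYZ δZ (dY : ℤ) ⇑α) (hαYZk : αYZ ∈ Cyc.Zk (pullback fY fZ) δYZ (k + dY)) (ζ₁ : AlgebraicCycle (pullback fY fZ) ℤ) (hζ₁k : ζ₁ ∈ Cyc.Zk (pullback fY fZ) δYZ ((dY : ℤ) + (k + dY) - ((dY : ℤ) + (dZ : ℤ)))) (hζ₁ : ChowOps.cl ζ₁ hζ₁k = mulYZ (dY : ℤ) (k + dY) (ChowOps.cl γYZ hγYZk) (ChowOps.cl αYZ hαYZk)) (β : AlgebraicCycle Y ℤ) (hβ : β = AlgebraicCycle.map (pullback.fst fY fZ) δYZ δY ζ₁) (βXY : AlgebraicCycle (pullback fX fY) ℤ) (hβXY : ⇑βXY = Cyc.pullFun (pullback.snd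 fX fY) δXY δY (dX : ℤ) ⇑β) (hβXYk : βXY ∈ Cyc.Zk (pullback fX fY) δXY (((dY : ℤ) + (k + dY) - ((dY : ℤ) + (dZ : ℤ))) + dX)) (ζ₂ : AlgebraicCycle (pullback fX fY) ℤ) (hζ₂k : ζ₂ ∈ Cyc.Zk (pullback fX fY) δXY ((dX : ℤ) + (((dY : ℤ) + (k + dY) - ((dY : ℤ) + (dZ : ℤ))) + dX) - ((dX : ℤ) + (dY : ℤ)))) (hζ₂ : ChowOps.cl ζ₂ hζ₂k = mulXY (dX : ℤ) (((dY : ℤ) + (k + dY) - ((dY : ℤ) + (dZ : ℤ))) + dX) (ChowOps.cl γXY hγXYk) (ChowOps.cl βXY hβXYk)) (αXZ : AlgebraicCycle (pullback fX fZ) ℤ) (hαXZ : ⇑αXZ = Cyc.pullFun (pullback.snd fX fZ) δXZ δZ (dX : ℤ) ⇑α) (hαXZk : αXZ ∈ Cyc.Zk (pullback fX fZ) δXZ (k + dX)) (ζ₃ : AlgebraicCycle (pullback fX fZ) ℤ) (hζ₃k : ζ₃ ∈ Cyc.Zk (pullback fX fZ) δXZ ((dX : ℤ) + (k + dX) - ((dX : ℤ) + (dZ : ℤ)))) (hζ₃ : ChowOps.cl ζ₃ hζ₃k = mulXZ (dX : ℤ) (k + dX) (ChowOps.cl γXZ hγXZk) (ChowOps.cl αXZ hαXZk)) : Cyc.RatEquiv δX (k + dX - dZ) (AlgebraicCycle.map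 (pullback.fst fX fZ) δXZ δX ζ₃) (AlgebraicCycle.map (pullback.fst fX fY) δXY δX ζ₂) := by
  let VX : K304.NPV K := { X := X, f := fX, δ := δX, hδ := hδX, N := NX, ι := ιX, w := hιX }
  let VY : K304.NPV K := { X := Y, f := fY, δ := δY, hδ := hδY, N := NY, ι := ιY, w := hιY }
  let VZ : K304.NPV K := { X := Z, f := fZ, δ := δZ, hδ := hδZ, N := NZ, ι := ιZ, w := hιZ }
  let VXY : K304.NPV K := { X := pullback fX fY, f := pullback.fst fX fY ≫ fX, δ := δXY,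
                            hδ := hδXY, N := NXY, ι := ιXY, w := hιXY }
  let VYZ : K304.NPV K := { X := pullback fY fZ, f := pullback.fst fY fZ ≫ fY, δ := δYZ,
                            hδ := hδYZ, N := NYZ, ι := ιYZ, w := hιYZ }
  let VXZ : K304.NPV K := { X := pullback fX fZ, f := pullback.fst fX fZ ≫ fX, δ := δXZ,
                            hδ := hδXZ, N := NXZ, ι := ιXZ, w := hιXZ }
  have hnX : VX.n = dX := hdX
  have hnY : VY.n = dY := hdY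
  have hnZ : VZ.n = dZ := hdZ
  have hnXY : VXY.n = (dX : ℤ) + (dY : ℤ) := hdXY
  have hnYZ : VYZ.n = (dY : ℤ) + (dZ : ℤ) := hdYZ
  have hnXZ : VXZ.n = (dX : ℤ) + (dZ : ℤ) := hdXZ
  let g1 : VX.X ⟶ VXY.X := pullback.lift (𝟙 X) f (Eq.trans (Category.id_comp fX) hf.symm)
  let p1 : VXY.X ⟶ VX.X := pullback.fst fX fY
  let q1 : VXY.X ⟶ VY.X := pullback.snd fX fY
  let g2 : VY.X ⟶ VYZ.X := pullback.lift (𝟙 Y) g (Eq.trans (Category.id_comp fY) hg.symm)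
  let p2 : VYZ.X ⟶ VY.X := pullback.fst fY fZ
  let q2 : VYZ.X ⟶ VZ.X := pullback.snd fY fZ
  let g3 : VX.X ⟶ VXZ.X := pullback.lift (𝟙 X) (f ≫ g) (Eq.trans (Category.id_comp fX)
    (Eq.symm (Eq.trans (Category.assoc f g fZ) (Eq.trans (congrArg (CategoryStruct.comp f) hg) hf))))
  let p3 : VXZ.X ⟶ VX.X := pullback.fst fX fZ
  let q3 : VXZ.X ⟶ VZ.X := pullback.snd fX fZ
  have hg1 : g1 ≫ p1 = 𝟙 VX.X := pullback.lift_fst _ _ _
  have hg1' : g1 ≫ q1 = f := pullback.lift_snd _ _ _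
  have hg2 : g2 ≫ p2 = 𝟙 VY.X := pullback.lift_fst _ _ _
  have hg2' : g2 ≫ q2 = g := pullback.lift_snd _ _ _
  have hg3 : g3 ≫ p3 = 𝟙 VX.X := pullback.lift_fst _ _ _
  have hg3' : g3 ≫ q3 = f ≫ g := pullback.lift_snd _ _ _
  have hp1 : p1 ≫ VX.f = VXY.f := rfl
  have hp2 : p2 ≫ VY.f = VYZ.f := rfl
  have hp3 : p3 ≫ VX.f = VXZ.f := rfl
  have hq1 : q1 ≫ VY.f = VXY.f := pullback.condition.symm
  have hq2 : q2 ≫ VZ.f = VYZ.f := pullback.condition.symm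
  have hq3 : q3 ≫ VZ.f = VXZ.f := pullback.condition.symm
  have hgf1 : g1 ≫ VXY.f = VX.f := by rw [← hp1, ← Category.assoc, hg1, Category.id_comp]
  have hgf2 : g2 ≫ VYZ.f = VY.f := by rw [← hp2, ← Category.assoc, hg2, Category.id_comp]
  have hgf3 : g3 ≫ VXZ.f = VX.f := by rw [← hp3, ← Category.assoc, hg3, Category.id_comp]
  have hc1 : IsClosedImmersion g1 := by
    have : IsClosedImmersion (g1 ≫ p1) := by rw [hg1]; infer_instance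
    have : IsSeparated p1 := inferInstanceAs (IsSeparated (pullback.fst fX fY))
    exact IsClosedImmersion.of_comp g1 p1
  have hc2 : IsClosedImmersion g2 := by
    have : IsClosedImmersion (g2 ≫ p2) := by rw [hg2]; infer_instance
    have : IsSeparated p2 := inferInstanceAs (IsSeparated (pullback.fst fY fZ))
    exact IsClosedImmersion.of_comp g2 p2
  have hc3 : IsClosedImmersion g3 := by
    have : IsClosedImmersion (g3 ≫ p3) := by rw [hg3]; infer_instance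
    have : IsSeparated p3 := inferInstanceAs (IsSeparated (pullback.fst fX fZ))
    exact IsClosedImmersion.of_comp g3 p3
  have hfq1 : Flat q1 := inferInstanceAs (Flat (pullback.snd fX fY))
  have hfq2 : Flat q2 := inferInstanceAs (Flat (pullback.snd fY fZ))
  have hfq3 : Flat q3 := inferInstanceAs (Flat (pullback.snd fX fZ))
  have hαZ : ⇑α ∈ VZ.Z k := K304.NPV.cycle_mem_Z hα
  -- the graph pullbacks of the statement
  have k1 : VY.Eqv ((dY : ℤ) + (k + dY) - ((dY : ℤ) + dZ)) ⇑β (K304.NPV.gp g2 p2 q2 ⇑α) := by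
    rw [hβ]
    exact K304.NPV.map_eqv_gp g2 hgf2 p2 hp2 q2 hq2 hnY hnZ hnYZ hmulYZ hαZ hγYZk hγYZ hαYZk hαYZ
      hζ₁k hζ₁
  have hgp2 : K304.NPV.gp g2 p2 q2 ⇑α ∈ VY.Z ((dY : ℤ) + (k + dY) - ((dY : ℤ) + dZ)) := by
    have := K304.NPV.gp_mem_Z g2 hgf2 p2 q2 hq2 hαZ
    rw [hnY, hnYZ, hnZ] at this
    exact K304.NPV.mem_Z_cast this (by ring)
  have hβZ : ⇑β ∈ VY.Z ((dY : ℤ) + (k + dY) - ((dY : ℤ) + dZ)) := k1.mem_Z hgp2
  have k2 := K304.NPV.map_eqv_gp g1 hgf1 p1 hp1 q1 hq1 hnX hnY hnXY hmulXY hβZ hγXYk hγXY hβXYk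
    hβXY hζ₂k hζ₂
  have k3 := K304.NPV.map_eqv_gp g3 hgf3 p3 hp3 q3 hq3 hnX hnZ hnXZ hmulXZ hαZ hγXZk hγXZ hαXZk
    hαXZ hζ₃k hζ₃
  have k4 := K304.NPV.gp_congr g1 hgf1 p1 hp1 q1 hq1 k1 hgp2
  rw [hnX, hnXY, hnY] at k4
  have k5 := K304.NPV.gp_comp p1 hp1 q1 hq1 (IsPullback.of_hasPullback fX fY) p2 hp2 q2 hq2
    (IsPullback.of_hasPullback fY fZ) p3 hp3 q3 hq3 (IsPullback.of_hasPullback fX fZ) f g
    g1 hg1 hg1' g2 hg2 hg2' g3 hg3 hg3' hαZ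
  rw [hnX, hnZ] at k5
  refine K304.NPV.ratEquiv_iff (V := VX).2 ((k3.cast (by ring)).trans
    ((k5.cast (by ring)).trans ((k4.symm.cast (by ring)).trans (k2.symm.cast (by ring)))))

end Groth.Agent.S19906
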