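import Groth.Prelude.Def_Pi1
import Groth.Prelude.Def_ModelsG
import Groth.Agent.Models.K381.FinGen
import Groth.Agent.Models.K382.BranchGeo

set_option autoImplicit false
universe u
open CategoryTheory CategoryTheory.Limits AlgebraicGeometry
open Models

namespace Groth.Agent.S19910

/-- Let R be a complete discrete valuation ring with algebraically closed residue field, W and Z
integral normal schemes which are flat, of finite type and of dimension 2 over Spec R, and ψ : W ->
Z a finite surjective R-morphism. Let z be a closed point of Z in the special fibre, w a point of W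
with ψ(w) = z, Δ an irreducible component of the special fibre of Z containing z, and E the union of
the irreducible components of the special fibre of W which contain w and whose image under ψ is Δ.
For a curve C over the residue field and a closed point c, write m(C, c) for the number of points
over c in the normalization of the reduction of C, that is, the number of branches of C at c. Then
m(E, w) ≥ m(Δ, z). Here Δ and E are given arbitrary closed-subscheme structures D and E' (the
numbers of branches depend only on the underlying reduced schemes). (The published statement asks W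
and Z only to be normal; they are taken integral as well here.) -/
theorem result
    (R : Type u) [CommRing R] [IsDomain R] [IsDiscreteValuationRing R]
    [IsAdicComplete (IsLocalRing.maximalIdeal R) R] (hk : IsAlgClosed (IsLocalRing.ResidueField R))
    (W Z : Over (Spec (CommRingCat.of R))) [IsIntegral W.left] [IsIntegral Z.left]
    (hWn : Pi1.IsNormalScheme W.left) (hZn : Pi1.IsNormalScheme Z.left)
    [Flat W.hom] [LocallyOfFiniteType W.hom] [QuasiCompact W.hom]
    [Flat Z.hom] [LocallyOfFiniteType Z.hom] [QuasiCompact Z.hom]
    (hdW : topologicalKrullDim W.left = 2) (hdZ : topologicalKrullDim Z.left = 2)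
    (ψ : W ⟶ Z) [IsFinite ψ.left] [Surjective ψ.left]
    (z : Z.left) (hzc : IsClosed ({z} : Set Z.left)) (hz : z ∈ Models.specialFibreSet R Z)
    (w : W.left) (hw : ψ.left.base w = z)
    (Δ : Set Z.left) (hΔ : Δ ∈ Models.fibreComponents R Z) (hzΔ : z ∈ Δ)
    (D : Scheme.{u}) (ιD : D ⟶ Z.left) [IsClosedImmersion ιD] (hD : Set.range ιD.base = Δ)
    (d : D) (hd : ιD.base d = z)
    (E' : Scheme.{u}) (ιE : E' ⟶ W.left) [IsClosedImmersion ιE]
    (hE : Set.range ιE.base = ⋃₀ {Γ | Γ ∈ Models.fibreComponents R W ∧ w ∈ Γ ∧ ψ.left.base '' Γ = Δ})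
    (e : E') (he : ιE.base e = w) :
    Brnch.numBranchesAt D d ≤ Brnch.numBranchesAt E' e := by
  have hdom : IsDominant ψ.left := ⟨ψ.left.surjective.denseRange⟩
  subst hw
  refine Groth.Agent.K382.BranchGeo.numBranchesAt_le ψ.left w (hZn _) ιD d hd ιE e he ?_ ?_
  · intro x hx
    have hx' : x ∈ Set.range ιE.base := hx
    rw [hE] at hx'
    obtain ⟨Γ, ⟨-, -, hΓ⟩, hxΓ⟩ := hx'
    have h1 : ψ.left x ∈ Δ := hΓ ▸ ⟨x, hxΓ, rfl⟩
    rw [← hD] at h1
    exact h1
  · intro x hxw hxD hmin
    have hxΔ : ψ.left x ∈ Δ := by rw [← hD]; exact hxD
    have hΔcl : IsClosed Δ := by rw [← hD]; exact ιD.isClosedEmbedding.isClosed_range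
    obtain ⟨ξ, hξ⟩ := QuasiSober.sober hΔ.1.1 hΔcl
    have hξx : ψ.left x = ξ := by
      have h1 : ξ ⤳ ψ.left x := hξ.specializes hxΔ
      refine (hmin ξ ?_ h1).symm
      have : ξ ∈ Δ := hξ.mem
      rw [← hD] at this
      exact this
    have hfx : ∀ t : W.left, t ∈ Models.specialFibreSet R W ↔ ψ.left t ∈ Models.specialFibreSet R Z := by
      intro t
      change W.hom t = _ ↔ Z.hom (ψ.left t) = _
      rw [← Scheme.Hom.comp_apply, Over.w ψ]
    have hxs : x ∈ Models.specialFibreSet R W := (hfx x).2 (hΔ.1.2 hxΔ)
    have hclx : closure {x} ⊆ Models.specialFibreSet R W :=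
      closure_minimal (Set.singleton_subset_iff.2 hxs) (Models.isClosed_specialFibreSet R W)
    have hmem : closure {x} ∈ {Γ | Γ ∈ Models.fibreComponents R W ∧ w ∈ Γ ∧ ψ.left.base '' Γ = Δ} := by
      refine ⟨⟨⟨isIrreducible_singleton.closure, hclx⟩, ?_⟩, ?_, ?_⟩
      · rintro T ⟨hT, hTs⟩ hxT
        obtain ⟨t, ht⟩ := QuasiSober.sober hT.closure isClosed_closure
        have htx : t ⤳ x := ht.specializes (subset_closure (hxT (subset_closure rfl)))
        have hts : t ∈ Models.specialFibreSet R W :=
          closure_minimal hTs (Models.isClosed_specialFibreSet R W) ht.mem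
        have h1 : Δ ⊆ closure {ψ.left t} := by
          rw [← hξ.def, ← hξx]
          exact (htx.map ψ.left.continuous).closure_subset
        have h2 := hΔ.2 (y := closure {ψ.left t}) ⟨isIrreducible_singleton.closure,
          closure_minimal (Set.singleton_subset_iff.2 ((hfx t).1 hts))
            (Models.isClosed_specialFibreSet R Z)⟩ h1
        have h3 : ψ.left t ∈ Δ := h2 (subset_closure rfl)
        have h4 : ψ.left t = ψ.left x := by
          have h5 : ξ ⤳ ψ.left t := hξ.specializes h3
          have h6 : ψ.left t ⤳ ξ := by
            rw [← hξx]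
            exact htx.map ψ.left.continuous
          rw [hξx]
          exact (h6.antisymm h5).eq
        have h5 : t = x := K381.FinGen.eq_of_specializes ψ.left htx h4
        rw [← h5, ht.def]
        exact subset_closure
      · exact hxw.mem_closure
      · have h1 : ψ.left.base '' closure {x} = closure (ψ.left.base '' {x}) :=
          (ψ.left.isClosedMap.closure_image_eq_of_continuous ψ.left.continuous _).symm
        rw [h1, Set.image_singleton]
        change closure {ψ.left x} = Δ
        rw [hξx]
        exact hξ.def
    have h1 : x ∈ Set.range ιE.base := by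
      rw [hE]
      exact ⟨_, hmem, subset_closure rfl⟩
    exact h1

end Groth.Agent.S19910
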