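import Groth.Statements.S19912
import Groth.Agent.CalgA.RegBasic
import Mathlib.AlgebraicGeometry.Stalk

set_option autoImplicit false
universe u
open CategoryTheory CategoryTheory.Limits AlgebraicGeometry
open Models

namespace Groth.Agent.S19912

section

variable {R : Type u} [CommRing R] [IsDomain R] [IsDiscreteValuationRing R]
  {X : Over (Spec (CommRingCat.of R))}
  {V : Type u} [CommRing V] [IsDomain V] [IsDiscreteValuationRing V] [Algebra R V]
  (σ : Spec (CommRingCat.of V) ⟶ X.left)

/-- The ring map `O_{X,x} → V` of a `V`-valued point. -/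
noncomputable def psi : X.left.presheaf.stalk (σ (IsLocalRing.closedPoint V)) →+* V :=
  (Scheme.stalkClosedPointTo σ).hom

instance : IsLocalHom (psi σ) := inferInstanceAs (IsLocalHom (Scheme.stalkClosedPointTo σ).hom)

lemma psi_germ (U : X.left.Opens) (hU : σ (IsLocalRing.closedPoint V) ∈ U) (a : Γ(X.left, U)) :
    psi σ ((X.left.presheaf.germ U _ hU).hom a) =
      (((Spec (CommRingCat.of V)).presheaf.mapIso
        (eqToIso (Scheme.preimage_eq_top_of_closedPoint_mem σ hU).symm).op ≪≫
        Scheme.ΓSpecIso (CommRingCat.of V)).hom).hom ((σ.app U).hom a) := by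
  have h := Scheme.germ_stalkClosedPointTo σ U hU
  exact congr(($h).hom a)

lemma psi_comp_stalkHom (hσ : σ ≫ X.hom = Spec.map (CommRingCat.ofHom (algebraMap R V))) :
    (psi σ).comp (Models.stalkHom R X (σ (IsLocalRing.closedPoint V))) = algebraMap R V := by
  ext r
  change psi σ ((X.left.presheaf.germ ⊤ _ trivial).hom (Coh.toGlobal X.hom r)) = _
  rw [psi_germ σ ⊤ trivial]
  have h2 : X.hom.appTop ≫ σ.appTop = (Spec.map (CommRingCat.ofHom (algebraMap R V))).appTop := by
    rw [← Scheme.Hom.comp_appTop, hσ]
  have h3 : (σ.app ⊤).hom (Coh.toGlobal X.hom r) =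
      ((Spec.map (CommRingCat.ofHom (algebraMap R V))).appTop).hom
        ((Scheme.ΓSpecIso (CommRingCat.of R)).inv.hom r) := by
    exact congr(($h2).hom ((Scheme.ΓSpecIso (CommRingCat.of R)).inv.hom r))
  rw [h3]
  have h5 : (Scheme.ΓSpecIso (CommRingCat.of R)).inv ≫
      (Spec.map (CommRingCat.ofHom (algebraMap R V))).appTop =
      CommRingCat.ofHom (algebraMap R V) ≫ (Scheme.ΓSpecIso (CommRingCat.of V)).inv := by
    rw [Scheme.ΓSpecIso_inv_naturality]
  have h6 : ((Spec.map (CommRingCat.ofHom (algebraMap R V))).appTop).hom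
        ((Scheme.ΓSpecIso (CommRingCat.of R)).inv.hom r) =
      (Scheme.ΓSpecIso (CommRingCat.of V)).inv.hom (algebraMap R V r) := congr(($h5).hom r)
  rw [h6]
  have h4 : (Scheme.ΓSpecIso (CommRingCat.of V)).inv ≫ ((Spec (CommRingCat.of V)).presheaf.mapIso
        (eqToIso (Scheme.preimage_eq_top_of_closedPoint_mem σ
          (U := ⊤) trivial).symm).op ≪≫
        Scheme.ΓSpecIso (CommRingCat.of V)).hom = 𝟙 _ := by
    simp
  exact congr(($h4).hom (algebraMap R V r))

lemma psi_maximalIdeal_le : (IsLocalRing.maximalIdeal (X.left.presheaf.stalk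
    (σ (IsLocalRing.closedPoint V)))).map (psi σ) ≤ IsLocalRing.maximalIdeal V := by
  rw [Ideal.map_le_iff_le_comap]
  intro a ha
  rw [Ideal.mem_comap, IsLocalRing.mem_maximalIdeal, mem_nonunits_iff]
  intro hu
  exact ha (isUnit_of_map_unit (psi σ) _ hu)

end

/-- Let R be a discrete valuation ring with fraction field K and YR a scheme over Spec R. Let V be a
discrete valuation ring which is an R-algebra in such a way that the maximal ideal of R generates
the maximal ideal of V (ramification index one), and let σ : Spec V -> YR be a morphism over Spec R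
sending the closed point of Spec V to y. If the local ring of YR at y is regular, then the local
ring at y of the special fibre of YR, namely O_{YR,y}/𝔪_R O_{YR,y}, is regular. (The published
statement takes YR a normal projective flat model of a smooth projective geometrically connected
curve Y over K and phrases the hypothesis through a point Q of Y rational over an extension L of K
unramified over K with y in the closure of Q: by the valuative criterion such a point yields a
morphism as above from the spectrum of the localization of the integral closure of R in L at a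
maximal ideal over y, which is the form used here.) -/
theorem result
    (R : Type u) [CommRing R] [IsDomain R] [IsDiscreteValuationRing R]
    (YR : Over (Spec (CommRingCat.of R)))
    (V : Type u) [CommRing V] [IsDomain V] [IsDiscreteValuationRing V] [Algebra R V]
    (hV : Ideal.map (algebraMap R V) (IsLocalRing.maximalIdeal R) = IsLocalRing.maximalIdeal V)
    (σ : Spec (CommRingCat.of V) ⟶ YR.left)
    (hσ : σ ≫ YR.hom = Spec.map (CommRingCat.ofHom (algebraMap R V)))
    (y : YR.left) (hy : σ.base (IsLocalRing.closedPoint V) = y)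
    (hreg : IsRegularLocalRing (YR.left.presheaf.stalk y)) :
    IsRegularLocalRing (YR.left.presheaf.stalk y ⧸
      Ideal.map (Models.stalkHom R YR y) (IsLocalRing.maximalIdeal R)) := by
  subst hy
  obtain ⟨ϖ, hϖ⟩ := IsDiscreteValuationRing.exists_irreducible R
  have hgen : IsLocalRing.maximalIdeal V = Ideal.span {algebraMap R V ϖ} := by
    rw [← hV, hϖ.maximalIdeal_eq, Ideal.map_span, Set.image_singleton]
  have hϖV : Irreducible (algebraMap R V ϖ) :=
    (IsDiscreteValuationRing.irreducible_iff_uniformizer _).2 hgen
  have hmap : Ideal.map (Models.stalkHom R YR (σ (IsLocalRing.closedPoint V)))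
      (IsLocalRing.maximalIdeal R) =
      Ideal.span {Models.stalkHom R YR (σ (IsLocalRing.closedPoint V)) ϖ} := by
    rw [hϖ.maximalIdeal_eq, Ideal.map_span, Set.image_singleton]
  have hpsi : psi σ (Models.stalkHom R YR (σ (IsLocalRing.closedPoint V)) ϖ) = algebraMap R V ϖ :=
    congr($(psi_comp_stalkHom σ hσ) ϖ)
  have h1 : Models.stalkHom R YR (σ (IsLocalRing.closedPoint V)) ϖ ∈
      IsLocalRing.maximalIdeal (YR.left.presheaf.stalk (σ (IsLocalRing.closedPoint V))) := by
    rw [IsLocalRing.mem_maximalIdeal, mem_nonunits_iff]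
    intro hu
    have h3 := hu.map (psi σ)
    rw [hpsi] at h3
    exact hϖV.not_isUnit h3
  have h2 : Models.stalkHom R YR (σ (IsLocalRing.closedPoint V)) ϖ ∉
      IsLocalRing.maximalIdeal (YR.left.presheaf.stalk (σ (IsLocalRing.closedPoint V))) ^ 2 := by
    intro h
    have h3 : psi σ (Models.stalkHom R YR (σ (IsLocalRing.closedPoint V)) ϖ) ∈
        IsLocalRing.maximalIdeal V ^ 2 := by
      refine Ideal.pow_right_mono (psi_maximalIdeal_le σ) 2 ?_
      rw [← Ideal.map_pow]
      exact Ideal.mem_map_of_mem _ h
    rw [hpsi, hgen, Ideal.span_singleton_pow, Ideal.mem_span_singleton] at h3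
    obtain ⟨c, hc⟩ := h3
    have h4 : algebraMap R V ϖ * 1 = algebraMap R V ϖ * (algebraMap R V ϖ * c) := by
      rw [mul_one, ← mul_assoc, ← pow_two, ← hc]
    have h5 := mul_left_cancel₀ hϖV.ne_zero h4
    exact hϖV.not_isUnit (IsUnit.of_mul_eq_one _ h5.symm)
  change IsRegularLocalRing (YR.left.presheaf.stalk (σ (IsLocalRing.closedPoint V)) ⧸
      Ideal.map (Models.stalkHom R YR (σ (IsLocalRing.closedPoint V))) (IsLocalRing.maximalIdeal R))
  rw [hmap]
  exact (CalgA.RegBasic.quotient_of_notMem_sq _ h1 h2).1

end Groth.Agent.S19912
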