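import Groth.Statements.S19915
import Groth.Agent.AdjLin.K415.GGVan
import Groth.Agent.Vanish.K909.KodAkn
import Groth.Agent.Sga67.TensorOps

set_option autoImplicit false
universe u
open CategoryTheory CategoryTheory.Limits AlgebraicGeometry
open AdjLin

namespace Groth.Agent.S19915

/-- Let k be an algebraically closed field of characteristic zero and X a smooth projective variety over
k of dimension n (irreducible, proper, smooth, with an ample invertible module), ω an n-th exterior
power of Ω_{X/k} (the canonical module) and L an ample invertible O_X-module. Then the adjoint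
module L ⊗ ω, that is O_X(K_X + L), is globally generated (a quotient of a free O_X-module) if and
only if H^1(X, L ⊗ ω ⊗ I_x) = 0 for every closed point x of X, where I_x is the ideal sheaf of the
reduced closed subscheme {x}. -/
theorem result (k : Type u) [Field k] [IsAlgClosed k] [CharZero k]
    (X : Scheme.{u}) [X.Over (Spec (CommRingCat.of k))] [IsProper (X ↘ (Spec (CommRingCat.of k)))]
    [Smooth (X ↘ (Spec (CommRingCat.of k)))] [IrreducibleSpace X] (n : ℕ) (hdim : topologicalKrullDim X = n)
    (H : X.Modules) (hH : CohB1.IsAmple H)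
    (ω : X.Modules) (hω : ExtPow.IsExtPow n (Omega.sheaf (X ↘ (Spec (CommRingCat.of k)))) ω)
    (L : X.Modules) (hL : CohB1.IsAmple L) :
    Curv2.IsGloballyGenerated (CohB1.tensorMod L ω) ↔
      ∀ (x : X) (hx : IsClosed ({x} : Set X)),
        Subsingleton (Coh.HH X (CohB1.tensorMod (CohB1.tensorMod L ω)
          (ClSub.idealMod (Scheme.IdealSheafData.vanishingIdeal ⟨({x} : Set X), hx⟩))) 1) := by
  obtain ⟨W, hWi, hW, hvan⟩ := K909.KodDual.exists_dual k X n hdim
    (fun Y _ _ _ _ m hm A B hA hB b hb => K909.KodAkn.kod k Y m hm A B hA hB b hb)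
  obtain ⟨e⟩ := Sga67.TensorOps.nonempty_iso_of_isExtPow (Iso.refl _) hW hω
  have hE : PicF.IsInvertible (CohB1.tensorMod L ω) :=
    Fdesc.LocGen.isInvertible_tensorMod hL.1 (PerfB.LimMod.isInvertible_of_iso e hWi)
  refine K415.GGVan.gg_iff k hE ?_
  exact K882.Coho.van_iso ⟨Ega2.Tens.swap _ _ ≪≫ Ega2.Tens.mapTIso (Iso.refl _) e⟩ 1 (hvan L hL 1 le_rfl)

end Groth.Agent.S19915
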