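import Groth.Statements.S19916
import Groth.Agent.Variety.K432.AsmBig
import Groth.Agent.Variety.K348.DualNef
import Groth.Agent.ProjBd.K285.NefTens
-- import your own Groth.Agent.* helpers here

set_option autoImplicit false
universe u
open CategoryTheory CategoryTheory.Limits AlgebraicGeometry TopologicalSpace
open Variety

namespace Groth.Agent.S19916

/-- Let X be a projective variety over a field k (an integral scheme, proper over k, carrying an ample
invertible module A₀) of dimension d, L an invertible O_X-module and F a finite locally free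
O_X-module, with projective bundle π : P = P(F) = Proj(Sym F) -> X (given by any relative-Proj data
of the graded symmetric algebra of F) and twisting module O_P(a) for an integer a ≥ 1. Assume (i) L
is nef: for every regular projective curve C over k (integral, proper over k, of dimension one, all
local rings regular) and every k-morphism f : C -> X, deg f^*L = χ(f^*L) - χ(O_C) ≥ 0; (ii) the dual
of F is nef, stated in the equivalent dual form: for every such f : C -> X and every invertible
O_C-module N with a monomorphism N -> f^*F, deg N ≤ 0; (iii) for some ample invertible O_X-module A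
with tensor inverse A', H^0(P, O_P(a) ⊗ π^*L ⊗ π^*A') ≠ 0. Then L is big: there is a real c > 0 with
dim_k H^0(X, L^{⊗n}) > c·n^d for all sufficiently large n. (The source phrases nefness of L and of
the dual of F through its own definitions, the latter via the projective bundle of the dual; here
both are stated in the equivalent curve-test form, the equivalence on proper schemes over a field
being the Barton–Kleiman criterion.) -/
theorem result (k : Type u) [Field k]
    (X : Scheme.{u}) [X.Over (Spec (CommRingCat.of k))] [IsProper (X ↘ (Spec (CommRingCat.of k)))] [IsIntegral X]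
    (A₀ : X.Modules) (hA₀ : CohB1.IsAmple A₀)
    (d : ℕ) (hdim : topologicalKrullDim X = d)
    (L : X.Modules) (hL : PicF.IsInvertible L)
    (hLnef : ∀ (C : Scheme.{u}) [C.Over (Spec (CommRingCat.of k))] [IsProper (C ↘ (Spec (CommRingCat.of k)))] [IsIntegral C],
      topologicalKrullDim C = 1 → (∀ x : C, IsRegularLocalRing (C.presheaf.stalk x)) →
      ∀ (f : C ⟶ X), f ≫ (X ↘ (Spec (CommRingCat.of k))) = C ↘ (Spec (CommRingCat.of k)) →
      0 ≤ Curv2.deg k C ((Scheme.Modules.pullback f).obj L) 1)
    (F : X.Modules) (hF : FlatMod.IsFinLocFree F)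
    (hFnef : ∀ (C : Scheme.{u}) [C.Over (Spec (CommRingCat.of k))] [IsProper (C ↘ (Spec (CommRingCat.of k)))] [IsIntegral C],
      topologicalKrullDim C = 1 → (∀ x : C, IsRegularLocalRing (C.presheaf.stalk x)) →
      ∀ (f : C ⟶ X), f ≫ (X ↘ (Spec (CommRingCat.of k))) = C ↘ (Spec (CommRingCat.of k)) →
      ∀ (N : C.Modules), PicF.IsInvertible N →
      ∀ (i : N ⟶ (Scheme.Modules.pullback f).obj F), Mono i → Curv2.deg k C N 1 ≤ 0)
    (𝒮 : RelProj.QCGrAlg X) (j : F ⟶ 𝒮.toModule) (P : Scheme.{u}) (p : P ⟶ X)
    (chart : ∀ (U : X.Opens) (hU : IsAffineOpen U),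
      (((p ⁻¹ᵁ U : P.Opens) : Scheme.{u}) ≅ Proj (𝒮.deg U hU)))
    (hS : RelProj.IsGrSymAlg F 𝒮 j) (hp : RelProj.IsRelProj 𝒮 p chart)
    (a : ℕ) (ha : 1 ≤ a) (Oa : P.Modules)
    (lam : ∀ (U : X.Opens) (hU : IsAffineOpen U),
      Oa ⟶ (Scheme.Modules.pushforward (RelProj.emb p chart U hU)).obj (GrTwist.twist (𝒮.deg U hU) (a : ℤ)))
    (hOa : RelProj.IsRelTwist 𝒮 p chart (a : ℤ) Oa lam)
    (A A' : X.Modules) (hA : CohB1.IsAmple A) (hA' : ClSub.IsInverseOf A' A)
    (hsec : Nontrivial (Coh.HH P (CohB1.tensorMod (CohB1.tensorMod Oa ((Scheme.Modules.pullback p).obj L))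
      ((Scheme.Modules.pullback p).obj A')) 0)) :
    ∃ c : ℝ, 0 < c ∧ ∀ᶠ n : ℕ in Filter.atTop,
      c * (n : ℝ) ^ d < (Module.finrank k (Coh.HH X (CohB1.tensorPow L n) 0) : ℝ) := by
  exact K432.AsmBig.core k hdim hL hF hA hA' hS hp hOa hsec
    (fun E E' h1 h2 h3 h4 => K285.NefTens.cnef_tensor h1 h2 h3 h4)
    (fun r hr => K348.DualNef.exists_dual k X F hr hFnef)

end Groth.Agent.S19916
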