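import Groth.Agent.Models.K382.KerPic
import Groth.Agent.Models.H43.MultPos

set_option autoImplicit false
universe u
open CategoryTheory CategoryTheory.Limits AlgebraicGeometry
open Models

namespace Groth.Agent.S19918

open Groth.Agent.Grpsch.PicGrp Groth.Agent.Models.H65.PicDeg

/-- Kernel of Pic(X)[n] → Pic(C)[n]: let R be a discrete valuation ring with fraction field K, C a
smooth proper curve over K with H^0(C, O_C) = K, X a regular proper model of C with generic-fibre
inclusion g : C → X, Γ_1, …, Γ_n the irreducible components of the closed fibre with multiplicities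
m_1, …, m_n, d = gcd(m_1, …, m_n), and L_i invertible O_X-modules with L_i ⊗ I(Γ_i) ≅ O_X (that is,
L_i = O_X(Γ_i)). Let h ≥ 1 and put e = gcd(h, d). If M is an invertible O_X-module with M^{⊗h} ≅ O_X
whose pullback to C is trivial, then there is exactly one natural number k < e with M ≅ L_1^{k
m_1/e} ⊗ ⋯ ⊗ L_n^{k m_n/e} = O_X(k·(1/e)·X_s). In other words the kernel of Pic(X)[h] → Pic(C)[h] is
cyclic of order gcd(h, d), generated by the class of O_X((1/e)·X_s). -/
theorem result (R : Type u) [CommRing R] [IsDomain R] [IsDiscreteValuationRing R]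
    (C X : Scheme.{u}) (f : C ⟶ Spec (CommRingCat.of (FractionRing R))) (p : X ⟶ Spec (CommRingCat.of R))
    (hC : Curve.IsSmoothProperCurve (FractionRing R) C f) (hH0 : IsIso f.appTop)
    (hX : Models.IsRegularProperModel R X p C f)
    {n : ℕ} (Γ : Fin n → ArSurf.VertComp R (Over.mk p)) (hΓ : Models.IsComponentList R (Over.mk p) Γ)
    (g : C ⟶ X) (hg : IsPullback g f p (Spec.map (CommRingCat.ofHom (algebraMap R (FractionRing R)))))
    (L : Fin n → X.Modules) (hL : ∀ i, ClSub.IsInverseOf (L i) (ClSub.idealMod (Γ i).ι.ker))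
    (h : ℕ) (hh : 0 < h)
    (M : X.Modules) (hM : PicF.IsInvertible M)
    (htors : Nonempty (CohB1.tensorPow M h ≅ Coh.structureModule X))
    (htriv : Nonempty ((Scheme.Modules.pullback g).obj M ≅ Coh.structureModule C)) :
    ∃! k : ℕ, k < Nat.gcd h (Models.multGcd R (Over.mk p) Γ) ∧
      Nonempty (M ≅ FGA.multiTwist L (fun i => k * (Models.mult R (Over.mk p) (Γ i) / Nat.gcd h (Models.multGcd R (Over.mk p) Γ)))) := by
  have hLi : ∀ i, PicF.IsInvertible (L i) := fun i =>
    (Groth.Agent.Dix.IdealModCartier.isInvertible_of_isInverseOf (hL i)).1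
  have : IsProper p := hX.2.1
  have hn : 0 < n := Groth.Agent.Models.H71.Comps.pos hC hH0 hX hΓ
  have hm : ∀ i, 0 < Models.mult R (Over.mk p) (Γ i) := by
    have : LocallyOfFiniteType (Over.mk p).hom := inferInstanceAs (LocallyOfFiniteType p)
    exact fun i => Groth.Agent.Models.H43.MultPos.mult_pos_of_isComponentList Γ hΓ i
  have H := Groth.Agent.K382.KerPic.prod_zpow_eq_one_iff hC hH0 hX hΓ hL hLi
  have h1 : pull g (mk M hM) = 1 := by
    rw [pull_mk, mk_eq_one_iff]; exact htriv
  obtain ⟨c, hc⟩ := Groth.Agent.K382.KerPic.exists_prod_zpow hC hH0 hX hΓ hL hLi hg (mk M hM) h1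
  have h2 : (∏ i, mk (L i) (hLi i) ^ c i) ^ h = 1 := by
    rw [← hc, ← mk_tensorPow, mk_eq_one_iff]; exact htors
  have h3 := Groth.Agent.K382.KerPic.existsUnique_exponent _ _ hn hm H h hh c h2
  rw [← hc] at h3
  refine (existsUnique_congr fun k => and_congr_right fun _ => ?_).mp h3
  rw [← mk_eq_iff hM (isInvertible_multiTwist hLi _), mk_multiTwist hLi]
  rfl

end Groth.Agent.S19918
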