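import Groth.Statements.S19921
import Groth.Agent.Resolve.K84.Final
import Groth.Agent.Resolve.K284.NodeB
-- import your own Groth.Agent.* helpers here

set_option autoImplicit false
universe u
open CategoryTheory AlgebraicGeometry
open Resolve

namespace Groth.Agent.S19921

/-- Let K be a field of characteristic zero and X an integral scheme, separated and of finite type over
K. Then the alteration assumption A(Spec K, ℤ, ≤ n) holds for X (for every n): there are an integral
scheme X₁ all of whose local rings are regular and a projective morphism φ : X₁ ⟶ X which is an
alteration (proper, dominant, finite over a nonempty open of X) of degree one, that is, an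
isomorphism over some nonempty open of X. -/
theorem result {K : Type u} [Field K] [CharZero K]
    {X : Scheme.{u}} (p : X ⟶ Spec (CommRingCat.of K))
    [IsIntegral X] [IsSeparated p] [LocallyOfFiniteType p] [QuasiCompact p] :
    ∃ (X₁ : Scheme.{u}) (φ : X₁ ⟶ X), IsIntegral X₁ ∧
      (∀ x : X₁, IsRegularLocalRing (X₁.presheaf.stalk x)) ∧ RelProj.IsProjective φ ∧
      Curv2.IsAlteration φ ∧ ∃ V : X.Opens, (V : Set X).Nonempty ∧ IsIso (φ ∣_ V) :=
  K631.ResE3.main (K84.Final.W K (K284.NodeB.nodeB K)) p

end Groth.Agent.S19921
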