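import Groth.Statements.S19922
import Groth.Agent.EqInt.K957.DiagMain
-- import your own Groth.Agent.* helpers here

set_option autoImplicit false
universe u
open CategoryTheory MonoidalCategory CartesianMonoidalCategory MonObj GrpObj AlgebraicGeometry Topology
open EqInt

namespace Groth.Agent.S19922

/-- Over an algebraically closed field k, let G be a connected linear algebraic group (an affine,
smooth, connected k-group scheme of finite type) acting on a scheme U (quasi-separated, of finite
type) with a principal bundle quotient π : U → B (π is G-invariant, flat and surjective, B is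
quasi-separated of finite type, and (σ, p₂) : G × U → U ×_B U is an isomorphism). Let Y be a normal
variety over k (integral, normal, separated, of finite type) with an action of G, and let j : X → Y
be a G-equivariant closed immersion, X a quasi-separated k-scheme of finite type with a G-action.
Then the diagonal action of G on X × U admits a principal bundle quotient X × U → Q in the category
of schemes over k: a G-invariant, flat, surjective ρ with (σ, p₂) : G × (X × U) → (X × U) ×_Q (X ×
U) an isomorphism. (The published statement is over an arbitrary field, and its normal variety may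
be a non-separated integral algebraic space; this row takes k algebraically closed and Y a separated
normal integral scheme.) -/
theorem result (k : Type u) [Field k] [IsAlgClosed k]
    (G X Y U B : Over (Spec (CommRingCat.of k))) [GrpObj G] [IsAffine G.left] [LocallyOfFiniteType G.hom]
    [Smooth G.hom] [ConnectedSpace ↥G.left]
    [LocallyOfFiniteType X.hom] [QuasiCompact X.hom] [QuasiSeparated X.hom]
    [IsIntegral Y.left] [IsSeparated Y.hom] [LocallyOfFiniteType Y.hom] [QuasiCompact Y.hom]
    (hY : Pi1.IsNormalScheme Y.left)
    [LocallyOfFiniteType U.hom] [QuasiCompact U.hom] [QuasiSeparated U.hom]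
    [LocallyOfFiniteType B.hom] [QuasiCompact B.hom] [QuasiSeparated B.hom]
    (aX : AlgGrp.Action G X) (aY : AlgGrp.Action G Y) (j : X ⟶ Y) [IsClosedImmersion j.left]
    (hj : AlgGrp.Action.IsEquivariant aX aY j)
    (b : AlgGrp.Action G U) (π : U ⟶ B) (hinv : GIT.IsInvariant b π)
    [Flat π.left] [Surjective π.left] (hcart : IsIso (GIT.PsiY b π hinv)) :
    ∃ (Q : Over (Spec (CommRingCat.of k))) (ρ : X ⊗ U ⟶ Q) (hρ : GIT.IsInvariant (aX.prod b) ρ),
      Flat ρ.left ∧ Surjective ρ.left ∧ IsIso (GIT.PsiY (aX.prod b) ρ hρ) := by
  have := K957.Bundle.quasiCompact_left π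
  have H := K957.Pts.isPullback_of_isIso b hinv hcart
  obtain ⟨Q, ρ, hρ, -, h2, h3, h4⟩ := K957.DiagMain.hasBundle_prod aX b H
  exact ⟨Q, ρ, hρ, h2, h3, h4⟩

end Groth.Agent.S19922
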