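import Groth.Statements.S19923
import Groth.Agent.AbVar.K530.PicZero

set_option autoImplicit false
universe u
open CategoryTheory CategoryTheory.Limits MonoidalCategory CartesianMonoidalCategory MonObj GrpObj AlgebraicGeometry
open AbVar

namespace Groth.Agent.S19923

open Groth.Agent.Fdesc.LocGen Groth.Agent.Grpsch.PicGrp Groth.Agent.Fga.RigGrp

variable {K : Type u} [Field K]

local notation "SK" => Spec (CommRingCat.of K)

/-- The class `m^* c ⊗ p₁^* c⁻¹ ⊗ p₂^* c⁻¹` on `A × A`. -/
noncomputable def mum (A : Over SK) [GrpObj A] (c : Pic A.left) : Pic (PicF.XT A.hom A) :=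
  pull (μ[A]).left c * (pull (fst A A).left c)⁻¹ * (pull (snd A A).left c)⁻¹

theorem pull_eq {X Y : Scheme.{u}} {f g : X ⟶ Y} (h : f = g) (c : Pic Y) : pull f c = pull g c := by rw [h]

theorem secT_eq (A : Over SK) [GrpObj A] :
    PicF.secT A.hom η[A].left (Over.w η[A]) A = (lift (toUnit A ≫ η[A]) (𝟙 A)).left := by
  apply pullback.hom_ext
  · rw [secT_fst]
    have h1 : (lift (toUnit A ≫ η[A]) (𝟙 A) ≫ fst A A).left = (toUnit A ≫ η[A]).left := by rw [lift_fst]
    exact h1.symm
  · refine (secT_XTproj A.hom η[A].left (Over.w η[A]) A).trans ?_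
    have h1 : (lift (toUnit A ≫ η[A]) (𝟙 A) ≫ snd A A).left = (𝟙 A : A ⟶ A).left := by rw [lift_snd]
    exact h1.symm

theorem mum_rig (A : Over SK) [GrpObj A] (c : Pic A.left) :
    mum A c ∈ Rg A.hom η[A].left (Over.w η[A]) A := by
  rw [mem_Rg, mum, secT_eq, map_mul, map_mul, map_inv, map_inv, ← pull_comp]
  erw [← pull_comp, ← pull_comp]
  have e1 : (lift (toUnit A ≫ η[A]) (𝟙 A)).left ≫ (μ[A]).left = 𝟙 A.left := by
    have h1 : lift (toUnit A ≫ η[A]) (𝟙 A) ≫ μ[A] = 𝟙 A := by simp
    have := congrArg CommaMorphism.left h1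
    exact this
  have e2 : (lift (toUnit A ≫ η[A]) (𝟙 A)).left ≫ (fst A A).left = (toUnit A).left ≫ (η[A]).left := by
    have h1 : lift (toUnit A ≫ η[A]) (𝟙 A) ≫ fst A A = toUnit A ≫ η[A] := by simp
    have := congrArg CommaMorphism.left h1
    exact this
  have e3 : (lift (toUnit A ≫ η[A]) (𝟙 A)).left ≫ (snd A A).left = 𝟙 A.left := by
    have h1 : lift (toUnit A ≫ η[A]) (𝟙 A) ≫ snd A A = 𝟙 A := by simp
    have := congrArg CommaMorphism.left h1
    exact this
  rw [pull_eq e1, pull_eq e2, pull_eq e3, pull_comp]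
  have e4 : pull (η[A]).left c = 1 := pic_spec_local K _
  rw [e4, map_one, inv_one, _root_.mul_one, mul_inv_cancel]

/-- An inverse of an invertible module is isomorphic to the dual. -/
theorem mk_inv {X : Scheme.{u}} {L M : X.Modules} (hL : PicF.IsInvertible L)
    (h : Nonempty (CohB1.tensorMod L M ≅ Coh.structureModule X)) :
    ∃ hM : PicF.IsInvertible M, mk M hM = (mk L hL)⁻¹ := by
  obtain ⟨e⟩ := h
  have e1 : CohB1.tensorMod L (dual L) ≅ Coh.structureModule X := @asIso _ _ _ _ (ev L) (isIso_ev hL)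
  have e2 : M ≅ dual L := (Ega2.Tens.lunit M).symm ≪≫
    Ega2.Tens.mapTIso (e1.symm ≪≫ Ega2.Tens.swap _ _) (Iso.refl _) ≪≫ Ega2.Tens.assoc _ _ _ ≪≫
      Ega2.Tens.mapTIso (Iso.refl _) e ≪≫ Ega2.Tens.runit _
  have hM : PicF.IsInvertible M :=
    Pic13.H138.AlgEquiv.isInvertible_of_iso e2.symm (isInvertible_dual hL)
  exact ⟨hM, mk_congr e2⟩

/-- `m^* c ⊗ p₁^* c⁻¹ ⊗ p₂^* c⁻¹` is invariant under the swap. -/
theorem mum_swap (A : Over SK) [GrpObj A] [IsCommMonObj A] (c : Pic A.left) :
    pull (pullbackSymmetry A.hom A.hom).hom (mum A c) = mum A c := by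
  have e1 : (pullbackSymmetry A.hom A.hom).hom ≫ (fst A A).left = (snd A A).left :=
    pullbackSymmetry_hom_comp_fst _ _
  have e2 : (pullbackSymmetry A.hom A.hom).hom ≫ (snd A A).left = (fst A A).left :=
    pullbackSymmetry_hom_comp_snd _ _
  have e0 : (pullbackSymmetry A.hom A.hom).hom = (lift (snd A A) (fst A A)).left := by
    apply pullback.hom_ext
    · refine e1.trans ?_
      have h1 : (lift (snd A A) (fst A A) ≫ fst A A).left = (snd A A).left := by rw [lift_fst]
      exact h1.symm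
    · refine e2.trans ?_
      have h1 : (lift (snd A A) (fst A A) ≫ snd A A).left = (fst A A).left := by rw [lift_snd]
      exact h1.symm
  have e3 : (pullbackSymmetry A.hom A.hom).hom ≫ (μ[A]).left = (μ[A]).left := by
    have h1 : lift (snd A A) (fst A A) ≫ μ[A] = μ[A] := IsCommMonObj.mul_comm A
    rw [e0]
    exact congrArg CommaMorphism.left h1
  rw [mum, map_mul, map_mul, map_inv, map_inv]
  erw [← pull_comp, ← pull_comp, ← pull_comp]
  rw [pull_eq e1, pull_eq e2, pull_eq e3, _root_.mul_assoc, _root_.mul_assoc, mul_comm (pull _ c)⁻¹]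

/-- Let A be an abelian variety over a field k (a proper, geometrically integral commutative k-group
scheme; k arbitrary), given with a dual (Â, φ_A) and a dual (Â̂, φ_Â) of Â — each represents the
fppf-sheafified functor of invertible classes algebraically equivalent to zero on geometric fibres,
with φ multiplicative — and with a Poincaré class ξ on A ×_k Â whose transpose ξ' on Â ×_k A lies in
Pic⁰ on the fibres over A; put ι_A = φ_Â(ξ') : A → Â̂ (the double-duality morphism). Let L be an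
invertible O_A-module with an inverse L⁻¹, and let Λ be a module on A ×_k A isomorphic to m^*L ⊗
p₁^*L⁻¹ ⊗ p₂^*L⁻¹ (m the group law, p₁, p₂ the projections) whose class lies in Pic⁰ on the fibres
over the second factor, so that φ_L := φ_A(Λ) : A → Â is the homomorphism a ↦ t_a^*L ⊗ L⁻¹. If φ̂_L
: Â̂ → Â is a transpose of φ_L (φ_A of the pull-back of a Pic⁰ class c along (φ_L)_T equals φ_Â(c)
followed by φ̂_L), then φ_L = ι_A followed by φ̂_L: the homomorphism φ_L is symmetric. -/
theorem result (K : Type u) [Field K]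
    (A At Att : Over (Spec (CommRingCat.of K)))
    [GrpObj A] [IsCommMonObj A] [IsProper A.hom] [GeometricallyIntegral A.hom]
    [GrpObj At] [IsCommMonObj At] [IsProper At.hom] [GeometricallyIntegral At.hom]
    [GrpObj Att] [IsCommMonObj Att] [IsProper Att.hom] [GeometricallyIntegral Att.hom]
    (φA : ∀ T : Over (Spec (CommRingCat.of K)), PicF.Cl (PicF.XT A.hom T) → (T ⟶ At))
    (hAt : AbDual.IsDualAV Scheme.fppfPrecoverage A At φA)
    (φAt : ∀ T : Over (Spec (CommRingCat.of K)), PicF.Cl (PicF.XT At.hom T) → (T ⟶ Att))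
    (hAtt : AbDual.IsDualAV Scheme.fppfPrecoverage At Att φAt)
    (ξ : PicF.Cl (PicF.XT A.hom At)) (hξ : AbDual.IsPoincareCl A At φA ξ)
    (hξ' : AbDual.IsPicZeroCl At.hom A (PicF.pullCl (pullbackSymmetry At.hom A.hom).hom ξ))
    (L Linv : A.left.Modules) (hL : PicF.IsInvertible L)
    (hLinv : Nonempty (CohB1.tensorMod L Linv ≅ Coh.structureModule A.left))
    (Λ : (PicF.XT A.hom A).Modules)
    (hΛ : Nonempty (Λ ≅ CohB1.tensorMod (CohB1.tensorMod ((Scheme.Modules.pullback (μ[A]).left).obj L)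
      ((Scheme.Modules.pullback (fst A A).left).obj Linv)) ((Scheme.Modules.pullback (snd A A).left).obj Linv)))
    (hΛ0 : AbDual.IsPicZeroCl A.hom A (PicF.cl Λ))
    (tl : Att ⟶ At) [IsMonHom tl]
    (htl : AbDual.IsTranspose (φA A (PicF.cl Λ)) φA φAt tl) :
    φA A (PicF.cl Λ) = φAt A (PicF.pullCl (pullbackSymmetry At.hom A.hom).hom ξ) ≫ tl := by
  obtain ⟨x, rfl⟩ := K530.PicZero.exists_toCl_of_isPicZeroCl A.hom hξ.1
  obtain ⟨hLi, hLi'⟩ := mk_inv hL hLinv
  obtain ⟨eΛ⟩ := hΛ
  have hΛcl : PicF.cl Λ = toCl (mum A (mk L hL)) := by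
    have h1 : mum A (mk L hL) = mk _ (isInvertible_tensorMod (isInvertible_tensorMod
        (isInvertible_pullback (μ[A]).left hL) (isInvertible_pullback (fst A A).left hLi))
        (isInvertible_pullback (snd A A).left hLi)) := by
      rw [mum, ← map_inv, ← map_inv, ← hLi']
      rfl
    rw [h1, toCl_mk, cl_eq_iff]
    exact ⟨eΛ⟩
  rw [hΛcl] at hΛ0 htl ⊢
  set c := mum A (mk L hL) with hc
  have hnat : φA A (PicF.pullCl (PicF.XTmap A.hom (φA A (toCl c))) (toCl x)) = φA A (toCl c) := by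
    rw [hAt.relPic.natural At A _ _ hξ.1, hξ.2.1, Category.comp_id]
  have hxr : x ∈ Rg A.hom η[A].left (Over.w η[A]) At := by
    rw [mem_Rg, ← isTrivialCl_toCl_iff, toCl_pull]
    exact hξ.2.2
  have key : pull (PicF.XTmap A.hom (φA A (toCl c))) x = c := by
    refine K530.PicZero.eq_of_phi_eq A.hom (K530.RigInj.bij_of_isProper A.hom) η[A].left (Over.w η[A])
      hAt.relPic A _ _ (pull_mem _ hxr) (mum_rig A _) ?_ hΛ0 ?_
    · rw [toCl_pull]
      exact K530.PicZero.isPicZeroCl_pullCl A.hom _ hξ.1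
    · rw [toCl_pull, hnat]
  have h2 := htl A _ hξ'
  rw [← h2, ← toCl_pull, ← toCl_pull]
  congr 2
  rw [← pull_comp]
  have h3 : AbDual.bcMap (φA A (toCl c)) A ≫ (pullbackSymmetry At.hom A.hom).hom =
      (pullbackSymmetry A.hom A.hom).hom ≫ PicF.XTmap A.hom (φA A (toCl c)) := by
    apply pullback.hom_ext
    · rw [Category.assoc, Category.assoc, pullbackSymmetry_hom_comp_fst, XTmap_fst]
      erw [pullbackSymmetry_hom_comp_fst]
      exact (pullback.lift_snd _ _ _).trans (Category.comp_id _)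
    · rw [Category.assoc, Category.assoc, pullbackSymmetry_hom_comp_snd]
      refine (pullback.lift_fst _ _ _).trans ?_
      have h4 := XTmap_XTproj A.hom (φA A (toCl c))
      refine Eq.trans ?_ (congrArg (fun z => (pullbackSymmetry A.hom A.hom).hom ≫ z) h4.symm)
      change _ = (pullbackSymmetry A.hom A.hom).hom ≫ pullback.snd A.hom A.hom ≫ _
      rw [pullbackSymmetry_hom_comp_snd_assoc]
  rw [pull_eq h3, pull_comp, key]
  exact (mum_swap A _).symm

end Groth.Agent.S19923
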