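import Groth.Agent.Models.K382.KerPic
import Groth.Agent.Models.H43.MultPos

set_option autoImplicit false
universe u
open CategoryTheory CategoryTheory.Limits AlgebraicGeometry
open Models

namespace Groth.Agent.S19924

open Groth.Agent.Grpsch.PicGrp Groth.Agent.Models.H65.PicDeg Groth.Agent.Fdesc.LocGen

/-- Let R be a discrete valuation ring with fraction field K, C a smooth proper curve over K with H^0(C,
O_C) = K, X a regular proper model of C with generic-fibre inclusion g : C → X, Γ_1, …, Γ_n the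
irreducible components of the closed fibre with multiplicities m_1, …, m_n, and L_i invertible
O_X-modules with L_i ⊗ I(Γ_i) ≅ O_X. Let h ≥ 1, let N be an invertible O_C-module with N^{⊗h} ≅ O_C,
let M be an invertible O_X-module whose pullback to C is N, and let a, b be exponent vectors with
M^{⊗h} ⊗ L_1^{a_1} ⊗ ⋯ ⊗ L_n^{a_n} ≅ L_1^{b_1} ⊗ ⋯ ⊗ L_n^{b_n}, i.e. M^{⊗h} ≅ O_X(Σ (b_i − a_i)
Γ_i). Then N is the pullback of some invertible O_X-module M' with M'^{⊗h} ≅ O_X if and only if
there are integers c_1, …, c_n and e with b_i − a_i = h c_i + e m_i for all i: the class of Σ (b_i −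
a_i) Γ_i modulo h ℤ^n + ℤ·(m_1, …, m_n) is the obstruction to lifting the h-torsion class N to an
h-torsion class on X. -/
theorem result (R : Type u) [CommRing R] [IsDomain R] [IsDiscreteValuationRing R]
    (C X : Scheme.{u}) (f : C ⟶ Spec (CommRingCat.of (FractionRing R))) (p : X ⟶ Spec (CommRingCat.of R))
    (hC : Curve.IsSmoothProperCurve (FractionRing R) C f) (hH0 : IsIso f.appTop)
    (hX : Models.IsRegularProperModel R X p C f)
    {n : ℕ} (Γ : Fin n → ArSurf.VertComp R (Over.mk p)) (hΓ : Models.IsComponentList R (Over.mk p) Γ)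
    (g : C ⟶ X) (hg : IsPullback g f p (Spec.map (CommRingCat.ofHom (algebraMap R (FractionRing R)))))
    (L : Fin n → X.Modules) (hL : ∀ i, ClSub.IsInverseOf (L i) (ClSub.idealMod (Γ i).ι.ker))
    (h : ℕ) (hh : 0 < h)
    (N : C.Modules) (hN : PicF.IsInvertible N) (hNt : Nonempty (CohB1.tensorPow N h ≅ Coh.structureModule C))
    (M : X.Modules) (hM : PicF.IsInvertible M) (hMN : Nonempty ((Scheme.Modules.pullback g).obj M ≅ N))
    (a b : Fin n → ℕ)
    (hab : Nonempty (CohB1.tensorMod (CohB1.tensorPow M h) (FGA.multiTwist L a) ≅ FGA.multiTwist L b)) :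
    (∃ M' : X.Modules, PicF.IsInvertible M' ∧ Nonempty (CohB1.tensorPow M' h ≅ Coh.structureModule X) ∧
        Nonempty ((Scheme.Modules.pullback g).obj M' ≅ N)) ↔
      ∃ (c : Fin n → ℤ) (e : ℤ), ∀ i, ((b i : ℤ) - (a i : ℤ)) = (h : ℤ) * c i + e * (Models.mult R (Over.mk p) (Γ i) : ℤ) := by
  have hLi : ∀ i, PicF.IsInvertible (L i) := fun i =>
    (Groth.Agent.Dix.IdealModCartier.isInvertible_of_isInverseOf (hL i)).1
  have H := Groth.Agent.K382.KerPic.prod_zpow_eq_one_iff hC hH0 hX hΓ hL hLi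
  have hMN' : pull g (mk M hM) = mk N hN := by
    rw [pull_mk]; exact mk_congr hMN.some
  have hab' : mk M hM ^ h = ∏ i, mk (L i) (hLi i) ^ ((b i : ℤ) - (a i : ℤ)) := by
    rw [← mk_eq_iff (isInvertible_tensorMod (isInvertible_tensorPow hM h)
        (isInvertible_multiTwist hLi a)) (isInvertible_multiTwist hLi b),
      ← mk_mul_mk (isInvertible_tensorPow hM h) (isInvertible_multiTwist hLi a),
      mk_multiTwist hLi, mk_multiTwist hLi, mk_tensorPow hM, ← eq_mul_inv_iff_mul_eq] at hab
    rw [hab, ← Finset.prod_inv_distrib, ← Finset.prod_mul_distrib]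
    refine Finset.prod_congr rfl fun i _ => ?_
    rw [zpow_sub, zpow_natCast, zpow_natCast]
  constructor
  · rintro ⟨M', hM', hM't, hM'N⟩
    have h1 : mk M' hM' ^ h = 1 := by
      rw [← mk_tensorPow, mk_eq_one_iff]; exact hM't
    have h2 : pull g (mk M' hM') = mk N hN := by
      rw [pull_mk]; exact mk_congr hM'N.some
    have h3 : pull g (mk M hM * (mk M' hM')⁻¹) = 1 := by
      rw [map_mul, map_inv, hMN', h2, mul_inv_cancel]
    obtain ⟨c, hc⟩ := Groth.Agent.K382.KerPic.exists_prod_zpow hC hH0 hX hΓ hL hLi hg _ h3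
    have h4 : ∏ i, mk (L i) (hLi i) ^ ((b i : ℤ) - (a i : ℤ) - h * c i) = 1 := by
      have h5 : (mk M hM * (mk M' hM')⁻¹) ^ h = mk M hM ^ h := by
        rw [mul_pow, inv_pow, h1, inv_one, mul_one]
      rw [hc, hab', ← Finset.prod_pow] at h5
      rw [← mul_inv_eq_one, ← Finset.prod_inv_distrib, ← Finset.prod_mul_distrib] at h5
      rw [← inv_eq_one, ← Finset.prod_inv_distrib, ← h5]
      refine Finset.prod_congr rfl fun i _ => ?_
      rw [← zpow_neg, ← zpow_neg, ← zpow_natCast, ← zpow_mul, ← zpow_add]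
      congr 1
      ring
    obtain ⟨t, ht⟩ := (H _).mp h4
    exact ⟨c, t, fun i => by rw [← ht i]; ring⟩
  · rintro ⟨c, e, hce⟩
    obtain ⟨M', hM', hx⟩ := exists_mk (mk M hM * ∏ i, mk (L i) (hLi i) ^ (- c i))
    refine ⟨M', hM', ?_, ?_⟩
    · rw [← mk_eq_one_iff (isInvertible_tensorPow hM' h), mk_tensorPow hM', ← hx, mul_pow, hab',
        ← Finset.prod_pow, ← Finset.prod_mul_distrib]
      have h5 : ∀ i, mk (L i) (hLi i) ^ ((b i : ℤ) - (a i : ℤ)) * (mk (L i) (hLi i) ^ (- c i)) ^ h =
          mk (L i) (hLi i) ^ (e * (Models.mult R (Over.mk p) (Γ i) : ℤ)) := by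
        intro i
        rw [← zpow_natCast, ← zpow_mul, ← zpow_add, hce]
        congr 1
        ring
      rw [Finset.prod_congr rfl fun i _ => h5 i, H]
      exact ⟨e, fun i => rfl⟩
    · rw [← mk_eq_iff (isInvertible_pullback g hM') hN, ← hMN', ← pull_mk g hM', ← hx, map_mul,
        Groth.Agent.K382.KerPic.pull_prod_zpow hL hLi hg, mul_one]

end Groth.Agent.S19924
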