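import Groth.Statements.S19925
import Groth.Agent.S17915
import Groth.Agent.S17916
import Groth.Agent.S17920
import Groth.Agent.RefCh.K476.Consumer
import Groth.Agent.RefCh.K939.Op2
import Groth.Agent.Dix.ProjProper

set_option autoImplicit false
attribute [-instance] CategoryTheory.catToReflQuiver
universe u
open CategoryTheory CategoryTheory.Limits AlgebraicGeometry
open RefCh

namespace Groth.Agent.S19925

/-- Let k be an algebraically closed field of characteristic p > 0, X an integral normal scheme of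
dimension s + 2 admitting a closed immersion into some P^N_k over k, and L_1, …, L_s very ample
invertible O_X-modules (each L_i ≅ ι_i^* O(1) for a closed immersion ι_i of X into a projective
space over k) with inverses M_1, …, M_s. Let (E_m)_{m ≥ 0} be coherent reflexive O_X-modules whose
stalks at the generic point have dimension r, with E_m ≅ (F_X^* E_{m+1})^** for every m (F_X the
absolute Frobenius) — the shape of the reflexive extensions j_* of an F-divided sheaf on a big open
subset of the regular locus. Let W_m be an r-th exterior power of E_m, so that det E_m := W_m^** =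
O_X(c_1(E_m)), assumed coherent reflexive of rank one, and let D be a coherent reflexive rank-one
module. For a rank-one reflexive ℱ write q(ℱ) for the limit of 2 χ(c_1(L_1) ⋯ c_1(L_s) · [ℱ^[j]]) /
j² (reflexive powers; the alternating sums in the M_i), assumed to exist for det E_m, D and the
reflexive hull det E_m ⊗̂ D. Then (q(det E_m ⊗̂ D) − q(det E_m) − q(D)) / 2 = 0, that is c_1(E_m) ·
D · L_1 ⋯ L_s = 0 for every Weil divisor D: the class of c_1(E_m) is numerically trivial. (The
published statement is for a single ample H and phrased in N_H(X); with very ample L_1, …, L_s the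
printed argument applies verbatim, and dimension one is not covered here.) -/
theorem result (k : Type u) [Field k] [IsAlgClosed k] (X : Scheme.{u}) [X.Over (Spec (CommRingCat.of k))]
    [AlgebraicGeometry.IsIntegral X] (hnorm : Pi1.IsNormalScheme X) (s : ℕ) (hdim : topologicalKrullDim X = (s + 2 : ℕ))
    (hproj : ∃ (N : ℕ) (ι : X ⟶ CohB1.ProjSpace N k), IsClosedImmersion ι ∧ ι ≫ CohB1.ProjSpace.toSpec N k = X ↘ Spec (CommRingCat.of k))
    (p : ℕ) [Fact p.Prime] [CharP k p] [FrobSch.IsCharP X p]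
    (L M : Fin s → X.Modules)
    (hLva : ∀ i, ∃ (N : ℕ) (ι : X ⟶ CohB1.ProjSpace N k), IsClosedImmersion ι ∧
      ι ≫ CohB1.ProjSpace.toSpec N k = X ↘ Spec (CommRingCat.of k) ∧
      Nonempty (L i ≅ (Scheme.Modules.pullback ι).obj (Twist.twistProjSpace N k 1)))
    (hLM : ∀ i, Nonempty (CohB1.tensorMod (L i) (M i) ≅ Coh.structureModule X))
    (r : ℕ) (E : ℕ → X.Modules) (hE : ∀ m, Coh.IsCoh (E m)) (hEr : ∀ m, RefHull.IsReflexive (E m))
    (hrk : ∀ m, Module.finrank (X.presheaf.stalk (genericPoint X)) ((E m).presheaf.stalk (genericPoint X)) = r)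
    (hF : ∀ m, Nonempty (E m ≅ RefHull.ddual ((Scheme.Modules.pullback (FrobSch.frob X p)).obj (E (m + 1)))))
    (W : ℕ → X.Modules) (hW : ∀ m, ExtPow.IsExtPow r (E m) (W m)) (hdet : ∀ m, RefHull.IsRef1 (RefHull.ddual (W m)))
    (D : X.Modules) (hD : RefHull.IsRef1 D) (m : ℕ) (q₁ q₂ q₁₂ : ℝ)
    (hq₁ : Filter.Tendsto (fun j : ℕ => (2 : ℝ) * (FGA.intNum k X (s + 2) M (RefPow.refPow (RefHull.ddual (W m)) j) : ℝ) / ((j : ℝ) ^ 2)) Filter.atTop (nhds q₁))
    (hq₂ : Filter.Tendsto (fun j : ℕ => (2 : ℝ) * (FGA.intNum k X (s + 2) M (RefPow.refPow D j) : ℝ) / ((j : ℝ) ^ 2)) Filter.atTop (nhds q₂))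
    (hq₁₂ : Filter.Tendsto (fun j : ℕ => (2 : ℝ) * (FGA.intNum k X (s + 2) M (RefPow.refPow (RefPow.refTensor (RefHull.ddual (W m)) D) j) : ℝ) / ((j : ℝ) ^ 2)) Filter.atTop (nhds q₁₂)) :
    (q₁₂ - q₁ - q₂) / 2 = 0 := by
  have hprop : IsProper (X ↘ Spec (CommRingCat.of k)) := by
    obtain ⟨N, ι, hι, hιk⟩ := hproj
    have hpr : IsProper (CohB1.ProjSpace.toSpec N k) := Groth.Agent.Dix.ProjProper.isProper_toSpec N k
    rw [← hιk]; infer_instance
  have : IsLocallyNoetherian X := LocallyOfFiniteType.isLocallyNoetherian (X ↘ Spec (CommRingCat.of k))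
  have : CompactSpace X := (quasiCompact_iff_compactSpace (X ↘ (Spec (CommRingCat.of k)))).mp inferInstance
  have : AlgebraicGeometry.IsNoetherian X := {}
  let _ := K938.RefCl.law hnorm
  have hL : ∀ i, PicF.IsInvertible (L i) := fun i => by
    obtain ⟨e⟩ := hLM i
    exact K939.Op2.isInvertible_of_tensor (Groth.Agent.Ega2.Tens.swap (M i) (L i) ≪≫ e)
  have hQ := K476.QForm.qf_of (X := X) (φ := FGA.intNum k X (s + 2) M)
    (fun F G h => Groth.Agent.Fga.PicMon.intNum_iso k X _ M h.some)
    (fun ℒ hℒ => by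
      obtain ⟨q, hq⟩ := S17915.result k X hnorm s hdim hproj L M hL hLM ℒ hℒ
      refine ⟨2 * q, (hq.const_mul 2).congr fun m => ?_⟩
      ring)
    (fun L₁ L₂ L₃ h₁ h₂ h₃ => S17916.result k X hnorm s hdim hproj L M hL hLM L₁ L₂ L₃ h₁ h₂ h₃)
  exact K476.Consumer.root p (fun F G h => Groth.Agent.Fga.PicMon.intNum_iso k X _ M h.some) hQ hnorm
    (S17920.result k X hnorm s hdim hproj L M hLva hLM) r E hE hEr hrk hF W hW hdet D hD m q₁ q₂ q₁₂ hq₁ hq₂ hq₁₂

end Groth.Agent.S19925
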