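import Groth.Statements.S19937
import Groth.Agent.StCoh.K933.HTwoCoh

set_option autoImplicit false
universe u
open CategoryTheory CategoryTheory.Limits AlgebraicGeometry
open StCoh

namespace Groth.Agent.S19937

/-- Take a strictly henselian local ring R (henselian with separably closed residue field), a finite
abelian group M and the diagonalizable R-group scheme D_R(M) = Spec R[M] with character group M, and
assume that M is cyclic or that the scheme Spec R[M] is connected. Then the second cohomology group
of the classifying stack B D_R(M) (classifying fppf torsors) with coefficients in the multiplicative
group vanishes; the cohomology is taken on the big etale site of the stack, which agrees with the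
lisse-etale cohomology of the source. (A finite locally diagonalizable group scheme over a strictly
henselian local ring is diagonalizable, so taking the group to be D_R(M), with M cyclic or D_R(M)
connected, is the printed hypothesis (a locally diagonalizable group that is cyclic or connected).) -/
theorem result (R : Type u) [CommRing R] [HenselianLocalRing R]
    [IsSepClosed (IsLocalRing.ResidueField R)] (M : Type) [AddCommGroup M] [Finite M]
    (hM : IsAddCyclic M ∨ ConnectedSpace ↥(Spec (CommRingCat.of (MonoidAlgebra R (Multiplicative M)))))
    [StCoh.BaseCont Scheme.etalePrecoverage (AlgSt.BG Scheme.fppfPrecoverage (Red.diag R M))] :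
    Subsingleton (StCoh.H Scheme.etalePrecoverage
      (StCoh.Gm Scheme.etalePrecoverage (AlgSt.BG Scheme.fppfPrecoverage (Red.diag R M))) 2) := by

  exact K933.HTwoCoh.hTwo R M hM

end Groth.Agent.S19937
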