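import Groth.Statements.S19938
import Groth.Agent.StCoh.K998.Killed

set_option autoImplicit false
universe u
open CategoryTheory CategoryTheory.Limits AlgebraicGeometry
open StCoh

namespace Groth.Agent.S19938

/-- Take a strictly henselian local ring R (henselian with separably closed residue field), let G = Spec
H be a finite flat finitely presented group scheme over R, given by a commutative Hopf algebra H
over R which is finite free as an R-module, of rank the order #G of G, let A be a finite R-algebra
and let G act on X = Spec A over R. Then for every i ≥ 1 the group H^i([X/G], G_m) is killed by #G;
here [X/G] is the quotient stack (fppf torsors with an equivariant map to X) and the cohomology is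
that of the multiplicative group on its big etale site, which agrees with the lisse-etale cohomology
of the source. (The printed assertion has G a connected diagonalizable group and X connected with a
fixed closed point, over a noetherian base; its norm argument uses only that X is a G-torsor over
the quotient with vanishing higher cohomology of the multiplicative group, and the source runs the
same argument for an arbitrary finite group scheme acting on an arbitrary finite scheme over a
strictly henselian local ring, which is the generality stated here.) -/
theorem result (R : Type u) [CommRing R] [HenselianLocalRing R]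
    [IsSepClosed (IsLocalRing.ResidueField R)] (H : Type u) [CommRing H] [HopfAlgebra R H] [Module.Finite R H]
    [Module.Free R H] (A : Type u) [CommRing A] [Algebra R A] [Module.Finite R A]
    (aX : AlgGrp.Action ((Spec (CommRingCat.of H)).asOver (Spec (CommRingCat.of R)))
      ((Spec (CommRingCat.of A)).asOver (Spec (CommRingCat.of R))))
    [StCoh.BaseCont Scheme.etalePrecoverage
      (AlgSt.QuotSt Scheme.fppfPrecoverage ((Spec (CommRingCat.of H)).asOver (Spec (CommRingCat.of R))) aX)]
    (i : ℕ) (hi : 1 ≤ i)
    (c : StCoh.H Scheme.etalePrecoverage (StCoh.Gm Scheme.etalePrecoverage
      (AlgSt.QuotSt Scheme.fppfPrecoverage ((Spec (CommRingCat.of H)).asOver (Spec (CommRingCat.of R))) aX)) i) :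
    Module.finrank R H • c = 0 := by
  have hG : K998.NormLC.HasRk ((Spec (CommRingCat.of H)).asOver (Spec (CommRingCat.of R))).hom (Module.finrank R H) :=
    K998.NormLC.hasRk_st R H
  have h0 : Module.FinitePresentation R H := Module.finitePresentation_of_projective R H
  have h1 : Algebra.FinitePresentation R H := inferInstance
  have h2 : IsFinite ((Spec (CommRingCat.of H)).asOver (Spec (CommRingCat.of R))).hom := K998.Hens.isFinite_st R H
  have h3 : Flat ((Spec (CommRingCat.of H)).asOver (Spec (CommRingCat.of R))).hom := K998.Hens.flat_st R H
  have h4 : LocallyOfFinitePresentation ((Spec (CommRingCat.of H)).asOver (Spec (CommRingCat.of R))).hom :=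
    K998.Hens.lfp_st R H
  have h5 : IsFinite ((Spec (CommRingCat.of A)).asOver (Spec (CommRingCat.of R))).hom := K998.Hens.isFinite_st R A
  exact K998.Killed.killed R _ hG aX i hi c

end Groth.Agent.S19938
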