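import Groth.Statements.S19939
import Groth.Agent.StCoh.K998.HOne

set_option autoImplicit false
universe u
open CategoryTheory CategoryTheory.Limits AlgebraicGeometry Opposite
open StCoh

namespace Groth.Agent.S19939

/-- Take a strictly henselian local ring R (henselian with separably closed residue field) and let G be
a commutative group scheme over Spec R which is finite, flat and of finite presentation. Then H¹(BG,
G_m) is isomorphic to the character group Hom(G, G_m) of homomorphisms of R-group schemes from G to
the multiplicative group; here BG is the classifying stack of fppf torsors, the cohomology is that
of the multiplicative group on its big etale site (which agrees with the lisse-etale cohomology of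
the source), and the character group is rendered as the group of sections over Spec R of the dual
sheaf Hom(G, G_m) on the big etale site of Spec R. (Existence of an isomorphism of abelian groups
only: the source's isomorphism is an edge map of a descent spectral sequence. The source allows any
finite flat finitely presented group scheme G; the commutative case is stated here so that the
character group is the prelude's dual sheaf.) -/
theorem result (R : Type u) [CommRing R] [HenselianLocalRing R]
    [IsSepClosed (IsLocalRing.ResidueField R)] (G : Over (Spec (CommRingCat.of R))) [GrpObj G] [IsCommMonObj G]
    [IsFinite G.hom] [Flat G.hom] [LocallyOfFinitePresentation G.hom]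
    [StCoh.BaseCont Scheme.etalePrecoverage (AlgSt.BG Scheme.fppfPrecoverage G)] :
    Nonempty (StCoh.H Scheme.etalePrecoverage (StCoh.Gm Scheme.etalePrecoverage (AlgSt.BG Scheme.fppfPrecoverage G)) 1 ≃+
      (CGrpSh2.dualSh Scheme.etalePrecoverage (CGrpSh.pts Scheme.etalePrecoverage G)).obj.obj
        (op (Over.mk (𝟙 (Spec (CommRingCat.of R)))))) :=
  K998.HOne.hOne R G

end Groth.Agent.S19939
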