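import Groth.Statements.S19940
import Groth.Agent.StCoh.K933.HTwoCoh

set_option autoImplicit false
universe u
open CategoryTheory CategoryTheory.Limits AlgebraicGeometry
open StCoh

namespace Groth.Agent.S19940

/-- Let S be a scheme, let M be a finite abelian group and let D_S(M) be the diagonalizable S-group
scheme with character group M. Assume that M is cyclic, or that for every point s of S the scheme
Spec κ(s)[M] is connected (that is, M is a p-group for p the characteristic of each residue field of
S, which for D_S(M) is the condition that its base change to the strict henselization at every
geometric point of S is connected). Let c : B D_S(M) → S be the structure map of the classifying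
stack of fppf torsors. Then R²c_* G_m = 0. Here R²c_* is formed on the big etale sites: the
statement says that the second higher direct image of the multiplicative group of the stack, a sheaf
on the big etale site of S, is zero, which means that for every S-scheme T every class in H²(B
D_T(M), G_m) dies etale-locally on T; this is the printed small-etale-site vanishing applied to
every S-scheme T, legitimate because both hypotheses on M are stable under base change and the
classifying stack and its coarse space S are compatible with arbitrary base change. (The source
allows a finite locally diagonalizable group, cyclic or relatively connected; the diagonalizable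
group D_S(M) is stated here.) -/
theorem result (S : Scheme.{u}) (M : Type) [AddCommGroup M]
    [Finite M]
    (hM : IsAddCyclic M ∨
      ∀ s : S, ConnectedSpace ↥(Spec (CommRingCat.of (MonoidAlgebra (S.residueField s) (Multiplicative M)))))
    [StCoh.BaseCont Scheme.etalePrecoverage (AlgSt.BG Scheme.fppfPrecoverage (Red.DS S M))]
    [StCoh.MorCont Scheme.etalePrecoverage (FibCat.toSelf (AlgSt.BG Scheme.fppfPrecoverage (Red.DS S M)))]
    [StCoh.MorCocont Scheme.etalePrecoverage (FibCat.toSelf (AlgSt.BG Scheme.fppfPrecoverage (Red.DS S M)))] :
    IsZero ((StCoh.Rpush Scheme.etalePrecoverage (FibCat.toSelf (AlgSt.BG Scheme.fppfPrecoverage (Red.DS S M))) 2).obj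
      (StCoh.Gm Scheme.etalePrecoverage (AlgSt.BG Scheme.fppfPrecoverage (Red.DS S M)))) := by

  exact K933.HTwoCoh.rTwo M hM Scheme.etalePrecoverage (K998.RPush.good_et _)

end Groth.Agent.S19940
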