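import Groth.Statements.S19941
import Groth.Agent.StCoh.K998.ROne

set_option autoImplicit false
universe u
open CategoryTheory CategoryTheory.Limits AlgebraicGeometry
open StCoh

namespace Groth.Agent.S19941

/-- Let S be a scheme and let G be a commutative S-group scheme which is finite, flat and of finite
presentation, and let c : BG → S be the structure map of the classifying stack of fppf torsors. Then
R¹c_* G_m ≅ Hom(G, G_m), the dual sheaf of characters of G. Here R¹c_* is formed on the big etale
sites, so the left side is a sheaf on the big etale site of S (as a category over itself) and the
right side is the prelude's dual sheaf of the sheaf of points of G, restricted to that site along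
the identity; the printed small-etale-site isomorphism applied to every S-scheme T gives this form,
the classifying stack, its coarse space S and the dual sheaf being compatible with arbitrary base
change. (Existence of an isomorphism of sheaves only: the source's map is induced by the edge maps
of Leray spectral sequences, sending an equivariant line bundle to the character through which G
acts. The source allows any finite flat finitely presented group scheme; the commutative case is
stated here so that the character sheaf is the prelude's dual sheaf.) -/
theorem result (S : Scheme.{u}) (G : Over S) [GrpObj G] [IsCommMonObj G]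
    [IsFinite G.hom] [Flat G.hom] [LocallyOfFinitePresentation G.hom]
    [StCoh.BaseCont Scheme.etalePrecoverage (AlgSt.BG Scheme.fppfPrecoverage G)]
    [StCoh.BaseCont Scheme.etalePrecoverage (FibCat.selfOver (Over S))]
    [StCoh.MorCont Scheme.etalePrecoverage (FibCat.toSelf (AlgSt.BG Scheme.fppfPrecoverage G))]
    [StCoh.MorCocont Scheme.etalePrecoverage (FibCat.toSelf (AlgSt.BG Scheme.fppfPrecoverage G))] :
    Nonempty (((StCoh.Rpush Scheme.etalePrecoverage (FibCat.toSelf (AlgSt.BG Scheme.fppfPrecoverage G)) 1).obj
      (StCoh.Gm Scheme.etalePrecoverage (AlgSt.BG Scheme.fppfPrecoverage G))) ≅
      (StCoh.ofBase Scheme.etalePrecoverage (FibCat.selfOver (Over S)) AddCommGrpCat.{u + 1}).obj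
        (CGrpSh2.dualSh Scheme.etalePrecoverage (CGrpSh.pts Scheme.etalePrecoverage G))) :=
  K998.ROne.rOne Scheme.etalePrecoverage G (K998.RPush.good_et _)

end Groth.Agent.S19941
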