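import Groth.Statements.S19942
import Groth.Agent.StCoh.K933.HTwoCoh
import Groth.Agent.StCoh.K933.Split

set_option autoImplicit false
universe u
open CategoryTheory CategoryTheory.Limits AlgebraicGeometry
open StCoh

namespace Groth.Agent.S19942

/-- Let S be a scheme, let M be a finite abelian group and let D_S(M) be the diagonalizable S-group
scheme with character group M. Assume that M is cyclic, or that for every point s of S the scheme
Spec κ(s)[M] is connected (M is a p-group for p the characteristic of each residue field of S). Then
H²(B D_S(M), G_m) is isomorphic to H²(S, G_m) ⊕ H¹(S, Hom(D_S(M), G_m)): the second cohomology of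
the classifying stack of fppf torsors with coefficients in the multiplicative group splits as the
second cohomology of the base plus the first cohomology of the character sheaf. All cohomology
groups are taken on big etale sites (for the stack this agrees with its lisse-etale cohomology; the
character sheaf is the prelude's dual sheaf of the sheaf of points, restricted along the identity to
S as a category over itself). (Existence of an isomorphism of abelian groups only: the source gives
a split short exact sequence whose maps are the pullback along the structure map and a Leray edge
map. The published statement assumes the group cyclic or connected; the argument goes through the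
vanishing of the second higher direct image, established for a cyclic or relatively connected group,
so the fibrewise connectedness hypothesis is assumed here, and the diagonalizable group D_S(M)
stands in for a locally diagonalizable one.) -/
theorem result (S : Scheme.{u}) (M : Type) [AddCommGroup M]
    [Finite M]
    (hM : IsAddCyclic M ∨
      ∀ s : S, ConnectedSpace ↥(Spec (CommRingCat.of (MonoidAlgebra (S.residueField s) (Multiplicative M)))))
    [StCoh.BaseCont Scheme.etalePrecoverage (AlgSt.BG Scheme.fppfPrecoverage (Red.DS S M))]
    [StCoh.BaseCont Scheme.etalePrecoverage (FibCat.selfOver (Over S))] :
    Nonempty (StCoh.H Scheme.etalePrecoverage (StCoh.Gm Scheme.etalePrecoverage (AlgSt.BG Scheme.fppfPrecoverage (Red.DS S M))) 2 ≃+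
      StCoh.H Scheme.etalePrecoverage (StCoh.Gm Scheme.etalePrecoverage (FibCat.selfOver (Over S))) 2 ×
        StCoh.H Scheme.etalePrecoverage ((StCoh.ofBase Scheme.etalePrecoverage (FibCat.selfOver (Over S)) AddCommGrpCat.{u + 1}).obj (CGrpSh2.dualSh Scheme.etalePrecoverage (CGrpSh.pts Scheme.etalePrecoverage (Red.DS S M)))) 1) := by

  exact K933.Split.split Scheme.etalePrecoverage (Red.DS S M) (K998.RPush.good_et _)
    (K933.HTwoCoh.rTwo M hM Scheme.etalePrecoverage (K998.RPush.good_et _))

end Groth.Agent.S19942
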