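import Groth.Statements.S19943
import Groth.Agent.StCoh.K998.BSec
import Groth.Agent.StCoh.K998.Diag

set_option autoImplicit false
universe u
open CategoryTheory CategoryTheory.Limits AlgebraicGeometry Opposite
open StCoh

namespace Groth.Agent.S19943

/-- Let S be a scheme, let M be a finite abelian group and let D_S(M) be the diagonalizable S-group
scheme with character group M. Then H¹(B D_S(M), G_m) is isomorphic to H¹(S, G_m) ⊕ Hom(D_S(M),
G_m)(S): the first cohomology of the classifying stack of fppf torsors with coefficients in the
multiplicative group (the Picard group of the classifying stack in the source) splits as that of the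
base plus the group of characters of D_S(M) over S. Cohomology is taken on big etale sites, and the
character group is the group of sections over S of the prelude's dual sheaf of the sheaf of points.
(Existence of an isomorphism of abelian groups only: the source gives a split short exact sequence
whose maps are the pullback along the structure map and a Leray edge map. The published statement
assumes the group cyclic or connected; the argument for this sequence does not use that hypothesis,
which is omitted here, and the diagonalizable group D_S(M) stands in for a locally diagonalizable
one.) -/
theorem result (S : Scheme.{u}) (M : Type) [AddCommGroup M]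
    [Finite M]
    [StCoh.BaseCont Scheme.etalePrecoverage (AlgSt.BG Scheme.fppfPrecoverage (Red.DS S M))]
    [StCoh.BaseCont Scheme.etalePrecoverage (FibCat.selfOver (Over S))] :
    Nonempty (StCoh.H Scheme.etalePrecoverage (StCoh.Gm Scheme.etalePrecoverage (AlgSt.BG Scheme.fppfPrecoverage (Red.DS S M))) 1 ≃+
      StCoh.H Scheme.etalePrecoverage (StCoh.Gm Scheme.etalePrecoverage (FibCat.selfOver (Over S))) 1 ×
        (CGrpSh2.dualSh Scheme.etalePrecoverage (CGrpSh.pts Scheme.etalePrecoverage (Red.DS S M))).obj.obj
          (op (Over.mk (𝟙 S)))) :=
  K998.BSec.hOneSplit (Red.DS S M)

end Groth.Agent.S19943
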