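import Groth.Statements.S19946
import Groth.Agent.ThetaGrp.K999.Pair

set_option autoImplicit false
universe u
open CategoryTheory MonoidalCategory CartesianMonoidalCategory MonObj GrpObj AlgebraicGeometry
open ThetaGrp

namespace Groth.Agent.S19946

/-- Let X be an abelian variety over a field k (a proper, geometrically integral, commutative k-group
scheme) and L an invertible O_X-module whose subscheme K(L) is all of X: the identity of X has the
universal property of K(L), i.e. for every k-scheme Z and every Z-valued point z of X the Mumford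
bundle m^*L ⊗ p_1^*L⁻¹ ⊗ p_2^*L⁻¹ restricted along X ×_k Z → X ×_k X is the inverse image of an
invertible module on Z (equivalently, the class of L lies in Pic⁰_{X/k}). Then the commutator
pairing e_L of the theta group is identically 1: for every k-scheme T, any two points (x₁, φ₁), (x₂,
φ₂) of G(L)(T) (x_i a T-valued point of X, φ_i : L_T ≅ t_{x_i}^*L_T) commute. -/
theorem result (k : Type u) [Field k]
    (A : Over (Spec (CommRingCat.of k))) [GrpObj A] [IsCommMonObj A] [IsProper A.hom] [GeometricallyIntegral A.hom]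
    (L : A.left.Modules) (hL : PicF.IsInvertible L)
    (hK : ThetaGrp.IsKL A L (𝟙 A))
    (T : Over (Spec (CommRingCat.of k))) (β₁ β₂ : ThetaGrp.thetaPts A L T) :
    β₁ * β₂ = β₂ * β₁ := by
  have hA := K999.AVPush.pushO A
  have hall : ∀ (W : Over (Spec (CommRingCat.of k))) (z : W ⟶ A), ThetaGrp.IsMumfordTriv A L z :=
    fun W z => (hK.univ W z).mpr ⟨z, Category.comp_id z⟩
  obtain ⟨v, hv⟩ := K999.Pair.exists_pairing hL (hall (A ⊗ A) (fst A A)) (hall (A ⊗ A) (snd A A))
  obtain ⟨v', hv'⟩ : ∃ v', K999.Sc.pu (snd A A) v' = v := by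
    obtain ⟨a, ha⟩ := (hA A).2 v.1
    obtain ⟨b, hb⟩ := (hA A).2 (v⁻¹).1
    have hab : a * b = 1 := by
      apply (hA A).1
      rw [map_mul, ha, hb, map_one, Units.mul_inv]
    exact ⟨⟨a, b, hab, by rw [_root_.mul_comm, hab]⟩, Units.ext ha⟩
  have h1 := hv T (lift (K999.Rel.pt β₁) (K999.Rel.pt β₂)) β₁ β₂ (lift_fst _ _).symm (lift_snd _ _).symm
  have h2 := hv T (lift 1 (K999.Rel.pt β₂)) 1 β₂ (by rw [lift_fst, K999.Rel.pt_one]) (lift_snd _ _).symm
  rw [← hv', K999.Sc.pu_comp, lift_snd] at h1 h2
  have h3 : K999.Sc.Com 1 β₂ 1 := by rw [K999.Sc.com_one_iff, _root_.mul_one, _root_.one_mul]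
  have h4 := K999.Sc.com_unique hL h2 h3
  rw [h4, K999.Sc.com_one_iff] at h1
  exact h1

end Groth.Agent.S19946
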