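import Groth.Statements.S19952
import Groth.Agent.ThetaGrp.K595.Level
import Groth.Agent.S5640
import Groth.Agent.Fdesc.LocGenPullback

set_option autoImplicit false
universe u
open CategoryTheory MonoidalCategory CartesianMonoidalCategory MonObj GrpObj AlgebraicGeometry
open ThetaGrp

namespace Groth.Agent.S19952

alias ThetaGrp.isoRep := Groth.Agent.S5640.result

/-- Let X be an abelian variety over a field k (a proper, geometrically integral, commutative k-group
scheme), L an invertible O_X-module, and G a k-group scheme with a point u ∈ G(L)(G) representing
the theta group of L (every point of G(L)(T) is the base change of u along a unique T → G,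
multiplicatively). Let j : H → G be a level subgroup — H a k-group scheme, j a homomorphism of group
schemes and an immersion, such that a point of H whose image lies over the identity translation is
trivial — and let i_H : H → X be the morphism it lies over: for every k-scheme T and T-valued point
h of H the base change of u along j(h) lies over the translation by i_H(h). Then there are an
abelian variety Y over k (proper, geometrically integral k-group scheme), a surjective homomorphism
f : X → Y whose kernel is i_H (i_H and f form a cartesian square with the unit section of Y), and an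
invertible O_Y-module M with f^*M ≅ L. (The source states a bijection between level subgroups and
isomorphism classes of such pairs (f, M); this row is the existence of a pair for a given level
subgroup.) -/
theorem result (k : Type u) [Field k]
    (A : Over (Spec (CommRingCat.of k))) [GrpObj A] [IsCommMonObj A] [IsProper A.hom] [GeometricallyIntegral A.hom]
    (L : A.left.Modules) (hL : PicF.IsInvertible L)
    (G : Over (Spec (CommRingCat.of k))) [GrpObj G] (u : ThetaGrp.thetaPts A L G)
    (hG : ThetaGrp.IsThetaGrpSch A L G u)
    (H : Over (Spec (CommRingCat.of k))) [GrpObj H] (j : H ⟶ G) (hj : ThetaGrp.IsLevelSubgrp u j)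
    (iH : H ⟶ A)
    (hover : ∀ (T : Over (Spec (CommRingCat.of k))) (h : T ⟶ H) (β : ThetaGrp.thetaPts A L T),
      ThetaGrp.IsBaseChange β (h ≫ j) u → ThetaGrp.IsOverPt β (h ≫ iH)) :
    ∃ (B : Over (Spec (CommRingCat.of k))) (_ : GrpObj B) (f : A ⟶ B),
      IsProper B.hom ∧ GeometricallyIntegral B.hom ∧ IsMonHom f ∧ Surjective f.left ∧
      AlgGrp.IsKernel iH f ∧
      ∃ M : B.left.Modules, PicF.IsInvertible M ∧ Nonempty ((Scheme.Modules.pullback f.left).obj M ≅ L) := by
  have h1 : IsPullback (fst A A).left (snd A A).left A.hom A.hom := IsPullback.of_hasPullback _ _
  have : IsProper (snd A A).left := MorphismProperty.of_isPullback h1 inferInstance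
  have : Flat (snd A A).left := MorphismProperty.of_isPullback h1 inferInstance
  have : LocallyOfFinitePresentation A.hom := inferInstance
  have : LocallyOfFinitePresentation (snd A A).left := MorphismProperty.of_isPullback h1 inferInstance
  obtain ⟨I, v, hI1, hI2, hI⟩ := ThetaGrp.isoRep (snd A A).left ((Scheme.Modules.pullback (fst A A).left).obj L)
    ((Scheme.Modules.pullback (μ[A] : A ⊗ A ⟶ A).left).obj L)
    (Groth.Agent.Fdesc.LocGen.isInvertible_pullback _ hL) (Groth.Agent.Fdesc.LocGen.isInvertible_pullback _ hL)
  obtain ⟨hG', uG', h⟩ := K595.ThetaRep.exists_rep I v hI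
  obtain ⟨e⟩ := K595.ThetaRep.nonempty_iso hG h
  have e' : G.left ≅ I.left := (Over.forget _).mapIso e
  have hq : QuasiCompact (I.hom ≫ A.hom) := inferInstance
  have hc' : CompactSpace I.left := (quasiCompact_iff_compactSpace (I.hom ≫ A.hom)).mp hq
  have hc : CompactSpace G.left := (Scheme.homeoOfIso e').symm.compactSpace
  have hw : e.hom.left ≫ (I.hom ≫ A.hom) = G.hom := Over.w e.hom
  have hl : LocallyOfFiniteType G.hom := by
    rw [← hw]
    infer_instance
  exact K595.Level.exists_quot A L hL G u hG H j hj iH hover

end Groth.Agent.S19952
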