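import Groth.Statements.S19953
import Groth.Agent.ThetaGrp.K999.Ker

set_option autoImplicit false
universe u
open CategoryTheory MonoidalCategory CartesianMonoidalCategory MonObj GrpObj AlgebraicGeometry
open ThetaGrp

namespace Groth.Agent.S19953

/-- Let f : X → Y be a surjective homomorphism of abelian varieties over a field k (proper,
geometrically integral, commutative k-group schemes), i : N → X its kernel (a homomorphism forming a
cartesian square with the unit section of Y), L an invertible O_X-module, M an invertible O_Y-module
with f^*M ≅ L, and G a k-group scheme with a point u ∈ G(L)(G) representing the theta group of L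
(every point of G(L)(T) is the base change of u along a unique T → G, multiplicatively). Then there
is a level subgroup of G(L) whose image in K(L) is Ker(f): a homomorphism of group schemes j : N → G
that is an immersion, such that a point of N whose image lies over the identity translation is
trivial, and that lies over i (for every k-scheme T and T-valued point n of N, the base change of u
along j(n) lies over the translation by i(n)). -/
theorem result (k : Type u) [Field k]
    (A : Over (Spec (CommRingCat.of k))) [GrpObj A] [IsCommMonObj A] [IsProper A.hom] [GeometricallyIntegral A.hom]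
    (B : Over (Spec (CommRingCat.of k))) [GrpObj B] [IsCommMonObj B] [IsProper B.hom] [GeometricallyIntegral B.hom]
    (f : A ⟶ B) [IsMonHom f] (hf : Surjective f.left)
    (N : Over (Spec (CommRingCat.of k))) [GrpObj N] (i : N ⟶ A) [IsMonHom i] (hN : AlgGrp.IsKernel i f)
    (L : A.left.Modules) (hL : PicF.IsInvertible L)
    (M : B.left.Modules) (hM : PicF.IsInvertible M)
    (hLM : Nonempty ((Scheme.Modules.pullback f.left).obj M ≅ L))
    (G : Over (Spec (CommRingCat.of k))) [GrpObj G] (u : ThetaGrp.thetaPts A L G)
    (hG : ThetaGrp.IsThetaGrpSch A L G u) :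
    ∃ j : N ⟶ G, IsMonHom j ∧ ThetaGrp.IsLevelSubgrp u j ∧
      ∀ (T : Over (Spec (CommRingCat.of k))) (n : T ⟶ N) (β : ThetaGrp.thetaPts A L T),
        ThetaGrp.IsBaseChange β (n ≫ j) u → ThetaGrp.IsOverPt β (n ≫ i) := by
  obtain ⟨e⟩ := hLM
  let m : K999.Rel.PMor A B L M := (K999.Rel.PMor.ofIso e.symm).comp (K999.Rel.PMor.ofHom f M)
  have hmf : m.f = f := Category.id_comp f
  have hN' : AlgGrp.IsKernel i m.f := by rw [hmf]; exact hN
  obtain ⟨j, hj, hj2⟩ := K999.Ker.exists_level m hN' hG
  have hover : ∀ (T : Over (Spec (CommRingCat.of k))) (n : T ⟶ N) (β : ThetaGrp.thetaPts A L T),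
      ThetaGrp.IsBaseChange β (n ≫ j) u → ThetaGrp.IsOverPt β (n ≫ i) := by
    intro T n β hβ
    rw [K999.Rel.isBaseChange_iff] at hβ
    rw [hβ, hj2, K999.Rel.over_iff, K999.Ker.pt_can]
  refine ⟨j, hj, ⟨?_, hj, ?_⟩, hover⟩
  · have h1 : j ≫ K999.Rel.pt u = i := by
      rw [K999.Ker.pt_eq, ← Category.id_comp j, hj2, K999.Ker.pt_can, Category.id_comp]
    have h2 : IsImmersion i.left := K999.Ker.isImmersion_of_isKernel hN
    have h3 : j.left ≫ (K999.Rel.pt u).left = i.left := by rw [← Over.comp_left, h1]
    rw [← h3] at h2
    exact IsImmersion.of_comp j.left (K999.Rel.pt u).left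
  · intro T h β hβ h1
    have h2 := hover T h β hβ
    have h3 : h ≫ i = 1 := K999.Rel.over_unique h2 h1
    exact K999.Ker.ker_mono hN (h3.trans (by rw [MonObj.one_comp]))

end Groth.Agent.S19953
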