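import Groth.Statements.S19954
import Groth.Agent.ThetaGrp.K999.Perp

set_option autoImplicit false
universe u
open CategoryTheory MonoidalCategory CartesianMonoidalCategory MonObj GrpObj AlgebraicGeometry
open ThetaGrp

namespace Groth.Agent.S19954

/-- Let f : X → Y be a homomorphism of abelian varieties over a field k (proper, geometrically integral,
commutative k-group schemes), L an invertible O_Y-module, and i_K : K → Y a closed immersion
exhibiting K as K(L), the maximal closed subscheme of Y over which the Mumford bundle m^*L ⊗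
p_1^*L⁻¹ ⊗ p_2^*L⁻¹, restricted to Y ×_k K, is the inverse image of an invertible module on K, with
its universal property. The identity e_{f^*L} = e_L ∘ (f, f) on f⁻¹(K(L)) is stated here through the
vanishing of the two commutator pairings: for a k-scheme H and a k-morphism i_H : H → X such that f
∘ i_H factors through i_K, the pairing e_L is trivial on the image of H in Y — for every k-scheme T,
any two points of G(L)(T) lying over the translations by f(i_H(h₁)), f(i_H(h₂)) for T-valued points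
h₁, h₂ of H commute — if and only if e_{f^*L} is trivial on H: any two points of G(f^*L)(T) lying
over the translations by i_H(h₁), i_H(h₂) commute. -/
theorem result (k : Type u) [Field k]
    (A : Over (Spec (CommRingCat.of k))) [GrpObj A] [IsCommMonObj A] [IsProper A.hom] [GeometricallyIntegral A.hom]
    (B : Over (Spec (CommRingCat.of k))) [GrpObj B] [IsCommMonObj B] [IsProper B.hom] [GeometricallyIntegral B.hom]
    (f : A ⟶ B) [IsMonHom f]
    (L : B.left.Modules) (hL : PicF.IsInvertible L)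
    (K : Over (Spec (CommRingCat.of k))) (iK : K ⟶ B) (hK : ThetaGrp.IsKL B L iK)
    (H : Over (Spec (CommRingCat.of k))) (iH : H ⟶ A) (hH : ∃ y : H ⟶ K, y ≫ iK = iH ≫ f) :
    ThetaGrp.IsIsotropic L (iH ≫ f) ↔
      ThetaGrp.IsIsotropic ((Scheme.Modules.pullback f.left).obj L) iH := by
  have hL' := Groth.Agent.Fdesc.LocGen.isInvertible_pullback f.left hL
  obtain ⟨y₀, hy₀⟩ := hH
  let m : K999.Rel.PMor A B ((Scheme.Modules.pullback f.left).obj L) L := K999.Rel.PMor.ofHom f L
  constructor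
  · intro hI T x y β₁ β₂ h₁ h₂
    rw [K999.Rel.over_iff] at h₁ h₂
    have hx : ThetaGrp.IsMumfordTriv B L (x ≫ iH ≫ f) :=
      (hK.univ _ _).mpr ⟨x ≫ y₀, by rw [Category.assoc, hy₀]⟩
    have hy : ThetaGrp.IsMumfordTriv B L (y ≫ iH ≫ f) :=
      (hK.univ _ _).mpr ⟨y ≫ y₀, by rw [Category.assoc, hy₀]⟩
    apply K999.Sc.comm_of_local (K999.AVPush.pushO A) hL'
    intro t
    obtain ⟨U, ht, hU₁, hU₂⟩ := K999.Perp.exists_local₂
      (K529.KL.pl (x ≫ iH ≫ f) (Groth.Agent.Grpsch.PicGrp.mk L hL))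
      (K529.KL.pl (y ≫ iH ≫ f) (Groth.Agent.Grpsch.PicGrp.mk L hL)) t
    refine ⟨U, ht, ?_⟩
    let j := K999.Mum.oin T U
    obtain ⟨γ₁, hγ₁⟩ := K999.Perp.exists_theta_of_trivial hL (K999.Perp.isMumfordTriv_comp hL hx j)
      (by rw [K529.KL.pl_comp j]; exact hU₁)
    obtain ⟨γ₂, hγ₂⟩ := K999.Perp.exists_theta_of_trivial hL (K999.Perp.isMumfordTriv_comp hL hy j)
      (by rw [K529.KL.pl_comp j]; exact hU₂)
    have w₁ : (j ≫ x ≫ iH) ≫ m.f = K999.Rel.pt γ₁ := by
      rw [hγ₁, Category.assoc, Category.assoc]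
      rfl
    have w₂ : (j ≫ y ≫ iH) ≫ m.f = K999.Rel.pt γ₂ := by
      rw [hγ₂, Category.assoc, Category.assoc]
      rfl
    have hc : K999.Sc.Com γ₁ γ₂ 1 := by
      rw [K999.Sc.com_one_iff]
      refine hI _ (j ≫ x) (j ≫ y) γ₁ γ₂ ?_ ?_
      · rw [K999.Rel.over_iff, hγ₁, Category.assoc]
      · rw [K999.Rel.over_iff, hγ₂, Category.assoc]
    have hc' := (K999.Sc.com_pb_iff (K999.AVPush.pushO B) hL hL' m (K999.Ker.rel_pb w₁)
      (K999.Ker.rel_pb w₂)).mpr hc
    rw [← K999.Sc.com_one_iff]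
    exact K999.Sc.com_of_pt (K999.AVPush.pushO A) hL' hc' (by rw [K999.Rel.pt_bc, K999.Ker.pt_pb, h₁])
      (by rw [K999.Rel.pt_bc, K999.Ker.pt_pb, h₂])
  · intro hI T x y β₁ β₂ h₁ h₂
    rw [K999.Rel.over_iff] at h₁ h₂
    have w₁ : (x ≫ iH) ≫ m.f = K999.Rel.pt β₁ := by
      rw [h₁, Category.assoc]
      rfl
    have w₂ : (y ≫ iH) ≫ m.f = K999.Rel.pt β₂ := by
      rw [h₂, Category.assoc]
      rfl
    rw [← K999.Sc.com_one_iff, ← K999.Sc.com_pb_iff (K999.AVPush.pushO B) hL hL' m (K999.Ker.rel_pb w₁)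
      (K999.Ker.rel_pb w₂), K999.Sc.com_one_iff]
    exact hI T x y _ _ (by rw [K999.Rel.over_iff, K999.Ker.pt_pb]) (by rw [K999.Rel.over_iff, K999.Ker.pt_pb])

end Groth.Agent.S19954
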