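import Groth.Statements.S19956
import Groth.Agent.ThetaGrp.K999.Perp

set_option autoImplicit false
universe u
open CategoryTheory MonoidalCategory CartesianMonoidalCategory MonObj GrpObj AlgebraicGeometry
open ThetaGrp

namespace Groth.Agent.S19956

/-- Let f : X → Y be a surjective homomorphism of abelian varieties over a field k (proper,
geometrically integral, commutative k-group schemes), i : N → X its kernel (a homomorphism forming a
cartesian square with the unit section of Y), M an invertible O_Y-module and L = f^*M. Let G be a
k-group scheme with a point u ∈ G(L)(G) representing the theta group of L (every point of G(L)(T) is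
the base change of u along a unique T → G, multiplicatively), and j : N → G a level subgroup lying
over i: a homomorphism of group schemes and an immersion such that a point of N whose image lies
over the identity translation is trivial, and such that for every T-valued point n of N the base
change of u along j(n) lies over the translation by i(n). Let i_M : K_M → Y be a closed immersion
exhibiting K_M as K(M) (the maximal closed subscheme of Y over which the Mumford bundle of M,
restricted to Y ×_k K_M, is the inverse image of an invertible module on K_M, with its universal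
property). For a k-scheme T, a T-valued point g of G and the T-valued point x of X under it (the
base change of u along g lies over the translation by x): g lies in the centralizer of j(N) — for
every T' → T and every T'-valued point n of N, the restriction of g commutes with j(n) in the group
G(T') — if and only if f(x) factors through i_M. (The source states this for the level subgroup
attached to the descent M; by the source's description of f⁻¹(K(M)) as Ker(f)^⊥ both sides depend
only on Ker(f), so it is stated for any level structure over i. The identification of G(M) with the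
centralizer modulo j(N) is not part of this statement.) -/
theorem result (k : Type u) [Field k]
    (A : Over (Spec (CommRingCat.of k))) [GrpObj A] [IsCommMonObj A] [IsProper A.hom] [GeometricallyIntegral A.hom]
    (B : Over (Spec (CommRingCat.of k))) [GrpObj B] [IsCommMonObj B] [IsProper B.hom] [GeometricallyIntegral B.hom]
    (f : A ⟶ B) [IsMonHom f] (hf : Surjective f.left)
    (N : Over (Spec (CommRingCat.of k))) [GrpObj N] (i : N ⟶ A) [IsMonHom i] (hN : AlgGrp.IsKernel i f)
    (M : B.left.Modules) (hM : PicF.IsInvertible M)
    (G : Over (Spec (CommRingCat.of k))) [GrpObj G]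
    (u : ThetaGrp.thetaPts A ((Scheme.Modules.pullback f.left).obj M) G)
    (hG : ThetaGrp.IsThetaGrpSch A ((Scheme.Modules.pullback f.left).obj M) G u)
    (j : N ⟶ G) [IsMonHom j] (hj : ThetaGrp.IsLevelSubgrp u j)
    (hover : ∀ (T : Over (Spec (CommRingCat.of k))) (n : T ⟶ N)
      (β : ThetaGrp.thetaPts A ((Scheme.Modules.pullback f.left).obj M) T),
      ThetaGrp.IsBaseChange β (n ≫ j) u → ThetaGrp.IsOverPt β (n ≫ i))
    (KM : Over (Spec (CommRingCat.of k))) (iM : KM ⟶ B) (hKM : ThetaGrp.IsKL B M iM)
    (T : Over (Spec (CommRingCat.of k))) (g : T ⟶ G) (x : T ⟶ A)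
    (β : ThetaGrp.thetaPts A ((Scheme.Modules.pullback f.left).obj M) T)
    (hβ : ThetaGrp.IsBaseChange β g u) (hx : ThetaGrp.IsOverPt β x) :
    (∀ (T' : Over (Spec (CommRingCat.of k))) (t : T' ⟶ T) (n : T' ⟶ N),
        (t ≫ g) * (n ≫ j) = (n ≫ j) * (t ≫ g)) ↔
      ∃ y : T ⟶ KM, y ≫ iM = x ≫ f := by
  have hL' := Groth.Agent.Fdesc.LocGen.isInvertible_pullback f.left hM
  let m : K999.Rel.PMor A B ((Scheme.Modules.pullback f.left).obj M) M := K999.Rel.PMor.ofHom f M
  rw [K999.Rel.isBaseChange_iff] at hβ
  rw [K999.Rel.over_iff] at hx
  have hn : ∀ (T' : Over (Spec (CommRingCat.of k))) (n : T' ⟶ N),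
      K999.Rel.pt (K999.Rel.bc (n ≫ j) u) = n ≫ i := fun T' n =>
    K999.Rel.over_iff.mp (hover T' n _ (K999.Rel.isBaseChange_iff.mpr rfl))
  -- commutation in `G` is commutation of theta points
  have hcomm : ∀ (T' : Over (Spec (CommRingCat.of k))) (t : T' ⟶ T) (n : T' ⟶ N),
      ((t ≫ g) * (n ≫ j) = (n ≫ j) * (t ≫ g)) ↔
        K999.Rel.bc t β * K999.Rel.bc (n ≫ j) u = K999.Rel.bc (n ≫ j) u * K999.Rel.bc t β := by
    intro T' t n
    rw [hβ, K999.Rel.bc_bc, ← K999.Ker.bc_mul_pt hG, ← K999.Ker.bc_mul_pt hG]
    constructor
    · intro h
      rw [h]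
    · intro h
      exact K999.Ker.bc_inj hG h
  constructor
  · intro h
    have hc : K999.PtDesc.Comm m β := by
      intro T' h' x' w
      obtain ⟨n, hn'⟩ := K999.Ker.ker_lift hN x' w
      obtain ⟨v, hv⟩ := K999.Sc.exists_sc_mul (K999.AVPush.pushO A) hL'
        (β := K999.Ker.can m x' w) (β' := K999.Rel.bc (n ≫ j) u) (by rw [K999.Ker.pt_can, hn, hn'])
      have h1 := (hcomm T' h' n).mp (h T' h' n)
      rw [hv, _root_.mul_assoc, ← h1, ← _root_.mul_assoc, K999.Sc.sc_comm, _root_.mul_assoc]
    obtain ⟨γ, -, hγ⟩ := K999.Perp.exists_desc_av hM m hf hc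
    rw [← hKM.univ, ← hx]
    have := K999.Mum.isMumfordTriv_pt hM γ
    rwa [hγ] at this
  · intro h T' t n
    rw [hcomm]
    have hx' := (hKM.univ T (x ≫ f)).mpr h
    apply K999.Perp.comm_of_mumford hL' hM m
    · rw [K999.Rel.pt_bc, hx, Category.assoc]
      exact K999.Perp.isMumfordTriv_comp hM hx' t
    · rw [hn]
      exact K999.Ker.ker_comp hN n

end Groth.Agent.S19956
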