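import Groth.Agent.Grpd.K394.FinMain
import Groth.Prelude.Def_Dual3
-- import your own Groth.Agent.* helpers here

set_option autoImplicit false
universe u
open CategoryTheory CategoryTheory.Limits AlgebraicGeometry
open Grpd

namespace Groth.Agent.S19957

open IsLocalRing in
/-- Points of the image of the stabilizer. -/
theorem mem_stab_iff {S : Scheme.{u}} (G : Grpd.GroupoidScheme S) [IsAffine G.U] (u : ↥G.U)
    {K : Type u} [Field K] (r : Spec (.of K) ⟶ G.R) :
    r (closedPoint K) ∈ ((pullback.fst G.j G.diag : G.stabilizer ⟶ G.R) ''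
      {g : ↥G.stabilizer | G.stabilizerToU g = u}) ↔
    r ≫ G.s = r ≫ G.t ∧ (r ≫ G.s) (closedPoint K) = u := by
  have hsep : IsSeparated G.pU := by
    have : IsSeparated (G.pU ≫ terminal.from S) := by
      rw [terminal.comp_from]; infer_instance
    exact IsSeparated.of_comp G.pU (terminal.from S)
  have hci : IsClosedImmersion (pullback.fst G.j G.diag) := by
    have : IsClosedImmersion G.diag := by
      have h : G.diag = pullback.diagonal G.pU := rfl
      rw [h]; infer_instance
    infer_instance
  have j1 : G.j ≫ pullback.fst G.pU G.pU = G.t := pullback.lift_fst _ _ _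
  have j2 : G.j ≫ pullback.snd G.pU G.pU = G.s := pullback.lift_snd _ _ _
  have d1 : G.diag ≫ pullback.fst G.pU G.pU = 𝟙 _ := pullback.lift_fst _ _ _
  have d2 : G.diag ≫ pullback.snd G.pU G.pU = 𝟙 _ := pullback.lift_snd _ _ _
  have w1 : pullback.fst G.j G.diag ≫ G.t = pullback.snd G.j G.diag := by
    rw [← j1, ← Category.assoc, pullback.condition, Category.assoc, d1, Category.comp_id]
  have w2 : pullback.fst G.j G.diag ≫ G.s = pullback.snd G.j G.diag := by
    rw [← j2, ← Category.assoc, pullback.condition, Category.assoc, d2, Category.comp_id]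
  constructor
  · rintro ⟨g, hg, hgr⟩
    have hsurj : Surjective (pullback.snd (pullback.fst G.j G.diag) r) := by
      refine ⟨fun x => ?_⟩
      have hx : x = closedPoint K := Subsingleton.elim _ _
      obtain ⟨z, -, hz⟩ := Scheme.Pullback.exists_preimage_pullback (f := pullback.fst G.j G.diag)
        (g := r) g x (by rw [hx]; exact hgr)
      exact ⟨z, hz⟩
    have hiso : IsIso (pullback.snd (pullback.fst G.j G.diag) r) :=
      isIso_of_isClosedImmersion_of_surjective _
    obtain ⟨l, hl⟩ : ∃ l : Spec (.of K) ⟶ pullback G.j G.diag, l ≫ pullback.fst _ _ = r := by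
      refine ⟨inv (pullback.snd (pullback.fst G.j G.diag) r) ≫ pullback.fst _ _, ?_⟩
      rw [Category.assoc, pullback.condition, IsIso.inv_hom_id_assoc]
    refine ⟨by rw [← hl, Category.assoc, Category.assoc, w1, w2], ?_⟩
    rw [Scheme.Hom.comp_apply, ← hgr, ← Scheme.Hom.comp_apply, w2]
    exact hg
  · rintro ⟨h1, h2⟩
    let l : Spec (.of K) ⟶ pullback G.j G.diag := pullback.lift r (r ≫ G.s) (by
      apply pullback.hom_ext
      · rw [Category.assoc, j1, Category.assoc, d1, Category.comp_id, h1]
      · rw [Category.assoc, j2, Category.assoc, d2, Category.comp_id])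
    refine ⟨l (closedPoint K), ?_, ?_⟩
    · show pullback.snd G.j G.diag (l _) = u
      rw [← Scheme.Hom.comp_apply, pullback.lift_snd, h2]
    · rw [← Scheme.Hom.comp_apply, pullback.lift_fst]

/-- Let (U, R, s, t, c) be a groupoid scheme over S with U affine and s, t separated, flat and locally
of finite presentation, and let u ∈ U be a point such that the set of points of the stabilizer G → U
(the base change of j = (t, s) : R → U ×_S U along the diagonal of U) lying over u is finite and s
is quasi-finite at the image in R of each of these points. Then there exist an etale morphism U' → U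
with U' affine and a point u' of U' lying over u with trivial residue field extension κ(u) = κ(u'),
such that the restriction R' of R to U' (the groupoid scheme on U' whose arrows form the base change
of j along U' ×_S U' → U ×_S U) is split over u': there is an open subscheme P ⊂ R' which is a
subgroupoid (the identity of U', the inverse of P and the composition of composable pairs of P land
in P), with s'|_P and t'|_P finite, and containing the image in R' of every point of the stabilizer
G' → U' of R' lying over u'. -/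
theorem result (S : Scheme.{u}) (G : Grpd.GroupoidScheme S) [IsAffine G.U]
    [IsSeparated G.s] [IsSeparated G.t] [Flat G.s] [Flat G.t]
    [LocallyOfFinitePresentation G.s] [LocallyOfFinitePresentation G.t]
    (u : ↥G.U) (hfin : Set.Finite {g : ↥G.stabilizer | G.stabilizerToU g = u})
    (hqf : ∀ g : ↥G.stabilizer, G.stabilizerToU g = u →
      Dual3.QuasiFiniteAt G.s ((pullback.fst G.j G.diag : G.stabilizer ⟶ G.R) g)) :
    ∃ (G' : Grpd.GroupoidScheme S) (φ : Grpd.GroupoidScheme.Hom G' G) (u' : ↥G'.U),
      IsAffine G'.U ∧ Etale φ.fU ∧ φ.fU u' = u ∧ IsIso (φ.fU.residueFieldMap u') ∧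
      IsPullback φ.fR G'.j G.j
        (pullback.map G'.pU G'.pU G.pU G.pU φ.fU φ.fU (𝟙 S)
          ((Category.comp_id _).trans φ.fU_over.symm) ((Category.comp_id _).trans φ.fU_over.symm)) ∧
      ∃ (P : Scheme.{u}) (ιP : P ⟶ G'.R), IsOpenImmersion ιP ∧
        (∃ eP : G'.U ⟶ P, eP ≫ ιP = G'.e) ∧ (∃ iP : P ⟶ P, iP ≫ ιP = ιP ≫ G'.i) ∧
        (∃ cP : pullback (ιP ≫ G'.s) (ιP ≫ G'.t) ⟶ P,
          cP ≫ ιP = pullback.map (ιP ≫ G'.s) (ιP ≫ G'.t) G'.s G'.t ιP ιP (𝟙 G'.U)
            (Category.comp_id _) (Category.comp_id _) ≫ G'.c) ∧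
        IsFinite (ιP ≫ G'.s) ∧ IsFinite (ιP ≫ G'.t) ∧
        ∀ g' : ↥G'.stabilizer, G'.stabilizerToU g' = u' →
          ∃ p : ↥P, ιP p = (pullback.fst G'.j G'.diag : G'.stabilizer ⟶ G'.R) g' := by
  have j1 : G.j ≫ pullback.fst G.pU G.pU = G.t := pullback.lift_fst _ _ _
  have j2 : G.j ≫ pullback.snd G.pU G.pU = G.s := pullback.lift_snd _ _ _
  have d1 : G.diag ≫ pullback.fst G.pU G.pU = 𝟙 _ := pullback.lift_fst _ _ _
  have d2 : G.diag ≫ pullback.snd G.pU G.pU = 𝟙 _ := pullback.lift_snd _ _ _
  have w1 : pullback.fst G.j G.diag ≫ G.t = pullback.snd G.j G.diag := by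
    rw [← j1, ← Category.assoc, pullback.condition, Category.assoc, d1, Category.comp_id]
  have w2 : pullback.fst G.j G.diag ≫ G.s = pullback.snd G.j G.diag := by
    rw [← j2, ← Category.assoc, pullback.condition, Category.assoc, d2, Category.comp_id]
  obtain ⟨G', φ, u', h1, h2, h3, h4, h5, P, ιP, h6, h7, h8, h9, h10, h11, h12⟩ :=
    K394.FinFam.split G u ((pullback.fst G.j G.diag : G.stabilizer ⟶ G.R) ''
      {g : ↥G.stabilizer | G.stabilizerToU g = u}) (hfin.image _)
      (by
        rintro _ ⟨g, hg, rfl⟩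
        rw [← Scheme.Hom.comp_apply, w2]; exact hg)
      (by
        rintro _ ⟨g, hg, rfl⟩
        rw [← Scheme.Hom.comp_apply, w1]; exact hg)
      (by
        rintro _ ⟨g, hg, rfl⟩
        exact Scheme.Hom.quasiFiniteAt_iff_isOpen_singleton_asFiber.2 (hqf g hg))
      (by
        let l : G.U ⟶ pullback G.j G.diag := pullback.lift G.e (𝟙 _) (by
          apply pullback.hom_ext
          · rw [Category.assoc, j1, Category.assoc, d1, Category.comp_id, G.e_t]
          · rw [Category.assoc, j2, Category.assoc, d2, Category.comp_id, G.e_s])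
        refine ⟨l u, ?_, ?_⟩
        · show pullback.snd G.j G.diag (l _) = u
          rw [← Scheme.Hom.comp_apply, pullback.lift_snd]; rfl
        · rw [← Scheme.Hom.comp_apply, pullback.lift_fst])
      (by
        intro K _ y z h hz
        rw [mem_stab_iff] at hz ⊢
        rw [mem_stab_iff, Groth.Agent.Grpsch.Points.mul_s, Groth.Agent.Grpsch.Points.mul_t]
        constructor
        · rintro ⟨e1, e2⟩
          rw [h, ← hz.1]
          exact ⟨e1, e2⟩
        · rintro ⟨e1, e2⟩
          rw [h, ← hz.1] at e1
          exact ⟨e1, hz.2⟩)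
  refine ⟨G', φ, u', h1, h2, h3, h4, h5, P, ιP, h6, h7, h8, h9, h10, h11, fun g' hg' => ?_⟩
  have j1' : G'.j ≫ pullback.fst G'.pU G'.pU = G'.t := pullback.lift_fst _ _ _
  have j2' : G'.j ≫ pullback.snd G'.pU G'.pU = G'.s := pullback.lift_snd _ _ _
  have d1' : G'.diag ≫ pullback.fst G'.pU G'.pU = 𝟙 _ := pullback.lift_fst _ _ _
  have d2' : G'.diag ≫ pullback.snd G'.pU G'.pU = 𝟙 _ := pullback.lift_snd _ _ _
  have w1' : pullback.fst G'.j G'.diag ≫ G'.t = pullback.snd G'.j G'.diag := by
    rw [← j1', ← Category.assoc, pullback.condition, Category.assoc, d1', Category.comp_id]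
  have w2' : pullback.fst G'.j G'.diag ≫ G'.s = pullback.snd G'.j G'.diag := by
    rw [← j2', ← Category.assoc, pullback.condition, Category.assoc, d2', Category.comp_id]
  refine h12 _ ?_ ?_ ?_
  · rw [← Scheme.Hom.comp_apply, w2']; exact hg'
  · rw [← Scheme.Hom.comp_apply, w1']; exact hg'
  · let g₂ : ↥(pullback G'.j G'.diag) := g'
    let K := (pullback G'.j G'.diag).residueField g₂
    let α : Spec (.of K) ⟶ pullback G'.j G'.diag := (pullback G'.j G'.diag).fromSpecResidueField g₂
    have hα : α (IsLocalRing.closedPoint K) = g₂ := Scheme.fromSpecResidueField_apply _ _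
    have hg₂ : pullback.snd G'.j G'.diag g₂ = u' := hg'
    have e1 : ((α ≫ pullback.fst G'.j G'.diag) ≫ φ.fR) ≫ G.s =
        α ≫ pullback.snd G'.j G'.diag ≫ φ.fU := by
      rw [Category.assoc, φ.comm_s, Category.assoc, ← Category.assoc (pullback.fst _ _), w2']
    have e2 : ((α ≫ pullback.fst G'.j G'.diag) ≫ φ.fR) ≫ G.t =
        α ≫ pullback.snd G'.j G'.diag ≫ φ.fU := by
      rw [Category.assoc, φ.comm_t, Category.assoc, ← Category.assoc (pullback.fst _ _), w1']
    have h13 := (mem_stab_iff G u ((α ≫ pullback.fst G'.j G'.diag) ≫ φ.fR)).2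
      ⟨e1.trans e2.symm, by
        rw [e1, Scheme.Hom.comp_apply, hα, Scheme.Hom.comp_apply, hg₂, h3]⟩
    rw [Scheme.Hom.comp_apply, Scheme.Hom.comp_apply, hα] at h13
    exact h13

end Groth.Agent.S19957
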