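import Groth.Statements.S19959
import Groth.Agent.Smoothlim.ResolveMod

set_option autoImplicit false
universe u
open Smoothing

namespace Groth.Agent.S19959

/-- Let R be Noetherian, Λ an R-algebra and π ∈ R with the annihilators of π and π² equal both in R and
in Λ. Let A → Λ be an R-algebra map with A finitely presented and π strictly standard in A over R,
and let A → C → Λ/π⁸Λ be a factorization of the induced map A → Λ/π⁸Λ with C a finitely presented
R/π⁸R-algebra. Then there is a factorization A → B → Λ with B finitely presented over R such that R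
→ B is smooth at every prime of B not containing π (equivalently, B being finitely presented, R_π →
B_π is smooth) and such that the extension to Λ/π⁸Λ of the singular ideal of C over R/π⁸R (the
radical ideal of the non-smooth locus) is contained in the image in Λ/π⁸Λ of the radical of the
extension to Λ of the singular ideal of B over R. -/
theorem result {R Λ A C : Type u} [CommRing R] [IsNoetherianRing R] [CommRing Λ]
    [Algebra R Λ] (π : R) (hR : ∀ r : R, π ^ 2 * r = 0 → π * r = 0)
    (hΛ : ∀ x : Λ, π ^ 2 • x = 0 → π • x = 0) [CommRing A] [Algebra R A]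
    [Algebra.FinitePresentation R A] (φ : A →ₐ[R] Λ)
    (hπ : Smoothing.IsStrictlyStandard R A (algebraMap R A π))
    [CommRing C] [Algebra R C] [Algebra (R ⧸ Ideal.span {π ^ 8}) C] [IsScalarTower R (R ⧸ Ideal.span {π ^ 8}) C]
    [Algebra.FinitePresentation (R ⧸ Ideal.span {π ^ 8}) C]
    (γ : A →ₐ[R] C) (g : C →ₐ[R] Λ ⧸ Ideal.span {algebraMap R Λ (π ^ 8)})
    (hfac : ∀ a : A, g (γ a) = Ideal.Quotient.mk (Ideal.span {algebraMap R Λ (π ^ 8)}) (φ a)) :
    ∃ (B : Type u) (_ : CommRing B) (_ : Algebra R B), Algebra.FinitePresentation R B ∧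
      ∃ (α : A →ₐ[R] B) (β : B →ₐ[R] Λ), β.comp α = φ ∧
        (∀ (Q : Ideal B) [Q.IsPrime], algebraMap R B π ∉ Q → Algebra.IsSmoothAt R Q) ∧
        (Smoothing.singularIdeal (R ⧸ Ideal.span {π ^ 8}) C).map g ≤
          ((Smoothing.singularIdeal R B).map β).radical.map (Ideal.Quotient.mk (Ideal.span {algebraMap R Λ (π ^ 8)})) := by
  -- the `R/π⁸`-algebra structure of `Λ/π⁸`
  let R' := R ⧸ Ideal.span {π ^ 8}
  let Λ' := Λ ⧸ Ideal.span {algebraMap R Λ (π ^ 8)}
  let e : R' →+* Λ' := Ideal.Quotient.lift (Ideal.span {π ^ 8}) (algebraMap R Λ') (by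
    intro a ha
    obtain ⟨b, rfl⟩ := Ideal.mem_span_singleton'.mp ha
    rw [map_mul]
    have : algebraMap R Λ' (π ^ 8) = 0 := by
      change Ideal.Quotient.mk _ (algebraMap R Λ (π ^ 8)) = 0
      rw [Ideal.Quotient.eq_zero_iff_mem]
      exact Ideal.subset_span rfl
    rw [this, mul_zero])
  let _ : Algebra R' Λ' := e.toAlgebra
  have : IsScalarTower R R' Λ' := IsScalarTower.of_algebraMap_eq fun r => rfl
  let h : C →ₐ[R'] Λ' :=
    { g.toRingHom with
      commutes' := fun r => by
        obtain ⟨r, rfl⟩ := Ideal.Quotient.mk_surjective r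
        have h1 : algebraMap R' C (Ideal.Quotient.mk _ r) = algebraMap R C r := by
          rw [IsScalarTower.algebraMap_apply R R' C]; rfl
        have h2 : algebraMap R' Λ' (Ideal.Quotient.mk _ r) = algebraMap R Λ' r := by
          rw [IsScalarTower.algebraMap_apply R R' Λ']; rfl
        rw [h1, h2]
        exact g.commutes r }
  obtain ⟨B, _, _, hB, α, β, hαβ, hπB, hsing⟩ :=
    Groth.Agent.Smoothlim.ResolveMod.exists_factor π hR hΛ φ hπ (R' := R') (Λ' := Λ')
      Ideal.Quotient.mk_surjective Ideal.mk_ker Ideal.Quotient.mk_surjective Ideal.mk_ker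
      γ h hfac
  refine ⟨B, inferInstance, inferInstance, hB, α, β, hαβ, ?_, ?_⟩
  · intro Q _ hQ
    exact (Groth.Agent.Smoothlim.SingIdeal.mem_iff_forall _).mp hπB Q hQ
  · have hmap : (Smoothing.singularIdeal R' C).map g = (Smoothing.singularIdeal R' C).map h := rfl
    change (Smoothing.singularIdeal R' C).map g ≤ _
    rw [hmap]
    have hπI : algebraMap R Λ (π ^ 8) ∈ (Smoothing.singularIdeal R B).map β := by
      rw [map_pow, pow_succ]
      refine Ideal.mul_mem_left _ _ ?_
      rw [← β.commutes]
      exact Ideal.mem_map_of_mem _ hπB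
    have h1 : (Smoothing.singularIdeal R' C).map h ≤
        (((Smoothing.singularIdeal R B).map β).map
          (Ideal.Quotient.mk (Ideal.span {algebraMap R Λ (π ^ 8)}))).radical := by
      rw [Ideal.radical_eq_sInf]
      refine le_sInf ?_
      rintro q ⟨hq1, hq2⟩
      have : q.IsPrime := hq2
      exact hsing q (Ideal.map_le_iff_le_comap.mp hq1)
    refine h1.trans ?_
    intro y hy
    obtain ⟨l, rfl⟩ := Ideal.Quotient.mk_surjective y
    obtain ⟨n, hn⟩ := hy
    refine Ideal.mem_map_of_mem _ ⟨n, ?_⟩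
    rw [← map_pow] at hn
    obtain ⟨l', hl', hll'⟩ := (Ideal.mem_map_iff_of_surjective _ Ideal.Quotient.mk_surjective).mp hn
    rw [Ideal.Quotient.eq] at hll'
    have h3 : l ^ n = l' - (l' - l ^ n) := by ring
    rw [h3]
    refine Ideal.sub_mem _ hl' ?_
    exact (Ideal.span_singleton_le_iff_mem (I := (Smoothing.singularIdeal R B).map β)).mpr hπI hll'

end Groth.Agent.S19959
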