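import Groth.Statements.S19961
import Groth.Agent.ThetaS.K943.SpLft

set_option autoImplicit false
universe u
open CategoryTheory AlgebraicGeometry
open ThetaS

namespace Groth.Agent.S19961

/-- Let k be a field and M an algebraic space over k which is of finite type over k (its associated
stack over (Sch/k) is quasi-compact and locally of finite type on a smooth chart) with affine
diagonal over k. Then the stack over (Sch/k) associated with M is Θ-complete: for every discrete
valuation ring R over k with uniformizer ϖ, every functor over (Sch/k) from the punctured stack Θ_R
∖ 0 to it extends to Θ_R = [𝔸¹_R/𝔾_m], uniquely up to a unique 2-isomorphism (fppf torsors as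
schemes); and it is S-complete over k — the same extension property for [Spec R[s,t]/(st − ϖ) ∖
V(s,t) / 𝔾_m] inside [Spec R[s,t]/(st − ϖ)/𝔾_m] — if and only if M is separated over k (its diagonal
is representable by closed immersions). (The published statement is for noetherian algebraic stacks
with affine and quasi-finite diagonal; this row is its case of an algebraic space of finite type
over a field.) -/
theorem result
    (k : Type u) [Field k] (M : AlgSp.Space (Spec (CommRingCat.of k)))
    (hft : AlgSt.LocQ (AlgSp.LocP @LocallyOfFiniteType) (FibCat.toSelf (AlgSt.ofSp M.obj)))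
    (hq : AlgSt.IsQuasiCompact (AlgSt.ofSp M.obj))
    (hdiag : AlgSp.RepWith @IsAffineHom (Limits.diag M.obj)) :
    ThetaS.IsThetaComplete Scheme.fppfPrecoverage (AlgSt.ofSp M.obj) ∧
      (ThetaS.IsSCompleteOver Scheme.fppfPrecoverage (AlgSt.ofSp M.obj) ↔ AlgSp.IsSeparatedSp M.obj) := by
  constructor
  · exact K943.SpComplete.isThetaComplete M.property hdiag
  · exact ⟨fun hc => K943.SpLft.isSeparatedSp_of_sComplete M.property (K943.SpComplete.isQuasiSeparatedSp_of_affine hdiag) hft hc, fun hsep => K943.SpComplete.isSCompleteOver hsep⟩

end Groth.Agent.S19961
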