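import Groth.Statements.S19963
import Groth.Agent.CAlg.K95.MonicGlue

set_option autoImplicit false
open Polynomial TensorProduct
universe u
open CAlg

namespace Groth.Agent.S19963


/-- Let A be a commutative ring and let A(t) denote the localization of the polynomial ring A[t] at the
multiplicative subset of monic polynomials, viewed as an A-algebra. If P and P' are finitely
generated projective A-modules such that A(t) ⊗_A P and A(t) ⊗_A P' are isomorphic A(t)-modules,
then P and P' are isomorphic A-modules: non-isomorphic finite projective modules stay non-isomorphic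
over A(t). (The published statement also covers base change to the ring A((t)) of Laurent power
series, and modules over A(t) itself; only the A(t) assertion for modules over A is stated.) -/
theorem result
    (A : Type u) [CommRing A] (M : Submonoid A[X]) (hM : ∀ f : A[X], f ∈ M ↔ f.Monic)
    (At : Type u) [CommRing At] [Algebra A[X] At] [IsLocalization M At]
    [Algebra A At] [IsScalarTower A A[X] At]
    (P P' : Type u) [AddCommGroup P] [Module A P] [Module.Finite A P] [Module.Projective A P]
    [AddCommGroup P'] [Module A P'] [Module.Finite A P'] [Module.Projective A P']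
    (h : Nonempty ((At ⊗[A] P) ≃ₗ[At] (At ⊗[A] P'))) :
    Nonempty (P ≃ₗ[A] P') := by
  classical
  rcases subsingleton_or_nontrivial A with hA | hA
  · have h1 : Subsingleton P := Module.subsingleton A P
    have h2 : Subsingleton P' := Module.subsingleton A P'
    exact ⟨{ (0 : P →ₗ[A] P') with
            invFun := 0
            left_inv := fun x => Subsingleton.elim _ _
            right_inv := fun x => Subsingleton.elim _ _ }⟩
  obtain ⟨θ⟩ := h
  have hXu : IsUnit (algebraMap A[X] At X) := IsLocalization.map_units At (⟨X, (hM X).2 monic_X⟩ : M)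
  obtain ⟨τ, hτ⟩ := hXu
  let φ : A[X] →ₐ[A] At := Polynomial.aeval ((τ⁻¹ : Atˣ) : At)
  have hφX : φ X = ((τ⁻¹ : Atˣ) : At) := Polynomial.aeval_X _
  let _ : Invertible (τ : At) := τ.invertible
  have hinv : (⅟(τ : At)) = ((τ⁻¹ : Atˣ) : At) := by simp
  have halg : ∀ p : A[X], algebraMap A[X] At p = Polynomial.eval₂ (algebraMap A At) (τ : At) p := by
    intro p
    rw [hτ]
    have h1 : (algebraMap A[X] At) = Polynomial.eval₂RingHom (algebraMap A At) (algebraMap A[X] At X) := by
      apply Polynomial.ringHom_ext
      · intro a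
        rw [← Polynomial.algebraMap_eq, ← IsScalarTower.algebraMap_apply]
        simp
      · simp
    exact RingHom.congr_fun h1 p
  -- the key formula
  have key : ∀ (N : ℕ) (p : A[X]), p.natDegree ≤ N → φ (p.reflect N) * (τ : At) ^ N = algebraMap A[X] At p := by
    intro N p hp
    rw [halg, ← Polynomial.eval₂_reflect_mul_pow (algebraMap A At) (τ : At) N p hp, hinv]
    rfl
  have key' : ∀ (N : ℕ) (p : A[X]), p.natDegree ≤ N → φ p * (τ : At) ^ N = algebraMap A[X] At (p.reflect N) := by
    intro N p hp
    rw [← key N (p.reflect N) ((Polynomial.natDegree_reflect_le).trans (max_le le_rfl hp)), Polynomial.reflect_reflect]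
  have hτφ : φ X * (τ : At) = 1 := by rw [hφX]; exact τ.inv_mul
  have hcoef : ∀ (N : ℕ) (p : A[X]), (p.reflect N).coeff N = p.coeff 0 := by
    intro N p
    rw [Polynomial.coeff_reflect, Polynomial.revAt_le le_rfl, Nat.sub_self]
  have hcoef' : ∀ (N : ℕ) (p : A[X]), (p.reflect N).coeff 0 = p.coeff N := by
    intro N p
    rw [Polynomial.coeff_reflect, Polynomial.revAt_le (Nat.zero_le N), Nat.sub_zero]
  refine K95.MonicGlue.main φ ?_ ?_ ?_ ?_ P P' θ
  · intro f hf
    have h1 : (f.reflect f.natDegree).Monic := Polynomial.monic_of_natDegree_le_of_coeff_eq_one f.natDegree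
      ((Polynomial.natDegree_reflect_le).trans (max_le le_rfl le_rfl)) (by rw [hcoef, hf])
    have h2 : IsUnit (algebraMap A[X] At (f.reflect f.natDegree)) :=
      IsLocalization.map_units At (⟨_, (hM _).2 h1⟩ : M)
    rw [← key' _ _ le_rfl] at h2
    exact isUnit_of_mul_isUnit_left h2
  · rw [hφX]
    exact Units.isUnit _
  · rw [injective_iff_map_eq_zero]
    intro p hp
    have h1 := key' _ p le_rfl
    rw [hp, zero_mul, eq_comm, IsLocalization.map_eq_zero_iff M] at h1
    obtain ⟨⟨m, hm⟩, h2⟩ := h1
    have h3 : p.reflect p.natDegree = 0 := ((hM m).1 hm).mul_right_eq_zero_iff.1 h2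
    exact Polynomial.reflect_eq_zero_iff.1 h3
  · intro z
    obtain ⟨⟨p, ⟨f, hf⟩⟩, hz⟩ := IsLocalization.surj M z
    have hf' := (hM f).1 hf
    refine ⟨p.natDegree, f.reflect f.natDegree, p.reflect p.natDegree * X ^ f.natDegree, ?_, ?_⟩
    · rw [hcoef']
      exact hf'
    · have h1 : z * (φ (f.reflect f.natDegree) * (τ : At) ^ f.natDegree) =
          φ (p.reflect p.natDegree) * (τ : At) ^ p.natDegree := by
        rw [key _ _ le_rfl, key _ _ le_rfl]
        exact hz
      have h2 : (φ X) ^ f.natDegree * (τ : At) ^ f.natDegree = 1 := by rw [← mul_pow, hτφ, one_pow]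
      have h3 : (φ X) ^ p.natDegree * (τ : At) ^ p.natDegree = 1 := by rw [← mul_pow, hτφ, one_pow]
      rw [map_mul, map_pow]
      calc φ X ^ p.natDegree * φ (f.reflect f.natDegree) * z
          = φ X ^ p.natDegree * (z * (φ (f.reflect f.natDegree) * (τ : At) ^ f.natDegree)) * (φ X) ^ f.natDegree := by
            linear_combination (-(φ X ^ p.natDegree * φ (f.reflect f.natDegree) * z)) * h2
        _ = φ (p.reflect p.natDegree) * (φ X) ^ f.natDegree := by
            rw [h1]
            linear_combination (φ (p.reflect p.natDegree) * (φ X) ^ f.natDegree) * h3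

end Groth.Agent.S19963
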