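import Groth.Statements.S19965
import Groth.Agent.ChGrp.K982.Descent

set_option autoImplicit false
universe u
open CategoryTheory MonoidalCategory CartesianMonoidalCategory MonObj AlgebraicGeometry
open ChGrp

namespace Groth.Agent.S19965


open K982.Act K982.Pts K982.Descent GrpObj in
/-- In the case of group schemes with the quotient given as a scheme, let S be a scheme, G a group
scheme over S, i : H → G a homomorphism from a group scheme H, and let the S-scheme Q with its
G-action and base point q₀ be the quotient G/H for the fppf topology: i is a homomorphism, the
square exhibiting G ×_S H as G ×_Q G through (g, h) ↦ (g, g·i(h)) and the orbit map of q₀ is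
cartesian, and the orbit map G → Q acquires sections on the members of an fppf covering family of Q.
Let P be a property of morphisms of schemes which is stable under base change and local on the
target for the fppf topology. If H → S has P, then the orbit map G → Q has P. (In the source G and H
are group algebraic spaces, H is flat and locally of finite presentation over S so that G/H exists
as an algebraic space, and P is a property of morphisms of algebraic spaces; here all three are
schemes, the quotient is part of the data, and flatness of H plays no part.) -/
theorem result (S : Scheme.{u})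
    (G H : Over S) [GrpObj G] [GrpObj H] (i : H ⟶ G)
    (Q : Over S) (aQ : AlgGrp.Action G Q) (q₀ : 𝟙_ (Over S) ⟶ Q)
    (hQ : ChGrp.IsHomog Scheme.fppfPrecoverage i aQ q₀)
    (P : MorphismProperty Scheme.{u}) [P.IsStableUnderBaseChange]
    [P.IsLocalAtTarget Scheme.fppfPrecoverage]
    (hP : P H.hom) : P (aQ.orbitMap q₀).left := by
  obtain ⟨R, hR, hsec⟩ := hQ.2.2
  refine MorphismProperty.IsLocalAtTarget.of_forall_pullbackSnd (P := P) (K := Scheme.fppfPrecoverage) hR ?_
  intro U f _ hf
  obtain ⟨s, hs⟩ := hsec f hf
  have hs' : s ≫ (aQ.orbitMap q₀).left = f := hs
  -- the base change of the orbit map along itself is the projection `G × H ⟶ G`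
  have h1 : IsPullback (fst G H).left ((G ◁ i) ≫ μ[G]).left (aQ.orbitMap q₀).left (aQ.orbitMap q₀).left :=
    hQ.2.1.map (Over.forget S)
  have h0 : P (fst G H).left := by
    have h2 : IsPullback (fst G H) (snd G H) (toUnit G) (toUnit H) := by
      refine isPullback_of_points (toUnit_unique _ _) ?_ ?_
      · intro T x y _
        exact ⟨lift x y, by simp, by simp⟩
      · intro T p p' e1 e2
        exact CartesianMonoidalCategory.hom_ext _ _ e1 e2
    have h3 : IsPullback (fst G H).left (snd G H).left (toUnit G).left (toUnit H).left :=
      h2.map (Over.forget S)
    refine P.of_isPullback h3.flip ?_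
    have : (toUnit H).left = H.hom := Over.w (toUnit H) ▸ (Category.comp_id _).symm
    rw [this]
    exact hP
  have h2 := (IsPullback.of_hasPullback (fst G H).left s).paste_horiz h1.flip
  rw [hs'] at h2
  have h3 : P (Limits.pullback.snd (fst G H).left s) := P.pullback_snd _ _ h0
  have h4 : Limits.pullback.snd (aQ.orbitMap q₀).left f =
      (h2.isoPullback).inv ≫ Limits.pullback.snd (fst G H).left s := by
    rw [h2.isoPullback_inv_snd]
  rw [h4]
  exact P.cancel_left_of_respectsIso _ _ |>.2 h3

end Groth.Agent.S19965
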