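import Groth.Statements.S19966
import Groth.Agent.AlgSt.K736.KM19966
import Groth.Agent.S16692
import Groth.Agent.S16693
import Groth.Agent.S16695
import Groth.Agent.S16700
import Groth.Agent.S16706
-- import your own Groth.Agent.* helpers here

set_option autoImplicit false
universe u
open AlgSt

namespace Groth.Agent.S19966

open CategoryTheory AlgebraicGeometry in
/-- Let S be a scheme and 𝒳 an algebraic stack over S for the fppf topology whose diagonal over S is
quasi-compact and separated, and suppose there is a finite locally free surjective morphism (Sch/U)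
→ 𝒳 (representable, finite, flat, locally of finite presentation and surjective) from a scheme U
which is quasi-projective Zariski-locally over S. Then there are a scheme Y over S and a morphism π
from 𝒳 to (the stack of) Y which is a coarse moduli space: universal for morphisms to algebraic
spaces over S and bijective on isomorphism classes of objects over every algebraically closed field.
Moreover π is separated and a universal homeomorphism; for every algebraic space M' and every flat
M' → Y the base change of π to M' is again a coarse moduli space; if 𝒳 is separated over S then Y →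
S is separated; and if S is locally Noetherian and 𝒳 is locally of finite type over S then Y → S is
locally of finite type. (The source allows any finite locally free scheme cover in which every orbit
lies in an affine open of U, of which a cover quasi-projective Zariski-locally over S is the stated
instance, takes the diagonal condition absolutely, and also records that π is proper when 𝒳 is
locally of finite type; that clause is not restated.) -/
theorem result
    (S : Scheme.{u}) (𝒳 : AlgSt.Cat S) (h𝒳 : AlgSt.IsAlgStack Scheme.fppfPrecoverage 𝒳)
    (hΔ : AlgSt.RepByAlgSpWith (AlgSp.IsSeparatedMor ⊓ AlgSp.IsQuasiCompactMor) (FibCat.diag (FibCat.toSelf 𝒳)))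
    (U : Over S) (hU : RedSub.IsLocallyQuasiProjective U) (c : FibCat.overCat U ⥤ᵇ 𝒳)
    (hc : AlgSt.RepByAlgSpWith
      (AlgSp.IsFiniteMor ⊓ AlgSp.LocP (@Flat ⊓ @LocallyOfFinitePresentation) ⊓ AlgSp.IsSurjectiveMor) c) :
    ∃ (Y : Over S) (π : 𝒳 ⥤ᵇ AlgSt.ofSch Y),
      AlgSt.IsCoarseModuli π ∧ AlgSt.IsSeparatedMor π ∧ AlgSt.IsUnivHomeo Scheme.fppfPrecoverage π ∧
      (∀ (M' : AlgSp.Sp S), AlgSp.IsAlgSpace M' → ∀ g : M' ⟶ (AlgSp.yon S).obj Y, AlgSp.LocP @Flat g →
        AlgSt.IsCoarseModuli (FibCat.fpFst (AlgSt.ofSpMap g) π)) ∧
      (AlgSt.IsSeparatedOver 𝒳 → IsSeparated Y.hom) ∧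
      (IsLocallyNoetherian S → AlgSt.LocQ (AlgSp.LocP @LocallyOfFiniteType) (FibCat.toSelf 𝒳) →
        LocallyOfFiniteType Y.hom) := by
  exact K736.KM.main19966 (Groth.Agent.S16700.result S) (Groth.Agent.S16692.result S) (Groth.Agent.S16693.result S) (Groth.Agent.S16695.result S) (Groth.Agent.S16706.result S) 𝒳 h𝒳 U hU c hc

end Groth.Agent.S19966
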