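import Groth.Statements.S19968
import Groth.Agent.Smoothlim.PowSec

set_option autoImplicit false
universe u
open CategoryTheory AlgebraicGeometry Opposite
open LinSer

namespace Groth.Agent.S19968

open Groth.Agent.Ega4dA.GenSec Groth.Agent.Smoothlim.PowSec

/-- The structure map from the base field to global functions. -/
noncomputable def gk (k : Type u) [Field k] (X : Scheme.{u}) [X.Over (Spec (CommRingCat.of k))] : k →+* Γ(X, ⊤) :=
  Coh.toGlobal (X ↘ Spec (CommRingCat.of k))

/-- Evaluation of a function at a rational point. -/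
noncomputable def ev {k : Type u} [Field k] {X : Scheme.{u}} (p : Spec (CommRingCat.of k) ⟶ X) (U : X.Opens)
    (h : (⊤ : (Spec (CommRingCat.of k)).Opens) ≤ p ⁻¹ᵁ U) : Γ(X, U) →+* k :=
  (Scheme.ΓSpecIso (CommRingCat.of k)).hom.hom.comp (p.appLE U ⊤ h).hom

theorem ev_resO {k : Type u} [Field k] {X : Scheme.{u}} [X.Over (Spec (CommRingCat.of k))]
    (p : Spec (CommRingCat.of k) ⟶ X)
    (hp : p ≫ (X ↘ Spec (CommRingCat.of k)) = 𝟙 _) (U : X.Opens)
    (h : (⊤ : (Spec (CommRingCat.of k)).Opens) ≤ p ⁻¹ᵁ U) (c : k) :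
    ev p U h (resO X (le_top : U ≤ ⊤) (gk k X c)) = c := by
  have h1 : (X ↘ Spec (CommRingCat.of k)).appTop ≫ X.presheaf.map (homOfLE (le_top : U ≤ ⊤)).op ≫ p.appLE U ⊤ h =
      𝟙 _ := by
    rw [Scheme.Hom.map_appLE]
    have h2 : (X ↘ Spec (CommRingCat.of k)).appTop ≫ p.appLE ⊤ ⊤ le_top =
        (p ≫ (X ↘ Spec (CommRingCat.of k))).appLE ⊤ ⊤ le_top :=
      (Scheme.Hom.comp_appLE p (X ↘ Spec (CommRingCat.of k)) ⊤ ⊤ le_top).symm
    rw [h2, hp]
    simp [Scheme.Hom.appLE]
  have h3 := congrArg (fun φ => (Scheme.ΓSpecIso (CommRingCat.of k)).hom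
    (φ ((Scheme.ΓSpecIso (CommRingCat.of k)).inv c))) (congrArg CommRingCat.Hom.hom h1)
  have h4 : (Scheme.ΓSpecIso (CommRingCat.of k)).hom ((Scheme.ΓSpecIso (CommRingCat.of k)).inv c) = c := by
    have := congrArg (fun φ => φ c) (congrArg CommRingCat.Hom.hom (Scheme.ΓSpecIso (CommRingCat.of k)).inv_hom_id)
    exact this
  exact h3.trans h4

theorem mem_basicOpen_iff {k : Type u} [Field k] {X : Scheme.{u}} (p : Spec (CommRingCat.of k) ⟶ X) (U : X.Opens)
    (h : (⊤ : (Spec (CommRingCat.of k)).Opens) ≤ p ⁻¹ᵁ U) (a : Γ(X, U)) :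
    p (IsLocalRing.closedPoint k) ∈ X.basicOpen a ↔ ev p U h a ≠ 0 := by
  have h1 : p ⁻¹ᵁ (X.basicOpen a) = (Spec (CommRingCat.of k)).basicOpen (p.appLE U ⊤ h a) := by
    have := Scheme.Hom.preimage_basicOpen p a
    rw [this]
    have h2 : (p.appLE U ⊤ h a) = (Spec (CommRingCat.of k)).presheaf.map (homOfLE h).op (p.app U a) := rfl
    rw [h2, Scheme.basicOpen_res]
    exact (top_inf_eq _).symm
  have h2 : p (IsLocalRing.closedPoint k) ∈ X.basicOpen a ↔
      (IsLocalRing.closedPoint k : Spec (CommRingCat.of k)) ∈ (Spec (CommRingCat.of k)).basicOpen (p.appLE U ⊤ h a) := by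
    rw [← h1]; rfl
  rw [h2, basicOpen_eq_of_affine' (R := CommRingCat.of k) (p.appLE U ⊤ h a)]
  have h3 : (Scheme.ΓSpecIso (CommRingCat.of k)).hom (p.appLE U ⊤ h a) = ev p U h a := rfl
  rw [h3]
  generalize ev p U h a = b
  have h4 : (IsLocalRing.closedPoint k ∈ PrimeSpectrum.basicOpen b) ↔ b ≠ 0 := by
    rw [PrimeSpectrum.mem_basicOpen]
    have : (IsLocalRing.closedPoint k).asIdeal = ⊥ := IsLocalRing.maximalIdeal_eq_bot
    rw [this, Ideal.mem_bot]
  exact h4

/-- Rational points impose at most one condition each on a complete linear system. Let k be a field, X a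
scheme over k, L an invertible O_X-module, and p_1, …, p_n morphisms Spec k → X over k (k-rational
points). Suppose there are n + 1 global sections of L, given as morphisms t_0, …, t_n : O_X → L,
whose values in Γ(X, L) are linearly independent over k. Then there is a nonzero morphism s : O_X →
L such that no p_i lands in the open X_s where s generates L; that is, s vanishes at every p_i and
the p_i lie on a common member of the complete linear system of L. (The source has X an irreducible
projective variety over the complex numbers, L base-point-free and the points closed, and phrases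
this as surjectivity of the incidence correspondence onto X^n for n at most the dimension of the
linear system; only rationality of the points and the dimension count are used, and
base-point-freeness plays no part in this item.) -/
theorem result
    (k : Type u) [Field k] (X : Scheme.{u}) [X.Over (Spec (CommRingCat.of k))]
    (L : X.Modules) (hL : PicF.IsInvertible L)
    (n : ℕ) (p : Fin n → (Spec (CommRingCat.of k) ⟶ X))
    (hp : ∀ i, p i ≫ (X ↘ Spec (CommRingCat.of k)) = 𝟙 _)
    (t : Fin (n + 1) → (Coh.structureModule X ⟶ L))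
    (ht : LinSer.LinIndep k X L (fun j => (L.unitHomEquiv (t j)).val (op ⊤))) :
    ∃ s : Coh.structureModule X ⟶ L, s ≠ 0 ∧
      ∀ i, (p i) (IsLocalRing.closedPoint k) ∉ CohB1.genLocus L s := by
  have hsec : ∀ s : Coh.structureModule X ⟶ L, (L.unitHomEquiv s).val (op ⊤) = sec s := fun s => rfl
  choose U hU e he using fun i => (isInvertible_iff.mp hL) ((p i) (IsLocalRing.closedPoint k))
  have htop : ∀ i, (⊤ : (Spec (CommRingCat.of k)).Opens) ≤ (p i) ⁻¹ᵁ (U i) := by
    intro i x _
    have : x = IsLocalRing.closedPoint k := Subsingleton.elim (α := PrimeSpectrum k) _ _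
    rw [this]; exact hU i
  choose a ha using fun i j => (he i).exists_eq' (res L (le_top : U i ≤ ⊤) (sec (t j)))
  let T : (Fin (n + 1) → k) →ₗ[k] (Fin n → k) :=
    LinearMap.pi fun i => ∑ j, (ev (p i) (U i) (htop i) (a i j)) • LinearMap.proj j
  obtain ⟨c, hc0, hc⟩ : ∃ c : Fin (n + 1) → k, c ≠ 0 ∧ T c = 0 := by
    have h1 : LinearMap.ker T ≠ ⊥ := LinearMap.ker_ne_bot_of_finrank_lt (by simp)
    obtain ⟨c, hc, hc0⟩ := (Submodule.ne_bot_iff _).mp h1
    exact ⟨c, hc0, hc⟩
  refine ⟨homOfSec L (∑ j, gk k X (c j) • sec (t j)), ?_, ?_⟩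
  · intro h0
    apply hc0
    apply ht
    have h6 : sec (homOfSec L (∑ j, gk k X (c j) • sec (t j))) = 0 := by rw [h0]; rfl
    rw [sec_homOfSec] at h6
    exact h6
  · intro i hi
    have key : (∑ j, resO X (le_top : U i ≤ ⊤) (gk k X (c j)) * a i j) • e i =
        res L (le_top : U i ≤ ⊤) (sec (homOfSec L (∑ j, gk k X (c j) • sec (t j)))) := by
      rw [sec_homOfSec, Finset.sum_smul]
      have h5 : ∀ j, res L (le_top : U i ≤ ⊤) (gk k X (c j) • sec (t j)) = (resO X (le_top : U i ≤ ⊤) (gk k X (c j)) * a i j) • e i := by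
        intro j
        rw [res_smul, ← ha i j, mul_smul]
      simp only [← h5]
      exact (map_sum (L.presheaf.map (homOfLE (le_top : U i ≤ ⊤)).op).hom _ _).symm
    have h1 := genLocus_inf_eq_basicOpen _ (he i) _ key
    have h2 : (p i) (IsLocalRing.closedPoint k) ∈ X.basicOpen
      (∑ j, resO X (le_top : U i ≤ ⊤) (gk k X (c j)) * a i j) := by
      rw [← h1]; exact ⟨hi, hU i⟩
    rw [mem_basicOpen_iff _ _ (htop i)] at h2
    apply h2
    rw [map_sum]
    simp only [map_mul, ev_resO (p i) (hp i)]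
    have := congrFun hc i
    simp only [T, LinearMap.pi_apply, LinearMap.sum_apply, LinearMap.smul_apply, LinearMap.proj_apply, smul_eq_mul, Pi.zero_apply] at this
    rw [← this]
    exact Finset.sum_congr rfl fun j _ => mul_comm _ _

end Groth.Agent.S19968
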