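import Groth.Statements.S19973
import Groth.Agent.AbVar.K530.AlbLarge
import Groth.Agent.S3505

set_option autoImplicit false
universe u
open CategoryTheory MonoidalCategory CartesianMonoidalCategory MonObj GrpObj AlgebraicGeometry CategoryTheory.Limits
open AbVar

namespace Groth.Agent.S19973

/-- Over an algebraically closed field k, let X be an integral separated k-scheme of finite type. Call
large group a commutative separated k-group scheme G locally of finite type given with a connected
open subgroup scheme G⁰ (its neutral component) which is semiabelian: G⁰ has a closed subgroup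
scheme T that is a torus and is the kernel of a flat surjective homomorphism from G⁰ onto an abelian
variety (a proper smooth connected k-group scheme). Then the Albanese scheme of X exists: there are
a large group A and a k-morphism u : X → A which is universal for morphisms to large groups, i.e.
every k-morphism from X to a large group G is u followed by a unique homomorphism A → G. (The
published statement is for any reduced scheme of finite type over a perfect field; this row states
the case of an integral scheme over an algebraically closed field.) -/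
theorem result (k : Type u) [Field k] [IsAlgClosed k]
    (X : Over (Spec (CommRingCat.of k))) [IsIntegral X.left] [IsSeparated X.hom] [QuasiCompact X.hom]
    [LocallyOfFiniteType X.hom] :
    ∃ (A : Over (Spec (CommRingCat.of k))) (_ : GrpObj A) (_ : IsCommMonObj A)
      (A0 : Over (Spec (CommRingCat.of k))) (_ : GrpObj A0) (e₀ : A0 ⟶ A) (_ : IsMonHom e₀)
      (T₀ : Over (Spec (CommRingCat.of k))) (_ : GrpObj T₀) (i₀ : T₀ ⟶ A0) (_ : IsMonHom i₀)
      (B₀ : Over (Spec (CommRingCat.of k))) (_ : GrpObj B₀) (q₀ : A0 ⟶ B₀) (_ : IsMonHom q₀)
      (u : X ⟶ A),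
      IsSeparated A.hom ∧ LocallyOfFiniteType A.hom ∧
      IsOpenImmersion e₀.left ∧ ConnectedSpace ↥A0.left ∧ IsClosedImmersion i₀.left ∧ Red.IsTorus T₀ ∧
      IsProper B₀.hom ∧ Smooth B₀.hom ∧ ConnectedSpace ↥B₀.left ∧
      Surjective q₀.left ∧ Flat q₀.left ∧ AlgGrp.IsKernel i₀ q₀ ∧
      ∀ (G : Over (Spec (CommRingCat.of k))) [GrpObj G] [IsCommMonObj G] [IsSeparated G.hom] [LocallyOfFiniteType G.hom]
      (G0 : Over (Spec (CommRingCat.of k))) [GrpObj G0] (e : G0 ⟶ G) [IsMonHom e] [IsOpenImmersion e.left]
      [ConnectedSpace ↥G0.left]
      (T : Over (Spec (CommRingCat.of k))) [GrpObj T] (i : T ⟶ G0) [IsMonHom i] [IsClosedImmersion i.left]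
      (_ : Red.IsTorus T)
      (B : Over (Spec (CommRingCat.of k))) [GrpObj B] [IsProper B.hom] [Smooth B.hom] [ConnectedSpace ↥B.left]
      (q : G0 ⟶ B) [IsMonHom q] [Surjective q.left] [Flat q.left] (_ : AlgGrp.IsKernel i q)
      (φ : X ⟶ G), ∃! h : A ⟶ G, IsMonHom h ∧ u ≫ h = φ :=
  K530.AlbLarge.main (fun k _ _ X a _ _ _ F hF hord q => Groth.Agent.S3505.result k X a F hF hord q) X

end Groth.Agent.S19973
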