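import Groth.Statements.S19974
import Mathlib.LinearAlgebra.Finsupp.LSum

set_option autoImplicit false
universe u v w x
open scoped BigOperators
open DefMod

namespace Groth.Agent.S19974

/-- Let K be a field of characteristic 0, O a commutative K-algebra with a K-linear derivation δ, and D
the ring of differential operators O[∂], presented abstractly as a K-algebra D with an algebra map ι
: O → D and an element ∂ of D such that ∂ ι(f) = ι(f) ∂ + ι(δ f) for every f in O and such that
every element of D is in a unique way a finite sum of terms ι(f_i) ∂^i. Let E be a left D-module,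
given as a K-vector space with a K-algebra map ρ : D → End_K(E), which is finite free as an
O-module. A K-derivation of D with values in the D-bimodule End_K(E) is a K-linear map s with s(PQ)
= s(P) ρ(Q) + ρ(P) s(Q); a K-derivation of O with values in End_K(E) is a K-linear map r with r(fg)
= r(f) ρ(ι g) + ρ(ι f) r(g). Then: (a) for every K-derivation s of D into End_K(E), the pair (r, v)
= (s ∘ ι, s(∂)) satisfies the identity [r(f), ρ(∂)] + [ρ(ι f), v] + r(δ f) = 0 for all f in O; (b)
conversely, for every K-derivation r of O into End_K(E) and every v in End_K(E) satisfying that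
identity for all f, there is exactly one K-derivation s of D into End_K(E) with s ∘ ι = r and s(∂) =
v. In other words s ↦ (s ∘ ι, s(∂)) maps the K-derivations of D injectively onto the pairs
satisfying the identity. -/
theorem result
    (K : Type u) [Field K] [CharZero K]
    (O : Type v) [CommRing O] [Algebra K O] (δ : Derivation K O O)
    (D : Type w) [Ring D] [Algebra K D] (ι : O →ₐ[K] D) (d : D)
    (hd : ∀ f : O, d * ι f = ι f * d + ι (δ f))
    (hbasis : Function.Bijective (fun c : ℕ →₀ O => c.sum (fun i f => ι f * d ^ i)))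
    (E : Type x) [AddCommGroup E] [Module K E] (ρ : D →ₐ[K] Module.End K E)
    (hE : ∃ (n : ℕ) (b : Fin n → E), Function.Bijective (fun c : Fin n → O => ∑ i, ρ (ι (c i)) (b i))) :
    (∀ s : D →ₗ[K] Module.End K E, (∀ P Q : D, s (P * Q) = s P * ρ Q + ρ P * s Q) →
      ∀ f : O, (s (ι f) * ρ d - ρ d * s (ι f)) + (ρ (ι f) * s d - s d * ρ (ι f)) + s (ι (δ f)) = 0) ∧
    ∀ (r : O →ₗ[K] Module.End K E) (v : Module.End K E),
      (∀ f g : O, r (f * g) = r f * ρ (ι g) + ρ (ι f) * r g) →
      (∀ f : O, (r f * ρ d - ρ d * r f) + (ρ (ι f) * v - v * ρ (ι f)) + r (δ f) = 0) →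
      ∃! s : D →ₗ[K] Module.End K E,
        (∀ P Q : D, s (P * Q) = s P * ρ Q + ρ P * s Q) ∧ s ∘ₗ ι.toLinearMap = r ∧ s d = v := by
  classical
  -- the basis isomorphism
  let B : (ℕ →₀ O) →ₗ[K] D := Finsupp.lsum K (fun i =>
    (LinearMap.mulRight K (d ^ i)) ∘ₗ ι.toLinearMap)
  have hB : ∀ c : ℕ →₀ O, B c = c.sum (fun i f => ι f * d ^ i) := fun c => rfl
  have hBs : ∀ (i : ℕ) (f : O), B (Finsupp.single i f) = ι f * d ^ i := fun i f => by
    rw [hB, Finsupp.sum_single_index (by rw [map_zero, zero_mul])]
  have hBbij : Function.Bijective B := hbasis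
  let e : (ℕ →₀ O) ≃ₗ[K] D := LinearEquiv.ofBijective B hBbij
  have he : ∀ (i : ℕ) (f : O), e.symm (ι f * d ^ i) = Finsupp.single i f := fun i f => by
    rw [LinearEquiv.symm_apply_eq]
    exact (hBs i f).symm
  -- linear induction
  have hlin : ∀ p : D → Prop, (∀ (i : ℕ) (f : O), p (ι f * d ^ i)) →
      (∀ x y, p x → p y → p (x + y)) → ∀ x, p x := by
    intro p h1 h2 x
    obtain ⟨c, rfl⟩ := hBbij.2 x
    induction c using Finsupp.induction_linear with
    | zero =>
      rw [map_zero]
      have := h1 0 0
      rwa [map_zero, zero_mul] at this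
    | add a b ha hb => rw [map_add]; exact h2 _ _ ha hb
    | single i f => rw [hBs]; exact h1 i f
  -- multiplicative induction
  have hind : ∀ p : D → Prop, (∀ f : O, p (ι f)) → p d →
      (∀ x y, p x → p y → p (x + y)) → (∀ x y, p x → p y → p (x * y)) → ∀ x, p x := by
    intro p h1 h2 h3 h4
    refine hlin p (fun i f => h4 _ _ (h1 f) ?_) h3
    induction i with
    | zero => rw [pow_zero, ← map_one ι]; exact h1 1
    | succ i ih => rw [pow_succ]; exact h4 _ _ ih h2
  refine ⟨?_, ?_⟩
  · intro s hs f
    have h := congrArg s (hd f)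
    rw [map_add, hs, hs] at h
    have h2 : s (ι (δ f)) = s d * ρ (ι f) + ρ d * s (ι f) - (s (ι f) * ρ d + ρ (ι f) * s d) := by
      rw [h]; abel
    rw [h2]
    abel
  · intro r v hr hrv
    -- the sequence `v_i = s(d ^ i)`
    let w : ℕ → Module.End K E := fun i => Nat.rec 0 (fun n x => v * ρ d ^ n + ρ d * x) i
    have hw0 : w 0 = 0 := rfl
    have hw : ∀ n, w (n + 1) = v * ρ d ^ n + ρ d * w n := fun n => rfl
    let S : (ℕ →₀ O) →ₗ[K] Module.End K E := Finsupp.lsum K (fun i =>
      (LinearMap.mulRight K (ρ d ^ i)) ∘ₗ r +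
        (LinearMap.mulRight K (w i)) ∘ₗ ρ.toLinearMap ∘ₗ ι.toLinearMap)
    let s : D →ₗ[K] Module.End K E := S ∘ₗ e.symm.toLinearMap
    have hs : ∀ (i : ℕ) (f : O), s (ι f * d ^ i) = r f * ρ d ^ i + ρ (ι f) * w i := by
      intro i f
      change S (e.symm (ι f * d ^ i)) = _
      rw [he, Finsupp.lsum_single]
      rfl
    have hsι : ∀ f : O, s (ι f) = r f := by
      intro f
      have h := hs 0 f
      rwa [pow_zero, pow_zero, mul_one, mul_one, hw0, mul_zero, add_zero] at h
    have hr1 : r 1 = 0 := by
      have h := hr 1 1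
      rw [map_one ι, map_one ρ, mul_one, mul_one, one_mul] at h
      exact left_eq_add.1 h
    have hsd : s d = v := by
      have h := hs 1 1
      have hw1 : w 1 = v := by
        have h0 := hw 0
        rw [hw0, pow_zero, mul_one, mul_zero, add_zero] at h0
        exact h0
      rw [map_one ι, map_one ρ, one_mul, pow_one, pow_one, one_mul, hw1, hr1, zero_mul,
        zero_add] at h
      exact h
    have hρd : ∀ f : O, ρ d * ρ (ι f) = ρ (ι f) * ρ d + ρ (ι (δ f)) := by
      intro f
      rw [← map_mul, hd, map_add, map_mul]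
    have hder : ∀ P Q : D, s (P * Q) = s P * ρ Q + ρ P * s Q := by
      intro P
      refine hind (fun P => ∀ Q : D, s (P * Q) = s P * ρ Q + ρ P * s Q) ?_ ?_ ?_ ?_ P
      · intro f Q
        refine hlin (fun Q => s (ι f * Q) = s (ι f) * ρ Q + ρ (ι f) * s Q) ?_ ?_ Q
        · intro i g
          have h1 : ι f * (ι g * d ^ i) = ι (f * g) * d ^ i := by rw [map_mul, mul_assoc]
          rw [h1, hs, hs, hsι, hr, map_mul ι, map_mul ρ, map_mul ρ, map_pow]
          simp only [add_mul, mul_add, mul_assoc]
          abel
        · intro x y hx hy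
          rw [mul_add, map_add, hx, hy, map_add, map_add, mul_add, mul_add]
          abel
      · intro Q
        refine hlin (fun Q => s (d * Q) = s d * ρ Q + ρ d * s Q) ?_ ?_ Q
        · intro i g
          have h1 : d * (ι g * d ^ i) = ι g * d ^ (i + 1) + ι (δ g) * d ^ i := by
            rw [← mul_assoc, hd, add_mul, mul_assoc, ← pow_succ']
          rw [h1, map_add, hs, hs, hs, hsd, hw, map_mul ρ, map_pow]
          have h2 := hrv g
          have h3 := hρd g
          have h4 : r (δ g) = -((r g * ρ d - ρ d * r g) + (ρ (ι g) * v - v * ρ (ι g))) := by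
            rw [eq_neg_iff_add_eq_zero, add_comm]
            exact h2
          have h5 : ρ (ι (δ g)) = ρ d * ρ (ι g) - ρ (ι g) * ρ d := by
            rw [h3]; abel
          rw [h4, h5, pow_succ']
          simp only [add_mul, mul_add, mul_assoc, sub_mul, neg_mul]
          abel
        · intro x y hx hy
          rw [mul_add, map_add, hx, hy, map_add, map_add, mul_add, mul_add]
          abel
      · intro x y hx hy Q
        rw [add_mul, map_add, hx, hy, map_add, map_add, add_mul, add_mul]
        abel
      · intro x y hx hy Q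
        rw [mul_assoc, hx, hy, hx y, map_mul, map_mul, add_mul, mul_add, mul_assoc, mul_assoc,
          mul_assoc]
        abel
    refine ⟨s, ⟨hder, LinearMap.ext hsι, hsd⟩, ?_⟩
    rintro s' ⟨h1, h2, h3⟩
    refine LinearMap.ext fun x => ?_
    refine hind (fun x => s' x = s x) ?_ ?_ ?_ ?_ x
    · intro f
      rw [hsι, ← h2]
      rfl
    · rw [hsd, h3]
    · intro x y hx hy
      rw [map_add, map_add, hx, hy]
    · intro x y hx hy
      rw [h1, hder, hx, hy]

end Groth.Agent.S19974
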