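import Groth.Statements.S19977
import Groth.Agent.NonAbH1.K554.FamLim

set_option autoImplicit false
universe u
open CategoryTheory CategoryTheory.Limits MonoidalCategory CartesianMonoidalCategory MonObj AlgebraicGeometry
open NonAbH1

namespace Groth.Agent.S19977

/-- Let k be a field and X a quasi-compact and quasi-separated k-scheme. Let (T_i)_{i ∈ I} be a
cofiltered inverse system of X-schemes that are affine over X, with limit T over X (in the source
the T_i are torsors over X under affine k-group schemes of finite type, forming a projective system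
of torsors; only their being affine over the quasi-compact quasi-separated X enters). Let G be a
finite k-group scheme and V → T a finite T-scheme with an action of G ×_k T for which it is a
G-torsor over T for the fpqc topology. Then there exist an index i, a finite T_i-scheme V_i with an
action of G ×_k T_i making it an fpqc G-torsor over T_i, and a G-equivariant isomorphism of
T-schemes between V_i ×_{T_i} T and V; the two base changes of G to T are compared through the
canonical isomorphism (G ×_k T_i) ×_{T_i} T ≅ G ×_k T. (The further assertions — V_i Nori-reduced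
when V is, descent of morphisms of torsors, pointed versions — are not stated.) -/
theorem result (k : Type u) [Field k]
    (X : Scheme.{u}) [X.Over (Spec (CommRingCat.of k))] [CompactSpace X] [QuasiSeparatedSpace X]
    {I : Type u} [SmallCategory I] [IsCofiltered I]
    (DT : I ⥤ Over X) [∀ i, IsAffineHom (DT.obj i).hom]
    (cT : Cone DT) (hcT : IsLimit cT)
    (G : Over (Spec (CommRingCat.of k))) [GrpObj G] [IsFinite G.hom]
    (V : Over cT.pt.left) [IsFinite V.hom]
    (a : AlgGrp.Action (Red.bc (cT.pt.hom ≫ (X ↘ Spec (CommRingCat.of k))) G) V)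
    (hV : NonAbH1.IsTorsorFor Scheme.fpqcPrecoverage a) :
    ∃ (i : I) (h : (cT.π.app i).left ≫ ((DT.obj i).hom ≫ (X ↘ Spec (CommRingCat.of k))) = cT.pt.hom ≫ (X ↘ Spec (CommRingCat.of k)))
      (Vi : Over (DT.obj i).left) (ai : AlgGrp.Action (Red.bc ((DT.obj i).hom ≫ (X ↘ Spec (CommRingCat.of k))) G) Vi),
      IsFinite Vi.hom ∧ NonAbH1.IsTorsorFor Scheme.fpqcPrecoverage ai ∧
      Nonempty (NonAbH1.EquivIso (ai.bc (cT.π.app i).left)
        (a.restrict (ActBC.bcCompIso (cT.π.app i).left ((DT.obj i).hom ≫ (X ↘ Spec (CommRingCat.of k))) G h).hom)) := by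
  have hcon : IsConnected I := IsCofiltered.isConnected I
  let D : I ⥤ Scheme.{u} := DT ⋙ Over.forget X
  let c : Cone D := (Over.forget X).mapCone cT
  have hc : IsLimit c := isLimitOfPreserves (Over.forget X) hcT
  have haff : ∀ (i j : I) (f : i ⟶ j), IsAffineHom (D.map f) := fun i j f => by
    have h1 : (DT.map f).left ≫ (DT.obj j).hom = (DT.obj i).hom := Over.w (DT.map f)
    have h2 : IsAffineHom ((DT.map f).left ≫ (DT.obj j).hom) := by rw [h1]; infer_instance
    exact IsAffineHom.of_comp (DT.map f).left (DT.obj j).hom
  have hcomp : ∀ i, CompactSpace (D.obj i) := fun i => by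
    change CompactSpace (DT.obj i).left
    exact QuasiCompact.compactSpace_of_compactSpace (DT.obj i).hom
  have hqs : ∀ i, QuasiSeparatedSpace (D.obj i) := fun i => by
    change QuasiSeparatedSpace (DT.obj i).left
    exact quasiSeparatedSpace_of_quasiSeparated (DT.obj i).hom
  have hGfl : Flat G.hom := inferInstance
  have hGlfp : LocallyOfFinitePresentation G.hom := LocallyOfFinitePresentation.iff_locallyOfFiniteType.2 inferInstance
  obtain ⟨i, Vi, ai, h1, h2, h3⟩ := @K554.FamLim.exists_torsor_stage I _ _ D c hc haff hcomp hqs _
    (fun i => (DT.obj i).hom ≫ (X ↘ Spec (CommRingCat.of k)))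
    (fun {i j} f => by
      change (DT.map f).left ≫ (DT.obj j).hom ≫ _ = _
      rw [← Category.assoc, Over.w]
      rfl) (cT.pt.hom ≫ (X ↘ Spec (CommRingCat.of k)))
    (fun i => by
      change (cT.π.app i).left ≫ (DT.obj i).hom ≫ _ = _
      rw [← Category.assoc]
      congr 1
      exact Over.w (cT.π.app i)) G _ _ _ _ V ‹IsFinite V.hom› a hV
  exact ⟨i, _, Vi, ai, h1, h2, h3⟩

end Groth.Agent.S19977
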