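import Groth.Statements.S19987
import Groth.Agent.StCoh.K289.GerbCoh

set_option autoImplicit false
universe u
open CategoryTheory CategoryTheory.Limits AlgebraicGeometry
open StCoh

namespace Groth.Agent.S19987

/-- Let k be a field and let 𝒢 be an algebraic stack over k which is an fppf gerbe over Spec k and whose
inertia is finite over 𝒢 (as holds for the residual gerbe of a point of an algebraic stack with
finite inertia). Then H¹(𝒢, ℤ) = 0. Here the cohomology is that of the big fppf site of 𝒢 with
coefficients in the constant sheaf ℤ, the group the argument computes; the displayed étale group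
agrees with it because ℤ is a smooth group scheme. -/
theorem result (k : Type u) [Field k]
    (𝒢 : AlgSt.Cat (Spec (CommRingCat.of k))) (h𝒢 : AlgSt.IsAlgStack Scheme.fppfPrecoverage 𝒢)
    (hger : Gerb.IsGerbe (QuotSh.J Scheme.fppfPrecoverage (Spec (CommRingCat.of k))) 𝒢)
    (hI : AlgSt.RepByAlgSpWith AlgSp.IsFiniteMor (FibCat.inertiaToBase (FibCat.toSelf 𝒢)))
    [StCoh.BaseCont Scheme.fppfPrecoverage 𝒢] :
    Subsingleton (StCoh.H Scheme.fppfPrecoverage (StCoh.const Scheme.fppfPrecoverage 𝒢 ℤ) 1) :=
  K289.GerbCoh.subsingleton_H_one k 𝒢 h𝒢 hger hI ℤ fun n m hn h => by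
    rw [nsmul_eq_mul, mul_eq_zero] at h
    exact h.resolve_left (by exact_mod_cast hn)

end Groth.Agent.S19987
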