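import Groth.Statements.S19988
import Groth.Agent.StCoh.K289.GerbCoh

set_option autoImplicit false
universe u
open CategoryTheory CategoryTheory.Limits AlgebraicGeometry
open StCoh

namespace Groth.Agent.S19988

/-- Let k be a field and let 𝒢 be an algebraic stack over k which is an fppf gerbe over Spec k and whose
inertia is finite over 𝒢 (as holds for the residual gerbe of a point of an algebraic stack with
finite inertia). Then H¹(𝒢, ℚ) = 0 and H²(𝒢, ℚ) = 0. Here the cohomology is that of the big fppf
site of 𝒢 with coefficients in the constant sheaf ℚ, the groups the argument computes; the displayed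
étale groups agree with them because the constant group ℚ is a smooth group scheme. The
identification of H²(𝒢, ℤ) with H¹(𝒢, ℚ/ℤ) that the source deduces from this vanishing is not
restated. -/
theorem result (k : Type u) [Field k]
    (𝒢 : AlgSt.Cat (Spec (CommRingCat.of k))) (h𝒢 : AlgSt.IsAlgStack Scheme.fppfPrecoverage 𝒢)
    (hger : Gerb.IsGerbe (QuotSh.J Scheme.fppfPrecoverage (Spec (CommRingCat.of k))) 𝒢)
    (hI : AlgSt.RepByAlgSpWith AlgSp.IsFiniteMor (FibCat.inertiaToBase (FibCat.toSelf 𝒢)))
    [StCoh.BaseCont Scheme.fppfPrecoverage 𝒢] :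
    Subsingleton (StCoh.H Scheme.fppfPrecoverage (StCoh.const Scheme.fppfPrecoverage 𝒢 ℚ) 1) ∧
      Subsingleton (StCoh.H Scheme.fppfPrecoverage (StCoh.const Scheme.fppfPrecoverage 𝒢 ℚ) 2) :=
  ⟨K289.GerbCoh.subsingleton_H_one k 𝒢 h𝒢 hger hI ℚ (K289.GerbAv.torsionFree (M := ℚ)),
    K289.GerbCoh.subsingleton_H_two k 𝒢 h𝒢 hger hI ℚ⟩

end Groth.Agent.S19988
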