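import Groth.Statements.S19989
import Groth.Agent.StCoh.K289.PicFin2

set_option autoImplicit false
universe u
open CategoryTheory CategoryTheory.Limits AlgebraicGeometry
open StCoh

namespace Groth.Agent.S19989

/-- Let F be a field and let ℋ be a Deligne–Mumford stack over F with quasi-compact and quasi-separated
diagonal which is an fppf gerbe over Spec F. Then Pic(ℋ) is finite. The Picard group is written as
H¹ of the big fppf site of ℋ with coefficients in the multiplicative group (its identification with
the group of isomorphism classes of invertible sheaves is standard and not restated). The published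
lemma is stated inside a chapter whose stacks are separated and of finite type over the field, with
quasi-compact separated diagonal; this row assumes only that the diagonal is quasi-compact and
quasi-separated, which is what makes the automorphism groups of points finite and is all that the
argument uses. -/
theorem result (F : Type u) [Field F]
    (ℋ : AlgSt.Cat (Spec (CommRingCat.of F))) (hDM : AlgSt.IsDM Scheme.fppfPrecoverage ℋ)
    (hqs : AlgSt.IsQuasiSeparatedOver ℋ)
    (hger : Gerb.IsGerbe (QuotSh.J Scheme.fppfPrecoverage (Spec (CommRingCat.of F))) ℋ)
    [StCoh.BaseCont Scheme.fppfPrecoverage ℋ] :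
    Finite (StCoh.H Scheme.fppfPrecoverage (StCoh.Gm Scheme.fppfPrecoverage ℋ) 1) := by
  have hp : FibCat.IsFibGrpd ℋ.p := hDM.1.isStack.1
  obtain ⟨w₀, ⟨e₀⟩⟩ := K289.GerbPt.exists_w₀ hp hger.2.1
  exact K289.PicFin.finite_H hp hger.2.1 hger.2.2 e₀ hDM hqs

end Groth.Agent.S19989
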