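import Groth.Statements.S19990
import Groth.Agent.Gerb.K895.AtlasSmooth
import Groth.Agent.Dix.NeronEllPts
import Mathlib.RingTheory.Finiteness.ModuleFinitePresentation

set_option autoImplicit false
universe u
open CategoryTheory CategoryTheory.Limits AlgebraicGeometry
open Gerb

namespace Groth.Agent.S19990

/-- Let R be a strictly henselian local ring, M a finite abelian group and D(M) the diagonalizable group
scheme over R with character group M. Let ℋ be an algebraic stack over R which is an fppf gerbe over
Spec R, banded by D(M): the automorphism groups of its objects over the identity are identified with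
the points of D(M), compatibly with all morphisms of ℋ. Then ℋ(R) is non-empty: ℋ has an object
lying over Spec R. The published statement is for a gerbe banded by an arbitrary finite linearly
reductive group scheme G over R, and its argument reduces, through rigidification by the connected
diagonalizable part of G, to the vanishing of the degree-two fppf cohomology of R with coefficients
in a product of groups of roots of unity, which the Kummer sequence gives; this row states the
special case G = D(M) of a finite diagonalizable band, to which that Kummer argument applies
directly (bands by non-commutative groups are not available here). -/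
theorem result (R : Type u) [CommRing R]
    [HenselianLocalRing R] [IsSepClosed (IsLocalRing.ResidueField R)] (M : Type) [AddCommGroup M] [Finite M]
    (ℋ : AlgSt.Cat (Spec (CommRingCat.of R))) (hℋ : AlgSt.IsAlgStack Scheme.fppfPrecoverage ℋ)
    (hger : Gerb.IsGerbe (QuotSh.J Scheme.fppfPrecoverage (Spec (CommRingCat.of R))) ℋ)
    (β : Gerb.Banding ℋ (yonedaGrpObj (Red.diag R M))) :
    Nonempty (ℋ.p.Fiber (Over.mk (𝟙 (Spec (CommRingCat.of R))))) := by
  have hfin : Module.Finite R (MonoidAlgebra R (Multiplicative M)) :=
    Module.Finite.of_basis (MonoidAlgebra.basis (Multiplicative M) R)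
  have hfree : Module.Free R (MonoidAlgebra R (Multiplicative M)) :=
    Module.Free.of_basis (MonoidAlgebra.basis (Multiplicative M) R)
  have hfl : Flat (Red.diag R M).hom := by
    change Flat (Spec.map (CommRingCat.ofHom (algebraMap R (MonoidAlgebra R (Multiplicative M)))))
    rw [HasRingHomProperty.Spec_iff (P := @Flat)]
    simp only [CommRingCat.hom_ofHom, RingHom.flat_algebraMap_iff]
    infer_instance
  have hfp : LocallyOfFinitePresentation (Red.diag R M).hom := by
    change LocallyOfFinitePresentation
      (Spec.map (CommRingCat.ofHom (algebraMap R (MonoidAlgebra R (Multiplicative M)))))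
    rw [HasRingHomProperty.Spec_iff (P := @LocallyOfFinitePresentation)]
    have h1 : Module.FinitePresentation R (MonoidAlgebra R (Multiplicative M)) :=
      Module.finitePresentation_of_projective R _
    have h2 : Algebra.FinitePresentation R (MonoidAlgebra R (Multiplicative M)) := inferInstance
    rw [CommRingCat.hom_ofHom, RingHom.finitePresentation_algebraMap]
    exact h2
  obtain ⟨U, x, hx, hx'⟩ := hℋ.atlas
  obtain ⟨h1, h2⟩ := K895.Tri.smooth_surjective_hom hger β hx hx'
  obtain ⟨u, hu⟩ := U.hom.surjective (IsLocalRing.closedPoint R)
  obtain ⟨a, ha, -⟩ := Groth.Agent.Dix.NeronEllPts.exists_section ⟨inferInstance, inferInstance⟩ U.hom u hu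
    Set.univ isOpen_univ trivial
  exact ⟨⟨x.obj (Over.mk (Over.homMk a ha : Over.mk (𝟙 (Spec (CommRingCat.of R))) ⟶ U)), x.w_obj _⟩⟩

end Groth.Agent.S19990
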