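import Groth.Statements.S19991
import Groth.Agent.StCoh.K289.ConstPts
import Groth.Agent.StCoh.K289.LocCA
import Groth.Agent.StCoh.K289.GrpCohCmp

set_option autoImplicit false
open CategoryTheory CategoryTheory.Limits AlgebraicGeometry
open StCoh

namespace Groth.Agent.S19991

open K289.GrpCoch K289.TorsSite K289.BGTors K289.ConstPts K289.LocCA Opposite

section Aux

variable (K : Type) [Field K] (Γ : Type) [Group Γ] [Fintype Γ] [DecidableEq Γ]

noncomputable abbrev Gr : Over (Spec (CommRingCat.of K)) := CoactBr.sp K (ConstGrp.F K Γ)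

noncomputable abbrev X₀ : (AlgSt.BG Scheme.fppfPrecoverage (Gr K Γ)).obj := x₀ (Gr K Γ) Scheme.fppfPrecoverage

theorem h𝒳 : FibCat.IsFibGrpd (AlgSt.BG Scheme.fppfPrecoverage (Gr K Γ)).p :=
  K998.QuotFib.isFibGrpd_quotSt _ _ _

noncomputable def τ : Tors (StCoh.J Scheme.fppfPrecoverage (AlgSt.BG Scheme.fppfPrecoverage (Gr K Γ))) (X₀ K Γ) Γ :=
  tors cpts

/-- sections of `G_m` over the trivial torsor -/
noncomputable def secEquiv [StCoh.BaseCont Scheme.fppfPrecoverage (AlgSt.BG Scheme.fppfPrecoverage (Gr K Γ))] :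
    (StCoh.Gm Scheme.fppfPrecoverage (AlgSt.BG Scheme.fppfPrecoverage (Gr K Γ))).obj.obj (op (X₀ K Γ)) ≃+
      Additive Kˣ :=
  (((sheafToPresheaf _ _ ⋙ (evaluation _ _).obj (op (Over.mk (𝟙 (Spec (CommRingCat.of K)))))).mapIso
    (GmPts.gmShIso Scheme.fppfPrecoverage (Spec (CommRingCat.of K)))).addCommGroupIsoToAddEquiv).trans
    ((AddEquiv.ulift (α := Additive (Γ(Spec (CommRingCat.of K), ⊤))ˣ)).trans
      (MulEquiv.toAdditive (Units.mapEquiv (Scheme.ΓSpecIso (CommRingCat.of K)).commRingCatIsoToRingEquiv.toMulEquiv)))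

theorem rho_eq [StCoh.BaseCont Scheme.fppfPrecoverage (AlgSt.BG Scheme.fppfPrecoverage (Gr K Γ))] (g : Γ)
    (s : (StCoh.Gm Scheme.fppfPrecoverage (AlgSt.BG Scheme.fppfPrecoverage (Gr K Γ))).obj.obj (op (X₀ K Γ))) :
    (τ K Γ).rho _ g s = s := by
  rw [Tors.rho_apply]
  change (CGrpSh2.Gm Scheme.fppfPrecoverage (Spec (CommRingCat.of K))).obj.map ((τ K Γ).a g).base.op s = s
  have h : ((τ K Γ).a g).base = 𝟙 _ := K750.TwistBG.tm_unique _ _
  rw [h, op_id, CategoryTheory.Functor.map_id]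
  rfl

end Aux

theorem result (K : Type) [Field K] [IsSepClosed K]
    (Γ : Type) [Group Γ] [Fintype Γ] [DecidableEq Γ]
    [StCoh.BaseCont Scheme.fppfPrecoverage
      (AlgSt.BG Scheme.fppfPrecoverage (CoactBr.sp K (ConstGrp.F K Γ)))]
    (p : ℕ) (hp : 1 ≤ p) :
    Nonempty (StCoh.H Scheme.fppfPrecoverage
        (StCoh.Gm Scheme.fppfPrecoverage (AlgSt.BG Scheme.fppfPrecoverage (CoactBr.sp K (ConstGrp.F K Γ)))) p ≃+
      groupCohomology (Rep.trivial ℤ Γ (Additive Kˣ)) p) := by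
  obtain ⟨n, rfl⟩ := Nat.exists_eq_add_of_le' hp
  have : Nonempty ((AlgSt.BG Scheme.fppfPrecoverage (Gr K Γ)).p.obj (X₀ K Γ)).left :=
    inferInstanceAs (Nonempty (Spec (CommRingCat.of K)))
  have h1 := comp_ext (τ K Γ) (CAx (h𝒳 K Γ) (X₀ K Γ)) (fun T hT hI h =>
    surjective_step (h𝒳 K Γ) (X₀ K Γ) (fun {V} g _ _ => by
      obtain ⟨v⟩ := ‹Nonempty V›
      obtain ⟨s, hs, -⟩ := Scheme.exists_fac_of_etale_of_isSepClosed (Ω := K) g (𝟙 _) v
        (Subsingleton.elim (α := (Spec (CommRingCat.of K) : Scheme)) _ _)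
      exact ⟨s, hs⟩) hT hI h) (cax_gm (h𝒳 K Γ) (X₀ K Γ)) n
  have h2 := comp_groupCohomology (A := Rep.trivial ℤ Γ (Additive Kˣ)) n
  refine nonempty_equiv (secEquiv K Γ) (fun g a => ?_) h1 h2
  rw [rho_eq]
  rfl

end Groth.Agent.S19991
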