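import Groth.Statements.S19996
import Groth.Agent.WildQuot.K874.OrderCalc
import Mathlib.RingTheory.PowerSeries.Inverse
import Mathlib.Algebra.CharP.Algebra
import Mathlib.Algebra.CharP.Lemmas
import Mathlib.Algebra.Algebra.Basic
import Mathlib.Algebra.Module.LinearMap.End

set_option autoImplicit false
universe u
open WildQuot

namespace Groth.Agent.S19996

/-- Let `k` be a field of characteristic `p > 0`, `A = k[[u]]`, and `σ` a `k`-algebra automorphism of
`A` of order exactly `p` with ramification break `m`, i.e. `σ u - u` has order `m + 1`. Then `p`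
divides `m + 1` if and only if there are a uniformizer `s` of `A` (a power series of order `1`) and
a `σ`-invariant power series `a` with `σ s = s + a`. (The published statement has a third equivalent
condition, that `Spec A` is a torsor under the effective model of the action; this row omits it.) -/
theorem result
    (p : ℕ) [Fact p.Prime] (k : Type u) [Field k] [CharP k p]
    (σ : PowerSeries k ≃ₐ[k] PowerSeries k) (hσp : σ ^ p = 1) (hσ1 : σ ≠ 1)
    (m : ℕ) (hm : (σ PowerSeries.X - PowerSeries.X).order = ((m + 1 : ℕ) : ℕ∞)) :
    p ∣ m + 1 ↔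
      ∃ s a : PowerSeries k, s.order = 1 ∧ σ a = a ∧ σ s = s + a := by
  classical
  have hp : p.Prime := Fact.out
  constructor
  · intro hdvd
    -- `D = σ - 1`, `D ^ p = 0`
    let D : Module.End k (PowerSeries k) := σ.toLinearMap - 1
    have hDap : ∀ y, D y = σ y - y := fun y => rfl
    have hDp : D ^ p = 0 := by
      have : CharP (Module.End k (PowerSeries k)) p :=
        charP_of_injective_algebraMap (algebraMap k (Module.End k (PowerSeries k))).injective p
      have h1 : Commute (σ.toLinearMap : Module.End k (PowerSeries k)) 1 := Commute.one_right _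
      have h2 := sub_pow_char_of_commute (p := p) (x := (σ.toLinearMap : Module.End k (PowerSeries k))) (y := 1) h1
      have h3 : ∀ (i : ℕ) (y : PowerSeries k),
          ((σ.toLinearMap : Module.End k (PowerSeries k)) ^ i) y = (σ ^ i) y := by
        intro i
        induction i with
        | zero => intro y; simp
        | succ i ih =>
          intro y
          rw [pow_succ', pow_succ', Module.End.mul_apply, AlgEquiv.mul_apply, ih]
          rfl
      change (σ.toLinearMap - 1 : Module.End k (PowerSeries k)) ^ p = 0
      rw [h2, one_pow]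
      ext1 y
      rw [LinearMap.sub_apply, h3, hσp]
      simp
    -- the elements `D ^ i X ^ (p - 1)`
    have hord : ∀ i : ℕ, i ≤ p - 1 →
        ((D ^ i) (PowerSeries.X ^ (p - 1))).order = (((p - 1) + i * m : ℕ) : ℕ∞) := by
      intro i
      induction i with
      | zero => intro _; simp
      | succ i ih =>
        intro hi
        have h1 := ih (by omega)
        have h2 : ¬ p ∣ (p - 1) + i * m := by
          intro h
          have h5 : (p - 1) + i * m = (p - 1 - i) + i * (m + 1) := by
            have : i * (m + 1) = i + i * m := by ring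
            rw [this]; omega
          rw [h5] at h
          have h6 : p ∣ p - 1 - i := by
            rw [Nat.dvd_add_left (Dvd.dvd.mul_left hdvd i)] at h
            exact h
          have := Nat.le_of_dvd (by omega) h6
          omega
        have h3 := K874.OrderCalc.order_sub_eq p σ hσp hm h1 h2
        rw [pow_succ', Module.End.mul_apply, hDap, h3]
        congr 1
        ring
    obtain ⟨r, hr⟩ := hdvd
    obtain ⟨q, hq⟩ : ∃ q, p = q + 2 := ⟨p - 2, by have := hp.two_le; omega⟩
    set y := (D ^ q) (PowerSeries.X ^ (p - 1)) with hy
    have hyo : y.order = ((p * (q * r) + 1 : ℕ) : ℕ∞) := by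
      rw [hy, hord q (by omega)]
      congr 1
      have h1 : p * (q * r) = q * (p * r) := by ring
      rw [h1, ← hr, hq]
      have : q + 2 - 1 = q + 1 := by omega
      rw [this]
      ring
    have hDy : D y = (D ^ (p - 1)) (PowerSeries.X ^ (p - 1)) := by
      have : p - 1 = q + 1 := by omega
      rw [hy, ← Module.End.mul_apply, ← pow_succ']
      conv_rhs => rw [this]
      rw [this]
    have hDDy : D (D y) = 0 := by
      rw [hDy, ← Module.End.mul_apply, ← pow_succ', Nat.sub_add_cancel hp.one_le, hDp]
      rfl
    -- the norm
    set x := K874.OrderCalc.nrm p σ with hx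
    have hxo : x.order = (p : ℕ∞) := K874.OrderCalc.order_nrm p σ hσp hm
    have hxσ : σ x = x := K874.OrderCalc.apply_nrm p σ hσp
    have hx0 : x ≠ 0 := by
      intro h
      rw [h, PowerSeries.order_zero] at hxo
      exact ENat.natCast_ne_top _ hxo.symm
    have hxr : (x ^ (q * r)).order = ((p * (q * r) : ℕ) : ℕ∞) := by
      rw [PowerSeries.order_pow, hxo, nsmul_eq_mul]
      push_cast
      ring
    obtain ⟨w, hw, hw0⟩ := K874.OrderCalc.order_eq_iff_exists.mp hxr
    obtain ⟨w', hw', hw0'⟩ := K874.OrderCalc.order_eq_iff_exists.mp hyo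
    have hwu : IsUnit w := by
      rw [PowerSeries.isUnit_iff_constantCoeff, isUnit_iff_ne_zero]; exact hw0
    obtain ⟨wi, hwi⟩ := hwu.exists_right_inv
    let s : PowerSeries k := PowerSeries.X * (wi * w')
    have hs : y = x ^ (q * r) * s := by
      have h1 : x ^ (q * r) * s = PowerSeries.X ^ (p * (q * r) + 1) * (w * wi * w') := by
        rw [hw]; ring
      rw [h1, hwi, one_mul, hw']
    refine ⟨s, σ s - s, ?_, ?_, by ring⟩
    · have h1 : PowerSeries.constantCoeff (wi * w') ≠ 0 := by
        rw [map_mul]
        refine mul_ne_zero ?_ hw0'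
        intro h0
        have := congrArg PowerSeries.constantCoeff hwi
        rw [map_mul, h0, mul_zero, map_one] at this
        exact zero_ne_one this
      have h2 : s.order = ((1 : ℕ) : ℕ∞) := by
        rw [K874.OrderCalc.order_eq_iff_exists]
        exact ⟨wi * w', by rw [pow_one], h1⟩
      simpa using h2
    · have h1 : D y = x ^ (q * r) * (σ s - s) := by
        rw [hDap, hs, map_mul, map_pow, hxσ]; ring
      rw [h1, hDap, map_mul, map_pow, hxσ] at hDDy
      have h2 : x ^ (q * r) * (σ (σ s - s) - (σ s - s)) = 0 := by
        rw [mul_sub]; exact hDDy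
      rcases mul_eq_zero.mp h2 with h3 | h3
      · exact absurd h3 (pow_ne_zero _ hx0)
      · exact sub_eq_zero.mp h3
  · rintro ⟨s, a, hs, ha, hsa⟩
    have hs' : s.order = ((1 : ℕ) : ℕ∞) := by simpa using hs
    have hnd : ¬ p ∣ 1 := by
      intro h
      have := Nat.le_of_dvd one_pos h
      have := hp.two_le
      omega
    have h1 := K874.OrderCalc.order_sub_eq p σ hσp hm hs' hnd
    rw [hsa, add_sub_cancel_left, add_comm 1 m] at h1
    exact K874.OrderCalc.dvd_order_of_fixed p σ hσp hm h1 ha

end Groth.Agent.S19996
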