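import Groth.Statements.S20000
import Groth.Agent.Neron.K491.GaLift

set_option autoImplicit false
universe u
open Neron

namespace Groth.Agent.S20000

open CategoryTheory CategoryTheory.Limits AlgebraicGeometry Groth.Agent.Sga3B.GaPts MonObj in
/-- The core of the argument, over an affine open of affine space. -/
theorem core (κ : Type u) [Field κ]
    (G G'' : Over (Spec (CommRingCat.of κ))) [GrpObj G] [GrpObj G'']
    [LocallyOfFiniteType G.hom] [QuasiCompact G.hom] [LocallyOfFiniteType G''.hom]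
    (q : G ⟶ G'') [IsMonHom q] [Flat q.left] [Surjective q.left]
    (i : Red.Ga (Spec (CommRingCat.of κ)) ⟶ G) [IsMonHom i] (hker : AlgGrp.IsKernel i q)
    (n : ℕ) (W : (AffineSpace (ULift.{u} (Fin n)) (Spec (CommRingCat.of κ))).Opens)
    (hW : IsAffineOpen W) (hne : (W : Set (AffineSpace (ULift.{u} (Fin n)) (Spec (CommRingCat.of κ)))).Nonempty)
    (v : (W : Scheme.{u}) ⟶ G''.left) (hv : DenseRange v.base)
    (hvo : v ≫ G''.hom = W.ι ≫ (AffineSpace (ULift.{u} (Fin n)) (Spec (CommRingCat.of κ)) ↘ Spec (CommRingCat.of κ))) :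
    ∃ (n : ℕ) (V : (AffineSpace (ULift.{u} (Fin n)) (Spec (CommRingCat.of κ))).Opens)
        (ψ : (V : Scheme.{u}) ⟶ G.left),
      (V : Set (AffineSpace (ULift.{u} (Fin n)) (Spec (CommRingCat.of κ)))).Nonempty ∧ DenseRange ψ.base ∧
      ψ ≫ G.hom = V.ι ≫ (AffineSpace (ULift.{u} (Fin n)) (Spec (CommRingCat.of κ)) ↘ Spec (CommRingCat.of κ)) := by
  let S : Scheme.{u} := Spec (CommRingCat.of κ)
  let An : Scheme.{u} := AffineSpace (ULift.{u} (Fin n)) S
  let Am : Scheme.{u} := AffineSpace (ULift.{u} (Fin (n + 1))) S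
  have hqc : QuasiCompact q.left := Groth.Agent.Sga7.H760.FieldHom.quasiCompact_left q
  let B : Type u := Γ(An, W)
  let t : Spec (CommRingCat.of B) ⟶ S := hW.isoSpec.inv ≫ W.ι ≫ (An ↘ S)
  let vv : Over.mk t ⟶ G'' := Over.homMk (hW.isoSpec.inv ≫ v) (by
    change (hW.isoSpec.inv ≫ v) ≫ G''.hom = t
    rw [Category.assoc, hvo])
  obtain ⟨s, hs⟩ := K491.GaLift.exists_lift q i hker t vv
  obtain ⟨w1, w2⟩ := (Groth.Agent.Sga7.H760.KerBc.isKernel_iff i q).1 hker
  let pr : Am ⟶ An := AffineSpace.homOfVector (Am ↘ S)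
    (fun i => AffineSpace.coord S (ULift.up (Fin.castSucc i.down)))
  let V : Am.Opens := pr ⁻¹ᵁ W
  let τ : Over S := Over.mk (V.ι ≫ (Am ↘ S))
  let r : τ ⟶ Over.mk t := Over.homMk ((pr ∣_ W) ≫ hW.isoSpec.hom) (by
    change ((pr ∣_ W) ≫ hW.isoSpec.hom) ≫ hW.isoSpec.inv ≫ W.ι ≫ (An ↘ S) = V.ι ≫ (Am ↘ S)
    rw [Category.assoc, Iso.hom_inv_id_assoc, morphismRestrict_ι_assoc,
      AffineSpace.homOfVector_over])
  let ψ : τ ⟶ G := (r ≫ s) *
    (gaPt τ (V.ι.appTop (AffineSpace.coord S (ULift.up (Fin.last n)))) ≫ i)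
  have key : ∀ (w0 : W) (g0 : G.left), v w0 = q.left g0 → ∃ y : V, ψ.left y = g0 := by
    intro w0 g0 h0
    let P := pullback v q.left
    obtain ⟨p, hp1, hp2⟩ := Scheme.Pullback.exists_preimage_pullback (f := v) (g := q.left) w0 g0 h0
    let TP : Over S := Over.mk (pullback.snd v q.left ≫ G.hom)
    have hPw : pullback.snd v q.left ≫ G.hom = pullback.fst v q.left ≫ W.ι ≫ (An ↘ S) := by
      rw [← Over.w q, ← Category.assoc, ← pullback.condition, Category.assoc, hvo]
    let a : TP ⟶ Over.mk t := Over.homMk (pullback.fst v q.left ≫ hW.isoSpec.hom) (by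
      change (pullback.fst v q.left ≫ hW.isoSpec.hom) ≫ hW.isoSpec.inv ≫ W.ι ≫ (An ↘ S) = _
      rw [Category.assoc, Iso.hom_inv_id_assoc]
      exact hPw.symm)
    let b : TP ⟶ G := Over.homMk (pullback.snd v q.left) rfl
    have hab : a ≫ vv = b ≫ q := by
      ext1
      change (pullback.fst v q.left ≫ hW.isoSpec.hom) ≫ hW.isoSpec.inv ≫ v = pullback.snd v q.left ≫ q.left
      rw [Category.assoc, Iso.hom_inv_id_assoc, pullback.condition]
    obtain ⟨d, hd, -⟩ := w2 TP ((a ≫ s)⁻¹ * b) (by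
      rw [MonObj.mul_comp, GrpObj.inv_comp, Category.assoc, hs, hab, inv_mul_cancel])
    let L : P ⟶ Am := AffineSpace.homOfVector (pullback.snd v q.left ≫ G.hom)
      (fun i => Fin.lastCases (motive := fun _ => Γ(P, ⊤)) (Red.gaFn d)
        (fun i => (pullback.fst v q.left ≫ W.ι).appTop (AffineSpace.coord S (ULift.up i))) i.down)
    have hLpr : L ≫ pr = pullback.fst v q.left ≫ W.ι := by
      apply AffineSpace.hom_ext
      · rw [Category.assoc, AffineSpace.homOfVector_over, AffineSpace.homOfVector_over,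
          Category.assoc, hPw]
      · intro i
        rw [Scheme.Hom.comp_appTop]
        change L.appTop (pr.appTop _) = _
        rw [AffineSpace.homOfVector_appTop_coord, AffineSpace.homOfVector_appTop_coord]
        exact Fin.lastCases_castSucc _
    have hLlast : L.appTop (AffineSpace.coord S (ULift.up (Fin.last n))) = Red.gaFn d := by
      rw [AffineSpace.homOfVector_appTop_coord]
      simp
    have hrange : Set.range L ⊆ Set.range V.ι := by
      rw [Scheme.Opens.range_ι]
      rintro _ ⟨z, rfl⟩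
      change pr (L z) ∈ W
      rw [← Scheme.Hom.comp_apply, hLpr, Scheme.Hom.comp_apply]
      exact (pullback.fst v q.left z).2
    let L' : P ⟶ V := IsOpenImmersion.lift V.ι L hrange
    have hL' : L' ≫ V.ι = L := IsOpenImmersion.lift_fac _ _ _
    let l : TP ⟶ τ := Over.homMk L' (by
      change L' ≫ V.ι ≫ (Am ↘ S) = pullback.snd v q.left ≫ G.hom
      rw [← Category.assoc, hL', AffineSpace.homOfVector_over])
    have hlr : l ≫ r = a := by
      ext1
      change L' ≫ (pr ∣_ W) ≫ hW.isoSpec.hom = pullback.fst v q.left ≫ hW.isoSpec.hom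
      rw [← Category.assoc]
      congr 1
      rw [← cancel_mono W.ι, Category.assoc, morphismRestrict_ι, ← Category.assoc, hL', hLpr]
    have hlψ : l ≫ ψ = b := by
      change l ≫ ((r ≫ s) * (gaPt τ _ ≫ i)) = b
      rw [MonObj.comp_mul, ← Category.assoc, hlr, ← Category.assoc, comp_gaPt]
      have e1 : gaPt TP (l.left.appTop (V.ι.appTop (AffineSpace.coord S (ULift.up (Fin.last n))))) = d := by
        apply gaFn_injective
        rw [gaFn_gaPt, ← hLlast, ← hL', Scheme.Hom.comp_appTop]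
        rfl
      rw [e1, hd, mul_inv_cancel_left]
    refine ⟨L' p, ?_⟩
    have : ψ.left (L' p) = (l ≫ ψ).left p := rfl
    rw [this, hlψ]
    exact hp2
  refine ⟨n + 1, V, ψ.left, ?_, ?_, ?_⟩
  · obtain ⟨w0, hw0⟩ := hne
    obtain ⟨g0, hg0⟩ := q.left.surjective (v ⟨w0, hw0⟩)
    obtain ⟨y, -⟩ := key ⟨w0, hw0⟩ g0 hg0.symm
    exact ⟨y.1, y.2⟩
  · have hN : IsLocallyNoetherian G''.left := LocallyOfFiniteType.isLocallyNoetherian G''.hom
    have hlft : LocallyOfFiniteType q.left := by
      have : LocallyOfFiniteType (q.left ≫ G''.hom) := by rw [Over.w]; infer_instance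
      exact locallyOfFiniteType_of_comp _ G''.hom
    have hlfp : LocallyOfFinitePresentation q.left := inferInstance
    rw [DenseRange, dense_iff_inter_open]
    intro O hO hOne
    have hqO : IsOpen (q.left '' O) := q.left.isOpenMap O hO
    obtain ⟨_, ⟨g0, hg0, h1⟩, w0, rfl⟩ := (dense_iff_inter_open.1 hv) _ hqO (hOne.image _)
    obtain ⟨y, hy⟩ := key w0 g0 h1.symm
    exact ⟨g0, hg0, y, hy⟩
  · exact Over.w ψ

open CategoryTheory AlgebraicGeometry in
/-- Let `κ` be an arbitrary field and `G`, `G''` smooth connected commutative group schemes of finite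
type over `κ`. Let `q : G → G''` be a homomorphism which is flat and surjective, and `i : 𝔾_a → G` a
homomorphism exhibiting the additive group as the kernel of `q` (so `0 → 𝔾_a → G → G'' → 0` is exact
in the fppf topology). If `G''` is unirational, i.e. admits a dominant `κ`-morphism from a nonempty
open subscheme of an affine space over `κ`, then so does `G`. (The published statement allows the
kernel to be any repeated extension of copies of `𝔾_a`; this row is the case of a single copy, from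
which the general case follows by induction on the length.) -/
theorem result
    (κ : Type u) [Field κ]
    (G G'' : Over (Spec (CommRingCat.of κ))) [GrpObj G] [IsCommMonObj G] [GrpObj G''] [IsCommMonObj G'']
    [Smooth G.hom] [LocallyOfFiniteType G.hom] [QuasiCompact G.hom] [ConnectedSpace G.left]
    [Smooth G''.hom] [LocallyOfFiniteType G''.hom] [QuasiCompact G''.hom] [ConnectedSpace G''.left]
    (q : G ⟶ G'') [IsMonHom q] [Flat q.left] (hq : Function.Surjective q.left.base)
    (i : Red.Ga (Spec (CommRingCat.of κ)) ⟶ G) [IsMonHom i] (hker : AlgGrp.IsKernel i q)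
    (huni : ∃ (n : ℕ) (V : (AffineSpace (ULift.{u} (Fin n)) (Spec (CommRingCat.of κ))).Opens)
        (ψ : (V : Scheme.{u}) ⟶ G''.left),
      (V : Set (AffineSpace (ULift.{u} (Fin n)) (Spec (CommRingCat.of κ)))).Nonempty ∧ DenseRange ψ.base ∧
      ψ ≫ G''.hom = V.ι ≫ (AffineSpace (ULift.{u} (Fin n)) (Spec (CommRingCat.of κ)) ↘ Spec (CommRingCat.of κ))) :
    ∃ (n : ℕ) (V : (AffineSpace (ULift.{u} (Fin n)) (Spec (CommRingCat.of κ))).Opens)
        (ψ : (V : Scheme.{u}) ⟶ G.left),
      (V : Set (AffineSpace (ULift.{u} (Fin n)) (Spec (CommRingCat.of κ)))).Nonempty ∧ DenseRange ψ.base ∧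
      ψ ≫ G.hom = V.ι ≫ (AffineSpace (ULift.{u} (Fin n)) (Spec (CommRingCat.of κ)) ↘ Spec (CommRingCat.of κ)) := by
  have hsurj : Surjective q.left := ⟨hq⟩
  obtain ⟨n, V, ψ, ⟨x, hx⟩, hψ, hψo⟩ := huni
  obtain ⟨W, hW, hxW, hWV⟩ := exists_isAffineOpen_mem_and_subset hx
  let An : Scheme.{u} := AffineSpace (ULift.{u} (Fin n)) (Spec (CommRingCat.of κ))
  let j : (W : Scheme.{u}) ⟶ (V : Scheme.{u}) := An.homOfLE hWV
  have hj : DenseRange j := by
    have h1 : Nonempty (V : Scheme.{u}) := ⟨⟨x, hx⟩⟩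
    have h2 : IrreducibleSpace (V : Scheme.{u}) := inferInstance
    have h3 : IsOpen (Set.range j) := j.isOpenEmbedding.isOpen_range
    exact h3.dense ⟨j ⟨x, hxW⟩, Set.mem_range_self _⟩
  refine core κ G G'' q i hker n W hW ⟨x, hxW⟩ (j ≫ ψ) ?_ ?_
  · have := hψ.comp hj ψ.continuous
    exact this
  · rw [Category.assoc, hψo, ← Category.assoc, Scheme.homOfLE_ι]

end Groth.Agent.S20000
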