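import Groth.Statements.S20001
import Groth.Agent.HodgeNum.K882.Steps
-- import your own Groth.Agent.* helpers here

set_option autoImplicit false
universe u
open CategoryTheory CategoryTheory.Limits AlgebraicGeometry
open HodgeNum

namespace Groth.Agent.S20001

open K882.Frame K882.Frame.Vr

/-- The variety with prescribed inner Hodge numbers. -/
theorem exists_vr (k : Type u) [Field k] [IsAlgClosed k] (m : ℕ) (hm : 2 ≤ m) (n : ℕ) (hn : n ≤ 3) (V : Vr k n)
    (a : ℕ → ℕ → ℤ) (ha : ∀ p q : ℕ, 1 ≤ p → p + 1 ≤ n → 1 ≤ q → q + 1 ≤ n → a p q = a (n - p) (n - q)) :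
    ∃ (V' : Vr k n) (d : ℕ → ℕ), Step d V' V ∧ d 0 = 0 ∧ d n = 0 ∧
      ∀ p q : ℕ, 1 ≤ p → p + 1 ≤ n → 1 ≤ q → q + 1 ≤ n → ((V'.h p q : ℤ) : ZMod m) = (a p q : ZMod m) := by
  -- it is enough to treat `p = 1`
  suffices H : ∃ (V' : Vr k n) (d : ℕ → ℕ), Step d V' V ∧ d 0 = 0 ∧ d n = 0 ∧
      ∀ q : ℕ, 1 ≤ q → q + 1 ≤ n → ((V'.h 1 q : ℤ) : ZMod m) = (a 1 q : ZMod m) by
    obtain ⟨V', d, h1, h2, h3, h4⟩ := H
    refine ⟨V', d, h1, h2, h3, fun p q hp hp' hq hq' => ?_⟩
    by_cases hp1 : p = 1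
    · subst hp1
      exact h4 q hq hq'
    · have h5 : n - p = 1 := by omega
      rw [V'.h_dual (by omega) (by omega), ha p q hp hp' hq hq', h5]
      exact h4 _ (by omega) (by omega)
  rcases Nat.lt_or_ge n 2 with h2 | h2
  · exact ⟨V, _, Step.refl V, rfl, rfl, fun q h h' => by omega⟩
  have hA : ∀ (r : ℕ) (_ : 1 ≤ r) (V : Vr k (r + 1)), ∃ V' : Vr k (r + 1),
      Step (fun q => if q = 1 then 1 else 0) V' V := fun r hr V => by
    obtain ⟨V', -, h, -⟩ := K882.Steps.exists_point_blow hr V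
    exact ⟨V', h⟩
  obtain rfl | rfl : n = 2 ∨ n = 3 := by omega
  · obtain ⟨c, hc⟩ := exists_nat m hm (a 1 1 - V.h 1 1)
    obtain ⟨V', h⟩ := Step.iterate (hA 1 le_rfl) c V
    refine ⟨V', _, h, by simp, by simp, fun q hq hq' => ?_⟩
    obtain rfl : q = 1 := by omega
    have e1 : V'.h 1 1 = V.h 1 1 + c := by simpa using h.2.2 1
    rw [e1, Nat.cast_add, Int.cast_add, hc]
    push_cast
    ring
  · obtain ⟨c, hc⟩ := exists_nat m hm (a 1 2 - V.h 1 2)
    obtain ⟨V₁, h₁⟩ := Step.iterate (K882.Steps.exists_AB (k := k) (s := 1) le_rfl) c V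
    obtain ⟨e, he⟩ := exists_nat m hm (a 1 1 - V₁.h 1 1)
    obtain ⟨V', h⟩ := Step.iterate (hA 2 (by omega)) e V₁
    refine ⟨V', _, h.trans h₁, by simp, by simp, fun q hq hq' => ?_⟩
    obtain rfl | rfl : q = 1 ∨ q = 2 := by omega
    · have e1 : V'.h 1 1 = V₁.h 1 1 + e := by simpa using h.2.2 1
      rw [e1, Nat.cast_add, Int.cast_add, he]
      push_cast
      ring
    · have e1 : V'.h 1 2 = V₁.h 1 2 := by simpa using h.2.2 2
      have e2 : V₁.h 1 2 = V.h 1 2 + c := by simpa using h₁.2.2 2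
      rw [e1, e2, Nat.cast_add, Int.cast_add, hc]
      push_cast
      ring

/-- Case n ≤ 3: let k be an algebraically closed field of characteristic p > 0, m ≥ 2, n ≤ 3, and X a
smooth projective k-variety of dimension n (an integral k-scheme, smooth of relative dimension n
over k, with a closed immersion into some P^N_k over k). Let a p q, for 1 ≤ p, q ≤ n - 1, be
integers with a p q = a (n - p) (n - q). Then there is a smooth projective k-variety X' of dimension
n together with a k-morphism π : X' → X restricting to an isomorphism over a nonempty open subset of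
X, such that dim_k H^q(X', E') ≡ a p q (mod m) for all 1 ≤ p, q ≤ n - 1 and every p-th exterior
power E' of Ω_{X'/k}, while for the outer indices (p = 0, q = 0, p = n or q = n) the numbers dim_k
H^q of the p-th exterior powers of the sheaves of differentials of X' and X are congruent modulo m.
(The published statement is for every n, where its proof uses an input from the research literature
for the indices 2 ≤ r ≤ n - 2; for n ≤ 3 that range is empty. It obtains X' by a sequence of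
blow-ups in smooth centres; this row records a birational k-morphism and the resulting invariance of
the outer Hodge numbers modulo m.) -/
theorem result (k : Type u) [Field k] [IsAlgClosed k]
    (pc : ℕ) [Fact pc.Prime] [CharP k pc] (m : ℕ) (hm : 2 ≤ m) (n : ℕ) (hn : n ≤ 3) (N : ℕ)
    (X : Scheme.{u}) [X.Over (Spec (CommRingCat.of k))] [IsIntegral X]
    [SmoothOfRelativeDimension n (X ↘ Spec (CommRingCat.of k))]
    (ι : X ⟶ CohB1.ProjSpace N k) [IsClosedImmersion ι] (hι : ι ≫ CohB1.ProjSpace.toSpec N k = X ↘ Spec (CommRingCat.of k))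
    (a : ℕ → ℕ → ℤ) (ha : ∀ p q : ℕ, 1 ≤ p → p + 1 ≤ n → 1 ≤ q → q + 1 ≤ n → a p q = a (n - p) (n - q)) :
    ∃ (X' : Scheme.{u}) (hX' : X'.Over (Spec (CommRingCat.of k))) (N' : ℕ) (ι' : X' ⟶ CohB1.ProjSpace N' k) (π : X' ⟶ X) (U : X.Opens),
      IsIntegral X' ∧ SmoothOfRelativeDimension n (X' ↘ Spec (CommRingCat.of k)) ∧ IsClosedImmersion ι' ∧
      ι' ≫ CohB1.ProjSpace.toSpec N' k = X' ↘ Spec (CommRingCat.of k) ∧ π ≫ (X ↘ Spec (CommRingCat.of k)) = X' ↘ Spec (CommRingCat.of k) ∧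
      (U : Set X).Nonempty ∧ IsIso (π ∣_ U) ∧
      (∀ p q : ℕ, 1 ≤ p → p + 1 ≤ n → 1 ≤ q → q + 1 ≤ n →
        ∀ E' : X'.Modules, ExtPow.IsExtPow p (Omega.sheaf (X' ↘ Spec (CommRingCat.of k))) E' →
          ((Module.finrank k (Coh.HH X' E' q) : ℤ) : ZMod m) = (a p q : ZMod m)) ∧
      (∀ p q : ℕ, p ≤ n → q ≤ n → (p = 0 ∨ q = 0 ∨ p = n ∨ q = n) →
        ∀ E' : X'.Modules, ExtPow.IsExtPow p (Omega.sheaf (X' ↘ Spec (CommRingCat.of k))) E' →
        ∀ E : X.Modules, ExtPow.IsExtPow p (Omega.sheaf (X ↘ Spec (CommRingCat.of k))) E →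
          ((Module.finrank k (Coh.HH X' E' q) : ℤ) : ZMod m) = ((Module.finrank k (Coh.HH X E q) : ℤ) : ZMod m)) := by
  obtain ⟨V', d, h, h0, hd, hin⟩ := exists_vr k m hm n hn (mk' (n := n) X ι hι) a ha
  obtain ⟨π, hπ, U, hU, hiso⟩ := h.1
  refine ⟨V'.X, inferInstance, V'.N, V'.ι, π, U, V'.int, V'.sm, V'.ci, V'.hι, hπ, hU, hiso, ?_, ?_⟩
  · intro p q hp hp' hq hq' E' hE'
    rw [← hin p q hp hp' hq hq']
    exact congrArg (fun t : ℕ => ((t : ℤ) : ZMod m)) (V'.hd_eq hE' q)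
  · intro p q hp hq hpq E' hE' E hE
    rw [finrank_mk' (n := n) X ι hι hE q, ← h.outer h0 hd hn hp hq hpq]
    exact congrArg (fun t : ℕ => ((t : ℤ) : ZMod m)) (V'.hd_eq hE' q)

end Groth.Agent.S20001
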