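import Groth.Statements.S20002
import Groth.Agent.HodgeNum.K41.HodgeOuter
import Groth.Agent.S16278
import Groth.Agent.S20001

set_option autoImplicit false
universe u
open CategoryTheory CategoryTheory.Limits AlgebraicGeometry
open HodgeNum

namespace Groth.Agent.S20002

/-- Case n ≤ 3: let k be an algebraically closed field of characteristic p > 0, m ≥ 2 and n ≤ 3
integers, and a p q (0 ≤ p, q ≤ n) integers with a 0 0 = 1 and a p q = a (n - p) (n - q). Then there
is a smooth projective k-variety X of dimension n — an integral k-scheme, smooth of relative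
dimension n over k, with a closed immersion into some P^N_k over k — such that for all 0 ≤ p, q ≤ n
and every p-th exterior power E of Ω_{X/k}, dim_k H^q(X, E) ≡ a p q (mod m). (The published
statement is for every n; for n ≥ 4 its proof uses an input from the research literature, absent for
n ≤ 3.) -/
theorem result (k : Type u) [Field k] [IsAlgClosed k]
    (pc : ℕ) [Fact pc.Prime] [CharP k pc] (m : ℕ) (hm : 2 ≤ m) (n : ℕ) (hn : n ≤ 3)
    (a : ℕ → ℕ → ℤ) (h00 : a 0 0 = 1) (ha : ∀ p q : ℕ, p ≤ n → q ≤ n → a p q = a (n - p) (n - q)) :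
    ∃ (X : Scheme.{u}) (hX : X.Over (Spec (CommRingCat.of k))) (N : ℕ) (ι : X ⟶ CohB1.ProjSpace N k),
      IsIntegral X ∧ SmoothOfRelativeDimension n (X ↘ Spec (CommRingCat.of k)) ∧ IsClosedImmersion ι ∧
      ι ≫ CohB1.ProjSpace.toSpec N k = X ↘ Spec (CommRingCat.of k) ∧
      (∀ p q : ℕ, p ≤ n → q ≤ n → ∀ E : X.Modules, ExtPow.IsExtPow p (Omega.sheaf (X ↘ Spec (CommRingCat.of k))) E →
        ((Module.finrank k (Coh.HH X E q) : ℤ) : ZMod m) = (a p q : ZMod m)) := by
  obtain ⟨X, hX, N, ι, hint, hsm, hcl, hι, h1, h2⟩ := S16278.result k pc m hm n (fun i => a i 0) (fun i => a 0 i)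
    (fun _ => by
      have h := ha n 0 le_rfl (Nat.zero_le _)
      rwa [Nat.sub_self, Nat.sub_zero] at h)
  have := K41.HodgeOuter.isProper_of_closed k N ι hι
  have hout := fun p q hp hq hpq E hE => K41.HodgeOuter.outer k n N ι hι m a h00 ha h1 h2 p q hp hq hpq (E := E) hE
  obtain ⟨X', hX', N', ι', π, U, hint', hsm', hcl', hι', hπ, hU, hiso, h3, h4⟩ :=
    S20001.result k pc m hm n hn N X ι hι a (fun p q _ hp _ hq => ha p q (by omega) (by omega))
  refine ⟨X', hX', N', ι', hint', hsm', hcl', hι', fun p q hp hq E hE => ?_⟩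
  by_cases hpq : p = 0 ∨ q = 0 ∨ p = n ∨ q = n
  · obtain ⟨E₀, hE₀⟩ := K41.HodgeOuter.exists_isExtPow k (X := X) n p
    rw [h4 p q hp hq hpq E hE E₀ hE₀, hout p q hp hq hpq E₀ hE₀]
  · push Not at hpq
    exact h3 p q (by omega) (by omega) (by omega) (by omega) E hE

end Groth.Agent.S20002
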