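import Groth.Statements.S20005
import Groth.Agent.HodgeNum.K882.PointStep
-- import your own Groth.Agent.* helpers here

set_option autoImplicit false
universe u
open CategoryTheory CategoryTheory.Limits AlgebraicGeometry
open HodgeNum

namespace Groth.Agent.S20005

open K882.Frame K882.Frame.Vr

/-- Suppose k is an algebraically closed field with positive characteristic p, fix integers m ≥ 2 and n
≥ 2, and take an n-dimensional smooth projective k-variety X (encoded as an integral k-scheme that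
is smooth of relative dimension n over k and admits a closed immersion over k into some P^N_k).
Assume r is either 1 or n - 1, and let b be any integer. Then one can find another n-dimensional
smooth projective k-variety X' together with a k-morphism π : X' → X that becomes an isomorphism
above some nonempty open subset of X, with the following property. Write h^{p,q} for the k-dimension
of H^q of any sheaf that is a p-th exterior power of Ω, the differentials of the variety over k.
Then modulo m we have h^{r,1}(X') ≡ h^{r,1}(X) + b and h^{1,r}(X') ≡ h^{1,r}(X) + b, whereas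
h^{p,1}(X') ≡ h^{p,1}(X) and h^{1,p}(X') ≡ h^{1,p}(X) whenever r < p ≤ n. (In the published version
r may be any value with 1 ≤ r ≤ n − 1, and h^{r,1}, h^{1,r} receive independent shifts b, c, which
coincide when r ∈ {1, n − 1}; the cases 2 ≤ r ≤ n − 2 depend on an input from the research
literature and are omitted here. The source constructs X' through successive blow-ups along smooth
centres; this row only records a birational k-morphism.) -/
theorem result (k : Type u) [Field k] [IsAlgClosed k]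
    (pc : ℕ) [Fact pc.Prime] [CharP k pc] (m : ℕ) (hm : 2 ≤ m) (n : ℕ) (hn : 2 ≤ n) (N : ℕ)
    (X : Scheme.{u}) [X.Over (Spec (CommRingCat.of k))] [IsIntegral X]
    [SmoothOfRelativeDimension n (X ↘ Spec (CommRingCat.of k))]
    (ι : X ⟶ CohB1.ProjSpace N k) [IsClosedImmersion ι] (hι : ι ≫ CohB1.ProjSpace.toSpec N k = X ↘ Spec (CommRingCat.of k))
    (r : ℕ) (hr : r = 1 ∨ r + 1 = n) (b : ℤ) :
    ∃ (X' : Scheme.{u}) (hX' : X'.Over (Spec (CommRingCat.of k))) (N' : ℕ) (ι' : X' ⟶ CohB1.ProjSpace N' k) (π : X' ⟶ X) (U : X.Opens),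
      IsIntegral X' ∧ SmoothOfRelativeDimension n (X' ↘ Spec (CommRingCat.of k)) ∧ IsClosedImmersion ι' ∧
      ι' ≫ CohB1.ProjSpace.toSpec N' k = X' ↘ Spec (CommRingCat.of k) ∧ π ≫ (X ↘ Spec (CommRingCat.of k)) = X' ↘ Spec (CommRingCat.of k) ∧
      (U : Set X).Nonempty ∧ IsIso (π ∣_ U) ∧
      (∀ E' : X'.Modules, ExtPow.IsExtPow r (Omega.sheaf (X' ↘ Spec (CommRingCat.of k))) E' →
        ∀ E : X.Modules, ExtPow.IsExtPow r (Omega.sheaf (X ↘ Spec (CommRingCat.of k))) E →
          ((Module.finrank k (Coh.HH X' E' 1) : ℤ) : ZMod m) = ((Module.finrank k (Coh.HH X E 1) : ℤ) : ZMod m) + (b : ZMod m)) ∧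
      (∀ E' : X'.Modules, ExtPow.IsExtPow 1 (Omega.sheaf (X' ↘ Spec (CommRingCat.of k))) E' →
        ∀ E : X.Modules, ExtPow.IsExtPow 1 (Omega.sheaf (X ↘ Spec (CommRingCat.of k))) E →
          ((Module.finrank k (Coh.HH X' E' r) : ℤ) : ZMod m) = ((Module.finrank k (Coh.HH X E r) : ℤ) : ZMod m) + (b : ZMod m)) ∧
      (∀ p : ℕ, r < p → p ≤ n →
        (∀ E' : X'.Modules, ExtPow.IsExtPow p (Omega.sheaf (X' ↘ Spec (CommRingCat.of k))) E' →
          ∀ E : X.Modules, ExtPow.IsExtPow p (Omega.sheaf (X ↘ Spec (CommRingCat.of k))) E →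
            ((Module.finrank k (Coh.HH X' E' 1) : ℤ) : ZMod m) = ((Module.finrank k (Coh.HH X E 1) : ℤ) : ZMod m)) ∧
        (∀ E' : X'.Modules, ExtPow.IsExtPow 1 (Omega.sheaf (X' ↘ Spec (CommRingCat.of k))) E' →
          ∀ E : X.Modules, ExtPow.IsExtPow 1 (Omega.sheaf (X ↘ Spec (CommRingCat.of k))) E →
            ((Module.finrank k (Coh.HH X' E' p) : ℤ) : ZMod m) = ((Module.finrank k (Coh.HH X E p) : ℤ) : ZMod m))) := by
  obtain ⟨s, rfl⟩ : ∃ s, n = s + 1 := ⟨n - 1, by omega⟩
  obtain ⟨V', ⟨π, hπ, U, hU, hiso⟩, h1, h2, h3⟩ :=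
    K882.Second.exists_good (k := k) (fun V => K882.PointStep.exists_pstep V) m hm hn r hr b (mk' (n := s + 1) X ι hι)
  refine ⟨V'.X, inferInstance, V'.N, V'.ι, π, U, V'.int, V'.sm, V'.ci, V'.hι, hπ, hU, hiso, ?_, ?_, ?_⟩
  · intro E' hE' E hE
    rw [finrank_mk' (n := s + 1) X ι hι hE 1, ← h1]
    exact congrArg (fun t : ℕ => ((t : ℤ) : ZMod m)) (V'.hd_eq hE' 1)
  · intro E' hE' E hE
    rw [finrank_mk' (n := s + 1) X ι hι hE r, ← h2]
    exact congrArg (fun t : ℕ => ((t : ℤ) : ZMod m)) (V'.hd_eq hE' r)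
  · intro p hp hp'
    refine ⟨fun E' hE' E hE => ?_, fun E' hE' E hE => ?_⟩
    · rw [finrank_mk' (n := s + 1) X ι hι hE 1, ← (h3 p hp hp').1]
      exact congrArg (fun t : ℕ => ((t : ℤ) : ZMod m)) (V'.hd_eq hE' 1)
    · rw [finrank_mk' (n := s + 1) X ι hι hE p, ← (h3 p hp hp').2]
      exact congrArg (fun t : ℕ => ((t : ℤ) : ZMod m)) (V'.hd_eq hE' p)

end Groth.Agent.S20005
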