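import Groth.Statements.S20007
import Groth.Agent.GIT.K690.GLnRep
import Groth.Agent.S18976

set_option autoImplicit false
universe u
open CategoryTheory MonoidalCategory CartesianMonoidalCategory MonObj AlgebraicGeometry
open GIT

namespace Groth.Agent.S20007

open K690.LocSec K690.Torsor K690.TorsorTower K690.EqMat K690.GLnRep K690.Chart CoactBr
  AlgGrp.Action

/-- The torsor has a section over a neighbourhood of every point. -/
lemma exists_section (k : Type u) [Field k] (n : ℕ)
    (X Y : Over (Spec (CommRingCat.of k)))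
    (a : AlgGrp.Action (FrB.GLn n (Spec (CommRingCat.of k))) X) (φ : X ⟶ Y)
    (hcart : IsPullback a.act (snd (FrB.GLn n (Spec (CommRingCat.of k))) X) φ φ)
    [IsAffineHom φ.left] [Flat φ.left] [Surjective φ.left] (y : Y.left) :
    ∃ (B : Type u) (_ : CommRing B) (_ : Algebra k B) (j : sp k B ⟶ Y) (s : sp k B ⟶ X),
      IsOpenImmersion j.left ∧ y ∈ Set.range j.left ∧ s ≫ φ = j := by
  obtain ⟨B, _, _, R, _, _, β, j, jX, M, hj, hy, hpb, hM, heq⟩ :=
    exists_equivMat hcart (frbRep k n) y
  have hleft := hpb.map (Over.forget _)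
  have hfl : Flat (pt β).left := MorphismProperty.of_isPullback (P := @Flat) hleft ‹_›
  have hsu : Surjective (pt β).left :=
    MorphismProperty.of_isPullback (P := @Surjective) hleft ‹_›
  have haff : QuasiCompact (pt β).left :=
    inferInstanceAs (QuasiCompact (Spec.map (CommRingCat.ofHom β.toRingHom)))
  have hLS : LS (pt β).left := K690.NormalTors.ls_of_flat _
  have hMi : IsUnit (M⁻¹).det := by
    rw [Matrix.det_nonsing_inv]
    exact hM.ringInverse
  obtain ⟨g₀, hg₀⟩ := frbRep_exists (k := k) hMi
  let s' : sp k R ⟶ X := lift g₀ jX ≫ a.act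
  have hs' : ∀ (T : Over (Spec (CommRingCat.of k))) (a₁ a₂ : T ⟶ sp k R),
      a₁ ≫ pt β = a₂ ≫ pt β → a₁ ≫ s' = a₂ ≫ s' := by
    intro T a₁ a₂ h
    apply hom_ext_sp
    intro C _ _ t
    obtain ⟨x, hx⟩ := exists_pt (t ≫ a₁)
    obtain ⟨x', hx'⟩ := exists_pt (t ≫ a₂)
    suffices hsuf : pt x ≫ s' = pt x' ≫ s' by
      rw [← Category.assoc t a₁, ← Category.assoc t a₂, ← hx, ← hx']
      exact hsuf
    have h1 : (pt x ≫ jX) ≫ φ = (pt x' ≫ jX) ≫ φ := by
      have h0 : pt x ≫ pt β = pt x' ≫ pt β := by
        rw [hx, hx', Category.assoc, Category.assoc, h]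
      rw [Category.assoc, Category.assoc, hpb.w, ← Category.assoc, ← Category.assoc, h0]
    obtain ⟨g, hg, -⟩ := ((isPullback_act_iff a φ).1 hcart).2 _ _ _ h1
    change lift g (pt x' ≫ jX) ≫ a.act = pt x ≫ jX at hg
    have h2 := heq C g x x' hg
    have h3 : (pt x ≫ g₀) * g = pt x' ≫ g₀ := by
      apply frbRep_injective
      rw [(frbRep k n).c_mul, ← (frbRep k n).c_map, ← (frbRep k n).c_map, hg₀]
      have e1 : ∀ z : R →ₐ[k] C, (M⁻¹).map z = (M.map z)⁻¹ := by
        intro z
        symm
        apply Matrix.inv_eq_left_inv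
        rw [← Matrix.map_mul, Matrix.nonsing_inv_mul M hM]
        exact Matrix.map_one _ (map_zero z) (map_one z)
      have e2 : ∀ z : R →ₐ[k] C, IsUnit (M.map z).det := by
        intro z
        have : (M.map z).det = z M.det := (RingHom.map_det z.toRingHom M).symm
        rw [this]
        exact hM.map z
      rw [e1, e1]
      symm
      apply Matrix.inv_eq_left_inv
      rw [_root_.mul_assoc, h2, Matrix.nonsing_inv_mul _ (e2 x)]
    change pt x ≫ lift g₀ jX ≫ a.act = pt x' ≫ lift g₀ jX ≫ a.act
    rw [comp_lift_assoc, comp_lift_assoc, ← h3, lift_mul_act, hg]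
  obtain ⟨s, hs⟩ := exists_desc (pt β) hLS s' hs'
  refine ⟨B, inferInstance, inferInstance, j, s, hj, hy, ?_⟩
  have := epi_of_ls (pt β) hLS
  rw [← cancel_epi (pt β), ← Category.assoc, hs, ← hpb.w]
  exact invariant_pt hcart.w g₀ jX

/-- The general linear group is special. Over an algebraically closed field k of characteristic zero,
let n be a natural number and let the group scheme GL_{n,k} (the general linear group over Spec k)
act on a k-scheme X; let φ : X → Y be a GL_{n,k}-torsor over the k-scheme Y: the square formed by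
the action, the second projection GL_{n,k} ×_k X → X and φ twice is cartesian, and φ acquires
sections on the members of some fpqc covering family of Y. Then φ is locally trivial: it acquires
sections on the members of some Zariski open covering of Y. (The statement holds over any base; the
ground field is the standing one of the text.) -/
theorem result
    (k : Type u) [Field k] [IsAlgClosed k] [CharZero k] (n : ℕ)
    (X Y : Over (Spec (CommRingCat.of k)))
    (a : AlgGrp.Action (FrB.GLn n (Spec (CommRingCat.of k))) X) (φ : X ⟶ Y)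
    (hcart : IsPullback a.act (snd (FrB.GLn n (Spec (CommRingCat.of k))) X) φ φ)
    (hloc : NonAbH1.IsLocallyTrivialFor Scheme.fpqcPrecoverage (Over.mk φ.left : Over Y.left)) :
    NonAbH1.IsLocallyTrivialFor Scheme.zariskiPrecoverage (Over.mk φ.left : Over Y.left) := by
  have hG : IsAffineHom (FrB.GLn n (Spec (CommRingCat.of k))).hom :=
    MorphismProperty.pullback_snd (P := @IsAffineHom) _ _
      (inferInstanceAs (IsAffineHom (Spec.map (CommRingCat.ofHom (algebraMap (ULift.{u} ℤ)
        (CoordGrp.GLn n (ULift.{u} ℤ)))))))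
  have hGf : Flat (FrB.GLn n (Spec (CommRingCat.of k))).hom := inferInstance
  have h1 : IsAffineHom φ.left := K690.GeomQuot.prop_of_torsor @IsAffineHom hcart hloc hG
  have := Groth.Agent.S18976.flat_descends
  have h2 : Flat φ.left := K690.GeomQuot.prop_of_torsor @Flat hcart hloc hGf
  have h3 : Surjective φ.left := LS.surjective hloc
  choose B hB hB' j s hj hy hs using fun y => exists_section k n X Y a φ hcart y
  refine ⟨Presieve.ofArrows (fun y => Spec (CommRingCat.of (B y))) (fun y => (j y).left), ?_, ?_⟩
  · rw [Scheme.zariskiPrecoverage, Scheme.ofArrows_mem_precoverage_iff]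
    exact ⟨fun y => ⟨y, hy y⟩, fun y => hj y⟩
  · rintro S' f ⟨y⟩
    exact ⟨(s y).left, by
      rw [← hs y]
      rfl⟩

end Groth.Agent.S20007
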