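import Groth.Statements.S20009
import Groth.Agent.NRQuot.K764.Geom
import Groth.Agent.NRQuot.K764.Unip
import Groth.Agent.NonAbH1.K554.Fpqc2
import Groth.Agent.S11430
import Groth.Agent.S18982
import Groth.Agent.S18986

set_option autoImplicit false
universe u
open CategoryTheory MonoidalCategory CartesianMonoidalCategory MonObj AlgebraicGeometry
open NRQuot

namespace Groth.Agent.S20009

/-- Over an algebraically closed field k of characteristic zero, let U be a unipotent group — an affine
smooth connected group scheme of finite type over k containing no non-trivial subtorus — acting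
freely on a separated k-scheme X of finite type: the morphism U ×_k X → X ×_k X formed by the action
and the second projection is a closed immersion. Let φ : X → Y be a good quotient (affine and
invariant, the functions on every open of Y are exactly the invariant functions on its preimage,
invariant closed subsets have closed images, and images commute with intersections of families of
invariant closed subsets), with Y separated and of finite type over k. Then φ is a locally trivial
U-torsor: the square formed by the action, the second projection U ×_k X → X and φ twice is
cartesian, and φ acquires sections on the members of some Zariski open covering of Y. (The published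
statement does not mention hypotheses on Y; the argument it rests on is stated for Y separated of
finite type over k, which this row assumes.) -/
theorem result
    (k : Type u) [Field k] [IsAlgClosed k] [CharZero k]
    (G X Y : Over (Spec (CommRingCat.of k))) [GrpObj G] [IsAffine G.left] [LocallyOfFiniteType G.hom]
    [Smooth G.hom] [ConnectedSpace G.left] (hG : Red.HasNoSubtorus k G)
    [LocallyOfFiniteType X.hom] [QuasiCompact X.hom] [IsSeparated X.hom]
    [LocallyOfFiniteType Y.hom] [QuasiCompact Y.hom] [IsSeparated Y.hom]
    (a : AlgGrp.Action G X) (hfree : IsClosedImmersion (GIT.psi a (𝟙 X)).left)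
    (φ : X ⟶ Y) (h : NRQuot.IsGoodQuot a φ) :
    IsPullback a.act (snd G X) φ φ ∧
      NonAbH1.IsLocallyTrivialFor Scheme.zariskiPrecoverage (Over.mk φ.left : Over Y.left) := by
  have hGqc : QuasiCompact G.hom := by
    have h1 : IsAffineHom G.hom := inferInstance
    infer_instance
  have hsurj : Surjective φ.left := ⟨K990.NRQuot.IsGoodQuot.surjective h⟩
  have horb : Surjective (GIT.PsiY a φ h.inv) :=
    K764.GoodGeom.surjective_PsiY a hfree φ h.inv fun x₁ x₂ hx =>
      Groth.Agent.S18982.result k G X Y hG a φ h x₁ x₂ hx
  have hgeom : GIT.IsGeomQuot a φ :=
    K764.GoodGeom.isGeomQuot a inferInstance inferInstance φ h.inv hsurj horb h.sections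
  obtain ⟨hfl, -, hqc, hiso⟩ := Groth.Agent.S11430.result k G X Y a hfree φ hgeom
  have hpb : IsPullback a.act (snd G X) φ φ :=
    K686.isPullback_over (IsPullback.of_iso_pullback ⟨h.inv.left⟩ (asIso (GIT.PsiY a φ hgeom.inv))
      (Limits.pullback.lift_fst _ _ _) (Limits.pullback.lift_snd _ _ _))
  have hsolv : Red.IsSolvableGrp G := by
    obtain ⟨A, _, _, e, he, hsm, hU⟩ := K764.NRUnip.exists_isUnipotent G hG
    have hft : Algebra.FiniteType k A := inferInstance
    have he' : IsMonHom e.symm.hom := inferInstanceAs (IsMonHom e.inv)
    obtain ⟨n, hn⟩ := K543.UnipPts.lowerCentralSeries_eq_bot_of_isUnipotent hU e.symm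
    refine ⟨n, fun X => ?_⟩
    rw [eq_bot_iff, ← hn X]
    exact Subgroup.derived_le_lower_central n
  have hflat : Flat (Over.mk φ.left : Over Y.left).hom := hfl
  have hsur : Surjective (Over.mk φ.left : Over Y.left).hom := hsurj
  have hqc' : QuasiCompact (Over.mk φ.left : Over Y.left).hom := hqc
  exact ⟨hpb, Groth.Agent.S18986.result k G X Y hsolv a φ hpb
    (K554.Fpqc2.isLocallyTrivialFor_of_flat (Over.mk φ.left : Over Y.left))⟩

end Groth.Agent.S20009
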