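import Groth.Statements.S20012
import Groth.Agent.ModPair.K972.AbsApprox

set_option autoImplicit false
universe u
open CategoryTheory CategoryTheory.Limits AlgebraicGeometry TopologicalSpace
open ModPair

namespace Groth.Agent.S20012

/-- Let (S, I_S) be a modulus pair — a scheme with the quasi-coherent ideal sheaf of an effective
Cartier divisor — with S quasi-compact and quasi-separated, and let (X, I_X) be a modulus pair with
an ambient morphism f : X ⟶ S (modulus condition I_X ≤ I_S.comap f) which is quasi-compact and
separated. Then (X, I_X) is a limit of finite-type S-pairs along affine, minimal,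
scheme-theoretically dominant transitions: there are a cofiltered system D of S-schemes with limit X
(as an S-scheme) and quasi-coherent ideal sheaves J_i of effective Cartier divisors on its members
such that every X_i ⟶ S is separated and of finite type and satisfies the modulus condition J_i ≥
I_S pulled back, every transition morphism is affine, minimal (J_i is the pull-back of J_j) and
scheme-theoretically dominant, and I_X is the pull-back of J_i along the projection for every i.
(The full faithfulness half of the published statement is the hom formula for such systems and is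
not part of this row.) -/
theorem result
    {X S : Scheme.{u}} [CompactSpace S] [QuasiSeparatedSpace S]
    (IS : S.IdealSheafData) (hS : BlowUp.IsEffCartierIdeal IS)
    (IX : X.IdealSheafData) (hX : BlowUp.IsEffCartierIdeal IX)
    (f : X ⟶ S) [QuasiCompact f] [IsSeparated f] (hf : ModPair.IsAmbient IX IS f) :
    ∃ (I : Type u) (_ : SmallCategory I) (_ : IsCofiltered I) (D : I ⥤ Over S) (c : Cone D)
      (_ : IsLimit c) (e : c.pt ≅ Over.mk f) (J : ∀ i, (D.obj i).left.IdealSheafData),
      (∀ i, BlowUp.IsEffCartierIdeal (J i)) ∧
      (∀ i, LocallyOfFiniteType (D.obj i).hom ∧ QuasiCompact (D.obj i).hom ∧ IsSeparated (D.obj i).hom) ∧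
      (∀ i, ModPair.IsAmbient (J i) IS (D.obj i).hom) ∧
      (∀ (i j : I) (t : i ⟶ j), IsAffineHom (D.map t).left ∧ ModPair.IsMinimal (J i) (J j) (D.map t).left ∧
          IsSchemeTheoreticallyDominant (D.map t).left) ∧
      (∀ i, IX = (J i).comap (e.inv.left ≫ (c.π.app i).left)) := by
  obtain ⟨I, _, _, D, c, hc, e, hD, hDt⟩ := K972.AbsApprox.exists_dominant_system f
  have hiso : IsIso e.hom.left := inferInstanceAs (IsIso ((Over.forget S).map e.hom))
  have hL : BlowUp.IsEffCartierIdeal (IX.comap e.hom.left) := Groth.Agent.S10855.result e.hom.left IX hX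
  have hLS : IX.comap e.hom.left ≤ IS.comap c.pt.hom := by
    have h1 : e.hom.left ≫ f = c.pt.hom := Over.w e.hom
    rw [← h1, Scheme.IdealSheafData.comap_comp]
    exact Scheme.IdealSheafData.comap_mono _ hf
  obtain ⟨k, M, hM, hMS, hMe⟩ := K972.AbsApprox.exists_modulus D c hc hD hDt IS (IX.comap e.hom.left) hL hLS
  have haff : ∀ {i j : I} (t : i ⟶ j), IsAffineHom ((D ⋙ Over.forget S).map t) := fun t => (hDt _ _ t).1
  have hdom : ∀ (i j : I) (t : i ⟶ j), IsSchemeTheoreticallyDominant ((D ⋙ Over.forget S).map t) :=
    fun i j t => (hDt _ _ t).2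
  have hc' := isLimitOfPreserves (Over.forget S) hc
  have h6 : ∀ i, IsSchemeTheoreticallyDominant (c.π.app i).left := fun i =>
    K971.LimBasic.dominant_π hc' i
  have h4 : ∀ i, IsAffineHom (c.π.app i).left := fun i =>
    isAffineHom_π_app (D ⋙ Over.forget S) _ hc' i
  refine ⟨Over k, inferInstance, inferInstance, Over.forget k ⋙ D, c.whisker (Over.forget k),
    K972.AbsApprox.isLimitOver D c hc k, e, fun i => M.comap (D.map i.hom).left, ?_, fun i => hD _, ?_, ?_, ?_⟩
  · intro i
    have h1 := h6 i.left
    have h2 := h4 i.left
    refine K972.Closure.isEff_of_comap_dominant (c.π.app i.left).left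
      ((K971.Basic.locPrin_of_isEff hMe).comap _) ?_
    have h2 : (c.π.app i.left).left ≫ (D.map i.hom).left = (c.π.app k).left :=
      congrArg (fun f => f.left) (c.w i.hom)
    have h3 : (M.comap (D.map i.hom).left).comap (c.π.app i.left).left = M.comap (c.π.app k).left := by
      rw [← Scheme.IdealSheafData.comap_comp, h2]
    change BlowUp.IsEffCartierIdeal ((M.comap (D.map i.hom).left).comap (c.π.app i.left).left)
    rw [h3, hM]
    exact hL
  · intro i
    change M.comap (D.map i.hom).left ≤ IS.comap (D.obj i.left).hom
    have h1 : (D.map i.hom).left ≫ (D.obj k).hom = (D.obj i.left).hom := Over.w _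
    rw [← h1, Scheme.IdealSheafData.comap_comp]
    exact Scheme.IdealSheafData.comap_mono _ hMS
  · intro i j t
    refine ⟨(hDt _ _ t.left).1, ?_, (hDt _ _ t.left).2⟩
    change M.comap (D.map i.hom).left = (M.comap (D.map j.hom).left).comap (D.map t.left).left
    have h2 : (D.map t.left).left ≫ (D.map j.hom).left = (D.map i.hom).left := by
      rw [← Over.comp_left, ← D.map_comp, Over.w t]
    rw [← Scheme.IdealSheafData.comap_comp, h2]
  · intro i
    change IX = (M.comap (D.map i.hom).left).comap (e.inv.left ≫ (c.π.app i.left).left)
    have h1 : e.inv.left ≫ e.hom.left = 𝟙 X := congrArg (fun f => f.left) e.inv_hom_id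
    have h2 : (c.π.app i.left).left ≫ (D.map i.hom).left = (c.π.app k).left :=
      congrArg (fun f => f.left) (c.w i.hom)
    have h3 : (M.comap (D.map i.hom).left).comap (e.inv.left ≫ (c.π.app i.left).left) =
        (M.comap (c.π.app k).left).comap e.inv.left := by
      rw [← Scheme.IdealSheafData.comap_comp, ← Scheme.IdealSheafData.comap_comp, Category.assoc, h2]
    rw [h3, hM, ← Scheme.IdealSheafData.comap_comp, h1]
    exact (Scheme.IdealSheafData.comap_id IX).symm

end Groth.Agent.S20012
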