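import Groth.Statements.S20017
import Groth.Agent.NonAbH1.K554.ExtIso

set_option autoImplicit false
universe u
open CategoryTheory AlgebraicGeometry
open NonAbH1

namespace Groth.Agent.S20017

open CategoryTheory.Limits MonoidalCategory CartesianMonoidalCategory MonObj GrpObj
open Groth.Agent.Books.BorelOrb K554.Fpqc K554.BcPt K554.ExtTors K551.Tors

section
variable {X : Scheme.{u}} (U : X.Opens)

/-- an `X`-scheme over `U`, seen as coming from `U` -/
noncomputable def eps {T : Over X} (w : T ⟶ Over.mk U.ι) : (Over.map U.ι).obj (Over.mk w.left : Over (U : Scheme.{u})) ⟶ T :=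
  Over.homMk (𝟙 _) (by rw [Category.id_comp]; exact (Over.w w).symm)

noncomputable def del {T : Over X} (w : T ⟶ Over.mk U.ι) : T ⟶ (Over.map U.ι).obj (Over.mk w.left : Over (U : Scheme.{u})) :=
  Over.homMk (𝟙 _) (by rw [Category.id_comp]; exact Over.w w)

lemma eps_del {T : Over X} (w : T ⟶ Over.mk U.ι) : eps U w ≫ del U w = 𝟙 _ :=
  Over.OverMorphism.ext (Category.id_comp _)

lemma del_eps {T : Over X} (w : T ⟶ Over.mk U.ι) : del U w ≫ eps U w = 𝟙 _ :=
  Over.OverMorphism.ext (Category.id_comp _)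

variable {G P Q : Over X} [GrpObj G] {a : AlgGrp.Action G P} {a' : AlgGrp.Action G Q}
  (e : NonAbH1.EquivIso (a.bc U.ι) (a'.bc U.ι))

/-- the morphism over `X` defined by an isomorphism over `U` -/
noncomputable def phi : Over.mk U.ι ⊗ P ⟶ Q :=
  del U (fst (Over.mk U.ι) P) ≫ un U.ι (mk U.ι (eps U (fst (Over.mk U.ι) P) ≫ snd (Over.mk U.ι) P) ≫ e.iso.hom)

lemma eps_phi {T : Over X} (w : T ⟶ Over.mk U.ι) (p : T ⟶ P) :
    eps U w ≫ lift w p ≫ phi U e = un U.ι (mk U.ι (eps U w ≫ p) ≫ e.iso.hom) := by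
  let t : (Over.mk w.left : Over (U : Scheme.{u})) ⟶ Over.mk (fst (Over.mk U.ι) P).left :=
    Over.homMk (lift w p).left (congrArg CommaMorphism.left (lift_fst w p))
  have h1 : eps U w ≫ lift w p = (Over.map U.ι).map t ≫ eps U (fst (Over.mk U.ι) P) := by
    apply Over.OverMorphism.ext
    exact (Category.id_comp _).trans (Category.comp_id _).symm
  have h2 : eps U w ≫ p = (Over.map U.ι).map t ≫ eps U (fst (Over.mk U.ι) P) ≫ snd (Over.mk U.ι) P := by
    rw [← Category.assoc, ← h1, Category.assoc, lift_snd]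
  rw [h2, ← comp_mk, Category.assoc, un_comp, phi, ← Category.assoc, h1]
  simp only [Category.assoc]
  rw [reassoc_of% (eps_del U (fst (Over.mk U.ι) P))]

lemma phi_sm (T : Over X) (w : T ⟶ Over.mk U.ι) (g : T ⟶ G) (p : T ⟶ P) :
    lift w (sm a g p) ≫ phi U e = sm a' g (lift w p ≫ phi U e) := by
  have h1 : eps U w ≫ lift w (sm a g p) ≫ phi U e = eps U w ≫ sm a' g (lift w p ≫ phi U e) := by
    rw [eps_phi, comp_sm, mk_sm, equivIso_sm, un_sm, un_mk, comp_sm, eps_phi]
  have h2 := congrArg (fun m => del U w ≫ m) h1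
  rw [← Category.assoc, del_eps, Category.id_comp, ← Category.assoc, del_eps, Category.id_comp] at h2
  exact h2

end

lemma equivalence {X : Scheme.{u}} {G : Over X} [GrpObj G] (K : Precoverage Scheme.{u}) :
    Equivalence (fun P Q : TorsorSch G K => Nonempty (EquivIso P.act Q.act)) :=
  ⟨fun _ => ⟨equivIsoRefl _⟩, fun ⟨e⟩ => ⟨equivIsoSymm e⟩, fun ⟨e⟩ ⟨e'⟩ => ⟨equivIsoTrans e e'⟩⟩

/-- Let X be a normal integral scheme (integral, with every local ring integrally closed), G a group
scheme over X whose structure morphism is finite and flat, and U ⊆ X a dense open subscheme. Then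
the restriction map H¹(X, G) → H¹(U, G|_U) on classes of fppf G-torsors — X-schemes with a G-action
which are pseudo-torsors and acquire sections on the members of some fppf covering family, up to
equivariant isomorphism — given by base change along the open immersion U → X, is injective. (G is
not assumed commutative; injectivity is that of a map of pointed sets.) -/
theorem result
    (X : Scheme.{u}) [AlgebraicGeometry.IsIntegral X] (hX : Pi1.IsNormalScheme X)
    (G : Over X) [GrpObj G] [IsFinite G.hom] [Flat G.hom]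
    (U : X.Opens) (hU : Dense (U : Set X)) :
    Function.Injective (NonAbH1.H1Sch.bcMap U.ι G Scheme.fppfPrecoverage) := by
  intro c c' h
  obtain ⟨P, rfl⟩ := Quot.exists_rep c
  obtain ⟨Q, rfl⟩ := Quot.exists_rep c'
  have h0 : (Quot.mk _ (P.bc U.ι) : H1Sch (Red.bc U.ι G) Scheme.fppfPrecoverage) = Quot.mk _ (Q.bc U.ι) := h
  obtain ⟨e⟩ := ((equivalence Scheme.fppfPrecoverage).quot_mk_eq_iff _ _).1 h0
  have hne : (U : Set X).Nonempty := hU.nonempty
  obtain ⟨ψ, hψ, -⟩ := K554.ExtIso.exists_extension U (phi U e) hX P.isTorsor Q.isTorsor hne (phi_sm U e)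
  have hiso : IsIso ψ :=
    isIso_of_isEquivariant Scheme.fppfPrecoverage P.act Q.act P.isTorsor Q.isTorsor.1 ψ hψ
  exact Quot.sound ⟨⟨asIso ψ, hψ⟩⟩

end Groth.Agent.S20017
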