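import Groth.Statements.S20018

set_option autoImplicit false
open CAlg

namespace Groth.Agent.S20018


open PowerSeries in
theorem foo_const (R : Type*) [CommRing R] (f : ℕ → R) (n : ℕ) :
    constantCoeff (∏ i ∈ Finset.range n, (1 - C (f i) * X ^ (i + 1) : PowerSeries R)) = 1 := by
  rw [map_prod]
  apply Finset.prod_eq_one
  intro i _
  simp

open PowerSeries in
theorem foo_low (R : Type*) [CommRing R] (f : ℕ → R) (n m : ℕ) (h : m ≤ n) :
    coeff m (∏ i ∈ Finset.range (n+1), (1 - C (f i) * X ^ (i + 1) : PowerSeries R)) =
    coeff m (∏ i ∈ Finset.range n, (1 - C (f i) * X ^ (i + 1) : PowerSeries R)) := by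
  rw [Finset.prod_range_succ, mul_sub, mul_one, map_sub, ← mul_assoc, PowerSeries.coeff_mul_X_pow']
  rw [if_neg (by omega), sub_zero]

open PowerSeries in
theorem foo_top (R : Type*) [CommRing R] (f : ℕ → R) (n : ℕ) :
    coeff (n+1) (∏ i ∈ Finset.range (n+1), (1 - C (f i) * X ^ (i + 1) : PowerSeries R)) =
    coeff (n+1) (∏ i ∈ Finset.range n, (1 - C (f i) * X ^ (i + 1) : PowerSeries R)) - f n := by
  have h := foo_const R f n
  rw [Finset.prod_range_succ, mul_sub, mul_one, map_sub, ← mul_assoc, PowerSeries.coeff_mul_X_pow']
  rw [if_pos le_rfl, Nat.sub_self, coeff_zero_eq_constantCoeff, map_mul, h]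
  simp

open PowerSeries in
noncomputable def alphaSeq (R : Type*) [CommRing R] (x : PowerSeries R) : ℕ → R
  | n => coeff (n+1) (∏ i : Fin n, (1 - C (alphaSeq R x i.1) * X ^ (i.1 + 1) : PowerSeries R)) - coeff (n+1) x
decreasing_by exact i.2

open PowerSeries in
/-- Product expansion of big Witt vectors: let R be a commutative ring and x ∈ 1 + tR[[t]] a formal
power series with constant term 1. Then x can be written uniquely as an infinite product ∏_{i ≥ 1}
(1 - α_i t^i) with α_i ∈ R. The infinite product is expressed through its truncations: there is a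
unique sequence α : ℕ → R (α i standing for the coefficient attached to t^{i+1}) such that for every
N the series x and the finite product ∏_{i=0}^{N} (1 - α_i t^{i+1}) agree modulo t^{N+2}. -/
theorem result
    (R : Type*) [CommRing R] (x : PowerSeries R) (hx : PowerSeries.constantCoeff x = 1) :
    ∃! α : ℕ → R, ∀ N : ℕ,
      PowerSeries.trunc (N + 2) x =
        PowerSeries.trunc (N + 2) (∏ i ∈ Finset.range (N + 1),
          (1 - PowerSeries.C (α i) * PowerSeries.X ^ (i + 1) : PowerSeries R)) := by
  have key : ∀ α : ℕ → R, (∀ N : ℕ,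
      PowerSeries.trunc (N + 2) x =
        PowerSeries.trunc (N + 2) (∏ i ∈ Finset.range (N + 1),
          (1 - PowerSeries.C (α i) * PowerSeries.X ^ (i + 1) : PowerSeries R))) ↔
      ∀ n, α n = coeff (n+1) (∏ i ∈ Finset.range n, (1 - C (α i) * X ^ (i + 1) : PowerSeries R)) - coeff (n+1) x := by
    intro α
    have e1 : ∀ N : ℕ, (PowerSeries.trunc (N + 2) x =
        PowerSeries.trunc (N + 2) (∏ i ∈ Finset.range (N + 1),
          (1 - PowerSeries.C (α i) * PowerSeries.X ^ (i + 1) : PowerSeries R))) ↔
        ∀ m ≤ N + 1, coeff m x = coeff m (∏ i ∈ Finset.range (N + 1),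
          (1 - PowerSeries.C (α i) * PowerSeries.X ^ (i + 1) : PowerSeries R)) := by
      intro N
      constructor
      · intro h m hm
        have := congrArg (fun p => Polynomial.coeff p m) h
        simp only [PowerSeries.coeff_trunc] at this
        rwa [if_pos (by omega), if_pos (by omega)] at this
      · intro h
        ext m
        simp only [PowerSeries.coeff_trunc]
        split_ifs with hm
        · exact h m (by omega)
        · rfl
    simp only [e1]
    constructor
    · intro h n
      rw [h n (n+1) le_rfl, foo_top]
      ring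
    · intro h N
      induction N with
      | zero =>
        intro m hm
        rcases Nat.lt_or_ge m 1 with h0 | h0
        · have : m = 0 := by omega
          subst this
          rw [coeff_zero_eq_constantCoeff, foo_const, hx]
        · have : m = 0 + 1 := by omega
          subst this
          rw [foo_top]
          conv_rhs => rw [h 0]
          ring
      | succ N ih =>
        intro m hm
        rcases Nat.lt_or_ge m (N + 2) with h0 | h0
        · rw [ih m (by omega), foo_low R α (N + 1) m (by omega)]
        · have : m = (N + 1) + 1 := by omega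
          subst this
          rw [foo_top]
          conv_rhs => rw [h (N + 1)]
          ring
  let α : ℕ → R := alphaSeq R x
  have hα : ∀ n, α n = coeff (n+1) (∏ i ∈ Finset.range n, (1 - C (α i) * X ^ (i + 1) : PowerSeries R)) - coeff (n+1) x := by
    intro n
    show alphaSeq R x n = coeff (n+1) (∏ i ∈ Finset.range n, (1 - C (alphaSeq R x i) * X ^ (i + 1) : PowerSeries R)) - coeff (n+1) x
    rw [alphaSeq, ← Fin.prod_univ_eq_prod_range (fun i => (1 - C (alphaSeq R x i) * X ^ (i + 1) : PowerSeries R))]
  refine ⟨α, (key α).2 hα, ?_⟩
  intro β hβ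
  have hβ' := (key β).1 hβ
  funext n
  induction n using Nat.strongRecOn with
  | _ n ih =>
    rw [hβ' n, hα n]
    congr 2
    apply Finset.prod_congr rfl
    intro i hi
    rw [ih i (Finset.mem_range.mp hi)]

end Groth.Agent.S20018
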