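import Groth.Statements.S20019
import Groth.Agent.HopfRep.K192.CharInt
import Groth.Agent.HopfRep.K192.CharPow
import Groth.Agent.Sga7.H523.FinNorm
import Groth.Agent.Ega4B.NagIntClos
import Groth.Agent.Agf.H601.LieCartier
import Groth.Agent.Books.PointsAC
import Mathlib.Analysis.Complex.Polynomial.Basic

set_option autoImplicit false
open scoped TensorProduct
open HopfRep Groth.Agent.Books.CoeffMat

namespace Groth.Agent.S20019

/-- Let A → B be a surjective homomorphism of finitely generated commutative Hopf algebras over the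
complex numbers, that is a closed embedding H ↪ G of complex linear algebraic groups with G = Spec A
and H = Spec B. For a comodule structure on the coordinate space ℂ^d with coaction e_i ↦ Σ_j e_j ⊗
a_ji, its character is Σ_i a_ii. Then R(H) is a finite R(G)-module, with the complexified
representation rings realised inside the coordinate rings by characters: there are finitely many
characters f_1, …, f_r of H-comodule structures such that every ℂ-linear combination of characters
of H-comodule structures on coordinate spaces is of the form Σ_j s_j f_j with each s_j in the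
ℂ-subalgebra of B generated by the images of the characters of G-comodule structures on coordinate
spaces. (The representation rings of the published statement are rendered through characters; over
the complex numbers the characters of pairwise non-isomorphic simple comodules are linearly
independent, so the span of characters is the complexified representation ring.) -/
theorem result
    (A B : Type) [CommRing A] [HopfAlgebra ℂ A] [Algebra.FiniteType ℂ A]
    [CommRing B] [HopfAlgebra ℂ B] [Algebra.FiniteType ℂ B]
    (π : A →ₐc[ℂ] B) (hπ : Function.Surjective π) :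
    ∃ F : Finset B,
      (↑F : Set B) ⊆ Set.range (fun p : (Σ d : ℕ, HopfRep.Comod ℂ B (Fin d → ℂ)) =>
          ∑ i : Fin p.1, TensorProduct.lid ℂ B (LinearMap.rTensor B (LinearMap.proj i)
            (@HopfRep.Comod.coact ℂ B _ _ _ _ (Fin p.1 → ℂ) _ _ p.2 (Pi.single i 1)))) ∧
      (↑(Submodule.span ℂ (Set.range (fun p : (Σ d : ℕ, HopfRep.Comod ℂ B (Fin d → ℂ)) =>
          ∑ i : Fin p.1, TensorProduct.lid ℂ B (LinearMap.rTensor B (LinearMap.proj i)
            (@HopfRep.Comod.coact ℂ B _ _ _ _ (Fin p.1 → ℂ) _ _ p.2 (Pi.single i 1)))))) : Set B) ⊆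
        ↑(Submodule.span (Algebra.adjoin ℂ (π '' Set.range (fun p : (Σ d : ℕ, HopfRep.Comod ℂ A (Fin d → ℂ)) =>
          ∑ i : Fin p.1, TensorProduct.lid ℂ A (LinearMap.rTensor A (LinearMap.proj i)
            (@HopfRep.Comod.coact ℂ A _ _ _ _ (Fin p.1 → ℂ) _ _ p.2 (Pi.single i 1))))))
          (↑F : Set B)) := by
  classical
  have hred : IsReduced B := Groth.Agent.Agf.H601.LieCartier.isReduced_hopf ℂ B
  have hsep : ∀ b : B, (∀ h : B →ₐ[ℂ] ℂ, h b = 0) → b = 0 := fun b hb =>
    Groth.Agent.Books.PointsAC.eq_zero_of_forall_point ℂ B b hb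
  -- a generating comodule
  obtain ⟨s, hs⟩ := (inferInstance : Algebra.FiniteType ℂ A).out
  obtain ⟨n, v, m, -, hsv, hm, hv⟩ :=
    exists_isMult_of_finite (k := ℂ) (A := A) (V := A) (s : Set A) s.finite_toSet
  have hgenA : Algebra.adjoin ℂ (K192.CharInt.entries m) = ⊤ := by
    rw [eq_top_iff, ← hs, Algebra.adjoin_le_iff]
    intro a ha
    have h1 : Submodule.span ℂ (Set.range v) ≤
        Subalgebra.toSubmodule (Algebra.adjoin ℂ (K192.CharInt.entries m)) := by
      rw [Submodule.span_le]
      rintro _ ⟨j, rfl⟩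
      have h2 : v j = ∑ i, CoalgebraStruct.counit (R := ℂ) (v i) • m i j := by
        have h3 := congrArg (fun z => TensorProduct.lid ℂ A
          ((CoalgebraStruct.counit (R := ℂ) (A := A)).rTensor A z)) (hv j)
        have h4 : TensorProduct.lid ℂ A ((CoalgebraStruct.counit (R := ℂ) (A := A)).rTensor A
            (CoalgebraStruct.comul (R := ℂ) (v j))) = v j := by
          rw [Coalgebra.rTensor_counit_comul]
          simp
        rw [← h4]
        refine h3.trans ?_
        simp [map_sum]
      rw [h2]
      exact Subalgebra.sum_mem _ fun i _ => Subalgebra.smul_mem _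
        (Algebra.subset_adjoin (show m i j ∈ K192.CharInt.entries m from ⟨(i, j), rfl⟩)) _
    exact h1 (hsv ha)
  let M : Matrix (Fin n) (Fin n) B := m.map π
  have hM : IsMult ℂ M := by
    constructor
    · intro i j
      have h1 : CoalgebraStruct.comul (R := ℂ) (π (m i j)) =
          TensorProduct.map (π : A →ₗ[ℂ] B) (π : A →ₗ[ℂ] B) (CoalgebraStruct.comul (R := ℂ) (m i j)) :=
        (CoalgHomClass.map_comp_comul_apply π (m i j)).symm
      change CoalgebraStruct.comul (R := ℂ) (π (m i j)) = _
      rw [h1, hm.comul, map_sum]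
      rfl
    · intro i j
      have h1 : CoalgebraStruct.counit (R := ℂ) (π (m i j)) =
          CoalgebraStruct.counit (R := ℂ) (m i j) := CoalgHomClass.counit_comp_apply π (m i j)
      change CoalgebraStruct.counit (R := ℂ) (π (m i j)) = _
      rw [h1, hm.counit]
  have hgenB : Algebra.adjoin ℂ (K192.CharInt.entries M) = ⊤ := by
    have h1 : K192.CharInt.entries M = (π : A →ₐ[ℂ] B) '' K192.CharInt.entries m := by
      rw [K192.CharInt.entries, K192.CharInt.entries, ← Set.range_comp]
      rfl
    rw [h1, ← AlgHom.map_adjoin, hgenA, Algebra.map_top, AlgHom.range_eq_top]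
    exact hπ
  let C₀ : Subalgebra ℂ B := K192.CharInt.psAlg ℂ M
  have hft : Algebra.FiniteType ℂ C₀ := by
    rw [← Subalgebra.fg_iff_finiteType]
    exact ⟨(Set.finite_range fun j : Fin n => (M ^ ((j : ℕ) + 1)).trace).toFinset, by simp; rfl⟩
  have hnag : CAlg.IsNagata C₀ :=
    Groth.Agent.Ega4B.NagFinal.isNagata_of_finiteType (R := ℂ)
      (Groth.Agent.Sga7.H523.FinNorm.isNagata_field ℂ)
  have hftB : Algebra.FiniteType C₀ B := Algebra.FiniteType.of_restrictScalars_finiteType ℂ C₀ B
  have hfin : Module.Finite C₀ (integralClosure C₀ B) :=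
    Groth.Agent.Ega4B.NagIntClos.finite_of_isReduced hnag
  have hnoe : IsNoetherianRing C₀ := hnag.1
  -- the span of the characters over `C₀`
  have hint : ∀ x ∈ K192.Char.charSet ℂ B, IsIntegral C₀ x := by
    intro x hx
    obtain ⟨d, c, rfl⟩ := (K192.Char.mem_charSet_iff (k := ℂ) B x).1 hx
    exact K192.CharInt.isIntegral_chi hsep hM hgenB (Fin d → ℂ)
  have hfg : (Submodule.span C₀ (K192.Char.charSet ℂ B)).FG := by
    have hle : Submodule.span C₀ (K192.Char.charSet ℂ B) ≤
        Subalgebra.toSubmodule (integralClosure C₀ B) := by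
      rw [Submodule.span_le]
      exact hint
    have : IsNoetherian C₀ (Subalgebra.toSubmodule (integralClosure C₀ B)) :=
      isNoetherian_of_isNoetherianRing_of_finite C₀ _
    have h2 := isNoetherian_submodule.1 this _ hle
    exact h2
  rw [Submodule.fg_span_iff_fg_span_finset_subset] at hfg
  obtain ⟨F, hF1, hF2⟩ := hfg
  refine ⟨F, hF1, ?_⟩
  -- `C₀` is contained in the image of the representation ring of `A`
  have hC : C₀ ≤ Algebra.adjoin ℂ (π '' K192.Char.charSet ℂ A) := by
    change Algebra.adjoin ℂ (Set.range fun j : Fin n => (M ^ ((j : ℕ) + 1)).trace) ≤ _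
    rw [Algebra.adjoin_le_iff]
    rintro _ ⟨j, rfl⟩
    have h1 : (M ^ ((j : ℕ) + 1)).trace = π ((m ^ ((j : ℕ) + 1)).trace) := by
      have h0 : M ^ ((j : ℕ) + 1) = (m ^ ((j : ℕ) + 1)).map π :=
        (Matrix.map_pow m ((π : A →ₐ[ℂ] B) : A →+* B) ((j : ℕ) + 1)).symm
      rw [h0, Matrix.trace, Matrix.trace, map_sum]
      rfl
    have hma : Groth.Agent.Sga3C.MatComod.IsMult ℂ (m : Fin n → Fin n → A) :=
      ⟨hm.comul, hm.counit⟩
    have h2 := K192.CharPow.trace_pow_mem_span hma (j : ℕ)
    change (M ^ ((j : ℕ) + 1)).trace ∈ Algebra.adjoin ℂ (π '' K192.Char.charSet ℂ A)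
    rw [h1]
    have h3 : Submodule.span ℂ (K192.Char.charSet ℂ A) ≤
        (Subalgebra.toSubmodule (Algebra.adjoin ℂ (π '' K192.Char.charSet ℂ A))).comap
          (π : A →ₗ[ℂ] B) := by
      rw [Submodule.span_le]
      intro x hx
      exact Algebra.subset_adjoin ⟨x, hx, rfl⟩
    exact h3 h2
  change (Submodule.span ℂ (K192.Char.charSet ℂ B) : Set B) ⊆
    Submodule.span (Algebra.adjoin ℂ (π '' K192.Char.charSet ℂ A)) (F : Set B)
  intro x hx
  have hx1 : x ∈ Submodule.span C₀ (K192.Char.charSet ℂ B) := by
    have : Submodule.span ℂ (K192.Char.charSet ℂ B) ≤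
        (Submodule.span C₀ (K192.Char.charSet ℂ B)).restrictScalars ℂ := by
      rw [Submodule.span_le]
      exact Submodule.subset_span
    exact this hx
  rw [hF2] at hx1
  clear hx
  refine Submodule.span_induction (fun y hy => Submodule.subset_span hy) (zero_mem _)
    (fun y z _ _ hy hz => add_mem hy hz) (fun c y _ hy => ?_) hx1
  exact Submodule.smul_mem _ (⟨c.1, hC c.2⟩ : Algebra.adjoin ℂ (π '' K192.Char.charSet ℂ A)) hy

end Groth.Agent.S20019
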