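import Groth.Statements.S20022
import Groth.Agent.GrLC.K763.Basic
import Mathlib.LinearAlgebra.Basis.VectorSpace

set_option autoImplicit false
universe u
open GrLC

namespace Groth.Agent.S20022

open DirectSum K763.Basic

section

variable {R : Type u} [CommRing R] (𝒜 : ℤ → AddSubgroup R) [GradedRing 𝒜]

/-- powers of a homogeneous unit are homogeneous -/
lemma zpow_mem (d : ℤ) (T : Rˣ) (hT : (T : R) ∈ 𝒜 d) (hTi : ((T⁻¹ : Rˣ) : R) ∈ 𝒜 (-d)) (j : ℤ) :
    ((T ^ j : Rˣ) : R) ∈ 𝒜 (j * d) := by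
  induction j using Int.induction_on with
  | zero =>
    simp only [zpow_zero, Units.val_one, zero_mul]
    exact SetLike.GradedOne.one_mem
  | succ n ih =>
    rw [zpow_add_one, Units.val_mul, show ((n : ℤ) + 1) * d = n * d + d by ring]
    exact SetLike.GradedMul.mul_mem ih hT
  | pred n ih =>
    rw [zpow_sub_one, Units.val_mul, show (-(n : ℤ) - 1) * d = -n * d + -d by ring]
    exact SetLike.GradedMul.mul_mem ih hTi

/-- the inverse of a homogeneous unit is homogeneous -/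
lemma inv_mem (d : ℤ) (T : Rˣ) (hT : (T : R) ∈ 𝒜 d) : ((T⁻¹ : Rˣ) : R) ∈ 𝒜 (-d) := by
  have h : ((T⁻¹ : Rˣ) : R) = (DirectSum.decompose 𝒜 ((T⁻¹ : Rˣ) : R) (-d) : R) := by
    have h1 : (T : R) * ((T⁻¹ : Rˣ) : R) = 1 := T.mul_inv
    have h2 : (DirectSum.decompose 𝒜 ((T : R) • ((T⁻¹ : Rˣ) : R)) 0 : R) = 1 := by
      rw [smul_eq_mul, h1, DirectSum.decompose_of_mem_same 𝒜 SetLike.GradedOne.one_mem]
    rw [decompose_smul_left 𝒜 𝒜 hT, smul_eq_mul, zero_sub] at h2
    calc ((T⁻¹ : Rˣ) : R) = ((T⁻¹ : Rˣ) : R) * ((T : R) *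
        (DirectSum.decompose 𝒜 ((T⁻¹ : Rˣ) : R) (-d) : R)) := by rw [h2, mul_one]
      _ = _ := by rw [← mul_assoc, T.inv_mul, one_mul]
  rw [h]
  exact (DirectSum.decompose 𝒜 ((T⁻¹ : Rˣ) : R) (-d)).2

end

/-- Let R be a commutative ℤ-graded ring whose degree-zero subring R_0 is a field k and which is the
Laurent polynomial ring k[T, T⁻¹] on a homogeneous invertible element T of positive degree d, in the
following intrinsic sense: T is a unit lying in R_d, and every nonzero homogeneous element of degree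
n equals a·T^j for some a ∈ R_0 and some integer j with j·d = n (so R_n = 0 unless d divides n, and
R_{jd} = k·T^j). Then every graded R-module M is free in the graded sense: M has an R-basis
consisting of homogeneous elements. (The other case of condition (2), R = k concentrated in degree
zero, is not included.) -/
theorem result (R : Type u) [CommRing R]
    (𝒜 : ℤ → AddSubgroup R) [GradedRing 𝒜] (h0 : IsField (GrLC.deg0 𝒜))
    (d : ℤ) (hd : 0 < d) (T : Rˣ) (hT : (T : R) ∈ 𝒜 d)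
    (hA : ∀ (n : ℤ) (x : R), x ∈ 𝒜 n → x ≠ 0 →
      ∃ j : ℤ, ∃ a ∈ 𝒜 0, j * d = n ∧ x = a * ((T ^ j : Rˣ) : R))
    (M : Type u) [AddCommGroup M] [Module R M] (ℳ : ℤ → AddSubgroup M)
    [DirectSum.Decomposition ℳ] [SetLike.GradedSMul 𝒜 ℳ] :
    ∃ (κ : Type u) (b : Module.Basis κ R M), ∀ i : κ, SetLike.IsHomogeneousElem ℳ (b i) := by
  classical
  let _ : Field (GrLC.deg0 𝒜) := h0.toField
  have hTi := inv_mem 𝒜 d T hT
  let B : ∀ i : Fin d.toNat, Module.Basis
      (Module.Basis.ofVectorSpaceIndex (GrLC.deg0 𝒜) (GrLC.comp 𝒜 ℳ (i : ℕ))) (GrLC.deg0 𝒜)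
      (GrLC.comp 𝒜 ℳ (i : ℕ)) :=
    fun i => Module.Basis.ofVectorSpace (GrLC.deg0 𝒜) (GrLC.comp 𝒜 ℳ (i : ℕ))
  let κ : Type u := Σ i : Fin d.toNat,
    Module.Basis.ofVectorSpaceIndex (GrLC.deg0 𝒜) (GrLC.comp 𝒜 ℳ (i : ℕ))
  let v : κ → M := fun x => (B x.1 x.2 : M)
  have hv : ∀ x : κ, v x ∈ ℳ ((x.1 : ℕ) : ℤ) := fun x => (B x.1 x.2).2
  have hli : LinearIndependent R v := by
    rw [linearIndependent_iff']
    intro s l hl x0 hx0
    refine eq_zero_of_decompose 𝒜 (fun m => ?_)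
    by_contra hne
    obtain ⟨j, a, ha, hj, -⟩ := hA m _ (DirectSum.decompose 𝒜 (l x0) m).2 hne
    -- the component of degree m + deg x0
    have h1 : ∑ x ∈ s, (DirectSum.decompose 𝒜 (l x) (m + ((x0.1 : ℕ) : ℤ) - ((x.1 : ℕ) : ℤ)) : R)
        • v x = 0 := by
      have h2 := congrArg (fun y => (DirectSum.decompose ℳ y (m + ((x0.1 : ℕ) : ℤ)) : M)) hl
      simp only [DirectSum.decompose_sum, DirectSum.decompose_zero] at h2
      rw [DirectSum.sum_apply, AddSubmonoidClass.coe_finsetSum, DirectSum.zero_apply,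
        ZeroMemClass.coe_zero] at h2
      refine Eq.trans (Finset.sum_congr rfl fun x _ => ?_) h2
      rw [decompose_smul_right 𝒜 ℳ (hv x)]
    -- only those with x.1 = x0.1 contribute
    have h3 : ∀ x : κ, x.1 ≠ x0.1 →
        (DirectSum.decompose 𝒜 (l x) (m + ((x0.1 : ℕ) : ℤ) - ((x.1 : ℕ) : ℤ)) : R) = 0 := by
      intro x hx
      by_contra hne2
      obtain ⟨j', a', -, hj', -⟩ := hA _ _ (DirectSum.decompose 𝒜 (l x) _).2 hne2
      apply hx
      have h4 : (((x0.1 : ℕ) : ℤ) - ((x.1 : ℕ) : ℤ)) = (j' - j) * d := by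
        rw [sub_mul, hj', hj]; ring
      have h5 := x.1.2
      have h6 := x0.1.2
      have h7 : ((x0.1 : ℕ) : ℤ) < d := by omega
      have h8 : ((x.1 : ℕ) : ℤ) < d := by omega
      have h9 : j' - j = 0 := by
        have h10 : (j' - j) * d < 1 * d := by rw [← h4]; omega
        have h11 : (-1) * d < (j' - j) * d := by rw [← h4]; omega
        have h12 := lt_of_mul_lt_mul_right h10 hd.le
        have h13 := lt_of_mul_lt_mul_right h11 hd.le
        omega
      rw [h9, zero_mul] at h4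
      exact Fin.ext (by omega)
    -- reduce to the k-vector space M_{i0}
    obtain ⟨i0, b0⟩ := x0
    let c : Module.Basis.ofVectorSpaceIndex (GrLC.deg0 𝒜) (GrLC.comp 𝒜 ℳ (i0 : ℕ)) →
        GrLC.deg0 𝒜 := fun b => ⟨((T ^ (-j) : Rˣ) : R) *
          (DirectSum.decompose 𝒜 (l ⟨i0, b⟩) m : R), by
        have h := SetLike.GradedMul.mul_mem (zpow_mem 𝒜 d T hT hTi (-j))
          (DirectSum.decompose 𝒜 (l ⟨i0, b⟩) m).2
        rwa [show -j * d + m = 0 by rw [← hj]; ring] at h⟩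
    have hinj : Function.Injective (fun b => (⟨i0, b⟩ : κ)) := fun b b' h => by
      simpa using h
    have h4 : ∑ b ∈ s.preimage (fun b => (⟨i0, b⟩ : κ)) hinj.injOn, c b • B i0 b = 0 := by
      apply Subtype.ext
      rw [Submodule.coe_sum, Submodule.coe_zero]
      calc ∑ b ∈ s.preimage (fun b => (⟨i0, b⟩ : κ)) hinj.injOn, ((c b • B i0 b :
            GrLC.comp 𝒜 ℳ (i0 : ℕ)) : M)
          = ∑ b ∈ s.preimage (fun b => (⟨i0, b⟩ : κ)) hinj.injOn, ((T ^ (-j) : Rˣ) : R) •
              ((DirectSum.decompose 𝒜 (l ⟨i0, b⟩) m : R) • v ⟨i0, b⟩) := by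
            refine Finset.sum_congr rfl fun b _ => ?_
            rw [← mul_smul]
            rfl
        _ = ((T ^ (-j) : Rˣ) : R) • ∑ b ∈ s.preimage (fun b => (⟨i0, b⟩ : κ)) hinj.injOn,
              (DirectSum.decompose 𝒜 (l ⟨i0, b⟩) m : R) • v ⟨i0, b⟩ := by rw [Finset.smul_sum]
        _ = ((T ^ (-j) : Rˣ) : R) • ∑ x ∈ s,
              (DirectSum.decompose 𝒜 (l x) (m + ((i0 : ℕ) : ℤ) - ((x.1 : ℕ) : ℤ)) : R) • v x := by
            congr 1
            rw [← Finset.sum_preimage (fun b => (⟨i0, b⟩ : κ)) s hinj.injOn]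
            · refine Finset.sum_congr rfl fun b _ => ?_
              rw [add_sub_cancel_right]
            · rintro ⟨i, b⟩ - hx
              rw [h3 _ (fun (h : i = i0) => hx ⟨h ▸ b, by subst h; rfl⟩), zero_smul]
        _ = 0 := by rw [h1, smul_zero]
    have h5 := (linearIndependent_iff'.1 (B i0).linearIndependent) _ c h4 b0
      (Finset.mem_preimage.2 hx0)
    have h6 : ((T ^ (-j) : Rˣ) : R) * (DirectSum.decompose 𝒜 (l ⟨i0, b0⟩) m : R) = 0 :=
      congrArg Subtype.val h5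
    exact hne ((Units.mul_right_eq_zero _).1 h6)
  have hsp : ⊤ ≤ Submodule.span R (Set.range v) := by
    have hhom : ∀ (n : ℤ) (x : M), x ∈ ℳ n → x ∈ Submodule.span R (Set.range v) := by
      intro n x hx
      have hd0 : d ≠ 0 := hd.ne'
      have hmod1 := Int.emod_nonneg n hd0
      have hmod2 := Int.emod_lt_of_pos n hd
      let i : Fin d.toNat := ⟨(n % d).toNat, by omega⟩
      have hi : ((i : ℕ) : ℤ) = n % d := by
        change (((n % d).toNat : ℕ) : ℤ) = _
        omega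
      have hn : n = (n / d) * d + ((i : ℕ) : ℤ) := by
        rw [hi, mul_comm]; exact (Int.mul_ediv_add_emod n d).symm
      let y : GrLC.comp 𝒜 ℳ ((i : ℕ) : ℤ) := ⟨((T ^ (-(n / d)) : Rˣ) : R) • x, by
        have h := smul_mem 𝒜 ℳ (zpow_mem 𝒜 d T hT hTi (-(n / d))) hx
        have h2 : -(n / d) * d + n = ((i : ℕ) : ℤ) := by
          conv_lhs => rw [hn]
          rw [← hn]
          linarith
        rw [h2] at h
        exact h⟩
      have hx2 : x = ((T ^ (n / d) : Rˣ) : R) • (y : M) := by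
        change x = ((T ^ (n / d) : Rˣ) : R) • (((T ^ (-(n / d)) : Rˣ) : R) • x)
        rw [smul_smul, ← Units.val_mul, ← zpow_add, add_neg_cancel, zpow_zero, Units.val_one,
          one_smul]
      rw [hx2]
      refine Submodule.smul_mem _ _ ?_
      have h3 : y ∈ Submodule.span (GrLC.deg0 𝒜) (Set.range (B i)) := by
        rw [(B i).span_eq]; trivial
      have h4 : (y : M) ∈ Submodule.span (GrLC.deg0 𝒜) (Set.range v) := by
        have h5 : (GrLC.comp 𝒜 ℳ ((i : ℕ) : ℤ)).subtype y ∈ 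
            (Submodule.span (GrLC.deg0 𝒜) (Set.range (B i))).map 
            (GrLC.comp 𝒜 ℳ ((i : ℕ) : ℤ)).subtype := Submodule.mem_map_of_mem h3
        rw [Submodule.map_span] at h5
        refine Submodule.span_mono ?_ h5
        rintro _ ⟨_, ⟨b, rfl⟩, rfl⟩
        exact ⟨⟨i, b⟩, rfl⟩
      exact Submodule.span_le_restrictScalars (GrLC.deg0 𝒜) R (Set.range v) h4
    intro x _
    rw [← DirectSum.sum_support_decompose ℳ x]
    exact Submodule.sum_mem _ fun n _ => hhom n _ (DirectSum.decompose ℳ x n).2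
  refine ⟨κ, Module.Basis.mk hli hsp, fun x => ?_⟩
  rw [Module.Basis.mk_apply]
  exact ⟨_, hv x⟩

end Groth.Agent.S20022
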