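import Groth.Statements.S20023
import Groth.Agent.VBCurve.K706.CompTens

set_option autoImplicit false
universe u
open CategoryTheory CategoryTheory.Limits AlgebraicGeometry
open VBCurve

namespace Groth.Agent.S20023

/-- Let k be an algebraically closed field of characteristic zero, Y a smooth proper k-scheme of
dimension one, possibly disconnected but with no isolated points (a disjoint union of smooth
projective curves), and L an ample invertible O_Y-module such that for every connected component U
of Y, with j : U → Y the inclusion, O_U = j_*(O_Y|_U) and L_U = j_*(L|_U), the Euler characteristics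
satisfy χ(O_U) · (χ(L) − χ(O_Y)) = χ(O_Y) · (χ(L_U) − χ(O_U)) (the correction term of every
component vanishes: χ(O_U)/deg(L|_U) is the same for all components). Then the polarized curve (Y,
L) has the tensor-product property: for any two finite locally free O_Y-modules E and F with
nowhere-zero stalks (support all of Y) that are semistable of dimension one with respect to L, the
tensor product E ⊗ F is semistable of dimension one with respect to L. The published statement
speaks of any two semistable locally free sheaves; as in the definition of the property, E and F are
taken with support equal to Y. -/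
theorem result
    (k : Type u) [Field k] [IsAlgClosed k] [CharZero k]
    (Y : Scheme.{u}) [Y.Over (Spec (CommRingCat.of k))] [IsProper (Y ↘ Spec (CommRingCat.of k))]
    [Smooth (Y ↘ Spec (CommRingCat.of k))] (hdim : topologicalKrullDim Y = 1)
    (hpure : ∀ y : Y, ¬ IsOpen ({y} : Set Y))
    (L : Y.Modules) (hL : CohB1.IsAmple L)
    (hB : ∀ U : Y.Opens, IsClopen (U : Set Y) → _root_.IsConnected (U : Set Y) →
      Curv2.euler k Y ((Scheme.Modules.pushforward U.ι).obj ((Coh.structureModule Y).restrict U.ι)) * (Curv2.euler k Y L - Curv2.euler k Y (Coh.structureModule Y)) =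
        Curv2.euler k Y (Coh.structureModule Y) * (Curv2.euler k Y ((Scheme.Modules.pushforward U.ι).obj (L.restrict U.ι)) - Curv2.euler k Y ((Scheme.Modules.pushforward U.ι).obj ((Coh.structureModule Y).restrict U.ι))))
    (E F : Y.Modules) (hE : FlatMod.IsFinLocFree E) (hF : FlatMod.IsFinLocFree F)
    (hE0 : ∀ y : Y, ¬ Subsingleton (E.presheaf.stalk y)) (hF0 : ∀ y : Y, ¬ Subsingleton (F.presheaf.stalk y))
    (hEs : ShStab.IsSemistable k Y L E 1) (hFs : ShStab.IsSemistable k Y L F 1) :
    ShStab.IsSemistable k Y L (CohB1.tensorMod E F) 1 := by
  have := K707.Deg.isNoetherian k (X := Y)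
  exact (K706.CompTens.main (k := k) ⟨hdim, hL⟩ hpure hB hE hE0 hEs hF hF0 hFs).1


end Groth.Agent.S20023
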