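import Groth.Statements.S20027
import Groth.Agent.S18655
import Groth.Agent.GrLC.K82.VerPoly

set_option autoImplicit false
universe u
open GrLC

namespace Groth.Agent.S20027

/-- Let k be a field, s ≥ 1, d ≥ 1, and R = k[X_1, …, X_s] graded with every variable in degree 1.
Present the Veronese subring R^(d) = ⊕_j R_{jd} as a commutative ring R' with an injective ring
homomorphism φ : R' → R whose image is the set of polynomials whose homogeneous components in all
degrees not divisible by d are zero, and let m' be the maximal ideal of R' that is the preimage of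
the ideal of polynomials with zero constant term (the irrelevant ideal of R^(d)). Let n be the least
integer such that n ≥ s and d divides n. Then the type of R^(d), namely the Bass number μ_s(m', R')
= dim over the residue field of Ext^s over the local ring R'_{m'} from its residue field to R'_{m'}
(here s = dim R'), equals the binomial coefficient (n − 1 choose s − 1). -/
theorem result (k : Type u) [Field k] (s d : ℕ) (hs : 1 ≤ s)
    (hd : 1 ≤ d) (R' : Type u) [CommRing R'] (φ : R' →+* MvPolynomial (Fin s) k)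
    (hφ : Function.Injective φ)
    (hrange : ∀ p : MvPolynomial (Fin s) k, p ∈ φ.range ↔
      ∀ j : ℕ, ¬ d ∣ j → MvPolynomial.homogeneousComponent j p = 0)
    (m' : Ideal R') [m'.IsMaximal]
    (hm' : m' = Ideal.comap φ (RingHom.ker (MvPolynomial.constantCoeff : MvPolynomial (Fin s) k →+* k)))
    (n : ℕ) (hsn : s ≤ n) (hdn : d ∣ n) (hmin : ∀ n' : ℕ, s ≤ n' → d ∣ n' → n ≤ n') :
    GrLC.bassNum m' R' s = (Nat.choose (n - 1) (s - 1) : ℕ∞) := by
  let := K82.VerPoly.gr'Ring k s d hd R' φ hφ hrange
  have hG := K82.VerPoly.gorenstein k s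
  obtain ⟨I⟩ := K759.Exist.nonempty_res (K82.VerPoly.gr k s) (K82.VerPoly.gr k s)
  have hker := K82.VerPoly.ker_eq k s d hd R' φ hφ hrange
  have hsp : m' = Ideal.span (⋃ j ∈ Set.Ioi (0 : ℤ), (K82.VerPoly.gr' k s d R' φ j : Set R')) :=
    hm'.trans hker
  let m'' : HomogeneousIdeal (K82.VerPoly.gr' k s d R' φ) := ⟨m', by
    rw [hsp]
    exact Ideal.homogeneous_span _ _ fun x hx => by
      simp only [Set.mem_iUnion] at hx
      obtain ⟨d, -, hd⟩ := hx
      exact ⟨d, hd⟩⟩
  have hmax : m''.toIdeal.IsMaximal := inferInstanceAs m'.IsMaximal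
  have hlt : n - s < d := by
    by_contra hge
    have h1 := hmin (n - d) (by omega) ((Nat.dvd_sub hdn dvd_rfl))
    omega
  have h := Groth.Agent.S18655.result (MvPolynomial (Fin s) k) (K82.VerPoly.gr k s)
    (fun n hn => K82.VerPoly.gr_neg k s hn) (K82.VerPoly.isField_deg0 k s) (K82.VerPoly.m k s)
    (K82.VerPoly.isStarLocal k s) rfl (K82.VerPoly.std_gen k s) s (K82.VerPoly.ringKrullDim_eq k s) I
    (-(s : ℤ)) (K82.VerPoly.endDeg_eq k s I) d hd R' (K82.VerPoly.gr' k s d R' φ) φ hφ
    (fun j => K82.VerPoly.map_gr' k s d R' φ hrange j) m'' hsp ((n - s : ℕ) : ℤ) (Int.natCast_nonneg _)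
    (by exact_mod_cast hlt) (by
      have h1 : (-(s : ℤ) - ((n - s : ℕ) : ℤ)) = -(n : ℤ) := by
        rw [Nat.cast_sub hsn]; ring
      rw [h1, dvd_neg]
      exact_mod_cast hdn)
  refine h.trans ?_
  rw [K82.VerPoly.finrank_comp k s hs]
  have h2 : s - 1 + (n - s) = n - 1 := by omega
  rw [h2]

end Groth.Agent.S20027
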