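import Groth.Statements.S20028
import Groth.Agent.CurvesC.DualRep
import Groth.Agent.CurvesC.DualDegForm
import Groth.Agent.CurvesC.TailUnion
import Groth.Agent.Curves.K335.AmpleCard

set_option autoImplicit false
universe u
open CategoryTheory CategoryTheory.Limits AlgebraicGeometry
attribute [local instance] HasDerivedCategory.standard
open Curves

namespace Groth.Agent.S20028

open Groth.Agent.CurvesC TopologicalSpace

section Aux

open CurveNum TailNum

attribute [local instance] subOver topMod

/-- A dual pair in the sealed form gives a dual pair in the raw form. -/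
theorem isPair_of_isDual (k : Type u) [Field k] {X : Scheme.{u}} [X.Over (Spec (CommRingCat.of k))]
    {w : X.Modules} {t : HV X w 1 →ₗ[k] k} (h : IsDual w t) :
    DualCount.IsPair k (t ∘ₗ (HV.equiv k w 1).symm.toLinearMap) := by
  intro F hF ψ
  obtain ⟨φ, hφ, huniq⟩ := h F hF (ψ ∘ₗ (HV.equiv k F 1).toLinearMap)
  have key : ∀ (φ' : F ⟶ w) (x : Coh.HH X F 1),
      (HV.equiv k w 1).symm (Sheaf.H.map ((SheafOfModules.toSheaf X.ringCatSheaf).map φ') 1 x) =
        HV.map k φ' 1 ((HV.equiv k F 1).symm x) := by
    intro φ' x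
    rw [LinearEquiv.symm_apply_eq, HV.equiv_map, LinearEquiv.apply_symm_apply]
  refine ⟨φ, fun x => ?_, fun φ' hφ' => huniq φ' ?_⟩
  · have h1 := LinearMap.congr_fun hφ ((HV.equiv k F 1).symm x)
    simp only [LinearMap.comp_apply, LinearEquiv.coe_coe, LinearEquiv.apply_symm_apply] at h1 ⊢
    rw [key, h1]
  · ext y
    have h1 := hφ' (HV.equiv k F 1 y)
    simp only [LinearMap.comp_apply, LinearEquiv.coe_coe] at h1 ⊢
    rw [h1, key, LinearEquiv.symm_apply_apply]

/-- A finite algebra which is a field over an algebraically closed field has dimension one. -/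
theorem finrank_eq_one {k R : Type*} [Field k] [IsAlgClosed k] [CommRing R] (hR : IsField R) (φ : k →+* R)
    (m : Module k R) (hm : m = Module.compHom R φ) (hfin : Module.Finite k R) :
    Module.finrank k R = 1 := by
  subst hm
  let _ : Algebra k R := φ.toAlgebra
  have h1 : IsDomain R := hR.isDomain
  have h2 : Module.Finite k R := hfin
  have h3 : Function.Bijective (algebraMap k R) := IsAlgClosed.algebraMap_bijective_of_isIntegral
  exact ((LinearEquiv.ofBijective (Algebra.linearMap k R) h3).finrank_eq).symm.trans (Module.finrank_self k)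

/-- The global functions on a reduced connected closed subscheme of a proper scheme over an algebraically closed
field are the constants. -/
theorem finrank_quotMod_zero_eq_one (k : Type u) [Field k] [IsAlgClosed k] (X : Scheme.{u})
    [X.Over (Spec (CommRingCat.of k))] [IsProper (X ↘ (Spec (CommRingCat.of k)))] (J : X.IdealSheafData)
    [AlgebraicGeometry.IsReduced J.subscheme] [ConnectedSpace J.subscheme] :
    Module.finrank k (Coh.HH X (ClSub.quotMod J) 0) = 1 := by
  rw [← finrank_quotMod_zero]
  have h1 := finite_quotMod k X J 0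
  have h2 : Module.Finite k (Coh.Γtop J.subscheme) :=
    Module.Finite.equiv ((hZeroTop k J.subscheme).symm.trans (quotEquiv k X J 0)).symm
  exact finrank_eq_one (R := Γ(J.subscheme, ⊤)) (isField_Γtop k X J) (Coh.toGlobal (J.subscheme ↘ (Spec (CommRingCat.of k)))) _ rfl h2

/-- On a reduced scheme the ideal of the closure of an open subset is the kernel of the open immersion. -/
theorem complIdeal_eq {X : Scheme.{u}} [IsLocallyNoetherian X] [AlgebraicGeometry.IsReduced X] (Y : Closeds X) :
    TailGeom.complIdeal Y =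
      Scheme.IdealSheafData.vanishingIdeal ⟨closure ((Y : Set X)ᶜ), isClosed_closure⟩ := by
  have h := Groth.Agent.Ega1.ReducedSub.radical_ker_eq
    (Scheme.Opens.ι (⟨(Y : Set X)ᶜ, Y.isClosed.isOpen_compl⟩ : X.Opens))
  have h2 : (⟨closure ((Y : Set X)ᶜ), isClosed_closure⟩ : Closeds X) = (TailGeom.complIdeal Y).support := by
    ext1
    exact (TailGeom.support_complIdeal Y).symm
  rw [h2, Scheme.IdealSheafData.vanishingIdeal_support]
  exact h.symm

end Aux

/-- The numerical argument. -/
theorem numerics (g : ℕ) (hg : 2 ≤ g) (d e w : ℤ) (K h1 : ℕ)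
    (hw : w = (K : ℤ) - 2 * (1 - (h1 : ℤ)))
    (hbal : |2 * (2 * (g : ℤ) - 2) * e - 2 * d * w| ≤ (2 * (g : ℤ) - 2) * (K : ℤ))
    (hd : (g : ℤ) - 1 ≤ d) (he : 1 ≤ e) : 0 ≤ w ∧ (w = 0 → e = 1) := by
  have hg' : (2 : ℤ) ≤ g := by exact_mod_cast hg
  set a : ℤ := 2 * (g : ℤ) - 2 with ha
  have ha0 : 0 < a := by omega
  have hd0 : 0 < d := by omega
  have hK : (K : ℤ) ≤ w + 2 := by omega
  have hle := (le_abs_self _).trans hbal
  have h2 : a * (K : ℤ) ≤ a * (w + 2) := mul_le_mul_of_nonneg_left hK ha0.le
  have h3 : 2 * a * 1 ≤ 2 * a * e := mul_le_mul_of_nonneg_left he (by omega)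
  constructor
  · by_contra hcon
    have hw1 : w ≤ -1 := by omega
    have h4 : a * (w + 2) ≤ a * 1 := mul_le_mul_of_nonneg_left (by omega) ha0.le
    have h5 : 0 ≤ 2 * d * (-w) := mul_nonneg (by omega) (by omega)
    nlinarith
  · intro hw0
    subst hw0
    have h6 : 2 * a * e ≤ a * 2 := by
      have := hle.trans h2
      simpa using this
    have h7 : e ≤ 1 := by
      by_contra hcon
      have h8 : 2 * a * 2 ≤ 2 * a * e := mul_le_mul_of_nonneg_left (by omega) (by omega)
      nlinarith
    omega

/-- Let k be an algebraically closed field and X a connected reduced Gorenstein curve over k of genus g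
≥ 2: X is proper over k, reduced, connected, of dimension one, and its dualizing module ω_X (the
degree −1 cohomology sheaf of f^! O for the structure morphism f, for any choice of the data Rf_* on
D_QCoh with its right adjoint) is invertible; g = dim_k H^1(X, O_X). A connected subcurve Z of X is
a reduced connected closed subscheme of dimension one, deg_Z of a module means the degree of its
pullback to Z, and k_Z is the length of the scheme-theoretic intersection of Z with the reduced
closed subscheme supported on the closure of X ∖ Z. Let L be an invertible module of degree d which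
is balanced (for every connected subcurve Z, |deg_Z L − (d/(2g−2)) deg_Z ω_X| ≤ k_Z/2, written
cleared of denominators), ample, and of degree d ≥ g − 1. Then X is G-quasistable and L has degree 1
on every exceptional subcurve: deg_Z ω_X ≥ 0 for every connected subcurve Z, and every connected
subcurve Z with deg_Z ω_X = 0 is irreducible and has deg_Z L = 1. The published statement is made
for pre-wp-stable curves (nodes, cusps and tacnodes with a line) and concludes that X is
quasi-wp-stable and L properly balanced; this row states the numerical conclusion its argument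
yields for any connected reduced Gorenstein curve, and only the bound d ≥ g − 1 is needed (compare
the equivalence for d > 3(g − 1)). -/
theorem result (k : Type u) [Field k] [IsAlgClosed k] (X : Scheme.{u}) [X.Over (Spec (CommRingCat.of k))]
    [IsProper (X ↘ (Spec (CommRingCat.of k)))] [AlgebraicGeometry.IsReduced X] [ConnectedSpace X] (hdim : topologicalKrullDim X = 1)
    [DCoh.HasRpush (X ↘ (Spec (CommRingCat.of k)))] (h : DCoh.RpushPreservesQCoh (X ↘ (Spec (CommRingCat.of k)))) [DCoh.HasShriek (X ↘ (Spec (CommRingCat.of k))) h]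
    (OY : DCoh.DQCoh (Spec (CommRingCat.of k)))
    (hOY : Nonempty (OY.obj ≅ DCoh.inD (Spec (CommRingCat.of k)) (Coh.structureModule (Spec (CommRingCat.of k)))))
    (hGor : PicF.IsInvertible (DCoh.dualizingMod (X ↘ (Spec (CommRingCat.of k))) h OY 1)) (hg : 2 ≤ Curv2.genus k X)
    (L : X.Modules) (hL : PicF.IsInvertible L)
    (hbal : ∀ J : X.IdealSheafData, AlgebraicGeometry.IsReduced J.subscheme → ConnectedSpace J.subscheme →
      topologicalKrullDim J.subscheme = 1 →
      |2 * (2 * (Curv2.genus k X : ℤ) - 2) * @Curv2.deg k _ J.subscheme ⟨J.subschemeι ≫ (X ↘ (Spec (CommRingCat.of k)))⟩ ((Scheme.Modules.pullback J.subschemeι).obj L) 1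
          - 2 * Curv2.deg k X L 1 * @Curv2.deg k _ J.subscheme ⟨J.subschemeι ≫ (X ↘ (Spec (CommRingCat.of k)))⟩ ((Scheme.Modules.pullback J.subschemeι).obj (DCoh.dualizingMod (X ↘ (Spec (CommRingCat.of k))) h OY 1)) 1|
        ≤ (2 * (Curv2.genus k X : ℤ) - 2) * (Module.finrank k (Coh.HH X (ClSub.quotMod (J ⊔ (Scheme.IdealSheafData.vanishingIdeal ⟨closure ((J.support : Set X)ᶜ), isClosed_closure⟩))) 0) : ℤ))
    (hd : (Curv2.genus k X : ℤ) - 1 ≤ Curv2.deg k X L 1) (hamp : CohB1.IsAmple L) :
      ((∀ J : X.IdealSheafData, AlgebraicGeometry.IsReduced J.subscheme → ConnectedSpace J.subscheme →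
      topologicalKrullDim J.subscheme = 1 →
        0 ≤ @Curv2.deg k _ J.subscheme ⟨J.subschemeι ≫ (X ↘ (Spec (CommRingCat.of k)))⟩ ((Scheme.Modules.pullback J.subschemeι).obj (DCoh.dualizingMod (X ↘ (Spec (CommRingCat.of k))) h OY 1)) 1) ∧
      (∀ J : X.IdealSheafData, AlgebraicGeometry.IsReduced J.subscheme → ConnectedSpace J.subscheme →
      topologicalKrullDim J.subscheme = 1 →
        @Curv2.deg k _ J.subscheme ⟨J.subschemeι ≫ (X ↘ (Spec (CommRingCat.of k)))⟩ ((Scheme.Modules.pullback J.subschemeι).obj (DCoh.dualizingMod (X ↘ (Spec (CommRingCat.of k))) h OY 1)) 1 = 0 → IrreducibleSpace J.subscheme) ∧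
      (∀ J : X.IdealSheafData, AlgebraicGeometry.IsReduced J.subscheme → ConnectedSpace J.subscheme →
      topologicalKrullDim J.subscheme = 1 →
        @Curv2.deg k _ J.subscheme ⟨J.subschemeι ≫ (X ↘ (Spec (CommRingCat.of k)))⟩ ((Scheme.Modules.pullback J.subschemeι).obj (DCoh.dualizingMod (X ↘ (Spec (CommRingCat.of k))) h OY 1)) 1 = 0 → @Curv2.deg k _ J.subscheme ⟨J.subschemeι ≫ (X ↘ (Spec (CommRingCat.of k)))⟩ ((Scheme.Modules.pullback J.subschemeι).obj L) 1 = 1)) := by
  have hLN : IsLocallyNoetherian X := LocallyOfFiniteType.isLocallyNoetherian (X ↘ (Spec (CommRingCat.of k)))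
  have hCS : CompactSpace X := QuasiCompact.compactSpace_of_compactSpace (X ↘ (Spec (CommRingCat.of k)))
  have hN : IsNoetherian X := { }
  obtain ⟨t, ht⟩ := DualRep.exists_isDual k X h OY hdim.le hOY
  have ht' := isPair_of_isDual k ht
  have hJN : ∀ J : X.IdealSheafData, IsNoetherian J.subscheme := fun J => by
    let _ := TailNum.subOver k X J
    have hP : IsProper (J.subscheme ↘ Spec (CommRingCat.of k)) :=
      inferInstanceAs (IsProper (J.subschemeι ≫ (X ↘ (Spec (CommRingCat.of k)))))
    have hLN : IsLocallyNoetherian J.subscheme :=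
      LocallyOfFiniteType.isLocallyNoetherian (J.subscheme ↘ (Spec (CommRingCat.of k)))
    have hCS : CompactSpace J.subscheme :=
      QuasiCompact.compactSpace_of_compactSpace (J.subscheme ↘ (Spec (CommRingCat.of k)))
    exact { }
  have main : ∀ J : X.IdealSheafData, AlgebraicGeometry.IsReduced J.subscheme → ConnectedSpace J.subscheme →
      topologicalKrullDim J.subscheme = 1 →
      0 ≤ @Curv2.deg k _ J.subscheme ⟨J.subschemeι ≫ (X ↘ (Spec (CommRingCat.of k)))⟩ ((Scheme.Modules.pullback J.subschemeι).obj (DCoh.dualizingMod (X ↘ (Spec (CommRingCat.of k))) h OY 1)) 1 ∧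
      (@Curv2.deg k _ J.subscheme ⟨J.subschemeι ≫ (X ↘ (Spec (CommRingCat.of k)))⟩ ((Scheme.Modules.pullback J.subschemeι).obj (DCoh.dualizingMod (X ↘ (Spec (CommRingCat.of k))) h OY 1)) 1 = 0 →
        @Curv2.deg k _ J.subscheme ⟨J.subschemeι ≫ (X ↘ (Spec (CommRingCat.of k)))⟩ ((Scheme.Modules.pullback J.subschemeι).obj L) 1 = 1) := by
    intro J hJr hJc hJ1
    have := hJN J
    have hpure := TailMain.pure_of_connected J.subscheme hJ1
    have hform := DualDegForm.deg_form k hdim _ hGor ht' J.support
      (TailUnion.subset_closure_interior hdim.le J hpure)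
    rw [← TailUnion.eq_vanishingIdeal J, complIdeal_eq, finrank_quotMod_zero_eq_one k X J] at hform
    have he : 1 ≤ @Curv2.deg k _ J.subscheme ⟨J.subschemeι ≫ (X ↘ (Spec (CommRingCat.of k)))⟩
        ((Scheme.Modules.pullback J.subschemeι).obj L) 1 := by
      let _ := TailNum.subOver k X J
      have hP : IsProper (J.subscheme ↘ Spec (CommRingCat.of k)) :=
        inferInstanceAs (IsProper (J.subschemeι ≫ (X ↘ (Spec (CommRingCat.of k)))))
      exact K335.AmpleCard.one_le_deg k J.subscheme hJ1 _
        (Groth.Agent.Fdesc.LocGen.isInvertible_pullback _ hL) (Groth.Agent.Sga5.AmpleFib.isAmple_pullback _ hamp)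
    exact numerics (Curv2.genus k X) hg _ _ _ _ _ hform (hbal J hJr hJc hJ1) hd he
  refine ⟨fun J h1 h2 h3 => (main J h1 h2 h3).1, fun J h1 h2 h3 h4 => ?_, fun J h1 h2 h3 => (main J h1 h2 h3).2⟩
  have h5 := (main J h1 h2 h3).2 h4
  let _ := TailNum.subOver k X J
  have hP : IsProper (J.subscheme ↘ Spec (CommRingCat.of k)) :=
    inferInstanceAs (IsProper (J.subschemeι ≫ (X ↘ (Spec (CommRingCat.of k)))))
  exact K335.AmpleCard.irreducibleSpace_of_deg_eq_one k J.subscheme h3 _
    (Groth.Agent.Fdesc.LocGen.isInvertible_pullback _ hL)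
    (Groth.Agent.Sga5.AmpleFib.isAmple_pullback _ hamp) h5

end Groth.Agent.S20028
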