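import Groth.Statements.S20029
import Groth.Agent.Coh.K415.DivAbs

set_option autoImplicit false
universe u
open CategoryTheory CategoryTheory.Limits AlgebraicGeometry
open Coh

open K882.Coho K882.IsoMon K882.Divisor

namespace Groth.Agent.S20029

/-- Let k be a field of characteristic p > 0 whose Frobenius endomorphism is finite, X a scheme smooth
and proper over k of relative dimension N, and 𝓘 a quasi-coherent ideal of X whose ideal module is
invertible with an ample tensor-inverse L, such that the closed subscheme Y defined by 𝓘, with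
inclusion i : Y → X, is smooth over k (a smooth hypersurface section; no boundary divisor). Suppose
Y is sufficiently ample with respect to X: for every q ≥ 0 and every O_X-module Ω which is a q-th
exterior power of the sheaf of absolute differentials Ω_{X/ℤ}, one has H^i(X, 𝓘^{⊗ n} ⊗ Ω) = 0 for
all n ≥ 1 and all i with i + q ≤ N − 1. Then the analogous vanishing holds on Y one degree lower:
for every q ≥ 0 and every O_Y-module Ω' which is a q-th exterior power of the absolute differentials
Ω_{Y/ℤ}, H^i(Y, (i^*𝓘)^{⊗ n} ⊗ Ω') = 0 for all n ≥ 1 and all i with i + q ≤ N − 2, where i^*𝓘 is the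
module pullback of the ideal module along i (the conormal sheaf O_Y(−Y)). -/
theorem result
    (k : Type u) [Field k] (p : ℕ) [Fact p.Prime] [CharP k p] (hF : (frobenius k p).Finite)
    (X : Scheme.{u}) (f : X ⟶ Spec (CommRingCat.of k)) [IsProper f] (N : ℕ)
    [SmoothOfRelativeDimension N f]
    (𝓘 : X.IdealSheafData) (L : X.Modules) (hL : ClSub.IsInverseOf L (ClSub.idealMod 𝓘)) (hamp : CohB1.IsAmple L)
    [Smooth (𝓘.subschemeι ≫ f)]
    (hsa : ∀ (q : ℕ) (Ω : X.Modules), ExtPow.IsExtPow q (Omega.sheaf (specULiftZIsTerminal.from X)) Ω → ∀ n i : ℕ, 1 ≤ n → i + q + 1 ≤ N → Subsingleton (Coh.HH X (CohB1.tensorMod (CohB1.tensorPow (ClSub.idealMod 𝓘) n) Ω) i)) :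
    ∀ (q : ℕ) (Ω' : (𝓘.subscheme).Modules),
      ExtPow.IsExtPow q (Omega.sheaf (specULiftZIsTerminal.from 𝓘.subscheme)) Ω' →
      ∀ n i : ℕ, 1 ≤ n → i + q + 2 ≤ N →
        Subsingleton (Coh.HH 𝓘.subscheme
          (CohB1.tensorMod (CohB1.tensorPow ((Scheme.Modules.pullback 𝓘.subschemeι).obj (ClSub.idealMod 𝓘)) n) Ω') i) := by
  have hS : Smooth f := SmoothOfRelativeDimension.smooth N f
  have hI : PicF.IsInvertible (ClSub.idealMod 𝓘) := by
    refine inv_of_mul hamp.1 ?_
    rw [mul_comm]
    exact isInverseOf_iff.mp hL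
  obtain ⟨S, hSS, e1, e2, e3⟩ := K415.DivAbs.exists_abs_seq 𝓘 f N hI
  have hEX := K415.DivAbs.isFinLocFree_abs p hF f
  have hEY := K415.DivAbs.isFinLocFree_abs p hF (𝓘.subschemeι ≫ f)
  obtain ⟨AX, hAX⟩ := exists_pows hEX
  obtain ⟨AY, hAY⟩ := exists_pows hEY
  intro q Ω' hΩ' n i hn hi
  have key := K415.DivAbs.van_main 𝓘 (n := N - 1) hI hEX hEY hSS e1 e2 e3 AX hAX AY hAY (by
    intro j hj a q hq
    refine van_c ?_ q (hsa a (AX a) (hAX a) j q hj (by omega))
    rw [c_tensor, c_tensor, mul_comm]) q i n hn (by omega)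
  refine van_c ?_ i key
  rw [c_tensor, c_tensor, K415.DivAbs.c_pull_pow _ hI, c_pow, c_extPow_unique rfl (hAY q) hΩ']

end Groth.Agent.S20029
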