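import Groth.Statements.S20030
import Groth.Agent.EtCoh.K721.TransField
-- import your own Groth.Agent.* helpers here

set_option autoImplicit false
universe u
open CategoryTheory CategoryTheory.Limits AlgebraicGeometry
open EtCoh

namespace Groth.Agent.S20030

/-- In the case of a single smooth boundary divisor, let k be a finite field, ℓ a prime number
invertible in k, m ≥ 1, X a scheme smooth and proper over k of relative dimension N ≥ 2, and i : Y →
X a closed immersion whose complement is an affine open subset, with Y smooth over k of relative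
dimension N − 1 (a smooth hypersurface section of X). Let e : E → X be a closed immersion with E
smooth over k of relative dimension N − 1 (a smooth divisor on X) such that the scheme-theoretic
intersection E ×_X Y is smooth over k of relative dimension N − 2 (Y meets E transversally). Write V
= X ∖ E for the open complement and V' = i⁻¹(V) = Y ∖ (E ∩ Y). Then the restriction map H^q_et(V,
Z/ℓ^m) → H^q_et(V', Z/ℓ^m) along i restricted to V' → V is bijective for q ≤ N − 2 and injective for
q = N − 1. (The source allows a simple normal crossing boundary divisor with several components, all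
Tate twists Z/ℓ^m(j), and also 1-local or separably closed base fields; this row is the case of one
smooth component, untwisted coefficients and a finite base field. Exactness of pullback of abelian
étale sheaves along V' → V is carried as an instance hypothesis.) -/
theorem result
    (k : Type u) [Field k] [Finite k] (ℓ : ℕ) (hℓ : ℓ.Prime) (hℓk : (ℓ : k) ≠ 0) (m : ℕ) (hm : 1 ≤ m)
    {X Y E : Scheme.{u}} (f : X ⟶ Spec (CommRingCat.of k)) [IsProper f] (N : ℕ) (hN : 2 ≤ N)
    [SmoothOfRelativeDimension N f]
    (i : Y ⟶ X) [IsClosedImmersion i] (W : X.Opens) (hW : IsAffineOpen W)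
    (hWcov : (W : Set X) = (Set.range (fun y : Y => i.base y))ᶜ)
    [SmoothOfRelativeDimension (N - 1) (i ≫ f)]
    (e : E ⟶ X) [IsClosedImmersion e] [SmoothOfRelativeDimension (N - 1) (e ≫ f)]
    [SmoothOfRelativeDimension (N - 2) (pullback.fst e i ≫ e ≫ f)]
    (V : X.Opens) (hV : (V : Set X) = (Set.range (fun x : E => e.base x))ᶜ)
    [PreservesFiniteLimits (EtCoh.pull (i ∣_ V))] (q : ℕ) :
    (q + 2 ≤ N → Function.Bijective (EtCore.Hpull (i ∣_ V) (EtCoh.const (↑V) (ZMod (ℓ ^ m))) q)) ∧
    (q + 1 = N → Function.Injective (EtCore.Hpull (i ∣_ V) (EtCoh.const (↑V) (ZMod (ℓ ^ m))) q)) := by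
  obtain ⟨M, rfl⟩ : ∃ M, N = M + 2 := ⟨N - 2, by omega⟩
  have hY : SmoothOfRelativeDimension (M + 1) (i ≫ f) :=
    inferInstanceAs (SmoothOfRelativeDimension (M + 2 - 1) (i ≫ f))
  have hE : SmoothOfRelativeDimension (M + 1) (e ≫ f) :=
    inferInstanceAs (SmoothOfRelativeDimension (M + 2 - 1) (e ≫ f))
  have hEY : SmoothOfRelativeDimension M (pullback.snd e i ≫ i ≫ f) := by
    rw [← pullback.condition_assoc]
    exact inferInstanceAs (SmoothOfRelativeDimension (M + 2 - 2) (pullback.fst e i ≫ e ≫ f))
  have hmk : ((ℓ ^ m : ℕ) : k) ≠ 0 := by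
    rw [Nat.cast_pow]
    exact pow_ne_zero _ hℓk
  have hWa : IsAffine (W : Scheme.{u}) := hW
  have hκ : Set.range (i ∣_ V) = V.ι ⁻¹' Set.range i :=
    K721.TransField.range_of_isPullback (isPullback_morphismRestrict i V).flip
  obtain ⟨h1, h2⟩ := K721.TransField.lefschetz k f M i e V.ι
    (by rw [Scheme.Opens.range_ι]; exact hV) W.ι (by rw [Scheme.Opens.range_ι]; exact hWcov) (ℓ ^ m) hmk
    (i ∣_ V) hκ
  exact ⟨fun h => h1 q (by omega), fun h => h2 q h⟩

end Groth.Agent.S20030
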