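import Groth.Statements.S20031
import Groth.Agent.S19152

set_option autoImplicit false
open CategoryTheory MonoidalCategory CartesianMonoidalCategory MonObj GrpObj AlgebraicGeometry
universe u
open Par

namespace Groth.Agent.S20031

open Groth.Agent.K547

/-- Let O be a valuation ring with fraction field K, j : Spec K ⟶ S = Spec O the generic point, G a
reductive S-group and p : P ⟶ G a parabolic subgroup. Call a parabolic subgroup minimal when every
parabolic subgroup of the same group contained in it (a parabolic q : Q ⟶ G factoring through it) is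
equal to it (the factoring map is an isomorphism). Then P is a minimal parabolic subgroup of G if
and only if its generic fibre P_K ⟶ G_K is a minimal parabolic subgroup of G_K. Together with the
unique extension of parabolic subgroups from G_K to G this says that generization is a bijection
B(G) ≅ B(G_K) between the sets of minimal parabolic subgroups. -/
theorem result (O : Type u) [CommRing O] [IsDomain O] [ValuationRing O]
    (G : Over (Spec (CommRingCat.of O))) [GrpObj G] (hG : Red.IsReductive G)
    (P : Over (Spec (CommRingCat.of O))) [GrpObj P] (p : P ⟶ G) (hp : Red.IsParabolic p) :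
    (∀ (Q : Over (Spec (CommRingCat.of O))) [GrpObj Q] (q : Q ⟶ G) (f : Q ⟶ P),
        Red.IsParabolic q → f ≫ p = q → IsIso f) ↔
    (∀ (Q : Over (Spec (CommRingCat.of (FractionRing O)))) [GrpObj Q]
        (q : Q ⟶ Red.bc (Spec.map (CommRingCat.ofHom (algebraMap O (FractionRing O)))) G) (f : Q ⟶ Red.bc (Spec.map (CommRingCat.ofHom (algebraMap O (FractionRing O)))) P),
        Red.IsParabolic q → f ≫ (Over.pullback (Spec.map (CommRingCat.ofHom (algebraMap O (FractionRing O))))).map p = q → IsIso f) := by
  have hmono : Mono p := by
    have := hp.2.1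
    exact Groth.Agent.Sga3C.ClosedSub.mono_of_left _
  have hc := hp.2.1
  have hc' : IsClosedImmersion ((Over.pullback (GenFib.gen O)).map p).left :=
    MorphismProperty.overPullbackMap (P := @IsClosedImmersion) _ p hc
  have hmono' : Mono ((Over.pullback (GenFib.gen O)).map p) := Groth.Agent.Sga3C.ClosedSub.mono_of_left _
  constructor
  · intro h Q₁ _ q₁ f₁ hq₁ hf₁
    obtain ⟨⟨Q, _, q, hq, e, he⟩, -⟩ := Groth.Agent.S19152.result O G hG Q₁ q₁ hq₁
    have : Smooth Q.hom := hq.2.2.1
    have hu : (e.hom ≫ f₁) ≫ (Over.pullback (GenFib.gen O)).map p = (Over.pullback (GenFib.gen O)).map q := by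
      rw [Category.assoc, hf₁, he]
    obtain ⟨f, hf⟩ := GenFib.exists_fac q p (e.hom ≫ f₁) hu
    have hiso : IsIso f := h Q q f hq hf
    have e1 : (Over.pullback (GenFib.gen O)).map f = e.hom ≫ f₁ := by
      rw [← cancel_mono ((Over.pullback (GenFib.gen O)).map p), hu, ← Functor.map_comp, hf]
    have : IsIso (e.hom ≫ f₁) := by
      rw [← e1]
      infer_instance
    exact IsIso.of_isIso_comp_left e.hom f₁
  · intro h Q _ q f hq hf
    have hq' := Groth.Agent.RedSub.H648.BorBc.isParabolic_bc (GenFib.gen O) hG hq
    have hi : IsIso ((Over.pullback (GenFib.gen O)).map f) :=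
      h _ _ ((Over.pullback (GenFib.gen O)).map f) hq' (by rw [← Functor.map_comp, hf])
    have hcq := hq.2.1
    have : Mono q := Groth.Agent.Sga3C.ClosedSub.mono_of_left _
    have : Smooth P.hom := hp.2.2.1
    obtain ⟨g, hg⟩ := GenFib.exists_fac p q (CategoryTheory.inv ((Over.pullback (GenFib.gen O)).map f)) (by
      rw [← hf, Functor.map_comp, IsIso.inv_hom_id_assoc])
    exact ⟨g, by rw [← cancel_mono q, Category.assoc, hg, hf, Category.id_comp],
      by rw [← cancel_mono p, Category.assoc, hf, hg, Category.id_comp]⟩

end Groth.Agent.S20031
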