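import Groth.Statements.S20032
import Groth.Agent.Par.K547.HensMin

set_option autoImplicit false
open CategoryTheory MonoidalCategory CartesianMonoidalCategory MonObj GrpObj AlgebraicGeometry
universe u
open Par

namespace Groth.Agent.S20032

/-- Let O be a henselian local ring with residue field k, i : Spec k ⟶ S = Spec O the closed point, G a
reductive S-group and p : P ⟶ G a parabolic subgroup. Call a parabolic subgroup minimal when every
parabolic subgroup of the same group factoring through it does so by an isomorphism. Then P is a
minimal parabolic subgroup of G if and only if its closed fibre P_k ⟶ G_k is a minimal parabolic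
subgroup of G_k. Together with the lifting of parabolic subgroups from G_k to G this says that
specialization induces a surjection B(G) → B(G_k) between the sets of minimal parabolic subgroups.
(The implication from minimality of P_k to minimality of P holds over any local base; the converse
uses that O is henselian.) -/
theorem result (O : Type u) [CommRing O] [HenselianLocalRing O]
    (G : Over (Spec (CommRingCat.of O))) [GrpObj G] (hG : Red.IsReductive G)
    (P : Over (Spec (CommRingCat.of O))) [GrpObj P] (p : P ⟶ G) (hp : Red.IsParabolic p) :
    (∀ (Q : Over (Spec (CommRingCat.of O))) [GrpObj Q] (q : Q ⟶ G) (f : Q ⟶ P),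
        Red.IsParabolic q → f ≫ p = q → IsIso f) ↔
    (∀ (Q : Over (Spec (CommRingCat.of (IsLocalRing.ResidueField O)))) [GrpObj Q]
        (q : Q ⟶ Red.bc (Spec.map (CommRingCat.ofHom (IsLocalRing.residue O))) G) (f : Q ⟶ Red.bc (Spec.map (CommRingCat.ofHom (IsLocalRing.residue O))) P),
        Red.IsParabolic q → f ≫ (Over.pullback (Spec.map (CommRingCat.ofHom (IsLocalRing.residue O)))).map p = q → IsIso f) := Groth.Agent.K547.HensMin.minPar_bc_iff hG hp

end Groth.Agent.S20032
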