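import Groth.Statements.S20033
import Groth.Agent.Par.K547.Triples

set_option autoImplicit false
open CategoryTheory MonoidalCategory CartesianMonoidalCategory MonObj GrpObj AlgebraicGeometry
universe u
open Par

namespace Groth.Agent.S20033

/-- Let O be a henselian local ring with residue field k, i : Spec k ⟶ S = Spec O the closed point, and
G a reductive S-group. A maximal split torus of G is a subgroup scheme which is a torus isomorphic
to some D(ℤ^r) and which equals every split subtorus of G containing it; SP(G) is the set of pairs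
(T, P) of a maximal split torus T and a parabolic subgroup P of G such that the centralizer of T in
G is contained in P. Then the specialization map SP(G) → SP(G_k) is surjective: for every maximal
split torus T₀ of G_k and every parabolic subgroup P₀ of G_k containing the centralizer of T₀, there
are a maximal split torus T of G and a parabolic subgroup P of G containing the centralizer of T
whose closed fibres are T₀ and P₀ up to isomorphism over G_k. ('Contains the centralizer' is stated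
as: every subgroup scheme that is a centralizer of the torus factors through the parabolic.) -/
theorem result (O : Type u) [CommRing O] [HenselianLocalRing O]
    (G : Over (Spec (CommRingCat.of O))) [GrpObj G] (hG : Red.IsReductive G)
    (T₀ : Over (Spec (CommRingCat.of (IsLocalRing.ResidueField O)))) [GrpObj T₀] (σ₀ : T₀ ⟶ Red.bc (Spec.map (CommRingCat.ofHom (IsLocalRing.residue O))) G) [IsMonHom σ₀] [Mono σ₀]
    (hT₀ : (Red.IsTorus T₀ ∧ (∃ r : ℕ, Red.IsSplitTorusWith (Fin r → ℤ) T₀) ∧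
      (∀ (T' : Over (Spec (CommRingCat.of (IsLocalRing.ResidueField O)))) [GrpObj T'] (σ' : T' ⟶ Red.bc (Spec.map (CommRingCat.ofHom (IsLocalRing.residue O))) G) [IsMonHom σ'] [Mono σ'] (f : T₀ ⟶ T'),
        Red.IsTorus T' → (∃ r : ℕ, Red.IsSplitTorusWith (Fin r → ℤ) T') → f ≫ σ' = σ₀ → IsIso f)))
    (P₀ : Over (Spec (CommRingCat.of (IsLocalRing.ResidueField O)))) [GrpObj P₀] (p₀ : P₀ ⟶ Red.bc (Spec.map (CommRingCat.ofHom (IsLocalRing.residue O))) G) (hp₀ : Red.IsParabolic p₀)
    (hZ₀ : ∀ (Z₀ : Over (Spec (CommRingCat.of (IsLocalRing.ResidueField O)))) [GrpObj Z₀] (z₀ : Z₀ ⟶ Red.bc (Spec.map (CommRingCat.ofHom (IsLocalRing.residue O))) G),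
      Red.IsCentralizerOf σ₀ z₀ → ∃ zP₀ : Z₀ ⟶ P₀, zP₀ ≫ p₀ = z₀) :
    ∃ (T : Over (Spec (CommRingCat.of O))) (_ : GrpObj T) (σ : T ⟶ G) (_ : IsMonHom σ) (_ : Mono σ)
      (P : Over (Spec (CommRingCat.of O))) (_ : GrpObj P) (p : P ⟶ G),
      (Red.IsTorus T ∧ (∃ r : ℕ, Red.IsSplitTorusWith (Fin r → ℤ) T) ∧
      (∀ (T' : Over (Spec (CommRingCat.of O))) [GrpObj T'] (σ' : T' ⟶ G) [IsMonHom σ'] [Mono σ'] (f : T ⟶ T'),
        Red.IsTorus T' → (∃ r : ℕ, Red.IsSplitTorusWith (Fin r → ℤ) T') → f ≫ σ' = σ → IsIso f)) ∧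
      Red.IsParabolic p ∧
      (∀ (Z : Over (Spec (CommRingCat.of O))) [GrpObj Z] (z : Z ⟶ G),
        Red.IsCentralizerOf σ z → ∃ zP : Z ⟶ P, zP ≫ p = z) ∧
      (∃ e : Red.bc (Spec.map (CommRingCat.ofHom (IsLocalRing.residue O))) T ≅ T₀, e.hom ≫ σ₀ = (Over.pullback (Spec.map (CommRingCat.ofHom (IsLocalRing.residue O)))).map σ) ∧
      (∃ e' : Red.bc (Spec.map (CommRingCat.ofHom (IsLocalRing.residue O))) P ≅ P₀, e'.hom ≫ p₀ = (Over.pullback (Spec.map (CommRingCat.ofHom (IsLocalRing.residue O)))).map p) := by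
  obtain ⟨r, J, hJ, hJm, hmax, e, he, he'⟩ :=
    Groth.Agent.K547.LiftSpl.exists_lift_maxSpl hG.2.1 hG.1 σ₀ hT₀
  obtain ⟨x, hx⟩ := Groth.Agent.K547.Triples.exists_x hG σ₀ hT₀ J e he he' p₀ hp₀ hZ₀
  obtain ⟨P, _, p, hp, hpar⟩ := Groth.Agent.K547.DynTools.exists_isDynP
    (Groth.Agent.Sga3B.Parab.OrbM156.lamN J x) hG
  refine ⟨Red.DS (Spec (CommRingCat.of O)) (Fin r → ℤ), inferInstance, J, hJ, hJm, P, inferInstance,
    p, hmax, hpar, ?_, ⟨e, he'⟩, ?_⟩
  · intro Z _ z hz
    exact (hp.iff_ptP Z z).2 (Groth.Agent.K547.Triples.ptZ_lamN J x hz).ptP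
  · exact Groth.Agent.K547.DynTools.exists_iso_of_isDynP _ (hp.bc _) hx

end Groth.Agent.S20033
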