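import Groth.Statements.S20034
import Groth.Agent.Par.K547.Triples

set_option autoImplicit false
open CategoryTheory MonoidalCategory CartesianMonoidalCategory MonObj GrpObj AlgebraicGeometry
universe u
open Par

namespace Groth.Agent.S20034

/-- Let O be a henselian local ring with residue field k and G a reductive group over Spec O. With
maximal split tori as in the companion statement (a torus isomorphic to some D(ℤ^r) that equals
every split subtorus containing it) and minimal parabolic subgroups (parabolic subgroups through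
which no other parabolic subgroup factors except isomorphically), SBP(G) is the set of triples (T,
B, P) with T a maximal split torus, B a minimal parabolic subgroup containing the centralizer of T,
and P a parabolic subgroup containing B. Then the specialization map SBP(G) → SBP(G_k) is
surjective: every such triple (T₀, B₀, P₀) for G_k is, up to isomorphisms over G_k, the closed fibre
of such a triple (T, B, P) for G. -/
theorem result (O : Type u) [CommRing O] [HenselianLocalRing O]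
    (G : Over (Spec (CommRingCat.of O))) [GrpObj G] (hG : Red.IsReductive G)
    (T₀ : Over (Spec (CommRingCat.of (IsLocalRing.ResidueField O)))) [GrpObj T₀] (σ₀ : T₀ ⟶ Red.bc (Spec.map (CommRingCat.ofHom (IsLocalRing.residue O))) G) [IsMonHom σ₀] [Mono σ₀]
    (hT₀ : (Red.IsTorus T₀ ∧ (∃ r : ℕ, Red.IsSplitTorusWith (Fin r → ℤ) T₀) ∧
      (∀ (T' : Over (Spec (CommRingCat.of (IsLocalRing.ResidueField O)))) [GrpObj T'] (σ' : T' ⟶ Red.bc (Spec.map (CommRingCat.ofHom (IsLocalRing.residue O))) G) [IsMonHom σ'] [Mono σ'] (f : T₀ ⟶ T'),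
        Red.IsTorus T' → (∃ r : ℕ, Red.IsSplitTorusWith (Fin r → ℤ) T') → f ≫ σ' = σ₀ → IsIso f)))
    (B₀ : Over (Spec (CommRingCat.of (IsLocalRing.ResidueField O)))) [GrpObj B₀] (b₀ : B₀ ⟶ Red.bc (Spec.map (CommRingCat.ofHom (IsLocalRing.residue O))) G)
    (hB₀ : (Red.IsParabolic b₀ ∧ ∀ (Q : Over (Spec (CommRingCat.of (IsLocalRing.ResidueField O)))) [GrpObj Q] (q : Q ⟶ Red.bc (Spec.map (CommRingCat.ofHom (IsLocalRing.residue O))) G) (f : Q ⟶ B₀),
        Red.IsParabolic q → f ≫ b₀ = q → IsIso f))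
    (hZ₀ : ∀ (Z₀ : Over (Spec (CommRingCat.of (IsLocalRing.ResidueField O)))) [GrpObj Z₀] (z₀ : Z₀ ⟶ Red.bc (Spec.map (CommRingCat.ofHom (IsLocalRing.residue O))) G),
      Red.IsCentralizerOf σ₀ z₀ → ∃ zB₀ : Z₀ ⟶ B₀, zB₀ ≫ b₀ = z₀)
    (P₀ : Over (Spec (CommRingCat.of (IsLocalRing.ResidueField O)))) [GrpObj P₀] (p₀ : P₀ ⟶ Red.bc (Spec.map (CommRingCat.ofHom (IsLocalRing.residue O))) G) (hp₀ : Red.IsParabolic p₀)
    (c₀ : B₀ ⟶ P₀) (hc₀ : c₀ ≫ p₀ = b₀) :
    ∃ (T : Over (Spec (CommRingCat.of O))) (_ : GrpObj T) (σ : T ⟶ G) (_ : IsMonHom σ) (_ : Mono σ)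
      (B : Over (Spec (CommRingCat.of O))) (_ : GrpObj B) (b : B ⟶ G)
      (P : Over (Spec (CommRingCat.of O))) (_ : GrpObj P) (p : P ⟶ G) (c : B ⟶ P),
      (Red.IsTorus T ∧ (∃ r : ℕ, Red.IsSplitTorusWith (Fin r → ℤ) T) ∧
      (∀ (T' : Over (Spec (CommRingCat.of O))) [GrpObj T'] (σ' : T' ⟶ G) [IsMonHom σ'] [Mono σ'] (f : T ⟶ T'),
        Red.IsTorus T' → (∃ r : ℕ, Red.IsSplitTorusWith (Fin r → ℤ) T') → f ≫ σ' = σ → IsIso f)) ∧
      (Red.IsParabolic b ∧ ∀ (Q : Over (Spec (CommRingCat.of O))) [GrpObj Q] (q : Q ⟶ G) (f : Q ⟶ B),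
        Red.IsParabolic q → f ≫ b = q → IsIso f) ∧
      (∀ (Z : Over (Spec (CommRingCat.of O))) [GrpObj Z] (z : Z ⟶ G),
        Red.IsCentralizerOf σ z → ∃ zB : Z ⟶ B, zB ≫ b = z) ∧
      Red.IsParabolic p ∧ c ≫ p = b ∧
      (∃ e : Red.bc (Spec.map (CommRingCat.ofHom (IsLocalRing.residue O))) T ≅ T₀, e.hom ≫ σ₀ = (Over.pullback (Spec.map (CommRingCat.ofHom (IsLocalRing.residue O)))).map σ) ∧
      (∃ e' : Red.bc (Spec.map (CommRingCat.ofHom (IsLocalRing.residue O))) B ≅ B₀, e'.hom ≫ b₀ = (Over.pullback (Spec.map (CommRingCat.ofHom (IsLocalRing.residue O)))).map b) ∧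
      (∃ e'' : Red.bc (Spec.map (CommRingCat.ofHom (IsLocalRing.residue O))) P ≅ P₀, e''.hom ≫ p₀ = (Over.pullback (Spec.map (CommRingCat.ofHom (IsLocalRing.residue O)))).map p) := by
  have hG' := Groth.Agent.Sga3B.RedBcAny636.isReductive_bc (Groth.Agent.K547.HensLift.cl O) hG
  obtain ⟨r, J, hJ, hJm, hmax, e, he, he'⟩ :=
    Groth.Agent.K547.LiftSpl.exists_lift_maxSpl hG.2.1 hG.1 σ₀ hT₀
  obtain ⟨x, hx⟩ := Groth.Agent.K547.Triples.exists_x hG σ₀ hT₀ J e he he' b₀ hB₀.1 hZ₀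
  obtain ⟨y, hy⟩ := Groth.Agent.K547.Triples.exists_x hG σ₀ hT₀ J e he he' p₀ hp₀
    (fun Z₀ _ z₀ hz₀ => by
      obtain ⟨zB₀, h⟩ := hZ₀ Z₀ z₀ hz₀
      exact ⟨zB₀ ≫ c₀, by rw [Category.assoc, hc₀, h]⟩)
  have hmin := (Groth.Agent.K547.HensMin.minPar_iff hG' hx).1 hB₀.2
  obtain ⟨kap, hkap, h1, h2, h3⟩ := Groth.Agent.K547.Triples.exists_refine
    (Groth.Agent.K547.HensLift.cl O) J hG x y (Groth.Agent.K547.Triples.comm_bc _ J x y) hmin
    (Groth.Agent.K547.Triples.le_of_factor hx hy c₀ hc₀)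
  obtain ⟨P, _, p, hp, hpar⟩ := Groth.Agent.K547.DynTools.exists_isDynP
    (Groth.Agent.Sga3B.Parab.OrbM156.lamN J y) hG
  obtain ⟨B, _, b, hb, hbar⟩ := Groth.Agent.K547.DynTools.exists_isDynP kap hG
  obtain ⟨c, hc⟩ := (hp.iff_ptP B b).2 (h1 B b hb.ptP)
  refine ⟨Red.DS (Spec (CommRingCat.of O)) (Fin r → ℤ), inferInstance, J, hJ, hJm, B, inferInstance,
    b, P, inferInstance, p, c, hmax, ⟨hbar, ?_⟩, ?_, hpar, hc, ⟨e, he'⟩, ?_, ?_⟩
  · exact (Groth.Agent.K547.HensMin.minPar_iff hG hb).2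
      (Groth.Agent.K547.HensMin.isMin_of_bc hG (hmin.of_eqv h3.symm))
  · intro Z _ z hz
    exact (hb.iff_ptP Z z).2 (h2 Z z (Groth.Agent.K547.Triples.ptZ_lamN J y hz)
      (Groth.Agent.K547.Triples.ptZ_lamN J x hz)).ptP
  · exact Groth.Agent.K547.Triples.exists_iso_of_eqv (hb.bc _) hx h3
  · exact Groth.Agent.K547.DynTools.exists_iso_of_isDynP _ (hp.bc _) hy

end Groth.Agent.S20034
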