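import Groth.Statements.S3118
-- import your own Groth.Agent.* helpers here
import Groth.Agent.Sga4B.FinExact
import Groth.Agent.EtPBC.K582.PrimColim
import Groth.Agent.S0071

set_option autoImplicit false
universe u
open CategoryTheory CategoryTheory.Limits AlgebraicGeometry Opposite
open EtPBC

namespace Groth.Agent.S3118

theorem finExact : Groth.Agent.Sga4B.Dev65.FinExact.{u} :=
  Groth.Agent.Sga4B.FinExact.finExact_of_Rpush
    (fun f _ F => Groth.Agent.S0071.result f F 1 le_rfl)

/-- Let h : Y -> X be a morphism of quasi-compact quasi-separated schemes, ℓ a prime and n a natural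
number. Suppose that for every finite morphism p : X' -> X, with h' : Y ×_X X' -> X' the base change
of h, and every ν, the pullback map H^i(X', Z/ℓ^ν) -> H^i(Y ×_X X', Z/ℓ^ν) is injective for i = 0
and surjective for all i ≤ n. Then for every abelian sheaf F on the small etale site of X whose
sections are killed by powers of ℓ, the pullback map H^i(X, F) -> H^i(Y, h^* F) is bijective for i ≤
n and injective for i = n + 1. The pullback maps are EtCore.Hpull, which carry the exactness of
inverse image as an instance hypothesis (a known fact absent from Mathlib). -/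
theorem result {X Y : Scheme.{u}} (h : Y ⟶ X)
    [CompactSpace X] [QuasiSeparatedSpace X] [CompactSpace Y] [QuasiSeparatedSpace Y]
    (ℓ : ℕ) (hℓ : ℓ.Prime) (n : ℕ)
    (hb : ∀ (X' : Scheme.{u}) (p : X' ⟶ X) [IsFinite p] [EtCoh.BCCont (pullback.fst p h)]
      [PreservesFiniteLimits (EtCoh.pull (pullback.fst p h))] (ν : ℕ),
      Function.Injective (EtCore.Hpull (pullback.fst p h) (EtCoh.const X' (ZMod (ℓ ^ ν))) 0) ∧
      ∀ i ≤ n, Function.Surjective (EtCore.Hpull (pullback.fst p h) (EtCoh.const X' (ZMod (ℓ ^ ν))) i))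
    [EtCoh.BCCont h] [PreservesFiniteLimits (EtCoh.pull h)]
    (F : EtCoh.Ab X) (hF : ∀ (U : X.Etale) (s : EtCoh.sect F U), ∃ k : ℕ, ℓ ^ k • s = 0) :
    (∀ i ≤ n, Function.Bijective (EtCore.Hpull h F i)) ∧
      Function.Injective (EtCore.Hpull h F (n + 1)) := by
  have hF' : _root_.Dix.IsPrimaryTorsion ℓ F := fun U s x => by
    obtain ⟨k, hk⟩ := hF U s
    exact ⟨U, 𝟙 U, ⟨x, rfl⟩, k, by rw [← map_nsmul, hk, map_zero]⟩
  have hb' : Groth.Agent.Sga4B.Dev65.HypB h ℓ n := by
    intro X' p _ ν
    haveI := Groth.Agent.Sga4B.Dev65.exactPull (pullback.fst p h)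
    have h1 := hb X' p ν
    refine ⟨?_, fun i hi => ?_⟩
    · have h2 := h1.1
      rw [Groth.Agent.Sga4B.HpullSquare.Hpull_eq_cmp] at h2
      exact h2
    · have h2 := h1.2 i hi
      rw [Groth.Agent.Sga4B.HpullSquare.Hpull_eq_cmp] at h2
      exact h2
  have main := K582.PrimColim.main (h := h) (ℓ := ℓ) (n := n) hℓ finExact
    Groth.Agent.Sga4B.FinExact.colimCoh hb' F hF'
  refine ⟨fun i hi => ?_, ?_⟩
  · rw [Groth.Agent.Sga4B.HpullSquare.Hpull_eq_cmp]
    exact main.1 i hi
  · rw [Groth.Agent.Sga4B.HpullSquare.Hpull_eq_cmp]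
    exact main.2

end Groth.Agent.S3118
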