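import Groth.Statements.S3706
import Groth.Agent.SGA1t.K341.FiveTerm
import Groth.Agent.Pi1.H405.Assemble

set_option autoImplicit false
open CategoryTheory CategoryTheory.Limits AlgebraicGeometry
universe u
open SGA1t

namespace Groth.Agent.S3706

/-- Case of the constant sheaf Z/n with n invertible on S, first conclusion: let f : X -> S be proper,
smooth and of finite presentation, φ_1, ..., φ_r cut out a strict normal crossings divisor relative
to S with complement U, and q : U -> S the restriction of f. Then R^1 q_* (Z/n) is a finite locally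
constant sheaf on S. -/
theorem result {X S : Scheme.{u}} (f : X ⟶ S) [IsProper f] [Smooth f]
    [LocallyOfFinitePresentation f] {r : ℕ} (φ : Fin r → Γ(X, ⊤)) (hD : SGA1t.IsRelSNC f φ)
    (n : ℕ) (hn : IsUnit ((n : ℕ) : Γ(S, ⊤))) :
    EtCoh.IsFiniteLocallyConstant ((EtCoh.Rpush ((SGA1t.compl φ).ι ≫ f) 1).obj (EtCoh.const (SGA1t.compl φ : Scheme.{u}) (ZMod n))) := by
  by_cases h0 : n = 0
  · -- `0` is invertible on `S`, so `S` is empty
    subst h0
    have hS : ∀ x : S, False := by
      intro x
      have h1 : IsUnit ((0 : ℕ) : S.presheaf.stalk x) := by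
        simpa using hn.map (S.presheaf.germ ⊤ x trivial).hom
      rw [Nat.cast_zero, isUnit_zero_iff] at h1
      exact zero_ne_one h1
    exact ⟨PEmpty, fun i => i.elim, fun x => (hS x).elim, fun i => i.elim⟩
  · have : NeZero n := ⟨h0⟩
    have : Finite (ZMod n) := inferInstance
    have hM : ∀ m : ZMod n, n • m = 0 := fun m => by simp
    -- purity along the divisor: `i_* Z/n = Z/n`, and the `R^q f_* (R¹ i_* Z/n)` are finite locally constant
    have hr : Set.range (SGA1t.compl φ).ι =
        {x | ∀ i ∈ (Finset.univ : Finset (Fin r)), x ∈ X.basicOpen (φ i)} := by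
      rw [Scheme.Opens.range_ι]
      ext x
      rw [Set.mem_setOf_eq, SetLike.mem_coe, Groth.Agent.Pi1.H405.Assemble.mem_compl]
      exact ⟨fun h i _ => h i, fun h i => h i (Finset.mem_univ i)⟩
    have hG := K341.Snc.goodP_main (ZMod n) (fun i => X.basicOpen (φ i)) (K341.Snc.isExtClass_pushFLC f)
      (K341.Snc.hypP_dv hD n hn (ZMod n) hM) Finset.univ (SGA1t.compl φ).ι hr
    have := hG.unit
    let e : EtCoh.const X (ZMod n) ≅
        (EtCoh.push (SGA1t.compl φ).ι).obj (EtCoh.const (SGA1t.compl φ : Scheme.{u}) (ZMod n)) :=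
      asIso ((EtCoh.pullPushAdj (SGA1t.compl φ).ι).unit.app (EtCoh.const X (ZMod n))) ≪≫
        (EtCoh.push (SGA1t.compl φ).ι).mapIso
          (Groth.Agent.Sga4B.Pure.pullConst (SGA1t.compl φ).ι (ZMod n))
    -- the `R^q f_* (Z/n)` are finite locally constant
    have hc : K341.Snc.PushFLC f (EtCoh.const X (ZMod n)) := fun q =>
      Groth.Agent.S3097.result f n hn _ (Groth.Agent.Etrest.ConstBasic.isFiniteLocallyConstant_const _ _)
        (Groth.Agent.Etrest.ConstBasic.killedBy_const _ _ n hM) q
    have hc' := (K341.Snc.isExtClass_pushFLC f).iso e hc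
    -- the low degree exact sequence of the Leray spectral sequence of `U → X → S`
    exact K341.Snc.isFLC_R1 (SGA1t.compl φ).ι f _ (hc' 1) (hc' 2)
      (Groth.Agent.Etrest.ConstBasic.isFiniteLocallyConstant_of_iso
        ((Groth.Agent.Etrest.FinComp.rpushZero f).app _) (hG.mem 0))

end Groth.Agent.S3706
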