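import Groth.Statements.S3716
import Groth.Agent.Pi1.K546.Final
import Groth.Agent.Pi1.K546.Roots
import Groth.Agent.Pi1.K546.Action
import Groth.Agent.Pi1.H416.SHLocal
-- import your own Groth.Agent.* helpers here

set_option autoImplicit false
open CategoryTheory CategoryTheory.Limits AlgebraicGeometry
universe u
open SGA1t

namespace Groth.Agent.S3716

/-- Base change in degree 1 for principal covers of the complement of a relative strict normal crossings
divisor in a proper scheme, surjectivity half, at a geometric point. Let f : X → S be proper and of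
finite presentation, φ_1, …, φ_r global functions on X cutting out a strict normal crossings divisor
relative to S with complement U, h : S' → S any morphism and s' a point of S'; let R and R' be
strict henselisations of O_{S,h(s')} and O_{S',s'} with a compatible local map R → R', X̄ = X ×_S
Spec R with the pulled-back equations and Ū their complement (so Ū = U ×_S Spec R), and likewise X̄'
= X̄ ×_R Spec R' with complement Ū' (contained in the inverse image of Ū: hypothesis hle). Let C be
a finite group whose order is invertible in every residue field of S. Then every principal C-cover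
of Ū' is C-equivariantly isomorphic to the pullback of a principal C-cover of Ū. (With the order of
C invertible on S all such covers are tame, the sets of isomorphism classes of principal C-covers of
Ū and Ū' are the stalks of R¹q_*C, q : U → S, at the corresponding geometric points, and the
assertion is the surjectivity of the base-change map between them.) -/
theorem result {X S S' : Scheme.{u}} (f : X ⟶ S) [IsProper f] [LocallyOfFinitePresentation f] {r : ℕ} (φ : Fin r → Γ(X, ⊤))
    (hD : SGA1t.IsRelSNC f φ) (h : S' ⟶ S) (s' : S')
    (R : Type u) [CommRing R] [IsLocalRing R] [Algebra (S.presheaf.stalk (h.base s')) R]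
    [IsLocalHom (algebraMap (S.presheaf.stalk (h.base s')) R)] [Hensel.IsStrictHenselization (S.presheaf.stalk (h.base s')) R]
    (R' : Type u) [CommRing R'] [IsLocalRing R'] [Algebra (S'.presheaf.stalk s') R']
    [IsLocalHom (algebraMap (S'.presheaf.stalk s') R')] [Hensel.IsStrictHenselization (S'.presheaf.stalk s') R']
    [Algebra R R'] (hRR' : (algebraMap R R').comp (algebraMap (S.presheaf.stalk (h.base s')) R) =
      (algebraMap (S'.presheaf.stalk s') R').comp (h.stalkMap s').hom)
    (C : Type) [Group C] [Finite C] (hC : ∀ s : S, IsUnit ((Nat.card C : ℕ) : S.residueField s)) :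
    letI σ := Hens2.specOf S (h.base s') R
    letI m : Spec (CommRingCat.of R') ⟶ Spec (CommRingCat.of R) := Spec.map (CommRingCat.ofHom (algebraMap R R'))
    letI fb := pullback.snd f σ
    letI φbar : Fin r → Γ(pullback f σ, ⊤) := fun i => (pullback.fst f σ).appTop (φ i)
    letI kb := pullback.fst fb m
    letI φbar' : Fin r → Γ(pullback fb m, ⊤) := fun i => kb.appTop (φbar i)
    ∀ (hle : SGA1t.compl φbar' ≤ kb ⁻¹ᵁ SGA1t.compl φbar)
      (P' : FEt.Cat (SGA1t.compl φbar' : Scheme.{u})) (ρ' : C →* Aut P'), SGA1t.IsPrincipal C P' ρ' →
      ∃ (P : FEt.Cat (SGA1t.compl φbar : Scheme.{u})) (ρ : C →* Aut P), SGA1t.IsPrincipal C P ρ ∧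
        ∃ e : (FEt.restrict (kb.resLE (SGA1t.compl φbar) (SGA1t.compl φbar') hle)).obj P ≅ P',
          ∀ g : C, (FEt.restrict (kb.resLE (SGA1t.compl φbar) (SGA1t.compl φbar') hle)).map (ρ g).hom ≫ e.hom =
            e.hom ≫ (ρ' g).hom := by
  intro hle P' ρ' hP'
  have hh : HenselianLocalRing R :=
    (inferInstance : Hensel.IsStrictHenselization (S.presheaf.stalk (h.base s')) R).henselian
  have hh' : HenselianLocalRing R' :=
    (inferInstance : Hensel.IsStrictHenselization (S'.presheaf.stalk s') R').henselian
  have hs : IsSepClosed (IsLocalRing.ResidueField R) :=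
    Groth.Agent.Pi1.H416.SHLocal.isSepClosed_residueField (S.presheaf.stalk (h.base s')) R
  have hs' : IsSepClosed (IsLocalRing.ResidueField R') :=
    Groth.Agent.Pi1.H416.SHLocal.isSepClosed_residueField (S'.presheaf.stalk s') R'
  have hloc : IsLocalHom (algebraMap R R') :=
    Groth.Agent.Pi1.H416.SHLocal.isLocalHom (h.stalkMap s').hom (algebraMap R R') hRR'
  exact K546.Final.surjective @K546.Roots.exists_roots @K546.Action.exists_act
    (pullback.snd f (Hens2.specOf S (h.base s') R)) (IsPullback.of_hasPullback _ _) _
    (Groth.Agent.Pi1.H403.RelSNCBase.isRelSNC_baseChange f φ hD (Hens2.specOf S (h.base s') R)) C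
    (K546.Final.isUnit_natCast (h.base s') R _ (hC _)) hle P' ρ' hP'

end Groth.Agent.S3716
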