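import Groth.Statements.S4014
import Groth.Agent.VanCyc.K4.DegModel

set_option autoImplicit false
universe u
open VanCyc

namespace Groth.Agent.S4014

/-- Let A be a henselian local ring whose residue field k has characteristic 2, B₀ a finitely presented
A-algebra and P a maximal ideal of B₀ above the maximal ideal of A, with B = (B₀)_P flat over A and
B₀/P = k (a k-rational point). Suppose the closed fibre B/𝔪_A B has at its closed point an ordinary
quadratic singularity of even dimension 2m which is degenerate, i.e. not non-degenerate (in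
characteristic 2 and even dimension every ordinary quadratic point is degenerate). Then there are a
non-degenerate quadratic form Q' in 2m variables over A (coefficient matrix a'), b in the maximal
ideal of A and c in A such that the henselisation of B is A-isomorphic to the henselisation of
A[x_0, …, x_{2m}]/(x_0² + b x_0 + c + Q'(x_1, …, x_{2m})) at the point of its closed fibre where
x_1, …, x_{2m} vanish (the unique maximal ideal containing 𝔪_A and x_1, …, x_{2m}). (The published
statement allows a residue field purely inseparable over k; there it fails, because the quadratic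
form of the model has its coefficients in A, so the rational case is taken here.) -/
theorem result (A : Type u) [CommRing A] [HenselianLocalRing A]
    (hA : CharP (IsLocalRing.ResidueField A) 2)
    (B₀ : Type u) [CommRing B₀] [Algebra A B₀] [Algebra.FinitePresentation A B₀]
    (P : Ideal B₀) [P.IsMaximal] (hP : (IsLocalRing.maximalIdeal A).map (algebraMap A B₀) ≤ P)
    (hPi : ∀ y : B₀, ∃ c : A, y - algebraMap A B₀ c ∈ P)
    [Module.Flat A (Localization.AtPrime P)] (m : ℕ)
    (hq : VanCyc.IsOrdQuadPt (VanCyc.fibHom A (Localization.AtPrime P)) (2 * m))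
    (hq' : ¬ VanCyc.IsNondegQuadPt (VanCyc.fibHom A (Localization.AtPrime P)) (2 * m))
    (Bh : Type u) [CommRing Bh] [IsLocalRing Bh] [Algebra (Localization.AtPrime P) Bh]
    [IsLocalHom (algebraMap (Localization.AtPrime P) Bh)] [Hensel.IsHenselization (Localization.AtPrime P) Bh]
    [Algebra A Bh] [IsScalarTower A (Localization.AtPrime P) Bh] :
    ∃ (a' : Fin (2 * m) → Fin (2 * m) → A) (b c : A), VanCyc.QuadNondeg a' ∧ b ∈ IsLocalRing.maximalIdeal A ∧
      ∀ (Q : Ideal (VanCyc.degQuadRing A a' b c)) [Q.IsMaximal], VanCyc.sideIdeal A a' b c ≤ Q →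
        ∀ (C : Type u) [CommRing C] [IsLocalRing C] [Algebra (Localization.AtPrime Q) C]
          [IsLocalHom (algebraMap (Localization.AtPrime Q) C)] [Hensel.IsHenselization (Localization.AtPrime Q) C]
          [Algebra A C] [IsScalarTower A (Localization.AtPrime Q) C],
          Nonempty (Bh ≃ₐ[A] C) := by
  have hPi' : ∀ y : B₀, ∃ c : A, y - algebraMap A B₀ c ∈ P := hPi
  obtain ⟨X, a, D⟩ := K4.OrdEq.exists_ordData A B₀ P hP hPi' (2 * m) hq
  have hAB : (IsLocalRing.maximalIdeal A).map (algebraMap A (Localization.AtPrime P)) ≤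
      IsLocalRing.maximalIdeal (Localization.AtPrime P) := by
    rw [IsScalarTower.algebraMap_eq A B₀ (Localization.AtPrime P), ← Ideal.map_map]
    refine (Ideal.map_mono hP).trans ?_
    rw [Localization.AtPrime.map_eq_maximalIdeal]
  obtain ⟨N, R₀, _, _, Y, π₀, h₀, hπ₀, hfg⟩ :=
    Groth.Agent.Vancyc.H690.Model.exists_presentation A B₀ P hP hPi' Bh
  obtain ⟨R, _, _, _, x, F, φ, h, hφ, hker, hF⟩ :=
    K4.OrdEq.exists_equation hAB D h₀ π₀ hπ₀ hfg
  have h2 : (2 : AlgebraicClosure (IsLocalRing.ResidueField A)) = 0 := by
    have h3 : ((2 : ℕ) : IsLocalRing.ResidueField A) = 0 := CharP.cast_eq_zero _ 2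
    have h4 := congr(algebraMap (IsLocalRing.ResidueField A)
      (AlgebraicClosure (IsLocalRing.ResidueField A)) $h3)
    rw [map_natCast, map_zero] at h4
    exact_mod_cast h4
  obtain ⟨z, a', b, c, w, hz, ha', hb, hc, hw, hFz⟩ := K4.DegMorse.exists_normal
    ((algebraMap (IsLocalRing.ResidueField A)
      (AlgebraicClosure (IsLocalRing.ResidueField A))).comp (IsLocalRing.residue A))
    (fun c => by
      rw [RingHom.comp_apply, map_eq_zero]
      exact IsLocalRing.residue_eq_zero_iff c) h2 h a D.ord F hF
  refine ⟨a', b, c, ha', hb, ?_⟩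
  intro Q _ hQ C _ _ _ _ _ _ _
  obtain ⟨π, hπ, hkerπ⟩ := K4.DegModel.exists_model A a' b c hb hc Q hQ C hz
  have hkk : RingHom.ker φ = RingHom.ker π := by
    rw [hker, hkerπ, ← hFz, Ideal.span_singleton_mul_left_unit hw]
  exact ⟨((Ideal.quotientKerAlgEquivOfSurjective hφ).symm.trans
    (Ideal.quotientEquivAlgOfEq A hkk)).trans (Ideal.quotientKerAlgEquivOfSurjective hπ)⟩

end Groth.Agent.S4014
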