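import Groth.Statements.S4337
import Groth.Agent.S2276
import Mathlib.RingTheory.Nakayama
import Mathlib.LinearAlgebra.TensorProduct.Quotient
import Mathlib.LinearAlgebra.TensorProduct.RightExactness

set_option autoImplicit false
universe u
open LinTop

namespace Groth.Agent.S4337

/-- Let A be an admissible ring, J an ideal of definition, and u : M -> N a homomorphism of A-modules
with N of finite type. Then u is surjective if and only if u tensored with A/J is surjective. -/
theorem result
    (A : Type u) [CommRing A] [UniformSpace A] [IsUniformAddGroup A] [IsTopologicalRing A]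
    (hA : LinTop.IsAdmissible A) (J : Ideal A) (hJ : LinTop.IsIdealOfDefinition A J)
    (M N : Type u) [AddCommGroup M] [Module A M] [AddCommGroup N] [Module A N] [Module.Finite A N]
    (u : M →ₗ[A] N) :
    Function.Surjective u ↔ Function.Surjective (u.rTensor (A ⧸ J)) := by
  have hj := (Groth.Agent.S2276.result A hA J hJ).2
  constructor
  · intro h
    exact LinearMap.rTensor_surjective _ h
  · intro h
    refine LinearMap.surjective_of_surjective_comp_mkQ u J hj ?_
    intro y
    obtain ⟨n, rfl⟩ := Submodule.mkQ_surjective _ y
    obtain ⟨x, hx⟩ := h ((TensorProduct.tensorQuotEquivQuotSMul N J).symm (Submodule.Quotient.mk n))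
    obtain ⟨z, rfl⟩ := (TensorProduct.tensorQuotEquivQuotSMul M J).symm.surjective x
    obtain ⟨m, rfl⟩ := Submodule.mkQ_surjective _ z
    refine ⟨m, ?_⟩
    have h1 := congrArg (TensorProduct.tensorQuotEquivQuotSMul N J) hx
    rw [Submodule.mkQ_apply, TensorProduct.tensorQuotEquivQuotSMul_symm_mk,
      LinearMap.rTensor_tmul, LinearEquiv.apply_symm_apply,
      ← map_one (Ideal.Quotient.mk J), TensorProduct.tensorQuotEquivQuotSMul_tmul_mk, one_smul] at h1
    exact h1

end Groth.Agent.S4337
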