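import Groth.Statements.S4338
import Groth.Agent.LinTop.K22.FG

set_option autoImplicit false
universe u
open LinTop

namespace Groth.Agent.S4338

open Filter Topology

/-- For a finitely generated ideal. Let A be an admissible ring and I a finitely generated ideal
contained in an ideal of definition of A. Then A is separated and complete for the I-adic topology.
(The published statement has no finiteness hypothesis on I and is then not correct: the completion
of a polynomial ring in countably many variables over a field along the ideal generated by the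
variables, with its inverse-limit topology, is admissible, the kernel of its projection onto the
field is an ideal of definition, and the ring is not adically complete for that kernel.) -/
theorem result
    (A : Type u) [CommRing A] [UniformSpace A] [IsUniformAddGroup A] [IsTopologicalRing A]
    (hA : LinTop.IsAdmissible A) (J : Ideal A) (hJ : LinTop.IsIdealOfDefinition A J)
    (I : Ideal A) (hI : I.FG) (hIJ : I ≤ J) :
    IsAdicComplete I A := by
  obtain ⟨⟨hlin, -⟩, hT2, hcomp⟩ := hA
  have hna : NonarchimedeanAddGroup A := K22.Basic.nonarchimedeanAddGroup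
  have hK : ∀ U ∈ 𝓝 (0 : A), ∃ n, ∀ m, n ≤ m → ((I ^ m : Ideal A) : Set A) ⊆ U := by
    intro U hU
    obtain ⟨n, -, hn⟩ := hJ.2 U hU
    exact ⟨n, fun m hm x hx =>
      hn (((Ideal.pow_right_mono hIJ m).trans (Ideal.pow_le_pow_right hm)) hx)⟩
  have hsm : ∀ (n : ℕ) (x y : A), x ≡ y [SMOD (I ^ n • ⊤ : Submodule A A)] ↔ x - y ∈ I ^ n := by
    intro n x y
    rw [SModEq.sub_mem, smul_eq_mul, Ideal.mul_top]
  refine @IsAdicComplete.mk _ _ _ _ _ _ ⟨fun x hx => ?_⟩ ⟨fun f hf => ?_⟩
  · by_contra hne
    have hU : {x}ᶜ ∈ 𝓝 (0 : A) := isOpen_compl_singleton.mem_nhds (by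
      simpa using fun h => hne h.symm)
    obtain ⟨n, hn⟩ := hK _ hU
    have h1 : x ∈ I ^ n := by
      have := (hsm n x 0).1 (hx n)
      simpa using this
    exact hn n le_rfl h1 rfl
  · have hy : ∀ k, f (k + 1) - f k ∈ I ^ k := fun k => by
      have h1 := (hsm k _ _).1 (hf (Nat.le_succ k))
      have h2 := (I ^ k).neg_mem h1
      rwa [neg_sub] at h2
    have hcs : CauchySeq f := by
      refine NonarchimedeanAddGroup.cauchySeq_of_tendsto_sub_nhds_zero ?_
      rw [tendsto_def]
      intro U hU
      obtain ⟨n, hn⟩ := hK U hU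
      rw [mem_atTop_sets]
      exact ⟨n, fun m hm => hn m hm (hy m)⟩
    obtain ⟨L, hL⟩ := cauchySeq_tendsto_of_complete hcs
    refine ⟨L, fun n => (hsm n _ _).2 ?_⟩
    obtain ⟨s, hs, hs'⟩ := K22.FG.exists_sum_mem (G := I ^ n) (hI.pow) (fun k => I ^ k) hK
      (fun k => f (n + k + 1) - f (n + k)) (fun k => by rw [← pow_add]; exact hy (n + k))
    have h3 : (fun m => ∑ k ∈ Finset.range m, (f (n + k + 1) - f (n + k))) =
        fun m => f (n + m) - f n := by
      funext m
      exact Finset.sum_range_sub (fun k => f (n + k)) m
    rw [h3] at hs'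
    have h4 : Tendsto (fun m => f (n + m) - f n) atTop (𝓝 (L - f n)) := by
      refine Tendsto.sub_const ?_ _
      have := (tendsto_add_atTop_iff_nat n).2 hL
      simpa [add_comm] using this
    have h5 : L - f n = s := tendsto_nhds_unique h4 hs'
    rw [← neg_sub, h5]
    exact (I ^ n).neg_mem hs

end Groth.Agent.S4338
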