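import Groth.Statements.S4342
import Groth.Agent.Ega1.SubExtMain

set_option autoImplicit false
universe u
open QCohSup

namespace Groth.Agent.S4342

open AlgebraicGeometry in
open CategoryTheory in
open Opposite in
/-- In the sectionwise form its proof gives. Let X be a scheme whose underlying space is locally
Noetherian and F a quasi-coherent O_X-module. For every affine open U and every section s of F over
U there is a quasi-coherent sub-O_X-module of finite type of F having s among its sections over U;
hence F is the inductive limit of its quasi-coherent submodules of finite type. -/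
theorem result
    {X : Scheme.{u}}
    (hX : ∀ x : X, ∃ U : X.Opens, x ∈ U ∧ TopologicalSpace.NoetherianSpace (U : Set X))
    (F : X.Modules) [Coh.IsQCoh F]
    (U : X.affineOpens) (s : F.val.obj (op (U : X.Opens))) :
    ∃ (G' : X.Modules) (i' : G' ⟶ F), Mono i' ∧ Coh.IsQCoh G' ∧ CohB1.IsFT G' ∧
      ∃ g : G'.val.obj (op (U : X.Opens)), (i'.val.app (op (U : X.Opens))).hom g = s := by
  obtain ⟨N', hag, hN'⟩ := Groth.Agent.Ega1.SubExtMain.exists_extension_locNoeth (M := F) hX
    (N := Groth.Agent.Ega1.SubExt.gen
      ((Submodule.span Γ(X, U.1) {(show Γ(F, U.1) from s)} : Submodule Γ(X, U.1) Γ(F, U.1)) :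
        Set Γ(F, U.1))) (V := U)
    (fun x hx ↦ ⟨U, hx, Groth.Agent.Ega1.SubExt.goodOn_gen U.2 _
      (Submodule.fg_span_singleton _)⟩)
  obtain ⟨h1, h2⟩ := Groth.Agent.Ega1.SubExtMain.isQuasicoherent_of_good hN'
  have hs : (show Γ(F, U.1) from s) ∈ N'.obj U.1 := by
    rw [hag _ le_rfl]
    exact Groth.Agent.Ega1.SubExt.subset_gen (Submodule.mem_span_singleton_self _)
  exact ⟨N'.toModules, N'.ι, inferInstance, h1, h2, N'.sec _ hs, rfl⟩

end Groth.Agent.S4342
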