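import Groth.Statements.S4345
import Groth.Agent.S2281

set_option autoImplicit false
universe u
open SchLoc

namespace Groth.Agent.S4345

lemma ofPrime_congr {R : Type u} [Field R] {A : Subring R} {p q : Ideal A} [p.IsPrime] [q.IsPrime]
    (h : p = q) : LocalSubring.ofPrime A p = LocalSubring.ofPrime A q := by
  subst h; rfl

lemma eq_comap {R : Type u} [Field R] {A : Subring R} {M : LocalSubring R} (P : Ideal A) [P.IsPrime]
    (h : LocalSubring.ofPrime A P ≤ M) (hA : A ≤ M.toSubring) :
    P = (IsLocalRing.maximalIdeal M.toSubring).comap (Subring.inclusion hA) :=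
  (Groth.Agent.S2281.result R A M).2 P hA h

lemma ofPrime_comap_le {R : Type u} [Field R] {A : Subring R} {M : LocalSubring R}
    (hA : A ≤ M.toSubring) :
    LocalSubring.ofPrime A ((IsLocalRing.maximalIdeal M.toSubring).comap (Subring.inclusion hA))
      ≤ M := by
  obtain ⟨P, hP, h⟩ := (Groth.Agent.S2281.result R A M).1.mpr hA
  rw [← ofPrime_congr (eq_comap P h hA)]
  exact h

lemma max_comap {R : Type u} [Field R] {A B : Subring R} (hAB : A ≤ B) (P : Ideal B) [P.IsPrime]
    (hA : A ≤ (LocalSubring.ofPrime B P).toSubring) :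
    (IsLocalRing.maximalIdeal (LocalSubring.ofPrime B P).toSubring).comap (Subring.inclusion hA) =
      P.comap (Subring.inclusion hAB) := by
  have h := eq_comap P le_rfl (LocalSubring.le_ofPrime B P)
  conv_rhs => rw [h]
  rw [Ideal.comap_comap]
  rfl

lemma ofPrime_comap_inclusion_le {R : Type u} [Field R] {A B : Subring R} (hAB : A ≤ B)
    (P : Ideal B) [P.IsPrime] :
    LocalSubring.ofPrime A (P.comap (Subring.inclusion hAB)) ≤ LocalSubring.ofPrime B P := by
  have hA : A ≤ (LocalSubring.ofPrime B P).toSubring := hAB.trans (LocalSubring.le_ofPrime B P)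
  rw [← ofPrime_congr (max_comap hAB P hA)]
  exact ofPrime_comap_le hA

/-- Let A and B be subrings of a field R, C the subring generated by A and B, and for a subring E let
L(E) be the set of local subrings E_p of R, p a prime ideal of E. The following are equivalent: (i)
for every local subring Q of R containing A and B, the localizations of A and of B at the traces of
the maximal ideal of Q coincide; (ii) for every prime ideal r of C the localizations of A and B at
the traces of r coincide; (iii) two members of L(A) and L(B) dominated by a common local subring of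
R are equal; (iv) the intersection of L(A) and L(B) is L(C). -/
theorem result
    (R : Type u) [Field R] (A B : Subring R) :
    [ ∀ (Q : LocalSubring R) (hA : A ≤ Q.toSubring) (hB : B ≤ Q.toSubring),
        LocalSubring.ofPrime A ((IsLocalRing.maximalIdeal Q.toSubring).comap (Subring.inclusion hA)) =
          LocalSubring.ofPrime B ((IsLocalRing.maximalIdeal Q.toSubring).comap (Subring.inclusion hB)),
      ∀ r : PrimeSpectrum ↥(A ⊔ B),
        LocalSubring.ofPrime A (r.asIdeal.comap (Subring.inclusion (le_sup_left : A ≤ A ⊔ B))) =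
          LocalSubring.ofPrime B (r.asIdeal.comap (Subring.inclusion (le_sup_right : B ≤ A ⊔ B))),
      ∀ (p : PrimeSpectrum A) (q : PrimeSpectrum B),
        (∃ Q : LocalSubring R, LocalSubring.ofPrime A p.asIdeal ≤ Q ∧ LocalSubring.ofPrime B q.asIdeal ≤ Q) →
          LocalSubring.ofPrime A p.asIdeal = LocalSubring.ofPrime B q.asIdeal,
      Set.range (fun p : PrimeSpectrum A ↦ LocalSubring.ofPrime A p.asIdeal) ∩
          Set.range (fun q : PrimeSpectrum B ↦ LocalSubring.ofPrime B q.asIdeal) =
        Set.range (fun r : PrimeSpectrum ↥(A ⊔ B) ↦ LocalSubring.ofPrime (A ⊔ B) r.asIdeal) ].TFAE := by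
  tfae_have 1 → 2 := by
    intro h r
    have hA : A ≤ (LocalSubring.ofPrime (A ⊔ B) r.asIdeal).toSubring :=
      le_sup_left.trans (LocalSubring.le_ofPrime _ _)
    have hB : B ≤ (LocalSubring.ofPrime (A ⊔ B) r.asIdeal).toSubring :=
      le_sup_right.trans (LocalSubring.le_ofPrime _ _)
    rw [← ofPrime_congr (max_comap le_sup_left r.asIdeal hA),
      ← ofPrime_congr (max_comap le_sup_right r.asIdeal hB)]
    exact h _ hA hB
  tfae_have 2 → 1 := by
    intro h Q hA hB
    have hC : A ⊔ B ≤ Q.toSubring := sup_le hA hB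
    exact h ⟨(IsLocalRing.maximalIdeal Q.toSubring).comap (Subring.inclusion hC), inferInstance⟩
  tfae_have 1 → 3 := by
    rintro h p q ⟨Q, h1, h2⟩
    have hA : A ≤ Q.toSubring := (LocalSubring.le_ofPrime _ _).trans (LocalSubring.toSubring_mono h1)
    have hB : B ≤ Q.toSubring := (LocalSubring.le_ofPrime _ _).trans (LocalSubring.toSubring_mono h2)
    rw [ofPrime_congr (eq_comap _ h1 hA), ofPrime_congr (eq_comap _ h2 hB)]
    exact h Q hA hB
  tfae_have 3 → 1 := by
    intro h Q hA hB
    exact h ⟨(IsLocalRing.maximalIdeal Q.toSubring).comap (Subring.inclusion hA), inferInstance⟩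
      ⟨(IsLocalRing.maximalIdeal Q.toSubring).comap (Subring.inclusion hB), inferInstance⟩
      ⟨Q, ofPrime_comap_le hA, ofPrime_comap_le hB⟩
  tfae_have 2 → 4 := by
    intro h
    apply le_antisymm
    · rintro M ⟨⟨p, hp⟩, ⟨q, hq⟩⟩
      dsimp only at hp hq
      have hA : A ≤ M.toSubring := by rw [← hp]; exact LocalSubring.le_ofPrime _ _
      have hB : B ≤ M.toSubring := by rw [← hq]; exact LocalSubring.le_ofPrime _ _
      have hC : A ⊔ B ≤ M.toSubring := sup_le hA hB
      refine ⟨⟨(IsLocalRing.maximalIdeal M.toSubring).comap (Subring.inclusion hC), inferInstance⟩,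
        le_antisymm (ofPrime_comap_le hC) ?_⟩
      have h1 := ofPrime_comap_inclusion_le (le_sup_left : A ≤ A ⊔ B)
        ((IsLocalRing.maximalIdeal M.toSubring).comap (Subring.inclusion hC))
      have h2 := eq_comap _ hp.le hA
      have h3 : M = LocalSubring.ofPrime A
          (((IsLocalRing.maximalIdeal M.toSubring).comap (Subring.inclusion hC)).comap
            (Subring.inclusion (le_sup_left : A ≤ A ⊔ B))) := hp.symm.trans (ofPrime_congr h2)
      exact h3.le.trans h1
    · rintro M ⟨r, rfl⟩
      dsimp only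
      have hr := h r
      have hMC : A ⊔ B ≤ (LocalSubring.ofPrime A
          (r.asIdeal.comap (Subring.inclusion (le_sup_left : A ≤ A ⊔ B)))).toSubring := by
        apply sup_le (LocalSubring.le_ofPrime _ _)
        rw [hr]
        exact LocalSubring.le_ofPrime _ _
      have h1 := ofPrime_comap_inclusion_le (le_sup_left : A ≤ A ⊔ B) r.asIdeal
      have h2 := ofPrime_comap_le hMC
      have h3 := eq_comap _ (h2.trans h1) (LocalSubring.le_ofPrime _ _)
      have h4 := eq_comap r.asIdeal le_rfl (LocalSubring.le_ofPrime _ _)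
      rw [ofPrime_congr (h3.trans h4.symm)] at h2
      have h5 := le_antisymm h1 h2
      exact ⟨⟨⟨r.asIdeal.comap (Subring.inclusion (le_sup_left : A ≤ A ⊔ B)), inferInstance⟩, h5⟩,
        ⟨⟨r.asIdeal.comap (Subring.inclusion (le_sup_right : B ≤ A ⊔ B)), inferInstance⟩,
          hr.symm.trans h5⟩⟩
  tfae_have 4 → 2 := by
    intro h r
    have h0 : LocalSubring.ofPrime (A ⊔ B) r.asIdeal ∈
      Set.range (fun r : PrimeSpectrum ↥(A ⊔ B) ↦ LocalSubring.ofPrime (A ⊔ B) r.asIdeal) := ⟨r, rfl⟩
    rw [← h] at h0
    obtain ⟨⟨p, hp⟩, ⟨q, hq⟩⟩ := h0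
    dsimp only at hp hq
    have hA : A ≤ (LocalSubring.ofPrime (A ⊔ B) r.asIdeal).toSubring :=
      le_sup_left.trans (LocalSubring.le_ofPrime _ _)
    have hB : B ≤ (LocalSubring.ofPrime (A ⊔ B) r.asIdeal).toSubring :=
      le_sup_right.trans (LocalSubring.le_ofPrime _ _)
    have h1 := (eq_comap _ hp.le hA).trans (max_comap le_sup_left r.asIdeal hA)
    have h2 := (eq_comap _ hq.le hB).trans (max_comap le_sup_right r.asIdeal hB)
    rw [← ofPrime_congr h1, ← ofPrime_congr h2, hp, hq]
  tfae_finish

end Groth.Agent.S4345
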