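import Groth.Statements.S4349
import Groth.Agent.Ega1.RatFunBasic

set_option autoImplicit false
universe u
open RatFun

namespace Groth.Agent.S4349

open AlgebraicGeometry in
/-- Second assertion (in the form: sections over a dense open inject into the ring of rational
functions). Let X be a reduced scheme and V a dense open subset of X. The canonical map from the
sections of O_X over V to the ring R(X) of rational functions on X is injective. (The published
statement also assumes X locally integral or locally Noetherian; that hypothesis serves the
quasi-coherence of the sheaf of rational functions and is not needed here.) -/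
theorem result (X : Scheme.{u}) [IsReduced X]
    (V : X.Opens) (hV : Dense (V : Set X)) :
    Function.Injective (RatFun.toRing X V hV) := by
  refine (injective_iff_map_eq_zero (RatFun.toRing X V hV).hom).mpr ?_
  intro s hs
  obtain ⟨W, hWV, hW, h0⟩ := Groth.Agent.Ega1.RatFunBasic.exists_of_toRing_eq_zero hV s hs
  apply eq_zero_of_basicOpen_eq_bot
  have h1 : W ⊓ X.basicOpen s = ⊥ := by
    have h2 := X.basicOpen_res s (CategoryTheory.homOfLE hWV).op
    rw [← h2]
    have h3 : (X.presheaf.map (CategoryTheory.homOfLE hWV).op) s = 0 := h0
    rw [h3]
    exact X.basicOpen_zero W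
  by_contra hne
  have h4 : (X.basicOpen s : Set X).Nonempty := by
    rw [Set.nonempty_iff_ne_empty]
    intro h5
    exact hne (TopologicalSpace.Opens.ext h5)
  obtain ⟨x, hx1, hx2⟩ := hW.inter_open_nonempty _ (X.basicOpen s).2 h4
  have : x ∈ (W ⊓ X.basicOpen s : X.Opens) := ⟨hx2, hx1⟩
  rw [h1] at this
  exact this

end Groth.Agent.S4349
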