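import Groth.Statements.S4351
import Groth.Agent.QCohSup.K27.Adjoin

set_option autoImplicit false
universe u
open QCohSup

namespace Groth.Agent.S4351

open AlgebraicGeometry in
open CategoryTheory in
open Opposite in
/-- Case a), in the sectionwise form its proof gives. Let X be a scheme whose underlying space is
locally Noetherian and B a quasi-coherent O_X-algebra. Every section of B over an affine open U lies
in a quasi-coherent sub-O_X-algebra of B whose sections over every affine open form an algebra of
finite type over the functions (a condition equivalent to being of finite type near every point);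
hence B is the inductive limit of its quasi-coherent sub-O_X-algebras of finite type. -/
theorem result
    {X : Scheme.{u}}
    (hX : ∀ x : X, ∃ U : X.Opens, x ∈ U ∧ TopologicalSpace.NoetherianSpace (U : Set X))
    (B : RelSpec.QCAlg X)
    (U : X.affineOpens) (b : B.presheaf.obj (op (U : X.Opens))) :
    ∃ (B' : RelSpec.QCAlg X) (φ : B' ⟶ B),
      (∀ V : X.Opens, Function.Injective (φ.hom.app (op V)).hom) ∧
      (∀ V : X.affineOpens, (B'.str.app (op (V : X.Opens))).hom.FiniteType) ∧
      b ∈ Set.range (φ.hom.app (op (U : X.Opens))).hom := by
  have := K27.QCAlgBasic.isQCoh_toModule B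
  obtain ⟨E, hag, hE⟩ := Groth.Agent.Ega1.SubExtMain.exists_extension_locNoeth
    (M := B.toModule) hX
    (N := Groth.Agent.Ega1.SubExt.gen
      ((Submodule.span Γ(X, U.1) {K27.QCAlgBasic.asMod (B := B) b} :
        Submodule Γ(X, U.1) Γ(B.toModule, U.1)) : Set Γ(B.toModule, U.1))) (V := U.1)
    (fun x hx ↦ ⟨U.1, hx, Groth.Agent.Ega1.SubExt.goodOn_gen U.2 _
      (Submodule.fg_span_singleton _)⟩)
  refine K27.Adjoin.exists_subalgebra E hE b ?_
  rw [hag _ le_rfl]
  exact Groth.Agent.Ega1.SubExt.subset_gen (Submodule.mem_span_singleton_self _)

end Groth.Agent.S4351
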