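import Groth.Statements.S4369
-- import your own Groth.Agent.* helpers here

set_option autoImplicit false
universe u
open AffSch

namespace Groth.Agent.S4369

/-- Let φ : A' -> A be a ring homomorphism such that every f in A can be written f = h φ(f') with h
invertible in A (this holds in particular when φ is surjective). Then the associated continuous map
Spec A -> Spec A' is a homeomorphism onto its image. -/
theorem result
    {A' A : Type u} [CommRing A'] [CommRing A] (φ : A' →+* A)
    (h : ∀ f : A, ∃ (u : Aˣ) (f' : A'), f = (u : A) * φ f') :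
    Topology.IsEmbedding (PrimeSpectrum.comap φ) := by
  have hind : Topology.IsInducing (PrimeSpectrum.comap φ) := by
    refine ⟨le_antisymm (PrimeSpectrum.continuous_comap φ).le_induced ?_⟩
    rw [PrimeSpectrum.isTopologicalBasis_basic_opens.eq_generateFrom (α := PrimeSpectrum A)]
    refine le_generateFrom ?_
    rintro _ ⟨f, rfl⟩
    obtain ⟨u, f', rfl⟩ := h f
    refine isOpen_induced_iff.2 ⟨PrimeSpectrum.basicOpen f', PrimeSpectrum.isOpen_basicOpen, ?_⟩
    ext p
    have hu : (u : A) ∉ p.asIdeal := fun hmem =>
      p.isPrime.ne_top (Ideal.eq_top_of_isUnit_mem _ hmem u.isUnit)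
    simp only [Set.mem_preimage, SetLike.mem_coe, PrimeSpectrum.mem_basicOpen,
      PrimeSpectrum.comap_asIdeal, Ideal.mem_comap]
    constructor
    · intro h1 h2
      exact (p.isPrime.mem_or_mem h2).elim hu h1
    · intro h1 h2
      exact h1 (Ideal.mul_mem_left _ _ h2)
  exact hind.isEmbedding

end Groth.Agent.S4369
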