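import Groth.Statements.S4370
import Groth.Agent.Ega1.ReducedSub

set_option autoImplicit false
universe u
open RedSep

namespace Groth.Agent.S4370

open AlgebraicGeometry in
open CategoryTheory in
/-- Let f : X -> Y be an open immersion and let g : X_red -> Y_red be the morphism of reduced schemes
induced by f, i.e. the morphism between the closed subschemes defined by the nilradicals whose
composite with the inclusion of Y_red in Y is the inclusion of X_red in X followed by f. Then g is
an open immersion. -/
theorem result
    {X Y : Scheme.{u}} (f : X ⟶ Y) [IsOpenImmersion f]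
    (g : X.nilradical.subscheme ⟶ Y.nilradical.subscheme)
    (hg : g ≫ Y.nilradical.subschemeι = X.nilradical.subschemeι ≫ f) :
    IsOpenImmersion g := by
  have hX : IsReduced X.nilradical.subscheme :=
    Groth.Agent.Ega1.ReducedSub.isReduced_subscheme_radical ⊥
  have hY : IsReduced Y.nilradical.subscheme :=
    Groth.Agent.Ega1.ReducedSub.isReduced_subscheme_radical ⊥
  let P := Limits.pullback f Y.nilradical.subschemeι
  let p : P ⟶ X := Limits.pullback.fst f Y.nilradical.subschemeι
  let q : P ⟶ Y.nilradical.subscheme := Limits.pullback.snd f Y.nilradical.subschemeι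
  have hq : IsOpenImmersion q := inferInstance
  have hp : IsClosedImmersion p := inferInstance
  have hP : IsReduced P := isReduced_of_isOpenImmersion q
  let h : X.nilradical.subscheme ⟶ P := Limits.pullback.lift X.nilradical.subschemeι g hg.symm
  have h1 : h ≫ p = X.nilradical.subschemeι := Limits.pullback.lift_fst _ _ _
  have h2 : h ≫ q = g := Limits.pullback.lift_snd _ _ _
  have hci : IsClosedImmersion (h ≫ p) := by rw [h1]; infer_instance
  have hc : IsClosedImmersion h := IsClosedImmersion.of_comp h p
  have hs : Surjective h := by
    refine ⟨fun z => ?_⟩
    have h3 : p z ∈ Set.range X.nilradical.subschemeι := by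
      rw [Scheme.IdealSheafData.range_subschemeι, Scheme.support_nilradical]
      trivial
    obtain ⟨w, hw⟩ := h3
    refine ⟨w, ?_⟩
    apply p.isClosedEmbedding.injective
    rw [← Scheme.Hom.comp_apply, h1, hw]
  have : IsIso h := Groth.Agent.Ega1.ReducedSub.isIso_of_isImmersion_of_surjective h
  rw [← h2]
  infer_instance

end Groth.Agent.S4370
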