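import Groth.Statements.S4371
import Groth.Agent.RedSep.K653.PuncPlane

set_option autoImplicit false
universe u
open RedSep

namespace Groth.Agent.S4371

open AlgebraicGeometry in
open CategoryTheory in
/-- Let K be a field and Y = Spec K[s, t] the affine plane over K. The open subset D(s) ∪ D(t) of Y, the
complement of the closed point s = t = 0, is not affine. -/
theorem result
    (K : Type u) [Field K] :
    ¬ IsAffineOpen (X := Spec (CommRingCat.of (MvPolynomial (Fin 2) K)))
      (PrimeSpectrum.basicOpen (MvPolynomial.X 0 : MvPolynomial (Fin 2) K) ⊔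
        PrimeSpectrum.basicOpen (MvPolynomial.X 1 : MvPolynomial (Fin 2) K)) := by
  refine K653.PuncPlane.not_isAffineOpen (R := CommRingCat.of (MvPolynomial (Fin 2) K))
    (MvPolynomial.X 0 : MvPolynomial (Fin 2) K) (MvPolynomial.X 1 : MvPolynomial (Fin 2) K)
    MvPolynomial.X_prime ?_ (MvPolynomial.X_ne_zero 1) ?_
  · intro h
    have := MvPolynomial.X_dvd_X.mp h
    exact absurd this (by decide)
  · intro h
    have h1 : (1 : MvPolynomial (Fin 2) K) ∈ Ideal.span
        {(MvPolynomial.X 0 : MvPolynomial (Fin 2) K), MvPolynomial.X 1} := by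
      have h2 := (Ideal.eq_top_iff_one _).mp h
      exact h2
    obtain ⟨a, b, hab⟩ := Ideal.mem_span_pair.mp h1
    have h3 := congrArg (MvPolynomial.eval (fun _ => (0 : K))) hab
    simp at h3

end Groth.Agent.S4371
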