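import Groth.Statements.S4372
import Groth.Agent.Ega1.ReducedSub

set_option autoImplicit false
universe u
open RedSep

namespace Groth.Agent.S4372

open AlgebraicGeometry in
open CategoryTheory in
/-- Let h : Z -> X be an immersion with Z reduced (a reduced subscheme of X), and let W be the reduced
closed subscheme of X whose underlying space is the closure of h(Z). Then Z is an open subscheme of
W: h factors as an open immersion Z -> W followed by the closed immersion W -> X. Stated as the
existence of such a factorization through a reduced scheme W closed-immersed onto the closure of the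
image. -/
theorem result
    {Z X : Scheme.{u}} (h : Z ⟶ X) [IsImmersion h] [IsReduced Z] :
    ∃ (W : Scheme.{u}) (j : Z ⟶ W) (i : W ⟶ X), IsOpenImmersion j ∧ IsClosedImmersion i ∧
      IsReduced W ∧ Set.range i = closure (Set.range h) ∧ j ≫ i = h := by
  let C : TopologicalSpace.Closeds X := ⟨closure (Set.range h), isClosed_closure⟩
  let I := Scheme.IdealSheafData.vanishingIdeal C
  have hW : IsReduced I.subscheme := Groth.Agent.Ega1.ReducedSub.isReduced_subscheme_vanishingIdeal C
  have hr : Set.range I.subschemeι = closure (Set.range h) := by
    rw [Scheme.IdealSheafData.range_subschemeι, Scheme.IdealSheafData.coe_support_vanishingIdeal]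
    rfl
  obtain ⟨j, hj⟩ := Groth.Agent.Ega1.ReducedSub.exists_factor_of_range_subset h I.subschemeι
    (by rw [hr]; exact subset_closure)
  have hji : IsImmersion j := by
    have : IsImmersion (j ≫ I.subschemeι) := by rw [hj]; infer_instance
    exact IsImmersion.of_comp j I.subschemeι
  refine ⟨I.subscheme, j, I.subschemeι, ?_, inferInstance, hW, hr, hj⟩
  have hemb : Topology.IsEmbedding I.subschemeι := I.subschemeι.isClosedEmbedding.isEmbedding
  have hopen : IsOpen (Set.range j) := by
    have h1 : Set.range j = I.subschemeι ⁻¹' (Set.range h) := by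
      ext z
      constructor
      · rintro ⟨w, rfl⟩
        exact ⟨w, by rw [← hj, Scheme.Hom.comp_apply]⟩
      · rintro ⟨w, hw⟩
        refine ⟨w, hemb.injective ?_⟩
        rw [← Scheme.Hom.comp_apply, hj, hw]
    have h2 : IsLocallyClosed (Set.range h) := h.isLocallyClosed_range
    have h3 : Set.range h = closure (Set.range h) ∩ (coborder (Set.range h)) := by
      rw [closure_inter_coborder]
    rw [h1, h3, Set.preimage_inter, ← hr, Set.preimage_range, Set.univ_inter]
    exact h2.isOpen_coborder.preimage hemb.continuous
  let U : I.subscheme.Opens := ⟨Set.range j, hopen⟩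
  obtain ⟨k, hk⟩ := Groth.Agent.Ega1.ReducedSub.exists_factor_of_range_subset j U.ι
    (by rw [Scheme.Opens.range_ι]; rfl)
  have hki : IsImmersion k := by
    have : IsImmersion (k ≫ U.ι) := by rw [hk]; infer_instance
    exact IsImmersion.of_comp k U.ι
  have hks : Surjective k := by
    refine ⟨fun z => ?_⟩
    obtain ⟨w, hw⟩ : U.ι z ∈ Set.range j := z.2
    refine ⟨w, U.ι.isOpenEmbedding.injective ?_⟩
    rw [← Scheme.Hom.comp_apply, hk]
    exact hw
  have : IsIso k := Groth.Agent.Ega1.ReducedSub.isIso_of_isImmersion_of_surjective k
  rw [← hk]
  infer_instance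

end Groth.Agent.S4372
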