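import Groth.Statements.S4375
import Groth.Agent.EGA2.K30.AffCritRad
import Groth.Agent.Ega2.QCohLocal

set_option autoImplicit false
universe u
open CategoryTheory CategoryTheory.Limits AlgebraicGeometry
open EGA2

namespace Groth.Agent.S4375

/-- (c') ⇒ (a): let X be a quasi-compact separated scheme. Suppose that for every n, every
quasi-coherent O_X-module F admitting a monomorphism into the free module O_X^n, and every
epimorphism p : F → F'' onto a quasi-coherent O_X-module, the map induced by p on global sections is
surjective. Then X is affine. (The published statement also allows X to be a scheme whose underlying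
space is Noetherian; this row assumes it quasi-compact and separated.) -/
theorem result (X : Scheme.{u}) [CompactSpace X] [X.IsSeparated]
    (h : ∀ (n : ℕ) (F F'' : X.Modules) (i : F ⟶ FlatMod.freeMod X n) (p : F ⟶ F''),
      Mono i → Epi p → Coh.IsQCoh F → Coh.IsQCoh F'' →
        Function.Surjective (p.val.app (Opposite.op ⊤)).hom) :
    IsAffine X := by
  refine K30.AffCritRad.isAffine_of_surjective fun I => ?_
  have hi : Mono (C := X.Modules) (Groth.Agent.Ega2.QCohLocal.freeModOneIso X).hom := inferInstance
  exact h 1 (Coh.structureModule X) (ClSub.quotMod I) (Groth.Agent.Ega2.QCohLocal.freeModOneIso X).hom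
    (ClSub.toSubscheme I) hi (K30.AffCritRad.epi_toSubscheme I)
    (Groth.Agent.CurvesB.UnitCoh.isCoh_structureModule X).1
    (Groth.Agent.CohqA.AffMorCrit.isQCoh_quotMod I)

end Groth.Agent.S4375
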