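import Groth.Statements.S4376
import Groth.Agent.EGA2.K30.AffCritRad

set_option autoImplicit false
universe u
open CategoryTheory CategoryTheory.Limits AlgebraicGeometry
open EGA2

namespace Groth.Agent.S4376

/-- (b) ⇒ (a): let f : X → Y be a separated quasi-compact morphism such that the direct image functor
f_* is exact on quasi-coherent O_X-modules, i.e. for every epimorphism p : F → F'' of quasi-coherent
O_X-modules the morphism f_*(p) is again an epimorphism. Then f is an affine morphism. -/
theorem result {X Y : Scheme.{u}} (f : X ⟶ Y) [IsSeparated f] [QuasiCompact f]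
    (h : ∀ (F F'' : X.Modules) (p : F ⟶ F''), Coh.IsQCoh F → Coh.IsQCoh F'' → Epi p → Epi ((Coh.push f).map p)) :
    IsAffineHom f := by
  refine K30.AffCritRad.isAffineHom_of_surjective f fun V hV I => ?_
  have h1 : Coh.IsQCoh (Coh.structureModule X) := (Groth.Agent.CurvesB.UnitCoh.isCoh_structureModule X).1
  have h2 : Coh.IsQCoh (ClSub.quotMod I) := Groth.Agent.CohqA.AffMorCrit.isQCoh_quotMod I
  have h3 : Coh.IsQCoh ((Scheme.Modules.pushforward f).obj (Coh.structureModule X)) :=
    Groth.Agent.Ega1.QcqsPush.isQCoh_pushforward _ _ h1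
  have h4 : Coh.IsQCoh ((Scheme.Modules.pushforward f).obj (ClSub.quotMod I)) :=
    Groth.Agent.Ega1.QcqsPush.isQCoh_pushforward _ _ h2
  have h5 : Epi ((Scheme.Modules.pushforward f).map (ClSub.toSubscheme I)) :=
    h _ _ (ClSub.toSubscheme I) h1 h2 (K30.AffCritRad.epi_toSubscheme I)
  exact Groth.Agent.FormalB.QcSect.surjective_app_of_epi
    ((Scheme.Modules.pushforward f).map (ClSub.toSubscheme I)) hV

end Groth.Agent.S4376
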