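import Groth.Statements.S4378
import Mathlib.AlgebraicGeometry.Morphisms.Proper

set_option autoImplicit false
universe u
open CategoryTheory CategoryTheory.Limits AlgebraicGeometry
open EGA2

namespace Groth.Agent.S4378

open MorphismProperty in
theorem isPullback_map {X Y S S' : Scheme.{u}} (q : Y ⟶ S) (f : X ⟶ Y) (g : S' ⟶ S) :
    IsPullback (pullback.map (f ≫ q) g q g f (𝟙 S') (𝟙 S) (Category.comp_id (f ≫ q))
      ((Category.comp_id g).trans (Category.id_comp g).symm))
      (pullback.fst (f ≫ q) g) (pullback.fst q g) f := by
  refine IsPullback.of_right (h₁₂ := pullback.snd q g) (h₂₂ := q) (v₁₃ := g) ?_ ?_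
    (IsPullback.of_hasPullback q g).flip
  · have h1 : pullback.map (f ≫ q) g q g f (𝟙 S') (𝟙 S) (Category.comp_id (f ≫ q))
      ((Category.comp_id g).trans (Category.id_comp g).symm) ≫ pullback.snd q g = pullback.snd (f ≫ q) g := by
      rw [pullback.map, pullback.lift_snd, Category.comp_id]
    rw [h1]
    exact (IsPullback.of_hasPullback (f ≫ q) g).flip
  · rw [pullback.map, pullback.lift_fst]

/-- Let q : Y → S be separated and of finite type, and f : X → Y a morphism such that X is also
separated and of finite type over S through f ≫ q. Then f is proper if and only if for every scheme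
S' over S the morphism X ×_S S' → Y ×_S S' induced by f is closed (as a map of topological spaces). -/
theorem result {X Y S : Scheme.{u}} (q : Y ⟶ S) (f : X ⟶ Y)
    [IsSeparated q] [LocallyOfFiniteType q] [QuasiCompact q]
    [IsSeparated (f ≫ q)] [LocallyOfFiniteType (f ≫ q)] [QuasiCompact (f ≫ q)] :
    IsProper f ↔ ∀ (S' : Scheme.{u}) (g : S' ⟶ S),
      IsClosedMap (pullback.map (f ≫ q) g q g f (𝟙 S') (𝟙 S) (Category.comp_id (f ≫ q))
        ((Category.comp_id g).trans (Category.id_comp g).symm)).base := by
  constructor
  · intro hf S' g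
    have h : UniversallyClosed (pullback.map (f ≫ q) g q g f (𝟙 S') (𝟙 S) (Category.comp_id (f ≫ q))
        ((Category.comp_id g).trans (Category.id_comp g).symm)) :=
      MorphismProperty.of_isPullback (P := @UniversallyClosed) (isPullback_map q f g).flip inferInstance
    exact h.universally_isClosedMap _ _ _ IsPullback.of_id_snd
  · intro H
    have h1 : IsSeparated f := IsSeparated.of_comp f q
    have h2 : LocallyOfFiniteType f := locallyOfFiniteType_of_comp f q
    have h3 : QuasiCompact f := QuasiCompact.of_comp f q
    have h4 : UniversallyClosed f := by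
      refine ⟨?_⟩
      intro X' Y' i₁ h f' sq
      let γ : Y' ⟶ pullback q (h ≫ q) := pullback.lift h (𝟙 _) (by simp)
      have hγ : IsClosedImmersion γ := by
        have h5 : IsClosedImmersion (γ ≫ pullback.snd q (h ≫ q)) := by
          rw [pullback.lift_snd]
          infer_instance
        exact IsClosedImmersion.of_comp γ (pullback.snd q (h ≫ q))
      let m := pullback.map (f ≫ q) (h ≫ q) q (h ≫ q) f (𝟙 Y') (𝟙 S) (Category.comp_id (f ≫ q))
        ((Category.comp_id (h ≫ q)).trans (Category.id_comp (h ≫ q)).symm)
      let δ : X' ⟶ pullback (f ≫ q) (h ≫ q) := pullback.lift i₁ f' (by rw [← Category.assoc, ← Category.assoc, sq.w])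
      have hm := isPullback_map q f (h ≫ q)
      have hγf : γ ≫ pullback.fst q (h ≫ q) = h := pullback.lift_fst _ _ _
      have hδf : δ ≫ pullback.fst (f ≫ q) (h ≫ q) = i₁ := pullback.lift_fst _ _ _
      have hcomm : f' ≫ γ = δ ≫ m := by
        apply pullback.hom_ext
        · rw [Category.assoc, hγf, Category.assoc, hm.w, ← Category.assoc, hδf, sq.w]
        · rw [Category.assoc, pullback.lift_snd, Category.comp_id, Category.assoc]
          have h1 : m ≫ pullback.snd q (h ≫ q) = pullback.snd (f ≫ q) (h ≫ q) := by
            change pullback.map _ _ _ _ _ _ _ _ _ ≫ _ = _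
            rw [pullback.map, pullback.lift_snd, Category.comp_id]
          rw [h1, pullback.lift_snd]
      have sq' : IsPullback f' δ γ m := by
        refine IsPullback.of_bot ?_ hcomm hm
        rw [hγf, hδf]
        exact sq
      have hδ : IsClosedImmersion δ :=
        MorphismProperty.of_isPullback (P := @IsClosedImmersion) sq' hγ
      have hmc : IsClosedMap m := H Y' (h ≫ q)
      have hδc : IsClosedMap δ := δ.isClosedEmbedding.isClosedMap
      intro C hC
      have h5 : IsClosed (m '' (δ '' C)) := hmc _ (hδc _ hC)
      have h6 : m '' (δ '' C) = γ '' (f' '' C) := by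
        rw [← Set.image_comp, ← Set.image_comp]
        ext z
        constructor
        · rintro ⟨c, hc, rfl⟩
          refine ⟨c, hc, ?_⟩
          exact congr($hcomm c)
        · rintro ⟨c, hc, rfl⟩
          refine ⟨c, hc, ?_⟩
          exact congr($hcomm.symm c)
      rw [h6] at h5
      have h7 := h5.preimage γ.continuous
      rwa [Set.preimage_image_eq _ γ.isClosedEmbedding.injective] at h7
    exact ⟨⟩

end Groth.Agent.S4378
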