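import Groth.Statements.S4379
import Groth.Agent.Ega43.UnivClosedAffine

set_option autoImplicit false
universe u
open CategoryTheory CategoryTheory.Limits AlgebraicGeometry
open EGA2

namespace Groth.Agent.S4379

theorem reindex_comp' {n m : Type u} (e : n ≃ m) (T : Scheme.{u}) :
    AffineSpace.reindex e.symm T ≫ AffineSpace.reindex e T = 𝟙 𝔸(n; T) := by
  have h := AffineSpace.reindex_comp (S := T) (TypeCat.ofHom e : n ⟶ m) (TypeCat.ofHom e.symm)
  refine Eq.trans h.symm ?_
  refine Eq.trans ?_ (AffineSpace.reindex_id T)
  congr 1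
  funext x
  exact e.symm_apply_apply x

/-- Reindexing an affine space along a bijection. -/
noncomputable def reindexIso {n m : Type u} (e : n ≃ m) (T : Scheme.{u}) : 𝔸(n; T) ≅ 𝔸(m; T) where
  hom := AffineSpace.reindex e.symm T
  inv := AffineSpace.reindex e T
  hom_inv_id := reindex_comp' e T
  inv_hom_id := reindex_comp' e.symm T

/-- Let S be a locally Noetherian scheme and f : X → S a separated morphism of finite type. Then f is
proper if and only if for every n ≥ 0 the projection X ×_S A^n_S → A^n_S (base change of f to affine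
n-space over S) is a closed map. In particular properness of f can be tested on base changes along
morphisms of finite type S' → S. -/
theorem result {X S : Scheme.{u}} [IsLocallyNoetherian S] (f : X ⟶ S)
    [IsSeparated f] [LocallyOfFiniteType f] [QuasiCompact f] :
    IsProper f ↔ ∀ n : ℕ, IsClosedMap (pullback.snd f (𝔸(ULift.{u} (Fin n); S) ↘ S)).base := by
  constructor
  · intro h n
    exact (pullback.snd f (𝔸(ULift.{u} (Fin n); S) ↘ S)).isClosedMap
  · intro h
    have hcomp : ∀ {A B C : Scheme.{u}} (a : A ≅ B) (b : B ⟶ C), IsClosedMap b → IsClosedMap (a.hom ≫ b) := by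
      intro A B C a b hb D hD
      have h1 : ((a.hom ≫ b) '' D) = b '' (a.hom '' D) := by
        rw [← Set.image_comp]
        rfl
      rw [h1]
      exact hb _ ((Scheme.homeoOfIso a).isClosedMap D hD)
    have hcomp' : ∀ {A B C : Scheme.{u}} (a : A ⟶ B) (b : B ≅ C), IsClosedMap a → IsClosedMap (a ≫ b.hom) := by
      intro A B C a b ha D hD
      have h1 : ((a ≫ b.hom) '' D) = b.hom '' (a '' D) := by
        rw [← Set.image_comp]
        rfl
      rw [h1]
      exact (Scheme.homeoOfIso b).isClosedMap _ (ha D hD)
    have hcl : ∀ n : ℕ, IsClosedMap (AffineSpace.map (ULift.{u} (Fin n)) f) := by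
      intro n
      have sq := (AffineSpace.isPullback_map (n := ULift.{u} (Fin n)) f).flip
      have e : AffineSpace.map (ULift.{u} (Fin n)) f =
          sq.isoPullback.hom ≫ pullback.snd f (𝔸(ULift.{u} (Fin n); S) ↘ S) := sq.isoPullback_hom_snd.symm
      rw [e]
      exact hcomp _ _ (h n)
    have hu : UniversallyClosed f := by
      refine Groth.Agent.Ega43.UnivClosedAffine.universallyClosed_of_isClosedMap_affineSpace f fun n hn => ?_
      obtain ⟨k, ⟨e⟩⟩ := Finite.exists_equiv_fin n
      let e' : n ≃ ULift.{u} (Fin k) := e.trans Equiv.ulift.symm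
      have h2 : AffineSpace.map n f = (reindexIso e' X).hom ≫ AffineSpace.map (ULift.{u} (Fin k)) f ≫
          (reindexIso e' S).symm.hom := by
        have h3 : AffineSpace.map (ULift.{u} (Fin k)) f ≫ (reindexIso e' S).symm.hom =
            (reindexIso e' X).inv ≫ AffineSpace.map n f := AffineSpace.map_reindex _ f
        rw [h3, Iso.hom_inv_id_assoc]
      rw [h2]
      exact hcomp _ _ (hcomp' _ _ (hcl k))
    exact ⟨⟩

end Groth.Agent.S4379
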