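import Groth.Statements.S4383
import Groth.Agent.EGA2.K30.CounitEpi
import Groth.Agent.CohqA.IdealMod

set_option autoImplicit false
universe u
open CategoryTheory CategoryTheory.Limits AlgebraicGeometry
open EGA2

namespace Groth.Agent.S4383

open Groth.Agent.Ega2.ExtCoeff Groth.Agent.Ega2.Nv Groth.Agent.Ega2.Ample Groth.Agent.Fdesc.LocGen

/-- Let X be a quasi-compact separated scheme, f : X → Y a separated quasi-compact morphism and L an
invertible O_X-module. Suppose that for every quasi-coherent submodule J of O_X of finite type there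
is n > 0 such that the canonical morphism f^*(f_*(J ⊗ L^{⊗n})) → J ⊗ L^{⊗n} is an epimorphism. Then
L is ample relative to f. (The published statement also allows X to be a scheme whose underlying
space is Noetherian; this row assumes X quasi-compact and separated.) -/
theorem result {X Y : Scheme.{u}} [CompactSpace X] [X.IsSeparated] (f : X ⟶ Y)
    [IsSeparated f] [QuasiCompact f] (L : X.Modules) (hL : PicF.IsInvertible L)
    (h : ∀ (J : X.Modules) (i : J ⟶ Coh.structureModule X), Mono i → Coh.IsQCoh J → CohB1.IsFT J →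
      ∃ n : ℕ, 0 < n ∧
        Epi ((Scheme.Modules.pullbackPushforwardAdjunction f).counit.app (CohB1.tensorMod J (CohB1.tensorPow L n)))) :
    RelAmple.IsRelAmple f L := by
  rw [Groth.Agent.Ega2.RelAmp.isRelAmple_iff]
  have hloc : ∀ n : ℕ, LocGen (CohB1.tensorPow L n) ⊤ := fun n =>
    locGen_top_iff.2 (Groth.Agent.Fdesc.LocGen.isInvertible_tensorPow hL n)
  refine ⟨inferInstance, fun V => ⟨(locGen_top_iff.2 hL).mono le_top,
    QuasiCompact.isCompact_preimage (f := f) V.1.1 V.1.2 V.2.isCompact, fun x hx => ?_⟩⟩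
  obtain ⟨W, hW, hxW, hWV⟩ := exists_isAffineOpen_mem_and_subset (x := x) (U := f ⁻¹ᵁ V.1) hx
  obtain ⟨I, hfg, hIW, hbo, -⟩ := Groth.Agent.PerfA.FGIdeal.exists_fg_of_isCompact W hW.isCompact
  obtain ⟨n, hn, hepi⟩ := h (ClSub.idealMod I) (ClSub.idealModι I) inferInstance
    (Groth.Agent.CohqA.IdealMod.isQCoh_idealMod I) (Groth.Agent.CohqA.IdealMod.isFT_idealMod I hfg)
  have hLn := Groth.Agent.Fdesc.LocGen.isInvertible_tensorPow hL n
  obtain ⟨V', e, hV', hxV', hV'W, he⟩ := Groth.Agent.Fdesc.LocGen.exists_affine_gen hLn hxW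
  obtain ⟨i₁, hi₁⟩ := Groth.Agent.Dix.IdealModSec.exists_of_mem I ⟨V', hV'⟩ 1 (by rw [hIW ⟨V', hV'⟩ hV'W]; trivial)
  obtain ⟨s, hs⟩ := K30.CounitEpi.exists_mem_nv f
    (Groth.Agent.Ega2.TensGen.isQCoh_tensor (Groth.Agent.CohqA.IdealMod.isQCoh_idealMod I) hLn) hepi V.2
    ((Groth.Agent.Ega2.IdealAmple.isGen_of_val_eq_one I i₁ hi₁).tmul he) hxV' hx
  refine ⟨n, hn, (Groth.Agent.Ega2.IdealAmple.mulMap I _).app _ s, K30.CounitEpi.mem_nv_mulMap I he hi₁ s hxV' hs, ?_⟩
  have := isAffineOpen_inf_nv ((hloc n).mono le_top) ((Groth.Agent.Ega2.IdealAmple.mulMap I _).app _ s) hW hWV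
  rwa [inf_eq_right.2 (K30.CounitEpi.nv_mulMap_le I ((hloc n).mono le_top) hbo s)] at this

end Groth.Agent.S4383
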