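import Groth.Statements.S4388
import Groth.Agent.EGA2.K30.CounitEpi
import Groth.Agent.CalgB.AmpleRel

set_option autoImplicit false
universe u
open CategoryTheory CategoryTheory.Limits AlgebraicGeometry
open EGA2

namespace Groth.Agent.S4388

open Groth.Agent.Ega2.ExtCoeff Groth.Agent.Ega2.Nv Groth.Agent.Ega2.Ample Groth.Agent.Fdesc.LocGen

/-- Let f : X → Y be a quasi-compact morphism, L an O_X-module ample relative to f and L' an invertible
O_X-module such that, for some n > 0, the canonical morphism f^*(f_*(L'^{⊗n})) → L'^{⊗n} (counit of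
the adjunction between f^* and f_*) is an epimorphism. Then L ⊗ L' is ample relative to f. -/
theorem result {X Y : Scheme.{u}} (f : X ⟶ Y) [QuasiCompact f] (L L' : X.Modules)
    (hL : RelAmple.IsRelAmple f L) (hL' : PicF.IsInvertible L') (n : ℕ) (hn : 0 < n)
    (hepi : Epi ((Scheme.Modules.pullbackPushforwardAdjunction f).counit.app (CohB1.tensorPow L' n))) :
    RelAmple.IsRelAmple f (CohB1.tensorMod L L') := by
  have := Groth.Agent.CalgB.AmpleRel.quasiSeparated_of_isRelAmple hL
  rw [Groth.Agent.Ega2.RelAmp.isRelAmple_iff] at hL ⊢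
  have hLn := Groth.Agent.Fdesc.LocGen.isInvertible_tensorPow hL' n
  refine ⟨inferInstance, fun V => K30.CounitEpi.ampleOn_tensorMod_of_nv (hL.2 V)
    ((locGen_top_iff.2 hL').mono le_top) fun x hx => ?_⟩
  obtain ⟨V', e, hV', hxV', -, he⟩ := Groth.Agent.Fdesc.LocGen.exists_affine_gen hLn (U := ⊤) (x := x) trivial
  obtain ⟨s, hs⟩ := K30.CounitEpi.exists_mem_nv f (Groth.Agent.Ega2.GlobGenCrit.isInvertible_isQCoh hLn) hepi V.2 he hxV' hx
  exact ⟨n, hn, s, hs⟩

end Groth.Agent.S4388
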