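import Groth.Statements.S4412

set_option autoImplicit false
universe u
open EGA2

namespace Groth.Agent.S4412

section aux

variable {R A : Type u} [CommRing R] [CommRing A] [Algebra R A] (𝒜 : ℕ → Submodule R A) [GradedAlgebra 𝒜]
    {B : Type u} [CommRing B] [Algebra R B] (ℬ : ℕ → Submodule R B) [GradedAlgebra ℬ]
    (d : ℕ) (φ : B →ₐ[R] A)
    (hdeg : ∀ n : ℕ, Submodule.map φ.toLinearMap (ℬ n) = 𝒜 (n * d))

include hdeg in
theorem decompose_map_eq_zero (y : B) (n : ℕ) (hn : ¬ d ∣ n) :
    (DirectSum.decompose 𝒜 (φ y) n : A) = 0 := by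
  induction y using DirectSum.Decomposition.inductionOn ℬ with
  | zero => simp
  | @homogeneous m y =>
    have h : φ (y : B) ∈ 𝒜 (m * d) := by
      rw [← hdeg m]
      exact ⟨y, y.2, rfl⟩
    rw [DirectSum.decompose_of_mem_ne 𝒜 h]
    rintro rfl
    exact hn (dvd_mul_left d m)
  | add y z hy hz => simp [hy, hz, DirectSum.decompose_add]

include hdeg in
theorem exists_sub (I : Ideal B) (y : B) (hy : y ∈ I) (a : A) :
    ∃ z ∈ I, ∀ n, d ∣ n → (DirectSum.decompose 𝒜 (a * φ y - φ z) n : A) = 0 := by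
  induction a using DirectSum.Decomposition.inductionOn 𝒜 with
  | zero => exact ⟨0, I.zero_mem, fun n _ => by simp⟩
  | @homogeneous m a =>
    by_cases hm : d ∣ m
    · obtain ⟨k, rfl⟩ := hm
      have h : (a : A) ∈ 𝒜 (k * d) := by rw [mul_comm]; exact a.2
      rw [← hdeg k] at h
      obtain ⟨c, -, hc⟩ := h
      refine ⟨c * y, I.mul_mem_left _ hy, fun n _ => ?_⟩
      have : (a : A) = φ c := hc.symm
      rw [this, map_mul, sub_self]
      simp
    · refine ⟨0, I.zero_mem, fun n hn => ?_⟩
      rw [map_zero, sub_zero]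
      by_cases hmn : m ≤ n
      · rw [DirectSum.coe_decompose_mul_of_left_mem_of_le 𝒜 a.2 hmn,
          decompose_map_eq_zero 𝒜 ℬ d φ hdeg y (n - m) ?_, mul_zero]
        intro h
        apply hm
        have := (Nat.dvd_sub_iff_right hmn hn).1 h
        exact this
      · rw [DirectSum.coe_decompose_mul_of_left_mem_of_not_le 𝒜 a.2 hmn]
  | add a b ha hb =>
    obtain ⟨z, hz, h⟩ := ha
    obtain ⟨w, hw, h'⟩ := hb
    refine ⟨z + w, I.add_mem hz hw, fun n hn => ?_⟩
    have : (a + b) * φ y - φ (z + w) = (a * φ y - φ z) + (b * φ y - φ w) := by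
      rw [map_add]; ring
    rw [this, DirectSum.decompose_add, DirectSum.add_apply, Submodule.coe_add, h n hn, h' n hn,
      add_zero]

include hdeg in
theorem exists_sub_of_mem (I : Ideal B) (u : A) (hu : u ∈ I.map φ.toRingHom) (a : A) :
    ∃ z ∈ I, ∀ n, d ∣ n → (DirectSum.decompose 𝒜 (a * u - φ z) n : A) = 0 := by
  induction hu using Submodule.span_induction generalizing a with
  | mem x hx =>
    obtain ⟨y, hy, rfl⟩ := hx
    exact exists_sub 𝒜 ℬ d φ hdeg I y hy a
  | zero => exact ⟨0, I.zero_mem, fun n _ => by simp⟩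
  | add x y _ _ hx hy =>
    obtain ⟨z, hz, h⟩ := hx a
    obtain ⟨w, hw, h'⟩ := hy a
    refine ⟨z + w, I.add_mem hz hw, fun n hn => ?_⟩
    have : a * (x + y) - φ (z + w) = (a * x - φ z) + (a * y - φ w) := by
      rw [map_add]; ring
    rw [this, DirectSum.decompose_add, DirectSum.add_apply, Submodule.coe_add, h n hn, h' n hn,
      add_zero]
  | smul b x _ hx =>
    obtain ⟨z, hz, h⟩ := hx (a * b)
    refine ⟨z, hz, fun n hn => ?_⟩
    rw [smul_eq_mul, ← mul_assoc]
    exact h n hn

include hdeg in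
theorem comap_map_eq (hφ : Function.Injective φ) (I : Ideal B) :
    (I.map φ.toRingHom).comap φ.toRingHom = I := by
  refine le_antisymm (fun x hx => ?_) Ideal.le_comap_map
  obtain ⟨z, hz, h⟩ := exists_sub_of_mem 𝒜 ℬ d φ hdeg I (φ x) hx 1
  have h0 : φ (x - z) = 0 := by
    rw [map_sub]
    rw [one_mul] at h
    have : DirectSum.decompose 𝒜 (φ x - φ z) = 0 := by
      ext n
      by_cases hn : d ∣ n
      · simpa using h n hn
      · rw [← map_sub]
        simpa using decompose_map_eq_zero 𝒜 ℬ d φ hdeg (x - z) n hn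
    rw [← DirectSum.decompose_symm_zero 𝒜, ← this, Equiv.symm_apply_apply]
  have h1 : x - z = 0 := hφ (by rw [h0, map_zero])
  rw [sub_eq_zero.1 h1]
  exact hz

end aux

/-- Let S be a ring graded in nonnegative degrees which is Noetherian, d > 0, and S^{(d)} the graded
ring with degree-n part S_{nd} (given as a graded ring S' with an injective algebra homomorphism φ :
S' → S carrying S'_n onto S_{nd} for every n). Then S^{(d)} is Noetherian. -/
theorem result {R A : Type u} [CommRing R] [CommRing A] [Algebra R A] (𝒜 : ℕ → Submodule R A) [GradedAlgebra 𝒜] [IsNoetherianRing A]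
    {B : Type u} [CommRing B] [Algebra R B] (ℬ : ℕ → Submodule R B) [GradedAlgebra ℬ]
    (d : ℕ) (hd : 0 < d) (φ : B →ₐ[R] A) (hφ : Function.Injective φ)
    (hdeg : ∀ n : ℕ, Submodule.map φ.toLinearMap (ℬ n) = 𝒜 (n * d)) :
    IsNoetherianRing B := by
  have hinj : Function.Injective (fun I : Ideal B => I.map φ.toRingHom) := by
    intro I J h
    rw [← comap_map_eq 𝒜 ℬ d φ hdeg hφ I, ← comap_map_eq 𝒜 ℬ d φ hdeg hφ J]
    exact congrArg (Ideal.comap φ.toRingHom) h
  have hmono : StrictMono (fun I : Ideal B => I.map φ.toRingHom) :=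
    Monotone.strictMono_of_injective (fun I J h => Ideal.map_mono h) hinj
  rw [isNoetherianRing_iff, isNoetherian_iff']
  have : WellFoundedGT (Ideal A) := by
    have := (isNoetherian_iff' (R := A) (M := A)).1 inferInstance
    exact this
  exact StrictMono.wellFoundedGT hmono

end Groth.Agent.S4412
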