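import Groth.Statements.S4430
import Groth.Agent.EGA2.K33.Charpoly

set_option autoImplicit false
universe u
open EGA2

namespace Groth.Agent.S4430

/-- Let A be an integral domain with fraction field K, E a finitely generated A-module and u an
endomorphism of E whose characteristic-polynomial coefficients (those of u ⊗ 1 on K ⊗_A E) all lie
in A. If u is an automorphism of E, then its determinant, as an element of A, is invertible in A. -/
theorem result (A : Type u) [CommRing A] [IsDomain A] (K : Type u) [Field K]
    [Algebra A K] [IsFractionRing A K] (E : Type u) [AddCommGroup E] [Module A E] [Module.Finite A E]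
    (u : E →ₗ[A] E) (hcoeff : ∀ i : ℕ, ((u.baseChange K).charpoly).coeff i ∈ (algebraMap A K).range)
    (a : A) (ha : algebraMap A K a = LinearMap.det (u.baseChange K)) (hu : Function.Bijective u) :
    IsUnit a := by
  classical
  have hinj := IsFractionRing.injective A K
  let e : E ≃ₗ[A] E := LinearEquiv.ofBijective u hu
  let v : E →ₗ[A] E := e.symm.toLinearMap
  have huv : u ∘ₗ v = LinearMap.id := by
    ext x
    exact e.apply_symm_apply x
  have h1 : LinearMap.det (u.baseChange K) * LinearMap.det (v.baseChange K) = 1 := by
    rw [← map_mul, Module.End.mul_eq_comp, ← LinearMap.baseChange_comp, huv,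
      LinearMap.baseChange_id]
    exact LinearMap.det_id
  have h2 : IsIntegral A (LinearMap.det (v.baseChange K)) := by
    have h3 : LinearMap.det (v.baseChange K) =
        (-1) ^ Module.finrank K (TensorProduct A K E) * (v.baseChange K).charpoly.coeff 0 := by
      exact LinearMap.det_eq_sign_charpoly_coeff (v.baseChange K)
    rw [h3]
    exact (isIntegral_one.neg.pow _).mul
      (K33.Charpoly.isIntegral_coeff_charpoly_baseChange v 0)
  have h4 : IsUnit (algebraMap A (integralClosure A K) a) := by
    refine IsUnit.of_mul_eq_one ⟨LinearMap.det (v.baseChange K), h2⟩ ?_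
    apply Subtype.ext
    change algebraMap A K a * _ = 1
    rw [ha]
    exact h1
  have h5 : (algebraMap A (integralClosure A K)).IsIntegral := fun x =>
    Algebra.IsIntegral.isIntegral (R := A) x
  have h6 : Function.Injective (algebraMap A (integralClosure A K)) := by
    intro x y hxy
    exact hinj (congrArg Subtype.val hxy)
  have h7 := h5.isLocalHom h6
  exact (isUnit_map_iff (algebraMap A (integralClosure A K)) a).1 h4

end Groth.Agent.S4430
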