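import Groth.Statements.S4431
import Groth.Agent.EGA2.K33.Charpoly

set_option autoImplicit false
universe u
open EGA2

namespace Groth.Agent.S4431

open TensorProduct

/-- Let A be an integral domain with fraction field K, E a finitely generated torsion-free A-module and
u an endomorphism of E whose characteristic-polynomial coefficients (those of u ⊗ 1 on K ⊗_A E) all
lie in A. If the determinant of u is the image of a unit of A, then u is an automorphism of E. -/
theorem result (A : Type u) [CommRing A] [IsDomain A] (K : Type u) [Field K]
    [Algebra A K] [IsFractionRing A K] (E : Type u) [AddCommGroup E] [Module A E] [Module.Finite A E]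
    [Module.IsTorsionFree A E]
    (u : E →ₗ[A] E) (hcoeff : ∀ i : ℕ, ((u.baseChange K).charpoly).coeff i ∈ (algebraMap A K).range)
    (a : A) (ha : algebraMap A K a = LinearMap.det (u.baseChange K)) (hunit : IsUnit a) :
    Function.Bijective u := by
  classical
  have hinj := IsFractionRing.injective A K
  -- the characteristic polynomial comes from `A`
  obtain ⟨P, hPmap, -, hPm⟩ := Polynomial.lifts_and_natDegree_eq_and_monic
    (p := (u.baseChange K).charpoly) (f := algebraMap A K)
    ((Polynomial.lifts_iff_coeff_lifts _).2 fun n => hcoeff n) (LinearMap.charpoly_monic _)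
  -- Cayley-Hamilton over `A`
  have hE : Function.Injective (TensorProduct.mk A K E 1) := by
    rw [injective_iff_map_eq_zero]
    intro x hx
    have hloc : IsLocalizedModule (nonZeroDivisors A) (TensorProduct.mk A K E 1) :=
      (isLocalizedModule_iff_isBaseChange (nonZeroDivisors A) K _).2
        (TensorProduct.isBaseChange A E K)
    rw [IsLocalizedModule.eq_zero_iff (nonZeroDivisors A)] at hx
    obtain ⟨c, hc⟩ := hx
    exact (smul_eq_zero_iff_right (nonZeroDivisors.coe_ne_zero c)).1 hc
  have hP : Polynomial.aeval u P = 0 := by
    ext x
    apply hE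
    have h1 := LinearMap.aeval_self_charpoly (u.baseChange K)
    rw [← hPmap, Polynomial.aeval_map_algebraMap] at h1
    have h2 : Polynomial.aeval (u.baseChange K) P = (Polynomial.aeval u P).baseChange K :=
      Polynomial.aeval_algHom_apply (Module.End.baseChangeHom A K E) u P
    rw [h2] at h1
    have h3 := congrArg (fun f => f ((1 : K) ⊗ₜ[A] x)) h1
    simpa using h3
  have hdet : LinearMap.det (u.baseChange K) =
      (-1) ^ Module.finrank K (TensorProduct A K E) * (u.baseChange K).charpoly.coeff 0 :=
    LinearMap.det_eq_sign_charpoly_coeff (u.baseChange K)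
  have h4 : a = (-1) ^ Module.finrank K (TensorProduct A K E) * P.coeff 0 := by
    apply hinj
    rw [ha, hdet, ← hPmap, Polynomial.coeff_map]
    simp
  have h5 : IsUnit (P.coeff 0) := by
    rw [h4] at hunit
    exact isUnit_of_mul_isUnit_right hunit
  have h6 : Polynomial.aeval u P.divX * u = -algebraMap A (Module.End A E) (P.coeff 0) := by
    have h7 := congrArg (Polynomial.aeval u) (Polynomial.divX_mul_X_add P)
    rw [hP, map_add, map_mul, Polynomial.aeval_X, Polynomial.aeval_C] at h7
    exact eq_neg_of_add_eq_zero_left h7
  have h8 : u * Polynomial.aeval u P.divX = -algebraMap A (Module.End A E) (P.coeff 0) := by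
    rw [← h6]
    have h9 := congrArg (Polynomial.aeval u) (mul_comm (Polynomial.X : Polynomial A) P.divX)
    rw [map_mul, map_mul, Polynomial.aeval_X] at h9
    exact h9
  have h10 : IsUnit (-algebraMap A (Module.End A E) (P.coeff 0)) :=
    (h5.map (algebraMap A (Module.End A E))).neg
  have h12 : Function.Bijective (u * Polynomial.aeval u P.divX : Module.End A E) :=
    (Module.End.isUnit_iff _).1 (h8 ▸ h10)
  have h13 : Function.Bijective (Polynomial.aeval u P.divX * u : Module.End A E) :=
    (Module.End.isUnit_iff _).1 (h6 ▸ h10)
  rw [Module.End.mul_eq_comp, LinearMap.coe_comp] at h12 h13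
  exact ⟨h13.1.of_comp, h12.2.of_comp⟩

end Groth.Agent.S4431
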