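import Groth.Statements.S4432
import Groth.Agent.EGA2.K33.CharpolyFin

set_option autoImplicit false
universe u
open EGA2

namespace Groth.Agent.S4432

/-- Let A be a reduced Noetherian ring, K its total ring of fractions, and E a finitely generated
A-module with K ⊗_A E free over K. The A-subalgebra of K generated by the coefficients of the
characteristic polynomials of v ⊗ 1 (v running through all endomorphisms of E), i.e. by all
elementary symmetric functions of all endomorphisms of E, is a finitely generated A-module. -/
theorem result (A : Type u) [CommRing A] [IsNoetherianRing A] [IsReduced A]
    (E : Type u) [AddCommGroup E] [Module A E] [Module.Finite A E]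
    [Module.Free (FractionRing A) (TensorProduct A (FractionRing A) E)] :
    (Algebra.adjoin A {c : FractionRing A | ∃ (v : E →ₗ[A] E) (j : ℕ),
        c = ((v.baseChange (FractionRing A)).charpoly).coeff j}).toSubmodule.FG := by
  classical
  rcases subsingleton_or_nontrivial (FractionRing A) with hK | hK
  · have : ∀ M : Submodule A (FractionRing A), M.FG := fun M => by
      rw [Subsingleton.elim M ⊥]
      exact Submodule.fg_bot
    exact this _
  let b := Module.Free.chooseBasis (FractionRing A) (TensorProduct A (FractionRing A) E)
  have h := K33.CharpolyFin.fg_adjoin (K33.Charpoly.rep A (FractionRing A) E b)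
  simp only [K33.Charpoly.rep_charpoly] at h
  exact h

end Groth.Agent.S4432
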