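import Groth.Statements.S4442
import Groth.Agent.EGA2.K33.CurveDim

set_option autoImplicit false
universe u
open CategoryTheory CategoryTheory.Limits AlgebraicGeometry
attribute [local instance] Curv2.resAlgebra
open EGA2

namespace Groth.Agent.S4442

/-- (a) ⇔ (b): let X be a scheme of finite type over a field k. The residue fields of the generic points
of the irreducible components of X all have transcendence degree one over k if and only if the local
ring of X at every closed point has dimension one. (The published statement has a third equivalent
condition: the irreducible closed subsets of X other than the irreducible components are exactly the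
closed points of X. This row states only the equivalence of the first two.) -/
theorem result (k : Type u) [Field k] (X : Scheme.{u})
    [X.Over (Spec (CommRingCat.of k))] [LocallyOfFiniteType (X ↘ (Spec (CommRingCat.of k)))]
    [QuasiCompact (X ↘ (Spec (CommRingCat.of k)))] :
    (∀ x : X, closure ({x} : Set X) ∈ irreducibleComponents (X : Type u) → Algebra.trdeg k (X.residueField x) = 1) ↔
      ∀ x : X, IsClosed ({x} : Set X) → ringKrullDim (X.presheaf.stalk x) = 1 := by
  have hCX : CompactSpace X :=
    QuasiCompact.compactSpace_of_compactSpace (X ↘ (Spec (CommRingCat.of k)))
  have hNX : IsLocallyNoetherian X :=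
    LocallyOfFiniteType.isLocallyNoetherian (X ↘ (Spec (CommRingCat.of k)))
  have hNoethX : IsNoetherian X := {}
  constructor
  · intro h x hx
    refine K33.CurveDim.dim_closedPoint k X (n := 1) (fun y hy => ?_) x hx
    exact Groth.Agent.VarietyB.DimSch.trd_eq_of_trdeg_eq k (by rw [h y hy]; simp)
  · intro h x hx
    rw [Groth.Agent.VarietyB.DimSch.trdeg_eq_trd k x,
      K33.CurveDim.trd_generic k X (n := 1) h x hx]
    simp

end Groth.Agent.S4442
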