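import Groth.Statements.S4443
import Groth.Agent.S2346

set_option autoImplicit false
universe u
open CategoryTheory CategoryTheory.Limits AlgebraicGeometry
open EGA2

namespace Groth.Agent.S4443

/-- Let X be an irreducible algebraic curve over a field k (separated and of finite type over k,
nonempty, irreducible, local rings at closed points of dimension one). Then the generic point is the
only non-closed point of X, and the closed subsets of X distinct from X are exactly the finite sets
of closed points. (The published statement adds that these are also exactly the subsets of X that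
are not dense in X, an immediate consequence; this row does not state it.) -/
theorem result (k : Type u) [Field k] (X : Scheme.{u})
    [X.Over (Spec (CommRingCat.of k))] [LocallyOfFiniteType (X ↘ (Spec (CommRingCat.of k)))]
    [QuasiCompact (X ↘ (Spec (CommRingCat.of k)))] [IsSeparated (X ↘ (Spec (CommRingCat.of k)))]
    [Nonempty X] [IrreducibleSpace X] (hcurve : ∀ x : X, IsClosed ({x} : Set X) → ringKrullDim (X.presheaf.stalk x) = 1) :
    (∀ x : X, ¬ IsClosed ({x} : Set X) → x = genericPoint X) ∧
      ∀ F : Set X, IsClosed F → (F ≠ Set.univ ↔ (F.Finite ∧ ∀ x ∈ F, IsClosed ({x} : Set X))) := by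
  have hJX : JacobsonSpace X := LocallyOfFiniteType.jacobsonSpace (X ↘ (Spec (CommRingCat.of k)))
  have hNX : IsLocallyNoetherian X :=
    LocallyOfFiniteType.isLocallyNoetherian (X ↘ (Spec (CommRingCat.of k)))
  have hCX : CompactSpace X :=
    QuasiCompact.compactSpace_of_compactSpace (X ↘ (Spec (CommRingCat.of k)))
  have hNoethX : IsNoetherian X := {}
  have h1 := Groth.Agent.S2346.eq_genericPoint_or_isClosed X hcurve
  have h2 := Groth.Agent.S2346.not_isClosed_genericPoint X hcurve
  refine ⟨fun x hx => (h1 x).resolve_right hx, fun F hF => ⟨fun hne => ?_, ?_⟩⟩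
  · have hη : genericPoint X ∉ F := by
      intro hη
      apply hne
      refine Set.eq_univ_of_univ_subset ?_
      rw [← genericPoint_closure (α := X)]
      exact hF.closure_subset_iff.mpr (Set.singleton_subset_iff.mpr hη)
    refine ⟨Groth.Agent.S2346.finite_of_isClosed X hcurve F hF hη, fun x hx => ?_⟩
    rcases h1 x with h | h
    · exact absurd (h ▸ hx) hη
    · exact h
  · rintro ⟨-, hcl⟩ rfl
    exact h2 (hcl _ (Set.mem_univ _))

end Groth.Agent.S4443
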