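import Groth.Statements.S4444
import Groth.Agent.S1626
import Groth.Agent.S2344
import Groth.Agent.CurvesB.DimPts

set_option autoImplicit false
universe u
open CategoryTheory CategoryTheory.Limits AlgebraicGeometry
open EGA2

namespace Groth.Agent.S4444

/-- Every normal algebraic curve X over a field k (separated and of finite type over k, nonempty, local
rings at closed points of dimension one, all local rings integrally closed domains) admits a
k-morphism which is an open immersion with dense image into a normal algebraic curve proper over k.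
(The uniqueness of this completion up to unique isomorphism is not part of this row.) -/
theorem result (k : Type u) [Field k] (X : Scheme.{u})
    [X.Over (Spec (CommRingCat.of k))] [LocallyOfFiniteType (X ↘ (Spec (CommRingCat.of k)))]
    [QuasiCompact (X ↘ (Spec (CommRingCat.of k)))] [IsSeparated (X ↘ (Spec (CommRingCat.of k)))] [Nonempty X]
    (hcurve : ∀ x : X, IsClosed ({x} : Set X) → ringKrullDim (X.presheaf.stalk x) = 1) (hnorm : Pi1.IsNormalScheme X) :
    ∃ (Xc : Scheme.{u}) (sc : Xc ⟶ Spec (CommRingCat.of k)) (j : X ⟶ Xc), IsOpenImmersion j ∧ Dense (Set.range j.base) ∧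
      j ≫ sc = X ↘ (Spec (CommRingCat.of k)) ∧ IsProper sc ∧ Pi1.IsNormalScheme Xc ∧
      ∀ x : Xc, IsClosed ({x} : Set Xc) → ringKrullDim (Xc.presheaf.stalk x) = 1 := by
  have : CompactSpace X := QuasiCompact.compactSpace_of_compactSpace
    (X ↘ (Spec (CommRingCat.of k)))
  have hred : ∀ x : X, _root_.IsReduced (X.presheaf.stalk x) := fun x => by
    have := (hnorm x).1
    infer_instance
  have hXred : IsReduced X := isReduced_of_isReduced_stalk X
  have hdim : topologicalKrullDim X ≤ 1 := by
    rw [Groth.Agent.CurvesB.DimPts.krullDim_eq, Order.krullDim_eq_iSup_coheight]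
    refine iSup_le fun s => ?_
    rw [← ringKrullDim_stalk_eq_coheight]
    exact S2344.ringKrullDim_le_one hcurve s
  obtain ⟨d, Y, c, j, hc, hj, hjc, hdense, -, -, hpts⟩ := S1626.result k X hdim
  have hprop : IsProper (CohB1.ProjSpace.toSpec d k) :=
    Groth.Agent.VarietyB.ProjSpaceProper.isProper_toSpec d k
  refine ⟨Y, c ≫ CohB1.ProjSpace.toSpec d k, j, hj, hdense, hjc, inferInstance, ?_, ?_⟩
  · intro y
    by_cases hy : y ∈ Set.range j.base
    · obtain ⟨x, rfl⟩ := hy
      have e : Y.presheaf.stalk (j.base x) ≃+* X.presheaf.stalk x :=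
        (asIso (j.stalkMap x)).commRingCatIsoToRingEquiv
      have h1 := (hnorm x).1
      have h2 := (hnorm x).2
      exact ⟨e.toMulEquiv.isDomain _, IsIntegrallyClosed.of_equiv e.symm⟩
    · obtain ⟨-, h1, h2⟩ := hpts y hy
      exact ⟨h1, inferInstance⟩
  · intro y hy
    by_cases hyr : y ∈ Set.range j.base
    · obtain ⟨x, rfl⟩ := hyr
      have e : Y.presheaf.stalk (j.base x) ≃+* X.presheaf.stalk x :=
        (asIso (j.stalkMap x)).commRingCatIsoToRingEquiv
      rw [ringKrullDim_eq_of_ringEquiv e]
      refine hcurve x ?_
      have h1 : ({x} : Set X) = j.base ⁻¹' {j.base x} := by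
        ext z
        simp only [Set.mem_singleton_iff, Set.mem_preimage]
        exact ⟨fun h => by rw [h], fun h => j.isOpenEmbedding.injective h⟩
      rw [h1]
      exact hy.preimage j.continuous
    · obtain ⟨-, h1, h2⟩ := hpts y hyr
      exact IsDiscreteValuationRing.ringKrullDim_eq_one _

end Groth.Agent.S4444
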