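import Groth.Statements.S4447


set_option autoImplicit false
universe u
open CategoryTheory CategoryTheory.Limits AlgebraicGeometry
open EGA2

namespace Groth.Agent.S4447

/-- Let p : X ⟶ Y be a morphism, x a point of X, y = p(x) and y' a specialization of y distinct from y.
Then there are a valuation ring A which is not a field, with field of fractions the residue field
k(x), and a morphism Spec A ⟶ Y mapping the closed point to y' and restricting on Spec k(x) to the
canonical morphism Spec k(x) ⟶ X ⟶ Y (in particular the generic point of Spec A goes to y). -/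
theorem result {X Y : Scheme.{u}} (p : X ⟶ Y) (x : X) (y' : Y)
    (hsp : p.base x ⤳ y') (hne : y' ≠ p.base x) :
    ∃ (A : ValuationSubring (X.residueField x)) (h : Spec (CommRingCat.of A) ⟶ Y), A ≠ ⊤ ∧
      h.base (IsLocalRing.closedPoint A) = y' ∧
      Spec.map (CommRingCat.ofHom A.subtype) ≫ h = X.fromSpecResidueField x ≫ p := by
  let φ : Y.presheaf.stalk y' ⟶ X.residueField x :=
    Y.presheaf.stalkSpecializes hsp ≫ p.stalkMap x ≫ X.residue x
  have hφ : Spec.map φ ≫ Y.fromSpecStalk y' = X.fromSpecResidueField x ≫ p := by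
    rw [Spec.map_comp, Spec.map_comp, Category.assoc, Category.assoc,
      Scheme.SpecMap_stalkSpecializes_fromSpecStalk, Scheme.SpecMap_stalkMap_fromSpecStalk]
    rfl
  obtain ⟨A, hA, hloc⟩ := IsLocalRing.exists_factor_valuationRing φ.hom
  let ψ : Y.presheaf.stalk y' →+* A := φ.hom.codRestrict A.toSubring hA
  let h : Spec (CommRingCat.of A) ⟶ Y := Spec.map (CommRingCat.ofHom ψ) ≫ Y.fromSpecStalk y'
  have h1 : h.base (IsLocalRing.closedPoint A) = y' := by
    have h2 : PrimeSpectrum.comap ψ (IsLocalRing.closedPoint A) =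
        IsLocalRing.closedPoint (Y.presheaf.stalk y') :=
      (IsLocalRing.isLocalHom_iff_comap_closedPoint ψ).1 hloc
    exact (congrArg (Y.fromSpecStalk y') h2).trans Scheme.fromSpecStalk_closedPoint
  have h3 : Spec.map (CommRingCat.ofHom A.subtype) ≫ h = X.fromSpecResidueField x ≫ p := by
    rw [← hφ, ← Category.assoc, ← Spec.map_comp]
    rfl
  refine ⟨A, h, ?_, h1, h3⟩
  intro hAtop
  have h4 : IsLocalHom A.subtype := by
    constructor
    intro a ha
    have h5 : (a : X.residueField x)⁻¹ ∈ A :=
      (SetLike.ext_iff.1 hAtop (a : X.residueField x)⁻¹).2 trivial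
    refine IsUnit.of_mul_eq_one ⟨_, h5⟩ ?_
    apply Subtype.ext
    exact mul_inv_cancel₀ ha.ne_zero
  have h6 : PrimeSpectrum.comap A.subtype (IsLocalRing.closedPoint (X.residueField x)) =
      IsLocalRing.closedPoint A := IsLocalRing.comap_closedPoint A.subtype
  let c : Spec (X.residueField x) := (IsLocalRing.closedPoint (X.residueField x) : PrimeSpectrum _)
  have h7 : (X.fromSpecResidueField x ≫ p).base c = y' := by
    rw [← h3, ← h1]
    exact congrArg h.base h6
  apply hne
  rw [← h7]
  change p (X.fromSpecResidueField x c) = p x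
  rw [Scheme.fromSpecResidueField_apply]

end Groth.Agent.S4447
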