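import Groth.Statements.S4451
import Groth.Agent.EGA2.K34.CurveVal
import Groth.Agent.S2344

set_option autoImplicit false
universe u
open CategoryTheory CategoryTheory.Limits AlgebraicGeometry
attribute [local instance] Curv2.stalkAlgebra
open EGA2

namespace Groth.Agent.S4451

/-- Let X be a normal, complete, irreducible algebraic curve over a field k with field of rational
functions K. The set of local rings of X, as subrings of K, consists of K itself (at the generic
point) and of the valuation rings of K containing k (and distinct from K): every non-generic point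
has such a valuation ring as local ring, and every such valuation ring is the local ring of exactly
one point. -/
theorem result (k : Type u) [Field k] (X : Scheme.{u})
    [X.Over (Spec (CommRingCat.of k))] [IsProper (X ↘ (Spec (CommRingCat.of k)))] [IsIntegral X]
    (hX : ∀ x : X, IsClosed ({x} : Set X) → ringKrullDim (X.presheaf.stalk x) = 1) (hnorm : Pi1.IsNormalScheme X) :
    (∀ x : X, x ≠ genericPoint X → ∃ R : ValuationSubring X.functionField, R ≠ ⊤ ∧
        (R : Set X.functionField) = Set.range (algebraMap (X.presheaf.stalk x) X.functionField)) ∧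
      ∀ R : ValuationSubring X.functionField, R ≠ ⊤ → (∀ c : k, algebraMap k X.functionField c ∈ R) →
        ∃! x : X, (R : Set X.functionField) = Set.range (algebraMap (X.presheaf.stalk x) X.functionField) := by
  have hN : IsLocallyNoetherian X :=
    LocallyOfFiniteType.isLocallyNoetherian (X ↘ (Spec (CommRingCat.of k)))
  have hC : CompactSpace X := QuasiCompact.compactSpace_of_compactSpace (X ↘ (Spec (CommRingCat.of k)))
  have hSep : X.IsSeparated := by
    have : IsSeparated (terminal.from (Spec (CommRingCat.of k))) := inferInstance
    have h1 : IsSeparated ((X ↘ (Spec (CommRingCat.of k))) ≫ terminal.from (Spec (CommRingCat.of k))) :=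
      inferInstance
    rw [terminal.comp_from] at h1
    exact ⟨h1⟩
  have hgen : ∀ x : X, x = genericPoint X → (↑(⊤ : ValuationSubring X.functionField) : Set X.functionField) =
      Set.range (algebraMap (X.presheaf.stalk x) X.functionField) := by
    intro x hx
    rw [(K34.CurveVal.algebraMap_surjective_of_eq x hx).range_eq]
    rfl
  have hone : ∀ x : X, x ≠ genericPoint X → ∃ R : ValuationSubring X.functionField, R ≠ ⊤ ∧
      (R : Set X.functionField) =
        Set.range (algebraMap (X.presheaf.stalk x) X.functionField) := by
    intro x hx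
    have hdom := (hnorm x).1
    have hic := (hnorm x).2
    have hd : ringKrullDim (X.presheaf.stalk x) ≤ 1 :=
      Groth.Agent.S2344.ringKrullDim_le_one hX x
    have hreg : IsRegularLocalRing (X.presheaf.stalk x) := Groth.Agent.S2344.isRegular_of_normal _ hd
    have hpir : IsPrincipalIdealRing (X.presheaf.stalk x) := by
      have hT : (IsIntegrallyClosed (X.presheaf.stalk x) ∧ ∀ P : Ideal (X.presheaf.stalk x),
          P ≠ ⊥ → P.IsPrime → P = IsLocalRing.maximalIdeal (X.presheaf.stalk x)) ↔
          IsPrincipalIdealRing (X.presheaf.stalk x) :=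
        (tfae_of_isNoetherianRing_of_isLocalRing_of_isDomain (X.presheaf.stalk x)).out 3 0
      refine hT.mp ⟨inferInstance, ?_⟩
      intro P hP hPp
      have : Ring.KrullDimLE 1 (X.presheaf.stalk x) := Ring.krullDimLE_iff.mpr hd
      have h2 := Ring.krullDimLE_one_iff_of_isPrime_bot.mp this P hP hPp
      exact IsLocalRing.eq_maximalIdeal h2
    have hval : ValuationRing (X.presheaf.stalk x) :=
      ((tfae_of_isNoetherianRing_of_isLocalRing_of_isDomain (X.presheaf.stalk x)).out 0 1).1 hpir
    let R : ValuationSubring X.functionField :=
      ⟨(algebraMap (X.presheaf.stalk x) X.functionField).range,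
        ValuationRing.isInteger_or_isInteger (X.presheaf.stalk x)⟩
    have hR : (R : Set X.functionField) =
        Set.range (algebraMap (X.presheaf.stalk x) X.functionField) := rfl
    refine ⟨R, ?_, hR⟩
    intro htop
    rw [htop] at hR
    exact hx (K34.CurveVal.eq_of_range_eq ⊤ hR (hgen _ rfl))
  refine ⟨hone, ?_⟩
  intro R hR hk
  obtain ⟨x, hmem, hloc⟩ := K34.CurveVal.exists_point_of_proper k X R hk
  have hx : x ≠ genericPoint X := by
    intro hx
    apply hR
    rw [eq_top_iff]
    intro z _
    obtain ⟨a, rfl⟩ := K34.CurveVal.algebraMap_surjective_of_eq x hx z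
    exact hmem a
  obtain ⟨R', hR', hR'x⟩ := hone x hx
  have hle : ∀ z, z ∈ R' → z ∈ R := by
    intro z hz
    have h1 : z ∈ (R' : Set X.functionField) := hz
    rw [hR'x] at h1
    obtain ⟨a, rfl⟩ := h1
    exact hmem a
  have hge : ∀ z, z ∈ R → z ∈ R' := by
    intro z hz
    rcases R'.mem_or_inv_mem z with h | h
    · exact h
    · by_cases h0 : z = 0
      · rw [h0]
        exact R'.zero_mem
      have h1 : z⁻¹ ∈ (R' : Set X.functionField) := h
      rw [hR'x] at h1
      obtain ⟨a, ha⟩ := h1
      have h2 : IsUnit (((algebraMap (X.presheaf.stalk x) X.functionField).codRestrict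
          R.toSubring hmem) a) := by
        rw [isUnit_iff_exists_inv]
        refine ⟨⟨z, hz⟩, Subtype.ext ?_⟩
        change algebraMap (X.presheaf.stalk x) X.functionField a * z = 1
        rw [ha, inv_mul_cancel₀ h0]
      have h3 : IsUnit a := hloc.map_nonunit _ h2
      obtain ⟨b, hb⟩ := isUnit_iff_exists_inv.1 h3
      have h4 : algebraMap (X.presheaf.stalk x) X.functionField b = z := by
        have h5 := congrArg (algebraMap (X.presheaf.stalk x) X.functionField) hb
        rw [map_mul, map_one, ha] at h5
        have h6 := eq_inv_of_mul_eq_one_right h5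
        rw [h6, inv_inv]
      have h5 : z ∈ (R' : Set X.functionField) := by
        rw [hR'x]
        exact ⟨b, h4⟩
      exact h5
  have heq : R = R' := by
    ext z
    exact ⟨hge z, hle z⟩
  refine ⟨x, ?_, ?_⟩
  · rw [heq]
    exact hR'x
  · intro y hy
    exact K34.CurveVal.eq_of_range_eq R hy (by rw [heq]; exact hR'x)

end Groth.Agent.S4451
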