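import Groth.Statements.S4458
import Groth.Agent.Coherent.K44.DevSummand

set_option autoImplicit false
universe u
open Coherent

namespace Groth.Agent.S4458

open AlgebraicGeometry CategoryTheory CategoryTheory.Limits in
/-- Let X be a Noetherian scheme and K' a class of O_X-modules, closed under isomorphism, containing 0,
such that in every short exact sequence of coherent modules with two terms in K' the third is in K',
and such that every coherent direct summand of a coherent module in K' is in K'. Let X' be a closed
subset such that for every irreducible closed subset Z ⊆ X' with generic point y there is a coherent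
module G in K' supported in Z, annihilated by the ideal sheaf of the reduced closed subscheme Z,
whose stalk at y is nonzero. Then every coherent O_X-module with support contained in X' belongs to
K'. (The published statement asks of G only that it lie in K' and have nonzero stalk at y, remarking
that this amounts to G having support Z; that is not sufficient: on the spectrum of the ring
k[e]/(e^2) of dual numbers over a field the free coherent modules form such a class K', containing
the structure sheaf and not the residue field. This row asks G to be supported in Z and annihilated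
by the ideal sheaf of Z, which is what the published proof uses, through the stalk of G at y being a
vector space over the residue field of y.) -/
theorem result (X : Scheme.{u}) [IsNoetherian X]
    (K' : ObjectProperty X.Modules) [K'.IsClosedUnderIsomorphisms]
    (h0 : ∀ M : X.Modules, IsZero M → K' M)
    (hex : ∀ S : ShortComplex X.Modules, S.ShortExact → Coh.IsCoh S.X₁ → Coh.IsCoh S.X₂ → Coh.IsCoh S.X₃ →
      (K' S.X₁ → K' S.X₂ → K' S.X₃) ∧ (K' S.X₁ → K' S.X₃ → K' S.X₂) ∧ (K' S.X₂ → K' S.X₃ → K' S.X₁))
    (hsum : ∀ (M N : X.Modules) (i : N ⟶ M) (r : M ⟶ N), i ≫ r = 𝟙 N → Coh.IsCoh M → Coh.IsCoh N →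
      K' M → K' N)
    (X' : Set X) (hX' : IsClosed X')
    (hgen : ∀ (Z : Set X) (hZ : IsClosed Z), IsIrreducible Z → Z ⊆ X' → ∀ y : X, closure {y} = Z →
      ∃ G : X.Modules, Coh.IsCoh G ∧ K' G ∧ CohB1.support G ⊆ Z ∧
        ClSub.KilledByIdeal (Scheme.IdealSheafData.vanishingIdeal ⟨Z, hZ⟩) G ∧ y ∈ CohB1.support G)
    (F : X.Modules) (hF : Coh.IsCoh F) (hsupp : CohB1.support F ⊆ X') : K' F := by
  have h23 : Ega3B.Devissage.TwoOfThree X' (fun M => K' M) := fun S hS h1 h2 h3 _ => hex S hS h1 h2 h3
  refine K44.DevSummand.devissage_of_small X' hX' (fun M => K' M) h0 h23 ?_ F hF hsupp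
  intro y hy hsmall
  have hclX : closure {y} ⊆ X' := closure_minimal (Set.singleton_subset_iff.mpr hy) hX'
  obtain ⟨G, hG, hKG, hGs, hkill, hyG⟩ := hgen (closure {y}) isClosed_closure
    isIrreducible_singleton.closure hclX y rfl
  -- the structure sheaf of the closure of `y`
  obtain ⟨Z, i, hi, hZ, hr⟩ := CohqB.DevGeom.exists_integral (closure {y})
    isClosed_closure isIrreducible_singleton.closure
  have hyi : i (genericPoint Z) = y := by
    have h1 := CohqB.DevGeom.closure_image_genericPoint i
    rw [hr] at h1
    have h2 : i (genericPoint Z) ⤳ y := by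
      rw [specializes_iff_mem_closure, h1]; exact subset_closure rfl
    have h3 : y ⤳ i (genericPoint Z) := by
      rw [specializes_iff_mem_closure, ← h1]; exact subset_closure rfl
    exact (h2.antisymm h3).eq
  have hcoh := CurvesB.UnitCoh.isCoh_structureModule Z
  let S := (Coh.push i).obj (Coh.structureModule Z)
  have hS : Coh.IsCoh S := ⟨Ega3B.DevQC.isQCoh_push i hcoh.1, CohqA.AffPush.isFT_push i _ hcoh.1 hcoh.2⟩
  have hSs : CohB1.support S ⊆ closure {y} :=
    (CohqB.DevSimple.support_push_subset_range i _).trans hr.subset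
  have hSy : IsSimpleModule (X.presheaf.stalk y) (S.presheaf.stalk y) := by
    rw [← hyi]
    have hne : Nonempty (⊤ : Z.Opens) := ⟨⟨genericPoint Z, trivial⟩⟩
    exact CohqB.DevSimple.isSimpleModule_stalk_push i (Coh.structureModule Z) ⊤
      ⟨Scheme.Modules.restrictUnitIso _⟩
  -- the stalk of `G` is a power of that of `S`
  have hGN := Ega3B.Devissage.isNoetherian_stalk hG y
  obtain ⟨n, ⟨e⟩⟩ := K44.DevSummand.linearEquiv_of_killed (G.presheaf.stalk y) (S.presheaf.stalk y) hSy
    (K44.DevSummand.stalk_killed hG.1 hkill)
  have hn : 0 < n := by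
    rcases Nat.eq_zero_or_pos n with rfl | hn
    · exact absurd e.toEquiv.subsingleton hyG
    · exact hn
  obtain ⟨e'⟩ := K44.DevSummand.nonempty_stalk_power S n y
  have hN : Coh.IsCoh (∐ fun _ : Fin n => S) := CycB.CohProp.isCoh_finite_coproduct _ fun _ => hS
  have hNs : CohB1.support (∐ fun _ : Fin n => S) ⊆ closure {y} := by
    intro z hz
    by_contra hcon
    have hSz : Subsingleton (S.presheaf.stalk z) := by
      by_contra h
      exact hcon (hSs h)
    obtain ⟨e''⟩ := K44.DevSummand.nonempty_stalk_power S n z
    exact hz e''.toEquiv.subsingleton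
  have hart : IsArtinian (X.presheaf.stalk y) ((∐ fun _ : Fin n => S).presheaf.stalk y) :=
    isArtinian_of_linearEquiv e'.symm
  obtain ⟨H, a, b, hH, hHs, ha, hb⟩ := K44.DevSummand.exists_correspondence_of_linearEquiv y G
    (∐ fun _ : Fin n => S) hG hN (e.trans e'.symm) hart
  have hHc : CohB1.support H ⊆ closure {y} := hHs.trans (Set.union_subset hGs hNs)
  have hKH : K' H := by
    refine (h23.iff_of_ker_coker a hH hG (hHc.trans hclX) (hGs.trans hclX) ?_ ?_).mpr hKG
    · exact hsmall _ (Ega3B.DevQC.isCoh_kernel a hH hG.1)
        ((Ega3B.Devissage.support_subset_of_mono (kernel.ι a)).trans hHc)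
        (Ega3B.Devissage.notMem_support_kernel a y ha.1)
    · exact hsmall _ (Ega3B.DevQC.isCoh_cokernel a hH.1 hG)
        ((Ega3B.Devissage.support_subset_of_epi (cokernel.π a)).trans hGs)
        (Ega3B.Devissage.notMem_support_cokernel a y ha.2)
  have hKN : K' (∐ fun _ : Fin n => S) := by
    refine (h23.iff_of_ker_coker b hH hN (hHc.trans hclX) (hNs.trans hclX) ?_ ?_).mp hKH
    · exact hsmall _ (Ega3B.DevQC.isCoh_kernel b hH hN.1)
        ((Ega3B.Devissage.support_subset_of_mono (kernel.ι b)).trans hHc)
        (Ega3B.Devissage.notMem_support_kernel b y hb.1)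
    · exact hsmall _ (Ega3B.DevQC.isCoh_cokernel b hH.1 hN)
        ((Ega3B.Devissage.support_subset_of_epi (cokernel.π b)).trans hNs)
        (Ega3B.Devissage.notMem_support_cokernel b y hb.2)
  exact ⟨S, hS, hsum _ S (Sigma.ι (fun _ : Fin n => S) ⟨0, hn⟩) (Sigma.π (fun _ : Fin n => S) ⟨0, hn⟩)
    (Sigma.ι_π_eq_id _ _) hN hS hKN, hSs, hSy⟩

end Groth.Agent.S4458
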