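import Groth.Statements.S4459
-- import your own Groth.Agent.* helpers here

set_option autoImplicit false
universe u
open Coherent

namespace Groth.Agent.S4459

/-- Over a ring with `I` in the Jacobson radical, nonempty closed subsets of the spectrum meet `V(I)`. -/
theorem exists_mem_zeroLocus {A : Type*} [CommRing A] (I : Ideal A) (hI : I ≤ Ideal.jacobson ⊥)
    (K : Set (PrimeSpectrum A)) (hK : IsClosed K) (hne : K.Nonempty) :
    ∃ x ∈ K, x ∈ PrimeSpectrum.zeroLocus (I : Set A) := by
  obtain ⟨x, hx⟩ := hne
  obtain ⟨m, hm, hxm⟩ := Ideal.exists_le_maximal x.asIdeal x.isPrime.ne_top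
  refine ⟨⟨m, hm.isPrime⟩, ?_, ?_⟩
  · have : x ⤳ (⟨m, hm.isPrime⟩ : PrimeSpectrum A) := by
      rw [← PrimeSpectrum.le_iff_specializes]
      exact hxm
    exact this.mem_closed hK hx
  · rw [PrimeSpectrum.mem_zeroLocus]
    exact fun a ha => Ideal.mem_sInf.mp (hI ha) ⟨bot_le, hm⟩

open AlgebraicGeometry CategoryTheory in
/-- Let A be a Noetherian ring which is separated and complete for the J-adic topology, and let f : X →
Spec A be a morphism of schemes which is a closed map on underlying spaces. Then every open subset
of X containing the inverse image of V(J) is all of X. (The published statement also assumes X of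
finite type over A; that hypothesis is not used.) -/
theorem result (A : Type u) [CommRing A] [IsNoetherianRing A]
    (J : Ideal A) [IsAdicComplete J A] {X : Scheme.{u}} (f : X ⟶ Spec (CommRingCat.of A))
    (hf : IsClosedMap f.base) (U : X.Opens)
    (hU : f.base ⁻¹' (PrimeSpectrum.zeroLocus (J : Set A)) ⊆ (U : Set X)) : U = ⊤ := by
  by_contra hne
  have hcl : IsClosed ((U : Set X)ᶜ) := U.isOpen.isClosed_compl
  have hne' : ((U : Set X)ᶜ).Nonempty := by
    rw [Set.nonempty_compl]
    intro h
    exact hne (TopologicalSpace.Opens.ext h)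
  obtain ⟨x, ⟨y, hy, hyx⟩, hx⟩ := exists_mem_zeroLocus J (IsAdicComplete.le_jacobson_bot J)
    (f.base '' ((U : Set X)ᶜ)) (hf _ hcl) (hne'.image _)
  exact hy (hU (by rw [Set.mem_preimage, hyx]; exact hx))

end Groth.Agent.S4459
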