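import Groth.Statements.S4461
import Groth.Agent.S2435
import Groth.Agent.FormalB.HHLin
import Groth.Agent.Ega3B.ReesId

set_option autoImplicit false
universe u
open Coherent

namespace Groth.Agent.S4461

section

open AlgebraicGeometry CategoryTheory CategoryTheory.Limits
open Groth.Agent.FormalB.HHLin Groth.Agent.Ega3B.ReesId

variable {A : Type u} [CommRing A] {X : Scheme.{u}} [X.Over (Spec (CommRingCat.of A))]

theorem idealMulι_comp (J : Ideal A) (M : X.Modules) :
    CohIII.idealMulι J M ≫ cokernel.π (Formal.smulFamily J M) = 0 := by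
  rw [← cancel_epi (famπ J M), ← Category.assoc, famπ_ι, cokernel.condition, comp_zero]

/-- `0 → J M → M → M / J M → 0`. -/
theorem shortExact_idealMul (J : Ideal A) (M : X.Modules) :
    (ShortComplex.mk (CohIII.idealMulι J M) (cokernel.π (Formal.smulFamily J M))
      (idealMulι_comp J M)).ShortExact where
  exact := by
    apply ShortComplex.exact_of_g_is_cokernel
    refine CokernelCofork.IsColimit.ofπ _ _ (fun k hk => cokernel.desc _ k ?_) ?_ ?_
    · rw [← famπ_ι, Category.assoc, hk, comp_zero]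
    · intro Z k hk
      exact cokernel.π_desc _ _ _
    · intro Z k hk m hm
      rw [← cancel_epi (cokernel.π (Formal.smulFamily J M)), hm, cokernel.π_desc]
  mono_f := inferInstanceAs (Mono (CohIII.idealMulι J M))
  epi_g := inferInstanceAs (Epi (cokernel.π (Formal.smulFamily J M)))

/-- The kernel of `H^p(X, M) → H^p(X, M/I^(n+1) M)` is the image of `H^p(X, I^(n+1) M)`. -/
theorem mem_ker_iff (I : Ideal A) (M : X.Modules) (p n : ℕ) (x : Coh.HH X M p) :
    x ∈ (Formal.toHHmodPow I M p n).ker ↔
      ∃ y : Coh.HH X (CohIII.idealMul (I ^ (n + 1)) M) p, hm (CohIII.idealMulι (I ^ (n + 1)) M) p y = x := by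
  constructor
  · intro hx
    exact exact₂ (shortExact_idealMul (I ^ (n + 1)) M) p x hx
  · rintro ⟨y, rfl⟩
    exact hm_comp_f_g (ShortComplex.mk _ _ (idealMulι_comp (I ^ (n + 1)) M)) p y

theorem hm_idealMulι_HmulMap (I J : Ideal A) (M : X.Modules) (a : I) (p : ℕ)
    (y : Coh.HH X (CohIII.idealMul J M) p) :
    hm (CohIII.idealMulι (I * J) M) p (CohIII.HmulMap I J M a p y) =
      (a : A) • hm (CohIII.idealMulι J M) p y := by
  have h1 : CohIII.mulMap I J M a ≫ CohIII.idealMulι (I * J) M =
      CohIII.idealMulι J M ≫ Formal.smulMod A M a := by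
    rw [mulMap_eq_mulTo, mulTo_ι]
  change hm _ p (hm _ p y) = _
  rw [← hm_comp, h1, hm_comp, hm_smulMod]

end

open AlgebraicGeometry CategoryTheory in
/-- Let A be a Noetherian ring, I an ideal of A, X a scheme proper over Spec A, M a coherent O_X-module
and p ≥ 0. Write R_k for the kernel of H^p(X, M) → H^p(X, M/I^(k+1)M). Then there is k₀ such that
R_(k+1) = I · R_k for all k ≥ k₀; together with the obvious inclusions I · R_k ⊆ R_(k+1) this says
that (R_k) is an I-good filtration of H^p(X, M). -/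
theorem result (A : Type u) [CommRing A] [IsNoetherianRing A]
    (I : Ideal A) (X : Scheme.{u}) [X.Over (Spec (CommRingCat.of A))]
    [IsProper (X ↘ Spec (CommRingCat.of A))] (M : X.Modules) (hM : Coh.IsCoh M) (p : ℕ) :
    ∃ k₀ : ℕ, ∀ k : ℕ, k₀ ≤ k →
      ((Formal.toHHmodPow I M p (k + 1)).ker : Set (Coh.HH X M p)) =
        ((I • Submodule.span A ((Formal.toHHmodPow I M p k).ker : Set (Coh.HH X M p)) :
          Submodule A (Coh.HH X M p)) : Set (Coh.HH X M p)) := by
  obtain ⟨k₀, hk₀⟩ := S2435.result A I X M hM p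
  refine ⟨k₀, fun k hk => ?_⟩
  -- the kernels as submodules
  have hspan : ∀ n, (Submodule.span A ((Formal.toHHmodPow I M p n).ker : Set (Coh.HH X M p)) : Set _) =
      ((Formal.toHHmodPow I M p n).ker : Set (Coh.HH X M p)) := by
    intro n
    let K : Submodule A (Coh.HH X M p) := LinearMap.ker (FormalB.HHLin.hmap A (Formal.modPowπ I (n + 1) M) p)
    have hK : ((Formal.toHHmodPow I M p n).ker : Set (Coh.HH X M p)) = (K : Set _) := rfl
    rw [hK, Submodule.span_eq]
  apply Set.Subset.antisymm
  · intro x hx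
    rw [SetLike.mem_coe, mem_ker_iff] at hx
    obtain ⟨y, rfl⟩ := hx
    have hpow : I ^ (k + 1 + 1) = I ^ 1 * I ^ (k + 1) := by rw [← pow_add, add_comm]
    have hgen := hk₀ (k + 1) (by omega) 1
    revert y
    rw [hpow]
    intro y
    have hy : y ∈ (⨆ a : ↥(I ^ 1), (CohIII.HmulMap (I ^ 1) (I ^ (k + 1)) M a p).range) := by
      rw [hgen]; trivial
    rw [SetLike.mem_coe]
    induction hy using AddSubgroup.iSup_induction' with
    | hp a w hw =>
      obtain ⟨v, rfl⟩ := hw
      rw [hm_idealMulι_HmulMap]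
      refine Submodule.smul_mem_smul ?_ (Submodule.subset_span ?_)
      · exact (pow_one I).le a.2
      · rw [SetLike.mem_coe, mem_ker_iff]
        exact ⟨v, rfl⟩
    | h1 => rw [map_zero]; exact zero_mem _
    | hadd w₁ w₂ _ _ ih₁ ih₂ => rw [map_add]; exact add_mem ih₁ ih₂
  · intro x hx
    rw [SetLike.mem_coe] at hx
    induction hx using Submodule.smul_induction_on' with
    | smul a ha v hv =>
      have hv' : v ∈ (Formal.toHHmodPow I M p k).ker := by
        have := hspan k
        rw [Set.ext_iff] at this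
        exact (this v).1 hv
      rw [mem_ker_iff] at hv'
      obtain ⟨y, rfl⟩ := hv'
      rw [SetLike.mem_coe, mem_ker_iff]
      refine ⟨Ega3B.ReesId.HmulTo (J := I ^ (k + 1)) (K := I ^ (k + 1 + 1)) M a (Ega3B.ReesId.mul_mem_pow_succ ha) p y, ?_⟩
      change FormalB.HHLin.hm _ p (FormalB.HHLin.hm _ p y) = _
      rw [← FormalB.HHLin.hm_comp, Ega3B.ReesId.mulTo_ι, FormalB.HHLin.hm_comp, FormalB.HHLin.hm_smulMod]
    | add v₁ _ v₂ _ ih₁ ih₂ => exact add_mem ih₁ ih₂

end Groth.Agent.S4461
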