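import Groth.Statements.S4462
import Groth.Agent.Ega3B.Master
import Groth.Agent.Ega3B.ExchangeAlg
import Groth.Agent.Ega3A.LocalT
import Groth.Agent.Ega3B.FibreCmp
import Groth.Agent.Coherent.K44.TensorQuot

set_option autoImplicit false
universe u
open Coherent

namespace Groth.Agent.S4462

section

open AlgebraicGeometry CategoryTheory CategoryTheory.Limits
open Groth.Agent.Ega3B.TensorAUnit K44.TensorQuot

variable (A : Type u) [CommRing A] [IsNoetherianRing A] [IsLocalRing A]

/-- the residue field of the closed point -/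
noncomputable def kIso : ModuleCat.of A (IsLocalRing.closedPoint A).asIdeal.ResidueField ≅
    ModuleCat.of A (IsLocalRing.ResidueField A) := by
  have hm : (IsLocalRing.closedPoint A).asIdeal.IsMaximal :=
    inferInstanceAs (IsLocalRing.maximalIdeal A).IsMaximal
  let e1 : (A ⧸ (IsLocalRing.closedPoint A).asIdeal) ≃ₗ[A]
      (IsLocalRing.closedPoint A).asIdeal.ResidueField :=
    LinearEquiv.ofBijective (Algebra.linearMap (A ⧸ (IsLocalRing.closedPoint A).asIdeal)
      (IsLocalRing.closedPoint A).asIdeal.ResidueField |>.restrictScalars A)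
      (Ideal.bijective_algebraMap_quotient_residueField _)
  exact LinearEquiv.toModuleIso (e1.symm :
    (IsLocalRing.closedPoint A).asIdeal.ResidueField ≃ₗ[A] (A ⧸ IsLocalRing.maximalIdeal A))

variable {A}

/-- Vanishing of the cohomology of the closed fibre is vanishing of `T^p(k)`. -/
theorem isZero_T_residueField (X : Scheme.{u}) [X.Over (Spec (CommRingCat.of A))]
    [IsProper (X ↘ Spec (CommRingCat.of A))] (F : X.Modules) (hF : Coh.IsCoh F) (p : ℕ)
    (hvan : Subsingleton
      (CohIII.fiberH (X ↘ Spec (CommRingCat.of A)) F (IsLocalRing.closedPoint A) p)) :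
    Subsingleton ((CohIII.tensorAFunctor A F ⋙ CohIII.HAb X p).obj
      (ModuleCat.of A (IsLocalRing.ResidueField A))) := by
  let f := X ↘ Spec (CommRingCat.of A)
  let y : Spec (CommRingCat.of A) := IsLocalRing.closedPoint A
  have H : IsPullback (f.fiberι y) (f.fiberToSpecResidueField y) f
      ((Spec (CommRingCat.of A)).fromSpecResidueField y) := IsPullback.of_hasPullback _ _
  have H' : IsPullback (f.fiberι y) (f.fiberToSpecResidueField y ≫
      Spec.map (Scheme.Spec.residueFieldIso (CommRingCat.of A) y).inv) f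
      (Spec.map (CommRingCat.ofHom (algebraMap A y.asIdeal.ResidueField))) := by
    refine IsPullback.of_iso H (Iso.refl _) (Iso.refl _)
      (Scheme.Spec.mapIso (Scheme.Spec.residueFieldIso (CommRingCat.of A) y).symm.op) (Iso.refl _)
      ?_ ?_ ?_ ?_
    · simp
    · simp
      rfl
    · simp
    · rw [Iso.refl_hom, Category.comp_id]
      exact (Scheme.Spec.map_residueFieldIso_inv_eq_fromSpecResidueField (CommRingCat.of A) y).symm
  obtain ⟨e, -⟩ := Ega3B.FibreCmp.exists_cmp _ _ H' F hF.1 p
  have h1 : Subsingleton ((CohIII.tensorAFunctor A F ⋙ CohIII.HAb X p).obj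
      (ModuleCat.of A y.asIdeal.ResidueField)) := by
    have := hvan
    exact e.symm.toEquiv.subsingleton
  exact (((CohIII.tensorAFunctor A F ⋙ CohIII.HAb X p).mapIso
    (kIso A)).addCommGroupIsoToAddEquiv).symm.toEquiv.subsingleton

end

open AlgebraicGeometry CategoryTheory in
/-- Second assertion: for a local base: let A be a Noetherian local ring with maximal ideal m and closed
point y, X a scheme proper over Spec A, F a coherent O_X-module flat over Spec A and n ≥ 0 such that
H^(n+1)(X_y, F_y) = 0, where X_y is the closed fibre and F_y the restriction of F to it. Then for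
every p ≥ 0 the canonical map H^n(X, F) → H^n(X, F/m^(p+1)F) is surjective. (For a general locally
Noetherian base the published statement is about the stalk of R^n f_* F at a point; over the local
ring of that point this is the module H^n(X, F) used here.) -/
theorem result (A : Type u) [CommRing A] [IsNoetherianRing A]
    [IsLocalRing A] (X : Scheme.{u}) [X.Over (Spec (CommRingCat.of A))]
    [IsProper (X ↘ Spec (CommRingCat.of A))] (F : X.Modules) (hF : Coh.IsCoh F)
    (hfl : FlatMod.IsFlatOver (X ↘ Spec (CommRingCat.of A)) F) (n : ℕ)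
    (hvan : Subsingleton (CohIII.fiberH (X ↘ Spec (CommRingCat.of A)) F (IsLocalRing.closedPoint A) (n + 1)))
    (p : ℕ) :
    Function.Surjective (Formal.toHHmodPow (IsLocalRing.maximalIdeal A) F n p) := by
  obtain ⟨P, hP, -, hT⟩ := Ega3B.Master.exists_complex X F hF hfl
  obtain ⟨e⟩ := hT n
  obtain ⟨e'⟩ := hT (n + 1)
  have h0 := isZero_T_residueField X F hF (n + 1) hvan
  have h1 : Limits.IsZero ((CohIII.TFun P (-((n + 1 : ℕ) : ℤ))).obj
      (ModuleCat.of A (IsLocalRing.ResidueField A))) := by
    rw [ModuleCat.isZero_iff_subsingleton]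
    exact ((e'.app _).addCommGroupIsoToAddEquiv).symm.toEquiv.subsingleton
  have h2 := Ega3A.LocalT.isZero_T P hP _ h1
  have h3 : (CohIII.TFun P (-(n : ℤ))).PreservesEpimorphisms := by
    rw [Ega3A.TFunBasic.preservesEpi_iff_preservesMono P (fun i => (hP i).2) (-(n : ℤ))
      (-((n + 1 : ℕ) : ℤ)) (by simp)]
    exact ⟨fun g hg => (h2 _).mono _⟩
  have h4 : (CohIII.tensorAFunctor A F ⋙ CohIII.HAb X n).PreservesEpimorphisms :=
    Ega3B.ExchangeAlg.preservesEpi_of_iso e.symm
      ((Ega3B.ExchangeAlg.preservesEpi_comp_forget₂_iff _).2 h3)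
  obtain ⟨θ, hθ⟩ := K44.TensorQuot.exists_iso (IsLocalRing.maximalIdeal A ^ (p + 1)) F
  have h5 : Epi ((CohIII.tensorAFunctor A F ⋙ CohIII.HAb X n).map
      (K44.TensorQuot.qMap (IsLocalRing.maximalIdeal A ^ (p + 1)))) := h4.preserves _
  have h6 : Epi ((CohIII.HAb X n).map (Limits.cokernel.π (Formal.smulFamily
      (IsLocalRing.maximalIdeal A ^ (p + 1)) F))) := by
    have h7 : Limits.cokernel.π (Formal.smulFamily (IsLocalRing.maximalIdeal A ^ (p + 1)) F) =
        (Ega3B.TensorAUnit.unitIso F).inv ≫ (CohIII.tensorAFunctor A F).map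
          (K44.TensorQuot.qMap (IsLocalRing.maximalIdeal A ^ (p + 1))) ≫ θ.inv := by
      rw [← Category.assoc, ← hθ, Category.assoc, Iso.hom_inv_id, Category.comp_id]
    rw [h7, Functor.map_comp, Functor.map_comp]
    have : Epi ((CohIII.HAb X n).map ((CohIII.tensorAFunctor A F).map
      (K44.TensorQuot.qMap (IsLocalRing.maximalIdeal A ^ (p + 1))))) := h5
    infer_instance
  exact (AddCommGrpCat.epi_iff_surjective _).1 h6

end Groth.Agent.S4462
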