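import Groth.Statements.S4463
import Groth.Agent.FlatA.SteinNoeth
import Mathlib.AlgebraicGeometry.Morphisms.QuasiFinite

set_option autoImplicit false
universe u
open Coherent

namespace Groth.Agent.S4463

section

open AlgebraicGeometry CategoryTheory CategoryTheory.Limits TopologicalSpace

theorem finite_app {X Y : Scheme.{u}} (f : X ⟶ Y) [IsProper f] [IsLocallyNoetherian Y]
    {V : Y.Opens} (hV : IsAffineOpen V) : (f.app V).hom.Finite := by
  have : IsAffine (V : Scheme.{u}) := hV
  have : IsNoetherianRing Γ((V : Scheme.{u}), ⊤) := by
    have h1 : IsNoetherianRing Γ(Y, V) := IsLocallyNoetherian.component_noetherian ⟨V, hV⟩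
    exact isNoetherianRing_of_ringEquiv Γ(Y, V) V.topIso.symm.commRingCatIsoToRingEquiv
  have h1 := FlatA.SteinNoeth.finite_appTop (f ∣_ V)
  rw [morphismRestrict_appTop] at h1
  have h2 : (f.app (V.ι ''ᵁ ⊤)).hom.Finite :=
    (RingHom.finite_respectsIso.cancel_right_isIso (f.app (V.ι ''ᵁ ⊤))
      (X.presheaf.map (eqToHom (image_morphismRestrict_preimage f V ⊤)).op)).mp h1
  have key : ∀ W : Y.Opens, W = V → (f.app W).hom.Finite → (f.app V).hom.Finite := by
    rintro _ rfl h; exact h
  exact key _ (by simp) h2

theorem isFinite_fromNormalization {X Y : Scheme.{u}} (f : X ⟶ Y) [IsProper f]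
    [IsLocallyNoetherian Y] : IsFinite f.fromNormalization := by
  rw [isFinite_iff]
  refine ⟨inferInstance, fun V hV => ?_⟩
  have h1 := finite_app f hV
  have h2 := FlatA.AppIso.isIso_toNormalization_app f (f.fromNormalization ⁻¹ᵁ V)
  have h3 : (f.toNormalization ≫ f.fromNormalization).app V =
      f.fromNormalization.app V ≫ f.toNormalization.app (f.fromNormalization ⁻¹ᵁ V) :=
    Scheme.Hom.comp_app _ _ _
  have h4 : ((f.toNormalization ≫ f.fromNormalization).app V).hom.Finite := by
    have : ∀ g : X ⟶ Y, g = f → (g.app V).hom.Finite := by rintro _ rfl; exact h1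
    exact this _ f.toNormalization_fromNormalization
  rw [h3] at h4
  exact (RingHom.finite_respectsIso.cancel_right_isIso _ _).mp h4

theorem connectedSpace_fiber_toNormalization {X Y : Scheme.{u}} (f : X ⟶ Y) [IsProper f]
    [IsLocallyNoetherian Y] (z : f.normalization) : ConnectedSpace (f.toNormalization.fiber z) := by
  have h1 : IsFinite f.fromNormalization := isFinite_fromNormalization f
  have h3 : IsLocallyNoetherian f.normalization :=
    LocallyOfFiniteType.isLocallyNoetherian f.fromNormalization
  have h4 : IsProper (f.toNormalization ≫ f.fromNormalization) := by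
    rw [Scheme.Hom.toNormalization_fromNormalization]; infer_instance
  have h5 : IsProper f.toNormalization := IsProper.of_comp _ f.fromNormalization
  exact (Groth.Agent.S2431.result f.toNormalization (FlatA.AppIso.isIso_toNormalization_app f)).1 z

/-- Topology of the map on fibres. -/
theorem fibre_of_connected {X Y Z : Scheme.{u}} (g : X ⟶ Y) (f : X ⟶ Z) (h : Y ⟶ Z) (w : g ≫ h = f)
    (z : Z) [DiscreteTopology (h.fiber z)] (hg : ∀ y : Y, ConnectedSpace (g.fiber y)) :
    Function.Surjective (CohIII.fiberMapOver g f h w z).base ∧
    ∀ x x' : ↥(f.fiber z),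
      (CohIII.fiberMapOver g f h w z).base x = (CohIII.fiberMapOver g f h w z).base x' ↔
      connectedComponent x = connectedComponent x' := by
  have hcomm : CohIII.fiberMapOver g f h w z ≫ h.fiberι z = f.fiberι z ≫ g :=
    pullback.lift_fst _ _ _
  have hpt : ∀ x : f.fiber z, h.fiberι z (CohIII.fiberMapOver g f h w z x) = g (f.fiberι z x) := by
    intro x
    rw [← Scheme.Hom.comp_apply, ← Scheme.Hom.comp_apply, hcomm]
  have hinj : Function.Injective (h.fiberι z) := (h.fiberι z).isEmbedding.injective
  constructor
  · intro t
    obtain ⟨x₀⟩ := (hg (h.fiberι z t)).toNonempty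
    have hx₀ : g (g.fiberι _ x₀) = h.fiberι z t := by
      have : g.fiberι (h.fiberι z t) x₀ ∈ g ⁻¹' {h.fiberι z t} := by
        rw [← g.range_fiberι]; exact ⟨_, rfl⟩
      exact this
    have hz : h (h.fiberι z t) = z := by
      have : h.fiberι z t ∈ h ⁻¹' {z} := by rw [← h.range_fiberι]; exact ⟨_, rfl⟩
      exact this
    have hx : g.fiberι _ x₀ ∈ f ⁻¹' {z} := by
      change f _ = z
      rw [← w, Scheme.Hom.comp_apply, hx₀, hz]
    rw [← f.range_fiberι] at hx
    obtain ⟨x, hx⟩ := hx
    refine ⟨x, hinj ?_⟩
    refine (hpt x).trans ?_
    rw [hx, hx₀]
  · intro x x'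
    constructor
    · intro hxx
      let t := CohIII.fiberMapOver g f h w z x
      have hpre : _root_.IsPreconnected ((CohIII.fiberMapOver g f h w z) ⁻¹' {t}) := by
        rw [← (f.fiberι z).isEmbedding.isInducing.isPreconnected_image]
        have h1 : (f.fiberι z) '' ((CohIII.fiberMapOver g f h w z) ⁻¹' {t}) =
            Set.range (g.fiberι (h.fiberι z t)) := by
          rw [g.range_fiberι]
          ext a
          constructor
          · rintro ⟨b, hb, rfl⟩
            have hb' : CohIII.fiberMapOver g f h w z b = t := hb
            change g (f.fiberι z b) = h.fiberι z t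
            rw [← hpt b, hb']
          · intro ha
            have ha' : g a = h.fiberι z t := ha
            have hz : h (h.fiberι z t) = z := by
              have : h.fiberι z t ∈ h ⁻¹' {z} := by rw [← h.range_fiberι]; exact ⟨_, rfl⟩
              exact this
            have haf : a ∈ f ⁻¹' {z} := by
              change f a = z
              rw [← w, Scheme.Hom.comp_apply, ha', hz]
            rw [← f.range_fiberι] at haf
            obtain ⟨b, rfl⟩ := haf
            refine ⟨b, hinj ?_, rfl⟩
            exact (hpt b).trans ha'
        rw [h1]
        have := hg (h.fiberι z t)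
        exact isPreconnected_range (g.fiberι (h.fiberι z t)).continuous
      have h2 : x' ∈ connectedComponent x :=
        hpre.subset_connectedComponent (x := x) rfl (show CohIII.fiberMapOver g f h w z x' = t from hxx.symm)
      exact (connectedComponent_eq h2)
    · intro hc
      have h1 := (CohIII.fiberMapOver g f h w z).continuous.image_connectedComponent_eq_singleton x
      have h2 : (CohIII.fiberMapOver g f h w z) x' ∈
          (CohIII.fiberMapOver g f h w z) '' connectedComponent x :=
        ⟨x', by rw [hc]; exact mem_connectedComponent, rfl⟩
      rw [h1] at h2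
      exact (Set.mem_singleton_iff.1 h2).symm

end

open AlgebraicGeometry CategoryTheory in
/-- Stein factorisation. Let Y be locally Noetherian and f : X → Y proper, and let X → Y' → Y be its
Stein factorisation, Y' being the spectrum of the O_Y-algebra f_* O_X (realised here as the relative
normalization of Y in X, which is that spectrum because f_* O_X is integral over O_Y for f
universally closed). Then for every point y of Y the fibre of Y' → Y at y is finite, the map X_y →
Y'_y induced on fibres is surjective, and two points of X_y have the same image if and only if they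
lie in the same connected component of X_y: the connected components of X_y are in bijection with
the points of Y'_y. -/
theorem result {X Y : Scheme.{u}} (f : X ⟶ Y) [IsProper f]
    [IsLocallyNoetherian Y] (y : Y) :
    Finite ↥(f.fromNormalization.fiber y) ∧
    Function.Surjective (CohIII.fiberMapOver f.toNormalization f f.fromNormalization
        f.toNormalization_fromNormalization y).base ∧
    ∀ x x' : ↥(f.fiber y),
      (CohIII.fiberMapOver f.toNormalization f f.fromNormalization f.toNormalization_fromNormalization y).base x =
        (CohIII.fiberMapOver f.toNormalization f f.fromNormalization f.toNormalization_fromNormalization y).base x' ↔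
      connectedComponent x = connectedComponent x' := by
  have h1 : IsFinite f.fromNormalization := isFinite_fromNormalization f
  have h2 : DiscreteTopology (f.fromNormalization.fiber y) := inferInstance
  have h3 : Finite (f.fromNormalization.fiber y) := inferInstance
  exact ⟨h3, fibre_of_connected _ _ _ _ y (connectedSpace_fiber_toNormalization f)⟩

end Groth.Agent.S4463
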