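import Groth.Statements.S4484
import Groth.Agent.S2421
import Groth.Agent.UnramA.Unibranch
import Groth.Agent.Coherent.K45.MaxCount

set_option autoImplicit false
universe u
open Coherent

namespace Groth.Agent.S4484

open AlgebraicGeometry CategoryTheory in
/-- Let X and Y be locally Noetherian integral schemes and f : X → Y a proper dominant morphism; regard
the function field R(X) as an extension of R(Y) through f. Suppose that the algebraic closure of
R(Y) in R(X) has finite separable degree n over R(Y). Then for every point y of Y whose local ring
is unibranch, the fibre X_y has finitely many, and at most n, connected components. -/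
theorem result {X Y : Scheme.{u}} [IsIntegral X]
    [IsIntegral Y] [IsLocallyNoetherian X] [IsLocallyNoetherian Y] (f : X ⟶ Y) [IsProper f]
    (hdom : f.base (genericPoint X) ⤳ genericPoint Y) [Algebra Y.functionField X.functionField]
    (halg : algebraMap Y.functionField X.functionField = CohIII.stalkToFunctionField f (genericPoint Y) hdom)
    (n : ℕ) (hn0 : 0 < n)
    (hn : Field.finSepDegree Y.functionField ↥(algebraicClosure Y.functionField X.functionField) = n)
    (y : Y) (hy : CAlg2.IsUnibranch (Y.presheaf.stalk y)) :
    Finite (_root_.ConnectedComponents ↥(f.fiber y)) ∧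
      Nat.card (_root_.ConnectedComponents ↥(f.fiber y)) ≤ n := by
  have hgen : f.base (genericPoint X) = genericPoint Y :=
    (hdom.antisymm ((genericPoint_spec Y).specializes trivial)).eq
  have h : f.base (genericPoint X) ⤳ y := by
    rw [hgen]
    exact (genericPoint_spec Y).specializes trivial
  have hloc := (UnramA.Unibranch.isUnibranch_iff (Y.presheaf.stalk y) Y.functionField).mp hy
  let _ : Algebra (Y.presheaf.stalk y) X.functionField :=
    (CohIII.stalkToFunctionField f y h).toAlgebra
  have ht : IsScalarTower (Y.presheaf.stalk y) Y.functionField X.functionField := by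
    refine IsScalarTower.of_algebraMap_eq fun a => ?_
    rw [halg]
    change (f.stalkMap (genericPoint X)).hom ((Y.presheaf.stalkSpecializes h).hom a) =
      (f.stalkMap (genericPoint X)).hom ((Y.presheaf.stalkSpecializes hdom).hom
        ((Y.presheaf.stalkSpecializes ((genericPoint_spec Y).specializes trivial)).hom a))
    congr 1
    exact congr(($(TopCat.Presheaf.stalkSpecializes_comp Y.presheaf hdom
      ((genericPoint_spec Y).specializes trivial))).hom a).symm
  obtain ⟨hfin, hcard⟩ := K45.MaxCount.card_maximalSpectrum_le (O := Y.presheaf.stalk y)
    (K := Y.functionField) (L := X.functionField) hloc n hn0 hn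
  have hmk := S2421.result f hgen y h
  have hfin' : Finite (MaximalSpectrum (CohIII.integralClosureStalk f y h)) := hfin
  have hcard' : Nat.card (MaximalSpectrum (CohIII.integralClosureStalk f y h)) ≤ n := hcard
  have hf : Finite (_root_.ConnectedComponents ↥(f.fiber y)) := by
    rw [← Cardinal.mk_lt_aleph0_iff]
    exact hmk.trans_lt (Cardinal.mk_lt_aleph0_iff.mpr hfin')
  refine ⟨hf, ?_⟩
  refine le_trans ?_ hcard'
  exact Cardinal.toNat_le_toNat hmk (Cardinal.mk_lt_aleph0_iff.mpr hfin')

end Groth.Agent.S4484
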