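import Groth.Statements.S4464
import Groth.Agent.S4484
import Mathlib.FieldTheory.PurelyInseparable.Basic

set_option autoImplicit false
universe u
open Coherent

namespace Groth.Agent.S4464

open AlgebraicGeometry CategoryTheory in
/-- Let X and Y be locally Noetherian integral schemes, f : X → Y a proper dominant morphism, and
suppose that the algebraic closure of the function field R(Y) in R(X) is purely inseparable over
R(Y): every element of R(X) satisfying a nonzero polynomial over R(Y) has a p^e-th power coming from
R(Y), p being the characteristic exponent. Then for every point y of Y whose local ring is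
unibranch, the fibre X_y is connected and nonempty. -/
theorem result {X Y : Scheme.{u}} [IsIntegral X]
    [IsIntegral Y] [IsLocallyNoetherian X] [IsLocallyNoetherian Y] (f : X ⟶ Y) [IsProper f]
    (hdom : f.base (genericPoint X) ⤳ genericPoint Y)
    (hrad : ∀ x : X.functionField,
      (∃ q : Polynomial Y.functionField, q ≠ 0 ∧
        Polynomial.eval₂ (CohIII.stalkToFunctionField f (genericPoint Y) hdom) x q = 0) →
      ∃ e : ℕ, x ^ (ringExpChar X.functionField ^ e) ∈
        Set.range (CohIII.stalkToFunctionField f (genericPoint Y) hdom))
    (y : Y) (hy : CAlg2.IsUnibranch (Y.presheaf.stalk y)) :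
    ConnectedSpace ↥(f.fiber y) := by
  let _ : Algebra Y.functionField X.functionField :=
    (CohIII.stalkToFunctionField f (genericPoint Y) hdom).toAlgebra
  have hchar : ringExpChar Y.functionField = ringExpChar X.functionField := by
    have h1 : ExpChar Y.functionField (ringExpChar Y.functionField) := ringExpChar.expChar _
    have h2 : ExpChar X.functionField (ringExpChar Y.functionField) :=
      expChar_of_injective_algebraMap (algebraMap Y.functionField X.functionField).injective _
    exact (ringExpChar.eq X.functionField (ringExpChar Y.functionField)).symm
  have hpi : IsPurelyInseparable Y.functionField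
      ↥(algebraicClosure Y.functionField X.functionField) := by
    have h1 : ExpChar Y.functionField (ringExpChar Y.functionField) := ringExpChar.expChar _
    refine (isPurelyInseparable_iff_pow_mem Y.functionField (ringExpChar Y.functionField)).mpr ?_
    intro x
    obtain ⟨q, hq0, hq⟩ := (mem_algebraicClosure_iff.mp x.2 :
      IsAlgebraic Y.functionField (x : X.functionField))
    obtain ⟨e, z, hz⟩ := hrad x.1 ⟨q, hq0, by rwa [Polynomial.aeval_def] at hq⟩
    refine ⟨e, z, ?_⟩
    apply Subtype.ext
    rw [hchar]
    exact hz
  have hsep : Field.finSepDegree Y.functionField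
      ↥(algebraicClosure Y.functionField X.functionField) = 1 :=
    IsPurelyInseparable.finSepDegree_eq_one _ _
  obtain ⟨hfin, hcard⟩ := S4484.result f hdom rfl 1 one_pos hsep y hy
  have hgen : f.base (genericPoint X) = genericPoint Y :=
    (hdom.antisymm ((genericPoint_spec Y).specializes trivial)).eq
  have hsurj : Function.Surjective f.base := by
    have hcl : IsClosed (Set.range f.base) := f.isClosedMap.isClosed_range
    intro z
    have : (genericPoint Y) ⤳ z := (genericPoint_spec Y).specializes trivial
    exact this.mem_closed hcl ⟨_, hgen⟩
  have hne : Nonempty ↥(f.fiber y) := by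
    obtain ⟨x, hx⟩ := hsurj y
    exact ⟨(f.fiberHomeo y).symm ⟨x, hx⟩⟩
  have hsub : Subsingleton (_root_.ConnectedComponents ↥(f.fiber y)) :=
    Finite.card_le_one_iff_subsingleton.mp hcard
  have hpre : PreconnectedSpace ↥(f.fiber y) :=
    preconnectedSpace_iff_connectedComponent.mpr fun x => by
      refine Set.eq_univ_of_forall fun x' => ?_
      exact ConnectedComponents.coe_eq_coe'.mp (Subsingleton.elim _ _)
  exact ⟨hne⟩

end Groth.Agent.S4464
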