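import Groth.Statements.S4468
import Groth.Agent.S12426
import Groth.Agent.S9679
import Groth.Agent.S10962
import Groth.Agent.Unram17.K135.NormIff
import Groth.Agent.Models2.AmplePull
import Groth.Agent.Lefpen.H726.ProjGeo

set_option autoImplicit false
universe u

namespace Groth.Agent.S4468

open AlgebraicGeometry CategoryTheory CategoryTheory.Limits

/-- The set of irreducible components of an irreducible space. -/
theorem irreducibleComponents_eq (X : Type*) [TopologicalSpace X] [IrreducibleSpace X] :
    irreducibleComponents X = {Set.univ} := by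
  rw [irreducibleComponents_eq_maximals_closed]
  ext s
  simp only [Set.mem_singleton_iff]
  constructor
  · intro hs
    exact (Set.subset_univ s).antisymm (hs.2 ⟨isClosed_univ, IrreducibleSpace.isIrreducible_univ X⟩ (Set.subset_univ s))
  · rintro rfl
    exact ⟨⟨isClosed_univ, IrreducibleSpace.isIrreducible_univ X⟩, fun _ _ _ => Set.subset_univ _⟩

theorem eq_genericPoint {X : Scheme.{u}} [IsIntegral X] (x : X) :
    closure {x} ∈ irreducibleComponents ↥X ↔ x = genericPoint X := by
  rw [irreducibleComponents_eq, Set.mem_singleton_iff]
  constructor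
  · intro h
    exact IsGenericPoint.eq h (genericPoint_spec X)
  · rintro rfl
    exact genericPoint_spec X

open AlgebraicGeometry CategoryTheory in
/-- Let k be a field, X and Y integral schemes projective over k (given with closed immersions into
projective spaces over k) and f : X → Y a birational k-morphism (it sends the generic point of X to
that of Y and induces a bijection between the function fields). Then X is Y-isomorphic to the
blow-up of Y in a closed subscheme: there is a quasi-coherent ideal sheaf I on Y such that f is a
blowing up of Y in I (universal property of the blow-up). -/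
theorem result (k : Type u) [Field k] {X Y : Scheme.{u}} [IsIntegral X] [IsIntegral Y]
    (a b : ℕ) (iX : X ⟶ CohB1.ProjSpace a k) [IsClosedImmersion iX] (iY : Y ⟶ CohB1.ProjSpace b k)
    [IsClosedImmersion iY] (f : X ⟶ Y)
    (hk : f ≫ iY ≫ CohB1.ProjSpace.toSpec b k = iX ≫ CohB1.ProjSpace.toSpec a k)
    (hgen : f.base (genericPoint X) = genericPoint Y)
    (hbir : Function.Bijective (f.residueFieldMap (genericPoint X)).hom) :
    ∃ I : Y.IdealSheafData, BlowUp.IsBlowUp f I := by
  let sY : Y ⟶ Spec (CommRingCat.of k) := iY ≫ CohB1.ProjSpace.toSpec b k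
  have hproperk : ∀ n : ℕ, IsProper (CohB1.ProjSpace.toSpec n k) := fun n => inferInstance
  have hpY : IsProper sY := inferInstance
  have hpX : IsProper (f ≫ sY) := by
    have h1 : f ≫ sY = iX ≫ CohB1.ProjSpace.toSpec a k := hk
    rw [h1]
    infer_instance
  have hpf : IsProper f := IsProper.of_comp f sY
  have hsq := Lefpen.H726.ProjGeo.isPullback_prk sY a
  let i : X ⟶ CohB1.ProjSpaceOver a Y := hsq.lift iX f hk.symm
  have hi1 : i ≫ Lefpen.H726.ProjGeo.prk sY a = iX := hsq.lift_fst _ _ _
  have hi2 : i ≫ CohB1.ProjSpaceOver.toBase a Y = f := hsq.lift_snd _ _ _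
  have hic : IsClosedImmersion i := by
    have : IsSeparated (Lefpen.H726.ProjGeo.prk sY a) := MorphismProperty.of_isPullback hsq.flip
      (inferInstance : IsSeparated sY)
    have h2 : IsClosedImmersion (i ≫ Lefpen.H726.ProjGeo.prk sY a) := by rw [hi1]; infer_instance
    exact IsClosedImmersion.of_comp i (Lefpen.H726.ProjGeo.prk sY a)
  have hN : IsNoetherian Y := by
    have : IsLocallyNoetherian Y := LocallyOfFiniteType.isLocallyNoetherian sY
    have : CompactSpace Y := QuasiCompact.compactSpace_of_compactSpace sY
    exact {}
  have hiso := Unram17.K135.NormIff.isIso_stalkMap_genericPoint Y f hgen hbir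
  obtain ⟨V, hV, hVi⟩ := S9679.result f (by rw [irreducibleComponents_eq]; exact Set.finite_singleton _)
    (by rw [irreducibleComponents_eq]; exact Set.finite_singleton _)
    (by
      simp only [eq_genericPoint, Set.ofPred_eq_eq_singleton]
      refine ⟨?_, ?_, ?_⟩
      · rintro _ rfl
        exact hgen
      · exact Set.injOn_singleton _ _
      · rintro _ rfl
        exact ⟨_, rfl, hgen⟩)
    (fun x hx => by
      rw [eq_genericPoint] at hx
      subst hx
      exact hiso) (Or.inl inferInstance) (Or.inl ⟨inferInstance, inferInstance⟩)
  exact S12426.result ((Scheme.Modules.pullback iY).obj (Twist.twistProjSpace b k 1))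
    (Models2.AmplePull.isAmple_pullback iY (S10962.isAmple_of_pos k b one_pos)) f a i hi2
    ⟨V, hV.nonempty, hVi⟩

end Groth.Agent.S4468
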