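import Groth.Statements.S4469
import Mathlib.RingTheory.ZariskisMainTheorem
import Mathlib.RingTheory.Ideal.MinimalPrime.Noetherian

set_option autoImplicit false
universe u
open CAlg

namespace Groth.Agent.S4469

/-- Let A be an integrally closed Noetherian local domain with field of fractions K, B an A-algebra of
finite type which is a domain with the same field of fractions (A → B → K compatible with A → K),
and 𝔫 a maximal ideal of B lying over the maximal ideal 𝔪 of A and minimal among the prime ideals of
B lying over 𝔪. Then B = A: the structure map A → B is bijective. -/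
theorem result (A B K : Type u) [CommRing A]
    [IsDomain A] [IsNoetherianRing A] [IsLocalRing A] [IsIntegrallyClosed A] [CommRing B] [IsDomain B]
    [Field K] [Algebra A B] [Algebra B K] [Algebra A K] [IsScalarTower A B K] [IsFractionRing A K]
    [IsFractionRing B K] [Algebra.FiniteType A B] (n : Ideal B) [n.IsMaximal]
    (hn : n.comap (algebraMap A B) = IsLocalRing.maximalIdeal A)
    (hmin : ∀ q : Ideal B, q.IsPrime → q.comap (algebraMap A B) = IsLocalRing.maximalIdeal A → q ≤ n → q = n) :
    Function.Bijective (algebraMap A B) := by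
  classical
  have hnoeth : IsNoetherianRing B := Algebra.FiniteType.isNoetherianRing A B
  let I : Ideal B := (IsLocalRing.maximalIdeal A).map (algebraMap A B)
  have hle : ∀ q : Ideal B, q.IsPrime → (I ≤ q ↔ q.comap (algebraMap A B) = IsLocalRing.maximalIdeal A) := by
    intro q hq
    rw [Ideal.map_le_iff_le_comap]
    constructor
    · intro h
      exact ((IsLocalRing.maximalIdeal.isMaximal A).eq_of_le (Ideal.comap_isPrime _ q).ne_top h).symm
    · intro h
      exact h.ge
  -- an element of all the minimal primes of `I` other than `n`, and not in `n`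
  have hfin : I.minimalPrimes.Finite := Ideal.finite_minimalPrimes_of_isNoetherianRing B I
  obtain ⟨s, hs1, hs2⟩ : ∃ s : B, s ∉ n ∧ ∀ q ∈ I.minimalPrimes, q ≠ n → s ∈ q := by
    have h1 : ¬ (hfin.toFinset.filter (· ≠ n)).inf id ≤ n := by
      intro hcon
      obtain ⟨q, hq, hqn⟩ := (Ideal.IsPrime.inf_le' (inferInstance : n.IsPrime)).1 hcon
      simp only [Finset.mem_filter, Set.Finite.mem_toFinset] at hq
      refine hq.2 (hmin q hq.1.1.1 ((hle q hq.1.1.1).1 hq.1.1.2) hqn)
    obtain ⟨s, hs, hsn⟩ := SetLike.not_le_iff_exists.1 h1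
    refine ⟨s, hsn, fun q hq hqn ↦ ?_⟩
    have h2 : (hfin.toFinset.filter (· ≠ n)).inf id ≤ q :=
      Finset.inf_le (f := id) (by simp only [Finset.mem_filter, Set.Finite.mem_toFinset]; exact ⟨hq, hqn⟩)
    exact h2 hs
  have hqf : Algebra.QuasiFiniteAt A n := by
    refine Algebra.QuasiFiniteAt.of_isOpen_singleton_fiber (⟨n, inferInstance⟩ : PrimeSpectrum B) ?_
    rw [isOpen_induced_iff]
    refine ⟨PrimeSpectrum.basicOpen s, (PrimeSpectrum.basicOpen s).2, ?_⟩
    ext ⟨q, hq⟩
    simp only [Set.mem_preimage, SetLike.mem_coe, PrimeSpectrum.mem_basicOpen, Set.mem_singleton_iff,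
      Subtype.mk.injEq]
    constructor
    · intro hsq
      have hq1 : q.asIdeal.comap (algebraMap A B) = IsLocalRing.maximalIdeal A := by
        rw [← hn]
        exact congrArg PrimeSpectrum.asIdeal hq
      obtain ⟨q', hq', hq'q⟩ := Ideal.exists_minimalPrimes_le ((hle q.asIdeal q.2).2 hq1)
      have h3 : q' = n := by
        by_contra hcon
        exact hsq (hq'q (hs2 q' hq' hcon))
      subst h3
      apply PrimeSpectrum.ext
      exact ((inferInstance : q'.IsMaximal).eq_of_le q.2.ne_top hq'q).symm
    · rintro rfl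
      exact hs1
  -- Zariski's main theorem
  obtain ⟨r, hrn, hr, hx⟩ := Algebra.zariskisMainProperty_iff.1
    (Algebra.ZariskisMainProperty.of_finiteType (R := A) n)
  have hinj : Function.Injective (algebraMap A B) := by
    have := IsFractionRing.injective A K
    rw [IsScalarTower.algebraMap_eq A B K] at this
    exact Function.Injective.of_comp this
  have hint : ∀ x : B, IsIntegral A x → ∃ a : A, algebraMap A B a = x := by
    intro x hx
    have h1 : IsIntegral A (algebraMap B K x) := hx.map (IsScalarTower.toAlgHom A B K)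
    obtain ⟨a, ha⟩ := IsIntegrallyClosed.isIntegral_iff.1 h1
    refine ⟨a, IsFractionRing.injective B K ?_⟩
    rw [← IsScalarTower.algebraMap_apply, ha]
  obtain ⟨a, rfl⟩ := hint r hr
  have ha : IsUnit a := by
    by_contra hcon
    apply hrn
    have : a ∈ n.comap (algebraMap A B) := by
      rw [hn]
      exact (IsLocalRing.mem_maximalIdeal a).2 hcon
    exact this
  refine ⟨hinj, fun x ↦ ?_⟩
  obtain ⟨m, hm⟩ := hx x
  obtain ⟨b, hb⟩ := hint _ hm
  obtain ⟨u, rfl⟩ := ha
  refine ⟨((u⁻¹ : Aˣ) : A) ^ m * b, ?_⟩
  rw [map_mul, hb, map_pow, ← mul_assoc, ← mul_pow, ← map_mul, Units.inv_mul, map_one, one_pow, one_mul]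

end Groth.Agent.S4469
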