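import Groth.Statements.S4471
import Groth.Agent.CohqA.HDIZero
import Groth.Agent.CohqA.HOpen
import Groth.Agent.Ega3A.PChart
import Groth.Agent.Fga.HShift
import Groth.Agent.S0844

set_option autoImplicit false
universe u
open Coherent

namespace Groth.Agent.S4471

section
open AlgebraicGeometry CategoryTheory Groth.Agent.Ega3A.PChart

variable (n : ℕ) {Y : Scheme.{u}}

/-- The preimage of an affine open of the base is the image of a chart. -/
theorem preimage_eq (V : Y.Opens) (hV : IsAffineOpen V) :
    CohB1.ProjSpaceOver.toBase n Y ⁻¹ᵁ V = chart n hV.fromSpec ''ᵁ ⊤ := by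
  have h1 : Set.range hV.fromSpec = (V : Set Y) := hV.range_fromSpec
  apply SetLike.coe_injective
  have hp := isPullback_chart n hV.fromSpec
  ext x
  constructor
  · intro hx
    have hx' : (CohB1.ProjSpaceOver.toBase n Y) x ∈ Set.range hV.fromSpec := by rw [h1]; exact hx
    obtain ⟨z, hz⟩ := hx'
    obtain ⟨y, hy1, hy2⟩ := Scheme.exists_preimage_of_isPullback hp x z hz.symm
    exact ⟨y, trivial, hy1⟩
  · rintro ⟨y, -, rfl⟩
    have h2 : CohB1.ProjSpaceOver.toBase n Y (chart n hV.fromSpec y) ∈ (V : Set Y) := by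
      rw [← h1]
      refine ⟨CohB1.ProjSpace.toSpec n _ y, ?_⟩
      have := congrArg (fun g => g.base y) hp.w
      exact this.symm
    exact h2

end

open AlgebraicGeometry CategoryTheory in
/-- The case of the trivial bundle of rank r+1, i.e. projective r-space over Y; vanishing assertion. Let
Y be a scheme, r ≥ 0, f : P^r_Y → Y the structure morphism and d an integer. Then R^i f_* O(d) = 0
(higher direct image of the underlying abelian sheaf of the twisting sheaf) except possibly when i =
0 and d ≥ 0, or i = r and d ≤ -(r+1). -/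
theorem result (Y : Scheme.{u}) (r : ℕ) (i : ℕ) (d : ℤ)
    (h : ¬ ((i = 0 ∧ 0 ≤ d) ∨ (i = r ∧ d ≤ -((r : ℤ) + 1)))) :
    Limits.IsZero ((Coh.RpushAb (CohB1.ProjSpaceOver.toBase r Y) i).obj (Coh.toAb (Twist.twistOver r Y d))) := by
  rw [not_or] at h
  refine CohqA.HDIZero.isZero_RpushAb (CohB1.ProjSpaceOver.toBase r Y) _ i {V | IsAffineOpen V}
    Y.isBasis_affineOpens fun V hV => ?_
  have hV' : IsAffineOpen V := hV
  have hop : IsOpenImmersion hV'.fromSpec := inferInstance
  have h1 : Subsingleton (Coh.HH (CohB1.ProjSpace r Γ(Y, V))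
      ((Twist.twistOver r Y d).restrict (Ega3A.PChart.chart r hV'.fromSpec)) i) :=
    Fga.HShift.subsingleton_of_iso (Ega3A.PChart.restrictTwistIso r hV'.fromSpec d).symm i
      (S0844.result _ r d i h.1 h.2)
  exact (CohqA.HOpen.HHEquiv (Ega3A.PChart.chart r hV'.fromSpec) (Twist.twistOver r Y d)
    (CohB1.ProjSpaceOver.toBase r Y ⁻¹ᵁ V) (preimage_eq r V hV') i).toEquiv.subsingleton

end Groth.Agent.S4471
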