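import Groth.Statements.S4472
import Groth.Agent.S4484
import Groth.Agent.S2348
import Groth.Agent.Flat2C.BlowProper
import Groth.Agent.UnramA.Unibranch

set_option autoImplicit false
universe u
open Coherent

namespace Groth.Agent.S4472

section Helpers

open CategoryTheory CategoryTheory.Limits AlgebraicGeometry Opposite TopologicalSpace

/-- Unibranchness is invariant under isomorphism (domains). -/
theorem isUnibranch_of_ringEquiv {A B : Type u} [CommRing A] [CommRing B] [IsDomain A] [IsDomain B]
    [IsLocalRing A] [IsLocalRing B] (e : A ≃+* B) (h : CAlg2.IsUnibranch A) :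
    CAlg2.IsUnibranch B := by
  let K := FractionRing A
  have h1 := (UnramA.Unibranch.isUnibranch_iff A K).mp h
  let _ : Algebra B K := ((algebraMap A K).comp (e.symm : B →+* A)).toAlgebra
  have hfr : IsFractionRing B K :=
    (IsFractionRing.isFractionRing_iff_of_base_ringEquiv K e).mp inferInstance
  rw [UnramA.Unibranch.isUnibranch_iff B K]
  have hmem : ∀ x : K, IsIntegral B x → IsIntegral A x := by
    rintro x ⟨p, hp, hx⟩
    refine ⟨p.map (e.symm : B →+* A), hp.map _, ?_⟩
    rw [Polynomial.eval₂_map]
    exact hx
  have hmem' : ∀ x : K, IsIntegral A x → IsIntegral B x := by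
    rintro x ⟨p, hp, hx⟩
    refine ⟨p.map (e : A →+* B), hp.map _, ?_⟩
    rw [Polynomial.eval₂_map]
    have h4 : (algebraMap B K).comp (e : A →+* B) = algebraMap A K := by
      ext a
      change algebraMap A K (e.symm (e a)) = _
      rw [e.symm_apply_apply]
    rw [h4]
    exact hx
  let φ : integralClosure A K →+* integralClosure B K :=
    { toFun := fun x => ⟨x.1, hmem' _ x.2⟩
      map_one' := rfl
      map_mul' := fun _ _ => rfl
      map_zero' := rfl
      map_add' := fun _ _ => rfl }
  have : Nontrivial (integralClosure B K) := inferInstance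
  exact IsLocalRing.of_surjective' φ fun x => ⟨⟨x.1, hmem _ x.2⟩, rfl⟩

theorem isUnibranch_stalk (A : Type u) [CommRing A] [IsDomain A] [IsLocalRing A]
    (h : CAlg2.IsUnibranch A) :
    CAlg2.IsUnibranch ((Spec (CommRingCat.of A)).presheaf.stalk (IsLocalRing.closedPoint A)) := by
  let _ : Algebra A ((Spec (CommRingCat.of A)).presheaf.stalk (IsLocalRing.closedPoint A)) :=
    StructureSheaf.stalkAlgebra A (IsLocalRing.closedPoint A)
  have hloc : IsLocalization (IsLocalRing.closedPoint A).asIdeal.primeCompl
      ((Spec (CommRingCat.of A)).presheaf.stalk (IsLocalRing.closedPoint A)) :=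
    StructureSheaf.IsLocalization.to_stalk A (IsLocalRing.closedPoint A)
  let e := IsLocalization.atUnits A (IsLocalRing.closedPoint A).asIdeal.primeCompl
    (S := (Spec (CommRingCat.of A)).presheaf.stalk (IsLocalRing.closedPoint A)) (by
      intro a ha
      by_contra hc
      exact ha ((IsLocalRing.mem_maximalIdeal a).mpr hc))
  exact isUnibranch_of_ringEquiv e.toRingEquiv h

/-- The blow-up in the zero ideal is empty. -/
theorem isEmpty_of_bot {X Y : Scheme.{u}} (b : X ⟶ Y) (hb : BlowUp.IsBlowUp b ⊥) : IsEmpty X := by
  refine ⟨fun x => ?_⟩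
  obtain ⟨U, hxU, f, hf, hfI⟩ := hb.1 x
  have h0 : Scheme.IdealSheafData.comap ⊥ b = (⊥ : X.IdealSheafData) := by
    rw [← le_bot_iff, ← Scheme.IdealSheafData.le_map_iff_comap_le]
    exact bot_le
  rw [h0] at hfI
  have h1 : f = 0 := by
    have h2 : f ∈ (⊥ : X.IdealSheafData).ideal U := by
      rw [hfI]; exact Ideal.mem_span_singleton_self f
    simpa using h2
  subst h1
  have h3 : Subsingleton Γ(X, U.1) := by
    have h4 := (mem_nonZeroDivisors_iff.mp hf).1 1 (by simp)
    exact subsingleton_of_zero_eq_one h4.symm
  have h5 := congrArg (X.presheaf.germ U.1 x hxU) (Subsingleton.elim (0 : Γ(X, U.1)) 1)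
  rw [map_zero, map_one] at h5
  exact zero_ne_one h5

theorem stalkSpecializes_surjective {Y : Scheme.{u}} {y y' : Y} (h : y' ⤳ y) (e : y' = y) :
    Function.Surjective (Y.presheaf.stalkSpecializes h).hom := by
  subst e
  rw [TopCat.Presheaf.stalkSpecializes_refl]
  exact Function.surjective_id

/-- A birational morphism induces a bijection on function fields. -/
theorem surjective_stalkToFunctionField {X Y : Scheme.{u}} [IsIntegral X] [IsIntegral Y] (b : X ⟶ Y)
    (hgen : b.base (genericPoint X) = genericPoint Y)
    (hdom : b.base (genericPoint X) ⤳ genericPoint Y)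
    (hbij : Function.Bijective (b.residueFieldMap (genericPoint X)).hom) :
    Function.Surjective (CohIII.stalkToFunctionField b (genericPoint Y) hdom) := by
  intro x
  obtain ⟨r, hr⟩ := hbij.2 (X.residue (genericPoint X) x)
  obtain ⟨s, rfl⟩ := Y.residue_surjective (b (genericPoint X)) r
  obtain ⟨t, rfl⟩ := stalkSpecializes_surjective hdom hgen s
  refine ⟨t, ?_⟩
  have h1 : X.residue (genericPoint X) ((b.stalkMap (genericPoint X))
      ((Y.presheaf.stalkSpecializes hdom) t)) = X.residue (genericPoint X) x := by
    rw [← hr]
    exact congr(($(Scheme.residue_residueFieldMap b (genericPoint X))).hom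
      ((Y.presheaf.stalkSpecializes hdom) t)).symm
  have h2 : Function.Injective (X.residue (genericPoint X)).hom :=
    RingHom.injective (R := X.functionField) _
  exact h2 h1

end Helpers

open AlgebraicGeometry CategoryTheory in
/-- Let A be a unibranch Noetherian local domain (a local domain whose integral closure is a local ring)
with maximal ideal m, let 𝔞 be an ideal of definition of A (𝔞 ⊆ m and m^p ⊆ 𝔞 for some p), and let b
: X → Spec A be a blowing up of Spec A in the ideal sheaf defined by 𝔞. Then the fibre of b over the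
closed point is preconnected. Its underlying space is that of Proj of the associated graded ring ⊕
𝔞^i/𝔞^(i+1), so this says that Proj is connected (possibly empty). -/
theorem result (A : Type u) [CommRing A] [IsDomain A]
    [IsNoetherianRing A] [IsLocalRing A] (hA : CAlg2.IsUnibranch A) (𝔞 : Ideal A)
    (hle : 𝔞 ≤ IsLocalRing.maximalIdeal A)
    (hpow : ∃ p : ℕ, IsLocalRing.maximalIdeal A ^ p ≤ 𝔞) {X : Scheme.{u}}
    (b : X ⟶ Spec (CommRingCat.of A))
    (hb : BlowUp.IsBlowUp b
      (Scheme.IdealSheafData.ofIdealTop (𝔞.map (Scheme.ΓSpecIso (CommRingCat.of A)).inv.hom))) :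
    PreconnectedSpace ↥(b.fiber (IsLocalRing.closedPoint A)) := by
  set I := Scheme.IdealSheafData.ofIdealTop
    (𝔞.map (Scheme.ΓSpecIso (CommRingCat.of A)).inv.hom) with hIdef
  by_cases hI : I = ⊥
  · rw [hI] at hb
    have := isEmpty_of_bot b hb
    have : IsEmpty ↥(b.fiber (IsLocalRing.closedPoint A)) :=
      Function.isEmpty (b.fiberι (IsLocalRing.closedPoint A))
    infer_instance
  · obtain ⟨hint, hgen, hbij⟩ := S2348.result I hI b hb
    have hpr : IsProper b := Flat2C.BlowProper.isProper_of_isBlowUp hb fun U =>
      (isNoetherianRing_iff_ideal_fg _).mp (IsLocallyNoetherian.component_noetherian U) _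
    have hX : IsLocallyNoetherian X := LocallyOfFiniteType.isLocallyNoetherian b
    have hdom : b.base (genericPoint X) ⤳ genericPoint (Spec (CommRingCat.of A)) := by
      rw [hgen]
    let _ : Algebra (Spec (CommRingCat.of A)).functionField X.functionField :=
      (CohIII.stalkToFunctionField b _ hdom).toAlgebra
    have hsurj : Function.Surjective (algebraMap (Spec (CommRingCat.of A)).functionField
      X.functionField) := surjective_stalkToFunctionField b hgen hdom hbij
    have hps : IsPurelyInseparable (Spec (CommRingCat.of A)).functionField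
        ↥(algebraicClosure (Spec (CommRingCat.of A)).functionField X.functionField) := by
      obtain ⟨q, hq⟩ := ExpChar.exists (Spec (CommRingCat.of A)).functionField
      rw [isPurelyInseparable_iff_pow_mem _ q]
      intro x
      obtain ⟨t, ht⟩ := hsurj x.1
      refine ⟨0, t, ?_⟩
      rw [pow_zero, pow_one]
      exact Subtype.ext ht
    obtain ⟨hf, hc⟩ := S4484.result b hdom rfl 1 one_pos
      (IsPurelyInseparable.finSepDegree_eq_one _ _)
      (IsLocalRing.closedPoint A) (isUnibranch_stalk A hA)
    have hss : Subsingleton (_root_.ConnectedComponents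
        ↥(b.fiber (IsLocalRing.closedPoint A))) := by
      rw [← Finite.card_le_one_iff_subsingleton]
      exact hc
    rw [preconnectedSpace_iff_connectedComponent]
    intro x
    rw [Set.eq_univ_iff_forall]
    intro y
    exact ConnectedComponents.coe_eq_coe'.mp (Subsingleton.elim _ _)

end Groth.Agent.S4472
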