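import Groth.Statements.S4473
import Groth.Agent.Formal.K184.Supp
import Groth.Agent.CohqB.FullFaith
import Groth.Agent.Sga2lef.H104.StalkHom
import Groth.Agent.FormalA.Support
import Groth.Agent.FormalA.ProperOver

set_option autoImplicit false
universe u
open Formal

namespace Groth.Agent.S4473

open AlgebraicGeometry CategoryTheory Opposite in
/-- Suppose A is a Noetherian ring that is separated and complete in the I-adic topology, and X is a
scheme of finite type over Spec A. Given two coherent O_X-modules M and N whose supports meet in a
closed subset that is proper over Spec A, the completion functor is fully faithful on the pair (M,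
N): any morphism from the inverse system (M/I^(n+1)M) to the inverse system (N/I^(n+1)N) arises from
one and only one morphism M → N. -/
theorem result (A : Type u) [CommRing A] [IsNoetherianRing A]
    (I : Ideal A) [IsAdicComplete I A] (X : Scheme.{u}) [X.Over (Spec (CommRingCat.of A))]
    [LocallyOfFiniteType (X ↘ Spec (CommRingCat.of A))] [QuasiCompact (X ↘ Spec (CommRingCat.of A))]
    (M N : X.Modules) (hM : Coh.IsCoh M) (hN : Coh.IsCoh N)
    (hs : ClSub.IsProperOver (X ↘ Spec (CommRingCat.of A)) (CohB1.support M ∩ CohB1.support N))
    (ψ : Formal.completion I M ⟶ Formal.completion I N) :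
    ∃! φ : M ⟶ N, ∀ n : ℕ, Formal.modPowπ I (n + 1) M ≫ ψ.app (op n) = φ ≫ Formal.modPowπ I (n + 1) N := by
  have : IsLocallyNoetherian X :=
    LocallyOfFiniteType.isLocallyNoetherian (X ↘ Spec (CommRingCat.of A))
  have hH := Groth.Agent.CohqB.HomSheaf.isCoh_homSheaf hM hN
  have hsub : CohB1.support (Groth.Agent.CohqB.HomSheaf.homSheaf M N) ⊆
      CohB1.support M ∩ CohB1.support N := by
    intro x hx
    obtain ⟨U, hU, hxU, -⟩ := exists_isAffineOpen_mem_and_subset (x := x) (U := ⊤) trivial
    obtain ⟨e, -⟩ := Groth.Agent.Sga2lef.H104.StalkHom.exists_equiv hM hN hU x hxU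
    constructor
    · intro h
      apply hx
      have : Subsingleton (M.presheaf.stalk x →ₗ[X.presheaf.stalk x] N.presheaf.stalk x) :=
        ⟨fun a b => LinearMap.ext fun m => by
          rw [Subsingleton.elim m 0, map_zero, map_zero]⟩
      exact e.injective.subsingleton
    · intro h
      apply hx
      have : Subsingleton (M.presheaf.stalk x →ₗ[X.presheaf.stalk x] N.presheaf.stalk x) :=
        ⟨fun a b => LinearMap.ext fun m => Subsingleton.elim _ _⟩
      exact e.injective.subsingleton
  have hs' := Groth.Agent.FormalA.ProperOver.isProperOver_subset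
    (X ↘ Spec (CommRingCat.of A)) hs
    (Groth.Agent.FormalA.Support.isClosed_support _ hH.2) hsub
  exact Groth.Agent.CohqB.FullFaith.existsUnique_hom I hM hN
    (K184.FormalSupp.bijective_toHHlim_of_proper_support A I X _ hH hs' 0) ψ

end Groth.Agent.S4473
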