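import Groth.Statements.S4475
import Groth.Agent.Koszul3.K852.TopTrans
import Groth.Agent.Koszul3.K852.LimFree
import Groth.Agent.Perf.K368.KosPow
import Groth.Agent.Flat2H.SmoothSection
import Groth.Agent.Flat2H.KoszulBC
import Groth.Agent.Ega3A.KoszulDirLim

set_option autoImplicit false
universe u
open Koszul3

namespace Groth.Agent.S4475

open CategoryTheory CategoryTheory.Limits in
/-- Let A be a ring, S = A[T_0, …, T_r] the polynomial ring and T = (T_0, …, T_r). Then the direct-limit
Koszul cohomology H^i((T), S), the colimit over n of the Koszul cohomologies H^i(T^n, S), vanishes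
for every i ≠ r + 1, and H^(r+1)((T), S) is a free A-module (the source gives an explicit basis
indexed by the monomials with all exponents positive). -/
theorem result (A : Type u) [CommRing A] (r : ℕ) :
    (∀ i : ℕ, i ≠ r + 1 →
      Subsingleton (CohIII.koszulHLim (List.ofFn (fun j : Fin (r + 1) => (MvPolynomial.X j : MvPolynomial (Fin (r + 1)) A)))
        (ModuleCat.of (MvPolynomial (Fin (r + 1)) A) (MvPolynomial (Fin (r + 1)) A)) i)) ∧
    Module.Free A (RestrictScalars A (MvPolynomial (Fin (r + 1)) A)
      (CohIII.koszulHLim (List.ofFn (fun j : Fin (r + 1) => (MvPolynomial.X j : MvPolynomial (Fin (r + 1)) A)))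
        (ModuleCat.of (MvPolynomial (Fin (r + 1)) A) (MvPolynomial (Fin (r + 1)) A)) (r + 1))) := by
  set fs := List.ofFn (fun j : Fin (r + 1) => (MvPolynomial.X j : MvPolynomial (Fin (r + 1)) A))
    with hfs
  have hlen : fs.length = r + 1 := List.length_ofFn
  refine ⟨fun i hi => ?_, ?_⟩
  · have h1 : LCI.IsKoszulRegularSeq (MvPolynomial (Fin (r + 1)) A) fs :=
      Groth.Agent.Flat2H.KoszulBC.isKoszulRegularSeq_of_isWeaklyRegular
        (Groth.Agent.Flat2H.SmoothSection.isWeaklyRegular_X A (r + 1))
    exact Groth.Agent.Perf.K368.KosPow.subsingleton_koszulHLim h1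
      (ModuleCat.of (MvPolynomial (Fin (r + 1)) A) (MvPolynomial (Fin (r + 1)) A)) i
      (by rw [hlen]; exact hi)
  · obtain ⟨π, hπ, hker, htr⟩ := K852.TopTrans.exists_pres
      (ModuleCat.of (MvPolynomial (Fin (r + 1)) A) (MvPolynomial (Fin (r + 1)) A)) fs
      (((r + 1 : ℕ) : ℤ) - fs.length) (by rw [hlen]; simp)
    refine K852.LimFree.free (σ := Fin (r + 1)) (A := A)
      (G := fun n => (CohIII.koszulHPow fs (ModuleCat.of (MvPolynomial (Fin (r + 1)) A)
        (MvPolynomial (Fin (r + 1)) A)) (r + 1) n : Type u))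
      (fun n m h => (HomologicalComplex.homologyMap (CohIII.koszulTrans _ n m h fs) _).hom)
      ?_ ?_ π hπ ?_ ?_
    · intro n m l h h' x
      change ((HomologicalComplex.homologyMap (CohIII.koszulTrans _ n m h fs) _) ≫
        (HomologicalComplex.homologyMap (CohIII.koszulTrans _ m l h' fs) _)).hom x = _
      rw [← HomologicalComplex.homologyMap_comp, Groth.Agent.Ega3A.ExtCech.koszulTrans_comp]
    · intro n x
      rw [Groth.Agent.Ega3A.ExtCech.koszulTrans_self, HomologicalComplex.homologyMap_id]
      rfl
    · intro n x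
      rw [hker]
      have h1 : {y | y ∈ fs.map (· ^ n)} = Set.range fun i : Fin (r + 1) =>
          (MvPolynomial.X i : MvPolynomial (Fin (r + 1)) A) ^ n := by
        ext y
        rw [Set.mem_ofPred_eq, hfs, List.map_ofFn, List.mem_ofFn]
        exact Iff.rfl
      rw [h1]
      simp
    · intro n m h x
      rw [htr]
      congr 1
      have h1 : (fs.map (· ^ (m - n))).prod = ∏ i : Fin (r + 1),
          (MvPolynomial.X i : MvPolynomial (Fin (r + 1)) A) ^ (m - n) := by
        rw [hfs, List.map_ofFn, List.prod_ofFn]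
        rfl
      rw [h1]
      rfl

end Groth.Agent.S4475
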