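import Groth.Statements.S4476
import Groth.Agent.Coherent.K45.HomLift
import Groth.Agent.Coherent.K45.FibreMono
import Groth.Agent.Coherent.K45.EtSpec

set_option autoImplicit false
universe u
attribute [local instance] HasDerivedCategory.standard
open Coherent

namespace Groth.Agent.S4476

open AlgebraicGeometry CategoryTheory in
/-- A property holding on an open set containing the closed fibre of a proper scheme over a local ring
holds everywhere. -/
theorem forall_of_closed_fibre {A : Type u} [CommRing A] [IsLocalRing A] {X : Scheme.{u}}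
    (f : X ⟶ Spec (CommRingCat.of A)) [IsProper f] {P : X → Prop} (hP : IsOpen {x | P x})
    (h : ∀ z : f.fiber (IsLocalRing.closedPoint A), P (f.fiberι (IsLocalRing.closedPoint A) z))
    (x : X) : P x := by
  by_contra hx
  have h1 : IsClosed (f '' {x | P x}ᶜ) := f.isClosedMap _ hP.isClosed_compl
  have h2 : IsLocalRing.closedPoint A ∈ f '' {x | P x}ᶜ :=
    (IsLocalRing.specializes_closedPoint (f x)).mem_closed h1 ⟨x, hx, rfl⟩
  obtain ⟨x', hx', hfx⟩ := h2
  have h3 : x' ∈ Set.range (f.fiberι (IsLocalRing.closedPoint A)) := by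
    rw [f.range_fiberι]
    exact hfx
  obtain ⟨z, rfl⟩ := h3
  exact hx' (h z)

open AlgebraicGeometry CategoryTheory in
/-- Over a local base. Let A be a Noetherian local ring with closed point y, X a scheme proper and flat
over Spec A, F and G finite locally free O_X-modules and F_y, G_y their restrictions (module
pullbacks) to the closed fibre X_y. Assume that the internal Hom functor Hom(F_y, −) exists as the
right adjoint of F_y ⊗ − and that H^1(X_y, Hom(F_y, G_y)) = 0. Then every morphism u₀ : F_y → G_y is
the restriction to X_y of a morphism u : F → G; moreover for every such u, if u₀ is a monomorphism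
(resp. an epimorphism) then u is a monomorphism (resp. an epimorphism). (Over a general locally
Noetherian base the published statements give u on the inverse image of a neighbourhood of y; over
the spectrum of a local ring that neighbourhood is the whole base.) -/
theorem result (A : Type u) [CommRing A] [IsNoetherianRing A]
    [IsLocalRing A] (X : Scheme.{u}) [X.Over (Spec (CommRingCat.of A))]
    [IsProper (X ↘ Spec (CommRingCat.of A))] [Flat (X ↘ Spec (CommRingCat.of A))]
    (F G : X.Modules) (hF : FlatMod.IsFinLocFree F) (hG : FlatMod.IsFinLocFree G)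
    [DCoh.HasSheafHom (CohIII.fiberMod (X ↘ Spec (CommRingCat.of A)) F (IsLocalRing.closedPoint A))]
    (h1 : Subsingleton (Coh.HH ((X ↘ Spec (CommRingCat.of A)).fiber (IsLocalRing.closedPoint A))
      ((DCoh.sheafHom (CohIII.fiberMod (X ↘ Spec (CommRingCat.of A)) F (IsLocalRing.closedPoint A))).obj
        (CohIII.fiberMod (X ↘ Spec (CommRingCat.of A)) G (IsLocalRing.closedPoint A))) 1))
    (u₀ : CohIII.fiberMod (X ↘ Spec (CommRingCat.of A)) F (IsLocalRing.closedPoint A) ⟶
      CohIII.fiberMod (X ↘ Spec (CommRingCat.of A)) G (IsLocalRing.closedPoint A)) :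
    (∃ u : F ⟶ G,
      (Scheme.Modules.pullback ((X ↘ Spec (CommRingCat.of A)).fiberι (IsLocalRing.closedPoint A))).map u = u₀) ∧
    ∀ u : F ⟶ G,
      (Scheme.Modules.pullback ((X ↘ Spec (CommRingCat.of A)).fiberι (IsLocalRing.closedPoint A))).map u = u₀ →
        (Mono u₀ → Mono u) ∧ (Epi u₀ → Epi u) := by
  have hX : IsLocallyNoetherian X :=
    LocallyOfFiniteType.isLocallyNoetherian (X ↘ Spec (CommRingCat.of A))
  have hcF := PerfA.CohSerre.isCoh_of_isFinLocFree hF
  have hcG := PerfA.CohSerre.isCoh_of_isFinLocFree hG
  refine ⟨?_, ?_⟩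
  · obtain ⟨q, σ, H, -⟩ := K45.EtSpec.exists_square (X ↘ Spec (CommRingCat.of A))
      (IsLocalRing.closedPoint A)
    refine K45.HomLift.exists_lift_local hF hG (IsLocalRing.closedPoint A).asIdeal H ?_ u₀ ?_
    · rintro E' ⟨hE'⟩
      obtain ⟨e⟩ := K45.HomLift.nonempty_sheafHom_iso
        (CohIII.fiberMod (X ↘ Spec (CommRingCat.of A)) F (IsLocalRing.closedPoint A)) E'
        (CohIII.fiberMod (X ↘ Spec (CommRingCat.of A)) G (IsLocalRing.closedPoint A))
      obtain ⟨e', -⟩ := Ega3B.FibreResid.exists_equiv_HH e 1
      exact e'.symm.toEquiv.subsingleton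
    · intro a ha
      by_contra h
      exact ha ((IsLocalRing.mem_maximalIdeal a).mpr h)
  · rintro u rfl
    constructor
    · intro hm
      rw [PerfC.FlatExact.mono_iff_stalkLin] at hm ⊢
      exact forall_of_closed_fibre (X ↘ Spec (CommRingCat.of A))
        (K45.FibreMono.isOpen_injective u hcF hcG) fun z =>
        K45.FibreMono.injective_stalk (X ↘ Spec (CommRingCat.of A)) hcF
          (K45.HomLift.isFlatOver_of_flf _ hG) u _ z (hm z)
    · intro hm
      rw [PerfC.FlatExact.epi_iff_stalkLin] at hm ⊢
      exact forall_of_closed_fibre (X ↘ Spec (CommRingCat.of A))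
        (K45.FibreMono.isOpen_surjective u hcF hcG) fun z =>
        K45.FibreMono.surjective_stalk _ hcG u z
          (CycB.FiberKer.stalkMap_fiberι_surjective _ _ z) (hm z)

end Groth.Agent.S4476
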