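import Groth.Statements.S4478
import Groth.Agent.FormalB.ProHH
import Groth.Agent.CurvesC.CurveNum
import Groth.Agent.S0792
import Groth.Agent.S0002
import Groth.Agent.CurvesA.HHMap

set_option autoImplicit false
universe u
open Coherent

namespace Groth.Agent.S4478

open AlgebraicGeometry CategoryTheory in
/-- The comparison statement extended to modules with proper support, over an affine base. Let A be a
Noetherian ring, I an ideal of A, X a scheme of finite type over Spec A and F a coherent O_X-module
whose support is proper over Spec A. Then for every p the I-adic completion of H^p(X, F) is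
isomorphic, as an additive group, to the inverse limit of the groups H^p(X, F/I^(n+1)F). (The source
proves that the canonical map is a topological isomorphism; only the existence of an additive
isomorphism is asserted, as for the proper case.) -/
theorem result (A : Type u) [CommRing A] [IsNoetherianRing A] (I : Ideal A)
    (X : Scheme.{u}) [X.Over (Spec (CommRingCat.of A))]
    [LocallyOfFiniteType (X ↘ Spec (CommRingCat.of A))] [QuasiCompact (X ↘ Spec (CommRingCat.of A))]
    (F : X.Modules) (hF : Coh.IsCoh F)
    (hs : ClSub.IsProperOver (X ↘ Spec (CommRingCat.of A)) (CohB1.support F)) (p : ℕ) :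
    Nonempty (AdicCompletion I (Coh.HH X F p) ≃+ Formal.HHlim I F p) := by
  have hX : AlgebraicGeometry.IsNoetherian X := by
    have h1 : IsLocallyNoetherian X :=
      LocallyOfFiniteType.isLocallyNoetherian (X ↘ Spec (CommRingCat.of A))
    have h2 : CompactSpace X := by
      have := QuasiCompact.isCompact_preimage (f := X ↘ Spec (CommRingCat.of A)) Set.univ
        isOpen_univ isCompact_univ
      exact ⟨by simpa using this⟩
    exact ⟨⟩
  obtain ⟨Z, i, hi, hp, G, hG, hGf, ⟨e⟩⟩ :=
    (S0792.result (X ↘ Spec (CommRingCat.of A)) F hF.1 hF.2).mp hs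
  have hfin : ∀ p : ℕ, Module.Finite A (Coh.HH X F p) := by
    intro p
    let iZ : Z.Over (Spec (CommRingCat.of A)) := ⟨i ≫ (X ↘ Spec (CommRingCat.of A))⟩
    have hp' : IsProper (Z ↘ Spec (CommRingCat.of A)) := hp
    have h3 : Module.Finite A (Coh.HH Z G p) := S0002.result A Z G ⟨hG, hGf⟩ p
    exact Module.Finite.equiv ((CurvesC.CurveNum.hhPushₗ A i rfl G p).trans
      (CurvesA.HHMap.equivOver A e p))
  obtain ⟨β, hβ, -⟩ := FormalB.ProHH.exists_bijective_HH I F hF hfin p
  exact ⟨AddEquiv.ofBijective β hβ⟩

end Groth.Agent.S4478
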