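import Groth.Statements.S4481
import Groth.Agent.S0008
import Groth.Agent.CurvesB.CechTransport
import Groth.Agent.Ega1.QcqsPush
import Mathlib.AlgebraicGeometry.Morphisms.QuasiSeparated

set_option autoImplicit false
universe u
open Coherent

namespace Groth.Agent.S4481

open AlgebraicGeometry CategoryTheory CategoryTheory.Limits Opposite TopologicalSpace

section

variable {X : Scheme.{u}} (U : X.Opens)

/-- The functor `V ↦ π⁻¹ V` from opens of `Spec Γ(X, U)` to opens of `X`. -/
noncomputable abbrev Phi : (Spec Γ(X, U)).Opens ⥤ X.Opens :=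
  Opens.map U.toSpecΓ.base ⋙ U.ι.opensFunctor

theorem image_iInf {n : ℕ} (V : Fin (n + 1) → (U : Scheme.{u}).Opens) :
    U.ι ''ᵁ (⨅ i, V i) = ⨅ i, U.ι ''ᵁ (V i) := by
  ext x
  simp only [TopologicalSpace.Opens.coe_iInf]
  constructor
  · rintro ⟨y, hy, rfl⟩
    have hy' : y ∈ ((⨅ i, V i : (U : Scheme.{u}).Opens) : Set _) := hy
    rw [TopologicalSpace.Opens.coe_iInf, Set.mem_iInter] at hy'
    exact Set.mem_iInter.mpr fun i => ⟨y, hy' i, rfl⟩
  · intro h
    rw [Set.mem_iInter] at h
    obtain ⟨y, -, rfl⟩ := h 0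
    refine ⟨y, ?_, rfl⟩
    change y ∈ ((⨅ i, V i : (U : Scheme.{u}).Opens) : Set _)
    rw [TopologicalSpace.Opens.coe_iInf, Set.mem_iInter]
    intro i
    obtain ⟨z, hz, hzy⟩ := h i
    have : z = y := U.ι.isOpenEmbedding.injective hzy
    exact this ▸ hz

theorem Phi_pi {n : ℕ} (V : Fin (n + 1) → (Spec Γ(X, U)).Opens) :
    (Phi U).obj (∏ᶜ V) = ∏ᶜ (fun i => (Phi U).obj (V i)) := by
  have h1 := Groth.Agent.CurvesB.CechTransport.pi_eq_iInf
    (X := (Spec Γ(X, U)).toTopCat) V
  have h2 := Groth.Agent.CurvesB.CechTransport.pi_eq_iInf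
    (X := X.toTopCat) (fun i => (Phi U).obj (V i))
  have h3 := Groth.Agent.CurvesB.CechTransport.map_iInf U.toSpecΓ.base V
  refine (congrArg (Phi U).obj h1).trans (Eq.trans ?_ h2.symm)
  change U.ι ''ᵁ ((Opens.map U.toSpecΓ.base).obj (⨅ i, V i)) = _
  rw [h3, image_iInf]
  rfl

theorem Phi_basicOpen (r : Γ(X, U)) :
    (Phi U).obj (PrimeSpectrum.basicOpen r) = X.basicOpen r := by
  change U.ι ''ᵁ (U.toSpecΓ ⁻¹ᵁ (PrimeSpectrum.basicOpen r)) = _
  rw [Scheme.Opens.toSpecΓ_preimage_basicOpen, Scheme.Hom.image_preimage_eq_opensRange_inf,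
    Scheme.Opens.opensRange_ι]
  exact inf_eq_right.mpr (X.basicOpen_le r)

/-- The presheaf of the direct image on `Spec Γ(X, U)`. -/
noncomputable def presheafIso (G : X.Modules) :
    ((Scheme.Modules.pushforward U.toSpecΓ).obj (G.restrict U.ι)).presheaf ≅
      (Phi U).op ⋙ G.presheaf :=
  NatIso.ofComponents (fun V => Iso.refl _) (fun {V W} f => by
    ext x
    rfl)

theorem isZero_cech (G : X.Modules) (n : ℕ) (f : ULift.{u} (Fin n) → Γ(X, U))
    (hf : Ideal.span (Set.range f) = ⊤) (p : ℕ) (hp : 0 < p)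
    (hG : Coh.IsQCoh ((Scheme.Modules.pushforward U.toSpecΓ).obj (G.restrict U.ι))) :
    IsZero (CohB1.cechH (fun i => X.basicOpen (f i)) G p) := by
  let D : ULift.{u} (Fin n) → (Spec Γ(X, U)).Opens := fun i => PrimeSpectrum.basicOpen (f i)
  have e1 : (cechComplexFunctor (A := AddCommGrpCat.{u}) D).obj ((Phi U).op ⋙ G.presheaf) ≅
      (cechComplexFunctor (A := AddCommGrpCat.{u}) (fun k => (Phi U).obj (D k))).obj G.presheaf :=
    (Groth.Agent.CurvesB.CechTransport.cechIso (A := AddCommGrpCat.{u}) D (Phi U) (fun m i =>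
      ⟨eqToIso (Phi_pi U (n := m.len) (D ∘ i))⟩)).app G.presheaf
  have h1 : (fun k => (Phi U).obj (D k)) = fun i => X.basicOpen (f i) :=
    funext fun k => Phi_basicOpen U (f k)
  rw [h1] at e1
  let N := (Scheme.Modules.pushforward U.toSpecΓ).obj (G.restrict U.ι)
  have hN : N.IsQuasicoherent := hG
  have h2 := S0008.result Γ(X, U) ((modulesSpecToSheaf.obj N).presheaf.obj (op ⊤)) n f hf p hp
  have e2 : (tilde (R := Γ(X, U)) ((modulesSpecToSheaf.obj N).presheaf.obj (op ⊤))).presheaf ≅
      N.presheaf := (Scheme.Modules.toPresheaf _).mapIso (asIso N.fromTildeΓ)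
  exact h2.of_iso ((HomologicalComplex.homologyMapIso
    (e1.symm ≪≫ (cechComplexFunctor (A := AddCommGrpCat.{u}) D).mapIso
      ((presheafIso U G).symm ≪≫ e2.symm)) p))

end

open AlgebraicGeometry CategoryTheory Opposite in
/-- Let X be a separated scheme, f_1, …, f_n global functions on X such that every open X_{f_i} is
quasi-compact, U the union of the X_{f_i}, and suppose there are sections g_1, …, g_n of O_X over U
with Σ g_i · (f_i|_U) = 1. Then for every quasi-coherent O_X-module G and every p > 0 the Čech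
cohomology group of G in degree p with respect to the family of opens (X_{f_i}) is zero. (The
published statement also covers a scheme whose underlying space is Noetherian, not necessarily
separated; this row treats separated X.) -/
theorem result (X : Scheme.{u}) [X.IsSeparated] (n : ℕ)
    (f : Fin n → Γ(X, ⊤)) (hqc : ∀ i, IsCompact (X.basicOpen (f i) : Set X))
    (g : Fin n → Γ(X, ⨆ i, X.basicOpen (f i)))
    (hg : (Finset.univ.sum fun i => g i *
      (X.presheaf.map (homOfLE (le_top : (⨆ i, X.basicOpen (f i)) ≤ ⊤)).op).hom (f i)) = 1)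
    (G : X.Modules) [Coh.IsQCoh G] (p : ℕ) (hp : 0 < p) :
    Limits.IsZero (CohB1.cechH (fun i : ULift.{u} (Fin n) => X.basicOpen (f i.down)) G p) := by
  let U : X.Opens := ⨆ i, X.basicOpen (f i)
  let f' : ULift.{u} (Fin n) → Γ(X, U) := fun i =>
    (X.presheaf.map (homOfLE (le_top : U ≤ ⊤)).op).hom (f i.down)
  have h1 : (fun i : ULift.{u} (Fin n) => X.basicOpen (f i.down)) =
      fun i => X.basicOpen (f' i) := by
    funext i
    have h2 : X.basicOpen (f' i) = U ⊓ X.basicOpen (f i.down) :=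
      X.basicOpen_res (f i.down) (homOfLE (le_top : U ≤ ⊤)).op
    rw [h2]
    exact (inf_eq_right.mpr (le_iSup (fun i => X.basicOpen (f i)) i.down)).symm
  rw [h1]
  have hc : IsCompact (U : Set X) := by
    have : (U : Set X) = ⋃ i, (X.basicOpen (f i) : Set X) := by
      simp [U]
    rw [this]
    exact isCompact_iUnion hqc
  have : CompactSpace (U : Scheme.{u}) := isCompact_iff_compactSpace.mp hc
  have hX : QuasiSeparatedSpace X := inferInstance
  have hs : QuasiSeparatedSpace (U : Scheme.{u}) :=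
    QuasiSeparatedSpace.of_isOpenEmbedding U.ι.isOpenEmbedding
  have : QuasiCompact U.toSpecΓ := inferInstance
  have : QuasiSeparated U.toSpecΓ := inferInstance
  refine isZero_cech U G n f' ?_ p hp ?_
  · rw [Ideal.eq_top_iff_one, ← hg]
    refine Ideal.sum_mem _ fun i _ => Ideal.mul_mem_left _ _ (Ideal.subset_span ⟨⟨i⟩, rfl⟩)
  · have : Coh.IsQCoh (G.restrict U.ι) := inferInstance
    exact Ega1.QcqsPush.isQCoh_pushforward U.toSpecΓ _ this

end Groth.Agent.S4481
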