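import Groth.Statements.S4482
import Groth.Agent.S3561
import Groth.Agent.S3545
import Groth.Agent.S0847
import Groth.Agent.S4400
import Groth.Agent.S2434
import Groth.Agent.FormalB.ProjScalar
import Groth.Agent.VarietyA.H0Equiv
import Groth.Agent.CurvesC.CurveNum

set_option autoImplicit false
universe u
open Coherent

namespace Groth.Agent.S4482

open AlgebraicGeometry CategoryTheory Opposite TopologicalSpace in
/-- The scalar `a`, as a global function on `Proj`, has value `a` in every local ring. -/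
theorem toGlobal_val {A S : Type u} [CommRing A] [CommRing S] [Algebra A S] (𝒜 : ℕ → Submodule A S)
    [GradedAlgebra 𝒜] (a : A) (x : ProjectiveSpectrum 𝒜) :
    HomogeneousLocalization.val ((show Twist.O (𝒜 := 𝒜) (op ⊤) from
      (Coh.toGlobal (Proj 𝒜 ↘ Spec (CommRingCat.of A)) a)).1 ⟨x, trivial⟩) =
      algebraMap S (Twist.Loc 𝒜 x) (algebraMap A S a) := by
  have h1 := Groth.Agent.FormalB.ProjScalar.toSpecZero_appTop_apply 𝒜 (algebraMap A (𝒜 0) a) x
  have h2 : Coh.toGlobal (Proj 𝒜 ↘ Spec (CommRingCat.of A)) a =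
      (Proj.toSpecZero 𝒜).appTop.hom
        ((Scheme.ΓSpecIso (CommRingCat.of (𝒜 0))).inv.hom
          (algebraMap A (𝒜 0) a)) := by
    change ((Proj.toSpecZero 𝒜 ≫
      Spec.map (CommRingCat.ofHom (algebraMap A (𝒜 0)))).appTop).hom
        ((Scheme.ΓSpecIso (CommRingCat.of A)).inv.hom a) = _
    rw [Scheme.Hom.comp_appTop]
    have h3 := ConcreteCategory.congr_hom (Scheme.ΓSpecIso_inv_naturality
      (CommRingCat.ofHom (algebraMap A (𝒜 0)))) a
    exact (congrArg (Proj.toSpecZero 𝒜).appTop.hom h3).symm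
  rw [h2]
  exact h1

open AlgebraicGeometry CategoryTheory Opposite TopologicalSpace in
theorem globalOf_smul {A S : Type u} [CommRing A] [CommRing S] [Algebra A S] (𝒜 : ℕ → Submodule A S)
    [GradedAlgebra 𝒜] {M : Type u} [AddCommGroup M] [Module A M] [Module S M]
    [IsScalarTower A S M] (ℳ : ℕ → Submodule A M) [SetLike.GradedSMul 𝒜 ℳ] {n : ℕ} (a : A) (m : ℳ n) :
    GrTilde.globalOf 𝒜 ℳ (a • m) = (show Twist.O (𝒜 := 𝒜) (op ⊤) from
      (Coh.toGlobal (Proj 𝒜 ↘ Spec (CommRingCat.of A)) a)) • GrTilde.globalOf 𝒜 ℳ m := by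
  refine Subtype.ext (funext fun x => Subtype.ext ?_)
  have h := toGlobal_val 𝒜 a x.1
  have h2 : ∀ y : GrTilde.LocMod 𝒜 (M := M) x.1, HomogeneousLocalization.val ((show Twist.O (𝒜 := 𝒜) (op ⊤) from
      (Coh.toGlobal (Proj 𝒜 ↘ Spec (CommRingCat.of A)) a)).1 ⟨x.1, trivial⟩) • y =
      algebraMap S (Twist.Loc 𝒜 x.1) (algebraMap A S a) • y := fun y => by rw [h]
  refine Eq.trans ?_ (h2 ((GrTilde.globalOf 𝒜 ℳ m).1 x).1).symm
  change LocalizedModule.mk _ _ = algebraMap S (Twist.Loc 𝒜 x.1) (algebraMap A S a) • LocalizedModule.mk _ _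
  rw [← Localization.mk_one_eq_algebraMap, LocalizedModule.mk_smul_mk]
  congr 1
  · simp
  · simp

open AlgebraicGeometry CategoryTheory Opposite TopologicalSpace in
theorem globalOf_add {A S : Type u} [CommRing A] [CommRing S] [Algebra A S] (𝒜 : ℕ → Submodule A S)
    [GradedAlgebra 𝒜] {M : Type u} [AddCommGroup M] [Module A M] [Module S M]
    (ℳ : ℕ → Submodule A M) [SetLike.GradedSMul 𝒜 ℳ] {n : ℕ} (m m' : ℳ n) :
    GrTilde.globalOf 𝒜 ℳ (m + m') = GrTilde.globalOf 𝒜 ℳ m + GrTilde.globalOf 𝒜 ℳ m' := by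
  refine Subtype.ext (funext fun x => Subtype.ext ?_)
  change LocalizedModule.mk _ _ = LocalizedModule.mk _ _ + LocalizedModule.mk _ _
  rw [LocalizedModule.mk_add_mk]
  congr 1
  · change _ = (1 : S) • m.1 + (1 : S) • m'.1
    rw [one_smul, one_smul]
    rfl
  · exact Subtype.ext (mul_one _).symm

open AlgebraicGeometry CategoryTheory in
/-- Let A be an Artinian local ring, S a graded A-algebra with S_0 the image of A, generated by r+1
elements of degree one spanning S_1, M a finitely generated graded S-module (graded in nonnegative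
degrees) and X = Proj S. Then there is N such that for every n ≥ N the Euler characteristic of the
module M(n)~, namely the alternating sum over 0 ≤ j ≤ r of the lengths of the A-modules H^j(X,
M(n)~), equals the length of the A-module M_n. -/
theorem result {A S : Type u} [CommRing A] [IsArtinianRing A]
    [IsLocalRing A] [CommRing S] [Algebra A S] (𝒜 : ℕ → Submodule A S) [GradedAlgebra 𝒜]
    (h0 : ∀ s ∈ 𝒜 0, s ∈ Set.range (algebraMap A S)) (r : ℕ) (g : Fin (r + 1) → S)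
    (hg1 : ∀ i, g i ∈ 𝒜 1) (hspan : Submodule.span A (Set.range g) = 𝒜 1)
    (hgen : Algebra.adjoin A (Set.range g) = ⊤) {M : Type u} [AddCommGroup M] [Module A M] [Module S M]
    [IsScalarTower A S M] [Module.Finite S M] (ℳ : ℕ → Submodule A M) [DirectSum.Decomposition ℳ]
    [SetLike.GradedSMul 𝒜 ℳ] :
    ∃ N : ℕ, ∀ n : ℕ, N ≤ n →
      ((Finset.range (r + 1)).sum fun j => (-1 : ℤ) ^ j *
          ((Module.length A (Coh.HH (Proj 𝒜) (GrTilde.tilde 𝒜 ℳ (n : ℤ)) j)).toNat : ℤ)) =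
        ((Module.length A ↥(ℳ n)).toNat : ℤ) := by
  have hft : Algebra.FiniteType A S := ⟨⟨(Set.finite_range g).toFinset, by simpa using hgen⟩⟩
  have hNS : IsNoetherianRing S := Algebra.FiniteType.isNoetherianRing A S
  have hirr : (HomogeneousIdeal.irrelevant 𝒜).toIdeal = Ideal.span (𝒜 1 : Set S) := by
    apply le_antisymm
    · intro s hs
      classical
      rw [← DirectSum.sum_support_decompose 𝒜 s]
      refine sum_mem fun i _ => ?_
      rcases Nat.eq_zero_or_pos i with rfl | hi0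
      · have := (HomogeneousIdeal.mem_irrelevant_iff _ _).mp hs
        rw [GradedRing.proj_apply] at this
        rw [this]
        exact zero_mem _
      · have h1 := Groth.Agent.S2434.mem_pow 𝒜 g hg1 hgen i _ (SetLike.coe_mem (DirectSum.decompose 𝒜 s i))
        have h2 := Ideal.pow_le_self hi0.ne' h1
        exact Ideal.span_mono (by rintro _ ⟨i, rfl⟩; exact hg1 i) h2
    · rw [Ideal.span_le]
      intro s hs
      refine (HomogeneousIdeal.mem_irrelevant_iff _ _).mpr ?_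
      rw [GradedRing.proj_apply, DirectSum.decompose_of_mem_ne 𝒜 hs one_ne_zero]
  have hcoh : Coh.IsCoh (GrTilde.tilde 𝒜 ℳ 0) :=
    ⟨Groth.Agent.S3545.result 𝒜 ℳ 0, Groth.Agent.S3561.result 𝒜 (IsNoetherian.noetherian _) ℳ
      ⟨0, by
        have h : IsNoetherian S M := inferInstance
        exact IsNoetherian.noetherian _⟩⟩
  have hvan : ∀ p : ℕ, 0 < p → ∃ N : ℕ, ∀ n : ℕ, N ≤ n →
      Subsingleton (Coh.HH (Proj 𝒜) (GrTilde.tilde 𝒜 ℳ (n : ℤ)) p) := by
    intro p hp
    obtain ⟨d₀, hd₀⟩ := Groth.Agent.S0847.result 𝒜 (GrTilde.tilde 𝒜 ℳ 0) hcoh p hp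
    refine ⟨d₀.toNat, fun n hn => ?_⟩
    obtain ⟨e⟩ := Groth.Agent.S4400.result 𝒜 hirr ℳ (n : ℤ)
    have h1 := hd₀ (n : ℤ) (by omega)
    exact @Equiv.subsingleton _ _ ((Sheaf.functorH _ p).mapIso
      ((SheafOfModules.toSheaf (Proj 𝒜).ringCatSheaf).mapIso e)).addCommGroupIsoToAddEquiv.toEquiv h1
  obtain ⟨N₀, hN₀⟩ := Groth.Agent.S2434.result 𝒜 h0 r g hg1 hspan hgen ℳ
  choose N hN using fun p : ℕ => hvan (p + 1) p.succ_pos
  refine ⟨max N₀ ((Finset.range r).sup N), fun n hn => ?_⟩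
  rw [Finset.sum_range_succ', Finset.sum_eq_zero, zero_add, pow_zero, one_mul]
  · have hb := hN₀ n (le_trans (le_max_left _ _) hn)
    let e0 := Groth.Agent.VarietyA.H0Equiv.hZeroEquiv (GrTilde.tilde 𝒜 ℳ (n : ℤ))
    let e1 : ℳ n ≃+ (GrTilde.tilde 𝒜 ℳ (n : ℤ)).val.obj (Opposite.op ⊤) :=
      AddEquiv.ofBijective (AddMonoidHom.mk' (fun m : ℳ n => GrTilde.globalOf 𝒜 ℳ m) (globalOf_add 𝒜 ℳ)) hb
    have he : ∀ (a : A) (m : ℳ n), (e1.trans e0.symm) (a • m) = a • (e1.trans e0.symm) m := by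
      intro a m
      change e0.symm (e1 (a • m)) = a • e0.symm (e1 m)
      rw [AddEquiv.symm_apply_eq]
      refine (globalOf_smul 𝒜 ℳ a m).trans ?_
      refine Eq.trans ?_ (Groth.Agent.VarietyA.H0Equiv.hZeroEquiv_smul (GrTilde.tilde 𝒜 ℳ (n : ℤ))
        (Coh.toGlobal (Proj 𝒜 ↘ Spec (CommRingCat.of A)) a) (e0.symm (e1 m))).symm
      have h3 : Groth.Agent.VarietyA.H0Equiv.hZeroEquiv (GrTilde.tilde 𝒜 ℳ (n : ℤ)) (e0.symm (e1 m)) =
          GrTilde.globalOf 𝒜 ℳ m := e0.apply_symm_apply _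
      rw [h3]
      rfl
    exact congrArg (fun z : ℕ∞ => ((z.toNat : ℕ) : ℤ))
      (LinearEquiv.length_eq ({ (e1.trans e0.symm) with map_smul' := he } : ℳ n ≃ₗ[A] _)).symm
  · intro j hj
    have hs := hN j n (le_trans (Finset.le_sup hj) (le_trans (le_max_right _ _) hn))
    rw [Module.length_eq_zero]
    simp

end Groth.Agent.S4482
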