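import Groth.Statements.S4483
import Groth.Agent.CohqA.HDIZero
import Groth.Agent.CohqA.HOpen
import Groth.Agent.Krr.H471.ChartTwist
import Groth.Agent.Krr.H484.PBCharts
import Groth.Agent.Fga.HShift
import Groth.Agent.S0844

set_option autoImplicit false
universe u
open Coherent

namespace Groth.Agent.S4483

section
open AlgebraicGeometry CategoryTheory Opposite TopologicalSpace Groth.Agent.Krr.H471.ChartVan Groth.Agent.Krr.H471.ChartTwist
open Groth.Agent.Krr.H482.PullTens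

/-- The affine opens over which `E` is trivial form a basis. -/
theorem exists_triv {Y : Scheme.{u}} {n : ℕ} {E : Y.Modules} (hE : FlatMod.IsFinLocFreeOfRank n E) (x : Y)
    (V : Y.Opens) (hx : x ∈ V) :
    ∃ (W : Y.Opens) (hW : IsAffineOpen W), x ∈ W ∧ W ≤ V ∧
      Nonempty ((Scheme.Modules.pullback hW.fromSpec).obj E ≅ FlatMod.freeMod (Spec Γ(Y, W)) n) := by
  obtain ⟨U, hxU, ⟨t⟩⟩ := hE x
  obtain ⟨W, hW, hxW, hWU⟩ := exists_isAffineOpen_mem_and_subset (X := Y) (U := U ⊓ V) ⟨hxU, hx⟩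
  refine ⟨W, hW, hxW, fun y hy => (hWU hy).2, ⟨?_⟩⟩
  have hr : Set.range hW.fromSpec ⊆ Set.range U.ι := by
    rw [hW.range_fromSpec, Scheme.Opens.range_ι]
    exact fun y hy => (hWU hy).1
  let k : Spec Γ(Y, W) ⟶ U := IsOpenImmersion.lift U.ι hW.fromSpec hr
  have hk : k ≫ U.ι = hW.fromSpec := IsOpenImmersion.lift_fac _ _ _
  exact (Scheme.Modules.pullbackCongr hk.symm).app E ≪≫ (Scheme.Modules.pullbackComp k U.ι).symm.app E ≪≫
    (Scheme.Modules.pullback k).mapIso ((Scheme.Modules.restrictFunctorIsoPullback U.ι).symm.app E ≪≫ t) ≪≫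
    Groth.Agent.PerfB.FlatPull.pullbackFreeMod k n

/-- Powers on a chart. -/
theorem nonempty_chart_pow {Y P : Scheme.{u}} {π : P ⟶ Y} {r : ℕ} (C : Chart r π) {N : P.Modules} {j : ℤ}
    (e : (Scheme.Modules.pullback C.c).obj N ≅ Twist.twistProjSpace r C.A j) (k : ℕ) :
    Nonempty ((Scheme.Modules.pullback C.c).obj (CohB1.tensorPow N k) ≅
      Twist.twistProjSpace r C.A (k * j)) := by
  induction k with
  | zero =>
    obtain ⟨e1⟩ := Ega2.TwistInv.nonempty_unit_iso (CohB1.polyGrading r C.A)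
    have h : ((0 : ℕ) : ℤ) * j = 0 := by simp
    rw [h]
    exact ⟨pullUnitIso C.c ≪≫ e1⟩
  | succ k ih =>
    obtain ⟨e1⟩ := ih
    obtain ⟨e2⟩ := Sga67.TwistProj.nonempty_mul r C.A (k * j) j
    have h : (k : ℤ) * j + j = ((k + 1 : ℕ) : ℤ) * j := by push_cast; ring
    rw [h] at e2
    exact ⟨pullTensorIso C.c (CohB1.tensorPow N k) N ≪≫ Ega2.Tens.mapTIso e1 e ≪≫ e2⟩

theorem subsingleton_chart {Y P : Scheme.{u}} {π : P ⟶ Y} {r : ℕ} (C : Chart r π) {N : P.Modules} {d : ℤ}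
    (e : (Scheme.Modules.pullback C.c).obj N ≅ Twist.twistProjSpace r C.A d) (i : ℕ)
    (h0 : ¬ (i = 0 ∧ 0 ≤ d)) (hn : ¬ (i = r ∧ d ≤ -((r : ℤ) + 1))) (W : Y.Opens) (h3 : C.h.opensRange = W) :
    Subsingleton (Sheaf.H' (Coh.toAb N) i (π ⁻¹ᵁ W)) := by
  have h1 : Subsingleton (Coh.HH (CohB1.ProjSpace r C.A) (N.restrict C.c) i) :=
    Fga.HShift.subsingleton_of_iso
      (((Scheme.Modules.restrictFunctorIsoPullback C.c).app N ≪≫ e).symm) i
      (S0844.result _ r d i h0 hn)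
  have h2 := C.image_top
  rw [h3] at h2
  exact (CohqA.HOpen.HHEquiv C.c N (π ⁻¹ᵁ W) h2 i).toEquiv.subsingleton

/-- Vanishing of the higher direct images of a module which is `O(d)` on the charts. -/
theorem isZero_of_chart {Y P : Scheme.{u}} (π : P ⟶ Y) (r : ℕ) (E : Y.Modules)
    (hE : FlatMod.IsFinLocFreeOfRank (r + 1) E) (O1 : P.Modules)
    (q : (Scheme.Modules.pullback π).obj E ⟶ O1) (hP : KRR.IsProjBundle π E O1 q) (N : P.Modules) (d : ℤ)
    (hN : ∀ C : Chart r π, Nonempty ((Scheme.Modules.pullback C.c).obj O1 ≅ Twist.twistProjSpace r C.A 1) →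
      Nonempty ((Scheme.Modules.pullback C.c).obj N ≅ Twist.twistProjSpace r C.A d)) (i : ℕ)
    (h0 : ¬ (i = 0 ∧ 0 ≤ d)) (hn : ¬ (i = r ∧ d ≤ -((r : ℤ) + 1))) :
    Limits.IsZero ((Coh.RpushAb π i).obj (Coh.toAb N)) := by
  refine CohqA.HDIZero.isZero_RpushAb π _ i
    {W | ∃ hW : IsAffineOpen W, Nonempty ((Scheme.Modules.pullback hW.fromSpec).obj E ≅
      FlatMod.freeMod (Spec Γ(Y, W)) (r + 1))} ?_ fun W hW => ?_
  · rw [Opens.isBasis_iff_nbhd]
    intro V x hx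
    obtain ⟨W, hW, hxW, hWV, ht⟩ := exists_triv hE x V hx
    exact ⟨W, ⟨hW, ht⟩, hxW, hWV⟩
  · obtain ⟨hW, ⟨τ⟩⟩ := hW
    obtain ⟨j, hj, hO⟩ := Krr.H484.PBCharts.exists_chart hP (A := Γ(Y, W)) hW.fromSpec τ
    let C : Chart r π := { A := Γ(Y, W), h := hW.fromSpec, c := j, isPullback := hj }
    obtain ⟨e⟩ := hN C hO
    exact subsingleton_chart C e i h0 hn W (SetLike.coe_injective hW.range_fromSpec)

end
open AlgebraicGeometry CategoryTheory in
/-- Let Y be a scheme, E a locally free O_Y-module of rank r+1, and (π : P → Y, O(1), q : π^*E → O(1)) a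
projective bundle P(E) of E, characterised by its universal property; let L be an O_P-module with L
⊗ O(1) ≅ O_P, playing the role of O(-1). Then the higher direct images R^i π_* O(n) vanish except
possibly for i = 0, n ≥ 0 and for i = r, n ≤ -(r+1): precisely, R^i π_*(O(1)^{⊗ n}) = 0 for all n ≥
0 and i ≠ 0, and R^i π_*(L^{⊗ m}) = 0 for all m ≥ 1 and all i unless i = r and m ≥ r + 1 (higher
direct images of the underlying abelian sheaves). -/
theorem result {Y P : Scheme.{u}} (π : P ⟶ Y) (r : ℕ)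
    (E : Y.Modules) (hE : FlatMod.IsFinLocFreeOfRank (r + 1) E) (O1 : P.Modules)
    (q : (Scheme.Modules.pullback π).obj E ⟶ O1) (hP : KRR.IsProjBundle π E O1 q)
    (L : P.Modules) (hL : ClSub.IsInverseOf L O1) :
    (∀ (n i : ℕ), i ≠ 0 → Limits.IsZero ((Coh.RpushAb π i).obj (Coh.toAb (CohB1.tensorPow O1 n)))) ∧
    (∀ (m i : ℕ), 1 ≤ m → ¬ (i = r ∧ r + 1 ≤ m) →
      Limits.IsZero ((Coh.RpushAb π i).obj (Coh.toAb (CohB1.tensorPow L m)))) := by
  refine ⟨fun n i hi => ?_, fun m i hm him => ?_⟩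
  · refine isZero_of_chart π r E hE O1 q hP _ (n * 1) (fun C ⟨e⟩ => nonempty_chart_pow C e n) i ?_ ?_
    · exact fun h => hi h.1
    · intro h
      have h1 := h.2
      omega
  · obtain ⟨l⟩ := hL
    have h1 : ((DCoh.tensorBi (X := P)).obj O1).obj L ≅ Coh.structureModule P := Groth.Agent.Ega2.Tens.swap O1 L ≪≫ l
    refine isZero_of_chart π r E hE O1 q hP _ (m * (-1)) (fun C ⟨e⟩ => ?_) i ?_ ?_
    · obtain ⟨e'⟩ := Groth.Agent.Krr.H471.ChartTwist.nonempty_chart_neg_one C e h1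
      exact nonempty_chart_pow C e' m
    · omega
    · omega

end Groth.Agent.S4483
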