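import Groth.Statements.S4489
import Groth.Agent.Ega3A.UctDedekind

set_option autoImplicit false
universe u
open FlatCx

namespace Groth.Agent.S4489

open CategoryTheory CategoryTheory.Limits in
/-- For the homological functor T_p(M) = H_p(P ⊗_A M) of a chain complex P of flat modules, stated over
a Dedekind domain A. (The published statement allows A to be a finite product of Dedekind domains,
that is, a Noetherian regular ring of dimension at most 1; this row takes A a Dedekind domain.) Then
T_p takes injections to injections if and only if H_p(P) is a flat A-module; and, with q + 1 = p,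
T_p takes injections to injections and surjections to surjections if and only if H_p(P) and H_q(P)
are both flat. -/
theorem result {A : Type u} [CommRing A] [IsDedekindDomain A]
    (P : ChainComplex (ModuleCat.{u} A) ℤ) (hP : ∀ i, Module.Flat A (P.X i)) (p q : ℤ) (hpq : q + 1 = p) :
    ((CohIII.TFun P p).PreservesMonomorphisms ↔ Module.Flat A (P.homology p)) ∧
      (((CohIII.TFun P p).PreservesMonomorphisms ∧ (CohIII.TFun P p).PreservesEpimorphisms) ↔
        (Module.Flat A (P.homology p) ∧ Module.Flat A (P.homology q))) := by
  have key : ∀ r : ℤ, Module.Flat A (P.opcycles r) ↔ Module.Flat A (P.homology r) := by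
    intro r
    have := hP (r - 1)
    have h1 : Module.Flat A (LinearMap.range (P.fromOpcycles r (r - 1)).hom) :=
      Ega3A.UctDedekind.flat_of_injective
        (LinearMap.range (P.fromOpcycles r (r - 1)).hom).subtype Subtype.val_injective
    exact Ega3A.FlatSES.flat_iff (f := (P.homologyι r).hom)
      (g := (P.fromOpcycles r (r - 1)).hom.rangeRestrict)
      (Ega3A.TFunFlat.homologyι_injective P r) (by
        rw [LinearMap.exact_iff, LinearMap.ker_rangeRestrict, ← LinearMap.exact_iff]
        exact Ega3A.TFunFlat.exact_homologyι_fromOpcycles P r (r - 1)
          ((ComplexShape.down ℤ).next_eq' (by simp)))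
      (LinearMap.surjective_rangeRestrict _)
  refine ⟨?_, ?_⟩
  · rw [Ega3A.TFunBasic.chain_preservesMono_iff_flat P hP, key]
  · rw [Ega3A.TFunFlat.chain_exact_iff_flat P hP p q hpq, key, key]

end Groth.Agent.S4489
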