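import Groth.Statements.S4498
import Groth.Agent.S2436

set_option autoImplicit false
universe u
attribute [local instance] HasDerivedCategory.standard
open Coherent

namespace Groth.Agent.S4498

open CategoryTheory CategoryTheory.Limits Opposite in
/-- A natural transformation between functors corepresented by finite modules has a corepresentable
kernel. -/
theorem ker_corep {A : Type u} [CommRing A] {T T' : ModuleCat.{u} A ⥤ ModuleCat.{u} A}
    (Q Q' : ModuleCat.{u} A) [Module.Finite A Q]
    (e : T ≅ (linearCoyoneda A (ModuleCat.{u} A)).obj (op Q))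
    (e' : T' ≅ (linearCoyoneda A (ModuleCat.{u} A)).obj (op Q')) (η : T ⟶ T') :
    ∃ (R : ModuleCat.{u} A) (ι : (linearCoyoneda A (ModuleCat.{u} A)).obj (op R) ⟶ T),
      Module.Finite A R ∧ (∀ M : ModuleCat.{u} A, Function.Injective (ι.app M).hom) ∧
        ∀ (M : ModuleCat.{u} A) (x : T.obj M), (η.app M).hom x = 0 ↔ ∃ y, (ι.app M).hom y = x := by
  obtain ⟨t, ht⟩ := (linearCoyoneda A (ModuleCat.{u} A)).map_surjective (e.inv ≫ η ≫ e'.hom)
  have hη : ∀ (M : ModuleCat.{u} A) (f : Q ⟶ M),
      (e'.hom.app M).hom ((η.app M).hom ((e.inv.app M).hom f)) = t.unop ≫ f := by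
    intro M f
    have := congrArg (fun τ => (τ.app M).hom f) ht
    exact this.symm
  refine ⟨cokernel t.unop, (linearCoyoneda A (ModuleCat.{u} A)).map (cokernel.π t.unop).op ≫ e.inv,
    ?_, ?_, ?_⟩
  · have : Function.Surjective (cokernel.π t.unop).hom :=
      (ModuleCat.epi_iff_surjective _).1 inferInstance
    exact Module.Finite.of_surjective _ this
  · intro M x y h
    have h1 : (cokernel.π t.unop ≫ x : Q ⟶ M) = cokernel.π t.unop ≫ y := by
      have h2 : Function.Injective (e.inv.app M).hom :=
        (ModuleCat.mono_iff_injective _).1 inferInstance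
      exact h2 h
    exact (cancel_epi (cokernel.π t.unop)).1 h1
  · intro M x
    obtain ⟨f, rfl⟩ : ∃ f : Q ⟶ M, (e.inv.app M).hom f = x :=
      ⟨(e.hom.app M).hom x, congr($(e.hom_inv_id_app M).hom x)⟩
    have h2 : Function.Injective (e'.hom.app M).hom :=
      (ModuleCat.mono_iff_injective _).1 inferInstance
    constructor
    · intro h
      have h3 : t.unop ≫ f = 0 := by
        rw [← hη M f, h, map_zero]
        rfl
      refine ⟨cokernel.desc t.unop f h3, ?_⟩
      change (e.inv.app M).hom (cokernel.π t.unop ≫ cokernel.desc t.unop f h3) = _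
      rw [cokernel.π_desc]
    · rintro ⟨y, hy⟩
      have h3 : (cokernel.π t.unop ≫ y : Q ⟶ M) = f := by
        have h4 : Function.Injective (e.inv.app M).hom :=
          (ModuleCat.mono_iff_injective _).1 inferInstance
        exact h4 hy
      have h5 : t.unop ≫ f = 0 := by
        rw [← h3]
        exact (cokernel.condition_assoc t.unop (Z := M) y).trans zero_comp
      apply h2
      rw [hη, h5, map_zero]
      rfl

open AlgebraicGeometry CategoryTheory Opposite in
/-- The global form over an affine base. Let A be a Noetherian ring, X a proper A-scheme with structure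
morphism f, and F, F' coherent O_X-modules flat over Spec A. Let η be a natural transformation from
the functor M ↦ Γ(X, f^*(M~) ⊗ F) to the functor M ↦ Γ(X, f^*(M~) ⊗ F') of the A-module M (the
published statement takes η induced by a homomorphism F → F'; this row allows any natural
transformation, which is all the argument uses). Then the kernel functor M ↦ Ker(η_M) is
corepresentable by a finitely generated A-module R: there are such an R and a natural transformation
ι : Hom_A(R, −) → Γ(X, f^*(−~) ⊗ F) with injective components whose image at every M is exactly the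
kernel of η_M. (R is then unique up to unique isomorphism.) -/
theorem result (A : Type u) [CommRing A]
    [IsNoetherianRing A] (X : Scheme.{u}) [X.Over (Spec (CommRingCat.of A))]
    [IsProper (X ↘ Spec (CommRingCat.of A))] (F F' : X.Modules) (hF : Coh.IsCoh F) (hF' : Coh.IsCoh F')
    (hfl : FlatMod.IsFlatOver (X ↘ Spec (CommRingCat.of A)) F)
    (hfl' : FlatMod.IsFlatOver (X ↘ Spec (CommRingCat.of A)) F')
    (η : CohIII.tensorAFunctor A F ⋙ CohIII.globalSectionsA A ⟶ CohIII.tensorAFunctor A F' ⋙ CohIII.globalSectionsA A) :
    ∃ (R : ModuleCat.{u} A) (ι : (linearCoyoneda A (ModuleCat.{u} A)).obj (op R) ⟶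
        CohIII.tensorAFunctor A F ⋙ CohIII.globalSectionsA A),
      Module.Finite A R ∧ (∀ M : ModuleCat.{u} A, Function.Injective (ι.app M).hom) ∧
        ∀ (M : ModuleCat.{u} A) (x : (CohIII.tensorAFunctor A F ⋙ CohIII.globalSectionsA A).obj M),
          (η.app M).hom x = 0 ↔ ∃ y, (ι.app M).hom y = x := by
  obtain ⟨Q, hQ, ⟨e⟩⟩ := S2436.result A X F hF hfl
  obtain ⟨Q', -, ⟨e'⟩⟩ := S2436.result A X F' hF' hfl'
  exact ker_corep Q Q' e e' η

end Groth.Agent.S4498
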