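import Groth.Statements.S4500
import Groth.Agent.Coherent.K45.HomCorep

set_option autoImplicit false
universe u
attribute [local instance] HasDerivedCategory.standard
open Coherent

namespace Groth.Agent.S4500

open AlgebraicGeometry CategoryTheory CategoryTheory.Limits Opposite in
/-- The global form over an affine base. Let A be a Noetherian ring, X a proper A-scheme with structure
morphism f, F a coherent O_X-module flat over Spec A, and G an O_X-module admitting a presentation
E₁ → E₀ → G → 0 with E₀, E₁ finite locally free O_X-modules. Then there are a finitely generated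
A-module N and an isomorphism of functors of the A-module M between Hom_{O_X}(G, f^*(M~) ⊗ F) and
Hom_A(N, M) (as abelian-group-valued functors). (N is then unique up to unique isomorphism.) -/
theorem result (A : Type u) [CommRing A] [IsNoetherianRing A]
    (X : Scheme.{u}) [X.Over (Spec (CommRingCat.of A))] [IsProper (X ↘ Spec (CommRingCat.of A))]
    (F : X.Modules) (hF : Coh.IsCoh F) (hfl : FlatMod.IsFlatOver (X ↘ Spec (CommRingCat.of A)) F)
    (G E₀ E₁ : X.Modules) (h₀ : FlatMod.IsFinLocFree E₀) (h₁ : FlatMod.IsFinLocFree E₁)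
    (v : E₁ ⟶ E₀) (π : E₀ ⟶ G) [Epi π] (w : v ≫ π = 0) (hex : (ShortComplex.mk v π w).Exact) :
    ∃ N : ModuleCat.{u} A, Module.Finite A N ∧
      Nonempty (CohIII.tensorAFunctor A F ⋙ preadditiveCoyoneda.obj (op G) ≅
        (linearCoyoneda A (ModuleCat.{u} A)).obj (op N) ⋙ forget₂ (ModuleCat.{u} A) AddCommGrpCat.{u}) := by
  obtain ⟨Q₀, hQ₀, ⟨e₀⟩⟩ := K45.HomCorep.exists_corep F hF hfl E₀ h₀
  obtain ⟨Q₁, hQ₁, ⟨e₁⟩⟩ := K45.HomCorep.exists_corep F hF hfl E₁ h₁
  let T : ModuleCat.{u} A ⥤ X.Modules := CohIII.tensorAFunctor A F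
  let vs : T ⋙ preadditiveCoyoneda.obj (op E₀) ⟶ T ⋙ preadditiveCoyoneda.obj (op E₁) :=
    Functor.whiskerLeft T (preadditiveCoyoneda.map v.op)
  obtain ⟨t, ht⟩ := K45.HomCorep.exists_map Q₀ Q₁ (e₀.inv ≫ vs ≫ e₁.hom)
  have hinj₁ : ∀ M, Function.Injective (e₁.hom.app M).hom := fun M =>
    ((ConcreteCategory.isIso_iff_bijective (e₁.hom.app M)).1 inferInstance).1
  have hinj₀ : ∀ M, Function.Injective (e₀.inv.app M).hom := fun M =>
    ((ConcreteCategory.isIso_iff_bijective (e₀.inv.app M)).1 inferInstance).1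
  have key : ∀ (M : ModuleCat.{u} A) (f : Q₀ ⟶ M),
      v ≫ (show E₀ ⟶ T.obj M from (e₀.inv.app M).hom f) = 0 ↔ t ≫ f = 0 := by
    intro M f
    have h2 : (e₁.hom.app M).hom (v ≫ (show E₀ ⟶ T.obj M from (e₀.inv.app M).hom f)) = t ≫ f :=
      ht M f
    rw [← h2]
    constructor
    · intro h
      rw [h]
      exact map_zero (e₁.hom.app M).hom
    · intro h
      exact hinj₁ M (h.trans (map_zero (e₁.hom.app M).hom).symm)
  refine ⟨cokernel t, ?_, ?_⟩
  · have : Function.Surjective (cokernel.π t).hom :=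
      (ModuleCat.epi_iff_surjective _).1 inferInstance
    exact Module.Finite.of_surjective _ this
  · refine K45.HomCorep.nonempty_iso_of_range
      (Functor.whiskerLeft T (preadditiveCoyoneda.map π.op))
      (Functor.whiskerRight ((linearCoyoneda A (ModuleCat.{u} A)).map (cokernel.π t).op)
        (forget₂ (ModuleCat.{u} A) AddCommGrpCat.{u}) ≫ e₀.inv) ?_ ?_ ?_
    · intro M a b hab
      have : π ≫ (show G ⟶ T.obj M from a) = π ≫ (show G ⟶ T.obj M from b) := hab
      exact (cancel_epi π).1 this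
    · intro M a b hab
      have h1 : (cokernel.π t ≫ (show cokernel t ⟶ M from a) : Q₀ ⟶ M) =
          cokernel.π t ≫ (show cokernel t ⟶ M from b) := hinj₀ M hab
      exact (cancel_epi (cokernel.π t)).1 h1
    · intro M x
      obtain ⟨f, rfl⟩ : ∃ f : Q₀ ⟶ M, (e₀.inv.app M).hom f = x :=
        ((ConcreteCategory.isIso_iff_bijective (e₀.inv.app M)).1 inferInstance).2 x
      constructor
      · rintro ⟨y, hy⟩
        have hy' : π ≫ (show G ⟶ T.obj M from y) =
          (show E₀ ⟶ T.obj M from (e₀.inv.app M).hom f) := hy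
        have h3 : t ≫ f = 0 := by
          rw [← key, ← hy', ← Category.assoc, w, zero_comp]
        refine ⟨cokernel.desc t f h3, ?_⟩
        change (e₀.inv.app M).hom (cokernel.π t ≫ cokernel.desc t f h3) = _
        rw [cokernel.π_desc]
      · rintro ⟨y, hy⟩
        have h3 : (cokernel.π t ≫ (show cokernel t ⟶ M from y) : Q₀ ⟶ M) = f := hinj₀ M hy
        have h4 : t ≫ f = 0 := by
          rw [← h3, ← Category.assoc, cokernel.condition, zero_comp]
        rw [← key] at h4
        exact ⟨hex.desc (show E₀ ⟶ T.obj M from (e₀.inv.app M).hom f) h4, hex.g_desc _ h4⟩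

end Groth.Agent.S4500
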