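import Groth.Statements.S4501
import Groth.Agent.S2418

set_option autoImplicit false
universe u
open FlatCx

namespace Groth.Agent.S4501

open CategoryTheory CategoryTheory.Limits in
/-- The case of finitely generated flat terms. Let A be a Noetherian domain, P a chain complex of
finitely generated flat A-modules, and for a prime y of A let P_y be the base change of P to the
local ring A_y. Then the set U of points y of Spec A such that the functor N ↦ H_p(P_y ⊗_{A_y} N) on
A_y-modules takes injections to injections and surjections to surjections is open and nonempty (it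
contains the generic point). -/
theorem result {A : Type u} [CommRing A] [IsNoetherianRing A] [IsDomain A]
    (P : ChainComplex (ModuleCat.{u} A) ℤ) (hP : ∀ i, Module.Finite A (P.X i) ∧ Module.Flat A (P.X i))
    (p : ℤ) :
    IsOpen {y : PrimeSpectrum A |
        (CohIII.TFun (CohIII.bcCx (algebraMap A (Localization.AtPrime y.asIdeal)) P) p).PreservesMonomorphisms ∧
          (CohIII.TFun (CohIII.bcCx (algebraMap A (Localization.AtPrime y.asIdeal)) P) p).PreservesEpimorphisms} ∧
      {y : PrimeSpectrum A |
        (CohIII.TFun (CohIII.bcCx (algebraMap A (Localization.AtPrime y.asIdeal)) P) p).PreservesMonomorphisms ∧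
          (CohIII.TFun (CohIII.bcCx (algebraMap A (Localization.AtPrime y.asIdeal)) P) p).PreservesEpimorphisms}.Nonempty := by
  have hflat : ∀ (y : PrimeSpectrum A) (i : ℤ), Module.Flat (Localization.AtPrime y.asIdeal)
      ((CohIII.bcCx (algebraMap A (Localization.AtPrime y.asIdeal)) P).X i) := fun y i => by
    have := (hP i).2
    exact Groth.Agent.Ega3A.BcBasic.flat_X_bc _ P i
  have h1 := Groth.Agent.S2418.result P hP p
  have h2 := Groth.Agent.S2418.result P hP (p + 1)
  have heq : {y : PrimeSpectrum A |
        (CohIII.TFun (CohIII.bcCx (algebraMap A (Localization.AtPrime y.asIdeal)) P) p).PreservesMonomorphisms ∧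
          (CohIII.TFun (CohIII.bcCx (algebraMap A (Localization.AtPrime y.asIdeal)) P) p).PreservesEpimorphisms} =
      {y : PrimeSpectrum A | (CohIII.TFun (CohIII.bcCx (algebraMap A (Localization.AtPrime y.asIdeal)) P)
          (p + 1)).PreservesEpimorphisms} ∩
      {y : PrimeSpectrum A | (CohIII.TFun (CohIII.bcCx (algebraMap A (Localization.AtPrime y.asIdeal)) P)
          p).PreservesEpimorphisms} := by
    ext y
    simp only [Set.mem_inter_iff, Set.mem_setOf_eq]
    rw [Ega3A.TFunBasic.chain_preservesEpi_iff_preservesMono _ (hflat y) (p + 1) p rfl]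
  refine ⟨?_, ?_⟩
  · rw [heq]
    exact h2.inter h1
  · refine ⟨⟨⊥, Ideal.isPrime_bot⟩, ?_⟩
    letI : Field (Localization.AtPrime (⟨⊥, Ideal.isPrime_bot⟩ : PrimeSpectrum A).asIdeal) := by
      have : IsFractionRing A (Localization.AtPrime (⟨⊥, Ideal.isPrime_bot⟩ : PrimeSpectrum A).asIdeal) := by
        have h : (nonZeroDivisors A) = (⊥ : Ideal A).primeCompl := by
          ext x
          simp [Ideal.primeCompl]
        unfold IsFractionRing
        rw [h]
        infer_instance
      exact IsFractionRing.toField A
    constructor
    · rw [Ega3A.TFunBasic.chain_preservesMono_iff_flat _ (hflat _)]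
      infer_instance
    · rw [Ega3A.TFunBasic.chain_preservesEpi_iff_flat _ (hflat _) p (p - 1) (by omega)]
      infer_instance

end Groth.Agent.S4501
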