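import Groth.Statements.S4506
import Groth.Agent.Ega3B.Master
import Groth.Agent.Ega3B.ExchangeAlg
import Groth.Agent.Coherent.K45.LocalCrit
import Groth.Agent.Coherent.K45.Transport

set_option autoImplicit false
universe u
attribute [local instance] HasDerivedCategory.standard
open Coherent

namespace Groth.Agent.S4506

open AlgebraicGeometry CategoryTheory in
/-- (a) ⇔ (c) (local criterion for the exchange property), for a complex reduced to one sheaf over a
local base. Let A be a Noetherian local ring with maximal ideal m and residue field k, X a proper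
A-scheme with structure morphism f, F a coherent O_X-module flat over Spec A, and T^p(M) = H^p(X,
f^*(M~) ⊗ F). Then T^p takes surjections to surjections if and only if, for every n, the map
T^p(A/m^(n+1)) → T^p(A/m) induced by the projection A/m^(n+1) → A/m = k is surjective. -/
theorem result (A : Type u) [CommRing A]
    [IsNoetherianRing A] [IsLocalRing A] (X : Scheme.{u}) [X.Over (Spec (CommRingCat.of A))]
    [IsProper (X ↘ Spec (CommRingCat.of A))] (F : X.Modules) (hF : Coh.IsCoh F)
    (hfl : FlatMod.IsFlatOver (X ↘ Spec (CommRingCat.of A)) F) (p : ℕ) :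
    (CohIII.tensorAFunctor A F ⋙ CohIII.HAb X p).PreservesEpimorphisms ↔
      ∀ n : ℕ, Function.Surjective ((CohIII.tensorAFunctor A F ⋙ CohIII.HAb X p).map (ModuleCat.ofHom
        (Ideal.Quotient.factorₐ A (Ideal.pow_le_self (I := IsLocalRing.maximalIdeal A)
          (Nat.succ_ne_zero n))).toLinearMap :
        ModuleCat.of A (A ⧸ IsLocalRing.maximalIdeal A ^ (n + 1)) ⟶
          ModuleCat.of A (A ⧸ IsLocalRing.maximalIdeal A))).hom := by
  obtain ⟨P, hP, -, hT⟩ := Groth.Agent.Ega3B.Master.exists_complex X F hF hfl
  obtain ⟨e⟩ := hT p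
  have h1 : (CohIII.tensorAFunctor A F ⋙ CohIII.HAb X p).PreservesEpimorphisms ↔
      (CohIII.TFun P (-(p : ℤ))).PreservesEpimorphisms := by
    rw [← Groth.Agent.Ega3B.ExchangeAlg.preservesEpi_comp_forget₂_iff]
    exact ⟨Groth.Agent.Ega3B.ExchangeAlg.preservesEpi_of_iso e,
      Groth.Agent.Ega3B.ExchangeAlg.preservesEpi_of_iso e.symm⟩
  rw [h1, K45.LocalCrit.preservesEpi_iff_forall_surjective P hP
    (p := -(p : ℤ)) (q := -(p : ℤ) - 1) (by simp)]
  exact forall_congr' fun n => (K45.Transport.surjective_map_iff e _).symm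

end Groth.Agent.S4506
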