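import Groth.Statements.S4510
import Groth.Agent.Coherent.K45.EtSpec
import Groth.Agent.Ega3B.GlobSec
import Groth.Agent.Ega3B.ExchangeAlg
import Groth.Agent.S2436

set_option autoImplicit false
universe u
attribute [local instance] HasDerivedCategory.standard
open Coherent

namespace Groth.Agent.S4510

open CategoryTheory CategoryTheory.Limits Opposite in
theorem preservesMono_coyoneda {A : Type u} [CommRing A] (Q : ModuleCat.{u} A) :
    ((linearCoyoneda A (ModuleCat.{u} A)).obj (op Q)).PreservesMonomorphisms where
  preserves {M N} f hf := by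
    rw [ModuleCat.mono_iff_injective]
    intro a b hab
    have : (show Q ⟶ M from a) ≫ f = (show Q ⟶ M from b) ≫ f := hab
    exact (cancel_mono f).mp this

open CategoryTheory CategoryTheory.Limits Opposite in
theorem preservesEpi_coyoneda {A : Type u} [CommRing A] (Q : ModuleCat.{u} A)
    [Module.Projective A Q] :
    ((linearCoyoneda A (ModuleCat.{u} A)).obj (op Q)).PreservesEpimorphisms where
  preserves {M N} f hf := by
    rw [ModuleCat.epi_iff_surjective] at hf ⊢
    intro b
    obtain ⟨a, ha⟩ := Module.projective_lifting_property f.hom (show Q ⟶ N from b).hom hf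
    exact ⟨ModuleCat.ofHom a, ModuleCat.hom_ext ha⟩

open AlgebraicGeometry CategoryTheory CategoryTheory.Limits in
/-- Over a local base (so that the point y is the closed point and cohomological flatness at y is
exactness of T^A_0). Let A be a Noetherian local ring with maximal ideal m, X a proper and flat
A-scheme with structure morphism f, y the closed point of Spec A (the point whose prime ideal is m),
and suppose that the ring of global functions Γ(X_y, O_{X_y}) of the closed fibre is an étale
k(y)-algebra (a finite product of finite separable extensions of k(y)). Then O_X is cohomologically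
flat over Spec A in degree 0: the functor M ↦ H^0(X, f^*(M~) ⊗ O_X) of the A-module M takes
injections to injections and surjections to surjections. -/
theorem result (A : Type u) [CommRing A]
    [IsNoetherianRing A] [IsLocalRing A] (X : Scheme.{u}) [X.Over (Spec (CommRingCat.of A))]
    [IsProper (X ↘ Spec (CommRingCat.of A))] [Flat (X ↘ Spec (CommRingCat.of A))]
    (y : ↥(Spec (CommRingCat.of A))) (hy : y.asIdeal = IsLocalRing.maximalIdeal A)
    (het : Algebra.Etale ((Spec (CommRingCat.of A)).residueField y)
      Γ((X ↘ Spec (CommRingCat.of A)).fiber y, ⊤)) :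
    (CohIII.tensorAFunctor A (Coh.structureModule X) ⋙ CohIII.HAb X 0).PreservesMonomorphisms ∧
      (CohIII.tensorAFunctor A (Coh.structureModule X) ⋙ CohIII.HAb X 0).PreservesEpimorphisms := by
  obtain ⟨Q, hQ, ⟨e⟩⟩ := S2436.result A X (Coh.structureModule X)
    (Fdesc.StructMod.isCoh_structureModule X)
    (Ega3B.EtAffine.isFlatOver_structureModule (X ↘ Spec (CommRingCat.of A)))
  obtain ⟨θ, hθ⟩ := Ega3B.EtTheta.exists_theta (A := A) (Ega3B.EtAffine.cov X)
    (iSup_affineOpens_eq_top X)
    (fun i => Ega3B.EtAffine.preservesColimits_Phi i.2)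
    (fun i j => Ega3B.EtAffine.preservesColimits_Phi
      (Ega3B.EtAffine.isAffineOpen_inf (X ↘ Spec (CommRingCat.of A)) i.2 j.2)) Q e
  obtain ⟨q, σ, H, hσ⟩ := K45.EtSpec.exists_square (X ↘ Spec (CommRingCat.of A)) y
  obtain ⟨f, hf, hfree⟩ := Ega3B.EtExchange.exists_free_away_of_separable _ _ θ hθ y.asIdeal
    (Ega3B.EqzSections.separable_of_etale H (Ega3B.EtAffine.cov X) (fun i => i.2)
      (fun i j => Ega3B.EtAffine.isAffineOpen_inf (X ↘ Spec (CommRingCat.of A)) i.2 j.2)
      (iSup_affineOpens_eq_top X) (K45.EtSpec.etale_transfer _ y q σ hσ het))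
  have hfu : IsUnit f := by
    rw [hy, IsLocalRing.mem_maximalIdeal, mem_nonunits_iff, not_not] at hf
    exact hf
  have hfr : Module.Free A Q := K45.EtSpec.free_of_free_away f hfu Q hfree
  have e₂ : CohIII.tensorAFunctor A (Coh.structureModule X) ⋙ CohIII.HAb X 0 ≅
      (linearCoyoneda A (ModuleCat.{u} A)).obj (Opposite.op Q) ⋙
        forget₂ (ModuleCat.{u} A) AddCommGrpCat.{u} :=
    Functor.isoWhiskerLeft (CohIII.tensorAFunctor A (Coh.structureModule X))
      Ega3B.GlobSec.globIso.symm ≪≫ (Functor.associator _ _ _).symm ≪≫ Functor.isoWhiskerRight e _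
  constructor
  · refine Ega3B.ExchangeAlg.preservesMono_of_iso e₂.symm ?_
    rw [Ega3B.ExchangeAlg.preservesMono_comp_forget₂_iff]
    exact preservesMono_coyoneda Q
  · refine Ega3B.ExchangeAlg.preservesEpi_of_iso e₂.symm ?_
    rw [Ega3B.ExchangeAlg.preservesEpi_comp_forget₂_iff]
    exact preservesEpi_coyoneda Q

end Groth.Agent.S4510
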