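import Groth.Statements.S4511
import Groth.Agent.Ega41.K98.MinCohen
import Mathlib.Tactic.TFAE

set_option autoImplicit false
universe u
open EGA41

namespace Groth.Agent.S4511

open IsLocalRing in
/-- Let A be a complete Noetherian local ring whose residue field has characteristic p (p = 0 allowed).
The following are equivalent: (a) A contains a field, i.e. there is a ring homomorphism from a field
into A; (b) p·1 = 0 in A; (c) A is isomorphic to a quotient of a power series ring K[[T_1, …, T_n]]
over a field K. Moreover, when they hold, the surjection in (c) may be chosen with kernel contained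
in the square of the maximal ideal of K[[T_1, …, T_n]]. -/
theorem result (A : Type u) [CommRing A] [IsLocalRing A] [IsNoetherianRing A]
    [IsAdicComplete (maximalIdeal A) A] (p : ℕ) [CharP (ResidueField A) p] :
    [∃ (K : Type u) (_ : Field K), Nonempty (K →+* A),
     (p : A) = 0,
     ∃ (K : Type u) (_ : Field K) (n : ℕ) (f : MvPowerSeries (Fin n) K →+* A), Function.Surjective f].TFAE ∧
    ((p : A) = 0 → ∃ (K : Type u) (_ : Field K) (n : ℕ) (f : MvPowerSeries (Fin n) K →+* A),
      Function.Surjective f ∧ RingHom.ker f ≤ maximalIdeal (MvPowerSeries (Fin n) K) ^ 2) := by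
  have hbc : (p : A) = 0 → ∃ (K : Type u) (_ : Field K) (n : ℕ) (f : MvPowerSeries (Fin n) K →+* A),
      Function.Surjective f ∧ RingHom.ker f ≤ maximalIdeal (MvPowerSeries (Fin n) K) ^ 2 := by
    intro h
    obtain ⟨σ, hσ⟩ := Groth.Agent.Ega41.K98.MinCohen.exists_section A p h
    obtain ⟨n, f, hf, -, -, hker⟩ := Groth.Agent.Ega41.K98.MinCohen.exists_presentation A σ hσ
    exact ⟨ResidueField A, inferInstance, n, f, hf, hker⟩
  refine ⟨?_, hbc⟩
  tfae_have 1 → 2 := by
    rintro ⟨K, _, ⟨i⟩⟩
    have hinj : Function.Injective ((residue A).comp i) := RingHom.injective _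
    have h1 : (p : K) = 0 := by
      apply hinj
      rw [map_natCast, map_zero, CharP.cast_eq_zero]
    rw [← map_natCast i, h1, map_zero]
  tfae_have 2 → 3 := by
    intro h
    obtain ⟨K, i, n, f, hf, -⟩ := hbc h
    exact ⟨K, i, n, f, hf⟩
  tfae_have 3 → 1 := by
    rintro ⟨K, _, n, f, -⟩
    exact ⟨K, inferInstance, ⟨f.comp MvPowerSeries.C⟩⟩
  tfae_finish
end Groth.Agent.S4511
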