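import Groth.Statements.S4523
import Groth.Agent.Ega41.SepExt
import Mathlib.LinearAlgebra.Dual.Lemmas

set_option autoImplicit false
universe u
open EGA41

namespace Groth.Agent.S4523

/-- Let k ⊆ K be fields. Then K is a separable extension of k if and only if the imperfection module
Υ_{K/k} vanishes, i.e. the canonical map Ω_{k/ℤ} ⊗_k K → Ω_{K/ℤ} is injective, and if and only if
every derivation of k into K extends to a derivation of K into itself. (No hypothesis on the
characteristic.) -/
theorem result {k K : Type u} [Field k] [Field K] [Algebra k K] :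
    (Algebra.IsGeometricallyReduced k K ↔ EGA41.imperfection ℤ k K = ⊥) ∧
    (Algebra.IsGeometricallyReduced k K ↔
      ∀ D : Derivation ℤ k K, ∃ D' : Derivation ℤ K K, ∀ a : k, D' (algebraMap k K a) = D a) := by
  -- injectivity of the base change map
  have h1 : Algebra.IsGeometricallyReduced k K ↔
      Function.Injective (KaehlerDifferential.mapBaseChange ℤ k K) := by
    constructor
    · intro h
      have := (Groth.Agent.Ega41.SepExt.formallySmooth_iff_isGeometricallyReduced k K).mpr h
      exact Groth.Agent.Ega41.SepExt.injective_mapBaseChange_of_formallySmooth k K ℤ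
    · intro h
      obtain ⟨q, hq⟩ := CharP.exists k
      rcases CharP.char_is_prime_or_zero k q with hp | rfl
      · have : Fact q.Prime := ⟨hp⟩
        exact (Groth.Agent.Ega41.SepExt.isGeometricallyReduced_iff_injective_mapBaseChange k K q).mpr h
      · have : CharZero k := CharP.charP_to_charZero k
        exact Groth.Agent.Ega41.SepExt.isGeometricallyReduced_of_perfectField k K
  have h2 : EGA41.imperfection ℤ k K = ⊥ ↔
      Function.Injective (KaehlerDifferential.mapBaseChange ℤ k K) := LinearMap.ker_eq_bot
  refine ⟨h1.trans h2.symm, h1.trans ?_⟩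
  constructor
  · intro h D
    obtain ⟨ρ, hρ⟩ := (KaehlerDifferential.mapBaseChange ℤ k K).exists_leftInverse_of_injective
      (LinearMap.ker_eq_bot.mpr h)
    let l : TensorProduct k K (Ω[k⁄ℤ]) →ₗ[K] K := (TensorProduct.isBaseChange k (Ω[k⁄ℤ]) K).lift D.liftKaehlerDifferential
    refine ⟨(l ∘ₗ ρ).compDer (KaehlerDifferential.D ℤ K), fun a => ?_⟩
    have h3 : ρ (KaehlerDifferential.D ℤ K (algebraMap k K a)) =
        TensorProduct.tmul k (1 : K) (KaehlerDifferential.D ℤ k a) := by
      have h4 := LinearMap.congr_fun hρ (TensorProduct.tmul k (1 : K) (KaehlerDifferential.D ℤ k a))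
      rw [LinearMap.comp_apply, KaehlerDifferential.mapBaseChange_tmul, one_smul,
        KaehlerDifferential.map_D] at h4
      exact h4
    change l (ρ (KaehlerDifferential.D ℤ K (algebraMap k K a))) = D a
    rw [h3]
    refine ((TensorProduct.isBaseChange k (Ω[k⁄ℤ]) K).lift_eq _ _).trans ?_
    exact D.liftKaehlerDifferential_comp_D a
  · intro h
    rw [← LinearMap.ker_eq_bot, eq_bot_iff]
    intro z hz
    rw [Submodule.mem_bot]
    rw [LinearMap.mem_ker] at hz
    rw [← Module.forall_dual_apply_eq_zero_iff K]
    intro l
    let D : Derivation ℤ k K :=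
      ((l.restrictScalars k) ∘ₗ (TensorProduct.mk k K (Ω[k⁄ℤ]) 1)).compDer (KaehlerDifferential.D ℤ k)
    obtain ⟨D', hD'⟩ := h D
    have h3 : D'.liftKaehlerDifferential ∘ₗ KaehlerDifferential.mapBaseChange ℤ k K = l := by
      apply LinearMap.ext
      intro y
      induction y using TensorProduct.induction_on with
      | zero => simp
      | add x y hx hy => rw [map_add, hx, hy, map_add]
      | tmul r s =>
        have h4 : s ∈ Submodule.span k (Set.range (KaehlerDifferential.D ℤ k)) := by
          rw [KaehlerDifferential.span_range_derivation]
          trivial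
        rw [LinearMap.comp_apply, KaehlerDifferential.mapBaseChange_tmul, map_smul]
        have h5 : TensorProduct.tmul k r s = r • TensorProduct.tmul k (1 : K) s := by
          rw [TensorProduct.smul_tmul', smul_eq_mul, mul_one]
        rw [h5, map_smul]
        clear h5
        congr 1
        induction h4 using Submodule.span_induction with
        | zero => simp
        | add x y _ _ hx hy => rw [map_add, map_add, hx, hy, TensorProduct.tmul_add, map_add]
        | smul c x _ hx =>
          have h6 : KaehlerDifferential.map ℤ ℤ k K (c • x) =
              (algebraMap k K c) • KaehlerDifferential.map ℤ ℤ k K x := by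
            rw [map_smul, algebraMap_smul]
          have h7 : TensorProduct.tmul k (1 : K) (c • x) =
              (algebraMap k K c) • TensorProduct.tmul k (1 : K) x := by
            rw [TensorProduct.tmul_smul, algebraMap_smul]
          rw [h6, h7, map_smul, map_smul, hx]
        | mem x hx =>
          obtain ⟨a, rfl⟩ := hx
          rw [KaehlerDifferential.map_D, Derivation.liftKaehlerDifferential_comp_D, hD']
          rfl
    rw [← h3, LinearMap.comp_apply, hz, map_zero]
end Groth.Agent.S4523
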