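import Groth.Statements.S4513
import Groth.Agent.S4523
import Groth.Agent.Ega41.FieldFS
import Groth.Agent.Ega41.ImpKaehler

set_option autoImplicit false
universe u
open EGA41

namespace Groth.Agent.S4513

open IsLocalRing in
/-- Let A be a Noetherian local ring and k a field mapping to A such that A is formally smooth over k
for the adic topology of its maximal ideal (k discrete). Then every field K with k → K → A
(compatible ring maps) is a separable extension of k, i.e. K is geometrically reduced over k. -/
theorem result {k A K : Type u} [Field k] [CommRing A]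
    [IsLocalRing A] [IsNoetherianRing A] [Algebra k A] (h : CAlgX.IsAdicFormallySmooth k A (maximalIdeal A))
    [Field K] [Algebra k K] [Algebra K A] [IsScalarTower k K A] :
    Algebra.IsGeometricallyReduced k K := by
  rw [(Groth.Agent.S4523.result (k := k) (K := K)).1, EGA41.imperfection, LinearMap.ker_eq_bot]
  have hinj := Groth.Agent.Ega41.FieldFS.injective_of_isAdicFormallySmooth h
  have tow : IsScalarTower k A (ResidueField A) := inferInstance
  let ι : K →ₐ[k] ResidueField A := IsScalarTower.toAlgHom k K (ResidueField A)
  let c := Groth.Agent.Ega41.ImpKaehler.cancel (k := k) (K := ResidueField A) (A := A)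
  let w : TensorProduct k K (Ω[k⁄ℤ]) →ₗ[k] TensorProduct k (ResidueField A) (Ω[k⁄ℤ]) :=
    ι.toLinearMap.rTensor (Ω[k⁄ℤ])
  have hw : Function.Injective w :=
    Module.Flat.rTensor_preserves_injective_linearMap _ ι.injective
  have hkey : ∀ z, (KaehlerDifferential.mapBaseChange ℤ k A).lTensor (ResidueField A) (c.symm (w z)) =
      TensorProduct.tmul A (1 : ResidueField A)
        (KaehlerDifferential.map ℤ ℤ K A (KaehlerDifferential.mapBaseChange ℤ k K z)) := by
    intro z
    induction z using TensorProduct.induction_on with
    | zero => simp
    | add x y hx hy => simp only [map_add, hx, hy, TensorProduct.tmul_add]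
    | tmul a ω =>
      have h1 : c.symm (w (TensorProduct.tmul k a ω)) =
          TensorProduct.tmul A (ι a) (TensorProduct.tmul k (1 : A) ω) := by
        rw [LinearEquiv.symm_apply_eq, Groth.Agent.Ega41.ImpKaehler.cancel_tmul, one_smul]
        rfl
      rw [h1, LinearMap.lTensor_tmul, KaehlerDifferential.mapBaseChange_tmul,
        KaehlerDifferential.mapBaseChange_tmul, one_smul, map_smul]
      have h2 : KaehlerDifferential.map ℤ ℤ K A (KaehlerDifferential.map ℤ ℤ k K ω) =
          KaehlerDifferential.map ℤ ℤ k A ω := by
        have h : (KaehlerDifferential.map ℤ ℤ K A).restrictScalars k ∘ₗ (KaehlerDifferential.map ℤ ℤ k K) =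
            KaehlerDifferential.map ℤ ℤ k A := by
          apply Derivation.liftKaehlerDifferential_unique
          ext x
          simp [← IsScalarTower.algebraMap_apply]
        exact DFunLike.congr_fun h ω
      rw [h2]
      have h3 : a • KaehlerDifferential.map ℤ ℤ k A ω = (algebraMap K A a) • KaehlerDifferential.map ℤ ℤ k A ω := by
        rw [algebraMap_smul]
      rw [h3, TensorProduct.tmul_smul, TensorProduct.smul_tmul']
      congr 1
      rw [Algebra.smul_def, mul_one]
      rfl
  rw [← LinearMap.ker_eq_bot, eq_bot_iff]
  intro z hz
  rw [LinearMap.mem_ker] at hz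
  rw [Submodule.mem_bot]
  apply hw
  apply c.symm.injective
  apply hinj
  rw [hkey, hz, map_zero, map_zero, map_zero, map_zero, TensorProduct.tmul_zero]
end Groth.Agent.S4513
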