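import Groth.Statements.S4515
import Mathlib.RingTheory.AdicCompletion.Functoriality
import Mathlib.RingTheory.Flat.EquationalCriterion

set_option autoImplicit false
universe u
open EGA41

namespace Groth.Agent.S4515

/-- Let A be a ring, J an ideal of A, and M, N two A-modules which are Hausdorff for the J-adic
topology; suppose moreover that N is J-adically complete and M is flat. Let u : N → M be A-linear.
If the induced map N/JN → M/JM is bijective (surjectivity and injectivity written out below), then u
is bijective. -/
theorem result {A : Type u} [CommRing A] (J : Ideal A)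
    {M N : Type u} [AddCommGroup M] [Module A M] [AddCommGroup N] [Module A N]
    [IsHausdorff J M] [IsAdicComplete J N] [Module.Flat A M] (u : N →ₗ[A] M)
    (hsurj : ∀ m : M, ∃ n : N, m - u n ∈ (J • ⊤ : Submodule A M))
    (hinj : ∀ n : N, u n ∈ (J • ⊤ : Submodule A M) → n ∈ (J • ⊤ : Submodule A N)) :
    Function.Bijective u := by
  have hs : Function.Surjective u := by
    apply surjective_of_mkQ_comp_surjective (I := J)
    intro y
    obtain ⟨m, rfl⟩ := Submodule.mkQ_surjective _ y
    obtain ⟨n, hn⟩ := hsurj m
    refine ⟨n, ?_⟩
    change (J • ⊤ : Submodule A M).mkQ (u n) = _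
    rw [Submodule.mkQ_apply, Submodule.mkQ_apply, eq_comm, Submodule.Quotient.eq]
    exact hn
  refine ⟨?_, hs⟩
  -- the kernel is contained in `J` times itself
  have hker : LinearMap.ker u ≤ J • LinearMap.ker u := by
    intro n hn
    rw [LinearMap.mem_ker] at hn
    have h1 : n ∈ (J • ⊤ : Submodule A N) := hinj n (by rw [hn]; exact zero_mem _)
    have htop : Submodule.span A (Set.range (id : N → N)) = ⊤ := by simp
    rw [← htop, Submodule.mem_ideal_smul_span_iff_exists_sum] at h1
    obtain ⟨a, ha, hsum⟩ := h1
    have hsum' : ∑ i : a.support, a i • (i : N) = n := by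
      rw [← hsum, Finsupp.sum]
      exact Finset.sum_coe_sort a.support (fun i => a i • i)
    have hrel : ∑ i : a.support, a i • u (i : N) = 0 := by
      rw [← hn, ← hsum', map_sum]
      simp only [map_smul]
    obtain ⟨k, b, m, hm, hb⟩ := Module.Flat.isTrivialRelation_of_sum_smul_eq_zero hrel
    choose n' hn' using fun j => hs (m j)
    have hm' : ∀ i : a.support, u (i : N) = ∑ j, b i j • m j := hm
    have hb' : ∀ j, ∑ i : a.support, a i * b i j = 0 := hb
    have hz : ∀ i : a.support, (i : N) - ∑ j, b i j • n' j ∈ LinearMap.ker u := by
      intro i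
      rw [LinearMap.mem_ker, map_sub, map_sum, hm' i, sub_eq_zero]
      simp only [map_smul, hn']
    have h2 : n = ∑ i : a.support, a i • ((i : N) - ∑ j, b i j • n' j) := by
      simp only [smul_sub, Finset.sum_sub_distrib, hsum', Finset.smul_sum, smul_smul]
      rw [Finset.sum_comm]
      simp only [← Finset.sum_smul, hb', zero_smul, Finset.sum_const_zero, sub_zero]
    rw [h2]
    exact sum_mem fun i _ => Submodule.smul_mem_smul (ha _) (hz i)
  have hker' : ∀ k : ℕ, LinearMap.ker u ≤ (J ^ k • ⊤ : Submodule A N) := by
    intro k
    have : LinearMap.ker u ≤ J ^ k • LinearMap.ker u := by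
      induction k with
      | zero => simp
      | succ k ih =>
        refine ih.trans ?_
        rw [pow_succ, Submodule.mul_smul]
        exact Submodule.smul_mono le_rfl hker
    exact this.trans (Submodule.smul_mono le_rfl le_top)
  rw [← LinearMap.ker_eq_bot, eq_bot_iff]
  intro n hn
  rw [Submodule.mem_bot]
  refine IsHausdorff.haus (I := J) inferInstance n fun k => ?_
  rw [SModEq.zero]
  exact hker' k hn
end Groth.Agent.S4515
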