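import Groth.Statements.S4516
import Groth.Agent.Ega41.PBasisGen

set_option autoImplicit false
universe u
open EGA41

namespace Groth.Agent.S4516

/-- Let p be a prime, B an A-algebra of characteristic p and A' an A-subalgebra of B contained in
A[B^p]. Then the canonical map between Ω_{B/A} and Ω_{B/A'} is bijective (every A-derivation of B
vanishes on A[B^p]). -/
theorem result (p : ℕ) [Fact p.Prime] {A B : Type u}
    [CommRing A] [CommRing B] [Algebra A B] [CharP B p] (A' : Subalgebra A B)
    (hA' : A' ≤ EGA41.pPowerSubalgebra p A B) :
    Function.Bijective (KaehlerDifferential.map A A' B B) := by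
  have hp0 : (p : B) = 0 := CharP.cast_eq_zero B p
  -- every `A`-derivation of `B` kills `A'`
  have hD : ∀ a : A', KaehlerDifferential.D A B (algebraMap A' B a) = 0 := fun a =>
    Groth.Agent.Ega41.PBasisGen.derivation_eq_zero (p := p) hp0 _ (hA' a.2)
  have h0 : KaehlerDifferential.mapBaseChange A A' B = 0 := by
    apply LinearMap.ext
    intro z
    rw [LinearMap.zero_apply]
    induction z using TensorProduct.induction_on with
    | zero => simp
    | add x y hx hy => rw [map_add, hx, hy, add_zero]
    | tmul r s =>
      have h1 : KaehlerDifferential.map A A A' B = 0 := by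
        have h2 : LinearMap.ker (KaehlerDifferential.map A A A' B) = ⊤ := by
          rw [eq_top_iff, ← KaehlerDifferential.span_range_derivation A A', Submodule.span_le]
          rintro _ ⟨a, rfl⟩
          rw [SetLike.mem_coe, LinearMap.mem_ker, KaehlerDifferential.map_D]
          exact hD a
        exact LinearMap.ker_eq_top.mp h2
      rw [KaehlerDifferential.mapBaseChange_tmul, h1, LinearMap.zero_apply, smul_zero]
  refine ⟨?_, KaehlerDifferential.map_surjective A A' B⟩
  rw [← LinearMap.ker_eq_bot, ← KaehlerDifferential.range_mapBaseChange, h0, LinearMap.range_zero]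
end Groth.Agent.S4516
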