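import Groth.Statements.S4519
import Groth.Agent.Ega41.K98.PBasisTower
import Groth.Agent.Ega41.PBasisPres

set_option autoImplicit false
universe u
open EGA41

namespace Groth.Agent.S4519

/-- Let p be a prime, B a ring of characteristic p and A a subring of B with B^p ⊆ A (here: A → B
injective with every p-th power in its image; R → A → B with the image of R in B equal to the set of
p-th powers, so that R stands for B^p). If B admits a p-basis over A, then B is a formally smooth
A-algebra relative to R for the discrete topologies (square-zero liftings, as in the prelude's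
relative notion). -/
theorem result (p : ℕ) [Fact p.Prime] {R A B : Type u} [CommRing R] [CommRing A]
    [CommRing B] [Algebra R A] [Algebra A B] [Algebra R B] [IsScalarTower R A B] [CharP B p]
    (hinj : Function.Injective (algebraMap A B)) (hpow : ∀ b : B, b ^ p ∈ Set.range (algebraMap A B))
    (hR : Set.range (algebraMap R B) = Set.range fun b : B => b ^ p)
    {ι : Type u} (x : ι → B) (hx : EGA41.IsPBasis p A x) :
    EGA41.IsFormallySmoothRel R A B := by
  classical
  have hp : 0 < p := (Fact.out : p.Prime).pos
  have hli : LinearIndependent A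
      (fun e : {e : ι →₀ ℕ // ∀ i, e i < p} => EGA41.pMonomial x e.1) := by
    rw [linearIndependent_iff]
    intro g hg
    ext e
    have h1 := (Groth.Agent.Ega41.K98.PBasisTower.isPIndependent_iff hpow x).mp hx.1 g hg e
    rwa [map_eq_zero_iff _ hinj] at h1
  have hsp : Submodule.span A (Set.range
      fun e : {e : ι →₀ ℕ // ∀ i, e i < p} => EGA41.pMonomial x e.1) = ⊤ := by
    rw [eq_top_iff]
    intro b _
    obtain ⟨g, hg⟩ := (Groth.Agent.Ega41.K98.PBasisTower.isPGenerating_iff hpow x).mp hx.2 b
    rw [Finsupp.mem_span_range_iff_exists_finsupp]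
    exact ⟨g, hg⟩
  have hr : ∀ i, ∃ r, algebraMap R B r = x i ^ p := fun i => by
    have h1 : x i ^ p ∈ Set.range (algebraMap R B) := by rw [hR]; exact ⟨x i, rfl⟩
    exact h1
  choose r hr using hr
  have hxa : ∀ i, x i ^ p = algebraMap A B (algebraMap R A (r i)) := fun i => by
    rw [← IsScalarTower.algebraMap_apply, hr]
  intro C _ _ _ _ J hJ u₀ hu
  obtain ⟨u, hu⟩ := hu
  have hu' : ∀ b, Ideal.Quotient.mk J (u b) = u₀ b := fun b => DFunLike.congr_fun hu b
  obtain ⟨v, hv, -⟩ := Groth.Agent.Ega41.PBasisPres.exists_unique_algHom hp hxa hli hsp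
    (E := C) (fun i => u (x i)) (fun i => by
      rw [← map_pow, ← hr i, u.commutes, ← IsScalarTower.algebraMap_apply])
  refine ⟨v, ?_⟩
  obtain ⟨w, -, hw⟩ := Groth.Agent.Ega41.PBasisPres.exists_unique_algHom hp hxa hli hsp
    (E := C ⧸ J) (fun i => u₀ (x i)) (fun i => by
      rw [← map_pow, hxa, u₀.commutes])
  rw [hw ((Ideal.Quotient.mkₐ A J).comp v) (fun i => by
    rw [AlgHom.comp_apply, hv, Ideal.Quotient.mkₐ_eq_mk, hu']), hw u₀ (fun i => rfl)]
end Groth.Agent.S4519
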