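import Groth.Statements.S4521
import Groth.Agent.Ega41.PBasisField
import Mathlib.RingTheory.Derivation.Basic

set_option autoImplicit false
universe u
open EGA41

namespace Groth.Agent.S4521

/-- Let k ⊆ K be fields of characteristic p > 0 and (x_α) a family of elements of K. Then (x_α) is
p-independent over k if and only if, for every α, x_α does not lie in the subfield generated over k
by K^p and the x_β with β ≠ α. -/
theorem result (p : ℕ) [Fact p.Prime] {k K : Type u} [Field k] [Field K]
    [Algebra k K] [CharP K p] {ι : Type u} (x : ι → K) :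
    EGA41.IsPIndependent p k x ↔
      ∀ a : ι, x a ∉ IntermediateField.adjoin k ((Set.range fun y : K => y ^ p) ∪ x '' {b | b ≠ a}) := by
  have hD : EGA41.IsPIndependent p k x ↔
      LinearIndependent K (fun i => KaehlerDifferential.D k K (x i)) :=
    ⟨Groth.Agent.Ega41.PBasisField.linearIndependent_of_isPIndependent p x,
      Groth.Agent.Ega41.PBasisField.isPIndependent_of_linearIndependent p x⟩
  have hp0 : (p : K) = 0 := CharP.cast_eq_zero K p
  rw [hD, linearIndependent_iff_notMem_span]
  refine forall_congr' fun a => not_congr ?_
  have himg : (fun i => KaehlerDifferential.D k K (x i)) '' (Set.univ \ {a}) =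
      (KaehlerDifferential.D k K) '' (x '' {b | b ≠ a}) := by
    rw [Set.image_image]
    congr 1
    ext b
    simp
  rw [himg]
  set F := IntermediateField.adjoin k ((Set.range fun y : K => y ^ p) ∪ x '' {b | b ≠ a}) with hF
  constructor
  · intro h
    have := Groth.Agent.Ega41.PBasisField.mem_of_D_mem_span p F.toSubalgebra (fun y =>
      IntermediateField.subset_adjoin _ _ (Or.inl ⟨y, rfl⟩)) (x '' {b | b ≠ a}) (fun z hz =>
      IntermediateField.subset_adjoin _ _ (Or.inr hz)) (x a) h
    exact this
  · intro h
    refine IntermediateField.adjoin_induction k (p := fun z _ => KaehlerDifferential.D k K z ∈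
      Submodule.span K ((KaehlerDifferential.D k K) '' (x '' {b | b ≠ a}))) ?_ ?_ ?_ ?_ ?_ h
    · rintro z (⟨y, rfl⟩ | hz)
      · simp only
        rw [Derivation.leibniz_pow, ← Nat.cast_smul_eq_nsmul K, hp0, zero_smul]
        exact Submodule.zero_mem _
      · exact Submodule.subset_span ⟨z, hz, rfl⟩
    · intro r
      rw [Derivation.map_algebraMap]
      exact Submodule.zero_mem _
    · intro y z _ _ hy hz
      rw [map_add]
      exact add_mem hy hz
    · intro y _ hy
      rw [Derivation.leibniz_inv]
      exact Submodule.smul_mem _ _ hy
    · intro y z _ _ hy hz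
      rw [Derivation.leibniz]
      exact add_mem (Submodule.smul_mem _ _ hz) (Submodule.smul_mem _ _ hy)
end Groth.Agent.S4521
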