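import Groth.Statements.S4522
import Groth.Agent.Ega41.PBasisField
import Groth.Agent.Ega41.K98.PBasisTower
import Mathlib.LinearAlgebra.TensorProduct.Basis

set_option autoImplicit false
universe u
open EGA41

namespace Groth.Agent.S4522

/-- Let L be a field of characteristic p > 0 and K a subfield with L^p ⊆ K ⊆ L (here R → K → L with the
image of R in L the set of p-th powers and every p-th power of L in the image of K). Then the
canonical L-linear map L ⊗_K Ω_{K/L^p} → Ω_{L/L^p} is injective, so that 0 → Ω_{K/L^p} ⊗_K L →
Ω_{L/L^p} → Ω_{L/K} → 0 is exact: the imperfection module of L over K relative to L^p vanishes. -/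
theorem result (p : ℕ) [Fact p.Prime] {R K L : Type u} [Field R] [Field K] [Field L]
    [Algebra R K] [Algebra K L] [Algebra R L] [IsScalarTower R K L] [CharP L p]
    (hR : Set.range (algebraMap R L) = Set.range fun y : L => y ^ p)
    (hK : ∀ y : L, y ^ p ∈ Set.range (algebraMap K L)) :
    Function.Injective (KaehlerDifferential.mapBaseChange R K L) := by
  classical
  have hinj : Function.Injective (algebraMap K L) := (algebraMap K L).injective
  have hpow : ∀ b : L, b ^ p ∈ Set.range (algebraMap R L) := fun b => by rw [hR]; exact ⟨b, rfl⟩
  have hpK : CharP K p := ((algebraMap K L).charP_iff_charP p).mpr inferInstance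
  -- a basis of `Ω[K⁄R]` made of differentials
  obtain ⟨ι, x, -, hspan, hli⟩ := exists_linearIndependent' K (fun a : K => KaehlerDifferential.D R K a)
  have hspan' : Submodule.span K (Set.range ((fun a : K => KaehlerDifferential.D R K a) ∘ x)) = ⊤ :=
    hspan.trans (KaehlerDifferential.span_range_derivation R K)
  have hx : EGA41.IsPBasis p R x :=
    ⟨Groth.Agent.Ega41.PBasisField.isPIndependent_of_linearIndependent p x hli,
      Groth.Agent.Ega41.PBasisField.isPGenerating_of_span_eq_top p x hspan'⟩
  -- the family stays `p`-independent over `R` in `L`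
  have hy : EGA41.IsPIndependent p K (fun e : PEmpty.{u+1} => (e.elim : L)) :=
    Groth.Agent.Ega41.PBasisField.isPIndependent_of_linearIndependent p _ linearIndependent_empty_type
  have hz := (Groth.Agent.Ega41.K98.PBasisTower.isPIndependent_tower hinj hpow x _ hx).mp hy
  have hz' := Groth.Agent.Ega41.PBasisField.linearIndependent_of_isPIndependent p _ hz
  have hz'' : LinearIndependent L (fun i => KaehlerDifferential.D R L (algebraMap K L (x i))) :=
    hz'.comp Sum.inl Sum.inl_injective
  let b : Module.Basis ι K (Ω[K⁄R]) := Module.Basis.mk hli hspan'.ge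
  let b' : Module.Basis ι L (TensorProduct K L (Ω[K⁄R])) := b.baseChange L
  have hb' : ∀ i, KaehlerDifferential.mapBaseChange R K L (b' i) =
      KaehlerDifferential.D R L (algebraMap K L (x i)) := by
    intro i
    rw [Module.Basis.baseChange_apply, KaehlerDifferential.mapBaseChange_tmul, one_smul,
      Module.Basis.mk_apply]
    exact KaehlerDifferential.map_D R R K L (x i)
  have hcomp : KaehlerDifferential.mapBaseChange R K L =
      (Finsupp.linearCombination L (fun i => KaehlerDifferential.D R L (algebraMap K L (x i)))) ∘ₗ
        b'.repr.toLinearMap := by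
    apply b'.ext
    intro i
    rw [hb', LinearMap.comp_apply, LinearEquiv.coe_coe, Module.Basis.repr_self,
      Finsupp.linearCombination_single, one_smul]
  rw [hcomp]
  rw [LinearMap.coe_comp]
  exact Function.Injective.comp hz'' b'.repr.injective
end Groth.Agent.S4522
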