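import Groth.Statements.S4524
import Groth.Agent.Ega41.SepExt
import Mathlib.RingTheory.Unramified.Field
import Mathlib.FieldTheory.IntermediateField.Adjoin.Algebra
import Mathlib.RingTheory.Flat.FaithfullyFlat.Basic

set_option autoImplicit false
universe u
open EGA41

namespace Groth.Agent.S4524

/-- Let k be a field of characteristic 0 and K an extension of k. Then Ω_{K/k} = 0 if and only if K is
an algebraic extension of k. -/
theorem result {k K : Type u} [Field k] [CharZero k] [Field K] [Algebra k K] :
    Subsingleton (Ω[K⁄k]) ↔ Algebra.IsAlgebraic k K := by
  constructor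
  · intro h
    refine ⟨fun t => ?_⟩
    let F := IntermediateField.adjoin k ({t} : Set K)
    have hperf : CharZero F := charZero_of_injective_algebraMap (algebraMap k F).injective
    have hs : Algebra.FormallySmooth F K := Groth.Agent.Ega41.SepExt.formallySmooth_of_perfectField F K
    have hinj := Groth.Agent.Ega41.SepExt.injective_mapBaseChange_of_formallySmooth F K k
    have hsub : Subsingleton (TensorProduct F K (Ω[F⁄k])) := hinj.subsingleton
    have hsub' : Subsingleton (Ω[F⁄k]) :=
      (Module.FaithfullyFlat.subsingleton_tensorProduct_iff_right F K).mp hsub
    have hess : Algebra.EssFiniteType k F :=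
      IntermediateField.essFiniteType_iff.mpr ⟨{t}, by simp [F]⟩
    have hun : Algebra.FormallyUnramified k F := ⟨hsub'⟩
    have hsep : Algebra.IsSeparable k F := Algebra.FormallyUnramified.isSeparable k F
    have hint : IsAlgebraic k (⟨t, IntermediateField.mem_adjoin_simple_self k t⟩ : F) :=
      Algebra.IsAlgebraic.isAlgebraic _
    exact hint.algebraMap (A := K)
  · intro h
    have : Algebra.FormallyUnramified k K := Algebra.FormallyUnramified.of_isSeparable k K
    exact inferInstance
end Groth.Agent.S4524
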