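import Groth.Statements.S4528
import Mathlib.RingTheory.AdicCompletion.Functoriality
import Mathlib.RingTheory.AdicCompletion.Algebra
import Mathlib.RingTheory.AdicCompletion.Completeness
import Mathlib.LinearAlgebra.TensorProduct.Quotient
import Mathlib.RingTheory.Ideal.Cotangent
import Mathlib.RingTheory.Finiteness.Cardinality

set_option autoImplicit false
universe u
open EGA41

namespace Groth.Agent.S4528

open IsLocalRing in
/-- Let k be a field (any characteristic) and A a complete Noetherian local k-algebra whose residue
field K is an extension of finite type of k. Then the completed module of differentials, i.e. the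
𝔪-adic completion of Ω_{A/k}, is an A-module of finite type. -/
theorem result {k A : Type u} [Field k] [CommRing A] [IsLocalRing A]
    [IsNoetherianRing A] [IsAdicComplete (maximalIdeal A) A] [Algebra k A]
    [Algebra.EssFiniteType k (ResidueField A)] :
    Module.Finite A (AdicCompletion (maximalIdeal A) (Ω[A⁄k])) := by
  classical
  let κ := ResidueField A
  let I := maximalIdeal A
  have hsurj : Function.Surjective (algebraMap A κ) := residue_surjective
  -- the module `κ ⊗ Ω` is finite
  have hex := KaehlerDifferential.exact_kerCotangentToTensor_mapBaseChange k A κ hsurj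
  have h1 : Module.Finite A (Ω[κ⁄k]) := Module.Finite.trans κ (Ω[κ⁄k])
  have h2 : Module.Finite A (TensorProduct A κ (Ω[A⁄k])) := by
    have hfg : (RingHom.ker (algebraMap A κ)).FG := IsNoetherian.noetherian _
    have h3 : Module.Finite A (RingHom.ker (algebraMap A κ)) := Module.Finite.iff_fg.mpr hfg
    have h4 : Module.Finite A (RingHom.ker (algebraMap A κ)).Cotangent :=
      Module.Finite.of_surjective (Ideal.toCotangent _) (Ideal.toCotangent_surjective _)
    let g : TensorProduct A κ (Ω[A⁄k]) →ₗ[A] Ω[κ⁄k] :=
      (KaehlerDifferential.mapBaseChange k A κ).restrictScalars A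
    have h5 : Module.Finite A (LinearMap.ker g) := by
      have h6 : LinearMap.ker g = LinearMap.range (KaehlerDifferential.kerCotangentToTensor k A κ) := by
        ext x
        exact hex x
      rw [h6]
      infer_instance
    have h7 : Module.Finite A (TensorProduct A κ (Ω[A⁄k]) ⧸ LinearMap.ker g) :=
      Module.Finite.equiv g.quotKerEquivRange.symm
    exact Module.Finite.of_submodule_quotient (LinearMap.ker g)
  have h2' : Module.Finite A (TensorProduct A (A ⧸ I) (Ω[A⁄k])) := h2
  have h8 : Module.Finite A ((Ω[A⁄k]) ⧸ (I • ⊤ : Submodule A (Ω[A⁄k]))) :=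
    Module.Finite.equiv (TensorProduct.quotTensorEquivQuotSMul (Ω[A⁄k]) I)
  obtain ⟨n, s, hs⟩ := Module.Finite.exists_fin (R := A) (M := (Ω[A⁄k]) ⧸ (I • ⊤ : Submodule A (Ω[A⁄k])))
  choose m hm using fun i ↦ Submodule.mkQ_surjective (I • ⊤ : Submodule A (Ω[A⁄k])) (s i)
  let f : (Fin n → A) →ₗ[A] (Ω[A⁄k]) := Fintype.linearCombination A m
  have hf : Function.Surjective ((I • ⊤ : Submodule A (Ω[A⁄k])).mkQ ∘ₗ f) := by
    rw [← LinearMap.range_eq_top, LinearMap.range_comp]
    rw [Fintype.range_linearCombination, Submodule.map_span, ← Set.range_comp]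
    rw [← hs]
    congr 1
    ext x
    simp [hm]
  have hmap : Function.Surjective (AdicCompletion.map I f) :=
    AdicCompletion.map_surjective_of_mkQ_comp_surjective hf
  let e2 : AdicCompletion I (Fin n → A) ≃ₗ[A] (Fin n → AdicCompletion I A) :=
    (AdicCompletion.piEquivFin I n).restrictScalars A
  let e3 : (Fin n → A) ≃ₗ[A] (Fin n → AdicCompletion I A) :=
    LinearEquiv.piCongrRight fun _ => AdicCompletion.ofLinearEquiv I A
  have h9 : Module.Finite A (AdicCompletion I (Fin n → A)) := Module.Finite.equiv (e3.trans e2.symm)
  exact Module.Finite.of_surjective ((AdicCompletion.map I f).restrictScalars A) hmap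
end Groth.Agent.S4528
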