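import Groth.Statements.S4529
import Mathlib.RingTheory.Nakayama
import Mathlib.RingTheory.OrzechProperty
import Mathlib.RingTheory.FiniteType
import Mathlib.RingTheory.Nilpotent.Basic

set_option autoImplicit false
universe u
open EGA41

namespace Groth.Agent.S4529

/-- Let A be a ring, M, N two A-modules with N projective, u : M → N a homomorphism and J an ideal of A;
suppose either (i) J is nilpotent, or (ii) J is contained in the Jacobson radical of A and M is of
finite type. Then u is left invertible if and only if the induced map u₀ : M/JM → N/JN is left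
invertible. (A left inverse of u₀ composed with N → N/JN is an A-linear map v : N → M/JM with v ∘ u
the projection, and conversely; the right-hand side is written in that form.) -/
theorem result {A : Type u} [CommRing A] {M N : Type u} [AddCommGroup M] [Module A M]
    [AddCommGroup N] [Module A N] [Module.Projective A N] (u : M →ₗ[A] N) (J : Ideal A)
    (hJ : IsNilpotent J ∨ (J ≤ (⊥ : Ideal A).jacobson ∧ Module.Finite A M)) :
    (∃ w : N →ₗ[A] M, w ∘ₗ u = LinearMap.id) ↔
      ∃ v : N →ₗ[A] M ⧸ (J • ⊤ : Submodule A M), v ∘ₗ u = (J • ⊤ : Submodule A M).mkQ := by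
  constructor
  · rintro ⟨w, hw⟩
    refine ⟨(J • ⊤ : Submodule A M).mkQ ∘ₗ w, ?_⟩
    rw [LinearMap.comp_assoc, hw, LinearMap.comp_id]
  · rintro ⟨v, hv⟩
    obtain ⟨w, hw⟩ := Module.projective_lifting_property (J • ⊤ : Submodule A M).mkQ v
      (Submodule.mkQ_surjective _)
    let φ : M →ₗ[A] M := w ∘ₗ u
    have hφ : ∀ m, m - φ m ∈ (J • ⊤ : Submodule A M) := by
      intro m
      have h1 : (J • ⊤ : Submodule A M).mkQ (m - φ m) = 0 := by
        have h2 : (J • ⊤ : Submodule A M).mkQ (w (u m)) = v (u m) := LinearMap.congr_fun hw (u m)
        have h3 : v (u m) = (J • ⊤ : Submodule A M).mkQ m := LinearMap.congr_fun hv m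
        rw [map_sub, sub_eq_zero]
        exact (h2.trans h3).symm
      rwa [Submodule.mkQ_apply, Submodule.Quotient.mk_eq_zero] at h1
    suffices hb : Function.Bijective φ by
      let e := LinearEquiv.ofBijective φ hb
      refine ⟨e.symm.toLinearMap ∘ₗ w, ?_⟩
      ext m
      exact e.symm_apply_apply m
    rcases hJ with hJ | ⟨hJ, hM⟩
    · let ε : Module.End A M := LinearMap.id - φ
      have hε : ∀ n : ℕ, ∀ m, (ε ^ n) m ∈ (J ^ n • ⊤ : Submodule A M) := by
        intro n
        induction n with
        | zero => intro m; simp
        | succ n ih =>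
          intro m
          have key : ∀ x ∈ (J ^ n • ⊤ : Submodule A M), ε x ∈ (J ^ (n + 1) • ⊤ : Submodule A M) := by
            intro x hx
            refine Submodule.smul_induction_on hx ?_ ?_
            · intro r hr y _
              rw [map_smul, pow_succ, Submodule.mul_smul]
              exact Submodule.smul_mem_smul hr (hφ y)
            · intro x y h1 h2
              rw [map_add]; exact add_mem h1 h2
          have h5 : (ε ^ (n + 1)) m = ε ((ε ^ n) m) := by
            rw [pow_succ' ε n]; rfl
          rw [h5]
          exact key _ (ih m)
      have hnil : IsNilpotent ε := by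
        obtain ⟨n, hn⟩ := hJ
        refine ⟨n, ?_⟩
        ext m
        have := hε n m
        rw [hn] at this
        simpa using this
      have hu : IsUnit (1 - ε) := IsNilpotent.isUnit_one_sub hnil
      have he : (1 - ε : Module.End A M) = φ := by
        ext m
        simp [ε]
      rw [he] at hu
      exact (Module.End.isUnit_iff φ).mp hu
    · have hs : Function.Surjective φ := by
        rw [← LinearMap.range_eq_top, eq_top_iff]
        refine Submodule.le_of_le_smul_of_le_jacobson_bot (Module.Finite.fg_top) hJ ?_
        rintro m -
        have : m = φ m + (m - φ m) := by abel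
        rw [this]
        exact Submodule.add_mem_sup (LinearMap.mem_range_self φ m) (hφ m)
      exact ⟨(OrzechProperty.injective_of_surjective_endomorphism φ hs), hs⟩
end Groth.Agent.S4529
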