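import Groth.Statements.S4530
import Groth.Agent.Ega41.K98.SplitLoc
import Mathlib.RingTheory.LocalRing.Module
import Mathlib.RingTheory.Localization.BaseChange
import Mathlib.RingTheory.Flat.Localization
import Mathlib.Tactic.TFAE

set_option autoImplicit false
universe u
open EGA41

namespace Groth.Agent.S4530

open TensorProduct in
/-- Let A be a ring, M an A-module of finite type, N a projective A-module, u : M → N a homomorphism.
For a prime ideal 𝔭 the following are equivalent: (a) u_𝔭 : M_𝔭 → N_𝔭 is left invertible; (b) u ⊗ 1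
: M ⊗ k(𝔭) → N ⊗ k(𝔭) is injective; (d) there is f ∉ 𝔭 with u_f : M_f → N_f left invertible.
Moreover the set of such 𝔭 is open in Spec A. (The published statement also has a determinant
criterion (c); this row omits it.) -/
theorem result {A : Type u} [CommRing A] {M N : Type u} [AddCommGroup M] [Module A M]
    [Module.Finite A M] [AddCommGroup N] [Module A N] [Module.Projective A N] (u : M →ₗ[A] N) :
    (∀ p : PrimeSpectrum A,
      [∃ w : LocalizedModule p.asIdeal.primeCompl N →ₗ[A] LocalizedModule p.asIdeal.primeCompl M,
          w ∘ₗ LocalizedModule.map p.asIdeal.primeCompl u = LinearMap.id,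
       Function.Injective (u.lTensor p.asIdeal.ResidueField),
       ∃ f : A, f ∉ p.asIdeal ∧
          ∃ w : LocalizedModule (Submonoid.powers f) N →ₗ[A] LocalizedModule (Submonoid.powers f) M,
            w ∘ₗ LocalizedModule.map (Submonoid.powers f) u = LinearMap.id].TFAE) ∧
    IsOpen {p : PrimeSpectrum A |
      ∃ w : LocalizedModule p.asIdeal.primeCompl N →ₗ[A] LocalizedModule p.asIdeal.primeCompl M,
        w ∘ₗ LocalizedModule.map p.asIdeal.primeCompl u = LinearMap.id} := by
  have hloc : ∀ p : PrimeSpectrum A,
      (∃ w : LocalizedModule p.asIdeal.primeCompl N →ₗ[A] LocalizedModule p.asIdeal.primeCompl M,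
          w ∘ₗ LocalizedModule.map p.asIdeal.primeCompl u = LinearMap.id) ↔
        ∃ s ∈ p.asIdeal.primeCompl, s ∈ Groth.Agent.Ega41.K98.SplitLoc.splitIdeal u :=
    fun p => Groth.Agent.Ega41.K98.SplitLoc.localized_iff u p.asIdeal.primeCompl
  constructor
  · intro p
    tfae_have 1 ↔ 3 := by
      rw [hloc]
      constructor
      · rintro ⟨s, hs, hs'⟩
        exact ⟨s, hs, (Groth.Agent.Ega41.K98.SplitLoc.localized_iff u (Submonoid.powers s)).mpr
          ⟨s, Submonoid.mem_powers s, hs'⟩⟩
      · rintro ⟨f, hf, h⟩
        obtain ⟨_, ⟨n, rfl⟩, h2⟩ :=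
          (Groth.Agent.Ega41.K98.SplitLoc.localized_iff u (Submonoid.powers f)).mp h
        exact ⟨f ^ n, p.asIdeal.primeCompl.pow_mem hf n, h2⟩
    tfae_have 1 → 2 := by
      rw [hloc]
      rintro ⟨s, hs, w, hw⟩
      have h1 : (w.lTensor p.asIdeal.ResidueField) ∘ₗ (u.lTensor p.asIdeal.ResidueField) =
          s • LinearMap.id := by
        rw [← LinearMap.lTensor_comp, hw, LinearMap.lTensor_smul, LinearMap.lTensor_id]
      have h2 : algebraMap A p.asIdeal.ResidueField s ≠ 0 := by
        intro h
        exact hs (Ideal.algebraMap_residueField_eq_zero.mp h)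
      rw [← LinearMap.ker_eq_bot, eq_bot_iff]
      intro z hz
      rw [LinearMap.mem_ker] at hz
      have h3 := LinearMap.congr_fun h1 z
      rw [LinearMap.comp_apply, hz, map_zero, LinearMap.smul_apply, LinearMap.id_apply,
        ← algebraMap_smul p.asIdeal.ResidueField] at h3
      rw [Submodule.mem_bot]
      exact (smul_eq_zero_iff_right h2).mp h3.symm
    tfae_have 2 → 1 := by
      intro h
      rw [hloc]
      obtain ⟨ι, _, a, b, hab⟩ := Groth.Agent.Ega41.K98.SplitLoc.exists_factor u
      let Ap := Localization.AtPrime p.asIdeal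
      let κ := p.asIdeal.ResidueField
      let u' : M →ₗ[A] (ι → A) := a ∘ₗ u
      have h' : Function.Injective (u'.lTensor κ) := by
        have h1 : (b.lTensor κ) ∘ₗ (u'.lTensor κ) = u.lTensor κ := by
          rw [← LinearMap.lTensor_comp]
          exact congrArg (fun f => LinearMap.lTensor κ f) hab
        apply Function.Injective.of_comp (f := b.lTensor κ)
        rw [← LinearMap.coe_comp, h1]
        exact h
      have h2 : Function.Injective ((u'.baseChange Ap).lTensor (IsLocalRing.ResidueField Ap)) := by
        have e1 : ∀ z : (IsLocalRing.ResidueField Ap) ⊗[Ap] (Ap ⊗[A] M),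
            (AlgebraTensorModule.cancelBaseChange A Ap Ap (IsLocalRing.ResidueField Ap) (ι → A))
              ((u'.baseChange Ap).lTensor (IsLocalRing.ResidueField Ap) z) =
            u'.lTensor κ ((AlgebraTensorModule.cancelBaseChange A Ap Ap (IsLocalRing.ResidueField Ap) M) z) := by
          intro z
          induction z using TensorProduct.induction_on with
          | zero => simp
          | add x y hx hy => simp only [map_add, hx, hy]
          | tmul x y =>
            induction y using TensorProduct.induction_on with
            | zero => simp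
            | add y z hy hz => simp only [map_add, TensorProduct.tmul_add, hy, hz]
            | tmul y m => 
              simp only [LinearMap.lTensor_tmul, LinearMap.baseChange_tmul,
                AlgebraTensorModule.cancelBaseChange_tmul]
        intro x y hxy
        apply (AlgebraTensorModule.cancelBaseChange A Ap Ap (IsLocalRing.ResidueField Ap) M).injective
        apply h'
        rw [← e1, ← e1, hxy]
      obtain ⟨l, hl⟩ := (IsLocalRing.split_injective_iff_lTensor_residueField_injective
        (u'.baseChange Ap)).mpr h2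
      have h3 : (l ∘ₗ a.baseChange Ap) ∘ₗ u.baseChange Ap = LinearMap.id := by
        rw [LinearMap.comp_assoc, ← LinearMap.baseChange_comp]
        exact hl
      have hflat : Module.Flat A Ap := IsLocalization.flat Ap p.asIdeal.primeCompl
      have h4 := Groth.Agent.Ega41.K98.SplitLoc.map_splitIdeal_eq_top u Ap _ h3
      have h5 : (TensorProduct.mk A Ap (A ⧸ Groth.Agent.Ega41.K98.SplitLoc.splitIdeal u) 1)
          (Ideal.Quotient.mk _ 1) =
          (TensorProduct.mk A Ap (A ⧸ Groth.Agent.Ega41.K98.SplitLoc.splitIdeal u) 1) 0 :=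
        Subsingleton.elim _ _
      obtain ⟨s, hs⟩ := IsLocalizedModule.exists_of_eq (S := p.asIdeal.primeCompl) h5
      refine ⟨s, s.2, ?_⟩
      rw [smul_zero] at hs
      rw [← Ideal.Quotient.eq_zero_iff_mem, ← hs]
      change _ = (s : A) • (Ideal.Quotient.mk (Groth.Agent.Ega41.K98.SplitLoc.splitIdeal u) 1)
      rw [Algebra.smul_def, Ideal.Quotient.algebraMap_eq, ← map_mul, mul_one]
    tfae_finish
  · have h1 : {p : PrimeSpectrum A |
      ∃ w : LocalizedModule p.asIdeal.primeCompl N →ₗ[A] LocalizedModule p.asIdeal.primeCompl M,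
        w ∘ₗ LocalizedModule.map p.asIdeal.primeCompl u = LinearMap.id} =
        (PrimeSpectrum.zeroLocus (Groth.Agent.Ega41.K98.SplitLoc.splitIdeal u : Set A))ᶜ := by
      ext p
      rw [Set.mem_ofPred_eq, hloc, Set.mem_compl_iff, PrimeSpectrum.mem_zeroLocus, Set.not_subset]
      exact exists_congr fun s => and_comm
    rw [h1]
    exact (PrimeSpectrum.isClosed_zeroLocus _).isOpen_compl
end Groth.Agent.S4530
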