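import Groth.Statements.S4531
import Groth.Agent.Ega41.K98.SplitLoc

set_option autoImplicit false
universe u
open EGA41

namespace Groth.Agent.S4531

open TensorProduct in
/-- Let A be a ring, M an A-module of finite type, N a projective A-module and u : M → N a homomorphism.
(i) u is left invertible if and only if u_𝔪 : M_𝔪 → N_𝔪 is left invertible for every maximal ideal 𝔪
of A. (ii) If A' is an A-algebra which is a faithfully flat A-module, u is left invertible if and
only if u ⊗ 1 : M ⊗_A A' → N ⊗_A A' is left invertible (as an A'-linear map). -/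
theorem result {A : Type u} [CommRing A] {M N : Type u} [AddCommGroup M] [Module A M]
    [Module.Finite A M] [AddCommGroup N] [Module A N] [Module.Projective A N] (u : M →ₗ[A] N) :
    ((∃ w : N →ₗ[A] M, w ∘ₗ u = LinearMap.id) ↔
      ∀ (m : Ideal A) [m.IsMaximal],
        ∃ w : LocalizedModule m.primeCompl N →ₗ[A] LocalizedModule m.primeCompl M,
          w ∘ₗ LocalizedModule.map m.primeCompl u = LinearMap.id) ∧
    ∀ (A' : Type u) [CommRing A'] [Algebra A A'] [Module.FaithfullyFlat A A'],
      (∃ w : N →ₗ[A] M, w ∘ₗ u = LinearMap.id) ↔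
        ∃ w : A' ⊗[A] N →ₗ[A'] A' ⊗[A] M, w ∘ₗ u.baseChange A' = LinearMap.id := by
  constructor
  · rw [← Groth.Agent.Ega41.K98.SplitLoc.one_mem_iff]
    have h1 : ∀ (m : Ideal A) [m.IsMaximal],
        ((∃ w : LocalizedModule m.primeCompl N →ₗ[A] LocalizedModule m.primeCompl M,
          w ∘ₗ LocalizedModule.map m.primeCompl u = LinearMap.id) ↔
          ¬ Groth.Agent.Ega41.K98.SplitLoc.splitIdeal u ≤ m) := by
      intro m hm
      rw [SetLike.not_le_iff_exists]
      refine (Groth.Agent.Ega41.K98.SplitLoc.localized_iff u m.primeCompl).trans ?_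
      exact exists_congr fun s => and_comm
    constructor
    · intro h m hm
      rw [h1 m, h, top_le_iff]
      exact hm.ne_top
    · intro h
      by_contra hne
      obtain ⟨m, hm, hle⟩ := Ideal.exists_le_maximal _ hne
      exact (h1 m).mp (h m) hle
  · intro A' _ _ _
    constructor
    · rintro ⟨w, hw⟩
      refine ⟨w.baseChange A', ?_⟩
      rw [← LinearMap.baseChange_comp, hw, LinearMap.baseChange_id]
    · rintro ⟨w, hw⟩
      rw [← Groth.Agent.Ega41.K98.SplitLoc.one_mem_iff]
      have h1 := Groth.Agent.Ega41.K98.SplitLoc.map_splitIdeal_eq_top u A' w hw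
      have h2 : Subsingleton (A ⧸ Groth.Agent.Ega41.K98.SplitLoc.splitIdeal u) :=
        (Module.FaithfullyFlat.subsingleton_tensorProduct_iff_right A A').mp h1
      exact Ideal.Quotient.subsingleton_iff.mp h2
end Groth.Agent.S4531
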