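import Groth.Statements.S4532
import Mathlib.RingTheory.Smooth.Basic

set_option autoImplicit false
universe u
open EGA41

namespace Groth.Agent.S4532

/-- Let A be a discrete ring and V a projective A-module. Then the symmetric algebra of V over A, with
the discrete topology, is a formally smooth A-algebra. -/
theorem result (A : Type u) [CommRing A] (V : Type u) [AddCommGroup V] [Module A V]
    [Module.Projective A V] : Algebra.FormallySmooth A (SymmetricAlgebra A V) := by
  rw [Algebra.FormallySmooth.iff_comp_surjective]
  intro C _ _ I hI u
  obtain ⟨w, hw⟩ := Module.projective_lifting_property (Ideal.Quotient.mkₐ A I).toLinearMap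
    (u.toLinearMap ∘ₗ SymmetricAlgebra.ι A V) Ideal.Quotient.mk_surjective
  refine ⟨SymmetricAlgebra.lift w, ?_⟩
  apply SymmetricAlgebra.algHom_ext
  ext v
  have h1 : (Ideal.Quotient.mkₐ A I) (w v) = u (SymmetricAlgebra.ι A V v) := LinearMap.congr_fun hw v
  simpa using h1
end Groth.Agent.S4532
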