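import Groth.Statements.S4534

set_option autoImplicit false
universe u
open EGA41

namespace Groth.Agent.S4534

/-- Let A → B → C be continuous homomorphisms of adic rings (A with the 𝔞-adic, B the 𝔟-adic, C the
𝔠-adic topology; continuity: a power of 𝔞 maps into 𝔟 and a power of 𝔟 into 𝔠). If B is formally
smooth over A and C formally smooth over B, then C is formally smooth over A. -/
theorem result {A B C : Type u} [CommRing A] [CommRing B] [CommRing C] [Algebra A B] [Algebra B C]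
    [Algebra A C] [IsScalarTower A B C] (𝔞 : Ideal A) (𝔟 : Ideal B) (𝔠 : Ideal C)
    (hAB : ∃ k : ℕ, (𝔞 ^ k).map (algebraMap A B) ≤ 𝔟) (hBC : ∃ k : ℕ, (𝔟 ^ k).map (algebraMap B C) ≤ 𝔠)
    (hB : EGA41.IsFormallySmoothAdic A 𝔞 B 𝔟) (hC : EGA41.IsFormallySmoothAdic B 𝔟 C 𝔠) :
    EGA41.IsFormallySmoothAdic A 𝔞 C 𝔠 := by
  intro D _ _ J hJ hk u hu
  obtain ⟨l, hl⟩ := hu
  obtain ⟨m, hm⟩ := hBC
  obtain ⟨N, hN⟩ := hJ
  -- lift `B → C → D / J`
  let ι : B →ₐ[A] C := IsScalarTower.toAlgHom A B C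
  obtain ⟨v, hv⟩ := hB D J ⟨N, hN⟩ hk (u.comp ι) ⟨m * l, fun x hx => by
    apply hl
    have h1 : algebraMap B C x ∈ ((𝔟 ^ m).map (algebraMap B C)) ^ l := by
      rw [← Ideal.map_pow, ← pow_mul]
      exact Ideal.mem_map_of_mem _ hx
    exact Ideal.pow_right_mono hm l h1⟩
  letI algD : Algebra B D := v.toRingHom.toAlgebra
  have hvJ : ∀ x ∈ 𝔟 ^ (m * l), v x ∈ J := by
    intro x hx
    rw [← Ideal.Quotient.eq_zero_iff_mem]
    have h1 : (Ideal.Quotient.mkₐ A J) (v x) = u (ι x) := DFunLike.congr_fun hv x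
    rw [Ideal.Quotient.mkₐ_eq_mk] at h1
    rw [h1]
    apply hl
    have h1 : algebraMap B C x ∈ ((𝔟 ^ m).map (algebraMap B C)) ^ l := by
      rw [← Ideal.map_pow, ← pow_mul]
      exact Ideal.mem_map_of_mem _ hx
    exact Ideal.pow_right_mono hm l h1
  have hcomm : ∀ b : B, algebraMap B (D ⧸ J) b = u (algebraMap B C b) := by
    intro b
    have h1 : (Ideal.Quotient.mkₐ A J) (v b) = u (ι b) := DFunLike.congr_fun hv b
    exact h1
  let u' : C →ₐ[B] D ⧸ J := { u.toRingHom with commutes' := fun b => (hcomm b).symm }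
  obtain ⟨w, hw⟩ := hC D J ⟨N, hN⟩ ⟨m * l * N, by
    rw [eq_bot_iff, Ideal.map_le_iff_le_comap]
    intro x hx
    rw [pow_mul] at hx
    have h2 : (𝔟 ^ (m * l)) ≤ J.comap v.toRingHom := fun y hy => hvJ y hy
    have h3 : x ∈ (J ^ N).comap v.toRingHom :=
      (Ideal.le_comap_pow v.toRingHom N) (Ideal.pow_right_mono h2 N hx)
    rw [hN] at h3
    exact h3⟩ u' ⟨l, hl⟩
  refine ⟨{ w.toRingHom with commutes' := fun a => ?_ }, ?_⟩
  · have h1 : w (algebraMap B C (algebraMap A B a)) = algebraMap B D (algebraMap A B a) :=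
      w.commutes _
    change w (algebraMap A C a) = _
    rw [IsScalarTower.algebraMap_apply A B C, h1]
    exact v.commutes a
  · ext x
    exact DFunLike.congr_fun hw x
end Groth.Agent.S4534
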