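import Groth.Statements.S4535

set_option autoImplicit false
universe u
open EGA41

namespace Groth.Agent.S4535

open TensorProduct in
/-- Let B (𝔟-adic) be formally smooth over A (𝔞-adic) and let A' (𝔞'-adic) be a topological A-algebra (a
power of 𝔞 maps into 𝔞'). Then the A'-algebra A' ⊗_A B, with the tensor product topology, i.e. the
adic topology of the ideal generated by the images of 𝔞' and 𝔟, is formally smooth over A'. -/
theorem result {A B A' : Type u} [CommRing A] [CommRing B] [CommRing A'] [Algebra A B] [Algebra A A']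
    (𝔞 : Ideal A) (𝔟 : Ideal B) (𝔞' : Ideal A') (hAA' : ∃ k : ℕ, (𝔞 ^ k).map (algebraMap A A') ≤ 𝔞')
    (hB : EGA41.IsFormallySmoothAdic A 𝔞 B 𝔟) :
    EGA41.IsFormallySmoothAdic A' 𝔞' (A' ⊗[A] B)
      (𝔞'.map (algebraMap A' (A' ⊗[A] B)) ⊔
        𝔟.map (Algebra.TensorProduct.includeRight : B →ₐ[A] A' ⊗[A] B).toRingHom) := by
  intro C _ _ J hJ hk u hu
  obtain ⟨l, hl⟩ := hu
  obtain ⟨k, hk⟩ := hk
  obtain ⟨m, hm⟩ := hAA'
  let algC : Algebra A C := ((algebraMap A' C).comp (algebraMap A A')).toAlgebra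
  have tow : IsScalarTower A A' C := IsScalarTower.of_algebraMap_eq fun _ => rfl
  have tow' : IsScalarTower A A' (C ⧸ J) := IsScalarTower.of_algebraMap_eq fun _ => rfl
  have hk' : ∃ k : ℕ, (𝔞 ^ k).map (algebraMap A C) = ⊥ := ⟨m * k, by
    rw [eq_bot_iff, Ideal.map_le_iff_le_comap]
    intro x hx
    have h1 : algebraMap A A' x ∈ 𝔞' ^ k := by
      have h2 : algebraMap A A' x ∈ ((𝔞 ^ m).map (algebraMap A A')) ^ k := by
        rw [← Ideal.map_pow, ← pow_mul]
        exact Ideal.mem_map_of_mem _ hx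
      exact Ideal.pow_right_mono hm k h2
    have h3 : algebraMap A' C (algebraMap A A' x) ∈ (𝔞' ^ k).map (algebraMap A' C) :=
      Ideal.mem_map_of_mem _ h1
    rw [hk] at h3
    exact h3⟩
  let ι : B →ₐ[A] A' ⊗[A] B := Algebra.TensorProduct.includeRight
  obtain ⟨v, hv⟩ := hB C J hJ hk' ((u.restrictScalars A).comp ι) ⟨l, fun x hx => by
    apply hl
    refine Ideal.pow_right_mono (le_sup_right) l ?_
    rw [← Ideal.map_pow]
    exact Ideal.mem_map_of_mem _ hx⟩
  refine ⟨Algebra.TensorProduct.lift (Algebra.ofId A' C) v (fun _ _ => Commute.all _ _), ?_⟩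
  apply Algebra.TensorProduct.ext'
  intro a b
  have h1 : (Ideal.Quotient.mkₐ A J) (v b) = u (1 ⊗ₜ b) := DFunLike.congr_fun hv b
  have h2 : a ⊗ₜ[A] b = a • ((1 : A') ⊗ₜ[A] b) := by
    rw [TensorProduct.smul_tmul', smul_eq_mul, mul_one]
  rw [AlgHom.comp_apply, Algebra.TensorProduct.lift_tmul, map_mul, h2, map_smul, ← h1, Algebra.smul_def]
  rfl
end Groth.Agent.S4535
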