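import Groth.Statements.S4536

set_option autoImplicit false
universe u
open EGA41

namespace Groth.Agent.S4536

/-- Let A carry the 𝔞-adic and B the 𝔟-adic topology, A → B being continuous (a power of 𝔞 maps into 𝔟).
Then B is formally smooth over A if and only if for every n the (A/𝔞ⁿ)-algebra B/𝔞ⁿB, with the adic
topology of the image of 𝔟, is formally smooth over the discrete ring A/𝔞ⁿ. -/
theorem result {A B : Type u} [CommRing A] [CommRing B] [Algebra A B]
    (𝔞 : Ideal A) (𝔟 : Ideal B) (hAB : ∃ k : ℕ, (𝔞 ^ k).map (algebraMap A B) ≤ 𝔟) :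
    EGA41.IsFormallySmoothAdic A 𝔞 B 𝔟 ↔
      ∀ n : ℕ, EGA41.IsFormallySmoothAdic (A ⧸ 𝔞 ^ n) ⊥ (B ⧸ (𝔞 ^ n).map (algebraMap A B))
        (𝔟.map (Ideal.Quotient.mk ((𝔞 ^ n).map (algebraMap A B)))) := by
  have halg : ∀ (n : ℕ) (a : A), algebraMap (A ⧸ 𝔞 ^ n) (B ⧸ (𝔞 ^ n).map (algebraMap A B))
      (Ideal.Quotient.mk _ a) = Ideal.Quotient.mk _ (algebraMap A B a) := fun n a => rfl
  constructor
  · intro h n C _ _ J hJ _ u hu
    obtain ⟨l, hl⟩ := hu
    let algC : Algebra A C := ((algebraMap (A ⧸ 𝔞 ^ n) C).comp (Ideal.Quotient.mk _)).toAlgebra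
    let u' : B →ₐ[A] C ⧸ J :=
      { u.toRingHom.comp (Ideal.Quotient.mk _) with
        commutes' := fun a => by
          change u (Ideal.Quotient.mk _ (algebraMap A B a)) = _
          rw [← halg, u.commutes]
          rfl }
    obtain ⟨v, hv⟩ := h C J hJ ⟨n, by
      rw [eq_bot_iff, Ideal.map_le_iff_le_comap]
      intro x hx
      change algebraMap (A ⧸ 𝔞 ^ n) C (Ideal.Quotient.mk _ x) ∈ (⊥ : Ideal C)
      rw [Ideal.Quotient.eq_zero_iff_mem.mpr hx, map_zero]
      exact zero_mem _⟩ u' ⟨l, fun x hx => by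
        apply hl
        rw [← Ideal.map_pow]
        exact Ideal.mem_map_of_mem _ hx⟩
    have hv0 : ∀ x ∈ (𝔞 ^ n).map (algebraMap A B), v.toRingHom x = 0 := by
      intro x hx
      have h1 : (𝔞 ^ n).map (algebraMap A B) ≤ RingHom.ker v.toRingHom := by
        rw [Ideal.map_le_iff_le_comap]
        intro y hy
        change v (algebraMap A B y) = 0
        rw [v.commutes]
        change algebraMap (A ⧸ 𝔞 ^ n) C (Ideal.Quotient.mk _ y) = 0
        rw [Ideal.Quotient.eq_zero_iff_mem.mpr hy, map_zero]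
      exact h1 hx
    refine ⟨{ Ideal.Quotient.lift _ v.toRingHom hv0 with commutes' := fun a => ?_ }, ?_⟩
    · obtain ⟨a, rfl⟩ := Ideal.Quotient.mk_surjective a
      rw [halg]
      change v (algebraMap A B a) = _
      rw [v.commutes]
      rfl
    · ext x
      obtain ⟨x, rfl⟩ := Ideal.Quotient.mk_surjective x
      exact DFunLike.congr_fun hv x
  · intro h C _ _ J hJ hk u hu
    obtain ⟨k, hk⟩ := hk
    obtain ⟨l, hl⟩ := hu
    have hk0 : ∀ x ∈ 𝔞 ^ k, algebraMap A C x = 0 := fun x hx => by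
      have h1 : algebraMap A C x ∈ (𝔞 ^ k).map (algebraMap A C) := Ideal.mem_map_of_mem _ hx
      rw [hk] at h1
      exact h1
    let algC : Algebra (A ⧸ 𝔞 ^ k) C := (Ideal.Quotient.lift _ (algebraMap A C) hk0).toAlgebra
    have hu0 : ∀ x ∈ (𝔞 ^ k).map (algebraMap A B), u.toRingHom x = 0 := by
      intro x hx
      have h1 : (𝔞 ^ k).map (algebraMap A B) ≤ RingHom.ker u.toRingHom := by
        rw [Ideal.map_le_iff_le_comap]
        intro y hy
        change u (algebraMap A B y) = 0
        rw [u.commutes]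
        change Ideal.Quotient.mk J (algebraMap A C y) = 0
        rw [hk0 y hy, map_zero]
      exact h1 hx
    let u' : (B ⧸ (𝔞 ^ k).map (algebraMap A B)) →ₐ[A ⧸ 𝔞 ^ k] C ⧸ J :=
      { Ideal.Quotient.lift _ u.toRingHom hu0 with
        commutes' := fun a => by
          obtain ⟨a, rfl⟩ := Ideal.Quotient.mk_surjective a
          rw [halg]
          change u (algebraMap A B a) = _
          rw [u.commutes]
          rfl }
    obtain ⟨v, hv⟩ := h k C J hJ ⟨1, by simp⟩ u' ⟨l, fun x hx => by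
      rw [← Ideal.map_pow] at hx
      obtain ⟨y, hy, rfl⟩ := (Ideal.mem_map_iff_of_surjective _ Ideal.Quotient.mk_surjective).mp hx
      exact hl y hy⟩
    refine ⟨{ v.toRingHom.comp (Ideal.Quotient.mk _) with commutes' := fun a => ?_ }, ?_⟩
    · change v (Ideal.Quotient.mk _ (algebraMap A B a)) = _
      rw [← halg, v.commutes]
      rfl
    · ext x
      exact DFunLike.congr_fun hv (Ideal.Quotient.mk _ x)
end Groth.Agent.S4536
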