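import Groth.Statements.S4539
import Groth.Agent.Ega41.SepExt
import Groth.Agent.EGA41.K99.DvrPrinc
import Groth.Agent.EGA41.K99.NilpPow
import Mathlib.RingTheory.Flat.TorsionFree
import Mathlib.Data.ZMod.QuotientRing

set_option autoImplicit false
universe u
open EGA41

namespace Groth.Agent.S4539

open IsLocalRing in
/-- Let A be a local ring with residue characteristic p (p = 0 or a prime), P the prime local ring ℤ_(p)
(ℚ if p = 0) and P → A its unique local homomorphism. Then A is a Cohen ring, i.e. a Cohen P-algebra
— Noetherian and complete, flat over P, with pA its maximal ideal (and residue field separable over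
the prime field) — if and only if A is a field of characteristic 0 or a complete discrete valuation
ring of residue characteristic > 0 whose maximal ideal is generated by p·1. -/
theorem result (p : ℕ) [hp : (Ideal.span {(p : ℤ)}).IsPrime]
    {A : Type} [CommRing A] [IsLocalRing A] [CharP (ResidueField A) p]
    [Algebra (Localization.AtPrime (Ideal.span {(p : ℤ)})) A]
    [IsLocalHom (algebraMap (Localization.AtPrime (Ideal.span {(p : ℤ)})) A)] :
    EGA41.IsCohenAlgebra (Localization.AtPrime (Ideal.span {(p : ℤ)})) A ↔ EGA41.IsCohenRingEGA A := by
  set P := Localization.AtPrime (Ideal.span {(p : ℤ)}) with hPdef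
  have hmaxP : maximalIdeal P = Ideal.span {(p : P)} := by
    rw [← Localization.AtPrime.map_eq_maximalIdeal, Ideal.map_span, Set.image_singleton, map_natCast]
  have hmapA : (maximalIdeal P).map (algebraMap P A) = Ideal.span {(p : A)} := by
    rw [hmaxP, Ideal.map_span, Set.image_singleton, map_natCast]
  -- `p` lies in the maximal ideal of `A`
  have hpA : (p : A) ∈ maximalIdeal A := by
    rw [← residue_eq_zero_iff, map_natCast, CharP.cast_eq_zero]
  have hpprime : p = 0 ∨ p.Prime := by
    rcases CharP.char_is_prime_or_zero (ResidueField A) p with h | h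
    · exact Or.inr h
    · exact Or.inl h
  haveI hcharP : CharP (ResidueField P) p :=
    (RingHom.charP_iff (algebraMap (ResidueField P) (ResidueField A))
      (algebraMap (ResidueField P) (ResidueField A)).injective p).mpr inferInstance
  haveI hperf : PerfectField (ResidueField P) := by
    rcases hpprime with h | h
    · subst h
      haveI : CharZero (ResidueField P) := CharP.charP_to_charZero _
      infer_instance
    · haveI : (Ideal.span {(p : ℤ)}).IsMaximal := by
        refine (PrincipalIdealRing.isMaximal_of_irreducible ?_)
        exact (Nat.prime_iff_prime_int.mp h).irreducible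
      haveI : Finite (ℤ ⧸ Ideal.span {(p : ℤ)}) := by
        haveI : NeZero p := ⟨h.ne_zero⟩
        exact Finite.of_equiv _ (Int.quotientSpanNatEquivZMod p).symm.toEquiv
      haveI : Finite (ResidueField P) :=
        Finite.of_surjective _
          (Ideal.bijective_algebraMap_quotient_residueField (Ideal.span {(p : ℤ)})).2
      infer_instance
  have hgr : Algebra.IsGeometricallyReduced (ResidueField P) (ResidueField A) :=
    Groth.Agent.Ega41.SepExt.isGeometricallyReduced_of_perfectField _ _
  have hnoethP : IsNoetherianRing P := inferInstance
  haveI hcharzeroP : CharZero P := by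
    have h1 : Function.Injective (algebraMap ℤ P) :=
      IsLocalization.injective P (Ideal.span {(p : ℤ)}).primeCompl_le_nonZeroDivisors
    exact charZero_of_injective_algebraMap h1
  -- the converse part
  have key : ∀ (_ : IsDomain A) (_ : CharZero A) (_ : IsNoetherianRing A)
      (_ : IsAdicComplete (maximalIdeal A) A) (_ : maximalIdeal A = Ideal.span {(p : A)}),
      EGA41.IsCohenAlgebra P A := by
    intro hdom hc hnoeth hcomp hmax
    refine ⟨hnoethP, hnoeth, hcomp, ?_, hmapA.trans hmax.symm, hgr⟩
    haveI := IsScalarTower.of_algebraMap_eq (R := ℤ) (S := P) (A := A) (fun n => by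
      have h1 : algebraMap P A (algebraMap ℤ P n) = ((algebraMap P A).comp (algebraMap ℤ P)) n := rfl
      rw [h1, eq_intCast, eq_intCast])
    rw [Module.flat_iff_of_isLocalization P (Ideal.span {(p : ℤ)}).primeCompl]
    infer_instance
  constructor
  · rintro ⟨-, hA, hcomp, hflat, hmax, -⟩
    rw [hmapA] at hmax
    rcases hpprime with h | h
    · subst h
      refine Or.inl ⟨?_, ?_⟩
      · rw [IsLocalRing.isField_iff_maximalIdeal_eq, ← hmax]
        simp
      · haveI : CharZero (ResidueField A) := CharP.charP_to_charZero _
        exact ⟨fun a b hab => Nat.cast_injective (R := ResidueField A) (by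
          have := congrArg (residue A) hab
          simpa using this)⟩
    · -- `p` is a nonzerodivisor
      have hreg : IsSMulRegular A (p : P) := by
        refine Module.Flat.isSMulRegular_of_nonZeroDivisors ?_
        refine mem_nonZeroDivisors_of_ne_zero fun h0 => ?_
        exact h.ne_zero (Nat.cast_eq_zero.mp h0)
      have hnil : ¬ IsNilpotent (p : A) := by
        rintro ⟨n, hn⟩
        have h1 : IsSMulRegular A ((p : P) ^ n) := hreg.pow n
        have h2 : (p : P) ^ n • (1 : A) = (p : P) ^ n • (0 : A) := by
          rw [smul_zero, Algebra.smul_def, mul_one, map_pow, map_natCast, hn]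
        exact one_ne_zero (h1 h2)
      haveI := K99.DvrPrinc.isDomain hmax.symm hnil
      haveI := K99.DvrPrinc.isDiscreteValuationRing hmax.symm hnil
      exact Or.inr ⟨inferInstance, inferInstance, hcomp, p, h, hmax.symm⟩
  · rintro (⟨hf, hc⟩ | ⟨hdom, hdvr, hcomp, q, hq, hqmax⟩)
    · have hmbot : maximalIdeal A = ⊥ := IsLocalRing.isField_iff_maximalIdeal_eq.mp hf
      have hp0 : p = 0 := by
        rw [hmbot, Ideal.mem_bot] at hpA
        exact Nat.cast_eq_zero.mp hpA
      have hdom : IsDomain A := hf.isDomain
      refine key hdom hc (isNoetherianRing_iff_ideal_fg A |>.mpr fun I => ?_) ?_ ?_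
      · have := hf
        rcases eq_or_ne I ⊥ with h | h
        · rw [h]; exact Submodule.fg_bot
        · have : I = ⊤ := by
            obtain ⟨x, hx, hx0⟩ := Submodule.exists_mem_ne_zero_of_ne_bot h
            obtain ⟨y, hy⟩ := hf.mul_inv_cancel hx0
            rw [Ideal.eq_top_iff_one, ← hy]
            exact I.mul_mem_right _ hx
          rw [this]
          exact ⟨{1}, by simp⟩
      · exact K99.NilpPow.isAdicComplete_of_pow_eq_bot _ 1 (by rw [pow_one, hmbot]) A
      · rw [hmbot, hp0]
        simp
    · have hqres : (q : ResidueField A) = 0 := by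
        rw [← map_natCast (residue A), residue_eq_zero_iff, hqmax]
        exact Ideal.mem_span_singleton_self _
      have hpq : p = q := by
        have h1 : p ∣ q := (CharP.cast_eq_zero_iff (ResidueField A) p q).mp hqres
        rcases hpprime with h | h
        · rw [h, zero_dvd_iff] at h1
          exact absurd h1 hq.ne_zero
        · exact ((Nat.prime_dvd_prime_iff_eq h hq).mp h1)
      subst hpq
      refine key hdom ?_ inferInstance hcomp hqmax
      obtain ⟨c, hc⟩ := CharP.exists A
      have hcz : c = 0 := by
        by_contra hc0
        have hcp : c.Prime := (CharP.char_is_prime_or_zero A c).resolve_right hc0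
        have h1 : (c : ResidueField A) = 0 := by
          rw [← map_natCast (residue A), CharP.cast_eq_zero, map_zero]
        have h2 : p ∣ c := (CharP.cast_eq_zero_iff (ResidueField A) p c).mp h1
        have h3 : p = c := (Nat.prime_dvd_prime_iff_eq hq hcp).mp h2
        have h4 : (p : A) = 0 := by rw [h3, CharP.cast_eq_zero]
        apply IsDiscreteValuationRing.not_a_field A
        rw [hqmax, h4]
        simp
      subst hcz
      exact CharP.charP_to_charZero A

end Groth.Agent.S4539
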