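import Groth.Statements.S4540
import Groth.Agent.EGA41.K99.AdicBase
import Groth.Agent.EGA41.K99.ProjKaehler
import Groth.Agent.FlatA.NilpotentFree

set_option autoImplicit false
universe u
open EGA41

namespace Groth.Agent.S4540

open IsLocalRing TensorProduct in
/-- Let A, B be Noetherian local rings and A → B a local homomorphism making B a formally smooth
A-algebra for the adic topologies of the maximal ideals. Then for every ideal of definition 𝔟 of B,
the (B/𝔟)-module Ω_{B/A} ⊗_B (B/𝔟) is free. -/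
theorem result {A B : Type u} [CommRing A] [IsLocalRing A]
    [IsNoetherianRing A] [CommRing B] [IsLocalRing B] [IsNoetherianRing B] [Algebra A B] [IsLocalHom (algebraMap A B)]
    (h : EGA41.IsFormallySmoothAdic A (maximalIdeal A) B (maximalIdeal B))
    (𝔟 : Ideal B) (hle : 𝔟 ≤ maximalIdeal B) (hpow : ∃ k : ℕ, maximalIdeal B ^ k ≤ 𝔟) :
    Module.Free (B ⧸ 𝔟) ((B ⧸ 𝔟) ⊗[B] Ω[B⁄A]) := by
  have hAB : ∃ k : ℕ, ((maximalIdeal A) ^ k).map (algebraMap A B) ≤ maximalIdeal B :=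
    ⟨1, by
      rw [pow_one, Ideal.map_le_iff_le_comap]
      exact fun x hx => map_nonunit (algebraMap A B) x hx⟩
  have h' : CAlgX.IsAdicFormallySmooth A B (maximalIdeal B) :=
    (K99.AdicBase.iff_isAdicFormallySmooth hAB).mp h
  haveI : Module.Projective (B ⧸ 𝔟) ((B ⧸ 𝔟) ⊗[B] Ω[B⁄A]) := K99.ProjKaehler.projective_kaehler h' 𝔟 hpow
  haveI : Nontrivial (B ⧸ 𝔟) := Ideal.Quotient.nontrivial_iff.mpr
    (fun h0 => (maximalIdeal.isMaximal B).ne_top (top_le_iff.mp (h0 ▸ hle)))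
  haveI : IsLocalRing (B ⧸ 𝔟) :=
    IsLocalRing.of_surjective' (Ideal.Quotient.mk 𝔟) Ideal.Quotient.mk_surjective
  have hnil : IsNilpotent (maximalIdeal (B ⧸ 𝔟)) := by
    obtain ⟨k, hk⟩ := hpow
    refine ⟨k, ?_⟩
    have h1 : maximalIdeal (B ⧸ 𝔟) ≤ (maximalIdeal B).map (Ideal.Quotient.mk 𝔟) := by
      intro x hx
      obtain ⟨b, rfl⟩ := Ideal.Quotient.mk_surjective x
      refine Ideal.mem_map_of_mem _ ?_
      rw [mem_maximalIdeal] at hx ⊢
      exact fun hb => hx (hb.map (Ideal.Quotient.mk 𝔟))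
    rw [Ideal.zero_eq_bot, eq_bot_iff]
    refine (Ideal.pow_right_mono h1 k).trans ?_
    rw [← Ideal.map_pow]
    refine (Ideal.map_mono hk).trans ?_
    rw [Ideal.map_quotient_self]
  exact Groth.Agent.FlatA.NilpotentFree.free_of_flat_of_isNilpotent hnil

end Groth.Agent.S4540
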