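import Groth.Statements.S4542
import Groth.Agent.Ega41.FSAdic
import Groth.Agent.EGA41.K99.AdicTop

set_option autoImplicit false
universe u
open EGA41

namespace Groth.Agent.S4542

/-- Let B (𝔟-adic) be formally smooth over A (𝔞-adic); let C be a topological A-algebra for the 𝔠-adic
topology (a power of 𝔞 maps into 𝔠) which is complete, and J an ideal which is closed, i.e. C/J is
Hausdorff for the 𝔠-adic topology, and whose powers tend to 0, i.e. some power of J lies in 𝔠. Then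
every continuous A-algebra homomorphism u : B → C/J (a power of 𝔟 maps into the image of 𝔠) factors
as B → C → C/J with B → C a continuous A-algebra homomorphism (a power of 𝔟 maps into 𝔠). -/
theorem result {A B C : Type u} [CommRing A] [CommRing B] [CommRing C] [Algebra A B]
    [Algebra A C] (𝔞 : Ideal A) (𝔟 : Ideal B) (𝔠 : Ideal C) (hB : EGA41.IsFormallySmoothAdic A 𝔞 B 𝔟)
    [IsAdicComplete 𝔠 C] (hAC : ∃ k : ℕ, (𝔞 ^ k).map (algebraMap A C) ≤ 𝔠)
    (J : Ideal C) (hJ : ∃ t : ℕ, J ^ t ≤ 𝔠) [IsHausdorff (𝔠.map (Ideal.Quotient.mk J)) (C ⧸ J)]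
    (u : B →ₐ[A] C ⧸ J) (hu : ∃ k : ℕ, (𝔟 ^ k).map u.toRingHom ≤ 𝔠.map (Ideal.Quotient.mk J)) :
    ∃ v : B →ₐ[A] C, (∃ k : ℕ, (𝔟 ^ k).map v.toRingHom ≤ 𝔠) ∧ (Ideal.Quotient.mkₐ A J).comp v = u := by
  obtain ⟨k, hk⟩ := hAC
  obtain ⟨t, ht⟩ := hJ
  obtain ⟨l, hl⟩ := hu
  let m : Ideal C := 𝔠 ⊔ J
  have hcm : 𝔠 ≤ m := le_sup_left
  have hJm : J ≤ m := le_sup_right
  have hm : m ^ (1 + t) ≤ 𝔠 := by
    refine Ideal.sup_pow_add_le_pow_sup_pow.trans (sup_le ?_ ht)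
    rw [pow_one]
  haveI : IsAdicComplete m C := K99.AdicTop.isAdicComplete_of_pow_le hcm (1 + t) hm
  have hmap : m.map (Ideal.Quotient.mk J) = 𝔠.map (Ideal.Quotient.mk J) := by
    rw [Ideal.map_sup, Ideal.map_quotient_self, sup_bot_eq]
  haveI : IsHausdorff m (C ⧸ J) := by
    refine ⟨fun x hx => ?_⟩
    apply IsHausdorff.haus' (I := 𝔠.map (Ideal.Quotient.mk J)) (M := C ⧸ J) x
    intro n
    have h1 := hx n
    rw [SModEq.zero] at h1 ⊢
    have h2 : (m ^ n • ⊤ : Submodule C (C ⧸ J)) ≤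
        ((𝔠.map (Ideal.Quotient.mk J)) ^ n • ⊤ : Submodule (C ⧸ J) (C ⧸ J)).restrictScalars C := by
      rw [Submodule.smul_le]
      intro r hr y _
      rw [Submodule.restrictScalars_mem, Algebra.smul_def]
      refine Submodule.smul_mem_smul ?_ trivial
      rw [← hmap, ← Ideal.map_pow]
      exact Ideal.mem_map_of_mem _ hr
    exact h2 h1
  have hB' : EGA41.IsFormallySmoothAdic A (𝔞 ^ k) B (𝔟 ^ l) :=
    K99.AdicTop.isFormallySmoothAdic_congr hB ⟨k, le_rfl⟩ ⟨l, le_rfl⟩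
  obtain ⟨v, hv1, hv2⟩ := Groth.Agent.Ega41.FSAdic.exists_lift_of_isFormallySmoothAdic hB' m J hJm
    (hk.trans hcm) u (hl.trans hmap.ge)
  refine ⟨v, ⟨l * (1 + t), ?_⟩, hv2⟩
  rw [pow_mul, Ideal.map_pow]
  exact (Ideal.pow_right_mono hv1 _).trans hm

end Groth.Agent.S4542
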