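import Groth.Statements.S4543
import Groth.Agent.Ega41.FSAdic
import Groth.Agent.Ega41.FlatIso

set_option autoImplicit false
universe u
open EGA41

namespace Groth.Agent.S4543

open IsLocalRing in
/-- Let A be a Noetherian ring, J an ideal of A, B and B' two A-algebras which are Noetherian local
rings, the structure maps being continuous for the J-adic topology on A (JB and JB' lie in the
maximal ideals); suppose B and B' are complete for the J-adic topologies, B is a formally smooth
A-algebra for the J-adic topology on A and the JB-adic topology on B (nilpotent test ideals, test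
algebras killed by a power of J, test maps killing a power of JB), and B' is a flat A-module. Then
every (A/J)-algebra isomorphism u₀ : B/JB ≅ B'/JB' comes from an A-algebra isomorphism u : B ≅ B' by
passing to quotients. (B is taken formally smooth for the JB-adic topology, the topology along which
the argument lifts B → B'/JB' to B'; read with the convention that a local ring carries the adic
topology of its maximal ideal, the published hypothesis would be formal smoothness for the
maximal-ideal topology on B, a weaker condition when JB is strictly smaller than the maximal ideal,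
and that reading is not what the argument establishes.) -/
theorem result {A B B' : Type u} [CommRing A] [IsNoetherianRing A] (J : Ideal A)
    [CommRing B] [IsLocalRing B] [IsNoetherianRing B] [Algebra A B]
    [CommRing B'] [IsLocalRing B'] [IsNoetherianRing B'] [Algebra A B']
    (hB : J.map (algebraMap A B) ≤ maximalIdeal B) (hB' : J.map (algebraMap A B') ≤ maximalIdeal B')
    [IsAdicComplete (J.map (algebraMap A B)) B] [IsAdicComplete (J.map (algebraMap A B')) B']
    (hfs : EGA41.IsFormallySmoothAdic A J B (J.map (algebraMap A B))) [Module.Flat A B']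
    (u₀ : (B ⧸ J.map (algebraMap A B)) ≃ₐ[A ⧸ J] (B' ⧸ J.map (algebraMap A B'))) :
    ∃ u : B ≃ₐ[A] B', ∀ b : B,
      Ideal.Quotient.mk (J.map (algebraMap A B')) (u b) = u₀ (Ideal.Quotient.mk (J.map (algebraMap A B)) b) := by
  let JB := J.map (algebraMap A B)
  let JB' := J.map (algebraMap A B')
  haveI : IsHausdorff JB' (B' ⧸ JB') := by
    refine ⟨fun x hx => ?_⟩
    have h1 := hx 1
    rw [SModEq.zero, pow_one] at h1
    have h2 : (JB' • ⊤ : Submodule B' (B' ⧸ JB')) ≤ ⊥ := by
      rw [Submodule.smul_le]
      intro r hr y _
      obtain ⟨y, rfl⟩ := Ideal.Quotient.mk_surjective y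
      rw [Submodule.mem_bot, Algebra.smul_def, Ideal.Quotient.algebraMap_eq,
        Ideal.Quotient.eq_zero_iff_mem.mpr hr, zero_mul]
    exact (Submodule.mem_bot B').mp (h2 h1)
  let e : B →ₐ[A] B' ⧸ JB' :=
    ((u₀.restrictScalars A : (B ⧸ JB) ≃ₐ[A] (B' ⧸ JB')) : (B ⧸ JB) →ₐ[A] (B' ⧸ JB')).comp
      (Ideal.Quotient.mkₐ A JB)
  have he : ∀ b, e b = u₀ (Ideal.Quotient.mk JB b) := fun b => rfl
  obtain ⟨v, hv1, hv2⟩ := Groth.Agent.Ega41.FSAdic.exists_lift_of_isFormallySmoothAdic hfs JB' JB' le_rfl
    le_rfl e (by
      rw [Ideal.map_le_iff_le_comap]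
      intro b hb
      change e b ∈ JB'.map (Ideal.Quotient.mk JB')
      rw [he, Ideal.Quotient.eq_zero_iff_mem.mpr hb, map_zero]
      exact zero_mem _)
  have hv : ∀ b, Ideal.Quotient.mk JB' (v b) = u₀ (Ideal.Quotient.mk JB b) := fun b =>
    AlgHom.congr_fun hv2 b
  have hbij : Function.Bijective v := by
    refine Groth.Agent.Ega41.FlatIso.bijective_of_flat J v (fun c => ?_) (fun x hx => ?_)
    · obtain ⟨b, hb⟩ := Ideal.Quotient.mk_surjective (u₀.symm (Ideal.Quotient.mk JB' c))
      refine ⟨b, ?_⟩
      rw [← Ideal.Quotient.eq]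
      change Ideal.Quotient.mk JB' (v b) = Ideal.Quotient.mk JB' c
      rw [hv, hb, AlgEquiv.apply_symm_apply]
    · have h1 : Ideal.Quotient.mk JB' (v x) = 0 := Ideal.Quotient.eq_zero_iff_mem.mpr hx
      rw [hv] at h1
      have h2 : Ideal.Quotient.mk JB x = 0 := by
        rw [← map_zero u₀] at h1
        exact u₀.injective h1
      exact Ideal.Quotient.eq_zero_iff_mem.mp h2
  exact ⟨AlgEquiv.ofBijective v hbij, hv⟩

end Groth.Agent.S4543
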