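import Groth.Statements.S4545
import Groth.Agent.EGA41.K99.ImpAdm
import Mathlib.FieldTheory.IsAlgClosed.AlgebraicClosure

set_option autoImplicit false
universe u
open EGA41

namespace Groth.Agent.S4545

open TensorProduct in
/-- Let K be a field of characteristic p > 0, k₀ a subfield and (k_α) a decreasing filtered family of
subfields of K containing k₀. Then ⋂_α k_α(K^p) = k₀(K^p) if and only if for every extension L of K
such that Υ_{L/K/k₀} has finite rank over L there is an α with k_α admissible for L over K relative
to k₀, i.e. with Υ_{L/K/k₀} → Υ_{L/K/k_α} injective. (The published statement has two further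
equivalent conditions; this row states (a) ⇔ (b).) -/
theorem result (p : ℕ) [Fact p.Prime] {k₀ K : Type u}
    [Field k₀] [Field K] [Algebra k₀ K] [CharP K p]
    {ι : Type u} [Preorder ι] [IsDirected ι (· ≤ ·)] [Nonempty ι] (k : ι → IntermediateField k₀ K) (hk : Antitone k) :
    (⨅ i, k i ⊔ IntermediateField.adjoin k₀ (Set.range fun y : K => y ^ p)) =
        IntermediateField.adjoin k₀ (Set.range fun y : K => y ^ p) ↔
      ∀ (L : Type u) [Field L] [Algebra K L] [Algebra k₀ L] [IsScalarTower k₀ K L],
        Module.Finite L (EGA41.imperfection k₀ K L) →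
          ∃ i, ∀ ω ∈ EGA41.imperfection k₀ K L,
            ((KaehlerDifferential.map k₀ (k i) K K).restrictScalars K).baseChange L ω = 0 → ω = 0 := by
  constructor
  · intro ha L _ _ _ _ hfin
    exact K99.ImpAdm.exists_admissible k hk ((Groth.Agent.S2475.result p k hk).mp ha) L
      (EGA41.imperfection k₀ K L)
  · intro hb
    apply le_antisymm _ (le_iInf fun i => le_sup_right)
    intro x hx
    rw [← SetLike.mem_coe, IntermediateField.coe_iInf, Set.mem_iInter] at hx
    rw [Groth.Agent.S2475.mem_adjoin_iff p, ← Groth.Agent.Ega41.PBasisField.D_eq_zero_iff p]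
    obtain ⟨y, hy⟩ := IsAlgClosed.exists_pow_nat_eq (algebraMap K (AlgebraicClosure K) x)
      (Fact.out : p.Prime).pos
    have hint : IsIntegral K y := Algebra.IsIntegral.isIntegral y
    let L := IntermediateField.adjoin K {y}
    haveI : FiniteDimensional K L := IntermediateField.adjoin.finiteDimensional hint
    haveI : CharP L p := charP_of_injective_algebraMap (algebraMap K L).injective p
    have hfin : Module.Finite L (EGA41.imperfection k₀ K L) := K99.ImpAdm.finite_imperfection L
    obtain ⟨i, hi⟩ := hb L hfin
    let yL : L := ⟨y, IntermediateField.mem_adjoin_simple_self K y⟩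
    have hyL : yL ^ p = algebraMap K L x := Subtype.ext hy
    have h1 : (1 : L) ⊗ₜ[K] KaehlerDifferential.D k₀ K x = 0 := by
      refine hi _ ?_ ?_
      · change KaehlerDifferential.mapBaseChange k₀ K L ((1 : L) ⊗ₜ[K] KaehlerDifferential.D k₀ K x) = 0
        rw [KaehlerDifferential.mapBaseChange_tmul, one_smul, KaehlerDifferential.map_D, ← hyL,
          Derivation.leibniz_pow, ← Nat.cast_smul_eq_nsmul L, CharP.cast_eq_zero, zero_smul]
      · have h2 : KaehlerDifferential.D (k i) K x = 0 := by
          rw [Groth.Agent.Ega41.PBasisField.D_eq_zero_iff p, ← Groth.Agent.S2475.mem_sup_iff p]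
          exact hx i
        rw [LinearMap.baseChange_tmul]
        change (1 : L) ⊗ₜ[K] (KaehlerDifferential.map k₀ (k i) K K (KaehlerDifferential.D k₀ K x)) = 0
        rw [KaehlerDifferential.map_D]
        change (1 : L) ⊗ₜ[K] (KaehlerDifferential.D (k i) K x) = 0
        rw [h2, TensorProduct.tmul_zero]
    have hinj := K99.ImpLin.baseChange_injective (L := L)
      (LinearMap.toSpanSingleton K (Ω[K⁄k₀]) (KaehlerDifferential.D k₀ K x))
    by_contra hne
    have h3 : Function.Injective (LinearMap.toSpanSingleton K (Ω[K⁄k₀]) (KaehlerDifferential.D k₀ K x)) := by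
      rw [← LinearMap.ker_eq_bot]
      exact LinearMap.ker_toSpanSingleton K hne
    have h4 : (1 : L) ⊗ₜ[K] (1 : K) = 0 := by
      apply hinj h3
      rw [map_zero, LinearMap.baseChange_tmul, LinearMap.toSpanSingleton_apply, one_smul]
      exact h1
    have h5 := congrArg (TensorProduct.rid K L) h4
    rw [TensorProduct.rid_tmul, one_smul, map_zero] at h5
    exact one_ne_zero h5

end Groth.Agent.S4545
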