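import Groth.Statements.S4546
import Groth.Agent.EGA41.K99.ImpAdm

set_option autoImplicit false
universe u
open EGA41 TensorProduct

namespace Groth.Agent.S4546

/-- Let K be a field of characteristic p > 0, k₀ a subfield, (k_α) a decreasing filtered family of
subfields of K containing k₀ with ⋂_α k_α(K^p) = k₀(K^p). Then for every extension L of K such that
Υ_{L/K/k₀} has finite rank over L, one has ⋂_α k_α(L^p) = k₀(L^p) (the k_α being viewed inside L). -/
theorem result (p : ℕ) [Fact p.Prime] {k₀ K L : Type u}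
    [Field k₀] [Field K] [Field L] [Algebra k₀ K] [Algebra K L] [Algebra k₀ L] [IsScalarTower k₀ K L] [CharP K p] [CharP L p]
    {ι : Type u} [Preorder ι] [IsDirected ι (· ≤ ·)] [Nonempty ι] (k : ι → IntermediateField k₀ K) (hk : Antitone k)
    (h : (⨅ i, k i ⊔ IntermediateField.adjoin k₀ (Set.range fun y : K => y ^ p)) =
      IntermediateField.adjoin k₀ (Set.range fun y : K => y ^ p))
    [Module.Finite L (EGA41.imperfection k₀ K L)] :
    (⨅ i, (k i).map (IsScalarTower.toAlgHom k₀ K L) ⊔ IntermediateField.adjoin k₀ (Set.range fun y : L => y ^ p)) =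
      IntermediateField.adjoin k₀ (Set.range fun y : L => y ^ p) := by
  let k' : ι → IntermediateField k₀ L := fun i => (k i).map (IsScalarTower.toAlgHom k₀ K L)
  have hk' : Antitone k' := fun i j hij => IntermediateField.map_mono _ (hk hij)
  refine (Groth.Agent.S2475.result p k' hk').2 ?_
  intro ω hω
  have hmem : ∀ i, ω ∈ Submodule.span L (Set.range fun s : k i =>
      KaehlerDifferential.D k₀ L (algebraMap (k i) L s)) := by
    intro i
    have h1 := (K99.ImpLin.map_eq_zero_iff k₀ (k' i) L ω).1 (hω i)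
    refine Submodule.span_mono ?_ h1
    rintro _ ⟨⟨s, hs⟩, rfl⟩
    obtain ⟨t, ht, rfl⟩ := hs
    exact ⟨⟨t, ht⟩, rfl⟩
  have hω' : ∀ i, KaehlerDifferential.map k₀ (k i) L L ω = 0 := fun i =>
    (K99.ImpLin.map_eq_zero_iff k₀ (k i) L ω).2 (hmem i)
  have hK : KaehlerDifferential.map k₀ K L L ω = 0 := by
    rw [K99.ImpLin.map_eq_zero_iff k₀ K L]
    obtain ⟨i⟩ := (inferInstance : Nonempty ι)
    refine Submodule.span_mono ?_ (hmem i)
    rintro _ ⟨s, rfl⟩
    exact ⟨(s : K), rfl⟩
  obtain ⟨ξ, rfl⟩ := (KaehlerDifferential.exact_mapBaseChange_map k₀ K L _).1 hK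
  have hsepK := (Groth.Agent.S2475.result p k hk).mp h
  let f := fun i => (KaehlerDifferential.map k₀ (k i) K K).restrictScalars K
  have hanti : Antitone fun i => LinearMap.ker (f i) := K99.ImpAdm.ker_antitone k hk
  obtain ⟨i₀, hi₀⟩ := K99.ImpAdm.exists_admissible k hk hsepK L (EGA41.imperfection k₀ K L)
  have hη : ∀ i, ∃ η : L ⊗[K] Ω[K⁄k₀], KaehlerDifferential.mapBaseChange k₀ K L η = 0 ∧
      (f i).baseChange L η = (f i).baseChange L ξ := by
    intro i
    apply K99.ImpTower.imperfection_surjective k₀ (k i) K L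
    have h2 := K99.ImpTower.map_mapBaseChange k₀ (k i) K L ξ
    rw [hω' i] at h2
    exact h2.symm
  choose η hη0 hηf using hη
  have hstab : ∀ j, i₀ ≤ j → η j = η i₀ := by
    intro j hj
    have h3 : η j - η i₀ = 0 := by
      apply hi₀
      · change KaehlerDifferential.mapBaseChange k₀ K L (η j - η i₀) = 0
        rw [map_sub, hη0, hη0, sub_zero]
      · have h4 : (f j).baseChange L (η j - ξ) = 0 := by
          rw [map_sub, hηf, sub_self]
        have h5 := K99.ImpLin.ker_baseChange_le (f j) (f i₀) (hanti hj) _ h4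
        change (f i₀).baseChange L (η j - η i₀) = 0
        rw [map_sub, hηf i₀, ← map_sub]
        exact h5
    exact sub_eq_zero.1 h3
  have h6 : η i₀ - ξ = 0 := by
    apply K99.ImpLin.eq_zero_of_forall_baseChange f hanti hsepK
    intro i
    obtain ⟨j, hj₀, hij⟩ := exists_ge_ge i₀ i
    apply K99.ImpLin.ker_baseChange_le (f j) (f i) (hanti hij)
    rw [← hstab j hj₀, map_sub, hηf, sub_self]
  rw [← sub_eq_zero.1 h6]
  exact hη0 i₀

end Groth.Agent.S4546
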