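import Groth.Statements.S4547
import Groth.Agent.Ega41.SplitSpread

set_option autoImplicit false
universe u
open EGA41

namespace Groth.Agent.S4547

open IsLocalRing TensorProduct in
/-- Let A be a local ring with residue field k, M an A-module of finite type, N a projective A-module
and u : M → N a homomorphism. Then u is left invertible if and only if there is a finite system of
generators (x_i) of M such that the elements 1 ⊗ u(x_i) of k ⊗_A N are linearly independent over k;
and such a system (x_i) is then a basis of M. -/
theorem result {A : Type u} [CommRing A] [IsLocalRing A] {M N : Type u}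
    [AddCommGroup M] [Module A M] [Module.Finite A M] [AddCommGroup N] [Module A N] [Module.Projective A N]
    (u : M →ₗ[A] N) :
    ((∃ w : N →ₗ[A] M, w ∘ₗ u = LinearMap.id) ↔
      ∃ (m : ℕ) (x : Fin m → M), Submodule.span A (Set.range x) = ⊤ ∧
        LinearIndependent (ResidueField A) (fun i => (1 : ResidueField A) ⊗ₜ[A] u (x i))) ∧
    ∀ (m : ℕ) (x : Fin m → M), Submodule.span A (Set.range x) = ⊤ →
      LinearIndependent (ResidueField A) (fun i => (1 : ResidueField A) ⊗ₜ[A] u (x i)) →
        ∃ b : Module.Basis (Fin m) A M, ∀ i, b i = x i := by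
  have key : ∀ (m : ℕ) (x : Fin m → M), Submodule.span A (Set.range x) = ⊤ →
      LinearIndependent (ResidueField A) (fun i => (1 : ResidueField A) ⊗ₜ[A] u (x i)) →
        (∃ b : Module.Basis (Fin m) A M, ∀ i, b i = x i) ∧ ∃ w : N →ₗ[A] M, w ∘ₗ u = LinearMap.id := by
    intro m x hx hli
    classical
    obtain ⟨G, hG⟩ := Groth.Agent.Ega41.SplitSpread.exists_functionals (ResidueField A) (fun i => u (x i)) hli
    let D : Matrix (Fin m) (Fin m) A := Matrix.of fun k i => G k (u (x i))
    have hD : IsUnit D.det := by
      have h1 : (algebraMap A (ResidueField A)) D.det ≠ 0 := by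
        rw [RingHom.map_det]
        exact hG
      by_contra h2
      exact h1 ((residue_eq_zero_iff D.det).mpr ((mem_maximalIdeal _).mpr h2))
    let g : N →ₗ[A] (Fin m → A) := LinearMap.pi G
    let T : (Fin m → A) →ₗ[A] M := Fintype.linearCombination A x
    have hT : ∀ i, T (Pi.single i 1) = x i := fun i => by
      simp [T, Fintype.linearCombination_apply_single]
    have hcomp : g ∘ₗ u ∘ₗ T = Matrix.toLin' D := by
      refine LinearMap.pi_ext' fun i => LinearMap.ext_ring ?_
      simp only [LinearMap.comp_apply, LinearMap.coe_single, hT, Matrix.toLin'_apply,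
        Matrix.mulVec_single_one]
      rfl
    let E : (Fin m → A) →ₗ[A] (Fin m → A) := Matrix.toLin' D⁻¹
    have hE : ∀ a, E (g (u (T a))) = a := by
      intro a
      have h1 : g (u (T a)) = Matrix.toLin' D a := LinearMap.congr_fun hcomp a
      rw [h1]
      change Matrix.toLin' D⁻¹ (Matrix.toLin' D a) = a
      rw [← LinearMap.comp_apply, ← Matrix.toLin'_mul, Matrix.nonsing_inv_mul D hD, Matrix.toLin'_one]
      rfl
    have hTsurj : Function.Surjective T := by
      rw [← LinearMap.range_eq_top, Fintype.range_linearCombination, hx]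
    have hTinj : Function.Injective T := by
      intro a a' h
      rw [← hE a, ← hE a', h]
    refine ⟨⟨Module.Basis.ofEquivFun (LinearEquiv.ofBijective T ⟨hTinj, hTsurj⟩).symm, fun i => ?_⟩,
      T ∘ₗ E ∘ₗ g, LinearMap.ext fun y => ?_⟩
    · rw [Module.Basis.coe_ofEquivFun]
      exact hT i
    · obtain ⟨a, rfl⟩ := hTsurj y
      exact congrArg T (hE a)
  refine ⟨⟨?_, ?_⟩, ?_⟩
  · rintro ⟨w, hw⟩
    haveI : Module.Projective A M := Module.Projective.of_split u w hw
    haveI : Module.Free A M := Module.free_of_flat_of_isLocalRing
    let b := (Module.Free.chooseBasis A M).reindex (Fintype.equivFin _)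
    refine ⟨_, b, b.span_eq, ?_⟩
    have hli := (b.baseChange (ResidueField A)).linearIndependent
    have hinj : LinearMap.ker (u.baseChange (ResidueField A)) = ⊥ := by
      rw [LinearMap.ker_eq_bot]
      refine Function.LeftInverse.injective (g := w.baseChange (ResidueField A)) fun y => ?_
      rw [← LinearMap.comp_apply, ← LinearMap.baseChange_comp, hw, LinearMap.baseChange_id]
      rfl
    have h := hli.map' _ hinj
    have heq : (fun i => (1 : ResidueField A) ⊗ₜ[A] u (b i)) =
        (u.baseChange (ResidueField A)) ∘ (b.baseChange (ResidueField A)) := by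
      funext i
      simp
    rw [heq]
    exact h
  · rintro ⟨m, x, hx, hli⟩
    exact (key m x hx hli).2
  · intro m x hx hli
    exact (key m x hx hli).1

end Groth.Agent.S4547
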