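import Groth.Statements.S4548
import Groth.Agent.EGA41.K99.PFamily

set_option autoImplicit false
universe u
open EGA41

namespace Groth.Agent.S4548

/-- Let k be a field of characteristic p > 0, A = k[[T_1, …, T_r]] and K its field of fractions. Then
there is a decreasing filtered family (A_α) of Noetherian subrings of A (rendered: a nonempty
family, directed downwards for inclusion) such that A is a free A_α-module of finite type for every
α and, K_α denoting the subfield of K generated by A_α (its field of fractions inside K), ⋂_α K_α =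
K^p. -/
theorem result (p : ℕ) [Fact p.Prime] (k : Type u) [Field k] [CharP k p]
    (r : ℕ) :
    ∃ (ι : Type u) (_ : Nonempty ι) (S : ι → Subring (MvPowerSeries (Fin r) k)),
      (∀ a b : ι, ∃ c, S c ≤ S a ⊓ S b) ∧
      (∀ i, IsNoetherianRing (S i) ∧ Module.Free (S i) (MvPowerSeries (Fin r) k) ∧ Module.Finite (S i) (MvPowerSeries (Fin r) k)) ∧
      ((⨅ i, Subfield.closure (algebraMap (MvPowerSeries (Fin r) k) (FractionRing (MvPowerSeries (Fin r) k)) '' (S i)) :
          Set (FractionRing (MvPowerSeries (Fin r) k)))) =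
        Set.range fun x : FractionRing (MvPowerSeries (Fin r) k) => x ^ p := by
  haveI : IsDomain (MvPowerSeries (Fin r) k) := NoZeroDivisors.to_isDomain _
  haveI : ExpChar k p := ExpChar.prime Fact.out
  haveI : CharP (MvPowerSeries (Fin r) k) p :=
    charP_of_injective_algebraMap (algebraMap k (MvPowerSeries (Fin r) k)).injective p
  haveI : CharP (FractionRing (MvPowerSeries (Fin r) k)) p :=
    charP_of_injective_algebraMap (IsFractionRing.injective (MvPowerSeries (Fin r) k)
      (FractionRing (MvPowerSeries (Fin r) k))) p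
  haveI : ExpChar (MvPowerSeries (Fin r) k) p := ExpChar.prime Fact.out
  haveI : ExpChar (FractionRing (MvPowerSeries (Fin r) k)) p := ExpChar.prime Fact.out
  have hp0 : p ≠ 0 := (Fact.out : p.Prime).ne_zero
  obtain ⟨ι, hι, F, hdir, hfin, hpow, hinf⟩ := K99.PFamily.exists_family p k
  have hpowS : ∀ i (f : MvPowerSeries (Fin r) k), f ^ p ∈ K99.PSpBasis.sub p hp0 (F i) r := by
    intro i f
    rw [← MvPowerSeries.map_frobenius_expand p hp0, MvPowerSeries.map_expand]
    refine K99.PSpBasis.expand_mem p hp0 (F i) _ (fun n => ?_)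
    rw [MvPowerSeries.coeff_map]
    exact hpow i _
  refine ⟨ι, hι, fun i => K99.PSpBasis.sub p hp0 (F i) r, ?_, ?_, ?_⟩
  · intro a b
    obtain ⟨c, hc⟩ := hdir a b
    refine ⟨c, le_inf (fun f hf => ⟨fun n => ?_, hf.2⟩) (fun f hf => ⟨fun n => ?_, hf.2⟩)⟩
    · exact (hc (hf.1 n)).1
    · exact (hc (hf.1 n)).2
  · intro i
    haveI := hfin i
    let b := Module.Free.chooseBasis (F i) k
    let B := K99.PSpBasis.basis (r := r) p hp0 b
    exact ⟨K99.PSpBasis.isNoetherianRing_sub p hp0 (F i), Module.Free.of_basis B,
      Module.Finite.of_basis B⟩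
  · choose ρ hρ using fun i => K99.FracInter.exists_retraction (F i)
    have key := K99.FracInter.iInf_closure_eq (K := FractionRing (MvPowerSeries (Fin r) k))
      (fun i => K99.PSpBasis.sub p hp0 (F i) r) (frobenius (MvPowerSeries (Fin r) k) p).range
      (fun i => K99.PSpBasis.retr p hp0 (F i) (ρ i))
      (fun i => K99.PSpBasis.retr_mem p hp0 (F i) (ρ i))
      (fun i => K99.PSpBasis.retr_eq p hp0 (F i) (ρ i) (hρ i))
      (fun i => K99.PSpBasis.retr_mul p hp0 (F i) (ρ i)) ?_ ?_ p (Nat.pos_of_ne_zero hp0)
      (fun f => RingHom.mem_range.2 ⟨f, rfl⟩)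
    · rw [Set.iInf_eq_iInter, ← Subfield.coe_iInf, key]
      apply le_antisymm
      · have hle : Subfield.closure (algebraMap (MvPowerSeries (Fin r) k)
            (FractionRing (MvPowerSeries (Fin r) k)) ''
              ((frobenius (MvPowerSeries (Fin r) k) p).range : Set (MvPowerSeries (Fin r) k))) ≤
            (frobenius (FractionRing (MvPowerSeries (Fin r) k)) p).fieldRange := by
          rw [Subfield.closure_le]
          rintro _ ⟨_, ⟨f, rfl⟩, rfl⟩
          exact ⟨algebraMap _ _ f, (map_pow (algebraMap _ _) f p).symm⟩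
        intro z hz
        exact hle hz
      · rintro _ ⟨z, rfl⟩
        obtain ⟨g, f, hf, rfl⟩ := IsFractionRing.div_surjective (A := MvPowerSeries (Fin r) k) z
        change (_ / _) ^ p ∈ Subfield.closure _
        rw [div_pow, ← map_pow, ← map_pow]
        exact div_mem (K99.FracInter.mem_closure _ _ ⟨g, rfl⟩) (K99.FracInter.mem_closure _ _ ⟨f, rfl⟩)
    · rintro i _ ⟨f, rfl⟩
      exact hpowS i f
    · intro f hf
      obtain ⟨i₀⟩ := hι
      obtain ⟨g, hg, rfl⟩ := K99.PSpBasis.exists_of_mem p hp0 (F i₀) f (hf i₀)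
      have h1 : ∀ n, ∃ y, y ^ p = MvPowerSeries.coeff n g := by
        intro n
        apply hinf
        intro i
        have := (hf i).1 (p • n)
        rwa [MvPowerSeries.coeff_expand_smul] at this
      choose y hy using h1
      refine ⟨(fun n => y n : MvPowerSeries (Fin r) k), ?_⟩
      rw [frobenius_def, ← MvPowerSeries.map_frobenius_expand p hp0, MvPowerSeries.map_expand]
      congr 1
      ext n
      rw [MvPowerSeries.coeff_map, ← hy n]
      rfl

end Groth.Agent.S4548
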