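import Groth.Statements.S4549
import Groth.Agent.EGA41.K99.ImpCut

set_option autoImplicit false
universe u
open EGA41

namespace Groth.Agent.S4549

open TensorProduct in
/-- Let K be a field of characteristic p, k₀ a subfield and L an extension of K such that Υ_{L/K/k₀} has
finite rank over L. Then there is a subfield k of K containing k₀(K^p), with [K : k] finite, which
is k₀-admissible for the extension L of K, i.e. such that Υ_{L/K/k₀} → Υ_{L/K/k} is injective. (The
published statement uses the characteristic exponent and so also covers characteristic 0, where k =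
K works; this row treats characteristic p > 0.) -/
theorem result (p : ℕ) [Fact p.Prime] {k₀ K L : Type u} [Field k₀] [Field K] [Field L]
    [Algebra k₀ K] [Algebra K L] [Algebra k₀ L] [IsScalarTower k₀ K L] [CharP K p]
    [Module.Finite L (EGA41.imperfection k₀ K L)] :
    ∃ k : IntermediateField k₀ K, (∀ y : K, y ^ p ∈ k) ∧ Module.Finite k K ∧
      ∀ ω ∈ EGA41.imperfection k₀ K L,
        ((KaehlerDifferential.map k₀ k K K).restrictScalars K).baseChange L ω = 0 → ω = 0 := by
  obtain ⟨W, hW, hUW⟩ := K99.ImpLin.exists_finite_submodule (K := K) (EGA41.imperfection k₀ K L)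
  obtain ⟨ι, x, b, hb⟩ := K99.ImpCut.exists_basis_D k₀ K
  obtain ⟨S, hS, hWS⟩ := K99.ImpCut.exists_finite_le_span b W (Module.Finite.iff_fg.1 hW)
  have hspan : Submodule.span K (Set.range fun i => KaehlerDifferential.D k₀ K (x i)) = ⊤ := by
    rw [← b.span_eq]
    congr 2
    funext i
    exact (hb i).symm
  refine ⟨K99.ImpCut.cut p k₀ x S, K99.ImpCut.pow_mem_cut p x S,
    K99.ImpCut.finite_cut p x S hS hspan, ?_⟩
  intro ω hω h0
  obtain ⟨y, rfl⟩ := hUW hω
  have hbx : (fun i => KaehlerDifferential.D k₀ K (x i)) = b := by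
    funext i; exact (hb i).symm
  have hdisj : Disjoint (Submodule.span K (b '' S)) (Submodule.span K (b '' Sᶜ)) :=
    b.linearIndependent.disjoint_span_image disjoint_compl_right
  let f := (KaehlerDifferential.map k₀ (K99.ImpCut.cut p k₀ x S) K K).restrictScalars K
  have hinj : Function.Injective (f ∘ₗ W.subtype) := by
    rw [← LinearMap.ker_eq_bot, eq_bot_iff]
    intro v hv
    have h1 : (v : Ω[K⁄k₀]) ∈ Submodule.span K (b '' Sᶜ) := by
      rw [← hbx]
      exact K99.ImpCut.ker_map_cut_le p x S (v : Ω[K⁄k₀]) hv
    have h2 : (v : Ω[K⁄k₀]) = 0 := Submodule.disjoint_def.1 hdisj _ (hWS v.2) h1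
    rw [Submodule.mem_bot]
    exact Subtype.ext h2
  have h2 : (f ∘ₗ W.subtype).baseChange L y = 0 := by
    rw [LinearMap.baseChange_comp, LinearMap.comp_apply]
    exact h0
  have h3 : y = 0 := by
    apply K99.ImpLin.baseChange_injective _ hinj
    rw [h2, map_zero]
  rw [h3, map_zero]

end Groth.Agent.S4549
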