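import Groth.Statements.S4555
import Groth.Agent.Ega41.PowEval
import Groth.Agent.Ega41.MvPS
import Groth.Agent.EGA41.K99.NilpPow

set_option autoImplicit false
universe u
open EGA41

namespace Groth.Agent.S4555

/-- Let A carry the 𝔞-adic topology, B = A[[T_1, …, T_n]] the product topology (the adic topology of 𝔞B
+ (T_1, …, T_n)), and let E be a discrete topological A-algebra (a power of 𝔞 kills E). (i) If f : B
→ E is a continuous A-algebra homomorphism then each f(T_i) is nilpotent. (ii) Conversely, for every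
family (z_i) of nilpotent elements of E there is one and only one continuous A-algebra homomorphism
g : B → E with g(T_i) = z_i for all i. -/
theorem result (A : Type u) [CommRing A] (𝔞 : Ideal A) (n : ℕ) (E : Type u) [CommRing E]
    [Algebra A E] (hE : ∃ k : ℕ, (𝔞 ^ k).map (algebraMap A E) = ⊥) :
    (∀ f : MvPowerSeries (Fin n) A →ₐ[A] E,
      (∃ m : ℕ, ∀ x ∈ (𝔞.map (MvPowerSeries.C : A →+* MvPowerSeries (Fin n) A) ⊔
        RingHom.ker (MvPowerSeries.constantCoeff : MvPowerSeries (Fin n) A →+* A)) ^ m, f x = 0) →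
      ∀ i, IsNilpotent (f (MvPowerSeries.X i))) ∧
    ∀ z : Fin n → E, (∀ i, IsNilpotent (z i)) →
      ∃! g : MvPowerSeries (Fin n) A →ₐ[A] E,
        (∃ m : ℕ, ∀ x ∈ (𝔞.map (MvPowerSeries.C : A →+* MvPowerSeries (Fin n) A) ⊔
          RingHom.ker (MvPowerSeries.constantCoeff : MvPowerSeries (Fin n) A →+* A)) ^ m, g x = 0) ∧
        ∀ i, g (MvPowerSeries.X i) = z i := by
  set 𝔐 : Ideal (MvPowerSeries (Fin n) A) := 𝔞.map (MvPowerSeries.C : A →+* MvPowerSeries (Fin n) A) ⊔
        RingHom.ker (MvPowerSeries.constantCoeff : MvPowerSeries (Fin n) A →+* A) with h𝔐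
  have hV : Groth.Agent.Ega41.MvPS.varIdeal (Fin n) A ≤ 𝔐 := by
    rw [Groth.Agent.Ega41.MvPS.varIdeal_eq_ker]
    exact le_sup_right
  refine ⟨?_, ?_⟩
  · rintro f ⟨m, hm⟩ i
    refine ⟨m, ?_⟩
    rw [← map_pow]
    exact hm _ (Ideal.pow_mem_pow (hV (Ideal.subset_span ⟨i, rfl⟩)) m)
  · intro z hz
    obtain ⟨N, hN⟩ := K99.NilpPow.isNilpotent_span_range z hz
    obtain ⟨k, hk⟩ := hE
    haveI : IsAdicComplete (Ideal.span (Set.range z)) E :=
      K99.NilpPow.isAdicComplete_of_pow_eq_bot _ N hN E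
    have hz' : ∀ i, z i ∈ Ideal.span (Set.range z) := fun i => Ideal.subset_span ⟨i, rfl⟩
    let g : MvPowerSeries (Fin n) A →ₐ[A] E :=
      Groth.Agent.Ega41.PowEval.powEval (Ideal.span (Set.range z)) z hz'
    have hgX : ∀ i, g (MvPowerSeries.X i) = z i := fun i =>
      Groth.Agent.Ega41.PowEval.powEval_X (Ideal.span (Set.range z)) z hz' i
    have hg : ∀ x ∈ 𝔐 ^ (k + N), g x = 0 := by
      have h1 : 𝔐 ^ (k + N) ≤ RingHom.ker (g : MvPowerSeries (Fin n) A →+* E) := by
        refine Ideal.sup_pow_add_le_pow_sup_pow.trans (sup_le ?_ ?_)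
        · rw [← Ideal.map_pow, Ideal.map_le_iff_le_comap]
          intro a ha
          have h2 : algebraMap A E a ∈ (𝔞 ^ k).map (algebraMap A E) := Ideal.mem_map_of_mem _ ha
          rw [hk] at h2
          change g (MvPowerSeries.C a) = 0
          rw [MvPowerSeries.c_eq_algebraMap, g.commutes]
          exact h2
        · rw [← Groth.Agent.Ega41.MvPS.varIdeal_eq_ker]
          have h3 : (Groth.Agent.Ega41.MvPS.varIdeal (Fin n) A).map
              (g : MvPowerSeries (Fin n) A →+* E) ≤ Ideal.span (Set.range z) := by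
            rw [Groth.Agent.Ega41.MvPS.varIdeal, Ideal.map_span, Ideal.span_le]
            rintro _ ⟨_, ⟨i, rfl⟩, rfl⟩
            change g (MvPowerSeries.X i) ∈ Ideal.span (Set.range z)
            rw [hgX]
            exact hz' i
          rw [RingHom.ker_eq_comap_bot, ← Ideal.map_le_iff_le_comap, Ideal.map_pow]
          exact (Ideal.pow_right_mono h3 N).trans hN.le
      intro x hx
      exact h1 hx
    refine ⟨g, ⟨⟨k + N, hg⟩, hgX⟩, ?_⟩
    rintro g' ⟨⟨m', hm'⟩, hg'X⟩
    -- both maps agree on polynomials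
    have hpoly : ∀ q : MvPolynomial (Fin n) A,
        g' (q : MvPowerSeries (Fin n) A) = g (q : MvPowerSeries (Fin n) A) := by
      intro q
      have h4 : g'.comp (MvPolynomial.coeToMvPowerSeries.algHom A) =
          g.comp (MvPolynomial.coeToMvPowerSeries.algHom A) := by
        refine MvPolynomial.algHom_ext fun i => ?_
        simp only [AlgHom.comp_apply, MvPolynomial.coeToMvPowerSeries.algHom_apply]
        simp [hg'X, hgX]
      have h5 := AlgHom.congr_fun h4 q
      simp only [AlgHom.comp_apply, MvPolynomial.coeToMvPowerSeries.algHom_apply] at h5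
      simpa using h5
    refine AlgHom.ext fun f => ?_
    have h6 := Groth.Agent.Ega41.MvPS.sub_truncTotal_mem (m' + (k + N)) f
    have h7 := Ideal.pow_right_mono hV _ h6
    have h8 := hm' _ (Ideal.pow_le_pow_right (Nat.le_add_right _ _) h7)
    have h9 := hg _ (Ideal.pow_le_pow_right (Nat.le_add_left _ _) h7)
    rw [map_sub, sub_eq_zero] at h8 h9
    rw [h8, h9, hpoly]

end Groth.Agent.S4555
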