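import Groth.Statements.S4556
-- import your own Groth.Agent.* helpers here

set_option autoImplicit false
universe u
open EGA41

namespace Groth.Agent.S4556

/-- Let B be a formally smooth A-algebra, E and E' two A-algebras, R (resp. R') a nilpotent ideal of E
(resp. E'), f : E → E' a surjective A-algebra homomorphism with f(R) = R', and f' : E/R → E'/R' the
induced homomorphism. Let u : B → E/R be an A-algebra homomorphism and v' : B → E' an A-algebra
homomorphism through which f' ∘ u factors (v' followed by E' → E'/R' equals f' ∘ u). Then there is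
an A-algebra homomorphism v : B → E with f ∘ v = v'. (The published statement assumes only f(R) ⊆
R'; in that form it fails for B = ℚ[x, x⁻¹], E = ℚ[t], E' = ℚ[t]/(t²), R = 0, R' = (t), u : x ↦ 1
and v' : x ↦ 1 + t, since any v sends x to a unit of ℚ[t], a constant; the argument identifies R'
with the image of R, and that equality is assumed here.) -/
theorem result {A B E E' : Type u} [CommRing A] [CommRing B] [Algebra A B]
    [Algebra.FormallySmooth A B] [CommRing E] [CommRing E'] [Algebra A E] [Algebra A E']
    (R : Ideal E) (R' : Ideal E') (hR : IsNilpotent R) (hR' : IsNilpotent R')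
    (f : E →ₐ[A] E') (hf : Function.Surjective f) (hfR : R.map f.toRingHom = R')
    (u : B →ₐ[A] E ⧸ R) (v' : B →ₐ[A] E')
    (huv : (Ideal.Quotient.mkₐ A R').comp v' =
      (Ideal.quotientMapₐ R' f (fun x hx => hfR.le (Ideal.mem_map_of_mem f.toRingHom hx))).comp u) :
    ∃ v : B →ₐ[A] E, f.comp v = v' := by
  -- the map `E → E/R × E'`
  let g : E →ₐ[A] (E ⧸ R) × E' := (Ideal.Quotient.mkₐ A R).prod f
  let w : B →ₐ[A] (E ⧸ R) × E' := u.prod v'
  -- the image of `B` lies in the image of `E`
  have hw : ∀ b, w b ∈ g.range := by
    intro b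
    obtain ⟨e, he⟩ := Ideal.Quotient.mk_surjective (u b)
    have h1 : Ideal.Quotient.mk R' (v' b) = Ideal.Quotient.mk R' (f e) := by
      have := AlgHom.congr_fun huv b
      rw [AlgHom.comp_apply, AlgHom.comp_apply, ← he] at this
      exact this
    have h2 : v' b - f e ∈ R.map f.toRingHom := by
      rw [hfR]
      exact Ideal.Quotient.eq.mp h1
    obtain ⟨r, hr, hre⟩ := (Ideal.mem_map_iff_of_surjective f.toRingHom hf).mp h2
    refine ⟨e + r, ?_⟩
    change (Ideal.Quotient.mk R (e + r), f (e + r)) = (u b, v' b)
    refine Prod.ext ?_ ?_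
    · change Ideal.Quotient.mk R (e + r) = u b
      rw [map_add, Ideal.Quotient.eq_zero_iff_mem.mpr hr, add_zero, he]
    · change f (e + r) = v' b
      have hre' : f r = v' b - f e := hre
      rw [map_add, hre']
      ring
  let w' : B →ₐ[A] g.range := w.codRestrict g.range hw
  have hnil : IsNilpotent (RingHom.ker (g.rangeRestrict : E →+* g.range)) := by
    obtain ⟨n, hn⟩ := hR
    refine ⟨n, ?_⟩
    rw [Ideal.zero_eq_bot, eq_bot_iff] at hn ⊢
    refine (Ideal.pow_right_mono ?_ n).trans hn
    intro x hx
    have h0 : g.rangeRestrict x = 0 := hx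
    have h1 : g x = 0 := congrArg Subtype.val h0
    have h2 : Ideal.Quotient.mk R x = 0 := congrArg Prod.fst h1
    exact Ideal.Quotient.eq_zero_iff_mem.mp h2
  refine ⟨Algebra.FormallySmooth.liftOfSurjective w' g.rangeRestrict g.rangeRestrict_surjective hnil, ?_⟩
  refine AlgHom.ext fun b => ?_
  have h := AlgHom.congr_fun (Algebra.FormallySmooth.comp_liftOfSurjective w' g.rangeRestrict
    g.rangeRestrict_surjective hnil) b
  have h' : g (Algebra.FormallySmooth.liftOfSurjective w' g.rangeRestrict g.rangeRestrict_surjective hnil b) = w b :=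
    congrArg Subtype.val h
  exact congrArg Prod.snd h'

end Groth.Agent.S4556
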