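import Groth.Statements.S4558
import Groth.Agent.EGA41.K100.CompSurj
import Mathlib.RingTheory.Kaehler.Basic
import Mathlib.LinearAlgebra.TensorProduct.Quotient

set_option autoImplicit false
universe u
open EGA41

namespace Groth.Agent.S4558

open TensorProduct in
/-- `Ω / 𝔫 Ω` is finite. -/
theorem finite_quotient {A B : Type u} [CommRing A] [CommRing B] [Algebra A B] (𝔫 : Ideal B)
    [Module.Finite (B ⧸ 𝔫) (Ω[B ⧸ 𝔫⁄A])] [Module.Finite (B ⧸ 𝔫) 𝔫.Cotangent] :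
    Module.Finite B (Ω[B⁄A] ⧸ (𝔫 • ⊤ : Submodule B (Ω[B⁄A]))) := by
  have hf1 : Module.Finite B 𝔫.Cotangent := Module.Finite.trans (B ⧸ 𝔫) _
  have hf2 : Module.Finite B (Ω[B ⧸ 𝔫⁄A]) := Module.Finite.trans (B ⧸ 𝔫) _
  have hker : RingHom.ker (algebraMap B (B ⧸ 𝔫)) = 𝔫 := by
    rw [Ideal.Quotient.algebraMap_eq, Ideal.mk_ker]
  have hf3 : Module.Finite B (RingHom.ker (algebraMap B (B ⧸ 𝔫))).Cotangent := by
    rw [hker]; exact hf1
  have hex := KaehlerDifferential.exact_kerCotangentToTensor_mapBaseChange A B (B ⧸ 𝔫)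
    Ideal.Quotient.mk_surjective
  have hsurj := KaehlerDifferential.mapBaseChange_surjective A B (B ⧸ 𝔫) Ideal.Quotient.mk_surjective
  have : Module.Finite B ((B ⧸ 𝔫) ⊗[B] Ω[B⁄A]) :=
    Module.Finite.of_exact (f := KaehlerDifferential.kerCotangentToTensor A B (B ⧸ 𝔫))
      (g := (KaehlerDifferential.mapBaseChange A B (B ⧸ 𝔫)).restrictScalars B) hex hsurj
  exact Module.Finite.equiv (TensorProduct.quotTensorEquivQuotSMul (Ω[B⁄A]) 𝔫)

/-- Let A be a discrete ring, B an adic topological A-algebra with ideal of definition 𝔫 (B separated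
and complete for the 𝔫-adic topology) and B₀ = B/𝔫. If Ω_{B₀/A} and 𝔫/𝔫² are B₀-modules of finite
type, then Ω̂_{B/A}, the 𝔫-adic completion of Ω_{B/A}, is a B-module of finite type. -/
theorem result {A B : Type u} [CommRing A] [CommRing B] [Algebra A B] (𝔫 : Ideal B)
    [IsAdicComplete 𝔫 B] [Module.Finite (B ⧸ 𝔫) (Ω[B ⧸ 𝔫⁄A])] [Module.Finite (B ⧸ 𝔫) 𝔫.Cotangent] :
    Module.Finite B (AdicCompletion 𝔫 (Ω[B⁄A])) :=
  K100.CompSurj.finite_adicCompletion 𝔫 (finite_quotient 𝔫)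

end Groth.Agent.S4558
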