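import Groth.Statements.S4557
import Groth.Agent.S4558
import Groth.Agent.EGA41.K100.SepPS2

set_option autoImplicit false
universe u
open EGA41

namespace Groth.Agent.S4557

open IsLocalRing TensorProduct in
/-- Let A be a complete Noetherian local integral domain, A₀ a subring of A isomorphic to a power series
ring k[[T_1, …, T_r]] over a field k such that A is a finite A₀-algebra and the field of fractions E
of A is a separable extension of the field of fractions L₀ of A₀ (here: A₀ = k[[T]] → A injective
and finite, A a k-algebra through A₀, and every element of A is a root of a polynomial over A₀ which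
is separable over L₀). Then rk_A Ω̂_{A/k} = rk_E (Ω̂_{A/k} ⊗_A E) = dim A = r, where Ω̂_{A/k} is the
𝔪-adic completion of Ω_{A/k}; stated as dim_E (E ⊗_A Ω̂_{A/k}) = r. -/
theorem result (k : Type u) [Field k] (r : ℕ) (A : Type u) [CommRing A]
    [IsDomain A] [IsLocalRing A] [IsNoetherianRing A] [IsAdicComplete (maximalIdeal A) A]
    [Algebra (MvPowerSeries (Fin r) k) A] [Algebra k A] [IsScalarTower k (MvPowerSeries (Fin r) k) A]
    (hinj : Function.Injective (algebraMap (MvPowerSeries (Fin r) k) A)) [Module.Finite (MvPowerSeries (Fin r) k) A]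
    (hsep : ∀ a : A, ∃ P : Polynomial (MvPowerSeries (Fin r) k), Polynomial.aeval a P = 0 ∧
      (P.map (algebraMap (MvPowerSeries (Fin r) k) (FractionRing (MvPowerSeries (Fin r) k)))).Separable) :
    Module.finrank (FractionRing A) (FractionRing A ⊗[A] AdicCompletion (maximalIdeal A) (Ω[A⁄k])) = r := by
  classical
  have hdom : IsDomain (MvPowerSeries (Fin r) k) := NoZeroDivisors.to_isDomain _
  let E := FractionRing A
  let W := AdicCompletion (maximalIdeal A) (Ω[A⁄k])
  have hAE : Function.Injective (algebraMap A E) := IsFractionRing.injective A E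
  -- finiteness of `Ω / 𝔪 Ω`
  have hres := K100.SepPS.finite_residue k r A hinj
  have hf1 : Module.Finite (A ⧸ maximalIdeal A) (Ω[A ⧸ maximalIdeal A⁄k]) := inferInstance
  have hf2 : Module.Finite (A ⧸ maximalIdeal A) (maximalIdeal A).Cotangent := by
    have : Module.Finite A (maximalIdeal A).Cotangent :=
      Module.Finite.of_surjective _ (Ideal.toCotangent_surjective _)
    exact Module.Finite.of_restrictScalars_finite A _ _
  have hfin := Groth.Agent.S4558.finite_quotient (A := k) (maximalIdeal A)
  have hofs := K100.SepPS.of_surjective (maximalIdeal A) hfin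
  -- derivations
  have hder : ∀ i : Fin r, ∃ (g : A) (Δ : Derivation k A A), g ≠ 0 ∧
      ∀ a : (MvPowerSeries (Fin r) k), Δ (algebraMap (MvPowerSeries (Fin r) k) A a) = g * algebraMap (MvPowerSeries (Fin r) k) A (MvPowerSeries.pderiv k i a) := by
    intro i
    obtain ⟨g, D', hg, hadd, hmul, hD'⟩ := K100.SepPS2.exists_derivation_fun (MvPowerSeries (Fin r) k) A hinj hsep
      (MvPowerSeries.pderiv k i) (map_add _) (Derivation.leibniz _)
    have hk : ∀ c : k, D' (algebraMap k A c) = 0 := by
      intro c
      rw [IsScalarTower.algebraMap_apply k (MvPowerSeries (Fin r) k) A, hD']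
      rw [Derivation.map_algebraMap, map_zero, mul_zero]
    let F : A →ₗ[k] A :=
      { toFun := D'
        map_add' := hadd
        map_smul' := fun c x => by
          rw [Algebra.smul_def, hmul, hk, mul_zero, add_zero, RingHom.id_apply, Algebra.smul_def] }
    exact ⟨g, Derivation.mk' F hmul, hg, hD'⟩
  choose g Δ hg hΔ using hder
  let lam : Fin r → (W →ₗ[A] A) := fun i =>
    (AdicCompletion.ofLinearEquiv (maximalIdeal A) A).symm.toLinearMap ∘ₗ
      ((AdicCompletion.map (maximalIdeal A) (Δ i).liftKaehlerDifferential).restrictScalars A)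
  have hlam : ∀ i x, lam i (AdicCompletion.of (maximalIdeal A) (Ω[A⁄k]) (KaehlerDifferential.D k A x)) = Δ i x := by
    intro i x
    change (AdicCompletion.ofLinearEquiv (maximalIdeal A) A).symm
      (AdicCompletion.map (maximalIdeal A) (Δ i).liftKaehlerDifferential
        (AdicCompletion.of (maximalIdeal A) (Ω[A⁄k]) (KaehlerDifferential.D k A x))) = Δ i x
    rw [AdicCompletion.map_of, Derivation.liftKaehlerDifferential_comp_D, AdicCompletion.ofLinearEquiv_symm_of]
  let t : Fin r → W := fun i => AdicCompletion.of (maximalIdeal A) (Ω[A⁄k])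
    (KaehlerDifferential.D k A (algebraMap (MvPowerSeries (Fin r) k) A (MvPowerSeries.X i)))
  let v : Fin r → E ⊗[A] W := fun i => (1 : E) ⊗ₜ[A] t i
  have hli : LinearIndependent E v := by
    rw [Fintype.linearIndependent_iff]
    intro c hc i
    have h1 := congrArg (((Algebra.linearMap A E) ∘ₗ lam i).liftBaseChange E) hc
    rw [map_sum, map_zero] at h1
    have h2 : ∀ j, (((Algebra.linearMap A E) ∘ₗ lam i).liftBaseChange E) (c j • v j) =
        if j = i then c j * algebraMap A E (g i) else 0 := by
      intro j
      rw [map_smul, LinearMap.liftBaseChange_tmul, one_smul, LinearMap.comp_apply, hlam, hΔ, MvPowerSeries.pderiv_X]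
      by_cases hij : j = i
      · subst hij
        rw [if_pos rfl, Pi.single_eq_same, map_one, mul_one]
        rfl
      · rw [if_neg hij, Pi.single_eq_of_ne hij, map_zero, mul_zero, map_zero, smul_zero]
    simp only [h2, Finset.sum_ite_eq', Finset.mem_univ, if_true] at h1
    rcases mul_eq_zero.1 h1 with h | h
    · exact h
    · exact absurd ((map_eq_zero_iff _ hAE).1 h) (hg i)
  have hsp : ⊤ ≤ Submodule.span E (Set.range v) := by
    have hD : ∀ x : A, (1 : E) ⊗ₜ[A] (AdicCompletion.of (maximalIdeal A) (Ω[A⁄k]) (KaehlerDifferential.D k A x)) ∈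
        Submodule.span E (Set.range v) := by
      intro x
      have hN : ∀ ω ∈ Submodule.span A (Set.range fun a : (MvPowerSeries (Fin r) k) => KaehlerDifferential.D k A (algebraMap (MvPowerSeries (Fin r) k) A a)),
          (1 : E) ⊗ₜ[A] (AdicCompletion.of (maximalIdeal A) (Ω[A⁄k]) ω) ∈ Submodule.span E (Set.range v) := by
        intro ω hω
        induction hω using Submodule.span_induction with
        | mem ω hω =>
          obtain ⟨a, rfl⟩ := hω
          rw [K100.SepPS.of_D_eq k r A hinj a, tmul_sum]
          refine Submodule.sum_mem _ fun i _ => ?_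
          rw [tmul_smul, ← algebraMap_smul E]
          exact Submodule.smul_mem _ _ (Submodule.subset_span ⟨i, rfl⟩)
        | zero => rw [map_zero, tmul_zero]; exact zero_mem _
        | add x y _ _ hx hy => rw [map_add, tmul_add]; exact add_mem hx hy
        | smul c x _ hx =>
          rw [map_smul, tmul_smul, ← algebraMap_smul E]
          exact Submodule.smul_mem _ _ hx
      obtain ⟨P, hP, hPsep⟩ := hsep x
      have h1 := hN _ (K100.SepPS.D_aeval_sub_mem k r A x P)
      rw [hP, map_zero, zero_sub, map_neg, tmul_neg, map_smul, tmul_smul, Submodule.neg_mem_iff,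
        ← algebraMap_smul E] at h1
      have h2 : algebraMap A E (Polynomial.aeval x P.derivative) ≠ 0 := by
        have hinj' : Function.Injective (algebraMap (MvPowerSeries (Fin r) k) E) := by
          rw [IsScalarTower.algebraMap_eq (MvPowerSeries (Fin r) k) A E]
          exact hAE.comp hinj
        have : FaithfulSMul (MvPowerSeries (Fin r) k) E := (faithfulSMul_iff_algebraMap_injective _ _).2 hinj'
        let _ : Algebra (FractionRing (MvPowerSeries (Fin r) k)) E := FractionRing.liftAlgebra (MvPowerSeries (Fin r) k) E
        have h3 : Polynomial.aeval (algebraMap A E x) (P.map (algebraMap (MvPowerSeries (Fin r) k) (FractionRing (MvPowerSeries (Fin r) k)))) = 0 := by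
          rw [Polynomial.aeval_map_algebraMap, Polynomial.aeval_algebraMap_apply, hP, map_zero]
        have h4 := hPsep.aeval_derivative_ne_zero h3
        rwa [Polynomial.derivative_map, Polynomial.aeval_map_algebraMap, Polynomial.aeval_algebraMap_apply] at h4
      exact (Submodule.smul_mem_iff _ h2).1 h1
    rintro z -
    induction z using TensorProduct.induction_on with
    | zero => exact zero_mem _
    | add x y hx hy => exact add_mem hx hy
    | tmul e w =>
      obtain ⟨ω, rfl⟩ := hofs w
      have he : e ⊗ₜ[A] (AdicCompletion.of (maximalIdeal A) (Ω[A⁄k]) ω) =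
          e • ((1 : E) ⊗ₜ[A] (AdicCompletion.of (maximalIdeal A) (Ω[A⁄k]) ω)) := by
        rw [TensorProduct.smul_tmul', smul_eq_mul, mul_one]
      rw [he]
      refine Submodule.smul_mem _ _ ?_
      have hω : ω ∈ Submodule.span A (Set.range (KaehlerDifferential.D k A)) := by
        rw [KaehlerDifferential.span_range_derivation]; trivial
      induction hω using Submodule.span_induction with
      | mem ω hω =>
        obtain ⟨x, rfl⟩ := hω
        exact hD x
      | zero => rw [map_zero, tmul_zero]; exact zero_mem _
      | add x y _ _ hx hy =>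
        rw [map_add, tmul_add]
        exact add_mem (hx (by rw [TensorProduct.smul_tmul', smul_eq_mul, mul_one]))
          (hy (by rw [TensorProduct.smul_tmul', smul_eq_mul, mul_one]))
      | smul c x _ hx =>
        rw [map_smul, tmul_smul, ← algebraMap_smul E]
        exact Submodule.smul_mem _ _ (hx (by rw [TensorProduct.smul_tmul', smul_eq_mul, mul_one]))
  let b : Module.Basis (Fin r) E (E ⊗[A] W) := Module.Basis.mk hli hsp
  have := Module.finrank_eq_card_basis b
  rwa [Fintype.card_fin] at this

end Groth.Agent.S4557
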