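import Groth.Statements.S4561
import Mathlib.RingTheory.MvPowerSeries.Basic
import Mathlib.LinearAlgebra.Span.Basic
import Mathlib.Algebra.CharP.Algebra

set_option autoImplicit false
universe u
open EGA41

namespace Groth.Agent.S4561

/-- `k₀(K₀^p)` is spanned over `K₀^p` by finitely many elements of `k₀`. -/
theorem exists_span (p : ℕ) [Fact p.Prime] {k₀ K₀ : Type u} [Field k₀] [Field K₀] [Algebra k₀ K₀] [CharP k₀ p]
    (hfin : Module.Finite (Subfield.closure (Set.range fun x : k₀ => x ^ p)) k₀) :
    ∃ (n : ℕ) (e : Fin n → k₀), ∀ y ∈ Subfield.closure (Set.range (algebraMap k₀ K₀) ∪ Set.range fun y : K₀ => y ^ p),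
      ∃ c : Fin n → K₀, (∀ j, c j ∈ Subfield.closure (Set.range fun y : K₀ => y ^ p)) ∧
        y = ∑ j, c j * algebraMap k₀ K₀ (e j) := by
  have hp : p.Prime := Fact.out
  set P : Subfield K₀ := Subfield.closure (Set.range fun y : K₀ => y ^ p) with hP
  obtain ⟨n, e, he⟩ := Module.Finite.exists_fin (R := Subfield.closure (Set.range fun x : k₀ => x ^ p)) (M := k₀)
  refine ⟨n, e, ?_⟩
  let V : Submodule P K₀ := Submodule.span P (Set.range fun j => algebraMap k₀ K₀ (e j))
  have hk : ∀ x : k₀, algebraMap k₀ K₀ x ∈ V := by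
    intro x
    have hx : x ∈ Submodule.span (Subfield.closure (Set.range fun x : k₀ => x ^ p)) (Set.range e) := by
      rw [he]; trivial
    induction hx using Submodule.span_induction with
    | mem x hx =>
      obtain ⟨j, rfl⟩ := hx
      exact Submodule.subset_span ⟨j, rfl⟩
    | zero => rw [map_zero]; exact zero_mem _
    | add x y _ _ hx hy => rw [map_add]; exact add_mem hx hy
    | smul a x _ hx =>
      have ha : algebraMap k₀ K₀ (a : k₀) ∈ P := by
        have h1 : Subfield.closure (Set.range fun x : k₀ => x ^ p) ≤ P.comap (algebraMap k₀ K₀) := by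
          rw [Subfield.closure_le]
          rintro _ ⟨x, rfl⟩
          change algebraMap k₀ K₀ (x ^ p) ∈ P
          rw [map_pow]
          exact Subfield.subset_closure ⟨_, rfl⟩
        exact h1 a.2
      change algebraMap k₀ K₀ ((a : k₀) * x) ∈ V
      rw [map_mul]
      exact V.smul_mem ⟨_, ha⟩ hx
  have hPV : ∀ y ∈ P, y ∈ V := by
    intro y hy
    have h1 := V.smul_mem (⟨y, hy⟩ : P) (hk 1)
    rw [map_one] at h1
    have h2 : (⟨y, hy⟩ : P) • (1 : K₀) = y := by
      change y * 1 = y
      rw [mul_one]
    rwa [h2] at h1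
  have hmul : ∀ x ∈ V, ∀ y ∈ V, x * y ∈ V := by
    intro x hx y hy
    induction hx using Submodule.span_induction with
    | mem x hx =>
      obtain ⟨i, rfl⟩ := hx
      induction hy using Submodule.span_induction with
      | mem y hy =>
        obtain ⟨j, rfl⟩ := hy
        simp only
        rw [← map_mul]
        exact hk _
      | zero => rw [mul_zero]; exact zero_mem _
      | add x y _ _ hx hy => rw [mul_add]; exact add_mem hx hy
      | smul a x _ hx =>
        rw [mul_smul_comm]
        exact V.smul_mem a hx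
    | zero => rw [zero_mul]; exact zero_mem _
    | add x y _ _ hx hy => rw [add_mul]; exact add_mem hx hy
    | smul a x _ hx =>
      rw [smul_mul_assoc]
      exact V.smul_mem a hx
  have hone : (1 : K₀) ∈ V := by
    have := hk 1
    rwa [map_one] at this
  have hpow : ∀ x ∈ V, ∀ n : ℕ, x ^ n ∈ V := by
    intro x hx n
    induction n with
    | zero => rw [pow_zero]; exact hone
    | succ n ih => rw [pow_succ]; exact hmul _ ih _ hx
  have hinv : ∀ x ∈ V, x⁻¹ ∈ V := by
    intro x hx
    by_cases h0 : x = 0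
    · rw [h0, inv_zero]; exact zero_mem _
    · have h1 : x⁻¹ = (x ^ p)⁻¹ * x ^ (p - 1) := by
        rw [eq_inv_mul_iff_mul_eq₀ (pow_ne_zero _ h0)]
        conv_lhs => rw [← Nat.sub_add_cancel hp.one_le, pow_succ]
        rw [mul_assoc, mul_inv_cancel₀ h0, mul_one]
      rw [h1]
      exact hmul _ (hPV _ (P.inv_mem (Subfield.subset_closure ⟨x, rfl⟩))) _ (hpow x hx _)
  let W : Subfield K₀ :=
    { carrier := V
      mul_mem' := fun {a b} ha hb => hmul a ha b hb
      one_mem' := hone
      add_mem' := fun {a b} ha hb => add_mem ha hb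
      zero_mem' := zero_mem V
      neg_mem' := fun {a} ha => neg_mem ha
      inv_mem' := fun a ha => hinv a ha }
  intro y hy
  have hyW : y ∈ W := by
    have h1 : Subfield.closure (Set.range (algebraMap k₀ K₀) ∪ Set.range fun y : K₀ => y ^ p) ≤ W := by
      rw [Subfield.closure_le]
      rintro _ (⟨x, rfl⟩ | ⟨x, rfl⟩)
      · exact hk x
      · exact hPV _ (Subfield.subset_closure ⟨x, rfl⟩)
    exact h1 hy
  have hyV : y ∈ V := hyW
  obtain ⟨c, hc⟩ := (Submodule.mem_span_range_iff_exists_fun P).1 hyV
  exact ⟨fun j => c j, fun j => (c j).2, hc.symm⟩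

/-- Let k₀ be a field of characteristic p > 0 with [k₀ : k₀^p] < ∞ and K₀ an extension of k₀. Inside
K₀((T_1, …, T_r)) one has (k₀(K₀^p))((T_1, …, T_r)) = k₀(K₀^p((T_1, …, T_r))); here, for a subfield
F of K₀, F((T)) denotes the subfield of the fraction field of K₀[[T]] generated by the power series
with all coefficients in F. -/
theorem result (p : ℕ) [Fact p.Prime] {k₀ K₀ : Type u} [Field k₀] [Field K₀] [Algebra k₀ K₀] [CharP k₀ p]
    (hfin : Module.Finite (Subfield.closure (Set.range fun x : k₀ => x ^ p)) k₀) (r : ℕ) :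
    Subfield.closure (algebraMap (MvPowerSeries (Fin r) K₀) (FractionRing (MvPowerSeries (Fin r) K₀)) ''
        {f | ∀ n, MvPowerSeries.coeff n f ∈
          Subfield.closure (Set.range (algebraMap k₀ K₀) ∪ Set.range fun y : K₀ => y ^ p)}) =
      Subfield.closure
        (Set.range (algebraMap k₀ (FractionRing (MvPowerSeries (Fin r) K₀))) ∪
          (Subfield.closure (algebraMap (MvPowerSeries (Fin r) K₀) (FractionRing (MvPowerSeries (Fin r) K₀)) ''
            {f | ∀ n, MvPowerSeries.coeff n f ∈ Subfield.closure (Set.range fun y : K₀ => y ^ p)}) :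
            Set (FractionRing (MvPowerSeries (Fin r) K₀)))) := by
  classical
  have halg : ∀ x : k₀, algebraMap k₀ (FractionRing (MvPowerSeries (Fin r) K₀)) x =
      algebraMap (MvPowerSeries (Fin r) K₀) (FractionRing (MvPowerSeries (Fin r) K₀))
        (MvPowerSeries.C (algebraMap k₀ K₀ x)) := by
    intro x
    rw [IsScalarTower.algebraMap_apply k₀ (MvPowerSeries (Fin r) K₀), MvPowerSeries.algebraMap_apply]
  apply le_antisymm
  · rw [Subfield.closure_le]
    rintro _ ⟨f, hf, rfl⟩
    obtain ⟨n, e, he⟩ := exists_span p hfin (K₀ := K₀)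
    choose c hc hfc using fun m => he _ (hf m)
    let g : Fin n → MvPowerSeries (Fin r) K₀ := fun j => fun m => c m j
    have hfg : f = ∑ j, g j * MvPowerSeries.C (algebraMap k₀ K₀ (e j)) := by
      ext m
      rw [map_sum]
      simp only [MvPowerSeries.coeff_mul_C]
      exact hfc m
    rw [hfg, map_sum]
    refine sum_mem fun j _ => ?_
    rw [map_mul]
    refine mul_mem (Subfield.subset_closure (Or.inr (Subfield.subset_closure ⟨g j, fun m => hc m j, rfl⟩)))
      (Subfield.subset_closure (Or.inl ⟨e j, halg _⟩))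
  · rw [Subfield.closure_le]
    rintro _ (⟨x, rfl⟩ | hx)
    · rw [halg]
      refine Subfield.subset_closure ⟨_, fun n => ?_, rfl⟩
      rw [MvPowerSeries.coeff_C]
      split_ifs
      · exact Subfield.subset_closure (Or.inl ⟨x, rfl⟩)
      · exact zero_mem _
    · refine Subfield.closure_mono ?_ hx
      rintro _ ⟨f, hf, rfl⟩
      exact ⟨f, fun n => Subfield.closure_mono Set.subset_union_right (hf n), rfl⟩

end Groth.Agent.S4561
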