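import Groth.Statements.S4564
import Groth.Agent.S0568
import Groth.Agent.CalgC.HenselIntDom
import Groth.Agent.Ega3B.IdemLift
import Mathlib.RingTheory.Henselian
import Mathlib.RingTheory.Artinian.Module

set_option autoImplicit false
universe u
open CAlg

namespace Groth.Agent.S4564

open IsLocalRing

/-- Adic completeness for a larger ideal with a power in the smaller one. -/
theorem isAdicComplete_of_pow_le {R : Type*} [CommRing R] {I J : Ideal R} [IsAdicComplete I R]
    (h1 : I ≤ J) {k : ℕ} (h2 : J ^ k ≤ I) : IsAdicComplete J R := by
  have hk : ∀ n : ℕ, J ^ ((k + 1) * n) ≤ I ^ n := by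
    intro n
    rw [pow_mul]
    exact Ideal.pow_right_mono ((Ideal.pow_le_pow_right (Nat.le_succ k)).trans h2) n
  have hle : ∀ n : ℕ, n ≤ (k + 1) * n := fun n => Nat.le_mul_of_pos_left n (Nat.succ_pos k)
  refine { haus' := fun x hx => ?_, prec' := fun f hf => ?_ }
  · apply IsHausdorff.haus' (I := I)
    intro n
    have := hx ((k + 1) * n)
    rw [SModEq.zero, smul_eq_mul, Ideal.mul_top] at this ⊢
    exact hk n this
  · obtain ⟨L, hL⟩ := IsPrecomplete.prec' (I := I) (M := R) (fun n => f ((k + 1) * n)) (by
      intro m n hmn
      have := hf (Nat.mul_le_mul_left (k + 1) hmn)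
      rw [SModEq.sub_mem, smul_eq_mul, Ideal.mul_top] at this ⊢
      exact hk m this)
    refine ⟨L, fun n => ?_⟩
    have h3 := hf (hle n)
    have h4 := hL n
    rw [SModEq.sub_mem, smul_eq_mul, Ideal.mul_top] at h3 h4 ⊢
    have := add_mem h3 (Ideal.pow_right_mono h1 n h4)
    simpa using this

/-- Let A be a complete Noetherian local domain with fraction field K and K' a finite extension of K.
Then the integral closure of A in K' is a local ring, complete for the adic topology of its maximal
ideal. -/
theorem result {A K' : Type u} [CommRing A]
    [IsDomain A] [IsLocalRing A] [IsNoetherianRing A] [IsAdicComplete (IsLocalRing.maximalIdeal A) A]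
    [Field K'] [Algebra A K'] [Algebra (FractionRing A) K'] [IsScalarTower A (FractionRing A) K']
    [FiniteDimensional (FractionRing A) K'] :
    ∃ _ : IsLocalRing (integralClosure A K'),
      IsAdicComplete (IsLocalRing.maximalIdeal (integralClosure A K')) (integralClosure A K') := by
  have hfin : Module.Finite A (integralClosure A K') :=
    Groth.Agent.S0568.isN2_of_complete A K' inferInstance
  have hhens : HenselianLocalRing A := by
    have := (inferInstance : HenselianRing A (maximalIdeal A))
    exact ⟨fun f hf a₀ h1 h2 => this.is_henselian f hf a₀ h1 (by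
      have := h2.map (Ideal.Quotient.mk (maximalIdeal A)); exact this)⟩
  have hloc : IsLocalRing (integralClosure A K') :=
    Groth.Agent.CalgC.HenselIntDom.isLocalRing_of_finite (A := A)
  refine ⟨hloc, ?_⟩
  have hc : IsAdicComplete ((maximalIdeal A).map (algebraMap A (integralClosure A K')))
      (integralClosure A K') := Groth.Agent.Ega3B.IdemLift.isAdicComplete_map A _ (maximalIdeal A)
  have hnoeth : IsNoetherianRing (integralClosure A K') := IsNoetherianRing.of_finite A _
  have h1 : (maximalIdeal A).map (algebraMap A (integralClosure A K')) ≤
      maximalIdeal (integralClosure A K') := by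
    rw [Ideal.map_le_iff_le_comap]
    have : (maximalIdeal (integralClosure A K')).comap (algebraMap A (integralClosure A K')) =
        maximalIdeal A := by
      have := Ideal.isMaximal_comap_of_isIntegral_of_isMaximal (R := A)
        (maximalIdeal (integralClosure A K'))
      exact IsLocalRing.eq_maximalIdeal this
    rw [this]
  obtain ⟨k, hk⟩ : ∃ k : ℕ, maximalIdeal (integralClosure A K') ^ k ≤
      (maximalIdeal A).map (algebraMap A (integralClosure A K')) := by
    apply Ideal.exists_pow_le_of_le_radical_of_fg
    · rw [Ideal.radical_eq_sInf]
      refine le_sInf ?_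
      rintro p ⟨hp, hpp⟩
      have h2 : p.comap (algebraMap A (integralClosure A K')) = maximalIdeal A := by
        refine ((maximalIdeal.isMaximal A).eq_of_le ?_ ?_).symm
        · exact (Ideal.comap_isPrime _ p).ne_top
        · exact Ideal.map_le_iff_le_comap.1 hp
      have h3 : p.IsMaximal := by
        have : (p.comap (algebraMap A (integralClosure A K'))).IsMaximal := by
          rw [h2]; exact maximalIdeal.isMaximal A
        exact Ideal.isMaximal_of_isIntegral_of_isMaximal_comap p this
      rw [IsLocalRing.eq_maximalIdeal h3]
    · exact IsNoetherian.noetherian _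
  exact isAdicComplete_of_pow_le h1 hk

end Groth.Agent.S4564
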