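import Groth.Statements.S4565
import Groth.Agent.Ega4B.AnUnram
import Groth.Agent.CAlg.K58.FinExt
import Groth.Agent.S0543
import Groth.Agent.S0568
import Mathlib.RingTheory.AdicCompletion.LocalRing
import Mathlib.RingTheory.AdicCompletion.AsTensorProduct
import Mathlib.RingTheory.Flat.Localization
import Mathlib.RingTheory.Flat.Stability
import Mathlib.LinearAlgebra.Basis.VectorSpace

set_option autoImplicit false
universe u
open TensorProduct
open CAlg

namespace Groth.Agent.S4565

open IsLocalRing

/-- Let A be a Noetherian local domain with fraction field K whose adic completion Â is reduced, R the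
total ring of fractions of Â and K' a finite extension of K. If R ⊗_A K' (equal to R ⊗_K K', since K
is a localization of A and the nonzero elements of A are invertible in R) is reduced, then the
integral closure of A in K' is a finitely generated A-module. -/
theorem result {A K' R : Type u}
    [CommRing A] [IsDomain A] [IsLocalRing A] [IsNoetherianRing A]
    (hred : IsReduced (AdicCompletion (IsLocalRing.maximalIdeal A) A))
    [CommRing R] [Algebra (AdicCompletion (IsLocalRing.maximalIdeal A) A) R]
    [IsFractionRing (AdicCompletion (IsLocalRing.maximalIdeal A) A) R] [Algebra A R]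
    [IsScalarTower A (AdicCompletion (IsLocalRing.maximalIdeal A) A) R]
    [Field K'] [Algebra A K'] [Algebra (FractionRing A) K'] [IsScalarTower A (FractionRing A) K']
    [FiniteDimensional (FractionRing A) K'] (h : IsReduced (R ⊗[A] K')) :
    Module.Finite A (integralClosure A K') := by
  let B := AdicCompletion (maximalIdeal A) A
  have hNoeth : IsNoetherianRing (AdicCompletion (maximalIdeal A) A) := S0543.result A (maximalIdeal A)
  have hff : Module.FaithfullyFlat A (AdicCompletion (maximalIdeal A) A) :=
    Module.FaithfullyFlat.of_flat_of_isLocalHom
  have hNag : IsNagata (AdicCompletion (maximalIdeal A) A) := S0568.result _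
  obtain ⟨σ, hσ, hL⟩ := K58.FinExt.exists_finset A (FractionRing A) K'
  have hflatK : Module.Flat A K' := Module.Flat.trans A (FractionRing A) K'
  have hinj : Function.Injective (algebraMap A K') := by
    rw [IsScalarTower.algebraMap_eq A (FractionRing A) K']
    exact (algebraMap (FractionRing A) K').injective.comp (IsFractionRing.injective A (FractionRing A))
  have hredT : IsReduced (AdicCompletion (maximalIdeal A) A ⊗[A] K') := by
    let f : AdicCompletion (maximalIdeal A) A ⊗[A] K' →ₐ[A] R ⊗[A] K' :=
      Algebra.TensorProduct.map (IsScalarTower.toAlgHom A (AdicCompletion (maximalIdeal A) A) R)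
        (AlgHom.id A K')
    have hf : Function.Injective f := by
      have : Function.Injective ((IsScalarTower.toAlgHom A
          (AdicCompletion (maximalIdeal A) A) R).toLinearMap.rTensor K') :=
        Module.Flat.rTensor_preserves_injective_linearMap _
          (IsFractionRing.injective (AdicCompletion (maximalIdeal A) A) R)
      exact this
    exact isReduced_of_injective f hf
  refine Ega4B.AnUnram.finite_integralClosure_of_isReduced_tensor A
    (AdicCompletion (maximalIdeal A) A) hNag.2 K' σ hσ fun l ↦ ?_
  obtain ⟨r, hr, hrl⟩ := hL l
  refine ⟨algebraMap A K' r, Subalgebra.algebraMap_mem _ _, ?_, ?_⟩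
  · rw [isUnit_iff_ne_zero]
    exact (map_ne_zero_iff _ hinj).2 hr
  · rw [mul_comm]
    exact hrl

end Groth.Agent.S4565
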