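import Groth.Statements.S4566
import Groth.Agent.S4565
import Mathlib.RingTheory.Nilpotent.GeometricallyReduced
import Mathlib.RingTheory.Localization.BaseChange

set_option autoImplicit false
universe u
open CAlg

namespace Groth.Agent.S4566

open TensorProduct

/-- Let A be a Noetherian local domain with fraction field K whose adic completion Â is reduced, and R
the total ring of fractions of Â with its K-algebra structure. If R is geometrically reduced over K
then A is Japanese (N-2). (The published statement asks R to be a separable K-algebra; what is used
is that K' ⊗_K R is reduced for every finite extension K' of K, which geometric reducedness gives.) -/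
theorem result {A R : Type u}
    [CommRing A] [IsDomain A] [IsLocalRing A] [IsNoetherianRing A]
    (hred : IsReduced (AdicCompletion (IsLocalRing.maximalIdeal A) A))
    [CommRing R] [Algebra (AdicCompletion (IsLocalRing.maximalIdeal A) A) R]
    [IsFractionRing (AdicCompletion (IsLocalRing.maximalIdeal A) A) R] [Algebra A R]
    [IsScalarTower A (AdicCompletion (IsLocalRing.maximalIdeal A) A) R]
    [Algebra (FractionRing A) R] [IsScalarTower A (FractionRing A) R]
    (h : Algebra.IsGeometricallyReduced (FractionRing A) R) :
    CAlg.IsN2 A := by
  intro L _ _ _ _ hfd
  have h1 : IsReduced (L ⊗[FractionRing A] R) := inferInstance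
  let e : R ⊗[A] L ≃ₐ[A] L ⊗[A] R := Algebra.TensorProduct.comm A R L
  let e' : L ⊗[FractionRing A] R ≃ₐ[FractionRing A] L ⊗[A] R :=
    IsLocalization.algebraTensorEquiv (nonZeroDivisors A) (FractionRing A) L R
  have h2 : IsReduced (R ⊗[A] L) :=
    isReduced_of_injective (e.toRingEquiv.trans e'.symm.toRingEquiv)
      (e.toRingEquiv.trans e'.symm.toRingEquiv).injective
  exact S4565.result hred (R := R) h2

end Groth.Agent.S4566
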