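import Groth.Statements.S4568
import Groth.Agent.CAlg.K58.RedInt
import Mathlib.RingTheory.Ideal.KrullsHeightTheorem

set_option autoImplicit false
universe u
open CAlg

namespace Groth.Agent.S4568

/-- Let A be a Noetherian domain with fraction field K and A' its integral closure in K. Assume that for
every sub-A-algebra C of A' which is finite over A, every height-one prime of C lies over a
height-one prime of A. Then A' is the intersection in K of the localizations A'_p over the
height-one primes p of A. -/
theorem result {A : Type u} [CommRing A] [IsDomain A] [IsNoetherianRing A]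
    (h : ∀ C : Subalgebra A (FractionRing A), C ≤ integralClosure A (FractionRing A) → Module.Finite A C →
      ∀ (q : Ideal C) [q.IsPrime], q.height = 1 → (q.comap (algebraMap A C)).height = 1) :
    (integralClosure A (FractionRing A) : Set (FractionRing A)) =
      ⋂ (p : PrimeSpectrum A) (_ : p.asIdeal.height = 1),
        {x : FractionRing A | ∃ s : A, s ∉ p.asIdeal ∧
          algebraMap A (FractionRing A) s * x ∈ integralClosure A (FractionRing A)} := by
  classical
  set K := FractionRing A with hK
  apply Set.Subset.antisymm
  · intro x hx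
    simp only [Set.mem_iInter]
    intro p _
    exact ⟨1, fun h1 ↦ p.2.ne_top ((Ideal.eq_top_iff_one _).2 h1), by rw [map_one, one_mul]; exact hx⟩
  · intro x hx
    simp only [Set.mem_iInter] at hx
    by_contra hxA
    -- the denominator ideal
    let J : Ideal A :=
      { carrier := {c | algebraMap A K c * x ∈ integralClosure A K}
        add_mem' := fun {a b} ha hb ↦ by
          simp only [Set.mem_ofPred_eq] at ha hb ⊢
          rw [map_add, add_mul]
          exact add_mem ha hb
        zero_mem' := by
          simp only [Set.mem_ofPred_eq, map_zero, zero_mul]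
          exact zero_mem _
        smul_mem' := fun c a ha ↦ by
          simp only [Set.mem_ofPred_eq] at ha ⊢
          rw [smul_eq_mul, map_mul, mul_assoc]
          exact mul_mem (Subalgebra.algebraMap_mem _ c) ha }
    have hJ : J ≠ ⊤ := by
      rw [Ne, Ideal.eq_top_iff_one]
      intro h1
      apply hxA
      have h2 : algebraMap A K 1 * x ∈ integralClosure A K := h1
      rw [map_one, one_mul] at h2
      exact h2
    obtain ⟨m, hm, hJm⟩ := Ideal.exists_le_maximal J hJ
    let Am := Localization.AtPrime m
    have hMle : m.primeCompl ≤ nonZeroDivisors A := m.primeCompl_le_nonZeroDivisors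
    let _ : Algebra Am K := (IsLocalization.lift (M := m.primeCompl) (S := Am) (g := algebraMap A K)
      (fun y ↦ IsLocalization.map_units K (⟨y.1, hMle y.2⟩ : nonZeroDivisors A))).toAlgebra
    have hT1 : IsScalarTower A Am K := IsScalarTower.of_algebraMap_eq fun a ↦
      (IsLocalization.lift_eq _ a).symm
    have hdom : IsDomain Am := IsLocalization.isDomain_localization hMle
    have hfrac : IsFractionRing Am K :=
      IsFractionRing.isFractionRing_of_isDomain_of_isLocalization m.primeCompl Am K
    have hnoeth : IsNoetherianRing Am := IsLocalization.isNoetherianRing m.primeCompl Am inferInstance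
    let T : Subring K := (integralClosure Am K).toSubring
    have hTmem : ∀ z : K, z ∈ T ↔ IsIntegral Am z := fun z ↦ Iff.rfl
    have hAT : ∀ z : K, z ∈ integralClosure A K → z ∈ T := fun z hz ↦ by
      have : IsIntegral A z := hz
      exact this.tower_top
    have hTA : ∀ z : K, z ∈ T → ∃ s ∈ m.primeCompl, algebraMap A K s * z ∈ integralClosure A K := by
      intro z hz
      obtain ⟨s, hs⟩ := IsIntegral.exists_multiple_integral_of_isLocalization m.primeCompl z hz
      refine ⟨s, s.2, ?_⟩
      rw [Submonoid.smul_def, Algebra.smul_def] at hs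
      exact hs
    have hmT : ∀ s ∈ m.primeCompl, ∀ z : K, algebraMap A K s * z ∈ T → z ∈ T := by
      intro s hs z hz
      obtain ⟨u, hu⟩ := IsLocalization.map_units Am (⟨s, hs⟩ : m.primeCompl)
      have h1 : z = algebraMap Am K ((u⁻¹ : Amˣ) : Am) * (algebraMap A K s * z) := by
        rw [IsScalarTower.algebraMap_apply A Am K, ← mul_assoc, ← map_mul]
        change z = algebraMap Am K (((u⁻¹ : Amˣ) : Am) * algebraMap A Am (⟨s, hs⟩ : m.primeCompl)) * z
        rw [← hu, Units.inv_mul, map_one, one_mul]
      rw [h1]
      exact mul_mem (Subalgebra.algebraMap_mem (integralClosure Am K) _) hz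
    have hxT : x ∉ T := by
      intro hxT
      obtain ⟨s, hs, hsx⟩ := hTA x hxT
      exact hs (hJm hsx)
    obtain ⟨a, b, hb, hab⟩ := IsFractionRing.div_surjective (A := A) x
    have hb0 : algebraMap A K b ≠ 0 :=
      (map_ne_zero_iff _ (IsFractionRing.injective A K)).2 (nonZeroDivisors.ne_zero hb)
    have hAlgT : ∀ c : A, algebraMap A K c ∈ T := fun c ↦ hAT _ (Subalgebra.algebraMap_mem _ c)
    have hbx : algebraMap A K b * x ∈ T := by
      rw [← hab, mul_div_cancel₀ _ hb0]
      exact hAlgT a
    obtain ⟨N, R, _, _, _, φ, hN, -, hint, hφ⟩ := K58.RedInt.exists_noetherian_model Am K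
    obtain ⟨z, ⟨c, hcT, hzc⟩, hzT, hprime, t, htT, htz, htzz⟩ :=
      K58.RedInt.exists_colon T φ hint (fun z ↦ (hTmem z).trans (hφ z)) x hxT _ (hAlgT b) hb0 hbx
    -- the prime ideal of `A`
    let p : Ideal A :=
      { carrier := {c | algebraMap A K c * z ∈ T}
        add_mem' := fun {a b} ha hb ↦ by
          simp only [Set.mem_ofPred_eq] at ha hb ⊢
          rw [map_add, add_mul]
          exact add_mem ha hb
        zero_mem' := by
          simp only [Set.mem_ofPred_eq, map_zero, zero_mul]
          exact zero_mem _
        smul_mem' := fun c a ha ↦ by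
          simp only [Set.mem_ofPred_eq] at ha ⊢
          rw [smul_eq_mul, map_mul, mul_assoc]
          exact mul_mem (hAlgT c) ha }
    have hpmem : ∀ c : A, c ∈ p ↔ algebraMap A K c * z ∈ T := fun _ ↦ Iff.rfl
    have hp : p.IsPrime := by
      refine ⟨?_, ?_⟩
      · rw [Ne, Ideal.eq_top_iff_one]
        intro h1
        rw [hpmem, map_one, one_mul] at h1
        exact hzT h1
      · intro c d hcd
        rw [hpmem, map_mul] at hcd
        exact hprime _ (hAlgT c) _ (hAlgT d) hcd
    obtain ⟨Y, hY⟩ := IsNoetherian.noetherian p
    -- common denominators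
    have hden : ∀ S : Finset K, (∀ y ∈ S, y ∈ T) → ∃ s ∈ m.primeCompl, ∀ y ∈ S,
        algebraMap A K s * y ∈ integralClosure A K := by
      intro S
      induction S using Finset.induction_on with
      | empty => intro _; exact ⟨1, one_mem _, by simp⟩
      | insert y S _ ih =>
        intro hS
        obtain ⟨s, hs, hsS⟩ := ih fun y hy ↦ hS y (Finset.mem_insert_of_mem hy)
        obtain ⟨s', hs', hsy⟩ := hTA y (hS y (Finset.mem_insert_self _ _))
        refine ⟨s * s', mul_mem hs hs', fun w hw ↦ ?_⟩
        rcases Finset.mem_insert.1 hw with rfl | hw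
        · rw [map_mul, mul_assoc]
          exact mul_mem (Subalgebra.algebraMap_mem _ s) hsy
        · rw [map_mul, mul_right_comm, mul_comm]
          exact mul_mem (Subalgebra.algebraMap_mem _ s') (hsS w hw)
    let S : Finset K := insert t (insert (t * z) (Y.image fun y ↦ algebraMap A K y * z))
    have hST : ∀ y ∈ S, y ∈ T := by
      intro y hy
      simp only [S, Finset.mem_insert, Finset.mem_image] at hy
      rcases hy with rfl | rfl | ⟨y, hy, rfl⟩
      · exact htT
      · exact htz
      · rw [← hpmem, ← hY]
        exact Ideal.subset_span hy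
    obtain ⟨s, hs, hsS⟩ := hden S hST
    let sK := algebraMap A K s
    -- the finite algebra
    let S' : Finset K := insert (sK * t) (insert (sK * (sK * (t * z))) (Y.image fun y ↦ sK * (algebraMap A K y * z)))
    have hS' : ∀ y ∈ S', IsIntegral A y := by
      intro y hy
      simp only [S', Finset.mem_insert, Finset.mem_image] at hy
      rcases hy with rfl | rfl | ⟨y, hy, rfl⟩
      · exact hsS _ (Finset.mem_insert_self _ _)
      · exact (isIntegral_algebraMap).mul (hsS _ (Finset.mem_insert_of_mem (Finset.mem_insert_self _ _)))
      · refine hsS _ (Finset.mem_insert_of_mem (Finset.mem_insert_of_mem ?_))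
        exact Finset.mem_image_of_mem _ hy
    let C : Subalgebra A K := Algebra.adjoin A (S' : Set K)
    have hCle : C ≤ integralClosure A K := Algebra.adjoin_le fun y hy ↦ hS' y hy
    have hCfin : Module.Finite A C :=
      ⟨(Submodule.fg_top _).2 (fg_adjoin_of_finite (Finset.finite_toSet S') fun y hy ↦ hS' y hy)⟩
    have hCT : ∀ y : K, y ∈ C → y ∈ T := fun y hy ↦ hAT y (hCle hy)
    have htC : sK * t ∈ C := Algebra.subset_adjoin (by simp [S'])
    have hwC : sK * (sK * (t * z)) ∈ C := Algebra.subset_adjoin (by simp [S'])
    have huC : ∀ y ∈ Y, sK * (algebraMap A K y * z) ∈ C := fun y hy ↦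
      Algebra.subset_adjoin (by
        simp only [S', Finset.coe_insert, Finset.coe_image, Set.mem_insert_iff, Set.mem_image,
          Finset.mem_coe]
        exact Or.inr (Or.inr ⟨y, hy, rfl⟩))
    let q : Ideal C :=
      { carrier := {c | (c : K) * z ∈ T}
        add_mem' := fun {a b} ha hb ↦ by
          simp only [Set.mem_ofPred_eq] at ha hb ⊢
          rw [AddMemClass.coe_add, add_mul]
          exact add_mem ha hb
        zero_mem' := by
          simp only [Set.mem_ofPred_eq, ZeroMemClass.coe_zero, zero_mul]
          exact zero_mem _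
        smul_mem' := fun c a ha ↦ by
          simp only [Set.mem_ofPred_eq] at ha ⊢
          rw [smul_eq_mul, MulMemClass.coe_mul, mul_assoc]
          exact mul_mem (hCT _ c.2) ha }
    have hqmem : ∀ c : C, c ∈ q ↔ (c : K) * z ∈ T := fun _ ↦ Iff.rfl
    have hq : q.IsPrime := by
      refine ⟨?_, ?_⟩
      · rw [Ne, Ideal.eq_top_iff_one]
        intro h1
        rw [hqmem, OneMemClass.coe_one, one_mul] at h1
        exact hzT h1
      · intro c d hcd
        rw [hqmem, MulMemClass.coe_mul] at hcd
        exact hprime _ (hCT _ c.2) _ (hCT _ d.2) hcd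
    have htq : (⟨sK * t, htC⟩ : C) ∈ q := by
      rw [hqmem]
      change sK * t * z ∈ T
      rw [mul_assoc]
      exact mul_mem (hAlgT s) htz
    have hwq : (⟨sK * (sK * (t * z)), hwC⟩ : C) ∉ q := by
      rw [hqmem]
      intro hcon
      apply htzz
      apply hmT s hs
      apply hmT s hs
      convert hcon using 1
      change sK * (sK * (t * z * z)) = sK * (sK * (t * z)) * z
      ring
    have ht0 : sK * t ≠ 0 := by
      intro h0
      apply hwq
      have : (⟨sK * (sK * (t * z)), hwC⟩ : C) = 0 := by
        apply Subtype.ext
        change sK * (sK * (t * z)) = 0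
        have : sK * (sK * (t * z)) = (sK * t) * (sK * z) := by ring
        rw [this, h0, zero_mul]
      rw [this]
      exact zero_mem _
    obtain ⟨r, hr, hrq⟩ := Ideal.exists_minimalPrimes_le
      (show Ideal.span {(⟨sK * t, htC⟩ : C)} ≤ q by
        rw [Ideal.span_singleton_le_iff_mem]; exact htq)
    have hrp : r.IsPrime := hr.1.1
    have htr : (⟨sK * t, htC⟩ : C) ∈ r := hr.1.2 (Ideal.mem_span_singleton_self _)
    have hCnoeth : IsNoetherianRing C := IsNoetherianRing.of_finite A C
    have hr1 : r.height = 1 := by
      apply le_antisymm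
      · have : (Ideal.span {(⟨sK * t, htC⟩ : C)}).IsPrincipal := ⟨_, rfl⟩
        exact Ideal.height_le_one_of_isPrincipal_of_mem_minimalPrimes _ r hr
      · rw [Order.one_le_iff_ne_zero, Ne, Ideal.height_eq_zero_iff_eq_bot]
        intro h0
        rw [h0, Ideal.mem_bot] at htr
        exact ht0 (congrArg Subtype.val htr)
    have hpr : r.comap (algebraMap A C) = p := by
      apply le_antisymm
      · intro y hy
        have h1 : algebraMap A C y ∈ q := hrq hy
        rw [hqmem] at h1
        exact h1
      · rw [← hY, Ideal.span_le]
        intro y hy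
        have h1 : (⟨sK * (sK * (t * z)), hwC⟩ : C) * algebraMap A C y ∈ r := by
          have h2 : (⟨sK * (sK * (t * z)), hwC⟩ : C) * algebraMap A C y =
              (⟨sK * (algebraMap A K y * z), huC y hy⟩ : C) * (⟨sK * t, htC⟩ : C) := by
            apply Subtype.ext
            change sK * (sK * (t * z)) * algebraMap A K y = sK * (algebraMap A K y * z) * (sK * t)
            ring
          rw [h2]
          exact Ideal.mul_mem_left _ _ htr
        rcases hrp.mem_or_mem h1 with h3 | h3
        · exact absurd (hrq h3) hwq
        · exact h3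
    have hp1 : p.height = 1 := by
      rw [← hpr]
      exact h C hCle hCfin r hr1
    obtain ⟨s', hs', hs'x⟩ := hx ⟨p, hp⟩ hp1
    apply hs'
    change s' ∈ p
    rw [hpmem, hzc, mul_left_comm]
    exact mul_mem hcT (hAT _ hs'x)

end Groth.Agent.S4568
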