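import Groth.Statements.S4569
import Mathlib.RingTheory.Localization.Ideal
import Mathlib.Tactic.LinearCombination

set_option autoImplicit false
universe u
open CAlg

namespace Groth.Agent.S4569

/-- Let A be a ring, x a non-zero-divisor of A with p = xA prime. For every n > 0 the inverse image in A
of x^n A_p is x^n A. -/
theorem result {A : Type u} [CommRing A] (x : A)
    (hx : x ∈ nonZeroDivisors A) [(Ideal.span ({x} : Set A)).IsPrime] (n : ℕ) (hn : 0 < n) :
    Ideal.comap (algebraMap A (Localization.AtPrime (Ideal.span ({x} : Set A))))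
      (Ideal.map (algebraMap A (Localization.AtPrime (Ideal.span ({x} : Set A)))) (Ideal.span ({x ^ n} : Set A))) =
      Ideal.span ({x ^ n} : Set A) := by
  refine le_antisymm ?_ Ideal.le_comap_map
  intro a ha
  rw [Ideal.mem_comap, IsLocalization.algebraMap_mem_map_algebraMap_iff
    (Ideal.span ({x} : Set A)).primeCompl] at ha
  obtain ⟨s, hs, hsa⟩ := ha
  rw [Ideal.mem_span_singleton'] at hsa
  obtain ⟨b, hb⟩ := hsa
  have key : ∀ k ≤ n, ∃ c, a = x ^ k * c := by
    intro k
    induction k with
    | zero => intro _; exact ⟨a, by simp⟩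
    | succ k ih =>
      intro hk
      obtain ⟨c, hc⟩ := ih (by omega)
      have h1 : x ^ k * (s * c) = x ^ k * (b * x ^ (n - k)) := by
        have : x ^ n = x ^ k * x ^ (n - k) := by rw [← pow_add]; congr 1; omega
        rw [hc, this] at hb
        linear_combination (-1 : A) * hb
      have h2 : s * c = b * x ^ (n - k) := by
        have hxk : x ^ k ∈ nonZeroDivisors A := pow_mem hx k
        exact (mul_cancel_left_mem_nonZeroDivisors hxk).1 h1
      have h3 : s * c ∈ Ideal.span ({x} : Set A) := by
        rw [h2]
        apply Ideal.mul_mem_left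
        apply Ideal.pow_mem_of_mem _ (Ideal.mem_span_singleton_self x)
        omega
      have h4 : c ∈ Ideal.span ({x} : Set A) :=
        ((inferInstance : (Ideal.span ({x} : Set A)).IsPrime).mem_or_mem h3).resolve_left hs
      rw [Ideal.mem_span_singleton'] at h4
      obtain ⟨d, hd⟩ := h4
      exact ⟨d, by rw [hc, ← hd]; ring⟩
  obtain ⟨c, hc⟩ := key n le_rfl
  rw [Ideal.mem_span_singleton]
  exact ⟨c, hc⟩

end Groth.Agent.S4569
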