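import Groth.Statements.S4571
import Groth.Agent.Ega41.FieldFS
import Groth.Agent.S4538

set_option autoImplicit false
universe u
open TensorProduct KaehlerDifferential IsLocalRing
open EGA41

namespace Groth.Agent.S4571

/-- For an arbitrary local algebra: let k be a field and A a local k-algebra with maximal ideal m and
residue field K. Then A is formally smooth over k for the m-adic topology if and only if the
canonical maps Sym^n_K(m/m²) → m^n/m^(n+1) are bijective for n ≥ 1 and the canonical map Ω_{k/ℤ} ⊗_k
K → Ω_{A/ℤ} ⊗_A K is injective (absolute differentials, which agree with differentials over the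
prime field). -/
theorem result {k A : Type u} [Field k] [CommRing A]
    [IsLocalRing A] [Algebra k A] :
    CAlgX.IsAdicFormallySmooth k A (maximalIdeal A) ↔
      (PP16.SymGrBijective A (maximalIdeal A) ∧
        Function.Injective ((mapBaseChange ℤ k A).lTensor (ResidueField A))) := by
  have hperf : PerfectField (⊥ : Subfield k) := Groth.Agent.Ega41.FieldFS.perfectField_bot k
  have hk : Algebra.FormallySmooth (⊥ : Subfield k) k :=
    Groth.Agent.Ega41.SepExt.formallySmooth_of_perfectField _ _
  have hK : Algebra.FormallySmooth (⊥ : Subfield k) (ResidueField A) :=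
    Groth.Agent.Ega41.SepExt.formallySmooth_of_perfectField _ _
  have hK' : Algebra.FormallySmooth (⊥ : Subfield k) (A ⧸ maximalIdeal A) := hK
  constructor
  · intro h
    have h0 : CAlgX.IsAdicFormallySmooth (⊥ : Subfield k) A (maximalIdeal A) :=
      Groth.Agent.Ega41.FieldFS.isAdicFormallySmooth_comp _ h
    exact ⟨((Groth.Agent.S4538.result _).1 h0).2, Groth.Agent.Ega41.FieldFS.injective_of_isAdicFormallySmooth h⟩
  · rintro ⟨h1, h2⟩
    have hproj : Module.Projective (A ⧸ maximalIdeal A) (maximalIdeal A).Cotangent := by
      let _ : Field (A ⧸ maximalIdeal A) := Ideal.Quotient.field _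
      infer_instance
    exact Groth.Agent.Ega41.FieldFS.isAdicFormallySmooth_of_injective
      ((Groth.Agent.S4538.result (A := (⊥ : Subfield k)) _).2 ⟨hproj, h1⟩) h2

end Groth.Agent.S4571
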