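import Groth.Statements.S4572
import Groth.Agent.FlatA.DimFin

set_option autoImplicit false
universe u
open IsLocalRing
open EGA41

namespace Groth.Agent.S4572

/-- Let A be a regular local ring and A' a local ring containing A as a subring over which it is
module-finite. Then A' is regular if and only if the embedding dimensions agree: dim_K(m/m²) =
dim_{K'}(m'/m'²) for the maximal ideals and residue fields of A and A'. -/
theorem result {A A' : Type u} [CommRing A]
    [IsRegularLocalRing A] [CommRing A'] [IsLocalRing A'] [IsNoetherianRing A'] [Algebra A A'] [Module.Finite A A']
    (hinj : Function.Injective (algebraMap A A')) :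
    IsRegularLocalRing A' ↔
      Module.finrank (ResidueField A) (CotangentSpace A) = Module.finrank (ResidueField A') (CotangentSpace A') := by
  have h1 := (IsRegularLocalRing.iff_finrank_cotangentSpace A).1 inferInstance
  have hdim : ringKrullDim A' = ringKrullDim A :=
    Groth.Agent.FlatA.DimFin.ringKrullDim_eq_of_isIntegral_of_injective A A' hinj
  rw [IsRegularLocalRing.iff_finrank_cotangentSpace, hdim, ← h1]
  constructor
  · intro h
    exact_mod_cast h.symm
  · intro h
    exact_mod_cast h.symm

end Groth.Agent.S4572
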