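import Groth.Statements.S4577
import Groth.Agent.S2463

set_option autoImplicit false
universe u
open EGA41

namespace Groth.Agent.S4577

open TensorProduct KaehlerDifferential

/-- If `B` is formally smooth over `A`, `B → C` surjective with finitely generated conormal module, and all `C_m` are
formally smooth, then so is `C`. -/
theorem formallySmooth_of_forall {A B C : Type u} [CommRing A] [CommRing B] [CommRing C]
    [Algebra A B] [Algebra B C] [Algebra A C] [IsScalarTower A B C] [Algebra.FormallySmooth A B]
    (hsurj : Function.Surjective (algebraMap B C)) [Module.Finite B (RingHom.ker (algebraMap B C)).Cotangent]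
    (H : ∀ (m : Ideal C) [m.IsMaximal], Algebra.FormallySmooth A (Localization.AtPrime m)) :
    Algebra.FormallySmooth A C := by
  let P' : Algebra.Extension A C := ⟨B, _, Function.surjInv_eq hsurj⟩
  have hfs : Algebra.FormallySmooth A P'.Ring := ‹_›
  let e : P'.Cotangent ≃ₗ[P'.Ring] P'.ker.Cotangent :=
    { __ := AddEquiv.refl _, map_smul' := Algebra.Extension.Cotangent.val_smul' }
  have hfinB : Module.Finite P'.Ring P'.Cotangent :=
    Module.Finite.of_surjective (M := (RingHom.ker (algebraMap B C)).Cotangent) e.symm.toLinearMap e.symm.surjective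
  have hfin : Module.Finite C P'.Cotangent := Module.Finite.of_restrictScalars_finite P'.Ring _ _
  rw [P'.formallySmooth_iff_split_injection]
  let I : Ideal C :=
    { carrier := {f | ∃ l : P'.CotangentSpace →ₗ[C] P'.Cotangent, l ∘ₗ P'.cotangentComplex = f • LinearMap.id}
      add_mem' := by
        rintro a b ⟨l, hl⟩ ⟨l', hl'⟩
        exact ⟨l + l', by rw [LinearMap.add_comp, hl, hl', add_smul]⟩
      zero_mem' := ⟨0, by rw [LinearMap.zero_comp, zero_smul]⟩
      smul_mem' := by
        rintro c a ⟨l, hl⟩
        exact ⟨c • l, by rw [LinearMap.smul_comp, hl, smul_smul]; rfl⟩ }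
  have hI : I = ⊤ := by
    by_contra hne
    obtain ⟨m, hm, hIm⟩ := Ideal.exists_le_maximal I hne
    have h2 := ((Groth.Agent.S2463.result (A := A) hsurj m).out 0 1).1 (H m)
    have c1 : TensorProduct.CompatibleSMul B C m.ResidueField P'.Cotangent :=
      TensorProduct.CompatibleSMul.of_algebraMap_surjective _ _ hsurj
    have c2 : TensorProduct.CompatibleSMul B C m.ResidueField (C ⊗[B] Ω[B⁄A]) :=
      TensorProduct.CompatibleSMul.of_algebraMap_surjective _ _ hsurj
    let E1 : m.ResidueField ⊗[C] P'.Cotangent ≃ₗ[B] m.ResidueField ⊗[B] (RingHom.ker (algebraMap B C)).Cotangent :=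
      TensorProduct.equivOfCompatibleSMul B C B m.ResidueField P'.Cotangent ≪≫ₗ
        TensorProduct.congr (LinearEquiv.refl B _) e
    let E2 : m.ResidueField ⊗[C] (C ⊗[B] Ω[B⁄A]) ≃ₗ[B] m.ResidueField ⊗[B] (C ⊗[B] Ω[B⁄A]) :=
      TensorProduct.equivOfCompatibleSMul B C B m.ResidueField (C ⊗[B] Ω[B⁄A])
    have hcomm : ∀ x, E2 (P'.cotangentComplex.lTensor m.ResidueField x) =
        (kerCotangentToTensor A B C).lTensor m.ResidueField (E1 x) := by
      intro x
      induction x using TensorProduct.induction_on with
      | zero => simp
      | add x y hx hy => rw [map_add, map_add, hx, hy, map_add, map_add]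
      | tmul k m => rfl
    have hinj : Function.Injective (P'.cotangentComplex.lTensor m.ResidueField) := by
      intro x y hxy
      apply E1.injective
      apply h2
      rw [← hcomm, ← hcomm, hxy]
    obtain ⟨f, hf, l, hl⟩ := Ega41.SplitSpread.exists_leftInverse_of_lTensor_residueField_injective
      P'.cotangentComplex m hinj
    exact hf (hIm ⟨l, by ext x; simp [hl]⟩)
  have h1 : (1 : C) ∈ I := by rw [hI]; trivial
  obtain ⟨l, hl⟩ := h1
  exact ⟨l, by rw [hl, one_smul]⟩

/-- Let B be a formally smooth A-algebra (discrete topologies) and C = B/J a quotient with J/J² finitely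
generated. Then C is formally smooth over A if and only if C_m is formally smooth over A for every
maximal ideal m of C (hence also if and only if every C_p, p prime, is). (Not stated: the variant of
the localised condition with C_m formally smooth over A_q, q the contraction of m to A, and the
further assertion that for B Noetherian the discrete topologies in the localised condition may be
replaced by the adic ones.) -/
theorem result {A B C : Type u} [CommRing A] [CommRing B] [CommRing C]
    [Algebra A B] [Algebra B C] [Algebra A C] [IsScalarTower A B C] [Algebra.FormallySmooth A B]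
    (hsurj : Function.Surjective (algebraMap B C)) [Module.Finite B (RingHom.ker (algebraMap B C)).Cotangent] :
    Algebra.FormallySmooth A C ↔
      ∀ (m : Ideal C) [m.IsMaximal], Algebra.FormallySmooth A (Localization.AtPrime m) := by
  refine ⟨fun h m _ => ?_, fun H => formallySmooth_of_forall hsurj H⟩
  have : Algebra.FormallySmooth C (Localization.AtPrime m) := Algebra.FormallySmooth.of_isLocalization m.primeCompl
  exact Algebra.FormallySmooth.comp A C _

end Groth.Agent.S4577
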