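import Groth.Statements.S4578
import Groth.Agent.S2463
import Groth.Agent.EGA41.K100.AdicJacPrime
import Groth.Agent.EGA41.K100.GeomReg

set_option autoImplicit false
universe u
open IsLocalRing
open EGA41

namespace Groth.Agent.S4578

/-- Formal smoothness implies adic formal smoothness. -/
theorem isAdicFormallySmooth_of_formallySmooth {k S : Type u} [CommRing k] [CommRing S] [Algebra k S]
    [Algebra.FormallySmooth k S] (𝔫 : Ideal S) : CAlgX.IsAdicFormallySmooth k S 𝔫 := by
  intro A _ _ J hJ ψ _
  exact Algebra.FormallySmooth.exists_lift J ⟨2, hJ⟩ ψ

/-- Let k₀ be a field, k an extension field of k₀ which is separable (formally smooth) over k₀, C a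
k-algebra of finite type and p a prime ideal of C. The following are equivalent: C_p is formally
smooth over k₀ (discrete topologies); C_p is formally smooth over k₀ for the adic topology of its
maximal ideal; C_f is formally smooth over k₀ for some f ∉ p; C_p is geometrically regular over k₀.
(The published statement adds that the set of primes p having these properties is open in Spec C;
that openness is not stated here.) -/
theorem result {k₀ k C : Type u} [Field k₀] [Field k] [Algebra k₀ k]
    [Algebra.FormallySmooth k₀ k] [CommRing C] [Algebra k C] [Algebra k₀ C] [IsScalarTower k₀ k C]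
    [Algebra.FiniteType k C]
    (p : Ideal C) [p.IsPrime] :
    [Algebra.FormallySmooth k₀ (Localization.AtPrime p),
     CAlgX.IsAdicFormallySmooth k₀ (Localization.AtPrime p) (maximalIdeal (Localization.AtPrime p)),
     ∃ f : C, f ∉ p ∧ Algebra.FormallySmooth k₀ (Localization.Away f),
     CAlg.IsGeometricallyRegular k₀ (Localization.AtPrime p)].TFAE := by
  obtain ⟨n, f, hf⟩ := Algebra.FiniteType.iff_quotient_mvPolynomial''.1 (inferInstance : Algebra.FiniteType k C)
  let B := MvPolynomial (Fin n) k
  let _ : Algebra B C := f.toRingHom.toAlgebra
  have hkBC : IsScalarTower k B C := IsScalarTower.of_algebraMap_eq fun x => (f.commutes x).symm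
  have hk₀BC : IsScalarTower k₀ B C := IsScalarTower.of_algebraMap_eq fun x => by
    rw [IsScalarTower.algebraMap_apply k₀ k B, ← IsScalarTower.algebraMap_apply k B C,
      ← IsScalarTower.algebraMap_apply k₀ k C]
  have hsurj : Function.Surjective (algebraMap B C) := hf
  have : Algebra.FormallySmooth k₀ B := Algebra.FormallySmooth.comp k₀ k B
  have : Module.Finite B (RingHom.ker (algebraMap B C)).Cotangent :=
    Module.Finite.of_surjective _ (Ideal.toCotangent_surjective _)
  have : IsNoetherianRing C := isNoetherianRing_of_surjective B C _ hsurj
  have : IsNoetherianRing (Localization.AtPrime p) := IsLocalization.isNoetherianRing p.primeCompl _ inferInstance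
  have H := Groth.Agent.S2463.result (A := k₀) hsurj p
  tfae_have 1 → 2 := fun h => isAdicFormallySmooth_of_formallySmooth _
  tfae_have 2 → 3 := fun h => by
    have h1 := K100.AdicJacPrime.injective_of_isAdicFormallySmooth (A := k₀) hsurj p h
    exact (H.out 1 2).1 h1
  tfae_have 3 → 1 := fun h => (H.out 2 0).1 h
  tfae_have 2 ↔ 4 := K100.GeomReg.isAdicFormallySmooth_iff
  tfae_finish

end Groth.Agent.S4578
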