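import Groth.Statements.S4579
import Groth.Agent.S4577
import Groth.Agent.S4578

set_option autoImplicit false
universe u
open EGA41

namespace Groth.Agent.S4579

open TensorProduct in
/-- A Noetherian-type formally smooth algebra over a field is geometrically regular. -/
theorem isGeometricallyRegular_of_formallySmooth {k C : Type u} [Field k] [CommRing C] [Algebra k C]
    [IsNoetherianRing C] [Algebra.FormallySmooth k C] : CAlg.IsGeometricallyRegular k C := by
  intro k' _ _ hk'
  have : IsNoetherianRing (k' ⊗[k] C) := by
    have : IsNoetherianRing (C ⊗[k] k') := IsNoetherianRing.of_finite C _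
    exact isNoetherianRing_of_ringEquiv (C ⊗[k] k') (Algebra.TensorProduct.comm k C k').toRingEquiv
  refine ⟨fun P _ => ?_⟩
  have : Algebra.FormallySmooth (k' ⊗[k] C) (Localization.AtPrime P) :=
    Algebra.FormallySmooth.of_isLocalization P.primeCompl
  have : Algebra.FormallySmooth k' (Localization.AtPrime P) := Algebra.FormallySmooth.comp k' (k' ⊗[k] C) _
  have : IsNoetherianRing (Localization.AtPrime P) := IsLocalization.isNoetherianRing P.primeCompl _ inferInstance
  have h1 := (K100.GeomReg.isAdicFormallySmooth_iff (k := k') (F := Localization.AtPrime P)).1
    (Groth.Agent.S4578.isAdicFormallySmooth_of_formallySmooth _)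
  have h2 := K100.GeomReg.isRegularRing_of_isGeometricallyRegular h1
  exact IsRegularLocalRing.of_isRegularRing_of_isLocalRing _

/-- Let k₀ be a field, k a separable (formally smooth) extension field of k₀ and C a k-algebra of finite
type. The following are equivalent: C is formally smooth over k₀ (discrete topologies); every C_p, p
prime, is formally smooth over k₀; every C_m, m maximal, is; C is geometrically regular over k₀.
(Geometric regularity is tested on finite extensions of k₀. The published statement quantifies the
last condition over all extensions k' of k₀; for infinite ones the base change need not be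
Noetherian, so it need not be regular in the Noetherian sense, and the printed proof passes through
the local rings as here.) -/
theorem result {k₀ k C : Type u} [Field k₀] [Field k] [Algebra k₀ k]
    [Algebra.FormallySmooth k₀ k] [CommRing C] [Algebra k C] [Algebra k₀ C] [IsScalarTower k₀ k C]
    [Algebra.FiniteType k C] :
    [Algebra.FormallySmooth k₀ C,
     ∀ (p : Ideal C) [p.IsPrime], Algebra.FormallySmooth k₀ (Localization.AtPrime p),
     ∀ (m : Ideal C) [m.IsMaximal], Algebra.FormallySmooth k₀ (Localization.AtPrime m),
     CAlg.IsGeometricallyRegular k₀ C].TFAE := by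
  obtain ⟨n, f, hf⟩ := Algebra.FiniteType.iff_quotient_mvPolynomial''.1 (inferInstance : Algebra.FiniteType k C)
  let B := MvPolynomial (Fin n) k
  let _ : Algebra B C := f.toRingHom.toAlgebra
  have hkBC : IsScalarTower k B C := IsScalarTower.of_algebraMap_eq fun x => (f.commutes x).symm
  have hk₀BC : IsScalarTower k₀ B C := IsScalarTower.of_algebraMap_eq fun x => by
    rw [IsScalarTower.algebraMap_apply k₀ k B, ← IsScalarTower.algebraMap_apply k B C,
      ← IsScalarTower.algebraMap_apply k₀ k C]
  have hsurj : Function.Surjective (algebraMap B C) := hf
  have : Algebra.FormallySmooth k₀ B := Algebra.FormallySmooth.comp k₀ k B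
  have : Module.Finite B (RingHom.ker (algebraMap B C)).Cotangent :=
    Module.Finite.of_surjective _ (Ideal.toCotangent_surjective _)
  have : IsNoetherianRing C := isNoetherianRing_of_surjective B C _ hsurj
  tfae_have 1 → 2 := fun h p _ => by
    have : Algebra.FormallySmooth C (Localization.AtPrime p) := Algebra.FormallySmooth.of_isLocalization p.primeCompl
    exact Algebra.FormallySmooth.comp k₀ C _
  tfae_have 2 → 3 := fun h m _ => h m
  tfae_have 3 → 1 := fun h => Groth.Agent.S4577.formallySmooth_of_forall hsurj h
  tfae_have 1 → 4 := fun h => isGeometricallyRegular_of_formallySmooth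
  tfae_have 4 → 2 := fun h p _ => by
    have h1 := K100.GeomReg.isGeometricallyRegular_of_isLocalization h p.primeCompl (Localization.AtPrime p)
    exact ((Groth.Agent.S4578.result (k₀ := k₀) (k := k) p).out 3 0).1 h1
  tfae_finish

end Groth.Agent.S4579
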