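import Groth.Statements.S4580
import Groth.Agent.S2463
import Groth.Agent.EGA41.K100.ZarJac

set_option autoImplicit false
universe u
open EGA41

namespace Groth.Agent.S4580

/-- Let k₀ be a field, k a separable (formally smooth) extension field of k₀, B = k[T_1, ..., T_r], J an
ideal of B and q a prime of B containing J, with image p in C = B/J. Then C_p is formally smooth
over k₀ for the discrete topologies if and only if there exist f_1, ..., f_m ∈ J whose images
generate J B_q and k₀-derivations D_1, ..., D_m of B with det(D_j f_i) ∉ q. -/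
theorem result {k₀ k : Type u} [Field k₀] [Field k] [Algebra k₀ k]
    [Algebra.FormallySmooth k₀ k] (r : ℕ) (J q : Ideal (MvPolynomial (Fin r) k)) [q.IsPrime] (hJq : J ≤ q)
    [(q.map (Ideal.Quotient.mk J)).IsPrime] :
    Algebra.FormallySmooth k₀ (Localization.AtPrime (q.map (Ideal.Quotient.mk J))) ↔
      ∃ (m : ℕ) (f : Fin m → MvPolynomial (Fin r) k) (D : Fin m → Derivation k₀ (MvPolynomial (Fin r) k) (MvPolynomial (Fin r) k)),
        (∀ i, f i ∈ J) ∧
        J.map (algebraMap (MvPolynomial (Fin r) k) (Localization.AtPrime q)) =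
          Ideal.span (Set.range fun i => algebraMap (MvPolynomial (Fin r) k) (Localization.AtPrime q) (f i)) ∧
        Matrix.det (Matrix.of fun i j => D j (f i)) ∉ q := by
  have hker : RingHom.ker (algebraMap (MvPolynomial (Fin r) k) (MvPolynomial (Fin r) k ⧸ J)) = J := by
    rw [Ideal.Quotient.algebraMap_eq, Ideal.mk_ker]
  have hq : (q.map (Ideal.Quotient.mk J)).comap (algebraMap (MvPolynomial (Fin r) k) (MvPolynomial (Fin r) k ⧸ J)) = q := by
    rw [Ideal.Quotient.algebraMap_eq, Ideal.comap_map_of_surjective _ Ideal.Quotient.mk_surjective,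
      ← RingHom.ker_eq_comap_bot, Ideal.mk_ker, sup_eq_left.2 hJq]
  have hsurj : Function.Surjective (algebraMap (MvPolynomial (Fin r) k) (MvPolynomial (Fin r) k ⧸ J)) :=
    Ideal.Quotient.mk_surjective
  have : Algebra.FormallySmooth k₀ (MvPolynomial (Fin r) k) := Algebra.FormallySmooth.comp k₀ k _
  have : Module.Finite (MvPolynomial (Fin r) k)
      (RingHom.ker (algebraMap (MvPolynomial (Fin r) k) (MvPolynomial (Fin r) k ⧸ J))).Cotangent :=
    Module.Finite.of_surjective _ (Ideal.toCotangent_surjective _)
  have H : Algebra.FormallySmooth k₀ (Localization.AtPrime (q.map (Ideal.Quotient.mk J))) ↔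
      Function.Injective ((KaehlerDifferential.kerCotangentToTensor k₀ (MvPolynomial (Fin r) k)
        (MvPolynomial (Fin r) k ⧸ J)).lTensor (q.map (Ideal.Quotient.mk J)).ResidueField) :=
    (Groth.Agent.S2463.result (A := k₀) hsurj (q.map (Ideal.Quotient.mk J))).out 0 1
  rw [H]
  constructor
  · intro h
    obtain ⟨m, f, D, hf, ⟨g, hg, hgx⟩, hdet⟩ := K100.ZarJac.jacobian_of_injective
      ((isNoetherianRing_iff_ideal_fg _).1 inferInstance _) _ h
    rw [hq] at hg hdet
    rw [hker] at hgx
    simp only [hker] at hf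
    refine ⟨m, f, D, hf, ?_, hdet⟩
    apply le_antisymm
    · rw [Ideal.map_le_iff_le_comap]
      intro x hx
      have h1 : algebraMap (MvPolynomial (Fin r) k) (Localization.AtPrime q) (g * x) ∈
          (Ideal.span (Set.range f)).map (algebraMap (MvPolynomial (Fin r) k) (Localization.AtPrime q)) :=
        Ideal.mem_map_of_mem _ (hgx x hx)
      rw [map_mul, Ideal.map_span, ← Set.range_comp] at h1
      exact (Ideal.unit_mul_mem_iff_mem _ (IsLocalization.map_units (Localization.AtPrime q)
        (⟨g, hg⟩ : q.primeCompl))).1 h1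
    · rw [Ideal.span_le]
      rintro _ ⟨i, rfl⟩
      exact Ideal.mem_map_of_mem _ (hf i)
  · rintro ⟨m, f, D, hf, hspan, hdet⟩
    refine K100.ZarJac.injective_of_jacobian _ f D (fun i => by rw [hker]; exact hf i) (fun x hx => ?_)
      (by rw [hq]; exact hdet)
    rw [hker] at hx
    rw [hq]
    have h1 : algebraMap (MvPolynomial (Fin r) k) (Localization.AtPrime q) x ∈
        (Ideal.span (Set.range f)).map (algebraMap (MvPolynomial (Fin r) k) (Localization.AtPrime q)) := by
      rw [Ideal.map_span, ← Set.range_comp]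
      have h2 : algebraMap (MvPolynomial (Fin r) k) (Localization.AtPrime q) x ∈
        J.map (algebraMap (MvPolynomial (Fin r) k) (Localization.AtPrime q)) := Ideal.mem_map_of_mem _ hx
      rw [hspan] at h2
      exact h2
    obtain ⟨s, hs, hsx⟩ := (IsLocalization.algebraMap_mem_map_algebraMap_iff q.primeCompl _ _ _).1 h1
    exact ⟨s, hs, hsx⟩

end Groth.Agent.S4580
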