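import Groth.Statements.S4581
import Groth.Agent.EGA41.K100.DerCompl
import Groth.Agent.Ega4fib.H121.FSRel

set_option autoImplicit false
universe u
open EGA41

namespace Groth.Agent.S4581

open TensorProduct in
/-- The general form: `A` Noetherian with `Ω_{A/A₀}` finite, any ideal `I`. -/
theorem main {A₀ A : Type u} [CommRing A₀] [CommRing A] [IsNoetherianRing A] [Algebra A₀ A]
    [Module.Finite A (Ω[A⁄A₀])] (I : Ideal A) :
    EGA41.IsFormallySmoothRel A₀ A (AdicCompletion I A) := by
  have : IsScalarTower A₀ (AdicCompletion I A) (AdicCompletion I (Ω[A⁄A₀])) := ⟨fun c a m => by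
    rw [← algebraMap_smul A c a, smul_assoc, algebraMap_smul]⟩
  obtain ⟨D', hD'⟩ := K100.DerCompl.exists_derivation I (KaehlerDifferential.D A₀ A)
  let e := AdicCompletion.ofTensorProductEquivOfFiniteNoetherian I (Ω[A⁄A₀])
  let l : Ω[AdicCompletion I A⁄A₀] →ₗ[AdicCompletion I A] AdicCompletion I A ⊗[A] Ω[A⁄A₀] :=
    e.symm.toLinearMap ∘ₗ D'.liftKaehlerDifferential
  refine Groth.Agent.Ega4fib.H121.FSRel.isFormallySmoothRel_of_leftInverse A₀ A (AdicCompletion I A) l ?_
  apply LinearMap.ext
  intro z
  rw [LinearMap.comp_apply, LinearMap.id_apply]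
  induction z using TensorProduct.induction_on with
  | zero => simp
  | add x y hx hy => rw [map_add, map_add, hx, hy]
  | tmul a ω =>
    have hω : ω ∈ Submodule.span A (Set.range (KaehlerDifferential.D A₀ A)) := by
      rw [KaehlerDifferential.span_range_derivation]; trivial
    induction hω using Submodule.span_induction with
    | mem ω hω =>
      obtain ⟨x, rfl⟩ := hω
      rw [KaehlerDifferential.mapBaseChange_tmul, KaehlerDifferential.map_D, map_smul]
      change a • e.symm (D'.liftKaehlerDifferential (KaehlerDifferential.D A₀ (AdicCompletion I A) (algebraMap A _ x))) = _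
      rw [Derivation.liftKaehlerDifferential_comp_D, hD',
        AdicCompletion.ofTensorProductEquivOfFiniteNoetherian_symm_of, TensorProduct.smul_tmul', smul_eq_mul, mul_one]
    | zero => simp
    | add x y _ _ hx hy => rw [TensorProduct.tmul_add, map_add, map_add, hx, hy]
    | smul c x _ hx =>
      rw [TensorProduct.tmul_smul, ← algebraMap_smul (AdicCompletion I A) c (a ⊗ₜ[A] x), map_smul, map_smul, hx]

/-- Let A₀ be a semi-local Noetherian ring, A a module-finite A₀-algebra and Â the completion of A for
the adic topology of its Jacobson radical. For the discrete topologies, Â is a formally smooth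
A-algebra relative to A₀. -/
theorem result {A₀ A : Type u} [CommRing A₀]
    [IsNoetherianRing A₀] [Finite (MaximalSpectrum A₀)] [CommRing A] [Algebra A₀ A] [Module.Finite A₀ A] :
    EGA41.IsFormallySmoothRel A₀ A (AdicCompletion (Ideal.jacobson (⊥ : Ideal A)) A) := by
  have : IsNoetherianRing A := IsNoetherianRing.of_finite A₀ A
  exact main _

end Groth.Agent.S4581
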