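import Groth.Statements.S4582
import Groth.Agent.S2038
import Groth.Agent.S0598
import Groth.Agent.CalgB.RegHom8
import Groth.Agent.Ega41.LiftUnique
import Groth.Agent.Ega4A.CompleteNoeth

set_option autoImplicit false
universe u
open IsLocalRing
open EGA41

namespace Groth.Agent.S4582

/-- A local homomorphism of Noetherian local rings which is regular is formally smooth for the adic
topology of the maximal ideal of the target. -/
theorem isAdicFormallySmooth_of_isRegularHom {A B : Type u} [CommRing A] [CommRing B] [IsLocalRing A]
    [IsLocalRing B] [IsNoetherianRing A] [IsNoetherianRing B] [Algebra A B]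
    [IsLocalHom (algebraMap A B)] (h : CAlg.IsRegularHom A B) :
    CAlgX.IsAdicFormallySmooth A B (maximalIdeal B) :=
  Groth.Agent.S2038.result.1 ⟨h.1, (h.2 (maximalIdeal A)).2⟩

/-- The local homomorphisms `R_p → S_q` attached to a regular homomorphism of Noetherian rings are
formally smooth for the adic topologies of the maximal ideals. -/
theorem isAdicFormallySmooth_atPrime {R S : Type u} [CommRing R] [CommRing S] [Algebra R S]
    [IsNoetherianRing R] [IsNoetherianRing S] (h : CAlg.IsRegularHom R S) (q : Ideal S) [q.IsPrime]
    [Algebra (Localization.AtPrime (q.comap (algebraMap R S))) (Localization.AtPrime q)]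
    [IsScalarTower R (Localization.AtPrime (q.comap (algebraMap R S))) (Localization.AtPrime q)] :
    IsLocalHom (algebraMap (Localization.AtPrime (q.comap (algebraMap R S))) (Localization.AtPrime q)) ∧
    CAlgX.IsAdicFormallySmooth (Localization.AtPrime (q.comap (algebraMap R S)))
      (Localization.AtPrime q) (maximalIdeal (Localization.AtPrime q)) := by
  let p := q.comap (algebraMap R S)
  have hlo : q.LiesOver p := ⟨rfl⟩
  have hmap : algebraMap (Localization.AtPrime p) (Localization.AtPrime q) =
      Localization.localRingHom p q (algebraMap R S) Ideal.LiesOver.over := by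
    apply IsLocalization.ringHom_ext p.primeCompl
    rw [← IsScalarTower.algebraMap_eq]
    ext x
    rw [RingHom.comp_apply, Localization.localRingHom_to_map, ← IsScalarTower.algebraMap_apply]
  have hlies : Localization.AtPrime.IsLiesOverAlgebra p q := ⟨hmap⟩
  have hloc : IsLocalHom (algebraMap (Localization.AtPrime p) (Localization.AtPrime q)) := by
    rw [hmap]; infer_instance
  have h1 : CAlg.IsRegularHom (Localization.AtPrime p) (Localization.AtPrime q) :=
    Groth.Agent.CalgB.RegHom8.isRegularHom_atPrime h p q
  have hN1 : IsNoetherianRing (Localization.AtPrime p) :=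
    IsLocalization.isNoetherianRing p.primeCompl _ inferInstance
  have hN2 : IsNoetherianRing (Localization.AtPrime q) :=
    IsLocalization.isNoetherianRing q.primeCompl _ inferInstance
  exact ⟨hloc, isAdicFormallySmooth_of_isRegularHom h1⟩

/-- Let A be a complete Noetherian local ring, p a prime of A, B = A_p, B̂ the completion of B, q a
prime of B̂ and r its contraction to B. Then B̂_q is formally smooth over B_r for the adic
topologies of the maximal ideals. -/
theorem result {A : Type u} [CommRing A]
    [IsLocalRing A] [IsNoetherianRing A] [IsAdicComplete (maximalIdeal A) A] (p : Ideal A) [p.IsPrime]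
    (q : Ideal (AdicCompletion (maximalIdeal (Localization.AtPrime p)) (Localization.AtPrime p))) [q.IsPrime]
    [Algebra (Localization.AtPrime (q.comap (algebraMap (Localization.AtPrime p)
        (AdicCompletion (maximalIdeal (Localization.AtPrime p)) (Localization.AtPrime p)))))
      (Localization.AtPrime q)]
    [IsScalarTower (Localization.AtPrime p)
      (Localization.AtPrime (q.comap (algebraMap (Localization.AtPrime p)
        (AdicCompletion (maximalIdeal (Localization.AtPrime p)) (Localization.AtPrime p)))))
      (Localization.AtPrime q)] :
    EGA41.IsFormallySmoothAdic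
      (Localization.AtPrime (q.comap (algebraMap (Localization.AtPrime p)
        (AdicCompletion (maximalIdeal (Localization.AtPrime p)) (Localization.AtPrime p)))))
      (maximalIdeal _) (Localization.AtPrime q) (maximalIdeal _) := by
  have hreg := (Groth.Agent.S0598.result A).2 p
  have hN1 : IsNoetherianRing (Localization.AtPrime p) :=
    IsLocalization.isNoetherianRing p.primeCompl _ inferInstance
  have hN2 : IsNoetherianRing
      (AdicCompletion (maximalIdeal (Localization.AtPrime p)) (Localization.AtPrime p)) :=
    Groth.Agent.Ega4A.CompleteNoeth.isNoetherianRing_adicCompletion _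
  obtain ⟨hloc, h⟩ := isAdicFormallySmooth_atPrime hreg q
  rw [Groth.Agent.Ega41.LiftUnique.iff_isAdicFormallySmooth]
  · exact h
  · exact IsLocalRing.map_maximalIdeal_le _

end Groth.Agent.S4582
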