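import Groth.Statements.S4583
import Groth.Agent.S2038
import Groth.Agent.S0598
import Groth.Agent.CalgB.RegHom8
import Groth.Agent.Ega4A.CompleteNoeth

set_option autoImplicit false
universe u
open IsLocalRing
open EGA41

namespace Groth.Agent.S4583

/-- The result, without the superfluous `A`-algebra structure. -/
theorem aux {A : Type u} [CommRing A]
    [IsDomain A] [IsLocalRing A] [IsNoetherianRing A] [IsAdicComplete (maximalIdeal A) A] (p : Ideal A) [p.IsPrime]
    (q : Ideal (AdicCompletion (maximalIdeal (Localization.AtPrime p)) (Localization.AtPrime p))) [q.IsPrime]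
    [Algebra (FractionRing A) (Localization.AtPrime q)] [IsScalarTower A (FractionRing A) (Localization.AtPrime q)] :
    CAlgX.IsAdicFormallySmooth (FractionRing A) (Localization.AtPrime q) (maximalIdeal (Localization.AtPrime q)) := by
  have hN2 : IsNoetherianRing
      (AdicCompletion (maximalIdeal (Localization.AtPrime p)) (Localization.AtPrime p)) :=
    Groth.Agent.Ega4A.CompleteNoeth.isNoetherianRing_adicCompletion _
  have hN3 : IsNoetherianRing (Localization.AtPrime q) :=
    IsLocalization.isNoetherianRing q.primeCompl _ inferInstance
  -- `A → B → B̂` is regular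
  have h1 : CAlg.IsRegularHom A
      (AdicCompletion (maximalIdeal (Localization.AtPrime p)) (Localization.AtPrime p)) :=
    Groth.Agent.CalgB.RegHom6.isRegularHom_comp
      (Groth.Agent.CalgB.RegHom7.isRegularHom_of_isLocalization (Localization.AtPrime p) p.primeCompl)
      ((Groth.Agent.S0598.result A).2 p)
  have h2 : CAlg.IsRegularHom A (Localization.AtPrime q) :=
    Groth.Agent.CalgB.RegHom7.isRegularHom_localization_right (Localization.AtPrime q) q.primeCompl h1
  have h3 : CAlg.IsRegularHom (FractionRing A) (Localization.AtPrime q) :=
    Groth.Agent.CalgB.RegHom7.isRegularHom_localization_left (R := A) (FractionRing A)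
      (nonZeroDivisors A) h2
  have hloc : IsLocalHom (algebraMap (FractionRing A) (Localization.AtPrime q)) := by
    refine ⟨fun a ha => ?_⟩
    rcases eq_or_ne a 0 with rfl | h
    · rw [map_zero] at ha
      exact absurd ha not_isUnit_zero
    · exact h.isUnit
  exact Groth.Agent.S2038.result.1 ⟨h3.1, (h3.2 (maximalIdeal (FractionRing A))).2⟩

/-- Let A be a complete Noetherian local domain with fraction field K, p a prime of A, B = A_p, q a
prime of the completion B̂ of B with q ∩ B = 0. Then B̂_q is a K-algebra formally smooth over K for
the adic topology of its maximal ideal (the published statement adds that it is then geometrically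
regular over K; that consequence is not stated). -/
theorem result {A : Type u} [CommRing A]
    [IsDomain A] [IsLocalRing A] [IsNoetherianRing A] [IsAdicComplete (maximalIdeal A) A] (p : Ideal A) [p.IsPrime]
    (q : Ideal (AdicCompletion (maximalIdeal (Localization.AtPrime p)) (Localization.AtPrime p))) [q.IsPrime]
    (hq : q.comap (algebraMap (Localization.AtPrime p)
      (AdicCompletion (maximalIdeal (Localization.AtPrime p)) (Localization.AtPrime p))) = ⊥)
    [Algebra A (Localization.AtPrime q)]
    [IsScalarTower A (AdicCompletion (maximalIdeal (Localization.AtPrime p)) (Localization.AtPrime p))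
      (Localization.AtPrime q)]
    [Algebra (FractionRing A) (Localization.AtPrime q)] [IsScalarTower A (FractionRing A) (Localization.AtPrime q)] :
    CAlgX.IsAdicFormallySmooth (FractionRing A) (Localization.AtPrime q) (maximalIdeal (Localization.AtPrime q)) := by
  exact aux p q

end Groth.Agent.S4583
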