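import Groth.Statements.S4584
import Mathlib.AlgebraicGeometry.Limits
import Mathlib.RingTheory.Spectrum.Prime.ConstructibleSet
import Mathlib.AlgebraicGeometry.Morphisms.FinitePresentation

set_option autoImplicit false
universe u
open AlgebraicGeometry CategoryTheory Topology
open EGA41

namespace Groth.Agent.S4584

open CategoryTheory.Limits

lemma range_sigmaDesc {X : Scheme.{u}} {ι : Type u} {Y : ι → Scheme.{u}} (f : ∀ i, Y i ⟶ X) :
    Set.range (Sigma.desc f).base = ⋃ i, Set.range (f i).base := by
  apply Set.Subset.antisymm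
  · rintro _ ⟨y, rfl⟩
    obtain ⟨i, x, rfl⟩ := (sigmaOpenCover Y).exists_eq y
    refine Set.mem_iUnion.mpr ⟨i, x, ?_⟩
    change (f i).base x = (Sigma.desc f).base ((Sigma.ι Y i).base x)
    rw [← Sigma.ι_desc f i]; rfl
  · apply Set.iUnion_subset
    rintro i _ ⟨x, rfl⟩
    refine ⟨(Sigma.ι Y i).base x, ?_⟩
    conv_rhs => rw [← Sigma.ι_desc f i]
    rfl

open PrimeSpectrum in
/-- affine case, one basic constructible set -/
lemma exists_basic {R : Type u} [CommRing R] (C : BasicConstructibleSetData R) :
    ∃ (S : Type u) (_ : CommRing S) (f : R →+* S), f.FinitePresentation ∧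
      Set.range (PrimeSpectrum.comap f) = C.toSet := by
  let I := Ideal.span (Set.range C.g)
  let f := Ideal.Quotient.mk I C.f
  refine ⟨Localization.Away f, inferInstance, (algebraMap (R ⧸ I) (Localization.Away f)).comp
    (Ideal.Quotient.mk I), ?_, ?_⟩
  · apply RingHom.FinitePresentation.comp
    · have : Algebra.FinitePresentation (R ⧸ I) (Localization.Away f) :=
        IsLocalization.Away.finitePresentation f
      rw [RingHom.finitePresentation_algebraMap]
      exact this
    · refine RingHom.FinitePresentation.of_surjective _ Ideal.Quotient.mk_surjective ?_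
      rw [Ideal.mk_ker]
      exact ⟨(Set.finite_range C.g).toFinset, by simp [I]⟩
  · trans comap (Ideal.Quotient.mk I) '' (Set.range (comap (algebraMap _ (Localization.Away f))))
    · rw [← Set.range_comp]; rfl
    · rw [localization_away_comap_range _ f, ← comap_basicOpen, TopologicalSpace.Opens.coe_comap,
        ContinuousMap.coe_mk, Set.image_preimage_eq_inter_range,
        range_comap_of_surjective _ _ Ideal.Quotient.mk_surjective, BasicConstructibleSetData.toSet,
        Set.sdiff_eq_compl_inter, basicOpen_eq_zeroLocus_compl, Ideal.mk_ker, zeroLocus_span]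

/-- affine case -/
lemma exists_affine (X : Scheme.{u}) [IsAffine X] (Z : Set X) (hZ : IsConstructible Z) :
    ∃ (X' : Scheme.{u}) (f : X' ⟶ X), IsAffine X' ∧ LocallyOfFinitePresentation f ∧
      Set.range f.base = Z := by
  let e := X.isoSpec
  have hZ' : IsConstructible (e.inv.base ⁻¹' Z) := by
    have h1 : IsLocallyConstructible (e.inv.base ⁻¹' Z) :=
      hZ.isLocallyConstructible.preimage_of_isOpenEmbedding e.inv.isOpenEmbedding
    exact h1.isConstructible
  obtain ⟨s, hs⟩ := PrimeSpectrum.exists_constructibleSetData_iff.mpr hZ'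
  choose S hS f hf hr using fun C : PrimeSpectrum.BasicConstructibleSetData Γ(X, ⊤) => exists_basic C
  let g : ∀ i : s, (Spec (CommRingCat.of (S i.1)) : Scheme.{u}) ⟶ X := fun i =>
    Spec.map (CommRingCat.ofHom (f i.1)) ≫ e.inv
  have hg : ∀ i, LocallyOfFinitePresentation (g i) := by
    intro i
    have : LocallyOfFinitePresentation (Spec.map (CommRingCat.ofHom (f i.1))) := by
      rw [HasRingHomProperty.Spec_iff (P := @LocallyOfFinitePresentation)]
      exact hf i.1
    infer_instance
  refine ⟨∐ fun i : ULift.{u} s => (Spec (CommRingCat.of (S i.down.1)) : Scheme.{u}),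
    Sigma.desc fun i => g i.down, ?_, ?_, ?_⟩
  · infer_instance
  · apply IsZariskiLocalAtSource.sigmaDesc
    intro i
    exact hg i.down
  · rw [range_sigmaDesc]
    have h1 : Z = e.inv.base '' (e.inv.base ⁻¹' Z) :=
      (Set.image_preimage_eq Z (by exact e.inv.surjective)).symm
    have h2 : ∀ i : s, Set.range (g i).base = e.inv.base '' i.1.toSet := by
      intro i
      rw [← hr i.1]
      change Set.range (e.inv.base ∘ (Spec.map (CommRingCat.ofHom (f i.1))).base) = _
      rw [Set.range_comp]; rfl
    ext x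
    simp only [Set.mem_iUnion, h2]
    rw [h1, ← hs, PrimeSpectrum.ConstructibleSetData.toSet]
    constructor
    · rintro ⟨i, y, hy, rfl⟩
      exact ⟨y, Set.mem_iUnion₂.mpr ⟨i.down.1, i.down.2, hy⟩, rfl⟩
    · rintro ⟨y, hy, rfl⟩
      obtain ⟨i, hi, hy⟩ := Set.mem_iUnion₂.mp hy
      exact ⟨⟨⟨i, hi⟩⟩, y, hy, rfl⟩

/-- Given a scheme X that is quasi-compact and quasi-separated, together with a constructible subset Z
of X, one can find an affine scheme X' with a morphism X' → X of finite presentation whose image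
equals Z. -/
theorem result (X : Scheme.{u}) [CompactSpace X]
    [QuasiSeparatedSpace X] (Z : Set X) (hZ : IsConstructible Z) :
    ∃ (X' : Scheme.{u}) (f : X' ⟶ X), IsAffine X' ∧ LocallyOfFinitePresentation f ∧ QuasiCompact f ∧
      QuasiSeparated f ∧ Set.range f.base = Z := by
  let 𝒰 := X.affineCover.finiteSubcover
  have key : ∀ k : 𝒰.I₀, ∃ (X' : Scheme.{u}) (f : X' ⟶ X), IsAffine X' ∧
      LocallyOfFinitePresentation f ∧ Set.range f.base = Z ∩ Set.range (𝒰.f k).base := by
    intro k
    have : IsAffine (𝒰.X k) := inferInstanceAs (IsAffine (X.affineCover.X _))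
    have h1 : IsLocallyConstructible ((𝒰.f k).base ⁻¹' Z) :=
      hZ.isLocallyConstructible.preimage_of_isOpenEmbedding (𝒰.f k).isOpenEmbedding
    obtain ⟨X', f, hX', hf, hr⟩ := exists_affine (𝒰.X k) _ h1.isConstructible
    refine ⟨X', f ≫ 𝒰.f k, hX', inferInstance, ?_⟩
    have h3 : Set.range (f ≫ 𝒰.f k).base = (𝒰.f k).base '' (Set.range f.base) := by
      rw [← Set.range_comp]; rfl
    rw [h3, hr, Set.image_preimage_eq_inter_range]
  choose X' f hX' hf hr using key
  have : Finite 𝒰.I₀ := inferInstance
  let J : Type u := ULift.{u} (Fin (Nat.card 𝒰.I₀))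
  let e : J → 𝒰.I₀ := fun j => (Finite.equivFin 𝒰.I₀).symm j.down
  have hA : ∀ j : J, IsAffine (X' (e j)) := fun j => hX' _
  have hAf : IsAffine (∐ fun j : J => X' (e j)) := inferInstance
  refine ⟨∐ fun j : J => X' (e j), Sigma.desc fun j => f (e j), hAf, ?_, inferInstance, ?_, ?_⟩
  · apply IsZariskiLocalAtSource.sigmaDesc
    intro j
    exact hf _
  · rw [quasiSeparated_iff_quasiSeparatedSpace]
    infer_instance
  · rw [range_sigmaDesc]
    simp only [hr]
    rw [← Set.inter_iUnion]
    apply Set.inter_eq_left.mpr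
    intro x _
    obtain ⟨k, y, rfl⟩ := 𝒰.exists_eq x
    refine Set.mem_iUnion.mpr ⟨⟨Finite.equivFin 𝒰.I₀ k⟩, ?_⟩
    have he : e ⟨Finite.equivFin 𝒰.I₀ k⟩ = k := Equiv.symm_apply_apply _ _
    rw [he]
    exact ⟨y, rfl⟩

end Groth.Agent.S4584
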