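import Groth.Statements.S4586
import Groth.Agent.S3398
import Groth.Agent.S3399
import Groth.Agent.S3402
import Groth.Agent.S15542
import Groth.Agent.S15543
import Groth.Agent.Ega4fib.H121.ProConsBasic

set_option autoImplicit false
universe u
open AlgebraicGeometry CategoryTheory Topology
open EGA41

namespace Groth.Agent.S4586

open Groth.Agent.Ega4fib.H121.ProConsBasic in
/-- Let f : X → Y be surjective and either quasi-compact or locally of finite presentation, E ⊆ Y. Then
E is locally constructible (resp. pro-constructible, resp. ind-constructible) if and only if f⁻¹(E)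
is. -/
theorem result {X Y : Scheme.{u}} (f : X ⟶ Y) [Surjective f]
    (hf : QuasiCompact f ∨ LocallyOfFinitePresentation f) (E : Set Y) :
    (IsLocallyConstructible E ↔ IsLocallyConstructible (f.base ⁻¹' E)) ∧
    (ProCons.IsProConstructible E ↔ ProCons.IsProConstructible (f.base ⁻¹' E)) ∧
    (ProCons.IsIndConstructible E ↔ ProCons.IsIndConstructible (f.base ⁻¹' E)) := by
  have him : ∀ E : Set Y, f.base '' (f.base ⁻¹' E) = E := fun E =>
    Set.image_preimage_eq E f.surjective
  have hpi : (∀ E : Set Y, ProCons.IsProConstructible (f.base ⁻¹' E) →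
      ProCons.IsProConstructible E) ∧ (∀ E : Set Y, ProCons.IsIndConstructible (f.base ⁻¹' E) →
      ProCons.IsIndConstructible E) := by
    rcases hf with hf | hf
    · have h1 : ∀ E : Set Y, ProCons.IsProConstructible (f.base ⁻¹' E) →
          ProCons.IsProConstructible E := by
        intro E hE
        rw [← him E]
        exact Groth.Agent.S3398.result f _ hE
      refine ⟨h1, fun E hE => ?_⟩
      rw [← isProConstructible_compl_iff]
      apply h1
      rw [Set.preimage_compl]
      exact isProConstructible_compl hE
    · have h1 : ∀ E : Set Y, ProCons.IsIndConstructible (f.base ⁻¹' E) →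
          ProCons.IsIndConstructible E := by
        intro E hE
        rw [← him E]
        exact Groth.Agent.S3399.result f _ hE
      refine ⟨fun E hE => ?_, h1⟩
      rw [← isIndConstructible_compl_iff]
      apply h1
      rw [Set.preimage_compl]
      exact isIndConstructible_compl hE
  have hpro : ∀ E : Set Y, ProCons.IsProConstructible E ↔ ProCons.IsProConstructible (f.base ⁻¹' E) :=
    fun E => ⟨fun h => Groth.Agent.S15542.result f E h, hpi.1 E⟩
  have hind : ∀ E : Set Y, ProCons.IsIndConstructible E ↔ ProCons.IsIndConstructible (f.base ⁻¹' E) :=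
    fun E => ⟨fun h => Groth.Agent.S15543.result f E h, hpi.2 E⟩
  refine ⟨?_, hpro E, hind E⟩
  rw [Groth.Agent.S3402.result, Groth.Agent.S3402.result, hpro E, hind E]

end Groth.Agent.S4586
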