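import Groth.Statements.S4587
import Mathlib.AlgebraicGeometry.Properties

set_option autoImplicit false
universe u
open AlgebraicGeometry CategoryTheory
open EGA41

namespace Groth.Agent.S4587

/-- A morphism of schemes f : X → Y is generizing if and only if, for every irreducible closed subset Y'
of Y, each irreducible component of f⁻¹(Y') has dense image in Y'. -/
theorem result {X Y : Scheme.{u}} (f : X ⟶ Y) :
    GeneralizingMap f.base ↔
      ∀ Y' : Set Y, IsClosed Y' → IsIrreducible Y' →
        ∀ Z ∈ irreducibleComponents ↥(f.base ⁻¹' Y'), closure (f.base '' (Subtype.val '' Z)) = Y' := by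
  have hcont : Continuous f.base := f.continuous
  constructor
  · intro hf Y' hY' hirr Z hZ
    have hcl : IsClosed (f.base ⁻¹' Y') := hY'.preimage hcont
    have hemb : Topology.IsClosedEmbedding (Subtype.val : ↥(f.base ⁻¹' Y') → X) :=
      hcl.isClosedEmbedding_subtypeVal
    have hZc : IsClosed Z := isClosed_of_mem_irreducibleComponents Z hZ
    have hZi : IsIrreducible Z := hZ.1
    have hZ' : IsIrreducible (Subtype.val '' Z : Set X) :=
      hZi.image _ continuous_subtype_val.continuousOn
    have hZ'c : IsClosed (Subtype.val '' Z : Set X) := hemb.isClosedMap _ hZc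
    obtain ⟨z, hz⟩ := QuasiSober.sober hZ' hZ'c
    obtain ⟨η, hη⟩ := QuasiSober.sober hirr hY'
    have hzZ : z ∈ (Subtype.val '' Z : Set X) := hz.mem
    obtain ⟨⟨z0, hz0⟩, hz0Z, rfl⟩ := hzZ
    have hfz : η ⤳ f.base z0 := hη.specializes hz0
    obtain ⟨z', hz', hfz'⟩ := hf hfz
    change z' ⤳ z0 at hz'
    have hz'm : z' ∈ f.base ⁻¹' Y' := by
      change f.base z' ∈ Y'
      rw [hfz']; exact hη.mem
    -- the closure of z' in the subspace is irreducible and contains Z
    have hmax : closure {(⟨z', hz'm⟩ : ↥(f.base ⁻¹' Y'))} ⊆ Z := by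
      refine hZ.2 (isIrreducible_singleton.closure) ?_
      intro w hw
      have h1 : w.1 ∈ closure ({z0} : Set X) := by
        rw [hz.def]; exact ⟨w, hw, rfl⟩
      have h2 : z' ⤳ w.1 := hz'.trans (specializes_iff_mem_closure.mpr h1)
      have h3 : (⟨z', hz'm⟩ : ↥(f.base ⁻¹' Y')) ⤳ w := by
        rw [← Topology.IsInducing.subtypeVal.specializes_iff]; exact h2
      exact specializes_iff_mem_closure.mp h3
    have hz'Z : (⟨z', hz'm⟩ : ↥(f.base ⁻¹' Y')) ∈ Z := hmax (subset_closure rfl)
    apply Set.Subset.antisymm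
    · apply closure_minimal _ hY'
      rintro _ ⟨_, ⟨w, hw, rfl⟩, rfl⟩
      exact w.2
    · intro y hy
      have hy' : y ∈ closure {η} := by rw [hη.def]; exact hy
      refine closure_mono ?_ hy'
      rintro _ rfl
      exact ⟨z', ⟨_, hz'Z, rfl⟩, hfz'⟩
  · intro h x y hxy
    change y ⤳ f.base x at hxy
    have hx : x ∈ f.base ⁻¹' (closure {y}) := specializes_iff_mem_closure.mp hxy
    let Z := irreducibleComponent (⟨x, hx⟩ : ↥(f.base ⁻¹' (closure {y})))
    have hZ := irreducibleComponent_mem_irreducibleComponents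
      (⟨x, hx⟩ : ↥(f.base ⁻¹' (closure {y})))
    have hcl : IsClosed (f.base ⁻¹' (closure {y})) := isClosed_closure.preimage hcont
    have hemb : Topology.IsClosedEmbedding (Subtype.val : ↥(f.base ⁻¹' (closure {y})) → X) :=
      hcl.isClosedEmbedding_subtypeVal
    have hden := h _ isClosed_closure isIrreducible_singleton.closure Z hZ
    have hZc : IsClosed Z := isClosed_irreducibleComponent
    have hZi : IsIrreducible Z := isIrreducible_irreducibleComponent
    have hZ' : IsIrreducible (Subtype.val '' Z : Set X) :=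
      hZi.image _ continuous_subtype_val.continuousOn
    have hZ'c : IsClosed (Subtype.val '' Z : Set X) := hemb.isClosedMap _ hZc
    obtain ⟨z, hz⟩ := QuasiSober.sober hZ' hZ'c
    obtain ⟨⟨z0, hz0⟩, hz0Z, rfl⟩ := hz.mem
    refine ⟨z0, hz.specializes ⟨_, mem_irreducibleComponent, rfl⟩, ?_⟩
    have h1 : y ⤳ f.base z0 := specializes_iff_mem_closure.mpr hz0
    have h2 : f.base z0 ⤳ y := by
      rw [specializes_iff_mem_closure]
      have h3 : y ∈ closure (f.base '' (Subtype.val '' Z)) := by
        rw [hden]; exact subset_closure rfl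
      refine closure_minimal ?_ isClosed_closure h3
      rintro _ ⟨w, hw, rfl⟩
      exact specializes_iff_mem_closure.mp ((hz.specializes hw).map hcont)
    exact (h2.antisymm h1).eq

end Groth.Agent.S4587
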