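import Groth.Statements.S4588
import Groth.Agent.Sga1.RegParam
import Groth.Agent.FlatA.DimFin
import Groth.Agent.CalgA.RegBasic
import Groth.Agent.S0564
import Mathlib.FieldTheory.IsAlgClosed.AlgebraicClosure
import Mathlib.Algebra.Polynomial.Monic
import Mathlib.LinearAlgebra.Dimension.DivisionRing
import Mathlib.LinearAlgebra.Dimension.OrzechProperty
import Mathlib.Algebra.TrivSqZeroExt.Basic

set_option autoImplicit false
universe u
open IsLocalRing
open EGA41

namespace Groth.Agent.S4588

/-- A generating family of the maximal ideal of a regular local ring with `dim` elements is linearly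
independent in the cotangent space. -/
theorem linearIndependent_of_span {A : Type u} [CommRing A] [IsRegularLocalRing A] {ι : Type} [Fintype ι]
    (x : ι → A) (hx : ∀ i, x i ∈ maximalIdeal A) (hspan : Ideal.span (Set.range x) = maximalIdeal A)
    (hdim : ((Fintype.card ι : ℕ) : WithBot ℕ∞) = ringKrullDim A) :
    LinearIndependent (ResidueField A) (fun i => (maximalIdeal A).toCotangent ⟨x i, hx i⟩) := by
  have h1 := (IsRegularLocalRing.iff_finrank_cotangentSpace A).mp ‹_›
  have h2 : Fintype.card ι = Module.finrank (ResidueField A) (CotangentSpace A) := by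
    rw [← hdim] at h1
    exact_mod_cast h1.symm
  refine linearIndependent_of_top_le_span_of_card_eq_finrank ?_ h2
  have h3 : Submodule.span A (Set.range (fun i => (⟨x i, hx i⟩ : maximalIdeal A))) = ⊤ := by
    apply Submodule.map_injective_of_injective (maximalIdeal A).injective_subtype
    rw [Submodule.map_span, Submodule.map_top, Submodule.range_subtype, ← Set.range_comp]
    exact hspan
  have h4 := (IsLocalRing.CotangentSpace.span_image_eq_top_iff (R := A)
    (s := Set.range (fun i => (⟨x i, hx i⟩ : maximalIdeal A)))).2 h3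
  rw [← Set.range_comp] at h4
  exact h4.ge

open MvPolynomial in
theorem main_aux {A B : Type u} [CommRing A] [IsRegularLocalRing A] [CommRing B] [Algebra A B]
    {r : ℕ} (d : Fin r → ℕ) (hd : ∀ i, 2 ≤ d i) (c : Fin r → ℕ → A)
    (hc : ∀ i k, c i k ∈ maximalIdeal A) (F : Fin r → MvPolynomial (Fin r) A)
    (hF : ∀ i, F i = X i ^ d i + (Finset.range (d i)).sum fun k => C (c i k) * X i ^ k)
    (π : MvPolynomial (Fin r) A →ₐ[A] B) (hπ : Function.Surjective π)
    (hπker : RingHom.ker π = Ideal.span (Set.range F)) :
    IsLocalRing B ∧ (∀ (M : Ideal B) [M.IsMaximal],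
      Function.Surjective ((Ideal.Quotient.mk M).comp (algebraMap A B))) ∧
    (IsRegularRing B ↔
      LinearIndependent (ResidueField A) (fun i => (maximalIdeal A).toCotangent ⟨c i 0, hc i 0⟩)) := by
  classical
  have hdA : IsDomain A := Groth.Agent.CalgA.RegBasic.isDomain A
  -- the monic one-variable polynomials
  let q : Fin r → Polynomial A := fun i =>
    (Finset.range (d i)).sum fun k => Polynomial.C (c i k) * Polynomial.X ^ k
  let h : Fin r → Polynomial A := fun i => Polynomial.X ^ d i + q i
  have hdeg : ∀ i, (q i).degree < d i := by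
    intro i
    refine lt_of_le_of_lt (Polynomial.degree_sum_le _ _) ?_
    rw [Finset.sup_lt_iff (WithBot.bot_lt_coe _)]
    intro k hk
    refine lt_of_le_of_lt (Polynomial.degree_C_mul_X_pow_le _ _) ?_
    exact_mod_cast Finset.mem_range.mp hk
  have hmonic : ∀ i, (h i).Monic := fun i => Polynomial.monic_X_pow_add (hdeg i)
  have hF' : ∀ i, F i = Polynomial.aeval (X i) (h i) := by
    intro i
    rw [hF]
    simp only [h, q, map_add, map_mul, map_pow, map_sum, Polynomial.aeval_X, Polynomial.aeval_C,
      MvPolynomial.algebraMap_eq]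
  have hπF : ∀ i, π (F i) = 0 := fun i => by
    have : F i ∈ RingHom.ker π := by rw [hπker]; exact Ideal.subset_span ⟨i, rfl⟩
    exact this
  have hint_t : ∀ i, IsIntegral A (π (X i)) := by
    intro i
    refine ⟨h i, hmonic i, ?_⟩
    have := hπF i
    rw [hF', ← Polynomial.aeval_algHom_apply] at this
    exact this
  have hint : Algebra.IsIntegral A B := by
    refine ⟨fun x => ?_⟩
    obtain ⟨y, rfl⟩ := hπ x
    induction y using MvPolynomial.induction_on with
    | C a => exact (π.commutes a).symm ▸ isIntegral_algebraMap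
    | add y z hy hz => rw [map_add]; exact hy.add hz
    | mul_X y i hy => rw [map_mul]; exact hy.mul (hint_t i)
  have hft : Algebra.FiniteType A B := Algebra.FiniteType.of_surjective π hπ
  have hfin : Module.Finite A B := Algebra.IsIntegral.finite
  -- injectivity
  let Ω := AlgebraicClosure (FractionRing A)
  have hroot : ∀ i, ∃ x : Ω, Polynomial.aeval x (h i) = 0 := by
    intro i
    have h1 : ((h i).map (algebraMap A Ω)).degree ≠ 0 := by
      rw [(hmonic i).degree_map]
      have : (h i).degree = d i := by
        simp only [h]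
        rw [Polynomial.degree_add_eq_left_of_degree_lt, Polynomial.degree_X_pow]
        rw [Polynomial.degree_X_pow]
        exact hdeg i
      rw [this]
      have := hd i
      exact_mod_cast (by omega : d i ≠ 0)
    obtain ⟨x, hx⟩ := IsAlgClosed.exists_root _ h1
    refine ⟨x, ?_⟩
    rwa [Polynomial.IsRoot.def, Polynomial.eval_map_algebraMap] at hx
  choose x hx using hroot
  let φ : B →ₐ[A] Ω := (Ideal.Quotient.liftₐ (RingHom.ker π) (aeval x) (by
    have : RingHom.ker π ≤ RingHom.ker (aeval x : MvPolynomial (Fin r) A →ₐ[A] Ω) := by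
      rw [hπker, Ideal.span_le]
      rintro _ ⟨i, rfl⟩
      change aeval x (F i) = 0
      rw [hF', ← Polynomial.aeval_algHom_apply, aeval_X]
      exact hx i
    exact fun a ha => this ha)).comp (Ideal.quotientKerAlgEquivOfSurjective hπ).symm.toAlgHom
  have hAΩ : Function.Injective (algebraMap A Ω) := by
    rw [IsScalarTower.algebraMap_eq A (FractionRing A) Ω]
    exact (algebraMap (FractionRing A) Ω).injective.comp (IsFractionRing.injective A _)
  have hinj : Function.Injective (algebraMap A B) := by
    have : Function.Injective (φ ∘ algebraMap A B) := by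
      have h2 : φ ∘ algebraMap A B = algebraMap A Ω := by
        funext a; exact φ.commutes a
      rw [h2]; exact hAΩ
    exact this.of_comp
  have hnt : Nontrivial B := hinj.nontrivial
  have hNB : IsNoetherianRing B := isNoetherianRing_of_surjective _ _ π.toRingHom hπ
  have hdim : ringKrullDim B = ringKrullDim A :=
    Groth.Agent.FlatA.DimFin.ringKrullDim_eq_of_isIntegral_of_injective A B hinj
  -- the relation
  have hrel : ∀ i, π (X i) ^ d i + (Finset.range (d i)).sum
      (fun k => algebraMap A B (c i k) * π (X i) ^ k) = 0 := by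
    intro i
    have := hπF i
    rw [hF] at this
    simp only [map_add, map_sum, map_mul, map_pow] at this
    rw [← this]
    congr 1
    refine Finset.sum_congr rfl fun k _ => ?_
    have h1 : π (C (c i k)) = algebraMap A B (c i k) := π.commutes _
    rw [h1]
  -- decomposition
  let T : Ideal B := Ideal.span (Set.range fun i => π (X i))
  have hTmem : ∀ i, π (X i) ∈ T := fun i => Ideal.subset_span ⟨i, rfl⟩
  have hdec : ∀ b : B, ∃ a : A, b - algebraMap A B a ∈ T := by
    intro b
    obtain ⟨g, rfl⟩ := hπ b
    induction g using MvPolynomial.induction_on with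
    | C a =>
      refine ⟨a, ?_⟩
      have h1 : π (C a) = algebraMap A B a := π.commutes _
      rw [h1, sub_self]; exact zero_mem _
    | add g h hg hh =>
      obtain ⟨a, ha⟩ := hg
      obtain ⟨a', ha'⟩ := hh
      refine ⟨a + a', ?_⟩
      have : π (g + h) - algebraMap A B (a + a') =
        (π g - algebraMap A B a) + (π h - algebraMap A B a') := by
        rw [map_add, map_add]; ring
      rw [this]; exact add_mem ha ha'
    | mul_X g i hg =>
      refine ⟨0, ?_⟩
      rw [map_zero, sub_zero, map_mul]
      exact Ideal.mul_mem_left _ _ (hTmem i)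
  -- maximal ideals
  have hcomap : ∀ M : Ideal B, M.IsMaximal → M.comap (algebraMap A B) = maximalIdeal A :=
    fun M hM => IsLocalRing.eq_maximalIdeal (Ideal.isMaximal_comap_of_isIntegral_of_isMaximal M)
  have hle : ∀ M : Ideal B, M.IsMaximal → (maximalIdeal A).map (algebraMap A B) ≤ M := by
    intro M hM
    rw [Ideal.map_le_iff_le_comap, hcomap M hM]
  have hTle : ∀ M : Ideal B, M.IsMaximal → T ≤ M := by
    intro M hM
    rw [Ideal.span_le]
    rintro _ ⟨i, rfl⟩
    have h1 : π (X i) ^ d i ∈ M := by
      have h2 := hrel i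
      rw [add_eq_zero_iff_eq_neg] at h2
      rw [h2]
      refine neg_mem (sum_mem fun k _ => Ideal.mul_mem_right _ _ (hle M hM ?_))
      exact Ideal.mem_map_of_mem _ (hc i k)
    exact hM.isPrime.mem_of_pow_mem _ h1
  have hloc : IsLocalRing B := by
    obtain ⟨M₀, hM₀⟩ := Ideal.exists_maximal B
    refine IsLocalRing.of_unique_max_ideal ⟨M₀, hM₀, ?_⟩
    intro M hM
    refine hM.eq_of_le hM₀.ne_top ?_
    intro x hx
    obtain ⟨a, ha⟩ := hdec x
    have h1 : algebraMap A B a ∈ M := by
      have h2 := sub_mem hx (hTle M hM ha)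
      rwa [sub_sub_cancel] at h2
    have h3 : a ∈ maximalIdeal A := by
      rw [← hcomap M hM]; exact h1
    have h4 : algebraMap A B a ∈ M₀ := hle M₀ hM₀ (Ideal.mem_map_of_mem _ h3)
    have := add_mem (hTle M₀ hM₀ ha) h4
    rwa [sub_add_cancel] at this
  refine ⟨hloc, ?_, ?_⟩
  · intro M hM y
    obtain ⟨b, rfl⟩ := Ideal.Quotient.mk_surjective y
    obtain ⟨a, ha⟩ := hdec b
    refine ⟨a, ?_⟩
    rw [RingHom.comp_apply, eq_comm, ← sub_eq_zero, ← map_sub, Ideal.Quotient.eq_zero_iff_mem]
    exact hTle M hM ha
  have hmaxB : maximalIdeal B = (maximalIdeal A).map (algebraMap A B) ⊔ T := by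
    apply le_antisymm
    · intro x hx
      obtain ⟨a, ha⟩ := hdec x
      have h1 : algebraMap A B a ∈ maximalIdeal B := by
        have h2 := sub_mem hx (hTle _ (maximalIdeal.isMaximal B) ha)
        rwa [sub_sub_cancel] at h2
      have h3 : a ∈ maximalIdeal A := by
        rw [← hcomap _ (maximalIdeal.isMaximal B)]; exact h1
      have h5 : x = algebraMap A B a + (x - algebraMap A B a) := by ring
      rw [h5]
      exact add_mem (Ideal.mem_sup_left (Ideal.mem_map_of_mem _ h3)) (Ideal.mem_sup_right ha)
    · exact sup_le (hle _ (maximalIdeal.isMaximal B)) (hTle _ (maximalIdeal.isMaximal B))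
  -- regular ring versus regular local ring
  have hreg : IsRegularRing B ↔ IsRegularLocalRing B := by
    constructor
    · intro h; exact IsRegularLocalRing.of_isRegularRing_of_isLocalRing B
    · intro h
      exact isRegularRing_iff.mpr fun q _ => Groth.Agent.S0564.result B q
  rw [hreg]
  -- the constant terms lie in `T`
  have hc0 : ∀ i, algebraMap A B (c i 0) ∈ T := by
    intro i
    have h2 := hrel i
    have hdi : d i = (d i - 1) + 1 := by have := hd i; omega
    rw [hdi, Finset.sum_range_succ'] at h2
    have h3 : algebraMap A B (c i 0) = - (π (X i) ^ (d i - 1 + 1) + ∑ k ∈ Finset.range (d i - 1),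
        algebraMap A B (c i (k + 1)) * π (X i) ^ (k + 1)) := by
      rw [pow_zero, mul_one] at h2
      linear_combination h2
    rw [h3]
    refine neg_mem (add_mem ?_ (sum_mem fun k _ => ?_))
    · exact Ideal.pow_mem_of_mem _ (hTmem i) _ (Nat.succ_pos _)
    · exact Ideal.mul_mem_left _ _ (Ideal.pow_mem_of_mem _ (hTmem i) _ (Nat.succ_pos _))
  constructor
  · intro hB
    -- the classes of the `T_i` are linearly independent in the cotangent space of `B`
    have hTm : ∀ i, π (X i) ∈ maximalIdeal B := fun i =>
      hTle _ (maximalIdeal.isMaximal B) (hTmem i)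
    have hTind : LinearIndependent (ResidueField B)
        (fun i => (maximalIdeal B).toCotangent ⟨π (X i), hTm i⟩) := by
      let K := ResidueField A
      let χ₀ : MvPolynomial (Fin r) A →ₐ[A] TrivSqZeroExt K (Fin r → K) :=
        aeval (fun i => TrivSqZeroExt.inr (Pi.single i 1))
      have hχF : ∀ i, χ₀ (F i) = 0 := by
        intro i
        rw [hF]
        simp only [map_add, map_pow, map_sum, map_mul]
        have h1 : ∀ k, χ₀ (C (c i k)) = 0 := by
          intro k
          have h2 : χ₀ (C (c i k)) = algebraMap A (TrivSqZeroExt K (Fin r → K)) (c i k) :=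
            χ₀.commutes _
          have h3 : algebraMap A K (c i k) = 0 := (residue_eq_zero_iff _).mpr (hc i k)
          rw [h2, TrivSqZeroExt.algebraMap_eq_inl', h3, TrivSqZeroExt.inl_zero]
        have h4 : χ₀ (X i) ^ d i = 0 := by
          have h5 : χ₀ (X i) = TrivSqZeroExt.inr (Pi.single i 1) := aeval_X _ _
          have h6 : d i = (d i - 2) + 2 := by have := hd i; omega
          rw [h6, pow_add, h5, pow_two, TrivSqZeroExt.inr_mul_inr, mul_zero]
        rw [h4, zero_add]
        refine Finset.sum_eq_zero fun k _ => ?_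
        rw [h1, zero_mul]
      have hχ0 : ∀ g : MvPolynomial (Fin r) A, g ∈ RingHom.ker π → χ₀ g = 0 := by
        have : RingHom.ker π ≤ RingHom.ker χ₀ := by
          rw [hπker, Ideal.span_le]
          rintro _ ⟨i, rfl⟩
          exact hχF i
        exact fun a ha => this ha
      let χ : B →ₐ[A] TrivSqZeroExt K (Fin r → K) := (Ideal.Quotient.liftₐ (RingHom.ker π) χ₀
        hχ0).comp (Ideal.quotientKerAlgEquivOfSurjective hπ).symm.toAlgHom
      have hχX : ∀ i, χ (π (X i)) = TrivSqZeroExt.inr (Pi.single i 1) := by
        intro i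
        have h1 : (Ideal.quotientKerAlgEquivOfSurjective hπ).symm (π (X i)) =
            Ideal.Quotient.mk _ (X i) := by
          rw [AlgEquiv.symm_apply_eq]; rfl
        have h2 : χ (π (X i)) = Ideal.Quotient.liftₐ (RingHom.ker π) χ₀ hχ0
          ((Ideal.quotientKerAlgEquivOfSurjective hπ).symm (π (X i))) := rfl
        rw [h2, h1]
        change χ₀ (X i) = _
        rw [aeval_X]
      let ρ : B →+* K := (TrivSqZeroExt.fstHom A K (Fin r → K)).toRingHom.comp χ.toRingHom
      have hρs : Function.Surjective ρ := by
        intro x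
        obtain ⟨a, rfl⟩ := residue_surjective x
        refine ⟨algebraMap A B a, ?_⟩
        change (χ (algebraMap A B a)).fst = _
        rw [AlgHom.commutes, TrivSqZeroExt.algebraMap_eq_inl']
        rfl
      have hρk : RingHom.ker ρ = maximalIdeal B :=
        IsLocalRing.eq_maximalIdeal (RingHom.ker_isMaximal_of_surjective ρ hρs)
      have hM2 : ∀ x ∈ maximalIdeal B ^ 2, χ x = 0 := by
        have h1 : maximalIdeal B ^ 2 ≤ RingHom.ker χ := by
          rw [pow_two, Ideal.mul_le]
          intro x hx y hy
          rw [← hρk] at hx hy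
          have hx' : (χ x).fst = 0 := hx
          have hy' : (χ y).fst = 0 := hy
          change χ (x * y) = 0
          rw [map_mul]
          ext1
          · rw [TrivSqZeroExt.fst_mul, hx', zero_mul]; rfl
          · rw [TrivSqZeroExt.snd_mul, hx', hy']; simp
        exact h1
      rw [Fintype.linearIndependent_iff]
      intro g hg i
      choose b hb using fun i => residue_surjective (g i)
      have h1 : (maximalIdeal B).toCotangent (∑ i, b i • ⟨π (X i), hTm i⟩) = 0 := by
        rw [map_sum, ← hg]
        refine Finset.sum_congr rfl fun i _ => ?_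
        rw [map_smul, ← hb i]
        rfl
      rw [Ideal.toCotangent_eq_zero] at h1
      have h2 := hM2 _ h1
      have h3 : ((∑ i, b i • ⟨π (X i), hTm i⟩ : maximalIdeal B) : B) = ∑ i, b i * π (X i) := by
        simp
      rw [h3, map_sum] at h2
      have h4 := congrArg (fun z : TrivSqZeroExt K (Fin r → K) => TrivSqZeroExt.snd z i) h2
      simp only [map_mul, hχX, TrivSqZeroExt.snd_sum, Finset.sum_apply, TrivSqZeroExt.snd_mul,
        TrivSqZeroExt.snd_inr, TrivSqZeroExt.fst_inr, TrivSqZeroExt.snd_zero] at h4
      have h5 : (χ (b i)).fst = 0 := by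
        simpa [Pi.single_apply] using h4
      rw [← hb i, residue_eq_zero_iff, ← hρk]
      exact h5
    obtain ⟨e, z, hz, hspan, hdimB⟩ :=
      Groth.Agent.Sga1.RegParam.exists_complement (fun i => π (X i)) hTm hTind
    -- move the `z j` into `A`
    have hz' : ∀ j, ∃ a : A, z j - algebraMap A B a ∈ T := fun j => hdec (z j)
    choose a ha using hz'
    have ham : ∀ j, a j ∈ maximalIdeal A := by
      intro j
      rw [← hcomap _ (maximalIdeal.isMaximal B)]
      have h2 := sub_mem (hz j) (hTle _ (maximalIdeal.isMaximal B) (ha j))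
      rwa [sub_sub_cancel] at h2
    -- the algebra map `B → A / (c_{i0})`
    let I₀ : Ideal A := Ideal.span (Set.range fun i => c i 0)
    have hψ0 : ∀ g : MvPolynomial (Fin r) A, g ∈ RingHom.ker π →
        aeval (fun _ => (0 : A ⧸ I₀)) g = 0 := by
      have : RingHom.ker π ≤ RingHom.ker (aeval (fun _ => (0 : A ⧸ I₀)) :
          MvPolynomial (Fin r) A →ₐ[A] A ⧸ I₀) := by
        rw [hπker, Ideal.span_le]
        rintro _ ⟨i, rfl⟩
        change aeval _ (F i) = 0
        rw [hF]
        have hdi : d i = (d i - 1) + 1 := by have := hd i; omega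
        rw [hdi, Finset.sum_range_succ']
        simp only [map_add, map_pow, aeval_X, map_sum, map_mul, zero_pow (Nat.succ_ne_zero _),
          mul_zero, Finset.sum_const_zero, zero_add, pow_zero, mul_one, aeval_C]
        rw [Ideal.Quotient.algebraMap_eq, Ideal.Quotient.eq_zero_iff_mem]
        exact Ideal.subset_span ⟨i, rfl⟩
      exact fun a ha => this ha
    let ψ : B →ₐ[A] A ⧸ I₀ := (Ideal.Quotient.liftₐ (RingHom.ker π) (aeval (fun _ => (0 : A ⧸ I₀)))
      hψ0).comp (Ideal.quotientKerAlgEquivOfSurjective hπ).symm.toAlgHom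
    have hψX : ∀ i, ψ (π (X i)) = 0 := by
      intro i
      have h1 : (Ideal.quotientKerAlgEquivOfSurjective hπ).symm (π (X i)) =
          Ideal.Quotient.mk _ (X i) := by
        rw [AlgEquiv.symm_apply_eq]; rfl
      have h2 : ψ (π (X i)) = Ideal.Quotient.liftₐ (RingHom.ker π) (aeval (fun _ => (0 : A ⧸ I₀))) hψ0
        ((Ideal.quotientKerAlgEquivOfSurjective hπ).symm (π (X i))) := rfl
      rw [h2, h1]
      change aeval (fun _ => (0 : A ⧸ I₀)) (X i) = _
      rw [aeval_X]
    have hψT : T ≤ RingHom.ker (ψ : B →+* A ⧸ I₀) := by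
      rw [Ideal.span_le]
      rintro _ ⟨i, rfl⟩
      exact hψX i
    have hspanA : Ideal.span (Set.range (Sum.elim (fun i => c i 0) a)) = maximalIdeal A := by
      apply le_antisymm
      · rw [Ideal.span_le]
        rintro _ ⟨i | j, rfl⟩
        · exact hc i 0
        · exact ham j
      · intro y hy
        have h1 : algebraMap A B y ∈ maximalIdeal B :=
          hle _ (maximalIdeal.isMaximal B) (Ideal.mem_map_of_mem _ hy)
        rw [← hspan] at h1
        have h2 : ψ (algebraMap A B y) ∈ (Ideal.span (Set.range (Sum.elim (fun i => c i 0) a))).map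
            (Ideal.Quotient.mk I₀) := by
          have h3 := Ideal.mem_map_of_mem ψ h1
          rw [Ideal.map_span, Set.image_union] at h3
          refine (Ideal.span_le.mpr ?_) h3
          rintro _ (⟨_, ⟨i, rfl⟩, rfl⟩ | ⟨_, ⟨j, rfl⟩, rfl⟩)
          · rw [hψX]; exact zero_mem _
          · have h4 : ψ (z j) = Ideal.Quotient.mk I₀ (a j) := by
              have h5 : ψ (z j - algebraMap A B (a j)) = 0 := hψT (ha j)
              rw [map_sub, sub_eq_zero, AlgHom.commutes] at h5
              exact h5
            rw [h4]
            exact Ideal.mem_map_of_mem _ (Ideal.subset_span ⟨Sum.inr j, rfl⟩)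
        rw [AlgHom.commutes] at h2
        have h6 : I₀ ≤ Ideal.span (Set.range (Sum.elim (fun i => c i 0) a)) := by
          apply Ideal.span_mono
          rintro _ ⟨i, rfl⟩
          exact ⟨Sum.inl i, rfl⟩
        have h7 := Ideal.mem_comap.mpr h2
        change y ∈ Ideal.comap (Ideal.Quotient.mk I₀) _ at h7
        rw [Ideal.comap_map_of_surjective _ Ideal.Quotient.mk_surjective] at h7
        have h8 : Ideal.span (Set.range (Sum.elim (fun i => c i 0) a)) ⊔
            Ideal.comap (Ideal.Quotient.mk I₀) ⊥ ≤
            Ideal.span (Set.range (Sum.elim (fun i => c i 0) a)) := by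
          refine sup_le le_rfl ?_
          rw [← RingHom.ker_eq_comap_bot, Ideal.mk_ker]
          exact h6
        exact h8 h7
    have hfinal := linearIndependent_of_span (A := A) (ι := Fin r ⊕ Fin e)
      (Sum.elim (fun i => c i 0) a) (by rintro (i | j); exacts [hc i 0, ham j]) hspanA
      (by rw [← hdim, ← hdimB]; simp)
    exact hfinal.comp Sum.inl Sum.inl_injective
  · intro hlin
    obtain ⟨e, x, hx, hspan, hdimA⟩ :=
      Groth.Agent.Sga1.RegParam.exists_complement (fun i => c i 0) (fun i => hc i 0) hlin
    refine IsRegularLocalRing.of_spanFinrank_maximalIdeal_le _ ?_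
    rw [hdim, ← hdimA]
    have h1 : maximalIdeal B =
        Ideal.span (Set.range (Sum.elim (fun i => π (X i)) (fun j => algebraMap A B (x j)))) := by
      rw [hmaxB, ← hspan, Ideal.map_span,
        Set.Sum.elim_range, Ideal.span_union, Set.image_union, Ideal.span_union, ← Set.range_comp,
        ← Set.range_comp]
      apply le_antisymm
      · refine sup_le (sup_le ?_ le_sup_right) le_sup_left
        rw [Ideal.span_le]
        rintro _ ⟨i, rfl⟩
        exact Ideal.mem_sup_left (hc0 i)
      · exact sup_le le_sup_right (le_sup_right.trans le_sup_left)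
    rw [h1]
    refine Nat.cast_le.mpr ?_
    refine (Submodule.spanFinrank_span_le_ncard_of_finite (Set.finite_range _)).trans ?_
    rw [← Set.image_univ]
    refine (Set.ncard_image_le Set.finite_univ).trans ?_
    rw [Set.ncard_univ, Nat.card_sum]
    simp

/-- Let A be a regular local ring with maximal ideal m and residue field K, and F_i(T_i) = T_i^{d_i} +
Σ_{k<d_i} c_{ik} T_i^k (1 ≤ i ≤ r) monic one-variable polynomials of degrees d_i ≥ 2 with all
non-leading coefficients in m; put A' = A[T_1, …, T_r]/(F_1, …, F_r). Then (i) A' is local with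
residue field K, and (ii) A' is regular if and only if the classes in m/m² of the constant terms
c_{i0} are linearly independent over K. -/
theorem result {A : Type u} [CommRing A]
    [IsRegularLocalRing A] {r : ℕ} (d : Fin r → ℕ) (hd : ∀ i, 2 ≤ d i) (c : Fin r → ℕ → A)
    (hc : ∀ i k, c i k ∈ maximalIdeal A) :
    let F : Fin r → MvPolynomial (Fin r) A := fun i =>
      MvPolynomial.X i ^ d i + (Finset.range (d i)).sum fun k => MvPolynomial.C (c i k) * MvPolynomial.X i ^ k
    IsLocalRing (MvPolynomial (Fin r) A ⧸ Ideal.span (Set.range F)) ∧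
    (∀ (M : Ideal (MvPolynomial (Fin r) A ⧸ Ideal.span (Set.range F))) [M.IsMaximal],
      Function.Surjective ((Ideal.Quotient.mk M).comp (algebraMap A _))) ∧
    (IsRegularRing (MvPolynomial (Fin r) A ⧸ Ideal.span (Set.range F)) ↔
      LinearIndependent (ResidueField A) (fun i => (maximalIdeal A).toCotangent ⟨c i 0, hc i 0⟩)) := by
  intro F
  exact main_aux (B := MvPolynomial (Fin r) A ⧸ Ideal.span (Set.range F)) d hd c hc F (fun _ => rfl)
    (Ideal.Quotient.mkₐ A _) (Ideal.Quotient.mkₐ_surjective A _) (Ideal.Quotient.mkₐ_ker A _)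

end Groth.Agent.S4588
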