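import Groth.Statements.S4589
import Groth.Agent.S2480
import Mathlib.RingTheory.Localization.Ideal

set_option autoImplicit false
universe u
open IsLocalRing
open EGA41

namespace Groth.Agent.S4589

/-- Containment of extended ideals in a localization at a prime spreads out. -/
theorem exists_notMem_forall_mul_mem {A : Type u} [CommRing A] (q I 𝔭 : Ideal A) [𝔭.IsPrime]
    (hq : q.FG)
    (h : q.map (algebraMap A (Localization.AtPrime 𝔭)) ≤ I.map (algebraMap A (Localization.AtPrime 𝔭))) :
    ∃ s, s ∉ 𝔭 ∧ ∀ x ∈ q, s * x ∈ I := by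
  classical
  have h1 : ∀ x ∈ q, ∃ s, s ∉ 𝔭 ∧ s * x ∈ I := by
    intro x hx
    have h2 := h (Ideal.mem_map_of_mem _ hx)
    rw [IsLocalization.mem_map_algebraMap_iff 𝔭.primeCompl] at h2
    obtain ⟨⟨a, t⟩, hat⟩ := h2
    rw [← map_mul, IsLocalization.eq_iff_exists 𝔭.primeCompl] at hat
    obtain ⟨c, hc⟩ := hat
    refine ⟨c * t, 𝔭.primeCompl.mul_mem c.2 t.2, ?_⟩
    have h3 : (c : A) * t * x = c * (a : A) := by rw [← hc]; ring
    rw [h3]
    exact Ideal.mul_mem_left _ _ a.2
  obtain ⟨S, hS⟩ := hq
  have hSq : ∀ x ∈ S, x ∈ q := fun x hx => by rw [← hS]; exact Submodule.subset_span hx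
  choose! s hs hsI using h1
  refine ⟨∏ x ∈ S, s x, ?_, ?_⟩
  · have : ∏ x ∈ S, s x ∈ 𝔭.primeCompl := 𝔭.primeCompl.prod_mem fun x hx => hs x (hSq x hx)
    exact this
  · intro x hx
    rw [← hS] at hx
    refine Submodule.span_induction ?_ ?_ ?_ ?_ hx
    · intro y hy
      rw [← Finset.prod_erase_mul S s hy, mul_assoc]
      exact Ideal.mul_mem_left _ _ (hsI y (hSq y hy))
    · rw [mul_zero]; exact zero_mem _
    · intro y z _ _ hy hz
      rw [mul_add]; exact add_mem hy hz
    · intro a y _ hy
      rw [smul_eq_mul, mul_left_comm]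
      exact Ideal.mul_mem_left _ _ hy

/-- Under the hypotheses of Nagata's Jacobian criterion — k a field of characteristic exponent p with k
finite over k^p, A a complete Noetherian local ring with residue field finite over a separable
extension K₀ of k, A a K₀-algebra formally smooth for its adic topology, q an ideal of A and B = A/q
— the set of primes n of B with B_n formally smooth over k for the adic topology of its maximal
ideal is open in Spec B. -/
theorem result (p : ℕ) {k K₀ A : Type u} [Field k] [ExpChar k p]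
    (hk : p = 1 ∨ Module.Finite (frobenius k p).fieldRange k)
    [Field K₀] [Algebra k K₀] [Algebra.IsGeometricallyReduced k K₀]
    [CommRing A] [IsLocalRing A] [IsNoetherianRing A] [IsAdicComplete (maximalIdeal A) A]
    [Algebra k A] [Algebra K₀ A] [IsScalarTower k K₀ A] [Module.Finite K₀ (ResidueField A)]
    (hA : CAlgX.IsAdicFormallySmooth K₀ A (maximalIdeal A))
    (q : Ideal A) :
    IsOpen {n : PrimeSpectrum (A ⧸ q) |
      CAlgX.IsAdicFormallySmooth k (Localization.AtPrime n.asIdeal) (maximalIdeal (Localization.AtPrime n.asIdeal))} := by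
  -- the criterion at one prime
  have key : ∀ (n : Ideal (A ⧸ q)) [n.IsPrime],
      CAlgX.IsAdicFormallySmooth k (Localization.AtPrime n) (maximalIdeal (Localization.AtPrime n)) ↔
      ∃ (m : ℕ) (D : Fin m → Derivation k A A) (f : Fin m → A), (∀ i, f i ∈ q) ∧
        q.map (algebraMap A (Localization.AtPrime (n.comap (Ideal.Quotient.mk q)))) =
          Ideal.span (Set.range fun i =>
            algebraMap A (Localization.AtPrime (n.comap (Ideal.Quotient.mk q))) (f i)) ∧
        Matrix.det (Matrix.of fun i j => D i (f j)) ∉ n.comap (Ideal.Quotient.mk q) := by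
    intro n _
    have hmap : (n.comap (Ideal.Quotient.mk q)).map (Ideal.Quotient.mk q) = n :=
      Ideal.map_comap_of_surjective _ Ideal.Quotient.mk_surjective n
    have hprime : ((n.comap (Ideal.Quotient.mk q)).map (Ideal.Quotient.mk q)).IsPrime := by
      rw [hmap]; infer_instance
    have hle : q ≤ n.comap (Ideal.Quotient.mk q) := by
      intro x hx
      rw [Ideal.mem_comap, Ideal.Quotient.eq_zero_iff_mem.mpr hx]
      exact zero_mem _
    have gen : ∀ (n' : Ideal (A ⧸ q)) (_ : n' = n) [n'.IsPrime],
        (CAlgX.IsAdicFormallySmooth k (Localization.AtPrime n')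
          (maximalIdeal (Localization.AtPrime n')) ↔
        CAlgX.IsAdicFormallySmooth k (Localization.AtPrime n)
          (maximalIdeal (Localization.AtPrime n))) := by
      rintro _ rfl _
      exact Iff.rfl
    rw [← gen _ hmap]
    exact Groth.Agent.S2480.result p hk hA q (n.comap (Ideal.Quotient.mk q)) hle
  rw [isOpen_iff_forall_mem_open]
  intro n hn
  obtain ⟨m, D, f, hf, hspan, hdet⟩ := (key n.asIdeal).1 hn
  obtain ⟨s, hs, hsI⟩ := exists_notMem_forall_mul_mem q (Ideal.span (Set.range f))
    (n.asIdeal.comap (Ideal.Quotient.mk q)) (IsNoetherian.noetherian q) (by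
      rw [hspan, Ideal.map_span, ← Set.range_comp]; rfl)
  refine ⟨PrimeSpectrum.basicOpen (Ideal.Quotient.mk q (s * Matrix.det (Matrix.of fun i j => D i (f j)))),
    ?_, PrimeSpectrum.isOpen_basicOpen, ?_⟩
  · intro n' hn'
    rw [SetLike.mem_coe, PrimeSpectrum.mem_basicOpen] at hn'
    have hs' : s ∉ n'.asIdeal.comap (Ideal.Quotient.mk q) := by
      intro h
      exact hn' (by rw [map_mul]; exact Ideal.mul_mem_right _ _ (Ideal.mem_comap.mp h))
    have hd' : Matrix.det (Matrix.of fun i j => D i (f j)) ∉
        n'.asIdeal.comap (Ideal.Quotient.mk q) := by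
      intro h
      exact hn' (by rw [map_mul]; exact Ideal.mul_mem_left _ _ (Ideal.mem_comap.mp h))
    refine (key n'.asIdeal).2 ⟨m, D, f, hf, le_antisymm ?_ ?_, hd'⟩
    · rw [Ideal.map_le_iff_le_comap]
      intro x hx
      rw [Ideal.mem_comap]
      have hu : IsUnit (algebraMap A (Localization.AtPrime (n'.asIdeal.comap (Ideal.Quotient.mk q))) s) :=
        IsLocalization.map_units (Localization.AtPrime (n'.asIdeal.comap (Ideal.Quotient.mk q)))
          (⟨s, hs'⟩ : (n'.asIdeal.comap (Ideal.Quotient.mk q)).primeCompl)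
      have h1 : algebraMap A (Localization.AtPrime (n'.asIdeal.comap (Ideal.Quotient.mk q))) (s * x) ∈
          Ideal.span (Set.range fun i => algebraMap A
            (Localization.AtPrime (n'.asIdeal.comap (Ideal.Quotient.mk q))) (f i)) := by
        have h2 := Ideal.mem_map_of_mem (algebraMap A
          (Localization.AtPrime (n'.asIdeal.comap (Ideal.Quotient.mk q)))) (hsI x hx)
        rw [Ideal.map_span, ← Set.range_comp] at h2
        exact h2
      rw [map_mul] at h1
      exact (Ideal.unit_mul_mem_iff_mem _ hu).mp h1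
    · rw [Ideal.span_le]
      rintro _ ⟨i, rfl⟩
      exact Ideal.mem_map_of_mem _ (hf i)
  · rw [SetLike.mem_coe, PrimeSpectrum.mem_basicOpen, map_mul]
    intro h
    rcases n.isPrime.mem_or_mem h with h | h
    · exact hs h
    · exact hdet h

end Groth.Agent.S4589
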