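import Groth.Statements.S4590
import Groth.Agent.Etbc.H192.CplInt

set_option autoImplicit false
universe u
open CAlg

namespace Groth.Agent.S4590

open Polynomial

/-- Let A be a domain with fraction field K, B a faithfully flat A-algebra, C = B_red and R the total
ring of fractions of C. Then A → C is injective with nonzero elements going to non-zero-divisors, so
that K embeds in R, and an element of K is integral over C in R if and only if it is integral over
A. -/
theorem result {A B : Type u} [CommRing A] [IsDomain A]
    [CommRing B] [Algebra A B] [Module.FaithfullyFlat A B] :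
    Function.Injective (algebraMap A (B ⧸ nilradical B)) ∧
    (∀ a : A, a ≠ 0 → algebraMap A (B ⧸ nilradical B) a ∈ nonZeroDivisors (B ⧸ nilradical B)) ∧
    ∀ (R : Type u) [CommRing R] [Algebra (B ⧸ nilradical B) R] [IsFractionRing (B ⧸ nilradical B) R]
      [Algebra A R] [IsScalarTower A (B ⧸ nilradical B) R] [Algebra (FractionRing A) R]
      [IsScalarTower A (FractionRing A) R] (x : FractionRing A),
      IsIntegral (B ⧸ nilradical B) (algebraMap (FractionRing A) R x) ↔ IsIntegral A x := by
  have hinjB : Function.Injective (algebraMap A B) := FaithfulSMul.algebraMap_injective A B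
  have hnt : Nontrivial B := hinjB.nontrivial
  have hinj : Function.Injective (algebraMap A (B ⧸ nilradical B)) := by
    rw [injective_iff_map_eq_zero]
    intro a ha
    rw [IsScalarTower.algebraMap_apply A B, Ideal.Quotient.algebraMap_eq,
      Ideal.Quotient.eq_zero_iff_mem] at ha
    obtain ⟨n, hn⟩ := ha
    rw [Ideal.zero_eq_bot, Ideal.mem_bot, ← map_pow, map_eq_zero_iff _ hinjB] at hn
    exact IsNilpotent.eq_zero ⟨n, hn⟩
  have hreg : ∀ a : A, a ≠ 0 → algebraMap A (B ⧸ nilradical B) a ∈
      nonZeroDivisors (B ⧸ nilradical B) := by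
    intro a ha
    have hr : ∀ n : ℕ, IsSMulRegular B (algebraMap A B (a ^ n)) := by
      intro n
      have h1 : IsSMulRegular A (a ^ n) := fun b c hbc ↦ mul_left_cancel₀ (pow_ne_zero n ha) hbc
      exact h1.of_flat
    rw [mem_nonZeroDivisors_iff_right]
    intro c hc
    obtain ⟨c, rfl⟩ := Ideal.Quotient.mk_surjective c
    rw [IsScalarTower.algebraMap_apply A B, Ideal.Quotient.algebraMap_eq, ← map_mul,
      Ideal.Quotient.eq_zero_iff_mem] at hc
    rw [Ideal.Quotient.eq_zero_iff_mem]
    obtain ⟨n, hn⟩ := hc
    refine ⟨n, ?_⟩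
    apply hr n
    simp only [smul_eq_mul, mul_zero]
    rw [map_pow, mul_comm, ← mul_pow]
    exact hn
  refine ⟨hinj, hreg, ?_⟩
  intro R _ _ _ _ _ _ _ x
  constructor
  · rintro ⟨p, hp, hpx⟩
    obtain ⟨G, hG, -, hGm⟩ := Polynomial.lifts_and_natDegree_eq_and_monic
      (f := Ideal.Quotient.mk (nilradical B)) (p := p)
      (Polynomial.mem_lifts p |>.2 (Polynomial.map_surjective _ Ideal.Quotient.mk_surjective p)) hp
    obtain ⟨a, s, hs, rfl⟩ := IsFractionRing.div_surjective (A := A) x
    have hs0 : s ≠ 0 := nonZeroDivisors.ne_zero hs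
    have hsK : algebraMap A (FractionRing A) s ≠ 0 :=
      (map_ne_zero_iff _ (IsFractionRing.injective A (FractionRing A))).2 hs0
    set b : B := (G.scaleRoots (algebraMap A B s)).eval (algebraMap A B a) with hb
    have hnt2 : Nontrivial (B ⧸ nilradical B) := hinj.nontrivial
    have hbnil : b ∈ nilradical B := by
      rw [← Ideal.Quotient.eq_zero_iff_mem]
      apply IsFractionRing.injective (B ⧸ nilradical B) R
      rw [map_zero, hb, ← Polynomial.eval₂_hom, Polynomial.eval₂_eq_eval_map,
        Polynomial.map_scaleRoots _ _ _ (by rw [hGm.leadingCoeff, map_one]; exact one_ne_zero), hG,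
        ← Polynomial.eval₂_hom]
      have h1 : (algebraMap (B ⧸ nilradical B) R) ((Ideal.Quotient.mk (nilradical B)) (algebraMap A B a)) =
          algebraMap (B ⧸ nilradical B) R ((Ideal.Quotient.mk (nilradical B)) (algebraMap A B s)) *
            algebraMap (FractionRing A) R (algebraMap A (FractionRing A) a /
              algebraMap A (FractionRing A) s) := by
        have e : ∀ t : A, (algebraMap (B ⧸ nilradical B) R)
            ((Ideal.Quotient.mk (nilradical B)) (algebraMap A B t)) =
            algebraMap (FractionRing A) R (algebraMap A (FractionRing A) t) := by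
          intro t
          rw [← IsScalarTower.algebraMap_apply A (FractionRing A) R,
            IsScalarTower.algebraMap_apply A (B ⧸ nilradical B) R]
          rfl
        rw [e, e, ← map_mul, mul_div_cancel₀ _ hsK]
      rw [h1, Polynomial.scaleRoots_eval₂_mul, hpx, mul_zero]
    obtain ⟨N, hN⟩ := hbnil
    refine Groth.Agent.Etbc.H192.CplInt.isIntegral_of_scaleRoots (S := B) s a (G ^ N) (hGm.pow N) ?_
      _ (mul_div_cancel₀ _ hsK) hsK
    rw [Polynomial.pow_scaleRoots' _ _ _ (by rw [hGm.leadingCoeff, one_pow]; exact one_ne_zero),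
      Polynomial.eval_pow]
    exact hN
  · intro hx
    have h1 : IsIntegral A (algebraMap (FractionRing A) R x) :=
      hx.map (IsScalarTower.toAlgHom A (FractionRing A) R)
    exact h1.tower_top

end Groth.Agent.S4590
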