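import Groth.Statements.S4593
import Mathlib.Algebra.Category.Ring.FilteredColimits
import Mathlib.CategoryTheory.Limits.ConcreteCategory.Basic
import Mathlib.RingTheory.Spectrum.Prime.RingHom

set_option autoImplicit false
universe u
open CategoryTheory CategoryTheory.Limits AlgebraicGeometry
open EGA41

namespace Groth.Agent.S4593

section ringlevel

variable {I : Type u} {B C : Type u} [CommRing B] [CommRing C] (A : I → Type u)
  [∀ i, CommRing (A i)] (σ : ∀ i, B →+* A i) (ι : ∀ i, A i →+* C) (φ : B →+* C)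
  (hφ : ∀ i, (ι i).comp (σ i) = φ)
  (hrep : ∀ x : C, ∃ (i : I) (y : A i), ι i y = x)
  (hdir : ∀ i j : I, ∃ (k : I) (f : A i →+* A k) (g : A j →+* A k), f.comp (σ i) = σ k ∧
    g.comp (σ j) = σ k ∧ (ι k).comp f = ι i ∧ (ι k).comp g = ι j)
  (heq : ∀ (i : I) (x y : A i), ι i x = ι i y → ∃ (k : I) (f : A i →+* A k), f.comp (σ i) = σ k ∧
    f x = f y)

include hφ hrep hdir in
lemma exists_lift (i₀ : I) (p : Ideal B) (x : C) (hx : x ∈ p.map φ) :
    ∃ (k : I) (y : A k), y ∈ p.map (σ k) ∧ ι k y = x := by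
  have key : ∀ {i k : I} (f : A i →+* A k) (y : A i), f.comp (σ i) = σ k → y ∈ p.map (σ i) →
      f y ∈ p.map (σ k) := by
    intro i k f y hf hy
    rw [← hf, ← Ideal.map_map]
    exact Ideal.mem_map_of_mem _ hy
  rw [Ideal.map] at hx
  refine Submodule.span_induction ?_ ?_ ?_ ?_ hx
  · rintro _ ⟨b, hb, rfl⟩
    refine ⟨i₀, σ i₀ b, Ideal.mem_map_of_mem _ hb, ?_⟩
    rw [← hφ i₀]; rfl
  · exact ⟨i₀, 0, zero_mem _, map_zero _⟩
  · rintro x y - - ⟨k, x', hx', rfl⟩ ⟨l, y', hy', rfl⟩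
    obtain ⟨m, f, g, hf, hg, hf', hg'⟩ := hdir k l
    refine ⟨m, f x' + g y', add_mem (key f _ hf hx') (key g _ hg hy'), ?_⟩
    rw [map_add, ← hf', ← hg']; rfl
  · rintro a x - ⟨k, x', hx', rfl⟩
    obtain ⟨l, a', rfl⟩ := hrep a
    obtain ⟨m, f, g, hf, hg, hf', hg'⟩ := hdir k l
    refine ⟨m, g a' * f x', Ideal.mul_mem_left _ _ (key f _ hf hx'), ?_⟩
    rw [map_mul, ← hf', ← hg']; rfl

include hφ hrep hdir heq in
lemma mem_range (i₀ : I) (p : PrimeSpectrum B)
    (hp : ∀ i, p ∈ Set.range (PrimeSpectrum.comap (σ i))) :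
    p ∈ Set.range (PrimeSpectrum.comap φ) := by
  have hp' : ∀ i, (p.asIdeal.map (σ i)).comap (σ i) = p.asIdeal :=
    fun i => (PrimeSpectrum.mem_range_comap_iff (f := σ i)).1 (hp i)
  rw [PrimeSpectrum.mem_range_comap_iff]
  apply le_antisymm _ Ideal.le_comap_map
  intro b hb
  obtain ⟨k, y, hy, hyb⟩ := exists_lift A σ ι φ hφ hrep hdir i₀ p.asIdeal _ (Ideal.mem_comap.mp hb)
  have h1 : ι k y = ι k (σ k b) := by
    rw [hyb, ← hφ k]; rfl
  obtain ⟨l, f, hf, hl⟩ := heq k _ _ h1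
  rw [← hp' l, Ideal.mem_comap]
  have h2 : σ l b = f (σ k b) := by rw [← hf]; rfl
  rw [h2, ← hl, ← hf, ← Ideal.map_map]
  exact Ideal.mem_map_of_mem _ hy

end ringlevel

/-- Let B be a ring, (A_i) a filtered system of B-algebras with colimit A. The image of Spec A in Spec B
is the intersection of the images of the Spec A_i. -/
theorem result {I : Type u} [SmallCategory I] [IsFiltered I]
    (B : CommRingCat.{u}) (D : I ⥤ CommRingCat.{u}) (s : (Functor.const I).obj B ⟶ D) (c : Cocone D)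
    (hc : IsColimit c) (i₀ : I) :
    Set.range (Spec.map (s.app i₀ ≫ c.ι.app i₀)).base = ⋂ i : I, Set.range (Spec.map (s.app i)).base := by
  have hs : ∀ {i k : I} (f : i ⟶ k), s.app i ≫ D.map f = s.app k := by
    intro i k f
    rw [← s.naturality f]
    simp
  have hcomp : ∀ {i k : I} (f : i ⟶ k), s.app i ≫ c.ι.app i = s.app k ≫ c.ι.app k := by
    intro i k f
    rw [← hs f, Category.assoc, c.w]
  have hcomp' : ∀ i j : I, s.app i ≫ c.ι.app i = s.app j ≫ c.ι.app j := by
    intro i j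
    rw [hcomp (IsFiltered.leftToMax i j), hcomp (IsFiltered.rightToMax i j)]
  apply Set.Subset.antisymm
  · apply Set.subset_iInter
    intro i
    rw [hcomp' i₀ i, Spec.map_comp]
    rintro _ ⟨x, rfl⟩
    exact ⟨(Spec.map (c.ι.app i)).base x, rfl⟩
  · intro p hp
    rw [Set.mem_iInter] at hp
    refine mem_range (I := I) (B := B) (C := c.pt) (fun i => D.obj i) (fun i => (s.app i).hom)
      (fun i => (c.ι.app i).hom) (s.app i₀ ≫ c.ι.app i₀).hom ?_ ?_ ?_ ?_ i₀ p hp
    · intro i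
      rw [hcomp' i₀ i]; rfl
    · intro x
      exact Concrete.isColimit_exists_rep D hc x
    · intro i j
      refine ⟨IsFiltered.max i j, (D.map (IsFiltered.leftToMax i j)).hom,
        (D.map (IsFiltered.rightToMax i j)).hom, ?_, ?_, ?_, ?_⟩
      · rw [← hs (IsFiltered.leftToMax i j)]; rfl
      · rw [← hs (IsFiltered.rightToMax i j)]; rfl
      · rw [← c.w (IsFiltered.leftToMax i j)]; rfl
      · rw [← c.w (IsFiltered.rightToMax i j)]; rfl
    · intro i x y hxy
      obtain ⟨l, f, g, hl⟩ := Concrete.isColimit_exists_of_rep_eq D hc x y hxy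
      let m := IsFiltered.coeq f g
      refine ⟨m, (D.map (f ≫ IsFiltered.coeqHom f g)).hom, ?_, ?_⟩
      · rw [← hs (f ≫ IsFiltered.coeqHom f g)]; rfl
      · have h1 : D.map (f ≫ IsFiltered.coeqHom f g) y = D.map (g ≫ IsFiltered.coeqHom f g) y := by
          rw [IsFiltered.coeq_condition]
        change D.map (f ≫ IsFiltered.coeqHom f g) x = D.map (f ≫ IsFiltered.coeqHom f g) y
        rw [h1, D.map_comp, D.map_comp]
        change D.map (IsFiltered.coeqHom f g) (D.map f x) = D.map (IsFiltered.coeqHom f g) (D.map g y)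
        rw [hl]

end Groth.Agent.S4593
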