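import Groth.Statements.S4594
import Mathlib.RingTheory.Smooth.Basic
import Mathlib.LinearAlgebra.TensorProduct.Quotient

set_option autoImplicit false
universe u
open TensorProduct KaehlerDifferential
open EGA41

namespace Groth.Agent.S4594

/-- `1 ⊗ ω = 0` in `C ⊗ Ω` only if `ω ∈ J Ω`. -/
lemma mem_smul_of_one_tmul_eq_zero {A C M : Type u} [CommRing A] [CommRing C] [Algebra A C]
    [AddCommGroup M] [Module A M] (hsurj : Function.Surjective (algebraMap A C)) (ω : M)
    (h : (1 : C) ⊗ₜ[A] ω = 0) : ω ∈ (RingHom.ker (algebraMap A C)) • (⊤ : Submodule A M) := by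
  let e : (A ⧸ RingHom.ker (Algebra.ofId A C)) ≃ₐ[A] C :=
    Ideal.quotientKerAlgEquivOfSurjective (f := Algebra.ofId A C) hsurj
  have h1 : (1 : A ⧸ RingHom.ker (Algebra.ofId A C)) ⊗ₜ[A] ω = 0 := by
    have h2 := congrArg (LinearMap.rTensor M e.symm.toLinearMap) h
    rw [LinearMap.rTensor_tmul, map_zero] at h2
    rw [← h2]
    congr 1
    exact (map_one e.symm).symm
  have h3 : ω ∈ LinearMap.ker (TensorProduct.mk A (A ⧸ RingHom.ker (Algebra.ofId A C)) M 1) := h1
  rw [LinearMap.ker_tensorProductMk] at h3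
  exact h3

/-- Let Λ be a ring, A → C a surjection of Λ-algebras with kernel J, C of characteristic p > 0, and π
the class of p·1 in J/J². If C is formally smooth over Λ/pΛ for the discrete topologies, then 0 →
(J/J²)/Cπ → Ω_{A/Λ} ⊗_A C → Ω_{C/Λ} → 0 is exact: the kernel of the conormal map J/J² → Ω_{A/Λ} ⊗_A
C is the span of π, and the base-change map to Ω_{C/Λ} is surjective with kernel the image of J/J². -/
theorem result {Λ A C : Type u} [CommRing Λ] [CommRing A]
    [CommRing C] [Algebra Λ A] [Algebra A C] [Algebra Λ C] [IsScalarTower Λ A C]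
    (hsurj : Function.Surjective (algebraMap A C)) (p : ℕ) [Fact p.Prime] [CharP C p]
    [Algebra (Λ ⧸ Ideal.span {(p : Λ)}) C] [IsScalarTower Λ (Λ ⧸ Ideal.span {(p : Λ)}) C]
    [Algebra.FormallySmooth (Λ ⧸ Ideal.span {(p : Λ)}) C]
    (hp : (p : A) ∈ RingHom.ker (algebraMap A C)) :
    LinearMap.ker (kerCotangentToTensor Λ A C) =
        Submodule.span A {(RingHom.ker (algebraMap A C)).toCotangent ⟨(p : A), hp⟩} ∧
      LinearMap.range (kerCotangentToTensor Λ A C) = (LinearMap.ker (mapBaseChange Λ A C)).restrictScalars A ∧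
      Function.Surjective (mapBaseChange Λ A C) := by
  refine ⟨le_antisymm ?_ ?_, range_kerCotangentToTensor Λ A C hsurj,
    mapBaseChange_surjective Λ A C hsurj⟩
  · intro y hy
    obtain ⟨x, rfl⟩ := Ideal.toCotangent_surjective _ y
    rw [LinearMap.mem_ker, kerCotangentToTensor_toCotangent] at hy
    let J : Ideal A := RingHom.ker (algebraMap A C)
    let I₁ : Ideal A := J ^ 2 ⊔ Ideal.span {(p : A)}
    let Λ₁ := Λ ⧸ Ideal.span {(p : Λ)}
    let A₁ := A ⧸ I₁
    let a₁ : Λ₁ →+* A₁ := Ideal.Quotient.lift (Ideal.span {(p : Λ)})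
      ((Ideal.Quotient.mk I₁).comp (algebraMap Λ A)) (by
        intro a ha
        obtain ⟨b, rfl⟩ := Ideal.mem_span_singleton'.mp ha
        rw [RingHom.comp_apply, map_mul, map_natCast, Ideal.Quotient.eq_zero_iff_mem]
        exact Ideal.mul_mem_left _ _ (Ideal.mem_sup_right (Ideal.subset_span rfl)))
    let _ : Algebra Λ₁ A₁ := a₁.toAlgebra
    have hI₁ : ∀ a ∈ I₁, algebraMap A C a = 0 := by
      have : I₁ ≤ J := by
        refine sup_le (Ideal.pow_le_self two_ne_zero) ?_
        rw [Ideal.span_le]
        rintro _ rfl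
        exact hp
      exact fun a ha => this ha
    let f₀ : A₁ →+* C := Ideal.Quotient.lift I₁ (algebraMap A C) hI₁
    have hf₀ : ∀ a, f₀ (Ideal.Quotient.mk I₁ a) = algebraMap A C a := fun a =>
      Ideal.Quotient.lift_mk _ _ _
    let f₁ : A₁ →ₐ[Λ₁] C :=
      { f₀ with
        commutes' := by
          intro r
          obtain ⟨s, rfl⟩ := Ideal.Quotient.mk_surjective r
          change f₀ (Ideal.Quotient.mk I₁ (algebraMap Λ A s)) = algebraMap Λ₁ C (algebraMap Λ Λ₁ s)
          rw [hf₀, ← IsScalarTower.algebraMap_apply, ← IsScalarTower.algebraMap_apply] }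
    have hf₁ : ∀ a, f₁ (Ideal.Quotient.mk I₁ a) = algebraMap A C a := hf₀
    have hs : Function.Surjective f₁ := by
      intro c
      obtain ⟨a, rfl⟩ := hsurj c
      exact ⟨Ideal.Quotient.mk I₁ a, hf₁ a⟩
    have hker : ∀ z : A₁, f₁ z = 0 → ∃ a ∈ J, Ideal.Quotient.mk I₁ a = z := by
      intro z hz
      obtain ⟨a, rfl⟩ := Ideal.Quotient.mk_surjective z
      rw [hf₁] at hz
      exact ⟨a, hz, rfl⟩
    have hsq : ∀ z w : A₁, f₁ z = 0 → f₁ w = 0 → z * w = 0 := by
      intro z w hz hw
      obtain ⟨a, ha, rfl⟩ := hker z hz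
      obtain ⟨b, hb, rfl⟩ := hker w hw
      rw [← map_mul, Ideal.Quotient.eq_zero_iff_mem]
      refine Ideal.mem_sup_left ?_
      rw [pow_two]
      exact Ideal.mul_mem_mul ha hb
    have hnil : IsNilpotent (RingHom.ker (f₁ : A₁ →+* C)) := by
      refine ⟨2, ?_⟩
      rw [pow_two, Ideal.zero_eq_bot, eq_bot_iff, Ideal.mul_le]
      intro z hz w hw
      exact hsq z w hz hw
    let g : C →ₐ[Λ₁] A₁ := Algebra.FormallySmooth.liftOfSurjective (AlgHom.id Λ₁ C) f₁ hs hnil
    have hg : ∀ c, f₁ (g c) = c := fun c => by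
      have := Algebra.FormallySmooth.comp_liftOfSurjective (AlgHom.id Λ₁ C) f₁ hs hnil
      exact DFunLike.congr_fun this c
    let D : Derivation Λ A A₁ := Derivation.mk'
      { toFun := fun a => Ideal.Quotient.mk I₁ a - g (algebraMap A C a)
        map_add' := fun a b => by simp only [map_add]; ring
        map_smul' := fun r a => by
          have h1 : g (algebraMap A C (algebraMap Λ A r)) =
              Ideal.Quotient.mk I₁ (algebraMap Λ A r) := by
            rw [← IsScalarTower.algebraMap_apply, IsScalarTower.algebraMap_apply Λ Λ₁ C]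
            rw [AlgHom.commutes]; rfl
          rw [Algebra.smul_def, map_mul, map_mul, map_mul, h1, RingHom.id_apply, Algebra.smul_def,
            mul_sub]
          rfl } (by
        intro a b
        change Ideal.Quotient.mk I₁ (a * b) - g (algebraMap A C (a * b)) =
          a • (Ideal.Quotient.mk I₁ b - g (algebraMap A C b)) +
          b • (Ideal.Quotient.mk I₁ a - g (algebraMap A C a))
        have h1 := hsq (Ideal.Quotient.mk I₁ a - g (algebraMap A C a))
          (Ideal.Quotient.mk I₁ b - g (algebraMap A C b))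
          (by rw [map_sub, hf₁, hg, sub_self]) (by rw [map_sub, hf₁, hg, sub_self])
        have h2 : ∀ (a : A) (z : A₁), a • z = Ideal.Quotient.mk I₁ a * z := fun a z =>
          Algebra.smul_def a z
        rw [h2, h2, map_mul, map_mul, map_mul]
        linear_combination -h1)
    have hD : ∀ a, D a = Ideal.Quotient.mk I₁ a - g (algebraMap A C a) := fun a => rfl
    have hω := mem_smul_of_one_tmul_eq_zero hsurj _ hy
    have hL : ∀ ω : Ω[A⁄Λ], f₁ (D.liftKaehlerDifferential ω) = 0 := by
      intro ω
      have hω : ω ∈ Submodule.span A (Set.range (KaehlerDifferential.D Λ A)) := by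
        rw [KaehlerDifferential.span_range_derivation]; trivial
      induction hω using Submodule.span_induction with
      | mem x hx =>
        obtain ⟨a, rfl⟩ := hx
        rw [Derivation.liftKaehlerDifferential_comp_D, hD, map_sub, hf₁, hg, sub_self]
      | zero => rw [map_zero, map_zero]
      | add x y _ _ hx hy => rw [map_add, map_add, hx, hy, add_zero]
      | smul c x _ hx =>
        have h2 : ∀ (a : A) (z : A₁), a • z = Ideal.Quotient.mk I₁ a * z := fun a z =>
          Algebra.smul_def a z
        rw [map_smul, h2, map_mul, hx, mul_zero]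
    have hL2 : D.liftKaehlerDifferential (KaehlerDifferential.D Λ A x.1) = 0 := by
      refine Submodule.smul_induction_on (p := fun ω => D.liftKaehlerDifferential ω = 0) hω ?_ ?_
      · intro j hj ω _
        have h2 : ∀ (a : A) (z : A₁), a • z = Ideal.Quotient.mk I₁ a * z := fun a z =>
          Algebra.smul_def a z
        rw [map_smul, h2]
        exact hsq _ _ (by rw [hf₁]; exact hj) (hL ω)
      · intro x y hx hy
        rw [map_add, hx, hy, add_zero]
    rw [Derivation.liftKaehlerDifferential_comp_D, hD] at hL2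
    have hx0 : algebraMap A C x.1 = 0 := x.2
    rw [hx0, map_zero, sub_zero, Ideal.Quotient.eq_zero_iff_mem] at hL2
    obtain ⟨j, hj, q, hq, hjq⟩ := Submodule.mem_sup.mp hL2
    obtain ⟨b, rfl⟩ := Ideal.mem_span_singleton'.mp hq
    rw [Submodule.mem_span_singleton]
    refine ⟨b, ?_⟩
    rw [← map_smul, Ideal.toCotangent_eq]
    have : ((b • (⟨(p : A), hp⟩ : J) : J) : A) - x.1 = - j := by
      rw [← hjq]
      change b * (p : A) - (j + b * (p : A)) = - j
      ring
    rw [this]
    exact neg_mem hj
  · rw [Submodule.span_le]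
    rintro _ rfl
    change _ ∈ LinearMap.ker _
    rw [LinearMap.mem_ker, kerCotangentToTensor_toCotangent]
    have : KaehlerDifferential.D Λ A (p : A) = 0 := Derivation.map_natCast _ _
    rw [this, tmul_zero]

end Groth.Agent.S4594
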