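import Groth.Statements.S4595
import Groth.Agent.Old.H32.PPolyRing

set_option autoImplicit false
universe u
open TensorProduct IsLocalRing
open EGA41

namespace Groth.Agent.S4595

open Module Groth.Agent.Old.H32.PPolyIndex Groth.Agent.Old.H32.PPolyQuot
  Groth.Agent.Old.H32.PPolyRing in
theorem main_aux {A B : Type u} [CommRing A] [IsLocalRing A] [IsNoetherianRing A] [CommRing B]
    [Algebra A B] (p : ℕ) [hpp : Fact p.Prime] [CharP A p] {r : ℕ} (f : Fin r → A)
    (F : Fin r → MvPolynomial (Fin r) A)
    (hF : ∀ i, F i = MvPolynomial.X i ^ p - MvPolynomial.C (f i))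
    (π : MvPolynomial (Fin r) A →ₐ[A] B) (hπ : Function.Surjective π)
    (hπker : RingHom.ker π = Ideal.span (Set.range F)) :
    ∃ _ : IsLocalRing B,
      (Module.finrank (ResidueField A) (CotangentSpace A) =
        Module.finrank (ResidueField B) (CotangentSpace B) ↔
        LinearIndependent (ResidueField A)
          (fun i => (1 : ResidueField A) ⊗ₜ[A] KaehlerDifferential.D ℤ A (f i))) := by
  classical
  have hp0 : (p : A) = 0 := CharP.cast_eq_zero A p
  have hp : (p : A) ∈ maximalIdeal A ^ 2 := by rw [hp0]; exact zero_mem _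
  have hpA : (p : A) ∈ maximalIdeal A := by rw [hp0]; exact zero_mem _
  have hpm : (p : MvPolynomial (Fin r) A) = 0 := by
    rw [← map_natCast (MvPolynomial.C : A →+* MvPolynomial (Fin r) A), hp0, map_zero]
  have hchK : CharP (ResidueField A) p := by
    apply ringChar.of_eq
    apply CharP.ringChar_of_prime_eq_zero Fact.out
    rw [← map_natCast (residue A), hp0, map_zero]
  -- the monic one-variable polynomials
  let h : Fin r → Polynomial A := fun i => Polynomial.X ^ p - Polynomial.C (f i)
  have hmonic : ∀ i, (h i).Monic := fun i => Polynomial.monic_X_pow_sub_C _ hpp.out.ne_zero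
  have hF' : ∀ i, F i = Polynomial.aeval (MvPolynomial.X i) (h i) := by
    intro i
    rw [hF]
    simp only [h, map_sub, map_pow, Polynomial.aeval_X, Polynomial.aeval_C,
      MvPolynomial.algebraMap_eq]
  have hπF : ∀ i, π (F i) = 0 := fun i => by
    have : F i ∈ RingHom.ker π := by rw [hπker]; exact Ideal.subset_span ⟨i, rfl⟩
    exact this
  have hint_t : ∀ i, IsIntegral A (π (MvPolynomial.X i)) := by
    intro i
    refine ⟨h i, hmonic i, ?_⟩
    have := hπF i
    rw [hF', ← Polynomial.aeval_algHom_apply] at this
    exact this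
  have hint : Algebra.IsIntegral A B := by
    refine ⟨fun x => ?_⟩
    obtain ⟨y, rfl⟩ := hπ x
    induction y using MvPolynomial.induction_on with
    | C a => exact (π.commutes a).symm ▸ isIntegral_algebraMap
    | add y z hy hz => rw [map_add]; exact hy.add hz
    | mul_X y i hy => rw [map_mul]; exact hy.mul (hint_t i)
  have hft : Algebra.FiniteType A B := Algebra.FiniteType.of_surjective π hπ
  have hfin : Module.Finite A B := Algebra.IsIntegral.finite
  -- nontriviality
  let Ω := AlgebraicClosure (ResidueField A)
  have hroot : ∀ i, ∃ x : Ω, Polynomial.aeval x (h i) = 0 := by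
    intro i
    have h1 : ((h i).map (algebraMap A Ω)).degree ≠ 0 := by
      rw [(hmonic i).degree_map]
      have : (h i).degree = p := Polynomial.degree_X_pow_sub_C hpp.out.pos _
      rw [this]
      exact_mod_cast hpp.out.ne_zero
    obtain ⟨x, hx⟩ := IsAlgClosed.exists_root _ h1
    refine ⟨x, ?_⟩
    rwa [Polynomial.IsRoot.def, Polynomial.eval_map_algebraMap] at hx
  choose x hx using hroot
  let φ : B →ₐ[A] Ω := (Ideal.Quotient.liftₐ (RingHom.ker π) (MvPolynomial.aeval x) (by
    have : RingHom.ker π ≤ RingHom.ker (MvPolynomial.aeval x : MvPolynomial (Fin r) A →ₐ[A] Ω) := by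
      rw [hπker, Ideal.span_le]
      rintro _ ⟨i, rfl⟩
      change MvPolynomial.aeval x (F i) = 0
      rw [hF', ← Polynomial.aeval_algHom_apply, MvPolynomial.aeval_X]
      exact hx i
    exact fun a ha => this ha)).comp (Ideal.quotientKerAlgEquivOfSurjective hπ).symm.toAlgHom
  have hnt : Nontrivial B := φ.toRingHom.domain_nontrivial
  have ht : ∀ i, ∃ (a : A) (b : B), π (MvPolynomial.X i) ^ p = algebraMap A B a + (p : B) * b := by
    intro i
    refine ⟨f i, 0, ?_⟩
    have := hπF i
    have h1 : π (MvPolynomial.C (f i)) = algebraMap A B (f i) := π.commutes _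
    rw [hF, map_sub, map_pow, h1] at this
    linear_combination this
  have hloc : IsLocalRing B := isLocalRing_of π hπ p hpA ht
  refine ⟨hloc, ?_⟩
  have hNB : IsNoetherianRing B := isNoetherianRing_of_surjective _ _ π.toRingHom hπ
  have hlh : IsLocalHom (algebraMap A B) := by
    refine ((local_hom_TFAE (algebraMap A B)).out 0 4).mpr ?_
    exact IsLocalRing.eq_maximalIdeal (Ideal.isMaximal_comap_of_isIntegral_of_isMaximal _)
  have hKfin : Module.Finite (ResidueField A) (ResidueField B) := by
    have h1 : Module.Finite A (ResidueField B) :=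
      Module.Finite.trans B _
    exact Module.Finite.of_restrictScalars_finite A (ResidueField A) (ResidueField B)
  have hKchar : CharP (ResidueField B) p :=
    charP_of_injective_algebraMap (algebraMap (ResidueField A) (ResidueField B)).injective p
  have hidx := hasIndex_bc_quot (A := A) (B := B) (L := ResidueField B) p π hπ
    (fun i => 0) f (by
      rw [hπker]
      congr 2
      funext i
      rw [hF i, mul_zero, add_zero])
  have hess : Algebra.EssFiniteType (ResidueField A) (ResidueField B) := inferInstance
  have halg : Algebra.IsAlgebraic (ResidueField A) (ResidueField B) := inferInstance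
  have hrk := finrank_cotangentSpace_eq p hp hidx
  rw [← linearIndependent_iff_base (L := ResidueField B)
      (fun i => KaehlerDifferential.D ℤ A (f i)),
    linearIndependent_iff_card_eq_finrank_span, Fintype.card_fin, Set.finrank]
  constructor
  · intro h
    rw [← h] at hrk
    omega
  · intro h
    rw [← h] at hrk
    omega

/-- Let A be an Artinian local ring of characteristic p > 0 with maximal ideal m of square zero and
residue field K, f_1, …, f_r ∈ A, and B = A[T_1, …, T_r]/(T_1^p − f_1, …, T_r^p − f_r). Then B is
local, and dim_K m = dim_{K'}(m'/m'²) (m', K' the maximal ideal and residue field of B) if and only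
if the d f_i ⊗ 1 are linearly independent in Ω_A ⊗_A K. -/
theorem result {A : Type u} [CommRing A]
    [IsArtinianRing A] [IsLocalRing A] (hm : maximalIdeal A ^ 2 = ⊥) (p : ℕ) [Fact p.Prime] [CharP A p]
    {r : ℕ} (f : Fin r → A) :
    let B := MvPolynomial (Fin r) A ⧸ Ideal.span (Set.range fun i => MvPolynomial.X i ^ p - MvPolynomial.C (f i))
    ∃ _ : IsLocalRing B,
      (Module.finrank (ResidueField A) (CotangentSpace A) = Module.finrank (ResidueField B) (CotangentSpace B) ↔
        LinearIndependent (ResidueField A) (fun i => (1 : ResidueField A) ⊗ₜ[A] KaehlerDifferential.D ℤ A (f i))) := by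
  intro B
  exact main_aux (B := B) p f (fun i => MvPolynomial.X i ^ p - MvPolynomial.C (f i)) (fun _ => rfl)
    (Ideal.Quotient.mkₐ A _) (Ideal.Quotient.mkₐ_surjective A _) (Ideal.Quotient.mkₐ_ker A _)

end Groth.Agent.S4595
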