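import Groth.Statements.S4598
import Groth.Agent.S4596
import Mathlib.CategoryTheory.MorphismProperty.Descent
import Mathlib.AlgebraicGeometry.Morphisms.Descent

set_option autoImplicit false
universe u
open AlgebraicGeometry CategoryTheory CategoryTheory.Limits
open EGA41

namespace Groth.Agent.S4598

theorem qc_descends :
    MorphismProperty.DescendsAlong @QuasiCompact
      (@Surjective ⊓ @QuasiCompact : MorphismProperty Scheme.{u}) := by
  apply MorphismProperty.DescendsAlong.mk'
  rintro X Y Z f g _ ⟨hf, hfc⟩ h
  have h1 : QuasiCompact (pullback.snd f g ≫ g) := by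
    rw [← pullback.condition]; infer_instance
  exact Groth.Agent.S4596.result (pullback.snd f g) g

/-- If g : Y' → Y is quasi-compact and surjective and the base change X ×_Y Y' → Y' of f : X → Y is
quasi-separated, then f is quasi-separated. -/
theorem result {X Y Y' : Scheme.{u}} (f : X ⟶ Y)
    (g : Y' ⟶ Y) [QuasiCompact g] [Surjective g] [QuasiSeparated (pullback.snd f g)] :
    QuasiSeparated f := by
  have := qc_descends.{u}
  have h2 : MorphismProperty.DescendsAlong @QuasiSeparated
      (@Surjective ⊓ @QuasiCompact : MorphismProperty Scheme.{u}) := by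
    rw [quasiSeparated_eq_diagonal_is_quasiCompact]
    infer_instance
  exact MorphismProperty.of_pullback_snd_of_descendsAlong (P := @QuasiSeparated)
    (Q := (@Surjective ⊓ @QuasiCompact : MorphismProperty Scheme.{u})) (f := f) (g := g) ⟨inferInstance, inferInstance⟩
    inferInstance

end Groth.Agent.S4598
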