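import Groth.Statements.S4601
import Mathlib.LinearAlgebra.TensorProduct.RightExactness
import Mathlib.RingTheory.Flat.Localization
import Mathlib.RingTheory.Flat.Stability
import Mathlib.RingTheory.Noetherian.Basic
import Mathlib.RingTheory.Noetherian.Nilpotent
import Mathlib.Algebra.Module.Projective
import Mathlib.LinearAlgebra.Basis.VectorSpace

set_option autoImplicit false
universe u
open TensorProduct
open CAlg

namespace Groth.Agent.S4601

/-- Let A be a domain with fraction field K, B a Noetherian A-algebra which is flat over A, K' an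
extension field of K, B₁ = B_red and R its total ring of fractions. For every sub-A-algebra A' of
K', the map (A' ⊗_A B)_red → (K' ⊗_A R)_red is injective, i.e. an element of A' ⊗_A B with nilpotent
image in K' ⊗_A R is nilpotent. -/
theorem result {A B K' R : Type u} [CommRing A]
    [IsDomain A] [CommRing B] [Algebra A B] [IsNoetherianRing B] [Module.Flat A B]
    [Field K'] [Algebra A K'] [Algebra (FractionRing A) K'] [IsScalarTower A (FractionRing A) K']
    [CommRing R] [Algebra (B ⧸ nilradical B) R] [IsFractionRing (B ⧸ nilradical B) R]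
    [Algebra B R] [IsScalarTower B (B ⧸ nilradical B) R] [Algebra A R] [IsScalarTower A B R]
    (A' : Subalgebra A K') (x : ↥A' ⊗[A] B)
    (hx : IsNilpotent (Algebra.TensorProduct.map A'.val (IsScalarTower.toAlgHom A B R) x)) :
    IsNilpotent x := by
  have hflatK : Module.Flat A K' := Module.Flat.trans A (FractionRing A) K'
  have : IsScalarTower A (B ⧸ nilradical B) R := IsScalarTower.of_algebraMap_eq fun a => by
    rw [IsScalarTower.algebraMap_apply A B R, IsScalarTower.algebraMap_apply B (B ⧸ nilradical B) R,
      ← IsScalarTower.algebraMap_apply A B (B ⧸ nilradical B)]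
  -- the three maps
  let f₁ : ↥A' ⊗[A] B →ₐ[A] K' ⊗[A] B := Algebra.TensorProduct.map A'.val (AlgHom.id A B)
  let q : B →ₐ[A] B ⧸ nilradical B := Ideal.Quotient.mkₐ A (nilradical B)
  let f₂ : K' ⊗[A] B →ₐ[A] K' ⊗[A] (B ⧸ nilradical B) := Algebra.TensorProduct.map (AlgHom.id A K') q
  let j : (B ⧸ nilradical B) →ₐ[A] R := IsScalarTower.toAlgHom A (B ⧸ nilradical B) R
  let f₃ : K' ⊗[A] (B ⧸ nilradical B) →ₐ[A] K' ⊗[A] R := Algebra.TensorProduct.map (AlgHom.id A K') j
  have hcomp : (Algebra.TensorProduct.map A'.val (IsScalarTower.toAlgHom A B R)) =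
      (f₃.comp f₂).comp f₁ := by
    apply Algebra.TensorProduct.ext
    · ext a
      simp [f₁, f₂, f₃]
    · ext b
      simp [f₁, f₂, f₃, q, j, IsScalarTower.algebraMap_apply B (B ⧸ nilradical B) R]
  have h1 : Function.Injective f₁ := by
    have : Function.Injective (A'.val.toLinearMap.rTensor B) :=
      Module.Flat.rTensor_preserves_injective_linearMap _ Subtype.val_injective
    exact this
  have h3 : Function.Injective f₃ := by
    have : Function.Injective (j.toLinearMap.lTensor K') :=
      Module.Flat.lTensor_preserves_injective_linearMap _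
        (IsFractionRing.injective (B ⧸ nilradical B) R)
    exact this
  obtain ⟨n, hn⟩ := hx
  have h4 : f₂ (f₁ (x ^ n)) = 0 := by
    apply h3
    rw [map_zero]
    have := hcomp ▸ hn
    rw [← map_pow] at this
    exact this
  have h5 : f₁ (x ^ n) ∈ (nilradical B).map (Algebra.TensorProduct.includeRight : B →ₐ[A] K' ⊗[A] B) := by
    have := Algebra.TensorProduct.lTensor_ker (A := K') q (Ideal.Quotient.mkₐ_surjective A _)
    have hk : RingHom.ker q = nilradical B := Ideal.Quotient.mkₐ_ker A (nilradical B)
    rw [hk] at this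
    rw [← this, RingHom.mem_ker]
    exact h4
  obtain ⟨m, hm⟩ := IsNoetherianRing.isNilpotent_nilradical B
  have h6 : (f₁ (x ^ n)) ^ m = 0 := by
    have := Ideal.pow_mem_pow h5 m
    rw [← Ideal.map_pow, hm] at this
    simpa using this
  refine ⟨n * m, h1 ?_⟩
  rw [pow_mul, map_pow, h6, map_zero]

end Groth.Agent.S4601
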