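import Groth.Statements.S4602
import Groth.Agent.EGA41.K102.GenFib

set_option autoImplicit false
universe u
open IsLocalRing
open EGA41

namespace Groth.Agent.S4602



/-- Let A be a regular local ring with fraction field of characteristic zero, B a domain containing A
and module-finite over it, with fraction field L, n a prime of B, C = B_n, q a prime of the
completion Ĉ with q ∩ C = 0. Then Ĉ_q is formally smooth over L for the adic topology of its maximal
ideal. (Case (ii) of the published statement, in characteristic p with a suitable filtered family of
subrings, is not stated.) -/
theorem result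
    {A B : Type u} [CommRing A] [IsRegularLocalRing A] [CharZero A] [CommRing B] [IsDomain B] [Algebra A B]
    [Module.Finite A B] (hinj : Function.Injective (algebraMap A B)) (n : Ideal B) [n.IsPrime]
    (q : Ideal (AdicCompletion (maximalIdeal (Localization.AtPrime n)) (Localization.AtPrime n))) [q.IsPrime]
    (hq : q.comap (algebraMap (Localization.AtPrime n)
      (AdicCompletion (maximalIdeal (Localization.AtPrime n)) (Localization.AtPrime n))) = ⊥)
    [Algebra B (Localization.AtPrime q)]
    [IsScalarTower B (AdicCompletion (maximalIdeal (Localization.AtPrime n)) (Localization.AtPrime n))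
      (Localization.AtPrime q)]
    [Algebra (FractionRing B) (Localization.AtPrime q)] [IsScalarTower B (FractionRing B) (Localization.AtPrime q)] :
    CAlgX.IsAdicFormallySmooth (FractionRing B) (Localization.AtPrime q) (maximalIdeal (Localization.AtPrime q)) := by
  have hcz : CharZero (FractionRing B) := by
    have : CharZero B := charZero_of_injective_algebraMap hinj
    exact charZero_of_injective_algebraMap (IsFractionRing.injective B (FractionRing B))
  have hdomA : IsDomain A := Groth.Agent.S0558.result A
  have hB : IsNoetherianRing B := IsNoetherianRing.of_finite A B
  have h1 : IsRegularRing (TensorProduct B (FractionRing B) (Groth.Agent.CalgB.CplFiniteLocal.Cpl n)) :=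
    K102.GenFib.isRegularRing_genericFibre_finite hinj n (FractionRing B)
  have hq' : q.comap (algebraMap B (AdicCompletion (maximalIdeal (Localization.AtPrime n))
      (Localization.AtPrime n))) = ⊥ := by
    have h2 : algebraMap B (AdicCompletion (maximalIdeal (Localization.AtPrime n))
      (Localization.AtPrime n)) = (algebraMap (Localization.AtPrime n)
        (AdicCompletion (maximalIdeal (Localization.AtPrime n)) (Localization.AtPrime n))).comp
        (algebraMap B (Localization.AtPrime n)) := rfl
    rw [h2, ← Ideal.comap_comap, hq]
    exact (RingHom.injective_iff_ker_eq_bot _).mp
      (IsLocalization.injective (Localization.AtPrime n) n.primeCompl_le_nonZeroDivisors)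
  have h3 : IsRegularLocalRing (Localization.AtPrime q) :=
    K102.GenFib.isRegularLocalRing_atPrime (FractionRing B) h1 q hq'
  have h4 : Algebra.FormallySmooth (FractionRing B) (ResidueField (Localization.AtPrime q)) :=
    Groth.Agent.Ega41.SepExt.formallySmooth_of_perfectField _ _
  exact Groth.Agent.CalgB.AdicRegField.isAdicFormallySmooth_of_isRegularLocalRing


end Groth.Agent.S4602
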