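import Groth.Statements.S4603
import Groth.Agent.Sga3C.GenPts

set_option autoImplicit false
universe u
open AlgebraicGeometry CategoryTheory
open EGA41

namespace Groth.Agent.S4603

/-- Let f : X → Y be quasi-compact. The following are equivalent: f is dominant; the fibre of f over
every maximal point of Y (a point with no proper generization, i.e. the generic point of an
irreducible component) is nonempty; every maximal point of Y is the image of a maximal point of X. -/
theorem result {X Y : Scheme.{u}} (f : X ⟶ Y) [QuasiCompact f] :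
    [IsDominant f,
     ∀ y : Y, (∀ y' : Y, y' ⤳ y → y' = y) → y ∈ Set.range f.base,
     ∀ y : Y, (∀ y' : Y, y' ⤳ y → y' = y) → ∃ x : X, (∀ x' : X, x' ⤳ x → x' = x) ∧ f.base x = y].TFAE := by
  have h31 : (∀ y : Y, (∀ y' : Y, y' ⤳ y → y' = y) →
      ∃ x : X, (∀ x' : X, x' ⤳ x → x' = x) ∧ f.base x = y) →
      ∀ y : Y, (∀ y' : Y, y' ⤳ y → y' = y) → y ∈ Set.range f.base := by
    intro h y hy
    obtain ⟨x, -, hx⟩ := h y hy
    exact ⟨x, hx⟩
  have h21 : (∀ y : Y, (∀ y' : Y, y' ⤳ y → y' = y) → y ∈ Set.range f.base) → IsDominant f := by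
    intro h
    refine ⟨fun y => ?_⟩
    obtain ⟨z, hz, hzy⟩ := Sga3C.GenPts.exists_mem_genericPoints_specializes y
    have h1 := h z (fun y' hy' => Sga3C.GenPts.eq_of_specializes_of_mem_genericPoints hz y' hy')
    exact hzy.mem_closed isClosed_closure (subset_closure h1)
  have h12 : IsDominant f → ∀ y : Y, (∀ y' : Y, y' ⤳ y → y' = y) →
      ∃ x : X, (∀ x' : X, x' ⤳ x → x' = x) ∧ f.base x = y := by
    intro h y hy
    obtain ⟨x, hx⟩ := Sga3C.GenPts.mem_range_of_mem_closure_range f y (h.1 y) hy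
    obtain ⟨z, hz, hzx⟩ := Sga3C.GenPts.exists_mem_genericPoints_specializes x
    refine ⟨z, fun x' hx' => Sga3C.GenPts.eq_of_specializes_of_mem_genericPoints hz x' hx', ?_⟩
    exact hy _ (hx ▸ hzx.map f.continuous)
  tfae_have 1 → 3 := h12
  tfae_have 3 → 2 := h31
  tfae_have 2 → 1 := h21
  tfae_finish

end Groth.Agent.S4603
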