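import Groth.Statements.S4604
import Mathlib.Algebra.MvPolynomial.Basic
import Mathlib.RingTheory.LocalRing.Quotient
import Mathlib.RingTheory.Ideal.Quotient.Operations

set_option autoImplicit false
universe u
open IsLocalRing
open EGA41

namespace Groth.Agent.S4604

/-- (i) and the kernel statement of (ii): let A be a local ring with maximal ideal m of square zero,
F_i(T_i) = T_i^{d_i} + Σ_{k<d_i} c_{ik} T_i^k (1 ≤ i ≤ r) monic of degrees d_i ≥ 2 with non-leading
coefficients in m, and A' = A[T_1, …, T_r]/(F_1, …, F_r). Then A' is local with residue field K, and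
the kernel of m → m'/m'² (m' the maximal ideal of A') is the ideal generated by the constant terms
c_{i0}. -/
theorem result {A : Type u} [CommRing A] [IsLocalRing A]
    (hm : maximalIdeal A ^ 2 = ⊥) {r : ℕ} (d : Fin r → ℕ) (hd : ∀ i, 2 ≤ d i) (c : Fin r → ℕ → A)
    (hc : ∀ i k, c i k ∈ maximalIdeal A) :
    let F : Fin r → MvPolynomial (Fin r) A := fun i =>
      MvPolynomial.X i ^ d i + (Finset.range (d i)).sum fun k => MvPolynomial.C (c i k) * MvPolynomial.X i ^ k
    ∃ _ : IsLocalRing (MvPolynomial (Fin r) A ⧸ Ideal.span (Set.range F)),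
      Function.Surjective ((Ideal.Quotient.mk (maximalIdeal (MvPolynomial (Fin r) A ⧸ Ideal.span (Set.range F)))).comp
        (algebraMap A (MvPolynomial (Fin r) A ⧸ Ideal.span (Set.range F)))) ∧
      maximalIdeal A ⊓ Ideal.comap (algebraMap A (MvPolynomial (Fin r) A ⧸ Ideal.span (Set.range F)))
          (maximalIdeal (MvPolynomial (Fin r) A ⧸ Ideal.span (Set.range F)) ^ 2) =
        Ideal.span (Set.range fun i => c i 0) := by
  classical
  intro F
  -- the constant coefficient of `F i`
  have hcc : ∀ i, MvPolynomial.constantCoeff (F i) = c i 0 := by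
    intro i
    have hd0 : d i ≠ 0 := by have := hd i; omega
    simp only [F, map_add, map_pow, MvPolynomial.constantCoeff_X, map_sum, map_mul,
      MvPolynomial.constantCoeff_C]
    rw [zero_pow hd0, zero_add, Finset.sum_eq_single 0]
    · simp
    · intro k _ hk
      rw [zero_pow hk, mul_zero]
    · intro h
      exact absurd (Finset.mem_range.mpr (Nat.pos_of_ne_zero hd0)) h
  set I₀ : Ideal A := Ideal.span (Set.range fun i => c i 0) with hI₀
  have hI₀m : I₀ ≤ maximalIdeal A := by
    rw [hI₀, Ideal.span_le]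
    rintro _ ⟨i, rfl⟩
    exact hc i 0
  -- the map to `A / I₀`
  let φ : (MvPolynomial (Fin r) A ⧸ Ideal.span (Set.range F)) →+* A ⧸ I₀ :=
    Ideal.Quotient.lift _ ((Ideal.Quotient.mk I₀).comp MvPolynomial.constantCoeff) (by
      have h : Ideal.span (Set.range F) ≤
          RingHom.ker ((Ideal.Quotient.mk I₀).comp
            (MvPolynomial.constantCoeff : MvPolynomial (Fin r) A →+* A)) := by
        rw [Ideal.span_le]
        rintro _ ⟨i, rfl⟩
        change Ideal.Quotient.mk I₀ (MvPolynomial.constantCoeff (F i)) = 0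
        rw [hcc, Ideal.Quotient.eq_zero_iff_mem]
        exact Ideal.subset_span ⟨i, rfl⟩
      exact fun a ha => h ha)
  have hφa : ∀ a : A, φ (algebraMap A _ a) = Ideal.Quotient.mk I₀ a := by
    intro a
    change Ideal.Quotient.mk I₀ (MvPolynomial.constantCoeff (MvPolynomial.C a)) = _
    rw [MvPolynomial.constantCoeff_C]
  have hφs : Function.Surjective φ := by
    intro x
    obtain ⟨a, rfl⟩ := Ideal.Quotient.mk_surjective x
    exact ⟨_, hφa a⟩
  have hmax : ((maximalIdeal A).map (Ideal.Quotient.mk I₀)).IsMaximal := by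
    refine Ideal.IsMaximal.map_of_surjective_of_ker_le Ideal.Quotient.mk_surjective ?_
    rwa [Ideal.mk_ker]
  set n : Ideal (MvPolynomial (Fin r) A ⧸ Ideal.span (Set.range F)) :=
    ((maximalIdeal A).map (Ideal.Quotient.mk I₀)).comap φ with hn
  have hnmax : n.IsMaximal := Ideal.comap_isMaximal_of_surjective φ hφs
  -- every element is a constant modulo an ideal containing the variables
  let t : Fin r → (MvPolynomial (Fin r) A ⧸ Ideal.span (Set.range F)) := fun i =>
    Ideal.Quotient.mk _ (MvPolynomial.X i)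
  have hconst : ∀ (M : Ideal (MvPolynomial (Fin r) A ⧸ Ideal.span (Set.range F))),
      (∀ i, t i ∈ M) → ∀ f : MvPolynomial (Fin r) A, Ideal.Quotient.mk _ f -
        algebraMap A (MvPolynomial (Fin r) A ⧸ Ideal.span (Set.range F))
          (MvPolynomial.constantCoeff f) ∈ M := by
    intro M hM f
    induction f using MvPolynomial.induction_on with
    | C a =>
      rw [MvPolynomial.constantCoeff_C]
      have : Ideal.Quotient.mk (Ideal.span (Set.range F)) (MvPolynomial.C a) =
        algebraMap A (MvPolynomial (Fin r) A ⧸ Ideal.span (Set.range F)) a := rfl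
      rw [this, sub_self]
      exact zero_mem _
    | add f g hf hg =>
      rw [map_add, map_add, map_add, add_sub_add_comm]
      exact add_mem hf hg
    | mul_X f i _ =>
      rw [map_mul, map_mul, MvPolynomial.constantCoeff_X, mul_zero, map_zero, sub_zero]
      exact Ideal.mul_mem_left _ _ (hM i)
  have htd : ∀ i, t i ^ d i = - (Finset.range (d i)).sum fun k =>
      algebraMap A (MvPolynomial (Fin r) A ⧸ Ideal.span (Set.range F)) (c i k) * t i ^ k := by
    intro i
    have h1 : Ideal.Quotient.mk (Ideal.span (Set.range F)) (F i) = 0 :=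
      Ideal.Quotient.eq_zero_iff_mem.mpr (Ideal.subset_span ⟨i, rfl⟩)
    simp only [F, map_add, map_pow, map_sum, map_mul] at h1
    exact eq_neg_of_add_eq_zero_left h1
  have hmM : ∀ (M : Ideal (MvPolynomial (Fin r) A ⧸ Ideal.span (Set.range F))), M.IsPrime →
      ∀ a ∈ maximalIdeal A, algebraMap A _ a ∈ M := by
    intro M hM a ha
    refine hM.mem_of_pow_mem 2 ?_
    rw [← map_pow]
    have : a ^ 2 ∈ maximalIdeal A ^ 2 := Ideal.pow_mem_pow ha 2
    rw [hm] at this
    rw [(Submodule.mem_bot _).mp this, map_zero]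
    exact zero_mem _
  have htM : ∀ (M : Ideal (MvPolynomial (Fin r) A ⧸ Ideal.span (Set.range F))), M.IsPrime →
      ∀ i, t i ∈ M := by
    intro M hM i
    refine hM.mem_of_pow_mem (d i) ?_
    rw [htd]
    exact neg_mem (sum_mem fun k _ => Ideal.mul_mem_right _ _ (hmM M hM _ (hc i k)))
  have hnM : ∀ (M : Ideal (MvPolynomial (Fin r) A ⧸ Ideal.span (Set.range F))), M.IsPrime →
      n ≤ M := by
    intro M hM b hb
    obtain ⟨f, rfl⟩ := Ideal.Quotient.mk_surjective b
    have h1 := hconst M (htM M hM) f
    have h2 : MvPolynomial.constantCoeff f ∈ maximalIdeal A := by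
      have h3 : Ideal.Quotient.mk I₀ (MvPolynomial.constantCoeff f) ∈
        (maximalIdeal A).map (Ideal.Quotient.mk I₀) := hb
      rw [Ideal.mem_map_iff_of_surjective _ Ideal.Quotient.mk_surjective] at h3
      obtain ⟨x, hx, hxf⟩ := h3
      have h4 : MvPolynomial.constantCoeff f - x ∈ I₀ := by
        rw [← Ideal.Quotient.mk_eq_mk_iff_sub_mem]
        exact hxf.symm
      have := add_mem (hI₀m h4) hx
      rwa [sub_add_cancel] at this
    have h5 := add_mem h1 (hmM M hM _ h2)
    rwa [sub_add_cancel] at h5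
  have hloc : IsLocalRing (MvPolynomial (Fin r) A ⧸ Ideal.span (Set.range F)) :=
    IsLocalRing.of_unique_max_ideal ⟨n, hnmax, fun M hM =>
      (hnmax.eq_of_le hM.ne_top (hnM M hM.isPrime)).symm⟩
  have hmn : maximalIdeal (MvPolynomial (Fin r) A ⧸ Ideal.span (Set.range F)) = n :=
    (IsLocalRing.eq_maximalIdeal hnmax).symm
  refine ⟨hloc, ?_, ?_⟩
  · intro x
    obtain ⟨b, rfl⟩ := Ideal.Quotient.mk_surjective x
    obtain ⟨f, rfl⟩ := Ideal.Quotient.mk_surjective b
    refine ⟨MvPolynomial.constantCoeff f, ?_⟩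
    rw [RingHom.comp_apply, eq_comm, Ideal.Quotient.mk_eq_mk_iff_sub_mem]
    exact hconst _ (htM _ (maximalIdeal.isMaximal _).isPrime) f
  · refine le_antisymm ?_ ?_
    · rintro a ⟨ha, ha2⟩
      have h1 : (maximalIdeal (MvPolynomial (Fin r) A ⧸ Ideal.span (Set.range F))) ^ 2 ≤
          (⊥ : Ideal (A ⧸ I₀)).comap φ := by
        rw [hmn, pow_two, Ideal.mul_le]
        intro x hx y hy
        rw [Ideal.mem_comap, map_mul]
        have hx' : φ x ∈ (maximalIdeal A).map (Ideal.Quotient.mk I₀) := hx
        have hy' : φ y ∈ (maximalIdeal A).map (Ideal.Quotient.mk I₀) := hy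
        have h3 := Ideal.mul_mem_mul hx' hy'
        rw [← Ideal.map_mul, ← pow_two, hm, Ideal.map_bot] at h3
        exact h3
      have h2 : φ (algebraMap A _ a) = 0 := h1 ha2
      rw [hφa, Ideal.Quotient.eq_zero_iff_mem] at h2
      exact h2
    · rw [hI₀, Ideal.span_le]
      rintro _ ⟨i, rfl⟩
      refine ⟨hc i 0, ?_⟩
      change algebraMap A _ (c i 0) ∈
        maximalIdeal (MvPolynomial (Fin r) A ⧸ Ideal.span (Set.range F)) ^ 2
      have hti : t i ∈ maximalIdeal (MvPolynomial (Fin r) A ⧸ Ideal.span (Set.range F)) :=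
        htM _ (maximalIdeal.isMaximal _).isPrime i
      have hd1 : d i = (d i - 1) + 1 := by have := hd i; omega
      have h1 := htd i
      rw [hd1, Finset.sum_range_succ'] at h1
      rw [pow_zero, mul_one] at h1
      have h2 : algebraMap A (MvPolynomial (Fin r) A ⧸ Ideal.span (Set.range F)) (c i 0) =
          - (t i ^ (d i - 1 + 1)) - (Finset.range (d i - 1)).sum fun k =>
            algebraMap A (MvPolynomial (Fin r) A ⧸ Ideal.span (Set.range F)) (c i (k + 1)) *
              t i ^ (k + 1) := by
        rw [h1]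
        ring
      rw [h2]
      refine sub_mem (neg_mem ?_) (sum_mem fun k _ => ?_)
      · rw [← hd1]
        exact Ideal.pow_le_pow_right (hd i) (Ideal.pow_mem_pow hti _)
      · have h3 : algebraMap A (MvPolynomial (Fin r) A ⧸ Ideal.span (Set.range F)) (c i (k + 1)) *
            t i ^ (k + 1) = (algebraMap A (MvPolynomial (Fin r) A ⧸ Ideal.span (Set.range F))
              (c i (k + 1)) * t i) * t i ^ k := by
          rw [pow_succ']
          ring
        rw [h3]
        refine Ideal.mul_mem_right _ _ ?_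
        rw [pow_two]
        exact Ideal.mul_mem_mul (hmM _ (maximalIdeal.isMaximal _).isPrime _ (hc i _)) hti

end Groth.Agent.S4604
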