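import Groth.Statements.S4605
import Groth.Agent.Ega41.PBasisPres
import Mathlib.FieldTheory.IsAlgClosed.AlgebraicClosure
import Mathlib.RingTheory.Algebraic.Basic
import Mathlib.RingTheory.Polynomial.Basic
import Mathlib.RingTheory.LocalRing.Quotient

set_option autoImplicit false
universe u
open IsLocalRing
open EGA41

namespace Groth.Agent.S4605

/-- If `p`-monomials in `a` are independent over `K^p` then those in `a^{1/p}` are independent
over `K`. -/
theorem linearIndependent_root {K L : Type u} [Field K] [Field L] [Algebra K L] (p : ℕ)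
    [Fact p.Prime] [CharP K p] [CharP L p] {ι : Type u} (a : ι → K) (x : ι → L)
    (hx : ∀ i, x i ^ p = algebraMap K L (a i))
    (hind : LinearIndependent (↥(frobenius K p).fieldRange)
      (fun e : {e : ι →₀ ℕ // ∀ i, e i < p} => EGA41.pMonomial a e.1)) :
    LinearIndependent K (fun e : {e : ι →₀ ℕ // ∀ i, e i < p} => EGA41.pMonomial x e.1) := by
  rw [linearIndependent_iff'] at hind ⊢
  intro s g hg i hi
  have hmono : ∀ e : ι →₀ ℕ, EGA41.pMonomial x e ^ p = algebraMap K L (EGA41.pMonomial a e) := by
    intro e
    rw [EGA41.pMonomial, EGA41.pMonomial, Finsupp.prod, Finsupp.prod, ← Finset.prod_pow, map_prod]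
    refine Finset.prod_congr rfl fun j _ => ?_
    rw [← pow_mul, mul_comm, pow_mul, hx, map_pow]
  have h1 : ∑ e ∈ s, (g e) ^ p * EGA41.pMonomial a e.1 = 0 := by
    apply (algebraMap K L).injective
    rw [map_zero, map_sum]
    have h2 : (∑ e ∈ s, g e • EGA41.pMonomial x e.1) ^ p = 0 := by
      rw [hg, zero_pow (Fact.out : p.Prime).ne_zero]
    rw [sum_pow_char] at h2
    rw [← h2]
    refine Finset.sum_congr rfl fun e _ => ?_
    rw [Algebra.smul_def, mul_pow, hmono, map_mul, map_pow]
  have h3 := hind s (fun e => ⟨(g e) ^ p, ⟨g e, rfl⟩⟩) (by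
    rw [← h1]
    rfl) i hi
  have h4 : (g i) ^ p = 0 := congrArg Subtype.val h3
  exact pow_eq_zero_iff (Fact.out : p.Prime).ne_zero |>.mp h4


/-- Let A be a local ring with maximal ideal m of square zero and residue field K of characteristic p >
0, F_i(T_i) = T_i^p + p Σ_{k=1}^{p-1} c_{ik} T_i^{p-k} − f_i (i in a finite index set) with c_{ik},
f_i ∈ A, and suppose the residues of the f_i in K are p-independent over K^p. Then A' = A[T_i]/(F_i)
is local with maximal ideal m A'. (The identification of the residue field with K(a_i^{1/p}) is not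
restated.) -/
theorem result {A : Type u} [CommRing A]
    [IsLocalRing A] (hm : maximalIdeal A ^ 2 = ⊥) (p : ℕ) [Fact p.Prime] [CharP (ResidueField A) p]
    {ι : Type u} [Finite ι] (c : ι → Fin p → A) (f : ι → A)
    (hind : LinearIndependent (↥(frobenius (ResidueField A) p).fieldRange)
      (fun e : {e : ι →₀ ℕ // ∀ i, e i < p} => EGA41.pMonomial (fun i => residue A (f i)) e.1)) :
    let F : ι → MvPolynomial ι A := fun i =>
      MvPolynomial.X i ^ p + (p : MvPolynomial ι A) * (Finset.univ.sum fun j : Fin p =>
        if (j : ℕ) = 0 then 0 else MvPolynomial.C (c i j) * MvPolynomial.X i ^ (p - (j : ℕ))) - MvPolynomial.C (f i)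
    ∃ _ : IsLocalRing (MvPolynomial ι A ⧸ Ideal.span (Set.range F)),
      maximalIdeal (MvPolynomial ι A ⧸ Ideal.span (Set.range F)) =
        (maximalIdeal A).map (algebraMap A (MvPolynomial ι A ⧸ Ideal.span (Set.range F))) := by
  classical
  intro F
  have hp : p.Prime := Fact.out
  let K := ResidueField A
  let L := AlgebraicClosure K
  have : CharP L p := charP_of_injective_algebraMap (algebraMap K L).injective p
  let a : ι → K := fun i => residue A (f i)
  have hx : ∀ i, ∃ x : L, x ^ p = algebraMap K L (a i) := fun i =>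
    IsAlgClosed.exists_pow_nat_eq _ hp.pos
  choose x hx using hx
  have hli : LinearIndependent K
      (fun e : {e : ι →₀ ℕ // ∀ i, e i < p} => EGA41.pMonomial x e.1) :=
    linearIndependent_root p a x hx hind
  have hker := Groth.Agent.Ega41.PBasisPres.ker_aeval_eq (A := K) hp.pos hx hli
  have hpK : (p : K) = 0 := CharP.cast_eq_zero K p
  -- the map to polynomials over the residue field
  let ρ : MvPolynomial ι A →+* MvPolynomial ι K := MvPolynomial.map (residue A)
  have hρ : Function.Surjective ρ := MvPolynomial.map_surjective _ residue_surjective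
  have hρF : ∀ i, ρ (F i) = MvPolynomial.X i ^ p - MvPolynomial.C (a i) := by
    intro i
    simp only [ρ, F, map_sub, map_add, map_pow, MvPolynomial.map_X, map_mul, map_natCast,
      MvPolynomial.map_C]
    have : ((p : ℕ) : MvPolynomial ι K) = 0 := by
      rw [← map_natCast (MvPolynomial.C : K →+* MvPolynomial ι K), hpK, map_zero]
    rw [this, zero_mul, add_zero]
  let π : MvPolynomial ι A →+* L := (MvPolynomial.aeval x : MvPolynomial ι K →ₐ[K] L).toRingHom.comp ρ
  have hπF : Ideal.span (Set.range F) ≤ RingHom.ker π := by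
    rw [Ideal.span_le]
    rintro _ ⟨i, rfl⟩
    change MvPolynomial.aeval x (ρ (F i)) = 0
    rw [hρF, map_sub, map_pow, MvPolynomial.aeval_X, hx, MvPolynomial.aeval_C, sub_self]
  let π' : (MvPolynomial ι A ⧸ Ideal.span (Set.range F)) →+* L :=
    Ideal.Quotient.lift _ π (fun a ha => hπF ha)
  -- its kernel is generated by the maximal ideal
  have hkerπ : RingHom.ker π' = (maximalIdeal A).map
      (algebraMap A (MvPolynomial ι A ⧸ Ideal.span (Set.range F))) := by
    apply le_antisymm
    · intro b hb
      obtain ⟨g, rfl⟩ := Ideal.Quotient.mk_surjective b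
      have h1 : ρ g ∈ Groth.Agent.Ega41.PBasisPres.presIdeal p a := by
        rw [← hker]
        exact hb
      have h2 : Groth.Agent.Ega41.PBasisPres.presIdeal p a =
          (Ideal.span (Set.range F)).map ρ := by
        rw [Groth.Agent.Ega41.PBasisPres.presIdeal, Ideal.map_span, ← Set.range_comp]
        congr 2
        funext i
        exact (hρF i).symm
      rw [h2, Ideal.mem_map_iff_of_surjective _ hρ] at h1
      obtain ⟨h, hh, hhg⟩ := h1
      have h3 : g - h ∈ (maximalIdeal A).map (MvPolynomial.C : A →+* MvPolynomial ι A) := by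
        have : g - h ∈ RingHom.ker ρ := by
          rw [RingHom.mem_ker, map_sub, hhg, sub_self]
        rw [MvPolynomial.ker_map, ker_residue] at this
        exact this
      have h4 : Ideal.Quotient.mk (Ideal.span (Set.range F)) g =
          Ideal.Quotient.mk (Ideal.span (Set.range F)) (g - h) := by
        rw [map_sub, Ideal.Quotient.eq_zero_iff_mem.mpr hh, sub_zero]
      rw [h4]
      have h5 := Ideal.mem_map_of_mem (Ideal.Quotient.mk (Ideal.span (Set.range F))) h3
      rw [Ideal.map_map] at h5
      exact h5
    · rw [Ideal.map_le_iff_le_comap]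
      intro c hc
      change MvPolynomial.aeval x (ρ (MvPolynomial.C c)) = 0
      rw [MvPolynomial.map_C, (residue_eq_zero_iff c).mpr hc, map_zero, map_zero]
  have hmax : (RingHom.ker π').IsMaximal := by
    -- the range is a field
    let S : Subalgebra K L := (MvPolynomial.aeval x : MvPolynomial ι K →ₐ[K] L).range
    have hS : IsField S := Subalgebra.isField_of_algebraic S
    have hπS : ∀ b, π' b ∈ S := by
      intro b
      obtain ⟨g, rfl⟩ := Ideal.Quotient.mk_surjective b
      exact ⟨ρ g, rfl⟩
    let π'' : (MvPolynomial ι A ⧸ Ideal.span (Set.range F)) →+* S := π'.codRestrict S hπS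
    have hsurj : Function.Surjective π'' := by
      rintro ⟨_, g, rfl⟩
      obtain ⟨h, rfl⟩ := hρ g
      exact ⟨Ideal.Quotient.mk _ h, Subtype.ext rfl⟩
    let _ := hS.toField
    have h1 : (RingHom.ker π'').IsMaximal := RingHom.ker_isMaximal_of_surjective π'' hsurj
    have h2 : RingHom.ker π'' = RingHom.ker π' := by
      ext b
      exact ⟨fun h => congrArg Subtype.val h, fun h => Subtype.ext h⟩
    rwa [← h2]
  have hnM : ∀ (M : Ideal (MvPolynomial ι A ⧸ Ideal.span (Set.range F))), M.IsPrime →
      RingHom.ker π' ≤ M := by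
    intro M hM
    rw [hkerπ, Ideal.map_le_iff_le_comap]
    intro c hc
    refine hM.mem_of_pow_mem 2 ?_
    rw [← map_pow]
    have : c ^ 2 ∈ maximalIdeal A ^ 2 := Ideal.pow_mem_pow hc 2
    rw [hm] at this
    rw [(Submodule.mem_bot _).mp this, map_zero]
    exact zero_mem _
  have hloc : IsLocalRing (MvPolynomial ι A ⧸ Ideal.span (Set.range F)) :=
    IsLocalRing.of_unique_max_ideal ⟨RingHom.ker π', hmax, fun M hM =>
      (hmax.eq_of_le hM.ne_top (hnM M hM.isPrime)).symm⟩
  exact ⟨hloc, (IsLocalRing.eq_maximalIdeal hmax).symm.trans hkerπ⟩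

end Groth.Agent.S4605
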