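import Groth.Statements.S4606
import Groth.Agent.EGA41.K102.AdicJac
import Groth.Agent.S2463
import Mathlib.RingTheory.Localization.Algebra
import Mathlib.RingTheory.Localization.AtPrime.Basic

set_option autoImplicit false
universe u
open TensorProduct KaehlerDifferential IsLocalRing
open EGA41

namespace Groth.Agent.S4606

/-- Adic formal smoothness over a localization of the base implies adic formal smoothness over the
base. -/
theorem adic_restrict {A C : Type u} [CommRing A] [CommRing C] [Algebra A C] (p : Ideal C) [p.IsPrime]
    [Algebra (Localization.AtPrime (p.comap (algebraMap A C))) (Localization.AtPrime p)]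
    [IsScalarTower A (Localization.AtPrime (p.comap (algebraMap A C))) (Localization.AtPrime p)]
    (h : CAlgX.IsAdicFormallySmooth (Localization.AtPrime (p.comap (algebraMap A C)))
      (Localization.AtPrime p) (maximalIdeal (Localization.AtPrime p))) :
    CAlgX.IsAdicFormallySmooth A (Localization.AtPrime p) (maximalIdeal (Localization.AtPrime p)) := by
  intro T _ _ I hI ψ hψ
  -- elements outside the prime become units in `T`
  have hu : ∀ y : (p.comap (algebraMap A C)).primeCompl, IsUnit (algebraMap A T y) := by
    intro y
    have h1 : IsUnit (algebraMap A (Localization.AtPrime p) y) := by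
      rw [IsScalarTower.algebraMap_apply A C (Localization.AtPrime p)]
      exact IsLocalization.map_units (Localization.AtPrime p)
        (⟨algebraMap A C y, y.2⟩ : p.primeCompl)
    have h2 : IsUnit (Ideal.Quotient.mk I (algebraMap A T y)) := by
      have h3 := h1.map ψ
      rwa [AlgHom.commutes] at h3
    exact (IsNilpotent.isUnit_quotient_mk_iff ⟨2, hI⟩).mp h2
  let φ : Localization.AtPrime (p.comap (algebraMap A C)) →ₐ[A] T :=
    IsLocalization.liftAlgHom (M := (p.comap (algebraMap A C)).primeCompl)
      (f := Algebra.ofId A T) hu
  let _ : Algebra (Localization.AtPrime (p.comap (algebraMap A C))) T := φ.toAlgebra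
  have _ : IsScalarTower A (Localization.AtPrime (p.comap (algebraMap A C))) T :=
    IsScalarTower.of_algebraMap_eq' φ.comp_algebraMap.symm
  have hcomm : (ψ : Localization.AtPrime p →+* T ⧸ I).comp
      (algebraMap (Localization.AtPrime (p.comap (algebraMap A C))) (Localization.AtPrime p)) =
      algebraMap (Localization.AtPrime (p.comap (algebraMap A C))) (T ⧸ I) := by
    apply IsLocalization.ringHom_ext (p.comap (algebraMap A C)).primeCompl
    ext a
    simp only [RingHom.comp_apply]
    rw [← IsScalarTower.algebraMap_apply, ← IsScalarTower.algebraMap_apply]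
    exact ψ.commutes a
  let ψ' : Localization.AtPrime p →ₐ[Localization.AtPrime (p.comap (algebraMap A C))] T ⧸ I :=
    { ψ with commutes' := fun x => DFunLike.congr_fun hcomm x }
  obtain ⟨χ, hχ⟩ := h T I hI ψ' hψ
  refine ⟨χ.restrictScalars A, AlgHom.ext fun x => ?_⟩
  exact DFunLike.congr_fun hχ x

lemma finite_cotangent {B C : Type u} [CommRing B] [CommRing C] [Algebra B C] [IsNoetherianRing B] :
    Module.Finite B (RingHom.ker (algebraMap B C)).Cotangent :=
  Module.Finite.of_surjective (RingHom.ker (algebraMap B C)).toCotangent
    (Ideal.toCotangent_surjective _)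

/-- The adic and the discrete formal smoothness agree for `C_p`, with `C` a quotient of a Noetherian
formally smooth algebra. -/
theorem formallySmooth_of_adic {A B C : Type u} [CommRing A] [CommRing B] [CommRing C] [Algebra A B]
    [Algebra B C] [Algebra A C] [IsScalarTower A B C] [IsNoetherianRing B]
    [Algebra.FormallySmooth A B] (hsurj : Function.Surjective (algebraMap B C)) (p : Ideal C) [p.IsPrime]
    (h : CAlgX.IsAdicFormallySmooth A (Localization.AtPrime p)
      (maximalIdeal (Localization.AtPrime p))) :
    Algebra.FormallySmooth A (Localization.AtPrime p) := by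
  let P : Ideal B := p.comap (algebraMap B C)
  let B' := Localization.AtPrime P
  let C' := Localization.AtPrime p
  let φ : B' →+* C' := Localization.localRingHom P p (algebraMap B C) rfl
  let _ : Algebra B' C' := φ.toAlgebra
  have _ : IsScalarTower B B' C' := by
    refine IsScalarTower.of_algebraMap_eq fun b => ?_
    rw [IsScalarTower.algebraMap_apply B C C']
    exact (Localization.localRingHom_to_map P p (algebraMap B C) rfl b).symm
  have _ : IsScalarTower A B' C' := by
    refine IsScalarTower.of_algebraMap_eq fun a => ?_
    rw [IsScalarTower.algebraMap_apply A B B', ← IsScalarTower.algebraMap_apply B B' C',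
      ← IsScalarTower.algebraMap_apply A B C']
  have hsurj' : Function.Surjective (algebraMap B' C') := by
    intro c
    obtain ⟨c, s, rfl⟩ := IsLocalization.exists_mk'_eq p.primeCompl c
    obtain ⟨b, rfl⟩ := hsurj c
    obtain ⟨t, ht⟩ := hsurj (s : C)
    have htP : t ∈ P.primeCompl := by
      intro h1
      have h2 : (s : C) ∈ p := ht ▸ h1
      exact s.2 h2
    refine ⟨IsLocalization.mk' B' b ⟨t, htP⟩, ?_⟩
    have h3 : φ (IsLocalization.mk' B' b ⟨t, htP⟩) = _ :=
      Localization.localRingHom_mk' P p (algebraMap B C) rfl b ⟨t, htP⟩
    change φ _ = _
    rw [h3]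
    congr 1
    exact Subtype.ext ht
  have _ : Algebra.FormallySmooth B B' := Algebra.FormallySmooth.of_isLocalization P.primeCompl
  have _ : Algebra.FormallySmooth A B' := Algebra.FormallySmooth.comp A B B'
  have _ : IsNoetherianRing B' := IsLocalization.isNoetherianRing P.primeCompl B' ‹_›
  have _ : IsNoetherianRing C := isNoetherianRing_of_surjective B C _ hsurj
  have _ : IsNoetherianRing C' := IsLocalization.isNoetherianRing p.primeCompl C' ‹_›
  have hinj := K102.AdicJac.injective_of_adic (A := A) (B := B') (C := C') hsurj' h
    (κ := (maximalIdeal C').ResidueField) (fun x hx => by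
      rwa [Ideal.algebraMap_residueField_eq_zero])
  have _ : Module.Finite B' (RingHom.ker (algebraMap B' C')).Cotangent := finite_cotangent
  have hFS : Algebra.FormallySmooth A (Localization.AtPrime (maximalIdeal C')) := ((Groth.Agent.S2463.result (A := A) (B := B') (C := C') hsurj'
    (maximalIdeal C')).out 0 1).mpr hinj
  have e : C' ≃ₐ[C'] Localization.AtPrime (maximalIdeal C') :=
    IsLocalization.atUnits C' (maximalIdeal C').primeCompl (fun x hx => by
      by_contra h1
      exact hx ((mem_maximalIdeal x).mpr h1))
  exact Algebra.FormallySmooth.of_equiv (e.symm.restrictScalars A)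


/-- Let B be a Noetherian A-algebra formally smooth for the discrete topologies, B → C a surjection with
kernel J, p a prime of C and q its contraction to A. Then C_p is formally smooth over A_q (A_q
discrete, C_p with the adic topology of its maximal ideal) if and only if κ(p) ⊗ J/J² → κ(p) ⊗ (C
⊗_B Ω_{B/A}) is injective. (The equivalent variant with the q-adic topology on A_q is not stated.) -/
theorem result {A B C : Type u} [CommRing A]
    [CommRing B] [CommRing C] [Algebra A B] [Algebra B C] [Algebra A C] [IsScalarTower A B C] [IsNoetherianRing B]
    [Algebra.FormallySmooth A B] (hsurj : Function.Surjective (algebraMap B C)) (p : Ideal C) [p.IsPrime]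
    [Algebra (Localization.AtPrime (p.comap (algebraMap A C))) (Localization.AtPrime p)]
    [IsScalarTower A (Localization.AtPrime (p.comap (algebraMap A C))) (Localization.AtPrime p)] :
    CAlgX.IsAdicFormallySmooth (Localization.AtPrime (p.comap (algebraMap A C))) (Localization.AtPrime p)
        (maximalIdeal (Localization.AtPrime p)) ↔
      Function.Injective ((kerCotangentToTensor A B C).lTensor p.ResidueField) := by
  have _ : Module.Finite B (RingHom.ker (algebraMap B C)).Cotangent := finite_cotangent
  have h12 := (Groth.Agent.S2463.result (A := A) hsurj p).out 0 1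
  rw [← h12]
  constructor
  · intro h
    exact formallySmooth_of_adic hsurj p (adic_restrict p h)
  · intro h
    have h1 : Algebra.FormallySmooth (Localization.AtPrime (p.comap (algebraMap A C)))
        (Localization.AtPrime p) :=
      Algebra.FormallySmooth.localization_base (R := A) (p.comap (algebraMap A C)).primeCompl
    intro T _ _ I hI ψ _
    exact Algebra.FormallySmooth.comp_surjective _ _ I hI ψ

end Groth.Agent.S4606
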