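import Groth.Statements.S4607
import Mathlib.RingTheory.Spectrum.Prime.RingHom
import Mathlib.RingTheory.Flat.FaithfullyFlat.Basic
import Mathlib.RingTheory.TensorProduct.Finite

set_option autoImplicit false
universe u
open TensorProduct
open EGA41

namespace Groth.Agent.S4607

/-- First assertion, case of two factors: for A-algebras A' and A'' the image of Spec(A' ⊗_A A'') in
Spec A is the intersection of the images of Spec A' and Spec A''. -/
theorem result {A A' A'' : Type u} [CommRing A] [CommRing A'] [CommRing A'']
    [Algebra A A'] [Algebra A A''] :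
    Set.range (PrimeSpectrum.comap (algebraMap A (A' ⊗[A] A''))) =
      Set.range (PrimeSpectrum.comap (algebraMap A A')) ∩ Set.range (PrimeSpectrum.comap (algebraMap A A'')) := by
  ext p
  rw [Set.mem_inter_iff, ← PrimeSpectrum.nontrivial_iff_mem_rangeComap,
    ← PrimeSpectrum.nontrivial_iff_mem_rangeComap, ← PrimeSpectrum.nontrivial_iff_mem_rangeComap]
  let K := p.asIdeal.ResidueField
  have e : K ⊗[A] (A' ⊗[A] A'') ≃ₗ[K] (K ⊗[A] A') ⊗[K] (K ⊗[A] A'') :=
    TensorProduct.AlgebraTensorModule.distribBaseChange A K A' A''
  rw [e.toEquiv.nontrivial_congr]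
  constructor
  · intro h
    constructor
    · by_contra h'
      rw [not_nontrivial_iff_subsingleton] at h'
      exact (not_subsingleton_iff_nontrivial.mpr h) inferInstance
    · by_contra h'
      rw [not_nontrivial_iff_subsingleton] at h'
      exact (not_subsingleton_iff_nontrivial.mpr h) inferInstance
  · rintro ⟨h1, h2⟩
    infer_instance

end Groth.Agent.S4607
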