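import Groth.Statements.S4611
import Mathlib.RingTheory.EssentialFiniteness
import Mathlib.RingTheory.Localization.AtPrime.Basic

set_option autoImplicit false
universe u
open EGA41

namespace Groth.Agent.S4611

/-- A local algebra essentially of finite type over a ring A is A-isomorphic to a quotient of a
localization A[T_1, …, T_n]_q of a polynomial algebra at a prime ideal q; stated as the existence of
a surjective A-algebra map from such a localization. -/
theorem result {A B : Type u} [CommRing A]
    [CommRing B] [IsLocalRing B] [Algebra A B] [Algebra.EssFiniteType A B] :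
    ∃ (n : ℕ) (q : Ideal (MvPolynomial (Fin n) A)) (_ : q.IsPrime)
      (φ : Localization.AtPrime q →ₐ[A] B), Function.Surjective φ := by
  classical
  obtain ⟨σ, hσ⟩ := (Algebra.essFiniteType_iff A B).mp ‹_›
  let v : Fin σ.card → B := fun i => (σ.equivFin.symm i : B)
  let ψ : MvPolynomial (Fin σ.card) A →ₐ[A] B := MvPolynomial.aeval v
  have hv : Set.range v = (σ : Set B) := by
    ext x
    constructor
    · rintro ⟨i, rfl⟩
      exact (σ.equivFin.symm i).2
    · intro hx
      exact ⟨σ.equivFin ⟨x, hx⟩, by simp [v]⟩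
  have hψ : ∀ x ∈ Algebra.adjoin A (σ : Set B), ∃ y, ψ y = x := by
    intro x hx
    rw [← hv, Algebra.adjoin_range_eq_range_aeval] at hx
    exact hx
  let q : Ideal (MvPolynomial (Fin σ.card) A) := (IsLocalRing.maximalIdeal B).comap ψ
  have hq : q.IsPrime := Ideal.comap_isPrime _ _
  have hu : ∀ y : q.primeCompl, IsUnit (ψ y) := by
    rintro ⟨y, hy⟩
    by_contra h
    exact hy ((IsLocalRing.mem_maximalIdeal _).mpr h)
  refine ⟨σ.card, q, hq, IsLocalization.liftAlgHom (M := q.primeCompl) (f := ψ) hu, ?_⟩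
  intro b
  obtain ⟨t, ht, htu, hbt⟩ := hσ b
  obtain ⟨y, hy⟩ := hψ t ht
  obtain ⟨z, hz⟩ := hψ _ hbt
  have hyq : y ∈ q.primeCompl := by
    intro h
    have h2 : t ∈ IsLocalRing.maximalIdeal B := hy ▸ h
    exact (IsLocalRing.mem_maximalIdeal _).mp h2 htu
  refine ⟨IsLocalization.mk' _ z ⟨y, hyq⟩, ?_⟩
  rw [IsLocalization.liftAlgHom_apply, IsLocalization.lift_mk'_spec]
  change ψ z = ψ y * b
  rw [hz, hy, mul_comm]

end Groth.Agent.S4611
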