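import Groth.Statements.S4612
import Groth.Agent.EGA41.K102.NagSep
import Groth.Agent.EGA41.K102.NagSep2
import Groth.Agent.CalgB.AdicRegField

set_option autoImplicit false
universe u
open IsLocalRing
open EGA41

namespace Groth.Agent.S4612

open Groth.Agent.Ega41 Groth.Agent.Ega41.NagFinal

/-- A power series ring over a field is adically formally smooth. -/
theorem fs_powerSeries {k : Type u} [Field k] (r : ℕ) :
    CAlgX.IsAdicFormallySmooth k (MvPowerSeries (Fin r) k)
      (maximalIdeal (MvPowerSeries (Fin r) k)) := by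
  have hregA : IsRegularLocalRing (MvPowerSeries (Fin r) k) := CalgB.PowField.isRegularLocalRing k r
  let c : MvPowerSeries (Fin r) k →ₐ[k] k :=
    { MvPowerSeries.constantCoeff with
      commutes' := fun x => by
        change MvPowerSeries.constantCoeff (algebraMap k (MvPowerSeries (Fin r) k) x) = x
        rw [MvPowerSeries.algebraMap_apply]
        simp }
  have hc : Function.Surjective c := fun x => ⟨algebraMap k _ x, c.commutes x⟩
  have hmax : (RingHom.ker c).IsMaximal := RingHom.ker_isMaximal_of_surjective c hc
  have hker : maximalIdeal (MvPowerSeries (Fin r) k) = RingHom.ker c :=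
    (IsLocalRing.eq_maximalIdeal hmax).symm
  have e : ResidueField (MvPowerSeries (Fin r) k) ≃ₐ[k] k :=
    (Ideal.quotientEquivAlgOfEq k hker).trans (Ideal.quotientKerAlgEquivOfSurjective hc)
  have : Algebra.FormallySmooth k (ResidueField (MvPowerSeries (Fin r) k)) :=
    Algebra.FormallySmooth.of_equiv e.symm
  exact CalgB.AdicRegField.isAdicFormallySmooth_of_isRegularLocalRing

/-- The partial derivatives are dense among the derivations. -/
theorem dense {k : Type u} [Field k] (r : ℕ)
    (p : Ideal (MvPowerSeries (Fin r) k)) [p.IsPrime]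
    (s : ℕ) [Algebra (MvPowerSeries (Fin s) k) (MvPowerSeries (Fin r) k ⧸ p)]
    [IsScalarTower k (MvPowerSeries (Fin s) k) (MvPowerSeries (Fin r) k ⧸ p)]
    [Module.Finite (MvPowerSeries (Fin s) k) (MvPowerSeries (Fin r) k ⧸ p)]
    (hinj : Function.Injective (algebraMap (MvPowerSeries (Fin s) k) (MvPowerSeries (Fin r) k ⧸ p)))
    {L' L : Type u} [Field L'] [Field L]
    [Algebra (MvPowerSeries (Fin s) k) L'] [IsFractionRing (MvPowerSeries (Fin s) k) L']
    [Algebra (MvPowerSeries (Fin r) k ⧸ p) L] [IsFractionRing (MvPowerSeries (Fin r) k ⧸ p) L]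
    [Algebra L' L] [Algebra (MvPowerSeries (Fin s) k) L]
    [IsScalarTower (MvPowerSeries (Fin s) k) (MvPowerSeries (Fin r) k ⧸ p) L]
    [IsScalarTower (MvPowerSeries (Fin s) k) L' L] [Algebra.IsSeparable L' L]
    (κ : Type u) [Field κ] [Algebra (MvPowerSeries (Fin r) k) κ]
    (hκ : ∀ a : MvPowerSeries (Fin r) k, algebraMap (MvPowerSeries (Fin r) k) κ a = 0 ↔ a ∈ p)
    (hfr : ∀ x : κ, ∃ a b : MvPowerSeries (Fin r) k, algebraMap _ κ b ≠ 0 ∧
      x * algebraMap _ κ b = algebraMap _ κ a) :
    K102.NagSep2.Dense k p κ := by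
  intro m f hf c h δ hδ
  have hpker : p = RingHom.ker (algebraMap (MvPowerSeries (Fin r) k) κ) := by
    ext a
    exact (hκ a).symm
  obtain ⟨l, hl⟩ := K102.NagSep.core r (κ := κ) hfr p hpker s hinj (L' := L') (L := L) δ (by
    intro a b
    rw [hδ, Algebra.smul_def, Algebra.smul_def])
  have hl' : ∀ i, δ (f i) =
      ∑ t, l t * algebraMap (MvPowerSeries (Fin r) k) κ (MvPowerSeries.pderiv k t (f i)) :=
    fun i => hl (f i) ((hκ _).mpr (hf i))
  calc ∑ i, c i * δ (f i)
      = ∑ i, ∑ t, l t * (c i *
          algebraMap (MvPowerSeries (Fin r) k) κ (MvPowerSeries.pderiv k t (f i))) := by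
        refine Finset.sum_congr rfl fun i _ => ?_
        rw [hl', Finset.mul_sum]
        refine Finset.sum_congr rfl fun t _ => ?_
        ring
    _ = ∑ t, l t * ∑ i, c i *
          algebraMap (MvPowerSeries (Fin r) k) κ (MvPowerSeries.pderiv k t (f i)) := by
        rw [Finset.sum_comm]
        refine Finset.sum_congr rfl fun t _ => ?_
        rw [Finset.mul_sum]
    _ = 0 := by
        refine Finset.sum_eq_zero fun t _ => ?_
        rw [h (MvPowerSeries.pderiv k t), mul_zero]


/-- Nagata's Jacobian criterion for quotients of power series rings: let k be a field, A = k[[T_1, …,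
T_r]], q ⊆ p ideals of A with p prime, B = A/q. Suppose A/p contains a sub-k-algebra isomorphic to a
power series algebra k[[X_1, …, X_s]] over which A/p is finite and such that the fraction field L of
A/p is a separable extension of the fraction field L' of k[[X_1, …, X_s]]; here this is given as an
injective k-algebra map k[[X_1, …, X_s]] → A/p making A/p a finite module, with fraction fields L',
L and a compatible L'-algebra structure on L. Then the following are equivalent: B_p is formally
smooth over k for the adic topology of its maximal ideal; there are k-derivations D_1, …, D_m of A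
into itself and f_1, …, f_m ∈ q generating qA_p with det(D_i f_j) ∉ p; B_p is a regular local ring.
(The published statement remarks that the hypothesis on A/p always holds when k has characteristic
zero.) -/
theorem result {k : Type u} [Field k] (r : ℕ)
    (q p : Ideal (MvPowerSeries (Fin r) k)) [p.IsPrime] (hqp : q ≤ p) [(p.map (Ideal.Quotient.mk q)).IsPrime]
    (s : ℕ) [Algebra (MvPowerSeries (Fin s) k) (MvPowerSeries (Fin r) k ⧸ p)]
    [IsScalarTower k (MvPowerSeries (Fin s) k) (MvPowerSeries (Fin r) k ⧸ p)]
    [Module.Finite (MvPowerSeries (Fin s) k) (MvPowerSeries (Fin r) k ⧸ p)]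
    (hinj : Function.Injective (algebraMap (MvPowerSeries (Fin s) k) (MvPowerSeries (Fin r) k ⧸ p)))
    {L' L : Type u} [Field L'] [Field L]
    [Algebra (MvPowerSeries (Fin s) k) L'] [IsFractionRing (MvPowerSeries (Fin s) k) L']
    [Algebra (MvPowerSeries (Fin r) k ⧸ p) L] [IsFractionRing (MvPowerSeries (Fin r) k ⧸ p) L]
    [Algebra L' L] [Algebra (MvPowerSeries (Fin s) k) L]
    [IsScalarTower (MvPowerSeries (Fin s) k) (MvPowerSeries (Fin r) k ⧸ p) L]
    [IsScalarTower (MvPowerSeries (Fin s) k) L' L] [Algebra.IsSeparable L' L] :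
    [CAlgX.IsAdicFormallySmooth k (Localization.AtPrime (p.map (Ideal.Quotient.mk q)))
        (maximalIdeal (Localization.AtPrime (p.map (Ideal.Quotient.mk q)))),
     ∃ (m : ℕ) (D : Fin m → Derivation k (MvPowerSeries (Fin r) k) (MvPowerSeries (Fin r) k))
        (f : Fin m → MvPowerSeries (Fin r) k), (∀ i, f i ∈ q) ∧
        q.map (algebraMap (MvPowerSeries (Fin r) k) (Localization.AtPrime p)) =
          Ideal.span (Set.range fun i => algebraMap (MvPowerSeries (Fin r) k) (Localization.AtPrime p) (f i)) ∧
        Matrix.det (Matrix.of fun i j => D i (f j)) ∉ p,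
     IsRegularLocalRing (Localization.AtPrime (p.map (Ideal.Quotient.mk q)))].TFAE := by
  have hregA : IsRegularLocalRing (MvPowerSeries (Fin r) k) := CalgB.PowField.isRegularLocalRing k r
  exact K102.NagSep2.tfae q p (fs_powerSeries r) hqp
    (dense (L' := L') (L := L) r p s hinj (ResidueField (Localization.AtPrime p))
      (residue_eq_zero_iff' p _) (hfrac p _))

end Groth.Agent.S4612
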