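import Groth.Statements.S4613
import Groth.Agent.Pi1B.RestrictProp
import Mathlib.AlgebraicGeometry.Morphisms.FinitePresentation
import Mathlib.AlgebraicGeometry.Morphisms.ClosedImmersion

set_option autoImplicit false
universe u
open AlgebraicGeometry CategoryTheory
open EGA41

namespace Groth.Agent.S4613

/-- For a closed immersion j : X → Y: j is locally of finite presentation if and only if its ideal sheaf
is of finite type, i.e. for every affine open U of Y the kernel of Γ(U, O_Y) → Γ(j⁻¹U, O_X) is
finitely generated. (An immersion with image closed in an open U reduces to this case.) -/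
theorem result {X Y : Scheme.{u}} (j : X ⟶ Y)
    [IsClosedImmersion j] :
    LocallyOfFinitePresentation j ↔ ∀ U : Y.affineOpens, (RingHom.ker (j.app U).hom).FG := by
  have h2 : ∀ U : Y.Opens, IsAffineOpen U → Function.Surjective (j.app U).hom :=
    fun U hU => j.app_surjective U hU
  constructor
  · intro h U
    have hV : IsAffineOpen (j ⁻¹ᵁ U.1) := U.2.preimage j
    have h1 : (j.app U.1).hom.FinitePresentation := by
      rw [Scheme.Hom.app_eq_appLE]
      exact HasRingHomProperty.appLE @LocallyOfFinitePresentation j h U ⟨_, hV⟩ le_rfl
    have h3 := h2 U.1 U.2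
    algebraize [(j.app U.1).hom]
    exact Algebra.FinitePresentation.ker_fG_of_surjective
      (Algebra.ofId Γ(Y, U.1) Γ(X, j ⁻¹ᵁ U.1)) h3
  · intro h
    refine Groth.Agent.Pi1B.RestrictProp.of_app (P := @LocallyOfFinitePresentation) j ?_
    intro W hW
    exact RingHom.FinitePresentation.of_surjective _ (h2 W hW) (h ⟨W, hW⟩)

end Groth.Agent.S4613
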