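import Groth.Statements.S4614
import Groth.Agent.CAlg.K58.FinRed
import Groth.Agent.CAlg.K58.FinExt
import Mathlib.AlgebraicGeometry.Morphisms.UniversallyInjective
import Mathlib.LinearAlgebra.Basis.VectorSpace

set_option autoImplicit false
universe u
open TensorProduct AlgebraicGeometry
open CAlg

namespace Groth.Agent.S4614

section Aux

variable (A B K' : Type u) [CommRing A] [CommRing B] [Algebra A B] [Field K'] [Algebra A K']

/-- The reduction of `B ⊗ K'`. -/
abbrev D : Type u := (B ⊗[A] K') ⧸ nilradical (B ⊗[A] K')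

variable {A K'}

/-- The map `B ⊗ C → (B ⊗ K')_red`. -/
noncomputable def hmap (C : Subalgebra A K') : B ⊗[A] C →ₐ[B] D A B K' :=
  (Ideal.Quotient.mkₐ B (nilradical (B ⊗[A] K'))).comp
    (Algebra.TensorProduct.map (AlgHom.id B B) C.val)

theorem hmap_inclusion {C C' : Subalgebra A K'} (h : C ≤ C') (x : B ⊗[A] C) :
    hmap B C' (Algebra.TensorProduct.map (AlgHom.id B B) (Subalgebra.inclusion h) x) = hmap B C x := by
  induction x using TensorProduct.induction_on with
  | zero => simp
  | tmul b c => rfl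
  | add x y hx hy => rw [map_add, map_add, map_add, hx, hy]

theorem range_mono {C C' : Subalgebra A K'} (h : C ≤ C') : (hmap B C).range ≤ (hmap B C').range := by
  rintro _ ⟨x, rfl⟩
  exact ⟨_, hmap_inclusion B h x⟩

theorem isIntegral_hmap (C : Subalgebra A K') [Algebra.IsIntegral A C] (x : B ⊗[A] C) :
    IsIntegral B (hmap B C x) := by
  have : IsIntegral B x := Algebra.IsIntegral.isIntegral x
  exact this.map (hmap B C)

theorem isNilpotent_of_hmap_eq_zero [Module.Flat A B] (C : Subalgebra A K') (x : B ⊗[A] C)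
    (hx : hmap B C x = 0) : IsNilpotent x := by
  have h1 : IsNilpotent (Algebra.TensorProduct.map (AlgHom.id B B) C.val x) := by
    rw [← mem_nilradical, ← Ideal.Quotient.eq_zero_iff_mem]
    exact hx
  have hinj : Function.Injective (Algebra.TensorProduct.map (AlgHom.id B B) C.val) := by
    have : Function.Injective (C.val.toLinearMap.lTensor B) :=
      Module.Flat.lTensor_preserves_injective_linearMap _ Subtype.val_injective
    exact this
  obtain ⟨n, hn⟩ := h1
  exact ⟨n, hinj (by rw [map_pow, hn, map_zero])⟩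

theorem hmap_eq_zero_of_isNilpotent (C : Subalgebra A K') (x : B ⊗[A] C)
    (hx : IsNilpotent x) : hmap B C x = 0 := by
  have : IsNilpotent (hmap B C x) := hx.map (hmap B C)
  have hred : IsReduced (D A B K') := by
    rw [← Ideal.isRadical_iff_quotient_reduced]
    exact Ideal.radical_isRadical _
  exact this.eq_zero

end Aux

/-- Let A be a domain with fraction field K, B a Noetherian flat A-algebra with B/q Japanese for every
minimal prime q, K' a finite extension of K, and consider the sub-A-algebras C of K' finite over A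
with fraction field K' (a filtered family with union the integral closure A' of A in K'). (i) Some
member C_α is such that for every member C ⊇ C_α the map (C_α ⊗_A B)_red → (C ⊗_A B)_red is
bijective. (ii) If B is faithfully flat over A then Spec A' → Spec C_α is radicial. -/
theorem result {A B K' : Type u} [CommRing A]
    [IsDomain A] [CommRing B] [Algebra A B] [IsNoetherianRing B] [Module.Flat A B]
    (hJ : ∀ (q : Ideal B) [q.IsPrime], q ∈ minimalPrimes B → CAlg.IsN2 (B ⧸ q))
    [Field K'] [Algebra A K'] [Algebra (FractionRing A) K'] [IsScalarTower A (FractionRing A) K']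
    [FiniteDimensional (FractionRing A) K'] :
    let P : Subalgebra A K' → Prop := fun C : Subalgebra A K' => Module.Finite A C ∧ ∀ x : K', ∃ a b : C, (b : K') ≠ 0 ∧ x * b = a
    ∃ Cα : Subalgebra A K', P Cα ∧
      (∀ C : Subalgebra A K', P C → ∀ hle : Cα ≤ C,
        (∀ x : ↥Cα ⊗[A] B, IsNilpotent (Algebra.TensorProduct.map (Subalgebra.inclusion hle) (AlgHom.id A B) x) →
          IsNilpotent x) ∧
        (∀ y : ↥C ⊗[A] B, ∃ x : ↥Cα ⊗[A] B,
          IsNilpotent (Algebra.TensorProduct.map (Subalgebra.inclusion hle) (AlgHom.id A B) x - y))) ∧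
      (Module.FaithfullyFlat A B → ∀ hint : Cα ≤ integralClosure A K',
        UniversallyInjective (Spec.map (CommRingCat.ofHom (Subalgebra.inclusion hint).toRingHom))) := by
  intro P
  classical
  have hflatK : Module.Flat A K' := Module.Flat.trans A (FractionRing A) K'
  have hinjK : Function.Injective (algebraMap A K') := by
    rw [IsScalarTower.algebraMap_eq A (FractionRing A) K']
    exact (algebraMap (FractionRing A) K').injective.comp (IsFractionRing.injective A (FractionRing A))
  obtain ⟨σ, hσ, hL⟩ := K58.FinExt.exists_finset A (FractionRing A) K'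
  have hL' : ∀ l : K', ∃ t ∈ Algebra.adjoin A (σ : Set K'), IsUnit t ∧
      l * t ∈ Algebra.adjoin A (σ : Set K') := by
    intro l
    obtain ⟨r, hr, hrl⟩ := hL l
    refine ⟨algebraMap A K' r, Subalgebra.algebraMap_mem _ _, ?_, ?_⟩
    · rw [isUnit_iff_ne_zero]
      exact (map_ne_zero_iff _ hinjK).2 hr
    · rw [mul_comm]
      exact hrl
  have hE : Module.Finite B (integralClosure B (D A B K')) :=
    K58.FinRed.finite_integralClosure_red A B hJ K' σ hσ hL'
  have hEN : IsNoetherian B (integralClosure B (D A B K')) := isNoetherian_of_isNoetherianRing_of_finite B _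
  -- a member
  let C₀ : Subalgebra A K' := Algebra.adjoin A (σ : Set K')
  have hC₀fin : Module.Finite A C₀ :=
    ⟨(Submodule.fg_top _).2 (fg_adjoin_of_finite (Finset.finite_toSet σ) fun y hy ↦ hσ y hy)⟩
  have hPC₀ : P C₀ := by
    refine ⟨hC₀fin, fun x ↦ ?_⟩
    obtain ⟨t, ht, htu, hxt⟩ := hL' x
    exact ⟨⟨_, hxt⟩, ⟨t, ht⟩, htu.ne_zero, rfl⟩
  have hPsup : ∀ C C' : Subalgebra A K', P C → Module.Finite A C' → C ≤ C' → P C' := by
    intro C C' hC hC' hle
    refine ⟨hC', fun x ↦ ?_⟩
    obtain ⟨a, b, hb, hab⟩ := hC.2 x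
    exact ⟨⟨a, hle a.2⟩, ⟨b, hle b.2⟩, hb, hab⟩
  have hrange : ∀ C : Subalgebra A K', P C → (hmap B C).range ≤ integralClosure B (D A B K') := by
    rintro C hC _ ⟨x, rfl⟩
    have := hC.1
    exact isIntegral_hmap B C x
  let N : Subalgebra A K' → Submodule B (integralClosure B (D A B K')) := fun C ↦
    (Subalgebra.toSubmodule (hmap B C).range).comap (integralClosure B (D A B K')).val.toLinearMap
  let S : Set (Submodule B (integralClosure B (D A B K'))) := {M | ∃ C, P C ∧ M = N C}
  obtain ⟨M, ⟨Cα, hCα, rfl⟩, hmax⟩ := set_has_maximal_iff_noetherian.2 hEN S ⟨N C₀, C₀, hPC₀, rfl⟩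
  have hstab : ∀ C : Subalgebra A K', P C → Cα ≤ C → (hmap B C).range ≤ (hmap B Cα).range := by
    intro C hC hle
    have h1 : N Cα ≤ N C := Submodule.comap_mono (range_mono B hle)
    have h2 : N Cα = N C := by
      by_contra hne
      exact hmax _ ⟨C, hC, rfl⟩ (lt_of_le_of_ne h1 hne)
    intro x hx
    have h3 : (⟨x, hrange C hC hx⟩ : integralClosure B (D A B K')) ∈ N C := hx
    rw [← h2] at h3
    exact h3
  have hnilB : ∀ (C : Subalgebra A K') (x : C ⊗[A] B),
      IsNilpotent (Algebra.TensorProduct.comm A C B x) ↔ IsNilpotent x := fun C x ↦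
    IsNilpotent.map_iff (Algebra.TensorProduct.comm A C B).injective
  have hcomm : ∀ {C C' : Subalgebra A K'} (hle : C ≤ C') (x : C ⊗[A] B),
      Algebra.TensorProduct.comm A C' B
        (Algebra.TensorProduct.map (Subalgebra.inclusion hle) (AlgHom.id A B) x) =
      Algebra.TensorProduct.map (AlgHom.id B B) (Subalgebra.inclusion hle)
        (Algebra.TensorProduct.comm A C B x) := by
    intro C C' hle x
    induction x using TensorProduct.induction_on with
    | zero => simp
    | tmul b c => rfl
    | add x y hx hy => simp only [map_add, hx, hy]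
  have hsurj : ∀ C : Subalgebra A K', P C → ∀ hle : Cα ≤ C, ∀ y : ↥C ⊗[A] B, ∃ x : ↥Cα ⊗[A] B,
      IsNilpotent (Algebra.TensorProduct.map (Subalgebra.inclusion hle) (AlgHom.id A B) x - y) := by
    intro C hC hle y
    obtain ⟨x', hx'⟩ := hstab C hC hle ⟨Algebra.TensorProduct.comm A C B y, rfl⟩
    refine ⟨(Algebra.TensorProduct.comm A Cα B).symm x', ?_⟩
    rw [← hnilB C]
    apply isNilpotent_of_hmap_eq_zero B C
    rw [map_sub, hcomm hle, AlgEquiv.apply_symm_apply, map_sub, hmap_inclusion, sub_eq_zero]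
    exact hx'
  refine ⟨Cα, hCα, ?_, ?_⟩
  · intro C hC hle
    refine ⟨?_, hsurj C hC hle⟩
    intro x hx
    rw [← hnilB C, hcomm hle] at hx
    rw [← hnilB Cα]
    apply isNilpotent_of_hmap_eq_zero B Cα
    rw [← hmap_inclusion B hle]
    exact hmap_eq_zero_of_isNilpotent B C _ hx
  · intro hff hint
    refine ((tfae_universallyInjective _).out 0 1 :).2 ?_
    intro F _ g₁ g₂ hg
    obtain ⟨φ₁, rfl⟩ := Spec.map_surjective g₁
    obtain ⟨φ₂, rfl⟩ := Spec.map_surjective g₂
    congr 1
    simp only [← Spec.map_comp] at hg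
    have hg' := Spec.map_injective hg
    have hg2 : ∀ c : Cα, φ₁.hom (Subalgebra.inclusion hint c) = φ₂.hom (Subalgebra.inclusion hint c) := by
      intro c
      exact congrArg (fun f : CommRingCat.of Cα ⟶ CommRingCat.of F ↦ f.hom c) hg'
    apply CommRingCat.hom_ext
    ext a
    -- `F` as an `A`-algebra
    let f₁ : integralClosure A K' →+* F := φ₁.hom
    let f₂ : integralClosure A K' →+* F := φ₂.hom
    change f₁ a = f₂ a
    let _ : Algebra A F := (f₁.comp (algebraMap A (integralClosure A K'))).toAlgebra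
    let F₁ : integralClosure A K' →ₐ[A] F := { f₁ with commutes' := fun r ↦ rfl }
    let F₂ : integralClosure A K' →ₐ[A] F := { f₂ with commutes' := fun r ↦ (hg2 (algebraMap A Cα r)).symm }
    have hnt : Nontrivial (F ⊗[A] B) := inferInstance
    obtain ⟨m, hm⟩ := Ideal.exists_maximal (F ⊗[A] B)
    let F' := (F ⊗[A] B) ⧸ m
    let _ : Field F' := Ideal.Quotient.field m
    let ι : F →ₐ[A] F' := (Ideal.Quotient.mkₐ A m).comp Algebra.TensorProduct.includeLeft
    let β : B →ₐ[A] F' := (Ideal.Quotient.mkₐ A m).comp Algebra.TensorProduct.includeRight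
    let C : Subalgebra A K' := Cα ⊔ Algebra.adjoin A {(a : K')}
    have haC : (a : K') ∈ C := (le_sup_right : _ ≤ C) (Algebra.self_mem_adjoin_singleton A (a : K'))
    have hle : Cα ≤ C := le_sup_left
    have hfin1 : Module.Finite A Cα := hCα.1
    have hfin2 : Module.Finite A (Algebra.adjoin A {(a : K')}) :=
      Algebra.finite_adjoin_simple_of_isIntegral a.2
    have hCfin : Module.Finite A C := Subalgebra.finite_sup _ _
    have hPC : P C := hPsup Cα C hCα hCfin hle
    have hCint : C ≤ integralClosure A K' := by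
      intro c hc
      exact (Algebra.IsIntegral.isIntegral (R := A) (⟨c, hc⟩ : C)).map C.val
    let ψ : (integralClosure A K' →ₐ[A] F) → (C ⊗[A] B →ₐ[A] F') := fun G ↦
      Algebra.TensorProduct.productMap (ι.comp (G.comp (Subalgebra.inclusion hCint))) β
    have hψ : ∀ x : Cα ⊗[A] B, ψ F₁ (Algebra.TensorProduct.map (Subalgebra.inclusion hle) (AlgHom.id A B) x) =
        ψ F₂ (Algebra.TensorProduct.map (Subalgebra.inclusion hle) (AlgHom.id A B) x) := by
      intro x
      induction x using TensorProduct.induction_on with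
      | zero => simp
      | tmul c b =>
        exact congrArg (fun t ↦ ι t * β b) (hg2 c)
      | add x y hx hy => simp only [map_add, hx, hy]
    obtain ⟨x, hx⟩ := hsurj C hPC hle ((⟨a, haC⟩ : C) ⊗ₜ[A] (1 : B))
    have hψn : ∀ G, ψ G (Algebra.TensorProduct.map (Subalgebra.inclusion hle) (AlgHom.id A B) x) =
        ψ G ((⟨a, haC⟩ : C) ⊗ₜ[A] (1 : B)) := by
      intro G
      have h1 : IsNilpotent (ψ G (Algebra.TensorProduct.map (Subalgebra.inclusion hle) (AlgHom.id A B) x -
        ((⟨a, haC⟩ : C) ⊗ₜ[A] (1 : B)))) := hx.map (ψ G)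
      have h2 := h1.eq_zero
      rw [map_sub, sub_eq_zero] at h2
      exact h2
    have h3 : ψ F₁ ((⟨a, haC⟩ : C) ⊗ₜ[A] (1 : B)) = ψ F₂ ((⟨a, haC⟩ : C) ⊗ₜ[A] (1 : B)) := by
      rw [← hψn, ← hψn, hψ]
    have h4 : ι (f₁ a) * β 1 = ι (f₂ a) * β 1 := h3
    rw [map_one, mul_one, mul_one] at h4
    exact (ι : F →+* F').injective h4

end Groth.Agent.S4614
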