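import Groth.Statements.S4623
import Groth.Agent.FBase.K106.Basic

set_option autoImplicit false
open CategoryTheory AlgebraicGeometry
universe u
open FBase

namespace Groth.Agent.S4623

/-- Let h : X → Y be a surjective morphism of schemes over a field k. If X is geometrically irreducible
over k, then Y is geometrically irreducible over k. -/
theorem result {k : Type u} [Field k] {X Y : Scheme.{u}}
    (f : X ⟶ Spec (CommRingCat.of k)) (g : Y ⟶ Spec (CommRingCat.of k)) (h : X ⟶ Y) (w : h ≫ g = f)
    [Surjective h] [GeometricallyIrreducible f] : GeometricallyIrreducible g := by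
  refine ⟨geometrically_iff_of_commRing_of_isClosedUnderIsomorphisms.mpr fun K _ _ => ?_⟩
  subst w
  have : IrreducibleSpace ↥(Limits.pullback (h ≫ g)
      (Spec.map (CommRingCat.ofHom (algebraMap k K)))) :=
    pullback_of_geometrically (P := (IrreducibleSpace ·))
      (GeometricallyIrreducible.geometrically_irreducibleSpace (f := h ≫ g)) K _
  exact Groth.Agent.VarietyA.GeomIrr.irreducibleSpace_of_surjective (K106.Basic.bcHom h g _)

end Groth.Agent.S4623
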