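import Groth.Statements.S4630
import Groth.Agent.FBase.K106.CommonPt
import Groth.Agent.Fdesc.DomainLocus

set_option autoImplicit false
open CategoryTheory AlgebraicGeometry
universe u
open FBase

namespace Groth.Agent.S4630

open Groth.Agent.VarietyA.GeomIrr Groth.Agent.Fdesc.BcMaps in
theorem isDomain_of_iso {k K L : Type u} [Field k] [Field K] [Algebra k K] [Field L] [Algebra K L]
    [Algebra k L] [IsScalarTower k K L] {X : Scheme.{u}} (f : X ⟶ Spec (CommRingCat.of k))
    (z : ↥(FBase.bc (FBase.bcStr f K) L))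
    (h : IsDomain ((FBase.bc f L).presheaf.stalk ((bcIso k K L f).hom z))) :
    IsDomain ((FBase.bc (FBase.bcStr f K) L).presheaf.stalk z) := by
  have h2 : (bcIso k K L f).inv ((bcIso k K L f).hom z) = z := by
    rw [← Scheme.Hom.comp_apply, Iso.hom_inv_id]
    rfl
  rw [← h2]
  exact Groth.Agent.Fdesc.DomainLocus.isDomain_stalk_of_flat (bcIso k K L f).inv _ h

/-- Let X be a scheme over a field k, k' an extension field of k, and x' a point of X' = X ⊗_k k' lying
over the point x of X. Then X is geometrically pointwise integral at x over k if and only if X' is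
geometrically pointwise integral at x' over k'. -/
theorem result {k K : Type u} [Field k] [Field K] [Algebra k K]
    {X : Scheme.{u}} (f : X ⟶ Spec (CommRingCat.of k)) (x' : ↥(FBase.bc f K)) :
    FBase.IsGeomPtIntegralAt f ((FBase.bcπ f K) x') ↔ FBase.IsGeomPtIntegralAt (FBase.bcStr f K) x' := by
  refine ⟨fun H L _ _ x'' hx'' => ?_, fun H L _ _ x₁ hx₁ => ?_⟩
  · let _ : Algebra k L := ((algebraMap K L).comp (algebraMap k K)).toAlgebra
    have : IsScalarTower k K L := IsScalarTower.of_algebraMap_eq fun x => rfl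
    refine isDomain_of_iso f x'' (H L _ ?_)
    have h1 := Groth.Agent.Fdesc.BcMaps.bcIso_hom_fst k K L f
    have h2 := congr($(h1) x'')
    rw [Scheme.Hom.comp_apply, Scheme.Hom.comp_apply] at h2
    refine h2.trans ?_
    exact congrArg _ hx''
  · obtain ⟨M, _, _, _, _, _, _, z, hz1, hz2⟩ :=
      K106.CommonPt.exists_common_point f K L x' x₁ hx₁.symm
    let e := Groth.Agent.VarietyA.GeomIrr.bcIso k K M f
    have h1 : IsDomain ((FBase.bc (FBase.bcStr f K) M).presheaf.stalk (e.inv z)) :=
      H M (e.inv z) hz1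
    have h2 := Groth.Agent.Fdesc.DomainLocus.isDomain_stalk_of_flat e.hom (e.inv z) h1
    have h3 : e.hom (e.inv z) = z := by
      rw [← Scheme.Hom.comp_apply, Iso.inv_hom_id]
      rfl
    rw [h3] at h2
    rw [← hz2]
    exact Groth.Agent.Fdesc.DomainLocus.isDomain_stalk_of_flat
      (Groth.Agent.VarietyA.GeomIrr.bcMap k L M f) z h2

end Groth.Agent.S4630
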