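import Groth.Statements.S4631
import Groth.Agent.S2530

set_option autoImplicit false
open CategoryTheory AlgebraicGeometry
universe u
open FBase

namespace Groth.Agent.S4631

/-- Let X be a scheme over an algebraically closed field k and x a point of X. Then X is geometrically
pointwise integral at x over k if and only if the local ring of X at x is a domain. -/
theorem result {k : Type u} [Field k] [IsAlgClosed k] {X : Scheme.{u}}
    (f : X ⟶ Spec (CommRingCat.of k)) (x : X) :
    FBase.IsGeomPtIntegralAt f x ↔ IsDomain ↑(X.presheaf.stalk x) := by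
  rw [Groth.Agent.S2530.isGeomPtIntegralAt_iff f k x]
  have hid : Spec.map (CommRingCat.ofHom (algebraMap k k)) = 𝟙 _ := by
    have : CommRingCat.ofHom (algebraMap k k) = 𝟙 _ := rfl
    rw [this, Spec.map_id]
  have hiso : IsIso (FBase.bcπ f k) := by
    have : IsIso (Spec.map (CommRingCat.ofHom (algebraMap k k))) := by
      rw [hid]; infer_instance
    exact inferInstanceAs (IsIso (Limits.pullback.fst f
      (Spec.map (CommRingCat.ofHom (algebraMap k k)))))
  constructor
  · intro h
    obtain ⟨z, rfl⟩ := (FBase.bcπ f k).surjective x
    exact Groth.Agent.Fdesc.DomainLocus.isDomain_stalk_of_flat (FBase.bcπ f k) z (h z rfl)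
  · intro h z hz
    have h1 : inv (FBase.bcπ f k) x = z := by
      rw [← hz]
      change inv (FBase.bcπ f k) ((FBase.bcπ f k) z) = z
      rw [← Scheme.Hom.comp_apply, IsIso.hom_inv_id]
      rfl
    rw [← h1]
    exact Groth.Agent.Fdesc.DomainLocus.isDomain_stalk_of_flat (inv (FBase.bcπ f k)) x h

end Groth.Agent.S4631
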