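import Groth.Statements.S4632
import Groth.Agent.S2494

set_option autoImplicit false
open CategoryTheory AlgebraicGeometry
universe u
open FDesc

namespace Groth.Agent.S4632

open CategoryTheory.Limits in
/-- Let f : X → Y be a quasi-compact dominant morphism and g : Y' → Y a quasi-flat morphism (for
instance a flat one). Then the base change X ×_Y Y' → Y' is dominant. -/
theorem result {X Y Y' : Scheme.{u}} (f : X ⟶ Y) (g : Y' ⟶ Y)
    [QuasiCompact f] [IsDominant f] (hg : FDesc.IsQuasiFlat g) : IsDominant (pullback.snd f g) := by
  have h := Groth.Agent.S2494.result g hg f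
  constructor
  have h1 : closure (Set.range f.base) = Set.univ := f.denseRange.closure_range
  rw [h1, Set.preimage_univ] at h
  rw [DenseRange, dense_iff_closure_eq]
  have h2 : Set.range (pullback.snd f g) = g.base ⁻¹' Set.range f.base := by
    exact Scheme.Pullback.range_snd f g
  rw [h2]
  exact h.symm

end Groth.Agent.S4632
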