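import Groth.Statements.S4633
import Groth.Agent.Fdesc.GenTop
import Groth.Agent.S3429
import Groth.Agent.FDesc.K108.TopDesc

set_option autoImplicit false
open CategoryTheory AlgebraicGeometry
universe u
open FDesc

namespace Groth.Agent.S4633

open CategoryTheory.Limits in
/-- Let f : X → Y be a morphism such that every irreducible component of X dominates an irreducible
component of Y (the closure of its image under f is an irreducible component of Y), and let g : Y' →
Y be quasi-flat (for instance flat). Then every irreducible component of X ×_Y Y' dominates an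
irreducible component of Y'. -/
theorem result {X Y Y' : Scheme.{u}} (f : X ⟶ Y) (g : Y' ⟶ Y)
    (hf : ∀ Z ∈ irreducibleComponents ↥X, closure (⇑f '' Z) ∈ irreducibleComponents ↥Y)
    (hg : FDesc.IsQuasiFlat g) (Z' : Set ↥(pullback f g)) (hZ' : Z' ∈ irreducibleComponents ↥(pullback f g)) :
    closure (⇑(pullback.snd f g) '' Z') ∈ irreducibleComponents ↥Y' := by
  obtain ⟨z, hz, rfl⟩ := Groth.Agent.Fdesc.GenTop.exists_genericPoints_of_component hZ'
  rw [closure_image_closure (pullback.snd f g).continuous, Set.image_singleton]
  have H := (IsPullback.of_hasPullback f g)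
  have h1 : GeneralizingMap (pullback.fst f g) :=
    Groth.Agent.S3429.generalizingMap_of_isPullback H.flip hg
  have h2 := Groth.Agent.Fdesc.GenTop.map_mem_genericPoints h1 hz
  have h3 := hf _ h2
  rw [closure_image_closure f.continuous, Set.image_singleton] at h3
  refine K108.TopDesc.snd_mem_genericPoints H hz ?_
  show closure {g _} ∈ irreducibleComponents Y
  rw [← Scheme.Hom.comp_apply, ← pullback.condition, Scheme.Hom.comp_apply]
  exact h3

end Groth.Agent.S4633
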