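import Groth.Statements.S4635
import Groth.Agent.FBase.K106.NoEmb
import Groth.Agent.FBase.K106.ProdChart

set_option autoImplicit false
open CategoryTheory AlgebraicGeometry
universe u
open FBase

namespace Groth.Agent.S4635

open CategoryTheory.Limits in
/-- Let X and Y be integral locally Noetherian schemes over a field k such that X ×_k Y is locally
Noetherian. Then the structure sheaf of X ×_k Y has no embedded associated points. -/
theorem result {k : Type u} [Field k] {X Y : Scheme.{u}}
    (f : X ⟶ Spec (CommRingCat.of k)) (g : Y ⟶ Spec (CommRingCat.of k)) [IsIntegral X] [IsIntegral Y]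
    [IsLocallyNoetherian X] [IsLocallyNoetherian Y] [IsLocallyNoetherian (pullback f g)] :
    AssSch.NoEmbedded (Coh.structureModule (pullback f g)) := by
  refine K106.NoEmb.noEmbedded_of_forall_chart fun z => ?_
  obtain ⟨A, B, _, _, _, _, j, j', hj, hj', t, ht, -, -, h1, h2, hz⟩ :=
    K106.ProdChart.exists_chart_mem f g z
  refine ⟨_, inferInstance, t, ht, hz, ?_⟩
  obtain ⟨w, -⟩ := hz
  have hA : Nonempty (Spec (CommRingCat.of A)) := ⟨Spec.map (CommRingCat.ofHom
    (Algebra.TensorProduct.includeLeftRingHom : A →+* TensorProduct k A B)) w⟩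
  have hB : Nonempty (Spec (CommRingCat.of B)) := ⟨Spec.map (CommRingCat.ofHom
    (Algebra.TensorProduct.includeRight : B →ₐ[k] TensorProduct k A B).toRingHom) w⟩
  have hA1 : IsIntegral (Spec (CommRingCat.of A)) := isIntegral_of_isOpenImmersion j
  have hB1 : IsIntegral (Spec (CommRingCat.of B)) := isIntegral_of_isOpenImmersion j'
  have hA2 : IsDomain A := (affine_isIntegral_iff (CommRingCat.of A)).mp hA1
  have hB2 : IsDomain B := (affine_isIntegral_iff (CommRingCat.of B)).mp hB1
  exact K106.AssTensor.associatedPrimes_tensor_domains_subset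

end Groth.Agent.S4635
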