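import Groth.Statements.S4637
import Groth.Agent.AssSch.K109.Local
import Groth.Agent.S3406

set_option autoImplicit false
open CategoryTheory AlgebraicGeometry
universe u
open AssSch

namespace Groth.Agent.S4637

open K109.Local Groth.Agent.CycB.LocQuot

/-- Let X be a locally Noetherian scheme, F a coherent O_X-module and x a point of X. Then x is the
generic point of an irreducible component of Supp F (F_x ≠ 0 and every point y with F_y ≠ 0 that
specialises to x equals x) if and only if F_x is a nonzero module of finite length over the local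
ring O_{X,x}. -/
theorem result {X : Scheme.{u}} [IsLocallyNoetherian X] (F : X.Modules)
    (hF : Coh.IsCoh F) (x : X) :
    (Nontrivial ↑(F.presheaf.stalk x) ∧ ∀ y : X, Nontrivial ↑(F.presheaf.stalk y) → y ⤳ x → y = x) ↔
      (Nontrivial ↑(F.presheaf.stalk x) ∧ IsFiniteLength ↑(X.presheaf.stalk x) ↑(F.presheaf.stalk x)) := by
  refine and_congr_right fun hx => ?_
  have := Groth.Agent.CycB.StalkLoc.finite_stalk F hF x
  constructor
  · intro h
    apply S3406.isFiniteLength_of_supportDim_le_zero
    rw [Module.supportDim, Order.krullDim_nonpos_iff_forall_isMax]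
    rintro ⟨p, hp⟩ ⟨q, hq⟩ (hpq : p ≤ q)
    have hp' : p = IsLocalRing.closedPoint (X.presheaf.stalk x) := by
      have h1 := h (ptOf p) ((nontrivial_iff F hF.1 (ptOf_specializes p)).mpr
        (by rw [primeOf_ptOf]; exact hp)) (ptOf_specializes p)
      apply ptOf_injective x
      rw [h1, ← primeOf_refl, ptOf_primeOf]
    change q ≤ p
    rw [hp']
    exact IsLocalRing.le_maximalIdeal q.isPrime.ne_top
  · intro h y hy hyx
    rw [nontrivial_iff F hF.1 hyx] at hy
    have h1 := S3406.isMaximal_of_mem_support h _ hy
    have h2 : primeOf hyx = primeOf (specializes_refl x) := by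
      rw [primeOf_refl]
      exact PrimeSpectrum.ext (IsLocalRing.eq_maximalIdeal h1)
    exact (primeOf_inj _ _).mp h2


end Groth.Agent.S4637
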