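import Groth.Statements.S4638
import Groth.Agent.AssSch.K109.Local
import Mathlib.RingTheory.Regular.IsSMulRegular

set_option autoImplicit false
open CategoryTheory AlgebraicGeometry
universe u
open AssSch

namespace Groth.Agent.S4638

open K109.Local Groth.Agent.CycB.LocQuot

/-- Let X be a locally Noetherian scheme, F a quasi-coherent O_X-module and f a global section of O_X.
Then f is F-regular, i.e. multiplication by the germ of f is injective on every stalk of F, if and
only if every associated point of F lies in the open subset X_f where f does not vanish. -/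
theorem result {X : Scheme.{u}} [IsLocallyNoetherian X] (F : X.Modules)
    (hF : Coh.IsQCoh F) (f : Γ(X, ⊤)) :
    (∀ x : X, IsSMulRegular ↑(F.presheaf.stalk x) (X.presheaf.germ ⊤ x trivial f)) ↔
      AssSch.Ass F ⊆ (X.basicOpen f : Set ↥X) := by
  constructor
  · intro h x hx
    change x ∈ X.basicOpen f
    rw [X.mem_basicOpen f x trivial]
    by_contra hf
    have hx' : IsLocalRing.maximalIdeal (X.presheaf.stalk x) ∈
      associatedPrimes (X.presheaf.stalk x) (F.presheaf.stalk x) := hx
    have h1 := Set.mem_biUnion hx' ((IsLocalRing.mem_maximalIdeal _).mpr hf)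
    rw [biUnion_associatedPrimes_eq_compl_regular] at h1
    exact h1 (h x)
  · intro h x
    by_contra hf
    have h1 : X.presheaf.germ ⊤ x trivial f ∈
      {r : X.presheaf.stalk x | IsSMulRegular (F.presheaf.stalk x) r}ᶜ := hf
    rw [← biUnion_associatedPrimes_eq_compl_regular] at h1
    simp only [Set.mem_iUnion, exists_prop] at h1
    obtain ⟨P, hP, hfP⟩ := h1
    let p : PrimeSpectrum (X.presheaf.stalk x) := ⟨P, hP.isPrime⟩
    have h2 : ptOf p ∈ X.basicOpen f := h ((mem_ass_ptOf_iff F hF p).mpr hP)
    rw [X.mem_basicOpen f _ trivial] at h2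
    have h3 : X.presheaf.germ ⊤ x trivial f ∈ (primeOf (ptOf_specializes p)).asIdeal := by
      rw [primeOf_ptOf]; exact hfP
    rw [← comap_maximalIdeal_eq, Ideal.mem_comap, IsLocalRing.mem_maximalIdeal] at h3
    apply h3
    have h4 := Groth.Agent.CycB.StalkLoc.ring_germ_stalkSpecializes (ptOf_specializes p) ⊤ trivial f
    exact h4.symm ▸ h2


end Groth.Agent.S4638
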