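import Groth.Statements.S4639
import Groth.Agent.S2488

set_option autoImplicit false
open CategoryTheory AlgebraicGeometry
universe u
open FDesc

namespace Groth.Agent.S4639

/-- The property of being quasi-compact and universally bicontinuous (every base change is a
homeomorphism onto its image) descends along a surjective, flat and quasi-compact base change. -/
theorem result :
    MorphismProperty.DescendsAlong
      (MorphismProperty.universally (topologically (fun f => Topology.IsEmbedding f)) ⊓ @QuasiCompact : MorphismProperty Scheme.{u})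
      (@Surjective ⊓ @Flat ⊓ @QuasiCompact : MorphismProperty Scheme.{u}) := by
  refine ⟨fun {A X Y Z fst snd f g} h hf hfst => ?_⟩
  have hD := Groth.Agent.S2488.result.{u}
  have hqc : QuasiCompact g := (hD.of_isPullback h hf
    ⟨MorphismProperty.universally_le _ _ hfst.1, hfst.2⟩).2
  refine ⟨fun X' T i₁ i₂ f' H1 => ?_, hqc⟩
  have H2 := IsPullback.of_hasPullback (Limits.pullback.snd f i₂) f'
  have H3 := H2.paste_vert H1
  rw [← Limits.pullback.condition] at H3
  have H4 := H3.of_bot' h
  have hfst' : QuasiCompact fst := hfst.2
  have h5 : (topologically (fun f => Topology.IsEmbedding f)) (Limits.pullback.fst (Limits.pullback.snd f i₂) f') :=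
    hfst.1 _ _ _ H4
  have h6 : QuasiCompact (Limits.pullback.fst (Limits.pullback.snd f i₂) f') :=
    MorphismProperty.of_isPullback (P := @QuasiCompact) H4.flip hfst'
  obtain ⟨⟨_, _⟩, _⟩ := hf
  have h7 : (@Surjective ⊓ @Flat ⊓ @QuasiCompact : MorphismProperty Scheme.{u}) (Limits.pullback.snd f i₂) :=
    ⟨⟨inferInstance, inferInstance⟩, inferInstance⟩
  exact (hD.of_isPullback H2 h7 ⟨h5, h6⟩).1

end Groth.Agent.S4639
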