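import Groth.Statements.S4640
import Mathlib.RingTheory.Flat.TorsionFree
import Mathlib.Algebra.Module.LocalizedModule.Basic
import Mathlib.RingTheory.Localization.BaseChange

set_option autoImplicit false
universe u
open FDesc

namespace Groth.Agent.S4640

open TensorProduct in
/-- Let A be a Dedekind domain with fraction field K, M an A-module and P' a K-submodule of K ⊗_A M. Let
φ : M → (K ⊗_A M)/P' be m ↦ class of 1 ⊗ m. Then a submodule Q of M equals ker φ if and only if M/Q
is a flat A-module and the kernel of the induced surjection K ⊗_A M → K ⊗_A (M/Q) is P'. Thus M/ker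
φ is the unique flat quotient of M with generic fibre (K ⊗_A M)/P'. (The published statement takes A
Noetherian, regular and of dimension 1; a field is allowed here, where the statement is immediate.) -/
theorem result {A K : Type u} [CommRing A] [IsDedekindDomain A] [Field K]
    [Algebra A K] [IsFractionRing A K] {M : Type u} [AddCommGroup M] [Module A M]
    (P' : Submodule K (K ⊗[A] M)) (Q : Submodule A M) :
    Q = LinearMap.ker ((P'.restrictScalars A).mkQ ∘ₗ TensorProduct.mk A K M 1) ↔
      (Module.Flat A (M ⧸ Q) ∧ LinearMap.ker (Q.mkQ.baseChange K) = P') := by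
  have hmem : ∀ m : M, m ∈ LinearMap.ker ((P'.restrictScalars A).mkQ ∘ₗ TensorProduct.mk A K M 1) ↔
      (1 : K) ⊗ₜ[A] m ∈ P' := by
    intro m
    rw [LinearMap.mem_ker, LinearMap.comp_apply, Submodule.mkQ_apply, Submodule.Quotient.mk_eq_zero]
    rfl
  have hsm : ∀ (a : A) (x : K ⊗[A] M), a ≠ 0 → a • x ∈ P' → x ∈ P' := by
    intro a x ha hx
    have h1 : algebraMap A K a ≠ 0 := by
      rwa [Ne, IsFractionRing.to_map_eq_zero_iff]
    rw [← algebraMap_smul K a x] at hx
    exact (P'.smul_mem_iff h1).mp hx
  constructor
  · intro hQ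
    have hQm : ∀ m : M, m ∈ Q ↔ (1 : K) ⊗ₜ[A] m ∈ P' := fun m => by rw [← hmem m, ← hQ]
    refine ⟨?_, ?_⟩
    · rw [IsDedekindDomain.flat_iff_torsion_eq_bot, eq_bot_iff]
      intro x hx
      obtain ⟨m, rfl⟩ := Q.mkQ_surjective x
      obtain ⟨a, ha⟩ := (Submodule.mem_torsion_iff _).mp hx
      rw [Submodule.mem_bot, Submodule.mkQ_apply, Submodule.Quotient.mk_eq_zero, hQm]
      have h1 : (a : A) • m ∈ Q := by
        rw [← Submodule.Quotient.mk_eq_zero]
        exact ha
      rw [hQm, TensorProduct.tmul_smul] at h1
      exact hsm a _ (nonZeroDivisors.ne_zero a.2) h1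
    · have hloc : IsLocalizedModule (nonZeroDivisors A) (TensorProduct.mk A K M 1) :=
        (isLocalizedModule_iff_isBaseChange (nonZeroDivisors A) K _).mpr
          (TensorProduct.isBaseChange A M K)
      apply le_antisymm
      · intro x hx
        have hex := (lTensor_exact K (LinearMap.exact_subtype_mkQ Q) Q.mkQ_surjective)
        obtain ⟨y, rfl⟩ := (hex x).mp hx
        clear hx
        induction y with
        | zero => simp
        | add a b ha hb => rw [map_add]; exact P'.add_mem ha hb
        | tmul k q =>
          have h2 : k ⊗ₜ[A] (q : M) = k • ((1 : K) ⊗ₜ[A] (q : M)) := by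
            rw [TensorProduct.smul_tmul', smul_eq_mul, mul_one]
          rw [LinearMap.lTensor_tmul, Submodule.subtype_apply, h2]
          exact P'.smul_mem _ ((hQm _).mp q.2)
      · intro x hx
        obtain ⟨⟨m, s⟩, hms⟩ := hloc.surj x
        have h1 : (1 : K) ⊗ₜ[A] m ∈ P' := by
          have : (1 : K) ⊗ₜ[A] m = s • x := hms.symm
          rw [this]
          exact (P'.restrictScalars A).smul_mem (s : A) hx
        have h2 : m ∈ Q := (hQm m).mpr h1
        have h3 : (algebraMap A K (s : A)) • (Q.mkQ.baseChange K x) = 0 := by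
          rw [← map_smul, algebraMap_smul]
          have : ((s : A) • x) = (1 : K) ⊗ₜ[A] m := hms
          rw [this, LinearMap.baseChange_tmul, Submodule.mkQ_apply,
            (Submodule.Quotient.mk_eq_zero Q).mpr h2, TensorProduct.tmul_zero]
        rw [LinearMap.mem_ker]
        refine (smul_eq_zero.mp h3).resolve_left ?_
        rw [IsFractionRing.to_map_eq_zero_iff]
        exact nonZeroDivisors.ne_zero s.2
  · rintro ⟨hfl, hker⟩
    ext m
    rw [hmem, ← hker, LinearMap.mem_ker, LinearMap.baseChange_tmul]
    have hinj := Module.Flat.rTensor_preserves_injective_linearMap (M := M ⧸ Q) (Algebra.linearMap A K)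
      (IsFractionRing.injective A K)
    constructor
    · intro hm
      rw [Submodule.mkQ_apply, (Submodule.Quotient.mk_eq_zero Q).mpr hm, TensorProduct.tmul_zero]
    · intro h
      have h1 : (Algebra.linearMap A K).rTensor (M ⧸ Q) ((1 : A) ⊗ₜ Q.mkQ m) = 0 := by
        rw [LinearMap.rTensor_tmul, Algebra.linearMap_apply, map_one]
        exact h
      have h2 : (1 : A) ⊗ₜ[A] Q.mkQ m = 0 := hinj (by rw [h1, map_zero])
      have h3 := congrArg (TensorProduct.lid A (M ⧸ Q)) h2
      rw [TensorProduct.lid_tmul, one_smul, map_zero, Submodule.mkQ_apply, Submodule.Quotient.mk_eq_zero] at h3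
      exact h3

end Groth.Agent.S4640
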