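import Groth.Statements.S4647
import Groth.Agent.Fdesc.DomainLocus
import Groth.Agent.FDesc.K108.DomNhd

set_option autoImplicit false
open CategoryTheory AlgebraicGeometry
universe u
open FDesc

namespace Groth.Agent.S4647

/-- Let f : X → Y be a faithfully flat (flat and surjective) morphism. If all local rings of X are
domains (in particular if X is locally integral) and the underlying space of Y is locally
Noetherian, then Y is locally integral: every point of Y has an open neighbourhood which is an
integral scheme. -/
theorem result {X Y : Scheme.{u}} (f : X ⟶ Y) [Flat f] [Surjective f]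
    (hX : ∀ x : X, IsDomain ↑(X.presheaf.stalk x))
    (hY : ∀ y : Y, ∃ U : Y.Opens, y ∈ U ∧ TopologicalSpace.NoetherianSpace ↥U) (y : Y) :
    ∃ U : Y.Opens, y ∈ U ∧ IsIntegral (U : Scheme.{u}) := by
  have hd : ∀ y : Y, IsDomain (Y.presheaf.stalk y) := by
    intro y
    obtain ⟨x, rfl⟩ := f.surjective y
    exact Groth.Agent.Fdesc.DomainLocus.isDomain_stalk_of_flat f x (hX x)
  obtain ⟨U, hyU, hU⟩ := hY y
  exact K108.DomNhd.isIntegral_nhd Y hd y U hyU

end Groth.Agent.S4647
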