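import Groth.Statements.S4648
import Groth.Agent.S2495
import Groth.Agent.FDesc.K108.TopDesc

set_option autoImplicit false
open CategoryTheory AlgebraicGeometry
universe u
open FDesc

namespace Groth.Agent.S4648

/-- Let f : X → Y be a quasi-flat, surjective and quasi-compact morphism and Z a subset of Y. Then Z is
a locally closed pro-constructible subset of Y if and only if f⁻¹(Z) is a locally closed
pro-constructible subset of X. -/
theorem result {X Y : Scheme.{u}} (f : X ⟶ Y)
    (hf : FDesc.IsQuasiFlat f) [Surjective f] [QuasiCompact f] (Z : Set ↥Y) :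
    (IsLocallyClosed Z ∧ ProCons.IsProConstructible Z) ↔
      (IsLocallyClosed (⇑f ⁻¹' Z) ∧ ProCons.IsProConstructible (⇑f ⁻¹' Z)) := by
  constructor
  · rintro ⟨h1, h2⟩
    exact ⟨h1.preimage f.continuous, Groth.Agent.Ega4fib.H119.ProIndScheme.isPro_preimage f h2⟩
  · rintro ⟨h1, h2⟩
    have hgen := Groth.Agent.S2493.result f hf
    have hpro : ProCons.IsProConstructible Z := by
      have := Groth.Agent.Ega4fib.H119.ProIndScheme.isPro_image f h2
      rwa [Set.image_preimage_eq _ f.surjective] at this
    refine ⟨?_, hpro⟩
    have hq := Groth.Agent.S2495.result f hf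
    rw [isLocallyClosed_iff_isOpen_coborder, coborder, isOpen_compl_iff] at h1 ⊢
    rw [← hq.isClosed_preimage]
    convert h1 using 1
    rw [← K108.TopDesc.preimage_closure_eq f hgen hpro]
    rfl

end Groth.Agent.S4648
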