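import Groth.Statements.S4649
import Groth.Agent.FBase.K106.IrrConn
import Groth.Agent.S2530

set_option autoImplicit false
open CategoryTheory AlgebraicGeometry
universe u
open FBase

namespace Groth.Agent.S4649

/-- Let X be a scheme of finite type over a field k and Ω an algebraically closed extension field of k.
Then X is geometrically pointwise integral over k (every local ring of every X ⊗_k K is a domain) if
and only if X is geometrically reduced over k and the number of irreducible components of X ⊗_k Ω
equals the number of connected components of X ⊗_k Ω (the geometric numbers of irreducible and of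
connected components agree). -/
theorem result {k Ω : Type u} [Field k] [Field Ω] [Algebra k Ω] [IsAlgClosed Ω]
    {X : Scheme.{u}} (f : X ⟶ Spec (CommRingCat.of k)) [LocallyOfFiniteType f] [QuasiCompact f] :
    (∀ x : X, FBase.IsGeomPtIntegralAt f x) ↔
      (GeometricallyReduced f ∧
        Nat.card ↥(irreducibleComponents ↥(FBase.bc f Ω)) = Nat.card (_root_.ConnectedComponents ↥(FBase.bc f Ω))) := by
  have h1 : LocallyOfFiniteType (FBase.bcStr f Ω) := Groth.Agent.S2530.locallyOfFiniteType_bcStr f Ω
  have h2 : IsLocallyNoetherian (FBase.bc f Ω) :=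
    LocallyOfFiniteType.isLocallyNoetherian (FBase.bcStr f Ω)
  have h3 : QuasiCompact (FBase.bcStr f Ω) :=
    inferInstanceAs (QuasiCompact (Limits.pullback.snd f
      (Spec.map (CommRingCat.ofHom (algebraMap k Ω)))))
  have h4 : CompactSpace (FBase.bc f Ω) :=
    QuasiCompact.compactSpace_of_compactSpace (FBase.bcStr f Ω)
  have h5 : IsNoetherian (FBase.bc f Ω) := {}
  have h6 : Finite (irreducibleComponents ↥(FBase.bc f Ω)) :=
    TopologicalSpace.NoetherianSpace.finite_irreducibleComponents
  rw [K106.IrrConn.card_eq_iff]
  have h7 := K106.IrrConn.forall_isDomain_stalk_iff (FBase.bc f Ω)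
  constructor
  · intro h
    have h8 : ∀ z : ↥(FBase.bc f Ω), IsDomain ((FBase.bc f Ω).presheaf.stalk z) :=
      fun z => h _ Ω z rfl
    refine ⟨?_, (h7.1 h8).2⟩
    refine ⟨geometrically_iff_of_commRing_of_isClosedUnderIsomorphisms.mpr fun K _ _ => ?_⟩
    have h9 : ∀ z : ↥(FBase.bc f K), _root_.IsReduced ((FBase.bc f K).presheaf.stalk z) := by
      intro z
      have := h _ K z rfl
      infer_instance
    exact isReduced_of_isReduced_stalk (FBase.bc f K)
  · rintro ⟨h, h'⟩ x
    have h8 : AlgebraicGeometry.IsReduced (FBase.bc f Ω) :=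
      pullback_of_geometrically h.geometrically_isReduced _ _
    exact (Groth.Agent.S2530.isGeomPtIntegralAt_iff f Ω x).2
      fun z _ => h7.2 ⟨h8, h'⟩ z

end Groth.Agent.S4649
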