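import Groth.Statements.S4651
import Groth.Agent.Fdesc.GenTop
import Mathlib.AlgebraicGeometry.Properties

set_option autoImplicit false
open CategoryTheory AlgebraicGeometry
universe u
open FDesc

namespace Groth.Agent.S4651

/-- Let Y be a scheme whose family of irreducible components is locally finite (every point has an open
neighbourhood meeting only finitely many irreducible components), and let f : X → Y be a morphism
along which generizations lift (e.g. flat, quasi-flat or open) such that every fibre f⁻¹(y) is a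
finite set (e.g. f quasi-finite or radicial). Then the family of irreducible components of X is
locally finite. -/
theorem result {X Y : Scheme.{u}} (f : X ⟶ Y)
    (hY : ∀ y : Y, ∃ U : Set ↥Y, IsOpen U ∧ y ∈ U ∧ {Z ∈ irreducibleComponents ↥Y | (Z ∩ U).Nonempty}.Finite)
    (hf : GeneralizingMap ⇑f) (hfin : ∀ y : Y, (⇑f ⁻¹' {y}).Finite) (x : X) :
    ∃ U : Set ↥X, IsOpen U ∧ x ∈ U ∧ {T ∈ irreducibleComponents ↥X | (T ∩ U).Nonempty}.Finite := by
  obtain ⟨U, hU, hxU, hfU⟩ := hY (f x)
  refine ⟨f ⁻¹' U, hU.preimage f.continuous, hxU, ?_⟩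
  have h1 : (genericPoints Y ∩ U).Finite := by
    refine Set.Finite.of_finite_image (f := fun y => closure {y}) (hfU.subset ?_) ?_
    · rintro _ ⟨y, hy, rfl⟩
      exact ⟨hy.1, y, subset_closure rfl, hy.2⟩
    · intro a _ b _ hab
      exact (inseparable_iff_closure_eq.2 hab).eq
  have h2 : (f ⁻¹' (genericPoints Y ∩ U)).Finite := by
    refine (h1.biUnion (t := fun y => f ⁻¹' {y}) fun y _ => hfin y).subset ?_
    intro a ha
    exact Set.mem_biUnion ha rfl
  refine (h2.image fun x => closure {x}).subset ?_
  rintro T ⟨hT, a, ha, haU⟩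
  obtain ⟨t, ht, rfl⟩ := Groth.Agent.Fdesc.GenTop.exists_genericPoints_of_component hT
  refine ⟨t, ⟨Groth.Agent.Fdesc.GenTop.map_mem_genericPoints hf ht, ?_⟩, rfl⟩
  have h3 : t ⤳ a := specializes_iff_mem_closure.2 ha
  exact h3.mem_open (hU.preimage f.continuous) haU

end Groth.Agent.S4651
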