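import Groth.Statements.S4652
import Groth.Agent.FDesc.K108.FPFree

set_option autoImplicit false
open CategoryTheory AlgebraicGeometry
universe u
open FDesc

namespace Groth.Agent.S4652

/-- Let X be a scheme, F a finitely presented O_X-module and x a point of X. Then F_x is a flat module
over the local ring O_{X,x} if and only if x has an open neighbourhood U such that the restriction
of F to U is finite locally free. -/
theorem result {X : Scheme.{u}} (F : X.Modules) (hF : CohB1.IsFP F) (x : X) :
    FlatMod.IsFlatAt F x ↔ ∃ U : X.Opens, x ∈ U ∧ FlatMod.IsFinLocFree ((Scheme.Modules.pullback U.ι).obj F) := by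
  constructor
  · intro h
    obtain ⟨W, j, _, n, hx, ⟨a⟩⟩ := K108.FPFree.nearFree_of_isFP F hF x h
    refine ⟨j.opensRange, hx, ?_⟩
    refine Groth.Agent.Dcoh.ResFree.isFinLocFree_of_iso
      ((Scheme.Modules.restrictFunctorIsoPullback j.opensRange.ι).app F) ?_
    rw [Groth.Agent.Dcoh.ResFree.isFinLocFree_iff]
    intro y
    refine ⟨W, j.isoOpensRange.hom, inferInstance, j.isoOpensRange.inv y, n, ?_, ?_⟩
    · rw [← Scheme.Hom.comp_apply, Iso.inv_hom_id]
      rfl
    · exact ⟨Groth.Agent.Dcoh.ResFree.restrictComp F _ _ j (by simp) ≪≫ a⟩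
  · rintro ⟨U, hx, hU⟩
    have h1 : FlatMod.IsFinLocFree (F.restrict U.ι) :=
      Groth.Agent.Dcoh.ResFree.isFinLocFree_of_iso
        ((Scheme.Modules.restrictFunctorIsoPullback U.ι).symm.app F) hU
    exact (Groth.Agent.Dcoh.StalkRestrict.isFlatAt_restrict_pt_iff U hx F).mp
      (Groth.Agent.Dcoh.Spread.isFlat_of_isFinLocFree h1 _)

end Groth.Agent.S4652
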