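import Groth.Statements.S4653
import Groth.Agent.FDesc.K108.SuppDown
import Groth.Agent.Ega1.SuppTensorMod

set_option autoImplicit false
open CategoryTheory AlgebraicGeometry
universe u
open FDesc

namespace Groth.Agent.S4653

/-- Let f : X → Y be a morphism of schemes, F a quasi-coherent O_X-module of finite type which is flat
over Y, E a quasi-coherent O_Y-module of finite type, and x a point of X with image y. Then x is a
maximal point of the support of f^*E ⊗ F (a point of the support admitting no proper generization in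
it) if and only if y is a maximal point of Supp E and x, viewed in the fibre f⁻¹(y), is a maximal
point of the support of the restriction of F to that fibre. -/
theorem result {X Y : Scheme.{u}} (f : X ⟶ Y) (F : X.Modules) (hF : Coh.IsCoh F)
    (hfl : FlatMod.IsFlatOver f F) (E : Y.Modules) (hE : Coh.IsCoh E) (x : X) :
    (x ∈ CohB1.support (CohB1.tensorMod ((Scheme.Modules.pullback f).obj E) F) ∧
        ∀ z ∈ CohB1.support (CohB1.tensorMod ((Scheme.Modules.pullback f).obj E) F), z ⤳ x → z = x) ↔
      ((f x ∈ CohB1.support E ∧ ∀ w ∈ CohB1.support E, w ⤳ f x → w = f x) ∧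
        (f.asFiber x ∈ CohB1.support ((Scheme.Modules.pullback (f.fiberι (f x))).obj F) ∧
          ∀ z ∈ CohB1.support ((Scheme.Modules.pullback (f.fiberι (f x))).obj F), z ⤳ f.asFiber x → z = f.asFiber x)) := by
  have h1 : ∀ z : X, z ∈ CohB1.support (CohB1.tensorMod ((Scheme.Modules.pullback f).obj E) F) ↔
      f z ∈ CohB1.support E ∧ z ∈ CohB1.support F := fun z =>
    K108.SuppDown.mem_support_tensor_iff f E F hF z (hfl z)
  have h2 : ∀ z : f.fiber (f x),
      z ∈ CohB1.support ((Scheme.Modules.pullback (f.fiberι (f x))).obj F) ↔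
      f.fiberι (f x) z ∈ CohB1.support F := fun z =>
    Groth.Agent.Ega1.SuppTensorMod.mem_support_pullback (f.fiberι (f x)) F hF.2 z
  have hx : f.fiberι (f x) (f.asFiber x) = x := f.fiberι_asFiber x
  simp only [h1, h2, hx]
  constructor
  · rintro ⟨⟨ha, hb⟩, hc⟩
    refine ⟨⟨ha, fun w hw hwx => ?_⟩, hb, fun z hz hzx => ?_⟩
    · obtain ⟨z, hz, hzx, hfz⟩ := K108.SuppDown.exists_specializes_mem_support f F hF x (hfl x) hb hwx
      rw [← hfz, hc z ⟨hfz ▸ hw, hz⟩ hzx]
    · have h3 : f.fiberι (f x) z ⤳ x := by
        have := hzx.map (f.fiberι (f x)).continuous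
        rwa [hx] at this
      have h4 : f (f.fiberι (f x) z) = f x := by
        have : f.fiberι (f x) z ∈ Set.range (f.fiberι (f x)) := ⟨z, rfl⟩
        rw [f.range_fiberι] at this
        exact this
      have h5 := hc _ ⟨by rw [h4]; exact ha, hz⟩ h3
      apply (f.fiberι (f x)).isEmbedding.injective
      rw [h5, hx]
  · rintro ⟨⟨ha, hb⟩, hc, hd⟩
    refine ⟨⟨ha, hc⟩, fun z hz hzx => ?_⟩
    have h3 : f z = f x := hb _ hz.1 (hzx.map f.continuous)
    have h4 : z ∈ Set.range (f.fiberι (f x)) := by
      rw [f.range_fiberι]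
      exact h3
    obtain ⟨z', rfl⟩ := h4
    have h5 := hd z' hz.2 (by
      rw [← (f.fiberι (f x)).isEmbedding.isInducing.specializes_iff, hx]
      exact hzx)
    rw [h5, hx]

end Groth.Agent.S4653
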