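import Groth.Statements.S4654
import Groth.Agent.FDesc.K108.FlatAlg2
import Groth.Agent.CycB.StalkExact
import Groth.Agent.Fdesc.PullbackStalk

set_option autoImplicit false
open CategoryTheory AlgebraicGeometry
universe u
open FDesc

namespace Groth.Agent.S4654

/-- Let f : X → Y be a morphism of schemes and 0 → F' → F → F'' → 0 a short exact sequence of
quasi-coherent O_X-modules such that F'' is flat over Y. Then F is flat over Y if and only if F' is
flat over Y. -/
theorem result {X Y : Scheme.{u}} (f : X ⟶ Y) (S : ShortComplex X.Modules)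
    (hS : S.ShortExact) (h₁ : Coh.IsQCoh S.X₁) (h₂ : Coh.IsQCoh S.X₂) (h₃ : Coh.IsQCoh S.X₃)
    (hflat : FlatMod.IsFlatOver f S.X₃) :
    FlatMod.IsFlatOver f S.X₂ ↔ FlatMod.IsFlatOver f S.X₁ := by
  refine forall_congr' fun x => ?_
  obtain ⟨h1, h2, h3⟩ := Groth.Agent.CycB.StalkExact.stalkLin_shortExact S hS x
  letI := (f.stalkMap x).hom.toAlgebra
  letI := FlatMod.moduleStalkOver f S.X₁ x
  letI := FlatMod.moduleStalkOver f S.X₂ x
  letI := FlatMod.moduleStalkOver f S.X₃ x
  haveI := Groth.Agent.Fdesc.PullbackStalk.isScalarTower f S.X₁ x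
  haveI := Groth.Agent.Fdesc.PullbackStalk.isScalarTower f S.X₂ x
  haveI := Groth.Agent.Fdesc.PullbackStalk.isScalarTower f S.X₃ x
  haveI : Module.Flat (Y.presheaf.stalk (f.base x)) (S.X₃.presheaf.stalk x) := hflat x
  exact K108.FlatAlg2.flat_iff_of_shortExact
    ((Groth.Agent.CycB.StalkExact.stalkLin S.f x).restrictScalars (Y.presheaf.stalk (f.base x)))
    ((Groth.Agent.CycB.StalkExact.stalkLin S.g x).restrictScalars (Y.presheaf.stalk (f.base x)))
    h1 h2 h3

end Groth.Agent.S4654
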