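import Groth.Statements.S4655
import Groth.Agent.FDesc.K108.FlatAlg2
import Groth.Agent.Fdesc.StalkExt
import Groth.Agent.Fdesc.FlatAlg

set_option autoImplicit false
open CategoryTheory AlgebraicGeometry
universe u
open FDesc

namespace Groth.Agent.S4655

/-- Let f : X → Y be a faithfully flat morphism (flat and surjective), g : Y → Z a morphism and G a
quasi-coherent O_Y-module. Then G is flat over Z if and only if the inverse image f^*G is flat over
Z with respect to the composite morphism X → Z. -/
theorem result {X Y Z : Scheme.{u}} (f : X ⟶ Y) (g : Y ⟶ Z) [Flat f] [Surjective f]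
    (G : Y.Modules) (hG : Coh.IsQCoh G) :
    FlatMod.IsFlatOver g G ↔ FlatMod.IsFlatOver (f ≫ g) ((Scheme.Modules.pullback f).obj G) := by
  have key : ∀ x : X, FlatMod.IsFlatOverAt g G (f x) ↔
      FlatMod.IsFlatOverAt (f ≫ g) ((Scheme.Modules.pullback f).obj G) x := by
    intro x
    letI : Algebra (Z.presheaf.stalk (g.base (f.base x))) (Y.presheaf.stalk (f.base x)) := (g.stalkMap (f x)).hom.toAlgebra
    letI := Groth.Agent.Fdesc.PullbackStalk.stalkAlg f x
    letI : Algebra (Z.presheaf.stalk (g.base (f.base x))) (X.presheaf.stalk x) :=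
      (g.stalkMap (f x) ≫ f.stalkMap x).hom.toAlgebra
    haveI : IsScalarTower (Z.presheaf.stalk (g.base (f.base x))) (Y.presheaf.stalk (f.base x)) (X.presheaf.stalk x) :=
      IsScalarTower.of_algebraMap_eq fun _ => rfl
    letI := FlatMod.moduleStalkOver g G (f x)
    haveI := Groth.Agent.Fdesc.PullbackStalk.isScalarTower g G (f x)
    letI : Module (Z.presheaf.stalk (g.base (f.base x))) (((Scheme.Modules.pullback f).obj G).presheaf.stalk x) :=
      FlatMod.moduleStalkOver (f ≫ g) ((Scheme.Modules.pullback f).obj G) x
    haveI : IsScalarTower (Z.presheaf.stalk (g.base (f.base x))) (X.presheaf.stalk x) (((Scheme.Modules.pullback f).obj G).presheaf.stalk x) := by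
      refine ⟨fun r a m => ?_⟩
      rw [Algebra.smul_def, mul_smul]
      change _ = ((f ≫ g).stalkMap x).hom r • a • m
      rw [Scheme.Hom.stalkMap_comp]
      rfl
    haveI : Module.FaithfullyFlat (Y.presheaf.stalk (f.base x)) (X.presheaf.stalk x) :=
      Groth.Agent.Fdesc.StalkExt.faithfullyFlat_stalkMap f x
    have e := (Groth.Agent.Fdesc.PullbackStalk.stalkPullbackEquiv f G x).restrictScalars (Z.presheaf.stalk (g.base (f.base x)))
    constructor
    · intro h
      haveI : Module.Flat (Z.presheaf.stalk (g.base (f.base x))) (G.presheaf.stalk (f.base x)) := h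
      have h1 : Module.Flat (Z.presheaf.stalk (g.base (f.base x))) (TensorProduct (Y.presheaf.stalk (f.base x)) (X.presheaf.stalk x) (G.presheaf.stalk (f.base x))) :=
        Groth.Agent.Fdesc.FlatAlg.flat_tensor_of_flat
      have h2 : Module.Flat (Z.presheaf.stalk (g.base (f.base x))) (((Scheme.Modules.pullback f).obj G).presheaf.stalk x) :=
        Module.Flat.of_linearEquiv e.symm
      exact h2
    · intro h
      haveI : Module.Flat (Z.presheaf.stalk (g.base (f.base x))) (((Scheme.Modules.pullback f).obj G).presheaf.stalk x) := h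
      have h1 : Module.Flat (Z.presheaf.stalk (g.base (f.base x))) (TensorProduct (Y.presheaf.stalk (f.base x)) (X.presheaf.stalk x) (G.presheaf.stalk (f.base x))) :=
        Module.Flat.of_linearEquiv e
      exact K108.FlatAlg2.flat_of_flat_tensor (M := X.presheaf.stalk x) h1
  constructor
  · intro h x
    exact (key x).mp (h _)
  · intro h y
    obtain ⟨x, rfl⟩ := f.surjective y
    exact (key x).mpr (h x)

end Groth.Agent.S4655
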