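import Groth.Statements.S4657
import Groth.Agent.AssSch.K109.Comp
import Groth.Agent.AssSch.K109.IsoStalk

set_option autoImplicit false
open CategoryTheory AlgebraicGeometry
universe u
open AssSch

namespace Groth.Agent.S4657

open K109.Local K109.Comp

theorem mem_ass_restrict_iff {X : Scheme.{u}} (U : X.Opens) (F : X.Modules) (x : (U : Scheme.{u})) :
    x ∈ AssSch.Ass ((Scheme.Modules.pullback U.ι).obj F) ↔ U.ι x ∈ AssSch.Ass F :=
  K109.IsoStalk.mem_ass_iff U.ι F x (K109.IsoStalk.bijective_of_isOpenImmersion _ x)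

/-- Let X be a locally Noetherian scheme, U an open subset of X and F a coherent O_X-module such that U
∩ Supp F is dense in Supp F. Then F is a reduced module if and only if its restriction to U is a
reduced module and F has no embedded associated points. -/
theorem result {X : Scheme.{u}} [IsLocallyNoetherian X] (U : X.Opens) (F : X.Modules)
    (hF : Coh.IsCoh F) (hdense : CohB1.support F ⊆ closure ((U : Set ↥X) ∩ CohB1.support F)) :
    AssSch.IsReducedMod F ↔ AssSch.IsReducedMod ((Scheme.Modules.pullback U.ι).obj F) ∧ AssSch.NoEmbedded F := by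
  have hlen : ∀ x : (U : Scheme.{u}), Module.length ((U : Scheme.{u}).presheaf.stalk x)
      (((Scheme.Modules.pullback U.ι).obj F).presheaf.stalk x) =
      Module.length (X.presheaf.stalk (U.ι x)) (F.presheaf.stalk (U.ι x)) := fun x =>
    K109.IsoStalk.length_eq U.ι F x (K109.IsoStalk.bijective_of_isOpenImmersion _ x)
  constructor
  · rintro ⟨hne, h1⟩
    refine ⟨⟨fun x hx y hy hyx => ?_, fun x hx => ?_⟩, hne⟩
    · rw [mem_ass_restrict_iff] at hx hy
      exact U.ι.isOpenEmbedding.injective (hne _ hx _ hy (hyx.map U.ι.continuous))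
    · rw [hlen]
      exact h1 _ ((mem_ass_restrict_iff U F x).mp hx)
  · rintro ⟨⟨-, h1⟩, hne⟩
    refine ⟨hne, fun x hx => ?_⟩
    obtain ⟨V, hxV, hV⟩ := exists_nhds_of_maximal F hF x fun y hy hyx => (hne x hx y hy hyx).symm
    have hxs : x ∈ CohB1.support F := not_subsingleton_iff_nontrivial.mpr (nontrivial_of_mem_ass hx)
    obtain ⟨z, hzV, hzU, hzs⟩ := mem_closure_iff.mp (hdense hxs) V V.isOpen hxV
    have hxz := hV z hzV (not_subsingleton_iff_nontrivial.mp hzs)
    have hxU : x ∈ U := hxz.mem_open U.isOpen hzU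
    have h2 := h1 ⟨x, hxU⟩ ((mem_ass_restrict_iff U F ⟨x, hxU⟩).mpr hx)
    exact (hlen ⟨x, hxU⟩).symm.trans h2


end Groth.Agent.S4657
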