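import Groth.Statements.S4658
import Groth.Agent.AssSch.K109.AffineHom
import Groth.Agent.AssSch.K109.IsoStalk
import Groth.Agent.CohqA.AssInj
import Groth.Agent.CohqA.IntClosed
import Groth.Agent.S2528
import Groth.Agent.Sga2.EszDepth
import Groth.Agent.Ega1.QcqsPush
import Groth.Agent.Fdesc.StructMod

set_option autoImplicit false
open CategoryTheory AlgebraicGeometry
universe u
open AssSch

namespace Groth.Agent.S4658

open TopologicalSpace

section

variable {X : Scheme.{u}} (x : X)

/-- The reduced closed subscheme on the closure of a point. -/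
noncomputable abbrev I : X.IdealSheafData :=
  Scheme.IdealSheafData.vanishingIdeal ⟨closure {x}, isClosed_closure⟩

theorem integral_and_apply_genericPoint :
    ∃ _ : IsIntegral (I x).subscheme, (I x).subschemeι (genericPoint (I x).subscheme) = x := by
  have hr : Set.range (I x).subschemeι = closure {x} := by
    rw [Scheme.IdealSheafData.range_subschemeι, Scheme.IdealSheafData.coe_support_vanishingIdeal]
    rfl
  have h1 : IsReduced (I x).subscheme := Ega1.ReducedSub.isReduced_subscheme_vanishingIdeal _
  obtain ⟨z, hz⟩ : x ∈ Set.range (I x).subschemeι := by rw [hr]; exact subset_closure rfl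
  have hg : IsGenericPoint z (Set.univ : Set (I x).subscheme) := by
    unfold IsGenericPoint
    rw [(I x).subschemeι.isClosedEmbedding.isInducing.closure_eq_preimage_closure_image,
      Set.image_singleton, hz, ← hr, Set.preimage_range]
  have h2 : IrreducibleSpace (I x).subscheme := by
    have : IsIrreducible (Set.univ : Set (I x).subscheme) := hg.isIrreducible
    exact (irreducibleSpace_def _).mpr this
  have h3 : IsIntegral (I x).subscheme := isIntegral_of_irreducibleSpace_of_isReduced _
  exact ⟨h3, by rw [(genericPoint_spec (I x).subscheme).eq hg, hz]⟩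

theorem genericPoint_mem_ass (Z : Scheme.{u}) [IsIntegral Z] :
    genericPoint Z ∈ AssSch.Ass (Coh.structureModule Z) := by
  rw [Fdesc.StructMod.mem_Ass_structureModule_iff_stalk]
  have h : IsField (Z.presheaf.stalk (genericPoint Z)) :=
    Field.toIsField (Z.functionField)
  have h0 : IsLocalRing.maximalIdeal (Z.presheaf.stalk (genericPoint Z)) = ⊥ :=
    IsLocalRing.isField_iff_maximalIdeal_eq.mp h
  have hn : Nontrivial (Z.presheaf.stalk (genericPoint Z)) := inferInstance
  refine ⟨(IsLocalRing.maximalIdeal.isMaximal _).isPrime, 1, ?_⟩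
  have h1 : (⊥ : Submodule (Z.presheaf.stalk (genericPoint Z))
      (Z.presheaf.stalk (genericPoint Z))).colon {1} =
      IsLocalRing.maximalIdeal (Z.presheaf.stalk (genericPoint Z)) := by
    rw [h0]
    ext a
    simp
  rw [h1]
  exact (IsLocalRing.maximalIdeal.isMaximal _).isPrime.radical.symm

/-- `x` is associated to `O_Z`. -/
theorem mem_ass_push [IsLocallyNoetherian X] :
    x ∈ AssSch.Ass ((Scheme.Modules.pushforward (I x).subschemeι).obj
      (Coh.structureModule (I x).subscheme)) := by
  obtain ⟨h1, h2⟩ := integral_and_apply_genericPoint x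
  have : IsLocallyNoetherian (I x).subscheme :=
    LocallyOfFiniteType.isLocallyNoetherian (I x).subschemeι
  have := S2528.result (I x).subschemeι (Coh.structureModule (I x).subscheme)
    (Fdesc.StructMod.isQCoh_structureModule _)
  change x ∈ AssSch.Ass ((Coh.push (I x).subschemeι).obj (Coh.structureModule (I x).subscheme))
  rw [this]
  exact ⟨_, genericPoint_mem_ass _, h2⟩

theorem exists_injective [IsLocallyNoetherian X] {U : X.Opens} (hU : IsAffineOpen U)
    (F : X.Modules) (m : Γ(F, U)) (hm : ∀ a : Γ(X, U), a • m = 0 ↔ x ∉ X.basicOpen a) :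
    ∃ g : Γ((Scheme.Modules.pushforward (I x).subschemeι).obj
      (Coh.structureModule (I x).subscheme), U) →ₗ[Γ(X, U)] Γ(F, U), Function.Injective g := by
  obtain ⟨h1, h2⟩ := integral_and_apply_genericPoint x
  let q : Γ(X, U) →ₗ[Γ(X, U)] Γ((Scheme.Modules.pushforward (I x).subschemeι).obj
      (Coh.structureModule (I x).subscheme), U) :=
    { toFun := fun a => ((I x).subschemeι.app U a : Γ((I x).subscheme, (I x).subschemeι ⁻¹ᵁ U))
      map_add' := fun a b => map_add ((I x).subschemeι.app U).hom a b
      map_smul' := fun a b => map_mul ((I x).subschemeι.app U).hom a b }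
  have hq : Function.Surjective q := (I x).subschemeι.app_surjective U hU
  have hk : ∀ a : Γ(X, U), q a = 0 ↔ x ∉ X.basicOpen a := by
    intro a
    have h := CohqA.IntClosed.app_eq_zero_iff (I x).subschemeι a
    rw [h2] at h
    exact h
  let s : Γ(X, U) →ₗ[Γ(X, U)] Γ(F, U) := LinearMap.toSpanSingleton Γ(X, U) Γ(F, U) m
  have hs : LinearMap.ker q = LinearMap.ker s := by
    ext a
    rw [LinearMap.mem_ker, LinearMap.mem_ker, hk, ← hm]
    rfl
  let g := ((LinearMap.ker q).liftQ s hs.le).comp (q.quotKerEquivOfSurjective hq).symm.toLinearMap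
  refine ⟨g, ?_⟩
  have h3 : Function.Injective ((LinearMap.ker q).liftQ s hs.le) := by
    rw [← LinearMap.ker_eq_bot, Submodule.ker_liftQ_eq_bot _ _ _ hs.ge]
  exact h3.comp (LinearEquiv.injective _)

end

/-- Let X be a locally Noetherian scheme, F a quasi-coherent O_X-module and x a point of X; let Z be the
reduced closed subscheme of X whose underlying space is the closure of x, and O_Z its structure
sheaf viewed as an O_X-module. Then x is an associated point of F if and only if x has an open
neighbourhood U over which there is a monomorphism of O_U-modules O_Z|_U → F|_U. -/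
theorem result {X : Scheme.{u}} [IsLocallyNoetherian X] (F : X.Modules)
    (hF : Coh.IsQCoh F) (x : X) :
    x ∈ AssSch.Ass F ↔ ∃ (U : X.Opens), x ∈ U ∧
      ∃ φ : (Scheme.Modules.pullback U.ι).obj
              ((Scheme.Modules.pushforward (Scheme.IdealSheafData.vanishingIdeal ⟨closure {x}, isClosed_closure⟩).subschemeι).obj
                (Coh.structureModule (Scheme.IdealSheafData.vanishingIdeal ⟨closure {x}, isClosed_closure⟩).subscheme)) ⟶
            (Scheme.Modules.pullback U.ι).obj F, Mono φ := by
  constructor
  · intro hx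
    obtain ⟨U, hU, hxU, -⟩ := exists_isAffineOpen_mem_and_subset (X := X) (x := x) (U := ⊤) trivial
    obtain ⟨m, hm⟩ := CohqA.AssInj.exists_section_of_mem_ass hF hU x hxU hx
    obtain ⟨g, hg⟩ := exists_injective x hU F m hm
    obtain ⟨φ, hφ⟩ := K109.AffineHom.exists_mono_of_injective hU _ F
      (Ega1.QcqsPush.isQCoh_pushforward (I x).subschemeι _
        (Fdesc.StructMod.isQCoh_structureModule _)) hF g hg
    exact ⟨U, hxU, φ, hφ⟩
  · rintro ⟨U, hxU, φ, hφ⟩
    have h1 := mem_ass_push x
    have h2 : (⟨x, hxU⟩ : (U : Scheme.{u})) ∈ AssSch.Ass ((Scheme.Modules.pullback U.ι).obj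
        ((Scheme.Modules.pushforward (I x).subschemeι).obj
          (Coh.structureModule (I x).subscheme))) :=
      (K109.IsoStalk.mem_ass_iff U.ι _ ⟨x, hxU⟩
        (K109.IsoStalk.bijective_of_isOpenImmersion _ _)).mpr h1
    have h3 := Sga2.EszDepth.ass_subset_of_mono φ h2
    exact (K109.IsoStalk.mem_ass_iff U.ι _ ⟨x, hxU⟩
        (K109.IsoStalk.bijective_of_isOpenImmersion _ _)).mp h3


end Groth.Agent.S4658
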