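import Groth.Statements.S4659
import Groth.Agent.FBase.K106.FiberBc
import Groth.Agent.FBase.K106.GeomRedAlg

set_option autoImplicit false
open CategoryTheory AlgebraicGeometry
universe u
open FBase

namespace Groth.Agent.S4659

open CategoryTheory.Limits TensorProduct

theorem isLocallyNoetherian_bc {k : Type u} [Field k] {X : Scheme.{u}} [IsLocallyNoetherian X]
    (f : X ⟶ Spec (CommRingCat.of k)) (k' : Type u) [Field k'] [Algebra k k']
    [FiniteDimensional k k'] : IsLocallyNoetherian (FBase.bc f k') := by
  have h1 : LocallyOfFiniteType (Spec.map (CommRingCat.ofHom (algebraMap k k'))) := by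
    rw [HasRingHomProperty.Spec_iff (P := @LocallyOfFiniteType)]
    exact (RingHom.finite_algebraMap.mpr inferInstance).finiteType
  have h2 : LocallyOfFiniteType (FBase.bcπ f k') :=
    inferInstanceAs (LocallyOfFiniteType (pullback.fst f _))
  exact LocallyOfFiniteType.isLocallyNoetherian (FBase.bcπ f k')

/-- Let X be a locally Noetherian scheme over a field k and F a coherent O_X-module. Then F ⊗_k k' is a
reduced module on X ⊗_k k' for every finite purely inseparable extension k' of k if and only if F
⊗_k K is a reduced module on X ⊗_k K for every extension K of k for which X ⊗_k K is locally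
Noetherian. (The published statement takes K finitely generated over k, a hypothesis used only to
make X ⊗_k K locally Noetherian.) -/
theorem result {k : Type u} [Field k] {X : Scheme.{u}} [IsLocallyNoetherian X]
    (f : X ⟶ Spec (CommRingCat.of k)) (F : X.Modules) (hF : Coh.IsCoh F) :
    (∀ (k' : Type u) [Field k'] [Algebra k k'] [FiniteDimensional k k'] [IsPurelyInseparable k k'],
        AssSch.IsReducedMod ((Scheme.Modules.pullback (FBase.bcπ f k')).obj F)) ↔
      ∀ (K : Type u) [Field K] [Algebra k K] [IsLocallyNoetherian (FBase.bc f K)],
        AssSch.IsReducedMod ((Scheme.Modules.pullback (FBase.bcπ f K)).obj F) := by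
  constructor
  · intro h K _ _ _
    have h0 : ∀ (k' : Type u) [Field k'] [Algebra k k'] [FiniteDimensional k k']
      [IsPurelyInseparable k k'], _ := fun k' _ _ _ _ =>
        haveI := isLocallyNoetherian_bc f k'
        (K106.FiberBc.isReducedMod_bc_iff f k' F hF).1 (h k')
    refine (K106.FiberBc.isReducedMod_bc_iff f K F hF).2 fun y hy => ?_
    refine ⟨(h0 k y hy).1, (h0 k y hy).2.1, ?_⟩
    let _ := (K106.FiberBc.resHom f y).toAlgebra
    have h1 : Algebra.IsGeometricallyReduced k (X.residueField y) := by
      refine K106.GeomRedAlg.isGeometricallyReduced_of_forall_purelyInseparable k _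
        fun k' _ _ _ _ => ?_
      have h2 := (h0 k' y hy).2.2
      exact isReduced_of_injective (Algebra.TensorProduct.comm k k' (X.residueField y))
        (Algebra.TensorProduct.comm k k' (X.residueField y)).injective
    have h3 : _root_.IsReduced (K ⊗[k] X.residueField y) :=
      Groth.Agent.Fdesc.GeomRed.isReduced_tensor_of_isGeometricallyReduced (X.residueField y) K
    exact isReduced_of_injective (Algebra.TensorProduct.comm k (X.residueField y) K)
        (Algebra.TensorProduct.comm k (X.residueField y) K).injective
  · intro h k' _ _ _ _
    have := isLocallyNoetherian_bc f k'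
    exact h k'

end Groth.Agent.S4659
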