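import Groth.Statements.S4660
import Groth.Agent.FBase.K107.ModBC2

set_option autoImplicit false
open CategoryTheory AlgebraicGeometry
universe u
open FBase

namespace Groth.Agent.S4660

/-- Let X be a locally Noetherian scheme over a field k and F a coherent O_X-module. A coherent module
is called integral when it has exactly one associated point and its stalk at that point has length
one over the local ring. Then F ⊗_k k' is integral on X ⊗_k k' for every finite extension k' of k if
and only if F ⊗_k K is integral on X ⊗_k K for every extension K of k such that X ⊗_k K is locally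
Noetherian. (The published statement takes K finitely generated over k, a hypothesis used only to
make X ⊗_k K locally Noetherian.) -/
theorem result {k : Type u} [Field k] {X : Scheme.{u}} [IsLocallyNoetherian X]
    (f : X ⟶ Spec (CommRingCat.of k)) (F : X.Modules) (hF : Coh.IsCoh F) :
    (∀ (k' : Type u) [Field k'] [Algebra k k'] [FiniteDimensional k k'],
        ∃ x' : ↥(FBase.bc f k'), AssSch.Ass ((Scheme.Modules.pullback (FBase.bcπ f k')).obj F) = {x'} ∧
          Module.length ↑((FBase.bc f k').presheaf.stalk x') ↑(((Scheme.Modules.pullback (FBase.bcπ f k')).obj F).presheaf.stalk x') = 1) ↔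
      ∀ (K : Type u) [Field K] [Algebra k K] [IsLocallyNoetherian (FBase.bc f K)],
        ∃ x' : ↥(FBase.bc f K), AssSch.Ass ((Scheme.Modules.pullback (FBase.bcπ f K)).obj F) = {x'} ∧
          Module.length ↑((FBase.bc f K).presheaf.stalk x') ↑(((Scheme.Modules.pullback (FBase.bcπ f K)).obj F).presheaf.stalk x') = 1 := by
  constructor
  · intro h K _ _ _
    have h0 : ∀ (k' : Type u) [Field k'] [Algebra k k'] [FiniteDimensional k k'],
        ∃ x : X, AssSch.Ass F = {x} ∧
          Module.length (X.presheaf.stalk x) (F.presheaf.stalk x) = 1 ∧
          (letI := K107.ModBC.resAlg f x; IsDomain (TensorProduct k (X.residueField x) k')) := by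
      intro k' _ _ _
      have := K107.ModBC.isLocallyNoetherian_bc_of_finite (f := f) (K := k')
      exact (K107.ModBC2.isIntegralMod_bc_iff f F hF k').1 (h k')
    rw [K107.ModBC2.isIntegralMod_bc_iff f F hF K]
    obtain ⟨x, hx, hlen, -⟩ := h0 k
    refine ⟨x, hx, hlen, ?_⟩
    let _ := K107.ModBC.resAlg f x
    refine K107.FieldTens.isDomain_tensor_of_forall_finite (X.residueField x) ?_ K
    intro k' _ _ _
    obtain ⟨y, hy, -, hD⟩ := h0 k'
    obtain rfl : y = x := by
      have : y ∈ ({x} : Set X) := by rw [← hx, hy]; rfl
      exact this
    exact hD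
  · intro h k' _ _ _
    have := K107.ModBC.isLocallyNoetherian_bc_of_finite (f := f) (K := k')
    exact h k'

end Groth.Agent.S4660
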