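import Groth.Statements.S4665
import Groth.Agent.FBase.K107.GeomPt

set_option autoImplicit false
open CategoryTheory AlgebraicGeometry
universe u
open FBase

namespace Groth.Agent.S4665

open CategoryTheory.Limits in
/-- Let f : X → Y and g : Y' → Y be morphisms of schemes with g surjective, and let f' : X ×_Y Y' → Y'
be the base change of f. Say that a morphism has geometrically connected fibres when, for every
field K and every morphism from Spec K to its target, the base change to Spec K is empty or
connected (so an empty fibre counts as geometrically connected). If f' has geometrically connected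
fibres in this sense, then so has f. -/
theorem result {X Y Y' : Scheme.{u}} (f : X ⟶ Y)
    (g : Y' ⟶ Y) [Surjective g]
    (h : geometrically (fun Z : Scheme.{u} => IsEmpty ↥Z ∨ ConnectedSpace ↥Z) (pullback.snd f g)) :
    geometrically (fun Z : Scheme.{u} => IsEmpty ↥Z ∨ ConnectedSpace ↥Z) f := by
  intro K _ y Z fst snd hZ
  obtain ⟨L, _, _, i, τ, hτ⟩ := K107.GeomPt.exists_lift g y
  have h1 := h τ _ _ (IsPullback.of_hasPullback (pullback.snd f g) τ)
  have hp := (IsPullback.of_hasPullback (pullback.snd f g) τ).paste_horiz
    (IsPullback.of_hasPullback f g)
  obtain ⟨q, hq⟩ := K107.GeomPt.exists_surjective' hτ.symm hp hZ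
  rcases h1 with h1 | h1
  · left
    exact ⟨fun z => h1.false (q.surjective z).choose⟩
  · right
    exact q.surjective.connectedSpace q.continuous

end Groth.Agent.S4665
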