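import Groth.Statements.S4671
import Groth.Agent.AssSch.K109.TensorNoEmb
import Groth.Agent.AssSch.K109.FlatBase

set_option autoImplicit false
open CategoryTheory AlgebraicGeometry
universe u
open AssSch

namespace Groth.Agent.S4671

open CategoryTheory.Limits in
/-- Let f : X → S and g : Y → S be morphisms of schemes with X, Y, S and X ×_S Y locally Noetherian, F a
quasi-coherent O_X-module such that f maps every associated point of F to an associated point of
O_S, and G a quasi-coherent O_Y-module flat over S. If F and G have no embedded associated points,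
then F ⊗_S G (the tensor product on X ×_S Y of the pull-backs of F and G along the two projections)
has no embedded associated points. (The published statement assumes only X, S, the fibres of g and
the schemes Spec κ(x) ×_S Spec κ(y) locally Noetherian; this row assumes Y and X ×_S Y locally
Noetherian, which implies all of these, so that associated points are those whose maximal ideal is
the annihilator of an element of the stalk.) -/
theorem result {X Y S : Scheme.{u}} (f : X ⟶ S) (g : Y ⟶ S)
    [IsLocallyNoetherian X] [IsLocallyNoetherian Y] [IsLocallyNoetherian S] [IsLocallyNoetherian (pullback f g)]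
    (F : X.Modules) (hF : Coh.IsQCoh F) (G : Y.Modules) (hG : Coh.IsQCoh G) (hGfl : FlatMod.IsFlatOver g G)
    (hAss : ∀ x ∈ AssSch.Ass F, f x ∈ AssSch.Ass (Coh.structureModule S))
    (hFne : AssSch.NoEmbedded F) (hGne : AssSch.NoEmbedded G) :
    AssSch.NoEmbedded (CohB1.tensorMod ((Scheme.Modules.pullback (pullback.fst f g)).obj F) ((Scheme.Modules.pullback (pullback.snd f g)).obj G)) := by
  have H : IsPullback (pullback.snd f g) (pullback.fst f g) g f :=
    (IsPullback.of_hasPullback f g).flip
  intro z hz z' hz' h
  rw [K109.TensorS.mem_ass_tensorS_iff H F G hGfl] at hz hz'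
  obtain ⟨hz1, hz2, hz3⟩ := hz
  obtain ⟨hz1', hz2', hz3'⟩ := hz'
  have e1 : pullback.fst f g z = pullback.fst f g z' :=
    hFne _ hz1 _ hz1' (h.map (pullback.fst f g).continuous)
  have hfg : ∀ w : ↥(pullback f g), g (pullback.snd f g w) = f (pullback.fst f g w) := fun w => by
    have h3 : (pullback.fst f g ≫ f) w = (pullback.snd f g ≫ g) w := by
      rw [pullback.condition]
    exact h3.symm
  have a2 : ∀ w : ↥(pullback f g), pullback.fst f g w ∈ AssSch.Ass F →
      Groth.Agent.Fdesc.AssFlat.FibAss g G (pullback.snd f g w) →
      pullback.snd f g w ∈ AssSch.Ass G := by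
    intro w hw1 hw2
    refine (K109.FlatBase.mem_ass_iff_of_flat g G hGfl _).mpr ⟨?_, hw2⟩
    change g (pullback.snd f g w) ∈ _
    rw [hfg w]
    exact hAss _ hw1
  have e2 : pullback.snd f g z = pullback.snd f g z' :=
    hGne _ (a2 z hz1 hz2) _ (a2 z' hz1' hz2') (h.map (pullback.snd f g).continuous)
  have m := K109.TensorT.mem_image_of z hz3
  have m' := K109.TensorT.mem_image_of z' hz3'
  rw [← e1, ← e2] at m'
  exact K109.TensorNoEmb.eq_of_mem_image m m' h


end Groth.Agent.S4671
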