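import Groth.Statements.S4675
import Mathlib.Algebra.Module.Submodule.Equiv

set_option autoImplicit false
universe u v
open FDesc

namespace Groth.Agent.S4675

/-- Let B be a ring, not necessarily commutative, and V, W two left B-modules which are isomorphic. For
a B-linear map u : V → W the following are equivalent: every B-linear map V → W can be written
uniquely as u ∘ c with c a B-linear endomorphism of V (that is, u is a basis of Hom_B(V, W) for its
right module structure over End_B(V)); u is bijective. -/
theorem result {B : Type u} [Ring B] {V W : Type v} [AddCommGroup V] [AddCommGroup W]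
    [Module B V] [Module B W] (e : V ≃ₗ[B] W) (u : V →ₗ[B] W) :
    (∀ v : V →ₗ[B] W, ∃! c : V →ₗ[B] V, v = u ∘ₗ c) ↔ Function.Bijective u := by
  constructor
  · intro h
    obtain ⟨c, hc, -⟩ := h e.toLinearMap
    have hcw : ∀ w : W, u (c (e.symm w)) = w := fun w => by
      have := LinearMap.congr_fun hc (e.symm w)
      simpa using this.symm
    refine ⟨?_, fun w => ⟨c (e.symm w), hcw w⟩⟩
    obtain ⟨c0, -, hu0⟩ := h u
    have h1 : (LinearMap.id : V →ₗ[B] V) = c0 := hu0 _ (by ext; rfl)
    have h2 : c ∘ₗ e.symm.toLinearMap ∘ₗ u = c0 := hu0 _ (by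
      ext x
      exact (hcw (u x)).symm)
    have h3 : ∀ x, c (e.symm (u x)) = x := fun x => LinearMap.congr_fun (h2.trans h1.symm) x
    intro x y hxy
    rw [← h3 x, ← h3 y, hxy]
  · intro h v
    let f := LinearEquiv.ofBijective u h
    refine ⟨f.symm.toLinearMap ∘ₗ v, ?_, ?_⟩
    · ext x
      exact (f.apply_symm_apply (v x)).symm
    · intro c hc
      ext x
      have : v x = f (c x) := LinearMap.congr_fun hc x
      simp [this]

end Groth.Agent.S4675
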