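import Groth.Statements.S4679
import Groth.Agent.FDesc.K108.FlatFib

set_option autoImplicit false
open CategoryTheory AlgebraicGeometry
universe u
open FDesc

namespace Groth.Agent.S4679

open CategoryTheory.Limits in
/-- Let f : X → Y, g : Y' → Y and h : Y' → Z be morphisms of schemes and X' = X ×_Y Y' with projections
p : X' → X, q : X' → Y'. Call a quasi-coherent module M on a scheme T faithfully flat relative to a
morphism t : T → B when M is flat over B and for every point b of B there is a point u of T over b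
with M_u ⊗ κ(b) ≠ 0. Let F be a quasi-coherent O_X-module which is faithfully flat relative to Y and
G' a quasi-coherent O_{Y'}-module. Then G' is flat over Z if and only if p^*F ⊗ q^*G' is flat over Z
(for q followed by h); and G' is faithfully flat relative to Z if and only if p^*F ⊗ q^*G' is
faithfully flat relative to Z. -/
theorem result {X Y Y' Z : Scheme.{u}} (f : X ⟶ Y) (g : Y' ⟶ Y)
    (h : Y' ⟶ Z) (F : X.Modules) (hF : Coh.IsQCoh F) (hFfl : FlatMod.IsFlatOver f F)
    (hFff : ∀ y : ↥Y, ∃ x : ↥X, f x = y ∧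
      letI := FlatMod.moduleStalkOver f F x
      IsLocalRing.maximalIdeal (Y.presheaf.stalk (f x)) • (⊤ : Submodule (Y.presheaf.stalk (f x)) (F.presheaf.stalk x)) ≠ ⊤)
    (G' : Y'.Modules) (hG' : Coh.IsQCoh G') :
    (FlatMod.IsFlatOver h G' ↔ FlatMod.IsFlatOver (pullback.snd f g ≫ h) (CohB1.tensorMod ((Scheme.Modules.pullback (pullback.fst f g)).obj F) ((Scheme.Modules.pullback (pullback.snd f g)).obj G'))) ∧
    ((FlatMod.IsFlatOver h G' ∧ ∀ z : ↥Z, ∃ y' : ↥Y', h y' = z ∧
        letI := FlatMod.moduleStalkOver h G' y'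
        IsLocalRing.maximalIdeal (Z.presheaf.stalk (h y')) • (⊤ : Submodule (Z.presheaf.stalk (h y')) (G'.presheaf.stalk y')) ≠ ⊤) ↔
      (FlatMod.IsFlatOver (pullback.snd f g ≫ h) (CohB1.tensorMod ((Scheme.Modules.pullback (pullback.fst f g)).obj F) ((Scheme.Modules.pullback (pullback.snd f g)).obj G')) ∧
        ∀ z : ↥Z, ∃ x' : ↥(pullback f g), (pullback.snd f g ≫ h) x' = z ∧
          letI := FlatMod.moduleStalkOver (pullback.snd f g ≫ h) (CohB1.tensorMod ((Scheme.Modules.pullback (pullback.fst f g)).obj F) ((Scheme.Modules.pullback (pullback.snd f g)).obj G')) x'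
          IsLocalRing.maximalIdeal (Z.presheaf.stalk ((pullback.snd f g ≫ h) x')) •
            (⊤ : Submodule (Z.presheaf.stalk ((pullback.snd f g ≫ h) x')) ((CohB1.tensorMod ((Scheme.Modules.pullback (pullback.fst f g)).obj F) ((Scheme.Modules.pullback (pullback.snd f g)).obj G')).presheaf.stalk x')) ≠ ⊤)) := by
  have H := IsPullback.of_hasPullback f g
  have hfl : FlatMod.IsFlatOver (pullback.snd f g) ((Scheme.Modules.pullback (pullback.fst f g)).obj F) :=
    fun x' => Groth.Agent.Fdesc.FlatBC.isFlatOverAt_pullback H F x' (hFfl _)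
  have hff : ∀ y' : Y', ∃ x' : ↥(pullback f g), pullback.snd f g x' = y' ∧
      K108.FlatFib.FF (pullback.snd f g) ((Scheme.Modules.pullback (pullback.fst f g)).obj F) x' := by
    intro y'
    obtain ⟨x, hx, hx'⟩ := hFff (g y')
    obtain ⟨x', hx1, hx2⟩ := Scheme.Pullback.exists_preimage_pullback x y' hx
    refine ⟨x', hx2, ?_⟩
    rw [K108.FlatFib.ff_pullback_iff H, hx1]
    exact hx'
  have h1 : FlatMod.IsFlatOver h G' ↔ FlatMod.IsFlatOver (pullback.snd f g ≫ h) (CohB1.tensorMod ((Scheme.Modules.pullback (pullback.fst f g)).obj F) ((Scheme.Modules.pullback (pullback.snd f g)).obj G')) := by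
    constructor
    · intro hG x'
      exact K108.FlatFib.isFlatOverAt_tensor _ _ _ _ _ (hfl x') (hG _)
    · intro hT y'
      obtain ⟨x', rfl, hx'⟩ := hff y'
      exact K108.FlatFib.isFlatOverAt_of_tensor _ _ _ _ _ (hfl x') hx' (hT x')
  refine ⟨h1, and_congr h1 ?_⟩
  constructor
  · intro hG z
    obtain ⟨y', rfl, hy'⟩ := hG z
    obtain ⟨x', rfl, hx'⟩ := hff y'
    exact ⟨x', rfl, K108.FlatFib.ff_tensor _ _ _ _ _ (hfl x') hx' hy'⟩
  · intro hT z
    obtain ⟨x', rfl, hx'⟩ := hT z
    exact ⟨pullback.snd f g x', rfl, K108.FlatFib.ff_of_tensor _ _ _ _ _ hx'⟩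

end Groth.Agent.S4679
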