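import Groth.Statements.S4681
import Groth.Agent.FDesc.K108.FlatFib

set_option autoImplicit false
open CategoryTheory AlgebraicGeometry
universe u
open FDesc

namespace Groth.Agent.S4681

/-- Let f : X → Y and g : Y → Z be morphisms of schemes and F a quasi-coherent O_X-module which is
faithfully flat relative to Y: flat over Y, and for every point y of Y there is a point x over y
with F_x ⊗ κ(y) ≠ 0. Then g is flat and surjective (faithfully flat) if and only if F is faithfully
flat relative to Z for the morphism f followed by g: flat over Z, and for every point z of Z there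
is a point x of X over z with F_x ⊗ κ(z) ≠ 0. -/
theorem result {X Y Z : Scheme.{u}} (f : X ⟶ Y) (g : Y ⟶ Z)
    (F : X.Modules) (hF : Coh.IsQCoh F) (hFfl : FlatMod.IsFlatOver f F)
    (hFff : (∀ y : ↥Y, ∃ x : ↥X, f x = y ∧
      letI := FlatMod.moduleStalkOver f F x
      IsLocalRing.maximalIdeal (Y.presheaf.stalk (f x)) • (⊤ : Submodule (Y.presheaf.stalk (f x)) (F.presheaf.stalk x)) ≠ ⊤)) :
    (Flat g ∧ Surjective g) ↔
      (FlatMod.IsFlatOver (f ≫ g) F ∧
        (∀ z : ↥Z, ∃ x : ↥X, (f ≫ g) x = z ∧
      letI := FlatMod.moduleStalkOver (f ≫ g) F x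
      IsLocalRing.maximalIdeal (Z.presheaf.stalk ((f ≫ g) x)) • (⊤ : Submodule (Z.presheaf.stalk ((f ≫ g) x)) (F.presheaf.stalk x)) ≠ ⊤)) := by
  constructor
  · rintro ⟨hg, hs⟩
    constructor
    · intro x
      letI := Groth.Agent.Fdesc.PullbackStalk.stalkAlg g (f.base x)
      letI := FlatMod.moduleStalkOver f F x
      letI := K108.FlatMods.modZ f g F x
      haveI := K108.FlatMods.towerY f g F x
      haveI : Module.Flat (Y.presheaf.stalk (f.base x)) (F.presheaf.stalk x) := hFfl x
      haveI : Module.Flat (Z.presheaf.stalk (g.base (f.base x))) (Y.presheaf.stalk (f.base x)) :=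
        Flat.stalkMap g _
      exact Module.Flat.trans (Z.presheaf.stalk (g.base (f.base x))) (Y.presheaf.stalk (f.base x)) (F.presheaf.stalk x)
    · intro z
      obtain ⟨y, rfl⟩ := g.surjective z
      obtain ⟨x, rfl, hx⟩ := hFff y
      refine ⟨x, rfl, ?_⟩
      letI := Groth.Agent.Fdesc.PullbackStalk.stalkAlg g (f.base x)
      letI := FlatMod.moduleStalkOver f F x
      letI := K108.FlatMods.modZ f g F x
      haveI := K108.FlatMods.towerY f g F x
      haveI : IsLocalHom (algebraMap (Z.presheaf.stalk (g.base (f.base x))) (Y.presheaf.stalk (f.base x))) :=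
        inferInstanceAs (IsLocalHom (g.stalkMap (f x)).hom)
      intro h1
      exact hx (K108.FlatAlg2.smul_top_eq_top_of_tower (A := Z.presheaf.stalk (g.base (f.base x)))
        (B := Y.presheaf.stalk (f.base x)) h1)
  · rintro ⟨hfl, hff⟩
    constructor
    · rw [Flat.iff_flat_stalkMap]
      intro y
      obtain ⟨x, rfl, hx⟩ := hFff y
      letI := Groth.Agent.Fdesc.PullbackStalk.stalkAlg g (f.base x)
      letI := FlatMod.moduleStalkOver f F x
      letI := K108.FlatMods.modZ f g F x
      haveI := K108.FlatMods.towerY f g F x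
      haveI : Module.FaithfullyFlat (Y.presheaf.stalk (f.base x)) (F.presheaf.stalk x) :=
        K108.FlatFib.faithfullyFlat_of_ff f F x (hFfl x) hx
      haveI : Module.Flat (Z.presheaf.stalk (g.base (f.base x))) (F.presheaf.stalk x) := hfl x
      have : Module.Flat (Z.presheaf.stalk (g.base (f.base x))) (Y.presheaf.stalk (f.base x)) :=
        K108.FlatAlg2.flat_of_faithfullyFlat_module (F.presheaf.stalk x)
      exact this
    · constructor
      intro z
      obtain ⟨x, rfl, -⟩ := hff z
      exact ⟨f x, rfl⟩

end Groth.Agent.S4681
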