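import Groth.Statements.S4683
import Groth.Agent.AssSch.K109.Comp
import Groth.Agent.CohqA.DevSub

set_option autoImplicit false
open CategoryTheory AlgebraicGeometry
universe u
open AssSch

namespace Groth.Agent.S4683

open Groth.Agent.Ega1 Groth.Agent.CohqA Groth.Agent.CohqA.AssInj

/-- The common kernel of a family of morphisms. -/
noncomputable def kerSub {X : Scheme.{u}} {M : X.Modules} {ι : Type*} {G : ι → X.Modules}
    (q : ∀ i, M ⟶ G i) : SubSheaf.Sub M where
  obj U :=
    { carrier := {s | ∀ i, (q i).app U s = 0}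
      add_mem' := fun {a b} ha hb i => by
        change (q i).app U (a + b) = 0
        rw [map_add, ha i, hb i, add_zero]
      zero_mem' := fun i => map_zero _
      smul_mem' := fun r s hs i => by
        change (q i).app U (r • s) = 0
        rw [SubSheaf.app_smul', hs i, smul_zero] }
  map_mem := fun {U V} h {s} hs i => by
    rw [SubSheaf.app_res, hs i, map_zero]
  local_mem := fun {U} s h i => by
    refine SubSheaf.section_ext (G i) _ _ fun x hx => ?_
    obtain ⟨V, hV, hxV, h1⟩ := h x hx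
    refine ⟨V, hV, hxV, ?_⟩
    rw [map_zero, ← SubSheaf.app_res]
    exact h1 i

/-- Joint injectivity on sections. -/
theorem eq_zero_of_forall {X : Scheme.{u}} {M : X.Modules} {ι : Type*} {G : ι → X.Modules}
    (q : ∀ i, M ⟶ G i)
    (hm : ∀ (T : X.Modules) (a b : T ⟶ M), (∀ x, a ≫ q x = b ≫ q x) → a = b)
    {U : X.Opens} (s : Γ(M, U)) (hs : ∀ i, (q i).app U s = 0) : s = 0 := by
  have h := hm _ (kerSub q).ι 0 (fun i => by
    rw [Limits.zero_comp, DevSub.eq_zero_iff]
    intro V t
    exact (kerSub q).ι_app_mem t i)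
  have hs' : s ∈ (kerSub q).obj U := hs
  have h1 : (kerSub q).ι.app U ((kerSub q).sec s hs') = 0 := by
    rw [h]; rfl
  rwa [SubSheaf.Sub.ι_app_sec] at h1

theorem app_eq_zero_iff {X : Scheme.{u}} [IsLocallyNoetherian X] (M : X.Modules)
    (hM : Coh.IsCoh M) (hne : AssSch.NoEmbedded M)
    (G : ↥(AssSch.Ass M) → X.Modules) (q : ∀ x, M ⟶ G x)
    (hG : ∀ x, Coh.IsCoh (G x)) (hA : ∀ x, AssSch.Ass (G x) = {x.1})
    (hm : ∀ (T : X.Modules) (a b : T ⟶ M), (∀ x, a ≫ q x = b ≫ q x) → a = b)
    (x : ↥(AssSch.Ass M)) (V : X.Opens) (s : Γ(M, V)) :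
    (q x).app V s = 0 ↔
      ∃ (V' : X.Opens) (h : V' ≤ V), (x.1 ∈ V → x.1 ∈ V') ∧ SubSheaf.res M h s = 0 := by
  constructor
  · intro h
    by_cases hxV : x.1 ∈ V
    · obtain ⟨V', hV'V, hxV', hV'⟩ := K109.Comp.exists_nhds M hM x.1 V hxV
      refine ⟨V', hV'V, fun _ => hxV', ?_⟩
      apply eq_zero_of_forall q hm
      intro y
      rw [SubSheaf.app_res]
      by_cases hyx : y = x
      · rw [hyx, h, map_zero]
      · have hyV' : y.1 ∉ V' := fun hy => hyx (Subtype.ext
          (hne x.1 x.2 y.1 y.2 (hV' y.1 y.2 hy)).symm)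
        have i1 : Function.Injective (SubSheaf.res (G y) (bot_le : ⊥ ≤ V')) :=
          res_injective (hG y).1 _ (fun z hz hzV => absurd hzV (by
            rw [hA y] at hz
            rw [(hz : z = y.1)]
            exact hyV'))
        apply i1
        exact SubSheaf.section_ext _ _ _ fun z hz => absurd hz (by simp)
    · exact ⟨⊥, bot_le, fun hx => absurd hx hxV,
        SubSheaf.section_ext _ _ _ fun z hz => absurd hz (by simp)⟩
  · rintro ⟨V', hV', hx, hs⟩
    have i1 : Function.Injective (SubSheaf.res (G x) hV') :=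
      res_injective (hG x).1 _ (fun z hz hzV => by
        rw [hA x] at hz
        rw [(hz : z = x.1)] at hzV ⊢
        exact hx hzV)
    apply i1
    rw [← SubSheaf.app_res, hs, map_zero, map_zero]

/-- Let X be a locally Noetherian scheme and M a coherent O_X-module without embedded associated points.
Then M has only one reduced irredundant decomposition: if (q_x : M → G_x) and (q'_x : M → G'_x) are
two families of coherent quotients of M indexed by the associated points x of M, with Ass(G_x) =
Ass(G'_x) = {x} for every x and each family jointly monomorphic (M embeds in the product), then for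
every x there is an isomorphism G_x ≅ G'_x under M (it is unique, q_x being an epimorphism). -/
theorem result {X : Scheme.{u}} [IsLocallyNoetherian X] (M : X.Modules)
    (hM : Coh.IsCoh M) (hne : AssSch.NoEmbedded M)
    (G G' : ↥(AssSch.Ass M) → X.Modules) (q : ∀ x, M ⟶ G x) (q' : ∀ x, M ⟶ G' x)
    (hq : ∀ x, Epi (q x)) (hq' : ∀ x, Epi (q' x)) (hG : ∀ x, Coh.IsCoh (G x)) (hG' : ∀ x, Coh.IsCoh (G' x))
    (hA : ∀ x, AssSch.Ass (G x) = {x.1}) (hA' : ∀ x, AssSch.Ass (G' x) = {x.1})
    (hm : ∀ (T : X.Modules) (a b : T ⟶ M), (∀ x, a ≫ q x = b ≫ q x) → a = b)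
    (hm' : ∀ (T : X.Modules) (a b : T ⟶ M), (∀ x, a ≫ q' x = b ≫ q' x) → a = b) (x : ↥(AssSch.Ass M)) :
    ∃ e : G x ≅ G' x, q x ≫ e.hom = q' x := by
  obtain ⟨K, π, f', g', -, hπ, hf', hg', hf, hg⟩ := DevSub.exists_coimage (q x) (q' x)
    (fun T t => by
      rw [DevSub.eq_zero_iff, DevSub.eq_zero_iff]
      refine forall_congr' fun V => forall_congr' fun s => ?_
      exact (app_eq_zero_iff M hM hne G q hG hA hm x V (t.app V s)).trans
        (app_eq_zero_iff M hM hne G' q' hG' hA' hm' x V (t.app V s)).symm)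
  have := hq x
  have := hq' x
  have h1 : Epi f' := epi_of_epi_fac hf
  have h2 : Epi g' := epi_of_epi_fac hg
  have h3 : IsIso f' := isIso_of_mono_of_epi f'
  have h4 : IsIso g' := isIso_of_mono_of_epi g'
  refine ⟨(asIso f').symm ≪≫ asIso g', ?_⟩
  simp only [Iso.trans_hom, Iso.symm_hom, asIso_inv, asIso_hom]
  rw [← hf, Category.assoc, IsIso.hom_inv_id_assoc, hg]


end Groth.Agent.S4683
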