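import Groth.Statements.S4685
import Groth.Agent.AssSch.K109.TensorNoEmb
import Groth.Agent.AssSch.K109.FlatBase

set_option autoImplicit false
open CategoryTheory AlgebraicGeometry
universe u
open AssSch

namespace Groth.Agent.S4685

open CategoryTheory.Limits in
/-- Let f : X → S and g : Y → S be morphisms of schemes with X, Y and X ×_S Y locally Noetherian, F a
quasi-coherent O_X-module without embedded associated points, and G a quasi-coherent O_Y-module,
flat over S, whose restriction to every fibre g⁻¹(s) has no embedded associated points. Then F ⊗_S G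
(the tensor product on X ×_S Y of the pull-backs of F and G along the two projections) has no
embedded associated points. (The published statement assumes only X, the fibres of g and the schemes
Spec κ(x) ×_S Spec κ(y) locally Noetherian; this row assumes Y and X ×_S Y locally Noetherian, which
implies all of these, so that associated points are those whose maximal ideal is the annihilator of
an element of the stalk.) -/
theorem result {X Y S : Scheme.{u}} (f : X ⟶ S) (g : Y ⟶ S)
    [IsLocallyNoetherian X] [IsLocallyNoetherian Y] [IsLocallyNoetherian (pullback f g)]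
    (F : X.Modules) (hF : Coh.IsQCoh F) (G : Y.Modules) (hG : Coh.IsQCoh G) (hGfl : FlatMod.IsFlatOver g G)
    (hFne : AssSch.NoEmbedded F)
    (hGne : ∀ s : ↥S, AssSch.NoEmbedded ((Scheme.Modules.pullback (g.fiberι s)).obj G)) :
    AssSch.NoEmbedded (CohB1.tensorMod ((Scheme.Modules.pullback (pullback.fst f g)).obj F) ((Scheme.Modules.pullback (pullback.snd f g)).obj G)) := by
  have H : IsPullback (pullback.snd f g) (pullback.fst f g) g f :=
    (IsPullback.of_hasPullback f g).flip
  intro z hz z' hz' h
  rw [K109.TensorS.mem_ass_tensorS_iff H F G hGfl] at hz hz'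
  obtain ⟨hz1, hz2, hz3⟩ := hz
  obtain ⟨hz1', hz2', hz3'⟩ := hz'
  have e1 : pullback.fst f g z = pullback.fst f g z' :=
    hFne _ hz1 _ hz1' (h.map (pullback.fst f g).continuous)
  have hfg : ∀ w : ↥(pullback f g), g (pullback.snd f g w) = f (pullback.fst f g w) := fun w => by
    have h3 : (pullback.fst f g ≫ f) w = (pullback.snd f g ≫ g) w := by
      rw [pullback.condition]
    exact h3.symm
  have e2 : pullback.snd f g z = pullback.snd f g z' := by
    obtain ⟨w, hw⟩ := CycB.FiberKer.exists_fiberι_eq g (f (pullback.fst f g z)) _ (hfg z)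
    obtain ⟨w', hw'⟩ := CycB.FiberKer.exists_fiberι_eq g (f (pullback.fst f g z)) _
      ((hfg z').trans (congrArg f e1.symm))
    rw [← hw, ← hw']
    have h2 : pullback.snd f g z' ⤳ pullback.snd f g z := h.map (pullback.snd f g).continuous
    rw [← hw, ← hw', CycB.FiberKer.specializes_fiberι_iff] at h2
    have b := (Groth.Agent.Fdesc.AssFlat.mem_Ass_fiber_iff g G _ w).mpr (hw ▸ hz2)
    have b' := (Groth.Agent.Fdesc.AssFlat.mem_Ass_fiber_iff g G _ w').mpr (hw' ▸ hz2')
    rw [hGne _ w b w' b' h2]
  have m := K109.TensorT.mem_image_of z hz3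
  have m' := K109.TensorT.mem_image_of z' hz3'
  rw [← e1, ← e2] at m'
  exact K109.TensorNoEmb.eq_of_mem_image m m' h


end Groth.Agent.S4685
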