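import Groth.Statements.S4687
import Groth.Agent.FBase.K107.LenStalk

set_option autoImplicit false
open CategoryTheory AlgebraicGeometry
universe u
open FBase

namespace Groth.Agent.S4687

/-- Let X be an integral locally Noetherian scheme over a field k, k′ an extension field of k such that
X′ = X ⊗_k k′ is locally Noetherian, and k″ an extension field of k′ which is separable over k′
(Spec k″ → Spec k′ geometrically reduced) and such that (X′)_red ⊗_{k′} k″ is locally Noetherian.
Then for every maximal point x″ of X″ = X′ ⊗_{k′} k″ (generic point of an irreducible component),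
with image x′ in X′, the local rings O_{X″,x″} and O_{X′,x′} have the same length, each as a module
over itself, with values in ℕ∞. -/
theorem result {k k' k'' : Type u} [Field k] [Field k'] [Field k''] [Algebra k k']
    [Algebra k' k''] {X : Scheme.{u}} (f : X ⟶ Spec (CommRingCat.of k)) [IsIntegral X] [IsLocallyNoetherian X]
    [IsLocallyNoetherian (FBase.bc f k')] [GeometricallyReduced (Spec.map (CommRingCat.ofHom (algebraMap k' k'')))]
    [IsLocallyNoetherian (FBase.bc ((FBase.bc f k').nilradical.subschemeι ≫ FBase.bcStr f k') k'')]
    (x'' : ↥(FBase.bc (FBase.bcStr f k') k'')) (hx'' : ∀ z : ↥(FBase.bc (FBase.bcStr f k') k''), z ⤳ x'' → z = x'') :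
    Module.length ((FBase.bc (FBase.bcStr f k') k'').presheaf.stalk x'') ((FBase.bc (FBase.bcStr f k') k'').presheaf.stalk x'') =
      Module.length ((FBase.bc f k').presheaf.stalk (FBase.bcπ (FBase.bcStr f k') k'' x''))
        ((FBase.bc f k').presheaf.stalk (FBase.bcπ (FBase.bcStr f k') k'' x'')) := by
  have H := K107.LenStalk.isPullback_map (FBase.bc f k').nilradical.subschemeι (FBase.bcStr f k')
    (Spec.map (CommRingCat.ofHom (algebraMap k' k''))) (Category.comp_id _)
    ((Category.comp_id _).trans (Category.id_comp _).symm)
  have hr := K107.LenStalk.isReduced_subscheme_nilradical (FBase.bc f k')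
  have hfl : Flat (Limits.pullback.fst (FBase.bcStr f k')
      (Spec.map (CommRingCat.ofHom (algebraMap k' k'')))) := inferInstance
  have hsι : Surjective (FBase.bc f k').nilradical.subschemeι := by
    refine ⟨?_⟩
    rw [← Set.range_eq_univ, Scheme.IdealSheafData.range_subschemeι]
    rw [← Scheme.IdealSheafData.vanishingIdeal_top, K107.Sep.support_vanishingIdeal]
    rfl
  have hsj := MorphismProperty.of_isPullback (P := @Surjective) H.flip hsι
  obtain ⟨z'', hz''⟩ := hsj.surj x''
  subst hz''
  have hg := Groth.Agent.Fdesc.GenTop.mem_genericPoints_iff.2 hx''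
  have hrZ : IsReduced (Limits.pullback ((FBase.bc f k').nilradical.subschemeι ≫ FBase.bcStr f k')
      (Spec.map (CommRingCat.ofHom (algebraMap k' k'')))) := K107.Sep.isReduced_pullback _
  exact K107.LenStalk.length_stalk_eq H z'' hg (Groth.Agent.Fdesc.GenTop.map_mem_genericPoints
      (K107.DimComp.generalizing_fst (FBase.bcStr f k') _) hg)

end Groth.Agent.S4687
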