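import Groth.Statements.S4688
import Groth.Agent.Ega4B.DimFT2

set_option autoImplicit false
universe u
open EGA4

namespace Groth.Agent.S4688

open Polynomial in
theorem liesOver_map_C (A : Type u) [CommRing A] (p : Ideal A) [p.IsPrime] :
    (p.map (Polynomial.C : A →+* A[X])).LiesOver p := by
  constructor
  refine le_antisymm Ideal.le_comap_map ?_
  intro a ha
  have h : (Polynomial.C a : A[X]) ∈ p.map (Polynomial.C : A →+* A[X]) := ha
  rw [Ideal.mem_map_C_iff] at h
  simpa using h 0

open Polynomial in
theorem height_one_aux (A S : Type u) [CommRing A] [CommRing S] (p : Ideal A) [p.IsPrime]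
    (e : (A ⧸ p)[X] ≃+* S) (Q : Ideal S) [Q.IsPrime] (h0 : Q ≠ ⊥)
    (h : ∀ a : A, e (C (Ideal.Quotient.mk p a)) ∈ Q → a ∈ p) : Q.height = 1 := by
  let P' : Ideal (A ⧸ p)[X] := Q.comap (e : (A ⧸ p)[X] →+* S)
  have hP'p : P'.IsPrime := Ideal.IsPrime.comap _
  have hQ : Q = P'.map (e : (A ⧸ p)[X] →+* S) :=
    (Ideal.map_comap_of_surjective (e : (A ⧸ p)[X] →+* S) e.surjective Q).symm
  have hP'0 : P' ≠ ⊥ := by
    intro h1
    apply h0
    rw [hQ, h1, Ideal.map_bot]
  have hP'u : P'.under (A ⧸ p) = ⊥ := by
    rw [eq_bot_iff]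
    intro x hx
    obtain ⟨a, rfl⟩ := Ideal.Quotient.mk_surjective x
    rw [Ideal.mem_bot, Ideal.Quotient.eq_zero_iff_mem]
    exact h a hx
  have h1 := Groth.Agent.Ega4B.DimFT2.height_eq_one_of_under_eq_bot P' hP'0 hP'u
  have h2 : Q.height = P'.height := by
    rw [hQ]
    exact RingEquiv.height_map e P'
  rw [h2, h1]

open Polynomial in
theorem aux (A : Type u) [CommRing A] [IsNoetherianRing A]
    (p : Ideal A) [p.IsPrime] (q : Ideal A[X]) [q.IsPrime] [q.LiesOver p]
    (hne : q ≠ p.map (Polynomial.C : A →+* A[X])) :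
    (q.map (Ideal.Quotient.mk (p.map (algebraMap A A[X])))).height = 1 := by
  have hle : p.map (algebraMap A A[X]) ≤ q := by
    rw [Ideal.map_le_iff_le_comap]
    exact (Ideal.LiesOver.over (P := q) (p := p)).le
  have hQp : (q.map (Ideal.Quotient.mk (p.map (algebraMap A A[X])))).IsPrime :=
    Ideal.map_isPrime_of_surjective Ideal.Quotient.mk_surjective (by rw [Ideal.mk_ker]; exact hle)
  have hQc : (q.map (Ideal.Quotient.mk (p.map (algebraMap A A[X])))).comap
      (Ideal.Quotient.mk (p.map (algebraMap A A[X]))) = q := by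
    rw [Ideal.comap_map_of_surjective _ Ideal.Quotient.mk_surjective, ← RingHom.ker_eq_comap_bot,
      Ideal.mk_ker]
    exact sup_eq_left.mpr hle
  refine height_one_aux A (A[X] ⧸ (p.map (algebraMap A A[X]))) p
    (Ideal.polynomialQuotientEquivQuotientPolynomial p) _ ?_ ?_
  · intro h0
    apply hne
    rw [← hQc, h0, ← RingHom.ker_eq_comap_bot, Ideal.mk_ker]
    rfl
  · intro a ha
    have h1 := Ideal.polynomialQuotientEquivQuotientPolynomial_map_mk p (C a)
    rw [Polynomial.map_C] at h1
    rw [h1] at ha
    have h2 : (C a : A[X]) ∈ q := by rw [← hQc]; exact ha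
    exact (Ideal.mem_of_liesOver q p a).mpr h2

open Polynomial in
/-- Let A be a Noetherian ring, p a prime ideal of A and q a prime ideal of the polynomial ring A[T]
lying over p. Then the extended ideal p A[T] has the same height as p, and if q is different from p
A[T] one has ht(q) = ht(p) + 1. (The remaining assertions of the published item, that p A[T] is
prime over p and that there are infinitely many pairwise incomparable such q, are not restated.) -/
theorem result (A : Type u) [CommRing A] [IsNoetherianRing A]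
    (p : Ideal A) [p.IsPrime] (q : Ideal A[X]) [q.IsPrime] [q.LiesOver p] :
    (p.map (Polynomial.C : A →+* A[X])).height = p.height ∧
      (q ≠ p.map (Polynomial.C : A →+* A[X]) → q.height = p.height + 1) := by
  have hpC : (p.map (Polynomial.C : A →+* A[X])).IsPrime := Ideal.isPrime_map_C_of_isPrime
  have hlo := liesOver_map_C A p
  constructor
  · have h := Ideal.height_eq_height_add_of_liesOver_of_hasGoingDown p
      (p.map (Polynomial.C : A →+* A[X]))
    rw [h]
    have : (p.map (Polynomial.C : A →+* A[X])).map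
        (Ideal.Quotient.mk (p.map (algebraMap A A[X]))) = ⊥ := by
      rw [Ideal.map_eq_bot_iff_le_ker, Ideal.mk_ker]
      exact le_rfl
    rw [this]
    have : IsDomain (A[X] ⧸ (p.map (algebraMap A A[X]))) := (Ideal.Quotient.isDomain_iff_prime _).mpr hpC
    simp
  · intro hne
    rw [Ideal.height_eq_height_add_of_liesOver_of_hasGoingDown p q, aux A p q hne]

end Groth.Agent.S4688
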