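import Groth.Statements.S4689
import Groth.Agent.CalgA.DimFormula2

set_option autoImplicit false
universe u
open EGA4

namespace Groth.Agent.S4689

/-- Let A be a universally catenary Noetherian local domain and B a domain containing A which is a
finite A-algebra. Then for every maximal ideal n of B the local ring B_n has the same Krull
dimension as A. -/
theorem result (A B : Type u) [CommRing A] [IsDomain A]
    [IsNoetherianRing A] [IsLocalRing A] (hA : CAlg.IsUniversallyCatenary A) [CommRing B] [IsDomain B]
    [Algebra A B] [FaithfulSMul A B] [Module.Finite A B] (n : Ideal B) [n.IsMaximal] :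
    ringKrullDim (Localization.AtPrime n) = ringKrullDim A := by
  have hint : Algebra.IsIntegral A B := inferInstance
  have hmax : (n.under A).IsMaximal := Ideal.isMaximal_comap_of_isIntegral_of_isMaximal n
  have hm : n.under A = IsLocalRing.maximalIdeal A := IsLocalRing.eq_maximalIdeal hmax
  have hlo : n.LiesOver (IsLocalRing.maximalIdeal A) := ⟨hm.symm⟩
  obtain ⟨a, b, t, t', e1, e2, e3, e4, -, e5⟩ :=
    Groth.Agent.CalgA.DimFormula2.exists_dimension_formula (IsLocalRing.maximalIdeal A) n
  have h5 := e5 hA
  have ht : t = 0 := by
    have : Algebra.trdeg A B = 0 := trdeg_eq_zero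
    rw [this] at e3
    exact_mod_cast e3.symm
  have ht' : t' = 0 := by
    have : Algebra.IsIntegral (A ⧸ IsLocalRing.maximalIdeal A) (B ⧸ n) := inferInstance
    have : Algebra.trdeg (A ⧸ IsLocalRing.maximalIdeal A) (B ⧸ n) = 0 :=
      trdeg_eq_zero
    rw [this] at e4
    exact_mod_cast e4.symm
  rw [IsLocalization.AtPrime.ringKrullDim_eq_height n, ← IsLocalRing.maximalIdeal_height_eq_ringKrullDim,
    e1, e2]
  have : a = b := by omega
  rw [this]

end Groth.Agent.S4689
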