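import Groth.Statements.S4692
import Groth.Agent.EGA4.K110.DimFib

set_option autoImplicit false
universe u
open EGA4

namespace Groth.Agent.S4692

open AlgebraicGeometry CategoryTheory in
theorem aux {X Y : Scheme.{u}} (f : X ⟶ Y) [IsLocallyNoetherian Y]
    [LocallyOfFiniteType f] [IrreducibleSpace X] (hY : ∀ y : Y, CAlg.IsUniversallyCatenary (Y.presheaf.stalk y))
    (n : ℕ) (h : ∀ y : Y, (n : WithBot ℕ∞) ≤ topologicalKrullDim (f.fiber y)) :
    ∃ y : Y, topologicalKrullDim X = topologicalKrullDim Y + topologicalKrullDim (f.fiber y) := by
  have hs : Function.Surjective f := by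
    intro y
    have h1 : topologicalKrullDim (f.fiber y) ≠ ⊥ := by
      intro h0
      have := h y
      rw [h0, le_bot_iff] at this
      exact absurd this (by
        change ((n : ℕ∞) : WithBot ℕ∞) ≠ ⊥
        exact WithBot.coe_ne_bot)
    have h2 : Nonempty (f.fiber y) := by
      by_contra hne
      rw [not_nonempty_iff] at hne
      apply h1
      have : IsEmpty (TopologicalSpace.IrreducibleCloseds (f.fiber y)) :=
        ⟨fun Z => by
          obtain ⟨z, -⟩ := Z.isIrreducible.1
          exact hne.false z⟩
      exact Order.krullDim_eq_bot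
    obtain ⟨z⟩ := h2
    have : f.fiberι y z ∈ Set.range (f.fiberι y) := ⟨z, rfl⟩
    rw [Scheme.Hom.range_fiberι] at this
    exact ⟨f.fiberι y z, this⟩
  have hS : Surjective f := ⟨hs⟩
  have hYi : IrreducibleSpace Y := by
    have := Function.Surjective.irreducibleSpace f.continuous hs
    exact this
  refine ⟨genericPoint Y, ?_⟩
  rw [K110.DimFib.dim_eq f hY, K110.DimFib.topologicalKrullDim_eq Y]
  congr 1
  have : Set.range f = Set.univ := hs.range_eq
  rw [this]
  simp

open AlgebraicGeometry CategoryTheory in
/-- Let Y be a locally Noetherian scheme all of whose local rings are universally catenary, X an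
irreducible scheme, f : X → Y a morphism locally of finite type and n a natural number. If every
fibre of f has dimension at least n then dim X ≥ dim Y + n; if every fibre has dimension exactly n
then dim X = dim Y + n. (The empty scheme has dimension ⊥, so either hypothesis forces f to be
surjective.) -/
theorem result {X Y : Scheme.{u}} (f : X ⟶ Y) [IsLocallyNoetherian Y]
    [LocallyOfFiniteType f] [IrreducibleSpace X] (hY : ∀ y : Y, CAlg.IsUniversallyCatenary (Y.presheaf.stalk y))
    (n : ℕ) :
    ((∀ y : Y, (n : WithBot ℕ∞) ≤ topologicalKrullDim (f.fiber y)) →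
        topologicalKrullDim Y + n ≤ topologicalKrullDim X) ∧
      ((∀ y : Y, topologicalKrullDim (f.fiber y) = n) →
        topologicalKrullDim X = topologicalKrullDim Y + n) := by
  constructor
  · intro h
    obtain ⟨y, hy⟩ := aux f hY n h
    rw [hy]
    gcongr
    exact h y
  · intro h
    obtain ⟨y, hy⟩ := aux f hY n fun y => (h y).ge
    rw [hy, h y]

end Groth.Agent.S4692
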