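import Groth.Statements.S4693
import Groth.Agent.Ega4A.FlatDim
import Groth.Agent.FibDim.K582.RingDim

set_option autoImplicit false
universe u
open EGA4

namespace Groth.Agent.S4693

/-- Let A → B be a local homomorphism of Noetherian local rings such that the closed fibre ring B/m_A B
has Krull dimension 0 (that is, m_A B is an ideal of definition of B). Then dim B ≤ dim A. If
moreover some finite B-module which is flat over A has support equal to all of Spec B (for instance
if B is flat over A), then dim B = dim A. -/
theorem result (A B : Type u) [CommRing A] [CommRing B] [IsNoetherianRing A]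
    [IsNoetherianRing B] [IsLocalRing A] [IsLocalRing B] [Algebra A B] [IsLocalHom (algebraMap A B)]
    (h0 : ringKrullDim (EGA4.FibRing A B) = 0) :
    ringKrullDim B ≤ ringKrullDim A ∧
      (∀ (N : Type u) [AddCommGroup N] [Module B N] [Module A N] [IsScalarTower A B N] [Module.Finite B N]
          [Module.Flat A N], Module.support B N = Set.univ → ringKrullDim B = ringKrullDim A) := by
  constructor
  · have h1 := (K582.RingDim.ringKrullDim_add A B).1
    change ringKrullDim B ≤ ringKrullDim A + ringKrullDim (EGA4.FibRing A B) at h1
    rwa [h0, add_zero] at h1
  · intro N _ _ _ _ _ _ hN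
    have hnt : Nontrivial N := by
      by_contra hne
      rw [not_nontrivial_iff_subsingleton] at hne
      have h1 : Module.support B N = ∅ := Module.support_eq_empty_iff.2 hne
      rw [h1] at hN
      exact Set.empty_ne_univ hN
    have h2 := Groth.Agent.Ega4A.FlatDim.supportDim_tensor_eq_add A B A N
    have h3 : Module.supportDim B (TensorProduct A N A) = Module.supportDim B N :=
      Module.supportDim_eq_of_equiv (TensorProduct.AlgebraTensorModule.rid A B N)
    have h4 : Module.supportDim B N = ringKrullDim B := by
      rw [Module.supportDim, hN]
      exact Order.krullDim_eq_of_orderIso OrderIso.Set.univ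
    have h5 : Module.supportDim A A = ringKrullDim A := Module.supportDim_self_eq_ringKrullDim A
    have hnt' : Nontrivial (EGA4.FibMod A B N) := by
      rw [Submodule.Quotient.nontrivial_iff]
      intro htop
      have hle : EGA4.mB A B ≤ IsLocalRing.maximalIdeal B :=
        IsLocalRing.map_maximalIdeal_le (algebraMap A B)
      have hbot : (⊤ : Submodule B N) = ⊥ :=
        Submodule.eq_bot_of_le_smul_of_le_jacobson_bot (EGA4.mB A B) ⊤
          Module.Finite.fg_top htop.ge (hle.trans (IsLocalRing.maximalIdeal_le_jacobson _))
      exact absurd hbot top_ne_bot
    have h6 : Module.supportDim B (N ⧸ (EGA4.mB A B • (⊤ : Submodule B N))) = 0 := by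
      apply le_antisymm
      · rw [← h0, Module.supportDim, ringKrullDim_quotient, Module.support_quotient]
        exact Order.krullDim_le_of_strictMono (fun x => ⟨x.1, x.2.2⟩) fun _ _ h => h
      · have h7 := Module.supportDim_ne_bot_of_nontrivial B (EGA4.FibMod A B N)
        change Module.supportDim B (N ⧸ (EGA4.mB A B • (⊤ : Submodule B N))) ≠ ⊥ at h7
        generalize Module.supportDim B (N ⧸ (EGA4.mB A B • (⊤ : Submodule B N))) = c at h7
        induction c using WithBot.recBotCoe with
        | bot => exact absurd rfl h7
        | coe c => exact_mod_cast (zero_le : (0 : ℕ∞) ≤ c)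
    rw [h3, h4, h5, h6, add_zero] at h2
    exact h2

end Groth.Agent.S4693
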