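import Groth.Statements.S4694
import Groth.Agent.Ega4A.DepthFlat

set_option autoImplicit false
universe u
open EGA4

namespace Groth.Agent.S4694

theorem depth_eq_zero_of_isFiniteLength {R M : Type u} [CommRing R] [IsNoetherianRing R]
    [IsLocalRing R] [AddCommGroup M] [Module R M] [Module.Finite R M] [Nontrivial M]
    (h : IsFiniteLength R M) : LocCoh.depth R M = 0 := by
  by_contra h0
  have h1 : 1 ≤ LocCoh.depth R M := ENat.one_le_iff_ne_zero.2 h0
  rw [Groth.Agent.Ega4A.DepthBasic.one_le_depth_iff] at h1
  obtain ⟨x, hx, hreg⟩ := h1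
  have hart : IsArtinian R M := (isFiniteLength_iff_isNoetherian_isArtinian.1 h).2
  have hsurj : Function.Surjective (LinearMap.lsmul R M x) :=
    IsArtinian.surjective_of_injective_endomorphism _ hreg
  have htop : (IsLocalRing.maximalIdeal R) • (⊤ : Submodule R M) = ⊤ := by
    rw [eq_top_iff]
    intro m _
    obtain ⟨m', rfl⟩ := hsurj m
    exact Submodule.smul_mem_smul hx trivial
  have hbot : (⊤ : Submodule R M) = ⊥ :=
    Submodule.eq_bot_of_le_smul_of_le_jacobson_bot (IsLocalRing.maximalIdeal R) ⊤
      Module.Finite.fg_top htop.ge (IsLocalRing.maximalIdeal_le_jacobson _)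
  exact absurd hbot top_ne_bot

open TensorProduct in
/-- Let A → B be a local homomorphism of Noetherian local rings, M a finite A-module and N a nonzero
finite B-module, flat over A, whose closed-fibre module N/m_A N has finite length. Then the depth of
the B-module N ⊗_A M equals the depth of the A-module M. (The companion equality of codepths in the
published item is not restated.) -/
theorem result {A B M N : Type u} [CommRing A] [CommRing B]
    [IsNoetherianRing A] [IsNoetherianRing B] [IsLocalRing A] [IsLocalRing B] [Algebra A B]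
    [IsLocalHom (algebraMap A B)] [AddCommGroup M] [Module A M] [Module.Finite A M]
    [AddCommGroup N] [Module B N] [Module A N] [IsScalarTower A B N] [Module.Finite B N] [Nontrivial N]
    [Module.Flat A N] (hN : IsFiniteLength B (EGA4.FibMod A B N)) :
    LocCoh.depth B (N ⊗[A] M) = LocCoh.depth A M := by
  have hnt : Nontrivial (EGA4.FibMod A B N) := by
    rw [Submodule.Quotient.nontrivial_iff]
    intro htop
    have hle : EGA4.mB A B ≤ IsLocalRing.maximalIdeal B :=
      IsLocalRing.map_maximalIdeal_le (algebraMap A B)
    have hbot : (⊤ : Submodule B N) = ⊥ :=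
      Submodule.eq_bot_of_le_smul_of_le_jacobson_bot (EGA4.mB A B) ⊤
        Module.Finite.fg_top htop.ge (hle.trans (IsLocalRing.maximalIdeal_le_jacobson _))
    exact absurd hbot top_ne_bot
  have h0 : LocCoh.depth B (EGA4.FibMod A B N) = 0 := depth_eq_zero_of_isFiniteLength hN
  have := Groth.Agent.Ega4A.DepthFlat.depth_tensor_eq_add (R := A) (S := B) N M
  rw [this]
  change _ + LocCoh.depth B (EGA4.FibMod A B N) = _
  rw [h0, add_zero]

end Groth.Agent.S4694
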