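import Groth.Statements.S4696
import Groth.Agent.EGA4.K110.FibNormal
import Groth.Agent.S2670

set_option autoImplicit false
universe u
open EGA4

namespace Groth.Agent.S4696

/-- Case of normal morphisms, affine form: let A → B → C be homomorphisms of Noetherian rings. If A → B
and B → C are normal (flat, with geometrically normal fibres) then the composite A → C is normal. -/
theorem result (A B C : Type u) [CommRing A] [CommRing B] [CommRing C] [IsNoetherianRing A]
    [IsNoetherianRing B] [IsNoetherianRing C] [Algebra A B] [Algebra B C] [Algebra A C] [IsScalarTower A B C]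
    (hAB : EGA4.IsNormalHom A B) (hBC : EGA4.IsNormalHom B C) : EGA4.IsNormalHom A C := by
  have hBC1 := hBC.1
  have hAB1 := hAB.1
  refine K110.FibNormal.isNormalHom_iff.2 ⟨Module.Flat.trans A B C, fun K _ _ hK => ?_⟩
  have h2 : EGA4.IsNormalRing (TensorProduct A K B) :=
    K110.FibNormal.fibP_of_isGeomNormal hAB.2 K hK
  have h3 : EGA4.IsNormalRing (TensorProduct A B K) :=
    K110.FibNormal.good_normal.equiv _ _ (Algebra.TensorProduct.comm A K B).toRingEquiv h2
  have h4 : EGA4.IsNormalRing (TensorProduct B C (TensorProduct A B K)) :=
    Groth.Agent.S2670.result B C hBC (TensorProduct A B K) h3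
  exact K110.FibNormal.good_normal.equiv _ _
    ((Algebra.TensorProduct.cancelBaseChange A B B C K).toRingEquiv.trans
      (Algebra.TensorProduct.comm A C K).toRingEquiv) h4

end Groth.Agent.S4696
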