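import Groth.Statements.S4698
import Groth.Agent.Pic13.H504.GenFlat
import Groth.Agent.Ega3B.FlatRestrict
import Groth.Agent.CohqB.LocalQC

set_option autoImplicit false
universe u
open EGA4

namespace Groth.Agent.S4698

open AlgebraicGeometry CategoryTheory in
/-- Let Y be an integral locally Noetherian scheme, u : X → Y a morphism of finite type and F a coherent
O_X-module. Then there is a nonempty open subset U of Y such that F is flat over Y at every point of
u⁻¹(U). -/
theorem result {X Y : Scheme.{u}} (u : X ⟶ Y) [IsIntegral Y] [IsLocallyNoetherian Y]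
    [LocallyOfFiniteType u] [QuasiCompact u] (F : X.Modules) (hF : Coh.IsCoh F) :
    ∃ U : Y.Opens, (U : Set Y).Nonempty ∧ ∀ x : X, u.base x ∈ U → FlatMod.IsFlatOverAt u F x := by
  obtain ⟨V, hV, hyV, -⟩ := exists_isAffineOpen_mem_and_subset (X := Y) (x := genericPoint Y)
    (U := ⊤) trivial
  have hVn : Nonempty V := ⟨⟨genericPoint Y, hyV⟩⟩
  have hVa : IsAffine V := hV
  have : IsIntegral V := isIntegral_of_isOpenImmersion V.ι
  obtain ⟨a, ha, h⟩ := Groth.Agent.Pic13.H504.GenFlat.exists_isFlatOverAt' (u ∣_ V)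
    (F.restrict (u ⁻¹ᵁ V).ι) (Groth.Agent.CohqB.LocalQC.isCoh_restrict _ hF)
  refine ⟨V.ι ''ᵁ ((V : Scheme.{u}).basicOpen a), ?_, fun x hx => ?_⟩
  · have h1 : ((V : Scheme.{u}).basicOpen a : Set V).Nonempty := by
      by_contra hne
      rw [Set.not_nonempty_iff_eq_empty] at hne
      apply ha
      have : (V : Scheme.{u}).basicOpen a = ⊥ := by
        ext1
        exact hne
      exact (basicOpen_eq_bot_iff a).1 this
    obtain ⟨v, hv⟩ := h1
    exact ⟨V.ι v, v, hv, rfl⟩
  · obtain ⟨v, hv, hvx⟩ := hx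
    have hxV : x ∈ u ⁻¹ᵁ V := by
      change u x ∈ V
      have : V.ι v = u x := hvx
      rw [← this]
      exact v.2
    have h2 := (Groth.Agent.Ega3B.FlatRestrict.isFlatOverAt_restrict_iff u (u ∣_ V) (u ⁻¹ᵁ V).ι V.ι
      (morphismRestrict_ι u V).symm F ⟨x, hxV⟩)
    refine h2.1 (h ⟨x, hxV⟩ ?_)
    have h3 : V.ι ((u ∣_ V).base ⟨x, hxV⟩) = V.ι v := by
      have h4 : V.ι v = u x := hvx
      rw [h4]
      change (u ∣_ V ≫ V.ι) ⟨x, hxV⟩ = _
      rw [morphismRestrict_ι]
      rfl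
    have h5 : (u ∣_ V).base ⟨x, hxV⟩ = v := V.ι.isOpenEmbedding.injective h3
    rw [h5]
    exact hv

end Groth.Agent.S4698
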