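import Groth.Statements.S4699
import Groth.Agent.EGA4.K110.DimAlong
import Groth.Agent.EGA4.K112.NormFlatLoc

set_option autoImplicit false
universe u
open EGA4

namespace Groth.Agent.S4699

/-- Let A be a Noetherian ring, M a finite A-module and I an ideal of A whose radical p is a prime ideal
lying in the support of M (so V(I) is an irreducible closed subset whose generic point is in Supp
M). Then there is an element f outside p such that, for every prime q containing I with f outside q,
the dimension of M_q is the dimension of M_p plus the dimension of (A/I)_q, and the depth of M_q is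
the depth of M_p plus the depth of (A/I)_q (the module (A/I)_q = A_q / I A_q being regarded over
A_q). -/
theorem result (A : Type u) [CommRing A] [IsNoetherianRing A]
    (M : Type u) [AddCommGroup M] [Module A M] [Module.Finite A M] (I : Ideal A) [I.radical.IsPrime]
    (hp : (⟨I.radical, inferInstance⟩ : PrimeSpectrum A) ∈ Module.support A M) :
    ∃ f : A, f ∉ I.radical ∧ ∀ (q : Ideal A) [q.IsPrime], I ≤ q → f ∉ q →
      Module.supportDim (Localization.AtPrime q) (LocalizedModule q.primeCompl M) =
          Module.supportDim (Localization.AtPrime I.radical) (LocalizedModule I.radical.primeCompl M) +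
            Module.supportDim (Localization.AtPrime q)
              (Localization.AtPrime q ⧸ I.map (algebraMap A (Localization.AtPrime q))) ∧
        LocCoh.depth (Localization.AtPrime q) (LocalizedModule q.primeCompl M) =
          LocCoh.depth (Localization.AtPrime I.radical) (LocalizedModule I.radical.primeCompl M) +
            LocCoh.depth (Localization.AtPrime q)
              (Localization.AtPrime q ⧸ I.map (algebraMap A (Localization.AtPrime q))) := by
  let p : Ideal A := I.radical
  have hp' : p.IsPrime := inferInstance
  obtain ⟨f1, hf1, h1⟩ := K110.DepthAlong.exists_forall_dep_eq_add p M hp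
  obtain ⟨f2, hf2, h2⟩ := K110.DepthAlong.exists_forall_dep_eq_add p (A ⧸ I)
    (K110.DepthAlong.mem_support_quotient p I Ideal.le_radical)
  obtain ⟨f3, hf3, h3⟩ := K110.DimAlong.exists_forall_sdim_eq_add p M hp
  obtain ⟨f4, hf4, h4⟩ := K110.DimAlong.exists_forall_sdim_eq_add p (A ⧸ I)
    (K110.DepthAlong.mem_support_quotient p I Ideal.le_radical)
  refine ⟨f1 * f2 * f3 * f4, fun h => ?_, fun q hq hIq hfq => ?_⟩
  · rcases hp'.mem_or_mem h with h | h
    · rcases hp'.mem_or_mem h with h | h
      · exact (hp'.mem_or_mem h).elim hf1 hf2
      · exact hf3 h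
    · exact hf4 h
  have hpq : p ≤ q := hq.radical_le_iff.mpr hIq
  have h1' := h1 q hpq fun h => hfq (Ideal.mul_mem_right _ _ (Ideal.mul_mem_right _ _ (Ideal.mul_mem_right _ _ h)))
  have h2' := h2 q hpq fun h => hfq (Ideal.mul_mem_right _ _ (Ideal.mul_mem_right _ _ (Ideal.mul_mem_left _ _ h)))
  have h3' := h3 q hpq fun h => hfq (Ideal.mul_mem_right _ _ (Ideal.mul_mem_left _ _ h))
  have h4' := h4 q hpq fun h => hfq (Ideal.mul_mem_left _ _ h)
  have hpi : IsNoetherianRing (Localization.AtPrime p) := K110.DepthAlong.isNoetherianRing_loc p
  have hnt : Nontrivial (LocalizedModule p.primeCompl (A ⧸ I)) :=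
    K110.DepthAlong.mem_support_quotient p I Ideal.le_radical
  have hfl0 : K110.DimAlong.sdim p (A ⧸ I) ≤ 0 := by
    refine (K110.DimAlong.supportDim_le_of_support_subset _
      (p.map (algebraMap A (Localization.AtPrime p))) ?_).trans ?_
    · intro P hP
      have h5 := K110.DimAlong.mem_support_loc p (A ⧸ I) P hP
      rw [Ideal.annihilator_quotient] at h5
      have h6 : p ≤ P.asIdeal.comap (algebraMap A (Localization.AtPrime p)) :=
        (Ideal.IsPrime.radical_le_iff inferInstance).mpr h5
      exact Ideal.map_le_iff_le_comap.mpr h6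
    · rw [Localization.AtPrime.map_eq_maximalIdeal]
      have hmax : (IsLocalRing.maximalIdeal (Localization.AtPrime p)).IsMaximal := inferInstance
      let _ := Ideal.Quotient.field (IsLocalRing.maximalIdeal (Localization.AtPrime p))
      exact (ringKrullDim_eq_zero_of_field _).le
  have hfl3 := Groth.Agent.Ega4A.DepthBasic.depth_le_supportDim
    (R := Localization.AtPrime p) (LocalizedModule p.primeCompl (A ⧸ I))
  have hfl2 : K110.DepthAlong.dep p (A ⧸ I) = 0 := by
    have h5 := hfl3.trans hfl0
    exact le_antisymm (by exact_mod_cast h5) zero_le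
  have hfl : K110.DimAlong.sdim p (A ⧸ I) = 0 :=
    le_antisymm hfl0 (le_trans (by exact_mod_cast zero_le) hfl3)
  obtain ⟨e⟩ := K112.NormFlatLoc.nonempty_equiv_quotient I q
  constructor
  · have h5 := Module.supportDim_eq_of_equiv e
    rw [← h5]
    change _ = _ + K110.DimAlong.sdim q (A ⧸ I)
    rw [h4', hfl, zero_add]
    exact h3'
  · have h5 : LocCoh.depth (Localization.AtPrime q) (LocalizedModule q.primeCompl (A ⧸ I)) =
        LocCoh.depth (Localization.AtPrime q)
          (Localization.AtPrime q ⧸ I.map (algebraMap A (Localization.AtPrime q))) :=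
      Groth.Agent.Localalg.Depth.idealDepth_congr_equiv _ e
    rw [← h5]
    change _ = _ + K110.DepthAlong.dep q (A ⧸ I)
    rw [h2', hfl2, zero_add]
    exact h1'

end Groth.Agent.S4699
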