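import Groth.Statements.S4701
import Groth.Agent.Ega4A.RegCrit
import Groth.Agent.Ega4A.RegLocusGen
import Groth.Agent.Ega4A.J0Tower

set_option autoImplicit false
universe u
open EGA4

namespace Groth.Agent.S4701

/-- Let A be a Noetherian ring. The regular locus of every quotient ring A/I is open in its spectrum if
and only if, for every prime ideal p, the regular locus of the domain A/p contains a nonempty open
subset of Spec(A/p). (The published statement quantifies over all subschemes of Spec A; open
subschemes of the closed ones add nothing, so closed subschemes are used here.) -/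
theorem result (A : Type u) [CommRing A] [IsNoetherianRing A] :
    (∀ I : Ideal A, IsOpen (EGA4.regLocus (A ⧸ I))) ↔
      ∀ (p : Ideal A) [p.IsPrime],
        ∃ U : Set (PrimeSpectrum (A ⧸ p)), IsOpen U ∧ U.Nonempty ∧ U ⊆ EGA4.regLocus (A ⧸ p) := by
  constructor
  · intro h p hp
    refine ⟨EGA4.regLocus (A ⧸ p), h p, ⟨⟨⊥, Ideal.isPrime_bot⟩, ?_⟩, subset_rfl⟩
    change IsRegularLocalRing (Localization.AtPrime (⊥ : Ideal (A ⧸ p)))
    have hbot : (⊥ : Ideal (A ⧸ p)).primeCompl = nonZeroDivisors (A ⧸ p) := by
      ext x
      simp [Ideal.primeCompl]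
    have : IsFractionRing (A ⧸ p) (Localization.AtPrime (⊥ : Ideal (A ⧸ p))) := by
      change IsLocalization (nonZeroDivisors (A ⧸ p)) (Localization (⊥ : Ideal (A ⧸ p)).primeCompl)
      rw [← hbot]
      infer_instance
    let : Field (Localization.AtPrime (⊥ : Ideal (A ⧸ p))) := IsFractionRing.toField (A ⧸ p)
    infer_instance
  · intro h I
    refine Groth.Agent.Ega4A.RegCrit.isOpen_regLocus_of_isJ0_quotient
      Groth.Agent.Ega4A.RegLocusGen.regLocus_generization fun P _ => ?_
    let π : A →+* (A ⧸ I) ⧸ P.asIdeal := (Ideal.Quotient.mk P.asIdeal).comp (Ideal.Quotient.mk I)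
    have hπ : Function.Surjective π :=
      Ideal.Quotient.mk_surjective.comp Ideal.Quotient.mk_surjective
    have hk : (RingHom.ker π).IsPrime := RingHom.ker_isPrime π
    exact Groth.Agent.Ega4A.J0Tower.isJ0_of_ringEquiv (RingHom.quotientKerEquivOfSurjective hπ)
      (h (RingHom.ker π))

end Groth.Agent.S4701
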