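import Groth.Statements.S4702
import Groth.Agent.EGA4.K110.DimFib
import Groth.Agent.Ega4fib.H172.FibDimBC

set_option autoImplicit false
universe u
open EGA4

namespace Groth.Agent.S4702

open AlgebraicGeometry CategoryTheory Groth.Agent.CycB Groth.Agent.CycB.RelDim in
theorem one_le_stalk {X : Scheme.{u}} [IrreducibleSpace X] (x : X) (hx : x ≠ genericPoint X)
    (d : ℕ) (hd : ringKrullDim (X.presheaf.stalk x) = d) : 1 ≤ d := by
  by_contra h
  have h0 : d = 0 := by omega
  subst h0
  rw [ringKrullDim_stalk_eq_coheight] at hd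
  have h1 : Order.coheight x = 0 := by exact_mod_cast hd
  rw [Order.coheight_eq_zero] at h1
  apply hx
  have h2 : genericPoint X ⤳ x := genericPoint_specializes x
  have h3 : x ≤ genericPoint X := h2
  have h4 : genericPoint X ≤ x := h1 h3
  have h5 : x ⤳ genericPoint X := h4
  exact (h5.antisymm h2).eq

open AlgebraicGeometry CategoryTheory Groth.Agent.CycB Groth.Agent.CycB.RelDim in
theorem main {X Y : Scheme.{u}} (f : X ⟶ Y) [IsLocallyNoetherian Y]
    [IrreducibleSpace Y] [IrreducibleSpace X] (hY : topologicalKrullDim Y = 1) [LocallyOfFiniteType f]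
    [IsDominant f] (x : X) (hx : FibGeneric f x) (n e : ℕ) (hn : rtd f x = n)
    (he : rtd f (genericPoint X) = e) : n = e := by
  obtain ⟨dX, dY, n', e', hX, hY', hn', he', hdim, hle⟩ :=
    Groth.Agent.Ega4fib.H111.FibFormula.exists_dims f x
  have h1 : n' = n := by
    rw [hn] at hn'
    exact_mod_cast hn'.symm
  have h2 : e' = e := by
    rw [he] at he'
    exact_mod_cast he'.symm
  subst h1 h2
  have hle' : e' ≤ n' := by
    have h3 := Groth.Agent.Ega4fib.H111.FibFormula.rtd_le_fibreDimAt_of_specializes f
      (genericPoint_specializes x) e' he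
    obtain ⟨z, hz, hfz, hgz, m, hm, hm'⟩ :=
      Groth.Agent.Ega4fib.H172.FibDimBC.exists_fibGeneric_rtd_eq f x
    have hzx : z = x := hx z hfz hz
    subst hzx
    rw [hm'] at h3
    rw [hm] at hn
    have h4 : m = n' := by exact_mod_cast hn
    subst h4
    exact_mod_cast h3
  have hmap : f (genericPoint X) = genericPoint Y := Groth.Agent.Ega43.ChevalleyCrit.map_genericPoint f
  by_cases hxg : x = genericPoint X
  · subst hxg
    rw [hn] at he
    exact_mod_cast he
  · have h5 := one_le_stalk x hxg dX hX
    have h6 : dY ≤ 1 := by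
      have h7 := K110.DimFib.stalk_le_dim Y (f x)
      rw [hY', hY] at h7
      exact_mod_cast h7
    omega

open AlgebraicGeometry CategoryTheory in
/-- Let Y be an irreducible locally Noetherian scheme of dimension 1, X an irreducible scheme and f : X
→ Y a dominant morphism of finite type. Then for every point y in the image of f, every irreducible
component of the fibre of f at y has dimension equal to the dimension of the generic fibre. -/
theorem result {X Y : Scheme.{u}} (f : X ⟶ Y) [IsLocallyNoetherian Y]
    [IrreducibleSpace Y] [IrreducibleSpace X] (hY : topologicalKrullDim Y = 1) [LocallyOfFiniteType f]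
    [QuasiCompact f] (hf : DenseRange f.base) (y : Y) (hy : y ∈ Set.range f.base)
    (Z : Set ↥(f.fiber y)) (hZ : Z ∈ irreducibleComponents ↥(f.fiber y)) :
    topologicalKrullDim Z = topologicalKrullDim ↥(f.fiber (genericPoint Y)) := by

  have hd : IsDominant f := ⟨hf⟩
  obtain ⟨z, rfl, hz⟩ := Groth.Agent.CycB.RelDim.exists_fibGeneric_of_mem hZ
  obtain ⟨n, hn, hn'⟩ := Groth.Agent.CycB.RelDim.exists_dim_closure_fiber f y z
  obtain ⟨e, he, he'⟩ := Groth.Agent.Ega4fib.H111.FibFormula.topologicalKrullDim_genericFibre f
  rw [hn', he', main f hY _ hz n e hn he]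

end Groth.Agent.S4702
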