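import Groth.Statements.S4703
import Groth.Agent.Ega4B.GFTCrit
import Groth.Agent.Ega4A.CplQuot
import Groth.Agent.CalgB.RegHom6

set_option autoImplicit false
universe u
open EGA4

namespace Groth.Agent.S4703

theorem regular_comap {T T' : Type u} [CommRing T] [CommRing T'] [Algebra T T'] (M : Submonoid T)
    [IsLocalization M T'] (Q : Ideal T') [Q.IsPrime]
    (h : IsRegularLocalRing (Localization.AtPrime Q)) (q : Ideal T) [q.IsPrime]
    (hq : Q.comap (algebraMap T T') = q) : IsRegularLocalRing (Localization.AtPrime q) := by
  subst hq
  have h5 : IsLocalization.AtPrime (Localization.AtPrime Q) (Q.comap (algebraMap T T')) :=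
    IsLocalization.isLocalization_isLocalization_atPrime_isLocalization M
      (Localization.AtPrime Q) Q
  let e : Localization.AtPrime Q ≃+* Localization.AtPrime (Q.comap (algebraMap T T')) :=
    (IsLocalization.algEquiv (Q.comap (algebraMap T T')).primeCompl (Localization.AtPrime Q)
      (Localization.AtPrime (Q.comap (algebraMap T T')))).toRingEquiv
  exact IsRegularLocalRing.of_ringEquiv e

open TensorProduct in
theorem regular_of_fieldFib {B T : Type u} [CommRing B] [IsDomain B] [CommRing T] [Algebra B T]
    (h : Groth.Agent.CalgB.RegHom6.FieldFib B T) (q : Ideal T) [q.IsPrime]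
    (hq : q.comap (algebraMap B T) = ⊥) : IsRegularLocalRing (Localization.AtPrime q) := by
  have h1 : IsRegularRing (FractionRing B ⊗[B] T) := h (FractionRing B) inferInstance
  have h1' : IsRegularRing (T ⊗[B] FractionRing B) :=
    IsRegularRing.of_ringEquiv (Algebra.TensorProduct.comm B (FractionRing B) T).toRingEquiv
  have hloc : IsLocalization (Algebra.algebraMapSubmonoid T (nonZeroDivisors B))
      (T ⊗[B] FractionRing B) := inferInstance
  have hdisj : Disjoint (Algebra.algebraMapSubmonoid T (nonZeroDivisors B) : Set T) q := by
    rw [Set.disjoint_left]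
    rintro _ ⟨b, hb, rfl⟩ hbq
    have h2 : b ∈ q.comap (algebraMap B T) := hbq
    rw [hq, Ideal.mem_bot] at h2
    exact nonZeroDivisors.ne_zero hb h2
  have hp : (q.map (algebraMap T (T ⊗[B] FractionRing B))).IsPrime :=
    IsLocalization.isPrime_of_isPrime_disjoint
      (Algebra.algebraMapSubmonoid T (nonZeroDivisors B)) _ q ‹_› hdisj
  have hc : (q.map (algebraMap T (T ⊗[B] FractionRing B))).comap
      (algebraMap T (T ⊗[B] FractionRing B)) = q :=
    IsLocalization.under_map_of_isPrime_disjoint
      (Algebra.algebraMapSubmonoid T (nonZeroDivisors B)) _ ‹_› hdisj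
  let Q := q.map (algebraMap T (T ⊗[B] FractionRing B))
  have h3 : IsRegularLocalRing (Localization.AtPrime Q) := isRegularRing_iff.1 h1' Q
  exact regular_comap (Algebra.algebraMapSubmonoid T (nonZeroDivisors B)) Q h3 q hc

open TensorProduct in
/-- For the property 'geometrically regular', case of a local ring: let A be a Noetherian local ring
with completion Â. Then the formal fibres of A are geometrically regular (the completion map A → Â
is a regular homomorphism) if and only if, for every finite A-algebra B which is a domain and every
prime ideal q of B ⊗_A Â whose contraction to B is zero, the local ring of B ⊗_A Â at q is regular.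
(The published statement is for semi-local rings; this row takes A local.) -/
theorem result (A : Type u) [CommRing A] [IsNoetherianRing A] [IsLocalRing A] :
    CAlg.IsRegularHom A (EGA4.Cpl A) ↔
      ∀ (B : Type u) [CommRing B] [IsDomain B] [Algebra A B] [Module.Finite A B]
        (q : Ideal (B ⊗[A] EGA4.Cpl A)) [q.IsPrime],
        q.comap (algebraMap B (B ⊗[A] EGA4.Cpl A)) = ⊥ → IsRegularLocalRing (Localization.AtPrime q) := by
  have hN := Groth.Agent.Ega4A.CplQuot.isNoetherianRing_cpl A
  have hflat := Groth.Agent.Ega4A.CplQuot.flat_cpl A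
  constructor
  · intro h B _ _ _ _ q _ hq
    have h1 : CAlg.IsRegularHom B (B ⊗[A] EGA4.Cpl A) :=
      Groth.Agent.CalgB.RegHom6.isRegularHom_baseChange B h
    exact regular_of_fieldFib (Groth.Agent.CalgB.RegHom6.FieldFib.of_isRegularHom h1) q hq
  · intro h
    refine Groth.Agent.Ega4B.GFTCrit.isRegularHom_of_forall_finite_domain A (EGA4.Cpl A) hflat ?_
    intro C _ _ _ _ P _ hP
    exact h C P hP

end Groth.Agent.S4703
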