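import Groth.Statements.S4704
import Groth.Agent.CalgB.GRing1
import Groth.Agent.Ega4A.CplQuot

set_option autoImplicit false
universe u
open EGA4

namespace Groth.Agent.S4704

/-- Let A → A' be a local homomorphism of Noetherian local rings which is regular (flat, with
geometrically regular fibres). If the completion map of A' is regular (the formal fibres of A' are
geometrically regular), then the completion map of A is regular. -/
theorem result (A A' : Type u) [CommRing A] [CommRing A'] [IsNoetherianRing A]
    [IsNoetherianRing A'] [IsLocalRing A] [IsLocalRing A'] [Algebra A A'] [IsLocalHom (algebraMap A A')]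
    (hf : CAlg.IsRegularHom A A') (hA' : CAlg.IsRegularHom A' (EGA4.Cpl A')) :
    CAlg.IsRegularHom A (EGA4.Cpl A) := by
  have h0 := hf.1
  have hN := Groth.Agent.Ega4A.CplQuot.isNoetherianRing_cpl A'
  have h1 : CAlg.IsRegularHom A (EGA4.Cpl A') :=
    Groth.Agent.CalgB.RegHom6.isRegularHom_comp (S := A') hf hA'
  exact Groth.Agent.CalgB.GRing1.isRegularHom_completion_of_flat h1

end Groth.Agent.S4704
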