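import Groth.Statements.S4706
import Groth.Agent.EGA4.K110.FibNormal

set_option autoImplicit false
universe u
open EGA4

namespace Groth.Agent.S4706

/-- Let A → A' be a local homomorphism of Noetherian local rings which is normal (flat, with
geometrically normal fibres). If the completion map of A' is regular (the formal fibres of A' are
geometrically regular), then the formal fibres of A are geometrically normal. -/
theorem result (A A' : Type u) [CommRing A] [CommRing A']
    [IsNoetherianRing A] [IsNoetherianRing A'] [IsLocalRing A] [IsLocalRing A'] [Algebra A A']
    [IsLocalHom (algebraMap A A')] (hf : EGA4.IsNormalHom A A') (hA' : CAlg.IsRegularHom A' (EGA4.Cpl A')) :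
    EGA4.HasGeomNormalFormalFibres A := by
  have h0 := hf.1
  have h1 := K110.FibNormal.fibP_of_isGeomNormal hf.2
  have h2 := Groth.Agent.Ega4A.PFibre.FibP.cpl_of_flat_local K110.FibNormal.good_normal h1 hA'
  exact fun p _ => K110.FibNormal.isGeomNormal_of_fibP h2 p

end Groth.Agent.S4706
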