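import Groth.Statements.S4707
import Groth.Agent.EGA4.K111.NormHomBC
import Groth.Agent.S2671

set_option autoImplicit false
universe u
open EGA4

namespace Groth.Agent.S4707

open TensorProduct

/-- The image of `A' ⊗ D`, with `D` the integral closure of `B` in `C`. -/
abbrev rg (A A' B C : Type u) [CommRing A] [CommRing A'] [Algebra A A'] [CommRing B] [CommRing C]
    [Algebra A B] [Algebra A C] [Algebra B C] [IsScalarTower A B C] : Subalgebra A' (A' ⊗[A] C) :=
  (Algebra.TensorProduct.map (AlgHom.id A' A')
        ((integralClosure B C).val.restrictScalars A)).range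

/-- The case where `B` is of finite type over `A`. -/
theorem mem_rg_of_finiteType (A A' : Type u) [CommRing A] [CommRing A']
    [IsNoetherianRing A] [IsNoetherianRing A'] [Algebra A A'] (h : EGA4.IsNormalHom A A')
    (B C : Type u) [CommRing B] [CommRing C] [Algebra A B] [Algebra A C] [Algebra B C]
    [IsScalarTower A B C] [Algebra.FiniteType A B] (z : A' ⊗[A] C)
    (hz : (Algebra.TensorProduct.map (AlgHom.id A' A')
      (IsScalarTower.toAlgHom A B C)).toRingHom.IsIntegralElem z) : z ∈ rg A A' B C := by
  have : IsNoetherianRing B := Algebra.FiniteType.isNoetherianRing A B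
  let B' := B ⊗[A] A'
  have hN : IsNoetherianRing (A' ⊗[A] B) := Algebra.FiniteType.isNoetherianRing A' (A' ⊗[A] B)
  have hN' : IsNoetherianRing B' :=
    isNoetherianRing_of_ringEquiv _ (Algebra.TensorProduct.comm A A' B).toRingEquiv
  have h' : EGA4.IsNormalHom B B' := K111.NormHomBC.isNormalHom_baseChange A A' B h
  let e1 : B' ⊗[B] C ≃ₐ[B] C ⊗[B] B' := Algebra.TensorProduct.comm B B' C
  let e2 : C ⊗[B] B' ≃ₐ[C] C ⊗[A] A' := Algebra.TensorProduct.cancelBaseChange A B C C A'
  let e3 : C ⊗[A] A' ≃ₐ[A] A' ⊗[A] C := Algebra.TensorProduct.comm A C A'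
  let e : B' ⊗[B] C ≃+* A' ⊗[A] C := (e1.toRingEquiv.trans e2.toRingEquiv).trans e3.toRingEquiv
  have he : ∀ (b : B) (a : A') (c : C), e ((b ⊗ₜ[A] a) ⊗ₜ[B] c) = a ⊗ₜ[A] (b • c) := by
    intro b a c
    change e3 (e2 (c ⊗ₜ[B] (b ⊗ₜ[A] a))) = _
    have h1 : e2 (c ⊗ₜ[B] (b ⊗ₜ[A] a)) = (b • c) ⊗ₜ[A] a :=
      Algebra.TensorProduct.cancelBaseChange_tmul ..
    rw [h1]
    rfl
  have hint : IsIntegral B' (e.symm z) := by
    have h1 := RingHom.IsIntegralElem.map hz e.symm.toRingHom
    have h2 : e.symm.toRingHom.comp (Algebra.TensorProduct.map (AlgHom.id A' A')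
      (IsScalarTower.toAlgHom A B C)).toRingHom =
        (algebraMap B' (B' ⊗[B] C)).comp
          (Algebra.TensorProduct.comm A A' B).toRingEquiv.toRingHom := by
      refine Algebra.TensorProduct.ringHom_ext ?_ ?_
      · ext a
        apply e.injective
        change e (e.symm (a ⊗ₜ[A] (algebraMap B C 1))) = e (((1 : B) ⊗ₜ[A] a) ⊗ₜ[B] (1 : C))
        rw [he, RingEquiv.apply_symm_apply, one_smul, map_one]
      · ext b
        apply e.injective
        change e (e.symm ((1 : A') ⊗ₜ[A] (algebraMap B C b))) = e ((b ⊗ₜ[A] (1 : A')) ⊗ₜ[B] (1 : C))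
        rw [he, RingEquiv.apply_symm_apply, Algebra.smul_def, mul_one]
    rw [h2] at h1
    exact h1.of_comp
  have hmem : e.symm z ∈ integralClosure B' (B' ⊗[B] C) := hint
  rw [Groth.Agent.S2671.result B B' h' C] at hmem
  have key : ∀ w ∈ Algebra.adjoin B'
      ((Algebra.TensorProduct.includeRight : C →ₐ[B] B' ⊗[B] C) '' (integralClosure B C)),
      e w ∈ rg A A' B C := by
    intro w hw
    induction hw using Algebra.adjoin_induction with
    | mem x hx =>
      obtain ⟨c, hc, rfl⟩ := hx
      refine ⟨1 ⊗ₜ ⟨c, hc⟩, ?_⟩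
      change (1 : A') ⊗ₜ[A] c = e (((1 : B) ⊗ₜ[A] (1 : A')) ⊗ₜ[B] c)
      rw [he, one_smul]
    | algebraMap r =>
      change e (r ⊗ₜ[B] (1 : C)) ∈ _
      induction r using TensorProduct.induction_on with
      | zero => rw [TensorProduct.zero_tmul, map_zero]; exact zero_mem _
      | add x y hx hy => rw [TensorProduct.add_tmul, map_add]; exact add_mem hx hy
      | tmul b a =>
        rw [he]
        exact ⟨a ⊗ₜ algebraMap B (integralClosure B C) b, by
          rw [Algebra.smul_def, mul_one]; rfl⟩
    | add x y _ _ hx hy => rw [map_add]; exact add_mem hx hy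
    | mul x y _ _ hx hy => rw [map_mul]; exact mul_mem hx hy
  have := key _ hmem
  rwa [RingEquiv.apply_symm_apply] at this

open TensorProduct in
/-- Let A be a Noetherian ring and A' a Noetherian A-algebra such that A → A' is a normal homomorphism
(flat, with geometrically normal fibres). Let B → C be a homomorphism of A-algebras and D the
integral closure of B in C. Then the integral closure in A' ⊗_A C of the image of A' ⊗_A B is the
image of A' ⊗_A D. (No finiteness is assumed on B or C.) -/
theorem result (A A' : Type u) [CommRing A] [CommRing A']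
    [IsNoetherianRing A] [IsNoetherianRing A'] [Algebra A A'] (h : EGA4.IsNormalHom A A')
    (B C : Type u) [CommRing B] [CommRing C] [Algebra A B] [Algebra A C] [Algebra B C] [IsScalarTower A B C] :
    (integralClosure
          ↥(Algebra.TensorProduct.map (AlgHom.id A' A') (IsScalarTower.toAlgHom A B C)).range (A' ⊗[A] C) :
        Set (A' ⊗[A] C)) =
      Set.range (Algebra.TensorProduct.map (AlgHom.id A' A')
        ((integralClosure B C).val.restrictScalars A)) := by
  classical
  set φ := Algebra.TensorProduct.map (AlgHom.id A' A') (IsScalarTower.toAlgHom A B C) with hφ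
  apply Set.Subset.antisymm
  · intro z hz
    have hz' : IsIntegral φ.range z := hz
    obtain ⟨p, hp, hpz⟩ := hz'
    -- lift the polynomial
    obtain ⟨P, hP1, -, hP2⟩ := Polynomial.lifts_and_natDegree_eq_and_monic (f := φ.rangeRestrict.toRingHom)
      (Polynomial.mem_lifts_of_surjective φ.rangeRestrict_surjective p) hp
    have hPz : P.eval₂ φ.toRingHom z = 0 := by
      rw [← hP1, Polynomial.eval₂_map] at hpz
      exact hpz
    -- descend the coefficients
    obtain ⟨B₀, hB₀, hcoe⟩ := K111.NormHomBC.exists_subalgebra_of_setFinite (A := A) (A' := A') (B := B)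
      (P.coeffs : Set (A' ⊗[A] B)) (Finset.finite_toSet _)
    have : Algebra.FiniteType A B₀ := (Subalgebra.fg_iff_finiteType _).mp hB₀
    have hlift : P ∈ Polynomial.lifts (Algebra.TensorProduct.map (AlgHom.id A' A') B₀.val).toRingHom := by
      rw [Polynomial.lifts_iff_coeff_lifts]
      intro n
      by_cases hn : P.coeff n = 0
      · exact ⟨0, by rw [hn, map_zero]⟩
      · exact hcoe (Polynomial.coeff_mem_coeffs hn)
    obtain ⟨Q, hQ1, -, hQ2⟩ := Polynomial.lifts_and_natDegree_eq_and_monic hlift hP2
    have hint : (Algebra.TensorProduct.map (AlgHom.id A' A')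
      (IsScalarTower.toAlgHom A B₀ C)).toRingHom.IsIntegralElem z := by
      refine ⟨Q, hQ2, ?_⟩
      rw [← hQ1, Polynomial.eval₂_map] at hPz
      rw [← hPz]
      congr 1
      refine Algebra.TensorProduct.ringHom_ext ?_ ?_
      · ext a
        rfl
      · ext b
        rfl
    obtain ⟨w, hw⟩ := mem_rg_of_finiteType A A' h B₀ C z hint
    -- the inclusion of integral closures
    have hle : ∀ c : C, c ∈ integralClosure B₀ C → c ∈ integralClosure B C := by
      intro c hc
      have hc' : IsIntegral B₀ c := hc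
      exact hc'.tower_top
    let ι : integralClosure B₀ C →ₐ[A] integralClosure B C :=
      { toFun := fun x => ⟨x.1, hle x.1 x.2⟩
        map_one' := rfl
        map_mul' := fun _ _ => rfl
        map_zero' := rfl
        map_add' := fun _ _ => rfl
        commutes' := fun _ => rfl }
    refine ⟨Algebra.TensorProduct.map (AlgHom.id A' A') ι w, ?_⟩
    rw [← hw]
    clear hw
    induction w with
    | zero => simp
    | add x y hx hy => rw [map_add, map_add, map_add, hx, hy]
    | tmul x y => rfl
  · rintro _ ⟨w, rfl⟩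
    change IsIntegral φ.range _
    induction w with
    | zero => rw [map_zero]; exact isIntegral_zero
    | add x y hx hy => rw [map_add]; exact hx.add hy
    | tmul a c =>
      have h1 : (Algebra.TensorProduct.map (AlgHom.id A' A')
        ((integralClosure B C).val.restrictScalars A)) (a ⊗ₜ c) = (a ⊗ₜ[A] (1 : C)) * ((1 : A') ⊗ₜ[A] (c : C)) := by
        rw [Algebra.TensorProduct.tmul_mul_tmul, mul_one, one_mul]
        rfl
      rw [h1]
      refine IsIntegral.mul ?_ ?_
      · have : (a ⊗ₜ[A] (1 : C)) = algebraMap φ.range (A' ⊗[A] C) ⟨a ⊗ₜ[A] (1 : C), ⟨a ⊗ₜ 1, by simp [hφ]⟩⟩ := rfl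
        rw [this]
        exact isIntegral_algebraMap
      · have hc : IsIntegral B (c : C) := c.2
        obtain ⟨q, hq, hqc⟩ := hc
        let β : B →+* φ.range := φ.rangeRestrict.toRingHom.comp
          (Algebra.TensorProduct.includeRight : B →ₐ[A] A' ⊗[A] B).toRingHom
        refine ⟨q.map β, hq.map _, ?_⟩
        rw [Polynomial.eval₂_map]
        have h2 : (algebraMap φ.range (A' ⊗[A] C)).comp β =
            (Algebra.TensorProduct.includeRight : C →ₐ[A] A' ⊗[A] C).toRingHom.comp (algebraMap B C) := rfl
        rw [h2]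
        have h3 := congrArg (Algebra.TensorProduct.includeRight : C →ₐ[A] A' ⊗[A] C).toRingHom hqc
        rw [Polynomial.hom_eval₂, map_zero] at h3
        exact h3

end Groth.Agent.S4707
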