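import Groth.Statements.S4708
import Groth.Agent.Pi1.H395.RegCpl
import Groth.Agent.CalgB.RegHom7

set_option autoImplicit false
universe u
open EGA4

namespace Groth.Agent.S4708

open IsLocalRing TensorProduct
open Groth.Agent.UnramA.GRingCpl

/-- Geometric regularity of the closed fibre descends along a faithfully flat map `B → C`. -/
theorem isGeometricallyRegular_fiber_descend {A B C : Type u} [CommRing A] [CommRing B] [CommRing C]
    [Algebra A B] [Algebra B C] [Algebra A C] [IsScalarTower A B C] [Module.FaithfullyFlat B C]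
    (p : Ideal A) [p.IsPrime] (h : CAlg.IsGeometricallyRegular p.ResidueField (p.Fiber C)) :
    CAlg.IsGeometricallyRegular p.ResidueField (p.Fiber B) := by
  intro K _ _ hK
  have h0 : IsRegularRing (K ⊗[p.ResidueField] (p.Fiber C)) := h K hK
  let _ : Algebra A K := ((algebraMap p.ResidueField K).comp (algebraMap A p.ResidueField)).toAlgebra
  have : IsScalarTower A p.ResidueField K := IsScalarTower.of_algebraMap_eq' rfl
  let eB : K ⊗[p.ResidueField] (p.Fiber B) ≃+* K ⊗[A] B :=
    (Algebra.TensorProduct.cancelBaseChange A p.ResidueField K K B).toRingEquiv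
  let eC : K ⊗[p.ResidueField] (p.Fiber C) ≃+* K ⊗[A] C :=
    (Algebra.TensorProduct.cancelBaseChange A p.ResidueField K K C).toRingEquiv
  have h1 : IsRegularRing (K ⊗[A] C) :=
    IsRegularRing.of_ringEquiv (R := K ⊗[p.ResidueField] (p.Fiber C)) eC
  let e1 : (B ⊗[A] K) ⊗[B] C ≃+* K ⊗[A] C :=
    ((Algebra.TensorProduct.comm B (B ⊗[A] K) C).toRingEquiv.trans
      (Algebra.TensorProduct.cancelBaseChange A B B C K).toRingEquiv).trans
      (Algebra.TensorProduct.comm A C K).toRingEquiv
  have h2 : IsRegularRing ((B ⊗[A] K) ⊗[B] C) := IsRegularRing.of_ringEquiv e1.symm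
  have h3 : IsRegularRing (B ⊗[A] K) :=
    Groth.Agent.CalgB.RegHom4.isRegularRing_of_faithfullyFlat (B ⊗[A] K) ((B ⊗[A] K) ⊗[B] C)
  have h4 : IsRegularRing (K ⊗[A] B) :=
    IsRegularRing.of_ringEquiv (Algebra.TensorProduct.comm A B K).toRingEquiv
  exact IsRegularRing.of_ringEquiv (R := K ⊗[A] B) eB.symm

/-- Let A → B be a local homomorphism of Noetherian local rings making B a flat A-module, such that the
residue field of B is a finite extension of the residue field k of A, and such that the formal
fibres of A are geometrically regular (the completion map A → Â is regular). If the k-algebra k ⊗_A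
B̂, where B̂ is the completion of B, is geometrically regular over k, then every fibre of A → B is
geometrically regular, that is, A → B is a regular homomorphism. -/
theorem result (A B : Type u) [CommRing A] [CommRing B]
    [IsNoetherianRing A] [IsNoetherianRing B] [IsLocalRing A] [IsLocalRing B] [Algebra A B]
    [IsLocalHom (algebraMap A B)] [Module.Flat A B]
    [Module.Finite (IsLocalRing.ResidueField A) (IsLocalRing.ResidueField B)]
    (hA : CAlg.IsRegularHom A (EGA4.Cpl A))
    (h : CAlg.IsGeometricallyRegular (IsLocalRing.maximalIdeal A).ResidueField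
      ((IsLocalRing.maximalIdeal A).Fiber (EGA4.Cpl B))) :
    CAlg.IsRegularHom A B := by
  have hNB : IsNoetherianRing (EGA4.Cpl B) := Groth.Agent.S0543.result _ _
  have hNA : IsNoetherianRing (EGA4.Cpl A) := Groth.Agent.S0543.result _ _
  have hff : Module.FaithfullyFlat B (EGA4.Cpl B) := Module.FaithfullyFlat.of_flat_of_isLocalHom
  have h1 : CAlgX.IsAdicFormallySmooth A B (maximalIdeal B) :=
    Groth.Agent.S2038.result.1 ⟨inferInstance, isGeometricallyRegular_fiber_descend _ h⟩
  let _ : Algebra (EGA4.Cpl A) (EGA4.Cpl B) := (cplMap A B).toAlgebra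
  have hloc : IsLocalHom (algebraMap (EGA4.Cpl A) (EGA4.Cpl B)) :=
    (inferInstance : IsLocalHom (cplMap A B))
  have h2 : CAlgX.IsAdicFormallySmooth (EGA4.Cpl A) (EGA4.Cpl B) (maximalIdeal (EGA4.Cpl B)) :=
    Groth.Agent.Pi1.H395.RegCpl.isAdicFormallySmooth_cpl A B h1 rfl
  have h3 : CAlg.IsRegularHom (EGA4.Cpl A) (EGA4.Cpl B) := Groth.Agent.S2039.result.2 h2
  have hT : IsScalarTower A (EGA4.Cpl A) (EGA4.Cpl B) :=
    .of_algebraMap_eq fun x ↦ (cplMap_algebraMap A B x).symm
  have h4 : CAlg.IsRegularHom A (EGA4.Cpl B) := Groth.Agent.CalgB.RegHom6.isRegularHom_comp hA h3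
  exact Groth.Agent.CalgB.RegHom7.isRegularHom_of_faithfullyFlat h4

end Groth.Agent.S4708
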