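import Groth.Statements.S4709
import Groth.Agent.S2654
import Groth.Agent.S2640
import Groth.Agent.S0567

set_option autoImplicit false
universe u
open EGA4

namespace Groth.Agent.S4709

open TensorProduct Ega4B.AnUnram Ega4B.QExcNagata

/-- The local ring of `A` at any prime has geometrically reduced formal fibres if this holds at the
maximal ideals. -/
theorem formalFibres_atPrime (A : Type u) [CommRing A] [IsNoetherianRing A]
    (h1 : ∀ (m : Ideal A) [m.IsMaximal], EGA4.HasGeomReducedFormalFibres (Localization.AtPrime m))
    (N : Ideal A) [N.IsPrime] : EGA4.HasGeomReducedFormalFibres (Localization.AtPrime N) := by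
  obtain ⟨m, hm, hNm⟩ := Ideal.exists_le_maximal N (Ideal.IsPrime.ne_top inferInstance)
  have hle : m.primeCompl ≤ N.primeCompl := fun x hx hxN => hx (hNm hxN)
  let _ : Algebra (Localization.AtPrime m) (Localization.AtPrime N) :=
    (IsLocalization.map (M := m.primeCompl) (T := N.primeCompl) (Localization.AtPrime N) (RingHom.id A)
      (show m.primeCompl ≤ N.primeCompl.comap (RingHom.id A) from hle) :
      Localization.AtPrime m →+* Localization.AtPrime N).toAlgebra
  have : IsScalarTower A (Localization.AtPrime m) (Localization.AtPrime N) :=
    IsScalarTower.of_algebraMap_eq fun x => by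
      rw [RingHom.algebraMap_toAlgebra, IsLocalization.map_eq, RingHom.id_apply]
  have : Algebra.EssFiniteType A (Localization.AtPrime N) :=
    Algebra.EssFiniteType.of_isLocalization (Localization.AtPrime N) N.primeCompl
  have : Algebra.EssFiniteType (Localization.AtPrime m) (Localization.AtPrime N) :=
    Algebra.EssFiniteType.of_comp A _ _
  exact Groth.Agent.S2640.result (Localization.AtPrime m) (h1 m) (Localization.AtPrime N)

/-- A Noetherian J-2 ring whose local rings have geometrically reduced formal fibres is Nagata. -/
theorem isNagata (A : Type u) [CommRing A] [IsNoetherianRing A]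
    (hG : ∀ (N : Ideal A) [N.IsPrime], EGA4.HasGeomReducedFormalFibres (Localization.AtPrime N))
    (hJ : EGA4.IsJ2 A) : CAlg.IsNagata A := by
  refine ⟨inferInstance, fun p hp ↦ ?_⟩
  intro L _ _ _ _ hfd
  let R := A ⧸ p
  let K := FractionRing R
  have hRinj : Function.Injective (algebraMap R L) := by
    rw [IsScalarTower.algebraMap_eq R K L]
    exact (algebraMap K L).injective.comp (IsFractionRing.injective R K)
  refine (Groth.Agent.S2627.result R L).2 ⟨?_, fun n hn ↦ ?_⟩
  · apply exists_finite_away R K L
    intro C hC
    let _ : Algebra A C := ((algebraMap R C).comp (Ideal.Quotient.mk p)).toAlgebra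
    have : IsScalarTower A R C := IsScalarTower.of_algebraMap_eq fun x ↦ rfl
    have h1 : Module.Finite A C := Module.Finite.trans R C
    exact hJ C inferInstance
  · -- the local ring of `A` at the preimage of `n`
    let mk : A →+* R := Ideal.Quotient.mk p
    let N : Ideal A := n.comap mk
    have hNp : N.IsPrime := Ideal.comap_isPrime _ _
    let B := Localization.AtPrime N
    let Rn := Localization.AtPrime n
    let _ : Algebra B Rn := (Localization.localRingHom N n mk rfl).toAlgebra
    have hsurj : Function.Surjective (algebraMap B Rn) :=
      RingHom.surjective_localRingHom_of_surjective mk Ideal.Quotient.mk_surjective n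
    -- `L` is an algebra over `Rn`
    have hu : ∀ y : n.primeCompl, IsUnit (algebraMap R L y) := by
      intro y
      rw [isUnit_iff_ne_zero]
      intro h
      have h0 : (y : R) = 0 := hRinj (by rw [h, map_zero])
      exact y.2 (h0 ▸ n.zero_mem)
    let _ : Algebra Rn L := (IsLocalization.lift hu : Rn →+* L).toAlgebra
    have hT1 : IsScalarTower R Rn L := IsScalarTower.of_algebraMap_eq fun x ↦
      (IsLocalization.lift_eq hu x).symm
    let _ : Algebra B L := ((algebraMap Rn L).comp (algebraMap B Rn)).toAlgebra
    have hT2 : IsScalarTower B Rn L := IsScalarTower.of_algebraMap_eq fun x ↦ rfl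
    apply finite_localizedModule_integralClosure R L n.primeCompl
    apply finite_integralClosure_of_surjective B Rn L hsurj
    -- geometrically reduced formal fibres
    have hB : EGA4.HasGeomReducedFormalFibres B := hG N
    obtain ⟨σ, hσ, hL⟩ := exists_finset_domain R K L
    -- relate `A` and `B`
    have hAB : ∀ r : R, algebraMap R L r ∈ (algebraMap B L).range := by
      intro r
      obtain ⟨a, rfl⟩ := Ideal.Quotient.mk_surjective r
      refine ⟨algebraMap A B a, ?_⟩
      change algebraMap Rn L (Localization.localRingHom N n mk rfl (algebraMap A B a)) = _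
      rw [Localization.localRingHom_to_map, ← IsScalarTower.algebraMap_apply R Rn L]
    have hAB' : ∀ x ∈ Algebra.adjoin R (σ : Set L), x ∈ Algebra.adjoin B (σ : Set L) := by
      intro x hx
      induction hx using Algebra.adjoin_induction with
      | mem x hx => exact Algebra.subset_adjoin hx
      | algebraMap r =>
        obtain ⟨b, hb⟩ := hAB r
        rw [← hb]
        exact Subalgebra.algebraMap_mem _ _
      | add x y _ _ hx hy => exact add_mem hx hy
      | mul x y _ _ hx hy => exact mul_mem hx hy
    refine Groth.Agent.S2654.finite_local B hB L σ (fun x hx ↦ ?_) fun l ↦ ?_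
    · have h1 : IsIntegral R x := hσ x hx
      have h2 : IsIntegral Rn x := h1.tower_top
      have h3 : Algebra.IsIntegral B Rn := Algebra.isIntegral_of_surjective hsurj
      exact isIntegral_trans (R := B) (A := Rn) x h2
    · obtain ⟨r, hr, hrl⟩ := hL l
      refine ⟨algebraMap R L r, hAB' _ (Subalgebra.algebraMap_mem _ _), ?_, ?_⟩
      · rw [isUnit_iff_ne_zero]
        intro h
        exact hr (hRinj (by rw [h, map_zero]))
      · rw [mul_comm]
        exact hAB' _ hrl

/-- Let A be a Noetherian ring such that (i) for every maximal ideal m the formal fibres of A_m are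
geometrically reduced, and (ii) the regular locus of every A-algebra of finite type is open (A is
J-2). Then A is universally Japanese. -/
theorem result (A : Type u) [CommRing A] [IsNoetherianRing A]
    (h1 : ∀ (m : Ideal A) [m.IsMaximal], EGA4.HasGeomReducedFormalFibres (Localization.AtPrime m))
    (h2 : EGA4.IsJ2 A) : CAlg.IsUniversallyJapanese A :=
  ((Groth.Agent.S0567.result A).mp
    (isNagata A (fun N _ => formalFibres_atPrime A h1 N) h2)).2

end Groth.Agent.S4709
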