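import Groth.Statements.S4718
import Groth.Agent.EGA4.K111.RestrDepth

set_option autoImplicit false
universe u
open EGA4

namespace Groth.Agent.S4718

open K111.RestrDepth

/-- Let A be a Noetherian local ring, B a Noetherian ring, A → B a ring homomorphism and M a nonzero
B-module which is finite as an A-module. Then M is a Cohen–Macaulay A-module if and only if, for all
primes q of B lying over the maximal ideal of A and belonging to the support of M, the B_q-module
M_q is Cohen–Macaulay and all these modules M_q have the same dimension. -/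
theorem result (A B : Type u) [CommRing A] [CommRing B]
    [IsNoetherianRing A] [IsLocalRing A] [IsNoetherianRing B] [Algebra A B]
    (M : Type u) [AddCommGroup M] [Module B M] [Module A M] [IsScalarTower A B M] [Module.Finite A M]
    [Nontrivial M] :
    LocCoh.IsCohenMacaulayModule A M ↔
      (∀ q ∈ {q : PrimeSpectrum B | q.asIdeal.comap (algebraMap A B) = IsLocalRing.maximalIdeal A ∧
          q ∈ Module.support B M},
        LocCoh.IsCohenMacaulayModule (Localization.AtPrime q.asIdeal) (LocalizedModule q.asIdeal.primeCompl M)) ∧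
      (∀ q ∈ {q : PrimeSpectrum B | q.asIdeal.comap (algebraMap A B) = IsLocalRing.maximalIdeal A ∧
          q ∈ Module.support B M},
        ∀ q' ∈ {q : PrimeSpectrum B | q.asIdeal.comap (algebraMap A B) = IsLocalRing.maximalIdeal A ∧
          q ∈ Module.support B M},
          Module.supportDim (Localization.AtPrime q.asIdeal) (LocalizedModule q.asIdeal.primeCompl M) =
            Module.supportDim (Localization.AtPrime q'.asIdeal) (LocalizedModule q'.asIdeal.primeCompl M)) := by
  have hfB : Module.Finite B M := Module.Finite.of_restrictScalars_finite A B M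
  have hdim := Ega4B.DimFinite.supportDim_atPrime_restrictScalars (B := B) (IsLocalRing.maximalIdeal A) M
  rw [supportDim_localization_maximalIdeal] at hdim
  -- each `q` over the maximal ideal satisfies `depth A M ≤ depth M_q`, `dim M_q ≤ dim M`
  have hdep : ∀ q : PrimeSpectrum B, q.asIdeal.comap (algebraMap A B) = IsLocalRing.maximalIdeal A →
      LocCoh.depth A M ≤
        LocCoh.depth (Localization.AtPrime q.asIdeal) (LocalizedModule q.asIdeal.primeCompl M) := by
    intro q hq
    rw [← depth_localization_maximalIdeal A M]
    exact depth_le M _ q.asIdeal hq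
  have hdl : ∀ q : PrimeSpectrum B, q.asIdeal.comap (algebraMap A B) = IsLocalRing.maximalIdeal A →
      q ∈ Module.support B M →
      Module.supportDim (Localization.AtPrime q.asIdeal) (LocalizedModule q.asIdeal.primeCompl M) ≤
        Module.supportDim A M := by
    intro q hq hqM
    rw [← supportDim_localization_maximalIdeal A M]
    exact supportDim_le M _ q hq hqM
  constructor
  · intro hCM
    have hCM' : Module.supportDim A M = ((LocCoh.depth A M : ℕ∞) : WithBot ℕ∞) := hCM
    -- `dim M_q ≤ depth M_q'` for all `q`, `q'`
    have key : ∀ q q' : PrimeSpectrum B, q.asIdeal.comap (algebraMap A B) = IsLocalRing.maximalIdeal A →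
        q ∈ Module.support B M → q'.asIdeal.comap (algebraMap A B) = IsLocalRing.maximalIdeal A →
        Module.supportDim (Localization.AtPrime q.asIdeal) (LocalizedModule q.asIdeal.primeCompl M) ≤
          ((LocCoh.depth (Localization.AtPrime q'.asIdeal) (LocalizedModule q'.asIdeal.primeCompl M) : ℕ∞) :
            WithBot ℕ∞) := by
      intro q q' hq hqM hq'
      refine (hdl q hq hqM).trans ?_
      rw [hCM']
      exact WithBot.coe_le_coe.mpr (hdep q' hq')
    refine ⟨fun q hq => ?_, fun q hq q' hq' => ?_⟩
    · exact le_antisymm (key q q hq.1 hq.2 hq.1) (depth_le_supportDim_atPrime M q hq.2)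
    · exact le_antisymm ((key q q' hq.1 hq.2 hq'.1).trans (depth_le_supportDim_atPrime M q' hq'.2))
        ((key q' q hq'.1 hq'.2 hq.1).trans (depth_le_supportDim_atPrime M q hq.2))
  · rintro ⟨h1, h2⟩
    -- some prime of the support of `M` over `B` lies over the maximal ideal
    have hne : ∃ q₀ : PrimeSpectrum B, q₀.asIdeal.comap (algebraMap A B) = IsLocalRing.maximalIdeal A ∧
        q₀ ∈ Module.support B M := by
      by_contra hcon
      have h3 : Module.supportDim A M = ⊥ := by
        rw [hdim, eq_bot_iff]
        refine iSup₂_le fun q hq => ?_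
        exact absurd ⟨q, hq⟩ hcon
      exact (Module.supportDim_ne_bot_iff_nontrivial A M).mpr inferInstance h3
    obtain ⟨q₀, hq₀, hq₀M⟩ := hne
    have h3 : Module.supportDim A M =
        Module.supportDim (Localization.AtPrime q₀.asIdeal) (LocalizedModule q₀.asIdeal.primeCompl M) := by
      refine le_antisymm ?_ (hdl q₀ hq₀ hq₀M)
      rw [hdim]
      exact iSup₂_le fun q hq => (h2 q hq q₀ ⟨hq₀, hq₀M⟩).le
    have h4 : LocCoh.depth A M = LocCoh.depth (Localization.AtPrime q₀.asIdeal)
        (LocalizedModule q₀.asIdeal.primeCompl M) := by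
      refine le_antisymm (hdep q₀ hq₀) ?_
      rw [← ENat.forall_natCast_le_iff_le]
      intro n hn
      rw [← depth_localization_maximalIdeal A M,
        Ega4B.DepthFinite.natCast_le_depth_atPrime_iff (B := B) (IsLocalRing.maximalIdeal A) n M]
      intro q _ hq
      by_cases hqM : (⟨q, inferInstance⟩ : PrimeSpectrum B) ∈ Module.support B M
      · have h5 := h1 ⟨q, inferInstance⟩ ⟨hq, hqM⟩
        have h6 := h1 q₀ ⟨hq₀, hq₀M⟩
        have h7 := h2 ⟨q, inferInstance⟩ ⟨hq, hqM⟩ q₀ ⟨hq₀, hq₀M⟩
        unfold LocCoh.IsCohenMacaulayModule at h5 h6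
        rw [h7, h6, WithBot.coe_inj] at h5
        exact hn.trans h5.le
      · have h5 := depth_eq_top M ⟨q, inferInstance⟩ hqM
        rw [h5]
        exact le_top
    have h5 := h1 q₀ ⟨hq₀, hq₀M⟩
    unfold LocCoh.IsCohenMacaulayModule at h5 ⊢
    rw [h3, h4, h5]

end Groth.Agent.S4718
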