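import Groth.Statements.S4719
import Groth.Agent.EGA4.K111.RestrDepth

set_option autoImplicit false
universe u
open EGA4

namespace Groth.Agent.S4719

open K111.RestrDepth

/-- Let A → B be a homomorphism of Noetherian rings and M a B-module which is finite as an A-module. (i)
If M satisfies (S_k) as an A-module, it satisfies (S_k) as a B-module. (ii) If for every two primes
q, q' of B in the support of M having the same contraction to A the modules M_q and M_{q'} have the
same dimension, then (S_k) for M as a B-module implies (S_k) for M as an A-module. (The published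
statement asks the equal-dimension condition for all pairs of primes of B with the same contraction;
this row asks it only for primes in the support of M, which is all its proof uses.) -/
theorem result (k : ℕ) (A B : Type u) [CommRing A] [CommRing B] [IsNoetherianRing A]
    [IsNoetherianRing B] [Algebra A B] (M : Type u) [AddCommGroup M] [Module B M] [Module A M]
    [IsScalarTower A B M] [Module.Finite A M] :
    (LocCoh.HasSk k A M → LocCoh.HasSk k B M) ∧
      ((∀ q ∈ Module.support B M, ∀ q' ∈ Module.support B M,
          q.asIdeal.comap (algebraMap A B) = q'.asIdeal.comap (algebraMap A B) →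
            Module.supportDim (Localization.AtPrime q.asIdeal) (LocalizedModule q.asIdeal.primeCompl M) =
              Module.supportDim (Localization.AtPrime q'.asIdeal) (LocalizedModule q'.asIdeal.primeCompl M)) →
        LocCoh.HasSk k B M → LocCoh.HasSk k A M) := by
  have hfB : Module.Finite B M := Module.Finite.of_restrictScalars_finite A B M
  refine ⟨fun h q hq => ?_, fun heq h p hp => ?_⟩
  · by_cases hqM : (⟨q, hq⟩ : PrimeSpectrum B) ∈ Module.support B M
    · have h1 := h (q.comap (algebraMap A B))
      refine le_trans (le_trans (min_le_min le_rfl ?_) h1) ?_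
      · exact supportDim_le M (q.comap (algebraMap A B)) ⟨q, hq⟩ rfl hqM
      · exact WithBot.coe_le_coe.mpr (depth_le M (q.comap (algebraMap A B)) q rfl)
    · have h1 := depth_eq_top M ⟨q, hq⟩ hqM
      rw [h1]
      exact le_top
  · have hdim := Ega4B.DimFinite.supportDim_atPrime_restrictScalars (B := B) p M
    by_cases hne : ∃ q₀ : PrimeSpectrum B, q₀.asIdeal.comap (algebraMap A B) = p ∧
        q₀ ∈ Module.support B M
    · obtain ⟨q₀, hq₀, hq₀M⟩ := hne
      have h3 : Module.supportDim (Localization.AtPrime p) (LocalizedModule p.primeCompl M) =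
          Module.supportDim (Localization.AtPrime q₀.asIdeal) (LocalizedModule q₀.asIdeal.primeCompl M) := by
        refine le_antisymm ?_ (supportDim_le M p q₀ hq₀ hq₀M)
        rw [hdim]
        exact iSup₂_le fun q hq => (heq q hq.2 q₀ hq₀M (hq.1.trans hq₀.symm)).le
      have hbot : Module.supportDim (Localization.AtPrime q₀.asIdeal)
          (LocalizedModule q₀.asIdeal.primeCompl M) ≠ ⊥ := by
        rw [Module.supportDim_ne_bot_iff_nontrivial]
        exact Module.mem_support_iff.mp hq₀M
      obtain ⟨D, hD⟩ := WithBot.ne_bot_iff_exists.mp hbot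
      rw [h3, ← hD]
      have hmin : min (k : WithBot ℕ∞) (D : WithBot ℕ∞) = ((min (k : ℕ∞) D : ℕ∞) : WithBot ℕ∞) := by
        rw [WithBot.coe_min]
        rfl
      rw [hmin, WithBot.coe_le_coe]
      obtain ⟨n, hn⟩ := ENat.ne_top_iff_exists.mp
        (ne_top_of_le_ne_top (ENat.coe_ne_top k) (min_le_left (k : ℕ∞) D))
      rw [← hn, Ega4B.DepthFinite.natCast_le_depth_atPrime_iff (B := B) p n M]
      intro q hqp hq
      by_cases hqM : (⟨q, hqp⟩ : PrimeSpectrum B) ∈ Module.support B M
      · have h5 := h q
        have h6 := heq ⟨q, hqp⟩ hqM q₀ hq₀M (hq.trans hq₀.symm)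
        change Module.supportDim (Localization.AtPrime q) (LocalizedModule q.primeCompl M) = _ at h6
        rw [h6, ← hD, hmin, ← hn, WithBot.coe_le_coe] at h5
        exact h5
      · have h5 := depth_eq_top M ⟨q, hqp⟩ hqM
        rw [h5]
        exact le_top
    · have h3 : Module.supportDim (Localization.AtPrime p) (LocalizedModule p.primeCompl M) = ⊥ := by
        rw [hdim, eq_bot_iff]
        refine iSup₂_le fun q hq => ?_
        exact absurd ⟨q, hq⟩ hne
      rw [h3]
      exact (min_le_right _ _).trans bot_le

end Groth.Agent.S4719
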