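import Groth.Statements.S4721
import Groth.Agent.Ega4B.DepthFinite
import Groth.Agent.EGA4.K111.CMEmbed
import Mathlib.RingTheory.Spectrum.Prime.Topology
import Mathlib.RingTheory.Spectrum.Prime.Basic
import Mathlib.RingTheory.Ideal.MinimalPrime.Noetherian
import Mathlib.RingTheory.Idempotents

set_option autoImplicit false
universe u
open EGA4

namespace Groth.Agent.S4721

open Groth.Agent.Ega4B

theorem idem_trivial {B : Type*} [CommRing B] [PreconnectedSpace (PrimeSpectrum B)] {e : B}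
    (he : e * e = e) : e = 0 ∨ e = 1 := by
  have he' : IsIdempotentElem e := he
  have h1 := isClopen_iff.mp (PrimeSpectrum.isClopen_iff.mpr ⟨e, he', rfl⟩)
  rcases h1 with h1 | h1
  · left
    apply PrimeSpectrum.basicOpen_injOn_isIdempotentElem he' IsIdempotentElem.zero
    ext1
    rw [h1, PrimeSpectrum.basicOpen_zero]; rfl
  · right
    apply PrimeSpectrum.basicOpen_injOn_isIdempotentElem he' IsIdempotentElem.one
    ext1
    rw [h1, PrimeSpectrum.basicOpen_one]; rfl

/-- If `ab = 0` and there are `x, y ∈ a + b` with `x` regular on `A` and `y` regular on `A/xA`, and the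
spectrum of `A` is connected, then `a = 0` or `b = 0`. -/
theorem eq_bot_or_eq_bot {A : Type u} [CommRing A] [PreconnectedSpace (PrimeSpectrum A)] (a b : Ideal A)
    (hab : a * b = ⊥) (x y : A) (hx : x ∈ a ⊔ b) (hy : y ∈ a ⊔ b) (hxr : IsSMulRegular A x)
    (hyr : IsSMulRegular (QuotSMulTop x A) y) : a = ⊥ ∨ b = ⊥ := by
  obtain ⟨x1, hx1, x2, hx2, rfl⟩ := Submodule.mem_sup.mp hx
  obtain ⟨y1, hy1, y2, hy2, rfl⟩ := Submodule.mem_sup.mp hy
  have hz : ∀ u ∈ a, ∀ v ∈ b, u * v = 0 := by
    intro u hu v hv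
    have : u * v ∈ a * b := Ideal.mul_mem_mul hu hv
    rwa [hab, Ideal.mem_bot] at this
  have hcancel : ∀ z : A, (x1 + x2) * z = 0 → z = 0 := by
    intro z h
    apply hxr
    change (x1 + x2) * z = (x1 + x2) * 0
    rw [h, mul_zero]
  -- `y x1 ∈ x A`
  have h1 : (y1 + y2) * x1 = (x1 + x2) * y1 := by
    have e1 := hz x1 hx1 y2 hy2
    have e2 := hz y1 hy1 x2 hx2
    linear_combination e1 - e2
  have h2 : ∃ e : A, x1 = (x1 + x2) * e := by
    have h3 : (Submodule.Quotient.mk x1 : QuotSMulTop (x1 + x2) A) = 0 := by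
      apply hyr
      change (y1 + y2) • (Submodule.Quotient.mk x1 : QuotSMulTop (x1 + x2) A) = (y1 + y2) • 0
      rw [smul_zero, ← Submodule.Quotient.mk_smul, Submodule.Quotient.mk_eq_zero, smul_eq_mul, h1]
      exact Submodule.smul_mem_pointwise_smul y1 (x1 + x2) ⊤ trivial
    rw [Submodule.Quotient.mk_eq_zero, Submodule.mem_smul_pointwise_iff_exists] at h3
    obtain ⟨e, -, he⟩ := h3
    exact ⟨e, he.symm⟩
  obtain ⟨e, he⟩ := h2
  have h3 : x1 * x1 = x1 * ((x1 + x2) * e) := by rw [← he]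
  have h4 : x1 * e = x1 := by
    have e3 := hz x1 hx1 x2 hx2
    have h5 : (x1 + x2) * (x1 * e - x1) = 0 := by
      linear_combination (-1 : A) * h3 - e3
    exact sub_eq_zero.mp (hcancel _ h5)
  have h5 : e * e = e := by
    have h6 : (x1 + x2) * (e * e - e) = 0 := by
      have : (x1 + x2) * (e * e) = x1 * e := by rw [← mul_assoc, ← he]
      rw [mul_sub, this, h4, ← he, sub_self]
    exact sub_eq_zero.mp (hcancel _ h6)
  rcases idem_trivial h5 with rfl | rfl
  · left
    rw [mul_zero] at he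
    rw [eq_bot_iff]
    intro u hu
    rw [Ideal.mem_bot]
    apply hcancel
    rw [he, zero_add, mul_comm]
    exact hz u hu x2 hx2
  · right
    rw [mul_one] at he
    have h6 : x2 = 0 := by
      have : x1 + 0 = x1 + x2 := by rw [add_zero]; exact he
      exact (add_left_cancel this).symm
    rw [eq_bot_iff]
    intro u hu
    rw [Ideal.mem_bot]
    apply hcancel
    rw [h6, add_zero]
    exact hz x1 hx1 u hu

/-- If all primes containing `I` have depth at least two, `I` contains a regular sequence of length two. -/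
theorem exists_regular_pair {A : Type u} [CommRing A] [IsNoetherianRing A] (I : Ideal A)
    (h : ∀ (q : Ideal A) [q.IsPrime], I ≤ q →
      (2 : ℕ∞) ≤ LocCoh.depth (Localization.AtPrime q) (Localization.AtPrime q)) :
    ∃ x ∈ I, ∃ y ∈ I, IsSMulRegular A x ∧ IsSMulRegular (QuotSMulTop x A) y := by
  have h' : ∀ (q : Ideal A) [q.IsPrime], I ≤ q →
      (2 : ℕ∞) ≤ LocCoh.depth (Localization.AtPrime q) (LocalizedModule q.primeCompl A) := by
    intro q _ hq
    rw [K111.CMEmbed.depth_atPrime_self A q]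
    exact h q hq
  have h0 : ∀ q ∈ associatedPrimes A A, ¬ I ≤ q := by
    intro q hq hIq
    have hqp : q.IsPrime := IsAssociatedPrime.isPrime hq
    have h1 : (1 : ℕ∞) ≤ LocCoh.depth (Localization.AtPrime q) (LocalizedModule q.primeCompl A) :=
      le_trans (by decide) (h' q hIq)
    exact (DepthFinite.one_le_depth_atPrime_iff q A).mp h1 hq
  obtain ⟨x, hx, hxr⟩ := (DepthFinite.exists_isSMulRegular_mem_iff I A).mpr h0
  have h1 : ∀ q ∈ associatedPrimes A (QuotSMulTop x A), ¬ I ≤ q := by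
    intro q hq hIq
    have hqp : q.IsPrime := IsAssociatedPrime.isPrime hq
    have hreg : IsSMulRegular (LocalizedModule q.primeCompl A)
        (algebraMap A (Localization.AtPrime q) x) := by
      rw [DepthFinite.isSMulRegular_localizedModule_iff]
      intro m s hs h
      refine ⟨s, hs, ?_⟩
      rw [smul_comm] at h
      apply hxr
      change x • s • m = x • 0
      rw [h, smul_zero]
    have h2 := DepthFinite.quotSMulTop_add_one_le_iff q (hIq hx) A hreg
    have h3 := h' q hIq
    rw [← h2] at h3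
    have h4 : (1 : ℕ∞) ≤ LocCoh.depth (Localization.AtPrime q)
        (LocalizedModule q.primeCompl (QuotSMulTop x A)) := by
      have h5 : (1 : ℕ∞) + 1 ≤ LocCoh.depth (Localization.AtPrime q)
        (LocalizedModule q.primeCompl (QuotSMulTop x A)) + 1 := by
        rw [one_add_one_eq_two]; exact h3
      exact (ENat.add_le_add_iff_right (by simp)).mp h5
    exact (DepthFinite.one_le_depth_atPrime_iff q _).mp h4 hq
  obtain ⟨y, hy, hyr⟩ := (DepthFinite.exists_isSMulRegular_mem_iff I (QuotSMulTop x A)).mpr h1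
  exact ⟨x, hx, y, hy, hxr, hyr⟩

/-- Two minimal primes are linked when both are contained in a prime of height `≤ d - 1`. -/
def Link (A : Type u) [CommRing A] (d : ℕ) (c c' : Ideal A) : Prop :=
  c' ∈ minimalPrimes A ∧ ∃ (q : Ideal A) (_ : q.IsPrime), c ≤ q ∧ c' ≤ q ∧ q.height + 1 ≤ (d : ℕ∞)

theorem exists_chain (A : Type u) [CommRing A] (d : ℕ) (p' : Ideal A) (hp' : p' ∈ minimalPrimes A)
    (p : Ideal A) (h : Relation.ReflTransGen (Link A d) p' p) :
    ∃ (n : ℕ) (c : ℕ → Ideal A), c 0 = p' ∧ c n = p ∧ (∀ i ≤ n, c i ∈ minimalPrimes A) ∧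
      ∀ i < n, ∃ (q : Ideal A) (_ : q.IsPrime), c i ≤ q ∧ c (i + 1) ≤ q ∧ q.height + 1 ≤ (d : ℕ∞) := by
  induction h with
  | refl => exact ⟨0, fun _ => p', rfl, rfl, fun _ _ => hp', fun i hi => absurd hi (Nat.not_lt_zero i)⟩
  | @tail b c' _ hbc ih =>
    obtain ⟨n, c, h0, hn, hmin, hlink⟩ := ih
    let c₁ : ℕ → Ideal A := fun i => if i ≤ n then c i else c'
    have e1 : ∀ i ≤ n, c₁ i = c i := fun i hi => if_pos hi
    have e2 : c₁ (n + 1) = c' := if_neg (by omega)
    refine ⟨n + 1, c₁, ?_, e2, ?_, ?_⟩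
    · rw [e1 0 (Nat.zero_le _), h0]
    · intro i hi
      rcases Nat.le_succ_iff.mp hi with hi | rfl
      · rw [e1 i hi]; exact hmin i hi
      · rw [e2]; exact hbc.1
    · intro i hi
      rcases Nat.lt_succ_iff_lt_or_eq.mp hi with hi | rfl
      · rw [e1 i hi.le, e1 (i + 1) hi]; exact hlink i hi
      · rw [e1 i le_rfl, e2, hn]; exact hbc.2

/-- Let A be a Noetherian ring whose spectrum is connected and d a natural number such that for every
prime p of height at least d the local ring A_p has depth at least 2. Then for any two distinct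
minimal primes p', p'' of A there is a finite chain of minimal primes starting at p' and ending at
p'' such that any two consecutive members are both contained in a prime ideal of height at most d −
1 (the spectrum is connected in codimension at most d − 1). -/
theorem result (A : Type u) [CommRing A] [IsNoetherianRing A]
    [ConnectedSpace (PrimeSpectrum A)] (d : ℕ)
    (h : ∀ (p : Ideal A) [p.IsPrime], (d : ℕ∞) ≤ p.height →
      (2 : ℕ∞) ≤ LocCoh.depth (Localization.AtPrime p) (Localization.AtPrime p))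
    (p' p'' : Ideal A) (hp' : p' ∈ minimalPrimes A) (hp'' : p'' ∈ minimalPrimes A) (hne : p' ≠ p'') :
    ∃ (n : ℕ) (c : Fin (n + 1) → Ideal A), c 0 = p' ∧ c (Fin.last n) = p'' ∧ (∀ i, c i ∈ minimalPrimes A) ∧
      ∀ i : Fin n, ∃ (q : Ideal A) (_ : q.IsPrime),
        c i.castSucc ≤ q ∧ c i.succ ≤ q ∧ q.height + 1 ≤ (d : ℕ∞) := by
  classical
  by_cases hreach : Relation.ReflTransGen (Link A d) p' p''
  · obtain ⟨n, c, h0, hn, hmin, hlink⟩ := exists_chain A d p' hp' p'' hreach
    refine ⟨n, fun i => c i, h0, hn, fun i => hmin i (Nat.lt_succ_iff.mp i.2), fun i => ?_⟩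
    exact hlink i i.2
  · exfalso
    have hfin : (minimalPrimes A).Finite := minimalPrimes.finite_of_isNoetherianRing A
    let C : Finset (Ideal A) := hfin.toFinset.filter (fun p => Relation.ReflTransGen (Link A d) p' p)
    let D : Finset (Ideal A) := hfin.toFinset.filter (fun p => ¬ Relation.ReflTransGen (Link A d) p' p)
    have hC : ∀ p, p ∈ C ↔ p ∈ minimalPrimes A ∧ Relation.ReflTransGen (Link A d) p' p := by
      intro p; simp [C]
    have hD : ∀ p, p ∈ D ↔ p ∈ minimalPrimes A ∧ ¬ Relation.ReflTransGen (Link A d) p' p := by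
      intro p; simp [D]
    let a₀ : Ideal A := C.inf id
    let b₀ : Ideal A := D.inf id
    -- `a₀ b₀` is nilpotent
    have hnil : a₀ * b₀ ≤ nilradical A := by
      rw [nilradical, ← Ideal.sInf_minimalPrimes]
      refine le_sInf fun p hp => ?_
      have hp' : p ∈ minimalPrimes A := hp
      by_cases hpr : Relation.ReflTransGen (Link A d) p' p
      · exact Ideal.mul_le_left.trans (Finset.inf_le (f := id) ((hC p).mpr ⟨hp', hpr⟩))
      · exact Ideal.mul_le_right.trans (Finset.inf_le (f := id) ((hD p).mpr ⟨hp', hpr⟩))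
    obtain ⟨N, hN⟩ := IsNoetherianRing.isNilpotent_nilradical A
    have hab : a₀ ^ N * b₀ ^ N = ⊥ := by
      rw [← mul_pow, eq_bot_iff, ← Ideal.zero_eq_bot, ← hN]
      exact Ideal.pow_right_mono hnil N
    have hmin : ∀ p₁ p₂ : Ideal A, p₁ ∈ minimalPrimes A → p₂ ∈ minimalPrimes A → p₁ ≤ p₂ → p₁ = p₂ :=
      fun p₁ p₂ h1 h2 hle => le_antisymm hle (h2.2 h1.1 hle)
    have hdepth : ∀ (q : Ideal A) [q.IsPrime], a₀ ^ N ⊔ b₀ ^ N ≤ q →
        (2 : ℕ∞) ≤ LocCoh.depth (Localization.AtPrime q) (Localization.AtPrime q) := by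
      intro q hqp hq
      apply h q
      by_contra hcon
      rw [not_le] at hcon
      have h1 : a₀ ≤ q := hqp.le_of_pow_le (le_sup_left.trans hq)
      have h2 : b₀ ≤ q := hqp.le_of_pow_le (le_sup_right.trans hq)
      obtain ⟨p₁, hp₁, hp₁q⟩ := hqp.inf_le'.mp h1
      obtain ⟨p₂, hp₂, hp₂q⟩ := hqp.inf_le'.mp h2
      rw [hC] at hp₁
      rw [hD] at hp₂
      exact hp₂.2 (hp₁.2.tail ⟨hp₂.1, q, hqp, hp₁q, hp₂q, Order.add_one_le_of_lt hcon⟩)
    obtain ⟨x, hx, y, hy, hxr, hyr⟩ := exists_regular_pair _ hdepth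
    rcases eq_bot_or_eq_bot (a₀ ^ N) (b₀ ^ N) hab x y hx hy hxr hyr with h0 | h0
    · have hpp : p''.IsPrime := hp''.1.1
      have h1 : a₀ ≤ p'' := hpp.le_of_pow_le (n := N) (by rw [h0]; exact bot_le)
      obtain ⟨p₁, hp₁, hp₁q⟩ := hpp.inf_le'.mp h1
      rw [hC] at hp₁
      have h2 := hmin p₁ p'' hp₁.1 hp'' hp₁q
      exact hreach (h2 ▸ hp₁.2)
    · have hpp : p'.IsPrime := hp'.1.1
      have h1 : b₀ ≤ p' := hpp.le_of_pow_le (n := N) (by rw [h0]; exact bot_le)
      obtain ⟨p₁, hp₁, hp₁q⟩ := hpp.inf_le'.mp h1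
      rw [hD] at hp₁
      have h2 := hmin p₁ p' hp₁.1 hp' hp₁q
      exact hp₁.2 (h2 ▸ Relation.ReflTransGen.refl)

end Groth.Agent.S4721
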