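import Groth.Statements.S4722
import Mathlib.RingTheory.Ideal.AssociatedPrime.Finiteness
import Mathlib.RingTheory.Ideal.AssociatedPrime.Localization
import Mathlib.RingTheory.Support
import Mathlib.RingTheory.Noetherian.Basic
import Mathlib.Order.Fin.Basic

set_option autoImplicit false
universe u
open EGA4

namespace Groth.Agent.S4722

/-- A nonzero finite module all of whose associated primes equal `p` has a nonzero submodule embedding
in `A/p` whose quotient again has only `p` as possible associated prime. -/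
theorem step (A : Type u) [CommRing A] [IsNoetherianRing A]
    (M : Type u) [AddCommGroup M] [Module A M] [Module.Finite A M] [Nontrivial M] (p : Ideal A)
    (hp : associatedPrimes A M ⊆ {p}) :
    ∃ N : Submodule A M, N ≠ ⊥ ∧ associatedPrimes A (M ⧸ N) ⊆ {p} ∧
      ∃ g : N →ₗ[A] (A ⧸ p), Function.Injective g := by
  have hass : associatedPrimes A M = {p} := by
    obtain ⟨q, hq⟩ := associatedPrimes.nonempty A M
    exact (hp.antisymm (by rw [Set.singleton_subset_iff, ← hp hq]; exact hq))
  have hpass : IsAssociatedPrime p M := by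
    have : p ∈ associatedPrimes A M := by rw [hass]; rfl
    exact this
  have hpp : p.IsPrime := hpass.isPrime
  -- elements outside `p` are nonzerodivisors on `M`
  have hnzd : ∀ s : A, s ∉ p → ∀ m : M, s • m = 0 → m = 0 := by
    intro s hs m hsm
    by_contra hm
    have h1 : s ∈ ⋃ q ∈ associatedPrimes A M, (q : Set A) := by
      rw [biUnion_associatedPrimes_eq_zero_divisors]
      exact ⟨m, hm, hsm⟩
    rw [hass] at h1
    simp only [Set.mem_singleton_iff, Set.iUnion_iUnion_eq_left] at h1
    exact hs h1
  -- every prime in the support of `M` contains `p`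
  have hsupp : ∀ q : PrimeSpectrum A, q ∈ Module.support A M → p ≤ q.asIdeal := by
    intro q hq
    rw [Module.support_eq_zeroLocus, PrimeSpectrum.mem_zeroLocus] at hq
    have hq' : (Module.annihilator A M) ≤ q.asIdeal := hq
    obtain ⟨q', hq'min, hq'le⟩ := Ideal.exists_minimalPrimes_le hq'
    have h2 := Module.associatedPrimes.minimalPrimes_annihilator_subset_associatedPrimes A M hq'min
    rw [hass] at h2
    rw [← show q' = p from h2]
    exact hq'le
  obtain ⟨x, hx⟩ := (isAssociatedPrime_iff.mp hpass).2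
  have hx' : ∀ a : A, a ∈ p ↔ a • x = 0 := by
    intro a
    rw [hx, Submodule.mem_colon_singleton, Submodule.mem_bot]
  let N : Submodule A M :=
    { carrier := {m | ∃ s : A, s ∉ p ∧ s • m ∈ A ∙ x}
      zero_mem' := ⟨1, fun h => hpp.ne_top ((Ideal.eq_top_iff_one _).mpr h), by simp⟩
      add_mem' := by
        rintro a b ⟨s, hs, hsa⟩ ⟨t, ht, htb⟩
        refine ⟨s * t, fun h => (hpp.mem_or_mem h).elim hs ht, ?_⟩
        rw [smul_add]
        refine Submodule.add_mem _ ?_ ?_
        · rw [mul_comm, mul_smul]; exact Submodule.smul_mem _ _ hsa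
        · rw [mul_smul]; exact Submodule.smul_mem _ _ htb
      smul_mem' := by
        rintro c a ⟨s, hs, hsa⟩
        exact ⟨s, hs, by rw [smul_comm]; exact Submodule.smul_mem _ _ hsa⟩ }
  have hN : ∀ m : M, m ∈ N ↔ ∃ s : A, s ∉ p ∧ s • m ∈ A ∙ x := fun m => Iff.rfl
  have hxN : x ∈ N := by
    rw [hN]
    exact ⟨1, fun h => hpp.ne_top ((Ideal.eq_top_iff_one _).mpr h), by
      rw [one_smul]; exact Submodule.mem_span_singleton_self x⟩
  have hx0 : x ≠ 0 := by
    intro h
    apply hpp.ne_top
    rw [Ideal.eq_top_iff_one, hx', h, smul_zero]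
  refine ⟨N, ?_, ?_, ?_⟩
  · intro h
    rw [h, Submodule.mem_bot] at hxN
    exact hx0 hxN
  · intro q hq
    rw [Set.mem_singleton_iff]
    have hqp : q.IsPrime := IsAssociatedPrime.isPrime hq
    apply le_antisymm
    · -- elements outside `p` are nonzerodivisors on `M/N`
      obtain ⟨y, hy⟩ := (isAssociatedPrime_iff.mp hq).2
      have hy' : ∀ a : A, a ∈ q ↔ a • y = 0 := by
        intro a
        rw [hy, Submodule.mem_colon_singleton, Submodule.mem_bot]
      intro s hs
      by_contra hsp
      have h3 := (hy' s).mp hs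
      obtain ⟨y, rfl⟩ := N.mkQ_surjective y
      rw [← map_smul, Submodule.mkQ_apply, Submodule.Quotient.mk_eq_zero, hN] at h3
      obtain ⟨t, ht, hty⟩ := h3
      have h4 : y ∈ N := by
        rw [hN]
        refine ⟨t * s, fun h => (hpp.mem_or_mem h).elim ht hsp, ?_⟩
        rw [mul_smul]
        exact hty
      apply hqp.ne_top
      rw [Ideal.eq_top_iff_one, hy', one_smul, Submodule.mkQ_apply, Submodule.Quotient.mk_eq_zero]
      exact h4
    · have h5 : (⟨q, hqp⟩ : PrimeSpectrum A) ∈ Module.support A (M ⧸ N) := by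
        rw [Module.mem_support_iff_exists_annihilator]
        obtain ⟨y, hy⟩ := (isAssociatedPrime_iff.mp hq).2
        refine ⟨y, ?_⟩
        intro a ha
        rw [Submodule.mem_annihilator_span_singleton] at ha
        change a ∈ q
        rw [hy, Submodule.mem_colon_singleton, Submodule.mem_bot]
        exact ha
      exact hsupp ⟨q, hqp⟩ (Module.support_subset_of_surjective N.mkQ N.mkQ_surjective h5)
  · -- a common denominator
    have hNfg : N.FG := IsNoetherian.noetherian N
    have hden : ∃ s : A, s ∉ p ∧ ∀ m ∈ N, s • m ∈ A ∙ x := by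
      obtain ⟨T, hT⟩ := hNfg
      have h6 : ∀ T : Finset M, (T : Set M) ⊆ N → ∃ s : A, s ∉ p ∧ ∀ m ∈ T, s • m ∈ A ∙ x := by
        classical
        intro T
        induction T using Finset.induction_on with
        | empty => exact fun _ => ⟨1, fun h => hpp.ne_top ((Ideal.eq_top_iff_one _).mpr h), by simp⟩
        | insert a T _ ih =>
          intro hsub
          obtain ⟨s, hs, hsT⟩ := ih (fun m hm => hsub (Finset.mem_coe.mpr (Finset.mem_insert_of_mem hm)))
          obtain ⟨t, ht, hta⟩ := (hN a).mp (hsub (Finset.mem_coe.mpr (Finset.mem_insert_self _ _)))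
          refine ⟨s * t, fun h => (hpp.mem_or_mem h).elim hs ht, fun m hm => ?_⟩
          rcases Finset.mem_insert.mp hm with rfl | hm
          · rw [mul_smul]; exact Submodule.smul_mem _ _ hta
          · rw [mul_comm, mul_smul]; exact Submodule.smul_mem _ _ (hsT m hm)
      obtain ⟨s, hs, hsT⟩ := h6 T (by rw [← hT]; exact Submodule.subset_span)
      refine ⟨s, hs, fun m hm => ?_⟩
      rw [← hT] at hm
      have h7 : Submodule.span A (T : Set M) ≤ (A ∙ x).comap (LinearMap.lsmul A M s) := by
        rw [Submodule.span_le]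
        intro m hm
        exact hsT m hm
      exact h7 hm
    obtain ⟨s, hs, hsN⟩ := hden
    -- `A ∙ x ≃ A/p`
    let e1 : (A ⧸ LinearMap.ker (LinearMap.toSpanSingleton A M x)) ≃ₗ[A]
        LinearMap.range (LinearMap.toSpanSingleton A M x) :=
      (LinearMap.toSpanSingleton A M x).quotKerEquivRange
    have hker : LinearMap.ker (LinearMap.toSpanSingleton A M x) = p := by
      ext a
      rw [LinearMap.mem_ker, LinearMap.toSpanSingleton_apply, hx']
    have hrange : LinearMap.range (LinearMap.toSpanSingleton A M x) = A ∙ x :=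
      LinearMap.range_toSpanSingleton x
    let mulN : N →ₗ[A] LinearMap.range (LinearMap.toSpanSingleton A M x) :=
      LinearMap.codRestrict _ ((LinearMap.lsmul A M s) ∘ₗ N.subtype) (fun m => by
        rw [hrange]; exact hsN m m.2)
    have hmulN : Function.Injective mulN := by
      rw [injective_iff_map_eq_zero]
      intro m hm
      have h8 : s • (m : M) = 0 := congrArg Subtype.val hm
      exact Subtype.ext (hnzd s hs m h8)
    exact ⟨(Submodule.quotEquivOfEq _ _ hker).toLinearMap ∘ₗ e1.symm.toLinearMap ∘ₗ mulN,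
      (Submodule.quotEquivOfEq _ _ hker).injective.comp (e1.symm.injective.comp hmulN)⟩

theorem chain (A : Type u) [CommRing A] [IsNoetherianRing A]
    (M : Type u) [AddCommGroup M] [Module A M] [Module.Finite A M] (p : Ideal A) (K : Submodule A M)
    (hK : associatedPrimes A (M ⧸ K) ⊆ {p}) :
    ∃ (m : ℕ) (F : ℕ → Submodule A M), F 0 = ⊤ ∧ F m = K ∧ ∀ i < m, F (i + 1) ≤ F i ∧
      ∃ g : (↥(F i) ⧸ Submodule.comap (F i).subtype (F (i + 1))) →ₗ[A] (A ⧸ p), Function.Injective g := by
  induction K using WellFoundedGT.induction with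
  | ind K ih =>
  by_cases hKt : K = ⊤
  · exact ⟨0, fun _ => ⊤, rfl, hKt.symm, fun i hi => absurd hi (Nat.not_lt_zero i)⟩
  have hnt : Nontrivial (M ⧸ K) := Submodule.Quotient.nontrivial_iff.mpr hKt
  obtain ⟨N, hN0, hNass, g, hg⟩ := step A (M ⧸ K) p hK
  let K' := N.comap K.mkQ
  have hlt : K < K' := by
    refine lt_of_le_of_ne ?_ ?_
    · intro m hm
      rw [Submodule.mem_comap, Submodule.mkQ_apply, (Submodule.Quotient.mk_eq_zero K).mpr hm]
      exact N.zero_mem
    · intro h
      apply hN0
      rw [eq_bot_iff]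
      intro y hy
      obtain ⟨y, rfl⟩ := K.mkQ_surjective y
      have : y ∈ K' := hy
      rw [← h] at this
      rw [Submodule.mem_bot, Submodule.mkQ_apply, Submodule.Quotient.mk_eq_zero]
      exact this
  have hmap : K'.map K.mkQ = N := Submodule.map_comap_eq_of_surjective K.mkQ_surjective N
  have hass : associatedPrimes A (M ⧸ K') ⊆ {p} := by
    have e : ((M ⧸ K) ⧸ N) ≃ₗ[A] (M ⧸ K') :=
      (Submodule.quotEquivOfEq _ _ hmap.symm).trans (Submodule.quotientQuotientEquivQuotient K K' hlt.le)
    rw [← LinearEquiv.AssociatedPrimes.eq e]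
    exact hNass
  obtain ⟨m, F, hF0, hFm, hF⟩ := ih K' hlt hass
  let F' : ℕ → Submodule A M := fun i => if i ≤ m then F i else K
  refine ⟨m + 1, F', ?_, ?_, ?_⟩
  · simp [F', hF0]
  · simp [F']
  · intro i hi
    rcases Nat.lt_succ_iff_lt_or_eq.mp hi with hi | rfl
    · have h1 : i ≤ m := hi.le
      have h2 : i + 1 ≤ m := hi
      have e1 : F' i = F i := if_pos h1
      have e2 : F' (i + 1) = F (i + 1) := if_pos h2
      rw [e1, e2]
      exact hF i hi
    · have h1 : ¬ (i + 1 ≤ i) := by omega
      have e1 : F' i = K' := (if_pos le_rfl).trans hFm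
      have e2 : F' (i + 1) = K := if_neg h1
      rw [e1, e2]
      refine ⟨hlt.le, ?_⟩
      let θ : K' →ₗ[A] N := LinearMap.codRestrict N (K.mkQ ∘ₗ K'.subtype) (fun y => y.2)
      have hθ : LinearMap.ker θ = Submodule.comap K'.subtype K := by
        ext y
        rw [LinearMap.mem_ker, Submodule.mem_comap, Submodule.subtype_apply]
        constructor
        · intro h
          have : K.mkQ (y : M) = 0 := congrArg Subtype.val h
          rwa [Submodule.mkQ_apply, Submodule.Quotient.mk_eq_zero] at this
        · intro h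
          apply Subtype.ext
          change K.mkQ (y : M) = 0
          rwa [Submodule.mkQ_apply, Submodule.Quotient.mk_eq_zero]
      refine ⟨g ∘ₗ (Submodule.liftQ _ θ hθ.ge), hg.comp ?_⟩
      rw [← LinearMap.ker_eq_bot, Submodule.ker_liftQ_eq_bot _ _ _ hθ.le]

/-- Let A be a Noetherian ring and M a finite A-module whose set of associated primes is a single prime
p. Then M has a finite decreasing filtration by submodules M = M_0 ⊇ M_1 ⊇ ⋯ ⊇ M_m = 0 such that
each quotient M_h/M_{h+1} is isomorphic to a submodule of A/p (i.e. embeds A-linearly into A/p). -/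
theorem result (A : Type u) [CommRing A] [IsNoetherianRing A]
    (M : Type u) [AddCommGroup M] [Module A M] [Module.Finite A M] (p : Ideal A)
    (hp : associatedPrimes A M = {p}) :
    ∃ (m : ℕ) (F : Fin (m + 1) → Submodule A M), Antitone F ∧ F 0 = ⊤ ∧ F (Fin.last m) = ⊥ ∧
      ∀ i : Fin m, ∃ g : (↥(F i.castSucc) ⧸ Submodule.comap (F i.castSucc).subtype (F i.succ)) →ₗ[A] (A ⧸ p),
        Function.Injective g := by
  obtain ⟨m, F, hF0, hFm, hF⟩ := chain A M p ⊥ (by
    rw [LinearEquiv.AssociatedPrimes.eq (Submodule.quotEquivOfEqBot (⊥ : Submodule A M) rfl), hp])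
  refine ⟨m, fun i => F i, ?_, hF0, hFm, fun i => (hF i i.2).2⟩
  rw [Fin.antitone_iff_succ_le]
  intro i
  exact (hF i i.2).1

end Groth.Agent.S4722
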