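import Groth.Statements.S4723
import Groth.Agent.EGA4.K111.PZRegular
import Groth.Agent.S2723

set_option autoImplicit false
universe u
open EGA4

namespace Groth.Agent.S4723

open Groth.Agent.Ega4C.ZTransform

/-- Let A be a Noetherian ring which is either a quotient of a regular Noetherian ring or universally
catenary and universally Japanese. Then for every prime q of A, writing B = A/q with fraction field
K, and every ideal J of B of height at least 2, the subring of K consisting of the elements lying in
B_p for every prime p of B not containing J (the ring of sections of the structure sheaf of Spec B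
over the open complement of V(J)) is a finite B-algebra (some B-subalgebra of K with exactly this
underlying set is a finitely generated B-module). -/
theorem result (A : Type u) [CommRing A] [IsNoetherianRing A]
    (hA : (∃ (R : Type u) (_ : CommRing R), IsNoetherianRing R ∧ IsRegularRing R ∧
        ∃ f : R →+* A, Function.Surjective f) ∨
      (CAlg.IsUniversallyCatenary A ∧ CAlg.IsUniversallyJapanese A))
    (q : Ideal A) [q.IsPrime] (J : Ideal (A ⧸ q)) (hJ2 : (2 : ℕ∞) ≤ J.height) :
    ∃ B' : Subalgebra (A ⧸ q) (FractionRing (A ⧸ q)),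
      (B' : Set (FractionRing (A ⧸ q))) =
          {x | ∀ (p : Ideal (A ⧸ q)) [p.IsPrime], ¬ J ≤ p →
            ∃ s : A ⧸ q, s ∉ p ∧ ∃ a : A ⧸ q,
              algebraMap (A ⧸ q) (FractionRing (A ⧸ q)) a = algebraMap (A ⧸ q) (FractionRing (A ⧸ q)) s * x} ∧
        Module.Finite (A ⧸ q) B' := by
  have hPZ : PZ (PrimeSpectrum.zeroLocus (J : Set (A ⧸ q))) (A ⧸ q) := by
    rcases hA with ⟨R, _, _, _, f, hf⟩ | hA
    · let _ : Algebra R (A ⧸ q) := ((Ideal.Quotient.mk q).comp f).toAlgebra
      exact K111.PZRegular.PZ_of_surjective_regular R (A ⧸ q)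
        (Ideal.Quotient.mk_surjective.comp hf) J hJ2
    · exact PZ_of_heightOneHullFinite ((le_height_iff_forall_zeroLocus J 2).mp hJ2)
        (Groth.Agent.S2723.heightOneHullFinite_quotient A hA q)
  have hbot : (⊥ : PrimeSpectrum (A ⧸ q)) ∉ PrimeSpectrum.zeroLocus (J : Set (A ⧸ q)) := by
    intro h
    have h1 : J ≤ ⊥ := h
    have h2 : J.height ≤ (⊥ : Ideal (A ⧸ q)).height := Ideal.height_mono h1
    rw [Ideal.height_bot] at h2
    exact absurd (hJ2.trans h2) (by decide)
  have hfin := (PZ_iff_of_env (isZEnv_fractionRing (K := FractionRing (A ⧸ q)) hbot)).mp hPZ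
  refine ⟨DZsub (FractionRing (A ⧸ q)) (PrimeSpectrum.zeroLocus (J : Set (A ⧸ q))), ?_, hfin⟩
  ext x
  rw [SetLike.mem_coe, mem_DZsub, mem_DZ_fractionRing_iff, Set.mem_setOf_eq]
  constructor
  · intro h p hp hJp
    exact h ⟨p, hp⟩ hJp
  · intro h p hp
    exact h p.asIdeal hp

end Groth.Agent.S4723
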