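import Groth.Statements.S4726
import Mathlib.LinearAlgebra.TensorProduct.Pi
import Mathlib.LinearAlgebra.TensorProduct.RightExactness

set_option autoImplicit false
universe u
open EGA4

namespace Groth.Agent.S4726

open TensorProduct in
/-- A cokernel of a matrix over `R` whose entries come from `R₀` is a base change of a finitely presented
`R₀`-module. -/
theorem descend_coker {R₀ R : Type u} [CommRing R₀] [CommRing R] [Algebra R₀ R] (M : Type u) [AddCommGroup M]
    [Module R M] {n m : ℕ} (f : (Fin n → R) →ₗ[R] M) (g : (Fin m → R) →ₗ[R] (Fin n → R))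
    (hf : Function.Surjective f) (hfg : Function.Exact g f)
    (c : Fin m → Fin n → R₀) (hc : ∀ j i, algebraMap R₀ R (c j i) = g (Pi.single j 1) i) :
    ∃ (M₀ : Type u) (_ : AddCommGroup M₀) (_ : Module R₀ M₀), Module.FinitePresentation R₀ M₀ ∧
      Nonempty (M ≃ₗ[R] R ⊗[R₀] M₀) := by
  classical
  let g₀ : (Fin m → R₀) →ₗ[R₀] (Fin n → R₀) := Fintype.linearCombination R₀ c
  let N : Submodule R₀ (Fin n → R₀) := LinearMap.range g₀
  have hex₀ : Function.Exact g₀ N.mkQ := by
    rw [LinearMap.exact_iff, Submodule.ker_mkQ]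
  refine ⟨(Fin n → R₀) ⧸ N, inferInstance, inferInstance, ?_, ?_⟩
  · refine Module.finitePresentation_of_surjective N.mkQ N.mkQ_surjective ?_
    rw [Submodule.ker_mkQ]
    exact (Module.Finite.iff_fg).mp inferInstance
  · let e := TensorProduct.piScalarRight R₀ R R (Fin n)
    let e' := TensorProduct.piScalarRight R₀ R R (Fin m)
    let φ : (Fin n → R) →ₗ[R] R ⊗[R₀] ((Fin n → R₀) ⧸ N) := (N.mkQ.baseChange R) ∘ₗ e.symm.toLinearMap
    have hφs : Function.Surjective φ := by
      have h1 : Function.Surjective (N.mkQ.baseChange R) := LinearMap.lTensor_surjective R N.mkQ_surjective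
      intro y
      obtain ⟨x, rfl⟩ := h1 y
      exact ⟨e x, by simp [φ]⟩
    have hg : g = e.toLinearMap ∘ₗ (g₀.baseChange R) ∘ₗ e'.symm.toLinearMap := by
      refine LinearMap.pi_ext' fun j => ?_
      refine LinearMap.ext_ring ?_
      funext i
      have h1 : e'.symm (Pi.single j 1) = (1 : R) ⊗ₜ[R₀] (Pi.single j (1 : R₀)) := by
        simp [e']
      have h2 : g₀ (Pi.single j 1) = c j := by
        simp [g₀]
      simp only [LinearMap.coe_comp, LinearMap.coe_single, Function.comp_apply, LinearEquiv.coe_coe]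
      rw [h1, LinearMap.baseChange_tmul, h2, ← hc]
      simp [e, Algebra.smul_def]
    have hker : LinearMap.ker φ = LinearMap.range g := by
      have hex : Function.Exact (g₀.baseChange R) (N.mkQ.baseChange R) :=
        lTensor_exact R hex₀ N.mkQ_surjective
      ext x
      rw [LinearMap.mem_ker, LinearMap.mem_range]
      constructor
      · intro hx
        obtain ⟨y, hy⟩ := (hex (e.symm x)).mp hx
        refine ⟨e' y, ?_⟩
        rw [hg]
        simp [hy]
      · rintro ⟨y, rfl⟩
        rw [hg]
        simp only [LinearMap.coe_comp, Function.comp_apply, LinearEquiv.coe_coe, φ,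
          LinearEquiv.symm_apply_apply]
        exact (hex _).mpr ⟨_, rfl⟩
    have hker' : LinearMap.ker f = LinearMap.ker φ := by
      rw [hker, hfg.linearMap_ker_eq]
    exact ⟨(f.quotKerEquivOfSurjective hf).symm.trans
      ((Submodule.quotEquivOfEq _ _ hker').trans (φ.quotKerEquivOfSurjective hφs))⟩

open TensorProduct in
/-- Let (A_i) be a directed system of commutative rings with direct limit A and M a finitely presented
A-module. Then there exist an index i and a finitely presented A_i-module M_i such that M is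
isomorphic, as an A-module, to A ⊗_{A_i} M_i (A being an A_i-algebra through the canonical map). -/
theorem result (ι : Type u) [Preorder ι] [Nonempty ι] [IsDirectedOrder ι]
    (G : ι → Type u) [∀ i, CommRing (G i)] (f : ∀ i j, i ≤ j → G i →+* G j)
    [DirectedSystem G (fun i j h ↦ f i j h)] (M : Type u) [AddCommGroup M]
    [Module (Ring.DirectLimit G (fun i j h ↦ f i j h)) M]
    [Module.FinitePresentation (Ring.DirectLimit G (fun i j h ↦ f i j h)) M] :
    ∃ (i : ι) (Mi : Type u) (_ : AddCommGroup Mi) (_ : Module (G i) Mi), Module.FinitePresentation (G i) Mi ∧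
      letI : Algebra (G i) (Ring.DirectLimit G (fun i j h ↦ f i j h)) :=
        (Ring.DirectLimit.of G (fun i j h ↦ f i j h) i).toAlgebra
      Nonempty (M ≃ₗ[Ring.DirectLimit G (fun i j h ↦ f i j h)] (Ring.DirectLimit G (fun i j h ↦ f i j h)) ⊗[G i] Mi) := by
  classical
  obtain ⟨n, m, p, g, hp, hpg⟩ :=
    Module.FinitePresentation.exists_fin' (Ring.DirectLimit G (fun i j h ↦ f i j h)) M
  -- descend all the coefficients to a common stage
  have hcoef : ∀ s : Finset (Fin m × Fin n), ∃ i : ι, ∀ jk ∈ s, ∃ c : G i,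
      Ring.DirectLimit.of G (fun i j h ↦ f i j h) i c = g (Pi.single jk.1 1) jk.2 := by
    intro s
    induction s using Finset.induction_on with
    | empty =>
      obtain ⟨i⟩ := (inferInstance : Nonempty ι)
      exact ⟨i, by simp⟩
    | insert a s _ ih =>
      obtain ⟨i, hi⟩ := ih
      obtain ⟨j, y, hy⟩ := Ring.DirectLimit.exists_of (g (Pi.single a.1 1) a.2)
      obtain ⟨k, hik, hjk⟩ := exists_ge_ge i j
      refine ⟨k, fun b hb => ?_⟩
      rcases Finset.mem_insert.mp hb with rfl | hb
      · exact ⟨f j k hjk y, by rw [Ring.DirectLimit.of_f hjk, hy]⟩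
      · obtain ⟨c, hc⟩ := hi b hb
        exact ⟨f i k hik c, by rw [Ring.DirectLimit.of_f hik, hc]⟩
  obtain ⟨i, hi⟩ := hcoef Finset.univ
  choose c hc using fun jk : Fin m × Fin n => hi jk (Finset.mem_univ jk)
  refine ⟨i, ?_⟩
  let _ : Algebra (G i) (Ring.DirectLimit G (fun i j h ↦ f i j h)) :=
    (Ring.DirectLimit.of G (fun i j h ↦ f i j h) i).toAlgebra
  obtain ⟨M₀, i1, i2, h1, h2⟩ := descend_coker (R₀ := G i) M p g hp hpg (fun j k => c (j, k))
    (fun j k => hc (j, k))
  exact ⟨M₀, i1, i2, h1, h2⟩

end Groth.Agent.S4726
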