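import Groth.Statements.S4728
import Groth.Agent.EGA4.K112.ClosedFibre
import Groth.Agent.Ega4B.UnibFormal
import Groth.Agent.Ega4B.FibDesc

set_option autoImplicit false
universe u
open EGA4
open scoped TensorProduct

namespace Groth.Agent.S4728

/-- Let A be a Noetherian local domain of dimension 1 with maximal ideal m, A' a Noetherian local ring
and A → A' a local homomorphism which is normal (flat, with geometrically normal fibres). Then the
ideal m A' of A' is prime and the local ring of A' at m A' has dimension 1. (The remaining clauses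
of the published item, describing A' inside its total ring of fractions, are not restated.) -/
theorem result (A A' : Type u) [CommRing A] [CommRing A']
    [IsNoetherianRing A] [IsNoetherianRing A'] [IsLocalRing A] [IsLocalRing A'] [IsDomain A]
    (hA : ringKrullDim A = 1) [Algebra A A'] [IsLocalHom (algebraMap A A')] (h : EGA4.IsNormalHom A A') :
    ((IsLocalRing.maximalIdeal A).map (algebraMap A A')).IsPrime ∧
      ((IsLocalRing.maximalIdeal A).map (algebraMap A A')).height = 1 := by
  have hflat : Module.Flat A A' := h.1
  have hle : (IsLocalRing.maximalIdeal A).map (algebraMap A A') ≤ IsLocalRing.maximalIdeal A' :=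
    IsLocalRing.map_maximalIdeal_le _
  have hnt : Nontrivial (A' ⧸ (IsLocalRing.maximalIdeal A).map (algebraMap A A')) :=
    Ideal.Quotient.nontrivial_iff.2 fun h => by
      rw [h] at hle
      exact Ideal.IsPrime.ne_top inferInstance (top_le_iff.1 hle)
  have hloc : IsLocalRing (A' ⧸ (IsLocalRing.maximalIdeal A).map (algebraMap A A')) :=
    IsLocalRing.of_surjective' (Ideal.Quotient.mk _) Ideal.Quotient.mk_surjective
  have h1 : EGA4.IsNormalRing ((IsLocalRing.maximalIdeal A).ResidueField
      ⊗[(IsLocalRing.maximalIdeal A).ResidueField] (IsLocalRing.maximalIdeal A).Fiber A') :=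
    h.2 (IsLocalRing.maximalIdeal A) _ inferInstance
  have h2 : EGA4.IsNormalRing (A' ⧸ (IsLocalRing.maximalIdeal A).map (algebraMap A A')) :=
    Groth.Agent.Ega4B.FibDesc.isNormalRing_of_ringEquiv
      ((Algebra.TensorProduct.lid _ _).toRingEquiv.trans
        (K112.ClosedFibre.fibreEquiv A A')) h1
  have h3 := (Groth.Agent.Ega4B.UnibFormal.isDomain_of_isLocalRing _ h2).1
  have hprime : ((IsLocalRing.maximalIdeal A).map (algebraMap A A')).IsPrime :=
    (Ideal.Quotient.isDomain_iff_prime _).mp h3
  refine ⟨hprime, ?_⟩
  have hc : ((IsLocalRing.maximalIdeal A).map (algebraMap A A')).comap (algebraMap A A') =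
      IsLocalRing.maximalIdeal A :=
    ((IsLocalRing.maximalIdeal.isMaximal A).eq_of_le (hprime.comap _).ne_top
      Ideal.le_comap_map).symm
  rw [K112.ClosedFibre.height_map_of_isPrime _ hprime hc]
  have h4 := IsLocalRing.maximalIdeal_height_eq_ringKrullDim (R := A)
  rw [hA] at h4
  exact_mod_cast h4

end Groth.Agent.S4728
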