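import Groth.Statements.S4731
import Mathlib.RingTheory.Noetherian.Basic
import Mathlib.RingTheory.Finiteness.Quotient

set_option autoImplicit false
universe u
open EGA4

namespace Groth.Agent.S4731

/-- Let S → R be an injective homomorphism of commutative rings making R a finite S-module, with R
Noetherian; let c be the conductor of S in R, the ideal of those s in S with s R contained in (the
image of) S. If S/c is Noetherian, then every increasing sequence of ideals of S contained in c is
eventually constant. -/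
theorem result (S R : Type u) [CommRing S] [CommRing R] [Algebra S R]
    [FaithfulSMul S R] [IsNoetherianRing R] [Module.Finite S R] (c : Ideal S)
    (hc : ∀ s : S, s ∈ c ↔ ∀ r : R, ∃ s' : S, algebraMap S R s' = algebraMap S R s * r)
    [IsNoetherianRing (S ⧸ c)] (a : ℕ →o Ideal S) (ha : ∀ n, a n ≤ c) :
    ∃ N : ℕ, ∀ n, N ≤ n → a n = a N := by
  classical
  -- the chain of extended ideals is stationary
  obtain ⟨N₁, hN₁⟩ := monotone_stabilizes_iff_noetherian.mpr (inferInstance : IsNoetherian R R)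
    ⟨fun n => (a n).map (algebraMap S R), fun i j h => Ideal.map_mono (a.mono h)⟩
  have hN₁' : ∀ n, N₁ ≤ n → (a n).map (algebraMap S R) = (a N₁).map (algebraMap S R) :=
    fun n hn => (hN₁ n hn).symm
  -- conductor times the extension lies in the ideal
  have key : ∀ n, ∀ y ∈ (a n).map (algebraMap S R), ∀ s ∈ c,
      ∃ x ∈ a n, algebraMap S R x = algebraMap S R s * y := by
    intro n y hy
    refine Submodule.span_induction (p := fun y _ => ∀ s ∈ c, ∃ x ∈ a n,
      algebraMap S R x = algebraMap S R s * y) ?_ ?_ ?_ ?_ hy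
    · rintro _ ⟨x, hx, rfl⟩ s hs
      exact ⟨s * x, (a n).mul_mem_left _ hx, by rw [map_mul]⟩
    · intro s hs
      exact ⟨0, (a n).zero_mem, by simp⟩
    · intro y z _ _ hy hz s hs
      obtain ⟨x₁, h₁, e₁⟩ := hy s hs
      obtain ⟨x₂, h₂, e₂⟩ := hz s hs
      exact ⟨x₁ + x₂, (a n).add_mem h₁ h₂, by rw [map_add, e₁, e₂, mul_add]⟩
    · intro r y _ hy s hs
      obtain ⟨s', hs'⟩ := (hc s).mp hs r
      have hs'c : s' ∈ c := by
        rw [hc]
        intro r'
        obtain ⟨s'', h''⟩ := (hc s).mp hs (r * r')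
        exact ⟨s'', by rw [h'', hs', mul_assoc]⟩
      obtain ⟨x, hx, e⟩ := hy s' hs'c
      exact ⟨x, hx, by rw [e, hs', smul_eq_mul, mul_assoc]⟩
  -- the finite `S / c`-module `b / c b`
  let b : Ideal R := (a N₁).map (algebraMap S R)
  have : Module.Finite S b := Module.Finite.trans R b
  let Q := (b ⧸ (c • (⊤ : Submodule S b)))
  have : Module.Finite S Q := inferInstance
  have : Module.Finite (S ⧸ c) Q := Module.Finite.of_restrictScalars_finite S (S ⧸ c) Q
  have : IsNoetherian (S ⧸ c) Q := isNoetherian_of_isNoetherianRing_of_finite _ _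
  let l : Q →ₛₗ[Ideal.Quotient.mk c] Q :=
    { toFun := id
      map_add' := fun _ _ => rfl
      map_smul' := fun s x => rfl }
  have hQ : IsNoetherian S Q := (LinearMap.isNoetherian_iff_of_bijective l
    Function.bijective_id).mpr inferInstance
  -- the chain of submodules of `b`
  let T : ℕ → Submodule S b := fun n =>
    Submodule.comap ((Submodule.subtype b).restrictScalars S : b →ₗ[S] R)
      (Submodule.map (Algebra.linearMap S R) (a n))
  have hTmono : Monotone T := fun i j h => Submodule.comap_mono (Submodule.map_mono (a.mono h))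
  have hTmem : ∀ n (x : b), x ∈ T n ↔ ∃ s ∈ a n, algebraMap S R s = x := fun n x => Iff.rfl
  have hTc : ∀ n, N₁ ≤ n → c • (⊤ : Submodule S b) ≤ T n := by
    intro n hn
    rw [Submodule.smul_le]
    intro s hs y _
    rw [hTmem]
    obtain ⟨x, hx, e⟩ := key n y (by rw [hN₁' n hn]; exact y.2) s hs
    refine ⟨x, hx, ?_⟩
    rw [e]
    change _ = ((s • y : b) : R)
    rw [Submodule.coe_smul_of_tower, Algebra.smul_def]
  obtain ⟨N₂, hN₂⟩ := monotone_stabilizes_iff_noetherian.mpr hQ
    ⟨fun n => (T n).map (c • (⊤ : Submodule S b)).mkQ, fun i j h => Submodule.map_mono (hTmono h)⟩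
  refine ⟨max N₁ N₂, fun n hn => le_antisymm ?_ (a.mono hn)⟩
  intro x hx
  have h1 : N₁ ≤ n := le_trans (le_max_left _ _) hn
  have h2 : N₂ ≤ n := le_trans (le_max_right _ _) hn
  have hxb : algebraMap S R x ∈ b := by
    change _ ∈ (a N₁).map (algebraMap S R)
    rw [← hN₁' n h1]
    exact Ideal.mem_map_of_mem _ hx
  have hxT : (⟨algebraMap S R x, hxb⟩ : b) ∈ T n := ⟨x, hx, rfl⟩
  have h3 : (T n).map (c • (⊤ : Submodule S b)).mkQ =
      (T (max N₁ N₂)).map (c • (⊤ : Submodule S b)).mkQ :=
    (hN₂ n h2).symm.trans (hN₂ _ (le_max_right _ _))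
  have h4 : (c • (⊤ : Submodule S b)).mkQ ⟨algebraMap S R x, hxb⟩ ∈
      (T (max N₁ N₂)).map (c • (⊤ : Submodule S b)).mkQ := by
    rw [← h3]
    exact Submodule.mem_map_of_mem hxT
  obtain ⟨y, hy, hyx⟩ := h4
  have h5 : (⟨algebraMap S R x, hxb⟩ : b) - y ∈ c • (⊤ : Submodule S b) := by
    rw [← Submodule.ker_mkQ (c • (⊤ : Submodule S b)), LinearMap.mem_ker, map_sub, hyx, sub_self]
  have h6 : (⟨algebraMap S R x, hxb⟩ : b) ∈ T (max N₁ N₂) := by
    have := (T (max N₁ N₂)).add_mem (hTc _ (le_max_left _ _) h5) hy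
    simpa using this
  obtain ⟨z, hz, hzx⟩ := h6
  have : z = x := FaithfulSMul.algebraMap_injective S R hzx
  exact this ▸ hz

end Groth.Agent.S4731
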