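import Groth.Statements.S4732
import Groth.Agent.Models.StalkTensor
import Mathlib.AlgebraicGeometry.Morphisms.Immersion
import Mathlib.AlgebraicGeometry.Morphisms.FiniteType
import Mathlib.RingTheory.RegularLocalRing.Polynomial
import Mathlib.Tactic.Algebraize

set_option autoImplicit false
universe u
open EGA4

namespace Groth.Agent.S4732

open AlgebraicGeometry CategoryTheory in
/-- Let k be a field, X a scheme locally of finite type over k and x a point of X. Then there are an
open neighbourhood U of x, a k-scheme Y all of whose local rings are regular, and an immersion U → Y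
compatible with the structure morphisms to Spec k. -/
theorem result (k : Type u) [Field k] {X : Scheme.{u}}
    (f : X ⟶ Spec (CommRingCat.of k)) [LocallyOfFiniteType f] (x : X) :
    ∃ (U : X.Opens) (_ : x ∈ U) (Y : Scheme.{u}) (g : Y ⟶ Spec (CommRingCat.of k)) (i : (U : Scheme.{u}) ⟶ Y),
      IsImmersion i ∧ i ≫ g = U.ι ≫ f ∧ ∀ y : Y, IsRegularLocalRing (Y.presheaf.stalk y) := by
  obtain ⟨U, hU, hxU, -⟩ := exists_isAffineOpen_mem_and_subset (X := X) (x := x) (U := ⊤) trivial
  -- the structure morphism on `U`
  let ψ : CommRingCat.of k ⟶ Γ(X, U) := Spec.preimage (hU.fromSpec ≫ f)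
  have hψ : Spec.map ψ = hU.fromSpec ≫ f := Spec.map_preimage _
  have hft : LocallyOfFiniteType (Spec.map ψ) := by
    rw [hψ]; infer_instance
  have hψft : ψ.hom.FiniteType := by
    rwa [HasRingHomProperty.Spec_iff (P := @LocallyOfFiniteType)] at hft
  algebraize [ψ.hom]
  obtain ⟨n, φ, hφ⟩ := Algebra.FiniteType.iff_quotient_mvPolynomial''.mp
    (hψft : Algebra.FiniteType k Γ(X, U))
  refine ⟨U, hxU, Spec (CommRingCat.of (MvPolynomial (Fin n) k)),
    Spec.map (CommRingCat.ofHom (algebraMap k (MvPolynomial (Fin n) k))),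
    hU.isoSpec.hom ≫ Spec.map (CommRingCat.ofHom φ.toRingHom), ?_, ?_, ?_⟩
  · have : IsClosedImmersion (Spec.map (CommRingCat.ofHom φ.toRingHom)) :=
      IsClosedImmersion.spec_of_surjective _ hφ
    infer_instance
  · rw [Category.assoc, ← Spec.map_comp]
    have h1 : CommRingCat.ofHom (algebraMap k (MvPolynomial (Fin n) k)) ≫
        CommRingCat.ofHom φ.toRingHom = ψ := by
      ext a
      exact φ.commutes a
    rw [h1, hψ, ← hU.isoSpec_inv_ι, Category.assoc, Iso.hom_inv_id_assoc]
  · intro y
    obtain ⟨e⟩ := Groth.Agent.Models.StalkTensor.nonempty_stalk_Spec_equiv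
      (MvPolynomial (Fin n) k) y
    have : IsRegularRing (MvPolynomial (Fin n) k) := inferInstance
    exact IsRegularLocalRing.of_ringEquiv e.symm

end Groth.Agent.S4732
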