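import Groth.Statements.S4733
import Groth.Agent.S0565
import Groth.Agent.S2615
import Groth.Agent.Ega4C.RegFlat
import Groth.Agent.Ega4C.FibreTower

set_option autoImplicit false
universe u
open EGA4

namespace Groth.Agent.S4733

open TensorProduct in
/-- For the property 'regular' (affine form): let k be a field, S a Noetherian k-algebra and k' an
extension field of k such that S is of finite type over k or k' is essentially of finite type over
k; let q' be a prime of S ⊗_k k' and q its contraction to S. If (S ⊗_k k')_{q'} is a regular local
ring then so is S_q; conversely, if k' is separable over k (geometrically reduced) and S_q is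
regular, then (S ⊗_k k')_{q'} is regular. -/
theorem result (k S k' : Type u) [Field k] [CommRing S] [Algebra k S]
    [IsNoetherianRing S] [Field k'] [Algebra k k'] (hft : Algebra.FiniteType k S ∨ Algebra.EssFiniteType k k')
    [IsNoetherianRing (S ⊗[k] k')] (q' : Ideal (S ⊗[k] k')) [q'.IsPrime] :
    (IsRegularLocalRing (Localization.AtPrime q') →
        IsRegularLocalRing (Localization.AtPrime (q'.comap (algebraMap S (S ⊗[k] k'))))) ∧
      (Algebra.IsGeometricallyReduced k k' →
        IsRegularLocalRing (Localization.AtPrime (q'.comap (algebraMap S (S ⊗[k] k')))) →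
          IsRegularLocalRing (Localization.AtPrime q')) := by
  have hflat : Module.Flat S (S ⊗[k] k') := inferInstance
  refine ⟨fun hreg => ?_, fun hsep hreg => ?_⟩
  · set p := q'.comap (algebraMap S (S ⊗[k] k')) with hp
    have hlo : q'.LiesOver p := ⟨rfl⟩
    let := Localization.AtPrime.algebraOfLiesOver p q'
    have : IsLocalHom (algebraMap (Localization.AtPrime p) (Localization.AtPrime q')) := by
      rw [RingHom.algebraMap_toAlgebra]
      exact Localization.isLocalHom_localRingHom p q' (algebraMap S (S ⊗[k] k')) Ideal.LiesOver.over
    have : Module.Flat (Localization.AtPrime p) (Localization.AtPrime q') := inferInstance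
    exact Groth.Agent.S0565.result (Localization.AtPrime p) (Localization.AtPrime q')
  · set p := q'.comap (algebraMap S (S ⊗[k] k')) with hp
    have hN : IsNoetherianRing (p.Fiber (S ⊗[k] k')) :=
      Groth.Agent.Ega4C.FibreTower.isNoetherianRing_fiber p
    let e : p.Fiber (S ⊗[k] k') ≃+* p.ResidueField ⊗[k] k' :=
      (Algebra.TensorProduct.cancelBaseChange k S S p.ResidueField k').toRingEquiv
    have hN' : IsNoetherianRing (p.ResidueField ⊗[k] k') := isNoetherianRing_of_ringEquiv _ e
    have h1 : Algebra.EssFiniteType k p.ResidueField ∨ Algebra.EssFiniteType k k' := by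
      rcases hft with h | h
      · left
        exact Algebra.EssFiniteType.comp k S p.ResidueField
      · exact Or.inr h
    have h2 : IsRegularRing (p.ResidueField ⊗[k] k') :=
      Groth.Agent.S2615.result k p.ResidueField k' h1
    have h3 : IsRegularRing (p.Fiber (S ⊗[k] k')) := IsRegularRing.of_ringEquiv e.symm
    exact Groth.Agent.Ega4C.RegFlat.isRegularLocalRing_atPrime_of_fiber p q' rfl h3

end Groth.Agent.S4733
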