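import Groth.Statements.S4734
import Groth.Agent.EGA4.K112.NormFlatLoc
import Groth.Agent.Ega4B.SkOpen

set_option autoImplicit false
universe u
open EGA4

namespace Groth.Agent.S4734

/-- Let A be a Noetherian ring, I a nilpotent ideal of A and M a finite A-module whose support is all of
Spec A and which is normally flat along I. Then for every prime p of A: M satisfies Serre's
condition (S_n) at p if and only if the A-module A/I does; and the codepth of M_p is at most n if
and only if the codepth of the A_p-module (A/I)_p is at most n (codepth written additively as dim ≤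
depth + n). -/
theorem result (n : ℕ) (A : Type u) [CommRing A] [IsNoetherianRing A]
    (I : Ideal A) (hI : IsNilpotent I) (M : Type u) [AddCommGroup M] [Module A M] [Module.Finite A M]
    (hsupp : Module.support A M = Set.univ) (hM : EGA4.IsNormallyFlat I M) (p : Ideal A) [p.IsPrime] :
    (EGA4.HasSkAt n A M p ↔ EGA4.HasSkAt n A (A ⧸ I) p) ∧
      (Module.supportDim (Localization.AtPrime p) (LocalizedModule p.primeCompl M) ≤
          ((LocCoh.depth (Localization.AtPrime p) (LocalizedModule p.primeCompl M) : ℕ∞) : WithBot ℕ∞) + n ↔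
        Module.supportDim (Localization.AtPrime p) (LocalizedModule p.primeCompl (A ⧸ I)) ≤
          ((LocCoh.depth (Localization.AtPrime p) (LocalizedModule p.primeCompl (A ⧸ I)) : ℕ∞) : WithBot ℕ∞) + n) := by
  have key := fun (q : PrimeSpectrum A) =>
    K112.NormFlatLoc.supportDim_eq_and_depth_eq hI hsupp hM q.asIdeal
  refine ⟨?_, ?_⟩
  · rw [Groth.Agent.Ega4B.SkOpen.hasSkAt_iff M n ⟨p, inferInstance⟩,
      Groth.Agent.Ega4B.SkOpen.hasSkAt_iff (A ⧸ I) n ⟨p, inferInstance⟩]
    refine forall₂_congr fun q _ => ?_
    unfold Groth.Agent.Ega4B.SkOpen.SkIneq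
    rw [(key q).1, (key q).2]
  · have h := key ⟨p, inferInstance⟩
    rw [h.1, h.2]

end Groth.Agent.S4734
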