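import Groth.Statements.S4740
import Groth.Agent.EGA4.K112.CTensorFlat

set_option autoImplicit false
universe u
attribute [local instance] Algebra.TensorProduct.rightAlgebra
open EGA4

namespace Groth.Agent.S4740

open TensorProduct in
/-- Let k be a field and A, B complete Noetherian local rings containing k, the residue field of A being
a finite extension of k; let C be the completed tensor product of A and B over k (the completion of
A ⊗_k B at the ideal m_A ⊗ B + A ⊗ m_B). Then (i) C is Noetherian with finitely many maximal ideals;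
(ii) C is flat over A and over B; (iii) m_A C is contained in the Jacobson radical of C and C/m_A C
is isomorphic to (A/m_A) ⊗_k B; (iv) the residue field of C at each of its maximal ideals is a
finite B-module. (Completeness of C, also asserted in the published item, is not restated; the
isomorphism in (iii) is asserted to exist only.) -/
theorem result (k A B : Type u) [Field k] [CommRing A] [CommRing B] [Algebra k A] [Algebra k B]
    [IsNoetherianRing A] [IsNoetherianRing B] [IsLocalRing A] [IsLocalRing B]
    [IsAdicComplete (IsLocalRing.maximalIdeal A) A] [IsAdicComplete (IsLocalRing.maximalIdeal B) B]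
    [Module.Finite k (IsLocalRing.ResidueField A)] :
    (IsNoetherianRing (EGA4.CTensor k A B) ∧ (Set.univ : Set (MaximalSpectrum (EGA4.CTensor k A B))).Finite) ∧
      (Module.Flat A (EGA4.CTensor k A B) ∧ Module.Flat B (EGA4.CTensor k A B)) ∧
      ((IsLocalRing.maximalIdeal A).map (algebraMap A (EGA4.CTensor k A B)) ≤ (⊥ : Ideal (EGA4.CTensor k A B)).jacobson ∧
        Nonempty ((EGA4.CTensor k A B ⧸ (IsLocalRing.maximalIdeal A).map (algebraMap A (EGA4.CTensor k A B))) ≃+*
          ((A ⧸ IsLocalRing.maximalIdeal A) ⊗[k] B))) ∧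
      (∀ (M : Ideal (EGA4.CTensor k A B)) [M.IsMaximal], Module.Finite B (EGA4.CTensor k A B ⧸ M)) := by
  have hN := K112.CTensorFlat.isNoetherianRing_cTensor k A B
  have hjac := K112.CTensorFlat.map_le_jacobson k A B
  obtain ⟨e, he⟩ := K112.CTensorFlat.exists_equiv k A B 1
  have hm : (IsLocalRing.maximalIdeal A ^ 1) = IsLocalRing.maximalIdeal A := pow_one _
  have hK : ((IsLocalRing.maximalIdeal A).map (algebraMap A (EGA4.CTensor k A B))) ^ 1 =
    (IsLocalRing.maximalIdeal A).map (algebraMap A (EGA4.CTensor k A B)) := pow_one _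
  have hfinB := K112.CTensorFlat.finite_Q k A B 1
  -- the quotient by `m_A C` is finite over `B`
  have hfin : Module.Finite B (EGA4.CTensor k A B ⧸
      ((IsLocalRing.maximalIdeal A).map (algebraMap A (EGA4.CTensor k A B))) ^ 1) := by
    let g : ((A ⧸ IsLocalRing.maximalIdeal A ^ 1) ⊗[k] B) ≃ₗ[B] (EGA4.CTensor k A B ⧸
        ((IsLocalRing.maximalIdeal A).map (algebraMap A (EGA4.CTensor k A B))) ^ 1) :=
      { e with
        map_smul' := fun b x => by
          change e (b • x) = b • e x
          rw [Algebra.smul_def, Algebra.smul_def, map_mul]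
          congr 1
          have h1 : algebraMap B ((A ⧸ IsLocalRing.maximalIdeal A ^ 1) ⊗[k] B) b =
              K112.CTensorFlat.toQ k A B 1 (Algebra.TensorProduct.includeRight b) := rfl
          rw [h1, he]
          rfl }
    exact Module.Finite.equiv g
  refine ⟨⟨hN, ?_⟩, ⟨K112.CTensorFlat.flat_left k A B, K112.CTensorFlat.flat_right k A B⟩,
    ⟨hjac, ?_⟩, ?_⟩
  · -- finitely many maximal ideals
    have h1 : Finite (MaximalSpectrum (EGA4.CTensor k A B ⧸
        ((IsLocalRing.maximalIdeal A).map (algebraMap A (EGA4.CTensor k A B))) ^ 1)) := by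
      refine Groth.Agent.RedSub.H668.finite_maximalSpectrum (A := B) ?_
      refine (Set.finite_singleton (IsLocalRing.maximalIdeal B)).subset fun m hm => ?_
      exact IsLocalRing.eq_maximalIdeal hm
    have hle : ∀ M : MaximalSpectrum (EGA4.CTensor k A B),
        ((IsLocalRing.maximalIdeal A).map (algebraMap A (EGA4.CTensor k A B))) ^ 1 ≤ M.asIdeal := by
      intro M
      rw [hK]
      refine hjac.trans ?_
      have := M.isMaximal
      exact sInf_le ⟨bot_le, M.isMaximal⟩
    have hker : ∀ M : MaximalSpectrum (EGA4.CTensor k A B),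
        RingHom.ker (Ideal.Quotient.mk
          (((IsLocalRing.maximalIdeal A).map (algebraMap A (EGA4.CTensor k A B))) ^ 1)) ≤
          M.asIdeal := by
      intro M
      rw [Ideal.mk_ker]
      exact hle M
    let f : MaximalSpectrum (EGA4.CTensor k A B) → MaximalSpectrum (EGA4.CTensor k A B ⧸
        ((IsLocalRing.maximalIdeal A).map (algebraMap A (EGA4.CTensor k A B))) ^ 1) := fun M =>
      ⟨M.asIdeal.map (Ideal.Quotient.mk _), by
        have := M.isMaximal
        exact (Ideal.map_eq_top_or_isMaximal_of_surjective _ Ideal.Quotient.mk_surjective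
          M.isMaximal).resolve_left (by
            intro h
            have h2 := Ideal.comap_map_of_surjective (Ideal.Quotient.mk
              (((IsLocalRing.maximalIdeal A).map (algebraMap A (EGA4.CTensor k A B))) ^ 1))
              Ideal.Quotient.mk_surjective M.asIdeal
            rw [h, Ideal.comap_top, ← RingHom.ker_eq_comap_bot, sup_eq_left.2 (hker M)] at h2
            exact M.isMaximal.ne_top h2.symm)⟩
    have hf : Function.Injective f := by
      intro M M' h
      have h0 : M.asIdeal.map (Ideal.Quotient.mk
          (((IsLocalRing.maximalIdeal A).map (algebraMap A (EGA4.CTensor k A B))) ^ 1)) =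
          M'.asIdeal.map (Ideal.Quotient.mk _) := congrArg MaximalSpectrum.asIdeal h
      have h2 := Ideal.comap_map_of_surjective (Ideal.Quotient.mk
              (((IsLocalRing.maximalIdeal A).map (algebraMap A (EGA4.CTensor k A B))) ^ 1))
              Ideal.Quotient.mk_surjective M.asIdeal
      have h3 := Ideal.comap_map_of_surjective (Ideal.Quotient.mk
              (((IsLocalRing.maximalIdeal A).map (algebraMap A (EGA4.CTensor k A B))) ^ 1))
              Ideal.Quotient.mk_surjective M'.asIdeal
      rw [← RingHom.ker_eq_comap_bot, sup_eq_left.2 (hker M)] at h2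
      rw [← RingHom.ker_eq_comap_bot, sup_eq_left.2 (hker M')] at h3
      ext1
      rw [← h2, ← h3, h0]
    exact Set.finite_univ_iff.2 (Finite.of_injective f hf)
  · have e1 : (EGA4.CTensor k A B ⧸
        (IsLocalRing.maximalIdeal A).map (algebraMap A (EGA4.CTensor k A B))) ≃+*
        ((A ⧸ IsLocalRing.maximalIdeal A ^ 1) ⊗[k] B) :=
      (Ideal.quotEquivOfEq hK.symm).trans e.symm
    have e2 : ((A ⧸ IsLocalRing.maximalIdeal A ^ 1) ⊗[k] B) ≃+*
        ((A ⧸ IsLocalRing.maximalIdeal A) ⊗[k] B) :=
      (Algebra.TensorProduct.congr (Ideal.quotientEquivAlgOfEq k hm)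
        (AlgEquiv.refl : B ≃ₐ[k] B)).toRingEquiv
    exact ⟨e1.trans e2⟩
  · intro M hM
    have hle : ((IsLocalRing.maximalIdeal A).map (algebraMap A (EGA4.CTensor k A B))) ^ 1 ≤ M := by
      rw [hK]
      exact hjac.trans (sInf_le ⟨bot_le, hM⟩)
    exact Module.Finite.of_surjective
      (Ideal.Quotient.factorₐ B hle).toLinearMap (Ideal.Quotient.factor_surjective hle)

end Groth.Agent.S4740
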