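import Groth.Statements.S4742
import Groth.Agent.Ega4A.CatenaryDim

set_option autoImplicit false
universe u
open EGA4

namespace Groth.Agent.S4742

open Groth.Agent.Ega4A in
theorem comapMk_strictMono {A : Type u} [CommRing A] (I : Ideal A) :
    StrictMono (PrimeSpectrum.comap (Ideal.Quotient.mk I)) := by
  have h : StrictMono (fun x : PrimeSpectrum (A ⧸ I) =>
      ((Ideal.primeSpectrumQuotientOrderIsoZeroLocus I x : PrimeSpectrum.zeroLocus (I : Set A)) :
        PrimeSpectrum A)) := fun a b hab =>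
    (Ideal.primeSpectrumQuotientOrderIsoZeroLocus I).strictMono hab
  exact h

theorem exists_quot {A : Type u} [CommRing A] (I : Ideal A) (q : Ideal A) [hq : q.IsPrime]
    (h : I ≤ q) : ∃ x : PrimeSpectrum (A ⧸ I), x.asIdeal = q.map (Ideal.Quotient.mk I) ∧
      (PrimeSpectrum.comap (Ideal.Quotient.mk I) x).asIdeal = q := by
  have hk : RingHom.ker (Ideal.Quotient.mk I) ≤ q := by rwa [Ideal.mk_ker]
  refine ⟨⟨q.map (Ideal.Quotient.mk I),
    Ideal.map_isPrime_of_surjective Ideal.Quotient.mk_surjective hk⟩, rfl, ?_⟩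
  change (q.map (Ideal.Quotient.mk I)).comap (Ideal.Quotient.mk I) = q
  rw [Ideal.comap_map_of_surjective _ Ideal.Quotient.mk_surjective]
  rw [← RingHom.ker_eq_comap_bot, sup_eq_left]
  exact hk

theorem height_map_mk_le {A : Type u} [CommRing A] (I : Ideal A) (q : Ideal A) [hq : q.IsPrime]
    (h : I ≤ q) : (q.map (Ideal.Quotient.mk I)).height ≤ q.height := by
  obtain ⟨x, hx, hx'⟩ := exists_quot I q h
  have e : (⟨q, hq⟩ : PrimeSpectrum A) = PrimeSpectrum.comap (Ideal.Quotient.mk I) x :=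
    PrimeSpectrum.ext hx'.symm
  have := Order.height_le_height_apply_of_strictMono _ (comapMk_strictMono I) x
  rw [← e, ← PrimeSpectrum.height_eq_orderHeight, ← PrimeSpectrum.height_eq_orderHeight, hx] at this
  exact this

theorem height_map_mk_add_one_le {A : Type u} [CommRing A] [IsNoetherianRing A] (t : A)
    (ht : ∀ p ∈ minimalPrimes A, t ∉ p) (q : Ideal A) [hq : q.IsPrime]
    (h : t ∈ q) : (q.map (Ideal.Quotient.mk (Ideal.span {t}))).height + 1 ≤ q.height := by
  obtain ⟨x, hx, hx'⟩ := exists_quot (Ideal.span {t}) q ((Ideal.span_singleton_le_iff_mem _).2 h)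
  have e : (⟨q, hq⟩ : PrimeSpectrum A) =
    PrimeSpectrum.comap (Ideal.Quotient.mk (Ideal.span {t})) x := PrimeSpectrum.ext hx'.symm
  have hfin : x.asIdeal.height ≠ ⊤ := Ideal.height_ne_top_of_isPrime
  obtain ⟨n, hn⟩ := ENat.ne_top_iff_exists.1 hfin
  have hn' : Order.height x = n := by
    rw [← PrimeSpectrum.height_eq_orderHeight, ← hn]
  obtain ⟨l, hl, hl'⟩ := Order.exists_series_of_height_eq_coe x hn'
  obtain ⟨p0, hp0, hp0'⟩ := Ideal.exists_minimalPrimes_le
    (I := (⊥ : Ideal A)) (J := (PrimeSpectrum.comap (Ideal.Quotient.mk (Ideal.span {t})) l.head).asIdeal)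
    bot_le
  have htm : t ∈ (PrimeSpectrum.comap (Ideal.Quotient.mk (Ideal.span {t})) l.head).asIdeal := by
    change Ideal.Quotient.mk (Ideal.span {t}) t ∈ l.head.asIdeal
    rw [Ideal.Quotient.eq_zero_iff_mem.2 (Ideal.mem_span_singleton_self t)]
    exact zero_mem _
  let P0 : PrimeSpectrum A := ⟨p0, hp0.1.1⟩
  have hlt : P0 < (l.map _ (comapMk_strictMono (Ideal.span {t}))).head := by
    rw [LTSeries.head_map]
    refine lt_of_le_of_ne hp0' fun hh => ht p0 hp0 ?_
    rw [← hh] at htm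
    exact htm
  let L := (l.map _ (comapMk_strictMono (Ideal.span {t}))).cons P0 hlt
  have hL : L.last ≤ (⟨q, hq⟩ : PrimeSpectrum A) := by
    rw [e]
    have : L.last = PrimeSpectrum.comap (Ideal.Quotient.mk (Ideal.span {t})) x := by
      simp only [L, RelSeries.last_cons, LTSeries.last_map, hl]
    rw [this]
  have := Order.length_le_height hL
  rw [← PrimeSpectrum.height_eq_orderHeight] at this
  rw [← hx, ← hn, ← hl']
  refine le_trans (le_of_eq ?_) this
  simp [L]

theorem notMem_of_dim {A : Type u} [CommRing A] [IsNoetherianRing A] [IsLocalRing A]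
    (hA : EGA4.IsEquidim A) (t : A)
    (ht : ringKrullDim (A ⧸ Ideal.span {t}) + 1 = ringKrullDim A) :
    ∀ p ∈ minimalPrimes A, t ∉ p := by
  intro p hp htp
  have h1 : ringKrullDim (A ⧸ p) ≤ ringKrullDim (A ⧸ Ideal.span {t}) :=
    ringKrullDim_le_of_surjective (Ideal.Quotient.factor ((Ideal.span_singleton_le_iff_mem _).2 htp))
      (Ideal.Quotient.factor_surjective _)
  rw [hA p hp, ← ht] at h1
  have h2 : ringKrullDim (A ⧸ Ideal.span {t}) ≠ ⊤ :=
    ((ringKrullDim_quotient_le _).trans_lt (ringKrullDim_lt_top (R := A))).ne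
  have h3 : ringKrullDim (A ⧸ Ideal.span {t}) ≠ ⊥ := by
    intro h
    rw [h, WithBot.bot_add] at ht
    exact ringKrullDim_ne_bot ht.symm
  obtain ⟨a, ha⟩ := WithBot.ne_bot_iff_exists.1 h3
  rw [← ha] at h1 h2
  have h2' : a ≠ ⊤ := fun h => h2 (by rw [h]; rfl)
  obtain ⟨n, hn⟩ := ENat.ne_top_iff_exists.1 h2'
  rw [← hn] at h1
  have : ((n + 1 : ℕ) : ℕ∞) ≤ (n : ℕ∞) := by exact_mod_cast h1
  have := Nat.cast_le.1 this
  omega

/-- Let A be a Noetherian local ring which is equidimensional and catenary, t an element of A belonging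
to a system of parameters (dim A/tA + 1 = dim A), and Z a set of prime ideals of A stable under
specialization. Write X = Spec A, X₀ = V(t), X₁ = X ∖ X₀ and Z₀ = Z ∩ X₀, Z₁ = Z ∩ X₁. Then
codim(Z₀, X₀) ≤ codim(Z, X) ≤ codim(Z₁, X₁), where each codimension is the infimum of the heights of
the primes concerned, heights for Z₀ being taken in A/tA. -/
theorem result (A : Type u) [CommRing A] [IsNoetherianRing A] [IsLocalRing A]
    (hA : EGA4.IsEquidim A) (hA' : CAlg.IsCatenary A) (t : A)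
    (ht : ringKrullDim (A ⧸ Ideal.span {t}) + 1 = ringKrullDim A) (Z : Set (PrimeSpectrum A))
    (hZ : StableUnderSpecialization Z) :
    (⨅ p ∈ {p ∈ Z | t ∈ p.asIdeal}, (p.asIdeal.map (Ideal.Quotient.mk (Ideal.span {t}))).height) ≤
        ⨅ p ∈ Z, p.asIdeal.height ∧
      (⨅ p ∈ Z, p.asIdeal.height) ≤ ⨅ p ∈ {p ∈ Z | t ∉ p.asIdeal}, p.asIdeal.height := by
  refine ⟨?_, le_iInf₂ fun p hp => iInf₂_le p hp.1⟩
  refine le_iInf₂ fun p hp => ?_
  by_cases htp : t ∈ p.asIdeal
  · exact (iInf₂_le p ⟨hp, htp⟩).trans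
      (height_map_mk_le _ _ ((Ideal.span_singleton_le_iff_mem _).2 htp))
  · have htm : t ∈ IsLocalRing.maximalIdeal A := by
      by_contra h
      rw [IsLocalRing.mem_maximalIdeal, mem_nonunits_iff, not_not] at h
      rw [Ideal.span_singleton_eq_top.2 h] at ht
      have hs : Subsingleton (A ⧸ (⊤ : Ideal A)) := Ideal.Quotient.subsingleton_iff.2 rfl
      rw [ringKrullDim_eq_bot_of_subsingleton, WithBot.bot_add] at ht
      exact ringKrullDim_ne_bot ht.symm
    obtain ⟨q, hq, -⟩ := Ideal.exists_minimalPrimes_le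
      (I := p.asIdeal ⊔ Ideal.span {t}) (J := IsLocalRing.maximalIdeal A)
      (sup_le (IsLocalRing.le_maximalIdeal p.2.ne_top) ((Ideal.span_singleton_le_iff_mem _).2 htm))
    have hqp : q.IsPrime := hq.1.1
    have hpq : p.asIdeal ≤ q := le_sup_left.trans hq.1.2
    have htq : t ∈ q := hq.1.2 (Ideal.mem_sup_right (Ideal.mem_span_singleton_self t))
    have hqZ : (⟨q, hqp⟩ : PrimeSpectrum A) ∈ Z :=
      hZ ((PrimeSpectrum.le_iff_specializes p ⟨q, hqp⟩).1 hpq) hp
    refine (iInf₂_le (⟨q, hqp⟩ : PrimeSpectrum A) ⟨hqZ, htq⟩).trans ?_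
    have h1 := height_map_mk_add_one_le t (notMem_of_dim hA t ht) q htq
    have h2 := Groth.Agent.Ega4A.CatenaryDim.height_eq_height_add_height_map hA' hA p.asIdeal q hpq
    have h3 := Ideal.map_height_le_one_of_mem_minimalPrimes hq
    have h4 : (q.map (Ideal.Quotient.mk (Ideal.span {t}))).height + 1 ≤ p.asIdeal.height + 1 :=
      h1.trans (h2.le.trans (by gcongr))
    exact (ENat.add_le_add_iff_right ENat.one_ne_top).1 h4

end Groth.Agent.S4742
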