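import Groth.Statements.S4744
import Groth.Agent.EGA4.K112.GoodCM

set_option autoImplicit false
universe u
open EGA4

namespace Groth.Agent.S4744

/-- Let A → A' be a flat local homomorphism of Noetherian local rings all of whose fibre rings k(p) ⊗_A
A' are Cohen–Macaulay. If the completion map of A' is regular (the formal fibres of A' are
geometrically regular), then the formal fibres of A are Cohen–Macaulay. -/
theorem result (A A' : Type u) [CommRing A] [CommRing A'] [IsNoetherianRing A]
    [IsNoetherianRing A'] [IsLocalRing A] [IsLocalRing A'] [Algebra A A'] [IsLocalHom (algebraMap A A')]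
    [Module.Flat A A'] (hf : ∀ (p : Ideal A) [p.IsPrime], LocCoh.IsCohenMacaulayRing (p.Fiber A'))
    (hA' : CAlg.IsRegularHom A' (EGA4.Cpl A')) : EGA4.HasCMFormalFibres A := by
  refine Groth.Agent.Ega4B.CMGlobal.hasCM_of_fibP A ?_
  exact Groth.Agent.Ega4A.PFibre.FibP.cpl_of_flat_local Groth.Agent.Ega4B.CMGlobal.good_cm
    (K112.GoodCM.fibP_of_CM_fibers A A' hf) hA'

end Groth.Agent.S4744
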