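import Groth.Statements.S4745
import Groth.Agent.EGA4.K113.CplFibre
import Groth.Agent.EGA4.K114.NormHomWE
import Groth.Agent.S4696
import Groth.Agent.Ega4C.GoodProps

set_option autoImplicit false
universe u
open EGA4

namespace Groth.Agent.S4745

/-- The case of the property 'normal': let A → B be a local homomorphism of Noetherian local rings
making B a flat A-module, such that the residue field of B is a finite extension of the residue
field k of A, and such that the formal fibres of A are geometrically normal. If the k-algebra k ⊗_A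
B̂, where B̂ is the completion of B, is geometrically normal over k, then every fibre of A → B is
geometrically normal, that is, A → B is a normal homomorphism. -/
theorem result (A B : Type u) [CommRing A] [CommRing B]
    [IsNoetherianRing A] [IsNoetherianRing B] [IsLocalRing A] [IsLocalRing B] [Algebra A B]
    [IsLocalHom (algebraMap A B)] [Module.Flat A B]
    [Module.Finite (IsLocalRing.ResidueField A) (IsLocalRing.ResidueField B)]
    (hA : EGA4.HasGeomNormalFormalFibres A)
    (h : EGA4.IsGeomNormal (IsLocalRing.maximalIdeal A).ResidueField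
      ((IsLocalRing.maximalIdeal A).Fiber (EGA4.Cpl B))) :
    EGA4.IsNormalHom A B := by
  have hNA := Groth.Agent.Ega4A.CplQuot.isNoetherianRing_cpl A
  have hNB := Groth.Agent.Ega4A.CplQuot.isNoetherianRing_cpl B
  have hffB := Groth.Agent.Ega4A.CplQuot.faithfullyFlat_cpl B
  have hlocal := Groth.Agent.Ega4A.CplFlat.isLocalHom_cplMap A B
  have hflat := Groth.Agent.Ega4A.CplFlat.flat_cplMap A B
  let _ : Algebra (EGA4.Cpl A) (EGA4.Cpl B) := (Groth.Agent.Ega4A.CplFlat.cplMap A B).toAlgebra
  have h3 : IsLocalHom (algebraMap (EGA4.Cpl A) (EGA4.Cpl B)) := hlocal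
  have h3' : Module.Flat (EGA4.Cpl A) (EGA4.Cpl B) := hflat
  have h4 : IsScalarTower A B (EGA4.Cpl B) := IsScalarTower.of_algebraMap_eq fun x => rfl
  have h6 : IsScalarTower A (EGA4.Cpl A) (EGA4.Cpl B) :=
    IsScalarTower.of_algebraMap_eq fun x =>
      (Groth.Agent.Ega4A.CplFlat.cplMap_algebraMap A B x).symm
  -- the completed homomorphism is normal
  have hAB' : EGA4.IsNormalHom (EGA4.Cpl A) (EGA4.Cpl B) := by
    refine ⟨h3', fun q _ F _ _ hF => ?_⟩
    exact K113.CplFibre.ringP_of_closed_fibre Groth.Agent.Ega4C.GoodProps.goodProp_normal A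
      (EGA4.Cpl B) (K113.CplFibre.finite_residueField_cpl A B)
      (fun k' _ _ hk' => h k' hk') q F
  have hA' : EGA4.IsNormalHom A (EGA4.Cpl A) :=
    (K114.NormHomWE.hasGeomNormalFormalFibres_iff A).1 hA
  have hAC : EGA4.IsNormalHom A (EGA4.Cpl B) :=
    Groth.Agent.S4696.result A (EGA4.Cpl A) (EGA4.Cpl B) hA' hAB'
  exact K114.NormHom.isNormalHom_of_comp A B (EGA4.Cpl B) hAC

end Groth.Agent.S4745
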