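import Groth.Statements.S4746
import Groth.Agent.EGA4.K113.FieldFib
import Groth.Agent.EGA4.K113.CplFibre
import Groth.Agent.S2697

set_option autoImplicit false
universe u
open EGA4

namespace Groth.Agent.S4746

/-- For the property 'reduced': let A → B be a local homomorphism of Noetherian local rings making B a
flat A-module, such that the residue field of B is a finite extension of the residue field k of A,
and such that the formal fibres of A are geometrically reduced. If the k-algebra k ⊗_A B̂, where B̂
is the completion of B, is geometrically reduced over k, then every fibre k(p) ⊗_A B of A → B is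
geometrically reduced over k(p). -/
theorem result (A B : Type u) [CommRing A] [CommRing B]
    [IsNoetherianRing A] [IsNoetherianRing B] [IsLocalRing A] [IsLocalRing B] [Algebra A B]
    [IsLocalHom (algebraMap A B)] [Module.Flat A B]
    [Module.Finite (IsLocalRing.ResidueField A) (IsLocalRing.ResidueField B)]
    (hA : EGA4.HasGeomReducedFormalFibres A)
    (h : Algebra.IsGeometricallyReduced (IsLocalRing.maximalIdeal A).ResidueField
      ((IsLocalRing.maximalIdeal A).Fiber (EGA4.Cpl B))) :
    ∀ (p : Ideal A) [p.IsPrime], Algebra.IsGeometricallyReduced p.ResidueField (p.Fiber B) := by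
  have hNA := Groth.Agent.Ega4A.CplQuot.isNoetherianRing_cpl A
  have hNB := Groth.Agent.Ega4A.CplQuot.isNoetherianRing_cpl B
  have hffB := Groth.Agent.Ega4A.CplQuot.faithfullyFlat_cpl B
  have hlocal := Groth.Agent.Ega4A.CplFlat.isLocalHom_cplMap A B
  have hflat := Groth.Agent.Ega4A.CplFlat.flat_cplMap A B
  let _ : Algebra (EGA4.Cpl A) (EGA4.Cpl B) := (Groth.Agent.Ega4A.CplFlat.cplMap A B).toAlgebra
  have h3 : IsLocalHom (algebraMap (EGA4.Cpl A) (EGA4.Cpl B)) := hlocal
  have h3' : Module.Flat (EGA4.Cpl A) (EGA4.Cpl B) := hflat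
  have h4 : IsScalarTower A B (EGA4.Cpl B) := IsScalarTower.of_algebraMap_eq fun x => rfl
  have h6 : IsScalarTower A (EGA4.Cpl A) (EGA4.Cpl B) :=
    IsScalarTower.of_algebraMap_eq fun x =>
      (Groth.Agent.Ega4A.CplFlat.cplMap_algebraMap A B x).symm
  -- residue fields
  have hres : Module.Finite (IsLocalRing.ResidueField (EGA4.Cpl A))
      (IsLocalRing.ResidueField (EGA4.Cpl B)) := by
    have h7 := K113.CplFibre.finite_residueField_cpl A B
    have h8 : IsScalarTower A (IsLocalRing.ResidueField (EGA4.Cpl A))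
        (IsLocalRing.ResidueField (EGA4.Cpl B)) := IsScalarTower.of_algebraMap_eq (fun x => by
      show IsLocalRing.residue (EGA4.Cpl B) (algebraMap A (EGA4.Cpl B) x) =
        IsLocalRing.residue (EGA4.Cpl B) (algebraMap (EGA4.Cpl A) (EGA4.Cpl B)
          (algebraMap A (EGA4.Cpl A) x))
      rw [← IsScalarTower.algebraMap_apply])
    exact Module.Finite.of_restrictScalars_finite A _ _
  -- the closed fibre of the completed map
  have hclosed : Algebra.IsGeometricallyReduced (IsLocalRing.maximalIdeal (EGA4.Cpl A)).ResidueField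
      ((IsLocalRing.maximalIdeal (EGA4.Cpl A)).Fiber (EGA4.Cpl B)) := by
    refine Groth.Agent.Ega4C.GeomRedFib.isGeometricallyReduced_of_forall_finite _ fun k' _ _ _ => ?_
    let _ : Algebra (EGA4.Cpl A) k' := Algebra.compHom k'
      (algebraMap (EGA4.Cpl A) (IsLocalRing.maximalIdeal (EGA4.Cpl A)).ResidueField)
    have : IsScalarTower (EGA4.Cpl A) (IsLocalRing.maximalIdeal (EGA4.Cpl A)).ResidueField k' :=
      .of_algebraMap_eq fun x ↦ rfl
    let _ : Algebra A k' := Algebra.compHom k' (algebraMap A (EGA4.Cpl A))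
    have _ : IsScalarTower A (EGA4.Cpl A) k' := .of_algebraMap_eq fun x ↦ rfl
    have h0 : ∀ j ∈ IsLocalRing.maximalIdeal (EGA4.Cpl A), algebraMap (EGA4.Cpl A) k' j = 0 := by
      intro j hj
      rw [IsScalarTower.algebraMap_apply (EGA4.Cpl A)
        (IsLocalRing.maximalIdeal (EGA4.Cpl A)).ResidueField k',
        (Ideal.algebraMap_residueField_eq_zero).mpr hj, map_zero]
    have h1 : ∀ x ∈ IsLocalRing.maximalIdeal A, algebraMap A k' x = 0 := by
      intro x hx
      rw [IsScalarTower.algebraMap_apply A (EGA4.Cpl A) k']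
      exact h0 _ (IsLocalRing.map_maximalIdeal_le (algebraMap A (EGA4.Cpl A))
        (Ideal.mem_map_of_mem _ hx))
    obtain ⟨e⟩ := K113.CplFibre.nonempty_fieldTensorEquiv (A := A) (A' := EGA4.Cpl A)
      (IsLocalRing.maximalIdeal A) (K113.CplFibre.exists_sub_mem A) k' (EGA4.Cpl B) h1
    have hker : IsLocalRing.maximalIdeal A = RingHom.ker (algebraMap A k') := by
      symm
      have hp : (RingHom.ker (algebraMap A k')).IsPrime := RingHom.ker_isPrime _
      exact le_antisymm (IsLocalRing.le_maximalIdeal hp.ne_top) (fun x hx => h1 x hx)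
    have h5 : IsReduced (TensorProduct A k' (EGA4.Cpl B)) :=
      Groth.Agent.Ega4C.GeomRedFib.isReduced_field_tensor_of_ker k' (IsLocalRing.maximalIdeal A)
        hker h
    have h7 : IsReduced (TensorProduct (EGA4.Cpl A) k' (EGA4.Cpl B)) :=
      isReduced_of_injective e e.injective
    exact isReduced_of_injective (Algebra.TensorProduct.cancelBaseChange (EGA4.Cpl A)
      (IsLocalRing.maximalIdeal (EGA4.Cpl A)).ResidueField k' k' (EGA4.Cpl B))
      (AlgEquiv.injective _)
  have hfib : ∀ (q : Ideal (EGA4.Cpl A)) [q.IsPrime],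
      Algebra.IsGeometricallyReduced q.ResidueField (q.Fiber (EGA4.Cpl B)) := fun q _ =>
    Groth.Agent.S2697.result (EGA4.Cpl A) (EGA4.Cpl B) hclosed q
  have hAB' : ∀ (p : Ideal A) [p.IsPrime],
      Algebra.IsGeometricallyReduced p.ResidueField (p.Fiber (EGA4.Cpl B)) := fun p _ =>
    K113.FieldFib.geomReduced_fibres_comp (B := EGA4.Cpl A) hA hfib p
  intro p _
  exact K113.FieldFib.geomReduced_fibres_of_faithfullyFlat (B := B) (C := EGA4.Cpl B) hAB' p


end Groth.Agent.S4746
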