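import Groth.Statements.S4747
import Groth.Agent.EGA4.K113.GoodCM
import Groth.Agent.EGA4.K113.CplFibre
import Groth.Agent.EGA4.K113.CMComp

set_option autoImplicit false
universe u
open EGA4

namespace Groth.Agent.S4747

open TensorProduct in
/-- For the property 'Cohen–Macaulay': let A → B be a local homomorphism of Noetherian local rings
making B a flat A-module, such that the residue field of B is a finite extension of the residue
field k of A, and such that the formal fibres of A are Cohen–Macaulay. If for every finite extension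
k' of k the ring k' ⊗_k (k ⊗_A B̂) is Cohen–Macaulay (B̂ the completion of B), then for every prime
p of A and every finite extension K of k(p) the ring K ⊗_{k(p)} (k(p) ⊗_A B) is Cohen–Macaulay; in
particular all fibres of A → B are Cohen–Macaulay. -/
theorem result (A B : Type u) [CommRing A] [CommRing B]
    [IsNoetherianRing A] [IsNoetherianRing B] [IsLocalRing A] [IsLocalRing B] [Algebra A B]
    [IsLocalHom (algebraMap A B)] [Module.Flat A B]
    [Module.Finite (IsLocalRing.ResidueField A) (IsLocalRing.ResidueField B)]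
    (hA : EGA4.HasCMFormalFibres A)
    (h : ∀ (k' : Type u) [Field k'] [Algebra (IsLocalRing.maximalIdeal A).ResidueField k'],
      Module.Finite (IsLocalRing.maximalIdeal A).ResidueField k' →
        LocCoh.IsCohenMacaulayRing (k' ⊗[(IsLocalRing.maximalIdeal A).ResidueField]
          ((IsLocalRing.maximalIdeal A).Fiber (EGA4.Cpl B)))) :
    ∀ (p : Ideal A) [p.IsPrime] (K : Type u) [Field K] [Algebra p.ResidueField K],
      Module.Finite p.ResidueField K → LocCoh.IsCohenMacaulayRing (K ⊗[p.ResidueField] (p.Fiber B)) := by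
  have hNA := Groth.Agent.Ega4A.CplQuot.isNoetherianRing_cpl A
  have hNB := Groth.Agent.Ega4A.CplQuot.isNoetherianRing_cpl B
  have hffB := Groth.Agent.Ega4A.CplQuot.faithfullyFlat_cpl B
  have hlocal := Groth.Agent.Ega4A.CplFlat.isLocalHom_cplMap A B
  have hflat := Groth.Agent.Ega4A.CplFlat.flat_cplMap A B
  let _ : Algebra (EGA4.Cpl A) (EGA4.Cpl B) := (Groth.Agent.Ega4A.CplFlat.cplMap A B).toAlgebra
  have h3 : IsLocalHom (algebraMap (EGA4.Cpl A) (EGA4.Cpl B)) := hlocal
  have h3' : Module.Flat (EGA4.Cpl A) (EGA4.Cpl B) := hflat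
  have h4 : IsScalarTower A B (EGA4.Cpl B) := IsScalarTower.of_algebraMap_eq fun x => rfl
  have h6 : IsScalarTower A (EGA4.Cpl A) (EGA4.Cpl B) :=
    IsScalarTower.of_algebraMap_eq fun x =>
      (Groth.Agent.Ega4A.CplFlat.cplMap_algebraMap A B x).symm
  -- the fibres of the completed map
  have hfib : ∀ (q : Ideal (EGA4.Cpl A)) [q.IsPrime],
      LocCoh.IsCohenMacaulayRing (q.Fiber (EGA4.Cpl B)) := by
    intro q _
    have h1 := K113.CplFibre.ringP_of_closed_fibre K113.GoodCM.goodProp_cm A (EGA4.Cpl B)
      (K113.CplFibre.finite_residueField_cpl A B)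
      (fun k' _ _ hk' q hq => (h k' hk').isCohenMacaulayLocalRing_localization q)
      q q.ResidueField
    have h2 : IsNoetherianRing (q.Fiber (EGA4.Cpl B)) :=
      Groth.Agent.Ega4C.FibreTower.isNoetherianRing_fiber q
    let e : q.ResidueField ⊗[q.ResidueField] (q.Fiber (EGA4.Cpl B)) ≃+* q.Fiber (EGA4.Cpl B) :=
      (Algebra.TensorProduct.lid q.ResidueField (q.Fiber (EGA4.Cpl B))).toRingEquiv
    have h5 := h1.of_ringEquiv K113.GoodCM.goodProp_cm e
    exact { isCohenMacaulayLocalRing_localization := fun Q hQ => h5 Q }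
  intro p _ K _ _ hK
  let _ : Algebra A K := Algebra.compHom K (algebraMap A p.ResidueField)
  have hT : IsScalarTower A p.ResidueField K := .of_algebraMap_eq fun x ↦ rfl
  have hess : Algebra.EssFiniteType A K := Algebra.EssFiniteType.comp A p.ResidueField K
  have g1 : LocCoh.IsCohenMacaulayRing (K ⊗[A] EGA4.Cpl B) :=
    K113.CMComp.isCM_field_tensor_comp (B := EGA4.Cpl A) hA hfib K
  have g2 : LocCoh.IsCohenMacaulayRing (K ⊗[A] B) :=
    K113.CMComp.isCM_field_tensor_of_faithfullyFlat (C := EGA4.Cpl B) K g1
  exact K113.CMComp.isCM_equiv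
    (Algebra.TensorProduct.cancelBaseChange A p.ResidueField K K B).toRingEquiv.symm g2


end Groth.Agent.S4747
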