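import Groth.Statements.S4748
import Groth.Agent.Ega4C.NormSep
import Groth.Agent.S2610

set_option autoImplicit false
universe u
open EGA4

namespace Groth.Agent.S4748

open TensorProduct in
/-- For the property 'normal' (affine form): let k be a field, S a Noetherian k-algebra and k' an
extension field of k such that S is of finite type over k or k' is essentially of finite type over
k; let q' be a prime of S ⊗_k k' and q its contraction to S. If (S ⊗_k k')_{q'} is an integrally
closed domain then so is S_q; conversely, if k' is separable over k (geometrically reduced) and S_q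
is an integrally closed domain, then so is (S ⊗_k k')_{q'}. -/
theorem result (k S k' : Type u) [Field k] [CommRing S] [Algebra k S]
    [IsNoetherianRing S] [Field k'] [Algebra k k'] (hft : Algebra.FiniteType k S ∨ Algebra.EssFiniteType k k')
    [IsNoetherianRing (S ⊗[k] k')] (q' : Ideal (S ⊗[k] k')) [q'.IsPrime] :
    ((IsDomain (Localization.AtPrime q') ∧ IsIntegrallyClosed (Localization.AtPrime q')) →
        (IsDomain (Localization.AtPrime (q'.comap (algebraMap S (S ⊗[k] k')))) ∧
          IsIntegrallyClosed (Localization.AtPrime (q'.comap (algebraMap S (S ⊗[k] k')))))) ∧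
      (Algebra.IsGeometricallyReduced k k' →
        (IsDomain (Localization.AtPrime (q'.comap (algebraMap S (S ⊗[k] k')))) ∧
          IsIntegrallyClosed (Localization.AtPrime (q'.comap (algebraMap S (S ⊗[k] k'))))) →
          (IsDomain (Localization.AtPrime q') ∧ IsIntegrallyClosed (Localization.AtPrime q'))) := by
  refine ⟨fun h => ?_, fun hk' h => ?_⟩
  · have := h.1
    have := h.2
    exact Groth.Agent.S2610.result S (S ⊗[k] k') q'
  · set q : Ideal S := q'.comap (algebraMap S (S ⊗[k] k')) with hq
    have := h.1
    have := h.2
    have h1 : EGA4.IsNormalRing (Localization.AtPrime q) :=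
      Groth.Agent.Ega4C.NormUnion.isNormalRing_of_isIntegrallyClosed_domain _
    have h2 : EGA4.IsNormalRing (k' ⊗[k] Localization.AtPrime q) :=
      Groth.Agent.Ega4C.NormSep.isNormalRing_tensor_of_isGeometricallyReduced k k'
        (Localization.AtPrime q) h1
    let e : (S ⊗[k] k') ⊗[S] (Localization.AtPrime q) ≃+* k' ⊗[k] Localization.AtPrime q :=
      ((Algebra.TensorProduct.comm S (S ⊗[k] k') (Localization.AtPrime q)).toRingEquiv.trans
        (Algebra.TensorProduct.cancelBaseChange k S S (Localization.AtPrime q) k').toRingEquiv).trans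
        (Algebra.TensorProduct.comm k (Localization.AtPrime q) k').toRingEquiv
    have h3 : EGA4.IsNormalRing ((S ⊗[k] k') ⊗[S] (Localization.AtPrime q)) :=
      Groth.Agent.Ega4C.NormUnion.isNormalRing_of_ringEquiv e h2
    let M : Submonoid (S ⊗[k] k') := Algebra.algebraMapSubmonoid (S ⊗[k] k') q.primeCompl
    have hM : IsLocalization M ((S ⊗[k] k') ⊗[S] (Localization.AtPrime q)) := inferInstance
    have hd : Disjoint (M : Set (S ⊗[k] k')) (q' : Set (S ⊗[k] k')) := by
      rw [Set.disjoint_left]
      rintro _ ⟨x, hx, rfl⟩ hxq
      exact hx hxq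
    have hP : (q'.map (algebraMap (S ⊗[k] k')
        ((S ⊗[k] k') ⊗[S] (Localization.AtPrime q)))).IsPrime :=
      IsLocalization.isPrime_of_isPrime_disjoint M _ q' ‹_› hd
    have hc : (q'.map (algebraMap (S ⊗[k] k')
        ((S ⊗[k] k') ⊗[S] (Localization.AtPrime q)))).comap (algebraMap (S ⊗[k] k')
        ((S ⊗[k] k') ⊗[S] (Localization.AtPrime q))) = q' :=
      IsLocalization.under_map_of_isPrime_disjoint M _ ‹_› hd
    generalize (q'.map (algebraMap (S ⊗[k] k')
        ((S ⊗[k] k') ⊗[S] (Localization.AtPrime q)))) = Q at hP hc
    have h4 := h3 Q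
    have h5 : IsLocalization.AtPrime (Localization.AtPrime Q) (Q.comap (algebraMap (S ⊗[k] k')
        ((S ⊗[k] k') ⊗[S] (Localization.AtPrime q)))) :=
      IsLocalization.isLocalization_isLocalization_atPrime_isLocalization M
        (Localization.AtPrime Q) Q
    have h6 : IsLocalization.AtPrime (Localization.AtPrime Q) q' := by
      have hgen : ∀ (J : Ideal (S ⊗[k] k')) [J.IsPrime], J = q' →
          IsLocalization.AtPrime (Localization.AtPrime Q) J →
          IsLocalization.AtPrime (Localization.AtPrime Q) q' := by
        rintro J _ rfl hJ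
        exact hJ
      exact hgen _ hc h5
    let e2 : Localization.AtPrime Q ≃+* Localization.AtPrime q' :=
      (IsLocalization.algEquiv q'.primeCompl _ _).toRingEquiv
    have h7 : IsDomain (Localization.AtPrime Q) := h4.1
    have h8 : IsIntegrallyClosed (Localization.AtPrime Q) := h4.2
    exact ⟨e2.symm.injective.isDomain,
      IsIntegrallyClosed.of_equiv (R := Localization.AtPrime Q) (S := Localization.AtPrime q') e2⟩


end Groth.Agent.S4748
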