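import Groth.Statements.S4756
import Groth.Agent.EGA4.K113.FieldFib

set_option autoImplicit false
universe u
open EGA4

namespace Groth.Agent.S4756

/-- Let A → B be a normal homomorphism of Noetherian rings (flat, with geometrically normal fibres) and
S a multiplicative subset of A. Then the induced homomorphism S⁻¹A → S⁻¹B (arbitrary localizations
at S and at its image) is normal. -/
theorem result (A B : Type u) [CommRing A] [CommRing B] [IsNoetherianRing A] [IsNoetherianRing B]
    [Algebra A B] (h : EGA4.IsNormalHom A B) (S : Submonoid A)
    (A' B' : Type u) [CommRing A'] [CommRing B'] [Algebra A A'] [Algebra B B'] [Algebra A' B'] [Algebra A B']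
    [IsScalarTower A A' B'] [IsScalarTower A B B'] [IsLocalization S A']
    [IsLocalization (Algebra.algebraMapSubmonoid B S) B'] :
    EGA4.IsNormalHom A' B' := by
  have hpo : Algebra.IsPushout A A' B B' :=
    (Algebra.isPushout_of_isLocalization S A' B B').symm
  let e : (TensorProduct A A' B) ≃ₐ[A'] B' := Algebra.IsPushout.equiv A A' B B'
  have h0 := K113.FieldFib.isNormalHom_baseChange A' h
  have := h0.1
  refine ⟨Module.Flat.of_linearEquiv e.toLinearEquiv.symm, fun p' _ => ?_⟩
  refine K113.FieldFib.isGeomNormal_of_field_tensor (fun K _ _ => ?_) p'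
  have h1 := K113.FieldFib.isNormalRing_field_tensor h0.2 K
  exact Groth.Agent.Ega4C.NormUnion.isNormalRing_of_ringEquiv
    (Algebra.TensorProduct.congr (AlgEquiv.refl (R := A') (A₁ := K)) e.symm).toRingEquiv h1


end Groth.Agent.S4756
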