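import Groth.Statements.S4772
import Groth.Agent.Lim8.K115.Comp

set_option autoImplicit false
universe u
open CategoryTheory AlgebraicGeometry
open Lim8

namespace Groth.Agent.S4772

/-- Let S = lim S_i be a cofiltered limit of schemes whose transition maps are affine and dominant, some
stage S_{i₀} being quasi-compact. Then S is connected (in particular nonempty) if and only if there
is an index i over i₀ such that S_j is connected for every j over i. -/
theorem result {I : Type u} [SmallCategory I] [IsCofiltered I]
    (D : I ⥤ Scheme.{u}) (c : Limits.Cone D) (hc : Limits.IsLimit c)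
    [∀ (i j : I) (f : i ⟶ j), IsAffineHom (D.map f)] (i₀ : I)
    [CompactSpace (D.obj i₀)] (hd : ∀ (i j : I) (φ : i ⟶ j), IsDominant (D.map φ)) :
    ConnectedSpace c.pt ↔ ∃ (i : I) (_ : i ⟶ i₀), ∀ (j : I) (_ : j ⟶ i), ConnectedSpace (D.obj j) := by
  constructor
  · intro h
    refine ⟨i₀, 𝟙 i₀, fun j φ => ?_⟩
    have := (K115.Basic.isDominant_π_iff D c hc j).mpr fun k ψ => hd k j ψ
    have hp : PreconnectedSpace c.pt := h.toPreconnectedSpace
    have h1 : _root_.IsPreconnected (Set.range (c.π.app j)) := by
      rw [← Set.image_univ]
      exact hp.isPreconnected_univ.image _ (c.π.app j).continuous.continuousOn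
    have h2 : _root_.IsPreconnected (Set.univ : Set (D.obj j)) := by
      rw [← (c.π.app j).denseRange.closure_range]
      exact h1.closure
    have h3 : PreconnectedSpace (D.obj j) := ⟨h2⟩
    exact { toNonempty := h.toNonempty.map (c.π.app j) }
  · rintro ⟨i, φ, h⟩
    have := K115.Cons.compactSpace_stage D φ
    have hn : Nonempty c.pt := K115.Basic.nonempty_pt D c hc i fun j ψ => (h j ψ).toNonempty
    have hp : PreconnectedSpace c.pt := by
      by_contra hne
      obtain ⟨j, ψ, hj⟩ := K115.Comp.exists_not_preconnectedSpace_of_isDominant D c hc i hd hne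
      exact hj j (𝟙 j) (h j ψ).toPreconnectedSpace
    exact { toPreconnectedSpace := hp, toNonempty := hn }

end Groth.Agent.S4772
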