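import Groth.Statements.S4776
import Groth.Agent.Lim8.K115.Irr
import Groth.Agent.Lim8.K115.Flat

set_option autoImplicit false
universe u
open CategoryTheory AlgebraicGeometry
open Lim8

namespace Groth.Agent.S4776

/-- Let S = lim S_i be a cofiltered limit of schemes whose transition maps are affine, flat and
surjective, some stage S_{i₀} being quasi-compact, and assume that the underlying topological space
of S is Noetherian. Then S is integral if and only if there is an index i over i₀ such that S_j is
integral for every j over i. (The published statement carries neither the quasi-compactness nor the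
Noetherian hypothesis; its proof combines the reducedness criterion with the irreducibility
criterion for limits, and the latter is proved only under these two hypotheses, so they are assumed
here.) -/
theorem result {I : Type u} [SmallCategory I] [IsCofiltered I]
    (D : I ⥤ Scheme.{u}) (c : Limits.Cone D) (hc : Limits.IsLimit c)
    [∀ (i j : I) (f : i ⟶ j), IsAffineHom (D.map f)] (i₀ : I)
    [CompactSpace (D.obj i₀)] [TopologicalSpace.NoetherianSpace c.pt]
    (hf : ∀ (i j : I) (φ : i ⟶ j), Flat (D.map φ) ∧ Surjective (D.map φ)) :
    IsIntegral c.pt ↔ ∃ (i : I) (_ : i ⟶ i₀), ∀ (j : I) (_ : j ⟶ i), IsIntegral (D.obj j) := by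
  have hd : ∀ (i j : I) (φ : i ⟶ j), IsDominant (D.map φ) := fun i j φ => by
    have := (hf i j φ).2
    infer_instance
  constructor
  · intro h
    obtain ⟨i, φ, hi⟩ := (K115.Irr.irreducibleSpace_iff D c hc i₀ hd).mp inferInstance
    refine ⟨i, φ, fun j ψ => ?_⟩
    have := hi j ψ
    have : Flat (c.π.app j) := K115.Flat.flat_π D c hc j fun k φ => (hf k j φ).1
    have : Surjective (c.π.app j) :=
      (K115.Basic.surjective_π_iff D c hc j).mpr fun k φ => (hf k j φ).2
    have hred : IsReduced c.pt := inferInstance
    have h1 : IsReduced (D.obj j) :=
      @K115.Flat.isReduced_of_flat_surjective _ _ (c.π.app j) _ _ hred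
    exact isIntegral_of_irreducibleSpace_of_isReduced (D.obj j)
  · rintro ⟨i, φ, h⟩
    have h1 : IrreducibleSpace c.pt := (K115.Irr.irreducibleSpace_iff D c hc i₀ hd).mpr
      ⟨i, φ, fun j ψ => by have := h j ψ; infer_instance⟩
    have h2 : IsReduced c.pt := K115.Flat.isReduced_pt D c hc fun j =>
      ⟨IsCofiltered.min i j, IsCofiltered.minToRight _ _, by
        have := h _ (IsCofiltered.minToLeft i j)
        infer_instance⟩
    exact isIntegral_of_irreducibleSpace_of_isReduced c.pt

end Groth.Agent.S4776
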