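import Groth.Statements.S4781
import Groth.Agent.S0402
import Groth.Agent.Cons9.K118.FibComp
import Groth.Agent.Cons9.K118.GenCons
import Groth.Agent.Flat2D.NoethConstr
import Groth.Agent.Flat2D.FibDimNat
import Mathlib.AlgebraicGeometry.Morphisms.FinitePresentation
import Mathlib.AlgebraicGeometry.Noetherian

set_option autoImplicit false
universe u
open CategoryTheory AlgebraicGeometry
open Cons9

namespace Groth.Agent.S4781

open Groth.Agent.CycB.RelDim Groth.Agent.VarietyA.LocDim Topology

theorem fibreDimAt_le_of_generic {X S : Scheme.{u}} (f : X ⟶ S) [LocallyOfFiniteType f]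
    {ξ : X} (hξ : ∀ x, ξ ⤳ x) {e : ℕ} (he : rtd f ξ = e) {x : X} (hx : f x = f ξ) :
    FlatMor.fibreDimAt f x = e := by
  refine le_antisymm (fibreDimAt_le f x e fun z hz hfz => ?_) ?_
  · rw [← he]
    exact rtd_le_of_specializes f (hξ z) (hx.symm.trans hfz.symm)
  · obtain ⟨n, hn, h⟩ := le_fibreDimAt f x ξ (hξ x) hx.symm
    rw [he] at hn
    have : e = n := by exact_mod_cast hn
    rwa [this]

/-- Let S be a Noetherian irreducible scheme with generic point η, let X be an irreducible scheme and f
: X ⟶ S a dominant morphism of finite type. Then there is an open neighbourhood U of η in S such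
that, for every s ∈ U, all irreducible components of the fibre f⁻¹(s) have dimension equal to dim
f⁻¹(η). Fibres are taken as subspaces of X and dimensions are topological Krull dimensions. -/
theorem result {X S : Scheme.{u}} (f : X ⟶ S)
    [IsNoetherian S] [IrreducibleSpace S] [IrreducibleSpace X] [IsDominant f]
    [LocallyOfFiniteType f] [QuasiCompact f] :
    ∃ U : S.Opens, genericPoint S ∈ U ∧ ∀ s ∈ U, ∀ T ∈ irreducibleComponents ↥(⇑f ⁻¹' {s}),
      topologicalKrullDim ↥T = topologicalKrullDim ↥(⇑f ⁻¹' {genericPoint S}) := by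
  have hcX : CompactSpace X := QuasiCompact.compactSpace_of_compactSpace f
  have hNX : IsLocallyNoetherian X := LocallyOfFiniteType.isLocallyNoetherian f
  have : IsNoetherian X := {}
  let η := genericPoint S
  let ξ := genericPoint X
  have hξ : ∀ x, ξ ⤳ x := genericPoint_specializes
  have hfξ : f ξ = η := by
    have h1 : IsGenericPoint (f ξ) Set.univ := by
      have h2 : closure {f ξ} = closure (Set.range f) := by
        rw [← Set.image_univ, ← genericPoint_closure (α := X), closure_image_closure f.continuous,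
          Set.image_singleton]
      rw [isGenericPoint_def, h2]
      exact (IsDominant.denseRange (f := f)).closure_range
    exact h1.eq (genericPoint_spec S)
  obtain ⟨e, he⟩ : ∃ e : ℕ, rtd f ξ = e := Cardinal.lt_aleph0.mp (rtd_lt_aleph0 f ξ)
  have hgen : ∀ x, f x = η → FlatMor.fibreDimAt f x = e := fun x hx =>
    fibreDimAt_le_of_generic f hξ he (hx.trans hfξ.symm)
  have hlow : ∀ x, (e : WithBot ℕ∞) ≤ FlatMor.fibreDimAt f x := by
    intro x
    obtain ⟨n, hn⟩ := Groth.Agent.Flat2D.FibDimNat.exists_nat_fibreDimAt f x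
    have h1 := (hξ x).mem_open (Groth.Agent.S0402.result f n) hn.le
    have h2 : FlatMor.fibreDimAt f ξ ≤ n := h1
    rw [hgen ξ hfξ] at h2
    rw [hn]
    exact h2
  have hZ : IsLocallyConstructible ({x : X | FlatMor.fibreDimAt f x ≤ e}ᶜ : Set X) :=
    (Groth.Agent.Flat2D.NoethConstr.isConstructible_of_isOpen
      (Groth.Agent.S0402.result f e)).compl.isLocallyConstructible
  have hfp : LocallyOfFinitePresentation f := inferInstance
  have hE := f.isLocallyConstructible_image hZ
  obtain ⟨U, hU, hηU, hUE⟩ := K118.GenCons.exists_open_disjoint (genericPoint_spec S) hE (by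
    rintro ⟨x, hx, hfx⟩
    exact hx (hgen x hfx).le)
  refine ⟨⟨U, hU⟩, hηU, fun s hs T hT => ?_⟩
  have hup : ∀ x, f x ∈ U → FlatMor.fibreDimAt f x = e := by
    intro x hx
    refine le_antisymm ?_ (hlow x)
    by_contra hc
    exact hUE hx ⟨x, hc, rfl⟩
  have key : ∀ s ∈ U, ∀ T ∈ irreducibleComponents ↥(⇑f ⁻¹' {s}), topologicalKrullDim ↥T = e := by
    intro s hs T hT
    have hlc : IsLocallyClosed (Subtype.val ⁻¹' (⇑f ⁻¹' {s}) : Set ↥(⇑f ⁻¹' {s})) := by
      have : (Subtype.val ⁻¹' (⇑f ⁻¹' {s}) : Set ↥(⇑f ⁻¹' {s})) = Set.univ :=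
        Set.eq_univ_of_forall fun x => x.2
      rw [this]
      exact isOpen_univ.isLocallyClosed
    obtain ⟨x, hx, hmax, n, hn, hd⟩ := (K118.FibComp.exists_component_iff f s (⇑f ⁻¹' {s})
      subset_rfl hlc _).mp ⟨T, hT, rfl⟩
    rw [hd]
    have hx : f x = s := hx
    have h1 : FlatMor.fibreDimAt f x = n := by
      refine le_antisymm (fibreDimAt_le f x n fun z hz hfz => ?_) ?_
      · have : z = x := hmax z (hfz.trans hx) hz
        rw [this, hn]
      · obtain ⟨m, hm, h⟩ := le_fibreDimAt f x x specializes_rfl rfl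
        rw [hn] at hm
        have : n = m := by exact_mod_cast hm
        rwa [this]
    rw [← h1]
    exact hup x (hx ▸ hs)
  rw [key s hs T hT]
  -- the generic fibre
  have hη : topologicalKrullDim ↥(⇑f ⁻¹' {η}) = e := by
    have hlc : IsLocallyClosed (Subtype.val ⁻¹' (⇑f ⁻¹' {η}) : Set ↥(⇑f ⁻¹' {η})) := by
      have : (Subtype.val ⁻¹' (⇑f ⁻¹' {η}) : Set ↥(⇑f ⁻¹' {η})) = Set.univ :=
        Set.eq_univ_of_forall fun x => x.2
      rw [this]
      exact isOpen_univ.isLocallyClosed
    obtain ⟨n, hn, hd⟩ := K118.FibComp.dim_closure_singleton f η (⇑f ⁻¹' {η}) subset_rfl hlc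
      ⟨ξ, hfξ⟩
    have hne : e = n := by
      have h1 : rtd f ξ = n := hn
      rw [he] at h1
      exact_mod_cast h1
    have hcl : closure {(⟨ξ, hfξ⟩ : ↥(⇑f ⁻¹' {η}))} = Set.univ := by
      rw [Set.eq_univ_iff_forall]
      intro y
      rw [← specializes_iff_mem_closure]
      exact IsInducing.subtypeVal.specializes_iff.mp (hξ y.1)
    rw [hne, ← hd, hcl]
    exact (IsHomeomorph.topologicalKrullDim_eq _ (Homeomorph.Set.univ _).isHomeomorph).symm
  exact hη.symm

end Groth.Agent.S4781
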