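import Groth.Statements.S4795
import Groth.Agent.Lim8.K116.OverIso

set_option autoImplicit false
universe u
open CategoryTheory AlgebraicGeometry
open Lim8

namespace Groth.Agent.S4795

/-- Let S = lim S_i be a cofiltered limit of schemes with affine transition maps and S_{i₀} a
quasi-compact quasi-separated stage; let X₀ and Y₀ be schemes of finite presentation over S_{i₀},
and let X, Y be their base changes along S ⟶ S_{i₀} (base changes are expressed by pullback
squares). Then X and Y are isomorphic over S if and only if, for some index j over i₀, the base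
changes X_j and Y_j of X₀ and Y₀ along S_j ⟶ S_{i₀} are isomorphic over S_j. -/
theorem result {I : Type u} [SmallCategory I] [IsCofiltered I]
    (D : I ⥤ Scheme.{u}) (c : Limits.Cone D) (hc : Limits.IsLimit c)
    [∀ (i j : I) (f : i ⟶ j), IsAffineHom (D.map f)] (i₀ : I)
    [CompactSpace (D.obj i₀)] [QuasiSeparatedSpace (D.obj i₀)]
    {X₀ Y₀ : Scheme.{u}} (a₀ : X₀ ⟶ D.obj i₀) (b₀ : Y₀ ⟶ D.obj i₀)
    [LocallyOfFinitePresentation a₀] [QuasiCompact a₀] [QuasiSeparated a₀]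
    [LocallyOfFinitePresentation b₀] [QuasiCompact b₀] [QuasiSeparated b₀]
    {X Y : Scheme.{u}} (a : X ⟶ c.pt) (b : Y ⟶ c.pt) (qX : X ⟶ X₀) (qY : Y ⟶ Y₀)
    (hX : IsPullback qX a a₀ (c.π.app i₀)) (hY : IsPullback qY b b₀ (c.π.app i₀)) :
    (∃ e : X ≅ Y, e.hom ≫ b = a) ↔
      ∃ (j : I) (φ : j ⟶ i₀) (Xj Yj : Scheme.{u}) (aj : Xj ⟶ D.obj j) (bj : Yj ⟶ D.obj j)
        (pX : Xj ⟶ X₀) (pY : Yj ⟶ Y₀), IsPullback pX aj a₀ (D.map φ) ∧ IsPullback pY bj b₀ (D.map φ) ∧
        ∃ e : Xj ≅ Yj, e.hom ≫ bj = aj := by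
  constructor
  · rintro ⟨e, he⟩
    exact K116.OverIso.exists_iso D c hc i₀ a₀ b₀ a b qX qY hX hY e he
  · rintro ⟨j, φ, Xj, Yj, aj, bj, pX, pY, h1, h2, e, he⟩
    have wX : qX ≫ a₀ = (a ≫ c.π.app j) ≫ D.map φ := by rw [hX.w, Category.assoc, c.w]
    have wY : qY ≫ b₀ = (b ≫ c.π.app j) ≫ D.map φ := by rw [hY.w, Category.assoc, c.w]
    have h3 : IsPullback (h1.lift qX (a ≫ c.π.app j) wX) a aj (c.π.app j) :=
      IsPullback.of_right (by rw [h1.lift_fst, c.w]; exact hX) (h1.lift_snd _ _ _) h1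
    have h4 : IsPullback (h2.lift qY (b ≫ c.π.app j) wY) b bj (c.π.app j) :=
      IsPullback.of_right (by rw [h2.lift_fst, c.w]; exact hY) (h2.lift_snd _ _ _) h2
    have h5 : IsPullback (h1.lift qX (a ≫ c.π.app j) wX ≫ e.hom) a bj (c.π.app j) := by
      have h6 : IsPullback e.hom aj bj (𝟙 _) := IsPullback.of_horiz_isIso ⟨by rw [he, Category.comp_id]⟩
      have := h3.paste_horiz h6
      rwa [Category.comp_id] at this
    exact ⟨h5.isoIsPullback _ _ h4, by simp⟩

end Groth.Agent.S4795
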