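import Groth.Statements.S4804
import Groth.Agent.Smoothlim.ProperDescend

set_option autoImplicit false
universe u
open CategoryTheory AlgebraicGeometry
open Lim8

namespace Groth.Agent.S4804

/-- Let S = lim S_i be a cofiltered limit of schemes with affine transition maps, let f₀ : X₀ ⟶ Y₀ be a
morphism of schemes over a stage S_{i₀}, with Y₀ quasi-compact and f₀ of finite type and
quasi-separated, and let f : X ⟶ Y be the base change of f₀ along S ⟶ S_{i₀} (base changes are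
expressed by pullback squares). Then f is separated if and only if, for some index j over i₀, the
base change f_j : X_j ⟶ Y_j of f₀ along S_j ⟶ S_{i₀} is separated. -/
theorem result {I : Type u} [SmallCategory I] [IsCofiltered I]
    (D : I ⥤ Scheme.{u}) (c : Limits.Cone D) (hc : Limits.IsLimit c)
    [∀ (i j : I) (f : i ⟶ j), IsAffineHom (D.map f)] (i₀ : I)
    {X₀ Y₀ : Scheme.{u}} (f₀ : X₀ ⟶ Y₀) (g₀ : Y₀ ⟶ D.obj i₀) [CompactSpace Y₀]
    [LocallyOfFiniteType f₀] [QuasiCompact f₀] [QuasiSeparated f₀]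
    {X Y : Scheme.{u}} (f : X ⟶ Y) (g : Y ⟶ c.pt) (qY : Y ⟶ Y₀) (qX : X ⟶ X₀)
    (hY : IsPullback qY g g₀ (c.π.app i₀)) (hX : IsPullback qX f f₀ qY) :
    IsSeparated f ↔
      ∃ (j : I) (φ : j ⟶ i₀) (Xj Yj : Scheme.{u}) (fj : Xj ⟶ Yj) (gj : Yj ⟶ D.obj j) (pY : Yj ⟶ Y₀)
        (pX : Xj ⟶ X₀), IsPullback pY gj g₀ (D.map φ) ∧ IsPullback pX fj f₀ pY ∧ IsSeparated fj := by
  constructor
  · intro hf
    obtain ⟨i, φ, hi⟩ := Groth.Agent.Smoothlim.LimBase.exists_descend
      Groth.Agent.Smoothlim.LimBase.descendsAffine_isSeparated D c hc i₀ f₀ g₀ f g qY qX hY hX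
      ⟨inferInstance, inferInstance⟩ hf
    exact ⟨i, φ, _, _, _, _, _, _, IsPullback.of_hasPullback g₀ (D.map φ),
      IsPullback.of_hasPullback f₀ (Limits.pullback.fst g₀ (D.map φ)), hi⟩
  · rintro ⟨j, φ, Xj, Yj, fj, gj, pY, pX, h1, h2, hs⟩
    have e : g ≫ c.π.app j ≫ D.map φ = g ≫ c.π.app i₀ := by rw [c.w]
    let k : Y ⟶ Yj := h1.lift qY (g ≫ c.π.app j) (by rw [hY.w, Category.assoc, e])
    have hk : k ≫ pY = qY := h1.lift_fst _ _ _
    have h3 : IsPullback (h2.lift qX (f ≫ k) (by rw [hX.w, Category.assoc, hk])) f fj k :=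
      IsPullback.of_right (by simpa [hk] using hX) (by simp) h2
    exact MorphismProperty.of_isPullback h3 hs

end Groth.Agent.S4804
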