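import Groth.Statements.S4822
import Groth.Agent.Cons9.K118.AmpleLocus
import Groth.Agent.Cons9.K118.FibreAll

set_option autoImplicit false
open CategoryTheory AlgebraicGeometry
universe u
open Cons9

namespace Groth.Agent.S4822

open CategoryTheory.Limits in
/-- Let g : Y ⟶ S and f : X ⟶ Y be morphisms such that X and Y are of finite presentation over S
(locally of finite presentation, quasi-compact and quasi-separated) and f is proper, and let L be an
invertible O_X-module. For each point s of S let f_s : X_s ⟶ Y_s be the morphism induced on the
fibres over s and L_s the pullback of L to X_s. Then the set of s for which L_s is ample relative to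
f_s is locally constructible in S. This is the case of relative ampleness (the very ample case is
not stated here). -/
theorem result {X Y S : Scheme.{u}} (f : X ⟶ Y) (g : Y ⟶ S)
    [LocallyOfFinitePresentation g] [QuasiCompact g] [QuasiSeparated g]
    [LocallyOfFinitePresentation (f ≫ g)] [QuasiCompact (f ≫ g)] [QuasiSeparated (f ≫ g)] [IsProper f]
    (L : X.Modules) (hL : PicF.IsInvertible L) :
    Topology.IsLocallyConstructible {s : S |
      RelAmple.IsRelAmple
        (pullback.lift (pullback.fst (f ≫ g) (S.fromSpecResidueField s) ≫ f) (pullback.snd (f ≫ g) (S.fromSpecResidueField s))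
          ((Category.assoc _ _ _).trans pullback.condition) :
          pullback (f ≫ g) (S.fromSpecResidueField s) ⟶ pullback g (S.fromSpecResidueField s))
        ((Scheme.Modules.pullback (pullback.fst (f ≫ g) (S.fromSpecResidueField s))).obj L)} := by
  have hf : LocallyOfFinitePresentation f :=
    (Groth.Agent.Ega43.LocusAff.FP.of_comp (.mk' (f ≫ g)) (.mk' g)).1
  have h1 := K118.AmpleLocus.isLocallyConstructible_ampLocus f hL
  have h2 := K118.FibreAll.isLocallyConstructible_setOf_forall_fiber g
    (fun s y => g.fiberι s y ∈ K118.AmpleLocus.ampLocus f L) (by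
      convert h1 using 1
      ext y
      simp)
  convert h2 using 1
  ext s
  have h3 := Groth.Agent.Ega43.Locus.isPullback_bcMap f g (S.fromSpecResidueField s)
  have h4 : IsProper (Groth.Agent.Ega43.Locus.bcMap f g (S.fromSpecResidueField s)) :=
    MorphismProperty.of_isPullback h3 inferInstance
  have h5 : LocallyOfFinitePresentation (Groth.Agent.Ega43.Locus.bcMap f g (S.fromSpecResidueField s)) :=
    MorphismProperty.of_isPullback h3 hf
  have h6 : PicF.IsInvertible ((Scheme.Modules.pullback (pullback.fst (f ≫ g) (S.fromSpecResidueField s))).obj L) :=
    Groth.Agent.Fdesc.LocGen.isInvertible_pullback _ hL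
  have h7 := K118.AmpleLocus.ampLocus_baseChange h3 hL
  refine (Groth.Agent.S12128.result
    (Groth.Agent.Ega43.Locus.bcMap f g (S.fromSpecResidueField s)) _ h6).trans ?_
  exact forall_congr' fun y => Set.ext_iff.1 h7 y

end Groth.Agent.S4822
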