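import Groth.Statements.S4823
import Groth.Agent.PerfB.LimMod
import Groth.Agent.Ega3B.LimInvK1
import Groth.Agent.FormalA.PullbackQC
import Mathlib.RingTheory.Jacobson.Ring

set_option autoImplicit false
open CategoryTheory AlgebraicGeometry
universe u
open Cons9

namespace Groth.Agent.S4823

/-- Isomorphisms between pullbacks can be pulled back. -/
theorem pull_iso {X Y Z : Scheme.{u}} (a : X ⟶ Y) (b : Y ⟶ Z) (c : X ⟶ Z) (h : a ≫ b = c)
    {F G : Z.Modules} (e : (Scheme.Modules.pullback b).obj F ≅ (Scheme.Modules.pullback b).obj G) :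
    Nonempty ((Scheme.Modules.pullback c).obj F ≅ (Scheme.Modules.pullback c).obj G) :=
  ⟨((Scheme.Modules.pullbackComp a b).app F ≪≫ (Scheme.Modules.pullbackCongr h).app F).symm ≪≫
    (Scheme.Modules.pullback a).mapIso e ≪≫
    (Scheme.Modules.pullbackComp a b).app G ≪≫ (Scheme.Modules.pullbackCongr h).app G⟩

set_option backward.isDefEq.respectTransparency false in
set_option backward.defeqAttrib.useBackward true in
open Groth.Agent.Ega3B.LimInv Opposite in
open CategoryTheory.Limits in
/-- Isomorphisms come from a finitely generated subalgebra. -/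
theorem exists_fg {k : Type u} [Field k] {X : Scheme.{u}}
    (p : X ⟶ Spec (CommRingCat.of k)) [QuasiSeparated p] [QuasiCompact p]
    (F G : X.Modules) (hF : CohB1.IsFP F) (hG : CohB1.IsFP G)
    (Ω : Type u) [Field Ω] [Algebra k Ω]
    (e : (Scheme.Modules.pullback (pullback.fst p (Spec.map (CommRingCat.ofHom (algebraMap k Ω))))).obj F ≅
      (Scheme.Modules.pullback (pullback.fst p (Spec.map (CommRingCat.ofHom (algebraMap k Ω))))).obj G) :
    ∃ (B : Subalgebra k Ω), B.FG ∧
      Nonempty ((Scheme.Modules.pullback (pullback.fst p (Spec.map (CommRingCat.ofHom (algebraMap k B))))).obj F ≅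
        (Scheme.Modules.pullback (pullback.fst p (Spec.map (CommRingCat.ofHom (algebraMap k B))))).obj G) := by
  let D := bcD (fgD k Ω) (fgS k Ω) p
  have h : IsPullback (pullback.fst p (Spec.map (CommRingCat.ofHom (algebraMap k Ω))))
    (pullback.snd p (Spec.map (CommRingCat.ofHom (algebraMap k Ω)))) p
    (Spec.map (CommRingCat.ofHom (algebraMap k Ω))) := IsPullback.of_hasPullback _ _
  have ht : ∀ j, (fgC k Ω).π.app j ≫ (fgS k Ω).app j =
      Spec.map (CommRingCat.ofHom (algebraMap k Ω)) := fun j => by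
    change Spec.map _ ≫ Spec.map _ = _
    rw [← Spec.map_comp]
    rfl
  let c : Cone D := bcC (fgC k Ω) ht h
  have hc : IsLimit c := isLimitBcC (fgC k Ω) ht h (isLimitFgC k Ω)
  let i₀ : (Groth.Agent.Etcore.FGLim.FGSub k Ω)ᵒᵖ := op ⊥
  let F₀ := (Scheme.Modules.pullback (pullback.fst p ((fgS k Ω).app i₀))).obj F
  let G₀ := (Scheme.Modules.pullback (pullback.fst p ((fgS k Ω).app i₀))).obj G
  have h1 : ∀ {j k'} (a : j ⟶ k'), IsAffineHom (D.map a) := fun a => isAffineHom_bcD_map a
  have h2 : ∀ j, CompactSpace (D.obj j) := fun j => compactSpace_bcD_obj j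
  have h3 : ∀ j, QuasiSeparatedSpace (D.obj j) := fun j => quasiSeparatedSpace_bcD_obj j
  have hF₀ : CohB1.IsFP F₀ := Groth.Agent.FormalA.PullbackQC.isFP_pullback _ _ hF
  have hG₀ : CohB1.IsFP G₀ := Groth.Agent.FormalA.PullbackQC.isFP_pullback _ _ hG
  have hπ : c.π.app i₀ ≫ pullback.fst p ((fgS k Ω).app i₀) =
      pullback.fst p (Spec.map (CommRingCat.ofHom (algebraMap k Ω))) := by simp [c]
  let cmp (H : X.Modules) := (Scheme.Modules.pullbackComp (c.π.app i₀)
    (pullback.fst p ((fgS k Ω).app i₀))).app H ≪≫ (Scheme.Modules.pullbackCongr hπ).app H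
  obtain ⟨j, a, e', -⟩ := Groth.Agent.PerfB.LimMod.exists_iso hc hF₀ hG₀
    (cmp F ≪≫ e ≪≫ (cmp G).symm)
  have ha : D.map a ≫ pullback.fst p ((fgS k Ω).app i₀) = pullback.fst p ((fgS k Ω).app j) := by
    simp [D]
  let cmp' (H : X.Modules) := (Scheme.Modules.pullbackComp (D.map a)
    (pullback.fst p ((fgS k Ω).app i₀))).app H ≪≫ (Scheme.Modules.pullbackCongr ha).app H
  exact ⟨j.unop.1, j.unop.2, ⟨(cmp' F).symm ≪≫ e' ≪≫ cmp' G⟩⟩

open CategoryTheory.Limits in
/-- Let k be a field, Ω an algebraically closed extension field of k, X a scheme of finite type over k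
and F, G two coherent O_X-modules (quasi-coherent of finite presentation). If the pullbacks of F and
G to X ⊗_k Ω are isomorphic, then there is a finite extension k' of k such that the pullbacks of F
and G to X ⊗_k k' are already isomorphic (base changes are the chosen fibre products with Spec of
the extension, and the modules are pulled back along the first projection). -/
theorem result {k : Type u} [Field k] {X : Scheme.{u}}
    (p : X ⟶ Spec (CommRingCat.of k)) [LocallyOfFiniteType p] [QuasiCompact p]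
    (F G : X.Modules) [Coh.IsQCoh F] [Coh.IsQCoh G] (hF : CohB1.IsFP F) (hG : CohB1.IsFP G)
    (Ω : Type u) [Field Ω] [Algebra k Ω] [IsAlgClosed Ω]
    (e : (Scheme.Modules.pullback (pullback.fst p (Spec.map (CommRingCat.ofHom (algebraMap k Ω))))).obj F ≅
      (Scheme.Modules.pullback (pullback.fst p (Spec.map (CommRingCat.ofHom (algebraMap k Ω))))).obj G) :
    ∃ (k' : Type u) (_ : Field k') (_ : Algebra k k') (_ : Module.Finite k k'),
      Nonempty ((Scheme.Modules.pullback (pullback.fst p (Spec.map (CommRingCat.ofHom (algebraMap k k'))))).obj F ≅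
        (Scheme.Modules.pullback (pullback.fst p (Spec.map (CommRingCat.ofHom (algebraMap k k'))))).obj G) := by
  have : IsLocallyNoetherian X := LocallyOfFiniteType.isLocallyNoetherian p
  have : QuasiSeparated p := inferInstance
  obtain ⟨B, hB, ⟨e'⟩⟩ := exists_fg p F G hF hG Ω e
  have : Algebra.FiniteType k B := (Subalgebra.fg_iff_finiteType _).1 hB
  obtain ⟨m, hm⟩ := Ideal.exists_maximal B
  let : Field (B ⧸ m) := Ideal.Quotient.field m
  have : Algebra.FiniteType k (B ⧸ m) :=
    Algebra.FiniteType.of_surjective (Ideal.Quotient.mkₐ k m) (Ideal.Quotient.mkₐ_surjective k m)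
  have hs : Spec.map (CommRingCat.ofHom (algebraMap B (B ⧸ m))) ≫ Spec.map (CommRingCat.ofHom (algebraMap k B)) =
      Spec.map (CommRingCat.ofHom (algebraMap k (B ⧸ m))) := by
    rw [← Spec.map_comp, ← CommRingCat.ofHom_comp, ← IsScalarTower.algebraMap_eq]
  refine ⟨B ⧸ m, inferInstance, inferInstance, finite_of_finite_type_of_isJacobsonRing k _, ?_⟩
  refine pull_iso (pullback.lift (pullback.fst _ _)
    (pullback.snd p (Spec.map (CommRingCat.ofHom (algebraMap k (B ⧸ m)))) ≫
      Spec.map (CommRingCat.ofHom (algebraMap B (B ⧸ m)))) ?_) _ _ (pullback.lift_fst _ _ _) e'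
  rw [Category.assoc, hs, pullback.condition]


end Groth.Agent.S4823
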