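import Groth.Statements.S4829
import Groth.Agent.Cons9.K118.AmpleFieldDesc
import Groth.Agent.CalgB.ProjImm2
import Groth.Agent.Desc.MorDescent
import Groth.Agent.Ega2.AmpleUnit

set_option autoImplicit false
open CategoryTheory AlgebraicGeometry
universe u
open Cons9

namespace Groth.Agent.S4829

open CategoryTheory.Limits in
/-- Let k be a field, X a scheme over k and K an extension field of k. If the base change X ⊗_k K admits
a closed immersion over K into a projective space P^n_K (X ⊗_k K is projective over K), then X
admits a closed immersion over k into some projective space P^n_k (X is projective over k). This is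
the projective case (projective spaces are Proj of polynomial rings base-changed to the base; the
base change X ⊗_k K is the chosen fibre product). -/
theorem result {k : Type u} [Field k] {X : Scheme.{u}}
    (p : X ⟶ Spec (CommRingCat.of k)) (K : Type u) [Field K] [Algebra k K]
    (h : ∃ (n : ℕ) (i : pullback p (Spec.map (CommRingCat.ofHom (algebraMap k K))) ⟶ CohB1.ProjSpaceOver n (Spec (CommRingCat.of K))),
      IsClosedImmersion i ∧ i ≫ CohB1.ProjSpaceOver.toBase n (Spec (CommRingCat.of K)) = pullback.snd p (Spec.map (CommRingCat.ofHom (algebraMap k K)))) :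
    ∃ (n : ℕ) (i : X ⟶ CohB1.ProjSpaceOver n (Spec (CommRingCat.of k))),
      IsClosedImmersion i ∧ i ≫ CohB1.ProjSpaceOver.toBase n (Spec (CommRingCat.of k)) = p := by
  let q := Spec.map (CommRingCat.ofHom (algebraMap k K))
  have hfl : Module.Flat k K := Module.Flat.of_free
  have hq : (@Surjective ⊓ @Flat ⊓ @QuasiCompact : MorphismProperty Scheme.{u}) q :=
    ⟨⟨inferInstance, Flat.SpecMap_iff.mpr (RingHom.flat_algebraMap_iff.mpr hfl)⟩,
      inferInstance⟩
  obtain ⟨hprop, L, hL⟩ := (Groth.Agent.CalgB.ProjImm.closedImmersion_iff
    ⟨_, Groth.Agent.Ega2.Weight.isAmple_structureModule _⟩ (pullback.snd p q)).mp h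
  have := Groth.Agent.Desc.MorDescent.descendsAlong_isProper.{u}
  have : IsProper p := MorphismProperty.of_pullback_snd_of_descendsAlong (P := @IsProper) hq hprop
  exact (Groth.Agent.CalgB.ProjImm.closedImmersion_iff
    ⟨_, Groth.Agent.Ega2.Weight.isAmple_structureModule _⟩ p).mpr
    ⟨this, K118.AmpleFieldDesc.exists_isAmple p K hL⟩


end Groth.Agent.S4829
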