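import Groth.Statements.S4830
import Groth.Agent.Cons9.K118.AmpleFieldDesc
import Groth.Agent.CalgB.ProjImm2
import Groth.Agent.Desc.MorDescent
import Groth.Agent.Ega2.AmpleUnit

set_option autoImplicit false
open CategoryTheory AlgebraicGeometry
universe u
open Cons9

namespace Groth.Agent.S4830

open CategoryTheory.Limits in
/-- Let k be a field, X a scheme over k and K an extension field of k. If the base change X ⊗_k K admits
an immersion over K into a projective space P^n_K (X ⊗_k K is quasi-projective over K), then X
admits an immersion over k into some projective space P^n_k (X is quasi-projective over k). This is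
the quasi-projective case (projective spaces are Proj of polynomial rings base-changed to the base;
the base change X ⊗_k K is the chosen fibre product). -/
theorem result {k : Type u} [Field k] {X : Scheme.{u}}
    (p : X ⟶ Spec (CommRingCat.of k)) (K : Type u) [Field K] [Algebra k K]
    (h : ∃ (n : ℕ) (i : pullback p (Spec.map (CommRingCat.ofHom (algebraMap k K))) ⟶ CohB1.ProjSpaceOver n (Spec (CommRingCat.of K))),
      IsImmersion i ∧ i ≫ CohB1.ProjSpaceOver.toBase n (Spec (CommRingCat.of K)) = pullback.snd p (Spec.map (CommRingCat.ofHom (algebraMap k K)))) :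
    ∃ (n : ℕ) (i : X ⟶ CohB1.ProjSpaceOver n (Spec (CommRingCat.of k))),
      IsImmersion i ∧ i ≫ CohB1.ProjSpaceOver.toBase n (Spec (CommRingCat.of k)) = p := by
  let q := Spec.map (CommRingCat.ofHom (algebraMap k K))
  have hfl : Module.Flat k K := Module.Flat.of_free
  have hq : (@Surjective ⊓ @Flat ⊓ @QuasiCompact : MorphismProperty Scheme.{u}) q :=
    ⟨⟨inferInstance, Flat.SpecMap_iff.mpr (RingHom.flat_algebraMap_iff.mpr hfl)⟩,
      inferInstance⟩
  obtain ⟨n, i, hi, hin⟩ := h
  have h1 : IsLocallyNoetherian (CohB1.ProjSpaceOver n (Spec (CommRingCat.of K))) :=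
    LocallyOfFiniteType.isLocallyNoetherian (CohB1.ProjSpaceOver.toBase n (Spec (CommRingCat.of K)))
  have h2 : CompactSpace (CohB1.ProjSpaceOver n (Spec (CommRingCat.of K))) :=
    QuasiCompact.compactSpace_of_compactSpace
      (CohB1.ProjSpaceOver.toBase n (Spec (CommRingCat.of K)))
  have h3 : IsNoetherian (CohB1.ProjSpaceOver n (Spec (CommRingCat.of K))) := {}
  have h4 : TopologicalSpace.NoetherianSpace ↥(pullback p q) :=
    i.isEmbedding.isInducing.noetherianSpace
  have h5 : QuasiCompact i := inferInstance
  obtain ⟨hft, hqc, L, hL⟩ := (Groth.Agent.CalgB.ProjImm.qc_immersion_iff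
    ⟨_, Groth.Agent.Ega2.Weight.isAmple_structureModule _⟩ (pullback.snd p q)).mp
    ⟨n, i, hi, h5, hin⟩
  have : LocallyOfFiniteType p :=
    MorphismProperty.of_pullback_snd_of_descendsAlong (P := @LocallyOfFiniteType) hq hft
  have : QuasiCompact p := by
    have h6 : CompactSpace X := by
      have hs : Surjective (pullback.fst p q) := inferInstance
      have hcp : CompactSpace ↥(pullback p q) :=
        QuasiCompact.compactSpace_of_compactSpace (pullback.snd p q)
      exact
      isCompact_univ_iff.mp ((pullback.fst p q).surjective.range_eq ▸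
        isCompact_range (pullback.fst p q).continuous)
    exact (quasiCompact_iff_compactSpace p).mpr h6
  obtain ⟨n, i, hi, -, h⟩ := (Groth.Agent.CalgB.ProjImm.qc_immersion_iff
    ⟨_, Groth.Agent.Ega2.Weight.isAmple_structureModule _⟩ p).mpr
    ⟨inferInstance, inferInstance, K118.AmpleFieldDesc.exists_isAmple p K hL⟩
  exact ⟨n, i, hi, h⟩


end Groth.Agent.S4830
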