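import Groth.Statements.S4833
import Groth.Agent.Cons9.K119.GenFlatSch
import Groth.Agent.S1441
import Groth.Agent.Sga2lef.H106.UFlat
import Groth.Agent.Cons9.K119.GenFib

set_option autoImplicit false
open CategoryTheory AlgebraicGeometry
universe u
open Cons9

namespace Groth.Agent.S4833

open CategoryTheory.Limits in
/-- Let S be an integral Noetherian scheme with generic point η, let g : X ⟶ Y be an S-morphism between
schemes of finite type over S (structure morphisms h : Y ⟶ S and g ≫ h), and let F be a coherent
O_X-module. For s in S write g_s : X_s ⟶ Y_s for the morphism induced on the fibres over s and F_s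
for the pullback of F to X_s. If F_η is not flat relative to g_η (not flat over O_{Y_η, g_η(x)} at
some point x of X_η), then there is an open neighbourhood U of η such that for every s in U the
module F_s is not flat relative to g_s. -/
theorem result {X Y S : Scheme.{u}} [IsIntegral S] [IsNoetherian S]
    (g : X ⟶ Y) (h : Y ⟶ S) [LocallyOfFiniteType h] [QuasiCompact h]
    [LocallyOfFiniteType (g ≫ h)] [QuasiCompact (g ≫ h)]
    (F : X.Modules) [Coh.IsQCoh F] (hF : CohB1.IsFP F)
    (hη : ¬ FlatMod.IsFlatOver
      (pullback.lift (pullback.fst (g ≫ h) (S.fromSpecResidueField (genericPoint S)) ≫ g)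
          (pullback.snd (g ≫ h) (S.fromSpecResidueField (genericPoint S)))
          ((Category.assoc _ _ _).trans pullback.condition) :
        pullback (g ≫ h) (S.fromSpecResidueField (genericPoint S)) ⟶ pullback h (S.fromSpecResidueField (genericPoint S)))
      ((Scheme.Modules.pullback (pullback.fst (g ≫ h) (S.fromSpecResidueField (genericPoint S)))).obj F)) :
    ∃ U : S.Opens, genericPoint S ∈ U ∧ ∀ s ∈ U, ¬ FlatMod.IsFlatOver
      (pullback.lift (pullback.fst (g ≫ h) (S.fromSpecResidueField s) ≫ g) (pullback.snd (g ≫ h) (S.fromSpecResidueField s))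
          ((Category.assoc _ _ _).trans pullback.condition) :
        pullback (g ≫ h) (S.fromSpecResidueField s) ⟶ pullback h (S.fromSpecResidueField s))
      ((Scheme.Modules.pullback (pullback.fst (g ≫ h) (S.fromSpecResidueField s))).obj F) := by
  have hLFP : ∀ (k : X ⟶ S) [LocallyOfFiniteType k], LocallyOfFinitePresentation k := by
    intro k _
    rw [HasRingHomProperty.iff_appLE (P := @LocallyOfFinitePresentation)]
    intro U V e
    have := IsLocallyNoetherian.component_noetherian U
    have hk := k.finiteType_appLE U.2 V.2 e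
    algebraize [(k.appLE U V e).hom]
    exact RingHom.finitePresentation_algebraMap.mpr (Algebra.FinitePresentation.of_finiteType.mp ‹_›)
  have hX : LocallyOfFinitePresentation (g ≫ h) := hLFP _
  have hFq : Coh.IsQCoh F := inferInstance
  -- a point of the generic fibre where `F_η` is not flat
  obtain ⟨z₀, hz₀⟩ : ∃ z, ¬ FlatMod.IsFlatOverAt (MoreMor.fiberMap g h (genericPoint S))
      ((Scheme.Modules.pullback ((g ≫ h).fiberι (genericPoint S))).obj F) z := not_forall.mp hη
  set x := (g ≫ h).fiberι (genericPoint S) z₀ with hx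
  have hxη : (g ≫ h) x = genericPoint S := K119.GenFib.apply_fiberι (g ≫ h) _ z₀
  have hnf : ¬ FlatMod.IsFlatOverAt g F x := fun hfl => hz₀
    (Fdesc.FlatBC.isFlatOverAt_pullback (S1441.isPullback_fiberMap_fiberι g h (genericPoint S)).flip F z₀ hfl)
  obtain ⟨V, hηV, hV⟩ := K119.GenFlatSch.exists_nhd_isFlatOverAt (g ≫ h) F hF
  obtain ⟨V', hηV', hV'⟩ := K119.GenFlatSch.exists_nhd_specialization (g ≫ h) x hxη
  refine ⟨V ⊓ V', ⟨hηV, hηV'⟩, fun s hs hfl => hnf ?_⟩
  obtain ⟨y, hys, hxy⟩ := hV' s hs.2
  obtain ⟨z, hz⟩ := K119.GenFib.exists_fiberι (g ≫ h) hys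
  have h1 : FlatMod.IsFlatOverAt (g ≫ h) F ((g ≫ h).fiberι s z) := hV _ (by rw [hz, hys]; exact hs.1)
  have h2 := S1441.isFlatOverAt_of_fiber g h F hFq hF s z h1 (hfl z)
  rw [hz] at h2
  exact Sga2lef.H106.UFlat.isFlatOverAt_of_specializes g F hFq hxy h2

end Groth.Agent.S4833
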