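import Groth.Statements.S4838
import Groth.Agent.S3452

set_option autoImplicit false
open CategoryTheory AlgebraicGeometry
universe u
open Cons9

namespace Groth.Agent.S4838

theorem isLocallyConstructible_compl {X : Type*} [TopologicalSpace X] {s : Set X}
    (hs : Topology.IsLocallyConstructible s) : Topology.IsLocallyConstructible sᶜ := by
  intro x
  obtain ⟨U, hxU, hU, hUs⟩ := hs x
  exact ⟨U, hxU, hU, hUs.compl⟩

/-- Let f : X ⟶ S be a morphism of finite presentation (locally of finite presentation, quasi-compact
and quasi-separated). Then the set of points s of S whose fibre X_s is geometrically pointwise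
integral over κ(s), i.e. such that for every extension field K of κ(s) all local rings of X_s
⊗_{κ(s)} K are integral domains, is locally constructible in S. -/
theorem result {X S : Scheme.{u}} (f : X ⟶ S)
    [LocallyOfFinitePresentation f] [QuasiCompact f] [QuasiSeparated f] :
    Topology.IsLocallyConstructible {s : S |
      ∀ x : ↥(f.fiber s), FBase.IsGeomPtIntegralAt (f.fiberToSpecResidueField s) x} := by
  have h := Groth.Agent.S3452.result f
  have h2 := f.isLocallyConstructible_image (isLocallyConstructible_compl h)
  have h3 := isLocallyConstructible_compl h2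
  convert h3 using 1
  ext s
  simp only [Set.mem_ofPred_eq, Set.mem_compl_iff, Set.mem_image, not_exists, not_and]
  constructor
  · rintro hs x hx rfl
    exact hx (hs (f.asFiber x))
  · intro hs z
    obtain ⟨x, h, hx⟩ : ∃ x : X, ∃ h : f x = s, z = (f.fiberHomeo s).symm ⟨x, h⟩ :=
      ⟨((f.fiberHomeo s) z).1, ((f.fiberHomeo s) z).2, ((f.fiberHomeo s).symm_apply_apply z).symm⟩
    subst h
    subst hx
    by_contra hcon
    exact hs x (fun h' => hcon h') rfl

end Groth.Agent.S4838
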