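import Groth.Statements.S4839
import Groth.Agent.Cons9.K119.FgIso
import Mathlib.RingTheory.Jacobson.Ring
import Mathlib.AlgebraicGeometry.Noetherian

set_option autoImplicit false
open CategoryTheory AlgebraicGeometry
universe u
open Cons9

namespace Groth.Agent.S4839

open CategoryTheory.Limits in
/-- Let k be a field and X, Y two schemes of finite type over k. If for some field extension K of k
there is a K-isomorphism X ⊗_k K ≅ Y ⊗_k K (X and Y are geometrically isomorphic), then there are a
finite extension k' of k and a k'-isomorphism X ⊗_k k' ≅ Y ⊗_k k'. This is the case of the property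
of being an isomorphism (base changes are the chosen fibre products with Spec of the extension). -/
theorem result {k : Type u} [Field k] {X Y : Scheme.{u}}
    (p : X ⟶ Spec (CommRingCat.of k)) (q : Y ⟶ Spec (CommRingCat.of k))
    [LocallyOfFiniteType p] [QuasiCompact p] [LocallyOfFiniteType q] [QuasiCompact q]
    (K : Type u) [Field K] [Algebra k K]
    (e : pullback p (Spec.map (CommRingCat.ofHom (algebraMap k K))) ≅ pullback q (Spec.map (CommRingCat.ofHom (algebraMap k K))))
    (he : e.hom ≫ pullback.snd q (Spec.map (CommRingCat.ofHom (algebraMap k K))) = pullback.snd p (Spec.map (CommRingCat.ofHom (algebraMap k K)))) :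
    ∃ (k' : Type u) (_ : Field k') (_ : Algebra k k') (_ : Module.Finite k k')
      (e' : pullback p (Spec.map (CommRingCat.ofHom (algebraMap k k'))) ≅ pullback q (Spec.map (CommRingCat.ofHom (algebraMap k k')))),
      e'.hom ≫ pullback.snd q (Spec.map (CommRingCat.ofHom (algebraMap k k'))) = pullback.snd p (Spec.map (CommRingCat.ofHom (algebraMap k k'))) := by
  have : IsLocallyNoetherian X := LocallyOfFiniteType.isLocallyNoetherian p
  have : IsLocallyNoetherian Y := LocallyOfFiniteType.isLocallyNoetherian q
  have : LocallyOfFinitePresentation p := LocallyOfFinitePresentation.iff_locallyOfFiniteType.2 ‹_›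
  have : LocallyOfFinitePresentation q := LocallyOfFinitePresentation.iff_locallyOfFiniteType.2 ‹_›
  obtain ⟨B', hB', Z', a', b', z', h1, h2⟩ := K119.FgIso.exists_common_fg p q
    (pullback.fst p (Spec.map (CommRingCat.ofHom (algebraMap k K))))
    (e.hom ≫ pullback.fst q (Spec.map (CommRingCat.ofHom (algebraMap k K))))
    (pullback.snd p (Spec.map (CommRingCat.ofHom (algebraMap k K))))
    (IsPullback.of_hasPullback _ _)
    (IsPullback.of_iso (IsPullback.of_hasPullback q (Spec.map (CommRingCat.ofHom (algebraMap k K))))
      e.symm (Iso.refl _) (Iso.refl _) (Iso.refl _) (by simp) (by simp [← he]) (by simp) (by simp))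
  have : Algebra.FiniteType k B' := (Subalgebra.fg_iff_finiteType _).1 hB'
  obtain ⟨m, hm⟩ := Ideal.exists_maximal B'
  let : Field (B' ⧸ m) := Ideal.Quotient.field m
  have : Algebra.FiniteType k (B' ⧸ m) :=
    Algebra.FiniteType.of_surjective (Ideal.Quotient.mkₐ k m) (Ideal.Quotient.mkₐ_surjective k m)
  let s : Spec (CommRingCat.of (B' ⧸ m)) ⟶ Spec (CommRingCat.of B') :=
    Spec.map (CommRingCat.ofHom (algebraMap B' (B' ⧸ m)))
  have hs : s ≫ Spec.map (CommRingCat.ofHom (algebraMap k B')) =
      Spec.map (CommRingCat.ofHom (algebraMap k (B' ⧸ m))) := by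
    rw [← Spec.map_comp, ← CommRingCat.ofHom_comp, ← IsScalarTower.algebraMap_eq]
  have h3 : IsPullback (pullback.fst z' s ≫ a') (pullback.snd z' s) p
      (Spec.map (CommRingCat.ofHom (algebraMap k (B' ⧸ m)))) := by
    rw [← hs]
    exact (IsPullback.of_hasPullback z' s).paste_horiz h1
  have h4 : IsPullback (pullback.fst z' s ≫ b') (pullback.snd z' s) q
      (Spec.map (CommRingCat.ofHom (algebraMap k (B' ⧸ m)))) := by
    rw [← hs]
    exact (IsPullback.of_hasPullback z' s).paste_horiz h2
  refine ⟨B' ⧸ m, inferInstance, inferInstance, finite_of_finite_type_of_isJacobsonRing k _,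
    (IsPullback.of_hasPullback _ _).isoIsPullback _ _ h3 ≪≫
      h4.isoIsPullback _ _ (IsPullback.of_hasPullback _ _), ?_⟩
  simp

end Groth.Agent.S4839
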