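import Groth.Statements.S4843
import Groth.Agent.Cons9.K119.RelAmpInd
import Groth.Agent.S4846
import Groth.Agent.RelProj.K823.QProj
import Groth.Agent.Ega43.LocusProperPos
import Groth.Agent.S4418
-- import your own Groth.Agent.* helpers here

set_option autoImplicit false
open CategoryTheory AlgebraicGeometry
universe u
open Cons9

namespace Groth.Agent.S4843

open CategoryTheory.Limits in
/-- Let g : Y ⟶ S and f : X ⟶ Y be such that X and Y are of finite presentation over S (locally of
finite presentation, quasi-compact and quasi-separated). For each point s of S let f_s : X_s ⟶ Y_s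
be the morphism induced on the fibres over s. Then the set of s for which f_s is projective (X_s is
isomorphic over Y_s to the homogeneous spectrum of a quasi-coherent graded O_{Y_s}-algebra generated
by its degree-one part, which is of finite type) is ind-constructible in S. -/
theorem result {X Y S : Scheme.{u}} (f : X ⟶ Y) (g : Y ⟶ S)
    [LocallyOfFinitePresentation g] [QuasiCompact g] [QuasiSeparated g]
    [LocallyOfFinitePresentation (f ≫ g)] [QuasiCompact (f ≫ g)] [QuasiSeparated (f ≫ g)] :
    ProCons.IsIndConstructible {s : S |
      RelProj.IsProjective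
        (pullback.lift (pullback.fst (f ≫ g) (S.fromSpecResidueField s) ≫ f) (pullback.snd (f ≫ g) (S.fromSpecResidueField s))
          ((Category.assoc _ _ _).trans pullback.condition) :
        pullback (f ≫ g) (S.fromSpecResidueField s) ⟶ pullback g (S.fromSpecResidueField s))} := by
  have H : K119.RelAmpInd.AmpDesc.{u} := fun D c hc _ i₀ _ _ _ f₀ g₀ _ _ _ _ _ _ L₀ hL₀ _ _ f g qY qX hY hX h =>
    (Groth.Agent.S4846.result D c hc i₀ f₀ g₀ L₀ hL₀ f g qY qX hY hX).1 h
  let P₂ : MorphismProperty Scheme.{u} := @IsProper
  have : P₂.IsStableUnderBaseChange := inferInstanceAs (MorphismProperty.IsStableUnderBaseChange @IsProper)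
  have h1 : Groth.Agent.Ega43.ResSysSch.DescRow (K119.RelAmpInd.QP.{u} ⊓ P₂) :=
    K119.RelAmpInd.DescRow.inf (K119.RelAmpInd.descRow_QP H)
      Groth.Agent.Ega43.LocusProperPos.descRow_isProper
  have h2 := K118.IndLocus.isIndConstructible_locus h1 f g (.mk' g) (.mk' (f ≫ g))
  refine Eq.mpr (congrArg ProCons.IsIndConstructible (Set.ext fun s => ?_)) h2
  have : CompactSpace (pullback g (S.fromSpecResidueField s) : Scheme.{u}) :=
    QuasiCompact.compactSpace_of_compactSpace (pullback.snd g (S.fromSpecResidueField s))
  have : QuasiSeparatedSpace (pullback g (S.fromSpecResidueField s) : Scheme.{u}) :=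
    quasiSeparatedSpace_of_quasiSeparated (pullback.snd g (S.fromSpecResidueField s))
  refine ⟨fun h => ⟨(Groth.Agent.S4418.result _ h).1, (Groth.Agent.S4418.result _ h).2⟩, fun h => ?_⟩
  have : IsProper _ := h.2
  exact K823.QProj.isProjective _ h.1

end Groth.Agent.S4843
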