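import Groth.Statements.S4847
import Groth.Agent.S0392
import Groth.Agent.CycB.StalkLoc

set_option autoImplicit false
universe u
open EGA43

namespace Groth.Agent.S4847

open AlgebraicGeometry CategoryTheory Limits in
/-- Case 1° (fibrewise flatness criterion for locally Noetherian schemes): let S, X and Y be locally
Noetherian schemes, f : X ⟶ Y and h : Y ⟶ S arbitrary morphisms, F a coherent O_X-module and x a
point of X with images y in Y and s in S, such that the stalk F_x is nonzero. Then F is flat over S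
at x and F_x / m_s F_x is flat over O_{Y,y} / m_s O_{Y,y} (that is, the fibre module F_s is flat
over the fibre Y_s at x) if and only if h is flat at y and F is flat over Y at x. No finiteness
hypothesis on f or h is required in this case. -/
theorem result {X Y S : Scheme.{u}}
    [IsLocallyNoetherian X] [IsLocallyNoetherian Y] [IsLocallyNoetherian S]
    (f : X ⟶ Y) (h : Y ⟶ S) (F : X.Modules) (hF : Coh.IsCoh F) (x : X)
    (hx : Nontrivial ↑(F.presheaf.stalk x)) :
    letI := FlatMod.moduleStalkOver f F x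
    (FlatMod.IsFlatOverAt (f ≫ h) F x ∧
      Module.Flat (↑(Y.presheaf.stalk (f x)) ⧸ Ideal.map (h.stalkMap (f x)).hom (IsLocalRing.maximalIdeal ↑(S.presheaf.stalk (h (f x)))))
        (↑(F.presheaf.stalk x) ⧸ (Ideal.map (h.stalkMap (f x)).hom (IsLocalRing.maximalIdeal ↑(S.presheaf.stalk (h (f x)))) •
          (⊤ : Submodule ↑(Y.presheaf.stalk (f x)) ↑(F.presheaf.stalk x))))) ↔
    ((h.stalkMap (f x)).hom.Flat ∧ FlatMod.IsFlatOverAt f F x) := by
  have hFP : Module.Finite (X.presheaf.stalk x) (F.presheaf.stalk x) :=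
    CycB.StalkLoc.finite_stalk F hF x
  let : Algebra (S.presheaf.stalk (h (f x))) (Y.presheaf.stalk (f x)) := (h.stalkMap (f x)).hom.toAlgebra
  let : Algebra (Y.presheaf.stalk (f x)) (X.presheaf.stalk x) := (f.stalkMap x).hom.toAlgebra
  let : Algebra (S.presheaf.stalk (h (f x))) (X.presheaf.stalk x) := ((f ≫ h).stalkMap x).hom.toAlgebra
  have : IsScalarTower (S.presheaf.stalk (h (f x))) (Y.presheaf.stalk (f x)) (X.presheaf.stalk x) :=
    IsScalarTower.of_algebraMap_eq' (congrArg CommRingCat.Hom.hom (Scheme.Hom.stalkMap_comp f h x))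
  have : IsLocalHom (algebraMap (S.presheaf.stalk (h (f x))) (Y.presheaf.stalk (f x))) :=
    inferInstanceAs (IsLocalHom (h.stalkMap (f x)).hom)
  have : IsLocalHom (algebraMap (Y.presheaf.stalk (f x)) (X.presheaf.stalk x)) :=
    inferInstanceAs (IsLocalHom (f.stalkMap x).hom)
  let iM : Module (Y.presheaf.stalk (f x)) (F.presheaf.stalk x) := FlatMod.moduleStalkOver f F x
  let iR : Module (S.presheaf.stalk (h (f x))) (F.presheaf.stalk x) :=
    FlatMod.moduleStalkOver (f ≫ h) F x
  have : IsScalarTower (Y.presheaf.stalk (f x)) (X.presheaf.stalk x) (F.presheaf.stalk x) :=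
    ⟨fun a b m => by rw [Algebra.smul_def, mul_smul]; rfl⟩
  have : IsScalarTower (S.presheaf.stalk (h (f x))) (X.presheaf.stalk x) (F.presheaf.stalk x) :=
    ⟨fun a b m => by rw [Algebra.smul_def, mul_smul]; rfl⟩
  have : IsScalarTower (S.presheaf.stalk (h (f x))) (Y.presheaf.stalk (f x)) (F.presheaf.stalk x) :=
    IsScalarTower.of_algebraMap_smul fun r m => by
      rw [← algebraMap_smul (X.presheaf.stalk x) (algebraMap (S.presheaf.stalk (h (f x)))
        (Y.presheaf.stalk (f x)) r) m, ← IsScalarTower.algebraMap_apply, algebraMap_smul]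
  let I := Ideal.map (h.stalkMap (f x)).hom
    (IsLocalRing.maximalIdeal ↑(S.presheaf.stalk (h (f x))))
  let e : TensorProduct (Y.presheaf.stalk (f x)) (Y.presheaf.stalk (f x) ⧸ I) (F.presheaf.stalk x) ≃ₗ[Y.presheaf.stalk (f x) ⧸ I]
      ((F.presheaf.stalk x) ⧸ (I • (⊤ : Submodule (Y.presheaf.stalk (f x)) (F.presheaf.stalk x)))) :=
    LinearEquiv.extendScalarsOfSurjective
      (S := Y.presheaf.stalk (f x) ⧸ I) Ideal.Quotient.mk_surjective
      (TensorProduct.quotTensorEquivQuotSMul (F.presheaf.stalk x) I)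
  constructor
  · rintro ⟨h1, h2⟩
    have h1' : Module.Flat (S.presheaf.stalk (h (f x))) (F.presheaf.stalk x) := h1
    have h2' : Module.Flat (Y.presheaf.stalk (f x) ⧸ I)
      (TensorProduct (Y.presheaf.stalk (f x)) (Y.presheaf.stalk (f x) ⧸ I) (F.presheaf.stalk x)) :=
      Module.Flat.of_linearEquiv e
    exact S0392.result (S' := X.presheaf.stalk x) h2'
  · rintro ⟨h1, h2⟩
    have h1' : Module.Flat (S.presheaf.stalk (h (f x))) (Y.presheaf.stalk (f x)) := h1
    have h2' : Module.Flat (Y.presheaf.stalk (f x)) (F.presheaf.stalk x) := h2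
    refine ⟨?_, ?_⟩
    · exact (Module.Flat.trans (S.presheaf.stalk (h (f x))) (Y.presheaf.stalk (f x)) (F.presheaf.stalk x) :)
    · have h3 : Module.Flat (Y.presheaf.stalk (f x) ⧸ I)
          (TensorProduct (Y.presheaf.stalk (f x)) (Y.presheaf.stalk (f x) ⧸ I)
            (F.presheaf.stalk x)) := inferInstance
      exact Module.Flat.of_linearEquiv e.symm

end Groth.Agent.S4847
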