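import Groth.Statements.S4848
import Groth.Agent.EGA43.K120.FlatStage
import Groth.Agent.Fdesc.DirColimLift

set_option autoImplicit false
universe u
open TensorProduct
open EGA43

namespace Groth.Agent.S4848


/-- Over an algebra over which the model is flat, the module is flat. -/
theorem flat_of_factor {R A' N A₀ M C : Type*} [CommRing R] [CommRing A'] [Algebra R A'] [AddCommGroup N] [Module R N]
    [Module.Flat A' (A' ⊗[R] N)] [CommRing A₀] [Algebra R A₀] [AddCommGroup M] [Module R M] [Module A₀ M]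
    [IsScalarTower R A₀ M] (g : N →ₗ[R] M) (hg : IsBaseChange A₀ g) [CommRing C] [Algebra A₀ C]
    (w : A' →+* C) (hw : (w.comp (algebraMap R A')) = (algebraMap A₀ C).comp (algebraMap R A₀)) :
    Module.Flat C (C ⊗[A₀] M) := by
  let : Algebra A' C := w.toAlgebra
  let : Algebra R C := ((algebraMap A₀ C).comp (algebraMap R A₀)).toAlgebra
  have : IsScalarTower R A₀ C := IsScalarTower.of_algebraMap_eq fun _ => rfl
  have : IsScalarTower R A' C := IsScalarTower.of_algebraMap_eq' hw.symm
  obtain ⟨e⟩ := K120.FlatStage.flat_of_isBaseChange (C := C) g hg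
  have e' : (C ⊗[A'] (A' ⊗[R] N)) ≃ₗ[C] (C ⊗[R] N) := AlgebraTensorModule.cancelBaseChange R A' C C N
  exact Module.Flat.of_linearEquiv (e.trans e'.symm)


/-- Let A₀ be a commutative ring, (A_i) a directed system of A₀-algebras with colimit A, B₀ a finitely
presented A₀-algebra and M₀ a finitely presented B₀-module. Then the A-module A ⊗_{A₀} M₀ is flat if
and only if, for some index i, the A_i-module A_i ⊗_{A₀} M₀ is flat. -/
theorem result {A₀ : Type u} [CommRing A₀]
    {ι : Type u} [Preorder ι] (G : ι → Type u) [∀ i, CommRing (G i)] [∀ i, Algebra A₀ (G i)]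
    (g : ∀ i j, i ≤ j → G i →ₐ[A₀] G j)
    (A : Type u) [CommRing A] [Algebra A₀ A] [∀ i, Algebra (G i) A] [∀ i, IsScalarTower A₀ (G i) A]
    (hcolim : FlatCA.IsDirectedColimitRing G (fun i j h => (g i j h).toRingHom) A)
    {B₀ : Type u} [CommRing B₀] [Algebra A₀ B₀] [Algebra.FinitePresentation A₀ B₀]
    (M₀ : Type u) [AddCommGroup M₀] [Module B₀ M₀] [Module A₀ M₀] [IsScalarTower A₀ B₀ M₀]
    [Module.FinitePresentation B₀ M₀] :
    Module.Flat A (A ⊗[A₀] M₀) ↔ ∃ i : ι, Module.Flat (G i) (G i ⊗[A₀] M₀) := by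
  constructor
  · intro h
    obtain ⟨R₀, N₀, _, _, f, s, h1, h2, h3⟩ := K120.FlatStage.exists_model_flat (A₀ := A₀) (A := A) B₀ M₀
    have : IsNoetherianRing R₀ := Algebra.FiniteType.isNoetherianRing ℤ R₀
    let A' := Algebra.adjoin R₀ (s : Set A)
    have : Algebra.FiniteType R₀ A' := A'.fg_iff_finiteType.mp ⟨s, rfl⟩
    have : Algebra.FiniteType ℤ A' := Algebra.FiniteType.trans (R := ℤ) (S := R₀) (A := A') inferInstance inferInstance
    obtain ⟨j, w, hw⟩ := Groth.Agent.Fdesc.DirColimLift.exists_lift G _ hcolim (R := A') A'.val.toRingHom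
    -- the two maps `R₀ → G j` agree at a later stage
    obtain ⟨n, φ, hφ⟩ := (Algebra.FiniteType.iff_quotient_mvPolynomial'' (R := ℤ) (S := R₀)).mp h1
    classical
    obtain ⟨k, hjk, hk⟩ := Groth.Agent.Fdesc.DirColimLift.exists_stage_zero G _ hcolim j
      (Finset.univ.image fun l : Fin n => w (algebraMap R₀ A' (φ (MvPolynomial.X l))) -
        algebraMap A₀ (G j) (φ (MvPolynomial.X l) : R₀)) (by
        intro x hx
        obtain ⟨l, -, rfl⟩ := Finset.mem_image.mp hx
        have h4 := RingHom.congr_fun hw (algebraMap R₀ A' (φ (MvPolynomial.X l)))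
        rw [RingHom.comp_apply] at h4
        rw [map_sub, h4, ← IsScalarTower.algebraMap_apply A₀ (G j) A]
        exact sub_self _)
    refine ⟨k, flat_of_factor (A' := A') f h2 ((g j k hjk).toRingHom.comp w) ?_⟩
    have h5 : (((g j k hjk).toRingHom.comp w).comp (algebraMap R₀ A')).comp φ.toRingHom =
        ((algebraMap A₀ (G k)).comp (algebraMap R₀ A₀)).comp φ.toRingHom := by
      refine MvPolynomial.ringHom_ext (fun r => ?_) (fun l => ?_)
      · simp
      · have h6 := hk _ (Finset.mem_image_of_mem _ (Finset.mem_univ l))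
        rw [map_sub, sub_eq_zero] at h6
        refine h6.trans ?_
        exact (g j k hjk).commutes _
    exact (RingHom.cancel_right hφ).mp h5
  · rintro ⟨i, hi⟩
    have e : (A ⊗[G i] (G i ⊗[A₀] M₀)) ≃ₗ[A] (A ⊗[A₀] M₀) := AlgebraTensorModule.cancelBaseChange A₀ (G i) A A M₀
    exact Module.Flat.of_linearEquiv e.symm

end Groth.Agent.S4848
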