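import Groth.Statements.S4850
import Groth.Agent.EGA43.K120.StalkCoker
import Groth.Agent.Ega1.StalkFP
import Groth.Agent.S2107

set_option autoImplicit false
universe u
open EGA43

namespace Groth.Agent.S4850

open AlgebraicGeometry CategoryTheory Limits in
/-- Equivalence of a: and b)): let f : X ⟶ Y be locally of finite presentation, F and F' quasi-coherent
O_X-modules of finite presentation, u : F' ⟶ F a homomorphism and x a point with y = f x, such that
F is f-flat at x. Then the stalk map u_x is injective and Coker u is f-flat at x, if and only if u_x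
induces an injective map F'_x / m_y F'_x → F_x / m_y F_x. The second condition is written out: an
element of F'_x whose image under u_x lies in m_y F_x already lies in m_y F'_x. (The vanishing of
the stalk (Ker u)_x is expressed as injectivity of u_x.) -/
theorem result {X Y : Scheme.{u}} (f : X ⟶ Y)
    [LocallyOfFinitePresentation f] (F F' : X.Modules) [Coh.IsQCoh F] [Coh.IsQCoh F']
    (hF : CohB1.IsFP F) (hF' : CohB1.IsFP F') (u : F' ⟶ F) (x : X) (hflat : FlatMod.IsFlatOverAt f F x) :
    letI J : Ideal ↑(X.presheaf.stalk x) :=
      Ideal.map (f.stalkMap x).hom (IsLocalRing.maximalIdeal ↑(Y.presheaf.stalk (f x)))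
    letI ux := (TopCat.Presheaf.stalkFunctor Ab x).map (Scheme.Modules.Hom.mapPresheaf u)
    (Function.Injective ux ∧ FlatMod.IsFlatOverAt f (cokernel u) x) ↔
      ∀ m : ↑(F'.presheaf.stalk x),
        ux m ∈ (J • (⊤ : Submodule ↑(X.presheaf.stalk x) ↑(F.presheaf.stalk x))) →
          m ∈ (J • (⊤ : Submodule ↑(X.presheaf.stalk x) ↑(F'.presheaf.stalk x))) := by
  let _ := K120.StalkCoker.stalkAlg f x
  let _ := FlatMod.moduleStalkOver f F' x
  have := K120.StalkCoker.isScalarTower f x F'
  let _ := FlatMod.moduleStalkOver f F x
  have := K120.StalkCoker.isScalarTower f x F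
  let _ := FlatMod.moduleStalkOver f (cokernel u) x
  have := K120.StalkCoker.isScalarTower f x (cokernel u)
  have hM : Module.Flat (Y.presheaf.stalk (f x)) (F.presheaf.stalk x) := hflat
  have : IsLocalHom (algebraMap (Y.presheaf.stalk (f x)) (X.presheaf.stalk x)) := f.toLRSHom.prop x
  have : Module.FinitePresentation (X.presheaf.stalk x) (F'.presheaf.stalk x) :=
    Ega1.StalkFP.finitePresentation_stalk F' inferInstance hF' x
  have : Module.FinitePresentation (X.presheaf.stalk x) (F.presheaf.stalk x) :=
    Ega1.StalkFP.finitePresentation_stalk F inferInstance hF x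
  have hex := CycB.StalkExact.stalkLin_exact (ShortComplex.mk u (cokernel.π u) (cokernel.condition u))
    (ShortComplex.exact_cokernel u) x
  have hsurj := CycB.StalkExact.stalkLin_surjective (cokernel.π u) x
  constructor
  · rintro ⟨hinj, hc⟩ m hm
    have hc' : Module.Flat (Y.presheaf.stalk (f x)) ((cokernel u).presheaf.stalk x) := hc
    exact K120.StalkCoker.mem_of_flat_coker (R := Y.presheaf.stalk (f x)) (CycB.StalkExact.stalkLin u x) hinj
      (CycB.StalkExact.stalkLin (cokernel.π u) x) hsurj hex (IsLocalRing.maximalIdeal _) m hm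
  · intro h
    have key := S2107.result (Ega1.StalkFP.essFP_stalkMap f x) (CycB.StalkExact.stalkLin u x) h
    exact ⟨key.1, (K120.StalkCoker.isFlatOverAt_cokernel_iff f u x).mpr key.2⟩

end Groth.Agent.S4850
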