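import Groth.Statements.S4853
import Groth.Agent.Ega43.NilpotentFree

set_option autoImplicit false
universe u
open TensorProduct
open EGA43

namespace Groth.Agent.S4853

/-- The key consequence of descent of freeness: if `A → A'` is injective modulo `K = ker` and `A' ⊗ M` is flat then
`M / K M` is free over `A / K`. -/
theorem free_of_family {A : Type u} [CommRing A] (M : Type u) [AddCommGroup M] [Module A M]
    (J : Ideal A) (hJ : IsNilpotent J) (hfree : Module.Free (A ⧸ J) ((A ⧸ J) ⊗[A] M)) (K : Ideal A)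
    {ι : Type u} (B : ι → Type u) [∀ i, CommRing (B i)] [∀ i, Algebra A (B i)]
    (hK : ∀ a : A, (∀ i, algebraMap A (B i) a = 0) ↔ a ∈ K)
    (hB : ∀ i, Module.Flat (B i) (B i ⊗[A] M)) : Module.Free (A ⧸ K) ((A ⧸ K) ⊗[A] M) := by
  have hle : ∀ i, K ≤ RingHom.ker (algebraMap A (B i)) := fun i a ha => (hK a).mpr ha i
  let _ : ∀ i, Algebra (A ⧸ K) (B i) := fun i =>
    (Ideal.Quotient.lift K (algebraMap A (B i)) (fun a ha => hle i ha)).toAlgebra
  have _ : ∀ i, IsScalarTower A (A ⧸ K) (B i) := fun i => IsScalarTower.of_algebraMap_eq fun a => rfl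
  let J' : Ideal (A ⧸ K) := J.map (algebraMap A (A ⧸ K))
  have hJ' : IsNilpotent J' := by
    obtain ⟨n, hn⟩ := hJ
    exact ⟨n, by rw [← Ideal.map_pow, hn, Submodule.zero_eq_bot, Ideal.map_bot, Submodule.zero_eq_bot]⟩
  let _ : Algebra (A ⧸ J) ((A ⧸ K) ⧸ J') :=
    (Ideal.quotientMap J' (algebraMap A (A ⧸ K)) Ideal.le_comap_map).toAlgebra
  have : IsScalarTower A (A ⧸ J) ((A ⧸ K) ⧸ J') := IsScalarTower.of_algebraMap_eq fun a => rfl
  let e : ((A ⧸ K) ⧸ J') ⊗[A ⧸ J] ((A ⧸ J) ⊗[A] M) ≃ₗ[(A ⧸ K) ⧸ J'] ((A ⧸ K) ⧸ J') ⊗[A ⧸ K] ((A ⧸ K) ⊗[A] M) :=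
    (AlgebraTensorModule.cancelBaseChange A (A ⧸ J) ((A ⧸ K) ⧸ J') ((A ⧸ K) ⧸ J') M) ≪≫ₗ
      (AlgebraTensorModule.cancelBaseChange A (A ⧸ K) ((A ⧸ K) ⧸ J') ((A ⧸ K) ⧸ J') M).symm
  have h1 : Module.Free ((A ⧸ K) ⧸ J') (((A ⧸ K) ⧸ J') ⊗[A ⧸ K] ((A ⧸ K) ⊗[A] M)) := Module.Free.of_equiv e
  refine Ega43.NilpotentFree.free_of_nilpotent_of_injective J' hJ' B ?_ (fun i => ?_) h1
  · intro a ha
    obtain ⟨a, rfl⟩ := Ideal.Quotient.mk_surjective a
    rw [Ideal.Quotient.eq_zero_iff_mem, ← hK]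
    intro i
    exact ha i
  · have := hB i
    exact Module.Flat.of_linearEquiv (AlgebraTensorModule.cancelBaseChange A (A ⧸ K) (B i) (B i) M)


/-- Let A be a commutative ring and M an A-module such that (A/J) ⊗_A M is free over A/J for some
nilpotent ideal J of A. Then among the ideals R of A such that (A/R) ⊗_A M is free over A/R there is
a least one, R₀, which is also the least ideal R such that (A/R) ⊗_A M is flat over A/R; and for
every commutative A-algebra A', the module A' ⊗_A M is free over A' if and only if it is flat over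
A', if and only if R₀ generates the zero ideal of A'. -/
theorem result {A : Type u} [CommRing A]
    (M : Type u) [AddCommGroup M] [Module A M]
    (J : Ideal A) (hJ : IsNilpotent J) (hfree : Module.Free (A ⧸ J) ((A ⧸ J) ⊗[A] M)) :
    ∃ R₀ : Ideal A,
      IsLeast {R : Ideal A | Module.Free (A ⧸ R) ((A ⧸ R) ⊗[A] M)} R₀ ∧
      IsLeast {R : Ideal A | Module.Flat (A ⧸ R) ((A ⧸ R) ⊗[A] M)} R₀ ∧
      ∀ (A' : Type u) [CommRing A'] [Algebra A A'],
        (Module.Free A' (A' ⊗[A] M) ↔ Ideal.map (algebraMap A A') R₀ = ⊥) ∧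
        (Module.Flat A' (A' ⊗[A] M) ↔ Ideal.map (algebraMap A A') R₀ = ⊥) := by
  let S : Type u := {R : Ideal A // Module.Flat (A ⧸ R) ((A ⧸ R) ⊗[A] M)}
  let R₀ : Ideal A := ⨅ R : S, R.1
  have h0 : Module.Free (A ⧸ R₀) ((A ⧸ R₀) ⊗[A] M) := by
    refine free_of_family M J hJ hfree R₀ (fun R : S => A ⧸ R.1) ?_ (fun R => R.2)
    intro a
    rw [Submodule.mem_iInf]
    exact forall_congr' fun R => Ideal.Quotient.eq_zero_iff_mem
  have h1 : ∀ R : Ideal A, Module.Flat (A ⧸ R) ((A ⧸ R) ⊗[A] M) → R₀ ≤ R := fun R hR =>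
    iInf_le (fun R : S => R.1) ⟨R, hR⟩
  refine ⟨R₀, ⟨h0, fun R hR => h1 R ?_⟩, ⟨?_, fun R hR => h1 R hR⟩, fun A' _ _ => ?_⟩
  · have : Module.Free (A ⧸ R) ((A ⧸ R) ⊗[A] M) := hR
    infer_instance
  · exact (inferInstance : Module.Flat (A ⧸ R₀) ((A ⧸ R₀) ⊗[A] M))
  · have h2 : Module.Flat A' (A' ⊗[A] M) → Ideal.map (algebraMap A A') R₀ = ⊥ := by
      intro h
      rw [Ideal.map_eq_bot_iff_le_ker]
      apply h1
      have : Module.Free (A ⧸ RingHom.ker (algebraMap A A')) ((A ⧸ RingHom.ker (algebraMap A A')) ⊗[A] M) :=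
        free_of_family M J hJ hfree _ (fun _ : PUnit.{u + 1} => A') (fun a => ⟨fun h => h PUnit.unit, fun h _ => h⟩)
          (fun _ => h)
      infer_instance
    have h3 : Ideal.map (algebraMap A A') R₀ = ⊥ → Module.Free A' (A' ⊗[A] M) := by
      intro h
      rw [Ideal.map_eq_bot_iff_le_ker] at h
      let _ : Algebra (A ⧸ R₀) A' := (Ideal.Quotient.lift R₀ (algebraMap A A') (fun a ha => h ha)).toAlgebra
      have _ : IsScalarTower A (A ⧸ R₀) A' := IsScalarTower.of_algebraMap_eq fun a => rfl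
      exact Module.Free.of_equiv (AlgebraTensorModule.cancelBaseChange A (A ⧸ R₀) A' A' M)
    refine ⟨⟨fun h => h2 ?_, h3⟩, ⟨h2, fun h => ?_⟩⟩
    · infer_instance
    · have := h3 h
      infer_instance

end Groth.Agent.S4853
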