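import Groth.Statements.S4855
import Groth.Agent.EGA43.K120.ProperMain
import Groth.Agent.Fga.UnitRestrict
import Groth.Agent.PerfB.StructFlat
import Groth.Agent.Fdesc.StructMod

set_option autoImplicit false
universe u
open CategoryTheory AlgebraicGeometry
open EGA43

namespace Groth.Agent.S4855

open CategoryTheory.Limits in
theorem flat_of_isFlatOver {X S : Scheme.{u}} (f : X ⟶ S) (h : FlatMod.IsFlatOver f (Coh.structureModule X)) :
    Flat f := by
  rw [Flat.iff_flat_stalkMap]
  intro x
  let a1 : Module (S.presheaf.stalk (f x)) (X.presheaf.stalk x) :=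
    Module.compHom (X.presheaf.stalk x) (f.stalkMap x).hom
  let a2 := FlatMod.moduleStalkOver f (Coh.structureModule X) x
  have h1 : Module.Flat (S.presheaf.stalk (f x)) ((Coh.structureModule X).presheaf.stalk x) := h x
  let e : X.presheaf.stalk x ≃ₗ[S.presheaf.stalk (f x)] (Coh.structureModule X).presheaf.stalk x :=
    { Groth.Agent.Fdesc.StructMod.stalkEquiv x with
      map_smul' := fun r m => (Groth.Agent.Fdesc.StructMod.stalkEquiv x).map_smul ((f.stalkMap x).hom r) m }
  exact Module.Flat.of_linearEquiv e


open CategoryTheory.Limits in
/-- Let f : X ⟶ Y be a proper morphism of finite presentation such that the map O_Y → f_* O_X is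
injective (on sections over every open subset of Y). Then f is flat if and only if the first
projection X ×_Y X ⟶ X is flat. -/
theorem result {X Y : Scheme.{u}} (f : X ⟶ Y)
    [IsProper f] [LocallyOfFinitePresentation f] (hinj : ∀ V : Y.Opens, Function.Injective (f.app V)) :
    Flat f ↔ Flat (pullback.fst f f) := by
  constructor
  · intro h
    infer_instance
  · intro h
    refine flat_of_isFlatOver f fun x => ?_
    have h1 : Flat (pullback.snd f f) := by
      rw [← pullbackSymmetry_hom_comp_fst f f]
      infer_instance
    have h2 : FlatMod.IsFlatOver (pullback.snd f f)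
        ((Scheme.Modules.pullback (pullback.fst f f)).obj (Coh.structureModule X)) := fun z =>
      Groth.Agent.Models2.FlatIso.isFlatOverAt_of_iso _ (Groth.Agent.Fga.UnitRestrict.pullbackUnitIso _).symm z
        (Groth.Agent.PerfB.StructFlat.isFlatOver_structure (pullback.snd f f) z)
    refine K120.ProperStage.main f (Coh.structureModule X) Groth.Agent.PerfB.StructFlat.isFP_structure x f
      (fun V s hV hs => ⟨V, hV, le_rfl, ?_⟩) fun y' z _ _ => h2 z
    have h3 : s = 0 := hinj V (hs.trans (map_zero _).symm)
    rw [h3, map_zero]

end Groth.Agent.S4855
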