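import Groth.Statements.S4859

set_option autoImplicit false
universe u
open EGA43

namespace Groth.Agent.S4859

/-- Conditions a), a′), b) (quasi-homeomorphisms): for a continuous map f : X₀ → X the following are
equivalent: taking preimages is a bijection from the open subsets of X onto the open subsets of X₀;
taking preimages is a bijection from the closed subsets of X onto the closed subsets of X₀; the
topology of X₀ is induced from X through f and the image f(X₀) is very dense in X, in the sense that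
two open subsets of X with the same trace on f(X₀) coincide. -/
theorem result {X₀ X : Type u} [TopologicalSpace X₀] [TopologicalSpace X]
    (f : X₀ → X) (hf : Continuous f) :
    [Function.Bijective (fun U : TopologicalSpace.Opens X =>
        (⟨f ⁻¹' (U : Set X), U.isOpen.preimage hf⟩ : TopologicalSpace.Opens X₀)),
      Function.Bijective (fun F : TopologicalSpace.Closeds X =>
        (⟨f ⁻¹' (F : Set X), F.isClosed.preimage hf⟩ : TopologicalSpace.Closeds X₀)),
      Topology.IsInducing f ∧
        ∀ U V : Set X, IsOpen U → IsOpen V → U ∩ Set.range f = V ∩ Set.range f → U = V].TFAE := by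
  have hopen : Function.Bijective (fun U : TopologicalSpace.Opens X =>
        (⟨f ⁻¹' (U : Set X), U.isOpen.preimage hf⟩ : TopologicalSpace.Opens X₀)) ↔
      (∀ U V : Set X, IsOpen U → IsOpen V → f ⁻¹' U = f ⁻¹' V → U = V) ∧
        (∀ W : Set X₀, IsOpen W → ∃ U : Set X, IsOpen U ∧ f ⁻¹' U = W) := by
    constructor
    · rintro ⟨hi, hs⟩
      refine ⟨fun U V hU hV e => ?_, fun W hW => ?_⟩
      · have := @hi ⟨U, hU⟩ ⟨V, hV⟩ (TopologicalSpace.Opens.ext e)
        exact congr(($this : Set X))
      · obtain ⟨U, hU⟩ := hs ⟨W, hW⟩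
        exact ⟨U, U.isOpen, congr(($hU : Set X₀))⟩
    · rintro ⟨hi, hs⟩
      refine ⟨fun U V e => TopologicalSpace.Opens.ext (hi _ _ U.isOpen V.isOpen congr(($e : Set X₀))), fun W => ?_⟩
      obtain ⟨U, hU, e⟩ := hs W W.isOpen
      exact ⟨⟨U, hU⟩, TopologicalSpace.Opens.ext e⟩
  have hclosed : Function.Bijective (fun F : TopologicalSpace.Closeds X =>
        (⟨f ⁻¹' (F : Set X), F.isClosed.preimage hf⟩ : TopologicalSpace.Closeds X₀)) ↔
      (∀ U V : Set X, IsClosed U → IsClosed V → f ⁻¹' U = f ⁻¹' V → U = V) ∧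
        (∀ W : Set X₀, IsClosed W → ∃ U : Set X, IsClosed U ∧ f ⁻¹' U = W) := by
    constructor
    · rintro ⟨hi, hs⟩
      refine ⟨fun U V hU hV e => ?_, fun W hW => ?_⟩
      · have := @hi ⟨U, hU⟩ ⟨V, hV⟩ (TopologicalSpace.Closeds.ext e)
        exact congr(($this : Set X))
      · obtain ⟨U, hU⟩ := hs ⟨W, hW⟩
        exact ⟨U, U.isClosed, congr(($hU : Set X₀))⟩
    · rintro ⟨hi, hs⟩
      refine ⟨fun U V e => TopologicalSpace.Closeds.ext (hi _ _ U.isClosed V.isClosed congr(($e : Set X₀))), fun W => ?_⟩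
      obtain ⟨U, hU, e⟩ := hs W W.isClosed
      exact ⟨⟨U, hU⟩, TopologicalSpace.Closeds.ext e⟩
  rw [hopen, hclosed]
  tfae_have 1 ↔ 2 := by
    constructor
    · rintro ⟨hi, hs⟩
      refine ⟨fun U V hU hV e => ?_, fun W hW => ?_⟩
      · exact compl_injective (hi _ _ hU.isOpen_compl hV.isOpen_compl (by simp [Set.preimage_compl, e]))
      · obtain ⟨U, hU, e⟩ := hs _ hW.isOpen_compl
        exact ⟨Uᶜ, hU.isClosed_compl, by rw [Set.preimage_compl, e, compl_compl]⟩
    · rintro ⟨hi, hs⟩
      refine ⟨fun U V hU hV e => ?_, fun W hW => ?_⟩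
      · exact compl_injective (hi _ _ hU.isClosed_compl hV.isClosed_compl (by simp [Set.preimage_compl, e]))
      · obtain ⟨U, hU, e⟩ := hs _ hW.isClosed_compl
        exact ⟨Uᶜ, hU.isOpen_compl, by rw [Set.preimage_compl, e, compl_compl]⟩
  have htr : ∀ U V : Set X, U ∩ Set.range f = V ∩ Set.range f ↔ f ⁻¹' U = f ⁻¹' V := by
    intro U V
    constructor
    · intro e
      rw [← Set.preimage_inter_range, e, Set.preimage_inter_range]
    · intro e
      rw [← Set.image_preimage_eq_inter_range, e, Set.image_preimage_eq_inter_range]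
  tfae_have 1 ↔ 3 := by
    constructor
    · rintro ⟨hi, hs⟩
      refine ⟨⟨?_⟩, fun U V hU hV e => hi U V hU hV ((htr U V).mp e)⟩
      refine TopologicalSpace.ext_iff.mpr fun W => ?_
      rw [isOpen_induced_iff]
      constructor
      · exact fun h => hs W h
      · rintro ⟨U, hU, rfl⟩
        exact hU.preimage hf
    · rintro ⟨hi, hs⟩
      refine ⟨fun U V hU hV e => hs U V hU hV ((htr U V).mpr e), fun W hW => ?_⟩
      rwa [hi.isOpen_iff] at hW
  tfae_finish

end Groth.Agent.S4859
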