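import Groth.Statements.S4860
import Groth.Agent.EGA43.K120.Goldman

set_option autoImplicit false
universe u
open EGA43

namespace Groth.Agent.S4860

/-- For an integral domain B the following are equivalent: a) the localization B_f is a field for some
nonzero f; b) the fraction field of B is a finitely generated B-algebra; c) there is a field
containing B (an injective algebra map from B) which is a finitely generated B-algebra; d) the
generic point of Spec B is open. -/
theorem result (B : Type u) [CommRing B] [IsDomain B] :
    [∃ f : B, f ≠ 0 ∧ IsField (Localization.Away f),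
      Algebra.FiniteType B (FractionRing B),
      ∃ (K : Type u) (_ : Field K) (_ : Algebra B K), Function.Injective (algebraMap B K) ∧ Algebra.FiniteType B K,
      IsOpen ({⟨⊥, Ideal.bot_prime⟩} : Set (PrimeSpectrum B))].TFAE := by
  have hbot : ∀ p : PrimeSpectrum B, p = ⟨⊥, Ideal.isPrime_bot⟩ ↔ p.asIdeal = ⊥ := fun p =>
    ⟨fun h => by rw [h], fun h => PrimeSpectrum.ext h⟩
  tfae_have 1 → 2 := by
    rintro ⟨f, hf, hK⟩
    have hdom : IsDomain (Localization.Away f) :=
      IsLocalization.isDomain_localization (powers_le_nonZeroDivisors_of_noZeroDivisors hf)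
    let _ := hK.toField
    have hinj : Function.Injective (algebraMap B (Localization.Away f)) :=
      IsLocalization.injective _ (powers_le_nonZeroDivisors_of_noZeroDivisors hf)
    have hu : ∀ y : nonZeroDivisors B, IsUnit (algebraMap B (Localization.Away f) y) := fun y => by
      rw [isUnit_iff_ne_zero]
      exact fun h => nonZeroDivisors.ne_zero y.2 (hinj (by rw [h, map_zero]))
    have hfr : IsFractionRing B (Localization.Away f) := by
      refine ⟨⟨hu, fun z => ?_, fun {a b} h => ⟨1, by rw [hinj h]⟩⟩⟩
      obtain ⟨⟨b, m⟩, h⟩ := IsLocalization.surj (Submonoid.powers f) z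
      exact ⟨⟨b, ⟨m, powers_le_nonZeroDivisors_of_noZeroDivisors hf m.2⟩⟩, h⟩
    exact Algebra.FiniteType.equiv (inferInstance : Algebra.FiniteType B (Localization.Away f))
      (IsLocalization.algEquiv (nonZeroDivisors B) (Localization.Away f) (FractionRing B))
  tfae_have 2 → 3 := fun h =>
    ⟨FractionRing B, inferInstance, inferInstance, IsFractionRing.injective B (FractionRing B), h⟩
  tfae_have 3 → 1 := by
    rintro ⟨K, _, _, hinj, _⟩
    exact K120.Goldman.exists_away_isField_of_finiteType hinj
  tfae_have 1 ↔ 4 := by
    constructor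
    · rintro ⟨f, hf, hK⟩
      rw [K120.Goldman.isField_away_iff hf] at hK
      have : ({⟨⊥, Ideal.isPrime_bot⟩} : Set (PrimeSpectrum B)) = PrimeSpectrum.basicOpen f := by
        ext p
        rw [Set.mem_singleton_iff, hbot]
        change _ ↔ f ∉ p.asIdeal
        constructor
        · intro h h'
          rw [h] at h'
          exact hf (by simpa using h')
        · intro h
          by_contra h'
          exact h (hK _ p.isPrime h')
      rw [this]
      exact (PrimeSpectrum.basicOpen f).isOpen
    · intro h
      obtain ⟨_, ⟨f, rfl⟩, h1, h2⟩ :=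
        (PrimeSpectrum.isTopologicalBasis_basic_opens (R := B)).exists_subset_of_mem_open
        (Set.mem_singleton _) h
      have hf : f ∉ (⊥ : Ideal B) := h1
      have hf0 : f ≠ 0 := fun e => hf (by rw [e]; exact Ideal.zero_mem _)
      refine ⟨f, hf0, (K120.Goldman.isField_away_iff hf0).mpr fun p hp hp0 => ?_⟩
      by_contra hfp
      have h3 : (⟨p, hp⟩ : PrimeSpectrum B) ∈ (PrimeSpectrum.basicOpen f : Set (PrimeSpectrum B)) := hfp
      exact hp0 ((hbot _).mp (h2 h3))
  tfae_finish

end Groth.Agent.S4860
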