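import Groth.Statements.S4861
import Groth.Agent.EGA43.K120.Goldman
import Groth.Agent.Etalg.GoldmanBasic
import Mathlib.RingTheory.KrullDimension.Field
import Mathlib.RingTheory.KrullDimension.PID

set_option autoImplicit false
universe u
open EGA43

namespace Groth.Agent.S4861

/-- For a Noetherian integral domain B the following are equivalent (and hence equivalent to: the
fraction field of B is a finitely generated B-algebra; the generic point of Spec B is open): a) the
localization B_f is a field for some nonzero f; e) Spec B is finite; f) B is semi-local (finitely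
many maximal ideals) of Krull dimension at most 1. -/
theorem result (B : Type u) [CommRing B] [IsDomain B]
    [IsNoetherianRing B] :
    [∃ f : B, f ≠ 0 ∧ IsField (Localization.Away f),
      Finite (PrimeSpectrum B),
      Finite (MaximalSpectrum B) ∧ ringKrullDim B ≤ 1].TFAE := by
  tfae_have 1 → 2 := by
    rintro ⟨f, hf, hK⟩
    rw [K120.Goldman.isField_away_iff hf] at hK
    have h := Etalg.GoldmanBasic.finite_primes_of_forall f hf hK
    have : Finite {P : Ideal B | P.IsPrime} := h
    exact Finite.of_injective (fun p : PrimeSpectrum B => (⟨p.asIdeal, p.isPrime⟩ : {P : Ideal B | P.IsPrime}))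
      fun p q h => PrimeSpectrum.ext (congrArg Subtype.val h)
  tfae_have 2 → 1 := by
    intro h
    classical
    have := Fintype.ofFinite (PrimeSpectrum B)
    have key : ∀ p : PrimeSpectrum B, ∃ x : B, x ≠ 0 ∧ (p.asIdeal ≠ ⊥ → x ∈ p.asIdeal) := by
      intro p
      by_cases hp : p.asIdeal = ⊥
      · exact ⟨1, one_ne_zero, fun h => absurd hp h⟩
      · obtain ⟨x, hx, hx0⟩ := Submodule.exists_mem_ne_zero_of_ne_bot hp
        exact ⟨x, hx0, fun _ => hx⟩
    choose x hx0 hx using key
    have hf : (∏ p, x p) ≠ 0 := Finset.prod_ne_zero_iff.mpr fun p _ => hx0 p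
    refine ⟨∏ p, x p, hf, (K120.Goldman.isField_away_iff hf).mpr fun p hp hp0 => ?_⟩
    exact Ideal.mem_of_dvd _ (Finset.dvd_prod_of_mem x (Finset.mem_univ ⟨p, hp⟩)) (hx ⟨p, hp⟩ hp0)
  tfae_have 1 → 3 := by
    rintro ⟨f, hf, hK⟩
    rw [K120.Goldman.isField_away_iff hf] at hK
    have h := Etalg.GoldmanBasic.finite_primes_of_forall f hf hK
    refine ⟨?_, ?_⟩
    · have : Finite {P : Ideal B | P.IsPrime} := h
      exact Finite.of_injective
        (fun p : MaximalSpectrum B => (⟨p.asIdeal, p.isMaximal.isPrime⟩ : {P : Ideal B | P.IsPrime}))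
        fun p q h => MaximalSpectrum.ext (congrArg Subtype.val h)
    · rw [← Nat.cast_one, ← Ring.krullDimLE_iff]
      refine Ring.krullDimLE_one_iff.2 fun I hI ↦ ?_
      by_cases hI0 : I = ⊥
      · left
        rw [hI0, IsDomain.minimalPrimes_eq_singleton_bot]
        rfl
      · right
        exact Etalg.GoldmanBasic.isMaximal_of_forall f hf hK I hI hI0
  tfae_have 3 → 2 := by
    rintro ⟨h1, h2⟩
    rw [← Nat.cast_one, ← Ring.krullDimLE_iff, Ring.krullDimLE_one_iff] at h2
    have : Finite (Option (MaximalSpectrum B)) := inferInstance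
    classical
    refine Finite.of_injective (fun p : PrimeSpectrum B =>
      if hp : p.asIdeal.IsMaximal then (some ⟨p.asIdeal, hp⟩ : Option (MaximalSpectrum B)) else none) ?_
    intro p q hpq
    by_cases hp : p.asIdeal.IsMaximal <;> by_cases hq : q.asIdeal.IsMaximal
    · simp only [hp, hq, dif_pos] at hpq
      exact PrimeSpectrum.ext (congrArg MaximalSpectrum.asIdeal (Option.some_injective _ hpq))
    · simp [hp, hq] at hpq
    · simp [hp, hq] at hpq
    · have e1 := (h2 p.asIdeal p.isPrime).resolve_right hp
      have e2 := (h2 q.asIdeal q.isPrime).resolve_right hq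
      rw [IsDomain.minimalPrimes_eq_singleton_bot] at e1 e2
      exact PrimeSpectrum.ext (e1.trans e2.symm)
  tfae_finish

end Groth.Agent.S4861
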