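import Groth.Statements.S4862
import Groth.Agent.EGA43.K120.Goldman

set_option autoImplicit false
universe u
open EGA43

namespace Groth.Agent.S4862

/-- For a commutative ring A the following are equivalent: a) A is a Jacobson ring; b) for every prime
ideal p of A which is not maximal and every nonzero f of B = A/p, the localization B_f is not a
field; b′) every finitely generated A-algebra which is a field is a finite A-module. -/
theorem result (A : Type u) [CommRing A] :
    [IsJacobsonRing A,
      ∀ (p : Ideal A) [p.IsPrime], ¬ p.IsMaximal → ∀ f : A ⧸ p, f ≠ 0 → ¬ IsField (Localization.Away f),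
      ∀ (K : Type u) [Field K] [Algebra A K], Algebra.FiniteType A K → Module.Finite A K].TFAE := by
  tfae_have 1 → 3 := by
    intro h K _ _ _
    exact finite_of_finite_type_of_isJacobsonRing A K
  tfae_have 3 → 2 := by
    intro h p _ hp f hf hK
    apply hp
    have hdom : IsDomain (Localization.Away f) :=
      IsLocalization.isDomain_localization (powers_le_nonZeroDivisors_of_noZeroDivisors hf)
    let _ : Field (Localization.Away f) := hK.toField
    have hinj : Function.Injective (algebraMap (A ⧸ p) (Localization.Away f)) :=
      IsLocalization.injective _ (powers_le_nonZeroDivisors_of_noZeroDivisors hf)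
    have h1 : Algebra.FiniteType A (Localization.Away f) := inferInstance
    have h2 : Module.Finite A (Localization.Away f) := h (Localization.Away f) h1
    have h3 : Module.Finite (A ⧸ p) (Localization.Away f) := Module.Finite.of_restrictScalars_finite A _ _
    have h4 : IsField (A ⧸ p) := isField_of_isIntegral_of_isField hinj hK
    exact Ideal.Quotient.maximal_of_isField p h4
  tfae_have 2 → 1 := by
    intro h
    rw [isJacobsonRing_iff_prime_eq]
    intro p hp
    refine le_antisymm (fun x hx => ?_) Ideal.le_jacobson
    by_contra hxp
    obtain ⟨q, hq, hpq, hxq, hK⟩ := K120.Goldman.exists_prime_away_isField p hxp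
    have h0 : Ideal.Quotient.mk q x ≠ 0 := fun e => hxq (Ideal.Quotient.eq_zero_iff_mem.1 e)
    have hqm : q.IsMaximal := by
      by_contra hqm
      exact h q hqm _ h0 hK
    rw [Ideal.jacobson, Submodule.mem_sInf] at hx
    exact hxq (hx q ⟨hpq, hqm⟩)
  tfae_finish

end Groth.Agent.S4862
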