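import Groth.Statements.S4864
import Groth.Agent.Flat2G.FlatLocus

set_option autoImplicit false
universe u
open EGA43

namespace Groth.Agent.S4864


open AlgebraicGeometry CategoryTheory Limits Groth.Agent

/-- The specializations of the image of a closed subset form a closed subset. -/
theorem isClosed_specialization_image {A B : Type u} [CommRing A] [CommRing B] (φ : A →+* B) (Z : Set (PrimeSpectrum B))
    (hZ : IsClosed Z) : IsClosed {p : PrimeSpectrum A | ∃ Q ∈ Z, PrimeSpectrum.comap φ Q ⤳ p} := by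
  obtain ⟨I, rfl⟩ := (PrimeSpectrum.isClosed_iff_zeroLocus_ideal Z).mp hZ
  have : {p : PrimeSpectrum A | ∃ Q ∈ PrimeSpectrum.zeroLocus (I : Set B), PrimeSpectrum.comap φ Q ⤳ p} =
      PrimeSpectrum.zeroLocus ((I.comap φ : Ideal A) : Set A) := by
    ext p
    constructor
    · rintro ⟨Q, hQ, h⟩
      rw [← PrimeSpectrum.le_iff_specializes] at h
      exact (Ideal.comap_mono hQ : I.comap φ ≤ Q.asIdeal.comap φ).trans h
    · intro hp
      obtain ⟨p₀, hp₀, hle⟩ := Ideal.exists_minimalPrimes_le (I := I.comap φ) (J := p.asIdeal) hp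
      obtain ⟨q, hq, hIq, hqp⟩ := Ideal.exists_comap_eq_of_mem_minimalPrimes φ p₀ hp₀
      refine ⟨⟨q, hq⟩, hIq, ?_⟩
      rw [← PrimeSpectrum.le_iff_specializes]
      change q.comap φ ≤ p.asIdeal
      rw [hqp]
      exact hle
  rw [this]
  exact PrimeSpectrum.isClosed_zeroLocus _

/-- For `f` quasi-compact, the specializations of the points of the image of a closed subset form a closed subset. -/
theorem isClosed_specialization_image_scheme {X Y : Scheme.{u}} (f : X ⟶ Y) [QuasiCompact f] (T : Set X)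
    (hT : IsClosed T) : IsClosed {y : Y | ∃ x ∈ T, f x ⤳ y} := by
  rw [← isOpen_compl_iff, isOpen_iff_forall_mem_open]
  intro y hy
  obtain ⟨V, hV, hyV, -⟩ := exists_isAffineOpen_mem_and_subset (x := y) (U := ⊤) trivial
  have hc : IsCompact ((f ⁻¹ᵁ V : X.Opens) : Set X) := QuasiCompact.isCompact_preimage _ V.2 hV.isCompact
  obtain ⟨s, hs, hs'⟩ := (isCompact_iff_finite_and_eq_biUnion_affineOpens (U := f ⁻¹ᵁ V)).mp hc
  have hle : ∀ W ∈ s, (W : X.Opens) ≤ f ⁻¹ᵁ V := fun W hW => by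
    rw [hs']
    exact le_iSup₂_of_le W hW le_rfl
  let C : Set (Spec Γ(Y, V)) := ⋃ W : s, {p | ∃ Q ∈ W.1.2.fromSpec ⁻¹' T,
    (Spec.map (f.appLE V W.1.1 (hle W.1 W.2))) Q ⤳ p}
  have hfin : Finite s := hs
  have hC : IsClosed C := by
    refine isClosed_iUnion_of_finite fun W => ?_
    exact isClosed_specialization_image (f.appLE V W.1.1 (hle W.1 W.2)).hom _
      (hT.preimage W.1.2.fromSpec.continuous)
  have hcomm : ∀ (W : s) (Q : Spec Γ(X, W.1.1)), f (W.1.2.fromSpec Q) =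
      hV.fromSpec ((Spec.map (f.appLE V W.1.1 (hle W.1 W.2))) Q) := by
    intro W Q
    rw [← Scheme.Hom.comp_apply, ← Scheme.Hom.comp_apply,
      IsAffineOpen.SpecMap_appLE_fromSpec f hV W.1.2 (hle W.1 W.2)]
  refine ⟨hV.fromSpec '' Cᶜ, ?_, hV.fromSpec.isOpenEmbedding.isOpenMap _ hC.isOpen_compl, ?_⟩
  · rintro _ ⟨p, hp, rfl⟩ ⟨x, hx, hxp⟩
    have hpV : hV.fromSpec p ∈ V := by
      rw [← SetLike.mem_coe, ← hV.range_fromSpec]
      exact ⟨p, rfl⟩
    have hxV : x ∈ f ⁻¹ᵁ V := hxp.mem_open V.2 hpV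
    rw [hs'] at hxV
    obtain ⟨W, hW, hxW⟩ : ∃ W ∈ s, x ∈ (W : X.Opens) := by simpa using hxV
    obtain ⟨Q, rfl⟩ : x ∈ Set.range W.2.fromSpec := by
      rw [W.2.range_fromSpec]
      exact hxW
    rw [hcomm ⟨W, hW⟩, hV.fromSpec.isOpenEmbedding.isInducing.specializes_iff] at hxp
    exact hp (Set.mem_iUnion.mpr ⟨⟨W, hW⟩, Q, hx, hxp⟩)
  · obtain ⟨p, rfl⟩ : y ∈ Set.range hV.fromSpec := by
      rw [hV.range_fromSpec]
      exact hyV
    refine ⟨p, fun hp => hy ?_, rfl⟩
    obtain ⟨W, Q, hQ, hQp⟩ := Set.mem_iUnion.mp hp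
    refine ⟨W.1.2.fromSpec Q, hQ, ?_⟩
    rw [hcomm]
    exact hQp.map hV.fromSpec.continuous


open AlgebraicGeometry CategoryTheory Limits in
/-- Let f : X ⟶ Y and g : Y ⟶ Z be morphisms of finite presentation and F a quasi-coherent O_X-module of
finite presentation. Then the set U of points y of Y such that, for every generization y' of y, F is
(f ≫ g)-flat at every point of X above y', is open in Y. -/
theorem result {X Y Z : Scheme.{u}} (f : X ⟶ Y) (g : Y ⟶ Z)
    [LocallyOfFinitePresentation f] [QuasiCompact f] [QuasiSeparated f]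
    [LocallyOfFinitePresentation g] [QuasiCompact g] [QuasiSeparated g]
    (F : X.Modules) [Coh.IsQCoh F] (hF : CohB1.IsFP F) :
    IsOpen {y : Y | ∀ y' : Y, y' ⤳ y → ∀ x : X, f x = y' → FlatMod.IsFlatOverAt (f ≫ g) F x} := by
  have h1 : {y : Y | ∀ y' : Y, y' ⤳ y → ∀ x : X, f x = y' → FlatMod.IsFlatOverAt (f ≫ g) F x} =
      {y : Y | ∃ x ∈ {x : X | FlatMod.IsFlatOverAt (f ≫ g) F x}ᶜ, f x ⤳ y}ᶜ := by
    ext y
    constructor
    · rintro h ⟨x, hx, hxy⟩
      exact hx (h _ hxy x rfl)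
    · rintro h y' hy' x rfl
      by_contra hx
      exact h ⟨x, hx, hy'⟩
  rw [h1, isOpen_compl_iff]
  exact isClosed_specialization_image_scheme f _
    (Flat2G.FlatLocus.isOpen_flatLocus (f ≫ g) F inferInstance hF).isClosed_compl

end Groth.Agent.S4864
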