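import Groth.Statements.S4867
import Groth.Agent.EGA43.K63.FlatAtStage
import Groth.Agent.PerfB.ApproxMain
import Groth.Agent.Models2.FPCoh

set_option autoImplicit false
universe u
open CategoryTheory AlgebraicGeometry
open EGA43

namespace Groth.Agent.S4867

/-- Let A be a commutative ring, f : X ⟶ Spec A a morphism of finite presentation, F a quasi-coherent
O_X-module of finite presentation and x a point of X. If F is f-flat at x, then there are a finitely
generated subring A₀ of A, a morphism of finite type f₀ : X₀ ⟶ Spec A₀, a coherent O_{X₀}-module F₀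
and a cartesian square q : X ⟶ X₀ over Spec A ⟶ Spec A₀ together with an isomorphism q^*F₀ ≅ F, such
that F₀ is f₀-flat at q x; and if F is f-flat, F₀ can be chosen f₀-flat. -/
theorem result {A : Type u} [CommRing A] {X : Scheme.{u}}
    (f : X ⟶ Spec (CommRingCat.of A)) [LocallyOfFinitePresentation f] [QuasiCompact f] [QuasiSeparated f]
    (F : X.Modules) [Coh.IsQCoh F] (hF : CohB1.IsFP F) (x : X) :
    (FlatMod.IsFlatOverAt f F x →
      ∃ (A₀ : Subalgebra ℤ A) (_ : A₀.FG) (X₀ : Scheme.{u}) (f₀ : X₀ ⟶ Spec (CommRingCat.of ↥A₀))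
        (_ : LocallyOfFiniteType f₀) (_ : QuasiCompact f₀) (F₀ : X₀.Modules) (_ : Coh.IsCoh F₀) (q : X ⟶ X₀)
        (_ : IsPullback q f f₀ (Spec.map (CommRingCat.ofHom A₀.val.toRingHom)))
        (_ : (Scheme.Modules.pullback q).obj F₀ ≅ F),
        FlatMod.IsFlatOverAt f₀ F₀ (q x)) ∧
    (FlatMod.IsFlatOver f F →
      ∃ (A₀ : Subalgebra ℤ A) (_ : A₀.FG) (X₀ : Scheme.{u}) (f₀ : X₀ ⟶ Spec (CommRingCat.of ↥A₀))
        (_ : LocallyOfFiniteType f₀) (_ : QuasiCompact f₀) (F₀ : X₀.Modules) (_ : Coh.IsCoh F₀) (q : X ⟶ X₀)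
        (_ : IsPullback q f f₀ (Spec.map (CommRingCat.ofHom A₀.val.toRingHom)))
        (_ : (Scheme.Modules.pullback q).obj F₀ ≅ F),
        FlatMod.IsFlatOver f₀ F₀) := by
  refine ⟨fun hx => ?_, fun hfl => ?_⟩
  · obtain ⟨m⟩ := Groth.Agent.PerfB.ApproxMdl.nonempty_mdl (f := f) hF
    obtain ⟨C, h, hC⟩ := K63.FlatAtStage.exists_up_flatAt m x hx
    have key : ∀ {P Q : Scheme.{u}} (a : P ⟶ Q), LocallyOfFinitePresentation a → LocallyOfFiniteType a :=
      fun a _ => inferInstance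
    exact ⟨C.1, C.2, (m.up C h).Y, (m.up C h).h, key _ (m.up C h).lfp, (m.up C h).qc, (m.up C h).G,
      Groth.Agent.Models2.FPCoh.isCoh_of_isFP (m.up C h).fp, (m.up C h).g, (m.up C h).pb, (m.up C h).e, hC⟩
  · obtain ⟨A₀, X₀, f₀, g, F₀, hfg, hlfp, hqc, hqs, hpb, hfp, ⟨e⟩, hflat, -⟩ :=
      Groth.Agent.PerfB.ApproxMain.exists_noetherian_model A f F hF
    exact ⟨A₀, hfg, X₀, f₀, inferInstance, hqc, F₀, Groth.Agent.Models2.FPCoh.isCoh_of_isFP hfp, g, hpb, e,
      hflat hfl⟩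

end Groth.Agent.S4867
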