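import Groth.Statements.S4879
import Groth.Agent.EGA43.K122.WeakRelAss
import Groth.Agent.SDiv.K474.FittBlow2
import Groth.Agent.EGA43.K128.FibAssSch
import Groth.Agent.S2506
import Groth.Agent.S1391

set_option autoImplicit false
universe u
open CategoryTheory AlgebraicGeometry
open EGA43

namespace Groth.Agent.S4879

open Groth.Agent in
theorem relAss_subset {X S : Scheme.{u}} (f : X ⟶ S)
    [LocallyOfFiniteType f] (F : X.Modules) [Coh.IsQCoh F] (U : X.Opens)
    (h : ∀ (s : S) (V : (↑(f.fiber s) : Scheme.{u}).Opens),
      Function.Injective (((Scheme.Modules.pullback (f.fiberι s)).obj F).presheaf.map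
        (homOfLE (inf_le_left : V ⊓ (f.fiberι s) ⁻¹ᵁ U ≤ V)).op)) (x : X)
    (hx : x ∈ MoreMor.relAss f F) : x ∈ U := by
  have hq : Coh.IsQCoh F := inferInstance
  have hN : IsLocallyNoetherian (f.fiber (f x)) := by
    have : LocallyOfFiniteType (f.fiberToSpecResidueField (f x)) :=
      inferInstanceAs (LocallyOfFiniteType (Limits.pullback.snd f (S.fromSpecResidueField (f x))))
    exact LocallyOfFiniteType.isLocallyNoetherian (f.fiberToSpecResidueField (f x))
  have hq' : Coh.IsQCoh ((Scheme.Modules.pullback (f.fiberι (f x))).obj F) :=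
    Groth.Agent.FormalA.PullbackQC.isQCoh_pullback _ _ hq
  have h1 := (Groth.Agent.S2506.result _ hq' ((f.fiberι (f x)) ⁻¹ᵁ U)).2 fun V _ s hs => by
    have h2 := h (f x) V
    rw [injective_iff_map_eq_zero] at h2
    exact h2 s hs
  have h3 : f.asFiber x ∈ AssSch.Ass ((Scheme.Modules.pullback (f.fiberι (f x))).obj F) := by
    rw [K128.FibAssSch.mem_ass_fiber_iff, f.fiberι_asFiber]
    exact hx
  have h4 : f.fiberι (f x) (f.asFiber x) ∈ U := h1 h3
  rwa [f.fiberι_asFiber] at h4

open CategoryTheory.Limits in
/-- Let f : X ⟶ S be locally of finite presentation, F a quasi-coherent f-flat O_X-module of finite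
presentation, U an open subset of X and u : F → j_*j^*F the canonical map (j : U → X), i.e. the
restriction maps Γ(V, F) → Γ(V ∩ U, F). Then u is universally injective relative to S (the analogous
maps for the pullback of F to X ×_S S' and the preimage of U are injective for every S' ⟶ S) if and
only if u_s is injective for every point s of S (the analogous maps for the pullback of F to the
fibre X_s and U_s = U ∩ X_s). -/
theorem result {X S : Scheme.{u}} (f : X ⟶ S)
    [LocallyOfFinitePresentation f] (F : X.Modules) [Coh.IsQCoh F] (hF : CohB1.IsFP F)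
    (hflat : FlatMod.IsFlatOver f F) (U : X.Opens) :
    (∀ (S' : Scheme.{u}) (g : S' ⟶ S) (V : (↑(pullback f g) : Scheme.{u}).Opens),
      Function.Injective (((Scheme.Modules.pullback (pullback.fst f g)).obj F).presheaf.map
        (homOfLE (inf_le_left : V ⊓ (pullback.fst f g) ⁻¹ᵁ U ≤ V)).op)) ↔
    ∀ (s : S) (V : (↑(f.fiber s) : Scheme.{u}).Opens),
      Function.Injective (((Scheme.Modules.pullback (f.fiberι s)).obj F).presheaf.map
        (homOfLE (inf_le_left : V ⊓ (f.fiberι s) ⁻¹ᵁ U ≤ V)).op) := by
  constructor
  · intro h s V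
    exact h (Spec (S.residueField s)) (S.fromSpecResidueField s) V
  · intro h S' g V
    have hU := relAss_subset f F U h
    have hq : Coh.IsQCoh F := inferInstance
    have hc := IsPullback.of_hasPullback f g
    have hq' : Coh.IsQCoh ((Scheme.Modules.pullback (pullback.fst f g)).obj F) :=
      Groth.Agent.FormalA.PullbackQC.isQCoh_pullback _ _ hq
    rw [injective_iff_map_eq_zero]
    intro s hs
    refine K122.WeakRelAss.eq_zero_of_relAss (pullback.snd f g) _ hq'
      (Groth.Agent.SDiv.K474.FittBlow2.isFP_pullback _ hF)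
      (fun x' => Groth.Agent.S1391.result f _ _ g hc F hq x' (hflat _))
      ((pullback.fst f g) ⁻¹ᵁ U) (fun x' hx' => hU _ ?_) V s hs
    exact K256.RelAssX.relAss_map hc F hq x' hx'

end Groth.Agent.S4879
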