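import Groth.Statements.S4871
import Groth.Agent.S4879
import Groth.Agent.PerfC.PullRestrict
import Groth.Agent.PerfB.StructFlat

set_option autoImplicit false
universe u
open CategoryTheory AlgebraicGeometry
open EGA43

namespace Groth.Agent.S4871

theorem injective_map_of_iso {X : Scheme.{u}} {M N : X.Modules} (e : M ≅ N) {V W : X.Opens}
    (i : W ⟶ V) (h : Function.Injective (M.presheaf.map i.op)) :
    Function.Injective (N.presheaf.map i.op) := by
  have hnat : ∀ a : Γ(N, V), e.inv.app W (N.presheaf.map i.op a) = M.presheaf.map i.op (e.inv.app V a) :=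
    fun a => congr($((Scheme.Modules.Hom.mapPresheaf e.inv).naturality i.op) a)
  intro a b hab
  have h1 : e.inv.app V a = e.inv.app V b := by
    apply h
    rw [← hnat, ← hnat, hab]
  have h2 : ∀ a : Γ(N, V), e.hom.app V (e.inv.app V a) = a := fun a => by
    have := congr($(congrArg (fun φ => Scheme.Modules.Hom.app φ V) e.inv_hom_id) a)
    exact this
  rw [← h2 a, ← h2 b, h1]

theorem injective_map_iff {X Y : Scheme.{u}} (g : X ⟶ Y) {V W : X.Opens} (i : W ⟶ V) :
    Function.Injective (((Scheme.Modules.pullback g).obj (Coh.structureModule Y)).presheaf.map i.op) ↔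
      Function.Injective (X.presheaf.map i.op) := by
  have e := Groth.Agent.PerfC.PullRestrict.pullbackUnit g
  exact ⟨fun h => injective_map_of_iso e i h, fun h => injective_map_of_iso e.symm i h⟩

open CategoryTheory.Limits in
/-- Let f : X ⟶ S be flat and locally of finite presentation and U an open subscheme of X. Then U is
universally schematically dense in X relative to S, i.e. for every base change S' ⟶ S the preimage
of U in X ×_S S' is schematically dense, if and only if for every point s of S the trace U_s of U on
the fibre X_s is schematically dense in X_s. -/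
theorem result {X S : Scheme.{u}} (f : X ⟶ S) [Flat f]
    [LocallyOfFinitePresentation f] (U : X.Opens) :
    (∀ (S' : Scheme.{u}) (g : S' ⟶ S), CInt.IsSchematicallyDense ((pullback.fst f g) ⁻¹ᵁ U)) ↔
      ∀ s : S, CInt.IsSchematicallyDense ((f.fiberι s) ⁻¹ᵁ U) := by
  have hqc : Coh.IsQCoh (Coh.structureModule X) := Groth.Agent.Ega2.QCohLocal.isQCoh_structureModule X
  have h := Groth.Agent.S4879.result f (Coh.structureModule X)
    (Groth.Agent.PerfB.StructFlat.isFP_structure) (Groth.Agent.PerfB.StructFlat.isFlatOver_structure f) U
  constructor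
  · intro h1 s V
    exact (injective_map_iff _ _).1 (h.1 (fun S' g V => (injective_map_iff _ _).2 (h1 S' g V)) s V)
  · intro h1 S' g V
    exact (injective_map_iff _ _).1 (h.2 (fun s V => (injective_map_iff _ _).2 (h1 s V)) S' g V)

end Groth.Agent.S4871
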