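import Groth.Statements.S4872
import Groth.Agent.EGA43.K121.DomBasic
import Mathlib.AlgebraicGeometry.AffineSpace
import Mathlib.AlgebraicGeometry.Morphisms.Separated

set_option autoImplicit false
universe u
open CategoryTheory AlgebraicGeometry
open EGA43

namespace Groth.Agent.S4872

/-- Conditions b), c), d) (schematically dominant families): let p : X ⟶ S be a morphism and (f_i : Z_i
⟶ X) a family of morphisms. The following are equivalent: b) for every open V of X, a section of O_X
over V whose images in all the Γ(f_i⁻¹(V), O_{Z_i}) are zero is zero; c) for every open U of X, a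
closed immersion j : Y ⟶ U through which each restriction f_i⁻¹(U) ⟶ U factors is an isomorphism; d)
for every separated S-scheme X', every open U of X and every pair of S-morphisms u, v : U ⟶ X'
having the same composite with each f_i⁻¹(U) ⟶ U, one has u = v. -/
theorem result {X S : Scheme.{u}} (p : X ⟶ S) {ι : Type u} (Z : ι → Scheme.{u})
    (f : ∀ i, Z i ⟶ X) :
    [(∀ (V : (X).Opens) (t : Γ(X, V)), (∀ i, (f i).app V t = 0) → t = 0),
      ∀ (U : X.Opens) (Y : Scheme.{u}) (j : Y ⟶ (U : Scheme.{u})), IsClosedImmersion j →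
        (∀ i, ∃ g : ((f i) ⁻¹ᵁ U : Scheme.{u}) ⟶ Y, g ≫ j = (f i) ∣_ U) → IsIso j,
      ∀ (X' : Scheme.{u}) (q : X' ⟶ S), IsSeparated q → ∀ (U : X.Opens) (u v : (U : Scheme.{u}) ⟶ X'),
        u ≫ q = U.ι ≫ p → v ≫ q = U.ι ≫ p → (∀ i, ((f i) ∣_ U) ≫ u = ((f i) ∣_ U) ≫ v) → u = v].TFAE := by
  tfae_have 1 → 2 := by
    intro h U Y j hj hfac
    rw [IsClosedImmersion.isIso_iff_ker_eq_bot, eq_bot_iff]
    intro W t ht
    rw [Scheme.Hom.ker_apply, RingHom.mem_ker] at ht
    have h0 : t = 0 := by
      refine h (U.ι ''ᵁ W.1) t fun i => ?_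
      rw [← K121.Dom.morphismRestrict_app_zero_iff]
      obtain ⟨g, hg⟩ := hfac i
      rw [← K121.Dom.app_congr_zero hg]
      exact K121.Dom.comp_app_zero_of _ _ _ _ ht
    rw [h0]
    exact zero_mem _
  tfae_have 2 → 3 := by
    intro h X' q hq U u v hu hv huv
    let A : Over S := Over.mk (U.ι ≫ p)
    let B : Over S := Over.mk q
    have : IsSeparated B.hom := hq
    let u' : A ⟶ B := Over.homMk u hu
    let v' : A ⟶ B := Over.homMk v hv
    have h1 : IsIso (Limits.equalizer.ι u' v').left := by
      refine h U _ (Limits.equalizer.ι u' v').left inferInstance fun i => ?_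
      let C : Over S := Over.mk ((f i ∣_ U) ≫ U.ι ≫ p)
      let w : C ⟶ A := Over.homMk (f i ∣_ U) rfl
      refine ⟨(Limits.equalizer.lift w ?_).left, ?_⟩
      · ext1
        exact huv i
      · rw [← Over.comp_left, Limits.equalizer.lift_ι]
        rfl
    rw [← cancel_epi (Limits.equalizer.ι u' v').left]
    exact congr(($(Limits.equalizer.condition u' v')).left)
  tfae_have 3 → 1 := by
    intro h V t ht
    let t' : Γ((V : Scheme.{u}), ⊤) := V.topIso.inv t
    have ht' : ∀ i, (f i ∣_ V).appTop t' = 0 := by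
      intro i
      refine (K121.Dom.morphismRestrict_app_zero_iff (f i) V ⊤ t').mpr ?_
      exact K121.Dom.app_map_zero (f i) V.ι_image_top.le t (ht i)
    have h1 : AffineSpace.homOfVector (n := PUnit.{u+1}) (V.ι ≫ p) (fun _ => t') =
        AffineSpace.homOfVector (n := PUnit.{u+1}) (V.ι ≫ p) (fun _ => 0) := by
      refine h _ (𝔸(PUnit.{u+1}; S) ↘ S) inferInstance V _ _ (by simp) (by simp) fun i => ?_
      rw [AffineSpace.comp_homOfVector, AffineSpace.comp_homOfVector]
      congr 1
      funext _
      exact (ht' i).trans (map_zero (f i ∣_ V).appTop.hom).symm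
    have h2 : t' = 0 := by
      have h3 := AffineSpace.homOfVector_appTop_coord (n := PUnit.{u+1}) (V.ι ≫ p) (fun _ => t') PUnit.unit
      rw [h1, AffineSpace.homOfVector_appTop_coord] at h3
      exact h3.symm
    have h4 : V.topIso.hom (V.topIso.inv t) = t := by
      rw [← ConcreteCategory.comp_apply, Iso.inv_hom_id]
      rfl
    rw [← h4]
    change V.topIso.hom t' = 0
    rw [h2]
    exact map_zero V.topIso.hom.hom
  tfae_finish

end Groth.Agent.S4872
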