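import Groth.Statements.S4873
import Mathlib.AlgebraicGeometry.Scheme
import Mathlib.AlgebraicGeometry.Properties

set_option autoImplicit false
universe u
open CategoryTheory AlgebraicGeometry
open EGA43

namespace Groth.Agent.S4873

/-- Let (f_i : Z_i ⟶ X) be a family of morphisms. If the family is schematically dominant, i.e. a
section of O_X over an open V whose pullback to every f_i⁻¹(V) vanishes is zero, then the union of
the images f_i(Z_i) is dense in X. Conversely, if X is reduced and this union is dense, the family
is schematically dominant. -/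
theorem result {X : Scheme.{u}} {ι : Type u} (Z : ι → Scheme.{u})
    (f : ∀ i, Z i ⟶ X) :
    ((∀ (V : (X).Opens) (t : Γ(X, V)), (∀ i, (f i).app V t = 0) → t = 0) → Dense (⋃ i, Set.range (f i))) ∧
    (IsReduced X → Dense (⋃ i, Set.range (f i)) → (∀ (V : (X).Opens) (t : Γ(X, V)), (∀ i, (f i).app V t = 0) → t = 0)) := by
  constructor
  · intro h
    rw [dense_iff_inter_open]
    rintro U hU ⟨x, hx⟩
    by_contra hne
    rw [Set.not_nonempty_iff_eq_empty] at hne
    let V : X.Opens := ⟨U, hU⟩
    have h1 : (1 : Γ(X, V)) = 0 := by
      refine h V 1 fun i => ?_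
      have hemp : (f i) ⁻¹ᵁ V = ⊥ := by
        ext z
        simp only [TopologicalSpace.Opens.coe_bot, Set.mem_empty_iff_false, iff_false]
        intro hz
        have : f i z ∈ U ∩ ⋃ i, Set.range (f i) := ⟨hz, Set.mem_iUnion.mpr ⟨i, ⟨z, rfl⟩⟩⟩
        rw [hne] at this
        exact this
      have : Subsingleton Γ(Z i, (f i) ⁻¹ᵁ V) := by
        rw [hemp]
        infer_instance
      exact Subsingleton.elim _ _
    have h2 : X.presheaf.germ V x hx 1 = X.presheaf.germ V x hx 0 := by rw [h1]
    rw [map_one, map_zero] at h2
    exact one_ne_zero h2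
  · intro hred hd V t ht
    have hb : X.basicOpen t = ⊥ := by
      by_contra hne
      have hne' : (X.basicOpen t : Set X).Nonempty := by
        rw [Set.nonempty_iff_ne_empty]
        intro h
        exact hne (TopologicalSpace.Opens.ext (by simpa using h))
      obtain ⟨x, hx, hx'⟩ := dense_iff_inter_open.mp hd _ (X.basicOpen t).isOpen hne'
      obtain ⟨i, z, rfl⟩ := Set.mem_iUnion.mp hx'
      have : z ∈ (f i) ⁻¹ᵁ X.basicOpen t := hx
      rw [Scheme.preimage_basicOpen, ht i, Scheme.basicOpen_zero] at this
      exact this
    exact basicOpen_eq_bot_iff t |>.mp hb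

end Groth.Agent.S4873
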