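import Groth.Statements.S4882


set_option autoImplicit false
universe u
open EGA43

namespace Groth.Agent.S4882

open Topology in
theorem exists_piece {X : Type u} [TopologicalSpace X]
    (Z : Set X)
    (hZ : ∀ x : X, ∃ U : Set X, IsOpen U ∧ x ∈ U ∧
      ∃ T : Set (Set X), T.Finite ∧ (∀ t ∈ T, IsLocallyClosed t) ∧ U ∩ Z = ⋃₀ T) (z : X) (hz : z ∈ Z) :
    ∃ t : Set X, IsLocallyClosed t ∧ t ⊆ Z ∧ z ∈ t := by
  obtain ⟨U, hU, hzU, T, hT, hTc, hUT⟩ := hZ z
  have : z ∈ ⋃₀ T := by rw [← hUT]; exact ⟨hzU, hz⟩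
  obtain ⟨t, ht, hzt⟩ := this
  refine ⟨t, hTc t ht, ?_, hzt⟩
  intro y hy
  have : y ∈ ⋃₀ T := ⟨t, ht, hy⟩
  rw [← hUT] at this
  exact this.2

/-- Let X be a Jacobson space and Z a locally quasi-constructible subset of X, i.e. every point of X has
an open neighbourhood U such that U ∩ Z is a finite union of locally closed subsets of X. Then the
subspace Z is a Jacobson space, and a point of Z is closed in Z if and only if it is closed in X. -/
theorem result {X : Type u} [TopologicalSpace X] [JacobsonSpace X]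
    (Z : Set X)
    (hZ : ∀ x : X, ∃ U : Set X, IsOpen U ∧ x ∈ U ∧
      ∃ T : Set (Set X), T.Finite ∧ (∀ t ∈ T, IsLocallyClosed t) ∧ U ∩ Z = ⋃₀ T) :
    JacobsonSpace ↥Z ∧ ∀ z : ↥Z, IsClosed ({z} : Set ↥Z) ↔ IsClosed ({(z : X)} : Set X) := by
  constructor
  · rw [jacobsonSpace_iff_locallyClosed]
    rintro A ⟨⟨z, hz⟩, hzA⟩ hA
    obtain ⟨A', hA', rfl⟩ : ∃ A' : Set X, IsLocallyClosed A' ∧ Subtype.val ⁻¹' A' = A := by
      obtain ⟨U, C, hU, hC, rfl⟩ := hA
      obtain ⟨U', hU', rfl⟩ := isOpen_induced_iff.mp hU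
      obtain ⟨C', hC', rfl⟩ := isClosed_induced_iff.mp hC
      exact ⟨U' ∩ C', hU'.isLocallyClosed.inter hC'.isLocallyClosed, rfl⟩
    obtain ⟨t, ht, htZ, hzt⟩ := exists_piece Z hZ z hz
    obtain ⟨x, ⟨hxt, hxA⟩, hx⟩ := nonempty_inter_closedPoints (Z := t ∩ A') ⟨z, hzt, hzA⟩ (ht.inter hA')
    refine ⟨⟨x, htZ hxt⟩, hxA, ?_⟩
    rw [mem_closedPoints_iff] at hx ⊢
    have : ({⟨x, htZ hxt⟩} : Set ↥Z) = Subtype.val ⁻¹' {x} := by
      ext ⟨y, hy⟩
      simp [Subtype.ext_iff]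
    rw [this]
    exact hx.preimage continuous_subtype_val
  · rintro ⟨z, hz⟩
    constructor
    · intro hcl
      obtain ⟨C, hC, hCz⟩ := isClosed_induced_iff.mp hcl
      obtain ⟨t, ht, htZ, hzt⟩ := exists_piece Z hZ z hz
      apply isClosed_singleton_of_isLocallyClosed_singleton
      have : ({z} : Set X) = t ∩ C := by
        ext y
        simp only [Set.mem_singleton_iff, Set.mem_inter_iff]
        constructor
        · rintro rfl
          refine ⟨hzt, ?_⟩
          have : (⟨y, hz⟩ : ↥Z) ∈ Subtype.val ⁻¹' C := by rw [hCz]; rfl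
          exact this
        · rintro ⟨hyt, hyC⟩
          have : (⟨y, htZ hyt⟩ : ↥Z) ∈ Subtype.val ⁻¹' C := hyC
          rw [hCz] at this
          exact congrArg Subtype.val this
      rw [this]
      exact ht.inter hC.isLocallyClosed
    · intro hcl
      have : ({⟨z, hz⟩} : Set ↥Z) = Subtype.val ⁻¹' {z} := by
        ext ⟨y, hy⟩
        simp [Subtype.ext_iff]
      rw [this]
      exact hcl.preimage continuous_subtype_val

end Groth.Agent.S4882
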