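import Groth.Statements.S4883
import Groth.Agent.EGA43.K122.IsolatedPt

set_option autoImplicit false
universe u
open CategoryTheory AlgebraicGeometry
open EGA43

namespace Groth.Agent.S4883

/-- Let X be a Noetherian scheme. Then the set of points x of X whose closure is finite is very dense in
X: every nonempty locally closed subset of X contains a point with finite closure. -/
theorem result (X : Scheme.{u}) [IsNoetherian X]
    (Z : Set X) (hZ : IsLocallyClosed Z) (hne : Z.Nonempty) :
    ∃ x ∈ Z, (closure ({x} : Set X)).Finite := by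
  have hN : TopologicalSpace.NoetherianSpace ↥Z := inferInstance
  have : CompactSpace ↥Z := inferInstance
  have : Nonempty ↥Z := hne.to_subtype
  obtain ⟨⟨x, hxZ⟩, -, hx⟩ := IsClosed.exists_closed_singleton (X := ↥Z) isClosed_univ
    (Set.univ_nonempty)
  refine ⟨x, hxZ, K122.IsolatedPt.finite_closure X x ?_⟩
  obtain ⟨C, hC, hCx⟩ := isClosed_induced_iff.mp hx
  have : ({x} : Set X) = Z ∩ C := by
    ext y
    rw [Set.mem_singleton_iff, Set.mem_inter_iff]
    constructor
    · rintro rfl
      refine ⟨hxZ, ?_⟩
      have : (⟨y, hxZ⟩ : ↥Z) ∈ Subtype.val ⁻¹' C := by rw [hCx]; rfl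
      exact this
    · rintro ⟨hyZ, hyC⟩
      have : (⟨y, hyZ⟩ : ↥Z) ∈ Subtype.val ⁻¹' C := hyC
      rw [hCx] at this
      exact congrArg Subtype.val this
  rw [this]
  exact hZ.inter hC.isLocallyClosed

end Groth.Agent.S4883
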