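import Groth.Statements.S5923
import Groth.Agent.EGA43.K132.GeomNormOpen
import Groth.Agent.S0386

set_option autoImplicit false
open CategoryTheory AlgebraicGeometry
universe u
open EGA43

namespace Groth.Agent.S5923

/-- Let f : X ⟶ Y be a morphism locally of finite presentation. The set of points x of X such that f is
flat at x and the fibre of f through x is geometrically normal at x over the residue field of f x —
for every finite field extension K of that residue field and every point x' over x of the base
change of the fibre to K, the local ring at x' is an integrally closed domain — is open in X. In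
particular, when f is moreover flat, the set of x at which the fibre through x is geometrically
normal is open. -/
theorem result {X Y : Scheme.{u}} (f : X ⟶ Y) [LocallyOfFinitePresentation f] :
    IsOpen {x : X | (f.stalkMap x).hom.Flat ∧
      ∀ (K : Type u) [Field K] [Algebra (IsLocalRing.ResidueField (Y.presheaf.stalk (f.base x))) K],
        Module.Finite (IsLocalRing.ResidueField (Y.presheaf.stalk (f.base x))) K →
        ∀ x' : ↥(FBase.bc (f.fiberToSpecResidueField (f.base x)) K),
          (FBase.bcπ (f.fiberToSpecResidueField (f.base x)) K).base x' = f.asFiber x →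
          IsDomain ((FBase.bc (f.fiberToSpecResidueField (f.base x)) K).presheaf.stalk x') ∧
            IsIntegrallyClosed ((FBase.bc (f.fiberToSpecResidueField (f.base x)) K).presheaf.stalk x')} := by
  let W : X.Opens := ⟨{x : X | (f.stalkMap x).hom.Flat}, Groth.Agent.S0386.result f⟩
  have hW : Flat (W.ι ≫ f) := by
    rw [Flat.iff_flat_stalkMap]
    intro w
    rw [Scheme.Hom.stalkMap_comp]
    exact RingHom.Flat.comp (f := (f.stalkMap (W.ι w)).hom) (g := (W.ι.stalkMap w).hom) w.2
      (RingHom.Flat.of_bijective (ConcreteCategory.bijective_of_isIso (W.ι.stalkMap w)))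
  have h1 := K132.GeomNormOpen.isOpen_norFin (W.ι ≫ f)
  have h2 : IsOpen (W.ι.base '' {w | K132.GeomNormOpen.NorFin (W.ι ≫ f) w}) :=
    W.ι.isOpenEmbedding.isOpenMap _ h1
  convert h2 using 1
  have hiff : ∀ w : W, Ega43.GeomAt.GeomAt (fun R _ => Ega4fib.H173.NormalPoint.PNor R) (W.ι ≫ f) w ↔
      Ega43.GeomAt.GeomAt (fun R _ => Ega4fib.H173.NormalPoint.PNor R) f (W.ι w) := fun w =>
    Ega43.GeomAt.geomAt_comp_openImmersion Ega4fib.H173.NormalPoint.isoClosed_PNor W.ι f w
  have key : ∀ w : W, K132.GeomNormOpen.NorFin (W.ι ≫ f) w ↔ K132.GeomNormOpen.NorFin f (W.ι w) := by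
    intro w
    constructor
    · intro h
      have h3 := K122.GeomNorFin.geomAt_of_finite_fiber (W.ι ≫ f) w h
      rw [hiff] at h3
      exact K122.GeomNorFin.finite_fiber_of_geomAt f (W.ι w) h3
    · intro h
      have h3 := K122.GeomNorFin.geomAt_of_finite_fiber f (W.ι w) h
      rw [← hiff] at h3
      exact K122.GeomNorFin.finite_fiber_of_geomAt (W.ι ≫ f) w h3
  ext x
  constructor
  · rintro ⟨hx, hn⟩
    exact ⟨⟨x, hx⟩, (key _).mpr hn, rfl⟩
  · rintro ⟨w, hw, rfl⟩
    exact ⟨w.2, (key _).mp hw⟩

end Groth.Agent.S5923
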