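import Groth.Statements.S4884
import Groth.Agent.S5923
import Groth.Agent.EGA43.K122.NormUnibranchSch
import Groth.Agent.EGA43.K122.GeomNorFin

set_option autoImplicit false
universe u
open CategoryTheory AlgebraicGeometry
open EGA43

namespace Groth.Agent.S4884

theorem hOpen : K122.NormUnibranch.HOpen.{u} := by
  refine K122.NormUnibranchSch.hOpen_of fun {X Y} f _ => ?_
  have h := Groth.Agent.S5923.result f
  convert h using 1
  ext x
  constructor
  · rintro ⟨h1, h2⟩
    exact ⟨h1, fun K _ _ h3 x' hx' => K122.GeomNorFin.finite_fiber_of_geomAt f x h2 K h3 x' hx'⟩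
  · rintro ⟨h1, h2⟩
    exact ⟨h1, K122.GeomNorFin.geomAt_of_finite_fiber f x fun K _ _ h3 x' hx' => h2 K h3 x' hx'⟩

/-- Let f : X ⟶ Y be locally of finite presentation and x a point of X with y = f x. If O_{Y,y} is
geometrically unibranch and f is normal at x — that is, f is flat at x and the fibre X_y is
geometrically normal at x: for every finite field extension K of k(y), the local rings of X_y
⊗_{k(y)} K at the points above x are integrally closed domains — then O_{X,x} is geometrically
unibranch. -/
theorem result {X Y : Scheme.{u}} (f : X ⟶ Y) [LocallyOfFinitePresentation f]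
    (x : X) (hY : CAlg2.IsGeomUnibranch ↑(Y.presheaf.stalk (f x))) (hflat : (f.stalkMap x).hom.Flat)
    (hnorm : ∀ (K : Type u) [Field K] [Algebra (IsLocalRing.ResidueField ↑(Y.presheaf.stalk (f x))) K],
      Module.Finite (IsLocalRing.ResidueField ↑(Y.presheaf.stalk (f x))) K →
      ∀ x' : ↥(FBase.bc (f.fiberToSpecResidueField (f x)) K),
        FBase.bcπ (f.fiberToSpecResidueField (f x)) K x' = f.asFiber x →
        IsDomain ↑((FBase.bc (f.fiberToSpecResidueField (f x)) K).presheaf.stalk x') ∧
          IsIntegrallyClosed ↑((FBase.bc (f.fiberToSpecResidueField (f x)) K).presheaf.stalk x')) :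
    CAlg2.IsGeomUnibranch ↑(X.presheaf.stalk x) := by
  exact K122.NormUnibranchSch.isGeomUnibranch_stalk hOpen f x hY hflat
    (K122.GeomNorFin.geomAt_of_finite_fiber f x hnorm)

end Groth.Agent.S4884
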