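import Groth.Statements.S4885


set_option autoImplicit false
universe u
open EGA43

namespace Groth.Agent.S4885

/-- a finite algebra is a quotient of a finite algebra of finite presentation -/
theorem exists_cover (A A' : Type u) [CommRing A] [CommRing A'] [Algebra A A'] [Module.Finite A A'] :
    ∃ (P : Type u) (_ : CommRing P) (_ : Algebra A P) (f : P →ₐ[A] A'),
      Module.Finite A P ∧ Algebra.FinitePresentation A P ∧ Function.Surjective f := by
  obtain ⟨n, f, hf⟩ := Algebra.FiniteType.iff_quotient_mvPolynomial''.mp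
    (inferInstance : Algebra.FiniteType A A')
  have hint : ∀ i : Fin n, ∃ p : Polynomial A, p.Monic ∧ Polynomial.aeval (f (MvPolynomial.X i)) p = 0 := by
    intro i
    exact Algebra.IsIntegral.isIntegral (R := A) (f (MvPolynomial.X i))
  choose p hpm hp using hint
  let J : Ideal (MvPolynomial (Fin n) A) :=
    Ideal.span (Set.range fun i => Polynomial.aeval (MvPolynomial.X i : MvPolynomial (Fin n) A) (p i))
  have hJ : J.FG := (Submodule.fg_span (Set.finite_range _))
  have hJf : ∀ a ∈ J, f a = 0 := by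
    intro a ha
    have : J ≤ RingHom.ker f := by
      rw [Ideal.span_le]
      rintro _ ⟨i, rfl⟩
      change f (Polynomial.aeval (MvPolynomial.X i : MvPolynomial (Fin n) A) (p i)) = 0
      rw [← Polynomial.aeval_algHom_apply]
      exact hp i
    exact this ha
  have hFP : Algebra.FinitePresentation A (MvPolynomial (Fin n) A ⧸ J) :=
    Algebra.FinitePresentation.quotient hJ
  have hI : Algebra.IsIntegral A (MvPolynomial (Fin n) A ⧸ J) := by
    constructor
    intro y
    obtain ⟨y, rfl⟩ := Ideal.Quotient.mk_surjective y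
    induction y using MvPolynomial.induction_on with
    | C a => exact isIntegral_algebraMap (R := A) (A := MvPolynomial (Fin n) A ⧸ J) (x := a)
    | add a b ha hb =>
      rw [map_add]
      exact ha.add hb
    | mul_X a i ha =>
      rw [map_mul]
      refine ha.mul ⟨p i, hpm i, ?_⟩
      change Polynomial.aeval (Ideal.Quotient.mkₐ A J (MvPolynomial.X i)) (p i) = 0
      rw [Polynomial.aeval_algHom_apply]
      exact Ideal.Quotient.eq_zero_iff_mem.mpr (Ideal.subset_span ⟨i, rfl⟩)
  refine ⟨MvPolynomial (Fin n) A ⧸ J, inferInstance, inferInstance, Ideal.Quotient.liftₐ J f hJf, ?_, hFP, ?_⟩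
  · exact Algebra.IsIntegral.finite
  · intro a
    obtain ⟨b, rfl⟩ := hf a
    exact ⟨Ideal.Quotient.mk J b, rfl⟩

/-- Every finite algebra A' over a commutative ring A is a directed colimit (filtered inductive limit)
of A-algebras which are finite and of finite presentation over A. -/
theorem result (A A' : Type u) [CommRing A] [CommRing A']
    [Algebra A A'] [Module.Finite A A'] :
    ∃ (ι : Type u) (_ : Preorder ι) (G : ι → Type u) (_ : ∀ i, CommRing (G i)) (_ : ∀ i, Algebra A (G i))
      (g : ∀ i j, i ≤ j → G i →ₐ[A] G j) (_ : ∀ i, Algebra (G i) A') (_ : ∀ i, IsScalarTower A (G i) A'),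
      FlatCA.IsDirectedColimitRing G (fun i j h => (g i j h).toRingHom) A' ∧
        ∀ i, Module.Finite A (G i) ∧ Algebra.FinitePresentation A (G i) := by
  obtain ⟨P, _, _, f, hPf, hPp, hf⟩ := exists_cover A A'
  let ι : Type u := {J : Ideal P // J.FG ∧ J ≤ RingHom.ker f}
  let alg : ∀ i : ι, Algebra (P ⧸ i.1) A' := fun i =>
    (Ideal.Quotient.liftₐ i.1 f (fun a ha => i.2.2 ha)).toRingHom.toAlgebra
  refine ⟨ι, inferInstance, fun i => P ⧸ i.1, inferInstance, inferInstance,
    fun i j h => Ideal.Quotient.factorₐ A h, alg, ?_, ⟨?_, ?_, ?_, ?_, ?_, ?_, ?_⟩, ?_⟩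
  · intro i
    let _ := alg i
    refine IsScalarTower.of_algebraMap_eq' ?_
    exact (AlgHom.comp_algebraMap (Ideal.Quotient.liftₐ i.1 f (fun a ha => i.2.2 ha))).symm
  · constructor
    rintro ⟨J, hJ, hJ'⟩ ⟨K, hK, hK'⟩
    exact ⟨⟨J ⊔ K, Submodule.FG.sup hJ hK, sup_le hJ' hK'⟩,
      show J ≤ J ⊔ K from le_sup_left, show K ≤ J ⊔ K from le_sup_right⟩
  · exact ⟨⟨⊥, Submodule.fg_bot, bot_le⟩⟩
  · intro i
    ext x
    rfl
  · intro i j k hij hjk
    refine Ideal.Quotient.ringHom_ext ?_
    ext x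
    rfl
  · intro i j h
    refine Ideal.Quotient.ringHom_ext ?_
    ext x
    rfl
  · intro a
    obtain ⟨x, hx⟩ := hf a
    exact ⟨⟨⊥, Submodule.fg_bot, bot_le⟩, Ideal.Quotient.mk _ x, hx⟩
  · rintro ⟨J, hJ, hJ'⟩ x hx
    obtain ⟨x, rfl⟩ := Ideal.Quotient.mk_surjective x
    have hxf : x ∈ RingHom.ker f := hx
    refine ⟨⟨J ⊔ Ideal.span {x}, Submodule.FG.sup hJ (Submodule.fg_span_singleton x),
      sup_le hJ' ((Ideal.span_singleton_le_iff_mem _).mpr hxf)⟩,
      show J ≤ J ⊔ Ideal.span {x} from le_sup_left, ?_⟩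
    exact Ideal.Quotient.eq_zero_iff_mem.mpr
      ((le_sup_right : Ideal.span {x} ≤ J ⊔ Ideal.span {x}) (Ideal.mem_span_singleton_self x))
  · intro i
    exact ⟨Module.Finite.of_surjective (Ideal.Quotient.mkₐ A i.1).toLinearMap
      Ideal.Quotient.mk_surjective, Algebra.FinitePresentation.quotient i.2.1⟩

end Groth.Agent.S4885
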