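import Groth.Statements.S4887
import Groth.Agent.EGA43.K122.KerFP
import Groth.Agent.SDiv.K474.FittBlow2
import Groth.Agent.Ega43.FibSch2
import Groth.Agent.CohqA.FinSec

set_option autoImplicit false
universe u
open EGA43

namespace Groth.Agent.S4887

open AlgebraicGeometry CategoryTheory Limits in
/-- Let f : X ⟶ Y be locally of finite presentation, G and H quasi-coherent O_X-modules of finite
presentation with H f-flat, and p : G ⟶ H an epimorphism. Then Ker p is an O_X-module of finite
presentation. -/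
theorem result {X Y : Scheme.{u}} (f : X ⟶ Y) [LocallyOfFinitePresentation f]
    (G H : X.Modules) [Coh.IsQCoh G] [Coh.IsQCoh H] (hG : CohB1.IsFP G) (hH : CohB1.IsFP H)
    (hflat : FlatMod.IsFlatOver f H) (p : G ⟶ H) [Epi p] :
    CohB1.IsFP (kernel p) := by
  have hqG : Coh.IsQCoh G := inferInstance
  have hqH : Coh.IsQCoh H := inferInstance
  have : G.IsQuasicoherent := hqG
  have : H.IsQuasicoherent := hqH
  have hqK : Coh.IsQCoh (kernel p) := Groth.Agent.PerfA.QCohSerre.isQCoh_kernel p hqG hqH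
  refine Groth.Agent.CohqA.FinSec.isFP_of_finitePresentation hqK fun x => ?_
  obtain ⟨V, hV, hxV, -⟩ := exists_isAffineOpen_mem_and_subset (x := f x) (U := ⊤) trivial
  obtain ⟨U, hU, hxU, h⟩ := exists_isAffineOpen_mem_and_subset (x := x) (U := f ⁻¹ᵁ V) hxV
  refine ⟨U, hU, hxU, ?_⟩
  let i1 : Algebra Γ(Y, V) Γ(X, U) := (f.appLE V U h).hom.toAlgebra
  have hi1 : algebraMap Γ(Y, V) Γ(X, U) = (f.appLE V U h).hom := rfl
  let i2 : Module Γ(Y, V) Γ(H, U) := Module.compHom Γ(H, U) (f.appLE V U h).hom
  have t1 : IsScalarTower Γ(Y, V) Γ(X, U) Γ(H, U) := ⟨fun a b m => mul_smul (f.appLE V U h a) b m⟩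
  have h1 : Algebra.FinitePresentation Γ(Y, V) Γ(X, U) := f.finitePresentation_appLE hV hU h
  have h2 : Module.FinitePresentation Γ(X, U) Γ(G, U) :=
    Groth.Agent.Desc.FPSections.finitePresentation_sections hU hqG hG
  have h2' : Module.FinitePresentation Γ(X, U) Γ(H, U) :=
    Groth.Agent.Desc.FPSections.finitePresentation_sections hU hqH hH
  have h3 : Module.Flat Γ(Y, V) Γ(H, U) :=
    Groth.Agent.Ega43.FibSch2.flat_sections f H hqH hflat hV hU h hi1
  have hsurj : Function.Surjective (Groth.Agent.CohqB.FiniteType2.appLinear p U) :=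
    Groth.Agent.FormalB.QcSect.surjective_app_of_epi p hU
  have h4 := K122.KerFP.ker_finitePresentation (A := Γ(Y, V)) (Groth.Agent.CohqB.FiniteType2.appLinear p U) hsurj
  have hex := Groth.Agent.CohqB.FiniteType2.sections_exact (ShortComplex.mk (kernel.ι p) p (kernel.condition p))
    (ShortComplex.exact_kernel p) U
  have hinj := Groth.Agent.CohqB.FiniteType2.appLinear_injective (kernel.ι p) U
  have e : Γ(kernel p, U) ≃ₗ[Γ(X, U)] LinearMap.ker (Groth.Agent.CohqB.FiniteType2.appLinear p U) :=
    (LinearEquiv.ofInjective (Groth.Agent.CohqB.FiniteType2.appLinear (kernel.ι p) U) hinj).trans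
      (LinearEquiv.ofEq _ _ (LinearMap.exact_iff.1 hex).symm)
  exact Module.FinitePresentation.of_equiv e.symm

end Groth.Agent.S4887
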