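import Groth.Statements.S4891
import Groth.Agent.FlatA.FibreNilpotent
import Mathlib.RingTheory.Flat.FaithfullyFlat.Basic

set_option autoImplicit false
universe u
open TensorProduct
open EGA43

namespace Groth.Agent.S4891

open TensorProduct in
/-- if `M` is flat over `A` and faithfully flat over the `A`-algebra `B` then `B` is flat over `A` -/
theorem flat_of_faithfullyFlat_module (A B M : Type u) [CommRing A] [CommRing B] [Algebra A B]
    [AddCommGroup M] [Module B M] [Module A M] [IsScalarTower A B M] [Module.Flat A M]
    [Module.FaithfullyFlat B M] : Module.Flat A B := by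
  rw [Module.Flat.iff_lTensor_preserves_injective_linearMap]
  intro N N' _ _ _ _ f hf
  let g : B ⊗[A] N →ₗ[B] B ⊗[A] N' := TensorProduct.AlgebraTensorModule.lTensor B B f
  have h1 : Function.Injective (f.lTensor M) := Module.Flat.lTensor_preserves_injective_linearMap f hf
  have h2 : Function.Injective (g.lTensor M) := by
    let e := TensorProduct.AlgebraTensorModule.cancelBaseChange A B B M N
    let e' := TensorProduct.AlgebraTensorModule.cancelBaseChange A B B M N'
    have h3 : ∀ x, e' (g.lTensor M x) = f.lTensor M (e x) := by
      intro x
      induction x with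
      | zero => simp
      | add a b ha hb => simp only [map_add, ha, hb]
      | tmul m y =>
        induction y with
        | zero => simp
        | add a b ha hb => 
          simp only [TensorProduct.tmul_add, map_add, ha, hb]
        | tmul b n =>
          simp [e, e', g]
    intro x y hxy
    apply e.injective
    apply h1
    rw [← h3, ← h3, hxy]
  have h4 : Function.Injective g := (Module.FaithfullyFlat.lTensor_injective_iff_injective B M g).mp h2
  exact h4

/-- Let A be a commutative ring, J a nilpotent ideal of A, B a commutative A-algebra and M a B-module.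
If M is flat over A, M/JM is flat over B/JB, B/JB is flat over A/J and mM ≠ M for every maximal
ideal m of B containing JB, then B is flat over A. (Under the first two hypotheses M is also flat
over B; that implication is stated elsewhere and not repeated here.) -/
theorem result {A B : Type u} [CommRing A] [CommRing B] [Algebra A B]
    (J : Ideal A) (hJ : IsNilpotent J) (M : Type u) [AddCommGroup M] [Module B M] [Module A M] [IsScalarTower A B M]
    (hc1 : Module.Flat A M)
    (hc2 : Module.Flat (B ⧸ J.map (algebraMap A B)) ((B ⧸ J.map (algebraMap A B)) ⊗[B] M))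
    (hd1 : Module.Flat (A ⧸ J) ((A ⧸ J) ⊗[A] B))
    (hd2 : ∀ m : Ideal B, m.IsMaximal → J.map (algebraMap A B) ≤ m → (m • (⊤ : Submodule B M)) ≠ ⊤) :
    Module.Flat A B := by
  have hMB : Module.Flat B M := Groth.Agent.FlatA.FibreNilpotent.flat_of_isNilpotent_of_fibre J hJ hc2
  have hff : Module.FaithfullyFlat B M := by
    refine ⟨fun m hm => ?_⟩
    refine hd2 m hm ?_
    obtain ⟨n, hn⟩ := hJ
    intro x hx
    have : x ^ n ∈ (J.map (algebraMap A B)) ^ n := Ideal.pow_mem_pow hx n
    rw [← Ideal.map_pow, hn] at this
    have h0 : x ^ n = 0 := by simpa using this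
    exact hm.isPrime.mem_of_pow_mem n (h0 ▸ m.zero_mem)
  exact flat_of_faithfullyFlat_module A B M

end Groth.Agent.S4891
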