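import Groth.Statements.S4892
import Groth.Agent.S4869
import Groth.Agent.EGA43.K122.GrFinal

set_option autoImplicit false
universe u
open TensorProduct
open EGA43

namespace Groth.Agent.S4892

theorem hGr : K122.GrFinal.HGr.{u} := by
  intro A₀ A B₀ _ _ _ _ _ _ J₀ hJ₀ M₀ _ _ _ _ _ h
  exact (Groth.Agent.S4869.result (fun s : Finset A => ↥(Algebra.adjoin A₀ (s : Set A)))
    (fun i j h => Subalgebra.inclusion (Algebra.adjoin_mono (Finset.coe_subset.2 h))) A
    (K122.GrStage.isDirectedColimitRing_adjoin A₀ A) J₀ hJ₀ M₀).1 h

/-- Affine form: let A be a commutative ring, B a finitely presented A-algebra, J a finitely generated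
ideal of B and M a finitely presented B-module; assume that every graded piece J^k / J^{k+1} of B
and every graded piece J^k M / J^{k+1} M of M is flat over A. Then the set W of primes q ⊇ J of B at
which M is normally flat along V(J) — every localisation (J^k M / J^{k+1} M)_q is flat over B/J — is
open in V(J); equivalently the set of primes q such that J ⊆ q implies this condition is open in
Spec B. Flatness over B/J of the localised piece N_q (a module killed by J) is expressed as flatness
of (B/J) ⊗_B N_q. -/
theorem result {A B : Type u} [CommRing A] [CommRing B] [Algebra A B]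
    [Algebra.FinitePresentation A B] (J : Ideal B) (hJ : J.FG)
    (M : Type u) [AddCommGroup M] [Module B M] [Module A M] [IsScalarTower A B M] [Module.FinitePresentation B M]
    (hgrB : ∀ k : ℕ, Module.Flat A (↥(J ^ k) ⧸ Submodule.comap (J ^ k).subtype (J ^ (k + 1))))
    (hgrM : ∀ k : ℕ, Module.Flat A
      (↥(J ^ k • (⊤ : Submodule B M)) ⧸ Submodule.comap (J ^ k • (⊤ : Submodule B M)).subtype (J ^ (k + 1) • ⊤))) :
    IsOpen {q : PrimeSpectrum B | J ≤ q.asIdeal → ∀ k : ℕ,
      Module.Flat (B ⧸ J) ((B ⧸ J) ⊗[B] LocalizedModule q.asIdeal.primeCompl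
        (↥(J ^ k • (⊤ : Submodule B M)) ⧸ Submodule.comap (J ^ k • (⊤ : Submodule B M)).subtype (J ^ (k + 1) • ⊤)))} := by
  exact K122.GrFinal.isOpen_of_HGr hGr J hJ M hgrM

end Groth.Agent.S4892
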