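import Groth.Statements.S4896
import Groth.Agent.EGA43.K122.RectDepth2

set_option autoImplicit false
universe u
open CategoryTheory AlgebraicGeometry
open EGA43

namespace Groth.Agent.S4896

/-- Let S be locally Noetherian, Jacobson and regular with equidimensional irreducible components, g : X
⟶ S locally of finite type and F a coherent O_X-module. For every point x of X the rectified depth
prof*_x(F) = prof(F_x) + dim cl{x} is the unique n (a natural number or ∞) such that, for some open
neighbourhood U of x, prof(F_{x'}) = n for every point x' of U ∩ cl{x} which is closed in U. -/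
theorem result {X S : Scheme.{u}} [IsLocallyNoetherian S] [JacobsonSpace S]
    (hreg : ∀ s : S, IsRegularLocalRing ↑(S.presheaf.stalk s))
    (h3 : ∀ S' ∈ irreducibleComponents (S : Type u), ∀ s ∈ S', IsClosed ({s} : Set S) →
      topologicalKrullDim (↥S' : Type u) = topologicalKrullDim ↥{t : S | t ∈ S' ∧ t ⤳ s})
    (g : X ⟶ S) [LocallyOfFiniteType g] (F : X.Modules) (hF : Coh.IsCoh F) (x : X) :
    letI pstar : WithBot ℕ∞ :=
      ((LocCoh.depth ↑(X.presheaf.stalk x) ↑(F.presheaf.stalk x) : ℕ∞) : WithBot ℕ∞) +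
        topologicalKrullDim ↥(closure ({x} : Set X))
    ∀ n : ℕ∞,
      (∃ U : X.Opens, x ∈ U ∧ ∀ x' : ↥U, (x' : X) ∈ closure ({x} : Set X) → IsClosed ({x'} : Set ↥U) →
        LocCoh.depth ↑(X.presheaf.stalk (x' : X)) ↑(F.presheaf.stalk (x' : X)) = n) ↔
      ((n : WithBot ℕ∞) = pstar) := by
  intro n
  have hXJ : JacobsonSpace X := LocallyOfFiniteType.jacobsonSpace g
  obtain ⟨W, hxW, HW⟩ := K122.RectDepth2.near hreg h3 g F hF x
  constructor
  · rintro ⟨U, hxU, HU⟩
    obtain ⟨x', ⟨⟨hx'W, hx'U⟩, hx'⟩, hx'c⟩ := nonempty_inter_closedPoints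
      (Z := ((W : Set X) ∩ (U : Set X)) ∩ closure ({x} : Set X)) ⟨x, ⟨hxW, hxU⟩, subset_closure rfl⟩
      (((W.2.inter U.2).isLocallyClosed).inter isClosed_closure.isLocallyClosed)
    have h4 := HW x' hx'W hx' hx'c
    have h5 := HU ⟨x', hx'U⟩ hx' (by
      have : ({⟨x', hx'U⟩} : Set ↥U) = Subtype.val ⁻¹' {x'} := by
        ext y
        simp [Subtype.ext_iff]
      rw [this]
      exact hx'c.preimage continuous_subtype_val)
    rw [← h5]
    exact h4
  · intro hn
    refine ⟨W, hxW, ?_⟩
    intro x' hx' hx'c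
    have hcl : IsClosed ({(x' : X)} : Set X) := by
      have h4 := (W.isOpenEmbedding').preimage_closedPoints
      have h5 : x' ∈ closedPoints ↥W := hx'c
      rw [← h4] at h5
      exact h5
    have h4 := HW x' x'.2 hx' hcl
    have h5 : ((LocCoh.depth ↑(X.presheaf.stalk (x' : X)) ↑(F.presheaf.stalk (x' : X)) : ℕ∞) : WithBot ℕ∞) =
      (n : WithBot ℕ∞) := h4.trans hn.symm
    exact WithBot.coe_injective h5

end Groth.Agent.S4896
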