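import Groth.Statements.S4898
import Groth.Agent.EGA43.K124.FlatNilSch

set_option autoImplicit false
universe u
open CategoryTheory AlgebraicGeometry
open EGA43

namespace Groth.Agent.S4898

open CategoryTheory.Limits in
/-- Over an affine irreducible base, tested on affine base changes, to which the general statement
reduces: let A be a commutative ring whose spectrum is irreducible, f : X ⟶ Spec A a morphism of
finite presentation and F a quasi-coherent O_X-module of finite presentation. Then there are an
element h of A which is not nilpotent (so that U = Spec A_h is a nonempty open subset of Spec A) and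
a finitely generated ideal J of A_h contained in the nilradical (so that the closed subscheme Z =
V(J) of U, of finite presentation over U, has the same underlying space as U) such that for every
A_h-algebra A' the pullback of F to X ×_{Spec A} Spec A' is flat over Spec A' if and only if J
generates the zero ideal of A', i.e. if and only if Spec A' ⟶ U factors through Z. (The published
statement also asserts that, for a finite affine open cover (W_i) of X, U can be chosen so that the
sections of the pullback of F over each W_i ×_{Spec A} Spec A' form a free A'-module whenever Spec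
A' ⟶ U factors through Z; this row omits that assertion.) -/
theorem result {A : Type u} [CommRing A] [IrreducibleSpace (PrimeSpectrum A)]
    {X : Scheme.{u}} (f : X ⟶ Spec (CommRingCat.of A))
    [LocallyOfFinitePresentation f] [QuasiCompact f] [QuasiSeparated f]
    (F : X.Modules) [Coh.IsQCoh F] (hF : CohB1.IsFP F) :
    ∃ (h : A) (_ : ¬ IsNilpotent h) (J : Ideal (Localization.Away h)) (_ : J.FG)
      (_ : J ≤ nilradical (Localization.Away h)),
      ∀ (A' : Type u) [CommRing A'] [Algebra (Localization.Away h) A'],
        letI g : Spec (CommRingCat.of A') ⟶ Spec (CommRingCat.of A) :=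
          Spec.map (CommRingCat.ofHom ((algebraMap (Localization.Away h) A').comp (algebraMap A (Localization.Away h))))
        (FlatMod.IsFlatOver (pullback.snd f g) ((Scheme.Modules.pullback (pullback.fst f g)).obj F) ↔
          Ideal.map (algebraMap (Localization.Away h) A') J = ⊥) := by
  let Y : Scheme.{u} := Spec (CommRingCat.of A)
  let σ : A →+* Γ(Y, ⊤) := (Scheme.ΓSpecIso (CommRingCat.of A)).inv.hom
  let τ : Γ(Y, ⊤) →+* A := (Scheme.ΓSpecIso (CommRingCat.of A)).hom.hom
  have hστ : ∀ a, τ (σ a) = a := fun a => by
    change ((Scheme.ΓSpecIso (CommRingCat.of A)).inv ≫ (Scheme.ΓSpecIso (CommRingCat.of A)).hom) a = a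
    rw [Iso.inv_hom_id]
    rfl
  have hτσ : ∀ a, σ (τ a) = a := fun a => by
    change ((Scheme.ΓSpecIso (CommRingCat.of A)).hom ≫ (Scheme.ΓSpecIso (CommRingCat.of A)).inv) a = a
    rw [Iso.hom_inv_id]
    rfl
  have hτ : Function.Injective τ := Function.LeftInverse.injective hτσ
  have hA : (nilradical A).IsPrime := PrimeSpectrum.irreducibleSpace_iff_isPrime_nilradical.mp inferInstance
  have hnil : (nilradical Γ(Y, ⊤)).IsPrime := by
    have : nilradical Γ(Y, ⊤) = (nilradical A).comap τ := by
      ext x
      rw [mem_nilradical, Ideal.mem_comap, mem_nilradical, IsNilpotent.map_iff hτ]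
    rw [this]
    exact Ideal.comap_isPrime _ _
  obtain ⟨h, J, h1, h2, h3, h4⟩ := K124.FlatNil.exists_flatPt (Y := Y) hnil f F inferInstance hF
  refine ⟨τ h, by rwa [IsNilpotent.map_iff hτ], (J.map τ).map (algebraMap A _), (h2.map _).map _, ?_, ?_⟩
  · rw [Ideal.map_map, Ideal.map_le_iff_le_comap]
    intro x hx
    have : IsNilpotent x := h3 hx
    exact this.map _
  · intro A' _ _
    let φ : A →+* A' := (algebraMap (Localization.Away (τ h)) A').comp (algebraMap A (Localization.Away (τ h)))
    let T : Scheme.{u} := Spec (CommRingCat.of A')
    let t : T ⟶ Y := Spec.map (CommRingCat.ofHom φ)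
    let σ' : A' →+* Γ(T, ⊤) := (Scheme.ΓSpecIso (CommRingCat.of A')).inv.hom
    let τ' : Γ(T, ⊤) →+* A' := (Scheme.ΓSpecIso (CommRingCat.of A')).hom.hom
    have hστ' : ∀ a, τ' (σ' a) = a := fun a => by
      change ((Scheme.ΓSpecIso (CommRingCat.of A')).inv ≫ (Scheme.ΓSpecIso (CommRingCat.of A')).hom) a = a
      rw [Iso.inv_hom_id]
      rfl
    have hσ' : Function.Injective σ' := Function.LeftInverse.injective hστ'
    have hnat : ∀ x, t.appTop.hom x = σ' (φ (τ x)) := by
      intro x
      have h5 := Scheme.ΓSpecIso_inv_naturality (CommRingCat.ofHom φ)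
      have h6 := congrArg (fun k => k.hom (τ x)) h5
      change σ' (φ (τ x)) = t.appTop.hom (σ (τ x)) at h6
      rw [h6, hτσ]
    have hnat' : t.appTop.hom = σ'.comp (φ.comp τ) := RingHom.ext hnat
    have h5 : IsUnit (t.appTop.hom h) := by
      rw [hnat]
      exact ((IsLocalization.Away.algebraMap_isUnit (τ h)).map (algebraMap (Localization.Away (τ h)) A')).map σ'
    have h6 := K120.FlatPt.isFlatOver_iff_flatPt (F := F) (IsPullback.of_hasPullback f t)
    refine h6.trans ((h4 T t h5).trans ?_)
    rw [hnat', ← Ideal.map_map, ← Ideal.map_map, Ideal.map_map (algebraMap A _)]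
    exact Ideal.map_eq_bot_iff_of_injective hσ'

end Groth.Agent.S4898
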