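import Groth.Statements.S4899
import Groth.Agent.EGA43.K123.PrimMain

set_option autoImplicit false
universe u
open CategoryTheory AlgebraicGeometry
open EGA43

namespace Groth.Agent.S4899

/-- The map from an Artinian local ring to the stalks of its spectrum is bijective. -/
theorem bijective_toStalk {A : Type u} [CommRing A] [IsArtinianRing A] [IsLocalRing A]
    (y : Spec (CommRingCat.of A)) :
    Function.Bijective (StructureSheaf.toStalk (CommRingCat.of A) y).hom := by
  let _ : Algebra A ((Spec (CommRingCat.of A)).presheaf.stalk y) :=
    (StructureSheaf.toStalk (CommRingCat.of A) y).hom.toAlgebra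
  have : IsLocalization.AtPrime ((Spec (CommRingCat.of A)).presheaf.stalk y) y.asIdeal :=
    S2394.isLocalization_stalk (CommRingCat.of A) y
  have hy : y.asIdeal = IsLocalRing.maximalIdeal A :=
    IsLocalRing.eq_maximalIdeal (IsArtinianRing.isMaximal_of_isPrime y.asIdeal)
  exact (IsLocalization.atUnits (S := (Spec (CommRingCat.of A)).presheaf.stalk y) A
    y.asIdeal.primeCompl (fun a ha => by
      have h1 : a ∉ y.asIdeal := ha
      rw [hy, IsLocalRing.mem_maximalIdeal, mem_nonunits_iff, not_not] at h1
      exact h1)).bijective

open CategoryTheory.Limits in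
/-- Let A be an Artinian local ring, f : X ⟶ Spec A locally of finite type, F a coherent O_X-module and
x a point of X; let (u_i : A → A_i) be a family of ring homomorphisms into local rings such that an
element of A killed by every u_i is zero. Assume (ii) that the residue field k(x) is a primary
extension of the residue field of the base (every element of k(x) which is separable algebraic over
it already lies in it; automatic when that field is separably closed), and (iii) that for every i
there is a point x' of X_i = X ×_{Spec A} Spec A_i above x and above the closed point of Spec A_i at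
which the pullback of F is flat over Spec A_i. Then F is f-flat at x. -/
theorem result {A : Type u} [CommRing A]
    [IsArtinianRing A] [IsLocalRing A] {X : Scheme.{u}} (f : X ⟶ Spec (CommRingCat.of A))
    [LocallyOfFiniteType f] (F : X.Modules) (hF : Coh.IsCoh F) (x : X)
    {ι : Type u} (A' : ι → Type u) [∀ i, CommRing (A' i)] [∀ i, IsLocalRing (A' i)] (u : ∀ i, A →+* A' i)
    (hu : ∀ a : A, (∀ i, u i a = 0) → a = 0)
    (hprim : letI := (f.residueFieldMap x).hom.toAlgebra
      ∀ a : ↑(X.residueField x), IsSeparable ↑((Spec (CommRingCat.of A)).residueField (f x)) a →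
        a ∈ (f.residueFieldMap x).hom.range)
    (hflat : ∀ i : ι, ∃ x' : ↥(pullback f (Spec.map (CommRingCat.ofHom (u i)))),
      pullback.fst f (Spec.map (CommRingCat.ofHom (u i))) x' = x ∧
      pullback.snd f (Spec.map (CommRingCat.ofHom (u i))) x' = IsLocalRing.closedPoint (A' i) ∧
      FlatMod.IsFlatOverAt (pullback.snd f (Spec.map (CommRingCat.ofHom (u i))))
        ((Scheme.Modules.pullback (pullback.fst f (Spec.map (CommRingCat.ofHom (u i))))).obj F) x') :
    FlatMod.IsFlatOverAt f F x := by
  have : IsLocallyNoetherian X := LocallyOfFiniteType.isLocallyNoetherian f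
  let t := StructureSheaf.toStalk (CommRingCat.of A) (f x)
  let E : A ≃+* (Spec (CommRingCat.of A)).presheaf.stalk (f x) :=
    RingEquiv.ofBijective t.hom (bijective_toStalk (f x))
  have hAr : IsArtinianRing ((Spec (CommRingCat.of A)).presheaf.stalk (f x)) :=
    E.surjective.isArtinianRing
  have hnil : IsNilpotent (IsLocalRing.maximalIdeal ((Spec (CommRingCat.of A)).presheaf.stalk (f x))) := by
    rw [← IsLocalRing.jacobson_eq_maximalIdeal ⊥ bot_ne_top]
    exact IsArtinianRing.isNilpotent_jacobson_bot
  refine K123.Prim.main_artin f F x hF hnil hprim A'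
    (fun i => (u i).comp E.symm.toRingHom) (fun a ha => ?_) fun i => ?_
  · apply E.symm.injective
    rw [map_zero]
    exact hu _ ha
  · have h1 : Spec.map (CommRingCat.ofHom ((u i).comp E.symm.toRingHom)) ≫
        (Spec (CommRingCat.of A)).fromSpecStalk (f x) = Spec.map (CommRingCat.ofHom (u i)) := by
      rw [Spec.fromSpecStalk_eq, ← Spec.map_comp]
      congr 1
      ext a
      exact congrArg (u i) (E.symm_apply_apply a)
    rw [h1]
    exact hflat i

end Groth.Agent.S4899
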