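import Groth.Statements.S4900
import Groth.Agent.EGA43.K115.GoodLimit
import Groth.Agent.Ega43.FPOfComp

set_option autoImplicit false
universe u
open CategoryTheory AlgebraicGeometry
open EGA43

namespace Groth.Agent.S4900

variable {P : Scheme.{u}}

/-- `Good` for a map from a zero module. -/
theorem good_iff {X₀ P T : Scheme.{u}} {Z F₀ : X₀.Modules} (hZ : Limits.IsZero Z) (h : Z ⟶ F₀) (q : P ⟶ X₀) (f : P ⟶ T)
    (x : P) : K115.GoodPt.Good f ((Scheme.Modules.pullback q).map h) x ↔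
      FlatMod.IsFlatOverAt f ((Scheme.Modules.pullback q).obj F₀) x := by
  have h0 : h = 0 := hZ.eq_of_src _ _
  have h1 : Limits.IsZero ((Scheme.Modules.pullback q).obj Z) := (Scheme.Modules.pullback q).map_isZero hZ
  have h2 : (Scheme.Modules.pullback q).map h = 0 := h1.eq_of_src _ _
  let e : Limits.cokernel ((Scheme.Modules.pullback q).map h) ≅ (Scheme.Modules.pullback q).obj F₀ :=
    Limits.cokernelIsoOfEq h2 ≪≫ Limits.cokernelZeroIsoTarget
  constructor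
  · intro H
    exact Groth.Agent.Models2.FlatIso.isFlatOverAt_of_iso f e x H.2
  · intro H
    refine ⟨?_, Groth.Agent.Models2.FlatIso.isFlatOverAt_of_iso f e.symm x H⟩
    have h3 := (Groth.Agent.PerfA.Restrict.isZero_iff_stalk _).mp h1 x
    have h4 : Subsingleton (((Scheme.Modules.pullback q).obj Z).presheaf.stalk x) :=
      AddCommGrpCat.subsingleton_of_isZero h3
    exact Function.injective_of_subsingleton _

theorem exists_zero (X : Scheme.{u}) : ∃ Z : X.Modules, Limits.IsZero Z ∧ Coh.IsQCoh Z ∧ CohB1.IsFP Z :=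
  ⟨Limits.cokernel (𝟙 (Coh.structureModule X)), Limits.isZero_cokernel_of_epi _,
    Groth.Agent.PerfA.QCohSerre.isQCoh_cokernel _ (Groth.Agent.PerfA.QCohSerre.isQCoh_unit X)
      (Groth.Agent.PerfA.QCohSerre.isQCoh_unit X),
    Groth.Agent.Smoothlim.FPMod.isFP_cokernel _ Groth.Agent.Smoothlim.FPMod.isFP_unit
      Groth.Agent.Smoothlim.FPMod.isFP_unit⟩

/-- Let S be the limit of a cofiltered system (S_i) of schemes with affine transition morphisms, S_{i₀}
a quasi-compact stage, f₀ : X₀ ⟶ Y₀ an S_{i₀}-morphism between schemes of finite presentation over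
S_{i₀}, F₀ a quasi-coherent O_{X₀}-module of finite presentation, f : X ⟶ Y and F the base changes
to S, and x a point of X. Then F is f-flat at x if and only if there are an index i over i₀ and base
changes f_i : X_i ⟶ Y_i, F_i of f₀, F₀ to S_i (pullback squares, with the induced compatible
morphisms X ⟶ X_i, Y ⟶ Y_i) such that F_i is f_i-flat at the image x_i of x in X_i. -/
theorem result {I : Type u} [SmallCategory I] [IsCofiltered I]
    (D : I ⥤ Scheme.{u}) (c : Limits.Cone D) (hc : Limits.IsLimit c)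
    [∀ (i j : I) (φ : i ⟶ j), IsAffineHom (D.map φ)] (i₀ : I) [CompactSpace (D.obj i₀)]
    {X₀ Y₀ : Scheme.{u}} (f₀ : X₀ ⟶ Y₀) (g₀ : Y₀ ⟶ D.obj i₀)
    [LocallyOfFinitePresentation g₀] [QuasiCompact g₀] [QuasiSeparated g₀]
    [LocallyOfFinitePresentation (f₀ ≫ g₀)] [QuasiCompact (f₀ ≫ g₀)] [QuasiSeparated (f₀ ≫ g₀)]
    (F₀ : X₀.Modules) [Coh.IsQCoh F₀] (hF₀ : CohB1.IsFP F₀)
    {X Y : Scheme.{u}} (f : X ⟶ Y) (g : Y ⟶ c.pt) (qY : Y ⟶ Y₀) (qX : X ⟶ X₀)
    (hY : IsPullback qY g g₀ (c.π.app i₀)) (hX : IsPullback qX f f₀ qY) (x : X) :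
    FlatMod.IsFlatOverAt f ((Scheme.Modules.pullback qX).obj F₀) x ↔
      ∃ (i : I) (φ : i ⟶ i₀) (Xi Yi : Scheme.{u}) (fi : Xi ⟶ Yi) (gi : Yi ⟶ D.obj i)
        (pY : Yi ⟶ Y₀) (pX : Xi ⟶ X₀) (vY : Y ⟶ Yi) (vX : X ⟶ Xi),
        IsPullback pY gi g₀ (D.map φ) ∧ IsPullback pX fi f₀ pY ∧
          vY ≫ pY = qY ∧ vY ≫ gi = g ≫ c.π.app i ∧ vX ≫ pX = qX ∧ vX ≫ fi = f ≫ vY ∧
          FlatMod.IsFlatOverAt fi ((Scheme.Modules.pullback pX).obj F₀) (vX x) := by
  have hlfp : LocallyOfFinitePresentation f₀ := Groth.Agent.Ega43.FPOfComp.locallyOfFinitePresentation_of_comp f₀ g₀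
  obtain ⟨Z, hZ, hZq, hZf⟩ := exists_zero X₀
  let h₀ : Z ⟶ F₀ := 0
  constructor
  · intro h
    obtain ⟨i, φ, H⟩ := K115.GoodLimit.exists_stage D c hc i₀ f₀ g₀ hZq inferInstance hZf hF₀ h₀ f g qY qX
      hY hX x ((good_iff hZ h₀ qX f x).mpr h)
    let Yi := Limits.pullback g₀ (D.map φ)
    let pY : Yi ⟶ Y₀ := Limits.pullback.fst g₀ (D.map φ)
    let gi : Yi ⟶ D.obj i := Limits.pullback.snd g₀ (D.map φ)
    let Xi := Limits.pullback f₀ pY
    let pX : Xi ⟶ X₀ := Limits.pullback.fst f₀ pY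
    let fi : Xi ⟶ Yi := Limits.pullback.snd f₀ pY
    let vY : Y ⟶ Yi := Limits.pullback.lift qY (g ≫ c.π.app i) (by rw [Category.assoc, c.w, hY.w])
    have e1 : vY ≫ pY = qY := Limits.pullback.lift_fst _ _ _
    have e2 : vY ≫ gi = g ≫ c.π.app i := Limits.pullback.lift_snd _ _ _
    let vX : X ⟶ Xi := Limits.pullback.lift qX (f ≫ vY) (by rw [Category.assoc, e1, hX.w])
    have e3 : vX ≫ pX = qX := Limits.pullback.lift_fst _ _ _
    have e4 : vX ≫ fi = f ≫ vY := Limits.pullback.lift_snd _ _ _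
    have H' := H Xi Yi fi gi pY pX vY vX (IsPullback.of_hasPullback _ _) (IsPullback.of_hasPullback _ _) e1 e2 e3 e4
    exact ⟨i, φ, Xi, Yi, fi, gi, pY, pX, vY, vX, IsPullback.of_hasPullback _ _, IsPullback.of_hasPullback _ _, e1, e2,
      e3, e4, (good_iff hZ h₀ pX fi _).mp H'⟩
  · rintro ⟨i, φ, Xi, Yi, fi, gi, pY, pX, vY, vX, hYi, hXi, e1, e2, e3, e4, h1⟩
    have H : IsPullback vX f fi vY := by
      refine (IsPullback.of_right (h₁₂ := pX) (h₂₂ := pY) (v₁₃ := f₀) ?_ e4 hXi)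
      rw [e3, e1]
      exact hX
    exact K120.FlatPt.isFlatOverAt_pullback_comp H e3 x h1

end Groth.Agent.S4900
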