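import Groth.Statements.S4904
import Groth.Agent.EGA43.K123.VeryDense
-- import your own Groth.Agent.* helpers here

set_option autoImplicit false
universe u
open EGA43

namespace Groth.Agent.S4904

/-- Let f : X → Y be a quasi-homeomorphism (U ↦ f⁻¹(U) is a bijection on open subsets) and Y' a locally
quasi-constructible subset of Y, X' = f⁻¹(Y'). Then Y' is retrocompact in Y, i.e. Y' ∩ U is
quasi-compact for every quasi-compact open subset U of Y, if and only if X' is retrocompact in X. -/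
theorem result {X Y : Type u} [TopologicalSpace X]
    [TopologicalSpace Y] (f : X → Y) (hf : Continuous f)
    (hq : Function.Bijective (fun U : TopologicalSpace.Opens Y =>
      (⟨f ⁻¹' (U : Set Y), U.isOpen.preimage hf⟩ : TopologicalSpace.Opens X)))
    (Y' : Set Y)
    (hY' : ∀ y : Y, ∃ U : Set Y, IsOpen U ∧ y ∈ U ∧
      ∃ T : Set (Set Y), T.Finite ∧ (∀ t ∈ T, IsLocallyClosed t) ∧ U ∩ Y' = ⋃₀ T) :
    (∀ U : Set Y, IsOpen U → IsCompact U → IsCompact (U ∩ Y')) ↔
      (∀ V : Set X, IsOpen V → IsCompact V → IsCompact (V ∩ f ⁻¹' Y')) := by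
  have hq' : ∀ U V : Set Y, IsOpen U → IsOpen V → f ⁻¹' U = f ⁻¹' V → U = V := by
    intro U V hU hV e
    have := @hq.1 ⟨U, hU⟩ ⟨V, hV⟩ (TopologicalSpace.Opens.ext e)
    exact congrArg (fun W : TopologicalSpace.Opens Y => (W : Set Y)) this
  have hs : ∀ V : Set X, IsOpen V → ∃ U : Set Y, IsOpen U ∧ f ⁻¹' U = V := by
    intro V hV
    obtain ⟨U, hU⟩ := hq.2 ⟨V, hV⟩
    exact ⟨U, U.isOpen, congrArg (fun W : TopologicalSpace.Opens X => (W : Set X)) hU⟩
  have key : ∀ Z : Set Y, K123.VeryDense.LQC Z → (IsCompact (f ⁻¹' Z) ↔ IsCompact Z) :=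
    fun Z hZ => K123.VeryDense.isCompact_preimage_iff hf hq' hs hZ
  have hO : ∀ U : Set Y, IsOpen U → K123.VeryDense.LQC U :=
    fun U hU => K123.VeryDense.LQC.of_qc (K123.VeryDense.QC.of_isOpen hU)
  constructor
  · intro h V hV hVc
    obtain ⟨U, hU, rfl⟩ := hs V hV
    rw [← Set.preimage_inter, key _ ((hO U hU).inter hY')]
    exact h U hU ((key U (hO U hU)).mp hVc)
  · intro h U hU hUc
    rw [← key _ ((hO U hU).inter hY'), Set.preimage_inter]
    exact h _ (hU.preimage hf) ((key U (hO U hU)).mpr hUc)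

end Groth.Agent.S4904
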